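import Groth.Statements.S13376
import Groth.Agent.EtProfLib.Main
-- import your own Groth.Agent.* helpers here

set_option autoImplicit false
universe u
open GaDual

namespace Groth.Agent.S13376
open CategoryTheory.Limits
open CategoryTheory AlgebraicGeometry TensorProduct PiTensorProduct in
/-- tensor powers of the algebraic closure are integral -/
theorem isIntegral_piTensor (k : Type u) [Field k] (n : ℕ) :
    Algebra.IsIntegral k (⨂[k] _ : Fin n, AlgebraicClosure k) := by
  classical
  refine ⟨fun x => ?_⟩
  induction x using PiTensorProduct.induction_on with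
  | smul_tprod c a =>
    refine IsIntegral.smul c ?_
    rw [← Finset.univ_prod_mulSingle a, show PiTensorProduct.tprod k (∏ i, Pi.mulSingle i (a i)) =
      ∏ i, PiTensorProduct.tprod k (Pi.mulSingle i (a i)) from map_prod (PiTensorProduct.tprodMonoidHom k) _ _]
    refine IsIntegral.prod _ fun i _ => ?_
    exact (Algebra.IsIntegral.isIntegral (R := k) (a i)).map (PiTensorProduct.singleAlgHom (R := k) (A := fun _ : Fin n => AlgebraicClosure k) i)
  | add a b ha hb => exact ha.add hb

open CategoryTheory AlgebraicGeometry TensorProduct PiTensorProduct in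
/-- residue fields of tensor powers are algebraically closed -/
theorem isSepClosed_residue (k : Type u) [Field k] (n : ℕ) (hn : 0 < n)
    (q : Ideal (⨂[k] _ : Fin n, AlgebraicClosure k)) [q.IsPrime] :
    IsSepClosed (IsLocalRing.ResidueField (Localization.AtPrime q)) := by
  classical
  haveI := isIntegral_piTensor k n
  let R := ⨂[k] _ : Fin n, AlgebraicClosure k
  let K := IsLocalRing.ResidueField (Localization.AtPrime q)
  let res : R →+* K := (IsLocalRing.residue _).comp (algebraMap R (Localization.AtPrime q))
  let j : AlgebraicClosure k →+* K := res.comp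
    (PiTensorProduct.singleAlgHom (R := k) (A := fun _ : Fin n => AlgebraicClosure k) ⟨0, hn⟩).toRingHom
  letI : Algebra (AlgebraicClosure k) K := j.toAlgebra
  have hres : ∀ r : R, IsIntegral (AlgebraicClosure k) (res r) := fun r => by
    obtain ⟨p, hp, hpr⟩ := Algebra.IsIntegral.isIntegral (R := k) r
    refine ⟨p.map (algebraMap k (AlgebraicClosure k)), hp.map _, ?_⟩
    rw [Polynomial.eval₂_map]
    have h := Polynomial.hom_eval₂ p (algebraMap k R) res r
    rw [hpr, map_zero] at h
    have e : (algebraMap (AlgebraicClosure k) K).comp (algebraMap k (AlgebraicClosure k)) = res.comp (algebraMap k R) :=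
      RingHom.ext fun c => congrArg res
        ((PiTensorProduct.singleAlgHom (R := k) (A := fun _ : Fin n => AlgebraicClosure k) ⟨0, hn⟩).commutes c)
    rw [e]
    exact h.symm
  haveI : Algebra.IsIntegral (AlgebraicClosure k) K := ⟨fun x => by
    obtain ⟨y, rfl⟩ := IsLocalRing.residue_surjective x
    obtain ⟨⟨a, s⟩, rfl⟩ := IsLocalization.mk'_surjective q.primeCompl y
    have hu : IsUnit (res s) := (IsLocalization.map_units (Localization.AtPrime q) s).map (IsLocalRing.residue (Localization.AtPrime q))
    have e : IsLocalRing.residue _ (IsLocalization.mk' (Localization.AtPrime q) a s) = res a * (res s)⁻¹ := by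
      rw [eq_mul_inv_iff_mul_eq₀ hu.ne_zero]
      show _ * IsLocalRing.residue _ _ = IsLocalRing.residue _ _
      rw [← map_mul, IsLocalization.mk'_spec]
    rw [e]
    exact (hres a).mul (hres s).inv⟩
  haveI : IsAlgClosed K := IsAlgClosed.of_ringEquiv (AlgebraicClosure k) K
    (RingEquiv.ofBijective (algebraMap (AlgebraicClosure k) K) IsAlgClosed.algebraMap_bijective_of_isIntegral)
  infer_instance


open CategoryTheory AlgebraicGeometry in
/-- For a smooth commutative group scheme G over a field k, the cohomology of the sheaf of G on the big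
fppf site, taken over the n-fold tensor power k̄ ⊗_k ⋯ ⊗_k k̄ of an algebraic closure, vanishes in
every positive degree j for every n > 0. -/
theorem result (k : Type u) [Field k]
    (G : Over (Spec (CommRingCat.of k))) [GrpObj G] [IsCommMonObj G] [Smooth G.hom]
    (n j : ℕ) (hn : 0 < n) (hj : 0 < j) :
    Subsingleton (BigSite.HU Scheme.fppfPrecoverage (CGrpSh.pts Scheme.fppfPrecoverage G) j
      (Over.mk (Spec.map (CommRingCat.ofHom (algebraMap k (PiTensorProduct k (fun _ : Fin n => AlgebraicClosure k))))))) := by
  haveI := isIntegral_piTensor k n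
  haveI : Ring.KrullDimLE 0 (PiTensorProduct k (fun _ : Fin n => AlgebraicClosure k)) := Ring.KrullDimLE.mk₀ fun P hP => by
    haveI := hP
    refine Ideal.isMaximal_of_isIntegral_of_isMaximal_comap (R := k) P ?_
    exact Ideal.isMaximal_of_isPrime _
  exact EtProfLib.subsingleton_HF_of_acy _ (fun q _ => isSepClosed_residue k n hn q) _
    (EtProfLib.acy_pullBig_pts _ G) j hj


end Groth.Agent.S13376
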