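import Groth.Statements.S13378
import Groth.Agent.ProfComplLib.Basic

set_option autoImplicit false
universe u
open ProCompl

namespace Groth.Agent.S13378

/-- For an abelian group A (written multiplicatively, discrete) and a subgroup A' such that the quotient
A/A' has no nontrivial divisible element and its torsion elements are killed by one positive
integer, the map induced on profinite completions by the inclusion of A' in A is injective. (The
published statement is for topological abelian groups in which every nA is open, with completions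
formed from open subgroups of finite index; this row is the case of the discrete topology.) -/
theorem result (A : Type u) [CommGroup A] (A' : Subgroup A)
    (hdiv : ∀ x : A ⧸ A', (∀ n : ℕ, 0 < n → ∃ y : A ⧸ A', y ^ n = x) → x = 1)
    (htors : ∃ N : ℕ, 0 < N ∧ ∀ x : A ⧸ A', IsOfFinOrder x → x ^ N = 1) :
    Function.Injective (ProfiniteGrp.profiniteCompletion.map (GrpCat.ofHom A'.subtype)).hom := by
  obtain ⟨N, hN, htor⟩ := htors
  rw [injective_iff_map_eq_one]
  intro x hx
  refine Subtype.ext (funext fun K' => ?_)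
  let m := K'.toSubgroup.index
  have hm : m ≠ 0 := Subgroup.FiniteIndex.index_ne_zero
  let n := N * m
  have hn : 0 < n := Nat.mul_pos hN (Nat.pos_of_ne_zero hm)
  let D : Subgroup A := K'.toSubgroup.map A'.subtype ⊔ (powMonoidHom n : A →* A).range
  let E := A ⧸ D
  have hE : ∀ e : E, e ^ n = 1 := by
    rintro ⟨a⟩
    exact (QuotientGroup.eq_one_iff _).2 (Subgroup.mem_sup_right ⟨a, rfl⟩)
  let F : Subgroup E := A'.map (QuotientGroup.mk' D)
  let ψ : A' ⧸ K'.toSubgroup →* E := QuotientGroup.lift _ ((QuotientGroup.mk' D).comp A'.subtype) (fun a ha =>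
    (QuotientGroup.eq_one_iff _).2 (Subgroup.mem_sup_left (Subgroup.mem_map_of_mem _ ha)))
  haveI : Finite F := by
    haveI : Finite (A' ⧸ K'.toSubgroup) := inferInstance
    have : F = ψ.range := by
      ext e
      constructor
      · rintro ⟨a, ha, rfl⟩; exact ⟨QuotientGroup.mk (⟨a, ha⟩ : A'), rfl⟩
      · rintro ⟨q, rfl⟩
        obtain ⟨a, rfl⟩ := QuotientGroup.mk_surjective q
        exact ⟨a.1, a.2, rfl⟩
    rw [this]
    exact Finite.of_surjective ψ.rangeRestrict ψ.rangeRestrict_surjective
  obtain ⟨L, hL, hLF⟩ := ProfComplLib.exists_finiteIndex_disjoint hn hE F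
  haveI := hL
  haveI : (L.comap (QuotientGroup.mk' D)).FiniteIndex :=
    ⟨by rw [Subgroup.index_comap_of_surjective _ (QuotientGroup.mk'_surjective D)]; exact hL.index_ne_zero⟩
  let K : FiniteIndexNormalSubgroup A := { toSubgroup := L.comap (QuotientGroup.mk' D) }
  have hle : ∀ a : A', a ∈ K.comap A'.subtype → a ∈ K'.toSubgroup := by
    intro a ha
    have h1 : QuotientGroup.mk' D (a : A) = 1 := hLF _ ha ⟨a, a.2, rfl⟩
    obtain ⟨_, ⟨h, hh, rfl⟩, _, ⟨b, rfl⟩, hab⟩ := Subgroup.mem_sup.1 ((QuotientGroup.eq_one_iff _).1 h1)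
    simp only [powMonoidHom_apply, Subgroup.coe_subtype] at hab
    have hbn : b ^ n ∈ A' := by
      rw [show b ^ n = (h : A)⁻¹ * a by rw [← hab, inv_mul_cancel_left]]
      exact A'.mul_mem (A'.inv_mem h.2) a.2
    have hfin : IsOfFinOrder (QuotientGroup.mk b : A ⧸ A') :=
      isOfFinOrder_iff_pow_eq_one.2 ⟨n, hn, by rw [← QuotientGroup.mk_pow]; exact (QuotientGroup.eq_one_iff _).2 hbn⟩
    have hbN : b ^ N ∈ A' := (QuotientGroup.eq_one_iff _).1 (by rw [QuotientGroup.mk_pow]; exact htor _ hfin)
    have hc : (⟨b ^ N, hbN⟩ : A') ^ m ∈ K'.toSubgroup := Subgroup.pow_index_mem K'.toSubgroup _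
    have e : a = h * (⟨b ^ N, hbN⟩ : A') ^ m := Subtype.ext (by
      rw [Subgroup.coe_mul, SubmonoidClass.coe_pow, ← pow_mul]
      exact hab.symm)
    rw [e]
    exact Subgroup.mul_mem _ hh hc
  let g : K.comap A'.subtype ⟶ K' := (show K.comap A'.subtype ≤ K' from hle).hom
  have h2 := ProfComplLib.map_apply (GrpCat.ofHom A'.subtype) x K
  rw [hx] at h2
  have h3 := x.2 g
  obtain ⟨a, ha⟩ := QuotientGroup.mk_surjective (x.1 (K.comap A'.subtype))
  rw [← h3, ← ha]
  have h4 : QuotientGroup.map (K.comap A'.subtype).toSubgroup K.toSubgroup A'.subtype (fun _ h => h) (QuotientGroup.mk a) = 1 := by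
    rw [ha]; exact h2.symm
  exact (QuotientGroup.eq_one_iff a).2 (hle a ((QuotientGroup.eq_one_iff (a : A)).1 h4))

end Groth.Agent.S13378
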