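import Groth.Statements.S13379
import Groth.Agent.ProfComplLib.Basic

set_option autoImplicit false
universe u
open ProCompl

namespace Groth.Agent.S13379

/-- Profinite completion is right exact: for an abelian group A (written multiplicatively, discrete) and
a subgroup A', the map on profinite completions induced by A → A/A' is surjective and its kernel is
the image of the completion of A'. (The published statement is right-exactness for topological
abelian groups with completions formed from open subgroups of finite index; this row is the case of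
the discrete topology.) -/
theorem result (A : Type u) [CommGroup A] (A' : Subgroup A) :
    Function.Surjective (ProfiniteGrp.profiniteCompletion.map (GrpCat.ofHom (QuotientGroup.mk' A'))).hom ∧
      (ProfiniteGrp.profiniteCompletion.map (GrpCat.ofHom (QuotientGroup.mk' A'))).hom.toMonoidHom.ker =
        (ProfiniteGrp.profiniteCompletion.map (GrpCat.ofHom A'.subtype)).hom.toMonoidHom.range := by
  let φ : GrpCat.of A ⟶ GrpCat.of (A ⧸ A') := GrpCat.ofHom (QuotientGroup.mk' A')
  let j : GrpCat.of A' ⟶ GrpCat.of A := GrpCat.ofHom A'.subtype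
  constructor
  · intro z
    have hc : IsClosed (Set.range (ProfiniteGrp.profiniteCompletion.map φ).hom) :=
      (isCompact_range (ProfiniteGrp.profiniteCompletion.map φ).hom.continuous_toFun).isClosed
    suffices z ∈ closure (Set.range (ProfiniteGrp.profiniteCompletion.map φ).hom) by rwa [hc.closure_eq] at this
    refine ProfComplLib.mem_closure_of_forall fun m => ?_
    obtain ⟨b, hb⟩ := QuotientGroup.mk_surjective (z.1 m)
    obtain ⟨a, rfl⟩ := QuotientGroup.mk_surjective b
    refine ⟨_, ⟨ProfiniteGrp.ProfiniteCompletion.etaFn (GrpCat.of A) a, rfl⟩, ?_⟩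
    exact (ProfComplLib.map_apply φ _ m).trans hb
  · ext x
    constructor
    · intro hx
      have hc : IsClosed (Set.range (ProfiniteGrp.profiniteCompletion.map j).hom) :=
        (isCompact_range (ProfiniteGrp.profiniteCompletion.map j).hom.continuous_toFun).isClosed
      suffices x ∈ closure (Set.range (ProfiniteGrp.profiniteCompletion.map j).hom) by
        rw [hc.closure_eq] at this; exact this
      refine ProfComplLib.mem_closure_of_forall fun m => ?_
      haveI : (m.toSubgroup ⊔ A').FiniteIndex := Subgroup.finiteIndex_of_le le_sup_left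
      haveI : ((m.toSubgroup ⊔ A').map (QuotientGroup.mk' A')).FiniteIndex := ⟨by
        rw [Subgroup.index_map_eq _ (QuotientGroup.mk'_surjective A') (by rw [QuotientGroup.ker_mk']; exact le_sup_right)]
        exact Subgroup.FiniteIndex.index_ne_zero⟩
      let K : FiniteIndexNormalSubgroup (A ⧸ A') := { toSubgroup := (m.toSubgroup ⊔ A').map (QuotientGroup.mk' A') }
      have hle : m ≤ K.comap (QuotientGroup.mk' A') := fun a ha => ⟨a, Subgroup.mem_sup_left ha, rfl⟩
      have h2 := ProfComplLib.map_apply φ x K
      rw [show (ProfiniteGrp.profiniteCompletion.map φ).hom x = 1 from hx] at h2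
      obtain ⟨a, ha⟩ := QuotientGroup.mk_surjective (x.1 m)
      have h3 := x.2 (hle.hom)
      rw [← ha] at h3
      have h4 : (QuotientGroup.mk (QuotientGroup.mk' A' a) : (A ⧸ A') ⧸ K.toSubgroup) = 1 := by
        have h5 := h2.symm
        rw [show x.1 (K.comap φ.hom) = QuotientGroup.mk a from h3.symm] at h5
        exact h5
      obtain ⟨b, hb, hba⟩ := (QuotientGroup.eq_one_iff _).1 h4
      obtain ⟨t, ht, a', ha', rfl⟩ := Subgroup.mem_sup.1 hb
      have hd : (t * a')⁻¹ * a ∈ A' := QuotientGroup.eq.1 hba
      refine ⟨_, ⟨ProfiniteGrp.ProfiniteCompletion.etaFn (GrpCat.of A')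
        (⟨a' * ((t * a')⁻¹ * a), A'.mul_mem ha' hd⟩ : A'), rfl⟩, ?_⟩
      refine (ProfComplLib.map_apply j _ m).trans (Eq.trans ?_ ha)
      refine QuotientGroup.eq.2 ?_
      show (a' * ((t * a')⁻¹ * a))⁻¹ * a ∈ m.toSubgroup
      rw [show (a' * ((t * a')⁻¹ * a))⁻¹ * a = t by
        simp [mul_inv_rev, mul_assoc, mul_comm, mul_left_comm]]
      exact ht
    · rintro ⟨y, rfl⟩
      show (ProfiniteGrp.profiniteCompletion.map φ).hom ((ProfiniteGrp.profiniteCompletion.map j).hom y) = 1
      refine Subtype.ext (funext fun K => ?_)
      rw [ProfComplLib.map_apply, ProfComplLib.map_apply]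
      obtain ⟨a, ha⟩ := QuotientGroup.mk_surjective (y.1 ((K.comap φ.hom).comap j.hom))
      rw [← ha]
      show (QuotientGroup.mk (QuotientGroup.mk' A' (a : A)) : (A ⧸ A') ⧸ K.toSubgroup) = _
      rw [show QuotientGroup.mk' A' (a : A) = 1 from (QuotientGroup.eq_one_iff _).2 a.2]
      rfl

end Groth.Agent.S13379
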