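import Groth.Statements.S13384
import Groth.Agent.MultExactLib.Compl
import Groth.Agent.AVAmpleLib.IsogInv

set_option autoImplicit false
set_option backward.isDefEq.respectTransparency false
set_option backward.isDefEq.respectTransparency.types false
set_option maxHeartbeats 1000000
set_option synthInstance.maxHeartbeats 400000
universe u
open AlgGrpK
open CategoryTheory CategoryTheory.Limits AlgebraicGeometry MonoidalCategory CartesianMonoidalCategory
open scoped MonObj
attribute [-instance] CategoryTheory.Hom.commGroup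

namespace Groth.Agent.S13384

section
variable {k : Type u} [Field k]
open AlgebraicGeometry CategoryTheory MonoidalCategory CartesianMonoidalCategory
open scoped MonObj

/-- A homomorphism through which a flat surjection factors is flat. -/
theorem flat_of_fppf_factor {P D G : Over (Spec (CommRingCat.of k))} [GrpObj D] [GrpObj G] [IsAffine P.left]
    [IsAffine G.left] [LocallyOfFiniteType G.hom] (Φ : D ⟶ G) [IsMonHom Φ] (x : P ⟶ G) [Flat x.left] [Surjective x.left]
    (a : P ⟶ D) (ha : a ≫ Φ = x) : Flat Φ.left := by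
  obtain ⟨K, _, κ, hκ, hκc, hk, -⟩ := AntiAffLib.exists_kernel Φ
  haveI := hκ
  haveI : Flat K.hom := Groth.Agent.GrpField.flat_field _
  have hκ1 : κ ≫ Φ = 1 := by rw [hk.w, ← Hom.one_def]
  have sq : IsPullback (fst P K) ((fst P K ≫ a) * (snd P K ≫ κ)) x Φ := by
    refine ⟨⟨?_⟩, ⟨Limits.PullbackCone.IsLimit.mk _
      (fun s => lift s.fst (hk.lift ((s.fst ≫ a)⁻¹ * s.snd) (toUnit _) ?_)) (fun s => ?_) (fun s => ?_)
      (fun s m h1 h2 => ?_)⟩⟩
    · rw [MonObj.mul_comp, Category.assoc, Category.assoc, ha, hκ1, MonObj.comp_one, mul_one]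
    · rw [MonObj.mul_comp, GrpObj.inv_comp, Category.assoc, ha, s.condition, inv_mul_cancel, Hom.one_def]
    · simp
    · show lift _ _ ≫ ((fst P K ≫ a) * (snd P K ≫ κ)) = _
      rw [MonObj.comp_mul, lift_fst_assoc, lift_snd_assoc, hk.lift_fst, mul_inv_cancel_left]
    · refine CartesianMonoidalCategory.hom_ext _ _ (by simpa using h1) ?_
      rw [lift_snd]
      refine hk.hom_ext ?_ (toUnit_unique _ _)
      rw [hk.lift_fst]
      have h2' : m ≫ ((fst P K ≫ a) * (snd P K ≫ κ)) = s.snd := h2
      rw [MonObj.comp_mul, ← Category.assoc m (fst P K), h1] at h2'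
      rw [← h2', inv_mul_cancel_left, Category.assoc]
  have sq' := sq.map (Over.forget _)
  have h1 : Flat (fst P K).left := MorphismProperty.pullback_fst _ _ ‹Flat K.hom›
  haveI : QuasiCompact x.left := inferInstance
  exact MorphismProperty.of_isPullback_of_descendsAlong (Q := (@Surjective ⊓ @Flat ⊓ @QuasiCompact)) sq'
    ⟨⟨‹Surjective x.left›, ‹Flat x.left›⟩, ‹QuasiCompact x.left›⟩ h1

/-- A group of finite type with finitely many points is finite. -/
theorem isFinite_of_points (X : Over (Spec (CommRingCat.of k))) [LocallyOfFiniteType X.hom] [IsAffine X.left]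
    [Finite ↥X.left] : IsFinite X.hom := by
  haveI := SCSectLib.lqf_of_finite X
  exact IsFinite.of_locallyQuasiFinite X.hom

/-- A group mapping to a finite one with finite kernel is finite. -/
theorem isFinite_of_finite_kernel {A Q N : Over (Spec (CommRingCat.of k))} [GrpObj A] [GrpObj Q] [GrpObj N]
    [IsAffine A.left] [LocallyOfFiniteType A.hom] [IsFinite Q.hom] (f : A ⟶ Q) [IsMonHom f] (i : N ⟶ A)
    (hk : AlgGrp.IsKernel i f) [Finite ↥N.left] : IsFinite A.hom := by
  haveI : IsAffine Q.left := isAffine_of_isAffineHom Q.hom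
  haveI := SCSectLib.lqf_isogeny f i hk
  haveI : LocallyQuasiFinite (f.left ≫ Q.hom) := inferInstance
  haveI : LocallyQuasiFinite A.hom := by rw [← Over.w f]; infer_instance
  exact IsFinite.of_locallyQuasiFinite A.hom

end



open CategoryTheory AlgebraicGeometry MonoidalCategory in
/-- If an affine commutative group scheme G of finite type over a field k contains a subtorus T with
finite quotient G/T (given as a flat surjective homomorphism with kernel T onto a finite k-group),
then G receives an isogeny — a flat surjective homomorphism with finite kernel — from the product of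
a finite k-group scheme and a k-torus. (The published statement also gives two further equivalent
conditions, on the reduced identity component over an algebraic closure and on Weil restrictions of
split tori; this row states only this implication.) -/
theorem result (k : Type u) [Field k]
    (G : Over (Spec (CommRingCat.of k))) [GrpObj G] [IsCommMonObj G]
    [LocallyOfFiniteType G.hom] [QuasiCompact G.hom] [IsAffine G.left]
    (T Q : Over (Spec (CommRingCat.of k))) [GrpObj T] [GrpObj Q] (j : T ⟶ G) (q : G ⟶ Q)
    [IsMonHom j] [IsMonHom q] [Mono j] (hT : Red.IsTorus T) (hker : AlgGrp.IsKernel j q)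
    [Flat q.left] [Surjective q.left] [IsFinite Q.hom] :
    ∃ (A T' : Over (Spec (CommRingCat.of k))) (_ : GrpObj A) (_ : GrpObj T') (f : A ⊗ T' ⟶ G) (_ : IsMonHom f),
      IsFinite A.hom ∧ Red.IsTorus T' ∧ SGA7.IsIsogenyOver f ∧ Flat f.left := by
  obtain ⟨n, hn, hQn⟩ := AVAmpleLib.exists_pow_eq_one_of_finite Q
  haveI : IsMonHom (𝟙 G ^ n) := by
    rw [← zpow_natCast (𝟙 G) n]; exact AbSchLib.isMonHom_zpow G _
  haveI : IsClosedImmersion j.left := by
    haveI : IsAffine Q.left := isAffine_of_isAffineHom Q.hom
    exact SCSectLib.closed_kernel hker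
  haveI : IsAffine T.left := isAffine_of_isAffineHom j.left
  haveI : LocallyOfFiniteType T.hom := by rw [← Over.w j]; infer_instance
  haveI : QuasiCompact T.hom := inferInstance
  obtain ⟨g, hg⟩ := AntiAffLib.exists_lift_kernel hker (𝟙 G ^ n) (by
    rw [MonObj.pow_comp, Category.id_comp, show q ^ n = q ≫ (𝟙 Q ^ n) by rw [MonObj.comp_pow, Category.comp_id],
      hQn, MonObj.comp_one])
  haveI : IsMonHom (g ≫ j) := by rw [hg]; infer_instance
  haveI : IsMonHom g := Groth.Agent.DiagRep.isMonHom_of_comp_mono g j
  have hS : SemiAbLib.IsSemiAb T := by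
    refine ⟨T, inferInstance, 𝟙 T, 𝟙_ _, inferInstance, toUnit T, inferInstance, ?_, hT, inferInstance, ?_, ?_, ?_,
      ?_, ?_, ?_⟩
    · exact inferInstanceAs (IsClosedImmersion (𝟙 T.left))
    · exact ⟨fun y => ⟨Groth.Agent.GrpSchLib.ptE T, Subsingleton.elim (α := PrimeSpectrum k) _ _⟩⟩
    · show Flat T.hom; exact Groth.Agent.GrpField.flat_field _
    · haveI : IsIso (η[𝟙_ (Over (Spec (CommRingCat.of k)))]) := by
        rw [toUnit_unique (η[𝟙_ (Over (Spec (CommRingCat.of k)))]) (𝟙 _)]; infer_instance
      exact IsPullback.of_horiz_isIso ⟨toUnit_unique _ _⟩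
    · exact inferInstanceAs (IsProper (𝟙 _))
    · exact inferInstanceAs (Smooth (𝟙 _))
    · exact inferInstanceAs (ConnectedSpace ↥(Spec (CommRingCat.of k)))
  have hTm := Groth.Agent.RedRank.isMultTypeFT_of_isTorus hT
  obtain ⟨hnm, hns, hnf, -⟩ := SemiAbLib.IsSemiAb.pow_spec' hS hn.ne'
  have e : j ≫ g = 𝟙 T ^ n := by
    rw [← cancel_mono j, Category.assoc, hg, MonObj.comp_pow, Category.comp_id, MonObj.pow_comp, Category.id_comp]
  haveI : Surjective (𝟙 T ≫ j ≫ g).left := by rw [Category.id_comp, e]; exact hns
  haveI : Flat (𝟙 T ≫ j ≫ g).left := by rw [Category.id_comp, e]; exact hnf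
  obtain ⟨A, _, h, hh, hhc, hk, -⟩ := AntiAffLib.exists_kernel g
  haveI := hh; haveI := hhc
  haveI : IsAffine A.left := isAffine_of_isAffineHom h.left
  haveI : LocallyOfFiniteType A.hom := by rw [← Over.w h]; infer_instance
  haveI : Mono h := Over.mono_of_mono_left h
  -- `A` is finite
  obtain ⟨N, _, κ, hκ, hκc, hκk, -⟩ := AntiAffLib.exists_kernel (h ≫ q)
  haveI := hκ; haveI := hκc
  haveI : Finite ↥N.left := by
    obtain ⟨c, hc⟩ := AntiAffLib.exists_lift_kernel hker (κ ≫ h) (by
      rw [Category.assoc, hκk.w, ← Hom.one_def])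
    haveI : IsMonHom (c ≫ j) := by rw [hc]; infer_instance
    haveI : IsMonHom c := Groth.Agent.DiagRep.isMonHom_of_comp_mono c j
    haveI : IsClosedImmersion (c.left ≫ j.left) := by
      rw [← Over.comp_left, hc, Over.comp_left]; infer_instance
    haveI : IsClosedImmersion c.left := IsClosedImmersion.of_comp _ j.left
    haveI := MultExactLib.isFinite_torsion hTm c hn (by
      have e1 : c ≫ (𝟙 T ^ n) = 1 := by
        rw [← e, ← Category.assoc, hc, Category.assoc, hk.w, ← Hom.one_def, MonObj.comp_one]
      rwa [MonObj.comp_pow, Category.comp_id] at e1)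
    have h := N.hom.finite_preimage_singleton (IsLocalRing.closedPoint k)
    have e2 : N.hom.base ⁻¹' {IsLocalRing.closedPoint k} = Set.univ :=
      Set.eq_univ_of_forall fun z => Subsingleton.elim (α := PrimeSpectrum k) _ _
    rw [e2] at h
    exact Set.finite_univ_iff.1 h
  haveI : IsFinite A.hom := isFinite_of_finite_kernel (h ≫ q) κ hκk
  let Φ : A ⊗ T ⟶ G := (h ⊗ₘ j) ≫ μ[G]
  haveI : IsMonHom Φ := inferInstance
  -- a flat surjection through `Φ`
  let c := 𝟙 T ≫ j ≫ g
  let P := Limits.pullback g c
  have sqP := (IsPullback.of_hasPullback g c).map (Over.forget _)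
  haveI : Surjective (Limits.pullback.fst g c).left :=
    MorphismProperty.of_isPullback (P := @Surjective) sqP.flip ‹Surjective c.left›
  haveI : Flat (Limits.pullback.fst g c).left :=
    MorphismProperty.of_isPullback (P := @Flat) sqP.flip ‹Flat c.left›
  haveI : IsAffineHom (Limits.pullback.fst g c).left :=
    MorphismProperty.of_isPullback (P := @IsAffineHom) sqP.flip (show IsAffineHom c.left from inferInstance)
  haveI : IsAffine P.left := isAffine_of_isAffineHom (Limits.pullback.fst g c).left
  obtain ⟨b, hb⟩ := AntiAffLib.exists_lift_kernel hk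
    (Limits.pullback.fst g c * (Limits.pullback.snd g c ≫ j)⁻¹) (by
      rw [MonObj.mul_comp, GrpObj.inv_comp, mul_inv_eq_one, Limits.pullback.condition, Category.assoc]
      simp only [c, Category.id_comp])
  have ha : lift b (Limits.pullback.snd g c) ≫ Φ = Limits.pullback.fst g c := by
    rw [← Category.assoc, lift_map, ← Hom.mul_def, hb, inv_mul_cancel_right]
  haveI : Surjective ((lift b (Limits.pullback.snd g c)).left ≫ Φ.left) := by
    rw [← Over.comp_left, ha]; infer_instance
  haveI : Surjective Φ.left := Surjective.of_comp (lift b (Limits.pullback.snd g c)).left _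
  refine ⟨A, T, inferInstance, inferInstance, Φ, inferInstance, inferInstance, hT, ⟨inferInstance, ?_⟩,
    flat_of_fppf_factor Φ (Limits.pullback.fst g c) _ ha⟩
  -- the kernel of `Φ` embeds into `A`
  intro N' i hi
  haveI : Mono i := by
    haveI : Mono (η[G] : 𝟙_ (Over (Spec (CommRingCat.of k))) ⟶ G) := ⟨fun {Z} a b _ => toUnit_unique a b⟩
    exact hi.mono_fst_of_mono
  haveI : IsClosedImmersion i.left := SCSectLib.closed_kernel hi
  haveI : IsAffineHom (A ⊗ T).hom := by rw [Over.tensorObj_hom]; infer_instance
  haveI : IsAffine (A ⊗ T).left := isAffine_of_isAffineHom (A ⊗ T).hom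
  haveI : IsAffine N'.left := isAffine_of_isAffineHom i.left
  haveI : Mono (i ≫ fst A T) := ⟨fun {Z} u v huv => by
    rw [← cancel_mono i]
    refine CartesianMonoidalCategory.hom_ext _ _ (by simpa using huv) ?_
    have key : ∀ w : Z ⟶ N', (w ≫ i ≫ fst A T ≫ h) * ((w ≫ i) ≫ snd A T ≫ j) = 1 := fun w => by
      have e : (w ≫ i) ≫ Φ = 1 := by
        rw [Category.assoc, hi.w, ← Hom.one_def, MonObj.comp_one]
      rw [← e]
      simp only [Φ, ← Category.assoc]
      rw [← lift_comp_fst_snd (w ≫ i), lift_map, ← Hom.mul_def]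
      simp
    have e1 : u ≫ i ≫ fst A T ≫ h = v ≫ i ≫ fst A T ≫ h := by
      simpa only [Category.assoc] using congr($huv ≫ h)
    have e2 := (key u).trans (key v).symm
    rw [e1, mul_left_cancel_iff] at e2
    rw [← cancel_mono j]
    simpa only [Category.assoc] using e2⟩
  haveI : LocallyOfFiniteType (i ≫ fst A T).left := by
    haveI : LocallyOfFiniteType (i ≫ fst A T).left := by
      haveI : LocallyOfFiniteType ((i ≫ fst A T).left ≫ A.hom) := by
        rw [Over.w, ← Over.w i]
        haveI : LocallyOfFiniteType (A ⊗ T).hom := by rw [Over.tensorObj_hom]; infer_instance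
        infer_instance
      exact locallyOfFiniteType_of_comp _ A.hom
    infer_instance
  haveI : Mono (i ≫ fst A T).left := inferInstanceAs (Mono ((Over.forget _).map (i ≫ fst A T)))
  haveI : LocallyQuasiFinite (i ≫ fst A T).left :=
    LocallyQuasiFinite.of_injective (Scheme.Hom.injective _)
  haveI : LocallyQuasiFinite N'.hom := by rw [← Over.w (i ≫ fst A T)]; infer_instance
  exact IsFinite.of_locallyQuasiFinite N'.hom

end Groth.Agent.S13384
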