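import Groth.Statements.S13387
import Mathlib

set_option autoImplicit false
universe u
open ZeroCyc

namespace Groth.Agent.S13387
variable {A M : Type u} [CommRing A] [AddCommGroup M] [Module A M]

/-- The span of the `e`-th divided powers. -/
noncomputable abbrev Sp (A M : Type u) [CommRing A] [AddCommGroup M] [Module A M] (e : ℕ) :
    Submodule A (DividedPowerAlgebra A M) :=
  Submodule.span A (Set.range (DividedPowerAlgebra.dp A e : M → DividedPowerAlgebra A M))

/-- Vandermonde: with `e` values distinct modulo a maximal ideal. -/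
lemma mul_mem_of_card (m : Ideal A) [m.IsMaximal] (a b : ℕ)
    (hc : ((a + b : ℕ) : Cardinal) ≤ Cardinal.mk (A ⧸ m)) (x y : M) :
    ∃ s ∉ m, s • (DividedPowerAlgebra.dp A a x * DividedPowerAlgebra.dp A b y) ∈ Sp A M (a + b) := by
  classical
  set e := a + b with he
  rcases Nat.eq_zero_or_pos b with rfl | hb
  · refine ⟨1, (Ideal.ne_top_iff_one m).1 (Ideal.IsMaximal.ne_top ‹_›), ?_⟩
    rw [one_smul, DividedPowerAlgebra.dp_zero, mul_one, he, Nat.add_zero]
    exact Submodule.subset_span ⟨_, rfl⟩
  obtain ⟨g⟩ : Nonempty (Fin e ↪ A ⧸ m) := by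
    have := Cardinal.lift_mk_le'.1 (show Cardinal.lift.{u} (Cardinal.mk (Fin e)) ≤
      Cardinal.lift.{0} (Cardinal.mk (A ⧸ m)) by simpa using hc)
    exact this
  let v : Fin e → A := fun i => (Ideal.Quotient.mk_surjective (g i)).choose
  have hv : ∀ i, Ideal.Quotient.mk m (v i) = g i := fun i => (Ideal.Quotient.mk_surjective (g i)).choose_spec
  have hdet : (Matrix.vandermonde v).det ∉ m := by
    rw [Matrix.det_vandermonde, ← Ideal.Quotient.eq_zero_iff_mem, map_prod]
    simp only [map_prod, map_sub, hv, Finset.prod_eq_zero_iff, sub_eq_zero, not_exists, not_and]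
    exact fun i _ j hj h => (Finset.mem_Ioi.1 hj).ne' (g.injective h)
  let c : ℕ → DividedPowerAlgebra A M := fun k =>
    DividedPowerAlgebra.dp A k x * DividedPowerAlgebra.dp A (e - k) y
  have hrow : ∀ r : Fin e, ∑ k : Fin e, Matrix.vandermonde v r k • c k ∈ Sp A M e := fun r => by
    have h1 : DividedPowerAlgebra.dp A e (v r • x + y) =
        (∑ k : Fin e, Matrix.vandermonde v r k • c k) + v r ^ e • DividedPowerAlgebra.dp A e x := by
      rw [DividedPowerAlgebra.dp_add, Finset.Nat.sum_antidiagonal_eq_sum_range_succ_mk, Finset.sum_range_succ,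
        Finset.sum_range]
      simp [c, DividedPowerAlgebra.dp_smul, DividedPowerAlgebra.dp_zero, Matrix.vandermonde_apply]
    rw [eq_sub_of_add_eq h1.symm]
    exact Submodule.sub_mem _ (Submodule.subset_span ⟨_, rfl⟩)
      (Submodule.smul_mem _ _ (Submodule.subset_span ⟨_, rfl⟩))
  refine ⟨_, hdet, ?_⟩
  have h2 : ∀ k : Fin e, (Matrix.vandermonde v).det • c k ∈ Sp A M e := fun k => by
    have h3 : (Matrix.vandermonde v).det • c k =
        ∑ r, (Matrix.vandermonde v).adjugate k r • ∑ l : Fin e, Matrix.vandermonde v r l • c l := by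
      simp only [Finset.smul_sum, smul_smul]
      rw [Finset.sum_comm]
      simp only [← Finset.sum_smul, ← Matrix.mul_apply]
      rw [Matrix.adjugate_mul]
      simp [Matrix.smul_apply, Matrix.one_apply, ite_smul]
    rw [h3]
    exact Submodule.sum_mem _ fun r _ => Submodule.smul_mem _ _ (hrow r)
  have h4 := h2 ⟨a, by omega⟩
  simpa only [c, he, Nat.add_sub_cancel_left] using h4

/-- The cyclic case. -/
lemma mul_mem_of_cyclic (m : Ideal A) [m.IsPrime] (z : LocalizedModule m.primeCompl M)
    (hz : Submodule.span (Localization.AtPrime m) {z} = ⊤) (a b : ℕ) (x y : M) :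
    ∃ s ∉ m, s • (DividedPowerAlgebra.dp A a x * DividedPowerAlgebra.dp A b y) ∈ Sp A M (a + b) := by
  induction z using LocalizedModule.induction_on with
  | _ m₀ s₀ =>
    have key : ∀ x : M, ∃ s ∉ m, ∃ c : A, s • x = c • m₀ := by
      intro x
      obtain ⟨c, hc⟩ := Submodule.mem_span_singleton.1
        (hz ▸ Submodule.mem_top : LocalizedModule.mk x (1 : m.primeCompl) ∈
          Submodule.span (Localization.AtPrime m) {LocalizedModule.mk m₀ s₀})
      induction c using Localization.induction_on with
      | _ cs =>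
        obtain ⟨c, t⟩ := cs
        rw [LocalizedModule.mk_smul_mk, LocalizedModule.mk_eq] at hc
        obtain ⟨u, hu⟩ := hc
        simp only [one_smul, Submonoid.smul_def, Submonoid.coe_mul, smul_smul] at hu
        exact ⟨(u : A) * ((t : A) * (s₀ : A)), (u * (t * s₀)).2, (u : A) * c, hu.symm⟩
    obtain ⟨s, hs, c, hc⟩ := key x
    obtain ⟨t, ht, c', hc'⟩ := key y
    refine ⟨s ^ a * t ^ b, m.primeCompl.mul_mem (m.primeCompl.pow_mem hs a)
      (m.primeCompl.pow_mem ht b), ?_⟩
    rw [← smul_mul_smul_comm, ← DividedPowerAlgebra.dp_smul, ← DividedPowerAlgebra.dp_smul, hc, hc',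
      DividedPowerAlgebra.dp_smul, DividedPowerAlgebra.dp_smul, smul_mul_smul_comm, DividedPowerAlgebra.dp_mul]
    exact Submodule.smul_mem _ _ (Submodule.smul_of_tower_mem _ _ (Submodule.subset_span ⟨_, rfl⟩))

/-- Let A be a commutative ring, M an A-module and d ≥ 0. Suppose that at each prime p of A either k(p)
has d or more elements, or the localisation M_p is a cyclic A_p-module. Then the degree-d piece
Γ^d_A(M) of the divided power algebra Γ_A(M) is spanned over A by the d-th divided powers γ_d(m), m
∈ M. -/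
theorem result {A M : Type u} [CommRing A] [AddCommGroup M]
    [Module A M] (d : ℕ)
    (h : ∀ p : PrimeSpectrum A, (d : Cardinal) ≤ Cardinal.mk p.asIdeal.ResidueField ∨
      ∃ x : LocalizedModule p.asIdeal.primeCompl M, Submodule.span (Localization.AtPrime p.asIdeal) {x} = ⊤) :
    Submodule.span A (Set.range (DividedPowerAlgebra.dp A d : M → DividedPowerAlgebra A M)) =
      PolLaw.gammaPiece A M d := by
  classical
  have hmul : ∀ a b : ℕ, a + b ≤ d → ∀ x y : M,
      DividedPowerAlgebra.dp A a x * DividedPowerAlgebra.dp A b y ∈ Sp A M (a + b) := by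
    intro a b hab x y
    let I : Ideal A := (Sp A M (a + b)).comap (LinearMap.toSpanSingleton A (DividedPowerAlgebra A M)
      (DividedPowerAlgebra.dp A a x * DividedPowerAlgebra.dp A b y))
    have hI : I = ⊤ := by
      by_contra hne
      obtain ⟨m, hm, hle⟩ := Ideal.exists_le_maximal I hne
      haveI := hm
      obtain ⟨s, hs, hmem⟩ : ∃ s ∉ m,
          s • (DividedPowerAlgebra.dp A a x * DividedPowerAlgebra.dp A b y) ∈ Sp A M (a + b) := by
        rcases h ⟨m, inferInstance⟩ with hc | ⟨z, hz⟩
        · refine mul_mem_of_card m a b ((Nat.cast_le.2 hab).trans (hc.trans ?_)) x y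
          exact (Cardinal.mk_congr (RingEquiv.ofBijective _
            (Ideal.bijective_algebraMap_quotient_residueField m)).toEquiv).ge
        · exact mul_mem_of_cyclic m z hz a b x y
      exact hs (hle hmem)
    have h1 : (1 : A) ∈ I := hI ▸ Submodule.mem_top
    simpa [I] using h1
  have hclosed : ∀ a b : ℕ, a + b ≤ d → ∀ x ∈ Sp A M a, ∀ y ∈ Sp A M b, x * y ∈ Sp A M (a + b) := by
    intro a b hab x hx y hy
    have hle : Sp A M a * Sp A M b ≤ Sp A M (a + b) := by
      simp only [Sp, Submodule.span_mul_span, Submodule.span_le]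
      rintro _ ⟨_, ⟨u, rfl⟩, _, ⟨w, rfl⟩, rfl⟩
      exact hmul a b hab u w
    exact hle (Submodule.mul_mem_mul hx hy)
  apply le_antisymm
  · refine Submodule.span_le.2 ?_
    rintro _ ⟨m, rfl⟩
    exact Submodule.subset_span ⟨1, fun _ => d, fun _ => m, by simp, by simp⟩
  · refine Submodule.span_le.2 ?_
    rintro _ ⟨n, k, m, hk, rfl⟩
    have hind : ∀ s : Finset (Fin n), ∏ i ∈ s, DividedPowerAlgebra.dp A (k i) (m i) ∈ Sp A M (∑ i ∈ s, k i) := by
      intro s
      induction s using Finset.induction with
      | empty =>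
        simp only [Finset.prod_empty, Finset.sum_empty]
        exact Submodule.subset_span ⟨0, DividedPowerAlgebra.dp_zero⟩
      | insert i s hi ih =>
        rw [Finset.prod_insert hi, Finset.sum_insert hi]
        refine hclosed _ _ ?_ _ (Submodule.subset_span ⟨_, rfl⟩) _ ih
        rw [← Finset.sum_insert hi, ← hk]
        exact Finset.sum_le_sum_of_subset (Finset.subset_univ _)
    have := hind Finset.univ
    rw [hk] at this
    exact this
end Groth.Agent.S13387
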