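import Groth.Statements.S13388
import Mathlib

set_option autoImplicit false
universe u
open ZeroCyc

namespace Groth.Agent.S13388
open scoped TensorProduct

section gen

variable {R : Type u} [CommRing R] {ι : Type*} [DecidableEq ι]

/-- Generating polynomial of the divided powers of `∑ x s` with `x s ^ 2 = 0`. -/
noncomputable def P (S : Finset ι) (x : ι → R) : Polynomial R :=
  ∏ s ∈ S, (1 + Polynomial.C (x s) * Polynomial.X)

lemma coeff_P_zero (S : Finset ι) (x : ι → R) : (P S x).coeff 0 = 1 := by
  induction S using Finset.induction with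
  | empty => simp [P]
  | insert s S hs ih =>
    rw [P, Finset.prod_insert hs, Polynomial.mul_coeff_zero, ← P, ih]
    simp

lemma coeff_P_insert {S : Finset ι} {s : ι} (hs : s ∉ S) (x : ι → R) (n : ℕ) :
    (P (insert s S) x).coeff (n + 1) = (P S x).coeff (n + 1) + x s * (P S x).coeff n := by
  rw [P, Finset.prod_insert hs, ← P, add_mul, one_mul, mul_assoc, Polynomial.coeff_add,
    Polynomial.coeff_C_mul, Polynomial.coeff_X_mul]

lemma coeff_P_smul (S : Finset ι) (x : ι → R) (r : R) (n : ℕ) :
    (P S (fun s => r * x s)).coeff n = r ^ n * (P S x).coeff n := by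
  induction S using Finset.induction generalizing n with
  | empty => rcases n with _ | n <;> simp [P, Polynomial.coeff_one]
  | insert s S hs ih =>
    rcases n with _ | n
    · simp [coeff_P_zero]
    · rw [coeff_P_insert hs, coeff_P_insert hs, ih, ih, pow_succ]
      ring

lemma coeff_P_mul (S : Finset ι) (x : ι → R) (hx : ∀ s, x s * x s = 0) (n p : ℕ) :
    (P S x).coeff n * (P S x).coeff p = (n + p).choose n * (P S x).coeff (n + p) := by
  induction S using Finset.induction generalizing n p with
  | empty =>
    rcases n with _ | n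
    · simp [P, Polynomial.coeff_one]
    · simp [P, Polynomial.coeff_one, show n + 1 + p ≠ 0 by omega]
  | insert s S hs ih =>
    rcases n with _ | n
    · simp [coeff_P_zero]
    rcases p with _ | p
    · simp [coeff_P_zero]
    have h1 := ih (n + 1) (p + 1)
    have h2 := ih n (p + 1)
    have h3 := ih (n + 1) p
    rw [show n + 1 + (p + 1) = n + p + 2 by omega] at h1 ⊢
    rw [show n + (p + 1) = n + p + 1 by omega] at h2
    rw [show n + 1 + p = n + p + 1 by omega] at h3
    rw [show n + p + 2 = n + p + 1 + 1 from rfl, coeff_P_insert hs, coeff_P_insert hs, coeff_P_insert hs]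
    have hch : ((n + p + 1 + 1).choose (n + 1) : R) = ((n + p + 1).choose n : R) + ((n + p + 1).choose (n + 1) : R) := by
      rw [Nat.choose_succ_succ', Nat.cast_add]
    linear_combination (norm := (simp only [show n + p + 2 = n + p + 1 + 1 from rfl]; ring1)) h1 + x s * h2 +
      x s * h3 + ((P S x).coeff n * (P S x).coeff p) * hx s - (x s * (P S x).coeff (n + p + 1)) * hch

lemma P_add (S : Finset ι) (x y : ι → R) (hxy : ∀ s, x s * y s = 0) :
    P S (x + y) = P S x * P S y := by
  rw [P, P, P, ← Finset.prod_mul_distrib]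
  refine Finset.prod_congr rfl fun s _ => ?_
  have h : Polynomial.C (x s) * Polynomial.C (y s) = 0 := by rw [← Polynomial.C_mul, hxy, Polynomial.C_0]
  rw [Pi.add_apply, Polynomial.C_add]
  linear_combination -(Polynomial.X ^ 2) * h

lemma coeff_P_top (S : Finset ι) (x : ι → R) :
    (P S x).coeff S.card = ∏ s ∈ S, x s ∧ ∀ n, S.card < n → (P S x).coeff n = 0 := by
  induction S using Finset.induction with
  | empty => simp [P, Polynomial.coeff_one]; omega
  | insert s S hs ih =>
    rw [Finset.card_insert_of_notMem hs]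
    refine ⟨?_, fun n hn => ?_⟩
    · rw [coeff_P_insert hs, ih.2 _ (Nat.lt_succ_self _), ih.1, zero_add, Finset.prod_insert hs]
    · obtain ⟨n, rfl⟩ : ∃ m, n = m + 1 := ⟨n - 1, by omega⟩
      rw [coeff_P_insert hs, ih.2 _ (by omega), ih.2 _ (by omega), mul_zero, add_zero]

lemma mul_P_eq (S T : Finset ι) (hST : T ⊆ S) (x : ι → R) (g : R) (h : ∀ s ∈ S, s ∉ T → g * x s = 0) :
    ∀ n, g * (P S x).coeff n = g * (P T x).coeff n := by
  intro n
  rw [← Polynomial.coeff_C_mul, ← Polynomial.coeff_C_mul, P, ← Finset.prod_sdiff hST, ← P, ← mul_assoc]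
  congr 2
  have : ∀ U : Finset ι, U ⊆ S \ T → Polynomial.C g * ∏ s ∈ U, (1 + Polynomial.C (x s) * Polynomial.X) =
      Polynomial.C g := by
    intro U hU
    induction U using Finset.induction with
    | empty => simp
    | insert s U hs ih =>
      obtain ⟨h1, h2⟩ := Finset.mem_sdiff.1 (hU (Finset.mem_insert_self _ _))
      rw [Finset.prod_insert hs, ← mul_assoc, mul_add, mul_one, ← mul_assoc, ← Polynomial.C_mul, h s h1 h2,
        Polynomial.C_0, zero_mul, add_zero, ih fun _ hu => hU (Finset.mem_insert_of_mem hu)]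
  exact this _ le_rfl

end gen

/-- Two independent values in a residue field of small size obstruct generation. -/
lemma not_span {A M : Type u} [CommRing A] [AddCommGroup M] [Module A M] (d : ℕ) (k : Type u) [Field k]
    [Algebra A k] [Fintype k] (hd : Fintype.card k < d) (g : M →ₗ[A] k × k) (u w : M)
    (hu : g u = (1, 0)) (hw : g w = (0, 1))
    (h : Submodule.span A (Set.range (DividedPowerAlgebra.dp A d : M → DividedPowerAlgebra A M)) =
      PolLaw.gammaPiece A M d) : False := by
  classical
  let r := d - Fintype.card k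
  let ι := k ⊕ Fin r
  -- the linear forms
  let l : ι → k × k → k := fun s v => Sum.elim (fun t => v.2 - t * v.1) (fun _ => v.1) s
  have hl_add : ∀ s v v', l s (v + v') = l s v + l s v' := fun s v v' => by
    rcases s with t | t <;> simp [l] <;> ring
  have hl_smul : ∀ s (a : A) v, l s (a • v) = algebraMap A k a * l s v := fun s a v => by
    rcases s with t | t <;> simp [l, Algebra.smul_def] <;> ring
  let J : Ideal (MvPolynomial ι k) := Ideal.span (Set.range fun s => MvPolynomial.X s * MvPolynomial.X s)
  let C := MvPolynomial ι k ⧸ J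
  let top : ι →₀ ℕ := Finsupp.equivFunOnFinite.symm fun _ => 1
  have hJ : ∀ f ∈ J, MvPolynomial.coeff top f = 0 := by
    intro f hf
    obtain ⟨c, rfl⟩ := Ideal.mem_span_range_iff_exists_fun.1 hf
    rw [MvPolynomial.coeff_sum]
    refine Finset.sum_eq_zero fun s _ => ?_
    rw [← mul_assoc, MvPolynomial.coeff_mul_X', if_pos (by simp [top]), MvPolynomial.coeff_mul_X',
      if_neg (by simp [top])]
  let φ₀ : MvPolynomial ι k →ₗ[k] k := MvPolynomial.lcoeff k top
  let φ : C →ₗ[k] k := Submodule.liftQ (J.restrictScalars k) φ₀ (fun f hf => hJ f hf) ∘ₗ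
    (Submodule.Quotient.restrictScalarsEquiv k J).symm.toLinearMap
  have hφ : ∀ f : MvPolynomial ι k, φ (Ideal.Quotient.mk J f) = MvPolynomial.coeff top f := fun f => rfl
  let ε : ι → C := fun s => Ideal.Quotient.mk J (MvPolynomial.X s)
  have hε : ∀ s, ε s * ε s = 0 := fun s => by
    rw [← map_mul, Ideal.Quotient.eq_zero_iff_mem]
    exact Ideal.subset_span ⟨s, rfl⟩
  let x : M → ι → C := fun m s => algebraMap k C (l s (g m)) * ε s
  have hx : ∀ m m' s, x m s * x m' s = 0 := fun m m' s => by
    simp only [x]
    rw [mul_mul_mul_comm, hε, mul_zero]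
  let f : ℕ × M → C := fun q => (P Finset.univ (x q.2)).coeff q.1
  let Φ : DividedPowerAlgebra A M →ₐ[A] C := DividedPowerAlgebra.lift' (f := f)
    (fun m => coeff_P_zero _ _)
    (fun n a m => by
      have : x (a • m) = fun s => algebraMap A C a * x m s := funext fun s => by
        simp only [x, map_smul, hl_smul, map_mul, ← IsScalarTower.algebraMap_apply A k C, mul_assoc]
      simp only [f]
      rw [this, coeff_P_smul, Algebra.smul_def, map_pow])
    (fun n p m => by
      simp only [f]
      rw [coeff_P_mul _ _ (hx m m), nsmul_eq_mul])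
    (fun n m m' => by
      have : x (m + m') = x m + x m' := funext fun s => by
        simp only [x, map_add, hl_add, add_mul, Pi.add_apply]
      simp only [f]
      rw [this, P_add _ _ _ (hx m m'), Polynomial.coeff_mul])
  have hΦ : ∀ n m, Φ (DividedPowerAlgebra.dp A n m) = (P Finset.univ (x m)).coeff n := fun n m => by
    simp only [Φ, DividedPowerAlgebra.lift'_apply_dp, f]
  have hcard : (Finset.univ : Finset ι).card = d := by
    simp [ι, r]; omega
  -- the product of all generators
  have htop : φ (∏ s, ε s) = 1 := by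
    rw [show ∏ s, ε s = Ideal.Quotient.mk J (∏ s, MvPolynomial.X s) from (map_prod _ _ _).symm, hφ]
    have : ∀ S : Finset ι, ∏ s ∈ S, (MvPolynomial.X s : MvPolynomial ι k) =
        MvPolynomial.monomial (∑ s ∈ S, Finsupp.single s 1) 1 := fun S => by
      rw [MvPolynomial.monomial_sum_one]
      rfl
    rw [this, show (∑ s : ι, Finsupp.single s 1) = top from Finsupp.ext fun t => by
        rw [Finsupp.finsetSum_apply, Finset.sum_eq_single t (fun s _ hs => by simp [hs]) (by simp)]
        simp [top],
      MvPolynomial.coeff_monomial, if_pos rfl]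
  -- the divided powers of degree `d` are killed
  have hzero : ∀ m : M, Φ (DividedPowerAlgebra.dp A d m) = 0 := fun m => by
    rw [hΦ, ← hcard, (coeff_P_top _ _).1]
    obtain ⟨s, hs⟩ : ∃ s, l s (g m) = 0 := by
      rcases eq_or_ne (g m).1 0 with h0 | h0
      · exact ⟨Sum.inr ⟨0, by simp only [r]; omega⟩, h0⟩
      · exact ⟨Sum.inl ((g m).2 / (g m).1), by simp [l, div_mul_cancel₀ _ h0]⟩
    exact Finset.prod_eq_zero (Finset.mem_univ s) (by simp [x, hs])
  let T : Finset ι := Finset.univ.image Sum.inr
  let T' : Finset ι := Finset.univ.image Sum.inl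
  have hTc : T.card = r := by simp [T, Finset.card_image_of_injective _ Sum.inr_injective]
  have hT'c : T'.card = Fintype.card k := by simp [T', Finset.card_image_of_injective _ Sum.inl_injective]
  have hmem : DividedPowerAlgebra.dp A (Fintype.card k) w * DividedPowerAlgebra.dp A r u ∈
      PolLaw.gammaPiece A M d :=
    Submodule.subset_span ⟨2, ![Fintype.card k, r], ![w, u], by simp [Fin.sum_univ_two, r]; omega,
      by simp [Fin.prod_univ_two]⟩
  have hval : Φ (DividedPowerAlgebra.dp A (Fintype.card k) w * DividedPowerAlgebra.dp A r u) = ∏ s, ε s := by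
    rw [map_mul, hΦ, hΦ]
    have e1 : (P Finset.univ (x w)).coeff (Fintype.card k) = ∏ s ∈ T', ε s := by
      have h1 := mul_P_eq Finset.univ T' (Finset.subset_univ _) (x w) 1 (fun s _ hs => by
        rcases s with t | t
        · exact absurd (Finset.mem_image.2 ⟨t, Finset.mem_univ _, rfl⟩) hs
        · simp [x, l, hw]) (Fintype.card k)
      rw [one_mul, one_mul] at h1
      rw [h1, ← hT'c, (coeff_P_top _ _).1]
      refine Finset.prod_congr rfl fun s hs => ?_
      obtain ⟨t, -, rfl⟩ := Finset.mem_image.1 hs
      simp [x, l, hw]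
    rw [e1, mul_P_eq Finset.univ T (Finset.subset_univ _) (x u) _ (fun s _ hs => ?_) r,
      show (P T (x u)).coeff r = ∏ s ∈ T, x u s by rw [← (coeff_P_top T (x u)).1, hTc]]
    · rw [show ∏ s ∈ T, x u s = ∏ s ∈ T, ε s from Finset.prod_congr rfl fun s hs => by
        obtain ⟨t, -, rfl⟩ := Finset.mem_image.1 hs
        simp [x, l, hu]]
      rw [← Finset.prod_union]
      · congr 1
        ext s
        rcases s with t | t <;> simp [T, T']
      · rw [Finset.disjoint_left]
        intro s hs hs'
        rcases s with t | t <;> simp [T, T'] at hs hs'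
    · rcases s with t | t
      · rw [← Finset.prod_erase_mul T' _ (a := Sum.inl t) (Finset.mem_image.2 ⟨t, Finset.mem_univ _, rfl⟩)]
        simp only [x]
        rw [mul_assoc, mul_left_comm (ε _), hε, mul_zero, mul_zero]
      · exact absurd (Finset.mem_image.2 ⟨t, Finset.mem_univ _, rfl⟩) hs
  rw [← h] at hmem
  have hker : ∀ z ∈ Submodule.span A (Set.range (DividedPowerAlgebra.dp A d : M → DividedPowerAlgebra A M)),
      Φ z = 0 := fun z hz => by
    induction hz using Submodule.span_induction with
    | mem y hy => obtain ⟨m, rfl⟩ := hy; exact hzero m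
    | zero => simp
    | add y z _ _ hy hz => simp [hy, hz]
    | smul a y _ hy => simp [hy]
  have h0 := hker _ hmem
  rw [hval] at h0
  rw [h0, map_zero] at htop
  exact one_ne_zero htop.symm

open scoped TensorProduct in
/-- Nakayama: two independent values unless cyclic. -/
lemma exists_pair {A M : Type u} [CommRing A] [AddCommGroup M] [Module A M] [Module.Finite A M]
    (p : PrimeSpectrum A)
    (hnc : ¬ ∃ x : LocalizedModule p.asIdeal.primeCompl M, Submodule.span (Localization.AtPrime p.asIdeal) {x} = ⊤) :
    ∃ (g : M →ₗ[A] p.asIdeal.ResidueField × p.asIdeal.ResidueField) (u w : M), g u = (1, 0) ∧ g w = (0, 1) := by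
  classical
  let Ap := Localization.AtPrime p.asIdeal
  let k := p.asIdeal.ResidueField
  have hno : ∀ m₀ : M, ∃ m : M, (1 : k) ⊗ₜ[A] m ∉ Submodule.span k {(1 : k) ⊗ₜ[A] m₀} := by
    intro m₀
    by_contra hall
    simp only [not_exists, not_not] at hall
    apply hnc
    refine ⟨(LocalizedModule.equivTensorProduct p.asIdeal.primeCompl M).symm ((1 : Ap) ⊗ₜ[A] m₀), ?_⟩
    let e := LocalizedModule.equivTensorProduct p.asIdeal.primeCompl M
    let N : Submodule Ap (Ap ⊗[A] M) := Submodule.span Ap {(1 : Ap) ⊗ₜ[A] m₀}
    have hN : N = ⊤ := by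
      refine (IsLocalRing.map_tensorProduct_mk_eq_top (R := Ap) (M := Ap ⊗[A] M)).1 (eq_top_iff.2 fun z _ => ?_)
      let c := TensorProduct.AlgebraTensorModule.cancelBaseChange A Ap k k M
      have hz : c z ∈ Submodule.span k {(1 : k) ⊗ₜ[A] m₀} := by
        induction c z using TensorProduct.induction_on with
        | zero => exact Submodule.zero_mem _
        | tmul a m =>
          rw [← mul_one a, ← smul_eq_mul, ← TensorProduct.smul_tmul']
          exact Submodule.smul_mem _ _ (hall m)
        | add a b ha hb => exact Submodule.add_mem _ ha hb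
      obtain ⟨a, ha⟩ := Submodule.mem_span_singleton.1 hz
      obtain ⟨r, hr⟩ := IsLocalRing.residue_surjective (R := Ap) a
      refine ⟨r • ((1 : Ap) ⊗ₜ[A] m₀), Submodule.smul_mem _ _ (Submodule.subset_span rfl), c.injective ?_⟩
      rw [← ha, TensorProduct.mk_apply, TensorProduct.tmul_smul, TensorProduct.smul_tmul',
        TensorProduct.AlgebraTensorModule.cancelBaseChange_tmul, one_smul, TensorProduct.smul_tmul']
      congr 1
      rw [Algebra.smul_def, mul_one, smul_eq_mul, mul_one, ← hr]
      rfl
    have h1 := congrArg (Submodule.map e.symm.toLinearMap) hN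
    rw [Submodule.map_span, Set.image_singleton, Submodule.map_top, LinearEquiv.range] at h1
    exact h1
  obtain ⟨u, hu⟩ := hno 0
  obtain ⟨w, hw⟩ := hno u
  rw [TensorProduct.tmul_zero, Submodule.span_singleton_eq_bot.2 rfl, Submodule.mem_bot] at hu
  let F : k × k →ₗ[k] k ⊗[A] M :=
    (LinearMap.toSpanSingleton k _ ((1 : k) ⊗ₜ[A] u)).coprod (LinearMap.toSpanSingleton k _ ((1 : k) ⊗ₜ[A] w))
  have hF : LinearMap.ker F = ⊥ := by
    refine LinearMap.ker_eq_bot'.2 fun v hv => ?_
    obtain ⟨a, b⟩ := v
    change a • ((1 : k) ⊗ₜ[A] u) + b • ((1 : k) ⊗ₜ[A] w) = 0 at hv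
    have hb : b = 0 := by
      by_contra hb
      refine hw (Submodule.mem_span_singleton.2 ⟨-(b⁻¹ * a), ?_⟩)
      have := congrArg (fun z => b⁻¹ • z) (eq_neg_of_add_eq_zero_right hv)
      simp only [smul_smul, inv_mul_cancel₀ hb, one_smul, smul_neg] at this
      rw [this, neg_smul]
    subst hb
    rw [zero_smul, add_zero, smul_eq_zero] at hv
    exact Prod.ext (hv.resolve_right hu) rfl
  obtain ⟨G, hG⟩ := F.exists_leftInverse_of_injective hF
  refine ⟨(G.restrictScalars A) ∘ₗ TensorProduct.mk A k M 1, u, w, ?_, ?_⟩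
  · have := LinearMap.congr_fun hG ((1 : k), (0 : k))
    simpa [F] using this
  · have := LinearMap.congr_fun hG ((0 : k), (1 : k))
    simpa [F] using this


/-- Let A be a commutative ring, M a finitely generated A-module and d ≥ 0. If the degree-d piece
Γ^d_A(M) of Γ_A(M) is spanned over A by the divided powers γ_d(m), m ∈ M, then at each prime p of A
either k(p) has d or more elements, or the localisation M_p is a cyclic A_p-module. -/
theorem result {A M : Type u} [CommRing A] [AddCommGroup M]
    [Module A M] [Module.Finite A M] (d : ℕ)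
    (h : Submodule.span A (Set.range (DividedPowerAlgebra.dp A d : M → DividedPowerAlgebra A M)) =
      PolLaw.gammaPiece A M d)
    (p : PrimeSpectrum A) :
    (d : Cardinal) ≤ Cardinal.mk p.asIdeal.ResidueField ∨
      ∃ x : LocalizedModule p.asIdeal.primeCompl M, Submodule.span (Localization.AtPrime p.asIdeal) {x} = ⊤ := by
  classical
  refine or_iff_not_imp_right.2 fun hnc => ?_
  by_contra hlt
  rw [not_le] at hlt
  haveI : Finite p.asIdeal.ResidueField := Cardinal.lt_aleph0_iff_finite.1 (hlt.trans (Cardinal.natCast_lt_aleph0))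
  haveI := Fintype.ofFinite p.asIdeal.ResidueField
  rw [Cardinal.mk_fintype, Nat.cast_lt] at hlt
  obtain ⟨g, u, w, hu, hw⟩ := exists_pair p hnc
  exact not_span d p.asIdeal.ResidueField hlt g u w hu hw h
end Groth.Agent.S13388
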