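import Groth.Statements.S13389
import Mathlib
-- import your own Groth.Agent.* helpers here

set_option autoImplicit false
universe u
open ZeroCyc

namespace Groth.Agent.S13389

open Polynomial in
/-- Let P_d(T) = ∏_{0 ≤ i < j ≤ d} (T^i − T^j) − 1 ∈ ℤ[T]. If A is an algebra over ℤ[T]/(P_d), i.e.
receives a ring homomorphism from it, then for every A-module M the degree-d piece Γ^d_A(M) of the
divided power algebra Γ_A(M) is spanned over A by the d-th divided powers γ_d(m), m ∈ M. (The
published statement adds that consequently every ring has a finite faithfully flat extension,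
independent of M, over which this holds; that clause is not restated.) -/
theorem result {A M : Type u} [CommRing A] [AddCommGroup M]
    [Module A M] (d : ℕ)
    (φ : (ℤ[X] ⧸ Ideal.span {(∏ j ∈ Finset.range (d + 1), ∏ i ∈ Finset.range j,
        ((X : ℤ[X]) ^ i - X ^ j)) - 1}) →+* A) :
    Submodule.span A (Set.range (DividedPowerAlgebra.dp A d : M → DividedPowerAlgebra A M)) =
      PolLaw.gammaPiece A M d := by
  classical
  have key : IsUnit (∏ j ∈ Finset.range (d + 1), ∏ i ∈ Finset.range j,
      (φ (Ideal.Quotient.mk _ X) ^ i - φ (Ideal.Quotient.mk _ X) ^ j)) := by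
    set t := φ (Ideal.Quotient.mk _ (X : ℤ[X]))
    have h : φ (Ideal.Quotient.mk _ ((∏ j ∈ Finset.range (d + 1), ∏ i ∈ Finset.range j,
        ((X : ℤ[X]) ^ i - X ^ j)) - 1)) = 0 := by
      rw [Ideal.Quotient.eq_zero_iff_mem.2 (Ideal.subset_span (Set.mem_singleton _)), map_zero]
    rw [map_sub, map_sub, map_one, map_one, sub_eq_zero] at h
    simp only [map_prod, map_sub, map_pow] at h
    exact h ▸ isUnit_one
  set t := φ (Ideal.Quotient.mk _ (X : ℤ[X]))
  have hfac : ∀ i j : ℕ, i < j → j ≤ d → IsUnit (t ^ j - t ^ i) := fun i j hij hjd => by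
    rw [← neg_sub, IsUnit.neg_iff]
    exact (IsUnit.prod_iff.1 ((IsUnit.prod_iff.1 key) j (Finset.mem_range.2 (by omega)))) i (Finset.mem_range.2 hij)
  let S : ℕ → Submodule A (DividedPowerAlgebra A M) := fun e =>
    Submodule.span A (Set.range (DividedPowerAlgebra.dp A e : M → DividedPowerAlgebra A M))
  have hmul : ∀ a b : ℕ, a + b ≤ d → ∀ x y : M,
      DividedPowerAlgebra.dp A a x * DividedPowerAlgebra.dp A b y ∈ S (a + b) := by
    intro a b hab x y
    set e := a + b with he
    let v : Fin (e + 1) → A := fun i => t ^ (i : ℕ)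
    have hV : IsUnit (Matrix.vandermonde v).det := by
      rw [Matrix.det_vandermonde]
      refine IsUnit.prod_iff.2 fun i _ => IsUnit.prod_iff.2 fun j hj => ?_
      exact hfac (i : ℕ) (j : ℕ) (Fin.lt_def.1 (Finset.mem_Ioi.1 hj)) (by have := j.2; omega)
    let c : Fin (e + 1) → DividedPowerAlgebra A M := fun k =>
      DividedPowerAlgebra.dp A (k : ℕ) x * DividedPowerAlgebra.dp A (e - k) y
    have hrow : ∀ r : Fin (e + 1), ∑ k, Matrix.vandermonde v r k • c k ∈ S e := fun r => by
      have h1 : DividedPowerAlgebra.dp A e (v r • x + y) = ∑ k, Matrix.vandermonde v r k • c k := by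
        rw [DividedPowerAlgebra.dp_add, Finset.Nat.sum_antidiagonal_eq_sum_range_succ_mk, Finset.sum_range]
        exact Finset.sum_congr rfl fun k _ => by
          rw [DividedPowerAlgebra.dp_smul, smul_mul_assoc, Matrix.vandermonde_apply]
      rw [← h1]
      exact Submodule.subset_span ⟨_, rfl⟩
    have hc : ∀ k, c k ∈ S e := fun k => by
      set W := (Matrix.vandermonde v)⁻¹
      have h2 : c k = ∑ r, W k r • ∑ l, Matrix.vandermonde v r l • c l := by
        simp only [Finset.smul_sum, smul_smul]
        rw [Finset.sum_comm]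
        simp only [← Finset.sum_smul, ← Matrix.mul_apply]
        rw [Matrix.nonsing_inv_mul _ hV]
        simp [Matrix.one_apply, ite_smul]
      rw [h2]
      exact Submodule.sum_mem _ fun r _ => Submodule.smul_mem _ _ (hrow r)
    have := hc ⟨a, by omega⟩
    simpa only [c, he, Nat.add_sub_cancel_left] using this
  have hclosed : ∀ a b : ℕ, a + b ≤ d → ∀ x ∈ S a, ∀ y ∈ S b, x * y ∈ S (a + b) := by
    intro a b hab x hx y hy
    have hle : S a * S b ≤ S (a + b) := by
      simp only [S, Submodule.span_mul_span, Submodule.span_le]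
      rintro _ ⟨_, ⟨u, rfl⟩, _, ⟨w, rfl⟩, rfl⟩
      exact hmul a b hab u w
    exact hle (Submodule.mul_mem_mul hx hy)
  apply le_antisymm
  · refine Submodule.span_le.2 ?_
    rintro _ ⟨m, rfl⟩
    exact Submodule.subset_span ⟨1, fun _ => d, fun _ => m, by simp, by simp⟩
  · refine Submodule.span_le.2 ?_
    rintro _ ⟨n, k, m, hk, rfl⟩
    have hind : ∀ s : Finset (Fin n), ∏ i ∈ s, DividedPowerAlgebra.dp A (k i) (m i) ∈ S (∑ i ∈ s, k i) := by
      intro s
      induction s using Finset.induction with
      | empty =>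
        simp only [Finset.prod_empty, Finset.sum_empty]
        exact Submodule.subset_span ⟨0, DividedPowerAlgebra.dp_zero⟩
      | insert i s hi ih =>
        rw [Finset.prod_insert hi, Finset.sum_insert hi]
        refine hclosed _ _ ?_ _ (Submodule.subset_span ⟨_, rfl⟩) _ ih
        rw [← Finset.sum_insert hi, ← hk]
        exact Finset.sum_le_sum_of_subset (Finset.subset_univ _)
    have := hind Finset.univ
    rw [hk] at this
    exact this

end Groth.Agent.S13389
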