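import Groth.Statements.S13390
import Groth.Agent.SymSegreLib.Core

-- import your own Groth.Agent.* helpers here

set_option autoImplicit false
universe u
open scoped TensorProduct
open ZeroCyc

namespace Groth.Agent.S13390

open SymSegreLib in
theorem exists_symm_ne_zero {A B : Type u} [CommRing A] [CommRing B] [Algebra A B]
    {𝒜 : ℕ → Submodule A B} [GradedAlgebra 𝒜] (hfg : (𝒜 1).FG) {d : ℕ}
    {D : Subalgebra A (⨂[A] _ : Fin d, B)} (hD : D = segre 𝒜 d ⊓ SymTen.TS A B d)
    {L : Type u} [CommRing L] [IsDomain L] (χ : segre 𝒜 d →+* L) {e : Fin d → B}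
    (he : ∀ i, e i ∈ 𝒜 1) (he0 : ev χ e ≠ 0) :
    ∃ x : D, (x : ⨂[A] _ : Fin d, B) ∈ Submodule.span A (pureSet 𝒜 d 1) ∧
      χ (Subalgebra.inclusion (hD ▸ inf_le_left : D ≤ segre 𝒜 d) x) ≠ 0 := by
  classical
  obtain ⟨N, g, hg⟩ := Submodule.fg_iff_exists_fin_generating_family.1 hfg
  have hgmem : ∀ j, g j ∈ 𝒜 1 := fun j => hg ▸ Submodule.subset_span ⟨j, rfl⟩
  let lin : Fin d → MvPolynomial (Fin N) L := fun i =>
    ∑ j, MvPolynomial.C (slot χ e 1 i (g j)) * MvPolynomial.X j
  have hlin : ∀ i, lin i ≠ 0 := by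
    intro i h0
    have hz : ∀ j, slot χ e 1 i (g j) = 0 := by
      intro j
      have h := congrArg (MvPolynomial.eval fun l => if l = j then (1 : L) else 0) h0
      simpa [lin] using h
    have hall : ∀ x ∈ Submodule.span A (Set.range g), slot χ e 1 i x = 0 := by
      intro x hx
      induction hx using Submodule.span_induction with
      | mem x hx => obtain ⟨j, rfl⟩ := hx; exact hz j
      | zero =>
        have h := slot_smul χ he i (0 : A) (zero_mem (𝒜 1))
        simpa using h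
      | add x y hx hy ihx ihy =>
        rw [slot_add χ he i (hg.le hx) (hg.le hy), ihx, ihy, add_zero]
      | smul r x hx ih => rw [slot_smul χ he i r (hg.le hx), ih, mul_zero]
    exact he0 ((slot_self χ he i).symm.trans (hall _ (hg.ge (he i))))
  let mon : (Fin d → Fin N) → MvPolynomial (Fin N) L := fun w => ∏ i, MvPolynomial.X (w i)
  let c : (Fin d → Fin N) → L := fun w => ∏ i, slot χ e 1 i (g (w i))
  have hexp : ∏ i, lin i = ∑ w, MvPolynomial.C (c w) * mon w := by
    simp only [lin, c, mon]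
    rw [Fintype.prod_sum]
    refine Finset.sum_congr rfl fun w _ => ?_
    rw [Finset.prod_mul_distrib, map_prod]
  obtain ⟨w₀, hw₀⟩ : ∃ w₀, ∑ w ∈ Finset.univ.filter (fun w => mon w = mon w₀), c w ≠ 0 := by
    by_contra! hall
    refine Finset.prod_ne_zero_iff.2 (fun i _ => hlin i) (hexp.trans ?_)
    rw [← Finset.sum_fiberwise_of_maps_to (t := Finset.univ.image mon)
      (fun w _ => Finset.mem_image_of_mem mon (Finset.mem_univ w))]
    refine Finset.sum_eq_zero fun m hm => ?_
    obtain ⟨w₀, -, rfl⟩ := Finset.mem_image.1 hm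
    rw [Finset.sum_congr rfl fun w hw => by rw [(Finset.mem_filter.1 hw).2], ← Finset.sum_mul,
      ← map_sum, hall w₀, map_zero, zero_mul]
  let W := Finset.univ.filter (fun w => mon w = mon w₀)
  let M : segre 𝒜 d := ∑ w ∈ W, ⟨_, tprod_mem_segre (b := fun i => g (w i)) fun i => hgmem _⟩
  have hM : (M : ⨂[A] _ : Fin d, B) = ∑ w ∈ W, PiTensorProduct.tprod A (fun i => g (w i)) := by
    simp [M]
  have hTS : (M : ⨂[A] _ : Fin d, B) ∈ SymTen.TS A B d := by
    rw [hM, SymTen.mem_TS_iff]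
    intro σ
    rw [map_sum]
    simp only [PiTensorProduct.reindex_tprod]
    refine Finset.sum_equiv (σ.arrowCongr (Equiv.refl _)) (fun w => ?_) (fun w _ => rfl)
    simp only [W, Finset.mem_filter, Finset.mem_univ, true_and, mon, Equiv.arrowCongr_apply,
      Equiv.coe_refl, Function.comp_apply, id_eq]
    rw [Equiv.prod_comp σ.symm fun i => MvPolynomial.X (w i)]
  have hMD : (M : ⨂[A] _ : Fin d, B) ∈ D := hD ▸ ⟨M.2, hTS⟩
  refine ⟨⟨_, hMD⟩, ?_, ?_⟩
  · show (M : ⨂[A] _ : Fin d, B) ∈ _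
    rw [hM]
    exact Submodule.sum_mem _ fun w _ => Submodule.subset_span ⟨_, fun i => hgmem _, rfl⟩
  · show χ M ≠ 0
    intro h0
    refine hw₀ ?_
    have h1 : ∀ w ∈ W, c w = χ ⟨_, tprod_mem_segre (b := fun i => g (w i)) fun i => hgmem _⟩ *
        ev χ (fun j => e j ^ (1 * (d - 1))) := fun w _ => by
      simp only [c]
      rw [prod_slot χ he fun i => hgmem _, ev_eq χ fun i => hgmem (w i)]
    rw [Finset.sum_congr rfl h1, ← Finset.sum_mul, ← map_sum, h0, zero_mul]


/-- Let A be a commutative ring, B a graded A-algebra generated by its degree-one part B_1 with B_1 a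
finitely generated A-module, and d ≥ 0. Inside the d-fold tensor power T^d_A(B) let C_k be the
A-span of the pure tensors b_1 ⊗ ⋯ ⊗ b_d with all b_i ∈ B_k, let C = Σ_k C_k (the A-subalgebra
generated by these pure tensors; Proj C is the d-fold fibre product of X = Proj B over S = Spec A)
and let D = C ∩ TS^d_A(B) be its subring of symmetric tensors, graded by D_k = C_k ∩ TS^d_A(B), so
that Proj D is the symmetric product Sym^d(X/S). Then Proj D is covered in degree one: every t ∈ D_k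
with k ≥ 1 has some power t^m, m ≥ 1, in the ideal of D generated by D_1. -/
theorem result {A B : Type u} [CommRing A] [CommRing B] [Algebra A B]
    (𝒜 : ℕ → Submodule A B) [GradedAlgebra 𝒜] (hgen : Algebra.adjoin A (𝒜 1 : Set B) = ⊤) (hfg : (𝒜 1).FG) (d : ℕ)
    (D : Subalgebra A (⨂[A] _ : Fin d, B))
    (hD : D = Algebra.adjoin A {t | ∃ (k : ℕ) (b : Fin d → B), (∀ i, b i ∈ 𝒜 k) ∧ t = PiTensorProduct.tprod A b}
      ⊓ SymTen.TS A B d)
    (k : ℕ) (hk : 0 < k) (t : ⨂[A] _ : Fin d, B) (htD : t ∈ D)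
    (htk : t ∈ Submodule.span A {s | ∃ b : Fin d → B, (∀ i, b i ∈ 𝒜 k) ∧ s = PiTensorProduct.tprod A b}) :
    ∃ m : ℕ, 0 < m ∧ (⟨t, htD⟩ : D) ^ m ∈
      Ideal.span {x : D | (x : ⨂[A] _ : Fin d, B) ∈
        Submodule.span A {s | ∃ b : Fin d → B, (∀ i, b i ∈ 𝒜 1) ∧ s = PiTensorProduct.tprod A b}} := by
  refine SymSegreLib.mem_radical hgen hD hk htD htk ?_
  intro L _ _ χ e he he0
  exact exists_symm_ne_zero hfg hD χ he he0


end Groth.Agent.S13390
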