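import Groth.Statements.S13391
import Groth.Agent.SymSegreLib.Core

-- import your own Groth.Agent.* helpers here

set_option autoImplicit false
universe u
open scoped TensorProduct
open ZeroCyc

namespace Groth.Agent.S13391

open SymSegreLib in
theorem exists_avoid {A B : Type u} [CommRing A] [CommRing B] [Algebra A B]
    {𝒜 : ℕ → Submodule A B} [GradedAlgebra 𝒜] {d : ℕ} {L : Type u} [CommRing L] [IsDomain L]
    (χ : segre 𝒜 d →+* L) {e : Fin d → B} (he : ∀ i, e i ∈ 𝒜 1) (he0 : ev χ e ≠ 0)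
    (s : Finset (Fin d)) :
    ∃ (n : ℕ) (f : B), 0 < n ∧ f ∈ 𝒜 n ∧ ∀ i ∈ s, slot χ e n i f ≠ 0 := by
  classical
  induction s using Finset.strongInduction with
  | H s ih =>
  rcases s.eq_empty_or_nonempty with rfl | ⟨a, ha⟩
  · exact ⟨1, 0, one_pos, zero_mem _, by simp⟩
  rcases (s.erase a).eq_empty_or_nonempty with h1 | hne
  · refine ⟨1, e a, one_pos, he a, fun i hi => ?_⟩
    obtain rfl : i = a := by
      by_contra h
      exact Finset.notMem_empty i (h1 ▸ Finset.mem_erase.2 ⟨h, hi⟩)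
    rwa [slot_self χ he]
  choose n f hn hf hgood using fun l : {l // l ∈ s} => ih (s.erase l.1) (Finset.erase_ssubset l.2)
  by_cases hex : ∀ l : {l // l ∈ s}, slot χ e (n l) l.1 (f l) = 0
  · let rest : Finset {l // l ∈ s} := Finset.univ.filter fun l => l.1 ≠ a
    let N := ∑ l ∈ rest, n l
    let P := ∏ l ∈ rest, f l
    let α : {l // l ∈ s} := ⟨a, ha⟩
    have hrest : rest.Nonempty := by
      obtain ⟨b, hb⟩ := hne
      exact ⟨⟨b, Finset.mem_of_mem_erase hb⟩, by simp [rest, Finset.ne_of_mem_erase hb]⟩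
    have hN : 0 < N := Finset.sum_pos (fun l _ => hn l) hrest
    have hP : P ∈ 𝒜 N := SetLike.prod_mem_graded 𝒜 n _ fun l _ => hf l
    have hpow : ∀ (i : Fin d) {m : ℕ} {x : B}, x ∈ 𝒜 m → ∀ r : ℕ,
        slot χ e (r * m) i (x ^ r) = slot χ e m i x ^ r := by
      intro i m x hx r
      have h := slot_prod χ he (Finset.range r) (n := fun _ => m) (x := fun _ => x) (fun _ => hx) i
      simpa using h
    have m1 : f α ^ N ∈ 𝒜 (N * n α) := by simpa using SetLike.pow_mem_graded N (hf α)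
    have m2 : P ^ n α ∈ 𝒜 (N * n α) := by
      simpa [mul_comm] using SetLike.pow_mem_graded (n α) hP
    refine ⟨N * n α, f α ^ N + P ^ n α, Nat.mul_pos hN (hn α), add_mem m1 m2, fun i hi => ?_⟩
    rw [slot_add χ he i m1 m2]
    rw [hpow i (hf α) N]
    rw [Nat.mul_comm, hpow i hP (n α), show slot χ e N i P = _ from slot_prod χ he rest hf i]
    rcases eq_or_ne i a with rfl | hia
    · rw [hex α, zero_pow hN.ne', zero_add]
      refine pow_ne_zero _ (Finset.prod_ne_zero_iff.2 fun l hl => ?_)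
      refine hgood l i (Finset.mem_erase.2 ⟨?_, hi⟩)
      exact (Finset.mem_filter.1 hl).2.symm
    · have hz : ∏ l ∈ rest, slot χ e (n l) i (f l) = 0 :=
        Finset.prod_eq_zero (i := ⟨i, hi⟩) (by simp [rest, hia]) (hex ⟨i, hi⟩)
      rw [hz, zero_pow (hn α).ne', add_zero]
      exact pow_ne_zero _ (hgood α i (Finset.mem_erase.2 ⟨hia, hi⟩))
  · push_neg at hex
    obtain ⟨l, hl⟩ := hex
    refine ⟨n l, f l, hn l, hf l, fun i hi => ?_⟩
    rcases eq_or_ne i l.1 with rfl | h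
    · exact hl
    · exact hgood l i (Finset.mem_erase.2 ⟨h, hi⟩)


/-- Let A be a commutative ring, B a graded A-algebra generated by its degree-one part B_1 with B_1 a
finitely generated A-module, and d ≥ 0. Inside the d-fold tensor power T^d_A(B) let C_k be the
A-span of the pure tensors b_1 ⊗ ⋯ ⊗ b_d with all b_i ∈ B_k, let C = Σ_k C_k (the A-subalgebra
generated by these pure tensors; Proj C is the d-fold fibre product of X = Proj B over S = Spec A)
and let D = C ∩ TS^d_A(B) be its subring of symmetric tensors, graded by D_k = C_k ∩ TS^d_A(B), so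
that Proj D is the symmetric product Sym^d(X/S). Then Sym^d(X/S) is covered by the affine opens
Sym^d(X_f/S) = D_+(f ⊗ ⋯ ⊗ f), f ∈ B_n, n ≥ 1: every t ∈ D_k with k ≥ 1 has some power t^m, m ≥ 1,
in the ideal of D generated by the tensors f ⊗ f ⊗ ⋯ ⊗ f with f homogeneous of positive degree. -/
theorem result {A B : Type u} [CommRing A] [CommRing B] [Algebra A B]
    (𝒜 : ℕ → Submodule A B) [GradedAlgebra 𝒜] (hgen : Algebra.adjoin A (𝒜 1 : Set B) = ⊤) (hfg : (𝒜 1).FG) (d : ℕ)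
    (D : Subalgebra A (⨂[A] _ : Fin d, B))
    (hD : D = Algebra.adjoin A {t | ∃ (k : ℕ) (b : Fin d → B), (∀ i, b i ∈ 𝒜 k) ∧ t = PiTensorProduct.tprod A b}
      ⊓ SymTen.TS A B d)
    (k : ℕ) (hk : 0 < k) (t : ⨂[A] _ : Fin d, B) (htD : t ∈ D)
    (htk : t ∈ Submodule.span A {s | ∃ b : Fin d → B, (∀ i, b i ∈ 𝒜 k) ∧ s = PiTensorProduct.tprod A b}) :
    ∃ m : ℕ, 0 < m ∧ (⟨t, htD⟩ : D) ^ m ∈
      Ideal.span {x : D | ∃ (n : ℕ) (f : B), 0 < n ∧ f ∈ 𝒜 n ∧
        (x : ⨂[A] _ : Fin d, B) = PiTensorProduct.tprod A (fun _ : Fin d => f)} := by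
  refine SymSegreLib.mem_radical hgen hD hk htD htk ?_
  intro L _ _ χ e he he0
  obtain ⟨n, f, hn, hf, hgood⟩ := exists_avoid χ he he0 Finset.univ
  have hmem : PiTensorProduct.tprod A (fun _ : Fin d => f) ∈ D :=
    hD ▸ ⟨SymSegreLib.tprod_mem_segre fun _ => hf, (SymTen.tpow A B d f).2⟩
  refine ⟨⟨_, hmem⟩, ⟨n, f, hn, hf, rfl⟩, ?_⟩
  have h := SymSegreLib.ev_diag_ne_zero χ he hf fun i => hgood i (Finset.mem_univ i)
  rwa [SymSegreLib.ev_eq χ fun _ => hf] at h


end Groth.Agent.S13391
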