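import Groth.Statements.S13392
import Groth.Agent.SymSegreLib.Core

-- import your own Groth.Agent.* helpers here

set_option autoImplicit false
universe u
open scoped TensorProduct
open ZeroCyc

namespace Groth.Agent.S13392

open SymSegreLib in
theorem exists_avoid {A B : Type u} [CommRing A] [CommRing B] [Algebra A B]
    {𝒜 : ℕ → Submodule A B} [GradedAlgebra 𝒜] {d : ℕ}
    (hres : ∀ p : PrimeSpectrum A, (d : Cardinal) ≤ Cardinal.mk p.asIdeal.ResidueField)
    {L : Type u} [CommRing L] [IsDomain L]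
    (χ : segre 𝒜 d →+* L) {e : Fin d → B} (he : ∀ i, e i ∈ 𝒜 1) (he0 : ev χ e ≠ 0)
    (s : Finset (Fin d)) :
    ∃ f : B, f ∈ 𝒜 1 ∧ ∀ i ∈ s, slot χ e 1 i f ≠ 0 := by
  classical
  induction s using Finset.induction_on with
  | empty => exact ⟨0, zero_mem _, by simp⟩
  | insert a t hat ih =>
    obtain ⟨f, hf, hgood⟩ := ih
    by_cases hfa : slot χ e 1 a f = 0
    swap
    · exact ⟨f, hf, fun i hi => (Finset.mem_insert.1 hi).elim (fun h => h ▸ hfa) (hgood i)⟩
    let g : A →+* L := χ.comp (algebraMap A _)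
    let p : Ideal A := RingHom.ker g
    haveI hp : p.IsPrime := RingHom.ker_isPrime g
    have hsurj : ∀ z : p.ResidueField, ∃ u v : A, g v ≠ 0 ∧
        algebraMap A p.ResidueField u / algebraMap A p.ResidueField v = z := by
      intro z
      obtain ⟨u, v, hv, h⟩ := IsFractionRing.div_surjective (A := A ⧸ p) z
      obtain ⟨u, rfl⟩ := Ideal.Quotient.mk_surjective u
      obtain ⟨v, rfl⟩ := Ideal.Quotient.mk_surjective v
      refine ⟨u, v, fun h0 => nonZeroDivisors.ne_zero hv (Ideal.Quotient.eq_zero_iff_mem.2 h0), ?_⟩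
      exact h
    choose U V hV hz using hsurj
    let x : p.ResidueField → B := fun z => U z • f + V z • e a
    have hx : ∀ z, x z ∈ 𝒜 1 := fun z =>
      add_mem (Submodule.smul_mem _ _ hf) (Submodule.smul_mem _ _ (he a))
    have hxs : ∀ z i, slot χ e 1 i (x z) =
        g (U z) * slot χ e 1 i f + g (V z) * slot χ e 1 i (e a) := fun z i => by
      rw [slot_add χ he i (Submodule.smul_mem _ _ hf) (Submodule.smul_mem _ _ (he a)),
        slot_smul χ he i _ hf, slot_smul χ he i _ (he a)]
      rfl
    by_cases hgd : ∃ z, ∀ i ∈ t, slot χ e 1 i (x z) ≠ 0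
    · obtain ⟨z, hzg⟩ := hgd
      refine ⟨x z, hx z, fun i hi => (Finset.mem_insert.1 hi).elim (fun h => ?_) (hzg i)⟩
      rw [h, hxs, hfa, mul_zero, zero_add, slot_self χ he]
      exact mul_ne_zero (hV z) he0
    · push_neg at hgd
      choose j hj hj0 using hgd
      have hinj : Function.Injective fun z => (⟨j z, hj z⟩ : {i // i ∈ t}) := by
        intro z z' hzz
        have hji : j z = j z' := congrArg Subtype.val hzz
        have e1 := hj0 z
        have e2 := hj0 z'
        rw [hxs] at e1 e2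
        rw [← hji] at e2
        have hf0 : slot χ e 1 (j z) f ≠ 0 := hgood _ (hj z)
        have hcross : g (U z * V z' - U z' * V z) = 0 := by
          have h3 : (g (U z) * g (V z') - g (U z') * g (V z)) * slot χ e 1 (j z) f = 0 := by
            linear_combination g (V z') * e1 - g (V z) * e2
          rw [map_sub, map_mul, map_mul]
          exact (mul_eq_zero.1 h3).resolve_right hf0
        have hne : ∀ w, algebraMap A p.ResidueField (V w) ≠ 0 := fun w h =>
          hV w (Ideal.algebraMap_residueField_eq_zero.1 h)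
        rw [← hz z, ← hz z', div_eq_div_iff (hne z) (hne z'), ← map_mul, ← map_mul, ← sub_eq_zero,
          ← map_sub]
        exact Ideal.algebraMap_residueField_eq_zero.2 hcross
      have h1 : Cardinal.mk p.ResidueField ≤ (t.card : Cardinal) := by
        have := Cardinal.lift_mk_le_lift_mk_of_injective hinj
        simpa using this
      have h2 : d ≤ t.card := Nat.cast_le.1 ((hres ⟨p, hp⟩).trans h1)
      have h3 : t.card < d := by
        have := Finset.card_le_univ (insert a t)
        rw [Finset.card_insert_of_notMem hat, Fintype.card_fin] at this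
        omega
      omega


/-- Let A be a commutative ring, B a graded A-algebra generated by its degree-one part B_1 with B_1 a
finitely generated A-module, and d ≥ 0. Inside the d-fold tensor power T^d_A(B) let C_k be the
A-span of the pure tensors b_1 ⊗ ⋯ ⊗ b_d with all b_i ∈ B_k, let C = Σ_k C_k (the A-subalgebra
generated by these pure tensors; Proj C is the d-fold fibre product of X = Proj B over S = Spec A)
and let D = C ∩ TS^d_A(B) be its subring of symmetric tensors, graded by D_k = C_k ∩ TS^d_A(B), so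
that Proj D is the symmetric product Sym^d(X/S). Provided each residue field of A has d or more
elements, Sym^d(X/S) is covered by the affine opens Sym^d(X_f/S) = D_+(f ⊗ ⋯ ⊗ f) with f ∈ B_1:
every t ∈ D_k with k ≥ 1 has some power t^m, m ≥ 1, in the ideal of D generated by the tensors f ⊗ ⋯
⊗ f, f ∈ B_1. -/
theorem result {A B : Type u} [CommRing A] [CommRing B] [Algebra A B]
    (𝒜 : ℕ → Submodule A B) [GradedAlgebra 𝒜] (hgen : Algebra.adjoin A (𝒜 1 : Set B) = ⊤) (hfg : (𝒜 1).FG) (d : ℕ)
    (hres : ∀ p : PrimeSpectrum A, (d : Cardinal) ≤ Cardinal.mk p.asIdeal.ResidueField)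
    (D : Subalgebra A (⨂[A] _ : Fin d, B))
    (hD : D = Algebra.adjoin A {t | ∃ (k : ℕ) (b : Fin d → B), (∀ i, b i ∈ 𝒜 k) ∧ t = PiTensorProduct.tprod A b}
      ⊓ SymTen.TS A B d)
    (k : ℕ) (hk : 0 < k) (t : ⨂[A] _ : Fin d, B) (htD : t ∈ D)
    (htk : t ∈ Submodule.span A {s | ∃ b : Fin d → B, (∀ i, b i ∈ 𝒜 k) ∧ s = PiTensorProduct.tprod A b}) :
    ∃ m : ℕ, 0 < m ∧ (⟨t, htD⟩ : D) ^ m ∈
      Ideal.span {x : D | ∃ f : B, f ∈ 𝒜 1 ∧
        (x : ⨂[A] _ : Fin d, B) = PiTensorProduct.tprod A (fun _ : Fin d => f)} := by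
  refine SymSegreLib.mem_radical hgen hD hk htD htk ?_
  intro L _ _ χ e he he0
  obtain ⟨f, hf, hgood⟩ := exists_avoid hres χ he he0 Finset.univ
  have hmem : PiTensorProduct.tprod A (fun _ : Fin d => f) ∈ D :=
    hD ▸ ⟨SymSegreLib.tprod_mem_segre fun _ => hf, (SymTen.tpow A B d f).2⟩
  refine ⟨⟨_, hmem⟩, ⟨f, hf, rfl⟩, ?_⟩
  have h := SymSegreLib.ev_diag_ne_zero χ he hf fun i => hgood i (Finset.mem_univ i)
  rwa [SymSegreLib.ev_eq χ fun _ => hf] at h


end Groth.Agent.S13392
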