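import Groth.Statements.S13393
import Groth.Agent.SymProdCmpLib.Compare
import Groth.Agent.SymProdCmpLib.Hyp
import Groth.Agent.SymProdCmpLib.BaseChangeUnit

set_option autoImplicit false
set_option backward.isDefEq.respectTransparency false
set_option backward.isDefEq.respectTransparency.types false
universe u
open CategoryTheory CategoryTheory.Limits AlgebraicGeometry
open ZeroCyc

namespace Groth.Agent.S13393

/-- Scheme case. Let f : X → S be separated and let (Y, q, g) be a d-th symmetric product of X over S: q
: (X/S)^d → Y is a quotient of the d-fold fibre product by the symmetric group permuting the factors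
and g : Y → S its structure map. Let S' → S be a morphism, let the symmetric group act on (X/S)^d
×_S S' through the first factor (this is the d-fold fibre product of X' = X ×_S S' over S' with its
permutation action), let r : (X/S)^d ×_S S' → Y' be a quotient by that action, i.e. a symmetric
product Sym^d(X'/S'), and let m : Y' → Y ×_S S' be the morphism with r ≫ m = q × id. Then m induces
an isomorphism on residue fields at every point of Y' (trivial residue field extensions); if every
positive integer is invertible in Γ(S', O_{S'}) then m is an isomorphism; and if X' → S' is flat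
then m is a closed immersion. (The published statement is for X a separated algebraic space over S,
where the symmetric products always exist as algebraic spaces; this row is the case of schemes in
which both quotients exist as schemes, taken as hypotheses, and leaves the universal-homeomorphism
clause to the general finite-group statement.) -/
theorem result {X S S' Y Y' : Scheme.{u}} (f : X ⟶ S) [IsSeparated f] (d : ℕ)
    (q : SymProd.fibPow f d ⟶ Y) (g : Y ⟶ S) (hq : SymProd.IsSymProd f d q g)
    (gS : S' ⟶ S)
    (ρ' : ULift.{u} (Equiv.Perm (Fin d)) →* Aut (pullback (WidePullback.base fun _ : Fin d => f) gS))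
    (hρ' : ∀ σ, (ρ' σ).hom ≫ pullback.fst (WidePullback.base fun _ : Fin d => f) gS =
        pullback.fst (WidePullback.base fun _ : Fin d => f) gS ≫ SymProd.permHom f d σ.down ∧
      (ρ' σ).hom ≫ pullback.snd (WidePullback.base fun _ : Fin d => f) gS =
        pullback.snd (WidePullback.base fun _ : Fin d => f) gS)
    (r : pullback (WidePullback.base fun _ : Fin d => f) gS ⟶ Y') (hr : SGA1.IsQuot ρ' r)
    (m : Y' ⟶ pullback g gS)
    (hm : r ≫ m = pullback.map (WidePullback.base fun _ : Fin d => f) gS g gS q (𝟙 S') (𝟙 S)
      ((Category.comp_id _).trans hq.over.symm) ((Category.comp_id gS).trans (Category.id_comp gS).symm)) :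
    (∀ y : Y', IsIso (m.residueFieldMap y)) ∧
    ((∀ n : ℕ, 0 < n → IsUnit ((n : ℕ) : Γ(S', ⊤))) → IsIso m) ∧
    (Flat (pullback.snd f gS) → IsClosedImmersion m) := by
  let f' := pullback.snd f gS
  haveI : IsClosedImmersion (pullback.lift (pullback.fst f gS) (pullback.snd f gS) pullback.condition) := by
    rw [show pullback.lift (pullback.fst f gS) (pullback.snd f gS) pullback.condition = 𝟙 _ by
      apply pullback.hom_ext <;> simp]
    infer_instance
  let pl : SymProd.fibPow f' d ⟶ pullback (WidePullback.base fun _ : Fin d => f) gS :=
    SymProdCmp.powLift (f := f) f' gS (pullback.fst f gS) pullback.condition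
  let pinv : pullback (WidePullback.base fun _ : Fin d => f) gS ⟶ SymProd.fibPow f' d := WidePullback.lift (pullback.snd (WidePullback.base fun _ : Fin d => f) gS)
    (fun j => pullback.lift (pullback.fst (WidePullback.base fun _ : Fin d => f) gS ≫ WidePullback.π (fun _ : Fin d => f) j) (pullback.snd (WidePullback.base fun _ : Fin d => f) gS)
      (by rw [Category.assoc, WidePullback.π_arrow, pullback.condition]))
    (fun j => by simp [f'])
  haveI : IsIso pl := ⟨pinv, by
    constructor
    · apply WidePullback.hom_ext
      · intro j
        apply pullback.hom_ext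
        · simp [pl, pinv, SymProdCmp.powLift]
        · simp [pl, pinv, SymProdCmp.powLift, f']
      · simp [pl, pinv, SymProdCmp.powLift, f']
    · apply pullback.hom_ext
      · apply WidePullback.hom_ext
        · intro j; simp [pl, pinv, SymProdCmp.powLift, f']
        · simp [pl, pinv, SymProdCmp.powLift, f', pullback.condition]
      · simp [pl, pinv, SymProdCmp.powLift, f']⟩
  have hρ₁ : ∀ σ, (SymProd.permActU f' d σ).hom ≫ pl = pl ≫ (ρ' σ).hom := fun σ => by
    apply pullback.hom_ext
    · rw [Category.assoc, Category.assoc, (hρ' σ).1]
      simp only [pl, SymProdCmp.powLift, pullback.lift_fst, pullback.lift_fst_assoc, SymProd.permActU_hom]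
      exact SymProdCmp.permHom_powMap _ _ _ _ _
    · rw [Category.assoc, Category.assoc, (hρ' σ).2]
      simp [pl, SymProdCmp.powLift]
  have hr' : SGA1.IsQuot (SymProd.permActU f' d) (pl ≫ r) :=
    QuotLib.isQuot_baseChange hr (IsPullback.of_horiz_isIso ⟨(Category.comp_id _).symm⟩ : IsPullback pl (pl ≫ r) r (𝟙 Y'))
      hρ₁ fun σ => by rw [← Category.assoc, hρ₁, Category.assoc, hr.inv]
  have hm' : (pl ≫ r) ≫ m = SymProdCmp.cmpMap hq.over f' gS (pullback.fst f gS) pullback.condition := by
    rw [Category.assoc, hm]
    apply pullback.hom_ext <;> simp [pl, SymProdCmp.powLift, SymProdCmp.cmpMap]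
  refine ⟨fun y => SymProdCmp.isIso_residueFieldMap f' gS _ _ hq hr' hm' y, fun hN => ?_, fun hflat => ?_⟩
  · let M := pullback.map (WidePullback.base fun _ : Fin d => f) gS g gS q (𝟙 S') (𝟙 S)
      ((Category.comp_id _).trans hq.over.symm) ((Category.comp_id gS).trans (Category.id_comp gS).symm)
    have sq : IsPullback (pullback.fst (WidePullback.base fun _ : Fin d => f) gS) M q (pullback.fst g gS) := by
      refine IsPullback.of_bot ?_ (by simp [M]) (IsPullback.of_hasPullback g gS)
      rw [hq.over]
      simpa [M] using IsPullback.of_hasPullback (WidePullback.base fun _ : Fin d => f) gS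
    have hM : SGA1.IsQuot ρ' M := by
      refine SymProdCmp.isQuot_baseChange_of_isUnit ?_ hq.isQuot sq (fun σ => (hρ' σ).1) fun σ => ?_
      · have := (hN _ (Nat.card_pos (α := ULift.{u} (Equiv.Perm (Fin d))))).map (pullback.snd g gS).appTop.hom
        rwa [map_natCast] at this
      · have hinv : SymProd.permHom f d σ.down ≫ q = q := hq.isQuot.inv σ
        apply pullback.hom_ext
        · simp only [M, pullback.map, Category.assoc, pullback.lift_fst]
          rw [reassoc_of% (hρ' σ).1, hinv]
        · simp only [M, pullback.map, Category.assoc, pullback.lift_snd]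
          rw [reassoc_of% (hρ' σ).2]
    obtain ⟨n, hn⟩ := QuotLib.exists_desc hM r hr.inv
    refine ⟨n, QuotLib.hom_ext hr ?_, QuotLib.hom_ext hM ?_⟩
    · rw [Category.comp_id, reassoc_of% hm]; exact hn
    · rw [Category.comp_id, reassoc_of% hn]; exact hm
  · haveI : Flat f' := hflat
    exact SymProdCmp.isClosedImmersion_cmp f' gS _ _ hq hr' hm'
      fun C S₀' hS₀' hle' => SymProdCmp.mem_span_TS_of_flat C f' gS _ _ S₀' hS₀' hle'

end Groth.Agent.S13393
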