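import Groth.Statements.S13394
import Groth.Agent.SymProdCmpLib.Compare
import Groth.Agent.SymProdCmpLib.Hyp

set_option autoImplicit false
set_option backward.isDefEq.respectTransparency false
set_option backward.isDefEq.respectTransparency.types false
universe u
open CategoryTheory CategoryTheory.Limits AlgebraicGeometry
open ZeroCyc

namespace Groth.Agent.S13394

/-- Scheme case. Let f : X → S be separated, let (Y, q, g) be a d-th symmetric product of X over S (q :
(X/S)^d → Y a quotient of the d-fold fibre product by the symmetric group, g : Y → S), let i : Z → X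
be a closed immersion and (W, r, g_W) a d-th symmetric product of Z over S, let q((Z/S)^d) ⊆ Y be
the scheme-theoretic image of the composite (Z/S)^d → (X/S)^d → Y, and let m : W → q((Z/S)^d) be the
morphism through which that composite factors via r. Then m induces an isomorphism on residue fields
at every point of W (trivial residue field extensions); if every positive integer is invertible in
Γ(S, O_S) then m is an isomorphism; and if Z → S is flat then m is a closed immersion. (The
published statement is for X a separated algebraic space over S; this row is the case of schemes in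
which both symmetric products exist as schemes, taken as hypotheses, and leaves the
universal-homeomorphism clause to the general finite-group statement.) -/
theorem result {X Z S Y W : Scheme.{u}} (f : X ⟶ S) [IsSeparated f] (d : ℕ)
    (q : SymProd.fibPow f d ⟶ Y) (g : Y ⟶ S) (hq : SymProd.IsSymProd f d q g)
    (i : Z ⟶ X) [IsClosedImmersion i]
    (r : SymProd.fibPow (i ≫ f) d ⟶ W) (gW : W ⟶ S) (hr : SymProd.IsSymProd (i ≫ f) d r gW)
    (m : W ⟶ (SymProd.fibPowMap (i ≫ f) d f i rfl ≫ q).ker.subscheme)
    (hm : r ≫ m ≫ (SymProd.fibPowMap (i ≫ f) d f i rfl ≫ q).ker.subschemeι =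
      SymProd.fibPowMap (i ≫ f) d f i rfl ≫ q) :
    (∀ w : W, IsIso (m.residueFieldMap w)) ∧
    ((∀ n : ℕ, 0 < n → IsUnit ((n : ℕ) : Γ(S, ⊤))) → IsIso m) ∧
    (Flat (i ≫ f) → IsClosedImmersion m) := by
  let gS := 𝟙 S
  have w : i ≫ f = (i ≫ f) ≫ 𝟙 S := (Category.comp_id _).symm
  haveI : IsClosedImmersion (pullback.lift i (i ≫ f) w) := by
    haveI : IsClosedImmersion (pullback.lift i (i ≫ f) w ≫ pullback.fst f (𝟙 S)) := by
      rw [pullback.lift_fst]; infer_instance
    exact IsClosedImmersion.of_comp_isClosedImmersion _ (pullback.fst f (𝟙 S))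
  let F := SymProd.fibPowMap (i ≫ f) d f i rfl ≫ q
  have hpow : SymProdCmp.powMap f (i ≫ f) (𝟙 S) i w d = SymProd.fibPowMap (i ≫ f) d f i rfl := by
    apply WidePullback.hom_ext
    · intro j; simp
    · simp
  have hc : (m ≫ F.ker.subschemeι) ≫ g = gW ≫ 𝟙 S := QuotLib.hom_ext hr.isQuot (by
    have hm2 : r ≫ m ≫ F.ker.subschemeι = F := hm
    rw [Category.comp_id, hr.over, Category.assoc, reassoc_of% hm2]
    simp only [F, Category.assoc, hq.over, SymProd.fibPowMap_base])
  let m' : W ⟶ pullback g (𝟙 S) := pullback.lift (m ≫ F.ker.subschemeι) gW hc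
  have hm' : r ≫ m' = SymProdCmp.cmpMap hq.over (i ≫ f) (𝟙 S) i w := by
    apply pullback.hom_ext
    · simp only [m', SymProdCmp.cmpMap, Category.assoc, pullback.lift_fst, hpow]; exact hm
    · simp only [m', SymProdCmp.cmpMap, Category.assoc, pullback.lift_snd, hr.over]
  have hk : m' = m ≫ (F.ker.subschemeι ≫ inv (pullback.fst g (𝟙 S))) := by
    rw [← cancel_mono (pullback.fst g (𝟙 S))]
    simp [m']
  have hcl : IsClosedImmersion m' → IsClosedImmersion m := fun h => by
    rw [hk] at h
    exact IsClosedImmersion.of_comp_isClosedImmersion m (F.ker.subschemeι ≫ inv (pullback.fst g (𝟙 S)))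
  refine ⟨fun y => ?_, fun hN => ?_, fun hflat => ?_⟩
  · have h1 := SymProdCmp.isIso_residueFieldMap (i ≫ f) (𝟙 S) i w hq hr.isQuot hm' y
    have h2 := ((ConcreteCategory.isIso_iff_bijective _).1 h1).2
    rw [hk, Scheme.residueFieldMap_comp] at h2
    rw [ConcreteCategory.isIso_iff_bijective]
    exact ⟨(m.residueFieldMap y).hom.injective, Function.Surjective.of_comp h2⟩
  · haveI : IsClosedImmersion m := hcl (SymProdCmp.isClosedImmersion_cmp (i ≫ f) (𝟙 S) i w hq hr.isQuot hm'
      fun C S₀' hS₀' hle' => SymProdCmp.mem_span_TS_of_isUnit C (i ≫ f) (𝟙 S) i w S₀' hS₀' hle'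
        (hN _ d.factorial_pos) (SymProdCmp.span_Φ (i ≫ f) (𝟙 S) i w C S₀' hS₀' hle'))
    haveI := hr.isQuot.affine
    haveI : QuasiCompact F := by
      rw [show F = r ≫ m ≫ F.ker.subschemeι from hm.symm]; infer_instance
    have ht : r ≫ m = F.toImage := by
      rw [← cancel_mono F.imageι, Scheme.Hom.toImage_imageι, Category.assoc]
      exact hm
    refine IsZariskiLocalAtTarget.of_iSup_eq_top (P := MorphismProperty.isomorphisms Scheme)
      (fun U : Y.affineOpens => F.imageι ⁻¹ᵁ U.1) ?_ fun U => ?_
    · rw [← Scheme.Hom.preimage_iSup, iSup_affineOpens_eq_top]; rfl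
    · refine (isIso_morphismRestrict_iff_isIso_app m (U.2.preimage F.imageι)).2 ?_
      rw [ConcreteCategory.isIso_iff_bijective]
      refine ⟨?_, Scheme.Hom.app_surjective m _ (U.2.preimage F.imageι)⟩
      have key : ∀ G : SymProd.fibPow (i ≫ f) d ⟶ F.image, G = r ≫ m →
          Function.Injective (G.app (F.imageι ⁻¹ᵁ U.1)) → Function.Injective (m.app (F.imageι ⁻¹ᵁ U.1)) := by
        rintro G rfl h
        exact Function.Injective.of_comp h
      exact key _ ht.symm (F.toImage_app_injective U)
  · exact hcl (SymProdCmp.isClosedImmersion_cmp (i ≫ f) (𝟙 S) i w hq hr.isQuot hm'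
      fun C S₀' hS₀' hle' => SymProdCmp.mem_span_TS_of_flat C (i ≫ f) (𝟙 S) i w S₀' hS₀' hle')

end Groth.Agent.S13394
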