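import Groth.Statements.S13395
import Groth.Agent.SymProdCmpLib.FlatSym
import Groth.Agent.SymProdCmpLib.BaseChangeUnit

set_option autoImplicit false
set_option backward.isDefEq.respectTransparency false
set_option backward.isDefEq.respectTransparency.types false
universe u
open CategoryTheory CategoryTheory.Limits AlgebraicGeometry
open ZeroCyc

namespace Groth.Agent.S13395

theorem isQuot_comp {A B C : Scheme.{u}} {G H K : Type u} [Group G] [Group H] [Group K]
    {ρ : G →* Aut A} {ρ₂ : H →* Aut B} (iH : H →* G) (iK : K →* G) (hgen : ∀ x : G, ∃ h k, x = iH h * iK k)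
    {p₁ : A ⟶ B} {p₂ : B ⟶ C} (hp₁ : SGA1.IsQuot (ρ.comp iK) p₁) (hp₂ : SGA1.IsQuot ρ₂ p₂)
    (heq : ∀ h, (ρ (iH h)).hom ≫ p₁ = p₁ ≫ (ρ₂ h).hom) : SGA1.IsQuot ρ (p₁ ≫ p₂) := by
  haveI := hp₁.affine
  haveI := hp₂.affine
  have hinv : ∀ x : G, (ρ x).hom ≫ p₁ ≫ p₂ = p₁ ≫ p₂ := fun x => by
    obtain ⟨h, k, rfl⟩ := hgen x
    rw [map_mul]
    change ((ρ (iK k)).hom ≫ (ρ (iH h)).hom) ≫ p₁ ≫ p₂ = p₁ ≫ p₂
    rw [Category.assoc, reassoc_of% (heq h), hp₂.inv]
    exact (Category.assoc _ _ _).symm.trans (congrArg (· ≫ p₂) (hp₁.inv k))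
  refine ⟨inferInstance, hinv, fun U => ?_, fun U s => ⟨?_, fun hs => ?_⟩⟩
  · exact (hp₁.injective (p₂ ⁻¹ᵁ U)).comp (hp₂.injective U)
  · rintro ⟨t, rfl⟩ x
    change ((p₁ ≫ p₂).app U ≫ (ρ x).hom.appLE _ _ _).hom t = _
    rw [Scheme.Hom.app_eq_appLE, Scheme.Hom.appLE_comp_appLE]
    simp only [hinv]
  · obtain ⟨t, rfl⟩ := (hp₁.range_iff (p₂ ⁻¹ᵁ U) s).2 fun k => hs (iK k)
    obtain ⟨u, hu⟩ := (hp₂.range_iff U t).2 fun h => by
      apply hp₁.injective (p₂ ⁻¹ᵁ U)
      refine Eq.trans ?_ (hs (iH h))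
      change ((ρ₂ h).hom.appLE _ _ _ ≫ p₁.app (p₂ ⁻¹ᵁ U)).hom t = (p₁.app (p₂ ⁻¹ᵁ U) ≫ (ρ (iH h)).hom.appLE _ _ _).hom t
      rw [Scheme.Hom.app_eq_appLE, Scheme.Hom.appLE_comp_appLE, Scheme.Hom.appLE_comp_appLE]
      simp only [heq]
    exact ⟨u, congrArg (p₁.app (p₂ ⁻¹ᵁ U)).hom hu⟩


/-- Scheme case. Let f : X → S and g : Z → S be separated morphisms and suppose that either both are
flat or every positive integer is invertible in Γ(S, O_S) (S is a scheme over the rationals). Let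
(P, q_X) be a d-th symmetric product of X over S and (Q, q_Z) an e-th symmetric product of Z over S,
i.e. quotients of the fibre powers (X/S)^d and (Z/S)^e by the symmetric groups permuting the
factors, and let S_d × S_e act on (X/S)^d ×_S (Z/S)^e factorwise. Then q_X × q_Z : (X/S)^d ×_S
(Z/S)^e → P ×_S Q is a quotient by S_d × S_e (affine, invariant, with sections of P ×_S Q the
invariant sections): the mixed symmetric product Sym^{d,e}(X, Z) is Sym^d(X/S) ×_S Sym^e(Z/S). (The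
published statement is for separated algebraic spaces, where these quotients always exist, and adds
the identification with Γ^d(X/S) ×_S Γ^e(Z/S); this row is the scheme case with the two symmetric
products taken as hypotheses.) -/
theorem result {X Z S P Q : Scheme.{u}} (f : X ⟶ S) (g : Z ⟶ S)
    [IsSeparated f] [IsSeparated g] (d e : ℕ)
    (h : (Flat f ∧ Flat g) ∨ ∀ n : ℕ, 0 < n → IsUnit ((n : ℕ) : Γ(S, ⊤)))
    (qX : SymProd.fibPow f d ⟶ P) (pP : P ⟶ S) (hqX : SymProd.IsSymProd f d qX pP)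
    (qZ : SymProd.fibPow g e ⟶ Q) (pQ : Q ⟶ S) (hqZ : SymProd.IsSymProd g e qZ pQ)
    (ρ : ULift.{u} (Equiv.Perm (Fin d) × Equiv.Perm (Fin e)) →*
      Aut (pullback (WidePullback.base fun _ : Fin d => f) (WidePullback.base fun _ : Fin e => g)))
    (hρ : ∀ σ, (ρ σ).hom ≫ pullback.fst (WidePullback.base fun _ : Fin d => f) (WidePullback.base fun _ : Fin e => g) =
        pullback.fst (WidePullback.base fun _ : Fin d => f) (WidePullback.base fun _ : Fin e => g) ≫
          SymProd.permHom f d σ.down.1 ∧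
      (ρ σ).hom ≫ pullback.snd (WidePullback.base fun _ : Fin d => f) (WidePullback.base fun _ : Fin e => g) =
        pullback.snd (WidePullback.base fun _ : Fin d => f) (WidePullback.base fun _ : Fin e => g) ≫
          SymProd.permHom g e σ.down.2) :
    SGA1.IsQuot ρ (pullback.map (WidePullback.base fun _ : Fin d => f) (WidePullback.base fun _ : Fin e => g) pP pQ
      qX qZ (𝟙 S) ((Category.comp_id _).trans hqX.over.symm) ((Category.comp_id _).trans hqZ.over.symm)) := by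
  let A := WidePullback.base fun _ : Fin d => f
  let B := WidePullback.base fun _ : Fin e => g
  let X₂ := pullback A pQ
  let p₁ : pullback A B ⟶ X₂ := pullback.map A B A pQ (𝟙 _) qZ (𝟙 S) (by simp)
    ((Category.comp_id _).trans hqZ.over.symm)
  let p₂ : X₂ ⟶ pullback pP pQ := pullback.map A pQ pP pQ qX (𝟙 Q) (𝟙 S)
    ((Category.comp_id _).trans hqX.over.symm) (by simp)
  let act (σ : Equiv.Perm (Fin d)) : X₂ ⟶ X₂ := pullback.map A pQ A pQ (SymProd.permHom f d σ) (𝟙 Q) (𝟙 S)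
    (by simp [A]) (by simp)
  have act_one : act 1 = 𝟙 X₂ := by apply pullback.hom_ext <;> simp [act, X₂, SymProd.permHom_one]
  have act_mul : ∀ σ τ, act (σ * τ) = act τ ≫ act σ := fun σ τ => by
    apply pullback.hom_ext <;> simp [act, X₂, SymProd.permHom_mul]
  let ρ₂ : ULift.{u} (Equiv.Perm (Fin d)) →* Aut X₂ :=
    { toFun := fun σ =>
        { hom := act σ.down
          inv := act σ.down⁻¹
          hom_inv_id := by rw [← act_mul, inv_mul_cancel, act_one]
          inv_hom_id := by rw [← act_mul, mul_inv_cancel, act_one] }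
      map_one' := Iso.ext act_one
      map_mul' := fun σ τ => Iso.ext (act_mul σ.down τ.down) }
  let iH : ULift.{u} (Equiv.Perm (Fin d)) →* ULift.{u} (Equiv.Perm (Fin d) × Equiv.Perm (Fin e)) :=
    { toFun := fun σ => ⟨(σ.down, 1)⟩
      map_one' := rfl
      map_mul' := fun σ τ => ULift.ext _ _ (Prod.ext rfl (one_mul _).symm) }
  let iK : ULift.{u} (Equiv.Perm (Fin e)) →* ULift.{u} (Equiv.Perm (Fin d) × Equiv.Perm (Fin e)) :=
    { toFun := fun σ => ⟨(1, σ.down)⟩
      map_one' := rfl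
      map_mul' := fun σ τ => ULift.ext _ _ (Prod.ext (one_mul _).symm rfl) }
  have sq₁ : IsPullback (pullback.snd A B) p₁ qZ (pullback.snd A pQ) := by
    refine IsPullback.of_bot ?_ (by simp [p₁]) (IsPullback.of_hasPullback A pQ).flip
    rw [hqZ.over]
    simpa [p₁] using (IsPullback.of_hasPullback A B).flip
  have sq₂ : IsPullback (pullback.fst A pQ) p₂ qX (pullback.fst pP pQ) := by
    refine IsPullback.of_bot ?_ (by simp [p₂]) (IsPullback.of_hasPullback pP pQ)
    rw [hqX.over]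
    simpa [p₂] using IsPullback.of_hasPullback A pQ
  have hinvX : ∀ σ, SymProd.permHom f d σ ≫ qX = qX := fun σ => hqX.isQuot.inv ⟨σ⟩
  have hinvZ : ∀ σ, SymProd.permHom g e σ ≫ qZ = qZ := fun σ => hqZ.isQuot.inv ⟨σ⟩
  have hK₁ : ∀ σ : ULift.{u} (Equiv.Perm (Fin e)), ((ρ.comp iK) σ).hom ≫ pullback.snd A B =
      pullback.snd A B ≫ (SymProd.permActU g e σ).hom := fun σ => (hρ (iK σ)).2
  have hK₂ : ∀ σ : ULift.{u} (Equiv.Perm (Fin e)), ((ρ.comp iK) σ).hom ≫ p₁ = p₁ := fun σ => by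
    apply pullback.hom_ext
    · simp only [p₁, pullback.map, MonoidHom.comp_apply, Category.assoc, pullback.lift_fst, Category.comp_id]
      exact ((hρ (iK σ)).1).trans (by simp [iK, SymProd.permHom_one, A, B])
    · simp only [p₁, pullback.map, MonoidHom.comp_apply, Category.assoc, pullback.lift_snd]
      rw [reassoc_of% (hρ (iK σ)).2, hinvZ]
  have hH₂ : ∀ σ : ULift.{u} (Equiv.Perm (Fin d)), (ρ₂ σ).hom ≫ p₂ = p₂ := fun σ => by
    apply pullback.hom_ext <;> simp [ρ₂, act, p₂, X₂, hinvX]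
  have hH₁ : ∀ σ : ULift.{u} (Equiv.Perm (Fin d)), (ρ₂ σ).hom ≫ pullback.fst A pQ =
      pullback.fst A pQ ≫ (SymProd.permActU f d σ).hom := fun σ => by
    simp [ρ₂, act, X₂]
  have hquot : SGA1.IsQuot (ρ.comp iK) p₁ ∧ SGA1.IsQuot ρ₂ p₂ := by
    rcases h with ⟨hf, hg⟩ | hN
    · haveI : Flat A := SymProdCmp.flat_base f d
      haveI : Flat pQ := SymProdCmp.flat_symProd hqZ
      exact ⟨QuotLib.isQuot_baseChange hqZ.isQuot sq₁ hK₁ hK₂, QuotLib.isQuot_baseChange hqX.isQuot sq₂ hH₁ hH₂⟩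
    · constructor
      · refine SymProdCmp.isQuot_baseChange_of_isUnit ?_ hqZ.isQuot sq₁ hK₁ hK₂
        have := (hN _ (Nat.card_pos (α := ULift.{u} (Equiv.Perm (Fin e))))).map (pullback.snd A pQ ≫ pQ).appTop.hom
        rwa [map_natCast] at this
      · refine SymProdCmp.isQuot_baseChange_of_isUnit ?_ hqX.isQuot sq₂ hH₁ hH₂
        have := (hN _ (Nat.card_pos (α := ULift.{u} (Equiv.Perm (Fin d))))).map (pullback.snd pP pQ ≫ pQ).appTop.hom
        rwa [map_natCast] at this
  have hM : pullback.map A B pP pQ qX qZ (𝟙 S) ((Category.comp_id _).trans hqX.over.symm)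
      ((Category.comp_id _).trans hqZ.over.symm) = p₁ ≫ p₂ := by
    apply pullback.hom_ext <;> simp [p₁, p₂, X₂]
  rw [hM]
  refine isQuot_comp iH iK (fun x => ⟨⟨x.down.1⟩, ⟨x.down.2⟩, ULift.ext _ _ (Prod.ext (mul_one _).symm (one_mul _).symm)⟩)
    hquot.1 hquot.2 fun σ => ?_
  apply pullback.hom_ext
  · simp only [p₁, pullback.map, ρ₂, act, X₂, MonoidHom.coe_mk, OneHom.coe_mk, Category.assoc, pullback.lift_fst,
      pullback.lift_fst_assoc, Category.comp_id]
    exact (hρ (iH σ)).1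
  · simp only [p₁, pullback.map, ρ₂, act, X₂, MonoidHom.coe_mk, OneHom.coe_mk, Category.assoc, pullback.lift_snd,
      pullback.lift_snd_assoc, Category.comp_id]
    rw [reassoc_of% (hρ (iH σ)).2]
    simp [iH, SymProd.permHom_one, A, B]

end Groth.Agent.S13395
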