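import Groth.Statements.S13404
import Groth.Agent.HenselLib.Perm
import Mathlib.Algebra.Algebra.Shrink
import Mathlib.RingTheory.Artinian.Module
import Mathlib.RingTheory.Finiteness.Small
-- import your own Groth.Agent.* helpers here

set_option autoImplicit false
universe u v
open Hopf

namespace Groth.Agent.S13404

open scoped TensorProduct

/-- In a finite local algebra over a local ring some power of the maximal ideal lies in `m`. -/
theorem exists_pow_le {R : Type u} [CommRing R] [IsLocalRing R] (B : Type v) [CommRing B] [IsLocalRing B]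
    [Algebra R B] [Module.Finite R B] :
    ∃ N, IsLocalRing.maximalIdeal B ^ N ≤ (IsLocalRing.maximalIdeal R).map (algebraMap R B) := by
  classical
  set m := IsLocalRing.maximalIdeal R
  letI : Field (R ⧸ m) := Ideal.Quotient.field m
  set M := m.map (algebraMap R B)
  haveI : Module.Finite R (B ⧸ M) := Module.Finite.of_surjective
    ((Ideal.Quotient.mkₐ R M).toLinearMap) Ideal.Quotient.mk_surjective
  haveI : Module.Finite (R ⧸ m) (B ⧸ M) := Module.Finite.of_restrictScalars_finite R _ _
  haveI : IsArtinianRing (B ⧸ M) := IsArtinianRing.of_finite (R ⧸ m) _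
  obtain ⟨N, hN⟩ := IsArtinianRing.isNilpotent_jacobson_bot (R := B ⧸ M)
  have hle : (IsLocalRing.maximalIdeal B).map (Ideal.Quotient.mk M) ≤ (⊥ : Ideal (B ⧸ M)).jacobson := by
    refine le_sInf ?_
    rintro P ⟨-, hP⟩
    haveI := hP
    have h := Ideal.map_comap_of_surjective (Ideal.Quotient.mk M) Ideal.Quotient.mk_surjective P
    rw [← h]
    exact Ideal.map_mono (IsLocalRing.eq_maximalIdeal
      (Ideal.comap_isMaximal_of_surjective (Ideal.Quotient.mk M) Ideal.Quotient.mk_surjective)).ge
  refine ⟨N, fun x hx => ?_⟩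
  have h2 := Ideal.mem_map_of_mem (Ideal.Quotient.mk M) hx
  rw [Ideal.map_pow] at h2
  have h3 := Ideal.pow_right_mono hle N h2
  rw [hN] at h3
  exact Ideal.Quotient.eq_zero_iff_mem.1 ((Submodule.mem_bot _).1 h3)

/-- A finite local algebra over a Henselian local ring is Henselian. -/
theorem henselian_finite {R : Type u} [CommRing R] [HenselianLocalRing R] (B : Type v) [CommRing B]
    [IsLocalRing B] [Algebra R B] [Module.Finite R B] : HenselianLocalRing B := by
  haveI : Small.{u} B := Module.Finite.small R B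
  let e : Shrink.{u} B ≃ₐ[R] B := Shrink.algEquiv R B
  haveI : Module.Finite R (Shrink.{u} B) := Module.Finite.equiv e.symm.toLinearEquiv
  haveI : IsLocalRing (Shrink.{u} B) := IsLocalRing.of_surjective' (e.symm : B →+* Shrink.{u} B) e.symm.surjective
  let m := IsLocalRing.maximalIdeal R
  haveI : HenselianRing R m :=
    { jac := (IsLocalRing.jacobson_eq_maximalIdeal ⊥ bot_ne_top).ge
      is_henselian := fun f hf a₀ h1 h2 => HenselianLocalRing.is_henselian f hf a₀ h1 (by
        by_contra hu
        have h0 : Ideal.Quotient.mk m (f.derivative.eval a₀) = 0 :=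
          Ideal.Quotient.eq_zero_iff_mem.2 ((IsLocalRing.mem_maximalIdeal _).2 hu)
        rw [h0] at h2
        haveI : Nontrivial (R ⧸ m) := Ideal.Quotient.nontrivial_iff.2 (IsLocalRing.maximalIdeal.isMaximal R).ne_top
        exact not_isUnit_zero h2) }
  haveI := HenselLib.henselianRing_map_of_isIntegral (I := m) (B := Shrink.{u} B)
  obtain ⟨N, hN⟩ := exists_pow_le (R := R) (Shrink.{u} B)
  haveI : HenselianRing (Shrink.{u} B) (IsLocalRing.maximalIdeal (Shrink.{u} B)) :=
    HenselLib.henselianRing_of_le_radical (J := m.map (algebraMap R (Shrink.{u} B)))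
      fun x hx => ⟨N, hN (Ideal.pow_mem_pow hx N)⟩
  have hmax : ∀ x : B, x ∈ IsLocalRing.maximalIdeal B ↔ e.symm x ∈ IsLocalRing.maximalIdeal (Shrink.{u} B) := by
    intro x
    rw [IsLocalRing.mem_maximalIdeal, IsLocalRing.mem_maximalIdeal, mem_nonunits_iff, mem_nonunits_iff]
    exact ⟨fun h hu => h (by simpa using hu.map e), fun h hu => h (hu.map e.symm)⟩
  refine ⟨fun f hf a₀ h1 h2 => ?_⟩
  let φ : B →+* Shrink.{u} B := (e.symm : B →+* Shrink.{u} B)
  obtain ⟨a, ha, ha'⟩ := HenselianRing.is_henselian (I := IsLocalRing.maximalIdeal (Shrink.{u} B))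
    (f.map φ) (hf.map φ) (φ a₀)
    (by rw [Polynomial.eval_map_apply]; exact (hmax _).1 h1)
    (by rw [Polynomial.derivative_map, Polynomial.eval_map_apply]; exact (h2.map φ).map _)
  refine ⟨e a, ?_, ?_⟩
  · have ha0 : Polynomial.eval (φ (e a)) (f.map φ) = 0 := by
      rw [show φ (e a) = a from e.symm_apply_apply a]; exact ha
    rw [Polynomial.eval_map_apply] at ha0
    exact e.symm.injective (ha0.trans (map_zero e.symm).symm)
  · rw [hmax, map_sub, e.symm_apply_apply]
    exact ha'

/-- Idempotents of `B ⊗ B` taking the value `1` at the origin are trivial. -/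
theorem eq_one_of_idem {R : Type u} [CommRing R] [IsLocalRing R] (B : Type v) [CommRing B] [IsLocalRing B]
    [Algebra R B] [Module.Finite R B] (ε : B →ₐ[R] R) {x : B ⊗[R] B} (hx : IsIdempotentElem x)
    (h1 : Algebra.TensorProduct.lift ε ε (fun _ _ => mul_comm _ _) x = 1) : x = 1 := by
  classical
  set m := IsLocalRing.maximalIdeal R
  let il : B →ₐ[R] B ⊗[R] B := Algebra.TensorProduct.includeLeft
  let ir : B →ₐ[R] B ⊗[R] B := Algebra.TensorProduct.includeRight
  let Kε : Ideal B := RingHom.ker ε
  have hK : Kε ≤ IsLocalRing.maximalIdeal B := IsLocalRing.le_maximalIdeal (RingHom.ker_ne_top ε)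
  let P : Ideal (B ⊗[R] B) := Kε.map il ⊔ Kε.map ir
  let E := Algebra.TensorProduct.lift ε ε (fun _ _ => mul_comm _ _)
  have hP : ∀ t : B ⊗[R] B, t - algebraMap R _ (E t) ∈ P := by
    intro t
    induction t using TensorProduct.induction_on with
    | zero => rw [map_zero, map_zero, sub_zero]; exact P.zero_mem
    | tmul a c =>
      have key : a ⊗ₜ[R] c - algebraMap R (B ⊗[R] B) (ε a * ε c) =
          il (a - algebraMap R B (ε a)) * ir c + algebraMap R _ (ε a) * ir (c - algebraMap R B (ε c)) := by
        rw [map_sub, map_sub, AlgHom.commutes, AlgHom.commutes, map_mul]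
        rw [show a ⊗ₜ[R] c = il a * ir c by simp [il, ir]]
        ring
      rw [show E (a ⊗ₜ[R] c) = ε a * ε c from Algebra.TensorProduct.lift_tmul _ _ _ _ _, key]
      refine P.add_mem (P.mul_mem_right _ (Ideal.mem_sup_left (Ideal.mem_map_of_mem il ?_)))
        (P.mul_mem_left _ (Ideal.mem_sup_right (Ideal.mem_map_of_mem ir ?_))) <;>
      · rw [RingHom.mem_ker, map_sub, AlgHom.commutes]
        exact sub_self _
    | add a c ha hc =>
      rw [map_add, map_add, add_sub_add_comm]
      exact P.add_mem ha hc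
  obtain ⟨N, hN⟩ := exists_pow_le (R := R) B
  let M := m.map (algebraMap R (B ⊗[R] B))
  have hpow : ∀ φ : B →ₐ[R] B ⊗[R] B, (Kε.map φ) ^ N ≤ M := fun φ => by
    rw [← Ideal.map_pow]
    refine (Ideal.map_mono ((Ideal.pow_right_mono hK N).trans hN)).trans ?_
    change Ideal.map (φ : B →+* B ⊗[R] B) (Ideal.map (algebraMap R B) m) ≤ M
    rw [Ideal.map_map, AlgHom.comp_algebraMap]
  have hP2 : P ^ (N + N) ≤ M := (Ideal.sup_pow_add_le_pow_sup_pow).trans (sup_le (hpow il) (hpow ir))
  have hy : (1 - x) ∈ M := by
    have h0 := hP (1 - x)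
    rw [map_sub, map_one, h1, sub_self, map_zero, sub_zero] at h0
    have := hP2 (Ideal.pow_mem_pow h0 (N + N))
    rcases Nat.eq_zero_or_pos (N + N) with h | h
    · have htop : M = ⊤ := top_le_iff.1 (by rw [← Ideal.one_eq_top, ← pow_zero P, ← h]; exact hP2)
      rw [htop]; trivial
    · rwa [hx.one_sub.pow_eq h.ne'] at this
  have hjac : M ≤ (⊥ : Ideal (B ⊗[R] B)).jacobson := by
    refine le_sInf ?_
    rintro Q ⟨-, hQ⟩
    haveI := hQ
    haveI : Algebra.IsIntegral R (B ⊗[R] B) := Algebra.IsIntegral.of_finite R _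
    exact Ideal.map_le_iff_le_comap.2
      (IsLocalRing.eq_maximalIdeal (Ideal.isMaximal_comap_of_isIntegral_of_isMaximal Q)).ge
  have hu : IsUnit x := by
    obtain ⟨u, hu⟩ := Ideal.mem_jacobson_bot.1 (hjac hy) (-1)
    rw [show (1 - x) * -1 + 1 = x by ring] at hu
    exact ⟨u, hu⟩
  exact hu.mul_left_cancel ((show x * x = x from hx).trans (mul_one x).symm)

/-- Let R be a henselian local ring and G = Spec A a finite flat group scheme over R (A a commutative
Hopf algebra over R, finite and flat as an R-module; G need not be commutative). Let e be an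
idempotent of A on which the counit takes the value 1 and such that A/(1 - e) is a local ring, so
that Spec A/(1 - e) is the connected component G⁰ of G containing the unit section. Then the ideal
(1 - e) is a Hopf ideal (G⁰ is a closed subgroup scheme of G), A/(1 - e) is a henselian local ring
with the same residue field as R (the composite R → A/(1 - e) → residue field is surjective), and
A/(1 - e) is flat over R. (The published statement also asserts that G⁰ is normal in G; this row
does not state normality.) -/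
theorem result (R : Type u) [CommRing R] [HenselianLocalRing R]
    (A : Type v) [CommRing A] [HopfAlgebra R A] [Module.Finite R A] [Module.Flat R A]
    (e : A) (he : IsIdempotentElem e) (hε : Bialgebra.counitAlgHom R A e = 1)
    [IsLocalRing (A ⧸ Ideal.span ({1 - e} : Set A))] :
    (Ideal.span ({1 - e} : Set A)).IsHopfIdeal R ∧ HenselianLocalRing (A ⧸ Ideal.span ({1 - e} : Set A)) ∧
      Function.Surjective (⇑(IsLocalRing.residue (A ⧸ Ideal.span ({1 - e} : Set A))) ∘ ⇑(algebraMap R (A ⧸ Ideal.span ({1 - e} : Set A)))) ∧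
      Module.Flat R (A ⧸ Ideal.span ({1 - e} : Set A)) := by
  set I : Ideal A := Ideal.span ({1 - e} : Set A)
  haveI : Module.Finite R (A ⧸ I) := Module.Finite.of_surjective
    ((Ideal.Quotient.mkₐ R I).toLinearMap) Ideal.Quotient.mk_surjective
  let εA := Bialgebra.counitAlgHom R A
  have hεI : ∀ a ∈ I, εA a = 0 := fun a ha => by
    obtain ⟨c, rfl⟩ := Ideal.mem_span_singleton'.1 ha
    rw [map_mul, map_sub, map_one, hε, sub_self, mul_zero]
  let ε : (A ⧸ I) →ₐ[R] R := Ideal.Quotient.liftₐ I εA hεI
  have hεmk : ∀ a, ε (Ideal.Quotient.mk I a) = εA a := fun a => rfl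
  -- the counit side of the comultiplication
  have hΔ : ∀ a : A, Algebra.TensorProduct.lift ε ε (fun _ _ => mul_comm _ _)
      (Algebra.TensorProduct.map (Ideal.Quotient.mkₐ R I) (Ideal.Quotient.mkₐ R I)
        (Bialgebra.comulAlgHom R A a)) = εA a := by
    intro a
    have h : ∀ t : A ⊗[R] A, Algebra.TensorProduct.lift ε ε (fun _ _ => mul_comm _ _)
        (Algebra.TensorProduct.map (Ideal.Quotient.mkₐ R I) (Ideal.Quotient.mkₐ R I) t) =
        TensorProduct.lid R R (TensorProduct.map (Coalgebra.counit (R := R) (A := A))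
          (Coalgebra.counit (R := R) (A := A)) t) := by
      intro t
      induction t using TensorProduct.induction_on with
      | zero => simp
      | tmul x y =>
        erw [Algebra.TensorProduct.lift_tmul]
      | add x y hx hy => simp only [map_add, hx, hy]
    rw [h]
    have hc := Coalgebra.rTensor_counit_comul (R := R) a
    have h2 : TensorProduct.map (Coalgebra.counit (R := R) (A := A)) (Coalgebra.counit (R := R) (A := A))
        (Coalgebra.comul a) = LinearMap.lTensor R Coalgebra.counit
          (LinearMap.rTensor A Coalgebra.counit (Coalgebra.comul a)) := by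
      exact (LinearMap.congr_fun (LinearMap.lTensor_comp_rTensor (R := R) _ _ _) _).symm
    rw [Bialgebra.comulAlgHom_apply, h2, hc]
    simp [εA]
  have hco : (I.restrictScalars R).IsCoideal := by
    refine ⟨fun a ha => hεI a ha, fun a ha => ?_⟩
    let Δ := (Algebra.TensorProduct.map (Ideal.Quotient.mkₐ R I) (Ideal.Quotient.mkₐ R I)).comp
      (Bialgebra.comulAlgHom R A)
    have h1 : Δ e = 1 := eq_one_of_idem (A ⧸ I) ε (he.map Δ) ((hΔ e).trans hε)
    obtain ⟨c, rfl⟩ := Ideal.mem_span_singleton'.1 ha
    have h0 : Δ (c * (1 - e)) = 0 := by rw [map_mul, map_sub, map_one, h1, sub_self, mul_zero]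
    let j : (A ⧸ I) →ₗ[R] A ⧸ I.restrictScalars R :=
      { toFun := fun x => x, map_add' := fun _ _ => rfl, map_smul' := fun _ _ => rfl }
    have hj : TensorProduct.map (I.restrictScalars R).mkQ (I.restrictScalars R).mkQ
        (Coalgebra.comul (R := R) (c * (1 - e))) = TensorProduct.map j j (Δ (c * (1 - e))) := by
      change _ = TensorProduct.map j j (TensorProduct.map (Ideal.Quotient.mkₐ R I).toLinearMap
        (Ideal.Quotient.mkₐ R I).toLinearMap (Coalgebra.comul (R := R) (c * (1 - e))))
      change TensorProduct.map (j ∘ₗ (Ideal.Quotient.mkₐ R I).toLinearMap)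
        (j ∘ₗ (Ideal.Quotient.mkₐ R I).toLinearMap) _ = _
      rw [TensorProduct.map_comp]
      rfl
    rw [hj, h0, map_zero]
  have hSe : Ideal.Quotient.mk I (HopfAlgebra.antipode R e) = 1 := by
    have hid : IsIdempotentElem (Ideal.Quotient.mk I (HopfAlgebra.antipodeAlgHom R A e)) :=
      (he.map (HopfAlgebra.antipodeAlgHom R A)).map (Ideal.Quotient.mk I)
    have hu : IsUnit (Ideal.Quotient.mk I (HopfAlgebra.antipodeAlgHom R A e)) := by
      by_contra hnu
      have hK : ε (Ideal.Quotient.mk I (HopfAlgebra.antipodeAlgHom R A e)) = 1 := by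
        rw [hεmk]
        exact (HopfAlgebra.counit_antipode e).trans hε
      rcases IsLocalRing.isUnit_or_isUnit_one_sub_self (Ideal.Quotient.mk I (HopfAlgebra.antipodeAlgHom R A e)) with h | h
      · exact hnu h
      · have := h.map ε
        rw [map_sub, map_one, hK, sub_self] at this
        exact not_isUnit_zero this
    exact hu.mul_left_cancel (Eq.trans (show _ * _ = _ from hid) (mul_one _).symm)
  refine ⟨{ toIsCoideal := hco, antipode_mem := fun a ha => ?_ }, henselian_finite (R := R) (A ⧸ I), fun y => ?_, ?_⟩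
  · obtain ⟨c, rfl⟩ := Ideal.mem_span_singleton'.1 ha
    rw [← Ideal.Quotient.eq_zero_iff_mem]
    change Ideal.Quotient.mk I (HopfAlgebra.antipodeAlgHom R A (c * (1 - e))) = 0
    rw [map_mul, map_mul, map_sub, map_sub, map_one, map_one]
    rw [show Ideal.Quotient.mk I (HopfAlgebra.antipodeAlgHom R A e) = 1 from hSe, sub_self, mul_zero]
  · obtain ⟨x, rfl⟩ := IsLocalRing.residue_surjective y
    refine ⟨ε x, (sub_eq_zero.1 ?_).symm⟩
    change IsLocalRing.residue (A ⧸ I) x - IsLocalRing.residue (A ⧸ I) (algebraMap R (A ⧸ I) (ε x)) = 0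
    rw [← map_sub, IsLocalRing.residue_eq_zero_iff, IsLocalRing.mem_maximalIdeal, mem_nonunits_iff]
    intro hu
    have := hu.map ε
    rw [map_sub, AlgHom.commutes] at this
    simp at this
  · have hl : ∀ a ∈ I, e * a = 0 := fun a ha => by
      obtain ⟨c, rfl⟩ := Ideal.mem_span_singleton'.1 ha
      linear_combination (-c) * he.eq
    let i : (A ⧸ I) →ₗ[R] A := (I.restrictScalars R).liftQ (LinearMap.mulLeft R e) (fun a ha => hl a ha)
    let q : A →ₗ[R] A ⧸ I := (Ideal.Quotient.mkₐ R I).toLinearMap
    refine Module.Flat.of_retract i q (LinearMap.ext fun x => ?_)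
    obtain ⟨a, rfl⟩ := Ideal.Quotient.mk_surjective x
    change Ideal.Quotient.mk I (e * a) = Ideal.Quotient.mk I a
    rw [Ideal.Quotient.eq]
    exact Ideal.mem_span_singleton'.2 ⟨-a, by ring⟩

end Groth.Agent.S13404
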