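import Groth.Statements.S13405
import Groth.Agent.ConnPresLib.Main
import Groth.Agent.S7949

set_option autoImplicit false
set_option backward.isDefEq.respectTransparency false
set_option backward.isDefEq.respectTransparency.types false
set_option maxRecDepth 8000
set_option maxHeartbeats 1000000
universe u v
open Hopf

namespace Groth.Agent.S13405

/-- Let R be a complete discrete valuation ring whose residue field is perfect of characteristic p > 0,
and let G = Spec A be a connected finite flat group scheme over R: A is a commutative Hopf algebra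
over R, finite and flat as an R-module, and a local ring. Then for some n there are natural numbers
e_1, ..., e_n and power series f_1, ..., f_n in R[[x_1, ..., x_n]] such that A is isomorphic as an
R-algebra to R[[x_1, ..., x_n]]/(f_1, ..., f_n) and each f_i is x_i ^ (p ^ e_i) plus a polynomial
all of whose coefficients lie in the maximal ideal of R and whose degree in x_i is less than p ^
e_i. -/
theorem result (R : Type u) [CommRing R] [IsDomain R]
    [IsDiscreteValuationRing R] [IsAdicComplete (IsLocalRing.maximalIdeal R) R]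
    (p : ℕ) [Fact p.Prime] [CharP (IsLocalRing.ResidueField R) p] [PerfectField (IsLocalRing.ResidueField R)]
    (A : Type v) [CommRing A] [HopfAlgebra R A] [Module.Finite R A] [Module.Flat R A] [IsLocalRing A] :
    ∃ (n : ℕ) (e : Fin n → ℕ) (g : Fin n → MvPolynomial (Fin n) R),
      (∀ i, (∀ d, (g i).coeff d ∈ IsLocalRing.maximalIdeal R) ∧ (g i).degreeOf i < p ^ e i) ∧
      Nonempty (A ≃ₐ[R] (MvPowerSeries (Fin n) R ⧸
        Ideal.span (Set.range fun i => (MvPowerSeries.X i : MvPowerSeries (Fin n) R) ^ p ^ e i + ↑(g i)))) := by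
  classical
  let κ := IsLocalRing.ResidueField R
  haveI : Module.Free R A := Module.free_of_flat_of_isLocalRing
  haveI : Nontrivial A := IsLocalRing.toNontrivial
  have hpos : 0 < Module.finrank R A := Module.finrank_pos
  haveI : Nontrivial (TensorProduct R κ A) := Module.nontrivial_of_finrank_pos (R := κ) (by
    rw [Module.finrank_baseChange]; exact hpos)
  haveI : IsLocalRing (TensorProduct R κ A) := by
    refine IsLocalRing.of_surjective' (Algebra.TensorProduct.includeRight : A →ₐ[R] TensorProduct R κ A).toRingHom
      fun z => ?_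
    induction z using TensorProduct.induction_on with
    | zero => exact ⟨0, map_zero _⟩
    | add s t hs ht =>
      obtain ⟨x, hx⟩ := hs; obtain ⟨y, hy⟩ := ht
      exact ⟨x + y, by rw [map_add, hx, hy]⟩
    | tmul c x =>
      obtain ⟨c', rfl⟩ := IsLocalRing.residue_surjective c
      refine ⟨c' • x, ?_⟩
      show TensorProduct.tmul R (1 : κ) (c' • x) = _
      rw [TensorProduct.tmul_smul, TensorProduct.smul_tmul', Algebra.smul_def, mul_one]
      rfl
  obtain ⟨r, e, -, ⟨E⟩⟩ := Groth.Agent.S7949.result κ (TensorProduct R κ A) p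
  let I := Ideal.span (Set.range fun i : Fin r => (MvPolynomial.X i : MvPolynomial (Fin r) κ) ^ p ^ e i)
  let φ0 : MvPolynomial (Fin r) κ →ₐ[κ] TensorProduct R κ A :=
    E.symm.toAlgHom.comp (Ideal.Quotient.mkₐ κ I)
  have hφ0 : Function.Surjective φ0 := fun z => by
    obtain ⟨w, hw⟩ := Ideal.Quotient.mk_surjective (E z)
    exact ⟨w, (congrArg E.symm hw).trans (E.symm_apply_apply z)⟩
  have hk : ∀ i, φ0 (MvPolynomial.X i) ^ p ^ e i = 0 := fun i => by
    show E.symm (Ideal.Quotient.mk I (MvPolynomial.X i)) ^ p ^ e i = 0
    rw [← map_pow, ← map_pow, Ideal.Quotient.eq_zero_iff_mem.2 (show MvPolynomial.X i ^ p ^ e i ∈ I from Ideal.subset_span ⟨i, rfl⟩), map_zero]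
  have hrank : Module.finrank R A = ∏ i, p ^ e i := by
    rw [← Module.finrank_baseChange (R := κ) (S := R) (M' := A), E.toLinearEquiv.finrank_eq]
    exact (HopfTruncLib.finrank_trunc (k := κ) (fun i => p ^ e i)).2
  obtain ⟨g, hg, hiso⟩ := ConnPresLib.exists_presentation R A (fun i => p ^ e i)
    (fun i => pow_pos (Fact.out : p.Prime).pos _) hrank φ0 hφ0 hk
  exact ⟨r, e, g, hg, hiso⟩

end Groth.Agent.S13405
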