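import Groth.Statements.S13406
import Groth.Agent.FontaineLib.Break
import Groth.Agent.FontaineLib.GroupLift
-- import your own Groth.Agent.* helpers here

set_option autoImplicit false
set_option maxHeartbeats 2000000
set_option backward.isDefEq.respectTransparency false
universe u
open Font

namespace Groth.Agent.S13406

/-- Let K be a finite extension of ℚ_p with ring of integers O (a complete discrete valuation ring of
characteristic zero with finite residue field of characteristic p) and absolute ramification index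
e, so that pO = m^e. Let Γ = Spec A be a finite flat commutative group scheme over O killed by p^n
with n ≥ 1: A is a finite flat commutative and cocommutative Hopf algebra over O whose p^n-th power
endomorphism factors through the counit. Let L ⊆ K̄ be the field generated over K = Frac O by the
coordinates of all K̄-points of Γ (the images of all O-algebra maps A → K̄), O_L the integral
closure of O in L, P its maximal ideal and e_{L/K} the ramification index. Then, writing the
different of O_L over O as P^d: (1) d < e_{L/K} · e · (n + 1/(p − 1)), i.e. v(𝔇_{L/K}) < e (n + 1/(p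
− 1)) for the valuation v with v(K^×) = ℤ; and (2) for every K-automorphism σ ≠ 1 of L and every j
such that σ acts trivially on O_L/P^j one has j + d ≤ e_{L/K} · e · (n + 1/(p − 1)) — this is the
statement that the upper-numbering ramification groups G^{(u)} of Gal(L/K) (numbered so that G^{(u)}
is the group usually written G^{u−1}) are trivial for u > e (n + 1/(p − 1)), rewritten through the
identity u_{L/K} = i_{L/K} + v(𝔇_{L/K}) between the largest u with G^{(u)} ≠ 1, the invariant
i_{L/K} = sup_{σ ≠ 1} min_{x ∈ O_L} v(σx − x) and the valuation of the different. -/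
theorem result
    (O : Type u) [CommRing O] [IsDomain O] [IsDiscreteValuationRing O]
    [IsAdicComplete (IsLocalRing.maximalIdeal O) O] [CharZero O] [Finite (IsLocalRing.ResidueField O)]
    (p : ℕ) [Fact p.Prime] (hp : (p : O) ∈ IsLocalRing.maximalIdeal O)
    (eK : ℕ) (heK : Ideal.span {(p : O)} = IsLocalRing.maximalIdeal O ^ eK)
    (A : Type u) [CommRing A] [HopfAlgebra O A] [Module.Finite O A] [Module.Flat O A] [Coalgebra.IsCocomm O A]
    (n : ℕ) (hn : 1 ≤ n)
    (hkill : SGA3b.powConv O A (p ^ n) = (Algebra.ofId O A).comp (Bialgebra.counitAlgHom O A))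
    (L : IntermediateField (FractionRing O) (AlgebraicClosure (FractionRing O)))
    (hL : L = IntermediateField.adjoin (FractionRing O)
      (⋃ φ : A →ₐ[O] AlgebraicClosure (FractionRing O), Set.range φ))
    [FiniteDimensional (FractionRing O) L] [Algebra.IsSeparable (FractionRing O) L]
    [Module.IsTorsionFree O (integralClosure O L)] (P : Ideal (integralClosure O L)) [P.IsMaximal] :
    ∃ d : ℕ, differentIdeal O (integralClosure O L) = P ^ d ∧
      (d : ℚ) < (P.ramificationIdx O : ℚ) * eK * (n + 1 / ((p : ℚ) - 1)) ∧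
      ∀ σ : L ≃ₐ[FractionRing O] L, σ ≠ AlgEquiv.refl → ∀ j : ℕ,
        (∀ x : (integralClosure O L), ∃ y ∈ P ^ j, algebraMap (integralClosure O L) L y = σ (algebraMap (integralClosure O L) L x) - algebraMap (integralClosure O L) L x) →
          (j : ℚ) + d ≤ (P.ramificationIdx O : ℚ) * eK * (n + 1 / ((p : ℚ) - 1)) := by
  classical
  haveI hG : IsGalois (FractionRing O) L := FontaineLib.isGalois_L hL
  haveI := FontaineLib.integers_dvr O L
  haveI := FontaineLib.integers_finite O L
  obtain ⟨π, hπ⟩ := IsDiscreteValuationRing.exists_irreducible O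
  obtain ⟨α, g, hadj, hirr, hsep⟩ := FontaineLib.exists_generator (O := O) (S := integralClosure O L)
  obtain rfl : P = IsLocalRing.maximalIdeal _ := IsLocalRing.eq_maximalIdeal inferInstance
  haveI := IsIntegralClosure.isIntegral_algebra O (A := integralClosure O L) L
  rw [FontaineLib.ramificationIdx_eq_ord hπ]
  set i : Gal(L/FractionRing O) → ℕ := fun τ => FontaineLib.ord (α - FontaineLib.galInt τ α) with hi
  have hne : ∀ τ : Gal(L/FractionRing O), τ ≠ 1 → α - FontaineLib.galInt τ α ≠ 0 := by
    intro τ hτ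
    have := FontaineLib.galInt_ne hadj 1 τ hτ
    rwa [one_mul, FontaineLib.galInt_one, ← sub_ne_zero] at this
  have hprod : ∀ s : Finset Gal(L/FractionRing O), (∀ τ ∈ s, τ ≠ 1) →
      ∏ τ ∈ s, (α - FontaineLib.galInt τ α) ≠ 0 ∧
      FontaineLib.ord (∏ τ ∈ s, (α - FontaineLib.galInt τ α)) = ∑ τ ∈ s, i τ := by
    intro s hs
    refine ⟨Finset.prod_ne_zero_iff.2 fun τ hτ => hne τ (hs τ hτ), ?_⟩
    induction s using Finset.induction with
    | empty => simp [FontaineLib.ord, IsDiscreteValuationRing.addVal_one]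
    | insert j t hj ih =>
      rw [Finset.prod_insert hj, Finset.sum_insert hj, FontaineLib.ord_mul (hne j (hs j (by simp)))
        (Finset.prod_ne_zero_iff.2 fun τ hτ => hne τ (hs τ (Finset.mem_insert_of_mem hτ))),
        ih fun τ hτ => hs τ (Finset.mem_insert_of_mem hτ)]
  obtain ⟨hp0', hpd⟩ := hprod (Finset.univ.erase 1) fun τ hτ => (Finset.mem_erase.1 hτ).1
  obtain ⟨n, rfl⟩ : ∃ k, n = k + 1 := ⟨n - 1, by omega⟩
  have hp0 : (p : O) ≠ 0 := Nat.cast_ne_zero.2 (Fact.out : p.Prime).ne_zero
  have hpK : FontaineLib.ord (p : O) = eK := FontaineLib.ord_eq_of_span hp0 heK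
  have heK0 : 0 < eK := by
    refine Nat.pos_of_ne_zero fun h => ?_
    exact (IsLocalRing.mem_maximalIdeal _).1 hp ((FontaineLib.ord_eq_zero_iff hp0).1 (hpK.trans h))
  have hk : WithConv.toConv (LinearMap.id : A →ₗ[O] A) ^ p ^ (n + 1) = 1 := by
    have h1 := AlgHom.toLinearMap_convPow (WithConv.toConv (AlgHom.id O A)) (p ^ (n + 1))
    rw [show (WithConv.toConv (AlgHom.id O A) ^ p ^ (n + 1)).ofConv =
      (Algebra.ofId O A).comp (Bialgebra.counitAlgHom O A) from hkill] at h1
    exact h1.symm
  set e := FontaineLib.ord (algebraMap O (integralClosure O L) π)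
  set d := ∑ τ ∈ Finset.univ.erase (1 : Gal(L/FractionRing O)), i τ
  have hkey : ∀ σ : Gal(L/FractionRing O), σ ≠ 1 →
      ((i σ : ℚ) + d) ≤ (e : ℚ) * eK * ((n + 1 : ℕ) + 1 / ((p : ℚ) - 1)) := by
    intro σ hσ
    have hnat := FontaineLib.break_le hL hadj hirr hsep hπ p hpK heK0 (pow_ne_zero (n + 1) hp0)
      (va := (n + 1) * eK) (by rw [FontaineLib.ord_pow hp0, hpK]) (by positivity)
      (FontaineLib.liftsUniquely_of_killed p hk) σ hσ
    have hp2 : 2 ≤ p := (Fact.out : p.Prime).two_le
    have hp1 : (0 : ℚ) < (p : ℚ) - 1 := by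
      have : (2 : ℚ) ≤ (p : ℚ) := by exact_mod_cast hp2
      linarith
    have h1 : (((p - 1) * (i σ + d) : ℕ) : ℚ) ≤ (((p - 1) * (e * ((n + 1) * eK)) + e * eK : ℕ) : ℚ) :=
      Nat.cast_le.2 hnat
    push_cast [Nat.cast_sub (show 1 ≤ p by omega)] at h1 ⊢
    refine le_of_mul_le_mul_left (h1.trans (le_of_eq ?_)) hp1
    field_simp
  refine ⟨d, ?_, ?_, fun σ hσ j hj => ?_⟩
  · rw [FontaineLib.differentIdeal_eq hadj, FontaineLib.span_eq_pow_ord hp0', hpd]
  · by_cases h : ∃ τ : Gal(L/FractionRing O), τ ≠ 1 ∧ 0 < i τ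
    · obtain ⟨τ, hτ, hpos⟩ := h
      have h1 : (0 : ℚ) < (i τ : ℚ) := Nat.cast_pos.2 hpos
      exact lt_of_lt_of_le (lt_add_of_pos_left _ h1) (hkey τ hτ)
    · push Not at h
      have hd0 : d = 0 := Finset.sum_eq_zero fun τ hτ => Nat.le_zero.1 (h τ (Finset.mem_erase.1 hτ).1)
      have he0 : 0 < e := by
        exact FontaineLib.ord_algebraMap_pos (FontaineLib.integers_injective O L) hπ
      have hp1 : (0 : ℚ) < (p : ℚ) - 1 := by
        have : (2 : ℚ) ≤ (p : ℚ) := by exact_mod_cast (Fact.out : p.Prime).two_le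
        linarith
      rw [hd0, Nat.cast_zero]
      positivity
  obtain ⟨y, hy, hye⟩ := hj α
  have hjle : j ≤ i σ := by
    have hy' : y = -(α - FontaineLib.galInt σ α) := by
      apply Subtype.ext
      rw [neg_sub]
      exact hye
    rw [hy', neg_mem_iff] at hy
    exact (FontaineLib.le_ord_iff (hne σ hσ)).2 hy
  refine le_trans ?_ (hkey σ hσ)
  have : (j : ℚ) ≤ (i σ : ℚ) := Nat.cast_le.2 hjle
  linarith

end Groth.Agent.S13406
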