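import Groth.Statements.S13407
import Mathlib.RingTheory.Flat.TorsionFree
import Mathlib.RingTheory.Localization.BaseChange
import Mathlib.RingTheory.HopfAlgebra.TensorProduct
-- import your own Groth.Agent.* helpers here

set_option autoImplicit false
universe u
open TensorProduct
open Hopf

namespace Groth.Agent.S13407

open TensorProduct in
theorem key {R : Type u} [CommRing R] {K : Type u} [Field K] [Algebra R K]
    {A : Type u} [CommRing A] [HopfAlgebra R A] (J' : Ideal A) (J : Ideal (K ⊗[R] A))
    (f : (A ⧸ J'.restrictScalars R) →ₗ[R] ((K ⊗[R] A) ⧸ J.restrictScalars K))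
    (hf : ∀ a, f (Submodule.mkQ (J'.restrictScalars R) a) = Submodule.mkQ (J.restrictScalars K) ((1 : K) ⊗ₜ[R] a)) (a : A) :
    TensorProduct.mapOfCompatibleSMul K R K ((K ⊗[R] A) ⧸ J.restrictScalars K) ((K ⊗[R] A) ⧸ J.restrictScalars K)
      (TensorProduct.map f f (TensorProduct.map (J'.restrictScalars R).mkQ (J'.restrictScalars R).mkQ (Coalgebra.comul a))) =
    TensorProduct.map (J.restrictScalars K).mkQ (J.restrictScalars K).mkQ (Coalgebra.comul (R := K) ((1 : K) ⊗ₜ[R] a)) := by
  rw [TensorProduct.comul_tmul]
  induction (Coalgebra.comul (R := R) a) using TensorProduct.induction_on with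
  | zero => simp
  | tmul x y => simp only [Submodule.mkQ_apply] at hf; simp [hf]
  | add x y hx hy => simp only [map_add, TensorProduct.tmul_add, hx, hy]


/-- Let R be a Dedekind domain with fraction field K and let G = Spec A be a finite flat group scheme
over R (A a commutative Hopf algebra over R, finite and flat as an R-module). Closed flat R-subgroup
schemes of G correspond one-to-one to closed K-subgroup schemes of the generic fibre G_K under H ↦
H_K: the map sending a Hopf ideal J' of A with A/J' flat over R to the ideal it generates in K ⊗_R A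
is a bijection onto the set of Hopf ideals of the Hopf algebra K ⊗_R A over K (its inverse takes a
Hopf ideal of K ⊗_R A to its preimage in A). -/
theorem result (R : Type u) [CommRing R] [IsDedekindDomain R]
    (K : Type u) [Field K] [Algebra R K] [IsFractionRing R K]
    (A : Type u) [CommRing A] [HopfAlgebra R A] [Module.Finite R A] [Module.Flat R A] :
    Set.BijOn (fun J' : Ideal A => Ideal.map (Algebra.TensorProduct.includeRight : A →ₐ[R] K ⊗[R] A) J')
      {J' : Ideal A | J'.IsHopfIdeal R ∧ Module.Flat R (A ⧸ J')}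
      {J : Ideal (K ⊗[R] A) | J.IsHopfIdeal K} := by
  classical
  let incl : A →ₐ[R] K ⊗[R] A := Algebra.TensorProduct.includeRight
  have hKinj : Function.Injective (algebraMap R K) := IsFractionRing.injective R K
  refine ⟨?_, ?_, ?_⟩
  · rintro J' ⟨hH, hflat⟩
    set J := Ideal.map incl J' with hJ
    let f : (A ⧸ J'.restrictScalars R) →ₗ[R] ((K ⊗[R] A) ⧸ J.restrictScalars K) :=
      (J'.restrictScalars R).liftQ (((J.restrictScalars K).mkQ.restrictScalars R).comp incl.toLinearMap)
        (fun a ha => (Submodule.Quotient.mk_eq_zero _).mpr (Ideal.mem_map_of_mem _ ha))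
    show J.IsHopfIdeal K
    let cK : K ⊗[R] A →+* K := (Bialgebra.counitAlgHom K (K ⊗[R] A)).toRingHom
    have h1 : J ≤ RingHom.ker cK := Ideal.map_le_iff_le_comap.mpr fun a ha => by
      show Coalgebra.counit (R := K) ((1 : K) ⊗ₜ[R] a) = 0
      simp [show Coalgebra.counit (R := R) a = 0 from hH.counit_eq_zero ha]
    let Φ := (Algebra.TensorProduct.map (Ideal.Quotient.mkₐ K J) (Ideal.Quotient.mkₐ K J)).comp (Bialgebra.comulAlgHom K (K ⊗[R] A))
    have h2 : J ≤ RingHom.ker Φ.toRingHom := Ideal.map_le_iff_le_comap.mpr fun a ha => by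
      show TensorProduct.map (J.restrictScalars K).mkQ (J.restrictScalars K).mkQ (Coalgebra.comul (R := K) ((1 : K) ⊗ₜ[R] a)) = 0
      rw [← key J' J f (fun _ => rfl), show TensorProduct.map _ _ (Coalgebra.comul a) = 0 from hH.map_mkQ_comul_eq_zero ha, map_zero, map_zero]
    let sK := (HopfAlgebra.antipodeAlgHom K (K ⊗[R] A)).toRingHom
    have h3 : J ≤ J.comap sK := Ideal.map_le_iff_le_comap.mpr fun a ha => by
      show HopfAlgebraStruct.antipode K ((1 : K) ⊗ₜ[R] a) ∈ J
      simpa [incl] using Ideal.mem_map_of_mem incl (hH.antipode_mem ha)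
    exact { counit_eq_zero := fun x hx => h1 hx, map_mkQ_comul_eq_zero := fun x hx => h2 hx, antipode_mem := fun x hx => h3 hx }
  · rintro J₁ ⟨-, hfl₁⟩ J₂ ⟨-, hfl₂⟩ heq
    have back : ∀ J₁ J₂ : Ideal A, Module.Flat R (A ⧸ J₁) → J₂.map incl ≤ J₁.map incl → J₂ ≤ J₁ := by
      intro J₁ J₂ h h12 a ha
      haveI := h
      let π : K ⊗[R] A →ₐ[R] K ⊗[R] (A ⧸ J₁) := Algebra.TensorProduct.map (AlgHom.id R K) (Ideal.Quotient.mkₐ R J₁)
      have : J₁.map incl ≤ RingHom.ker π.toRingHom := Ideal.map_le_iff_le_comap.mpr fun b hb => by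
        show π (incl b) = 0
        simp [π, incl, Ideal.Quotient.eq_zero_iff_mem.mpr hb]
      have h0 : π (incl a) = 0 := this (h12 (Ideal.mem_map_of_mem _ ha))
      refine Ideal.Quotient.eq_zero_iff_mem.mp (Algebra.TensorProduct.includeRight_injective (R := R) (A := K) hKinj ?_)
      rw [map_zero]; simpa [π, incl] using h0
    exact le_antisymm (back J₂ J₁ hfl₂ (le_of_eq heq)) (back J₁ J₂ hfl₁ (le_of_eq heq.symm))
  · intro J hJ
    have hJ' : J.IsHopfIdeal K := hJ
    set J' := J.comap incl with hJd
    let f : (A ⧸ J'.restrictScalars R) →ₗ[R] ((K ⊗[R] A) ⧸ J.restrictScalars K) :=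
      (J'.restrictScalars R).liftQ (((J.restrictScalars K).mkQ.restrictScalars R).comp incl.toLinearMap)
        (fun a ha => (Submodule.Quotient.mk_eq_zero _).mpr ha)
    have hf : Function.Injective f := by
      rw [injective_iff_map_eq_zero]
      intro x hx
      obtain ⟨a, rfl⟩ := Submodule.Quotient.mk_surjective _ x
      exact (Submodule.Quotient.mk_eq_zero _).mpr ((Submodule.Quotient.mk_eq_zero (J.restrictScalars K)).mp hx)
    haveI : Module.IsTorsionFree R ((K ⊗[R] A) ⧸ J.restrictScalars K) := .of_smul_eq_zero fun r x h => by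
      rw [← algebraMap_smul K r x, smul_eq_zero] at h
      exact h.imp_left (fun h => hKinj (h.trans (map_zero _).symm))
    haveI htf' : Module.IsTorsionFree R (A ⧸ J'.restrictScalars R) :=
      Function.Injective.moduleIsTorsionFree f hf (fun r x => f.map_smul r x)
    haveI hfl' : Module.Flat R (A ⧸ J'.restrictScalars R) := inferInstance
    refine ⟨J', ⟨?_, Module.Flat.of_linearEquiv (Submodule.Quotient.restrictScalarsEquiv R J').symm⟩, ?_⟩
    · have hcs := IsLocalization.tensorProduct_compatibleSMul (R := R) (nonZeroDivisors R) K ((K ⊗[R] A) ⧸ J.restrictScalars K) ((K ⊗[R] A) ⧸ J.restrictScalars K)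
      have hinj : Function.Injective fun z => TensorProduct.mapOfCompatibleSMul K R K ((K ⊗[R] A) ⧸ J.restrictScalars K) ((K ⊗[R] A) ⧸ J.restrictScalars K) (TensorProduct.map f f z) := by
        refine Function.Injective.comp ?_ ?_
        · exact (TensorProduct.equivOfCompatibleSMul K R K ((K ⊗[R] A) ⧸ J.restrictScalars K) ((K ⊗[R] A) ⧸ J.restrictScalars K)).injective
        · show Function.Injective (TensorProduct.map f f)
          rw [show TensorProduct.map f f = (LinearMap.rTensor _ f).comp (LinearMap.lTensor _ f) by rw [LinearMap.rTensor_comp_lTensor]]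
          exact (Module.Flat.rTensor_preserves_injective_linearMap f hf).comp (Module.Flat.lTensor_preserves_injective_linearMap f hf)
      exact {
        counit_eq_zero := fun a ha => hKinj (by
          have := hJ'.counit_eq_zero (show (1 : K) ⊗ₜ[R] a ∈ J from ha)
          simpa [Algebra.algebraMap_eq_smul_one] using this)
        map_mkQ_comul_eq_zero := fun a ha => hinj (by
          show TensorProduct.mapOfCompatibleSMul K R K _ _ (TensorProduct.map f f (TensorProduct.map (J'.restrictScalars R).mkQ (J'.restrictScalars R).mkQ (Coalgebra.comul a))) = _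
          rw [key J' J f (fun _ => rfl)]
          simpa using hJ'.map_mkQ_comul_eq_zero (show (1 : K) ⊗ₜ[R] a ∈ J from ha))
        antipode_mem := fun a ha => by
          have := hJ'.antipode_mem (show (1 : K) ⊗ₜ[R] a ∈ J from ha)
          show (1 : K) ⊗ₜ[R] HopfAlgebraStruct.antipode R a ∈ J
          simpa using this }
    · refine le_antisymm Ideal.map_comap_le fun z hz => ?_
      have hex : ∀ z : K ⊗[R] A, ∃ (s : nonZeroDivisors R) (a : A), algebraMap R K s • z = (1 : K) ⊗ₜ[R] a := by
        intro z
        induction z using TensorProduct.induction_on with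
        | zero => exact ⟨1, 0, by simp⟩
        | tmul k a =>
          obtain ⟨⟨r, s⟩, hrs⟩ := IsLocalization.surj (nonZeroDivisors R) k
          refine ⟨s, r • a, ?_⟩
          rw [TensorProduct.smul_tmul', smul_eq_mul, mul_comm, hrs, TensorProduct.tmul_smul, TensorProduct.smul_tmul', Algebra.algebraMap_eq_smul_one]
        | add x y hx hy =>
          obtain ⟨s, a, hs⟩ := hx
          obtain ⟨t, b, ht⟩ := hy
          refine ⟨s * t, (t : R) • a + (s : R) • b, ?_⟩
          rw [TensorProduct.tmul_add, TensorProduct.tmul_smul, TensorProduct.tmul_smul, ← hs, ← ht, Submonoid.coe_mul, map_mul, smul_add, algebra_compatible_smul K (t : R), algebra_compatible_smul K (s : R), smul_smul, smul_smul]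
          congr 2
          exact mul_comm _ _
      obtain ⟨s, a, hsa⟩ := hex z
      have hs0 : algebraMap R K s ≠ 0 := IsLocalization.map_units K s |>.ne_zero
      have : z = (algebraMap R K s)⁻¹ • (1 : K) ⊗ₜ[R] a := by rw [← hsa, inv_smul_smul₀ hs0]
      rw [this]
      refine Submodule.smul_of_tower_mem _ _ (Ideal.mem_map_of_mem incl ?_)
      show (1 : K) ⊗ₜ[R] a ∈ J
      rw [← hsa]
      exact Submodule.smul_of_tower_mem _ _ hz

end Groth.Agent.S13407
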