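import Groth.Statements.S13408
import Groth.Agent.FontaineLib.Break
-- import your own Groth.Agent.* helpers here

set_option autoImplicit false
set_option maxHeartbeats 2000000
set_option backward.isDefEq.respectTransparency false
universe u
open Font

namespace Groth.Agent.S13408

/-- Let O be a complete discrete valuation ring with fraction field K of characteristic zero and perfect
residue field of characteristic p, with pO = m^e, and let A be an O-algebra isomorphic to O[[x_1,
..., x_m]]/(f_1, ..., f_m), finite and flat over O, with a non-zero element a of O, aO = m^v, such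
that the Kähler differentials of A over O form a free A/aA-module. Let L ⊆ K̄ be the field generated
over K by the images of all O-algebra maps A → K̄ (the field of definition of the K̄-points of Y =
Spec A), O_L the integral closure of O in L, P its maximal ideal, e_{L/K} the ramification index and
P^d the different. Then u_{L/K} ≤ v + e/(p − 1) for the ramification invariant u_{L/K} = i_{L/K} +
v(𝔇_{L/K}) (the largest upper-numbering break of Gal(L/K), in the numbering where G^{(u)} is the
group usually written G^{u−1}; here i_{L/K} = sup_{σ ≠ 1} min_{x ∈ O_L} v(σx − x) and v(K^×) = ℤ);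
explicitly, for every K-automorphism σ ≠ 1 of L and every j such that σ acts trivially on O_L/P^j
one has j + d ≤ e_{L/K} · (v + e/(p − 1)). (The published text places this under 'K a complete
discretely valued field of mixed characteristic'; the residue field is taken perfect here, which the
proof uses through O_L = O_K[π_L] (π_L a uniformizer of L).) -/
theorem result
    (O : Type u) [CommRing O] [IsDomain O] [IsDiscreteValuationRing O]
    [IsAdicComplete (IsLocalRing.maximalIdeal O) O] [CharZero O] [PerfectField (IsLocalRing.ResidueField O)]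
    (p : ℕ) [Fact p.Prime] [CharP (IsLocalRing.ResidueField O) p]
    (eK : ℕ) (heK : Ideal.span {(p : O)} = IsLocalRing.maximalIdeal O ^ eK)
    (m : ℕ) (f : Fin m → MvPowerSeries (Fin m) O) (A : Type u) [CommRing A] [Algebra O A]
    (eA : (MvPowerSeries (Fin m) O ⧸ Ideal.span (Set.range f)) ≃ₐ[O] A)
    [Module.Finite O A] [Module.Flat O A] (a : O) (ha : a ≠ 0) (va : ℕ)
    (hva : Ideal.span {a} = IsLocalRing.maximalIdeal O ^ va) (r : ℕ)
    (hΩ : Nonempty (KaehlerDifferential O A ≃ₗ[A] (Fin r → A ⧸ Ideal.span {algebraMap O A a})))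
    (L : IntermediateField (FractionRing O) (AlgebraicClosure (FractionRing O)))
    (hL : L = IntermediateField.adjoin (FractionRing O)
      (⋃ φ : A →ₐ[O] AlgebraicClosure (FractionRing O), Set.range φ))
    [FiniteDimensional (FractionRing O) L] [Algebra.IsSeparable (FractionRing O) L]
    [Module.IsTorsionFree O (integralClosure O L)] (P : Ideal (integralClosure O L)) [P.IsMaximal] :
    ∃ d : ℕ, differentIdeal O (integralClosure O L) = P ^ d ∧
      ∀ σ : L ≃ₐ[FractionRing O] L, σ ≠ AlgEquiv.refl → ∀ j : ℕ,
        (∀ x : (integralClosure O L), ∃ y ∈ P ^ j, algebraMap (integralClosure O L) L y = σ (algebraMap (integralClosure O L) L x) - algebraMap (integralClosure O L) L x) →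
          (j : ℚ) + d ≤ (P.ramificationIdx O : ℚ) * (va + eK / ((p : ℚ) - 1)) := by
  classical
  haveI hG : IsGalois (FractionRing O) L := FontaineLib.isGalois_L hL
  haveI := FontaineLib.integers_dvr O L
  haveI := FontaineLib.integers_finite O L
  obtain ⟨π, hπ⟩ := IsDiscreteValuationRing.exists_irreducible O
  obtain ⟨α, g, hadj, hirr, hsep⟩ := FontaineLib.exists_generator (O := O) (S := integralClosure O L)
  obtain rfl : P = IsLocalRing.maximalIdeal _ := IsLocalRing.eq_maximalIdeal inferInstance
  haveI := IsIntegralClosure.isIntegral_algebra O (A := integralClosure O L) L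
  rw [FontaineLib.ramificationIdx_eq_ord hπ]
  set i : Gal(L/FractionRing O) → ℕ := fun τ => FontaineLib.ord (α - FontaineLib.galInt τ α) with hi
  have hne : ∀ τ : Gal(L/FractionRing O), τ ≠ 1 → α - FontaineLib.galInt τ α ≠ 0 := by
    intro τ hτ
    have := FontaineLib.galInt_ne hadj 1 τ hτ
    rwa [one_mul, FontaineLib.galInt_one, ← sub_ne_zero] at this
  have hprod : ∀ s : Finset Gal(L/FractionRing O), (∀ τ ∈ s, τ ≠ 1) →
      ∏ τ ∈ s, (α - FontaineLib.galInt τ α) ≠ 0 ∧
      FontaineLib.ord (∏ τ ∈ s, (α - FontaineLib.galInt τ α)) = ∑ τ ∈ s, i τ := by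
    intro s hs
    refine ⟨Finset.prod_ne_zero_iff.2 fun τ hτ => hne τ (hs τ hτ), ?_⟩
    induction s using Finset.induction with
    | empty => simp [FontaineLib.ord, IsDiscreteValuationRing.addVal_one]
    | insert j t hj ih =>
      rw [Finset.prod_insert hj, Finset.sum_insert hj, FontaineLib.ord_mul (hne j (hs j (by simp)))
        (Finset.prod_ne_zero_iff.2 fun τ hτ => hne τ (hs τ (Finset.mem_insert_of_mem hτ))),
        ih fun τ hτ => hs τ (Finset.mem_insert_of_mem hτ)]
  obtain ⟨hp0, hpd⟩ := hprod (Finset.univ.erase 1) fun τ hτ => (Finset.mem_erase.1 hτ).1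
  refine ⟨∑ τ ∈ Finset.univ.erase (1 : Gal(L/FractionRing O)), i τ, ?_, fun σ hσ j hj => ?_⟩
  · rw [FontaineLib.differentIdeal_eq hadj, FontaineLib.span_eq_pow_ord hp0, hpd]
  obtain ⟨y, hy, hye⟩ := hj α
  have hjle : j ≤ i σ := by
    have hy' : y = -(α - FontaineLib.galInt σ α) := by
      apply Subtype.ext
      rw [neg_sub]
      exact hye
    rw [hy', neg_mem_iff] at hy
    exact (FontaineLib.le_ord_iff (hne σ hσ)).2 hy
  have hpK : FontaineLib.ord (p : O) = eK :=
    FontaineLib.ord_eq_of_span (Nat.cast_ne_zero.2 (Fact.out : p.Prime).ne_zero) heK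
  have haK : FontaineLib.ord a = va := FontaineLib.ord_eq_of_span ha hva
  have heK0 : 0 < eK := by
    refine Nat.pos_of_ne_zero fun h => ?_
    have h1 : IsUnit (p : O) := (FontaineLib.ord_eq_zero_iff (Nat.cast_ne_zero.2 (Fact.out : p.Prime).ne_zero)).1
      (hpK.trans h)
    have h2 := h1.map (IsLocalRing.residue O)
    rw [map_natCast, CharP.cast_eq_zero] at h2
    exact not_isUnit_zero h2
  have hnat : (p - 1) * (i σ + ∑ τ ∈ Finset.univ.erase (1 : Gal(L/FractionRing O)), i τ) ≤
      (p - 1) * (FontaineLib.ord (algebraMap O (integralClosure O L) π) * va) +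
        FontaineLib.ord (algebraMap O (integralClosure O L) π) * eK := by
    obtain ⟨φΩ⟩ := hΩ
    rcases Nat.eq_zero_or_pos va with hv0 | hv0
    · -- `a` is a unit: the points are unramified
      have hau : IsUnit (algebraMap O A a) := ((FontaineLib.ord_eq_zero_iff ha).1 (haK.trans hv0)).map _
      haveI : Subsingleton (A ⧸ Ideal.span {algebraMap O A a}) := by
        rw [Ideal.Quotient.subsingleton_iff, Ideal.span_singleton_eq_top]; exact hau
      haveI : Algebra.FormallyUnramified O A := ⟨φΩ.toEquiv.subsingleton⟩
      have hzero : ∀ τ : Gal(L/FractionRing O), τ ≠ 1 → i τ = 0 := by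
        intro τ hτ
        by_contra h0
        refine hτ (FontaineLib.eq_one_of_congr hL τ fun x => ?_)
        have h1 : FontaineLib.galInt τ α - α ∈ IsLocalRing.maximalIdeal (integralClosure O L) := by
          rw [← neg_sub, neg_mem_iff, ← pow_one (IsLocalRing.maximalIdeal (integralClosure O L))]
          exact (FontaineLib.le_ord_iff (hne τ hτ)).1 (Nat.pos_of_ne_zero h0)
        have hx : x ∈ Algebra.adjoin O {α} := hadj ▸ trivial
        rw [Algebra.adjoin_singleton_eq_range_aeval] at hx
        obtain ⟨q, rfl⟩ := hx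
        show FontaineLib.galInt τ (Polynomial.aeval α q) - Polynomial.aeval α q ∈ _
        rw [← Polynomial.aeval_algHom_apply (FontaineLib.galInt τ) α, ← Polynomial.eval_map_algebraMap,
          ← Polynomial.eval_map_algebraMap]
        obtain ⟨c, hc⟩ := Polynomial.sub_dvd_eval_sub (FontaineLib.galInt τ α) α
          (q.map (algebraMap O (integralClosure O L)))
        rw [hc]
        exact Ideal.mul_mem_right _ _ h1
      rw [hzero σ hσ, Finset.sum_eq_zero fun τ hτ => hzero τ (Finset.mem_erase.1 hτ).1]
      simp
    · obtain ⟨r', y', hP⟩ := FontaineLib.exists_goodPres f eA a ha r φΩ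
      exact FontaineLib.break_le hL hadj hirr hsep hπ p hpK heK0 ha haK hv0
        (FontaineLib.liftsUniquely_of_goodPres ha hP p) σ hσ
  set e := FontaineLib.ord (algebraMap O (integralClosure O L) π)
  set d := ∑ τ ∈ Finset.univ.erase (1 : Gal(L/FractionRing O)), i τ
  have hnat' : (p - 1) * (j + d) ≤ (p - 1) * (e * va) + e * eK :=
    (Nat.mul_le_mul_left _ (Nat.add_le_add_right hjle d)).trans hnat
  have hp2 : 2 ≤ p := (Fact.out : p.Prime).two_le
  have hq : ((p : ℚ) - 1) * ((j : ℚ) + d) ≤ ((p : ℚ) - 1) * (e * va) + e * eK := by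
    have h1 : (((p - 1) * (j + d) : ℕ) : ℚ) ≤ (((p - 1) * (e * va) + e * eK : ℕ) : ℚ) := Nat.cast_le.2 hnat'
    push_cast [Nat.cast_sub (show 1 ≤ p by omega)] at h1
    exact h1
  have hp1 : (0 : ℚ) < (p : ℚ) - 1 := by
    have : (2 : ℚ) ≤ (p : ℚ) := by exact_mod_cast hp2
    linarith
  refine le_of_mul_le_mul_left (hq.trans (le_of_eq ?_)) hp1
  field_simp

end Groth.Agent.S13408
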