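import Groth.Statements.S13409
import Mathlib

-- import your own Groth.Agent.* helpers here

set_option autoImplicit false
universe u v
open CombGraph

namespace Groth.Agent.S13409

/-- Let `A` be an abelian group and `G` a finite connected simple graph on `V` that is bipartite for a
two-colouring `c : V → Bool` (adjacent vertices get different colours). If `a : V → A` has the same
sum over the vertices of each colour, then some labelling `x` of the edges by elements of `A` has,
at every vertex `v`, the sum of `x` over the edges incident to `v` equal to `a v`. (The published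
statement concerns finite bipartite graphs in general; this row treats simple graphs.) -/
theorem result {V : Type u} [Fintype V] [DecidableEq V]
    (G : SimpleGraph V) [DecidableRel G.Adj] (hconn : G.Connected) (c : V → Bool)
    (hbip : ∀ v w : V, G.Adj v w → c v ≠ c w) (A : Type v) [AddCommGroup A] (a : V → A)
    (hsum : ∑ v ∈ Finset.univ.filter (fun v => c v = true), a v =
      ∑ v ∈ Finset.univ.filter (fun v => c v = false), a v) :
    ∃ x : Sym2 V → A, ∀ v : V, ∑ e ∈ G.incidenceFinset v, x e = a v := by
  classical
  let S : AddSubgroup (V → A) :=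
    { carrier := {b | ∃ x : Sym2 V → A, ∀ v : V, ∑ e ∈ G.incidenceFinset v, x e = b v}
      add_mem' := fun {b b'} ⟨x, hx⟩ ⟨x', hx'⟩ => ⟨x + x', fun v => by simp [Finset.sum_add_distrib, hx, hx']⟩
      zero_mem' := ⟨0, fun v => by simp⟩
      neg_mem' := fun {b} ⟨x, hx⟩ => ⟨-x, fun v => by simp [hx]⟩ }
  let sg : V → ℤ := fun v => if c v = true then 1 else -1
  have hadj : ∀ v w, G.Adj v w → ∀ g : A, Pi.single v g + Pi.single w g ∈ S := by
    intro v w hvw g
    refine ⟨fun e => if e = s(v, w) then g else 0, fun z => ?_⟩
    rw [Finset.sum_ite_eq', Pi.add_apply]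
    simp only [SimpleGraph.mem_incidenceFinset, SimpleGraph.incidenceSet, Set.mem_ofPred_eq, SimpleGraph.mem_edgeSet, hvw, true_and, Sym2.mem_iff]
    by_cases h1 : z = v
    · subst h1; simp [hvw.ne]
    · by_cases h2 : z = w
      · subst h2; simp [h1]
      · simp [h1, h2]
  have hwalk : ∀ v w, G.Walk v w → ∀ g : A, Pi.single v (sg v • g) - Pi.single w (sg w • g) ∈ S := by
    intro v w p
    induction p with
    | nil => intro g; simp
    | @cons u x y h p ih =>
      intro g
      have hsg : sg x • g = -(sg u • g) := by
        have := hbip u x h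
        cases hu : c u <;> cases hx : c x <;> simp_all [sg]
      have h1 := hadj u x h (sg u • g)
      have h2 := S.add_mem h1 (ih g)
      rw [hsg, Pi.single_neg] at h2
      convert h2 using 1
      abel
  obtain ⟨v₀⟩ := hconn.nonempty
  have hsg2 : ∀ v, sg v • sg v • a v = a v := fun v => by cases hv : c v <;> simp [sg, hv]
  have hmem : ∑ v, (Pi.single v (sg v • (sg v • a v)) - Pi.single v₀ (sg v₀ • (sg v • a v))) ∈ S :=
    S.sum_mem fun v _ => (hconn v v₀).elim fun p => hwalk v v₀ p _
  have hzero : ∑ v, sg v • a v = 0 := by
    rw [← Finset.sum_filter_add_sum_filter_not Finset.univ (fun v => c v = true)]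
    rw [Finset.sum_congr rfl (fun v hv => show sg v • a v = a v by simp [sg, (Finset.mem_filter.1 hv).2])]
    rw [Finset.sum_congr (s₁ := Finset.univ.filter fun v => ¬c v = true) (s₂ := Finset.univ.filter fun v => c v = false) (by ext; simp) (fun v hv => show sg v • a v = -a v by simp [sg, (Finset.mem_filter.1 hv).2]), Finset.sum_neg_distrib, hsum, add_neg_cancel]
  rw [Finset.sum_sub_distrib, Finset.sum_congr rfl (fun v _ => congrArg (Pi.single v) (hsg2 v)), Finset.univ_sum_single] at hmem
  have e : ∑ x, (Pi.single v₀ (sg v₀ • sg x • a x) : V → A) = Pi.single v₀ (∑ x, sg v₀ • sg x • a x) :=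
    (map_sum (AddMonoidHom.single (fun _ : V => A) v₀) _ _).symm
  rw [e, ← Finset.smul_sum, hzero, smul_zero, Pi.single_zero, sub_zero] at hmem
  exact hmem

end Groth.Agent.S13409
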