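import Groth.Statements.S13410
import Mathlib.Combinatorics.SimpleGraph.Connectivity.Connected
import Mathlib.Tactic.Abel
import Mathlib.Algebra.BigOperators.Group.Finset.Piecewise
-- import your own Groth.Agent.* helpers here

set_option autoImplicit false
universe u v
open CombGraph

namespace Groth.Agent.S13410

variable {V : Type u} [DecidableEq V] {A : Type v} [AddCommGroup A]

/-- The alternating sum of the edges of a walk. -/
noncomputable def chain {H : SimpleGraph V} : ∀ {u w : V}, H.Walk u w → (A →+ (Sym2 V → A))
  | _, _, .nil => 0
  | a, _, .cons (v := b) _ p => AddMonoidHom.single (fun _ => A) s(a, b) - chain p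

theorem chain_eq_zero {H : SimpleGraph V} {u w : V} (p : H.Walk u w) (a : A) (e : Sym2 V) (h : e ∉ p.edges) :
    chain (A := A) p a e = 0 := by
  induction p with
  | nil => rfl
  | cons hadj p ih =>
    simp only [SimpleGraph.Walk.edges_cons, List.mem_cons, not_or] at h
    show Pi.single (M := fun _ => A) _ a e - chain (A := A) p a e = 0
    rw [ih h.2, sub_zero, Pi.single_eq_of_ne h.1]

variable [Fintype V] {G : SimpleGraph V} [DecidableRel G.Adj]

theorem boundary_single {u w : V} (h : G.Adj u w) (a : A) (x : V) :
    ∑ e ∈ G.incidenceFinset x, AddMonoidHom.single (fun _ => A) s(u, w) a e =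
      (if x = u then a else 0) + (if x = w then a else 0) := by
  show ∑ e ∈ G.incidenceFinset x, Pi.single (M := fun _ => A) s(u, w) a e = _
  rw [Finset.sum_pi_single']
  have hne := h.ne
  by_cases hx : x = u
  · subst hx
    rw [if_pos (by simp [SimpleGraph.mem_incidenceFinset, SimpleGraph.incidenceSet, h]), if_pos rfl, if_neg hne, add_zero]
  · by_cases hx' : x = w
    · subst hx'
      rw [if_pos (by simp [SimpleGraph.mem_incidenceFinset, SimpleGraph.incidenceSet, h]), if_neg hx, if_pos rfl, zero_add]
    · rw [if_neg (by simp [SimpleGraph.mem_incidenceFinset, SimpleGraph.incidenceSet, hx, hx']), if_neg hx, if_neg hx', add_zero]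

theorem boundary_chain (c : V → Bool) (hbip : ∀ v w : V, G.Adj v w → c v ≠ c w) {H : SimpleGraph V} (hle : H ≤ G)
    {u w : V} (p : H.Walk u w) (a : A) (x : V) :
    ∑ e ∈ G.incidenceFinset x, chain (A := A) p a e =
      (if x = u then a else 0) + (if c u = c w then -(if x = w then a else 0) else (if x = w then a else 0)) := by
  induction p with
  | nil =>
    show ∑ e ∈ G.incidenceFinset x, (0 : A) = _
    rw [if_pos rfl]
    simp
  | @cons u v w hadj p ih =>
    show ∑ e ∈ G.incidenceFinset x, (AddMonoidHom.single (fun _ => A) s(u, v) a e - chain (A := A) p a e) = _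
    rw [Finset.sum_sub_distrib, ih, boundary_single (hle hadj) a x]
    have hne := hbip u v (hle hadj)
    by_cases hvw : c v = c w
    · rw [if_pos hvw, if_neg (show ¬ c u = c w from fun h => hne (h.trans hvw.symm))]
      abel
    · have : c u = c w := by revert hne hvw; cases c u <;> cases c v <;> cases c w <;> simp
      rw [if_neg hvw, if_pos this]
      abel


/-- Let `A` be an abelian group and `G` a finite connected simple graph on `V`, bipartite for a
two-colouring `c`. Consider the additive group of labellings `x : Sym2 V → A` vanishing off the edge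
set and with `∑_{e ∋ v} x e = 0` at every vertex `v`. If `e₀` is an edge whose deletion leaves `G`
connected, then evaluation at `e₀` restricted to this group is surjective and split: there is an
additive map `φ : A → (Sym2 V → A)` with values in this group and with `φ a e₀ = a` for all `a`.
(The published statement concerns finite bipartite graphs in general; this row treats simple
graphs.) -/
theorem result {V : Type u} [Fintype V]
    [DecidableEq V] (G : SimpleGraph V) [DecidableRel G.Adj] (hconn : G.Connected) (c : V → Bool)
    (hbip : ∀ v w : V, G.Adj v w → c v ≠ c w) (A : Type v) [AddCommGroup A] (e₀ : Sym2 V)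
    (he₀ : e₀ ∈ G.edgeSet) (hdel : (G.deleteEdges {e₀}).Connected) :
    ∃ φ : A →+ (Sym2 V → A),
      (∀ a : A, (∀ e : Sym2 V, e ∉ G.edgeSet → φ a e = 0) ∧
        ∀ v : V, ∑ e ∈ G.incidenceFinset v, φ a e = 0) ∧
      ∀ a : A, φ a e₀ = a := by
  classical
  induction e₀ using Sym2.ind with
  | h u v =>
    obtain ⟨W⟩ := hdel.preconnected u v
    have hW : ∀ e ∈ W.edges, e ∈ G.edgeSet ∧ e ≠ s(u, v) := fun e he => by
      have := W.edges_subset_edgeSet he
      rw [SimpleGraph.edgeSet_deleteEdges] at this
      exact this
    have hadj : G.Adj u v := he₀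
    let δ : Sym2 V → A →+ (Sym2 V → A) := fun e => AddMonoidHom.single (fun _ => A) e
    refine ⟨δ s(u, v) - chain (A := A) W, fun a => ⟨fun e he => ?_, fun x => ?_⟩, fun a => ?_⟩
    · show δ s(u, v) a e - chain (A := A) W a e = 0
      rw [chain_eq_zero W a e (fun h => he (hW e h).1), sub_zero]
      exact Pi.single_eq_of_ne (M := fun _ => A) (fun h : e = s(u, v) => he (h ▸ he₀)) a
    · show ∑ e ∈ G.incidenceFinset x, (δ s(u, v) a e - chain (A := A) W a e) = 0
      rw [Finset.sum_sub_distrib, boundary_chain c hbip (G.deleteEdges_le _) W a x,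
        boundary_single hadj a x, if_neg (hbip u v hadj)]
      exact sub_self _
    · show δ s(u, v) a s(u, v) - chain (A := A) W a s(u, v) = a
      rw [chain_eq_zero W a _ (fun h => (hW _ h).2 rfl), sub_zero]
      exact Pi.single_eq_same (M := fun _ => A) _ a

end Groth.Agent.S13410
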