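import Groth.Statements.S13411
import Mathlib
import Mathlib
-- import your own Groth.Agent.* helpers here

set_option autoImplicit false
universe u v
open CombGraph

namespace Groth.Agent.S13411

/-- Let `A` be an abelian group and `G` a finite connected simple graph on `V`, bipartite for a
two-colouring `c`, with cyclomatic number `n` (number of edges minus number of vertices plus one).
Then the additive group of labellings `x : Sym2 V → A` vanishing off the edge set and with `∑_{e ∋
v} x e = 0` at every vertex `v` is isomorphic to `A^n`: it is the range of an injective additive map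
`(Fin n → A) → (Sym2 V → A)`. (The published statement concerns finite bipartite graphs in general;
this row treats simple graphs.) -/
theorem result {V : Type u} [Fintype V]
    [DecidableEq V] (G : SimpleGraph V) [DecidableRel G.Adj] (hconn : G.Connected) (c : V → Bool)
    (hbip : ∀ v w : V, G.Adj v w → c v ≠ c w) (A : Type v) [AddCommGroup A] (n : ℕ)
    (hn : G.edgeFinset.card + 1 = Fintype.card V + n) :
    ∃ f : (Fin n → A) →+ (Sym2 V → A), Function.Injective f ∧
      Set.range f = {x : Sym2 V → A | (∀ e : Sym2 V, e ∉ G.edgeSet → x e = 0) ∧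
        ∀ v : V, ∑ e ∈ G.incidenceFinset v, x e = 0} := by
  classical
  haveI : Nonempty V := hconn.nonempty
  obtain ⟨v₀⟩ := (inferInstance : Nonempty V)
  let σ : V → ℤ := fun v => if c v then 1 else -1
  have hσ2 : ∀ v, σ v * σ v = 1 := fun v => by simp only [σ]; split_ifs <;> ring
  have hσadj : ∀ v w, G.Adj v w → σ v + σ w = 0 := fun v w h => by
    have := hbip v w h
    simp only [σ]; cases hv : c v <;> cases hw : c w <;> simp_all
  let δ : V → V → ℤ := fun u v => if v = u then 1 else 0
  have hwalk : ∀ u w : V, G.Walk u w → ∃ F : Sym2 V → ℤ, (∀ e ∉ G.edgeSet, F e = 0) ∧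
      ∀ v, ∑ e ∈ G.incidenceFinset v, F e = σ u * δ u v - σ w * δ w v := by
    intro u w W
    induction W with
    | nil => exact ⟨fun _ => 0, fun _ _ => rfl, fun v => by simp⟩
    | @cons u x w h W ih =>
      obtain ⟨F, hF0, hF⟩ := ih
      refine ⟨fun e => F e + (if e = s(u, x) then σ u else 0), fun e he => ?_, fun v => ?_⟩
      · have hne : e ≠ s(u, x) := fun h' => he (h' ▸ h)
        simp [hF0 e he, hne]
      · rw [Finset.sum_add_distrib, hF, Finset.sum_ite_eq']
        have hmem : s(u, x) ∈ G.incidenceFinset v ↔ (v = u ∨ v = x) := by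
          simp [SimpleGraph.incidenceSet, h]
        have hs := hσadj u x h
        have hux := h.ne
        simp only [hmem, δ]
        by_cases h1 : v = u
        · subst h1; simp [hux]; split_ifs <;> omega
        · by_cases h2 : v = x
          · subst h2; simp [h1]; split_ifs <;> omega
          · simp [h1, h2]
  choose F hF0 hF using fun v => hwalk v v₀ (Classical.choice (hconn.preconnected v v₀))
  let D : Matrix V {e // e ∈ G.edgeFinset} ℤ := Matrix.of fun v e => if e.1 ∈ G.incidenceFinset v then 1 else 0
  let S : Matrix {e // e ∈ G.edgeFinset} V ℤ := Matrix.of fun e v => σ v * F v e.1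
  have hsum : ∀ {M : Type v} [AddCommGroup M] (x : Sym2 V → M), (∀ e, e ∉ G.edgeSet → x e = 0) → ∀ v,
      ∑ e ∈ G.incidenceFinset v, x e = ∑ e : {e // e ∈ G.edgeFinset}, D v e • x e.1 := by
    intro M _ x hx v
    simp only [D, Matrix.of_apply]
    rw [Finset.sum_coe_sort G.edgeFinset (fun e => (if e ∈ G.incidenceFinset v then (1 : ℤ) else 0) • x e)]
    simp only [ite_smul, one_smul, zero_smul]
    rw [Finset.sum_ite_mem, Finset.inter_eq_right.2 (fun e he => SimpleGraph.mem_edgeFinset.2 ((G.mem_incidenceFinset v e).1 he).1)]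
  have hDS : ∀ v w, (D * S) v w = δ w v - σ w * σ v₀ * δ v₀ v := fun v w => by
    have h1 : ∑ e ∈ G.incidenceFinset v, F w e = ∑ e : {e // e ∈ G.edgeFinset}, D v e * F w e.1 := by
      simp only [D, Matrix.of_apply]
      rw [Finset.sum_coe_sort G.edgeFinset (fun e => (if e ∈ G.incidenceFinset v then (1 : ℤ) else 0) * F w e)]
      simp only [ite_mul, one_mul, zero_mul]
      rw [Finset.sum_ite_mem, Finset.inter_eq_right.2 (fun e he => SimpleGraph.mem_edgeFinset.2 ((G.mem_incidenceFinset v e).1 he).1)]
    rw [hF] at h1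
    have : (D * S) v w = σ w * ∑ e : {e // e ∈ G.edgeFinset}, D v e * F w e.1 := by
      simp only [Matrix.mul_apply, Finset.mul_sum, S, Matrix.of_apply]
      exact Finset.sum_congr rfl fun e _ => by ring
    rw [this, ← h1, mul_sub, ← mul_assoc, hσ2, one_mul]; ring
  have hσD : ∀ e : {e // e ∈ G.edgeFinset}, ∑ w, σ w * D w e = 0 := by
    rintro ⟨e, he⟩
    induction e using Sym2.inductionOn with
    | _ a b =>
      have hab : G.Adj a b := SimpleGraph.mem_edgeFinset.1 he
      have : ∀ w, σ w * D w ⟨s(a, b), he⟩ = (if w = a then σ w else 0) + (if w = b then σ w else 0) := fun w => by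
        have hmem : s(a, b) ∈ G.incidenceFinset w ↔ (w = a ∨ w = b) := by simp [SimpleGraph.incidenceSet, hab]
        have := hab.ne
        simp only [D, Matrix.of_apply, hmem]
        split_ifs <;> simp_all
      rw [Finset.sum_congr rfl fun w _ => this w, Finset.sum_add_distrib, Finset.sum_ite_eq', Finset.sum_ite_eq']
      simpa using hσadj a b hab
  have hDSD : D * S * D = D := by
    refine Matrix.ext fun v e => ?_
    rw [Matrix.mul_apply]
    simp only [hDS, sub_mul, Finset.sum_sub_distrib, δ, ite_mul, one_mul, zero_mul, Finset.sum_ite_eq, Finset.mem_univ, if_true]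
    have : ∀ w, σ w * σ v₀ * (if v = v₀ then (1 : ℤ) else 0) * D w e = (σ v₀ * (if v = v₀ then (1 : ℤ) else 0)) * (σ w * D w e) :=
      fun w => by ring
    rw [Finset.sum_congr rfl fun w _ => this w, ← Finset.mul_sum, hσD, mul_zero, sub_zero]
  let Pi : Matrix {e // e ∈ G.edgeFinset} {e // e ∈ G.edgeFinset} ℤ := 1 - S * D
  have hDPi : D * Pi = 0 := by simp only [Pi, Matrix.mul_sub, Matrix.mul_one, ← Matrix.mul_assoc, hDSD, sub_self]
  have hPi2 : Pi * Pi = Pi := by
    calc Pi * Pi = Pi - S * (D * Pi) := by simp only [Pi, Matrix.sub_mul, Matrix.one_mul, Matrix.mul_assoc]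
      _ = Pi := by rw [hDPi, Matrix.mul_zero, sub_zero]
  let L := Matrix.toLin' Pi
  have hproj : LinearMap.IsProj (LinearMap.range L) L := by
    refine ⟨fun x => LinearMap.mem_range_self _ x, ?_⟩
    rintro _ ⟨y, rfl⟩
    show L (L y) = L y
    simp only [L, ← Matrix.toLin'_mul_apply, hPi2]
  have hrank : Module.finrank ℤ (LinearMap.range L) = n := by
    have h := hproj.trace
    have ht : LinearMap.trace ℤ _ L = Matrix.trace Pi := by simp [L]
    rw [ht] at h
    have h2 : Matrix.trace Pi = (G.edgeFinset.card : ℤ) - ((Fintype.card V : ℤ) - 1) := by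
      simp only [Pi, Matrix.trace_sub, Matrix.trace_one, Fintype.card_coe]
      congr 1
      rw [Matrix.trace_mul_comm]
      simp only [Matrix.trace, Matrix.diag_apply, hDS, δ, if_true, Finset.sum_sub_distrib, mul_ite, mul_one, mul_zero,
        Finset.sum_ite_eq', Finset.mem_univ, hσ2]
      simp
    rw [h2] at h
    have := hn
    omega
  let b := Module.finBasisOfFinrankEq ℤ (LinearMap.range L) hrank
  let P : Matrix {e // e ∈ G.edgeFinset} (Fin n) ℤ := LinearMap.toMatrix' ((LinearMap.range L).subtype ∘ₗ b.equivFun.symm.toLinearMap)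
  let Q : Matrix (Fin n) {e // e ∈ G.edgeFinset} ℤ := LinearMap.toMatrix' (b.equivFun.toLinearMap ∘ₗ LinearMap.rangeRestrict L)
  have hPQ : P * Q = Pi := by
    apply Matrix.toLin'.injective
    simp only [P, Q, Matrix.toLin'_mul, Matrix.toLin'_toMatrix']
    exact LinearMap.ext fun x => by simp [L]
  have hQP : Q * P = 1 := by
    apply Matrix.toLin'.injective
    simp only [P, Q, Matrix.toLin'_mul, Matrix.toLin'_toMatrix', Matrix.toLin'_one]
    refine LinearMap.ext fun x => ?_
    have : LinearMap.rangeRestrict L ((b.equivFun.symm x : LinearMap.range L) : _ → ℤ) = b.equivFun.symm x :=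
      Subtype.ext (hproj.map_id _ (b.equivFun.symm x).2)
    simp only [LinearMap.comp_apply, Submodule.subtype_apply, LinearEquiv.coe_coe, LinearMap.id_apply, this, LinearEquiv.apply_symm_apply]
  have hDP : D * P = 0 := by
    calc D * P = D * ((P * Q) * P) := by rw [Matrix.mul_assoc P, hQP, Matrix.mul_one]
      _ = 0 := by rw [hPQ, ← Matrix.mul_assoc, hDPi, Matrix.zero_mul]
  have hassoc : ∀ {X Y Z : Type u} [Fintype Y] [Fintype Z] (M : Matrix X Y ℤ) (N : Matrix Y Z ℤ) (a : Z → A) (x : X),
      ∑ y, M x y • ∑ z, N y z • a z = ∑ z, (M * N) x z • a z := by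
    intro X Y Z _ _ M N a x
    simp only [Finset.smul_sum, smul_smul, Matrix.mul_apply, Finset.sum_smul]
    exact Finset.sum_comm
  let g : (Fin n → A) → Sym2 V → A := fun a e => if h : e ∈ G.edgeFinset then ∑ l, P ⟨e, h⟩ l • a l else 0
  let f : (Fin n → A) →+ (Sym2 V → A) :=
    { toFun := g
      map_zero' := funext fun e => by simp [g]
      map_add' := fun a a' => funext fun e => by
        show g (a + a') e = g a e + g a' e
        simp only [g]
        by_cases h : e ∈ G.edgeFinset
        · simp only [dif_pos h]; rw [← Finset.sum_add_distrib]; exact Finset.sum_congr rfl fun l _ => smul_add _ _ _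
        · simp only [dif_neg h, add_zero] }
  have hg : ∀ a (e : {e // e ∈ G.edgeFinset}), g a e.1 = ∑ l, P e l • a l := fun a e => dif_pos e.2
  have hgs : ∀ a e, e ∉ G.edgeSet → g a e = 0 := fun a e he => dif_neg (fun h => he (SimpleGraph.mem_edgeFinset.1 h))
  refine ⟨f, fun a a' h => funext fun l => ?_, Set.ext fun x => ⟨?_, fun ⟨hx0, hx⟩ => ?_⟩⟩
  · have key : ∀ a : Fin n → A, ∑ e : {e // e ∈ G.edgeFinset}, Q l e • g a e.1 = a l := fun a => by
      simp only [hg]
      have h' : ∑ z, (Q * P) l z • a z = a l := by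
        simp [hQP, Matrix.one_apply, ite_smul]
      rw [← h']
      simp only [Finset.smul_sum, smul_smul, Matrix.mul_apply, Finset.sum_smul]
      exact Finset.sum_comm
    rw [← key a, ← key a', show g a = g a' from h]
  · rintro ⟨a, rfl⟩
    refine ⟨hgs a, fun v => ?_⟩
    rw [hsum (f a) (hgs a) v]
    show ∑ e : {e // e ∈ G.edgeFinset}, D v e • g a e.1 = 0
    simp only [hg]
    have h' : ∑ z, (D * P) v z • a z = 0 := by simp [hDP]
    rw [← h']
    simp only [Finset.smul_sum, smul_smul, Matrix.mul_apply, Finset.sum_smul]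
    exact Finset.sum_comm
  · refine ⟨fun l => ∑ e : {e // e ∈ G.edgeFinset}, Q l e • x e.1, funext fun e => ?_⟩
    show g _ e = x e
    by_cases he : e ∈ G.edgeFinset
    · rw [hg _ ⟨e, he⟩]
      simp only [Finset.smul_sum, smul_smul]
      rw [Finset.sum_comm]
      simp only [← Finset.sum_smul, ← Matrix.mul_apply, hPQ]
      simp only [Pi, Matrix.sub_apply, sub_smul, Finset.sum_sub_distrib, Matrix.one_apply, ite_smul, one_smul, zero_smul,
        Finset.sum_ite_eq, Finset.mem_univ, if_true, sub_eq_self, Matrix.mul_apply, Finset.sum_smul]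
      rw [Finset.sum_comm]
      refine Finset.sum_eq_zero fun v _ => ?_
      simp only [← smul_smul, ← Finset.smul_sum, ← hsum x hx0 v, hx v, smul_zero]
    · rw [hgs _ e (fun h => he (SimpleGraph.mem_edgeFinset.2 h)), hx0 e (fun h => he (SimpleGraph.mem_edgeFinset.2 h))]

end Groth.Agent.S13411
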