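import Groth.Statements.S13412
import Groth.Agent.EtCdDim1Lib.Main
-- import your own Groth.Agent.* helpers here

set_option autoImplicit false
universe u
open CategoryTheory CategoryTheory.Limits AlgebraicGeometry
open HLoc2

namespace Groth.Agent.S13412
open CategoryTheory.Limits

/-- The integral closure of an excellent normal surface singularity in a finite extension. -/
theorem setup (k : Type u) [Field k] [CharZero k]
    (R₀ : Type u) [CommRing R₀] [IsDomain R₀] [Algebra k R₀] [IsIntegrallyClosed R₀] (hexc : EGA4.IsExcellent R₀)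
    (hdim : ringKrullDim R₀ = 2)
    (K : Type u) [Field K] [Algebra R₀ K] [Algebra (FractionRing R₀) K]
    [IsScalarTower R₀ (FractionRing R₀) K] [FiniteDimensional (FractionRing R₀) K] :
    IsNoetherianRing ↥(integralClosure R₀ K) ∧ IsIntegrallyClosed ↥(integralClosure R₀ K) ∧
      IsFractionRing ↥(integralClosure R₀ K) K ∧ ringKrullDim ↥(integralClosure R₀ K) ≤ 2 := by
  haveI : IsNoetherianRing R₀ := hexc.1
  haveI : CharZero (FractionRing R₀) :=
    charZero_of_injective_ringHom ((algebraMap R₀ (FractionRing R₀)).comp (algebraMap k R₀)).injective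
  haveI : Algebra.IsSeparable (FractionRing R₀) K := inferInstance
  refine ⟨IsIntegralClosure.isNoetherianRing R₀ (FractionRing R₀) K _,
    integralClosure.isIntegrallyClosedOfFiniteExtension (FractionRing R₀),
    integralClosure.isFractionRing_of_finite_extension (FractionRing R₀) K, ?_⟩
  rw [← hdim]
  refine Order.krullDim_le_of_strictMono (PrimeSpectrum.comap (algebraMap R₀ ↥(integralClosure R₀ K)))
    fun p q hpq => ?_
  obtain ⟨x, hxq, hxp⟩ := SetLike.exists_of_lt (show p.asIdeal < q.asIdeal from hpq)
  exact Ideal.comap_lt_comap_of_integral_mem_sdiff (show p.asIdeal ≤ q.asIdeal from hpq.le) ⟨hxq, hxp⟩ (Algebra.IsIntegral.isIntegral x)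


/-- Let `k` be an algebraically closed field of characteristic zero, `R₀` an excellent normal henselian
local `k`-domain of Krull dimension two with residue field `k`, `K` a finite extension of its
fraction field, `O_K` the integral closure of `R₀` in `K`, and `X` the open subscheme of `Spec O_K`
of non-closed points; let `U` be a nonempty open subscheme of `X`. Assume, as holds in this
situation, that `K` has etale cohomological dimension at most 2 and that the residue field of every
closed point of `U` has cohomological dimension at most 1. (The published text asserts both facts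
for this situation without proof; this row carries them as hypotheses.) Then for every constructible
abelian etale sheaf `F` on `U` and every `r ≥ 4`, `H^r(U, F) = 0`. -/
theorem result
    (k : Type u) [Field k] [IsAlgClosed k] [CharZero k]
    (R₀ : Type u) [CommRing R₀] [IsDomain R₀] [HenselianLocalRing R₀] [Algebra k R₀]
    [IsIntegrallyClosed R₀] (hexc : EGA4.IsExcellent R₀) (hdim : ringKrullDim R₀ = 2)
    (hres : Function.Surjective (fun a : k => IsLocalRing.residue R₀ (algebraMap k R₀ a)))
    (K : Type u) [Field K] [Algebra R₀ K] [Algebra (FractionRing R₀) K]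
    [IsScalarTower R₀ (FractionRing R₀) K] [FiniteDimensional (FractionRing R₀) K]
    (U : (Spec (CommRingCat.of ↥(integralClosure R₀ K))).Opens)
    (hU : ∀ x : ↥(Spec (CommRingCat.of ↥(integralClosure R₀ K))), x ∈ U →
      ¬ IsClosed ({x} : Set ↥(Spec (CommRingCat.of ↥(integralClosure R₀ K)))))
    (hne : Nonempty ↥(↑U : Scheme.{u}))
    (hcdK : EtCoh.CohDimLE (Spec (CommRingCat.of K)) 2)
    (hcdv : ∀ x : ↥(↑U : Scheme.{u}), IsClosed ({x} : Set ↥(↑U : Scheme.{u})) →
      EtCoh.CohDimLE (Spec ((↑U : Scheme.{u}).residueField x)) 1)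
    (F : EtCoh.Ab (↑U : Scheme.{u})) (hF : EtPBC.IsConstructible F) (r : ℕ) (hr : 4 ≤ r) :
    Subsingleton (EtCoh.H (↑U : Scheme.{u}) F r) := by
  obtain ⟨_, _, _, hO⟩ := setup k R₀ hexc hdim K
  letI : Algebra k ↥(integralClosure R₀ K) := ((algebraMap R₀ ↥(integralClosure R₀ K)).comp (algebraMap k R₀)).toAlgebra
  refine EtCdDim1Lib.cohDimLE_three ↥(integralClosure R₀ K) K k hO U hU hcdK hcdv F ?_ r (by omega)
  haveI : IsNoetherian (Spec (CommRingCat.of ↥(integralClosure R₀ K))) := inferInstance
  haveI : IsLocallyNoetherian (↑U : Scheme.{u}) := isLocallyNoetherian_of_isOpenImmersion U.ι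
  haveI : CompactSpace (↑U : Scheme.{u}) :=
    isCompact_iff_compactSpace.1 (TopologicalSpace.NoetherianSpace.isCompact
      (U : Set ↥(Spec (CommRingCat.of ↥(integralClosure R₀ K)))))
  haveI : IsNoetherian (↑U : Scheme.{u}) := { }
  have hc := (Groth.Agent.EtShLib.isConstructible_iff F).1 hF
  obtain ⟨a, V, m, hm, ψ, hψ⟩ :=
    Groth.Agent.EtShLib.exists_epi_cons hc (Groth.Agent.EtShLib.torsionBy_of_isCons hc) (fun _ h => h)
  haveI := hψ
  refine CdOneLib.isTorsion_of_nsmul_id (∏ i, m i) (Finset.prod_pos fun i _ => (hm i).1)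
    (PTorsCdLib.nsmul_id_of_epi ψ (PTorsCdLib.nsmul_id_biproduct _ fun i => ?_))
  obtain ⟨c, hc'⟩ := Finset.dvd_prod_of_mem m (Finset.mem_univ i)
  rw [hc', mul_comm, mul_smul, Groth.Agent.EtShLib.nsmul_id_extConst, smul_zero]


end Groth.Agent.S13412
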