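import Groth.Statements.S13414
import Groth.Agent.EtCdDim1Lib.Main
-- import your own Groth.Agent.* helpers here

set_option autoImplicit false
universe u
open CategoryTheory CategoryTheory.Limits AlgebraicGeometry
open HLoc2

namespace Groth.Agent.S13414
open CategoryTheory.Limits

/-- The integral closure of an excellent normal surface singularity in a finite extension. -/
theorem setup (k : Type u) [Field k] [CharZero k]
    (R₀ : Type u) [CommRing R₀] [IsDomain R₀] [Algebra k R₀] [IsIntegrallyClosed R₀] (hexc : EGA4.IsExcellent R₀)
    (hdim : ringKrullDim R₀ = 2)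
    (K : Type u) [Field K] [Algebra R₀ K] [Algebra (FractionRing R₀) K]
    [IsScalarTower R₀ (FractionRing R₀) K] [FiniteDimensional (FractionRing R₀) K] :
    IsNoetherianRing ↥(integralClosure R₀ K) ∧ IsIntegrallyClosed ↥(integralClosure R₀ K) ∧
      IsFractionRing ↥(integralClosure R₀ K) K ∧ ringKrullDim ↥(integralClosure R₀ K) ≤ 2 := by
  haveI : IsNoetherianRing R₀ := hexc.1
  haveI : CharZero (FractionRing R₀) :=
    charZero_of_injective_ringHom ((algebraMap R₀ (FractionRing R₀)).comp (algebraMap k R₀)).injective
  haveI : Algebra.IsSeparable (FractionRing R₀) K := inferInstance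
  refine ⟨IsIntegralClosure.isNoetherianRing R₀ (FractionRing R₀) K _,
    integralClosure.isIntegrallyClosedOfFiniteExtension (FractionRing R₀),
    integralClosure.isFractionRing_of_finite_extension (FractionRing R₀) K, ?_⟩
  rw [← hdim]
  refine Order.krullDim_le_of_strictMono (PrimeSpectrum.comap (algebraMap R₀ ↥(integralClosure R₀ K)))
    fun p q hpq => ?_
  obtain ⟨x, hxq, hxp⟩ := SetLike.exists_of_lt (show p.asIdeal < q.asIdeal from hpq)
  exact Ideal.comap_lt_comap_of_integral_mem_sdiff (show p.asIdeal ≤ q.asIdeal from hpq.le) ⟨hxq, hxp⟩ (Algebra.IsIntegral.isIntegral x)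


/-- Let `k` be an algebraically closed field of characteristic zero, `R₀` an excellent normal henselian
local `k`-domain of Krull dimension two with residue field `k`, `K` a finite extension of its
fraction field, `O_K` the integral closure of `R₀` in `K`, and `X` the open subscheme of `Spec O_K`
of non-closed points; let `U` be a nonempty open subscheme of `X`. Assume, as holds in this
situation, that `K` has etale cohomological dimension at most 2 and that the residue field of every
closed point of `U` has cohomological dimension at most 1. (The published text asserts both facts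
for this situation without proof; this row carries them as hypotheses.) Then `H^r(U, G_m) = 0` for
every `r ≥ 4`. (The published item also contains a four-term exact sequence involving the Brauer
groups of `K` and of its completions, which is not restated here.) -/
theorem result
    (k : Type u) [Field k] [IsAlgClosed k] [CharZero k]
    (R₀ : Type u) [CommRing R₀] [IsDomain R₀] [HenselianLocalRing R₀] [Algebra k R₀]
    [IsIntegrallyClosed R₀] (hexc : EGA4.IsExcellent R₀) (hdim : ringKrullDim R₀ = 2)
    (hres : Function.Surjective (fun a : k => IsLocalRing.residue R₀ (algebraMap k R₀ a)))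
    (K : Type u) [Field K] [Algebra R₀ K] [Algebra (FractionRing R₀) K]
    [IsScalarTower R₀ (FractionRing R₀) K] [FiniteDimensional (FractionRing R₀) K]
    (U : (Spec (CommRingCat.of ↥(integralClosure R₀ K))).Opens)
    (hU : ∀ x : ↥(Spec (CommRingCat.of ↥(integralClosure R₀ K))), x ∈ U →
      ¬ IsClosed ({x} : Set ↥(Spec (CommRingCat.of ↥(integralClosure R₀ K)))))
    (hne : Nonempty ↥(↑U : Scheme.{u}))
    (hcdK : EtCoh.CohDimLE (Spec (CommRingCat.of K)) 2)
    (hcdv : ∀ x : ↥(↑U : Scheme.{u}), IsClosed ({x} : Set ↥(↑U : Scheme.{u})) →
      EtCoh.CohDimLE (Spec ((↑U : Scheme.{u}).residueField x)) 1)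
    (r : ℕ) (hr : 4 ≤ r) :
    Subsingleton (EtCoh.H (↑U : Scheme.{u}) (EtCoh.Gm (↑U : Scheme.{u})) r) := by
  obtain ⟨_, _, _, hO⟩ := setup k R₀ hexc hdim K
  letI : Algebra k ↥(integralClosure R₀ K) := ((algebraMap R₀ ↥(integralClosure R₀ K)).comp (algebraMap k R₀)).toAlgebra
  exact EtCdDim1Lib.subsingleton_H_Gm ↥(integralClosure R₀ K) K k hO U hU hcdK hcdv r hr


end Groth.Agent.S13414
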