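import Groth.Statements.S13416
import Groth.Agent.EtCdDim1Lib.Main
import Groth.Agent.FinPushConsLib.Main
import Groth.Agent.ConstUnitLib.Unit
import Groth.Agent.EtShLib.PushStalk
import Groth.Agent.EtShLib.SamePoint
import Groth.Agent.LcRepLib.Torsion
import Groth.Agent.S13412

set_option autoImplicit false
universe u
open CategoryTheory CategoryTheory.Limits AlgebraicGeometry
open HLoc2

namespace Groth.Agent.S13416


open Opposite Groth.Agent.EtShLib

attribute [local instance] CategoryTheory.Abelian.hasFiniteBiproducts EtSliceLib.pullExact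

set_option backward.isDefEq.respectTransparency false
set_option maxHeartbeats 1600000

/-- A morphism is mono on the stalk at an image point if its pullback is. -/
theorem mono_stk_of_pull {X Y : Scheme.{u}} (f : X ⟶ Y) {G G' : EtCoh.Ab Y} (a : G ⟶ G')
    {Ω : Type u} [Field Ω] [IsSepClosed Ω] (η : Spec (CommRingCat.of Ω) ⟶ X)
    (h : Mono ((stk (A := AddCommGrpCat.{u + 1}) η).map ((EtCoh.pull f).map a))) :
    Mono ((stk (A := AddCommGrpCat.{u + 1}) (η ≫ f)).map a) := by
  haveI := h
  let N := stalkPull f η AddCommGrpCat.{u + 1}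
  have e : (stk (A := AddCommGrpCat.{u + 1}) (η ≫ f)).map a =
      N.hom.app G ≫ (stk (A := AddCommGrpCat.{u + 1}) η).map ((EtCoh.pull f).map a) ≫ N.inv.app G' := by
    exact (NatIso.naturality_2 N a).symm
  rw [e]
  infer_instance

/-- A morphism to `j_*` of a pullback which is iso on the open gives a morphism with that restriction. -/
theorem exists_extension {X W : Scheme.{u}} (j : W ⟶ X) (A C : EtCoh.Ab X)
    [IsIso ((EtCoh.pullPushAdj j).unit.app C)] (e : (EtCoh.pull j).obj A ⟶ (EtCoh.pull j).obj C) :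
    ∃ θ : A ⟶ C, (EtCoh.pull j).map θ = e := by
  let adj := EtCoh.pullPushAdj j
  refine ⟨adj.unit.app A ≫ (EtCoh.push j).map e ≫ inv (adj.unit.app C), ?_⟩
  apply (adj.homEquiv A ((EtCoh.pull j).obj C)).injective
  rw [adj.homEquiv_unit, adj.homEquiv_unit]
  have := adj.unit.naturality (adj.unit.app A ≫ (EtCoh.push j).map e ≫ inv (adj.unit.app C))
  refine this.symm.trans ?_
  rw [Functor.id_map, Category.assoc, Category.assoc]
  exact congrArg _ ((congrArg _ (IsIso.inv_hom_id (adj.unit.app C))).trans (Category.comp_id _))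

/-- Let `k` be an algebraically closed field of characteristic zero, `R₀` an excellent normal henselian
local `k`-domain of Krull dimension two with residue field `k`, `K` a finite extension of its
fraction field, `O_K` the integral closure of `R₀` in `K`, and `X` the open subscheme of `Spec O_K`
of non-closed points; let `U` be a nonempty open subscheme of `X`. Assume, as holds in this
situation, that `K` has etale cohomological dimension at most 2 and that the residue field of every
closed point of `U` has cohomological dimension at most 1. (The published text asserts both facts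
for this situation without proof; this row carries them as hypotheses.) Let `F` be a constructible
abelian etale sheaf on `U` with `mF = 0` for some `m ≥ 1`, `V` a nonempty open of `U`, and `π : U_n
→ U` a finite surjective morphism from an integral scheme with integrally closed local rings (for
instance the normalisation of `U` in a finite extension of `K`, which is the morphism the published
statement uses) that is etale over `V` and such that the pullback of `F` to `π⁻¹(V)` is a constant
sheaf with finite value group. Then there exist a finite abelian group `M` with `mM = 0`, a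
constructible abelian etale sheaf `F_f` on `U` with finite support, and a monomorphism `F →
π_*(M_{U_n}) ⊕ F_f` of abelian etale sheaves on `U`. -/
theorem result
    (k : Type u) [Field k] [IsAlgClosed k] [CharZero k]
    (R₀ : Type u) [CommRing R₀] [IsDomain R₀] [HenselianLocalRing R₀] [Algebra k R₀]
    [IsIntegrallyClosed R₀] (hexc : EGA4.IsExcellent R₀) (hdim : ringKrullDim R₀ = 2)
    (hres : Function.Surjective (fun a : k => IsLocalRing.residue R₀ (algebraMap k R₀ a)))
    (K : Type u) [Field K] [Algebra R₀ K] [Algebra (FractionRing R₀) K]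
    [IsScalarTower R₀ (FractionRing R₀) K] [FiniteDimensional (FractionRing R₀) K]
    (U : (Spec (CommRingCat.of ↥(integralClosure R₀ K))).Opens)
    (hU : ∀ x : ↥(Spec (CommRingCat.of ↥(integralClosure R₀ K))), x ∈ U →
      ¬ IsClosed ({x} : Set ↥(Spec (CommRingCat.of ↥(integralClosure R₀ K)))))
    (hne : Nonempty ↥(↑U : Scheme.{u}))
    (hcdK : EtCoh.CohDimLE (Spec (CommRingCat.of K)) 2)
    (hcdv : ∀ x : ↥(↑U : Scheme.{u}), IsClosed ({x} : Set ↥(↑U : Scheme.{u})) →
      EtCoh.CohDimLE (Spec ((↑U : Scheme.{u}).residueField x)) 1)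
    (F : EtCoh.Ab (↑U : Scheme.{u})) (hF : EtPBC.IsConstructible F) (m : ℕ) (hm : 1 ≤ m)
    (hmF : EtCoh.KilledBy m F) (V : (↑U : Scheme.{u}).Opens) (hV : Nonempty ↥(↑V : Scheme.{u}))
    (Un : Scheme.{u}) [IsIntegral Un] (hnorm : ∀ y : ↥Un, IsIntegrallyClosed ↑(Un.presheaf.stalk y))
    (π : Un ⟶ (↑U : Scheme.{u})) [IsFinite π] [Surjective π] [Etale (π ∣_ V)] (M₀ : Type) [AddCommGroup M₀] [Finite M₀]
    (hconst : Nonempty ((EtCoh.pull (π ⁻¹ᵁ V).ι).obj ((EtCoh.pull π).obj F) ≅
      EtCoh.const (↑(π ⁻¹ᵁ V) : Scheme.{u}) M₀)) :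
    ∃ (M : Type) (_ : AddCommGroup M) (_ : Finite M), (∀ x : M, m • x = 0) ∧
      ∃ (Ff : EtCoh.Ab (↑U : Scheme.{u})), EtPBC.IsConstructible Ff ∧ (EtPBC.supp Ff).Finite ∧
        ∃ ι : F ⟶ (EtCoh.push π).obj (EtCoh.const Un M) ⊞ Ff, Mono ι := by
  classical
  obtain ⟨_, _, _, hO⟩ := Groth.Agent.S13412.setup k R₀ hexc hdim K
  let O := ↥(integralClosure R₀ K)
  haveI : IsNoetherian (Spec (CommRingCat.of O)) := inferInstance
  haveI : IsLocallyNoetherian (↑U : Scheme.{u}) := isLocallyNoetherian_of_isOpenImmersion U.ι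
  haveI : CompactSpace (↑U : Scheme.{u}) :=
    isCompact_iff_compactSpace.1 (TopologicalSpace.NoetherianSpace.isCompact (U : Set ↥(Spec (CommRingCat.of O))))
  haveI : IsNoetherian (↑U : Scheme.{u}) := { }
  haveI : IrreducibleSpace ↥(↑U : Scheme.{u}) := ⟨hne⟩
  haveI : IsIntegral (↑U : Scheme.{u}) := isIntegral_of_isOpenImmersion U.ι
  let W : Un.Opens := π ⁻¹ᵁ V
  obtain ⟨v⟩ := hV
  obtain ⟨w, hw⟩ := π.surjective v.1
  have hwW : w ∈ W := by show π w ∈ V; rw [hw]; exact v.2
  have hnormal : Pi1.IsNormalScheme Un := fun y => ⟨inferInstance, hnorm y⟩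
  haveI hu : IsIso ((EtCoh.pullPushAdj W.ι).unit.app (EtCoh.const Un M₀)) :=
    ConstUnitLib.isIso_unit_const W.ι (ConstUnitLib.denseRange_fst (ConstUnitLib.denseRange_open W ⟨w, hwW⟩))
      (ConstUnitLib.locExt_open_integral hnormal W ⟨w, hwW⟩) _
  obtain ⟨e⟩ := hconst
  let e' := e ≪≫ (EtCore.pullConst W.ι M₀).symm
  obtain ⟨θ, hθ⟩ := exists_extension W.ι ((EtCoh.pull π).obj F) (EtCoh.const Un M₀) e'.hom
  let φ : F ⟶ (EtCoh.push π).obj (EtCoh.const Un M₀) := (EtCoh.pullPushAdj π).homEquiv _ _ θ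
  have hφ : (EtCoh.pull π).map φ ≫ (EtCoh.pullPushAdj π).counit.app _ = θ :=
    ((EtCoh.pullPushAdj π).homEquiv_counit (g := φ)).symm.trans (Equiv.symm_apply_apply _ θ)
  let Zs : TopologicalSpace.Closeds ↥(↑U : Scheme.{u}) := ⟨(V : Set ↥(↑U : Scheme.{u}))ᶜ, V.2.isClosed_compl⟩
  let I := Scheme.IdealSheafData.vanishingIdeal Zs
  let i : I.subscheme ⟶ (↑U : Scheme.{u}) := I.subschemeι
  have hr : Set.range i.base = (V : Set ↥(↑U : Scheme.{u}))ᶜ := by
    rw [Scheme.IdealSheafData.range_subschemeι, Scheme.IdealSheafData.coe_support_vanishingIdeal]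
    rfl
  haveI : LocallyOfFinitePresentation i := inferInstance
  have hfin : (V : Set ↥(↑U : Scheme.{u}))ᶜ.Finite := by
    obtain ⟨T, hTf, hTc, hTi, hTe⟩ := TopologicalSpace.NoetherianSpace.exists_finite_set_isClosed_irreducible V.2.isClosed_compl
    show ((V : Set ↥(↑U : Scheme.{u}))ᶜ).Finite
    erw [hTe]
    refine hTf.sUnion fun S hS => Set.Subsingleton.finite ?_
    intro a ha b hb
    have hg := (hTi S hS).isGenericPoint_genericPoint (hTc S hS)
    have hgS : (hTi S hS).genericPoint ∈ (V : Set ↥(↑U : Scheme.{u}))ᶜ := hTe ▸ ⟨S, hS, hg.mem⟩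
    suffices key : ∀ c ∈ S, c = (hTi S hS).genericPoint from (key a ha).trans (key b hb).symm
    intro c hc
    by_contra hcg
    have hcV : c ∈ (V : Set ↥(↑U : Scheme.{u}))ᶜ := hTe ▸ ⟨S, hS, hc⟩
    set g := (hTi S hS).genericPoint
    have h1 : (U.ι g : PrimeSpectrum O).asIdeal < (U.ι c : PrimeSpectrum O).asIdeal :=
      lt_of_le_of_ne ((PrimeSpectrum.le_iff_specializes _ _).2 ((hg.specializes hc).map U.ι.continuous))
        fun he => hcg (U.ι.isOpenEmbedding.injective (PrimeSpectrum.ext he.symm))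
    have hnm : ¬ (U.ι c : PrimeSpectrum O).asIdeal.IsMaximal := fun hm =>
      hU _ c.2 ((PrimeSpectrum.isClosed_singleton_iff_isMaximal _).2 hm)
    obtain ⟨mx, hm', hle⟩ := Ideal.exists_le_maximal _ (U.ι c : PrimeSpectrum O).2.ne_top
    have h2 := EtCdDim1Lib.height_le_one O hO (p := U.ι c) (q := ⟨mx, hm'.isPrime⟩)
      (lt_of_le_of_ne hle fun he => hnm (by rw [he]; exact hm'))
    have hbot : (U.ι g : PrimeSpectrum O).asIdeal = ⊥ := by
      by_contra hb0
      have h3 := Ideal.height_add_one_le_of_lt_of_isPrime h1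
      have h4 := Ideal.height_add_one_le_of_lt_of_isPrime (bot_lt_iff_ne_bot.2 hb0)
      have h5 := (add_le_add h4 (le_refl (1 : ℕ∞))).trans (h3.trans h2)
      rw [Ideal.height_bot, zero_add] at h5
      norm_num at h5
    apply hgS
    have hsp : g ⤳ v.1 := by
      refine U.ι.isOpenEmbedding.isInducing.specializes_iff.1 ((PrimeSpectrum.le_iff_specializes _ _).1 ?_)
      show (U.ι g : PrimeSpectrum O).asIdeal ≤ _
      rw [hbot]
      exact bot_le
    exact hsp.mem_open V.2 v.2
  let Ff := (EtCoh.push i).obj ((EtCoh.pull i).obj F)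
  let ψ : F ⟶ Ff := (EtCoh.pullPushAdj i).unit.app F
  let ι : F ⟶ (EtCoh.push π).obj (EtCoh.const Un M₀) ⊞ Ff := biprod.lift φ ψ
  refine ⟨M₀, inferInstance, inferInstance, ?_, Ff, ?_, ?_, ι, ?_⟩
  · intro x
    let Ω := AlgebraicClosure ((↑W : Scheme.{u}).residueField ⟨w, hwW⟩)
    let η : Spec (CommRingCat.of Ω) ⟶ (↑W : Scheme.{u}) :=
      Spec.map (CommRingCat.ofHom (algebraMap ((↑W : Scheme.{u}).residueField ⟨w, hwW⟩) Ω)) ≫
        (↑W : Scheme.{u}).fromSpecResidueField _
    let t : Fib η (EtCoh.top (↑W : Scheme.{u})) := Fib.mk η (Category.comp_id η)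
    let N := (stalkPull π (η ≫ W.ι) AddCommGrpCat.{u + 1}).app F ≪≫
      (stalkPull W.ι η AddCommGrpCat.{u + 1}).app ((EtCoh.pull π).obj F) ≪≫
      (stk (A := AddCommGrpCat.{u + 1}) η).mapIso e
    haveI := isCst_cstUnit (X := (↑W : Scheme.{u})) (AddCommGrpCat.of (ULift.{u + 1} M₀)) Ω η t
    let c := cstUnit (↑W : Scheme.{u}) (AddCommGrpCat.of (ULift.{u + 1} M₀)) ≫
      germ η (EtCoh.const (↑W : Scheme.{u}) M₀) (EtCoh.top (↑W : Scheme.{u})) t
    obtain ⟨z, hz⟩ := (ConcreteCategory.bijective_of_isIso N.hom).2 (c ⟨x⟩)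
    have h0 : c (m • (⟨x⟩ : ULift.{u + 1} M₀)) = c 0 := by
      rw [map_zero]
      refine (map_nsmul c.hom m _).trans ?_
      rw [← hz]
      refine (map_nsmul N.hom.hom m z).symm.trans ?_
      rw [LcRepLib.nsmul_stalk_eq_zero hmF, map_zero]
    exact congrArg ULift.down ((ConcreteCategory.bijective_of_isIso c).1 h0)
  · refine (isConstructible_iff _).2 (FinPushConsLib.isCons_push_finite i ?_)
    exact ((isConstructible_iff F).1 hF).pull
  · refine hfin.subset ?_
    rintro x ⟨Ω, _, _, ξ, hξ, hne0⟩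
    by_contra hx
    apply hne0
    have hx' : ξ.base default ∉ Set.range i.base := by
      rw [hr]
      have : ξ.base default ∈ ({x} : Set ↥(↑U : Scheme.{u})) := hξ ▸ Set.mem_range_self _
      rwa [Set.mem_singleton_iff.1 this]
    haveI := subsingleton_push_stalk i ((EtCoh.pull i).obj F) ξ hx'
    exact AddCommGrpCat.isZero_of_subsingleton ((stk (A := AddCommGrpCat.{u + 1}) ξ).obj Ff)
  · refine (mono_iff_stalks (A := AddCommGrpCat.{u + 1}) ι).2 fun Ω _ _ ξ => ?_
    by_cases hξ : ξ.base default ∈ Set.range i.base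
    · obtain ⟨ζ, rfl⟩ := exists_factor i ξ hξ
      haveI := isIso_unit_stalk_closed i F ζ
      have hc : (stk (A := AddCommGrpCat.{u + 1}) (ζ ≫ i)).map ι ≫
          (stk (A := AddCommGrpCat.{u + 1}) (ζ ≫ i)).map (biprod.snd : _ ⟶ Ff) =
          (stk (A := AddCommGrpCat.{u + 1}) (ζ ≫ i)).map ψ := by
        rw [← Functor.map_comp, biprod.lift_snd]
      exact mono_of_mono_fac hc
    · rw [hr, Set.mem_compl_iff, not_not] at hξ
      obtain ⟨y, hy⟩ := π.surjective (ξ.base default)
      let y' : (↑W : Scheme.{u}) := ⟨y, by show π y ∈ V; rw [hy]; exact hξ⟩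
      let Ω' := AlgebraicClosure ((↑W : Scheme.{u}).residueField y')
      let η : Spec (CommRingCat.of Ω') ⟶ (↑W : Scheme.{u}) :=
        Spec.map (CommRingCat.ofHom (algebraMap ((↑W : Scheme.{u}).residueField y') Ω')) ≫
          (↑W : Scheme.{u}).fromSpecResidueField y' 
      obtain ⟨N⟩ := nonempty_stk_iso_of_eq (A := AddCommGrpCat.{u + 1}) (ξ := ξ) (ξ' := (η ≫ W.ι) ≫ π) (by
        show π (W.ι ((↑W : Scheme.{u}).fromSpecResidueField y' _)) = _
        rw [Scheme.fromSpecResidueField_apply]
        exact hy)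
      have hmono : Mono ((stk (A := AddCommGrpCat.{u + 1}) η).map ((EtCoh.pull W.ι).map ((EtCoh.pull π).map φ))) := by
        have hc : (stk (A := AddCommGrpCat.{u + 1}) η).map ((EtCoh.pull W.ι).map ((EtCoh.pull π).map φ)) ≫
            (stk (A := AddCommGrpCat.{u + 1}) η).map ((EtCoh.pull W.ι).map ((EtCoh.pullPushAdj π).counit.app _)) =
            (stk (A := AddCommGrpCat.{u + 1}) η).map e'.hom := by
          rw [← Functor.map_comp, ← Functor.map_comp, hφ, hθ]
        exact mono_of_mono_fac hc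
      haveI := mono_stk_of_pull π φ (η ≫ W.ι) (mono_stk_of_pull W.ι ((EtCoh.pull π).map φ) η hmono)
      haveI : Mono ((stk (A := AddCommGrpCat.{u + 1}) ξ).map φ) := by
        rw [← NatIso.naturality_2 N φ]
        infer_instance
      have hc : (stk (A := AddCommGrpCat.{u + 1}) ξ).map ι ≫
          (stk (A := AddCommGrpCat.{u + 1}) ξ).map (biprod.fst : _ ⟶ (EtCoh.push π).obj (EtCoh.const Un M₀)) =
          (stk (A := AddCommGrpCat.{u + 1}) ξ).map φ := by
        rw [← Functor.map_comp, biprod.lift_fst]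
      exact mono_of_mono_fac hc

end Groth.Agent.S13416
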