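import Groth.Statements.S13422
import Groth.Agent.NeronWeakLib.Section
import Groth.Agent.NeronTorsLib.Basic
import Groth.Agent.NeronDescLib.Basic
-- import your own Groth.Agent.* helpers here

set_option autoImplicit false
universe u
open CategoryTheory AlgebraicGeometry
open NeronHD

namespace Groth.Agent.S13422

/-- Let S be a locally Noetherian scheme over a field of characteristic 0, S₀ ⊆ S a scheme-theoretically
dense open, and N a smooth S-scheme with the weak Néron mapping property for S₀ ⊆ S: for every étale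
S-scheme U, restriction to S₀ is a bijection from S-morphisms U → N onto S₀-morphisms U|S₀ → N|S₀.
Then N has the uniqueness half of the Néron mapping property: for every smooth S-scheme Z,
restriction of S-morphisms Z → N to S₀ is injective. (Case of schemes of a statement about algebraic
spaces.) -/
theorem result {k : Type u} [Field k] [CharZero k] {S : Scheme.{u}} (σ : S ⟶ Spec (CommRingCat.of k)) [IsLocallyNoetherian S] (S₀ : S.Opens) (hS₀ : CInt.IsSchematicallyDense S₀)
    (N : Over S) [Smooth N.hom]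
    (hN : ∀ U : Over S, Etale U.hom → Function.Bijective (fun g : U ⟶ N => (Over.pullback S₀.ι).map g))
    (Z : Over S) [Smooth Z.hom] :
    Function.Injective (fun g : Z ⟶ N => (Over.pullback S₀.ι).map g) := by
  intro g₁ g₂ h
  have hfst : Limits.pullback.fst Z.hom S₀.ι ≫ g₁.left = Limits.pullback.fst Z.hom S₀.ι ≫ g₂.left :=
    (NeronExtLib.map_eq_iff S₀.ι g₁ g₂).1 h
  haveI : IsLocallyNoetherian Z.left := LocallyOfFiniteType.isLocallyNoetherian Z.hom
  let U₀ := Z.hom ⁻¹ᵁ S₀
  have hU₀ : CInt.IsSchematicallyDense U₀ := Groth.Agent.S3844.result Z.hom S₀ hS₀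
  have hrange : Set.range (Limits.pullback.fst Z.hom S₀.ι).base = Set.range U₀.ι.base := by
    rw [Scheme.Opens.range_ι, Scheme.Pullback.range_fst, Scheme.Opens.range_ι]; rfl
  let e := IsOpenImmersion.isoOfRangeEq (Limits.pullback.fst Z.hom S₀.ι) U₀.ι hrange
  have hU : U₀.ι ≫ g₁.left = U₀.ι ≫ g₂.left := by
    rw [← cancel_epi e.hom, ← Category.assoc, ← Category.assoc,
      show e.hom ≫ U₀.ι = Limits.pullback.fst Z.hom S₀.ι from IsOpenImmersion.isoOfRangeEq_hom_fac _ _ hrange, hfst]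
  refine Over.OverMorphism.ext (Scheme.hom_ext_of_forall _ _ fun z => ?_)
  obtain ⟨y, S', g, q, s', hzy, hg, hqf, hqy⟩ := NeronWeakLib.exists_section_specializes σ Z.hom z
  let q' : Over.mk g ⟶ Z := Over.homMk q hqf
  have hq : q' ≫ g₁ = q' ≫ g₂ := (hN (Over.mk g) hg).1 (by
    simp only [Functor.map_comp]
    exact congrArg ((Over.pullback S₀.ι).map q' ≫ ·) h)
  have hy : g₁.left y = g₂.left y := by
    have := congrArg (fun t : Over.mk g ⟶ N => t.left s') hq
    simp only [Over.comp_left, Scheme.Hom.comp_apply] at this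
    rw [← hqy]; exact this
  obtain ⟨A, hA, hyA, -⟩ := exists_isAffineOpen_mem_and_subset (X := N.left) (x := g₁.left y) (U := ⊤) trivial
  let O := g₁.left ⁻¹ᵁ A ⊓ g₂.left ⁻¹ᵁ A
  have hyO : y ∈ O := ⟨hyA, (hy ▸ hyA : g₂.left y ∈ A)⟩
  refine ⟨O, hzy.mem_open O.isOpen hyO, ?_⟩
  let a₁ : (O : Scheme.{u}) ⟶ A := g₁.left.resLE A O inf_le_left
  let a₂ : (O : Scheme.{u}) ⟶ A := g₂.left.resLE A O inf_le_right
  let pA : (A : Scheme.{u}) ⟶ S := A.ι ≫ N.hom
  haveI : IsAffine A.toScheme := hA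
  haveI : IsSeparated pA := by
    haveI : IsSeparated (pA ≫ Limits.terminal.from S) := by
      rw [Limits.terminal.hom_ext (pA ≫ Limits.terminal.from S) (Limits.terminal.from _)]; infer_instance
    exact IsSeparated.of_comp pA (Limits.terminal.from S)
  have ha : a₁ = a₂ := by
    refine NeronDescLib.ext_on_open pA hU₀ ?_ ?_
    · show a₁ ≫ A.ι ≫ N.hom = a₂ ≫ A.ι ≫ N.hom
      rw [Scheme.Hom.resLE_comp_ι_assoc, Scheme.Hom.resLE_comp_ι_assoc, Over.w g₁, Over.w g₂]
    · rw [← cancel_mono A.ι, Category.assoc, Category.assoc, Scheme.Hom.resLE_comp_ι, Scheme.Hom.resLE_comp_ι,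
        Scheme.homOfLE_ι_assoc, Scheme.homOfLE_ι_assoc, ← Scheme.homOfLE_ι Z.left (inf_le_left : U₀ ⊓ O ≤ U₀),
        Category.assoc, Category.assoc, hU]
  show O.ι ≫ g₁.left = O.ι ≫ g₂.left
  rw [← Scheme.Hom.resLE_comp_ι g₁.left (inf_le_left : O ≤ g₁.left ⁻¹ᵁ A),
    ← Scheme.Hom.resLE_comp_ι g₂.left (inf_le_right : O ≤ g₂.left ⁻¹ᵁ A)]
  exact congrArg (· ≫ A.ι) ha

end Groth.Agent.S13422
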