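import Groth.Statements.S13423
import Groth.Agent.S1450
import Groth.Agent.S4997
import Groth.Agent.S5007
import Groth.Agent.WeilExtLib.Basic
import Groth.Agent.WeilResLib.Fibre
import Groth.Agent.FFDescLib.Closure
import Groth.Agent.UOpenLib.Criterion
-- import your own Groth.Agent.* helpers here

set_option autoImplicit false
universe u
open CategoryTheory AlgebraicGeometry
open NeronHD

namespace Groth.Agent.S13423

open CategoryTheory CategoryTheory.Limits AlgebraicGeometry

/-- Let S be a reduced, locally Noetherian scheme over a field of characteristic 0 whose local rings are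
all geometrically unibranch, and let f : X → S be quasi-finite (locally of finite type,
quasi-compact, with finite discrete fibres), separated and dominant, with X connected and nonempty,
such that every fibre X_s over the residue field k(s) is smooth. Then f is étale. (Case of schemes
of a statement about algebraic spaces.) -/
theorem result {k : Type u} [Field k] [CharZero k] {S : Scheme.{u}} (σ : S ⟶ Spec (CommRingCat.of k)) [IsLocallyNoetherian S] [IsReduced S]
    (hS : ∀ s : S, CAlg2.IsGeomUnibranch (S.presheaf.stalk s))
    {X : Scheme.{u}} (f : X ⟶ S) [LocallyOfFiniteType f] [QuasiCompact f] [LocallyQuasiFinite f] [IsSeparated f] [IsDominant f]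
    [ConnectedSpace X]
    (hfib : ∀ s : S, Smooth (Limits.pullback.snd f (S.fromSpecResidueField s))) :
    Etale f := by
  haveI hdom : ∀ s : S, IsDomain (S.presheaf.stalk s) := fun s => by
    have h : IsDomain (S.presheaf.stalk s ⧸ nilradical (S.presheaf.stalk s)) := (hS s).1.1
    rw [Ideal.Quotient.isDomain_iff_prime, nilradical_eq_zero] at h
    haveI : (⊥ : Ideal (S.presheaf.stalk s)).IsPrime := h
    exact IsDomain.of_bot_isPrime _
  have hne : Nonempty X := inferInstance
  haveI : ConnectedSpace S := by
    haveI : Nonempty S := hne.map f
    have h := (isConnected_range f.continuous).closure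
    rw [(Scheme.Hom.denseRange f).closure_range] at h
    exact connectedSpace_iff_univ.2 h
  haveI : IrreducibleSpace S := Groth.Agent.WeilRes.irreducibleSpace_of_connectedSpace fun s => by
    obtain ⟨U, hsU, -, -, hUint⟩ := WeilExtLib.exists_integral_nhd s ⊤ trivial
    haveI := hUint
    refine ⟨U, U.2, hsU, ?_⟩
    have := (PreirreducibleSpace.isPreirreducible_univ (X := U.toScheme)).image U.ι U.ι.continuous.continuousOn
    rwa [Set.image_univ, Scheme.Opens.range_ι] at this
  haveI : IsIntegral S := isIntegral_of_irreducibleSpace_of_isReduced S
  have hgen : genericPoint S ∈ Set.range f := by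
    obtain ⟨c, -, hc⟩ := FFDescLib.exists_specializes_of_mem_closure_image f (s := Set.univ) isClosed_univ
      (y := genericPoint S) (by rw [Set.image_univ, (Scheme.Hom.denseRange f).closure_range]; trivial)
    exact ⟨c, (hc.antisymm ((genericPoint_spec S).specializes trivial)).eq⟩
  haveI : LocallyOfFinitePresentation f := UOpenLib.locallyOfFinitePresentation_of_isLocallyNoetherian f
  haveI : FormallyUnramified f := by
    refine (Groth.Agent.S5007.result (𝟙 S) f f (Category.comp_id f)).2 fun s => ?_
    haveI := hfib s
    haveI : LocallyQuasiFinite (pullback.snd f (S.fromSpecResidueField s)) := MorphismProperty.pullback_snd _ _ inferInstance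
    haveI : Etale (pullback.snd f (S.fromSpecResidueField s)) := (Groth.Agent.S4997.result _).2 ⟨inferInstance, inferInstance⟩
    let c := (IsPullback.of_hasPullback (𝟙 S) (S.fromSpecResidueField s)).isIso_snd_of_isIso
    let e := pullback.snd (𝟙 S) (S.fromSpecResidueField s)
    have he : Scheme.Hom.fiberι (𝟙 S) s = e ≫ S.fromSpecResidueField s := by
      rw [show Scheme.Hom.fiberι (𝟙 S) s = pullback.fst (𝟙 S) (S.fromSpecResidueField s) from rfl, ← pullback.condition,
        Category.comp_id]
    rw [he]
    let l := pullback.map f (e ≫ S.fromSpecResidueField s) f (S.fromSpecResidueField s) (𝟙 X) e (𝟙 S) (by simp) (by simp)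
    have hp : IsPullback l (pullback.snd f (e ≫ S.fromSpecResidueField s)) (pullback.snd f (S.fromSpecResidueField s)) e :=
      IsPullback.of_right (by
          rw [show l ≫ pullback.fst f (S.fromSpecResidueField s) = pullback.fst f (e ≫ S.fromSpecResidueField s) from
            (pullback.lift_fst _ _ _).trans (Category.comp_id _)]
          exact IsPullback.of_hasPullback f (e ≫ S.fromSpecResidueField s))
        (pullback.lift_snd _ _ _) (IsPullback.of_hasPullback f (S.fromSpecResidueField s))
    exact MorphismProperty.of_isPullback (P := @FormallyUnramified) hp inferInstance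
  exact (Groth.Agent.S1450.result f hS hgen).1

end Groth.Agent.S13423
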