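import Groth.Statements.S13424
import Groth.Agent.ClopenFFLib.Normal
import Groth.Agent.NormalExtLib.Scheme
import Groth.Agent.WeightLib.EtaleQF

set_option autoImplicit false
universe u
open CategoryTheory CategoryTheory.Limits AlgebraicGeometry
open GrpSch

namespace Groth.Agent.S13424

/-- Let S be a normal, locally Noetherian scheme over a field of characteristic 0. Let p : G → S and q :
H → S be smooth morphisms with sections e_G and e_H, and f : G → H an étale morphism over S with f ∘
e_G = e_H (the case in view: an étale homomorphism of smooth group schemes and their unit sections).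
Call such a pointed S-scheme aligned when the scheme-theoretic image of its section is étale over S.
If H is aligned then G is aligned. (The published statement has an arbitrary locally Noetherian
base; over the reducible curve xy = 0 the étale group scheme obtained from two copies of the base
glued along the complement of one branch maps to the trivial group by an étale homomorphism and is
not aligned, so the base is taken normal here, where the closure of the section is a union of
connected components of the preimage of the image of e_H. Schemes only.) -/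
theorem result {k : Type u} [Field k] [CharZero k] {S : Scheme.{u}} (σ : S ⟶ Spec (CommRingCat.of k)) [IsLocallyNoetherian S] (hS : Pi1.IsNormalScheme S)
    {G H : Scheme.{u}} (p : G ⟶ S) (q : H ⟶ S) [Smooth p] [Smooth q]
    (eG : S ⟶ G) (eH : S ⟶ H) (heG : eG ≫ p = 𝟙 S) (heH : eH ≫ q = 𝟙 S)
    (f : G ⟶ H) [Etale f] (hf : f ≫ q = p) (hfe : eG ≫ f = eH)
    (hH : Etale (eH.ker.subschemeι ≫ q)) :
    Etale (eG.ker.subschemeι ≫ p) := by
  haveI : IsLocallyNoetherian G := LocallyOfFiniteType.isLocallyNoetherian p
  haveI : IsImmersion eG := by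
    haveI : IsImmersion (eG ≫ p) := by rw [heG]; infer_instance
    exact IsImmersion.of_comp eG p
  haveI : QuasiCompact eG := by
    rw [← eG.liftCoborder_ι]
    infer_instance
  let qE := eH.ker.subschemeι ≫ q
  haveI : Etale qE := hH
  let a : pullback f eH.ker.subschemeι ⟶ G := pullback.fst _ _
  let b : pullback f eH.ker.subschemeι ⟶ eH.ker.subscheme := pullback.snd _ _
  haveI : IsClosedImmersion a :=
    MorphismProperty.of_isPullback (IsPullback.of_hasPullback f eH.ker.subschemeι).flip inferInstance
  haveI : Etale b := MorphismProperty.of_isPullback (IsPullback.of_hasPullback f eH.ker.subschemeι) inferInstance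
  let π := b ≫ qE
  haveI : Etale π := inferInstanceAs (Etale (b ≫ qE))
  haveI : IsLocallyNoetherian (pullback f eH.ker.subschemeι) := LocallyOfFiniteType.isLocallyNoetherian π
  haveI : LocallyQuasiFinite π := WeightLib.locallyQuasiFinite_of_etale π
  have haπ : a ≫ p = π := by
    show pullback.fst f eH.ker.subschemeι ≫ p = pullback.snd f eH.ker.subschemeι ≫ eH.ker.subschemeι ≫ q
    rw [← hf, ← Category.assoc, pullback.condition, Category.assoc]
  -- the pullback is normal
  have hdomS : ∀ s : S, IsDomain (S.presheaf.stalk s) := fun s => (hS s).1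
  have hWn : Pi1.IsNormalScheme (pullback f eH.ker.subschemeι) := fun w => by
    haveI := hdomS (π w)
    obtain ⟨V, hV, hVi⟩ := NormalExtLib.exists_isIntegral_nhd (X := S) (π w)
    haveI := hVi
    have hVn : Pi1.IsNormalScheme (V : Scheme.{u}) := fun v => by
      obtain ⟨h1, h2⟩ := hS v.1
      exact ⟨(V.stalkIso v).commRingCatIsoToRingEquiv.toMulEquiv.isDomain _,
        IsIntegrallyClosed.of_equiv (V.stalkIso v).commRingCatIsoToRingEquiv.symm⟩
    obtain ⟨h1, h2⟩ := ClopenFFLib.normal_of_etale (π ∣_ V) hVn (⟨w, hV⟩ : (π ⁻¹ᵁ V : (pullback f eH.ker.subschemeι).Opens))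
    exact ⟨((π ⁻¹ᵁ V).stalkIso ⟨w, hV⟩).commRingCatIsoToRingEquiv.symm.toMulEquiv.isDomain _,
      IsIntegrallyClosed.of_equiv ((π ⁻¹ᵁ V).stalkIso ⟨w, hV⟩).commRingCatIsoToRingEquiv⟩
  haveI : AlgebraicGeometry.IsReduced (pullback f eH.ker.subschemeι) := by
    haveI : ∀ w, _root_.IsReduced ((pullback f eH.ker.subschemeι).presheaf.stalk w) := fun w => by
      haveI := (hWn w).1; infer_instance
    exact isReduced_of_isReduced_stalk _
  let σ : S ⟶ pullback f eH.ker.subschemeι :=
    pullback.lift eG eH.toImage (by rw [hfe]; exact eH.toImage_imageι.symm)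
  have hσa : σ ≫ a = eG := pullback.lift_fst _ _ _
  have hσπ : ∀ s, π (σ s) = s := fun s => by
    rw [← Scheme.Hom.comp_apply, ← haπ, ← Category.assoc, hσa, heG]; rfl
  -- the closure of the section is open
  have hopen : IsOpen (closure (Set.range σ)) := by
    refine isOpen_iff_forall_mem_open.2 fun w hw => ?_
    haveI := (hWn w).1
    obtain ⟨V, hwV, hVi⟩ := NormalExtLib.exists_isIntegral_nhd (X := pullback f eH.ker.subschemeι) w
    haveI := hVi
    refine ⟨V, ?_, V.2, hwV⟩
    obtain ⟨_, hsV, ⟨s, rfl⟩⟩ := mem_closure_iff.1 hw _ V.2 hwV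
    haveI := hdomS s
    obtain ⟨T, hsT, hTi⟩ := NormalExtLib.exists_isIntegral_nhd (X := S) s
    haveI := hTi
    let η : S := T.ι (genericPoint (T : Scheme.{u}))
    have hηs : η ⤳ s := (genericPoint_specializes (α := ↑(T : Scheme.{u})) ⟨s, hsT⟩).map T.ι.continuous
    let ξ := V.ι (genericPoint (V : Scheme.{u}))
    have hση : σ η ∈ V := (hηs.map σ.continuous).mem_open V.2 hsV
    have hξ : ξ ⤳ σ η := (genericPoint_specializes (α := ↑(V : Scheme.{u})) ⟨σ η, hση⟩).map V.ι.continuous
    have hπξ : π ξ = η := by
      have h1 : π ξ ⤳ η := by simpa [hσπ] using hξ.map π.continuous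
      have hT : π ξ ∈ T := (h1.trans hηs).mem_open T.2 hsT
      have h2 : η ⤳ π ξ := (genericPoint_specializes (α := ↑(T : Scheme.{u})) ⟨π ξ, hT⟩).map T.ι.continuous
      exact (h1.antisymm h2).eq
    have heq : ξ = σ η := by
      haveI := (π.isDiscrete_preimage_singleton η).to_subtype
      have h3 : (⟨ξ, hπξ⟩ : π ⁻¹' {η}) ⤳ ⟨σ η, hσπ η⟩ := (subtype_specializes_iff _ _).2 hξ
      exact congrArg Subtype.val h3.eq
    intro v hv
    have hξv : ξ ⤳ v := (genericPoint_specializes (α := ↑(V : Scheme.{u})) ⟨v, hv⟩).map V.ι.continuous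
    exact hξv.mem_closed isClosed_closure (heq ▸ subset_closure ⟨η, rfl⟩)
  let C : (pullback f eH.ker.subschemeι).Opens := ⟨closure (Set.range σ), hopen⟩
  have hle : a.ker ≤ eG.ker.subschemeι.ker := by
    rw [Scheme.IdealSheafData.ker_subschemeι, ← hσa]
    exact Scheme.Hom.le_ker_comp _ _
  let c : eG.ker.subscheme ⟶ pullback f eH.ker.subschemeι := IsClosedImmersion.lift a eG.ker.subschemeι hle
  have hc : c ≫ a = eG.ker.subschemeι := IsClosedImmersion.lift_fac _ _ _
  haveI : IsClosedImmersion c := by
    haveI : IsClosedImmersion (c ≫ a) := by rw [hc]; infer_instance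
    exact IsClosedImmersion.of_comp c a
  have hrange : Set.range c = closure (Set.range σ) := by
    apply Set.image_injective.2 a.isClosedEmbedding.injective
    show a '' Set.range c = a '' closure (Set.range σ)
    rw [← a.isClosedEmbedding.closure_image_eq, ← Set.range_comp, ← Set.range_comp]
    show Set.range ⇑(c ≫ a) = closure (Set.range ⇑(σ ≫ a))
    rw [hc, hσa, eG.ker.range_subschemeι, eG.support_ker]
  haveI : Surjective (c ∣_ C) := ⟨fun v => by
    obtain ⟨z, hz⟩ : (v.1 : ↑(pullback f eH.ker.subschemeι)) ∈ Set.range c := hrange ▸ v.2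
    exact ⟨⟨z, show c z ∈ C from hz ▸ v.2⟩, Subtype.ext ((morphismRestrict_base_coe c C _).trans hz)⟩⟩
  haveI : IsIso (c ∣_ C) := isIso_of_isClosedImmersion_of_surjective _
  haveI : Surjective (c ⁻¹ᵁ C).ι := ⟨fun z => ⟨⟨z, show c z ∈ C from (show c z ∈ closure (Set.range σ) from hrange ▸ ⟨z, rfl⟩)⟩, rfl⟩⟩
  haveI : IsOpenImmersion c := by
    haveI : IsIso (c ⁻¹ᵁ C).ι := isIso_of_isOpenImmersion_of_opensRange_eq_top _ (TopologicalSpace.Opens.ext (Set.range_eq_univ.2 (c ⁻¹ᵁ C).ι.surjective))
    rw [← MorphismProperty.cancel_left_of_respectsIso @IsOpenImmersion (c ⁻¹ᵁ C).ι c, ← morphismRestrict_ι]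
    infer_instance
  rw [← hc, Category.assoc, haπ]
  infer_instance

end Groth.Agent.S13424
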