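import Groth.Statements.S13425
import Groth.Agent.S2415
import Groth.Agent.GeomRedFieldLib.Generic
import Mathlib.AlgebraicGeometry.Morphisms.UniversallyInjective
import Mathlib.AlgebraicGeometry.AlgClosed.Basic
-- import your own Groth.Agent.* helpers here

set_option autoImplicit false
universe u
open CategoryTheory AlgebraicGeometry
open NeronHD

namespace Groth.Agent.S13425

open CategoryTheory CategoryTheory.Limits AlgebraicGeometry

/-- Let k be a characteristic-zero algebraically closed field and X, Y integral schemes, separated and
of finite type over k, with Y normal, and let f : X → Y be a dominant k-morphism which is injective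
on k-rational points. Then f is an open immersion. (Case of schemes of a statement about algebraic
spaces.) -/
theorem result {k : Type u} [Field k] [IsAlgClosed k] [CharZero k]
    {X Y : Scheme.{u}} (sX : X ⟶ Spec (CommRingCat.of k)) (sY : Y ⟶ Spec (CommRingCat.of k))
    [IsIntegral X] [IsIntegral Y] [IsSeparated sX] [IsSeparated sY]
    [LocallyOfFiniteType sX] [QuasiCompact sX] [LocallyOfFiniteType sY] [QuasiCompact sY]
    (hY : Pi1.IsNormalScheme Y)
    (f : X ⟶ Y) (hf : f ≫ sY = sX) [IsDominant f]
    (hinj : ∀ a b : Spec (CommRingCat.of k) ⟶ X, a ≫ sX = 𝟙 _ → b ≫ sX = 𝟙 _ → a ≫ f = b ≫ f → a = b) :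
    IsOpenImmersion f := by
  haveI : IsSeparated (f ≫ sY) := hf ▸ inferInstance
  haveI : LocallyOfFiniteType (f ≫ sY) := hf ▸ inferInstance
  haveI : QuasiCompact (f ≫ sY) := hf ▸ inferInstance
  haveI : IsSeparated f := IsSeparated.of_comp f sY
  haveI : LocallyOfFiniteType f := locallyOfFiniteType_of_comp f sY
  haveI : QuasiCompact f := QuasiCompact.of_comp f sY
  haveI : IsLocallyNoetherian Y := LocallyOfFiniteType.isLocallyNoetherian sY
  haveI hui : UniversallyInjective f := by
    rw [UniversallyInjective.iff_diagonal]
    let s : pullback f f ⟶ Spec (CommRingCat.of k) := pullback.fst f f ≫ sX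
    haveI : JacobsonSpace ↥(pullback f f) := LocallyOfFiniteType.jacobsonSpace s
    let Δ := pullback.diagonal f
    have hcl : IsClosed (Set.range Δ) := Δ.isClosedEmbedding.isClosed_range
    have hsub : closedPoints ↥(pullback f f) ⊆ Set.range Δ := fun z hz => by
      let q := pointOfClosedPoint s z hz
      have hq : q ≫ s = 𝟙 _ := pointOfClosedPoint_comp s z hz
      have hab : q ≫ pullback.fst f f = q ≫ pullback.snd f f := by
        refine hinj _ _ (by rw [Category.assoc]; exact hq) ?_ (by simp only [Category.assoc, pullback.condition])
        rw [Category.assoc, ← hf, ← Category.assoc (pullback.snd f f), ← pullback.condition, Category.assoc, hf]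
        exact hq
      have hfac : (q ≫ pullback.fst f f) ≫ Δ = q := by
        refine pullback.hom_ext ?_ ?_
        · simp [Δ]
        · simp [Δ, hab]
      refine ⟨(q ≫ pullback.fst f f) (IsLocalRing.closedPoint k), ?_⟩
      rw [← Scheme.Hom.comp_apply, hfac]
      exact pointOfClosedPoint_apply s z hz _
    refine ⟨fun z => ?_⟩
    have h := hcl.closure_subset_iff.2 hsub
    rw [closure_closedPoints] at h
    exact h trivial
  let η := genericPoint X
  have hgen : f η = genericPoint Y := GeomRedFieldLib.map_genericPoint_eq f
  have hbij : Function.Bijective (f.residueFieldMap η).hom := by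
    have hpi : (f.residueFieldMap η).hom.IsPurelyInseparable :=
      (((tfae_universallyInjective f).out 0 2 (a := UniversallyInjective f)
        (b := Function.Injective f ∧ ∀ x, (f.residueFieldMap x).hom.IsPurelyInseparable)).1 hui).2 η
    haveI : CharZero (Y.residueField (f η)) :=
      charZero_of_injective_ringHom (f := ((Spec.preimage (Y.fromSpecResidueField (f η) ≫ sY)).hom : k →+* _))
        (RingHom.injective _)
    algebraize [(f.residueFieldMap η).hom]
    haveI : IsPurelyInseparable (Y.residueField (f η)) (X.residueField η) := hpi
    haveI : Algebra.IsAlgebraic (Y.residueField (f η)) (X.residueField η) :=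
      Algebra.IsIntegral.isAlgebraic
    exact ⟨RingHom.injective _, IsPurelyInseparable.surjective_algebraMap_of_isSeparable (Y.residueField (f η)) (X.residueField η)⟩
  haveI hX : IsField (X.presheaf.stalk η) := Field.toIsField X.functionField
  have hY' : IsField (Y.presheaf.stalk (f η)) := by
    rw [hgen]; exact Field.toIsField Y.functionField
  have hiso : IsIso (f.stalkMap η) := by
    rw [ConcreteCategory.isIso_iff_bijective]
    letI := hY'.toField
    refine ⟨RingHom.injective (f.stalkMap η).hom, fun a => ?_⟩
    obtain ⟨b, hb⟩ := hbij.2 (X.residue η a)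
    obtain ⟨c, rfl⟩ := Y.residue_surjective _ b
    refine ⟨c, ?_⟩
    have hc : X.residue η ((f.stalkMap η) c) = X.residue η a :=
      (congr($(Scheme.residue_residueFieldMap f η) c)).symm.trans hb
    letI := hX.toField
    exact (RingHom.injective (X.residue η).hom) hc
  exact (Groth.Agent.S2415.result hY f hgen hiso fun y => (Set.subsingleton_singleton.preimage f.injective).finite).1

end Groth.Agent.S13425
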