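import Groth.Statements.S13426
import Groth.Agent.S0346
import Groth.Agent.ChowLib.SchDom

set_option autoImplicit false
universe u
open CategoryTheory MonoidalCategory CartesianMonoidalCategory MonObj GrpObj AlgebraicGeometry
open GrpSch

namespace Groth.Agent.S13426

/-- Let S be a locally Noetherian scheme over a field of characteristic 0, S₀ ⊆ S a scheme-theoretically
dense open, and G a smooth S-scheme with the weak Néron mapping property for S₀ ⊆ S: for every étale
S-scheme U, restriction to S₀ is a bijection from S-morphisms U → G onto S₀-morphisms. Let H be a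
smooth group scheme over S together with a monomorphism H → G of S-schemes (the case in view: G a
group scheme and H a subgroup scheme), and assume that H is aligned, i.e. the scheme-theoretic image
of its unit section is étale over S, and that H ×_S S₀ → S₀ is separated. Then H → S is separated.
(Case of schemes of a statement about group algebraic spaces; only the injectivity of H → G on
morphisms is used of the subgroup condition.) -/
theorem result {k : Type u} [Field k] [CharZero k] {S : Scheme.{u}} (σ : S ⟶ Spec (CommRingCat.of k)) [IsLocallyNoetherian S] (S₀ : S.Opens) (hS₀ : CInt.IsSchematicallyDense S₀)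
    (G : Over S) [Smooth G.hom]
    (hG : ∀ U : Over S, Etale U.hom → Function.Bijective (fun g : U ⟶ G => (Over.pullback S₀.ι).map g))
    (H : Over S) [GrpObj H] [Smooth H.hom] (j : H ⟶ G) [Mono j.left]
    (hal : Etale (η[H].left.ker.subschemeι ≫ H.hom))
    (h0 : IsSeparated (Limits.pullback.snd H.hom S₀.ι)) :
    IsSeparated H.hom := by
  refine (Groth.Agent.S0346.result S H).1.2 ?_
  haveI : IsLocallyNoetherian H.left := LocallyOfFiniteType.isLocallyNoetherian H.hom
  let η' : S ⟶ H.left := η[H].left
  have hη' : η' ≫ H.hom = 𝟙 S := Over.w η[H]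
  haveI : QuasiCompact η' :=
    haveI : QuasiCompact (η' ≫ H.hom) := by rw [hη']; infer_instance
    QuasiCompact.of_comp η' H.hom
  let em := η'.imageι
  let t := η'.toImage
  let π := em ≫ H.hom
  have htem : t ≫ em = η' := η'.toImage_imageι
  have htπ : t ≫ π = 𝟙 S := by rw [← Category.assoc, htem, hη']
  -- the two maps agree over the open
  let V := π ⁻¹ᵁ S₀
  haveI : IsSeparated (Limits.pullback.snd H.hom S₀.ι) := h0
  have hV : V.ι ≫ em = V.ι ≫ π ≫ η' := by
    let a : V.toScheme ⟶ Limits.pullback H.hom S₀.ι :=
      Limits.pullback.lift (V.ι ≫ em) (π ∣_ S₀) (by rw [morphismRestrict_ι, Category.assoc])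
    let b : V.toScheme ⟶ Limits.pullback H.hom S₀.ι :=
      Limits.pullback.lift (V.ι ≫ π ≫ η') (π ∣_ S₀) (by
        rw [morphismRestrict_ι, Category.assoc, Category.assoc, hη', Category.comp_id])
    have hab : a = b := by
      refine ChowLib.hom_ext_of_schDom (t ∣_ V) (Limits.pullback.snd H.hom S₀.ι)
        ((Limits.pullback.lift_snd _ _ _).trans (Limits.pullback.lift_snd _ _ _).symm) ?_
      apply Limits.pullback.hom_ext
      · simp only [a, b, Category.assoc, Limits.pullback.lift_fst]
        rw [morphismRestrict_ι_assoc, morphismRestrict_ι_assoc, htem, reassoc_of% htπ]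
      · rw [Category.assoc, Category.assoc]
        exact congrArg ((t ∣_ V) ≫ ·) ((Limits.pullback.lift_snd _ _ _).trans (Limits.pullback.lift_snd _ _ _).symm)
    exact (Limits.pullback.lift_fst _ _ _).symm.trans
      ((congrArg (· ≫ Limits.pullback.fst H.hom S₀.ι) hab).trans (Limits.pullback.lift_fst _ _ _))
  -- the weak mapping property
  let EO : Over S := Over.mk π
  let f₁ : EO ⟶ H := Over.homMk em rfl
  let f₂ : EO ⟶ H := Over.homMk (π ≫ η') (by show (π ≫ η') ≫ H.hom = π; rw [Category.assoc, hη', Category.comp_id])
  have hp : (Over.pullback S₀.ι).map (f₁ ≫ j) = (Over.pullback S₀.ι).map (f₂ ≫ j) := by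
    let q := Limits.pullback.fst π S₀.ι
    let l := IsOpenImmersion.lift V.ι q (by
      rintro _ ⟨z, rfl⟩
      rw [Scheme.Opens.range_ι]
      show π.base (q.base z) ∈ S₀
      rw [← Scheme.Hom.comp_apply, Limits.pullback.condition, Scheme.Hom.comp_apply]
      exact (Limits.pullback.snd π S₀.ι z).2)
    have hq : l ≫ V.ι = q := IsOpenImmersion.lift_fac _ _ _
    refine Over.OverMorphism.ext (Limits.pullback.hom_ext ?_ ?_)
    · simp only [Over.pullback_map_left, Limits.pullback.lift_fst, Over.comp_left]
      show q ≫ em ≫ j.left = q ≫ (π ≫ η') ≫ j.left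
      rw [← hq, Category.assoc, reassoc_of% hV]
      simp only [Category.assoc]
    · simp only [Over.pullback_map_left, Limits.pullback.lift_snd]
  have h12 := congrArg CommaMorphism.left ((hG EO hal).1 hp)
  have hem : em = π ≫ η' := (cancel_mono j.left).1 h12
  haveI : IsIso t := ⟨π, htπ, (cancel_mono em).1 (by rw [Category.assoc, htem, Category.id_comp]; exact hem.symm)⟩
  show IsClosedImmersion η'
  rw [← htem]
  infer_instance

end Groth.Agent.S13426
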