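import Groth.Statements.S13428
import Groth.Agent.EtaleDenseLib.Basic
import Groth.Agent.S3694
-- import your own Groth.Agent.* helpers here

set_option autoImplicit false
universe u
open CategoryTheory AlgebraicGeometry
open NeronHD

namespace Groth.Agent.S13428

set_option backward.isDefEq.respectTransparency false

open CategoryTheory CategoryTheory.Limits AlgebraicGeometry

/-- A schematically dense open is dense. -/
theorem dense_of_isSchematicallyDense {X : Scheme.{u}} {U : X.Opens} (h : CInt.IsSchematicallyDense U) :
    Dense (U : Set X) := by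
  rw [dense_iff_inter_open]
  intro W hW ⟨x, hx⟩
  by_contra hne
  rw [Set.not_nonempty_iff_eq_empty] at hne
  let W' : X.Opens := ⟨W, hW⟩
  have he : W' ⊓ U = ⊥ := TopologicalSpace.Opens.ext hne
  haveI : Subsingleton Γ(X, W' ⊓ U) := by
    rw [he]; infer_instance
  haveI : Nonempty W' := ⟨⟨x, hx⟩⟩
  exact one_ne_zero (α := Γ(X, W')) (h W' (Subsingleton.elim _ _))

/-- Let S be a normal Noetherian scheme over a field of characteristic 0 and S₀ ⊆ S a
scheme-theoretically dense open. Let N be a smooth, separated and quasi-compact S-scheme with the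
Néron mapping property for S₀ ⊆ S (restriction to S₀ of S-morphisms from smooth S-schemes is
bijective) such that N|S₀ → S₀ is étale, so that N is a quasi-projective Néron model of the
quasi-projective étale S₀-scheme N|S₀. If M is a separated, quasi-compact, étale S-scheme and φ : M
→ N is an S-morphism restricting to an isomorphism over S₀ (so M is another quasi-projective étale
extension of N|S₀, and φ is its canonical map to the Néron model), then φ is an open immersion.
(Case of schemes of the published statement.) -/
theorem result {k : Type u} [Field k] [CharZero k] {S : Scheme.{u}} (σ : S ⟶ Spec (CommRingCat.of k)) [IsNoetherian S] (hS : Pi1.IsNormalScheme S) (S₀ : S.Opens) (hS₀ : CInt.IsSchematicallyDense S₀)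
    (N : Over S) [Smooth N.hom] [IsSeparated N.hom] [QuasiCompact N.hom]
    (hN : ∀ Z : Over S, Smooth Z.hom → Function.Bijective (fun g : Z ⟶ N => (Over.pullback S₀.ι).map g))
    [Etale ((Over.pullback S₀.ι).obj N).hom]
    (M : Over S) [Etale M.hom] [IsSeparated M.hom] [QuasiCompact M.hom]
    (φ : M ⟶ N) [IsIso ((Over.pullback S₀.ι).map φ)] :
    IsOpenImmersion φ.left := by
  have hd : Dense (S₀ : Set S) := dense_of_isSchematicallyDense hS₀
  haveI : Etale N.hom := by
    let V : N.left.Opens := N.hom ⁻¹ᵁ S₀
    haveI : FormallyUnramified (V.ι ≫ N.hom) := by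
      let e := IsOpenImmersion.isoOfRangeEq (pullback.fst N.hom S₀.ι) V.ι (by
        rw [Scheme.Opens.range_ι, Scheme.Pullback.range_fst, Scheme.Opens.range_ι]; rfl)
      have he : e.hom ≫ V.ι = pullback.fst N.hom S₀.ι := IsOpenImmersion.isoOfRangeEq_hom_fac _ _ _
      haveI : Etale (pullback.snd N.hom S₀.ι) := ‹Etale ((Over.pullback S₀.ι).obj N).hom›
      have h2 : V.ι ≫ N.hom = e.inv ≫ pullback.snd N.hom S₀.ι ≫ S₀.ι := by
        rw [← pullback.condition, ← reassoc_of% he, e.inv_hom_id_assoc]
      rw [h2]
      infer_instance
    exact EtaleDenseLib.etale_of_smooth_of_dense N.hom V (hd.preimage N.hom.isOpenMap)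
  haveI : Etale (φ.left ≫ N.hom) := by rw [Over.w φ]; infer_instance
  haveI : IsSeparated (φ.left ≫ N.hom) := by rw [Over.w φ]; infer_instance
  haveI : Etale φ.left := Etale.of_comp φ.left N.hom
  haveI : IsSeparated φ.left := IsSeparated.of_comp φ.left N.hom
  let Δ := pullback.diagonal φ.left
  let q := pullback.fst φ.left φ.left ≫ M.hom
  haveI : UniversallyInjective φ.left := by
    rw [UniversallyInjective.iff_diagonal]
    have hcl : IsClosed (Set.range Δ) := Δ.isClosedEmbedding.isClosed_range
    have hsub : q ⁻¹' (S₀ : Set S) ⊆ Set.range Δ := fun z hz => by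
      let r := (pullback φ.left φ.left).fromSpecResidueField z
      have hr : ∀ t, (r ≫ q) t ∈ S₀ := fun t => by
        rw [Scheme.Hom.comp_apply, Scheme.fromSpecResidueField_apply]; exact hz
      let t := IsOpenImmersion.lift S₀.ι (r ≫ q) (by
        rintro _ ⟨t, rfl⟩; rw [Scheme.Opens.range_ι]; exact hr t)
      have ht : t ≫ S₀.ι = r ≫ q := IsOpenImmersion.lift_fac _ _ _
      have hw : pullback.fst φ.left φ.left ≫ M.hom = pullback.snd φ.left φ.left ≫ M.hom := by
        rw [← Over.w φ, pullback.condition_assoc]
      let a : _ ⟶ pullback M.hom S₀.ι := pullback.lift (r ≫ pullback.fst φ.left φ.left) t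
        (by rw [ht, Category.assoc])
      let b : _ ⟶ pullback M.hom S₀.ι := pullback.lift (r ≫ pullback.snd φ.left φ.left) t
        (by rw [ht, Category.assoc, ← hw])
      haveI : IsIso ((Over.pullback S₀.ι).map φ).left := inferInstanceAs (IsIso ((Over.forget _).map ((Over.pullback S₀.ι).map φ)))
      have hab : a = b := by
        rw [← cancel_mono ((Over.pullback S₀.ι).map φ).left]
        refine pullback.hom_ext ?_ ?_
        · simp [a, b, pullback.condition]
        · simp [a, b]
      have hfs : r ≫ pullback.fst φ.left φ.left = r ≫ pullback.snd φ.left φ.left := by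
        simpa [a, b] using congrArg (fun c => c ≫ pullback.fst M.hom S₀.ι) hab
      have hfac : (r ≫ pullback.fst φ.left φ.left) ≫ Δ = r := by
        refine pullback.hom_ext ?_ ?_
        · simp [Δ]
        · simp [Δ, hfs]
      refine ⟨(r ≫ pullback.fst φ.left φ.left) (IsLocalRing.closedPoint _), ?_⟩
      rw [← Scheme.Hom.comp_apply, hfac]
      exact Scheme.fromSpecResidueField_apply _ _
    refine ⟨fun z => ?_⟩
    exact hcl.closure_subset_iff.2 hsub ((hd.preimage q.isOpenMap).closure_eq.ge trivial)
  exact Groth.Agent.S3694.result φ.left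

end Groth.Agent.S13428
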