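import Groth.Statements.S13429
import Groth.Agent.NeronNormLib.Finite
import Groth.Agent.NormalizNormalLib.Main
import Groth.Agent.AlgSpLib.Basic
import Groth.Agent.S4997
import Groth.Agent.S13432
-- import your own Groth.Agent.* helpers here

set_option autoImplicit false
universe u
open CategoryTheory AlgebraicGeometry
open NeronHD

namespace Groth.Agent.S13429

set_option backward.isDefEq.respectTransparency false

open CategoryTheory.Limits

/-- Let S be a normal Noetherian scheme over a field of characteristic 0, S₀ ⊆ S a scheme-theoretically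
dense open, and N₀ → S₀ separated, quasi-compact and étale (a quasi-projective étale S₀-scheme).
Then N₀ has a quasi-projective Néron model: there exist a separated, quasi-compact, étale S-scheme N
and an isomorphism of S₀-schemes N|S₀ ≅ N₀ such that N has the Néron mapping property for S₀ ⊆ S,
i.e. for every smooth S-scheme Z restriction to S₀ is a bijection from S-morphisms Z → N onto
S₀-morphisms Z|S₀ → N|S₀ (this determines N up to unique isomorphism). (Case of schemes, with smooth
test schemes, of the published statement.) -/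
theorem result {k : Type u} [Field k] [CharZero k] {S : Scheme.{u}} (σ : S ⟶ Spec (CommRingCat.of k)) [IsNoetherian S] (hS : Pi1.IsNormalScheme S) (S₀ : S.Opens) (hS₀ : CInt.IsSchematicallyDense S₀)
    (N₀ : Over (S₀ : Scheme.{u})) [Etale N₀.hom] [IsSeparated N₀.hom] [QuasiCompact N₀.hom] :
    ∃ (N : Over S) (e : (Over.pullback S₀.ι).obj N ≅ N₀), Etale N.hom ∧ IsSeparated N.hom ∧ QuasiCompact N.hom ∧
      ∀ Z : Over S, Smooth Z.hom → Function.Bijective (fun g : Z ⟶ N => (Over.pullback S₀.ι).map g) := by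
  haveI : IsLocallyNoetherian N₀.left := LocallyOfFiniteType.isLocallyNoetherian (N₀.hom ≫ S₀.ι)
  let g0 : N₀.left ⟶ S := N₀.hom ≫ S₀.ι
  haveI : Etale g0 := inferInstanceAs (Etale (N₀.hom ≫ S₀.ι))
  haveI : QuasiCompact S₀.ι := inferInstance
  haveI : QuasiCompact g0 := inferInstanceAs (QuasiCompact (N₀.hom ≫ S₀.ι))
  haveI : IsSeparated g0 := inferInstanceAs (IsSeparated (N₀.hom ≫ S₀.ι))
  haveI : CompactSpace N₀.left := QuasiCompact.compactSpace_of_compactSpace g0
  haveI : IsNoetherian N₀.left := {}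
  have hY : Pi1.IsNormalScheme N₀.left := fun y => by
    refine (Unram17Lib.normal_stalk_iff_of_smooth g0 (x := y) ?_).2 (hS _)
    rw [Scheme.Hom.smoothLocus_eq_top]; trivial
  haveI : ∀ y : N₀.left, _root_.IsReduced (N₀.left.presheaf.stalk y) := fun y => by
    haveI := (hY y).1; infer_instance
  haveI : IsReduced N₀.left := isReduced_of_isReduced_stalk _
  haveI : Finite ↥(irreducibleComponents ↥N₀.left) :=
    TopologicalSpace.NoetherianSpace.finite_irreducibleComponents.to_subtype
  have hfinc : LocallyFinite (fun Z : ↥(irreducibleComponents ↥N₀.left) => (Z : Set ↥N₀.left)) :=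
    locallyFinite_of_finite _
  have hT : Pi1.IsNormalScheme g0.normalization := NormalizNormalLib.normalization_isNormal g0 hY hfinc
  let π : g0.normalization ⟶ S := g0.fromNormalization
  haveI : IsFinite π := NeronNormLib.isFinite_fromNormalization_etale hS g0
  haveI : LocallyOfFinitePresentation π := UOpenLib.locallyOfFinitePresentation_of_isLocallyNoetherian _
  let j : N₀.left ⟶ g0.normalization := g0.toNormalization
  haveI : LocallyQuasiFinite g0 := ((Groth.Agent.S4997.result g0).1 inferInstance).2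
  haveI : IsOpenImmersion j := inferInstanceAs (IsOpenImmersion g0.toNormalization)
  have hj : j ≫ π = g0 := g0.toNormalization_fromNormalization
  have hjs : ∀ y, j y ∈ π.smoothLocus := fun y => by
    refine (SmoothDimLib.mem_smoothLocus_iff_exists (f := π) (j y)).2 ⟨j.opensRange, ⟨y, rfl⟩, ?_⟩
    have he : j.opensRange.ι = j.isoOpensRange.inv ≫ j := by
      rw [Iso.eq_inv_comp]; exact j.isoOpensRange_hom_ι
    rw [he, Category.assoc, hj]
    infer_instance
  let A : Set g0.normalization := (π ⁻¹ᵁ S₀ : Set g0.normalization) \ Set.range j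
  have hjA : ∀ y, j y ∉ closure A := fun y h => by
    obtain ⟨a, ha, ha'⟩ := mem_closure_iff.1 h _ j.isOpenEmbedding.isOpen_range ⟨y, rfl⟩
    exact ha'.2 ha
  let W : g0.normalization.Opens := π.smoothLocus ⊓ ⟨(closure A)ᶜ, isClosed_closure.isOpen_compl⟩
  have hWA : ∀ x ∈ W, π x ∈ S₀ → x ∈ Set.range j := fun x hx hxS => by
    by_contra hn
    exact hx.2 (subset_closure ⟨hxS, hn⟩)
  have hjW : ∀ y, j y ∈ W := fun y => ⟨hjs y, hjA y⟩
  let M : Over S := Over.mk (π.smoothLocus.ι ≫ π)
  let N : Over S := Over.mk (W.ι ≫ π)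
  let k' : N ⟶ M := Over.homMk (g0.normalization.homOfLE (inf_le_left : W ≤ π.smoothLocus))
    (by show g0.normalization.homOfLE _ ≫ π.smoothLocus.ι ≫ π = W.ι ≫ π; rw [Scheme.homOfLE_ι_assoc])
  haveI hsmM : Smooth (π.smoothLocus.ι ≫ π) := Scheme.Hom.smoothLocus_eq_top_iff.1 (by
    rw [← Scheme.Hom.preimage_smoothLocus_eq, eq_top_iff]
    rintro ⟨z, hz⟩ -
    exact hz)
  haveI : Etale (π.smoothLocus.ι ≫ π) :=
    (Groth.Agent.S4997.result (π.smoothLocus.ι ≫ π)).2 ⟨inferInstance, inferInstance⟩
  haveI hetN : Etale (W.ι ≫ π) := by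
    rw [← Scheme.homOfLE_ι g0.normalization (inf_le_left : W ≤ π.smoothLocus), Category.assoc]
    infer_instance
  haveI : IsNoetherian g0.normalization :=
    { toIsLocallyNoetherian := LocallyOfFiniteType.isLocallyNoetherian π
      toCompactSpace := QuasiCompact.compactSpace_of_compactSpace π }
  let i : N₀.left ⟶ W.toScheme := IsOpenImmersion.lift W.ι j (by
    rintro _ ⟨y, rfl⟩
    rw [Scheme.Opens.range_ι]
    exact hjW y)
  have hi : i ≫ W.ι = j := IsOpenImmersion.lift_fac _ _ _
  haveI : IsOpenImmersion i := by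
    haveI : IsOpenImmersion (i ≫ W.ι) := by rw [hi]; infer_instance
    exact IsOpenImmersion.of_comp i W.ι
  have hrange : Set.range (pullback.fst (W.ι ≫ π) S₀.ι).base = Set.range i.base := by
    rw [Scheme.Pullback.range_fst, Scheme.Opens.range_ι]
    ext w
    constructor
    · intro hw
      obtain ⟨y, hy⟩ := hWA (W.ι w) w.2 hw
      exact ⟨y, W.ι.isOpenEmbedding.injective (by rw [← Scheme.Hom.comp_apply, hi]; exact hy)⟩
    · rintro ⟨y, rfl⟩
      show (W.ι ≫ π) (i y) ∈ S₀
      rw [← Scheme.Hom.comp_apply, reassoc_of% hi, hj]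
      exact (N₀.hom y).2
  let e0 : pullback (W.ι ≫ π) S₀.ι ≅ N₀.left :=
    IsOpenImmersion.isoOfRangeEq (pullback.fst (W.ι ≫ π) S₀.ι) i hrange
  have he0 : e0.hom ≫ i = pullback.fst (W.ι ≫ π) S₀.ι := IsOpenImmersion.isoOfRangeEq_hom_fac _ _ hrange
  have he1 : e0.hom ≫ N₀.hom = pullback.snd (W.ι ≫ π) S₀.ι := by
    rw [← cancel_mono S₀.ι, Category.assoc, ← pullback.condition]
    show e0.hom ≫ g0 = pullback.fst (W.ι ≫ π) S₀.ι ≫ W.ι ≫ π
    exact (congrArg (fun m => e0.hom ≫ m) (hj.symm.trans (congrArg (fun m => m ≫ π) hi.symm))).trans (by simp [reassoc_of% he0])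
  refine ⟨N, Over.isoMk e0 he1, hetN, inferInstanceAs (IsSeparated (W.ι ≫ π)),
    inferInstanceAs (QuasiCompact (W.ι ≫ π)), fun Z hZ => ?_⟩
  haveI := hZ
  have hM := Groth.Agent.S13432.result σ hS S₀ hS₀ π hT Z hZ
  haveI : Mono k'.left := inferInstanceAs (Mono (g0.normalization.homOfLE (inf_le_left : W ≤ π.smoothLocus)))
  refine ⟨fun g₁ g₂ h => ?_, fun φ => ?_⟩
  · have h2 : g₁ ≫ k' = g₂ ≫ k' := hM.1 (by
      simp only [Functor.map_comp]
      exact congrArg (fun m => m ≫ (Over.pullback S₀.ι).map k') h)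
    refine Over.OverMorphism.ext ?_
    rw [← cancel_mono k'.left]
    exact congrArg CommaMorphism.left h2
  · obtain ⟨g, hg⟩ := hM.2 (φ ≫ (Over.pullback S₀.ι).map k')
    replace hg : (Over.pullback S₀.ι).map g = φ ≫ (Over.pullback S₀.ι).map k' := hg
    let gl : Z.left ⟶ π.smoothLocus.toScheme := g.left
    have hgl : gl ≫ π.smoothLocus.ι ≫ π = Z.hom := Over.w g
    haveI : Smooth (gl ≫ π.smoothLocus.ι ≫ π) := by rw [hgl]; exact hZ
    haveI : Smooth gl := AlgSpLib.smooth_of_comp_etale gl (π.smoothLocus.ι ≫ π)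
    let h : Z.left ⟶ g0.normalization := gl ≫ π.smoothLocus.ι
    have hh : h ≫ π = Z.hom := by simp only [h, Category.assoc]; exact hgl
    have hopen : IsOpenMap h := (gl ≫ π.smoothLocus.ι).isOpenMap
    have hfst := congrArg (fun m => m.left ≫ pullback.fst M.hom S₀.ι) hg
    simp only [Over.pullback_map_left, Over.comp_left, Category.assoc, pullback.lift_fst, pullback.lift_fst_assoc] at hfst
    have hpre : h ⁻¹' A = ∅ := by
      refine Set.eq_empty_of_forall_notMem fun z hz => hz.2 ?_
      have hzS : Z.hom z ∈ S₀ := by rw [← hh]; exact hz.1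
      obtain ⟨p, hp⟩ : z ∈ Set.range (pullback.fst Z.hom S₀.ι).base := by
        rw [Scheme.Pullback.range_fst, Scheme.Opens.range_ι]; exact hzS
      let w : W.toScheme := (φ.left ≫ pullback.fst N.hom S₀.ι) p
      have hzw : h z = W.ι w := by
        have h2 := congrArg (fun m => (m ≫ π.smoothLocus.ι) p) hfst
        have h3 : k'.left ≫ π.smoothLocus.ι = W.ι := g0.normalization.homOfLE_ι (inf_le_left : W ≤ π.smoothLocus)
        simp only [Category.assoc] at h2
        erw [h3] at h2
        erw [pullback.lift_fst_assoc, Category.assoc] at h2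
        rw [← hp, ← Scheme.Hom.comp_apply]
        exact h2
      obtain ⟨y, hy⟩ := hWA (W.ι w) w.2 (by rw [← hzw]; exact hz.1)
      exact ⟨y, hy.trans hzw.symm⟩
    have hnC : ∀ z, h z ∉ closure A := fun z hz => by
      have h1 : z ∈ h ⁻¹' closure A := hz
      rw [hopen.preimage_closure_eq_closure_preimage h.continuous, hpre, closure_empty] at h1
      exact h1
    let gW : Z.left ⟶ W.toScheme := IsOpenImmersion.lift W.ι h (by
      rintro _ ⟨z, rfl⟩
      rw [Scheme.Opens.range_ι]
      exact ⟨(gl z).2, hnC z⟩)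
    have hgW : gW ≫ W.ι = h := IsOpenImmersion.lift_fac _ _ _
    let g' : Z ⟶ N := Over.homMk gW (show gW ≫ W.ι ≫ π = Z.hom by rw [reassoc_of% hgW, hh])
    have hgk : g' ≫ k' = g := by
      refine Over.OverMorphism.ext ?_
      show gW ≫ g0.normalization.homOfLE (inf_le_left : W ≤ π.smoothLocus) = gl
      rw [← cancel_mono π.smoothLocus.ι, Category.assoc, Scheme.homOfLE_ι, hgW]
    haveI : Mono k' := (Over.forget S).mono_of_mono_map (inferInstanceAs (Mono k'.left))
    refine ⟨g', ?_⟩
    rw [← cancel_mono ((Over.pullback S₀.ι).map k')]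
    show (Over.pullback S₀.ι).map g' ≫ _ = _
    rw [← Functor.map_comp, hgk, hg]

end Groth.Agent.S13429
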