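import Groth.Statements.S13430
import Groth.Agent.NeronTorsLib.Basic
-- import your own Groth.Agent.* helpers here

set_option autoImplicit false
universe u
open CategoryTheory MonoidalCategory CartesianMonoidalCategory MonObj GrpObj AlgebraicGeometry
open NeronHD

namespace Groth.Agent.S13430

/-- The implication ⇐: let S be a locally Noetherian scheme over a field of characteristic 0 and S₀ ⊆ S
a scheme-theoretically dense open. Let G be a smooth group scheme over S and N a smooth S-scheme,
both with the Néron mapping property for S₀ ⊆ S (restriction to S₀ of S-morphisms from smooth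
S-schemes is bijective), and let a be an action of G on N over S whose translation map G ×_S N → N
×_S N, (g, x) ↦ (g·x, x), restricts to an isomorphism over S₀, so that N|S₀ is a pseudo-torsor under
G|S₀ and a is the unique extension of that action. If N → S is surjective, then the translation map
is an isomorphism: N is a pseudo-torsor under G over all of S (and then a torsor for the étale
topology, N → S being smooth and surjective). (Case of schemes of a statement about group algebraic
spaces; the converse 'torsor ⇒ surjective' presumes local triviality.) -/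
theorem result {k : Type u} [Field k] [CharZero k] {S : Scheme.{u}} (σ : S ⟶ Spec (CommRingCat.of k)) [IsLocallyNoetherian S] (S₀ : S.Opens) (hS₀ : CInt.IsSchematicallyDense S₀)
    (G : Over S) [GrpObj G] [Smooth G.hom]
    (hG : ∀ Z : Over S, Smooth Z.hom → Function.Bijective (fun g : Z ⟶ G => (Over.pullback S₀.ι).map g))
    (N : Over S) [Smooth N.hom] [Surjective N.hom]
    (hN : ∀ Z : Over S, Smooth Z.hom → Function.Bijective (fun g : Z ⟶ N => (Over.pullback S₀.ι).map g))
    (a : AlgGrp.Action G N)
    (h0 : IsIso ((Over.pullback S₀.ι).map (lift a.act (snd G N)))) :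
    NonAbH1.IsPseudoTorsorSch a := by
  obtain ⟨hGs, hGe⟩ := (NeronTorsLib.bijective_iff S₀ G).1 hG
  obtain ⟨hNs, hNe⟩ := (NeronTorsLib.bijective_iff S₀ N).1 hN
  haveI hGN : Smooth (G ⊗ N).hom := NeronTorsLib.smooth_tensor G N
  haveI hNN : Smooth (N ⊗ N).hom := NeronTorsLib.smooth_tensor N N
  let t := lift a.act (snd G N)
  let F := Over.pullback S₀.ι
  haveI : IsIso (F.map t) := h0
  let r₁ := NeronTorsLib.incl S₀ (G ⊗ N)
  let r₂ := NeronTorsLib.incl S₀ (N ⊗ N)
  let T := NeronTorsLib.resMap S₀ t
  let s₀ : NeronTorsLib.res S₀ (N ⊗ N) ⟶ NeronTorsLib.res S₀ (G ⊗ N) := Over.homMk (inv (F.map t)).left (by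
    show (inv (F.map t)).left ≫ Limits.pullback.fst (G ⊗ N).hom S₀.ι ≫ (G ⊗ N).hom =
      Limits.pullback.fst (N ⊗ N).hom S₀.ι ≫ (N ⊗ N).hom
    rw [Limits.pullback.condition, Limits.pullback.condition, ← Category.assoc]
    exact congrArg (· ≫ S₀.ι) (Over.w (inv (F.map t))))
  have hs₁ : s₀ ≫ T = 𝟙 _ := Over.OverMorphism.ext (by
    show (inv (F.map t)).left ≫ (F.map t).left = _
    rw [← Over.comp_left, IsIso.inv_hom_id]; rfl)
  have hs₂ : T ≫ s₀ = 𝟙 _ := Over.OverMorphism.ext (by
    show (F.map t).left ≫ (inv (F.map t)).left = _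
    rw [← Over.comp_left, IsIso.hom_inv_id]; rfl)
  have hTr : T ≫ r₂ = r₁ ≫ t := NeronTorsLib.resMap_incl S₀ t
  obtain ⟨u, hu⟩ := hGe (N ⊗ N) hNN (s₀ ≫ r₁ ≫ fst G N)
  have h1 : t ≫ lift u (snd N N) = 𝟙 _ := by
    apply CartesianMonoidalCategory.hom_ext
    · rw [Category.assoc, lift_fst, Category.id_comp]
      refine hGs _ hGN _ _ ?_
      rw [← reassoc_of% hTr, hu, reassoc_of% hs₂]
    · simp [t]
  have h2 : r₂ ≫ lift u (snd N N) = s₀ ≫ r₁ := by
    apply CartesianMonoidalCategory.hom_ext
    · rw [Category.assoc, lift_fst, Category.assoc, hu]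
    · rw [Category.assoc, lift_snd, Category.assoc]
      calc r₂ ≫ snd N N = (s₀ ≫ T) ≫ r₂ ≫ snd N N := by rw [hs₁, Category.id_comp]
        _ = s₀ ≫ r₁ ≫ snd G N := by rw [Category.assoc, reassoc_of% hTr]; simp [t]
  refine ⟨lift u (snd N N), h1, ?_⟩
  apply CartesianMonoidalCategory.hom_ext
  · refine hNs _ hNN _ _ ?_
    rw [Category.assoc, Category.id_comp, reassoc_of% h2, ← reassoc_of% hTr, reassoc_of% hs₁]
  · simp

end Groth.Agent.S13430
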