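import Groth.Statements.S13431
import Groth.Agent.NeronTorsLib.Basic
-- import your own Groth.Agent.* helpers here

set_option autoImplicit false
universe u
open CategoryTheory MonoidalCategory CartesianMonoidalCategory MonObj GrpObj AlgebraicGeometry
open NeronHD

namespace Groth.Agent.S13431

/-- Let S be a locally Noetherian scheme over a field of characteristic 0 and S₀ ⊆ S a
scheme-theoretically dense open. Let G be a smooth group scheme over S and N a smooth S-scheme with
N → S surjective, equipped with an action of G making N a pseudo-torsor: the translation map G ×_S N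
→ N ×_S N, (g, x) ↦ (g·x, x), is an isomorphism. Then G has the Néron mapping property for S₀ ⊆ S
(restriction to S₀ of S-morphisms from smooth S-schemes is bijective) if and only if N has it. (The
published statement says 'G-torsor' with torsor defined as an action whose translation map is an
isomorphism; for N empty that holds and N has the mapping property while G need not, so surjectivity
of N → S — which gives étale-local sections — is assumed here, as the published proof uses. Case of
schemes of a statement about algebraic spaces.) -/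
theorem result {k : Type u} [Field k] [CharZero k] {S : Scheme.{u}} (σ : S ⟶ Spec (CommRingCat.of k)) [IsLocallyNoetherian S] (S₀ : S.Opens) (hS₀ : CInt.IsSchematicallyDense S₀)
    (G : Over S) [GrpObj G] [Smooth G.hom]
    (N : Over S) [Smooth N.hom] [Surjective N.hom]
    (a : AlgGrp.Action G N) (ha : NonAbH1.IsPseudoTorsorSch a) :
    (∀ Z : Over S, Smooth Z.hom → Function.Bijective (fun g : Z ⟶ G => (Over.pullback S₀.ι).map g)) ↔
    (∀ Z : Over S, Smooth Z.hom → Function.Bijective (fun g : Z ⟶ N => (Over.pullback S₀.ι).map g)) := by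
  rw [NeronTorsLib.bijective_iff, NeronTorsLib.bijective_iff]
  haveI : IsIso (lift a.act (snd G N)) := ha
  let t := lift a.act (snd G N)
  let act : ∀ {Z : Over S}, (Z ⟶ G) → (Z ⟶ N) → (Z ⟶ N) := fun g n => lift g n ≫ a.act
  let dv : ∀ {Z : Over S}, (Z ⟶ N) → (Z ⟶ N) → (Z ⟶ G) := fun n₁ n₂ => lift n₁ n₂ ≫ inv t ≫ fst G N
  have hdv : ∀ {Z : Over S} (g : Z ⟶ G) (n : Z ⟶ N), dv (act g n) n = g := fun g n => by
    have : lift (act g n) n = lift g n ≫ t := by apply CartesianMonoidalCategory.hom_ext <;> simp [t, act]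
    simp [dv, this]
  have hact : ∀ {Z : Over S} (n₁ n₂ : Z ⟶ N), act (dv n₁ n₂) n₂ = n₁ := fun n₁ n₂ => by
    have h2 : lift n₁ n₂ ≫ inv t ≫ snd G N = n₂ := by
      rw [show inv t ≫ snd G N = snd N N from by rw [IsIso.inv_comp_eq]; simp [t], lift_snd]
    have h1 : lift (dv n₁ n₂) n₂ = lift n₁ n₂ ≫ inv t := by
      apply CartesianMonoidalCategory.hom_ext <;> simp [dv, h2]
    show lift (dv n₁ n₂) n₂ ≫ a.act = n₁
    rw [h1, show a.act = t ≫ fst N N from (lift_fst _ _).symm, Category.assoc, IsIso.inv_hom_id_assoc, lift_fst]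
  have ncomp : ∀ {W Z : Over S} (r : W ⟶ Z) (g : Z ⟶ G) (n : Z ⟶ N), r ≫ act g n = act (r ≫ g) (r ≫ n) :=
    fun r g n => by simp only [act, comp_lift_assoc]
  have ndv : ∀ {W Z : Over S} (r : W ⟶ Z) (n₁ n₂ : Z ⟶ N), r ≫ dv n₁ n₂ = dv (r ≫ n₁) (r ≫ n₂) :=
    fun r n₁ n₂ => by simp only [dv, comp_lift_assoc]
  constructor
  · rintro ⟨hGs, hGe⟩
    have hNs : NeronTorsLib.Sep S₀ N := fun Z hZ f₁ f₂ h => by
      have h' : dv f₁ f₂ = dv f₂ f₂ := hGs Z hZ _ _ (by rw [ndv, ndv, h])
      rw [← hact f₁ f₂, h', hact]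
    refine ⟨hNs, fun Z hZ b => ?_⟩
    haveI := hZ
    haveI hZN : Smooth (Z ⊗ N).hom := NeronTorsLib.smooth_tensor Z N
    obtain ⟨g, hg⟩ := hGe (Z ⊗ N) hZN
      (dv (NeronTorsLib.resMap S₀ (fst Z N) ≫ b) (NeronTorsLib.incl S₀ (Z ⊗ N) ≫ snd Z N))
    refine NeronTorsLib.descend S₀ hNs b (act g (snd Z N)) ?_
    rw [ncomp, hg, hact]
  · rintro ⟨hNs, hNe⟩
    have hGs : NeronTorsLib.Sep S₀ G := fun Z hZ g₁ g₂ h => by
      haveI := hZ
      haveI hZN : Smooth (Z ⊗ N).hom := NeronTorsLib.smooth_tensor Z N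
      haveI : Smooth (fst Z N).left := inferInstanceAs (Smooth (Limits.pullback.fst Z.hom N.hom))
      haveI : Surjective (fst Z N).left := inferInstanceAs (Surjective (Limits.pullback.fst Z.hom N.hom))
      have h' : act (fst Z N ≫ g₁) (snd Z N) = act (fst Z N ≫ g₂) (snd Z N) := hNs _ hZN _ _ (by
        rw [ncomp, ncomp, ← NeronTorsLib.resMap_incl_assoc, ← NeronTorsLib.resMap_incl_assoc, h])
      have h2 : fst Z N ≫ g₁ = fst Z N ≫ g₂ := by rw [← hdv (fst Z N ≫ g₁) (snd Z N), h', hdv]
      exact Over.OverMorphism.ext ((cancel_epi (fst Z N).left).1 (congrArg CommaMorphism.left h2))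
    refine ⟨hGs, fun Z hZ b => ?_⟩
    haveI := hZ
    haveI hZN : Smooth (Z ⊗ N).hom := NeronTorsLib.smooth_tensor Z N
    obtain ⟨f, hf⟩ := hNe (Z ⊗ N) hZN
      (act (NeronTorsLib.resMap S₀ (fst Z N) ≫ b) (NeronTorsLib.incl S₀ (Z ⊗ N) ≫ snd Z N))
    refine NeronTorsLib.descend S₀ hGs b (dv f (snd Z N)) ?_
    rw [ndv, hf, hdv]

end Groth.Agent.S13431
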