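import Groth.Statements.S13434
import Groth.Agent.HilbTgtLib.Decomp


-- import your own Groth.Agent.* helpers here

set_option autoImplicit false
universe u
open W4c1hilbpn

namespace Groth.Agent.S13434

open W4c1hilbpn in
/-- Let k be an infinite field, n ≥ 2, S the polynomial ring over k in n variables, I a monomial ideal
of S of finite colength and T(I) = Hom_S(I, S/I) with its grading by integer vectors. The graded
piece of T(I) in every multidegree all of whose entries are nonnegative, or all of whose entries are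
negative, vanishes, and T(I) is spanned by its pieces of non-constant sign pattern (the spans, over
the sets N of variable indices that are neither empty nor all indices, of the graded pieces whose
multidegree is negative exactly at N). -/
theorem result (k : Type u) [Field k] [Infinite k]
    (n : ℕ) (hn : 2 ≤ n) (I : Ideal (MvPolynomial (Fin n) k)) (hI : IsMonomial I)
    [Module.Finite k (MvPolynomial (Fin n) k ⧸ I)] :
    (∀ α : Fin n → ℤ, ((∀ i, 0 ≤ α i) ∨ (∀ i, α i < 0)) → tPiece I α = ⊥) ∧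
      (⨆ N : {N : Set (Fin n) // N.Nonempty ∧ N ≠ Set.univ}, sigPiece I N.1) = ⊤ := by
  haveI : Nontrivial (Fin n) := Fin.nontrivial_iff_two_le.2 hn
  have h1 : ∀ α : Fin n → ℤ, ((∀ i, 0 ≤ α i) ∨ (∀ i, α i < 0)) → tPiece I α = ⊥ := by
    rintro α (h | h)
    · exact HilbTgtLib.tPiece_eq_bot I α hI (HilbTgtLib.isEmpty_posComp_nonneg I α h)
    · exact HilbTgtLib.tPiece_eq_bot I α hI (HilbTgtLib.isEmpty_posComp_neg I α hI h)
  refine ⟨h1, eq_top_iff.2 fun φ _ => ?_⟩
  haveI := (HilbTgtLib.finite_degSet I hI).to_subtype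
  haveI := Fintype.ofFinite (HilbTgtLib.degSet I)
  rw [← HilbTgtLib.sum_toTgt I hI φ]
  refine Submodule.sum_mem _ fun a _ => ?_
  have hne1 : ¬ ∀ i, 0 ≤ a.1 i := fun h => by
    obtain ⟨c⟩ := a.2
    exact (HilbTgtLib.isEmpty_posComp_nonneg I a.1 h).elim c
  have hne2 : ¬ ∀ i, a.1 i < 0 := fun h => by
    obtain ⟨c⟩ := a.2
    exact (HilbTgtLib.isEmpty_posComp_neg I a.1 hI h).elim c
  refine Submodule.mem_iSup_of_mem ⟨{i | a.1 i < 0}, ?_, ?_⟩ ?_
  · obtain ⟨i, hi⟩ := not_forall.1 hne1
    exact ⟨i, not_le.1 hi⟩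
  · exact fun e => hne2 fun i => (Set.eq_univ_iff_forall.1 e) i
  · exact Submodule.mem_iSup_of_mem ⟨a.1, fun i => Iff.rfl⟩ (HilbTgtLib.toTgt_mem I a.1 hI _)

end Groth.Agent.S13434
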