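import Groth.Statements.S13435
import Mathlib
import Groth.Agent.HilbTgtLib.Piece

set_option autoImplicit false
set_option backward.isDefEq.respectTransparency false
set_option backward.isDefEq.respectTransparency.types false
set_option maxHeartbeats 1000000
set_option synthInstance.maxHeartbeats 400000
universe u
open W4c1hilbpn

namespace Groth.Agent.S13435

open W4c1hilbpn HilbTgtLib MvPolynomial in
private theorem mem_exps {k : Type u} [Field k] {n : ℕ} (r : ℕ) (β : Fin n →₀ ℕ) :
    β ∈ exps ((Ideal.span (Set.range (X : Fin n → MvPolynomial (Fin n) k))) ^ r) ↔ r ≤ β.degree := by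
  show monomial β (1 : k) ∈ (Ideal.span (Set.range (X : Fin n → MvPolynomial (Fin n) k))) ^ r ↔ _
  rw [show Ideal.span (Set.range (X : Fin n → MvPolynomial (Fin n) k)) = idealOfVars (Fin n) k from rfl,
    mem_pow_idealOfVars_iff']
  constructor
  · intro h
    by_contra hlt
    exact one_ne_zero (α := k) (by simpa using h β (not_le.1 hlt))
  · intro h γ hγ
    rw [coeff_monomial, if_neg]
    rintro rfl; omega

open W4c1hilbpn HilbTgtLib MvPolynomial in
private theorem isMonomial_pow {k : Type u} [Field k] {n : ℕ} (r : ℕ) :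
    IsMonomial ((Ideal.span (Set.range (X : Fin n → MvPolynomial (Fin n) k))) ^ r) := by
  intro p hp β hβ
  refine (mem_exps r β).2 ?_
  by_contra hlt
  exact mem_support_iff.1 hβ ((mem_pow_idealOfVars_iff' r p).1 hp β (not_le.1 hlt))

private theorem degree_eq {n : ℕ} (γ : Fin n → ℤ) (h : ∀ i, 0 ≤ γ i) :
    ((HilbTgtLib.ofZ γ).degree : ℤ) = ∑ i, γ i := by
  rw [Finsupp.degree_eq_sum, Nat.cast_sum]
  exact Finset.sum_congr rfl fun i _ => by rw [HilbTgtLib.ofZ_apply, Int.toNat_of_nonneg (h i)]

open W4c1hilbpn HilbTgtLib MvPolynomial in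
private theorem region_desc {k : Type u} [Field k] {n : ℕ} (r : ℕ) (α γ : Fin n → ℤ) :
    γ ∈ region ((Ideal.span (Set.range (X : Fin n → MvPolynomial (Fin n) k))) ^ r) α ↔
      (∀ i, α i ≤ γ i) ∧ (r : ℤ) + ∑ i, α i ≤ ∑ i, γ i ∧ ((∀ i, 0 ≤ γ i) → ∑ i, γ i < r) := by
  rw [region_iff, mem_exps, mem_exps, and_assoc]
  refine and_congr_right fun h => and_congr ?_ ?_
  · rw [← Nat.cast_le (α := ℤ), degree_eq _ (fun i => by simpa using h i)]
    simp only [Pi.sub_apply, Finset.sum_sub_distrib]
    omega
  · refine ⟨fun h' h0 => ?_, fun h' ⟨h0, h1⟩ => ?_⟩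
    · by_contra hle
      exact h' ⟨h0, by rw [← Nat.cast_le (α := ℤ), degree_eq _ h0]; omega⟩
    · rw [← Nat.cast_le (α := ℤ), degree_eq _ h0] at h1
      have := h' h0; omega

private theorem sum_add_single {n : ℕ} (γ : Fin n → ℤ) (i : Fin n) (t : ℤ) :
    ∑ j, (γ + Pi.single i t : Fin n → ℤ) j = (∑ j, γ j) + t := by
  simp [Finset.sum_add_distrib]

open W4c1hilbpn HilbTgtLib MvPolynomial SimpleGraph in
/-- For a total degree other than `-1` every component meets the negative region. -/
private theorem not_pos {k : Type u} [Field k] {n : ℕ} (hn : 2 ≤ n) (r : ℕ) (α : Fin n → ℤ)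
    (hs : ∑ i, α i ≠ -1) :
    IsEmpty (PosComp ((Ideal.span (Set.range (X : Fin n → MvPolynomial (Fin n) k))) ^ r) α) := by
  classical
  refine ⟨fun c => ?_⟩
  obtain ⟨⟨γ, hγ⟩, hc⟩ := c.1.exists_rep
  have hpos : ∀ δ : region ((Ideal.span (Set.range (X : Fin n → MvPolynomial (Fin n) k))) ^ r) α,
      ((stepGraph (Fin n)).induce _).connectedComponentMk δ = c.1 → ∀ i, 0 ≤ δ.1 i :=
    fun δ hδ => c.2 δ ((ConnectedComponent.mem_supp_iff _ _).2 hδ)
  have h0 : ∀ i, 0 ≤ γ i := hpos ⟨γ, hγ⟩ hc
  obtain ⟨-, h1, h2⟩ := (region_desc r α γ).1 hγ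
  have hlt := h2 h0
  obtain ⟨j, hj⟩ : ∃ j, α j < 0 := by
    by_contra! h
    have : 0 ≤ ∑ i, α i := Finset.sum_nonneg fun i _ => h i
    omega
  haveI : Nontrivial (Fin n) := Fin.nontrivial_iff_two_le.2 hn
  obtain ⟨i, hij⟩ := exists_ne j
  -- a step inside the region stays in the component
  have step : ∀ (a b : Fin n → ℤ) (ha : a ∈ region ((Ideal.span (Set.range (X : Fin n → MvPolynomial (Fin n) k))) ^ r) α),
      ((stepGraph (Fin n)).induce _).connectedComponentMk ⟨a, ha⟩ = c.1 →
      (∃ l, b = a + Pi.single l 1 ∨ a = b + Pi.single l 1) →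
      ∀ hb : b ∈ region ((Ideal.span (Set.range (X : Fin n → MvPolynomial (Fin n) k))) ^ r) α,
      ((stepGraph (Fin n)).induce _).connectedComponentMk ⟨b, hb⟩ = c.1 := by
    intro a b ha hac hl hb
    obtain ⟨l, hl | hl⟩ := hl
    · refine (ConnectedComponent.connectedComponentMk_eq_of_adj ?_).trans hac
      show (stepGraph (Fin n)).Adj b a
      rw [hl]; exact (adj_single _ _).symm
    · refine (ConnectedComponent.connectedComponentMk_eq_of_adj ?_).trans hac
      show (stepGraph (Fin n)).Adj b a
      rw [hl]; exact adj_single _ _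
  have key : ∀ (m : ℕ) (a : Fin n → ℤ) (ha : a ∈ region ((Ideal.span (Set.range (X : Fin n → MvPolynomial (Fin n) k))) ^ r) α),
      a j ≤ m → ((stepGraph (Fin n)).induce _).connectedComponentMk ⟨a, ha⟩ = c.1 → False := by
    intro m
    induction m using Nat.strong_induction_on with
    | _ m ih =>
      intro a ha ham hac
      have ha0 : ∀ l, 0 ≤ a l := hpos ⟨a, ha⟩ hac
      obtain ⟨hle, hlo, hhi⟩ := (region_desc r α a).1 ha
      have hhi' := hhi ha0
      -- raise the sum if it is minimal
      by_cases hmin : (r : ℤ) + ∑ i, α i = ∑ i, a i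
      · have hb : a + Pi.single i 1 ∈ region ((Ideal.span (Set.range (X : Fin n → MvPolynomial (Fin n) k))) ^ r) α := by
          refine (region_desc r α _).2 ⟨fun l => ?_, by rw [sum_add_single]; omega, fun _ => by rw [sum_add_single]; omega⟩
          have := hle l
          rcases eq_or_ne l i with rfl | hl
          · simp; omega
          · simpa [hl] using this
        have hbc := step _ _ ha hac ⟨i, Or.inl rfl⟩ hb
        have hb' : a + Pi.single i 1 + Pi.single j (-1) ∈ region ((Ideal.span (Set.range (X : Fin n → MvPolynomial (Fin n) k))) ^ r) α := by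
          refine (region_desc r α _).2 ⟨fun l => ?_, by rw [sum_add_single, sum_add_single]; omega,
            fun _ => by rw [sum_add_single, sum_add_single]; omega⟩
          have := hle l; have := ha0 l
          rcases eq_or_ne l j with rfl | hl
          · simp [hij.symm]; omega
          · rcases eq_or_ne l i with rfl | hl'
            · simp [hl]; omega
            · simpa [hl, hl'] using hle l
        have hb'c := step _ _ hb hbc ⟨j, Or.inr (by rw [add_assoc (a + Pi.single i 1), ← Pi.single_add]; simp)⟩ hb'
        have := hpos ⟨_, hb'⟩ hb'c j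
        simp [hij.symm] at this
        exact ih (m - 1) (by omega) _ hb' (by simp [hij.symm]; omega) hb'c
      · have hb : a + Pi.single j (-1) ∈ region ((Ideal.span (Set.range (X : Fin n → MvPolynomial (Fin n) k))) ^ r) α := by
          refine (region_desc r α _).2 ⟨fun l => ?_, by rw [sum_add_single]; omega, fun _ => by rw [sum_add_single]; omega⟩
          have := hle l; have := ha0 l
          rcases eq_or_ne l j with rfl | hl
          · simp; omega
          · simpa [hl] using hle l
        have hbc := step _ _ ha hac ⟨j, Or.inr (by rw [add_assoc, ← Pi.single_add]; simp)⟩ hb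
        have := hpos ⟨_, hb⟩ hbc j
        simp at this
        exact ih (m - 1) (by omega) _ hb (by simp; omega) hbc
  exact key (γ j).toNat γ hγ (by rw [Int.toNat_of_nonneg (h0 j)]) hc


open W4c1hilbpn in
/-- Let k be an infinite field, n ≥ 2, S the polynomial ring over k in n variables with irrelevant ideal
m, r a natural number and α an integer vector; write w for the sum of the absolute values of the
negative entries of α. The graded piece of T(m^r) = Hom_S(m^r, S/m^r) of multidegree α is zero
unless the entries of α sum to -1 and w ≤ r, and in that case its dimension is the binomial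
coefficient C(n + r - w - 1, n - 1). (The published statement allows any number of variables; in one
variable it fails: the map (x^2) → k[x]/(x^2) sending x^2 to 1 is nonzero of degree −2. This row
assumes n ≥ 2.) -/
theorem result (k : Type u) [Field k] [Infinite k]
    (n : ℕ) (hn : 2 ≤ n) (r : ℕ) (α : Fin n → ℤ) :
    Module.finrank k ↥(tPiece ((Ideal.span (Set.range (MvPolynomial.X : Fin n → MvPolynomial (Fin n) k))) ^ r) α) =
      if (∑ i, α i = -1 ∧ ∑ i, (-α i).toNat ≤ r)
        then Nat.choose (n + r - (∑ i, (-α i).toNat) - 1) (n - 1) else 0 := by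
  classical
  haveI : Nontrivial (Fin n) := Fin.nontrivial_iff_two_le.2 hn
  set I := (Ideal.span (Set.range (MvPolynomial.X : Fin n → MvPolynomial (Fin n) k))) ^ r with hI
  have hmon : IsMonomial I := isMonomial_pow r
  by_cases hs : ∑ i, α i = -1
  swap
  · haveI := not_pos (k := k) hn r α hs
    rw [HilbTgtLib.finrank_piece I α hmon, if_neg fun h => hs h.1, Nat.card_of_isEmpty]
  -- the nonnegative points of the region are isolated
  let p : Fin n → ℤ := fun i => max (α i) 0
  have hp : ∀ i, α i ≤ p i ∧ 0 ≤ p i := fun i => ⟨le_max_left _ _, le_max_right _ _⟩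
  have hP : ∑ i, p i + 1 = ((∑ i, (-α i).toNat : ℕ) : ℤ) := by
    rw [Nat.cast_sum]
    have : ∀ i, p i = α i + ((-α i).toNat : ℤ) := fun i => by simp only [p]; omega
    simp only [this, Finset.sum_add_distrib, hs]
    ring
  have alone : ∀ γ δ : region I α, (∀ i, 0 ≤ γ.1 i) → ((stepGraph (Fin n)).induce (region I α)).Reachable γ δ → δ = γ := by
    intro γ δ h0 h
    obtain ⟨w⟩ := h
    cases w with
    | nil => rfl
    | @cons _ b _ hab _ =>
      exfalso
      obtain ⟨hle, hlo, hhi⟩ := (region_desc r α γ.1).1 γ.2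
      obtain ⟨hle', hlo', hhi'⟩ := (region_desc r α b.1).1 b.2
      have := hhi h0
      obtain ⟨i, hi | hi⟩ := HilbTgtLib.adj_iff (a := γ.1) (b := b.1) hab
      · have hb0 : ∀ l, 0 ≤ b.1 l := fun l => by
          have := h0 l
          rw [hi]
          rcases eq_or_ne l i with rfl | hl
          · simp; omega
          · simpa [hl] using this
        have h3 := hhi' hb0
        rw [hi, sum_add_single] at h3
        omega
      · rw [hi, sum_add_single] at hlo
        have h4 : ∑ j, γ.1 j < r := hhi h0
        rw [hi, sum_add_single] at h4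
        omega
  let S := {β : Fin n →₀ ℕ // (β.degree : ℤ) + ∑ i, p i + 1 = r}
  have memS : ∀ β : S, (fun i => (β.1 i : ℤ) + p i) ∈ region I α := fun β => by
    have hsum : ∑ i, ((β.1 i : ℤ) + p i) = (β.1.degree : ℤ) + ∑ i, p i := by
      rw [Finset.sum_add_distrib, Finsupp.degree_eq_sum, Nat.cast_sum]
    refine (region_desc r α _).2 ⟨fun i => ?_, ?_, fun _ => ?_⟩
    · have := hp i; omega
    · rw [hsum, hs]; have := β.2; omega
    · rw [hsum]; have := β.2; omega
  let F : S → HilbTgtLib.PosComp I α := fun β =>
    ⟨((stepGraph (Fin n)).induce (region I α)).connectedComponentMk ⟨_, memS β⟩, fun γ hγ i => by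
      rw [alone ⟨_, memS β⟩ γ (fun l => by have := hp l; simp only; omega)
        (SimpleGraph.ConnectedComponent.exact ((SimpleGraph.ConnectedComponent.mem_supp_iff _ _).1 hγ)).symm]
      have := hp i; simp only; omega⟩
  have hF : Function.Bijective F := by
    constructor
    · intro β β' h
      have h' := alone ⟨_, memS β⟩ ⟨_, memS β'⟩ (fun l => by have := hp l; simp only; omega)
        (SimpleGraph.ConnectedComponent.exact (congrArg Subtype.val h))
      apply Subtype.ext
      ext i
      have := congrFun (congrArg Subtype.val h') i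
      simp only at this
      omega
    · rintro ⟨c, hc⟩
      obtain ⟨⟨γ, hγ⟩, rfl⟩ := c.exists_rep
      have h0 : ∀ i, 0 ≤ γ i := hc ⟨γ, hγ⟩ rfl
      obtain ⟨hle, hlo, hhi⟩ := (region_desc r α γ).1 hγ
      have := hhi h0
      have hpg : ∀ i, p i ≤ γ i := fun i => max_le (hle i) (h0 i)
      refine ⟨⟨HilbTgtLib.ofZ (γ - p), ?_⟩, ?_⟩
      · rw [degree_eq _ (fun i => by simpa using hpg i)]
        simp only [Pi.sub_apply, Finset.sum_sub_distrib]
        omega
      · apply Subtype.ext
        show _ = ((stepGraph (Fin n)).induce (region I α)).connectedComponentMk ⟨γ, hγ⟩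
        simp only [F]
        congr 2
        funext i
        rw [HilbTgtLib.ofZ_apply]
        have := hpg i
        simp only [Pi.sub_apply]
        omega
  by_cases hw : ∑ i, (-α i).toNat ≤ r
  · rw [if_pos ⟨hs, hw⟩]
    set w := ∑ i, (-α i).toNat
    let e : S ≃ Sym (Fin n) (r - w) :=
      (Equiv.subtypeEquivRight fun β => by
        show (β.degree : ℤ) + ∑ i, p i + 1 = r ↔ β.sum (fun _ => id) = r - w
        rw [show β.sum (fun _ => id) = β.degree from rfl]
        omega).trans (Sym.equivNatSum (Fin n) (r - w)).symm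
    haveI : Finite S := Finite.of_equiv _ e.symm
    haveI : Finite (HilbTgtLib.PosComp I α) := Finite.of_surjective F hF.2
    rw [HilbTgtLib.finrank_piece I α hmon, ← Nat.card_eq_of_bijective F hF, Nat.card_congr e,
      Nat.card_eq_fintype_card, Sym.card_sym_eq_choose, Fintype.card_fin]
    rw [show n + (r - w) - 1 = n + r - w - 1 by omega, ← Nat.choose_symm (by omega)]
    congr 1
    omega
  · rw [if_neg fun h => hw h.2]
    have hE : IsEmpty S := ⟨fun β => by have := β.2; omega⟩
    haveI : IsEmpty (HilbTgtLib.PosComp I α) := ⟨fun c => hE.false (hF.2 c).choose⟩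
    rw [HilbTgtLib.finrank_piece I α hmon, Nat.card_of_isEmpty]

end Groth.Agent.S13435
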