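import Groth.Statements.S13439
import Mathlib
import Groth.Agent.HilbTgtLib.Piece
import Groth.Agent.BlowRegLib.MonoSocle

set_option autoImplicit false
set_option backward.isDefEq.respectTransparency false
set_option backward.isDefEq.respectTransparency.types false
set_option maxHeartbeats 1000000
set_option synthInstance.maxHeartbeats 400000
universe u
open W4c1hilbpn

namespace Groth.Agent.S13439

open W4c1hilbpn HilbTgtLib SimpleGraph in
/-- If a step down in a fixed direction always stays in the region, there is no positive component. -/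
private theorem empty_of_down {k : Type u} [Field k] {I : Ideal (MvPolynomial (Fin 3) k)} (α : Fin 3 → ℤ)
    (l : Fin 3)
    (h : ∀ γ ∈ region I α, (∀ i, 0 ≤ γ i) → γ + Pi.single l (-1) ∈ region I α) :
    IsEmpty (PosComp I α) := by
  classical
  refine ⟨fun c => ?_⟩
  obtain ⟨⟨γ, hγ⟩, hc⟩ := c.1.exists_rep
  have key : ∀ (m : ℕ) (a : Fin 3 → ℤ) (ha : a ∈ region I α), a l ≤ m →
      ((stepGraph (Fin 3)).induce (region I α)).connectedComponentMk ⟨a, ha⟩ = c.1 → False := by
    intro m
    induction m using Nat.strong_induction_on with
    | _ m ih =>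
      intro a ha ham hac
      have ha0 : ∀ i, 0 ≤ a i := c.2 ⟨a, ha⟩ ((ConnectedComponent.mem_supp_iff _ _).2 hac)
      have hb := h a ha ha0
      have hbc : ((stepGraph (Fin 3)).induce (region I α)).connectedComponentMk ⟨_, hb⟩ = c.1 := by
        refine (ConnectedComponent.connectedComponentMk_eq_of_adj ?_).trans hac
        show (stepGraph (Fin 3)).Adj (a + Pi.single l (-1)) a
        have := adj_single (a + Pi.single l (-1)) l
        rwa [add_assoc, ← Pi.single_add, neg_add_cancel, Pi.single_zero, add_zero] at this
      have := c.2 ⟨_, hb⟩ ((ConnectedComponent.mem_supp_iff _ _).2 hbc) l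
      simp at this
      exact ih (m - 1) (by omega) _ hb (by simp; omega) hbc
  exact key (γ l).toNat γ hγ (by omega) hc

open W4c1hilbpn HilbTgtLib SimpleGraph in
/-- The staircase walk in two negative directions. -/
private theorem empty_of_two_neg {k : Type u} [Field k] {I : Ideal (MvPolynomial (Fin 3) k)}
    (hI : IsMonomial I) [Module.Finite k (MvPolynomial (Fin 3) k ⧸ I)] (α : Fin 3 → ℤ) (i j : Fin 3) (hij : i ≠ j)
    (hi : α i < 0) (hj : α j < 0) (hle : ∀ l, α l ≤ 0) : IsEmpty (PosComp I α) := by
  classical
  refine ⟨fun c => ?_⟩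
  obtain ⟨⟨γ, hγ⟩, hc⟩ := c.1.exists_rep
  obtain ⟨M, hM⟩ := ((finite_std I hI).image fun β : Fin 3 →₀ ℕ => β i).bddAbove
  have key : ∀ (m : ℕ) (a : Fin 3 → ℤ) (ha : a ∈ region I α), a j + ((M : ℤ) + 1 - a i) ≤ m →
      ((stepGraph (Fin 3)).induce (region I α)).connectedComponentMk ⟨a, ha⟩ = c.1 → False := by
    intro m
    induction m using Nat.strong_induction_on with
    | _ m ih =>
      intro a ha ham hac
      have ha0 : ∀ i, 0 ≤ a i := c.2 ⟨a, ha⟩ ((ConnectedComponent.mem_supp_iff _ _).2 hac)
      obtain ⟨⟨hla, hβ⟩, hout⟩ := (region_iff I α).1 ha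
      have hout' : ofZ a ∉ exps I := fun h => hout ⟨ha0, h⟩
      have hbd : a i ≤ M := by
        have := hM ⟨ofZ a, hout', rfl⟩
        simp only [ofZ_apply] at this
        omega
      by_cases hdown : a + Pi.single j (-1) ∈ region I α
      · have hbc : ((stepGraph (Fin 3)).induce (region I α)).connectedComponentMk ⟨_, hdown⟩ = c.1 := by
          refine (ConnectedComponent.connectedComponentMk_eq_of_adj ?_).trans hac
          show (stepGraph (Fin 3)).Adj (a + Pi.single j (-1)) a
          have := adj_single (a + Pi.single j (-1)) j
          rwa [add_assoc, ← Pi.single_add, neg_add_cancel, Pi.single_zero, add_zero] at this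
        have := c.2 ⟨_, hdown⟩ ((ConnectedComponent.mem_supp_iff _ _).2 hbc) j
        simp at this
        have := ha0 j
        exact ih (m - 1) (by omega) _ hdown (by simp [hij]; omega) hbc
      · -- then one step up in direction `i` is in the region
        have hup : a + Pi.single i 1 ∈ region I α := by
          refine (region_iff I α).2 ⟨⟨fun l => ?_, exps_mono I hβ ?_⟩, fun ⟨_, h1⟩ => ?_⟩
          · have := hla l
            rcases eq_or_ne l i with rfl | hl
            · simp; omega
            · simpa [hl] using this
          · intro l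
            simp only [ofZ_apply]
            rcases eq_or_ne l i with rfl | hl <;> simp [*] <;> omega
          · -- otherwise the step down would be in the region
            apply hdown
            have hj1 : α j < a j := by have := ha0 j; omega
            refine (region_iff I α).2 ⟨⟨fun l => ?_, exps_mono I h1 ?_⟩, fun ⟨hn, h2⟩ => hout' (exps_mono I h2 ?_)⟩
            · have := hla l
              rcases eq_or_ne l j with rfl | hl
              · simp; omega
              · simpa [hl] using this
            · intro l
              simp only [ofZ_apply]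
              have := hle l; have := ha0 l
              rcases eq_or_ne l i with rfl | hl
              · simp [hij]; omega
              · rcases eq_or_ne l j with rfl | hl'
                · simp [hl]; omega
                · simp [hl, hl']; omega
            · intro l
              simp only [ofZ_apply]
              rcases eq_or_ne l j with rfl | hl <;> simp [*] <;> omega
        have hbc : ((stepGraph (Fin 3)).induce (region I α)).connectedComponentMk ⟨_, hup⟩ = c.1 := by
          refine (ConnectedComponent.connectedComponentMk_eq_of_adj ?_).trans hac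
          show (stepGraph (Fin 3)).Adj (a + Pi.single i 1) a
          exact (adj_single _ i).symm
        have := ha0 j
        exact ih (m - 1) (by omega) _ hup (by simp [hij.symm]; omega) hbc
  exact key (γ j + ((M : ℤ) + 1 - γ i)).toNat γ hγ (Int.self_le_toNat _) hc

open W4c1hilbpn HilbTgtLib in
private theorem piece_bot {k : Type u} [Field k] {I : Ideal (MvPolynomial (Fin 3) k)} (hI : IsMonomial I)
    (α : Fin 3 → ℤ) (h : IsEmpty (PosComp I α)) : tPiece I α = ⊥ := by
  rw [eq_bot_iff]
  intro φ hφ
  have : pieceEquiv I α hI ⟨φ, hφ⟩ = pieceEquiv I α hI 0 := Subsingleton.elim _ _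
  exact (Submodule.mem_bot k).2 (congrArg Subtype.val ((pieceEquiv I α hI).injective this))

open W4c1hilbpn HilbTgtLib in
/-- The step down in a negative direction other than the first, for `x ∈ I`. -/
private theorem empty_of_first {k : Type u} [Field k] {I : Ideal (MvPolynomial (Fin 3) k)}
    (hx : Finsupp.single (0 : Fin 3) 1 ∈ exps I) (α : Fin 3 → ℤ) (l : Fin 3) (hl : l ≠ 0) (h0 : α 0 < 0)
    (hneg : α l < 0) : IsEmpty (PosComp I α) := by
  refine empty_of_down α l fun γ hγ hnn => ?_
  obtain ⟨⟨hla, -⟩, hout⟩ := (region_iff I α).1 hγ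
  refine (region_iff I α).2 ⟨⟨fun i => ?_, exps_mono I hx ?_⟩, fun ⟨hn, h2⟩ => hout ⟨hnn, exps_mono I h2 ?_⟩⟩
  · have := hla i; have := hnn i
    rcases eq_or_ne i l with rfl | hi
    · simp; omega
    · simpa [hi] using hla i
  · rw [Finsupp.single_le_iff]
    have := hnn 0
    simp [hl.symm]; omega
  · intro i
    simp only [ofZ_apply]
    rcases eq_or_ne i l with rfl | hi <;> simp [*] <;> omega


open W4c1hilbpn in
/-- Let k be an infinite field, S = k[x,y,z], and T(I) = Hom_S(I, S/I) graded by triples of integers (a
graded piece is indexed by its multidegree; its sign pattern records which of the three entries are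
negative); let I be a strongly stable ideal of finite colength (variables ordered x > y > z). Then x
lies in I if and only if the three graded pieces of T(I) whose sign pattern is negative at exactly
two of the three variables all vanish. (The published statement phrases the right-hand side as
smoothness of the corresponding point of the Hilbert scheme of points of affine 3-space, which for a
monomial point is equivalent to this vanishing; the row records the vanishing condition, which is
what the argument establishes.) -/
theorem result (k : Type u) [Field k] [Infinite k]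
    (I : Ideal (MvPolynomial (Fin 3) k)) (hI : IsStronglyStable I) [Module.Finite k (MvPolynomial (Fin 3) k ⧸ I)] :
    (MvPolynomial.X 0 : MvPolynomial (Fin 3) k) ∈ I ↔
      (sigPiece I ({1, 2} : Set (Fin 3)) = ⊥ ∧ sigPiece I ({0, 2} : Set (Fin 3)) = ⊥ ∧
        sigPiece I ({0, 1} : Set (Fin 3)) = ⊥) := by
  classical
  have hxI : (MvPolynomial.X 0 : MvPolynomial (Fin 3) k) ∈ I ↔ Finsupp.single (0 : Fin 3) 1 ∈ exps I := Iff.rfl
  constructor
  · intro hx
    have hx' := hxI.1 hx
    have hbot : ∀ (N : Set (Fin 3)), (∀ α : Fin 3 → ℤ, (∀ i, α i < 0 ↔ i ∈ N) →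
        IsEmpty (HilbTgtLib.PosComp I α)) → sigPiece I N = ⊥ := fun N h =>
      iSup_eq_bot.2 fun α => piece_bot hI.1 α.1 (h α.1 α.2)
    refine ⟨hbot _ fun α hα => ?_, hbot _ fun α hα => ?_, hbot _ fun α hα => ?_⟩
    · have h0 : ¬ α 0 < 0 := fun h => by simpa using (hα 0).1 h
      rcases (not_lt.1 h0).eq_or_lt with h | h
      · refine empty_of_two_neg hI.1 α 2 1 (by decide) ((hα 2).2 (by simp)) ((hα 1).2 (by simp)) fun l => ?_
        fin_cases l
        · exact h.symm.le
        · exact ((hα 1).2 (by simp)).le
        · exact ((hα 2).2 (by simp)).le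
      · refine ⟨fun c => ?_⟩
        obtain ⟨γ, hc⟩ := c.1.exists_rep
        have hnn := c.2 γ ((SimpleGraph.ConnectedComponent.mem_supp_iff _ _).2 hc)
        obtain ⟨⟨hla, -⟩, hout⟩ := (HilbTgtLib.region_iff I α).1 γ.2
        refine hout ⟨hnn, HilbTgtLib.exps_mono I hx' ?_⟩
        rw [Finsupp.single_le_iff, HilbTgtLib.ofZ_apply]
        have := hla 0
        omega
    · exact empty_of_first hx' α 2 (by decide) ((hα 0).2 (by simp)) ((hα 2).2 (by simp))
    · exact empty_of_first hx' α 1 (by decide) ((hα 0).2 (by simp)) ((hα 1).2 (by simp))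
  · rintro ⟨-, -, h01⟩
    by_contra hx
    have hfin := BlowRegLib.MonoSocle.finite_compl hI.1 (I := I)
    have exists_least : ∀ (f : ℕ → (Fin 3 →₀ ℕ)), Function.Injective f → f 0 ∉ exps I →
        ∃ p, f p ∉ exps I ∧ f (p + 1) ∈ exps I := by
      intro f hf h0
      by_contra! h
      have : ∀ p, f p ∉ exps I := fun p => Nat.rec h0 (fun p ih => h p ih) p
      exact (Set.infinite_range_of_injective hf) (hfin.subset (by rintro _ ⟨p, rfl⟩; exact this p))
    have hval : ∀ (a b c : ℕ), e3 a b c 0 = a ∧ e3 a b c 1 = b ∧ e3 a b c 2 = c := BlowRegLib.MonoSocle.e3_apply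
    have inj1 : Function.Injective fun p => e3 1 p 0 := fun a b e => by
      have := congrArg (· 1) e; simpa [hval] using this
    have inj2 : Function.Injective fun p => e3 0 0 p := fun a b e => by
      have := congrArg (· 2) e; simpa [hval] using this
    have hx0 : e3 1 0 0 ∉ exps I := fun h => hx (hxI.2 (by
      convert h using 1; ext i; fin_cases i <;> simp [hval]))
    obtain ⟨p, hp, hp1⟩ := exists_least _ inj1 hx0
    have hone : e3 0 0 0 ∉ exps I := fun h => hx0 (BlowRegLib.MonoSocle.mem_of_le h (by
      rw [BlowRegLib.MonoSocle.e3_le]; simp))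
    obtain ⟨c, hc, hc1⟩ := exists_least _ inj2 hone
    have move : ∀ (a b : Fin 3 →₀ ℕ) (i j : Fin 3), i < j → 0 < a j → a - Finsupp.single j 1 + Finsupp.single i 1 = b →
        a ∈ exps I → b ∈ exps I := fun a b i j hij hj e ha => e ▸ hI.2 a ha i j hij hj
    refine BlowRegLib.MonoSocle.sigPiece_ne_bot hI.1 (β := e3 1 (p + 1) 0) (τ := e3 0 0 c) hp1 (fun i hi => ?_) hc
      (fun i => ?_) (Nset := ({0, 1} : Set (Fin 3))) (fun i => ?_) h01
    · fin_cases i
      · intro h
        refine hp (move _ _ 0 1 (by decide) ?_ ?_ h)
        · simp [hval]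
        · ext l; fin_cases l <;> simp [hval]
      · intro h; apply hp
        convert h using 1
        ext l; fin_cases l <;> simp [hval]
      · simp [hval] at hi
    · fin_cases i
      · refine move _ _ 0 2 (by decide) ?_ ?_ hc1
        · simp [hval]
        · ext l; fin_cases l <;> simp [hval]
      · refine move _ _ 1 2 (by decide) ?_ ?_ hc1
        · simp [hval]
        · ext l; fin_cases l <;> simp [hval]
      · convert hc1 using 1
        ext l; fin_cases l <;> simp [hval]
    · fin_cases i <;> simp [hval]

end Groth.Agent.S13439
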