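import Groth.Statements.S13445
import Groth.Agent.HilbTgtLib.Generic

set_option autoImplicit false
universe u
open W4c1hilbpn

namespace Groth.Agent.S13445

open W4c1hilbpn in
/-- Let k be an infinite field, S = k[x,y,z] with irrelevant ideal m, and d, r natural numbers with d ≤
C(r+2, 3). For every ideal I of S of colength d, three times the dimension of Hom_S(I, S/I) is at
most four times the dimension of Hom_S(m^r, S/m^r). -/
theorem result (k : Type u) [Field k] [Infinite k] (d r : ℕ)
    (hdr : d ≤ Nat.choose (r + 2) 3) (I : Ideal (MvPolynomial (Fin 3) k)) [Module.Finite k (MvPolynomial (Fin 3) k ⧸ I)]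
    (hd : Module.finrank k (MvPolynomial (Fin 3) k ⧸ I) = d) :
    3 * Module.finrank k (Tgt I) ≤ 4 * Module.finrank k (Tgt ((Ideal.span (Set.range (MvPolynomial.X : Fin 3 → MvPolynomial (Fin 3) k))) ^ r)) := by
  have hlt : d < HilbTgtLib.T3 (r + 1) := by
    have h1 := HilbTgtLib.T3_succ r
    have h2 : 0 < HilbTgtLib.T2 (r + 1) := by
      simp only [HilbTgtLib.T2]
      exact Nat.choose_pos (by omega)
    simp only [HilbTgtLib.T3] at h1 hdr ⊢
    omega
  have h1 := HilbTgtLib.Generic.finrank_Tgt_le I r (hd ▸ hlt)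
  have h2 := HilbTgtLib.Layer.finrank_Tgt_mPow_ge (k := k) r d hdr
  rw [hd] at h1
  have h3 : 3 * ((2 * r + 1) * d) ≤ 2 * (3 * (r + 1) * d) := by
    rw [← mul_assoc, ← mul_assoc 2]
    exact Nat.mul_le_mul_right d (by omega)
  simp only [HilbTgtLib.mPow] at h2
  omega

end Groth.Agent.S13445
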