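import Groth.Statements.S13446
import Groth.Agent.HilbTgtLib.LayerBound

set_option autoImplicit false
universe u
open W4c1hilbpn

namespace Groth.Agent.S13446

open W4c1hilbpn in
/-- Let k be an infinite field, S = k[x,y,z] with irrelevant ideal m, and d, r, p natural numbers with d
≤ C(r+2, 3) and 4p ≤ 3r + 1. For every monomial ideal I of S of colength d containing x^p, the
dimension of Hom_S(I, S/I) is at most that of Hom_S(m^r, S/m^r). -/
theorem result (k : Type u) [Field k] [Infinite k] (d r p : ℕ)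
    (hdr : d ≤ Nat.choose (r + 2) 3) (hp : 4 * p ≤ 3 * r + 1) (I : Ideal (MvPolynomial (Fin 3) k)) (hI : IsMonomial I)
    [Module.Finite k (MvPolynomial (Fin 3) k ⧸ I)] (hd : Module.finrank k (MvPolynomial (Fin 3) k ⧸ I) = d)
    (hx : (MvPolynomial.X 0 : MvPolynomial (Fin 3) k) ^ p ∈ I) :
    Module.finrank k (Tgt I) ≤ Module.finrank k (Tgt ((Ideal.span (Set.range (MvPolynomial.X : Fin 3 → MvPolynomial (Fin 3) k))) ^ r)) := by
  have hx' : e3 p 0 0 ∈ exps I := by
    show MvPolynomial.monomial (e3 p 0 0) (1 : k) ∈ I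
    rw [MvPolynomial.X_pow_eq_monomial] at hx
    convert hx using 3
    ext l
    fin_cases l <;> simp [e3]
  have h1 := HilbTgtLib.Layer.finrank_Tgt_le I hI p hx'
  have h2 := HilbTgtLib.Layer.finrank_Tgt_mPow_ge (k := k) r d hdr
  rw [hd] at h1
  have h3 : 2 * ((2 * p + 1) * d) ≤ 3 * (r + 1) * d := by
    rw [← mul_assoc]
    exact Nat.mul_le_mul_right d (by omega)
  simp only [HilbTgtLib.mPow] at h2
  omega

end Groth.Agent.S13446
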