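import Groth.Statements.S13449
import Groth.Agent.Hom0Lib.APart
import Groth.Agent.Hom0Lib.Span

set_option autoImplicit false
universe u
open W4c1hilbpn

namespace Groth.Agent.S13449

open W4c1hilbpn in
/-- Let k be a field and S = k[x_0, ..., x_n] with its standard grading; for an ideal I write Hom_S(I,
S/I)_0 for the degree-0 homomorphisms (for a monomial ideal: the span of the multigraded pieces
whose multidegree has entry sum 0). Let n ≥ 3 and I = x_0·(x_0, ..., x_{n-1}) + x_1·(x_1, ...,
x_{n-1}) (the case q = 1, r = 0 of the two-block family). Then Hom_S(I, S/I)_0 has dimension 6n - 4.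
(The published statement gives this as the dimension of the tangent space to the Hilbert scheme at
the point I; the row records the dimension count.) -/
theorem result (k : Type u) [Field k] (n : ℕ) (hn : 3 ≤ n) :
    Module.finrank k ↥(⨆ α : {α : Fin (n + 1) → ℤ // ∑ i, α i = 0}, tPiece (Ideal.span ({f : MvPolynomial (Fin (n + 1)) k | ∃ i : Fin (n + 1), i.val + 1 ≤ n ∧ f = MvPolynomial.X 0 * MvPolynomial.X i} ∪ {f : MvPolynomial (Fin (n + 1)) k | ∃ i : Fin (n + 1), 1 ≤ i.val ∧ i.val ≤ n - 1 ∧ f = MvPolynomial.X 1 * MvPolynomial.X i})) α.1) = 6 * n - 4 := by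
  haveI : Finite (Hom0Lib.TwoBlock.LT' n) :=
    Nat.finite_of_card_ne_zero (by rw [Hom0Lib.TwoBlock.card_LT' (m := n - 1) (by omega) (by omega)]; omega)
  have hs : Ideal.span ({f : MvPolynomial (Fin (n + 1)) k | ∃ i : Fin (n + 1), i.val + 1 ≤ n ∧ f = MvPolynomial.X 0 * MvPolynomial.X i} ∪
      {f : MvPolynomial (Fin (n + 1)) k | ∃ i : Fin (n + 1), 1 ≤ i.val ∧ i.val ≤ n - 1 ∧ f = MvPolynomial.X 1 * MvPolynomial.X i}) =
      Ideal.span (Set.range fun g => MvPolynomial.monomial (Hom0Lib.TwoBlock.G n 1 (n - 1) g) (1 : k)) := by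
    rw [← Hom0Lib.TwoBlock.span_eq]
    refine congrArg Ideal.span (congrArg₂ _ rfl (Set.ext fun f => exists_congr fun i => ?_))
    rw [pow_one]
  have h := Hom0Lib.TwoBlock.finrank_eq
    (Hom0Lib.TwoBlock.lowPart k (q := 1) (m := n - 1) (by omega) (by omega) rfl) (by omega) (by omega) le_rfl
    hs
  rw [Nat.card_sum, Hom0Lib.TwoBlock.card_LT' (m := n - 1) (by omega) (by omega), Hom0Lib.TwoBlock.card_IA,
    show n + 1 - 1 = (n - 1) + 1 by omega, Nat.choose_succ_self_right, show n - (n - 1) = 1 by omega] at h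
  unfold Hom0Lib.hom0 at h
  omega

end Groth.Agent.S13449
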