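import Groth.Statements.S13459
import Mathlib
import Groth.Agent.SurfNumLib.Eff
-- import your own Groth.Agent.* helpers here

set_option autoImplicit false
universe u
open CategoryTheory CategoryTheory.Limits AlgebraicGeometry
open Surf

namespace Groth.Agent.S13459

/-- Let k be a field and S an integral surface (dimension two) which is smooth over k and projective (a
closed immersion into some P^n_k over k). Let i : C → S be the closed immersion of an integral curve
(dimension one) all of whose local rings are regular, with ideal sheaf I ⊆ O_S, and let L be an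
invertible O_S-module with an inverse L' (L ⊗ L' ≅ O_S). Then the intersection number of O_S(C) with
L, namely the alternating sum χ(O_S) − χ(I) − χ(L') + χ(I ⊗ L') formed with the inverses I = O_S(−C)
and L' (packaged as FGA.intNum), equals the degree of the restriction of L to C, the degree of a
module M on C being χ(M) − χ(O_C). -/
theorem result (k : Type u) [Field k] (S : Scheme.{u}) [S.Over (Spec (CommRingCat.of k))]
    [IsIntegral S] (hdim : topologicalKrullDim S = 2) [Smooth (S ↘ (Spec (CommRingCat.of k)))]
    (hproj : ∃ (n : ℕ) (ι : S ⟶ CohB1.ProjSpace n k), IsClosedImmersion ι ∧ ι ≫ CohB1.ProjSpace.toSpec n k = (S ↘ (Spec (CommRingCat.of k))))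
    (C : Scheme.{u}) (i : C ⟶ S) [IsClosedImmersion i] [IsIntegral C] (hC : topologicalKrullDim C = 1)
    (hCreg : ∀ c : C, IsRegularLocalRing (C.presheaf.stalk c))
    (L L' : S.Modules) (hL : PicF.IsInvertible L) (hLL' : Nonempty (CohB1.tensorMod L L' ≅ Coh.structureModule S)) :
    letI : C.Over (Spec (CommRingCat.of k)) := ⟨i ≫ (S ↘ (Spec (CommRingCat.of k)))⟩
    FGA.intNum k S 2 ![ClSub.idealMod i.ker, L'] (Coh.structureModule S) =
      Curv2.deg k C ((Scheme.Modules.pullback i).obj L) 1 := by
  obtain ⟨n, ι, hι, hιk⟩ := hproj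
  haveI := hι
  haveI := SurfNumLib.isProper_of_embedding ι hιk
  obtain ⟨e⟩ := hLL'
  have hL' : PicF.IsInvertible L' := IntMultLib.isInvertible_of_inverse hL e
  letI : C.Over (Spec (CommRingCat.of k)) := ⟨i ≫ (S ↘ (Spec (CommRingCat.of k)))⟩
  haveI : IsProper (C ↘ Spec (CommRingCat.of k)) := inferInstanceAs (IsProper (i ≫ (S ↘ Spec (CommRingCat.of k))))
  haveI := CurvLib.isNoetherian k (X := S)
  haveI := CurvLib.isNoetherian k (X := C)
  have hOS := DevissLib.isCoh_structureModule S
  have hcoh : Coh.IsCoh (ClSub.idealMod i.ker) :=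
    QCohLib.isCoh_kernel (ClSub.toSubscheme i.ker) hOS (CurvLib.isCoh_quotMod i.ker).1
  show FGA.intNum k S 2 ![ClSub.idealMod i.ker, L'] (Coh.structureModule S) =
      Curv2.deg k C ((Scheme.Modules.pullback i).obj L) 1
  rw [SurfNumLib.intNum_eq_pr_two hdim, SurfNumLib.pr_ideal _ hcoh hL']
  have hd : topologicalKrullDim (CohB1.support (ClSub.quotMod i.ker)) ≤ ((1 : ℕ) : WithBot ℕ∞) := by
    rw [SurfNumLib.support_quotMod_eq, Scheme.Hom.support_ker, ← i.isClosedEmbedding.isClosed_range.closure_eq.symm]
    rw [show ((1 : ℕ) : WithBot ℕ∞) = topologicalKrullDim C from by rw [hC, Nat.cast_one]]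
    exact (IsHomeomorph.topologicalKrullDim_eq _ i.isEmbedding.toHomeomorph.isHomeomorph).ge
  rw [HodgeIdxLib.N_inv_head (l := []) hL hL' e (by simp) (CurvLib.isCoh_quotMod _) (by simpa using hd), neg_neg]
  have h := IntFunLib.N_push (k := k) (g := i) rfl (l := [L]) (by simpa using hL) (DevissLib.isCoh_structureModule C)
    ((topologicalKrullDim_subspace_le _ _).trans (by rw [hC]; simp))
  change IntFunLib.N k [KFlatLib.pb i L] (Coh.structureModule C) = _ at h
  rw [← IntFunLib.euler_sub_eq_N] at h
  have : Curv2.deg k C ((Scheme.Modules.pullback i).obj L) 1 =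
      Curv2.euler k C (KFlatLib.pb i L) - Curv2.euler k C (Coh.structureModule C) := by
    rw [Curv2.deg, Nat.cast_one, one_mul]
  rw [this, h]
  refine IntFunLib.N_congr _ ?_
  let j : i.ker.subscheme ⟶ S := i.ker.subschemeι
  have e1 : i.toImage ≫ j = i := i.toImage_imageι
  haveI : IsIso i.toImage := inferInstance
  have hk : ClSub.KilledByIdeal i.toImage.ker (Coh.structureModule i.ker.subscheme) := by
    intro U a ha m
    rw [Scheme.Hom.ker_apply, RingHom.mem_ker] at ha
    have : a = 0 := (ConcreteCategory.bijective_of_isIso (i.toImage.app U.1)).1 (ha.trans (map_zero _).symm)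
    rw [this, zero_smul]
  haveI := DevissLib.isIso_unit_of_killed i.toImage hk
  let u : Coh.structureModule i.ker.subscheme ≅ (Coh.push i.toImage).obj (Coh.structureModule C) :=
    asIso ((Scheme.Modules.pullbackPushforwardAdjunction i.toImage).unit.app (Coh.structureModule _)) ≪≫
      (Coh.push i.toImage).mapIso (KFlatLib.pullUnitIso i.toImage)
  exact ((Coh.push j).mapIso u ≪≫ (Scheme.Modules.pushforwardComp i.toImage j).app _ ≪≫
    (Scheme.Modules.pushforwardCongr e1).app _)

end Groth.Agent.S13459
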