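import Groth.Statements.S13460
import Groth.Agent.Ref1Lib.DivProps

set_option autoImplicit false
universe u
open CategoryTheory CategoryTheory.Limits AlgebraicGeometry TopologicalSpace
open WDiv

namespace Groth.Agent.S13460

/-- Let A be a Noetherian integral domain which is a unique factorization domain, and X = Spec A. Then
the divisor class group of X vanishes: every Weil divisor D on X, an integer-valued function on the
points of X with finite support inside the points of coheight 1 (codimension one), is the divisor of
a nonzero rational function f on X, i.e. the order of vanishing of f at every point x of coheight 1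
is D(x). (The published statement assumes only that A is a unique factorization domain; this row
also assumes A Noetherian.) -/
theorem result (A : Type u) [CommRing A] [IsDomain A] [IsNoetherianRing A]
    [UniqueFactorizationMonoid A]
    (D : ↥(Spec (CommRingCat.of A)) → ℤ) (hD : ∀ x, Order.coheight x ≠ 1 → D x = 0) (hfin : {x | D x ≠ 0}.Finite) :
    ∃ f : ↑(Spec (CommRingCat.of A)).functionField, f ≠ 0 ∧
      ∀ x : ↥(Spec (CommRingCat.of A)), Order.coheight x = 1 → Scheme.ord f x = D x := by
  classical
  let R := CommRingCat.of A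
  let X := Spec R
  have hU : IsAffineOpen (⊤ : X.Opens) := isAffineOpen_top X
  let alg : ∀ x : X, Algebra A (X.presheaf.stalk x) := fun x => StructureSheaf.stalkAlgebra A x
  have hloc : ∀ x : X, IsLocalization.AtPrime (X.presheaf.stalk x) x.asIdeal := fun x =>
    inferInstanceAs (IsLocalization.AtPrime ((Spec.structureSheaf A).presheaf.stalk x) x.asIdeal)
  have hX : Pi1.IsNormalScheme X := fun x => by
    haveI := hloc x
    exact ⟨inferInstance, isIntegrallyClosed_of_isLocalization (R := A) (X.presheaf.stalk x) x.asIdeal.primeCompl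
      x.asIdeal.primeCompl_le_nonZeroDivisors⟩
  have hh : ∀ x : X, Order.coheight x = x.asIdeal.height := fun x => (idealHeight_eq_coheight (R := R) x).symm
  have hprime : ∀ x : X, Order.coheight x = 1 → ∃ π : A, Prime π ∧ x.asIdeal = Ideal.span {π} := fun x hx => by
    have hne : x.asIdeal ≠ ⊥ := fun h => by
      rw [hh, h] at hx
      simp at hx
    obtain ⟨π, hπx, hπ⟩ := UniqueFactorizationMonoid.iff_exists_prime_mem_of_isPrime.1 ‹_› x.asIdeal hne x.isPrime
    refine ⟨π, hπ, ?_⟩
    by_contra hne'
    have hlt : Ideal.span {π} < x.asIdeal :=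
      lt_of_le_of_ne ((Ideal.span_singleton_le_iff_mem _).2 hπx) (Ne.symm hne')
    haveI := (Ideal.span_singleton_prime hπ.ne_zero).2 hπ
    have h1 : (1 : ℕ∞) ≤ (Ideal.span {π}).height := by
      rw [ENat.one_le_iff_ne_zero]
      intro h0
      rw [Ideal.height_eq_zero_iff, IsDomain.minimalPrimes_eq_singleton_bot, Set.mem_singleton_iff] at h0
      exact hπ.ne_zero (Ideal.span_singleton_eq_bot.1 h0)
    have h2 := Ideal.height_strict_mono_of_isPrime hlt
    rw [← hh, hx] at h2
    exact absurd (h1.trans_lt h2) (lt_irrefl _)
  choose! π hπp hπ using hprime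
  have hη : genericPoint X ∈ (⊤ : X.Opens) := trivial
  let ι : A → X.functionField := fun a =>
    X.presheaf.germ ⊤ (genericPoint X) hη ((Scheme.ΓSpecIso R).inv a)
  have hg : ∀ (x : X) (a : A), algebraMap (X.presheaf.stalk x) X.functionField
      (X.presheaf.germ ⊤ x trivial ((Scheme.ΓSpecIso R).inv a)) = ι a := fun x a =>
    CDivCoreLib.algebraMap_germ (U := (⊤ : X.Opens)) trivial hη _
  have hga : ∀ (x : X) (a : A), X.presheaf.germ ⊤ x trivial ((Scheme.ΓSpecIso R).inv a) =
      algebraMap A (X.presheaf.stalk x) a := fun x a => rfl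
  have hι0 : ∀ a : A, a ≠ 0 → ι a ≠ 0 := fun a ha h => ha (by
    have h1 := germ_injective_of_isIntegral X (genericPoint X) hη (U := ⊤) (h.trans (map_zero _).symm)
    exact (Scheme.ΓSpecIso R).commRingCatIsoToRingEquiv.symm.injective (h1.trans (map_zero _).symm))
  have hord : ∀ x y : X, Order.coheight x = 1 → Order.coheight y = 1 →
      Scheme.ord (ι (π y)) x = if x = y then 1 else 0 := fun x y hx hy => by
    haveI := hloc x
    haveI : Ring.KrullDimLE 1 (X.presheaf.stalk x) := krullDimLE_of_coheight_le hx.le
    rw [← hg x, hga]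
    split_ifs with hxy
    · subst hxy
      haveI := CDivCoreLib.isDVR_of_coheight hX hx
      have hirr : Irreducible (algebraMap A (X.presheaf.stalk x) (π x)) := by
        refine (IsDiscreteValuationRing.irreducible_iff_uniformizer _).2 ?_
        rw [← IsLocalization.AtPrime.map_eq_maximalIdeal (R := A) x.asIdeal (X.presheaf.stalk x), hπ x hx, Ideal.map_span,
          Set.image_singleton]
      rw [Scheme.ord_eq_iff hx ((map_ne_zero_iff _
        (IsFractionRing.injective (X.presheaf.stalk x) X.functionField)).2 hirr.ne_zero)]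
      exact Ring.ordFrac_irreducible hirr
    · refine Ref1Lib.units_spec hx (IsLocalization.map_units (X.presheaf.stalk x)
        (⟨π y, fun hmem => hxy ?_⟩ : x.asIdeal.primeCompl))
      refine PrimeSpectrum.ext ?_
      by_contra hne
      have hlt : y.asIdeal < x.asIdeal := lt_of_le_of_ne
        (by rw [hπ y hy]; exact (Ideal.span_singleton_le_iff_mem _).2 hmem) (Ne.symm hne)
      haveI := y.isPrime
      have h2 := Ideal.height_strict_mono_of_isPrime hlt
      rw [← hh, ← hh, hx, hy] at h2
      exact lt_irrefl _ h2
  let S := hfin.toFinset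
  have hS : ∀ y ∈ S, Order.coheight y = 1 := fun y hy => by
    by_contra h
    exact (hfin.mem_toFinset.1 hy) (hD y h)
  have hne : ∀ y ∈ S, ι (π y) ^ D y ≠ 0 := fun y hy => zpow_ne_zero _ (hι0 _ (hπp y (hS y hy)).ne_zero)
  refine ⟨∏ y ∈ S, ι (π y) ^ D y, Finset.prod_ne_zero_iff.2 hne, fun x hx => ?_⟩
  have hzpow : ∀ (a : X.functionField), a ≠ 0 → ∀ n : ℤ, Scheme.ord (a ^ n) x = n * Scheme.ord a x := by
    intro a ha n
    cases n with
    | ofNat m => rw [Int.ofNat_eq_natCast, zpow_natCast, Ref1Lib.ord_pow' ha]
    | negSucc m =>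
      rw [zpow_negSucc, CDivCoreLib.ord_inv (pow_ne_zero _ ha), Ref1Lib.ord_pow' ha, Int.negSucc_eq]
      push_cast
      ring
  have key : ∀ T : Finset X, T ⊆ S →
      Scheme.ord (∏ y ∈ T, ι (π y) ^ D y) x = if x ∈ T then D x else 0 := by
    intro T hT
    induction T using Finset.induction with
    | empty =>
      rw [Finset.prod_empty, if_neg (Finset.notMem_empty x)]
      simpa using Ref1Lib.units_spec hx (isUnit_one (M := X.presheaf.stalk x))
    | insert a T ha ih =>
      have haS := hT (Finset.mem_insert_self a T)
      have hTS := (Finset.subset_insert a T).trans hT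
      rw [Finset.prod_insert ha, Scheme.ord_mul (hne a haS) (Finset.prod_ne_zero_iff.2 fun y hy => hne y (hTS hy)),
        ih hTS, hzpow _ (hι0 _ (hπp a (hS a haS)).ne_zero), hord x a hx (hS a haS)]
      by_cases hxa : x = a
      · subst hxa
        simp [ha]
      · simp [hxa]
  rw [key S Finset.Subset.rfl]
  split_ifs with h
  · rfl
  · exact (not_not.1 fun h' => h (hfin.mem_toFinset.2 h')).symm

end Groth.Agent.S13460
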