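import Groth.Statements.S13461
import Groth.Agent.EllSecLib.FormEval
import Groth.Agent.S1537

set_option autoImplicit false
set_option backward.isDefEq.respectTransparency false
set_option backward.isDefEq.respectTransparency.types false
set_option maxHeartbeats 1000000
universe u
open CategoryTheory CategoryTheory.Limits AlgebraicGeometry TopologicalSpace
open Curves

namespace Groth.Agent.S13461

/-- Let k be a field and X a smooth proper geometrically connected curve over k (proper, smooth and
geometrically connected over k, of dimension one) of genus dim_k H^1(X, O_X) = 4, and let i : X →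
P^3_k be a closed immersion over k whose pullback of O(1) is isomorphic to the sheaf of
differentials Ω_{X/k} (X is canonically embedded, hence not hyperelliptic). Then X lies on a quadric
surface: there is a nonzero global section Q of O_{P^3_k}(2) whose pullback along i is the zero
section of i^*O(2). (The published statement goes on to assert that X is the complete intersection
of such a quadric with a cubic surface; this row states only the existence of the quadric.) -/
theorem result (k : Type u) [Field k] (X : Scheme.{u}) [X.Over (Spec (CommRingCat.of k))]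
    [IsProper (X ↘ (Spec (CommRingCat.of k)))] [Smooth (X ↘ (Spec (CommRingCat.of k)))] [GeometricallyConnected (X ↘ (Spec (CommRingCat.of k)))]
    (hdim : topologicalKrullDim X = 1) (hg : Curv2.genus k X = 4)
    (i : X ⟶ CohB1.ProjSpace 3 k) [IsClosedImmersion i] (hi : i ≫ CohB1.ProjSpace.toSpec 3 k = X ↘ (Spec (CommRingCat.of k)))
    (hcan : Nonempty ((Scheme.Modules.pullback i).obj (Twist.twistProjSpace 3 k 1) ≅ Omega.sheaf (X ↘ (Spec (CommRingCat.of k))))) :
    ∃ Q : Γ(Twist.twistProjSpace 3 k 2, ⊤), Q ≠ 0 ∧
      OmegaSh.pullSect i (Twist.twistProjSpace 3 k 2) ⊤ Q = 0 := by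
  let P := CohB1.ProjSpace 3 k
  obtain ⟨e⟩ := hcan
  have hdeg1 : Curv2.deg k X (KFlatLib.pb i (Twist.twistProjSpace 3 k 1)) 1 = 6 := by
    rw [CurvLib.deg_congr e 1, CurveDualLib.deg_omega k X hdim, hg]
    norm_num
  have hdeg2 := EllSecLib.deg_pb_two (k := k) hdim i
  rw [hdeg1] at hdeg2
  have hL := AmpleDevLib.isInvertible_pb i (PicPnLib.twist_inv 3 k ((2 : ℕ) : ℤ))
  have h0 := JacAlbLib.h0_of_deg (k := k) hdim hL (by rw [hdeg2, hg]; norm_num)
  rw [hdeg2, hg] at h0
  obtain ⟨Φ, hΦ⟩ := EllSecLib.exists_evalMap i hi 2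
  haveI := CurvLib.isNoetherian k (X := X)
  haveI : Module.Finite k (Coh.HH X (KFlatLib.pb i (Twist.twistProjSpace 3 k ((2 : ℕ) : ℤ))) 0) :=
    CurvLib.finite_HH (k := k) (CurvLib.isCoh_of_isInvertible hL) 0
  have hlt : Module.finrank k (Coh.HH X (KFlatLib.pb i (Twist.twistProjSpace 3 k ((2 : ℕ) : ℤ))) 0) <
      Module.finrank k (LefPen.Form 3 k 2) := by
    rw [EllSecLib.finrank_form, show Nat.choose (3 + 2) 2 = 10 from rfl]
    omega
  obtain ⟨G, hG, hG0⟩ := (Submodule.ne_bot_iff _).1 (LinearMap.ker_ne_bot_of_finrank_lt (f := Φ) hlt)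
  refine ⟨(show Γ(Twist.twistProjSpace 3 k ((2 : ℕ) : ℤ), ⊤) from Twist.globalOf (CohB1.polyGrading 3 k) G), ?_,
    hΦ G (LinearMap.mem_ker.1 hG)⟩
  intro h
  refine hG0 (ProjSecLib.globalOf_injective (R := k) (n := 3) (d := 2) (h.trans ?_))
  refine TwistLib.sec_ext fun x => ?_
  exact (Localization.mk_zero _).symm

end Groth.Agent.S13461
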