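import Groth.Statements.S13479
import Groth.Agent.GmVanishLib.Field

set_option autoImplicit false
set_option backward.isDefEq.respectTransparency false
set_option backward.isDefEq.respectTransparency.types false
set_option maxRecDepth 8000
set_option maxHeartbeats 1000000
universe u
open GmDual

namespace Groth.Agent.S13479

open CategoryTheory AlgebraicGeometry MonObj CategoryTheory.Limits in
/-- For a field k of characteristic p > 0 and an affine commutative k-group scheme G of finite type, the
fppf sheaf 𝓔xt^1_k(G, G_m), the first Ext sheaf of the sheaf of points of G with values in the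
multiplicative group on the big fppf site of Spec k, vanishes. (This fails in characteristic zero.) -/
theorem result (p : ℕ) [Fact p.Prime] (k : Type u) [Field k] [CharP k p]
    (G : Over (Spec (CommRingCat.of k))) [GrpObj G] [IsCommMonObj G] [IsAffine G.left] [LocallyOfFiniteType G.hom] :
    IsZero ((HomSh.extSh (QuotSh.J Scheme.fppfPrecoverage (Spec (CommRingCat.of k))) (CGrpSh.pts Scheme.fppfPrecoverage G) 1).obj
      (CGrpSh2.Gm Scheme.fppfPrecoverage (Spec (CommRingCat.of k)))) := by
  obtain ⟨A, _, _, v, hv, hv'⟩ := DeligneKillLib.exists_sp G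
  haveI := hv; haveI := hv'
  haveI : IsCommMonObj (CoactBr.sp k A) := ExtGm.isCommMonObj_of_mono v.hom
  haveI : Coalgebra.IsCocomm k A := ExtGm.isCocomm_of_comm
  haveI : Algebra.FiniteType k A := by
    haveI : IsIso v.hom.left := ((Over.forget _).mapIso v).isIso_hom
    have h : LocallyOfFiniteType (CoactBr.sp k A).hom := by rw [← Over.w v.hom]; infer_instance
    exact RingHom.finiteType_algebraMap.1 ((HasRingHomProperty.Spec_iff (P := @LocallyOfFiniteType)
      (φ := CommRingCat.ofHom (algebraMap k A))).1 h)
  haveI : IsIso v.inv := inferInstance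
  obtain ⟨e⟩ := GmVanishLib.exists_ptsIso v.inv inferInstance
  exact GmVanishLib.isZero_of_liftsLoc ((GmVanishLib.liftsLoc_affine p A).of_iso e)

end Groth.Agent.S13479
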