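import Groth.Statements.S13463
import Groth.Agent.GmBidualLib.CharZero

set_option autoImplicit false
set_option backward.isDefEq.respectTransparency false
set_option backward.isDefEq.respectTransparency.types false
set_option maxRecDepth 8000
set_option maxHeartbeats 1000000
universe u
open GmDual

namespace Groth.Agent.S13463

open CategoryTheory AlgebraicGeometry MonObj in
/-- For a field k and an affine commutative k-group scheme G of finite type, the canonical map from the
fppf sheaf of G to its double dual G^∧∧ (the dual of an abelian sheaf on the big fppf site of Spec k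
being its internal Hom into the multiplicative group) is an isomorphism of fppf sheaves. -/
theorem result (k : Type u) [Field k]
    (G : Over (Spec (CommRingCat.of k))) [GrpObj G] [IsCommMonObj G] [IsAffine G.left] [LocallyOfFiniteType G.hom] :
    IsIso (CGrpSh2.toDoubleDual Scheme.fppfPrecoverage (CGrpSh.pts Scheme.fppfPrecoverage G)) := by
  obtain ⟨A, _, _, v, hv, hv'⟩ := DeligneKillLib.exists_sp G
  haveI := hv; haveI := hv'
  haveI : IsCommMonObj (CoactBr.sp k A) := ExtGm.isCommMonObj_of_mono v.hom
  haveI : Coalgebra.IsCocomm k A := ExtGm.isCocomm_of_comm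
  haveI : Algebra.FiniteType k A := by
    haveI : IsIso v.hom.left := ((Over.forget _).mapIso v).isIso_hom
    have h : LocallyOfFiniteType (CoactBr.sp k A).hom := by rw [← Over.w v.hom]; infer_instance
    exact RingHom.finiteType_algebraMap.1 ((HasRingHomProperty.Spec_iff (P := @LocallyOfFiniteType)
      (φ := CommRingCat.ofHom (algebraMap k A))).1 h)
  haveI : IsIso v.inv := inferInstance
  obtain ⟨e⟩ := GmVanishLib.exists_ptsIso v.inv inferInstance
  have hA : GmBidualLib.Bid (GmVanishLib.shf (k := k) A) := by
    obtain ⟨p, hp⟩ := CharP.exists k
    rcases CharP.char_is_prime_or_zero k p with hpr | rfl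
    · haveI : Fact p.Prime := ⟨hpr⟩
      exact GmBidualLib.bid_affine_charP p A
    · haveI : CharZero k := CharP.charP_to_charZero k
      exact GmBidualLib.bid_affine_charZero A
  exact GmBidualLib.Bid.of_iso hA e

end Groth.Agent.S13463
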