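import Groth.Statements.S13469
import Groth.Agent.GmCharLib.Main
import Groth.Agent.GmCharLib.FG

set_option autoImplicit false
set_option backward.isDefEq.respectTransparency false
set_option backward.isDefEq.respectTransparency.types false
set_option maxRecDepth 8000
set_option maxHeartbeats 1000000
universe u
open GmDual

namespace Groth.Agent.S13469

open CategoryTheory AlgebraicGeometry MonObj in
/-- Let k be a field and i : H → G a homomorphism of affine commutative k-group schemes of finite type
which is a closed immersion. Then the restriction map Ĝ(k) → Ĥ(k) on characters defined over k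
(morphisms of abelian sheaves on the big fppf site of Spec k from the sheaf of points to the
multiplicative group, restricted along i) has finite cokernel: its image is a subgroup of finite
index. -/
theorem result (k : Type u) [Field k]
    (H G : Over (Spec (CommRingCat.of k))) [GrpObj H] [IsCommMonObj H] [GrpObj G] [IsCommMonObj G]
    [IsAffine H.left] [LocallyOfFiniteType H.hom] [IsAffine G.left] [LocallyOfFiniteType G.hom]
    (i : H ⟶ G) [IsMonHom i] [IsClosedImmersion i.left] :
    (Preadditive.leftComp (CGrpSh2.Gm Scheme.fppfPrecoverage (Spec (CommRingCat.of k)))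
      (CGrpSh.ptsMap Scheme.fppfPrecoverage i)).range.FiniteIndex := by
  let R := (Preadditive.leftComp (CGrpSh2.Gm Scheme.fppfPrecoverage (Spec (CommRingCat.of k)))
    (CGrpSh.ptsMap Scheme.fppfPrecoverage i)).range
  let X := CGrpSh.pts Scheme.fppfPrecoverage H ⟶ CGrpSh2.Gm Scheme.fppfPrecoverage (Spec (CommRingCat.of k))
  haveI : AddGroup.FG X := by
    obtain ⟨Q, _, _, _, _, w, hw, hw'⟩ := GmCharLib.exists_hopf H
    haveI := hw
    haveI : IsIso w.hom := inferInstance
    obtain ⟨e⟩ := GmVanishLib.exists_ptsIso w.hom inferInstance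
    haveI := GmCharLib.fg_characters (k := k) (Q := Q)
    exact AddGroup.fg_of_surjective
      (f := Preadditive.leftComp (CGrpSh2.Gm Scheme.fppfPrecoverage (Spec (CommRingCat.of k))) e.inv)
      fun χ => ⟨e.hom ≫ χ, by show e.inv ≫ e.hom ≫ χ = χ; rw [CategoryTheory.Iso.inv_hom_id_assoc]⟩
  haveI : AddGroup.FG (X ⧸ R) := AddGroup.fg_of_surjective (f := QuotientAddGroup.mk' R) (QuotientAddGroup.mk'_surjective R)
  haveI : Module.Finite ℤ (X ⧸ R) := Module.Finite.iff_addGroup_fg.2 inferInstance
  haveI : Finite (X ⧸ R) := by
    refine AddCommGroup.finite_of_fg_torsion _ fun x => ?_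
    obtain ⟨χ, rfl⟩ := QuotientAddGroup.mk'_surjective R x
    obtain ⟨L, _, _, _, ξ, hξ⟩ := GmCharLib.exists_nsmul_extend i χ
    refine isOfFinAddOrder_iff_nsmul_eq_zero.2 ⟨Module.finrank k L, Module.finrank_pos, ?_⟩
    rw [← map_nsmul]
    exact (QuotientAddGroup.eq_zero_iff _).2 ⟨ξ, hξ⟩
  exact AddSubgroup.finiteIndex_of_finite_quotient

end Groth.Agent.S13469
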