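import Groth.Statements.S13480
import Groth.Agent.GmReprLib.Main
import Groth.Agent.GmAlmostLib.Torus
import Groth.Agent.RedRankLib.CommRel
import Groth.Agent.HomCorrLib.Bridge

set_option autoImplicit false
set_option backward.isDefEq.respectTransparency false
set_option backward.isDefEq.respectTransparency.types false
set_option maxRecDepth 8000
set_option maxHeartbeats 1000000
universe u
open GmDual

namespace Groth.Agent.S13480

attribute [local instance] CoactBr.braidedAlgSpecOf
open scoped MonObj TensorProduct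
open CategoryTheory.CartesianMonoidalCategory CategoryTheory.Limits

open CategoryTheory AlgebraicGeometry MonObj in
/-- Let k be a field and G a finite-type affine commutative group scheme over k which is an
almost-torus, i.e. has a k-subtorus T (a monomorphic homomorphism from a torus, kernel of a flat
surjective homomorphism onto a finite k-group scheme Q). Then the fppf dual sheaf Ĝ, the internal
Hom from the sheaf of points of G into the multiplicative group on the big fppf site of Spec k, is
representable by a commutative k-group scheme locally of finite type. (The published statement is an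
equivalence between representability of Ĝ and G being an almost-torus, and adds that the
representing group is then locally of finite type; this row is the direction from almost-torus to
representability.) -/
theorem result (k : Type u) [Field k]
    (G : Over (Spec (CommRingCat.of k))) [GrpObj G] [IsCommMonObj G] [IsAffine G.left] [LocallyOfFiniteType G.hom]
    (hAT : (∃ (T Q : Over (Spec (CommRingCat.of k))) (_ : GrpObj T) (_ : GrpObj Q) (j : T ⟶ G) (q : G ⟶ Q)
      (_ : IsMonHom j) (_ : IsMonHom q), Mono j ∧ Red.IsTorus T ∧ AlgGrp.IsKernel j q ∧ Flat q.left ∧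
        Surjective q.left ∧ IsFinite Q.hom)) :
    ∃ (D : Over (Spec (CommRingCat.of k))) (_ : GrpObj D) (_ : IsCommMonObj D), LocallyOfFiniteType D.hom ∧
      Nonempty (CGrpSh.pts Scheme.fppfPrecoverage D ≅ CGrpSh2.dualSh Scheme.fppfPrecoverage (CGrpSh.pts Scheme.fppfPrecoverage G)) := by
  classical
  obtain ⟨T, Q, _, _, j, q, _, _, hmono, hT, hker, hflat, hsurj, hfin⟩ := hAT
  haveI := hfin
  obtain ⟨A, _, _, _, _, v, hv, hv'⟩ := GmCharLib.exists_hopf G
  haveI := hv; haveI := hv'
  haveI : IsIso v.inv.left := inferInstanceAs (IsIso ((Over.forget _).map v.inv))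
  haveI : IsIso v.hom.left := inferInstanceAs (IsIso ((Over.forget _).map v.hom))
  -- the finite quotient
  haveI : IsAffine Q.left := isAffine_of_isAffineHom Q.hom
  obtain ⟨C', _, _, w, hw, hw'⟩ := OrbitLib.ToAffine.exists_sp Q
  haveI := hw; haveI := hw'
  haveI : IsIso w.hom.left := inferInstanceAs (IsIso ((Over.forget _).map w.hom))
  haveI : Module.Finite k C' := by
    have h : IsFinite (CoactBr.sp k C').hom := by rw [← Over.w w.hom]; infer_instance
    exact RingHom.finite_algebraMap.1 ((IsFinite.SpecMap_iff (CommRingCat.ofHom (algebraMap k C'))).1 h)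
  obtain ⟨φ, hφ⟩ := AntiAffLib.exists_bialgHom (v.hom ≫ q ≫ w.inv)
  -- the subtorus is closed
  haveI : IsClosedImmersion (η[Q] : MonoidalCategoryStruct.tensorUnit (Over (Spec (CommRingCat.of k))) ⟶ Q).left := by
    haveI hid : IsClosedImmersion ((η[Q] : MonoidalCategoryStruct.tensorUnit (Over (Spec (CommRingCat.of k))) ⟶ Q).left ≫ Q.hom) := by
      rw [Over.w]
      exact inferInstanceAs (IsClosedImmersion (𝟙 (Spec (CommRingCat.of k))))
    exact IsClosedImmersion.of_comp _ Q.hom
  haveI : IsClosedImmersion j.left :=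
    MorphismProperty.of_isPullback (P := @IsClosedImmersion) (hker.map (Over.forget _)).flip
      (show IsClosedImmersion (η[Q] : MonoidalCategoryStruct.tensorUnit (Over (Spec (CommRingCat.of k))) ⟶ Q).left from
        inferInstance)
  haveI : IsAffine T.left := isAffine_of_isAffineHom j.left
  obtain ⟨H, _, _, r, hr, hr'⟩ := OrbitLib.ToAffine.exists_sp T
  haveI := hr; haveI := hr'
  haveI : IsIso r.hom.left := inferInstanceAs (IsIso ((Over.forget _).map r.hom))
  obtain ⟨ψ, hψ⟩ := AntiAffLib.exists_bialgHom (r.hom ≫ j ≫ v.inv)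
  have hψs : Function.Surjective ψ := by
    haveI hci : IsClosedImmersion (r.hom ≫ j ≫ v.inv).left := by rw [Over.comp_left, Over.comp_left]; infer_instance
    rw [hψ] at hci
    haveI : IsClosedImmersion (Spec.map (CommRingCat.ofHom (ψ : A →ₐ[k] H).toRingHom)) := hci
    obtain ⟨-, hs⟩ := IsClosedImmersion.isAffine_surjective_of_isAffine
      (Spec.map (CommRingCat.ofHom (ψ : A →ₐ[k] H).toRingHom))
    intro z
    obtain ⟨a, ha⟩ := hs ((Scheme.ΓSpecIso (CommRingCat.of H)).inv z)
    refine ⟨(Scheme.ΓSpecIso (CommRingCat.of A)).hom a, ?_⟩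
    have e := congr($(Scheme.ΓSpecIso_naturality (CommRingCat.ofHom (ψ : A →ₐ[k] H).toRingHom)) a)
    exact e.symm.trans ((congrArg (Scheme.ΓSpecIso (CommRingCat.of H)).hom ha).trans
      (Iso.inv_hom_id_apply (Scheme.ΓSpecIso (CommRingCat.of H)) z))
  haveI : Coalgebra.IsCocomm k H := Groth.Agent.MultClosed.isCocomm_of_surjective ψ hψs
  -- the kernel lies in the augmentation ideal of the quotient
  have hle : RingHom.ker (ψ : A →+* H) ≤ Ideal.map (φ : C' →+* A) (RingHom.ker (Bialgebra.counitAlgHom k C')) := by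
    let J := Ideal.map (φ : C' →+* A) (RingHom.ker (Bialgebra.counitAlgHom k C'))
    let qJ : A →ₐ[k] A ⧸ J := Ideal.Quotient.mkₐ k J
    have h1 : qJ.comp (φ : C' →ₐ[k] A) = (Algebra.ofId k (A ⧸ J)).comp (Bialgebra.counitAlgHom k C') := by
      refine AlgHom.ext fun c => ?_
      show Ideal.Quotient.mk J (φ c) = algebraMap k (A ⧸ J) (CoalgebraStruct.counit (R := k) c)
      rw [← Ideal.Quotient.mk_algebraMap, Ideal.Quotient.eq, ← AlgHomClass.commutes φ, ← map_sub]
      exact Ideal.mem_map_of_mem (φ : C' →+* A) (RingHom.mem_ker.2 (by simp))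
    have h2 : (CoactBr.pt qJ ≫ v.hom) ≫ q = toUnit _ ≫ η[Q] := by
      have h3 : CoactBr.pt qJ ≫ v.hom ≫ q ≫ w.inv = 1 := by
        rw [hφ, ← CoactBr.pt_comp, h1]
        exact Groth.Agent.DiagRep.pt_one
      rw [← Hom.one_def, Category.assoc, ← cancel_mono w.inv, Category.assoc, Category.assoc, h3, MonObj.one_comp]
    obtain ⟨χ, hχ⟩ := Groth.Agent.DiagRep.exists_pt (hker.lift (CoactBr.pt qJ ≫ v.hom) (toUnit _) h2 ≫ r.inv)
    have h4 : χ.comp (ψ : A →ₐ[k] H) = qJ := CoactBr.pt_injective (by
      rw [CoactBr.pt_comp, ← hχ, ← hψ, Category.assoc, Iso.inv_hom_id_assoc, ← Category.assoc, hker.lift_fst,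
        Category.assoc, Iso.hom_inv_id, Category.comp_id])
    intro a ha
    rw [RingHom.mem_ker] at ha
    refine Ideal.Quotient.eq_zero_iff_mem.1 ?_
    show qJ a = 0
    rw [← h4]
    show χ (ψ a) = 0
    rw [show ψ a = 0 from ha, map_zero]
  -- the splitting
  haveI : IsIso r.hom := inferInstance
  have hMT : SGA3b.IsMultType k H :=
    Groth.Agent.HomCorr.isMultType_of_locally r.hom (Groth.Agent.RedRank.locally_of_isTorus hT)
  haveI : Algebra.FiniteType k H := Algebra.FiniteType.of_surjective (ψ : A →ₐ[k] H) hψs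
  obtain ⟨L, _, _, N, _, ⟨E₀⟩⟩ := Groth.Agent.DiagHopf.exists_field_split hMT
  obtain ⟨E⟩ := Groth.Agent.DiagHopf.exists_split_algClosure' E₀ (AlgebraicClosure k)
  obtain ⟨D, gD, cD, hD, ⟨e⟩⟩ := GmReprLib.exists_repr_dual ψ hψs φ hle E
  obtain ⟨ev'⟩ := GmVanishLib.exists_ptsIso v.hom inferInstance
  let Φd := (HomSh.homShBi (QuotSh.J Scheme.fppfPrecoverage (Spec (CommRingCat.of k)))).flip.obj
    (CGrpSh2.Gm Scheme.fppfPrecoverage (Spec (CommRingCat.of k)))
  exact ⟨D, gD, cD, hD, ⟨e ≪≫ (Φd.mapIso ev'.op).symm⟩⟩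

end Groth.Agent.S13480
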