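import Groth.Statements.S1349
import Groth.Agent.FlatLib.SliceCM
import Groth.Agent.FlatLib.FibreStalk
import Groth.Agent.FlatLib.SchemeFlat
import Groth.Agent.SMTLib.CMQuot
import Mathlib

set_option autoImplicit false
universe u
open FlatMor

namespace Groth.Agent.S1349

open AlgebraicGeometry CategoryTheory Limits

lemma isRegular_map_equiv {A B : Type u} [CommRing A] [CommRing B] (e : A ≃+* B) (rs : List A)
    (h : RingTheory.Sequence.IsRegular A rs) : RingTheory.Sequence.IsRegular B (rs.map e) := by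
  have hfor : List.Forall₂ (fun r s => ∀ x : A, e.toAddEquiv (r • x) = s • e.toAddEquiv x) rs (rs.map e) := by
    clear h
    induction rs with
    | nil => exact List.Forall₂.nil
    | cons r rs ih => exact List.Forall₂.cons (fun x => map_mul e r x) ih
  exact (AddEquiv.isRegular_congr (e := e.toAddEquiv) hfor).1 h

lemma isCohenMacaulayLocalRing_transfer {A B : Type u} [CommRing A] [CommRing B] (e : A ≃+* B)
    (h : LocCoh.IsCohenMacaulayLocalRing A) : LocCoh.IsCohenMacaulayLocalRing B :=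
  SMTLib.isCohenMacaulayLocalRing_of_ringEquiv e

lemma map_iso_symm {A B : CommRingCat.{u}} (e : A ≅ B) (I : Ideal B) :
    I.map (e.symm.commRingCatIsoToRingEquiv : (B : Type u) →+* A) = I.comap e.hom.hom :=
  Ideal.map_comap_of_equiv e.symm.commRingCatIsoToRingEquiv

lemma ker_comp_quot {A B : CommRingCat.{u}} (h : A ⟶ B) (J : Ideal B) {C : CommRingCat.{u}}
    (e : CommRingCat.of (B ⧸ J) ≅ C) :
    RingHom.ker (h ≫ CommRingCat.ofHom (Ideal.Quotient.mk J) ≫ e.hom).hom = J.comap h.hom := by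
  ext a
  rw [RingHom.mem_ker, Ideal.mem_comap]
  show e.commRingCatIsoToRingEquiv (Ideal.Quotient.mk J (h a)) = 0 ↔ _
  rw [map_eq_zero_iff _ e.commRingCatIsoToRingEquiv.injective, Ideal.Quotient.eq_zero_iff_mem]

open AlgebraicGeometry CategoryTheory Limits in
/-- Let f be locally of finite presentation and Cohen–Macaulay at a point x which is closed in its
fibre. Then there are an open neighbourhood V of x and a regular closed immersion i into V whose
image contains x, such that the composite Z ⟶ V ⟶ X ⟶ S is flat, locally of finite presentation and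
locally quasi-finite, and x is the only point of (the image of) Z lying over the image of x. -/
theorem result {X S : Scheme.{u}} (f : X ⟶ S) [LocallyOfFinitePresentation f] (x : X)
    (hcm : MoreMor.IsCMAt f x) (hcl : IsClosed ({f.asFiber x} : Set ↑(f.fiber (f x)))) :
    ∃ (V : X.Opens) (Z : Scheme.{u}) (i : Z ⟶ (V : Scheme.{u})), Mor2.IsRegularClosedImmersion i ∧ x ∈ Set.range ⇑(i ≫ V.ι) ∧
      Flat (i ≫ V.ι ≫ f) ∧ LocallyOfFinitePresentation (i ≫ V.ι ≫ f) ∧ LocallyQuasiFinite (i ≫ V.ι ≫ f) ∧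
      ∀ z : Z, f (V.ι (i z)) = f x → V.ι (i z) = x := by
  obtain ⟨hflat, hcm⟩ := hcm
  obtain ⟨_, ⟨U₀, hU₀, rfl⟩, hxU₀, -⟩ :=
    S.isBasis_affineOpens.exists_subset_of_mem_open (Set.mem_univ (f x)) isOpen_univ
  obtain ⟨_, ⟨V, hV, rfl⟩, hxV, hVsub⟩ := X.isBasis_affineOpens.exists_subset_of_mem_open
    (show x ∈ (f ⁻¹ᵁ U₀ : X.Opens) from hxU₀) (f ⁻¹ᵁ U₀).2
  have hVU : V ≤ f ⁻¹ᵁ U₀ := fun z hz ↦ hVsub hz
  have hfp := f.finitePresentation_appLE hU₀ hV hVU
  algebraize [(f.appLE U₀ V hVU).hom]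
  let q := hV.primeIdealOf ⟨x, hxV⟩
  -- images of primes
  have hover : ∀ P : PrimeSpectrum Γ(X, V), f (hV.fromSpec P) =
      hU₀.fromSpec (PrimeSpectrum.comap (algebraMap Γ(S, U₀) Γ(X, V)) P) := fun P ↦ by
    rw [← Scheme.Hom.comp_apply, ← IsAffineOpen.SpecMap_appLE_fromSpec f hU₀ hV hVU]
    rfl
  have hqx : hV.fromSpec q = x := hV.fromSpec_primeIdealOf ⟨x, hxV⟩
  have hcomap : ∀ P : PrimeSpectrum Γ(X, V), f (hV.fromSpec P) = f x →
      P.asIdeal.comap (algebraMap Γ(S, U₀) Γ(X, V)) = q.asIdeal.comap (algebraMap Γ(S, U₀) Γ(X, V)) := by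
    intro P hP
    rw [← hqx, hover, hover] at hP
    exact congrArg PrimeSpectrum.asIdeal (hU₀.fromSpec.isOpenEmbedding.injective hP)
  have hclosed : ∀ P : PrimeSpectrum Γ(X, V),
      P.asIdeal.comap (algebraMap Γ(S, U₀) Γ(X, V)) = q.asIdeal.comap (algebraMap Γ(S, U₀) Γ(X, V)) →
      q.asIdeal ≤ P.asIdeal → P = q := by
    intro P hPp hle
    have hPx : f (hV.fromSpec P) = f x := by
      rw [← hqx, hover, hover]
      exact congrArg hU₀.fromSpec (PrimeSpectrum.ext hPp)
    have hsp : x ⤳ hV.fromSpec P := by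
      rw [← hqx]
      exact ((PrimeSpectrum.le_iff_specializes q P).mp hle).map hV.fromSpec.continuous
    obtain ⟨y', hy'⟩ : hV.fromSpec P ∈ Set.range (f.fiberι (f x)) := by
      rw [f.range_fiberι]; exact hPx
    have hsp' : f.asFiber x ⤳ y' := by
      rw [← (f.fiberι (f x)).isEmbedding.isInducing.specializes_iff, f.fiberι_asFiber, hy']
      exact hsp
    have hy : y' = f.asFiber x := hsp'.mem_closed hcl rfl
    rw [hy, f.fiberι_asFiber, ← hqx] at hy'
    exact hV.fromSpec.isOpenEmbedding.injective hy'.symm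
  obtain ⟨e⟩ := FlatLib.nonempty_fibreStalk_ringEquiv f hU₀ hV hVU rfl x hxV
  haveI := isCohenMacaulayLocalRing_transfer e hcm
  obtain ⟨g, hgq, bs, hbq, huniq, hL⟩ := FlatLib.exists_cm_slice (R := Γ(S, U₀)) q
    ((FlatLib.flat_stalkMap_iff U₀ hU₀ V hV hVU hxV).mp hflat) hclosed
    (SMTLib.isCM_of_isCohenMacaulayLocalRing _)
  -- the open
  have hxg : x ∈ X.basicOpen g := by
    have h1 : q ∈ hV.fromSpec ⁻¹ᵁ X.basicOpen g := by
      rw [hV.fromSpec_preimage_basicOpen]; exact hgq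
    rw [← hqx]
    exact h1
  let W := X.basicOpen g
  have hW : IsAffineOpen W := hV.basicOpen g
  have hWV : W ≤ V := X.basicOpen_le g
  let φ : Γ(X, V) ⟶ Γ(X, W) := X.presheaf.map (homOfLE hWV).op
  letI : Algebra Γ(X, V) Γ(X, W) := φ.hom.toAlgebra
  haveI : IsLocalization.Away g Γ(X, W) := hV.isLocalization_basicOpen g
  letI : Algebra Γ(S, U₀) Γ(X, W) := (f.appLE U₀ W (hWV.trans hVU)).hom.toAlgebra
  haveI : IsScalarTower Γ(S, U₀) Γ(X, V) Γ(X, W) := IsScalarTower.of_algebraMap_eq fun r ↦ by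
    show f.appLE U₀ W (hWV.trans hVU) r = (f.appLE U₀ V hVU ≫ φ) r
    rw [Scheme.Hom.appLE_map]
  obtain ⟨hwreg, hfl, hqf⟩ := hL Γ(X, W)
  let J : Ideal Γ(X, W) := (Ideal.ofList bs).map φ.hom
  let mk : Γ(X, W) ⟶ CommRingCat.of (Γ(X, W) ⧸ J) := CommRingCat.ofHom (Ideal.Quotient.mk J)
  haveI : IsClosedImmersion (Spec.map mk) := IsClosedImmersion.spec_of_surjective _ Ideal.Quotient.mk_surjective
  let i : Spec (CommRingCat.of (Γ(X, W) ⧸ J)) ⟶ (W : Scheme.{u}) := Spec.map mk ≫ hW.isoSpec.inv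
  have hiι : i ≫ W.ι = Spec.map mk ≫ hW.fromSpec := Category.assoc _ _ _
  have hiιV : i ≫ W.ι = Spec.map (φ ≫ mk) ≫ hV.fromSpec := by
    rw [hiι, Spec.map_comp, Category.assoc, hV.map_fromSpec hW]
  have hif : i ≫ W.ι ≫ f = Spec.map (f.appLE U₀ W (hWV.trans hVU) ≫ mk) ≫ hU₀.fromSpec := by
    rw [← Category.assoc, hiι, Spec.map_comp, Category.assoc, Category.assoc,
      IsAffineOpen.SpecMap_appLE_fromSpec f hU₀ hW (hWV.trans hVU)]
  have hfgJ : J.FG := Ideal.FG.map (Submodule.fg_span (List.finite_toSet _)) _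
  -- regularity
  have hne : J ≠ ⊤ := by
    intro htop
    have h1 := hW.fromSpec_primeIdealOf ⟨x, hxg⟩
    let Q := hW.primeIdealOf ⟨x, hxg⟩
    have hQ : PrimeSpectrum.comap φ.hom Q = q := hV.fromSpec.isOpenEmbedding.injective (by
      rw [hqx]
      show (Spec.map φ ≫ hV.fromSpec) Q = x
      rw [hV.map_fromSpec hW]
      exact h1)
    have : J ≤ Q.asIdeal := Ideal.map_le_iff_le_comap.mpr (Ideal.span_le.mpr fun b hb ↦ by
      have := congrArg PrimeSpectrum.asIdeal hQ
      show b ∈ Q.asIdeal.comap φ.hom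
      rw [show Q.asIdeal.comap φ.hom = q.asIdeal from this]
      exact hbq b hb)
    exact Q.isPrime.ne_top (top_le_iff.mp (htop ▸ this))
  have hreg : RingTheory.Sequence.IsRegular Γ(X, W) (bs.map φ.hom) := ⟨hwreg, by
    rw [Ideal.smul_eq_mul, Ideal.mul_top, ← Ideal.map_ofList]
    exact hne.symm⟩
  refine ⟨W, _, i, ⟨inferInstance, fun z ↦ ?_⟩, ?_, ?_, ?_, ?_, fun z hz ↦ ?_⟩
  · haveI : IsAffine (W : Scheme.{u}) := hW
    let t := W.topIso.symm.commRingCatIsoToRingEquiv
    refine ⟨⊤, isAffineOpen_top _, trivial, (bs.map φ.hom).map t, isRegular_map_equiv t _ hreg, ?_⟩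
    have e1 : Ideal.ofList ((bs.map φ.hom).map t) = J.map (t : Γ(X, W) →+* _) := by
      show _ = Ideal.map _ (Ideal.map φ.hom (Ideal.ofList bs))
      rw [Ideal.map_ofList, Ideal.map_ofList]
      rfl
    rw [Scheme.Hom.ker_apply, e1]
    show RingHom.ker i.appTop.hom = J.map (t : Γ(X, W) →+* _)
    have happ : i.appTop = W.topIso.hom ≫ mk ≫ (Scheme.ΓSpecIso _).inv := by
      rw [Scheme.Hom.comp_appTop, hW.isoSpec_inv_appTop, Category.assoc]
      congr 1
      rw [← Scheme.ΓSpecIso_inv_naturality]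
    rw [happ]
    exact (ker_comp_quot W.topIso.hom J (Scheme.ΓSpecIso (CommRingCat.of (Γ(X, W) ⧸ J))).symm).trans
      (map_iso_symm W.topIso J).symm
  · let Q := hW.primeIdealOf ⟨x, hxg⟩
    have hJQ : J ≤ Q.asIdeal := by
      refine Ideal.map_le_iff_le_comap.mpr (Ideal.span_le.mpr fun b hb ↦ ?_)
      have hQ : PrimeSpectrum.comap φ.hom Q = q := hV.fromSpec.isOpenEmbedding.injective (by
        rw [hqx]
        show (Spec.map φ ≫ hV.fromSpec) Q = x
        rw [hV.map_fromSpec hW]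
        exact hW.fromSpec_primeIdealOf ⟨x, hxg⟩)
      show b ∈ (PrimeSpectrum.comap φ.hom Q).asIdeal
      rw [hQ]; exact hbq b hb
    refine ⟨⟨Q.asIdeal.map (Ideal.Quotient.mk J),
      Ideal.map_isPrime_of_surjective Ideal.Quotient.mk_surjective (by rwa [Ideal.mk_ker])⟩, ?_⟩
    rw [hiι, Scheme.Hom.comp_apply]
    convert hW.fromSpec_primeIdealOf ⟨x, hxg⟩ using 2
    refine PrimeSpectrum.ext ?_
    show Ideal.comap (Ideal.Quotient.mk J) (Q.asIdeal.map (Ideal.Quotient.mk J)) = Q.asIdeal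
    rw [Ideal.comap_map_of_surjective _ Ideal.Quotient.mk_surjective,
      show Ideal.comap (Ideal.Quotient.mk J) ⊥ = J from Ideal.mk_ker, sup_eq_left.mpr hJQ]
  · rw [hif]
    haveI : Flat (Spec.map (f.appLE U₀ W (hWV.trans hVU) ≫ mk)) := by
      rw [HasRingHomProperty.Spec_iff (P := @Flat)]
      exact RingHom.flat_algebraMap_iff.mpr hfl
    infer_instance
  · rw [hif]
    haveI : LocallyOfFinitePresentation (Spec.map (f.appLE U₀ W (hWV.trans hVU) ≫ mk)) := by
      rw [HasRingHomProperty.Spec_iff (P := @LocallyOfFinitePresentation)]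
      exact RingHom.FinitePresentation.comp (RingHom.FinitePresentation.of_surjective _ Ideal.Quotient.mk_surjective
        (by show (RingHom.ker (Ideal.Quotient.mk J)).FG; rw [Ideal.mk_ker]; exact hfgJ))
        (f.finitePresentation_appLE hU₀ hW (hWV.trans hVU))
    infer_instance
  · rw [hif]
    haveI : LocallyQuasiFinite (Spec.map (f.appLE U₀ W (hWV.trans hVU) ≫ mk)) := by
      rw [HasRingHomProperty.Spec_iff (P := @LocallyQuasiFinite)]
      exact RingHom.quasiFinite_algebraMap.mpr hqf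
    infer_instance
  · let P : PrimeSpectrum Γ(X, V) := PrimeSpectrum.comap (φ ≫ mk).hom z
    have hP : W.ι (i z) = hV.fromSpec P := by
      rw [← Scheme.Hom.comp_apply, hiιV]
      rfl
    rw [hP, ← hqx]
    refine congrArg _ (huniq P ?_ ?_ (hcomap P (hP ▸ hz)))
    · intro hg
      exact z.isPrime.ne_top (Ideal.eq_top_of_isUnit_mem _ hg ((IsLocalization.Away.algebraMap_isUnit g).map mk.hom))
    · intro b hb
      show mk (φ b) ∈ z.asIdeal
      rw [show mk (φ b) = 0 from Ideal.Quotient.eq_zero_iff_mem.mpr (Ideal.mem_map_of_mem _ hb)]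
      exact zero_mem _

end Groth.Agent.S1349
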