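import Groth.Statements.S13495
import Groth.Agent.DerCompLib.AffineOpen

set_option autoImplicit false
universe u
open CategoryTheory CategoryTheory.Limits Opposite TopologicalSpace AlgebraicGeometry
attribute [local instance] HasDerivedCategory.standard
open DerComp

namespace Groth.Agent.S13495

theorem subsingleton_HD_of_isRefl {R : Type u} [CommRing R] [IsNoetherianRing R] {I : Ideal R}
    {Y B : Dual.D R} {q : Y ⟶ B} (hq : Groth.Agent.DCompLib.IsRefl I q)
    (hfin : ∀ i, Module.Finite R (Dual.HD R Y i)) (p : ℤ) [Subsingleton (Dual.HD R Y p)] :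
    Subsingleton (Dual.HD R B p) := by
  haveI := Groth.Agent.DCompLib.hasDerivedCompletion (I := I) (IsNoetherian.noetherian I)
  obtain ⟨eB, -⟩ := Groth.Agent.DRingLib.exists_iso_cF hq
  obtain ⟨e2, -⟩ := Groth.Agent.DCompLib.exists_completion_equiv I Y hfin p
  haveI : Subsingleton (AdicCompletion I (Dual.HD R Y p)) :=
    ⟨fun a b => Subtype.ext (funext fun n => Subsingleton.elim _ _)⟩
  exact (((DerivedCategory.homologyFunctor (ModuleCat.{u} R) p).mapIso eB).toLinearEquiv.trans
    e2).toEquiv.subsingleton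


/-- Let X be a locally Noetherian scheme, I a quasi-coherent sheaf of ideals of O_X and F a coherent
O_X-module; then H^p(U, F^) = 0 for all p ≠ 0 and all affine opens U of X, with F^ denoting the
derived I-completion of F. Quasi-coherence of I is stated as: on every affine open U and every basic
open D(g) inside it, I(D(g)) is the ideal generated by the restriction of I(U). H^p(U, K) for K in
D(O_X) is the group of morphisms from the extension by zero of O_U, placed in degree 0, to K[p]. -/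
theorem result (X : Scheme.{u}) [IsLocallyNoetherian X] (𝓘 : DerComp.IdealSh X.sheaf) (hqc : ∀ (U : X.affineOpens) (g : Γ(X, ↑U)), 𝓘.ideal (X.basicOpen g) = Ideal.map (X.presheaf.map (homOfLE (X.basicOpen_le g)).op).hom (𝓘.ideal ↑U)) [DerComp.HasDerCompletion X.sheaf 𝓘] (F : X.Modules) (hF : Coh.IsCoh F) (U : X.Opens) (hU : IsAffineOpen U) (p : ℤ) (hp : p ≠ 0) : Subsingleton (SiteCmp.inD X.sheaf (ModSite.freeOn X.sheaf U) ⟶ ((DerComp.derCompletion X.sheaf 𝓘).obj (SiteCmp.inD X.sheaf F)).obj⟦p⟧) := by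
  have hN0 : IsNoetherianRing Γ(X, U) := IsLocallyNoetherian.component_noetherian ⟨U, hU⟩
  obtain ⟨r, a, ha⟩ := Submodule.fg_iff_exists_fin_generating_family.1
    ((isNoetherianRing_iff_ideal_fg _).1 hN0 (𝓘.ideal U))
  let gens : Fin r → DerComp.GSec (X.sheaf.over U) := fun i => DerComp.GSec.ofSect X.sheaf U (a i)
  have hgen : (𝓘.over U).IsGenBy gens :=
    Groth.Agent.DerCompLib.AffineOpen.isGenBy_over U hU 𝓘 (fun g => hqc ⟨U, hU⟩ g) a ha
  haveI := Groth.Agent.DerCompLib.AffineOpen.isNoetherianRing_gSec U hU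
  let K := SiteCmp.inD X.sheaf F
  obtain ⟨N, p₁, q₁, hT⟩ := Pretriangulated.distinguished_cocone_triangle (DerComp.toDerCompletion 𝓘 K)
  have hN : Groth.Agent.DerCompLib.Orth 𝓘 N := Groth.Agent.DerCompLib.orth_cone hT
    (fun L hL => Groth.Agent.DerCompLib.bijective_toDerCompletion 𝓘 K L hL)
  let T := Groth.Agent.DerCompLib.restrD X.sheaf U
  let V := ModSite.unit (X.sheaf.over U)
  have hI : ∀ b ∈ Ideal.span {b | b ∈ List.ofFn gens}, ∀ W, b.1 W ∈ (𝓘.over U).ideal W := fun b hb W => by
    refine (Ideal.span_le.2 ?_ : _ ≤ Ideal.comap ((Pi.evalRingHom _ W).comp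
      (DerComp.GSec (X.sheaf.over U)).subtype) ((𝓘.over U).ideal W)) hb
    intro c hc
    obtain ⟨i, rfl⟩ := List.mem_ofFn.1 hc
    exact hgen.1 i W
  have hr : Groth.Agent.DCompLib.IsRefl (Ideal.span {b | b ∈ List.ofFn gens})
      ((Groth.Agent.DerCompLib.gR V).map (T.map (DerComp.toDerCompletion 𝓘 K))) :=
    Groth.Agent.DerCompLib.isRefl_gR_of_kz V (List.ofFn gens) hI (T.map_distinguished _ hT)
    (Groth.Agent.DerCompLib.isDerComp_restr 𝓘 U ((DerComp.derCompletion X.sheaf 𝓘).obj K).property)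
    (Groth.Agent.DerCompLib.kz_restr_of_orth 𝓘 U gens hgen N hN)
  have hsub : ∀ i : ℤ, i ≠ 0 →
      Subsingleton (SiteCmp.inD (X.sheaf.over U) V ⟶ (T.obj K)⟦i⟧) := fun i hi => by
    haveI := Groth.Agent.DerCompLib.AffineOpen.subsingleton_classes U hU F hF.1 i hi
    exact ((Iso.homCongr (Iso.refl _) ((T.commShiftIso i).app K).symm).trans
      (Groth.Agent.DerCompLib.AffineOpen.resHomEquiv U (K⟦i⟧))).subsingleton
  have hfin : ∀ i : ℤ, Module.Finite (DerComp.GSec (X.sheaf.over U))
      (Dual.HD _ ((Groth.Agent.DerCompLib.gR V).obj (T.obj K)) i) := fun i => by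
    refine @Module.Finite.equiv _ _ _ _ _ _ _ _ ?_ (Groth.Agent.DerCompLib.gHEquiv V (T.obj K) i)
    by_cases hi : i = 0
    · subst hi
      let e : (T.obj K)⟦(0 : ℤ)⟧ ≅ SiteCmp.inD (X.sheaf.over U) ((ModSite.restr X.sheaf U).obj F) :=
        (shiftFunctorZero _ ℤ).app _ ≪≫ ((ModSite.restr X.sheaf U).mapDerivedCategorySingleFunctor 0).app F
      haveI := Groth.Agent.DerCompLib.AffineOpen.finite_sections U hU F hF
      let σ := (DerivedCategory.singleFunctor (ModSite.Mod (X.sheaf.over U)) 0).mapLinearMap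
        (DerComp.GSec (X.sheaf.over U)) (X := V) (Y := (ModSite.restr X.sheaf U).obj F)
      exact Module.Finite.equiv ((LinearEquiv.ofBijective σ
        ⟨fun f g h => (DerivedCategory.singleFunctor (ModSite.Mod (X.sheaf.over U)) 0).map_injective h,
          fun f => (DerivedCategory.singleFunctor (ModSite.Mod (X.sheaf.over U)) 0).map_surjective f⟩).trans
        (Linear.homCongr (DerComp.GSec (X.sheaf.over U)) (Iso.refl _) e.symm))
    · haveI := hsub i hi
      infer_instance
  haveI := hsub p hp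
  haveI : Subsingleton (Dual.HD _ ((Groth.Agent.DerCompLib.gR V).obj (T.obj K)) p) :=
    (Groth.Agent.DerCompLib.gHEquiv V (T.obj K) p).symm.toEquiv.subsingleton
  haveI := subsingleton_HD_of_isRefl hr hfin p
  let L := ((DerComp.derCompletion X.sheaf 𝓘).obj K).obj
  haveI : Subsingleton (SiteCmp.inD (X.sheaf.over U) V ⟶ T.obj (L⟦p⟧)) :=
    ((Iso.homCongr (Iso.refl _) ((T.commShiftIso p).app L)).trans
      (Groth.Agent.DerCompLib.gHEquiv V (T.obj L) p).toEquiv).subsingleton
  exact (Groth.Agent.DerCompLib.AffineOpen.resHomEquiv U (L⟦p⟧)).symm.subsingleton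

end Groth.Agent.S13495
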