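import Groth.Statements.S13496
import Groth.Agent.DerCompLib.AffineGlobal

set_option autoImplicit false
universe u
open CategoryTheory CategoryTheory.Limits Opposite TopologicalSpace AlgebraicGeometry
attribute [local instance] HasDerivedCategory.standard
open DerComp

namespace Groth.Agent.S13496

theorem of_equiv_completion {R : Type u} [CommRing R] {I : Ideal R} (hI : I.FG)
    {M N : Type*} {M₀ : Type u} [AddCommGroup M] [Module R M] [AddCommGroup M₀] [Module R M₀] [AddCommGroup N] [Module R N]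
    (f : M →ₗ[R] N) (g : M ≃ₗ[R] M₀) (e : N ≃ₗ[R] AdicCompletion I M₀)
    (he : ∀ x, e (f x) = AdicCompletion.of I M₀ (g x)) :
    IsAdicComplete I N ∧ ∀ n : ℕ, (∀ y : N, ∃ x : M, f x - y ∈ (I ^ n • ⊤ : Submodule R N)) ∧
      (∀ x : M, f x ∈ (I ^ n • ⊤ : Submodule R N) → x ∈ (I ^ n • ⊤ : Submodule R M)) := by
  have hmem : ∀ (n : ℕ) (y : N), y ∈ (I ^ n • ⊤ : Submodule R N) ↔
      AdicCompletion.eval I M₀ n (e y) = 0 := by
    intro n y
    rw [← LinearMap.mem_ker, ← AdicCompletion.pow_smul_top_eq_ker_eval hI]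
    have := Submodule.map_smul'' (I ^ n) (⊤ : Submodule R N) e.toLinearMap
    rw [Submodule.map_top, LinearEquiv.range] at this
    rw [← this]
    rw [Submodule.mem_map_equiv, e.symm_apply_apply]
  haveI := AdicCompletion.isAdicComplete (M := M₀) hI
  refine ⟨?_, fun n => ⟨fun y => ?_, fun x hx => ?_⟩⟩
  · refine { toIsHausdorff := ⟨fun y hy => ?_⟩, toIsPrecomplete := ⟨fun v hv => ?_⟩ }
    · apply e.injective
      rw [map_zero]
      refine IsHausdorff.haus (I := I) inferInstance (e y) fun n => ?_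
      rw [SModEq.zero, AdicCompletion.pow_smul_top_eq_ker_eval hI, LinearMap.mem_ker]
      exact (hmem n y).1 (SModEq.zero.1 (hy n))
    · obtain ⟨L, hL⟩ := IsPrecomplete.prec (I := I) inferInstance (f := fun n => e (v n)) fun {m n} h => by
        rw [SModEq.sub_mem, AdicCompletion.pow_smul_top_eq_ker_eval hI, LinearMap.mem_ker, ← map_sub]
        exact (hmem m _).1 (SModEq.sub_mem.1 (hv h))
      refine ⟨e.symm L, fun n => ?_⟩
      rw [SModEq.sub_mem, hmem, map_sub, e.apply_symm_apply, ← LinearMap.mem_ker,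
        ← AdicCompletion.pow_smul_top_eq_ker_eval hI]
      exact SModEq.sub_mem.1 (hL n)
  · obtain ⟨z, hz⟩ := Submodule.Quotient.mk_surjective _ (AdicCompletion.eval I M₀ n (e y))
    refine ⟨g.symm z, (hmem n _).2 ?_⟩
    rw [map_sub, map_sub, he, g.apply_symm_apply, sub_eq_zero]
    exact hz
  · have h := (hmem n _).1 hx
    rw [he] at h
    have h' : g x ∈ (I ^ n • ⊤ : Submodule R M₀) := (Submodule.Quotient.mk_eq_zero _).1 h
    have := Submodule.map_smul'' (I ^ n) (⊤ : Submodule R M) g.toLinearMap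
    rw [Submodule.map_top, LinearEquiv.range] at this
    rw [← this, Submodule.mem_map_equiv, g.symm_apply_apply] at h'
    exact h'

theorem of_isRefl {R : Type u} [CommRing R] [IsNoetherianRing R] {I : Ideal R} {Y B : Dual.D R} {q : Y ⟶ B}
    (hq : Groth.Agent.DCompLib.IsRefl I q) (p : ℤ)
    {M N : Type*} [AddCommGroup M] [Module R M] [AddCommGroup N] [Module R N]
    (f : M →ₗ[R] N) (g : M ≃ₗ[R] Dual.HD R Y p) (e : N ≃ₗ[R] Dual.HD R B p)
    (he : ∀ x, e (f x) = ((DerivedCategory.homologyFunctor (ModuleCat.{u} R) p).map q).hom (g x))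
    (hfin : ∀ i, Module.Finite R (Dual.HD R Y i)) :
    IsAdicComplete I N ∧ ∀ n : ℕ, (∀ y : N, ∃ x : M, f x - y ∈ (I ^ n • ⊤ : Submodule R N)) ∧
      (∀ x : M, f x ∈ (I ^ n • ⊤ : Submodule R N) → x ∈ (I ^ n • ⊤ : Submodule R M)) := by
  haveI := Groth.Agent.DCompLib.hasDerivedCompletion (I := I) (IsNoetherian.noetherian I)
  obtain ⟨eB, heB⟩ := Groth.Agent.DRingLib.exists_iso_cF hq
  obtain ⟨e2, he2⟩ := Groth.Agent.DCompLib.exists_completion_equiv I Y hfin p
  let H := DerivedCategory.homologyFunctor (ModuleCat.{u} R) p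
  refine of_equiv_completion (IsNoetherian.noetherian I) f g
    ((e.trans (H.mapIso eB).toLinearEquiv).trans e2) fun x => ?_
  rw [← he2, ← heB]
  refine congrArg e2 ?_
  refine (congrArg (H.map eB.hom).hom (he x)).trans ?_
  exact (congrArg (fun φ => φ.hom (g x)) (H.map_comp q eB.hom)).symm

/-- Affine case U = X: let X be an affine Noetherian scheme, A its ring of global sections, I an ideal
of A and J = I O_X the (quasi-coherent) sheaf of ideals generated by the elements of I; take a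
pseudo-coherent K in D(O_X), and write K^ for its derived J-completion. Then for every p, H^p(X, K^)
= lim_n H^p(X, K)/I^n H^p(X, K), the I-adic completion of H^p(X, K): precisely, H^p(X, K^) is
I-adically complete and the map H^p(X, K) -> H^p(X, K^) induced by K -> K^ identifies H^p(X, K)/I^n
with H^p(X, K^)/I^n for every n. Here H^p(X, -) is the A-module of morphisms from O_X in degree 0 to
the p-th shift. (The published statement is for an affine open U of a locally Noetherian scheme;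
restricting to U reduces it to this case since derived completion commutes with restriction to
opens; its second equality, with the derived completion of the module H^p(X, K), is not stated.) -/
theorem result (X : Scheme.{u}) [IsAffine X] [IsNoetherian X] (I : Ideal (DerComp.GSec X.sheaf)) (𝓘 : DerComp.IdealSh X.sheaf) (h𝓘 : 𝓘.IsGenBy (fun a : I => (a : DerComp.GSec X.sheaf))) [DerComp.HasDerCompletion X.sheaf 𝓘] (K : DerivedCategory (ModSite.Mod X.sheaf)) (hK : ∀ m : ℤ, DCoh.IsPseudoCoherentD (X := X) m K) (p : ℤ) : IsAdicComplete I (SiteCmp.inD X.sheaf (ModSite.unit X.sheaf) ⟶ ((DerComp.derCompletion X.sheaf 𝓘).obj K).obj⟦p⟧) ∧ ∀ n : ℕ, (∀ y : (SiteCmp.inD X.sheaf (ModSite.unit X.sheaf) ⟶ ((DerComp.derCompletion X.sheaf 𝓘).obj K).obj⟦p⟧), ∃ x : (SiteCmp.inD X.sheaf (ModSite.unit X.sheaf) ⟶ K⟦p⟧), (Linear.rightComp (DerComp.GSec X.sheaf) (SiteCmp.inD X.sheaf (ModSite.unit X.sheaf)) ((shiftFunctor (DerivedCategory (ModSite.Mod X.sheaf)) p).map (DerComp.toDerCompletion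 𝓘 K))) x - y ∈ (I ^ n • ⊤ : Submodule (DerComp.GSec X.sheaf) (SiteCmp.inD X.sheaf (ModSite.unit X.sheaf) ⟶ ((DerComp.derCompletion X.sheaf 𝓘).obj K).obj⟦p⟧))) ∧ (∀ x : (SiteCmp.inD X.sheaf (ModSite.unit X.sheaf) ⟶ K⟦p⟧), (Linear.rightComp (DerComp.GSec X.sheaf) (SiteCmp.inD X.sheaf (ModSite.unit X.sheaf)) ((shiftFunctor (DerivedCategory (ModSite.Mod X.sheaf)) p).map (DerComp.toDerCompletion 𝓘 K))) x ∈ (I ^ n • ⊤ : Submodule (DerComp.GSec X.sheaf) (SiteCmp.inD X.sheaf (ModSite.unit X.sheaf) ⟶ ((DerComp.derCompletion X.sheaf 𝓘).obj K).obj⟦p⟧)) → x ∈ (I ^ n • ⊤ : Submodule (DerComp.GSec X.sheaf) (SiteCmp.inD X.sheaf (ModSite.unit X.sheaf) ⟶ K⟦p⟧))) := by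
  obtain ⟨s, hs⟩ := IsNoetherian.noetherian I
  change Ideal.span (s : Set (DerComp.GSec X.sheaf)) = I at hs
  have hmemI : ∀ a ∈ I, ∀ W, a.1 W ∈ 𝓘.ideal W := fun a ha W => h𝓘.1 ⟨a, ha⟩ W
  have hgen : 𝓘.IsGenBy (fun a : (s : Set (DerComp.GSec X.sheaf)) => (a : DerComp.GSec X.sheaf)) := by
    refine ⟨fun a W => hmemI _ (hs ▸ Ideal.subset_span a.2) W, fun I' hI' => h𝓘.2 I' fun a W => ?_⟩
    have hle : Ideal.span (s : Set (DerComp.GSec X.sheaf)) ≤
        Ideal.comap ((Pi.evalRingHom _ W).comp (DerComp.GSec X.sheaf).subtype) (I'.ideal W) :=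
      Ideal.span_le.2 fun b hb => hI' ⟨b, hb⟩ W
    exact hle (hs.symm ▸ a.2)
  let U := ModSite.unit X.sheaf
  have hr := Groth.Agent.DerCompLib.isRefl_gR U s hgen (fun a ha => hmemI a (hs ▸ ha)) K
  rw [hs] at hr
  exact of_isRefl hr p _ (Groth.Agent.DerCompLib.gHEquiv U K p)
    (Groth.Agent.DerCompLib.gHEquiv U ((DerComp.derCompletion X.sheaf 𝓘).obj K).obj p)
    (fun x => Groth.Agent.DerCompLib.gHEquiv_naturality U (DerComp.toDerCompletion 𝓘 K) p x)
    (fun i =>
    @Module.Finite.equiv _ _ _ _ _ _ _ _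
      (Groth.Agent.DerCompLib.AffineGlobal.finite_hom_shift
        (Groth.Agent.DerCompLib.AffineGlobal.isCohD_of_isPC hK) i)
      (Groth.Agent.DerCompLib.gHEquiv U K i))

end Groth.Agent.S13496
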