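import Groth.Statements.S13500
import Groth.Agent.SkySumLib.MaxUnitMain

set_option backward.isDefEq.respectTransparency false


set_option autoImplicit false
universe u
open CategoryTheory CategoryTheory.Limits AlgebraicGeometry Opposite
open Curves

namespace Groth.Agent.S13500

/-- Let k be an algebraically closed field and Y an integral scheme of dimension one which is locally of
finite type, quasi-compact and quasi-separated over k. For every abelian sheaf F on the small étale
site of Y on which multiplication by n is an isomorphism for every n > 0 (a sheaf of vector spaces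
over the rationals), H^i(Y_et, F) vanishes for all i ≥ 2. -/
theorem result {k : Type u} [Field k] [IsAlgClosed k]
    (Y : Scheme.{u}) [IsIntegral Y] (f : Y ⟶ Spec (CommRingCat.of k)) [LocallyOfFiniteType f]
    [QuasiCompact f] [QuasiSeparated f] (hdim : topologicalKrullDim Y = 1)
    (F : EtCoh.Ab Y) (hdiv : ∀ n : ℕ, 0 < n → IsIso (n • 𝟙 F)) (i : ℕ) (hi : 2 ≤ i) :
    Subsingleton (EtCoh.H Y F i) := by
  obtain ⟨n, rfl⟩ : ∃ n, i = n + 2 := ⟨i - 2, by omega⟩
  haveI : IsLocallyNoetherian Y := LocallyOfFiniteType.isLocallyNoetherian f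
  haveI : CompactSpace Y := QuasiCompact.compactSpace_of_compactSpace f
  haveI : AlgebraicGeometry.IsNoetherian Y := { }
  refine subsingleton_of_forall_eq 0 fun x => ?_
  obtain ⟨d, hd, h⟩ := isOfFinAddOrder_iff_nsmul_eq_zero.1 (SkySumLib.isOfFinAddOrder_H_dim_one Y F hdim.le n x)
  haveI := hdiv d hd
  have h1 : Abelian.Ext.comp x (Abelian.Ext.mk₀ (d • 𝟙 F)) (add_zero (n + 2)) = 0 := by
    rw [EtTransferLib.comp_mk₀_nsmul, h]
  have h2 := congrArg (fun z => Abelian.Ext.comp z (Abelian.Ext.mk₀ (inv (d • 𝟙 F))) (add_zero (n + 2))) h1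
  simpa only [Abelian.Ext.comp_assoc_of_second_deg_zero, Abelian.Ext.mk₀_comp_mk₀, IsIso.hom_inv_id,
    Abelian.Ext.comp_mk₀_id, Abelian.Ext.zero_comp] using h2

end Groth.Agent.S13500
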