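import Groth.Statements.S13506
import Groth.Agent.ProperClopenLib.Separated
import Groth.Agent.S2277
-- import your own Groth.Agent.* helpers here

set_option autoImplicit false
universe u
open CategoryTheory CategoryTheory.Limits AlgebraicGeometry
open Hensel

namespace Groth.Agent.S13506

/-- Let A be a Noetherian ring which is complete for the adic topology of an ideal I, f : X → Spec A
proper and X_0 = X ×_{Spec A} Spec (A/I). Then the projection X_0 → X induces a bijection from the
connected components of X_0 to the connected components of X. -/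
theorem result (A : Type u) [CommRing A]
    [IsNoetherianRing A] (I : Ideal A) [IsAdicComplete I A] {X : Scheme.{u}}
    (f : X ⟶ Spec (CommRingCat.of A)) [IsProper f] :
    Function.Bijective
      (Continuous.connectedComponentsMap
        (pullback.fst f (Spec.map (CommRingCat.ofHom (Ideal.Quotient.mk I)))).continuous) := by
  let i := Spec.map (CommRingCat.ofHom (Ideal.Quotient.mk I))
  have : IsClosedImmersion i := IsClosedImmersion.spec_of_surjective _ Ideal.Quotient.mk_surjective
  let q := pullback.fst f i
  have hq : IsClosedImmersion q := inferInstanceAs (IsClosedImmersion (pullback.fst f i))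
  have hr : Set.range q = f ⁻¹' PrimeSpectrum.zeroLocus (I : Set A) := by
    rw [Scheme.Pullback.range_fst]
    refine congrArg (f ⁻¹' ·) ?_
    show Set.range (PrimeSpectrum.comap (Ideal.Quotient.mk I)) = _
    rw [range_comap_of_surjective _ _ Ideal.Quotient.mk_surjective, Ideal.mk_ker]
  have : IsLocallyNoetherian X := LocallyOfFiniteType.isLocallyNoetherian f
  have : IsLocallyNoetherian (pullback f i) := LocallyOfFiniteType.isLocallyNoetherian q
  have hlc : ∀ (W : Scheme.{u}) [IsLocallyNoetherian W], LocallyConnectedSpace W := by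
    intro W _
    refine Groth.Agent.S2277.result W fun w ↦ ?_
    obtain ⟨_, ⟨O, hO, rfl⟩, hwO, -⟩ :=
      W.isBasis_affineOpens.exists_subset_of_mem_open (Set.mem_univ w) isOpen_univ
    have hO : IsAffineOpen O := hO
    have hNR : IsNoetherianRing Γ(W, O) := IsLocallyNoetherian.component_noetherian ⟨O, hO⟩
    exact ⟨O, O.isOpen.mem_nhds hwO, noetherianSpace_of_isAffineOpen O hO⟩
  have := hlc X
  have := hlc (pullback f i)
  have hI := IsAdicComplete.le_jacobson_bot I
  constructor
  · intro a b hab
    obtain ⟨a, rfl⟩ := ConnectedComponents.surjective_coe a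
    obtain ⟨b, rfl⟩ := ConnectedComponents.surjective_coe b
    have hab' : connectedComponent (q a) = connectedComponent (q b) :=
      ConnectedComponents.coe_eq_coe.mp hab
    obtain ⟨O, hO, hOa⟩ := q.isEmbedding.isInducing.isOpen_iff.mp
      (isOpen_connectedComponent (x := a))
    obtain ⟨O', hO', hOb⟩ := q.isEmbedding.isInducing.isOpen_iff.mp
      (isClosed_connectedComponent (x := a)).isOpen_compl
    obtain ⟨W, hWc, hW⟩ := ProperClopenLib.exists_clopen_lift' f I ⟨O, hO⟩ ⟨O', hO'⟩
      (fun x hx ↦ by
        obtain ⟨w, rfl⟩ := hr.ge hx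
        by_cases h : w ∈ connectedComponent a
        · exact Or.inl (hOa.ge h)
        · exact Or.inr (hOb.ge h))
      (fun x hx hx' ↦ by
        obtain ⟨w, rfl⟩ := hr.ge hx'
        exact hOb.le hx.2 (hOa.le hx.1))
    have haW : q a ∈ W := (hW _ (hr.le ⟨a, rfl⟩)).mpr (hOa.ge mem_connectedComponent)
    have hbW : q b ∈ W :=
      (IsClopen.connectedComponent_subset ⟨hWc, W.isOpen⟩ haW) (hab' ▸ mem_connectedComponent)
    exact (ConnectedComponents.coe_eq_coe'.mpr (hOa.le ((hW _ (hr.le ⟨b, rfl⟩)).mp hbW))).symm
  · intro c
    obtain ⟨c, rfl⟩ := ConnectedComponents.surjective_coe c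
    by_contra hno
    have htop := ProperClopenLib.eq_top_of_closed_fibre f I hI
      ⟨(connectedComponent c)ᶜ, isClosed_connectedComponent.isOpen_compl⟩ fun x hx hxc ↦ by
        obtain ⟨w, rfl⟩ := hr.ge hx
        refine hno ⟨_root_.ConnectedComponents.mk w, ?_⟩
        exact ConnectedComponents.coe_eq_coe'.mpr hxc
    exact (htop.ge (trivial : c ∈ (⊤ : X.Opens))) mem_connectedComponent

end Groth.Agent.S13506
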