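import Groth.Statements.S1351
import Mathlib
import Groth.Agent.FlatInjLib.Main
-- import your own Groth.Agent.* helpers here

set_option autoImplicit false
universe u
open FlatMor

namespace Groth.Agent.S1351

/-- Let A be a valuation ring, A → B a local homomorphism of local rings essentially of finite type, and
u : N → M a B-linear map of finite B-modules with M flat over A. If u is injective after tensoring
with the residue field of A (that is, modulo the maximal ideal of A), then u is injective and its
cokernel is flat over A. -/
theorem result {A B : Type u} [CommRing A] [IsDomain A] [ValuationRing A] [CommRing B] [IsLocalRing B]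
    [Algebra A B] [IsLocalHom (algebraMap A B)] [Algebra.EssFiniteType A B]
    {N M : Type u} [AddCommGroup N] [Module B N] [Module A N] [IsScalarTower A B N] [Module.Finite B N]
    [AddCommGroup M] [Module B M] [Module A M] [IsScalarTower A B M] [Module.Finite B M] [Module.Flat A M]
    (u : N →ₗ[B] M)
    (hu : Function.Injective (Submodule.mapQ (IsLocalRing.maximalIdeal A • ⊤ : Submodule A N) (IsLocalRing.maximalIdeal A • ⊤ : Submodule A M) (u.restrictScalars A)
      (fun n hn => Submodule.smul_top_le_comap_smul_top _ _ hn))) :
    Function.Injective u ∧ Module.Flat A (M ⧸ LinearMap.range u) := by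
  have h : ∀ x : N, u x ∈ IsLocalRing.maximalIdeal A • (⊤ : Submodule A M) →
      x ∈ IsLocalRing.maximalIdeal A • (⊤ : Submodule A N) := fun x hx => by
    refine (Submodule.Quotient.mk_eq_zero _).1 (hu ?_)
    rw [map_zero, Submodule.mapQ_apply]
    exact (Submodule.Quotient.mk_eq_zero _).2 hx
  refine ⟨FlatInjLib.injective_of_injective_mod u h, ?_⟩
  exact FlatInjLib.flat_quotient_range (u.restrictScalars A) fun Q _ _ => FlatInjLib.lTensor_injective_of_injective_mod u h Q

end Groth.Agent.S1351
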