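import Groth.Statements.S1352
import Mathlib

set_option autoImplicit false
set_option backward.isDefEq.respectTransparency false
set_option backward.isDefEq.respectTransparency.types false
set_option maxHeartbeats 1000000
universe u
open FlatMor

namespace Groth.Agent.S1352

open MvPolynomial
/-- A polynomial system over a domain without solution over the algebraic closure has none away from some `f ≠ 0`. -/
theorem exists_ne_zero_of_no_zero {A : Type u} [CommRing A] [IsDomain A] {σ : Type} [Finite σ]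
    (G : Set (MvPolynomial σ A))
    (h : ∀ z : σ → AlgebraicClosure (FractionRing A),
      ∃ g ∈ G, eval₂ (algebraMap A (AlgebraicClosure (FractionRing A))) z g ≠ 0) :
    ∃ f : A, f ≠ 0 ∧ ∀ (κ : Type u) [Field κ] (ψ : A →+* κ) (z : σ → κ),
      (∀ g ∈ G, eval₂ ψ z g = 0) → ψ f = 0 := by
  by_cases hf : ∃ f : A, f ≠ 0 ∧ C f ∈ Ideal.span G
  · obtain ⟨f, hf0, hf⟩ := hf
    refine ⟨f, hf0, fun κ _ ψ z hz => ?_⟩
    have hle : Ideal.span G ≤ RingHom.ker (eval₂Hom ψ z) := Ideal.span_le.mpr fun g hg => hz g hg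
    simpa using RingHom.mem_ker.mp (hle hf)
  exfalso
  push Not at hf
  obtain ⟨p, hp, hle, hdisj⟩ := Ideal.exists_le_prime_disjoint (Ideal.span G)
    ((nonZeroDivisors A).map (C : A →+* MvPolynomial σ A)) (by
      rw [Set.disjoint_left]
      rintro _ hg ⟨f, hf0, rfl⟩
      exact hf f (nonZeroDivisors.ne_zero hf0) hg)
  let L := FractionRing (MvPolynomial σ A ⧸ p)
  let j : MvPolynomial σ A →+* L := (algebraMap _ L).comp (Ideal.Quotient.mk p)
  have hj : Function.Injective (j.comp C) := by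
    rw [injective_iff_map_eq_zero]
    intro f hf'
    by_contra hne
    have : Ideal.Quotient.mk p (C f) = 0 :=
      IsFractionRing.injective (MvPolynomial σ A ⧸ p) L (hf'.trans (map_zero _).symm)
    exact Set.disjoint_left.mp hdisj (Ideal.Quotient.eq_zero_iff_mem.mp this)
      ⟨f, mem_nonZeroDivisors_of_ne_zero hne, rfl⟩
  have hjA : algebraMap A L = j.comp C := by
    simp only [j, L, RingHom.comp_assoc]
    rw [IsScalarTower.algebraMap_eq A (MvPolynomial σ A ⧸ p) (FractionRing (MvPolynomial σ A ⧸ p))]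
    rfl
  haveI : FaithfulSMul A L := (faithfulSMul_iff_algebraMap_injective A L).mpr (hjA ▸ hj)
  letI : Algebra (FractionRing A) L := FractionRing.liftAlgebra A L
  let a : σ → L := fun s => j (X s)
  let T := Algebra.adjoin (FractionRing A) (Set.range a)
  haveI : Algebra.FiniteType (FractionRing A) T :=
    (Subalgebra.fg_iff_finiteType _).mp (Subalgebra.fg_def.mpr ⟨_, Set.finite_range a, rfl⟩)
  obtain ⟨m, hm⟩ := Ideal.exists_maximal T
  letI : Field (T ⧸ m) := Ideal.Quotient.field m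
  haveI : Algebra.FiniteType (FractionRing A) (T ⧸ m) := inferInstance
  haveI : Module.Finite (FractionRing A) (T ⧸ m) := finite_of_finite_type_of_isJacobsonRing _ _
  let ι : (T ⧸ m) →ₐ[FractionRing A] AlgebraicClosure (FractionRing A) := IsAlgClosed.lift
  let π : T →ₐ[A] AlgebraicClosure (FractionRing A) :=
    (ι.comp (Ideal.Quotient.mkₐ (FractionRing A) m)).restrictScalars A
  let a' : σ → T := fun s => ⟨a s, Algebra.subset_adjoin ⟨s, rfl⟩⟩
  obtain ⟨g, hg, hg0⟩ := h fun s => π (a' s)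
  apply hg0
  have h1 : aeval a g = j g := by
    have : (aeval a : MvPolynomial σ A →ₐ[A] L).toRingHom = j := by
      refine ringHom_ext (fun r => ?_) fun s => ?_
      · simp [hjA]
      · simp [a]
    exact RingHom.congr_fun this g
  have h2 : aeval a' g = 0 := by
    apply Subtype.val_injective
    show (T.val.restrictScalars A) (aeval a' g) = _
    rw [comp_aeval_apply]
    show aeval a g = 0
    rw [h1]
    show algebraMap _ L (Ideal.Quotient.mk p g) = 0
    rw [Ideal.Quotient.eq_zero_iff_mem.mpr (hle (Ideal.subset_span hg)), map_zero]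
  show aeval (fun s => π (a' s)) g = 0
  rw [← comp_aeval_apply, h2, map_zero]

theorem not_isUnit_of_coeff_ne_zero {K : Type*} [Field K] {n : ℕ} {Q : MvPolynomial (Fin n) K}
    {m : Fin n →₀ ℕ} (hm : m ≠ 0) (h : Q.coeff m ≠ 0) : ¬ IsUnit Q := fun hu => by
  obtain ⟨c, -, hc⟩ := isUnit_iff_eq_C_of_isReduced.mp hu
  rw [hc, coeff_C, if_neg (Ne.symm hm)] at h
  exact h rfl

theorem exists_coeff_ne_zero_of_not_isUnit {K : Type*} [Field K] {n : ℕ} {Q : MvPolynomial (Fin n) K}
    (h0 : Q ≠ 0) (h : ¬ IsUnit Q) : ∃ m, m ≠ 0 ∧ Q.coeff m ≠ 0 := by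
  by_contra hc
  push Not at hc
  have hQ : Q = C (Q.coeff 0) := by
    ext m
    rw [coeff_C]
    split_ifs with he
    · rw [he]
    · exact hc m (Ne.symm he)
  refine h (hQ ▸ (IsUnit.map C ?_))
  exact isUnit_iff_ne_zero.mpr fun e => h0 (by rw [hQ, e, map_zero])

/-- For a domain A and a polynomial P in finitely many variables over A which is irreducible over an
algebraic closure of the fraction field of A: Then there is a nonzero f in A such that for every
ring map from A[1/f] to a field (in the same universe) the image of P is irreducible. (The source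
leaves the nonvanishing of f implicit; for f = 0 the conclusion would be vacuous.) -/
theorem result {A : Type u} [CommRing A] [IsDomain A] {n : ℕ} (P : MvPolynomial (Fin n) A)
    (hP : Irreducible (MvPolynomial.map (algebraMap A (AlgebraicClosure (FractionRing A))) P)) :
    ∃ f : A, f ≠ 0 ∧ ∀ (κ : Type u) [Field κ] (φ : Localization.Away f →+* κ),
      Irreducible (MvPolynomial.map (φ.comp (algebraMap A (Localization.Away f))) P) := by
  classical
  let K' := AlgebraicClosure (FractionRing A)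
  obtain ⟨m₀, hm₀, ha₀⟩ := exists_coeff_ne_zero_of_not_isUnit hP.ne_zero hP.not_isUnit
  rw [coeff_map] at ha₀
  have ha₀' : P.coeff m₀ ≠ 0 := fun e => ha₀ (by rw [e, map_zero])
  let S := (Finsupp.finite_of_degree_le (σ := Fin n) P.totalDegree).toFinset
  let σ := (↥S ⊕ ↥S) ⊕ Bool
  let Qg : MvPolynomial (Fin n) (MvPolynomial σ A) := ∑ s : S, monomial s.1 (X (Sum.inl (Sum.inl s)))
  let Rg : MvPolynomial (Fin n) (MvPolynomial σ A) := ∑ s : S, monomial s.1 (X (Sum.inl (Sum.inr s)))
  let G : ↥S × ↥S → Set (MvPolynomial σ A) := fun p =>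
    Set.range (fun s => (Qg * Rg - map (C : A →+* MvPolynomial σ A) P).coeff s) ∪
      ({X (Sum.inl (Sum.inl p.1)) * X (Sum.inr false) - 1,
        X (Sum.inl (Sum.inr p.2)) * X (Sum.inr true) - 1} : Set (MvPolynomial σ A))
  have hsum : ∀ {κ : Type u} [Field κ] (ψ : A →+* κ) (z : σ → κ),
      map (eval₂Hom ψ z) Qg = ∑ s : S, monomial s.1 (z (Sum.inl (Sum.inl s))) ∧
      map (eval₂Hom ψ z) Rg = ∑ s : S, monomial s.1 (z (Sum.inl (Sum.inr s))) ∧
      map (eval₂Hom ψ z) (map C P) = map ψ P := by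
    intro κ _ ψ z
    refine ⟨by simp [Qg, map_monomial], by simp [Rg, map_monomial], ?_⟩
    rw [MvPolynomial.map_map]
    congr 2
    ext r
    simp
  have hcoeff : ∀ {κ : Type u} [Field κ] (v : ↥S → κ) (s : S),
      (∑ t : S, monomial t.1 (v t)).coeff s.1 = v s := by
    intro κ _ v s
    rw [coeff_sum, Finset.sum_eq_single s]
    · simp [coeff_monomial]
    · intro t _ ht
      rw [coeff_monomial, if_neg (fun e => ht (Subtype.ext e))]
    · simp
  have key : ∀ p : ↥S × ↥S, ∃ f : A, f ≠ 0 ∧ (p.1.1 ≠ 0 → p.2.1 ≠ 0 → ∀ (κ : Type u) [Field κ] (ψ : A →+* κ)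
      (z : σ → κ), (∀ g ∈ G p, eval₂ ψ z g = 0) → ψ f = 0) := by
    intro p
    by_cases hp : p.1.1 ≠ 0 ∧ p.2.1 ≠ 0
    · obtain ⟨f, hf0, hf⟩ := exists_ne_zero_of_no_zero (G p) fun z => by
        by_contra hz
        push Not at hz
        obtain ⟨h1, h2, h3⟩ := hsum (algebraMap A K') z
        have he : map (eval₂Hom (algebraMap A K') z) (Qg * Rg - map C P) = 0 := by
          ext s
          rw [coeff_map, coeff_zero]
          exact hz _ (Or.inl ⟨s, rfl⟩)
        rw [map_sub, map_mul, h1, h2, h3, sub_eq_zero] at he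
        have hq : z (Sum.inl (Sum.inl p.1)) ≠ 0 := by
          intro e
          have := hz _ (Or.inr (Set.mem_insert _ _))
          simp [e] at this
        have hr : z (Sum.inl (Sum.inr p.2)) ≠ 0 := by
          intro e
          have := hz _ (Or.inr (Set.mem_insert_of_mem _ rfl))
          simp [e] at this
        rcases hP.isUnit_or_isUnit he.symm with h | h
        · exact not_isUnit_of_coeff_ne_zero hp.1 (by rwa [hcoeff (fun t => z (Sum.inl (Sum.inl t)))]) h
        · exact not_isUnit_of_coeff_ne_zero hp.2 (by rwa [hcoeff (fun t => z (Sum.inl (Sum.inr t)))]) h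
      exact ⟨f, hf0, fun _ _ => hf⟩
    · exact ⟨1, one_ne_zero, fun h1 h2 => absurd ⟨h1, h2⟩ hp⟩
  choose F hF0 hF using key
  refine ⟨P.coeff m₀ * ∏ p, F p, mul_ne_zero ha₀' (Finset.prod_ne_zero_iff.mpr fun p _ => hF0 p), ?_⟩
  intro κ _ φ
  let ψ := φ.comp (algebraMap A (Localization.Away (P.coeff m₀ * ∏ p, F p)))
  have hu : ψ (P.coeff m₀ * ∏ p, F p) ≠ 0 := fun e =>
    ((IsLocalization.Away.algebraMap_isUnit (S := Localization.Away (P.coeff m₀ * ∏ p, F p)) _).map φ).ne_zero e
  rw [map_mul, map_prod, mul_ne_zero_iff] at hu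
  have hP' : (map ψ P).coeff m₀ ≠ 0 := by rw [coeff_map]; exact hu.1
  refine ⟨not_isUnit_of_coeff_ne_zero hm₀ hP', fun Q R hQR => ?_⟩
  by_contra hQR'
  push Not at hQR'
  have hne : map ψ P ≠ 0 := fun e => hP' (by rw [e, coeff_zero])
  have hQ0 : Q ≠ 0 := fun e => hne (by rw [hQR, e, zero_mul])
  have hR0 : R ≠ 0 := fun e => hne (by rw [hQR, e, mul_zero])
  have hdeg : Q.totalDegree + R.totalDegree ≤ P.totalDegree := by
    rw [← totalDegree_mul_of_isDomain hQ0 hR0, ← hQR]
    exact Finset.sup_mono (support_map_subset _ _)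
  have hmem : ∀ (T : MvPolynomial (Fin n) κ), T.totalDegree ≤ P.totalDegree → ∀ s ∈ T.support, s ∈ S :=
    fun T hT s hs => Set.Finite.mem_toFinset _ |>.mpr ((le_totalDegree hs).trans hT)
  obtain ⟨m, hm, hmQ⟩ := exists_coeff_ne_zero_of_not_isUnit hQ0 hQR'.1
  obtain ⟨m', hm', hmR⟩ := exists_coeff_ne_zero_of_not_isUnit hR0 hQR'.2
  have mS := hmem Q (by omega) m (mem_support_iff.mpr hmQ)
  have mS' := hmem R (by omega) m' (mem_support_iff.mpr hmR)
  refine (Finset.prod_ne_zero_iff.mp hu.2 (⟨m, mS⟩, ⟨m', mS'⟩) (Finset.mem_univ _)) ?_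
  let z : σ → κ := Sum.elim (Sum.elim (fun s => Q.coeff s.1) fun s => R.coeff s.1)
    (fun b => if b then (R.coeff m')⁻¹ else (Q.coeff m)⁻¹)
  refine hF (⟨m, mS⟩, ⟨m', mS'⟩) hm hm' κ ψ z ?_
  obtain ⟨h1, h2, h3⟩ := hsum ψ z
  have hrep : ∀ (T : MvPolynomial (Fin n) κ), T.totalDegree ≤ P.totalDegree →
      (∑ t : S, monomial t.1 (T.coeff t.1)) = T := fun T hT => by
    rw [Finset.univ_eq_attach, Finset.sum_attach S (fun t => monomial t (T.coeff t)),
      ← Finset.sum_subset (hmem T hT) (fun t _ ht => by rw [notMem_support_iff.mp ht, map_zero])]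
    exact T.as_sum.symm
  rintro g (⟨s, rfl⟩ | rfl | rfl)
  · show eval₂Hom ψ z _ = 0
    rw [← coeff_map, map_sub, map_mul, h1, h2, h3]
    show coeff s ((∑ t : S, monomial t.1 (Q.coeff t.1)) * (∑ t : S, monomial t.1 (R.coeff t.1)) - map ψ P) = 0
    rw [hrep Q (by omega), hrep R (by omega), hQR, sub_self, coeff_zero]
  · simp [z, hmQ]
  · simp [z, hmR]

end Groth.Agent.S1352
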