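import Groth.Statements.S13532
import Groth.Agent.DimIneqLib.Scheme
import Groth.Agent.SweepSix.MaxPts
-- import your own Groth.Agent.* helpers here

set_option autoImplicit false
set_option backward.isDefEq.respectTransparency false
set_option linter.all false
universe u
open CategoryTheory CategoryTheory.Limits AlgebraicGeometry
open ResProp

namespace Groth.Agent.S13532

/-- A morphism of finite type between locally Noetherian schemes which is birational (an isomorphism
over a dense open of the target whose preimage is dense in the source) has finite fibres over all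
points of the target of codimension at most 1, i.e. whose local ring has Krull dimension at most 1. -/
theorem result {X Y : Scheme.{u}}
    [IsLocallyNoetherian X] [IsLocallyNoetherian Y] (f : Y ⟶ X) [LocallyOfFiniteType f] [QuasiCompact f]
    (U : X.Opens) (hU : Dense (U : Set X)) (hU' : Dense ((f ⁻¹ᵁ U : Y.Opens) : Set Y)) (hiso : IsIso (f ∣_ U))
    (x : X) (hx : ringKrullDim (X.presheaf.stalk x) ≤ 1) :
    (f.base ⁻¹' {x}).Finite := by
  classical
  by_cases hxU : x ∈ U
  · refine Set.Subsingleton.finite fun a ha b hb => ?_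
    have ha' : a ∈ f ⁻¹ᵁ U := show f a ∈ U by rw [show f a = x from ha]; exact hxU
    have hb' : b ∈ f ⁻¹ᵁ U := show f b ∈ U by rw [show f b = x from hb]; exact hxU
    have := (f ∣_ U).isOpenEmbedding.injective (a₁ := (⟨a, ha'⟩ : ↥(f ⁻¹ᵁ U))) (a₂ := ⟨b, hb'⟩) (Subtype.ext (by
      simp only [morphismRestrict_base]; exact (show f a = f b from ha.trans hb.symm)))
    exact congrArg Subtype.val this
  have hmax : ∀ ξ : Y, (∀ z, z ⤳ ξ → z = ξ) → ξ ∈ f ⁻¹ᵁ U := fun ξ hξ =>
    SweepSix.scheme_mem_of_dense_of_maximal (f ⁻¹ᵁ U).2 hU' hξ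
  have htr : ∀ ξ : Y, ξ ∈ f ⁻¹ᵁ U → DimIneqLib.trH (f.residueFieldMap ξ).hom = 0 := by
    intro ξ hξ
    haveI : IsIso ((f ∣_ U).stalkMap ⟨ξ, hξ⟩) := inferInstance
    haveI : IsIso (f.stalkMap ξ) :=
      ((MorphismProperty.isomorphisms CommRingCat).arrow_mk_iso_iff (morphismRestrictStalkMap f U ⟨ξ, hξ⟩)).1 this
    have hs : Function.Surjective (f.residueFieldMap ξ).hom := fun z => by
      obtain ⟨w, rfl⟩ := IsLocalRing.residue_surjective z
      obtain ⟨v, rfl⟩ := ((ConcreteCategory.isIso_iff_bijective (f.stalkMap ξ)).1 inferInstance).2 w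
      exact ⟨IsLocalRing.residue _ v, rfl⟩
    letI := (f.residueFieldMap ξ).hom.toAlgebra
    haveI : Algebra.IsAlgebraic (X.residueField (f ξ)) (Y.residueField ξ) :=
      ⟨fun z => by obtain ⟨w, rfl⟩ := hs z; exact isAlgebraic_algebraMap w⟩
    exact DimIneqLib.trH_eq_natCast (n := 0) (by
      show Algebra.trdeg _ _ = _
      rw [trdeg_eq_zero, Nat.cast_zero])
  have hle : ∀ y : Y, f y = x → ringKrullDim (Y.presheaf.stalk y) ≤ 1 := by
    intro y hy
    obtain ⟨ξ, hξ, -, h⟩ := DimIneqLib.stalk_le f y
    rw [htr ξ (hmax ξ hξ)] at h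
    have hx' : ringKrullDim (X.presheaf.stalk (f y)) ≤ 1 := by rw [show f y = x from hy]; exact hx
    refine le_trans ?_ (h.trans (by simpa using hx'))
    exact le_add_of_nonneg_right (by exact_mod_cast (zero_le : (0 : ℕ∞) ≤ _))
  have hT1 : ∀ a b : Y, f a = x → f b = x → a ⤳ b → a = b := by
    intro a b ha hb hab
    by_contra hne
    have hna : ¬ ∀ z, z ⤳ a → z = a := fun h => hxU (ha ▸ hmax a h)
    push Not at hna
    obtain ⟨z, hza, hzne⟩ := hna
    have h1 : b < a := lt_of_le_not_ge (Scheme.le_iff_specializes.2 hab) (fun h => hne (hab.antisymm (Scheme.le_iff_specializes.1 h)).eq)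
    have h2 : a < z := lt_of_le_not_ge (Scheme.le_iff_specializes.2 hza) (fun h => hzne (hza.antisymm (Scheme.le_iff_specializes.1 h)).eq)
    have h3 : (2 : ℕ∞) ≤ Order.coheight b :=
      le_trans (le_trans (by norm_num) (add_le_add (le_trans (le_add_self) (Order.coheight_add_one_le h2)) le_rfl))
        (Order.coheight_add_one_le h1)
    have h4 := hle b hb
    rw [ringKrullDim_stalk_eq_coheight] at h4
    exact absurd (h3.trans (WithBot.coe_le_coe.1 h4)) (by norm_num)
  haveI : LocallyOfFiniteType (f.fiberToSpecResidueField x) := MorphismProperty.pullback_snd _ _ ‹_›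
  haveI : IsLocallyNoetherian (f.fiber x) :=
    LocallyOfFiniteType.isLocallyNoetherian (f.fiberToSpecResidueField x)
  haveI : IsNoetherian (f.fiber x) := {}
  have hinj := (f.fiberι x).isEmbedding.injective
  have hfx : ∀ a : ↥(f.fiber x), f (f.fiberι x a) = x := fun a =>
    Set.mem_singleton_iff.1 (Set.mem_preimage.1 (f.range_fiberι x ▸ Set.mem_range_self a))
  have hfin : Finite ↥(f.fiber x) := by
    have : (Set.univ : Set ↥(f.fiber x)) ⊆ genericPoints ↥(f.fiber x) := fun a _ => by
      refine DimIneqLib.closure_mem_components fun z hz => hinj ?_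
      exact hT1 _ _ (hfx z) (hfx a) (hz.map (f.fiberι x).continuous)
    exact Set.finite_univ_iff.1 ((genericPoints.finite TopologicalSpace.NoetherianSpace.finite_irreducibleComponents).subset this)
  rw [← f.range_fiberι x]
  exact Set.finite_range _


end Groth.Agent.S13532
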