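import Groth.Statements.S13540
import Mathlib
import Groth.Agent.CohAmpLib.Dom
import Groth.Agent.CohAmpLib.Vanish
import Groth.Agent.S13532
-- import your own Groth.Agent.* helpers here

set_option autoImplicit false
universe u
open CategoryTheory CategoryTheory.Limits AlgebraicGeometry
open ResProp

namespace Groth.Agent.S13540

/-- Let f : Y ⟶ X be a proper birational morphism (an isomorphism over a dense open with dense preimage)
of d-dimensional schemes proper over a Noetherian ring A, with Y carrying an ample invertible module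
L. If a coherent module F on X pulls back to a module isomorphic to L over the preimage of an open V
of X containing all points of codimension at most 1, then F is cohomologically (d-1)-ample: for
every coherent G on X the groups H^i(X, G ⊗ F^n) (tensor powers) vanish for all i ≥ d and all large
n. Here d ≥ 1: for d = 0 the vanishing would include degree 0 and fails when X = Y is the spectrum
of a field and F = L is the structure sheaf; (d-1)-ampleness presupposes d ≥ 1. -/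
theorem result (A : Type u) [CommRing A] [IsNoetherianRing A]
    {X Y : Scheme.{u}} (pX : X ⟶ Spec (CommRingCat.of A)) (pY : Y ⟶ Spec (CommRingCat.of A))
    [IsProper pX] [IsProper pY] (f : Y ⟶ X) (hf : f ≫ pX = pY) [IsProper f]
    (U : X.Opens) (hU : Dense (U : Set X)) (hU' : Dense ((f ⁻¹ᵁ U : Y.Opens) : Set Y)) (hiso : IsIso (f ∣_ U))
    (d : ℕ) (hd : 1 ≤ d) (hX : topologicalKrullDim X = d) (hY : topologicalKrullDim Y = d)
    (L : Y.Modules) (hL : CohB1.IsAmple L)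
    (V : X.Opens) (hV : ∀ y : X, ringKrullDim (X.presheaf.stalk y) ≤ 1 → y ∈ V)
    (F : X.Modules) (hF : Coh.IsCoh F)
    (hFL : Nonempty (((Scheme.Modules.pullback f).obj F).restrict (f ⁻¹ᵁ V).ι ≅ L.restrict (f ⁻¹ᵁ V).ι)) :
    ∀ G : X.Modules, Coh.IsCoh G → ∃ n₀ : ℕ, ∀ n : ℕ, n₀ ≤ n → ∀ i : ℕ, d ≤ i →
      Subsingleton (Coh.HH X (CohB1.tensorMod G (CohB1.tensorPow F n)) i) := by
  haveI : IsLocallyNoetherian X := LocallyOfFiniteType.isLocallyNoetherian pX
  haveI : IsLocallyNoetherian Y := LocallyOfFiniteType.isLocallyNoetherian pY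
  haveI : CompactSpace X := QuasiCompact.compactSpace_of_compactSpace pX
  haveI : CompactSpace Y := QuasiCompact.compactSpace_of_compactSpace pY
  haveI : IsNoetherian X := {}
  haveI : IsNoetherian Y := {}
  intro G hG
  -- the open over which `f` is finite
  let V₀ : X.Opens := ⟨_, (f.isClosedMap _ f.quasiFiniteLocus.isOpen.isClosed_compl).isOpen_compl⟩
  have hV₀ : ∀ x : X, ringKrullDim (X.presheaf.stalk x) ≤ 1 → x ∈ V₀ := by
    intro x hx
    have hfin := Groth.Agent.S13532.result f U hU hU' hiso x hx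
    suffices ∀ y, f y = x → f.QuasiFiniteAt y by simpa [V₀, not_imp_not]
    rintro y rfl
    have : Finite (f.fiber (f y)) := (f.fiberHomeo (f y)).finite_iff.mpr hfin
    exact Scheme.Hom.quasiFiniteAt_iff_isOpen_singleton_asFiber.mpr (isOpen_discrete _)
  haveI hfin₀ : IsFinite (f ∣_ V₀) := by
    suffices LocallyQuasiFinite (f ∣_ V₀) from .of_isProper_of_locallyQuasiFinite _
    rw [← Scheme.Hom.quasiFiniteLocus_eq_top_iff]
    ext y
    have : f.QuasiFiniteAt ((f ⁻¹ᵁ V₀).ι y) := by by_contra H; exact y.2 ⟨_, H, by simp⟩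
    rw [← Scheme.Hom.quasiFiniteAt_comp_iff_of_isOpenImmersion, ← morphismRestrict_ι,
      Scheme.Hom.quasiFiniteAt_comp_iff] at this
    simpa
  let V₁ := V ⊓ V₀
  have haff : ∀ W : X.Opens, IsAffineOpen W → W ≤ V₁ → IsAffineOpen (f ⁻¹ᵁ W) := by
    intro W hW hWV'
    have hWV : W ≤ V₀ := hWV'.trans inf_le_right
    have h1 : IsAffineOpen (V₀.ι ⁻¹ᵁ W) := by
      rw [← Scheme.Hom.isAffineOpen_iff_of_isOpenImmersion V₀.ι, V₀.ι.image_preimage_eq_opensRange_inf]
      rwa [Scheme.Opens.opensRange_ι, inf_eq_right.mpr hWV]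
    have h2 := h1.preimage (f ∣_ V₀)
    rw [← Scheme.Hom.isAffineOpen_iff_of_isOpenImmersion (f ⁻¹ᵁ V₀).ι] at h2
    have e : (f ⁻¹ᵁ V₀).ι ''ᵁ ((f ∣_ V₀) ⁻¹ᵁ (V₀.ι ⁻¹ᵁ W)) = f ⁻¹ᵁ W := by
      rw [image_morphismRestrict_preimage, V₀.ι.image_preimage_eq_opensRange_inf, Scheme.Opens.opensRange_ι,
        inf_eq_right.mpr hWV]
    rwa [e] at h2
  -- dimension bounds
  have hT₂ : topologicalKrullDim ((V₁ : Set X)ᶜ : Set X) + 2 ≤ (d : WithBot ℕ∞) := by
    rw [← hX]
    exact CohAmpLib.dim_add_two_le _ V₁.isOpen.isClosed_compl fun x hx hxn => hxn ⟨hV x hx, hV₀ x hx⟩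
  have hV₁ : Dense (V₁ : Set X) := by
    intro x
    rw [mem_closure_iff]
    intro O hO hxO
    obtain ⟨z, hz₁⟩ : O.Nonempty := ⟨x, hxO⟩
    obtain ⟨T, hT, hzT⟩ : ∃ T ∈ irreducibleComponents X, z ∈ T :=
      ⟨_, irreducibleComponent_mem_irreducibleComponents z, mem_irreducibleComponent⟩
    obtain ⟨η, hη⟩ := QuasiSober.sober hT.1 (isClosed_of_mem_irreducibleComponents T hT)
    have hη0 : ringKrullDim (X.presheaf.stalk η) ≤ 1 := by
      rw [ringKrullDim_stalk_eq_coheight, Order.coheight_eq_zero.mpr fun y hy => ?_]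
      · exact zero_le_one
      · have hsub : T ⊆ closure {y} := hη.def ▸ (isClosed_closure.closure_subset_iff.mpr
          (Set.singleton_subset_iff.mpr (specializes_iff_mem_closure.mp hy)))
        have := hT.2 isIrreducible_singleton.closure hsub (subset_closure rfl)
        exact hη.specializes this
    exact ⟨η, (hη.specializes hzT).mem_open hO hz₁, hV η hη0, hV₀ η hη0⟩
  let U' := U ⊓ V₁
  have hT₁ : topologicalKrullDim ((U' : Set X)ᶜ : Set X) + 1 ≤ (d : WithBot ℕ∞) := by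
    rw [← hX]
    exact CohAmpLib.dim_compl_add_one_le U' (by
      rw [TopologicalSpace.Opens.coe_inf]
      exact hU.inter_of_isOpen_left hV₁ U.isOpen)
  haveI : IsIso (f ∣_ U') := by
    haveI := hiso
    have h : MorphismProperty.isomorphisms Scheme.{u} ((f ∣_ U) ∣_ (U.ι ⁻¹ᵁ U')) :=
      IsZariskiLocalAtTarget.restrict (MorphismProperty.isomorphisms.infer_property (f ∣_ U)) _
    have h' := ((MorphismProperty.isomorphisms Scheme.{u}).arrow_mk_iso_iff
      (morphismRestrictRestrict f U (U.ι ⁻¹ᵁ U'))).mp h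
    rw [CohExtLib.preimage_image (inf_le_left : U' ≤ U)] at h'
    exact h'
  -- domination by a direct image
  obtain ⟨H, K, p₁, p₂, hH, hK, hp₁, hp₂⟩ := CohAmpLib.exists_dominating f U' V₁ inf_le_right haff G hG
  obtain ⟨n₀, hn₀⟩ := CohAmpLib.exists_vanishing_push A pX pY f L hL H hH
  refine ⟨n₀, fun n hn i hi => ?_⟩
  rcases eq_or_lt_of_le hi with rfl | hlt
  swap
  · exact CurvLib.subsingleton_HH_of_dim_le _ hX.le i hlt
  haveI := hH.1
  haveI := hF.1
  haveI := hG.1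
  have hFn := CohAmpLib.isCoh_tensorPow hF n
  haveI := hFn.1
  have hLn : Coh.IsCoh (CohB1.tensorMod H (CohB1.tensorPow L n)) :=
    SerreVanLib.isCoh_tensor hH (AmpleThLib.tensorPow_isInvertible hL.1 n)
  have hfHc : Coh.IsCoh (KFlatLib.pf f H) := FormalCohLib.isCoh_push_proper f hH
  have hA : Coh.IsCoh (CohB1.tensorMod (KFlatLib.pf f H) (CohB1.tensorPow F n)) := BddFamLib.isCoh_tensorMod hfHc hFn
  have hpb : Coh.IsCoh (KFlatLib.pb f (CohB1.tensorPow F n)) := ConsLib.isCoh_pullback f hFn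
  have hM : Coh.IsCoh (CohB1.tensorMod H (KFlatLib.pb f (CohB1.tensorPow F n))) := BddFamLib.isCoh_tensorMod hH hpb
  have hpM : Coh.IsCoh (KFlatLib.pf f (CohB1.tensorMod H (KFlatLib.pb f (CohB1.tensorPow F n)))) :=
    FormalCohLib.isCoh_push_proper f hM
  haveI : Coh.IsQCoh (KFlatLib.pf f H) := hfHc.1
  haveI : Coh.IsQCoh (KFlatLib.tens (KFlatLib.pf f H) (CohB1.tensorPow F n)) := hA.1
  haveI : Coh.IsQCoh (KFlatLib.tens H (KFlatLib.pb f (CohB1.tensorPow F n))) := hM.1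
  haveI : Coh.IsQCoh (KFlatLib.pf f (KFlatLib.tens H (KFlatLib.pb f (CohB1.tensorPow F n)))) := hpM.1
  -- compare with twists by `L` over `f ⁻¹ V₁`
  let j := (f ⁻¹ᵁ V₁).ι
  obtain ⟨eFL⟩ : Nonempty ((Scheme.Modules.pullback j).obj (CohB1.tensorMod H (KFlatLib.pb f (CohB1.tensorPow F n))) ≅
      (Scheme.Modules.pullback j).obj (CohB1.tensorMod H (CohB1.tensorPow L n))) := by
    obtain ⟨e₀⟩ := hFL
    let k := Y.homOfLE (f.preimage_mono (inf_le_left : V₁ ≤ V))
    have hk : k ≫ (f ⁻¹ᵁ V).ι = j := Y.homOfLE_ι _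
    let e₁ : KFlatLib.pb j (KFlatLib.pb f F) ≅ KFlatLib.pb j L :=
      ((Scheme.Modules.pullbackCongr hk).app _).symm ≪≫ ((Scheme.Modules.pullbackComp k (f ⁻¹ᵁ V).ι).app _).symm ≪≫
      (Scheme.Modules.pullback k).mapIso (((Scheme.Modules.restrictFunctorIsoPullback (f ⁻¹ᵁ V).ι).app _).symm ≪≫
        e₀ ≪≫ (Scheme.Modules.restrictFunctorIsoPullback (f ⁻¹ᵁ V).ι).app _) ≪≫
      (Scheme.Modules.pullbackComp k (f ⁻¹ᵁ V).ι).app _ ≪≫ (Scheme.Modules.pullbackCongr hk).app _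
    obtain ⟨a⟩ := CohAmpLib.nonempty_pullback_tensorPow f F n
    obtain ⟨b⟩ := CohAmpLib.nonempty_pullback_tensorPow j (KFlatLib.pb f F) n
    obtain ⟨c⟩ := CohAmpLib.nonempty_tensorPow_congr e₁ n
    obtain ⟨e⟩ := CohAmpLib.nonempty_pullback_tensorPow j L n
    let e₂ := (Scheme.Modules.pullback j).mapIso a ≪≫ b ≪≫ c ≪≫ e.symm
    exact ⟨@asIso _ _ _ _ (KFlatLib.pullθ j H (KFlatLib.pb f (CohB1.tensorPow F n))) (KFlatLib.isIso_pullθ _ _ _) ≪≫
      ((DCoh.tensorBi (X := (f ⁻¹ᵁ V₁ : Scheme.{u}))).obj (KFlatLib.pb j H)).mapIso e₂ ≪≫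
      (@asIso _ _ _ _ (KFlatLib.pullθ j H (CohB1.tensorPow L n)) (KFlatLib.isIso_pullθ _ _ _)).symm⟩
  haveI := hM.1
  haveI := hLn.1
  obtain ⟨M₃, q₁, q₂, hM₃, hq₁, hq₂⟩ := CohExtLib.exists_graph
    (F := CohB1.tensorMod H (CohB1.tensorPow L n)) hM (f ⁻¹ᵁ V₁)
    (((Scheme.Modules.restrictFunctorIsoPullback j).app _ ≪≫ eFL ≪≫
      ((Scheme.Modules.restrictFunctorIsoPullback j).app _).symm).hom)
  haveI := hq₁
  haveI : IsIso ((Scheme.Modules.restrictFunctor (f ⁻¹ᵁ V₁).ι).map q₂) := by rw [hq₂]; infer_instance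
  haveI := CohAmpLib.isIso_restrict_push f q₁ V₁
  haveI := CohAmpLib.isIso_restrict_push f q₂ V₁
  haveI := CohAmpLib.isIso_restrict_projR f H (CohB1.tensorPow F n) V₁ haff
  have hpM₃ : Coh.IsCoh (KFlatLib.pf f M₃) := FormalCohLib.isCoh_push_proper f hM₃
  have hpL : Coh.IsCoh (KFlatLib.pf f (CohB1.tensorMod H (CohB1.tensorPow L n))) :=
    FormalCohLib.isCoh_push_proper f hLn
  obtain ⟨t₁⟩ := CohAmpLib.nonempty_HH_equiv hd V₁ hT₂ (ProjClosedImmLib.projR f H (CohB1.tensorPow F n)) hA hpM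
  obtain ⟨t₂⟩ := CohAmpLib.nonempty_HH_equiv hd V₁ hT₂ ((Scheme.Modules.pushforward f).map q₁) hpM₃ hpM
  obtain ⟨t₃⟩ := CohAmpLib.nonempty_HH_equiv hd V₁ hT₂ ((Scheme.Modules.pushforward f).map q₂) hpM₃ hpL
  have h₀ : Subsingleton (Coh.HH X (CohB1.tensorMod (KFlatLib.pf f H) (CohB1.tensorPow F n)) d) :=
    haveI := hn₀ n hn d hd
    ((t₁.trans t₂.symm).trans t₃).injective.subsingleton
  -- back to `G`
  haveI := hp₁
  haveI := hp₂
  haveI := CohAmpLib.isIso_restrict_tensor p₁ (CohB1.tensorPow F n) V₁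
  haveI := CohAmpLib.isIso_restrict_tensor p₂ (CohB1.tensorPow F n) U'
  have hKn : Coh.IsCoh (CohB1.tensorMod K (CohB1.tensorPow F n)) := BddFamLib.isCoh_tensorMod hK hFn
  have hGn : Coh.IsCoh (CohB1.tensorMod G (CohB1.tensorPow F n)) := BddFamLib.isCoh_tensorMod hG hFn
  obtain ⟨t₄⟩ := CohAmpLib.nonempty_HH_equiv hd V₁ hT₂
    (((DCoh.tensorBi (X := X)).map p₁).app (CohB1.tensorPow F n)) hKn hA
  exact @CohAmpLib.subsingleton_HH_of_map _ _ _ U' hT₁ hd _ _
    (((DCoh.tensorBi (X := X)).map p₂).app (CohB1.tensorPow F n)) hKn hGn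
    (CohAmpLib.isIso_restrict_tensor p₂ (CohB1.tensorPow F n) U') (@Function.Injective.subsingleton _ _ _ t₄.injective h₀)

end Groth.Agent.S13540
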