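import Groth.Statements.S13542
import Mathlib
import Groth.Agent.S1063
import Groth.Agent.S2297
import Groth.Agent.FiltSectLib.Push
import Groth.Agent.SerreVanLib.Main
-- import your own Groth.Agent.* helpers here

set_option autoImplicit false
universe u
open CategoryTheory CategoryTheory.Limits AlgebraicGeometry
open ResProp

namespace Groth.Agent.S13542

/-- In the case of schemes over an affine base, let f : X ⟶ Y be finite, flat, of finite presentation
and surjective between quasi-compact quasi-separated schemes. If a family (E_i) of finitely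
presented quasi-coherent modules on X is generating, i.e. every quasi-coherent module on X is a
quotient of a direct sum of copies of the E_i, then the family of direct images (f_*E_i) is
generating on Y. (The published statement is for morphisms of algebraic stacks and families
generating relative to a further morphism; this row is the case of schemes with the absolute notion
of a generating family.) -/
theorem result {X Y : Scheme.{u}}
    [CompactSpace X] [QuasiSeparatedSpace X] [CompactSpace Y] [QuasiSeparatedSpace Y]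
    (f : X ⟶ Y) [IsFinite f] [Flat f] [LocallyOfFinitePresentation f] [Surjective f]
    {ι : Type u} (E : ι → X.Modules) (hE : ∀ i, Coh.IsQCoh (E i) ∧ CohB1.IsFP (E i))
    (hgen : ∀ M : X.Modules, Coh.IsQCoh M →
      ∃ (κ : Type u) (j : κ → ι) (π : (∐ fun k : κ => E (j k)) ⟶ M), Epi π) :
    ∀ N : Y.Modules, Coh.IsQCoh N →
      ∃ (κ : Type u) (j : κ → ι) (π : (∐ fun k : κ => (Scheme.Modules.pushforward f).obj (E (j k))) ⟶ N), Epi π := by
  intro N hN
  haveI := hN
  have hflf : Mor2.IsFinLocFree f := ⟨inferInstance, inferInstance, inferInstance⟩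
  let B := KFlatLib.pf f (Coh.structureModule X)
  have hB := Groth.Agent.S1063.isFinLocFree_pf f hflf (Groth.Agent.S1063.isFinLocFree_structureModule X)
  let D := CohCmpLib.homMod B (Coh.structureModule Y)
  have hD : FlatMod.IsFinLocFree D := CohCmpLib.isFinLocFree_homMod hB (Groth.Agent.S1063.isFinLocFree_structureModule Y)
  haveI : Coh.IsQCoh D := FinLFAnn.isQCoh_of_isFinLocFree hD
  haveI : Coh.IsQCoh B := FinLFAnn.isQCoh_of_isFinLocFree hB
  let T := KFlatLib.tens D N
  haveI : Coh.IsQCoh T := (Groth.Agent.S2297.result D N).1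
  obtain ⟨P, hP, -⟩ := Groth.Agent.S1063.exists_proj f hflf T
  haveI := hP
  haveI : Coh.IsQCoh (KFlatLib.pb f T) := KFlatLib.isQCoh_pullback f T
  obtain ⟨κ, j, π, hπ⟩ := hgen (KFlatLib.pb f T) inferInstance
  haveI := hπ
  haveI : ∀ k, Coh.IsQCoh (E (j k)) := fun k => (hE (j k)).1
  haveI : Coh.IsQCoh (∐ fun k : κ => E (j k)) := QCohLib.isQCoh_sigma _ fun k => inferInstance
  let π₁ := (Scheme.Modules.pushforward f).map π
  haveI : Epi π₁ := QCohLib.epi_of_surjective_on_affines _ fun V s p hp => by
    obtain ⟨V', hV', hp', hle⟩ := exists_isAffineOpen_mem_and_subset (U := V) hp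
    obtain ⟨t, ht⟩ := RichLib.IsFPAffine.appLin_surjective π (hV'.preimage f)
      ((KFlatLib.pf f (KFlatLib.pb f T)).presheaf.map (homOfLE hle).op s)
    exact ⟨V', hle, hp', t, ht⟩
  haveI : PreservesColimitsOfShape (Discrete κ) (Scheme.Modules.pushforward f) :=
    FiltSectLib.preservesCoproducts_pushforward f κ
  obtain ⟨Q, hQ⟩ := Groth.Agent.S1063.exists_contract B N
  let σ : KFlatLib.tens B T ≅ KFlatLib.tens D (KFlatLib.tens B N) :=
    (SerreVanLib.tensorAssoc B D N).symm ≪≫
      ((DCoh.tensorBi (X := Y)).mapIso (KFlatLib.tensSwap D B)).app N ≪≫ SerreVanLib.tensorAssoc D B N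
  let θ : KFlatLib.tens D (KFlatLib.tens B N) ⟶ N :=
    ((DCoh.tensorBi (X := Y)).obj D).map Q ≫ CohCmpLib.evMod D N
  haveI hθ : Epi θ := CohCmpLib.epi_of_stalk_surjective fun y mt => by
    obtain ⟨V, hy, m, rfl⟩ := ProjFormLib.exists_ger N y mt
    obtain ⟨a, ha⟩ := Groth.Agent.S1063.exists_functional f hflf y
    let one : Γ(B, V) := Groth.Agent.S1063.oneS X (f ⁻¹ᵁ V)
    refine ⟨KFlatLib.stalkTensorLin D (KFlatLib.tens B N) y
      (a ⊗ₜ ProjFormLib.ger (KFlatLib.tens B N) y hy (KFlatLib.shTm one m)), ?_⟩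
    change CohCmpLib.evS θ y (ProjFormLib.ger (KFlatLib.tens B N) y hy (KFlatLib.shTm one m)) a = _
    rw [CohCmpLib.evS_map, ProjFormLib.ger_map, CohCmpLib.evS_evMod, hQ]
    have h1 : ProjFormLib.ger B y (U := ⊤) trivial (show Γ(B, ⊤) from Groth.Agent.S1063.oneS X (f ⁻¹ᵁ ⊤)) =
        ProjFormLib.ger B y hy one := by
      rw [← ProjFormLib.ger_res B le_top y hy]
      exact congrArg (ProjFormLib.ger B y hy) (Groth.Agent.S1063.oneS_res (Z := X) (W := f ⁻¹ᵁ V) le_top)
    rw [← h1, ha, one_smul]
  refine ⟨κ, j, (PreservesCoproduct.iso (Scheme.Modules.pushforward f) fun k : κ => E (j k)).inv ≫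
    π₁ ≫ inv P ≫ σ.hom ≫ θ, ?_⟩
  exact epi_comp _ _

end Groth.Agent.S13542
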