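import Groth.Statements.S13544
import Groth.Agent.ResLiftLib.Main
-- import your own Groth.Agent.* helpers here

set_option autoImplicit false
set_option maxHeartbeats 2000000
set_option backward.isDefEq.respectTransparency false
universe u
open CategoryTheory CategoryTheory.Limits AlgebraicGeometry
open ResProp

namespace Groth.Agent.S13544

/-- Let f : X' ⟶ X be a surjective closed immersion of Noetherian schemes which is an isomorphism over a
dense open, W the largest such open and Y its closed complement (the support of the kernel ideal).
Then W is contained in an open V such that V ∩ Y is dense in Y and underlies an affine closed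
subscheme of V, and every finite locally free module on the preimage of V is the pullback of a
finite locally free module on V. (The published statement also asserts that global sections of the
module on the preimage extend to sections of the lift; that clause is not restated.) -/
theorem result {X X' : Scheme.{u}} [IsNoetherian X] [IsNoetherian X']
    (f : X' ⟶ X) [IsClosedImmersion f] [Surjective f]
    (W : X.Opens) (hW : IsIso (f ∣_ W)) (hmax : ∀ W' : X.Opens, IsIso (f ∣_ W') → W' ≤ W) (hd : Dense (W : Set X)) :
    ∃ V : X.Opens, W ≤ V ∧ (W : Set X)ᶜ ⊆ closure ((V : Set X) ∩ (W : Set X)ᶜ) ∧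
      (∃ (T : Scheme.{u}) (g : T ⟶ (V : Scheme.{u})), IsClosedImmersion g ∧ IsAffine T ∧
        Set.range (g ≫ V.ι).base = (V : Set X) ∩ (W : Set X)ᶜ) ∧
      ∀ E' : (f ⁻¹ᵁ V : Scheme.{u}).Modules, FlatMod.IsFinLocFree E' →
        ∃ E : (V : Scheme.{u}).Modules, FlatMod.IsFinLocFree E ∧
          Nonempty ((Scheme.Modules.pullback (f ∣_ V)).obj E ≅ E') := by
  obtain ⟨V, hWV, hcl, T, g, hg, hT, hrange⟩ := ResLiftLib.exists_open_affine_part W
  haveI := hg; haveI := hT; haveI := hW
  exact ⟨V, hWV, hcl, ⟨T, g, hg, hT, hrange⟩, fun E' hE' =>
    ResLiftLib.exists_lift_open f W V hWV g hrange E' hE'⟩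

end Groth.Agent.S13544
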