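import Groth.Statements.S13548
import Groth.Agent.DualFMLib.DiagBC

set_option autoImplicit false
set_option backward.isDefEq.respectTransparency false
set_option backward.isDefEq.respectTransparency.types false
universe u
open CategoryTheory AlgebraicGeometry
attribute [local instance] HasDerivedCategory.standard
open DEquiv

namespace Groth.Agent.S13548

/-- Let X → S and Y → S be smooth proper morphisms, K (a complex of modules on X ×_S Y) a Fourier–Mukai
kernel giving a relative equivalence over S from X to Y, and S₁ → S a morphism of schemes; put X₁ =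
X ×_S S₁ and Y₁ = Y ×_S S₁. The derived functors involved are assumed to exist (instance binders).
Then every complex K₁ of modules on X₁ ×_{S₁} Y₁ whose image in D(O_{X₁ ×_{S₁} Y₁}) is isomorphic to
the derived inverse image of K along the induced morphism X₁ ×_{S₁} Y₁ → X ×_S Y is a Fourier–Mukai
kernel giving a relative equivalence over S₁ from X₁ to Y₁. -/
theorem result {S S₁ X Y : Scheme.{u}} (a : X ⟶ S) (b : Y ⟶ S) (g : S₁ ⟶ S)
    [Smooth a] [IsProper a] [Smooth b] [IsProper b]
    (K : CochainComplex (Limits.pullback a b).Modules ℤ)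
    [DCoh.HasLpull (FMK.p12 a b a)] [DCoh.HasRpush (FMK.p13 a b a)]
    [∀ L : CochainComplex (FMK.T a b a).Modules ℤ, DCoh.HasLTensorCx L]
    [DCoh.HasLpull (FMK.p12 b a b)] [DCoh.HasRpush (FMK.p13 b a b)]
    [∀ L : CochainComplex (FMK.T b a b).Modules ℤ, DCoh.HasLTensorCx L]
    (hK : FMK.IsRelEquivKernel a b K)
    [DCoh.HasLpull (FMK.p12 (Limits.pullback.snd a g) (Limits.pullback.snd b g) (Limits.pullback.snd a g))]
    [DCoh.HasRpush (FMK.p13 (Limits.pullback.snd a g) (Limits.pullback.snd b g) (Limits.pullback.snd a g))]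
    [∀ L : CochainComplex (FMK.T (Limits.pullback.snd a g) (Limits.pullback.snd b g) (Limits.pullback.snd a g)).Modules ℤ, DCoh.HasLTensorCx L]
    [DCoh.HasLpull (FMK.p12 (Limits.pullback.snd b g) (Limits.pullback.snd a g) (Limits.pullback.snd b g))]
    [DCoh.HasRpush (FMK.p13 (Limits.pullback.snd b g) (Limits.pullback.snd a g) (Limits.pullback.snd b g))]
    [∀ L : CochainComplex (FMK.T (Limits.pullback.snd b g) (Limits.pullback.snd a g) (Limits.pullback.snd b g)).Modules ℤ, DCoh.HasLTensorCx L]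
    [DCoh.HasLpull (Limits.pullback.map (Limits.pullback.snd a g) (Limits.pullback.snd b g) a b
      (Limits.pullback.fst a g) (Limits.pullback.fst b g) g (Limits.pullback.condition).symm (Limits.pullback.condition).symm)]
    (K₁ : CochainComplex (Limits.pullback (Limits.pullback.snd a g) (Limits.pullback.snd b g)).Modules ℤ)
    (hK₁ : Nonempty (DCoh.toD _ K₁ ≅ (DCoh.Lpull (Limits.pullback.map (Limits.pullback.snd a g) (Limits.pullback.snd b g) a b
      (Limits.pullback.fst a g) (Limits.pullback.fst b g) g (Limits.pullback.condition).symm (Limits.pullback.condition).symm)).obj (DCoh.toD _ K))) :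
    FMK.IsRelEquivKernel (Limits.pullback.snd a g) (Limits.pullback.snd b g) K₁ := by
  obtain ⟨hKp, K', hK', h₁, h₂⟩ := hK
  haveI := KFlatLib.hasLpull (DualFMLib.bcMap b a g)
  let K₁' : CochainComplex (Limits.pullback (Limits.pullback.snd b g) (Limits.pullback.snd a g)).Modules ℤ :=
    DerivedCategory.Q.objPreimage ((DCoh.Lpull (DualFMLib.bcMap b a g)).obj (DCoh.toD _ K'))
  let e' : DCoh.toD _ K₁' ≅ (DCoh.Lpull (DualFMLib.bcMap b a g)).obj (DCoh.toD _ K') :=
    DerivedCategory.Q.objObjPreimageIso _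
  obtain ⟨e₁⟩ := hK₁
  refine ⟨PerfLib.isPerfect_of_iso e₁.symm (KFlatLib.isPerfect_lpull _ _ hKp), K₁',
    PerfLib.isPerfect_of_iso e'.symm (KFlatLib.isPerfect_lpull _ _ hK'), ?_, ?_⟩
  · exact DualFMLib.nonempty_rel_bc a g b K K' (KoszOrthLib.isQCohD_of_isPerfect hKp)
      (KoszOrthLib.isQCohD_of_isPerfect hK') h₁ K₁ ⟨e₁⟩ K₁' ⟨e'⟩
  · exact DualFMLib.nonempty_rel_bc b g a K' K (KoszOrthLib.isQCohD_of_isPerfect hK')
      (KoszOrthLib.isQCohD_of_isPerfect hKp) h₂ K₁' ⟨e'⟩ K₁ ⟨e₁⟩

end Groth.Agent.S13548
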