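import Groth.Statements.S1355
import Mathlib
import Groth.Agent.GeomIrrLib.Conn
import Groth.Agent.S9734

set_option autoImplicit false
universe u
open FlatMor

namespace Groth.Agent.S1355

open CategoryTheory CategoryTheory.Limits AlgebraicGeometry

theorem connected_pullback_iff {X S T U : Scheme.{u}} (f : X ⟶ S) (g : U ⟶ S) (x : T ⟶ U) :
    ConnectedSpace ↥(pullback (pullback.snd f g) x) ↔ ConnectedSpace ↥(pullback f (x ≫ g)) :=
  (Scheme.homeoOfIso (pullbackLeftPullbackSndIso f g x)).connectedSpace_iff

open AlgebraicGeometry CategoryTheory Limits in
/-- Let f : X → S and s a point of S. The fibre of f over s is geometrically connected if and only if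
for every étale morphism U → S and every point u over s, the fibre over u of the base change of f to
U is connected. -/
theorem result {X S : Scheme.{u}} (f : X ⟶ S) (s : S) :
    GeometricallyConnected (f.fiberToSpecResidueField s) ↔
      ∀ (U : Scheme.{u}) (g : U ⟶ S) (u : U), Etale g → g u = s → ConnectedSpace ↑((pullback.snd f g).fiber u) := by
  constructor
  · intro h U g u _ hgu
    obtain ⟨c, hc⟩ : ∃ c, c ≫ S.fromSpecResidueField s = U.fromSpecResidueField u ≫ g := by
      rw [← hgu]
      exact ⟨Spec.map (g.residueFieldMap u), g.SpecMap_residueFieldMap_fromSpecResidueField u⟩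
    refine (connected_pullback_iff f g (U.fromSpecResidueField u)).2 ?_
    rw [← hc]
    refine (connected_pullback_iff f (S.fromSpecResidueField s) c).1 ?_
    haveI : GeometricallyConnected (pullback.snd f (S.fromSpecResidueField s)) := h
    exact GeometricallyConnected.geometrically_connectedSpace c _ _ (.of_hasPullback _ _)
  · intro h
    refine GeomIrrLib.gc_of_finite_separable _ fun K hK hA hF hS => ?_
    letI : Algebra (S.residueField s) K := hA
    haveI : FiniteDimensional (S.residueField s) K := hF
    haveI : Algebra.IsSeparable (S.residueField s) K := hS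
    obtain ⟨V, g, hg, v, c, ι, hgv, hc, hι⟩ := Groth.Agent.S9734.exists_etale_nbhd_field_iso s K
    have h1 := (connected_pullback_iff f g (V.fromSpecResidueField v)).1 (h V g v hg hgv)
    rw [← hc, ← connected_pullback_iff f (S.fromSpecResidueField s) (Spec.map c)] at h1
    let a := Spec.map (CommRingCat.ofHom (algebraMap (S.residueField s) K))
    let i := Spec.map (CommRingCat.ofHom ι.toRingHom)
    haveI : IsIso i := by
      haveI : IsIso (CommRingCat.ofHom ι.toRingHom) := ι.toCommRingCatIso.isIso_hom
      infer_instance
    have hia : Spec.map c = i ≫ a := by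
      rw [← Spec.map_comp]
      congr 1
      ext1
      exact hι.symm
    rw [hia] at h1
    exact (Scheme.homeoOfIso (asIso (pullback.map (f.fiberToSpecResidueField s) (i ≫ a) (f.fiberToSpecResidueField s) a
      (𝟙 _) i (𝟙 _) (by simp) (by simp)))).connectedSpace_iff.1 h1

end Groth.Agent.S1355
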