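import Groth.Statements.S13555
import Groth.Agent.Dual3Lib.KernelAdj
import Groth.Agent.S1002

set_option autoImplicit false
set_option backward.isDefEq.respectTransparency false
set_option backward.isDefEq.respectTransparency.types false
universe u
open CategoryTheory AlgebraicGeometry
attribute [local instance] HasDerivedCategory.standard
open DEquiv

namespace Groth.Agent.S13555

/-- Let S, X and Y be quasi-compact quasi-separated schemes, X → S proper, flat and of finite
presentation, Y → S a morphism, and K a complex of modules on X ×_S Y defining a perfect object with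
quasi-coherent cohomology sheaves. Let a denote the right adjoint of Rpr_{2,*} : D_QCoh(O_{X ×_S Y})
→ D_QCoh(O_Y) (assumed to exist, instance binder), a(O_Y) its value on the structure sheaf in degree
0, and let K' be a complex of modules on Y ×_S X whose image in the derived category is isomorphic
to the derived pullback, along the symmetry Y ×_S X → X ×_S Y, of RHom(K, a(O_Y)). The derived
functors involved are assumed to exist and the two Fourier–Mukai functors are assumed to preserve
objects with quasi-coherent cohomology sheaves (hypotheses h, h'). Then Φ_{K'} : D_QCoh(O_Y) ⥤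
D_QCoh(O_X) is right adjoint to Φ_K : D_QCoh(O_X) ⥤ D_QCoh(O_Y) (existence of an adjunction; the
published statement names the comparison map Hom(M, Φ_{K'} N) → Hom(Φ_K M, N), which is not
constructed here). -/
theorem result {S X Y : Scheme.{u}} (a : X ⟶ S) (b : Y ⟶ S)
    [CompactSpace S] [QuasiSeparatedSpace S] [CompactSpace X] [QuasiSeparatedSpace X]
    [CompactSpace Y] [QuasiSeparatedSpace Y]
    [IsProper a] [Flat a] [LocallyOfFinitePresentation a]
    (K : CochainComplex (Limits.pullback a b).Modules ℤ) (hK : DCoh.IsPerfect (DCoh.toD _ K))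
    (hKq : DCoh.IsQCohD (DCoh.toD _ K))
    [DCoh.HasLpull (Limits.pullback.fst a b)] [DCoh.HasLTensorCx K] [DCoh.HasRpush (Limits.pullback.snd a b)]
    [DCoh.HasRSheafHom K]
    (hR : DCoh.RpushPreservesQCoh (Limits.pullback.snd a b)) [DCoh.HasShriek (Limits.pullback.snd a b) hR]
    (OY : DCoh.DQCoh Y) (hOY : OY.obj ≅ DCoh.inD Y (Coh.structureModule Y))
    [DCoh.HasLpull (Limits.pullbackSymmetry b a).hom]
    (K' : CochainComplex (Limits.pullback b a).Modules ℤ)
    (hK' : Nonempty (DCoh.toD _ K' ≅ (DCoh.Lpull (Limits.pullbackSymmetry b a).hom).obj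
      ((DCoh.RSheafHom K).obj (DCoh.dualizingCx (Limits.pullback.snd a b) hR OY))))
    [DCoh.HasLpull (Limits.pullback.fst b a)] [DCoh.HasLTensorCx K'] [DCoh.HasRpush (Limits.pullback.snd b a)]
    (h : ∀ M : DCoh.D X, DCoh.IsQCohD M → DCoh.IsQCohD ((FMK.phi a b K).obj M))
    (h' : ∀ N : DCoh.D Y, DCoh.IsQCohD N → DCoh.IsQCohD ((FMK.phi b a K').obj N)) :
    Nonempty (FMK.phiOn a b K DCoh.IsQCohD DCoh.IsQCohD h ⊣ FMK.phiOn b a K' DCoh.IsQCohD DCoh.IsQCohD h') := by
  haveI : CompactSpace (Limits.pullback a b : Scheme.{u}) :=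
    QuasiCompact.compactSpace_of_compactSpace (Limits.pullback.snd a b)
  haveI : QuasiSeparatedSpace (Limits.pullback a b : Scheme.{u}) :=
    quasiSeparatedSpace_of_quasiSeparated (Limits.pullback.snd a b)
  haveI : QuasiCompact b := QuasiCompact.of_comp b (Limits.terminal.from S)
  haveI : QuasiSeparated b := QuasiSeparated.of_comp b (Limits.terminal.from S)
  haveI := DCohRestrLib.hasRpush (Limits.pullback.fst a b)
  haveI := KFlatLib.hasLpull (Limits.pullback.snd a b)
  obtain ⟨R₀, ⟨A⟩, ⟨eR⟩⟩ := Dual3Lib.nonempty_phiOn_adjunction a b K hR h hK hKq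
  obtain ⟨G, _, ⟨eG⟩, ⟨eq⟩⟩ := Dual3Lib.nonempty_rSheafHom_shriek (Limits.pullback.snd a b) hR
    (fun E hE => S1002.result _ E hE) K hK OY ⟨hOY⟩
  obtain ⟨N, _, ⟨eP⟩, hN⟩ := Dual3Lib.nonempty_phi_swap a b K'
  obtain ⟨eN⟩ := hN _ hK'
  obtain ⟨eNG⟩ := ProjFormLib.nonempty_lTensor_congr_iso (M := G) (N := N) (eG ≪≫ eN.symm)
  refine ⟨A.ofNatIsoRight (Functor.fullyFaithfulCancelRight (DCoh.IsQCohD (X := X)).ι ?_)⟩
  exact eR ≪≫ Functor.isoWhiskerRight eq _ ≪≫ Functor.associator _ _ _ ≪≫
    Functor.isoWhiskerLeft _ (Functor.associator _ _ _ ≪≫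
      Functor.isoWhiskerLeft _ (Functor.isoWhiskerRight eNG _) ≪≫ eP.symm) ≪≫
    (ObjectProperty.liftCompιIso _ _ _).symm

end Groth.Agent.S13555
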