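import Groth.Statements.S1453
import Mathlib
import Groth.Agent.GISpreadLib.GeomProp
import Groth.Agent.SweepSix.Constr
import Groth.Agent.S1324
import Groth.Agent.S1326
import Groth.Agent.S1327
-- import your own Groth.Agent.* helpers here

set_option autoImplicit false
set_option backward.isDefEq.respectTransparency false
set_option backward.isDefEq.respectTransparency.types false
universe u
open FlatMor

namespace Groth.Agent.S1453

open AlgebraicGeometry CategoryTheory Limits in
theorem connected_fiber_pullback {X Y Z : Scheme.{u}} (f : X ⟶ Y) (g : Z ⟶ Y) (z : Z)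
    (h : GeometricallyConnected (f.fiberToSpecResidueField (g z))) :
    _root_.IsConnected ((pullback.snd f g) ⁻¹' {z}) := by
  haveI : ConnectedSpace ↥((pullback.snd f g).fiber z) :=
    h.geometrically_connectedSpace _ _ _
      (isPullback_fiberToSpecResidueField_of_isPullback (IsPullback.of_hasPullback f g) z)
  rw [← (pullback.snd f g).range_fiberι z]
  exact isConnected_range ((pullback.snd f g).fiberι z).continuous

open AlgebraicGeometry CategoryTheory Limits in
/-- the K-points of a finite K-scheme: every field-valued point factors through one. -/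
theorem exists_point_factor {K : Type u} [Field K] [IsAlgClosed K] {T : Scheme.{u}}
    (t : T ⟶ Spec (CommRingCat.of K)) [IsFinite t] {L : Type u} [Field L]
    (r : Spec (CommRingCat.of L) ⟶ T) :
    ∃ q : Spec (CommRingCat.of K) ⟶ T, q ≫ t = 𝟙 _ ∧ r ≫ t ≫ q = r := by
  have hd := t.isDiscrete_preimage_singleton (IsLocalRing.closedPoint K)
  have hu : t ⁻¹' {IsLocalRing.closedPoint K} = Set.univ :=
    Set.eq_univ_of_forall fun _ => Subsingleton.elim (α := PrimeSpectrum K) _ _
  rw [hu] at hd
  haveI : DiscreteTopology T := isDiscrete_univ_iff.mp hd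
  let z : T := r (IsLocalRing.closedPoint L)
  have hz : IsClosed ({z} : Set T) := isClosed_discrete _
  refine ⟨pointOfClosedPoint t z hz, pointOfClosedPoint_comp t z hz, ?_⟩
  have key : T.fromSpecResidueField z ≫ t ≫ pointOfClosedPoint t z hz = T.fromSpecResidueField z := by
    rw [← Category.assoc, ← SpecMap_residueFieldIsoBase_inv t z hz, pointOfClosedPoint, ← Category.assoc,
      ← Spec.map_comp, Iso.hom_inv_id, Spec.map_id, Category.id_comp]
  have hr : r = Spec.map (Scheme.descResidueField (Scheme.stalkClosedPointTo r)) ≫ T.fromSpecResidueField z :=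
    ((Scheme.SpecToEquivOfField L T).left_inv r).symm
  rw [hr, Category.assoc, key]

open AlgebraicGeometry CategoryTheory Limits in
/-- Let f : X → Y be flat and of finite presentation with all fibres geometrically reduced, let Z → Y be
finite locally free with a Y-morphism σ : Z → X, and let y be a point with Z_y nonempty and X_y
geometrically connected. Then there is a quasi-compact open X⁰ of X containing the whole fibre X_y
such that every nonempty fibre of X⁰ → Y is geometrically connected. -/
theorem result {X Y Z : Scheme.{u}} (f : X ⟶ Y) [Flat f] [LocallyOfFinitePresentation f] [QuasiCompact f] [QuasiSeparated f]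
    [GeometricallyReduced f] (g : Z ⟶ Y) (hg : Mor2.IsFinLocFree g) (σ : Z ⟶ X) (hσ : σ ≫ f = g) (y : Y) (hZy : y ∈ Set.range ⇑g)
    (hXy : GeometricallyConnected (f.fiberToSpecResidueField y)) :
    ∃ U : X.Opens, IsCompact (U : Set ↑X) ∧ f ⁻¹' {y} ⊆ (U : Set ↑X) ∧
      ∀ y' : Y, (∃ x ∈ U, f x = y') → GeometricallyConnected ((U.ι ≫ f).fiberToSpecResidueField y') := by
  obtain ⟨hfin, hflat, hlfp⟩ := hg
  haveI := hfin
  haveI := hflat
  haveI := hlfp
  let pr := pullback.fst f g
  let fZ := pullback.snd f g
  let τ : Z ⟶ pullback f g := pullback.lift σ (𝟙 Z) (by rw [hσ, Category.id_comp])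
  have hτ : τ ≫ fZ = 𝟙 Z := pullback.lift_snd _ _ _
  let W := MoreMor.sectionComponents fZ τ
  have hτz : ∀ z, fZ (τ z) = z := fun z => by rw [← Scheme.Hom.comp_apply, hτ]; rfl
  have hWo : IsOpen W := by
    refine isOpen_iff_mem_nhds.mpr fun x hx => mem_interior_iff_mem_nhds.mp ?_
    exact Groth.Agent.S1327.result fZ τ hτ (fZ x) inferInstance hx
  have hWlc : Topology.IsLocallyConstructible W := Groth.Agent.S1326.result fZ τ hτ
  let m : pullback g g ⟶ pullback f g := pullback.lift (pullback.snd g g ≫ σ) (pullback.fst g g)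
    (by rw [Category.assoc, hσ, pullback.condition])
  let h : pullback g g ⟶ Y := pullback.fst g g ≫ g
  have hOy : ∀ a : ↥(pullback f g), g (fZ a) = y → a ∈ W := fun a ha => by
    have hcn := connected_fiber_pullback f g (fZ a) (ha ▸ hXy)
    exact hcn.isPreconnected.subset_connectedComponentIn (hτz _) Set.Subset.rfl rfl
  let B : Set Y := h '' (m ⁻¹' W)ᶜ
  have hB : IsClosed B := h.isClosedMap _ (hWo.preimage m.continuous).isClosed_compl
  have hyB : y ∉ B := by
    rintro ⟨w, hw, hwy⟩
    refine hw (hOy _ ?_)
    rw [← Scheme.Hom.comp_apply fZ, ← Scheme.Hom.comp_apply m, ← hwy,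
      show m ≫ fZ ≫ g = h from by simp [m, fZ, h]]
  obtain ⟨V, hVaff, hyV, hVB⟩ := TopologicalSpace.Opens.isBasis_iff_nbhd.mp Y.isBasis_affineOpens
    (show y ∈ (⟨Bᶜ, hB.isOpen_compl⟩ : Y.Opens) from hyB)
  let Q : (pullback f g).Opens := (pr ≫ f) ⁻¹ᵁ V
  let U : X.Opens := ⟨pr '' (W ∩ Q), pr.isOpenMap _ (hWo.inter Q.2)⟩
  have hUc : IsCompact (U : Set X) := by
    refine IsCompact.image ?_ pr.continuous
    haveI : CompactSpace ↥Q := isCompact_iff_compactSpace.mp ((pr ≫ f).isCompact_preimage hVaff.isCompact)
    haveI : QuasiSeparatedSpace ↥Q := (isQuasiSeparated_iff_quasiSeparatedSpace _ Q.2).mp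
      ((pr ≫ f).isQuasiSeparated_preimage hVaff.isQuasiSeparated)
    haveI : PrespectralSpace ↥Q := (inferInstance : PrespectralSpace ↥Q.toScheme)
    have hW' : Topology.IsConstructible ((Subtype.val : ↥Q → ↥(pullback f g)) ⁻¹' W) :=
      (hWlc.preimage_of_isOpenEmbedding Q.2.isOpenEmbedding_subtypeVal).isConstructible
    have hc := (SweepSix.isRetrocompact_of_isConstructible hW') (U := Set.univ) isCompact_univ isOpen_univ
    rw [Set.inter_univ] at hc
    have := hc.image continuous_subtype_val
    refine (congrArg IsCompact ?_).mp this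
    ext a
    exact ⟨fun ⟨⟨a, ha⟩, h, e⟩ => e ▸ ⟨h, ha⟩, fun h => ⟨⟨a, h.2⟩, h.1, rfl⟩⟩
  refine ⟨U, hUc, ?_, ?_⟩
  · intro x hx
    obtain ⟨z, hz⟩ := hZy
    obtain ⟨a, ha1, ha2⟩ := Scheme.Pullback.exists_preimage_pullback x z ((hx : f x = y).trans hz.symm)
    refine ⟨a, ⟨hOy a (by rw [show fZ a = z from ha2, hz]), ?_⟩, ha1⟩
    show (pr ≫ f) a ∈ V
    rw [Scheme.Hom.comp_apply, ha1, show f x = y from hx]
    exact hyV
  rintro y' ⟨x₀, hx₀, rfl⟩
  have hy'V : f x₀ ∈ V := by
    obtain ⟨a, ⟨-, ha⟩, rfl⟩ := hx₀
    simpa [Q] using ha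
  have hy'Z : f x₀ ∈ Set.range g := by
    obtain ⟨a, -, rfl⟩ := hx₀
    exact ⟨fZ a, by rw [← Scheme.Hom.comp_apply, ← Scheme.Hom.comp_apply, pullback.condition]⟩
  -- connectedness of the geometric fibres
  have key : ∀ (K : Type u) [Field K] [IsAlgClosed K] (p : Spec (CommRingCat.of K) ⟶ Y),
      p (IsLocalRing.closedPoint K) = f x₀ → ConnectedSpace ↥(pullback (U.ι ≫ f) p) := by
    intro K _ _ p hp
    have hpV : ∀ u : ↥(pullback f p), f (pullback.fst f p u) = f x₀ := fun u => by
      rw [← Scheme.Hom.comp_apply, pullback.condition, Scheme.Hom.comp_apply, ← hp]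
      exact congrArg p (Subsingleton.elim (α := PrimeSpectrum K) _ _)
    let ι := {q : Spec (CommRingCat.of K) ⟶ Z // q ≫ g = p}
    let i : ι → (pullback f p ⟶ pullback f g) := fun q =>
      pullback.lift (pullback.fst f p) (pullback.snd f p ≫ q.1) (by rw [Category.assoc, q.2, pullback.condition])
    let s : ι → (Spec (CommRingCat.of K) ⟶ pullback f p) := fun q =>
      pullback.lift (q.1 ≫ σ) (𝟙 _) (by rw [Category.assoc, hσ, q.2, Category.id_comp])
    let c := IsLocalRing.closedPoint K
    have hC : ∀ q : ι, i q ⁻¹' W = connectedComponent (s q c) := fun q => by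
      have hsq : IsPullback (i q) (pullback.snd f p) fZ q.1 := by
        refine IsPullback.of_right ?_ (pullback.lift_snd _ _ _) (IsPullback.of_hasPullback f g)
        rw [pullback.lift_fst, q.2]
        exact IsPullback.of_hasPullback f p
      have h1 := Groth.Agent.S1324.result fZ τ hτ (pullback.snd f p) (i q) q.1 hsq (s q)
        (pullback.lift_snd _ _ _) (by apply pullback.hom_ext <;> simp [i, s, τ] <;> exact Category.id_comp _)
      refine h1.symm.trans ?_
      ext u
      have hu : (pullback.snd f p) ⁻¹' {pullback.snd f p u} = Set.univ :=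
        Set.eq_univ_of_forall fun _ => Subsingleton.elim (α := PrimeSpectrum K) _ _
      rw [MoreMor.sectionComponents, Set.mem_setOf_eq, hu, connectedComponentIn_univ,
        show pullback.snd f p u = c from Subsingleton.elim (α := PrimeSpectrum K) _ _]
    have hpi : ∀ q, i q ≫ pr = pullback.fst f p := fun q => pullback.lift_fst _ _ _
    have hUK : pullback.fst f p ⁻¹' (U : Set X) = ⋃ q : ι, connectedComponent (s q c) := by
      simp only [← hC]
      ext u
      refine ⟨fun hu => ?_, fun hu => ?_⟩
      · obtain ⟨a, ⟨haW, -⟩, ha⟩ := hu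
        obtain ⟨w, hw1, hw2⟩ := Scheme.Pullback.exists_preimage_pullback (f := pullback.fst f p) (g := pr) u a ha.symm
        let W₀ := (pullback (pullback.fst f p) pr)
        let ρ₁ := W₀.fromSpecResidueField w ≫ pullback.fst _ _
        let ρ₂ := W₀.fromSpecResidueField w ≫ pullback.snd _ _
        have hρ : ρ₁ ≫ pullback.fst f p = ρ₂ ≫ pr := by simp [ρ₁, ρ₂, pullback.condition]
        let r : Spec _ ⟶ pullback g p := pullback.lift (ρ₂ ≫ fZ) (ρ₁ ≫ pullback.snd f p) (by
          rw [Category.assoc, show fZ ≫ g = pr ≫ f from pullback.condition.symm, reassoc_of% hρ.symm,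
            Category.assoc, pullback.condition]
          simp [ρ₁])
        obtain ⟨q0, hq0, hr⟩ := exists_point_factor (pullback.snd g p) r
        let q : ι := ⟨q0 ≫ pullback.fst g p, by rw [Category.assoc, pullback.condition, reassoc_of% hq0]⟩
        refine Set.mem_iUnion.mpr ⟨q, ?_⟩
        have h2 : ρ₁ ≫ i q = ρ₂ := by
          apply pullback.hom_ext
          · rw [Category.assoc, pullback.lift_fst]; exact hρ
          · have := congrArg (· ≫ pullback.fst g p) hr
            simp only [r, Category.assoc, pullback.lift_fst, pullback.lift_snd_assoc] at this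
            rw [Category.assoc, pullback.lift_snd]
            simpa [q] using this
        show i q u ∈ W
        have h3 := congr($h2 (IsLocalRing.closedPoint _))
        simp only [ρ₁, ρ₂, Scheme.Hom.comp_apply, Scheme.fromSpecResidueField_apply] at h3
        rw [← hw1, h3, hw2]
        exact haW
      · obtain ⟨q, hq⟩ := Set.mem_iUnion.mp hu
        refine ⟨i q u, ⟨hq, ?_⟩, by rw [← Scheme.Hom.comp_apply, hpi]⟩
        show (pr ≫ f) (i q u) ∈ V
        rw [← Scheme.Hom.comp_apply, reassoc_of% (hpi q), Scheme.Hom.comp_apply, hpV u]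
        exact hy'V
    have hne : Nonempty ι := by
      obtain ⟨z, hz⟩ := hy'Z
      obtain ⟨a, -, -⟩ := Scheme.Pullback.exists_preimage_pullback (f := g) (g := p) z c (hz.trans hp.symm)
      obtain ⟨q0, hq0, -⟩ := exists_point_factor (pullback.snd g p) ((pullback g p).fromSpecResidueField a)
      exact ⟨⟨q0 ≫ pullback.fst g p, by rw [Category.assoc, pullback.condition, reassoc_of% hq0]⟩⟩
    have hpair : ∀ q q' : ι, s q' c ∈ connectedComponent (s q c) := fun q q' => by
      rw [← hC]
      let w : Spec (CommRingCat.of K) ⟶ pullback g g := pullback.lift q.1 q'.1 (q.2.trans q'.2.symm)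
      have hw : s q' ≫ i q = w ≫ m := by
        apply pullback.hom_ext <;> simp [s, i, w, m] <;> exact Category.id_comp _
      show i q (s q' c) ∈ W
      rw [← Scheme.Hom.comp_apply, hw, Scheme.Hom.comp_apply]
      by_contra hc
      have hB' : h (w c) ∈ B := ⟨w c, hc, rfl⟩
      rw [← Scheme.Hom.comp_apply, show w ≫ h = p from by simp [w, h, q.2], hp] at hB'
      exact hVB hy'V hB'
    have hconn : _root_.IsConnected (pullback.fst f p ⁻¹' (U : Set X)) := by
      let q₁ : ι := hne.some
      haveI : Nonempty ι := hne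
      have : (⋃ q : ι, connectedComponent (s q c)) = connectedComponent (s q₁ c) :=
        (Set.iUnion_congr fun q => (connectedComponent_eq (hpair q₁ q)).symm).trans (Set.iUnion_const _)
      rw [hUK, this]
      exact isConnected_connectedComponent
    haveI : ConnectedSpace ↥((pullback.fst f p) ⁻¹ᵁ U).toScheme := isConnected_iff_connectedSpace.mp hconn
    exact ((isPullback_morphismRestrict (pullback.fst f p) U).flip.paste_horiz
      (IsPullback.of_hasPullback f p).flip).flip.isoPullback.hom.homeomorph.surjective.connectedSpace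
      ((isPullback_morphismRestrict (pullback.fst f p) U).flip.paste_horiz
      (IsPullback.of_hasPullback f p).flip).flip.isoPullback.hom.continuous
  refine ⟨geometrically_iff_of_isClosedUnderIsomorphisms.mpr fun K _ p => ?_⟩
  let sK := Spec.map (CommRingCat.ofHom (algebraMap K (AlgebraicClosure K)))
  let p' := p ≫ Y.fromSpecResidueField (f x₀)
  have h1 : ConnectedSpace ↥(pullback (U.ι ≫ f) (sK ≫ p')) := key _ _ (by
    rw [Scheme.Hom.comp_apply, Scheme.Hom.comp_apply, Scheme.fromSpecResidueField_apply])
  let e := ((IsPullback.of_hasPullback ((U.ι ≫ f).fiberToSpecResidueField (f x₀)) p).paste_horiz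
    (IsPullback.of_hasPullback (U.ι ≫ f) (Y.fromSpecResidueField (f x₀)))).isoPullback
  haveI : Surjective sK := ⟨fun x => ⟨IsLocalRing.closedPoint _, Subsingleton.elim (α := PrimeSpectrum K) _ _⟩⟩
  let F := (pullbackLeftPullbackSndIso (U.ι ≫ f) p' sK).inv ≫ pullback.fst _ _ ≫ e.inv
  exact F.surjective.connectedSpace F.continuous

end Groth.Agent.S1453
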