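import Groth.Statements.S1356
import Mathlib
import Groth.Agent.S1353
import Groth.Agent.S1453
import Groth.Agent.PicCurveLib.SmoothSec
import Groth.Agent.CompSpreadLib.Generic
import Groth.Agent.Unram17Lib.EtaleQF
-- import your own Groth.Agent.* helpers here

set_option autoImplicit false
set_option backward.isDefEq.respectTransparency false
set_option backward.isDefEq.respectTransparency.types false
set_option maxHeartbeats 1000000
universe u
open FlatMor

namespace Groth.Agent.S1356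

open AlgebraicGeometry CategoryTheory Limits in
theorem conn_of_fibre {A B : Scheme.{u}} (m : A ⟶ B) {K : Type u} [Field K] (p : Spec (CommRingCat.of K) ⟶ B)
    (hm : GeometricallyConnected (m.fiberToSpecResidueField (p (IsLocalRing.closedPoint K)))) :
    ConnectedSpace ↥(pullback m p) := by
  obtain ⟨⟨b, φ⟩, rfl⟩ := (Scheme.SpecToEquivOfField K B).symm.surjective p
  have hb : ((Scheme.SpecToEquivOfField K B).symm ⟨b, φ⟩) (IsLocalRing.closedPoint K) = b :=
    (Scheme.Hom.comp_apply _ _ _).trans (Scheme.fromSpecResidueField_apply b _)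
  rw [hb] at hm
  exact hm.geometrically_connectedSpace (y := Spec.map φ) _ (pullback.snd m _)
    (IsPullback.of_right (h₁₁ := pullback.lift (pullback.fst m _) (pullback.snd m _ ≫ Spec.map φ)
      (by rw [Category.assoc]; exact pullback.condition)) (by
      rw [pullback.lift_fst]
      exact IsPullback.of_hasPullback m _) (pullback.lift_snd _ _ _) (IsPullback.of_hasPullback m _))

open AlgebraicGeometry CategoryTheory Limits in
/-- Let h : Y → S be flat and of finite presentation with all fibres geometrically reduced, let s be a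
point of S and T an open of the fibre over s which is geometrically connected over the residue field
of s. Then there are an affine elementary étale neighbourhood (S', s') of (S, s) and a quasi-compact
open V of the base change of Y to S', with every fibre of V → S' geometrically connected, whose
points over s' are exactly the points of the base change over s' whose image in Y lies in T. -/
theorem result {Y S : Scheme.{u}} (h : Y ⟶ S) [Flat h] [LocallyOfFinitePresentation h] [QuasiCompact h] [QuasiSeparated h]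
    [GeometricallyReduced h] (s : S) (T : (h.fiber s).Opens) (hT : GeometricallyConnected (T.ι ≫ h.fiberToSpecResidueField s)) :
    ∃ (S' : Scheme.{u}) (g : S' ⟶ S) (s' : S'), IsAffine S' ∧ Hens2.IsEtaleNbhd g s' s ∧
      ∃ V : (pullback h g).Opens, IsCompact (V : Set ↑(pullback h g)) ∧ GeometricallyConnected (V.ι ≫ pullback.snd h g) ∧
        ∀ y' : ↑(pullback h g), pullback.snd h g y' = s' → (y' ∈ V ↔ pullback.fst h g y' ∈ (h.fiberι s) '' (T : Set ↑(h.fiber s))) := by
  obtain ⟨O', hO'o, hTO⟩ := (h.fiberι s).isEmbedding.isInducing.isOpen_iff.mp T.2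
  let O : Y.Opens := ⟨O', hO'o⟩
  haveI : GeometricallyReduced (O.ι ≫ h) := CompSpreadLib.geometricallyReduced_openImmersion _ _
  haveI := hT
  obtain ⟨t, -⟩ := (T.ι ≫ h.fiberToSpecResidueField s).surjective (IsLocalRing.closedPoint _)
  have htO : h.fiberι s t.1 ∈ O' := hTO.ge t.2
  have hts : (O.ι ≫ h) ⟨_, htO⟩ = s := by
    have : h (h.fiberι s t.1) = s := (h.range_fiberι s).le ⟨t.1, rfl⟩
    exact this
  obtain ⟨Z, g₀, z, hg₀, hz, σ, hσ⟩ := PicCurveLib.exists_etale_section_at (O.ι ≫ h) s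
    ⟨(O.ι ≫ h).fiberHomeo s |>.symm ⟨_, hts⟩⟩
  haveI := hg₀
  haveI : LocallyQuasiFinite g₀ := ((Unram17Lib.etale_iff_smooth_and_quasiFinite g₀).mp hg₀).2
  obtain ⟨U, g₁, u, hu, Vf, v, hv, hfin, hvu, -, -, -⟩ := Groth.Agent.S1353.result g₀ z (g₀.quasiFiniteAt z)
  rw [hz] at hu
  obtain ⟨het, hus, hbij⟩ := hu
  haveI := het
  change g₁ u = s at hus
  subst hus
  haveI := hfin
  haveI : IsIso (g₁.residueFieldMap u) := (ConcreteCategory.isIso_iff_bijective _).mpr hbij
  let f := pullback.snd h g₁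
  let mp := pullback.fst h g₁
  let P : (pullback h g₁).Opens := mp ⁻¹ᵁ O
  -- an affine open of U
  obtain ⟨U', hU', huU', -⟩ : ∃ U' : U.Opens, IsAffineOpen U' ∧ u ∈ U' ∧ U' ≤ ⊤ :=
    TopologicalSpace.Opens.isBasis_iff_nbhd.mp U.isBasis_affineOpens (show u ∈ (⊤ : U.Opens) from trivial)
  -- the finite quasi-section
  let σ₀ : (Vf : Scheme.{u}) ⟶ pullback h g₁ := pullback.lift (Vf.ι ≫ pullback.fst g₀ g₁ ≫ σ ≫ O.ι)
    (Vf.ι ≫ pullback.snd g₀ g₁) (by
      simp only [Category.assoc]; rw [hσ, pullback.condition])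
  have hσP : ∀ a, σ₀ a ∈ P := fun a => by
    show mp (σ₀ a) ∈ O
    rw [← Scheme.Hom.comp_apply, show σ₀ ≫ mp = _ from pullback.lift_fst _ _ _]
    simp only [Scheme.Hom.comp_apply]
    exact (σ (pullback.fst g₀ g₁ (Vf.ι a))).2
  let m₀ := Vf.ι ≫ pullback.snd g₀ g₁
  have hσf : σ₀ ≫ f = m₀ := pullback.lift_snd _ _ _
  haveI : Etale m₀ := inferInstance
  let W₁ := m₀ ⁻¹ᵁ U'
  let C : Set ↥(pullback h g₁) := σ₀ '' (W₁ : Set Vf.toScheme) ∪ (P : Set _) ∩ f ⁻¹' {u}
  have hCc : IsCompact C := by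
    refine ((m₀.isCompact_preimage hU'.isCompact).image σ₀.continuous).union ?_
    haveI : LocallyOfFiniteType (f.fiberToSpecResidueField u) := MorphismProperty.pullback_snd _ _ inferInstance
    haveI : IsLocallyNoetherian (f.fiber u) :=
      LocallyOfFiniteType.isLocallyNoetherian (f.fiberToSpecResidueField u)
    haveI : IsNoetherian (f.fiber u) := {}
    rw [← f.range_fiberι u, ← Set.image_preimage_eq_inter_range]
    exact (TopologicalSpace.NoetherianSpace.isCompact _).image (f.fiberι u).continuous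
  let R : (pullback h g₁).Opens := P ⊓ f ⁻¹ᵁ U'
  have hCR : C ⊆ R := by
    rintro _ (⟨a, ha, rfl⟩ | ⟨ha, hau⟩)
    · exact ⟨hσP a, show f (σ₀ a) ∈ U' by rw [← Scheme.Hom.comp_apply, hσf]; exact ha⟩
    · exact ⟨ha, show f _ ∈ U' from (hau : f _ = u) ▸ huU'⟩
  obtain ⟨P₀, hP₀c, hCP₀, hP₀R⟩ : ∃ P₀ : (pullback h g₁).Opens, IsCompact (P₀ : Set ↥(pullback h g₁)) ∧ C ⊆ (P₀ : Set ↥(pullback h g₁)) ∧ P₀ ≤ R := by
    choose W hW hxW hWR using fun c : C => TopologicalSpace.Opens.isBasis_iff_nbhd.mp (pullback h g₁).isBasis_affineOpens (hCR c.2)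
    obtain ⟨F, hF⟩ := hCc.elim_finite_subcover (fun c : C => (W c : Set ↥(pullback h g₁))) (fun c => (W c).2)
      (fun x hx => Set.mem_iUnion.mpr ⟨⟨x, hx⟩, hxW _⟩)
    refine ⟨⟨⋃ c ∈ F, (W c : Set ↥(pullback h g₁)), isOpen_biUnion fun c _ => (W c).2⟩, ?_, hF, ?_⟩
    · exact F.finite_toSet.isCompact_biUnion fun c _ => (hW c).isCompact
    exact Set.iUnion₂_subset fun c _ => hWR c
  -- the family over U'
  have hP₀U : P₀ ≤ f ⁻¹ᵁ U' := hP₀R.trans inf_le_right
  let fP : (P₀ : Scheme.{u}) ⟶ U' := f.resLE U' P₀ hP₀U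
  haveI : CompactSpace ↥(P₀ : Scheme.{u}) := isCompact_iff_compactSpace.mp hP₀c
  haveI : IsAffine (U' : Scheme.{u}) := hU'
  haveI : CompactSpace ↥(U' : Scheme.{u}) := isCompact_iff_compactSpace.mp hU'.isCompact
  haveI : QuasiSeparatedSpace ↥(U' : Scheme.{u}) := quasiSeparatedSpace_of_isAffine _
  haveI : QuasiSeparated (f ∣_ U') := inferInstance
  haveI : QuasiSeparatedSpace ↥(f ⁻¹ᵁ U').toScheme := quasiSeparatedSpace_of_quasiSeparated (f ∣_ U')
  haveI : QuasiSeparatedSpace ↥(P₀ : Scheme.{u}) :=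
    ((pullback h g₁).homOfLE hP₀U).isOpenEmbedding.quasiSeparatedSpace
  haveI : QuasiCompact fP := quasiCompact_of_compactSpace fP
  haveI : Flat fP := by dsimp only [fP, Scheme.Hom.resLE]; infer_instance
  haveI : LocallyOfFinitePresentation fP := by dsimp only [fP, Scheme.Hom.resLE]; infer_instance
  haveI : GeometricallyReduced fP := CompSpreadLib.geometricallyReduced_openImmersion _ _
  let j : (W₁ : Scheme.{u}) ⟶ (pullback h g₁) := W₁.ι ≫ σ₀
  have hjP : Set.range j ⊆ Set.range P₀.ι := by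
    rintro _ ⟨a, rfl⟩
    rw [Scheme.Opens.range_ι]
    exact hCP₀ (Or.inl ⟨_, a.2, rfl⟩)
  let σ' := IsOpenImmersion.lift P₀.ι j hjP
  have hσ' : σ' ≫ fP = m₀ ∣_ U' := by
    rw [← cancel_mono U'.ι, Category.assoc, Scheme.Hom.resLE_comp_ι, IsOpenImmersion.lift_fac_assoc,
      Category.assoc, hσf, morphismRestrict_ι]
  let u' : ↥(U' : Scheme.{u}) := ⟨u, huU'⟩
  have hZu : u' ∈ Set.range (m₀ ∣_ U') := by
    refine ⟨⟨⟨v, hv⟩, show m₀ _ ∈ U' from ?_⟩, Subtype.ext ?_⟩
    · show pullback.snd g₀ g₁ v ∈ U'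
      rw [hvu]; exact huU'
    · rw [← Scheme.Opens.ι_apply, ← Scheme.Hom.comp_apply, morphismRestrict_ι]
      exact hvu
  have hfib : ∀ a, f a = u → (a ∈ P₀ ↔ a ∈ P) := fun a ha =>
    ⟨fun h' => (hP₀R h').1, fun h' => hCP₀ (Or.inr ⟨h', ha⟩)⟩
  have hGC : GeometricallyConnected (fP.fiberToSpecResidueField u') := by
    -- the trace on the fibre over u
    have hP := isPullback_fiberToSpecResidueField_of_isPullback (IsPullback.of_hasPullback h g₁) u
    let M : f.fiber u ⟶ h.fiber (g₁ u) := pullback.map _ _ _ _ mp (Spec.map (g₁.residueFieldMap u)) g₁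
      pullback.condition.symm (by simp)
    have hA : M ⁻¹ᵁ T = f.fiberι u ⁻¹ᵁ P₀ := by
      ext a
      show M a ∈ T ↔ f.fiberι u a ∈ P₀
      rw [hfib _ ((f.range_fiberι u).le ⟨a, rfl⟩)]
      refine (Iff.of_eq (congrArg (M a ∈ ·) hTO.symm)).trans ?_
      show h.fiberι _ (M a) ∈ O' ↔ mp (f.fiberι u a) ∈ O'
      rw [← Scheme.Hom.comp_apply, ← Scheme.Hom.comp_apply,
        show M ≫ h.fiberι (g₁ u) = f.fiberι u ≫ mp from pullback.lift_fst _ _ _]
    have h1 : GeometricallyConnected ((M ⁻¹ᵁ T).ι ≫ f.fiberToSpecResidueField u) :=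
      MorphismProperty.of_isPullback (P := @GeometricallyConnected)
        ((isPullback_morphismRestrict M T).paste_vert hP) hT
    rw [hA] at h1
    have h2 : IsPullback ((f.fiberι u) ∣_ P₀) ((f.fiberι u ⁻¹ᵁ P₀).ι ≫ f.fiberToSpecResidueField u) (P₀.ι ≫ f)
        (U.fromSpecResidueField u) :=
      (isPullback_morphismRestrict (f.fiberι u) P₀).paste_vert (IsPullback.of_hasPullback f _)
    have h3 : GeometricallyConnected ((P₀.ι ≫ f).fiberToSpecResidueField u) := by
      rw [show (P₀.ι ≫ f).fiberToSpecResidueField u = h2.isoPullback.inv ≫ _ from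
        h2.isoPullback_inv_snd.symm]
      exact (MorphismProperty.cancel_left_of_respectsIso @GeometricallyConnected _ _).mpr h1
    have hfP : fP ≫ U'.ι = P₀.ι ≫ f := Scheme.Hom.resLE_comp_ι _ _
    have h4 : IsPullback (𝟙 (P₀ : Scheme.{u})) fP (P₀.ι ≫ f) U'.ι :=
      IsPullback.of_horiz_isIso_mono ⟨by rw [Category.id_comp, hfP]⟩
    exact MorphismProperty.of_isPullback (P := @GeometricallyConnected)
      (isPullback_fiberToSpecResidueField_of_isPullback h4 u') h3
  obtain ⟨U1, hU1c, hU1u, hU1⟩ := Groth.Agent.S1453.result fP (m₀ ∣_ U')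
    ⟨inferInstance, inferInstance, inferInstance⟩ σ' hσ' u' hZu hGC
  let L : (U' : Scheme.{u}).Opens := ⟨(U1.ι ≫ fP) '' Set.univ, (U1.ι ≫ fP).isOpenMap _ isOpen_univ⟩
  have huL : u' ∈ L := by
    obtain ⟨a, ha⟩ := hZu
    have : fP (σ' a) = u' := by rw [← Scheme.Hom.comp_apply, hσ', ha]
    exact ⟨⟨σ' a, hU1u this⟩, trivial, this⟩
  obtain ⟨L', hL', huL', hL'L⟩ : ∃ L' : (U' : Scheme.{u}).Opens, IsAffineOpen L' ∧ u' ∈ L' ∧ L' ≤ L :=
    TopologicalSpace.Opens.isBasis_iff_nbhd.mp U'.toScheme.isBasis_affineOpens huL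
  let ι' : (L' : Scheme.{u}) ⟶ U := L'.ι ≫ U'.ι
  refine ⟨L', ι' ≫ g₁, ⟨u', huL'⟩, hL', ⟨inferInstance, rfl, ?_⟩, ?_⟩
  · rw [← ConcreteCategory.isIso_iff_bijective, Scheme.residueFieldMap_comp]
    have h5 : IsIso (g₁.residueFieldMap (ι' ⟨u', huL'⟩)) := ‹IsIso (g₁.residueFieldMap u)›
    infer_instance
  let gg := ι' ≫ g₁
  let mm : pullback h gg ⟶ pullback h g₁ := pullback.map _ _ _ _ (𝟙 Y) ι' (𝟙 S) (by simp) (by simp [gg])
  have hmm1 : mm ≫ mp = pullback.fst h gg := (pullback.lift_fst _ _ _).trans (Category.comp_id _)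
  have hsq : IsPullback mm (pullback.snd h gg) f ι' := by
    refine IsPullback.of_right ?_ (pullback.lift_snd _ _ _) (IsPullback.of_hasPullback h g₁)
    rw [show mm ≫ pullback.fst h g₁ = _ from hmm1]
    exact IsPullback.of_hasPullback h gg
  let U2 : (pullback h g₁).Opens := P₀.ι ''ᵁ U1
  let V := mm ⁻¹ᵁ U2
  refine ⟨V, ?_, ?_, fun y' hy' => ?_⟩
  · have hVc : IsCompact ((U2 : Set _) ∩ f ⁻¹' Set.range ι') := by
      have hL'c : IsCompact ((L' : Set ↥(U' : Scheme.{u}))) := hL'.isCompact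
      have := fP.isCompact_preimage (U := L') hL'c
      have hc : IsCompact ((U1 : Set ↥(P₀ : Scheme.{u})) ∩ fP ⁻¹' (L' : Set _)) :=
        QuasiSeparatedSpace.inter_isCompact (U1 : Set _) _ U1.2 hU1c (L'.2.preimage fP.continuous) this
      refine (congrArg IsCompact ?_).mp (hc.image P₀.ι.continuous)
      have hr : Set.range ι' = U'.ι '' (L' : Set _) := by
        rw [Scheme.Hom.comp_base, TopCat.coe_comp, Set.range_comp, Scheme.Opens.range_ι]
      ext a
      constructor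
      · rintro ⟨b, ⟨hb, hbL⟩, rfl⟩
        refine ⟨⟨b, hb, rfl⟩, ?_⟩
        show f (P₀.ι b) ∈ Set.range ι'
        rw [hr, ← Scheme.Hom.comp_apply, ← Scheme.Hom.resLE_comp_ι f hP₀U]
        exact ⟨fP b, hbL, rfl⟩
      · rintro ⟨⟨b, hb, rfl⟩, hbf⟩
        refine ⟨b, ⟨hb, ?_⟩, rfl⟩
        have hfb : U'.ι (fP b) = f (P₀.ι b) := by
          rw [← Scheme.Hom.comp_apply, Scheme.Hom.resLE_comp_ι]; rfl
        rw [Set.mem_preimage, hr] at hbf
        obtain ⟨l, hl, hle⟩ := hbf
        replace hle := hle.trans hfb.symm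
        exact show fP b ∈ (L' : Set _) from (U'.ι.isOpenEmbedding.injective hle) ▸ hl
    haveI : IsOpenImmersion mm := MorphismProperty.of_isPullback (P := @IsOpenImmersion) hsq.flip inferInstance
    rw [show (V : Set _) = mm ⁻¹' (U2 : Set _) from rfl, mm.isOpenEmbedding.isInducing.isCompact_iff,
      Set.image_preimage_eq_inter_range]
    refine (congrArg IsCompact ?_).mp hVc
    congr 1
    ext a
    constructor
    · rintro ⟨l, hl⟩
      obtain ⟨b, hb, -⟩ := Scheme.Pullback.exists_preimage_pullback (f := f) (g := ι') a l hl.symm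
      exact ⟨hsq.isoPullback.inv b, by rw [← Scheme.Hom.comp_apply, hsq.isoPullback_inv_fst, hb]⟩
    · rintro ⟨b, rfl⟩
      exact ⟨pullback.snd h gg b, by rw [← Scheme.Hom.comp_apply, ← Scheme.Hom.comp_apply, hsq.w]⟩
  · refine ⟨geometrically_iff_of_isClosedUnderIsomorphisms.mpr fun K _ p => ?_⟩
    have e1 : IsPullback (mm ∣_ U2) (V.ι ≫ pullback.snd h gg) (U2.ι ≫ f) ι' :=
      (isPullback_morphismRestrict mm U2).paste_vert hsq
    haveI c1 : ConnectedSpace ↥(pullback (U1.ι ≫ fP) (p ≫ L'.ι)) := by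
      apply conn_of_fibre
      have hL : (p ≫ L'.ι) (IsLocalRing.closedPoint K) ∈ L := hL'L (p _).2
      obtain ⟨a, -, ha⟩ := hL
      rw [← ha]
      exact hU1 _ ⟨U1.ι a, a.2, rfl⟩
    haveI c2 : ConnectedSpace ↥(pullback (U2.ι ≫ f) (p ≫ ι')) := by
      let F : pullback (U1.ι ≫ fP) (p ≫ L'.ι) ⟶ pullback (U2.ι ≫ f) (p ≫ ι') :=
        pullback.map _ _ _ _ (Scheme.Hom.isoImage P₀.ι U1).hom (𝟙 _) U'.ι
          (by simp [U2, fP]) (by simp [ι'])
      haveI : Surjective F := ⟨fun a => by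
        have hR : IsPullback (pullback.fst (U1.ι ≫ fP) (p ≫ L'.ι) ≫ (Scheme.Hom.isoImage P₀.ι U1).hom)
            (pullback.snd (U1.ι ≫ fP) (p ≫ L'.ι)) (U2.ι ≫ f) (p ≫ ι') := by
          have hm := (IsPullback.of_hasPullback (U1.ι ≫ fP) (p ≫ L'.ι)).paste_horiz
            (IsPullback.of_horiz_isIso_mono ⟨Category.id_comp _⟩ :
              IsPullback (𝟙 (U1 : Scheme.{u})) (U1.ι ≫ fP) ((U1.ι ≫ fP) ≫ U'.ι) U'.ι)
          rw [Category.comp_id] at hm
          refine hm.of_iso (Iso.refl _) (Scheme.Hom.isoImage P₀.ι U1) (Iso.refl _) (Iso.refl _)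
            (by simp) (by simp) (by simp [U2, fP]) (by simp [ι'])
        exact ⟨hR.isoPullback.inv a, by
          have : hR.isoPullback.hom = F := pullback.hom_ext (by simp [F]) (by simp [F])
          rw [← this, ← Scheme.Hom.comp_apply, Iso.inv_hom_id]; rfl⟩⟩
      exact F.surjective.connectedSpace F.continuous
    let e := ((IsPullback.of_hasPullback (V.ι ≫ pullback.snd h gg) p).paste_horiz e1).isoPullback
    exact e.inv.surjective.connectedSpace e.inv.continuous
  · have hfy : f (mm y') = u := by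
      rw [← Scheme.Hom.comp_apply, hsq.w, Scheme.Hom.comp_apply, hy']
      rfl
    have hmy : pullback.fst h gg y' = mp (mm y') := by rw [← Scheme.Hom.comp_apply, hmm1]
    show mm y' ∈ U2 ↔ _
    constructor
    · rintro ⟨b, -, hb⟩
      have hb' : mp (mm y') ∈ O' := (hP₀R (hb ▸ b.2 : mm y' ∈ P₀)).1
      obtain ⟨w, hw⟩ := (h.range_fiberι (g₁ u)).ge (show h (mp (mm y')) = g₁ u by
        rw [← Scheme.Hom.comp_apply, pullback.condition, Scheme.Hom.comp_apply, hfy])
      exact ⟨w, hTO.le (show h.fiberι _ w ∈ O' from hw ▸ hb'), hw.trans hmy.symm⟩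
    · rintro ⟨w, hw, hwe⟩
      have hP' : mm y' ∈ P₀ := (hfib _ hfy).mpr (show mp (mm y') ∈ O' from hmy ▸ hwe ▸ hTO.ge hw)
      refine ⟨⟨_, hP'⟩, hU1u (Subtype.ext ?_), rfl⟩
      rw [← Scheme.Opens.ι_apply, ← Scheme.Hom.comp_apply, Scheme.Hom.resLE_comp_ι]
      exact hfy

end Groth.Agent.S1356
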