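import Groth.Statements.S13572
import Groth.Agent.QuotStLib.MapRep
import Groth.Agent.AlgStBig.Rows5
-- import your own Groth.Agent.* helpers here

set_option autoImplicit false
set_option linter.all false
set_option backward.isDefEq.respectTransparency false
set_option backward.isDefEq.respectTransparency.types false
universe u
open CategoryTheory AlgebraicGeometry MonoidalCategory
open AlgSt

namespace Groth.Agent.S13572

/-- For a group action: let `G` be a group scheme over `S` that is flat, locally of finite presentation
and affine over `S`, acting on a scheme `X` over `S`. Then the canonical morphism `X ⟶ [X/G]`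
(sending a `T`-point `x` of `X` to the trivial torsor `G ×_S T` with the equivariant map `(g, t) ↦ g
· x(t)`) is representable by algebraic spaces and flat, locally of finite presentation, and
surjective. (The published statement is for a groupoid in algebraic spaces with flat, locally
finitely presented source and target; this row is the action groupoid of an affine group scheme.) -/
theorem result {S : Scheme.{u}} (G : Over S) [GrpObj G]
    [Flat G.hom] [LocallyOfFinitePresentation G.hom] [IsAffineHom G.hom] (X : Over S) (aX : AlgGrp.Action G X) :
    AlgSt.RepByAlgSpWith (AlgSp.LocP @Flat)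
        (BasedFunctor.comp (AlgSt.ofOverCat X) (AlgSt.quotMap Scheme.fppfPrecoverage G aX)) ∧
      AlgSt.RepByAlgSpWith (AlgSp.LocP @LocallyOfFinitePresentation)
        (BasedFunctor.comp (AlgSt.ofOverCat X) (AlgSt.quotMap Scheme.fppfPrecoverage G aX)) ∧
      AlgSt.RepByAlgSpWith AlgSp.IsSurjectiveMor
        (BasedFunctor.comp (AlgSt.ofOverCat X) (AlgSt.quotMap Scheme.fppfPrecoverage G aX)) := by
  have h1 := QuotStLib.repByAlgSpWith_qm aX @Flat
    (AlgStBig.isLocalOnBase_fppf_of_fpqc (AlgSpLib.isLocalOnBase_fpqc_locP_of_descendsAlong S @Flat)) inferInstance
  have h2 := QuotStLib.repByAlgSpWith_qm aX @LocallyOfFinitePresentation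
    (AlgStBig.isLocalOnBase_fppf_of_fpqc (AlgSpLib.isLocalOnBase_fpqc_locP_of_descendsAlong S @LocallyOfFinitePresentation))
    inferInstance
  exact ⟨h1, h2, QuotStLib.repByAlgSpWith_qm_surjective aX⟩

end Groth.Agent.S13572
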