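import Groth.Statements.S13575
import Groth.Agent.QuotStLib.Basic
import Groth.Agent.FibLib.Fp

set_option autoImplicit false
set_option linter.all false
set_option backward.isDefEq.respectTransparency false
set_option backward.isDefEq.respectTransparency.types false
universe u
open CategoryTheory AlgebraicGeometry MonoidalCategory
open AlgSt

namespace Groth.Agent.S13575

section
open CategoryTheory.Limits MonoidalCategory CartesianMonoidalCategory MonObj GrpObj Opposite FibCat FibLib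

variable {S : Scheme.{u}} {G X : Over S} [GrpObj G] {aX : AlgGrp.Action G X}

local notation "K₀" => Scheme.fppfPrecoverage

/-- The morphism of trivial torsors given by a group element. -/
noncomputable def twist {T : Over S} (g : T ⟶ G) (x₁ x₂ : T ⟶ X) (h : lift g x₂ ≫ aX.act = x₁) :
    QuotStLib.triv K₀ aX x₁ ⟶ QuotStLib.triv K₀ aX x₂ :=
  QuotStLib.homOfSection (QuotStLib.triv K₀ aX x₂) (lift g (𝟙 T)) x₁
    (by show lift g (𝟙 T) ≫ (G ◁ x₂) ≫ aX.act = x₁
        rw [← Category.assoc, QuotStLib.lift_whisker, Category.id_comp, h]) (𝟙 T) (lift_snd _ _)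

lemma twist_top {T : Over S} (g : T ⟶ G) (x₁ x₂ : T ⟶ X) (h : lift g x₂ ≫ aX.act = x₁) :
    (twist g x₁ x₂ h).top = lift (fst G T * (snd G T ≫ g)) (snd G T) := by
  show (G ◁ lift g (𝟙 T)) ≫ (AlgSt.leftMul G T).act = _
  simp [AlgSt.leftMul, comp_lift, comp_mul]

lemma twist_top_comp {T : Over S} (g g' : T ⟶ G) (h : g * g' = 1) :
    lift (fst G T * (snd G T ≫ g)) (snd G T) ≫ lift (fst G T * (snd G T ≫ g')) (snd G T) = 𝟙 (G ⊗ T) := by
  rw [comp_lift, comp_mul, lift_fst, lift_snd_assoc, lift_snd, _root_.mul_assoc, ← comp_mul, h,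
    MonObj.comp_one, _root_.mul_one, lift_fst_snd]

lemma twist_base {T : Over S} (g : T ⟶ G) (x₁ x₂ : T ⟶ X) (h : lift g x₂ ≫ aX.act = x₁) :
    (twist g x₁ x₂ h).base = 𝟙 T := rfl

/-- The isomorphism of trivial torsors given by a group element. -/
noncomputable def twistIso {T : Over S} (g : T ⟶ G) (x₁ x₂ : T ⟶ X) (h : lift g x₂ ≫ aX.act = x₁) :
    QuotStLib.triv K₀ aX x₁ ≅ QuotStLib.triv K₀ aX x₂ where
  hom := twist g x₁ x₂ h
  inv := twist g⁻¹ x₂ x₁ (by
    rw [← h, ← QuotStLib.act_mul, inv_mul_cancel, QuotStLib.act_one])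
  hom_inv_id := by
    apply AlgSt.QuotObj.hom_ext
    · rw [AlgSt.QuotObj.comp_base, AlgSt.QuotObj.id_base, twist_base, twist_base]
      exact Category.id_comp (𝟙 T)
    · rw [AlgSt.QuotObj.comp_top, AlgSt.QuotObj.id_top, twist_top, twist_top]
      exact twist_top_comp g g⁻¹ (mul_inv_cancel g)
  inv_hom_id := by
    apply AlgSt.QuotObj.hom_ext
    · rw [AlgSt.QuotObj.comp_base, AlgSt.QuotObj.id_base, twist_base, twist_base]
      exact Category.id_comp (𝟙 T)
    · rw [AlgSt.QuotObj.comp_top, AlgSt.QuotObj.id_top, twist_top, twist_top]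
      exact twist_top_comp g⁻¹ g (inv_mul_cancel g)

lemma act_eq {T : Over S} (w : T ⟶ G ⊗ X) :
    lift (w ≫ fst G X) (w ≫ snd G X) ≫ aX.act = w ≫ aX.act := by
  rw [← comp_lift_assoc, lift_fst_snd, Category.id_comp]

variable (aX) in
/-- The 2-cell of the action square. -/
noncomputable def cell :
    BasedFunctor.comp (AlgSt.ofSpMap ((AlgSp.yon S).map aX.act)) (AlgSt.quotMap K₀ G aX) ≅
      BasedFunctor.comp (AlgSt.ofSpMap ((AlgSp.yon S).map (snd G X))) (AlgSt.quotMap K₀ G aX) :=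
  BasedNatIso.mkNatIso
    (NatIso.ofComponents
      (fun a => twistIso (a.sec.down ≫ fst G X) (a.sec.down ≫ aX.act) (a.sec.down ≫ snd G X)
        (act_eq a.sec.down))
      (fun {a b} φ => AlgSt.QuotObj.hom_ext (by
          show φ.hom ≫ 𝟙 _ = 𝟙 _ ≫ φ.hom
          simp)
        (by
          have e : φ.hom ≫ b.sec.down = a.sec.down := congrArg ULift.down φ.map_sec
          rw [AlgSt.QuotObj.comp_top, AlgSt.QuotObj.comp_top]
          erw [twist_top _ _ _ (act_eq b.sec.down), twist_top _ _ _ (act_eq a.sec.down)]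
          show (G ◁ φ.hom) ≫ _ = _ ≫ (G ◁ φ.hom)
          rw [← e]
          ext <;> simp [comp_lift, comp_mul])))
    (fun a => IsHomLift.of_fac' _ _ _ rfl rfl (by
      show 𝟙 a.base = eqToHom rfl ≫ 𝟙 a.base ≫ eqToHom rfl
      simp))

lemma faithful_cmp : (fpLift _ _ (cell aX)).toFunctor.Faithful :=
  ⟨fun {a b} f g h => Stk.EltObj.hom_ext
    (congrArg Stk.EltObj.Hom.hom (congrArg (fun t => t.hom.fst) h) :)⟩

lemma twist_inj {T T' : Over S} (f f' : T' ⟶ T) (g' : T' ⟶ G) (g : T ⟶ G)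
    (h : (G ◁ f) ≫ lift (fst G T * (snd G T ≫ g)) (snd G T) =
      lift (fst G T' * (snd G T' ≫ g')) (snd G T') ≫ (G ◁ f')) : f ≫ g = g' := by
  have := lift (1 : T' ⟶ G) (𝟙 T') ≫= (h =≫ fst G T)
  simpa [comp_lift, comp_mul] using this

lemma full_cmp : (fpLift _ _ (cell aX)).toFunctor.Full := by
  refine ⟨fun {a b} ψ => ?_⟩
  let φ₁ := ψ.hom.fst
  let φ₂ := ψ.hom.snd
  have w := ψ.hom.w
  have hb : φ₁.hom = φ₂.hom := by
    have := congrArg AlgSt.QuotObj.Hom.base w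
    have : φ₁.hom ≫ 𝟙 _ = 𝟙 _ ≫ φ₂.hom := this
    simpa using this
  have e₂ : φ₁.hom ≫ b.sec.down ≫ snd G X = a.sec.down ≫ snd G X := by
    rw [hb]; exact congrArg ULift.down φ₂.map_sec
  have e₁ : φ₁.hom ≫ b.sec.down ≫ fst G X = a.sec.down ≫ fst G X := by
    have := congrArg AlgSt.QuotObj.Hom.top w
    have : (G ◁ φ₁.hom) ≫ lift (fst G b.base * (snd G b.base ≫ b.sec.down ≫ fst G X)) (snd G b.base) =
        lift (fst G a.base * (snd G a.base ≫ a.sec.down ≫ fst G X)) (snd G a.base) ≫ (G ◁ φ₂.hom) :=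
      ((congrArg (fun t => (G ◁ φ₁.hom) ≫ t) (twist_top _ _ _ (act_eq b.sec.down))).symm.trans this).trans
        (congrArg (fun t => t ≫ (G ◁ φ₂.hom)) (twist_top _ _ _ (act_eq a.sec.down)))
    exact twist_inj _ _ _ _ this
  have e : φ₁.hom ≫ b.sec.down = a.sec.down :=
    CartesianMonoidalCategory.hom_ext _ _ (by rw [Category.assoc]; exact e₁) (by rw [Category.assoc]; exact e₂)
  exact ⟨⟨φ₁.hom, congrArg ULift.up e⟩, fp_hom_ext (Stk.EltObj.hom_ext rfl) (Stk.EltObj.hom_ext hb)⟩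

lemma vertEssSurj_cmp : VertEssSurj (fpLift _ _ (cell aX)) := by
  intro o
  obtain ⟨⟨⟨T, ⟨x₁⟩⟩, ⟨T', ⟨x₂⟩⟩, κ⟩, hκ⟩ := o
  haveI : (AlgSt.QuotSt K₀ G aX).p.IsHomLift (𝟙 T) κ.hom := hκ
  have hT : T' = T := IsHomLift.codomain_eq (AlgSt.QuotSt K₀ G aX).p (𝟙 T) κ.hom
  subst hT
  have hb : κ.hom.base = 𝟙 T' := by
    have h := IsHomLift.fac' (AlgSt.QuotSt K₀ G aX).p (𝟙 T') κ.hom
    simp only [eqToHom_refl, Category.comp_id, Category.id_comp] at h
    exact h
  obtain ⟨g, hg, ht⟩ := (QuotStLib.hom_iff (K := K₀) (𝟙 T') x₁ x₂).1 κ.hom hb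
  rw [Category.id_comp] at hg
  have s₁ : lift g x₂ ≫ aX.act = x₁ := hg
  let w : (AlgSt.ofSch (G ⊗ X)).obj := ⟨T', ⟨lift g x₂⟩⟩
  let α : (AlgSt.ofSpMap ((AlgSp.yon S).map aX.act)).obj w ≅ (⟨T', ⟨x₁⟩⟩ : (AlgSt.ofSch X).obj) :=
    eqToIso (congrArg (fun x => (⟨T', ⟨x⟩⟩ : (AlgSt.ofSch X).obj)) s₁)
  let β : (AlgSt.ofSpMap ((AlgSp.yon S).map (snd G X))).obj w ≅ (⟨T', ⟨x₂⟩⟩ : (AlgSt.ofSch X).obj) :=
    eqToIso (congrArg (fun x => (⟨T', ⟨x⟩⟩ : (AlgSt.ofSch X).obj)) (lift_snd g x₂))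
  have base_eq : ∀ (y z : T' ⟶ X) (h : y = z),
      (eqToHom (congrArg (fun x => (⟨T', ⟨x⟩⟩ : (AlgSt.ofSch X).obj)) h)).hom = 𝟙 T' := by
    rintro y _ rfl; rfl
  have hα : α.hom.hom = 𝟙 T' := base_eq _ _ s₁
  have hβ : β.hom.hom = 𝟙 T' := base_eq _ _ (lift_snd g x₂)
  refine ⟨w, fpIsoMk α β ?_, ?_⟩
  · apply AlgSt.QuotObj.hom_ext
    · show α.hom.hom ≫ κ.hom.base = 𝟙 T' ≫ β.hom.hom
      rw [hα, hβ, hb]
    · show (G ◁ α.hom.hom) ≫ κ.hom.top = (twist (lift g x₂ ≫ fst G X) _ _ (act_eq (lift g x₂))).top ≫ (G ◁ β.hom.hom)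
      rw [hα, hβ, twist_top, ht, Category.comp_id]
      erw [MonoidalCategory.whiskerLeft_id, Category.id_comp, Category.comp_id]
      simp
  · haveI : (AlgSt.ofSch X).p.IsHomLift (𝟙 T') (fpIsoMk (x := (fpLift _ _ (cell aX)).obj w)
        (y := ⟨⟨⟨T', ⟨x₁⟩⟩, ⟨T', ⟨x₂⟩⟩, κ⟩, hκ⟩) α β (by
          apply AlgSt.QuotObj.hom_ext
          · show α.hom.hom ≫ κ.hom.base = 𝟙 T' ≫ β.hom.hom
            rw [hα, hβ, hb]
          · show (G ◁ α.hom.hom) ≫ κ.hom.top = (twist (lift g x₂ ≫ fst G X) _ _ (act_eq (lift g x₂))).top ≫ (G ◁ β.hom.hom)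
            rw [hα, hβ, twist_top, ht, Category.comp_id]
            erw [MonoidalCategory.whiskerLeft_id, Category.id_comp, Category.comp_id]
            simp)).hom.hom.fst := IsHomLift.of_fac' _ _ _ rfl rfl (by
      show α.hom.hom = eqToHom rfl ≫ 𝟙 T' ≫ eqToHom rfl
      simp [hα])
    exact isHomLift_of_fst (𝟙 T') _

lemma isTwoCartOver_cell : IsTwoCartOver _ _ (cell aX) := by
  haveI := faithful_cmp (aX := aX)
  haveI := full_cmp (aX := aX)
  exact isEquivOver_of_vertEssSurj _ vertEssSurj_cmp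

end

/-- For a group action: let a group scheme `G` over `S` act on a scheme `X` over `S` and let `π : X ⟶
[X/G]` be the canonical morphism to the quotient stack. Then the square with vertices `G ×_S X`,
`X`, `X`, `[X/G]`, whose sides are the action and the projection `G ×_S X ⟶ X` followed by `π`, is
2-cartesian for some 2-isomorphism `π ∘ a ≅ π ∘ pr₂`: the induced functor from `G ×_S X` to the
2-fibre product `X ×_{[X/G]} X` is an equivalence over `(Sch/S)`. Existence of the 2-isomorphism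
only; the canonical one is right multiplication by the group element. (The published statement is
for a groupoid in algebraic spaces; this row is the action groupoid of a group scheme, with torsors
given as schemes.) -/
theorem result {S : Scheme.{u}} (G : Over S) [GrpObj G]
    (X : Over S) (aX : AlgGrp.Action G X) :
    ∃ e : BasedFunctor.comp (AlgSt.ofSpMap ((AlgSp.yon S).map aX.act)) (AlgSt.quotMap Scheme.fppfPrecoverage G aX) ≅
        BasedFunctor.comp (AlgSt.ofSpMap ((AlgSp.yon S).map (CartesianMonoidalCategory.snd G X)))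
          (AlgSt.quotMap Scheme.fppfPrecoverage G aX),
      FibCat.IsTwoCartOver (AlgSt.ofSpMap ((AlgSp.yon S).map aX.act))
        (AlgSt.ofSpMap ((AlgSp.yon S).map (CartesianMonoidalCategory.snd G X))) e := by
  exact ⟨cell aX, isTwoCartOver_cell⟩

end Groth.Agent.S13575
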