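import Groth.Statements.S13578
import Groth.Agent.DTenLib.ProKoszulD
import Groth.Agent.DTenLib.Val

set_option autoImplicit false
universe u
open CategoryTheory CategoryTheory.Limits MonoidalCategory
attribute [local instance] HasDerivedCategory.standard
open DTen

namespace Groth.Agent.S13578

/-- Let `A` be a Noetherian commutative ring (the derived tensor product on `D(A)` being assumed to
exist and to be computed by K-flat complexes), `I` an ideal and `M` a finite `A`-module. Then there
is an integer `n > 0` such that the inclusion `I^n M ⟶ M`, viewed in `D(A)` in degree `0`, factors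
through the canonical morphism `I ⊗^L M ⟶ M` (the map `I ⊗^L M ⟶ A ⊗^L M` induced by `I ⊆ A`,
followed by the unit isomorphism). -/
theorem result (A : Type u) [CommRing A] [IsNoetherianRing A]
    [DTen.HasLTen A] [DTen.KFlatComputes A] (I : Ideal A) (M : Type u) [AddCommGroup M] [Module A M]
    [Module.Finite A M] :
    ∃ (n : ℕ) (_ : 0 < n)
      (g : DerivedCategory.Q.obj ((HomologicalComplex.single (ModuleCat.{u} A) (ComplexShape.up ℤ) 0).obj
              (ModuleCat.of A ↥(I ^ n • (⊤ : Submodule A M)))) ⟶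
            (DTen.LTen₂ A).obj (DerivedCategory.Q.obj ((HomologicalComplex.single (ModuleCat.{u} A) (ComplexShape.up ℤ) 0).obj
              (ModuleCat.of A ↥I)),
              DerivedCategory.Q.obj ((HomologicalComplex.single (ModuleCat.{u} A) (ComplexShape.up ℤ) 0).obj
              (ModuleCat.of A M)))),
      g ≫ (DTen.LTen₂ A).map (Prod.mkHom
              (DerivedCategory.Q.map ((HomologicalComplex.single (ModuleCat.{u} A) (ComplexShape.up ℤ) 0).map
                (ModuleCat.ofHom I.subtype)))
              (𝟙 _)) ≫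
          (DTen.unitL A).app (DerivedCategory.Q.obj ((HomologicalComplex.single (ModuleCat.{u} A) (ComplexShape.up ℤ) 0).obj
              (ModuleCat.of A M))) =
        DerivedCategory.Q.map ((HomologicalComplex.single (ModuleCat.{u} A) (ComplexShape.up ℤ) 0).map
          (ModuleCat.ofHom (I ^ n • (⊤ : Submodule A M)).subtype)) := by
  let U := HomologicalComplex.single (ModuleCat.{u} A) (ComplexShape.up ℤ) 0
  let M₀ := U.obj (ModuleCat.of A M)
  let q := fun k => U.map (DTenLib.ProKoszul.qmap I k)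
  let ι := U.map (ModuleCat.ofHom I.subtype)
  have hz : ModuleCat.ofHom I.subtype ≫ DTenLib.ProKoszul.qmap I 0 = 0 := by
    ext x
    refine (Submodule.Quotient.mk_eq_zero _).2 ?_
    show (x : A) ∈ I ^ (0 + 1) • (⊤ : Submodule A A)
    rw [smul_eq_mul, Ideal.mul_top, zero_add, pow_one]
    exact x.2
  let S : ShortComplex (ModuleCat.{u} A) := ShortComplex.mk _ _ hz
  have hS : S.ShortExact :=
    { exact := by
        refine (ShortComplex.ShortExact.moduleCat_exact_iff_function_exact S).2 fun x => ?_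
        constructor
        · intro hx
          have hx' : x ∈ I ^ (0 + 1) • (⊤ : Submodule A A) := (Submodule.Quotient.mk_eq_zero _).1 hx
          rw [smul_eq_mul, Ideal.mul_top, zero_add, pow_one] at hx'
          exact ⟨⟨x, hx'⟩, rfl⟩
        · rintro ⟨y, rfl⟩
          exact congr($hz y)
      mono_f := (ModuleCat.mono_iff_injective _).2 Subtype.coe_injective
      epi_g := (ModuleCat.epi_iff_surjective _).2 (Submodule.mkQ_surjective _) }
  have hT := DerivedCategory.triangleOfSES_distinguished (hS.map_of_exact U)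
  have hex := DTenLib.homExact_tensorRightD (DerivedCategory.Q.obj M₀) _ hT
  obtain ⟨m, hm, b, hb, -⟩ := DTenLib.ProKoszul.isProIso_εLeft I M₀ 0 0
    (fun i hi => HomologicalComplex.isZero_single_obj_X _ 0 _ i (by omega))
    (fun i => by
      by_cases hi : i = 0
      · subst hi
        exact Module.Finite.equiv (HomologicalComplex.singleObjXSelf (ComplexShape.up ℤ) 0
          (ModuleCat.of A M)).toLinearEquiv.symm
      · haveI := ModuleCat.subsingleton_of_isZero
          (HomologicalComplex.isZero_single_obj_X (ComplexShape.up ℤ) 0 (ModuleCat.of A M) i hi)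
        exact Module.Finite.of_finite) 0
  refine ⟨m + 1, m.succ_pos, ?_⟩
  let W := U.obj (ModuleCat.of A ↥(I ^ (m + 1) • (⊤ : Submodule A M)))
  let incl : W ⟶ M₀ := U.map (ModuleCat.ofHom (I ^ (m + 1) • (⊤ : Submodule A M)).subtype)
  haveI h1 : IsIso ((DTen.ε A).app (𝟙_ (DRing.Cx A), M₀)) :=
    DTenLib.isIso_ε _ _ (Or.inl DTenLib.kf_unit)
  let y := DerivedCategory.Q.map (incl ≫ (λ_ M₀).inv) ≫ inv ((DTen.ε A).app (𝟙_ (DRing.Cx A), M₀))
  have hv : incl ≫ (λ_ M₀).inv ≫ (q m ▷ M₀) = 0 := by
    have hr : ∀ r ∈ I ^ (m + 1), r • ((λ_ M₀).inv ≫ (q m ▷ M₀)) = 0 := by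
      intro r hr
      rw [← Linear.comp_smul]
      have h2 : r • (q m ▷ M₀) = (r • q m) ▷ M₀ := (DTenLib.ProKoszul.T_map_smul M₀ r (q m)).symm
      rw [h2, ← Category.comp_id (q m), ← Linear.comp_smul, show r • 𝟙 (U.obj ((CohIII.adicSystem I (ModuleCat.of A A)).obj (Opposite.op m))) = 0 from
        DTenLib.ProKoszul.smul_qSys I m hr, comp_zero]
      exact (congrArg (_ ≫ ·) ((DTenLib.ProKoszul.T M₀).map_zero _ _)).trans comp_zero
    refine HomologicalComplex.from_single_hom_ext ?_
    rw [← cancel_epi (HomologicalComplex.singleObjXSelf (ComplexShape.up ℤ) 0 _).inv]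
    let v := (HomologicalComplex.singleObjXSelf (ComplexShape.up ℤ) 0 (ModuleCat.of A M)).inv ≫
      ((λ_ M₀).inv ≫ (q m ▷ M₀)).f 0
    have hv0 : ∀ x ∈ I ^ (m + 1) • (⊤ : Submodule A M), v.hom x = 0 := by
      intro x hx
      refine Submodule.smul_induction_on hx (fun r hr' z _ => ?_) fun x y hx hy => by rw [map_add, hx, hy, add_zero]
      rw [map_smul]
      exact congr($(HomologicalComplex.congr_hom (hr r hr') 0)
        ((HomologicalComplex.singleObjXSelf (ComplexShape.up ℤ) 0 (ModuleCat.of A M)).inv z))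
    rw [HomologicalComplex.zero_f, comp_zero, HomologicalComplex.comp_f]
    simp only [incl, U, HomologicalComplex.single_map_f_self, Category.assoc, Iso.inv_hom_id_assoc]
    ext x
    exact hv0 x.1 x.2
  have hy : y ≫ (DTen.tensorRightD A (DerivedCategory.Q.obj M₀)).map (DerivedCategory.Q.map (q 0)) = 0 := by
    haveI := DTenLib.isIso_symm_app (DerivedCategory.Q.obj M₀)
      (DerivedCategory.Q.obj (U.obj ((CohIII.adicSystem I (ModuleCat.of A A)).obj (Opposite.op 0))))
    rw [← cancel_mono ((DTen.symm A).app (DerivedCategory.Q.obj M₀,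
      DerivedCategory.Q.obj (U.obj ((CohIII.adicSystem I (ModuleCat.of A A)).obj (Opposite.op 0))))), zero_comp,
      Category.assoc]
    have n1 : (DTen.tensorRightD A (DerivedCategory.Q.obj M₀)).map (DerivedCategory.Q.map (q 0)) ≫
        (DTen.symm A).app (DerivedCategory.Q.obj M₀, _) =
        (DTen.symm A).app (DerivedCategory.Q.obj M₀, DTen.unit A) ≫
          (DTen.LTen₂ A).map (Prod.mkHom (𝟙 _) (DerivedCategory.Q.map (q 0))) :=
      (DTen.symm A).naturality (Prod.mkHom (𝟙 (DerivedCategory.Q.obj M₀)) (DerivedCategory.Q.map (q 0)))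
    have n2 : DerivedCategory.Q.map (q 0) = DerivedCategory.Q.map (q m) ≫
        DerivedCategory.Q.map (U.map (ARSys.tr (CohIII.adicSystem I (ModuleCat.of A A)) hm)) := by
      rw [← Functor.map_comp, ← Functor.map_comp, DTenLib.ProKoszul.qmap_tr]
    have n3 : ((DTen.LTen A).obj (DerivedCategory.Q.obj M₀)).map (DerivedCategory.Q.map (q 0)) =
        (DTen.ε A).app (M₀, 𝟙_ (DRing.Cx A)) ≫ DerivedCategory.Q.map (M₀ ◁ q m) ≫ b := by
      rw [n2, Functor.map_comp]
      refine (congrArg (_ ≫ ·) hb.symm).trans ?_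
      rw [← Category.assoc, ← Category.assoc]
      exact congrArg (· ≫ b) ((DTen.εLeft A M₀).naturality (q m))
    refine (congrArg (y ≫ ·) n1).trans ?_
    show y ≫ (DTen.symm A).app (DerivedCategory.Q.obj M₀, DTen.unit A) ≫
      ((DTen.LTen A).obj (DerivedCategory.Q.obj M₀)).map (DerivedCategory.Q.map (q 0)) = 0
    rw [n3]
    erw [reassoc_of% (DTen.symm_fac A M₀ (𝟙_ (DRing.Cx A)))]
    simp only [y, Category.assoc, IsIso.inv_hom_id_assoc]
    rw [← Functor.map_comp_assoc, ← Functor.map_comp_assoc]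
    have hn : (DTen.braidCx (𝟙_ (DRing.Cx A)) M₀).hom ≫ (M₀ ◁ q m) =
        (q m ▷ M₀) ≫ (DTen.braidCx _ M₀).hom := by
      rw [← MonoidalCategory.id_tensorHom, ← MonoidalCategory.tensorHom_id]
      exact (DTen.braidCx_naturality (q m) (𝟙 M₀)).symm
    simp only [Category.assoc]
    rw [hn, reassoc_of% hv, zero_comp, Functor.map_zero, zero_comp]
  obtain ⟨g, hg⟩ := hex.2 _ y hy
  refine ⟨g, ?_⟩
  rw [DTen.unitL_app A M₀]
  refine (Category.assoc _ _ _).symm.trans ?_
  refine (congrArg (· ≫ _) hg).trans ?_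
  show (DerivedCategory.Q.map (incl ≫ (λ_ M₀).inv) ≫ inv ((DTen.ε A).app (𝟙_ (DRing.Cx A), M₀))) ≫ _ = _
  rw [Category.assoc, IsIso.inv_hom_id_assoc, ← Functor.map_comp, Category.assoc, Iso.inv_hom_id, Category.comp_id]

end Groth.Agent.S13578
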