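import Groth.Statements.S13580
import Groth.Agent.ExtZLocLib.Basic
import Groth.Agent.S13581

set_option autoImplicit false
set_option backward.isDefEq.respectTransparency false
set_option backward.isDefEq.respectTransparency.types false
universe w' w u
open CategoryTheory CategoryTheory.Limits
open ExtSupp

namespace Groth.Agent.S13580

/-- Let `U`, `V` be objects of a ringed site which together cover it, with `V` subterminal (every object
has at most one morphism to `V`, so that `V` is an open of the topos and the closed complement `Z`
of `U` is contained in it), and let `M`, `N` be sheaves of modules. Then `Ext^i_Z(M, N)` computed on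
the whole site is isomorphic to `Ext^i_{Z}(V; M|_V, N|_V)`, the Ext group with supports computed on
the localised site over `V` with support the complement of `U × V ⟶ V`. Existence of an isomorphism
of groups in each degree only. (The published statement is for a ringed space, where every open set
is subterminal, a locally closed `Z` and an isomorphism of cohomological functors; this row is the
closed case on a ringed site, degree by degree, with the subterminality of `V` made an explicit
hypothesis. Without the covering hypothesis the statement fails, e.g. for `V = U`; without the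
subterminality of `V` it fails already in degree `0`, because restricting to the localised site over
an object that receives two different morphisms from one object can enlarge the group of sections.) -/
theorem result {C : Type u} [SmallCategory C] [HasBinaryProducts C]
    {J : GrothendieckTopology C} {O : Sheaf J CommRingCat.{u}} [HasExt.{w} (ModSite.Mod O)]
    (U V : C) [HasExt.{w'} (ModSite.Mod (O.over V))]
    (hV : ∀ X : C, Subsingleton (X ⟶ V)) (hUV : J.CoversTop (fun b : Bool => cond b U V)) (M N : ModSite.Mod O)
    (i : ℕ) :
    Nonempty (ExtSupp.ExtZ U M N i ≃+ ExtSupp.ExtZover V (Over.mk (prod.snd : U ⨯ V ⟶ V)) M N i) := by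
  let Q := (ModSite.quotOn O U).obj M
  haveI : IsIso ((ModSite.extZeroAdj O V).counit.app Q) :=
    ExtZLocLib.isIso_counit_quot V hV hUV
  let c : ExtSupp.openMod V Q ≅ Q := asIso ((ModSite.extZeroAdj O V).counit.app Q)
  obtain ⟨e⟩ := ExtZLocLib.nonempty_restr_quot_iso (U := U) (M := M) V
  obtain ⟨e₂⟩ := Groth.Agent.S13581.result V Q N i
  have bij : ∀ {A : Type (u+1)} [Category.{u} A] [Abelian A] [HasExt.{w'} A] {X X' : A} (φ : X ≅ X') (Y : A),
      Nonempty (Abelian.Ext.{w'} X' Y i ≃+ Abelian.Ext.{w'} X Y i) := fun {A} _ _ _ {X X'} φ Y =>
    ⟨{ toFun := fun x => (Abelian.Ext.mk₀ φ.hom).comp x (zero_add i)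
       invFun := fun x => (Abelian.Ext.mk₀ φ.inv).comp x (zero_add i)
       left_inv := fun x => by simp
       right_inv := fun x => by simp
       map_add' := fun x y => by simp }⟩
  have bij' : ∀ {A : Type (u+1)} [Category.{u} A] [Abelian A] [HasExt.{w} A] {X X' : A} (φ : X ≅ X') (Y : A),
      Nonempty (Abelian.Ext.{w} X' Y i ≃+ Abelian.Ext.{w} X Y i) := fun {A} _ _ _ {X X'} φ Y =>
    ⟨{ toFun := fun x => (Abelian.Ext.mk₀ φ.hom).comp x (zero_add i)
       invFun := fun x => (Abelian.Ext.mk₀ φ.inv).comp x (zero_add i)
       left_inv := fun x => by simp
       right_inv := fun x => by simp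
       map_add' := fun x y => by simp }⟩
  obtain ⟨e₁⟩ := bij' c N
  obtain ⟨e₃⟩ := bij e.symm ((ModSite.restr O V).obj N)
  exact ⟨(e₁.trans e₂).trans e₃⟩

end Groth.Agent.S13580
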