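import Groth.Statements.S13585
import Groth.Agent.QSecLib.Scheme
import Groth.Agent.S15539
import Groth.Agent.ConormalSecLib.Split
import Groth.Agent.ExtPowLib.Pullback
import Groth.Agent.OmegaAffLib.Universal
import Groth.Agent.OmegaAffLib.General

set_option autoImplicit false
universe u
open CategoryTheory CategoryTheory.Limits AlgebraicGeometry
open Canon

namespace Groth.Agent.S13585

/-- Let `f : X ⟶ Y` and `g : Y ⟶ Z` be morphisms of schemes with `g` smooth of relative dimension `n`,
and let `Γ : X ⟶ X ×_Z Y` be the graph of `f`. Then `Γ` is a regular immersion of codimension `n`,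
and the top exterior power of its conormal sheaf is `f^* ω_{Y/Z}`, where `ω_{Y/Z} = Λ^n Ω_{Y/Z}`;
that is, the canonical sheaf of the immersion `Γ` is the dual of `f^* ω_{Y/Z}`. (This row takes `X`
locally Noetherian and `g` separated, so that the graph is a closed immersion and the criterion for
sections of smooth morphisms over a locally Noetherian base, through which the published proof goes,
applies; the published statement has arbitrary preschemes.) -/
theorem result {X Y Z : Scheme.{u}} [IsLocallyNoetherian X]
    (f : X ⟶ Y) (g : Y ⟶ Z) (n : ℕ) [SmoothOfRelativeDimension n g] [IsSeparated g]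
    (ωY : Y.Modules) (hω : Canon.IsTopDiff g n ωY) :
    RegImm.IsRegularImmersionOfCodim .regular n (pullback.lift (𝟙 X) f (Category.id_comp (f ≫ g))) ∧
      ExtPow.IsExtPow n (Omega.conormal (pullback.lift (𝟙 X) f (Category.id_comp (f ≫ g))))
        ((Scheme.Modules.pullback f).obj ωY) := by
  let Γ' : X ⟶ pullback (f ≫ g) g := pullback.lift (𝟙 X) f (Category.id_comp (f ≫ g))
  let p := pullback.fst (f ≫ g) g
  let q := pullback.snd (f ≫ g) g
  show RegImm.IsRegularImmersionOfCodim .regular n Γ' ∧
    ExtPow.IsExtPow n (Omega.conormal Γ') ((Scheme.Modules.pullback f).obj ωY)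
  have hp : Γ' ≫ p = 𝟙 X := pullback.lift_fst _ _ _
  have hq : Γ' ≫ q = f := pullback.lift_snd _ _ _
  haveI := smoothOfRelativeDimension_isStableUnderBaseChange n
  haveI : SmoothOfRelativeDimension n p :=
    MorphismProperty.of_isPullback (P := @SmoothOfRelativeDimension n) (IsPullback.of_hasPullback (f ≫ g) g).flip
      inferInstance
  haveI : Smooth p := SmoothOfRelativeDimension.smooth n p
  haveI : IsImmersion Γ' := QSecLib.isImmersion_of_comp_eq_id p Γ' hp
  haveI : IsOpenImmersion (Γ' ≫ p) := by rw [hp]; infer_instance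
  refine ⟨QSecLib.regularOfCodim_of_smooth p Γ' n fun z =>
    FibDimLib.fibreDimAt_smoothOfRelativeDimension n p _, ?_⟩
  haveI : QuasiCompact Γ' := by
    haveI : QuasiCompact (Γ' ≫ p) := by rw [hp]; infer_instance
    exact QuasiCompact.of_comp Γ' p
  have h1 := Groth.Agent.S15539.result Y Z (pullback (f ≫ g) g) X g p q (f ≫ g)
    (IsPullback.of_hasPullback (f ≫ g) g).flip n ωY hω
  have hd : OmegaSh.IsUniversal (OmegaSh.dOmega p) := OmegaAffLib.isUniversal_dOmega
  haveI : Coh.IsQCoh (Omega.sheaf p) := OmegaAffLib.isQCoh_of_isUniversal hd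
  obtain ⟨e⟩ := ConormalSecLib.nonempty_conormal_iso Γ' p hp hd
  exact ExtPowLib.isExtPow_of_iso_left e.symm (ExtPowLib.isExtPow_of_iso
    ((Scheme.Modules.pullbackComp Γ' q).app ωY ≪≫ (Scheme.Modules.pullbackCongr hq).app ωY)
    (ExtPowLib.isExtPow_pullback Γ' h1))

end Groth.Agent.S13585
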