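import Groth.Statements.S13589
import Groth.Agent.DTenLib.SplitInverse
import Mathlib.CategoryTheory.Linear.LinearFunctor

set_option autoImplicit false
universe u
open CategoryTheory CategoryTheory.Limits MonoidalCategory
attribute [local instance] HasDerivedCategory.standard
open DTen

namespace Groth.Agent.S13589

open DTenLib.Point

variable {A : Type u} [CommRing A] {P : ObjectProperty (Dual.D A)} [P.IsTriangulated]
  (F : P.FullSubcategory ⥤ P.FullSubcategory) [F.CommShift ℤ] [F.Additive] [F.Linear A]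

noncomputable def homP (Y Z : P.FullSubcategory) : (Y ⟶ Z) ≃ₗ[A] (Y.obj ⟶ Z.obj) where
  toFun f := f.hom
  invFun f := ObjectProperty.homMk f
  map_add' _ _ := rfl
  map_smul' _ _ := rfl
  left_inv _ := rfl
  right_inv _ := rfl

/-- `F` on graded maps. -/
noncomputable def mapEquiv [F.Full] [F.Faithful] (Y Z : P.FullSubcategory) (i : ℤ) :
    (Y.obj ⟶ Z.obj⟦i⟧) ≃ₗ[A] ((F.obj Y).obj ⟶ (F.obj Z).obj⟦i⟧) :=
  ((Linear.homCongr A (Iso.refl Y.obj) ((P.ι.commShiftIso i).app Z).symm).trans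
    (homP Y (Z⟦i⟧)).symm).trans
  (((LinearEquiv.ofBijective (F.mapLinearMap A (X := Y) (Y := Z⟦i⟧))
      ⟨fun _ _ h => F.map_injective h, fun h => F.map_surjective h⟩).trans
    (Linear.homCongr A (Iso.refl (F.obj Y)) ((F.commShiftIso i).app Z))).trans
  ((homP (F.obj Y) ((F.obj Z)⟦i⟧)).trans
    (Linear.homCongr A (Iso.refl (F.obj Y).obj) ((P.ι.commShiftIso i).app (F.obj Z)))))

variable (m : Ideal A) [m.IsMaximal]

theorem endo_scalar (ω : sg (kM m) 0 ⟶ sg (kM m) 0) : ∃ r : A, ω = r • 𝟙 _ := by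
  obtain ⟨w, rfl⟩ := (DerivedCategory.singleFunctor (ModuleCat.{u} A) 0).map_surjective ω
  obtain ⟨r, hr⟩ := Submodule.Quotient.mk_surjective m (w.hom (Submodule.Quotient.mk 1 : A ⧸ m))
  refine ⟨r, ?_⟩
  rw [← CategoryTheory.Functor.map_id, ← Functor.map_smul]
  congr 1
  refine ModuleCat.hom_ext (LinearMap.ext fun x => ?_)
  obtain ⟨y, rfl⟩ := Submodule.Quotient.mk_surjective _ x
  change w.hom (Submodule.Quotient.mk y : A ⧸ m) = r • (Submodule.Quotient.mk y : A ⧸ m)
  have h : (Submodule.Quotient.mk y : A ⧸ m) = y • (Submodule.Quotient.mk 1 : A ⧸ m) := by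
    rw [← Submodule.Quotient.mk_smul, smul_eq_mul, mul_one]
  rw [h, map_smul, ← hr, ← Submodule.Quotient.mk_smul, ← Submodule.Quotient.mk_smul,
    ← Submodule.Quotient.mk_smul, smul_eq_mul, smul_eq_mul, smul_eq_mul, mul_comm, mul_one]

/-- The value at `1` of maps `A ⟶ k`. -/
theorem line (x y : sg (ModuleCat.of A A) 0 ⟶ sg (kM m) 0) (hx : x ≠ 0) : ∃ r : A, y = r • x := by
  let E := (sgH (kM m) 0).toLinearEquiv
  obtain ⟨c₁, hc₁⟩ := Submodule.Quotient.mk_surjective m (show A ⧸ m from E ((evA _ 0 x).hom (1 : A)))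
  obtain ⟨c₂, hc₂⟩ := Submodule.Quotient.mk_surjective m (show A ⧸ m from E ((evA _ 0 y).hom (1 : A)))
  have hc₁m : c₁ ∉ m := fun h => hx (evA_injective 0 (E.map_eq_zero_iff.1
    (hc₁.symm.trans ((Submodule.Quotient.mk_eq_zero m).2 h))))
  obtain ⟨r', hr'⟩ := exists_inv m hc₁m
  refine ⟨c₂ * r', sub_eq_zero.1 (evA_injective 0 (E.map_eq_zero_iff.1 ?_))⟩
  have e1 : (evA (ModuleCat.of A A) 0 (y - (c₂ * r') • x)).hom (1 : A) =
      (evA _ 0 y).hom (1 : A) - (c₂ * r') • (evA _ 0 x).hom (1 : A) := by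
    simp [evA, Functor.map_sub, Functor.map_smul]
  rw [e1, map_sub, map_smul, sub_eq_zero]
  refine hc₂.symm.trans (Eq.trans ?_ (congrArg ((c₂ * r') • ·) hc₁))
  change _ = (Submodule.Quotient.mk (c₂ * r' * c₁) : A ⧸ m)
  rw [Submodule.Quotient.eq]
  rw [show c₂ - c₂ * r' * c₁ = -c₂ * (r' * c₁ - 1) by ring]
  exact m.mul_mem_left _ hr'

omit [m.IsMaximal] in
theorem nontrivial_line (hm : m ≠ ⊤) : Nontrivial (sg (ModuleCat.of A A) 0 ⟶ sg (kM m) 0) := by
  obtain ⟨f, hf⟩ := exists_evA_eq (X := sg (kM m) 0) 0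
    ((sgH (kM m) 0).inv.hom (Submodule.Quotient.mk 1 : A ⧸ m))
  refine ⟨f, 0, fun h => hm ((Ideal.eq_top_iff_one m).2 ((Submodule.Quotient.mk_eq_zero m).1 ?_))⟩
  apply (sgH (kM m) 0).symm.toLinearEquiv.injective
  rw [map_zero]
  refine hf.symm.trans ?_
  simp [h, evA]


/-- Let `A` be a Noetherian commutative ring and `F` an `A`-linear triangulated equivalence from
`D^b_{Coh}(A)` (the full subcategory of `D(A)` of objects with bounded cohomology consisting of
finite `A`-modules, a triangulated subcategory) to itself. Then `F(A)` is an invertible object of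
`D(A)`: there is an object `L` with `F(A) ⊗^L L ≅ A` and `L ⊗^L F(A) ≅ A`. The membership of `A[0]`
in `D^b_{Coh}(A)` and the fact that this subcategory is triangulated are taken as (true) hypotheses.
(The published statement asks only for an `A`-linear equivalence of categories; this row takes the
equivalence compatible with shifts and distinguished triangles, which is what the published proof
uses and how the result is applied.) -/
theorem result (A : Type u) [CommRing A]
    [IsNoetherianRing A] [DTen.HasLTen A] [DTen.KFlatComputes A]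
    (P : ObjectProperty (Dual.D A))
    (hP : ∀ K : Dual.D A, P K ↔
      ((∀ i : ℤ, Module.Finite A (Dual.HD A K i)) ∧ ∃ a b : ℤ, ∀ i : ℤ, (i < a ∨ b < i) → Subsingleton (Dual.HD A K i)))
    [P.IsTriangulated]
    (F : P.FullSubcategory ⥤ P.FullSubcategory) [F.CommShift ℤ] [F.IsTriangulated] [F.IsEquivalence]
    [F.Additive] [F.Linear A]
    (hA : P (DTen.unit A)) :
    DTen.IsInvertible A (F.obj ⟨DTen.unit A, hA⟩).obj := by
  have hPb : ∀ K : P.FullSubcategory, (∀ i, Module.Finite A ((hH A i).obj K.obj)) ∧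
      ∃ a b : ℤ, ∀ i, (i < a ∨ b < i) → IsZero ((hH A i).obj K.obj) := fun K => by
    obtain ⟨h1, a, b, h2⟩ := (hP K.obj).1 K.property
    exact ⟨h1, a, b, fun i hi => @ModuleCat.isZero_of_subsingleton _ _ _ (h2 i hi)⟩
  let AP : P.FullSubcategory := ⟨DTen.unit A, hA⟩
  obtain ⟨hfin, a₀, b₀, hab⟩ := hPb (F.obj AP)
  refine DTenLib.SplitInverse.isInvertible ?_ hfin b₀ fun i hi => hab i (Or.inr hi)
  intro m hm
  have hT0 : P (sg (kM m) 0) := (hP _).2 ⟨fun i => by
    by_cases hi : i = 0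
    · subst hi
      exact Module.Finite.equiv (M := A ⧸ m) (sgH (kM m) 0).symm.toLinearEquiv
    · haveI : Subsingleton (Dual.HD A (sg (kM m) 0) i) := ModuleCat.subsingleton_of_isZero (isZero_sg hi)
      exact Module.Finite.of_finite, 0, 0, fun i hi => ModuleCat.subsingleton_of_isZero (isZero_sg (by omega))⟩
  let TP : P.FullSubcategory := ⟨sg (kM m) 0, hT0⟩
  let X := (F.obj TP).obj
  have hmX : ∀ r ∈ m, r • 𝟙 X = 0 := fun r hr => by
    have h0 : r • 𝟙 TP = 0 := ObjectProperty.hom_ext _ (smul_id_sg m hr 0)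
    have h1 : r • 𝟙 (F.obj TP) = 0 := by
      rw [← CategoryTheory.Functor.map_id, ← Functor.map_smul, h0, Functor.map_zero]
    exact congrArg InducedCategory.Hom.hom h1
  have hne : ¬ IsZero X := fun hz => by
    have h1 : 𝟙 (F.obj TP) = 0 := ObjectProperty.hom_ext _ (hz.eq_of_src _ _)
    rw [← CategoryTheory.Functor.map_id, ← F.map_zero] at h1
    have h2 := congrArg (fun f : TP ⟶ TP => (hH A 0).map f.hom) (F.map_injective h1)
    have h3 : (hH A 0).map (𝟙 (sg (kM m) 0)) = 0 := h2.trans ((hH A 0).map_zero _ _)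
    rw [CategoryTheory.Functor.map_id] at h3
    haveI := ModuleCat.subsingleton_of_isZero ((IsZero.iff_id_eq_zero _).2 h3)
    haveI : Subsingleton (A ⧸ m) := (sgH (kM m) 0).toLinearEquiv.symm.toEquiv.subsingleton
    exact hm.ne_top (Ideal.Quotient.subsingleton_iff.1 inferInstance)
  have hneg : ∀ j : ℤ, j < 0 → Subsingleton (X ⟶ X⟦j⟧) := fun j hj => by
    haveI : Subsingleton (sg (kM m) 0 ⟶ (sg (kM m) 0)⟦j⟧) := by
      refine subsingleton_of_forall_eq 0 fun f => ?_
      rw [← cancel_mono (shiftSg (kM m) 0 j).hom, zero_comp]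
      haveI : DerivedCategory.IsLE (sg (kM m) 0) 0 := inferInstance
      haveI : DerivedCategory.IsGE (sg (kM m) (0 - j)) (0 - j) := inferInstance
      exact DerivedCategory.TStructure.t.zero _ 0 (0 - j) (by omega)
    exact (mapEquiv F TP TP j).symm.toEquiv.subsingleton
  have hend : ∀ e : X ⟶ X, ∃ r : A, e = r • 𝟙 X := fun e => by
    obtain ⟨g, hg⟩ := F.map_surjective (ObjectProperty.homMk e : F.obj TP ⟶ F.obj TP)
    obtain ⟨r, hr⟩ := endo_scalar m g.hom
    refine ⟨r, ?_⟩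
    have h1 : g = r • 𝟙 TP := ObjectProperty.hom_ext _ hr
    rw [h1, Functor.map_smul, CategoryTheory.Functor.map_id] at hg
    exact (congrArg InducedCategory.Hom.hom hg).symm
  obtain ⟨c, ⟨eX⟩⟩ := exists_iso_sg m (hPb (F.obj TP)).2 hne hmX hneg hend
  let eA : DTen.unit A ≅ sg (ModuleCat.of A A) 0 :=
    ((DerivedCategory.singleFunctorIsoCompQ (ModuleCat.{u} A) 0).app _).symm
  let φ : ∀ c' : ℤ, ((F.obj AP).obj ⟶ sg (kM m) c') ≃ₗ[A]
      (sg (ModuleCat.of A A) 0 ⟶ sg (kM m) (0 - (c - c'))) := fun c' =>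
    ((Linear.homCongr A (Iso.refl _) ((shiftFunctor _ (c - c')).mapIso eX ≪≫ shiftSg (kM m) c (c - c') ≪≫
      eqToIso (by rw [sub_sub_cancel]))).symm.trans (mapEquiv F AP TP (c - c')).symm).trans
      (Linear.homCongr A eA (shiftSg (kM m) 0 (c - c')))
  refine ⟨c, exists_local_generator m hfin ⟨a₀, b₀, hab⟩ c (fun c' hc' => ?_) ?_ ?_⟩
  · haveI : Subsingleton (sg (ModuleCat.of A A) 0 ⟶ sg (kM m) (0 - (c - c'))) :=
      subsingleton_of_forall_eq 0 fun f => hom_eq_zero_of_ne m (by omega) f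
    exact (φ c').toEquiv.subsingleton
  · let ψ := (φ c).trans (Linear.homCongr A (Iso.refl _) (eqToIso (by simp) :
      sg (kM m) (0 - (c - c)) ≅ sg (kM m) 0))
    haveI := nontrivial_line m hm.ne_top
    exact ψ.toEquiv.nontrivial
  · intro x y hx
    let ψ := (φ c).trans (Linear.homCongr A (Iso.refl _) (eqToIso (by simp) :
      sg (kM m) (0 - (c - c)) ≅ sg (kM m) 0))
    obtain ⟨r, hr⟩ := line m (ψ x) (ψ y) fun h => hx (ψ.map_eq_zero_iff.1 h)
    exact ⟨r, ψ.injective (hr.trans (ψ.map_smul r x).symm)⟩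

end Groth.Agent.S13589
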