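import Groth.Statements.S13597
import Groth.Agent.QuotLib.GeomOrbit
import Groth.Agent.QuotLib.Exists
import Groth.Agent.QuotLib.Props

set_option autoImplicit false
universe u
open CategoryTheory AlgebraicGeometry
open SGA1

namespace Groth.Agent.S13597

set_option backward.isDefEq.respectTransparency false
set_option backward.isDefEq.respectTransparency.types false

/-- The automorphism of the residue field given by an element fixing the point. -/
noncomputable abbrev theta {X : Scheme.{u}} {G : Type u} [Group G] (ρ : G →* Aut X) {x : X} (g : G)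
    (e : (ρ g).hom.base x = x) : X.residueField x ⟶ X.residueField x :=
  (X.residueFieldCongr e).inv ≫ (ρ g).hom.residueFieldMap x

theorem exists_theta {X Y : Scheme.{u}} {G : Type u} [Group G] [Finite G] (ρ : G →* Aut X) (p : X ⟶ Y)
    (hp : SGA1.IsQuot ρ p) (x : X) (L : Type u) [Field L] (σ₁ σ₂ : X.residueField x ⟶ CommRingCat.of L)
    (h : p.residueFieldMap x ≫ σ₁ = p.residueFieldMap x ≫ σ₂) :
    ∃ (g : G) (e : (ρ g).hom.base x = x), σ₂ = theta ρ g e ≫ σ₁ := by
  have hp' : ∀ σ : X.residueField x ⟶ CommRingCat.of L, (Spec.map σ ≫ X.fromSpecResidueField x) ≫ p =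
      Spec.map (p.residueFieldMap x ≫ σ) ≫ Y.fromSpecResidueField (p x) := fun σ => by
    rw [Spec.map_comp, Category.assoc, Category.assoc, Scheme.Hom.SpecMap_residueFieldMap_fromSpecResidueField]
  obtain ⟨g, hg⟩ := QuotLib.geomOrbit hp (x := Spec.map σ₁ ≫ X.fromSpecResidueField x)
    (x' := Spec.map σ₂ ≫ X.fromSpecResidueField x) (by rw [hp', hp', h])
  have hpt : ∀ σ : X.residueField x ⟶ CommRingCat.of L,
      (Spec.map σ ≫ X.fromSpecResidueField x) (IsLocalRing.closedPoint L) = x := fun σ => by
    rw [Scheme.Hom.comp_apply]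
    exact Scheme.fromSpecResidueField_apply x _
  have e : (ρ g).hom.base x = x := by
    have := congr($hg (IsLocalRing.closedPoint L))
    rw [hpt, Scheme.Hom.comp_apply, hpt] at this
    exact this.symm
  refine ⟨g, e, Spec.map_injective ?_⟩
  rw [← cancel_mono (X.fromSpecResidueField x), hg, Spec.map_comp, Spec.map_comp, Category.assoc, Category.assoc,
    Category.assoc, ← Scheme.Hom.SpecMap_residueFieldMap_fromSpecResidueField]
  refine congrArg (fun k => Spec.map σ₁ ≫ Spec.map ((ρ g).hom.residueFieldMap x) ≫ k) ?_
  rw [Scheme.residueFieldCongr_inv]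
  exact (Scheme.residueFieldCongr_fromSpecResidueField e.symm).symm

theorem isIntegral_residueFieldMap {X Y : Scheme.{u}} {G : Type u} [Group G] [Finite G] (ρ : G →* Aut X)
    (p : X ⟶ Y) (hp : SGA1.IsQuot ρ p) (x : X) : (p.residueFieldMap x).hom.IsIntegral := by
  haveI := QuotLib.isIntegralHom hp
  let F : Set X := p ⁻¹' {p x}
  have hfin : F.Finite := (Set.finite_range fun g : G => (ρ g).hom x).subset fun z hz =>
    ((QuotLib.orbit_iff hp x z).1 (Eq.symm hz))
  have hsp : ∀ z ∈ F, x ⤳ z → z = x := by
    intro z hz h
    obtain ⟨g, rfl⟩ := (QuotLib.orbit_iff hp x z).1 (Eq.symm hz)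
    obtain ⟨n, hn, hgn⟩ := (isOfFinOrder_of_finite g).exists_pow_eq_one
    have hstep : ∀ m : ℕ, (ρ g).hom x ⤳ (ρ (g ^ (m + 1))).hom x := fun m => by
      induction m with
      | zero => rw [pow_one]
      | succ m ih =>
        refine ih.trans ?_
        have := h.map (ρ (g ^ (m + 1))).hom.continuous
        rwa [QuotLib.act_act, ← pow_succ] at this
    have := hstep (n - 1)
    rw [Nat.sub_add_cancel hn, hgn, QuotLib.act_one] at this
    exact (this.antisymm h).eq
  haveI : IsClosedImmersion (p.asFiberHom x) := by
    refine .of_isPreimmersion _ ?_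
    rw [p.range_asFiberHom]
    refine isClosed_of_closure_subset fun w hw => ?_
    rw [Set.mem_singleton_iff]
    refine (p.fiberι (p x)).isEmbedding.injective ?_
    rw [p.fiberι_asFiber]
    refine hsp _ ?_ ?_
    · show _ ∈ F
      have : p.fiberι (p x) w ∈ Set.range (p.fiberι (p x)) := ⟨w, rfl⟩
      rwa [p.range_fiberι] at this
    · have := (specializes_iff_mem_closure.2 hw).map (p.fiberι (p x)).continuous
      rwa [p.fiberι_asFiber] at this
  haveI : IsIntegralHom (p.fiberToSpecResidueField (p x)) :=
    MorphismProperty.pullback_snd _ _ inferInstance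
  rw [← IsIntegralHom.SpecMap_iff, ← p.asFiberHom_fiberToSpecResidueField x]
  infer_instance

/-- Let a finite group G act on a scheme X and let p : X ⟶ Y be a quotient of X by G (affine,
G-invariant, sections of O_Y = G-invariant sections of O_X). For a point x of X with image y, the
residue field κ(x) is a normal algebraic extension of κ(y) through the map induced by p, and the
stabilizer of x in G maps onto the group of κ(y)-automorphisms of κ(x): every automorphism τ of κ(x)
over κ(y) is the map on residue fields induced by some g ∈ G with g·x = x (composed with the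
identification of the residue fields at g·x and x). -/
theorem result {X Y : Scheme.{u}} {G : Type u}
    [Group G] [Finite G] (ρ : G →* Aut X) (p : X ⟶ Y) (hp : SGA1.IsQuot ρ p) (x : X) :
    (letI := (p.residueFieldMap x).hom.toAlgebra
     Normal (Y.residueField (p.base x)) (X.residueField x)) ∧
    ∀ τ : X.residueField x ≅ X.residueField x,
      p.residueFieldMap x ≫ τ.hom = p.residueFieldMap x →
      ∃ (g : G) (e : (ρ g).hom.base x = x),
        τ.hom = (X.residueFieldCongr e).inv ≫ (ρ g).hom.residueFieldMap x := by
  refine ⟨?_, fun τ hτ => ?_⟩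
  · letI := (p.residueFieldMap x).hom.toAlgebra
    haveI : Algebra.IsIntegral (Y.residueField (p.base x)) (X.residueField x) :=
      ⟨isIntegral_residueFieldMap ρ p hp x⟩
    let L := AlgebraicClosure (X.residueField x)
    haveI : Algebra.IsAlgebraic (Y.residueField (p.base x)) L :=
      Algebra.IsAlgebraic.trans (Y.residueField (p.base x)) (X.residueField x) L
    haveI : IsAlgClosure (Y.residueField (p.base x)) L := ⟨inferInstance, inferInstance⟩
    haveI : Normal (Y.residueField (p.base x)) L := IsAlgClosure.normal _ _
    let ι := IsScalarTower.toAlgHom (Y.residueField (p.base x)) (X.residueField x) L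
    have hE : IntermediateField.normalClosure (Y.residueField (p.base x)) (X.residueField x) L = ι.fieldRange := by
      refine le_antisymm (normalClosure_le_iff.2 fun f => ?_) ι.fieldRange_le_normalClosure
      obtain ⟨g, e, he⟩ := exists_theta ρ p hp x L (CommRingCat.ofHom ι.toRingHom) (CommRingCat.ofHom f.toRingHom)
        (by ext a; exact (ι.commutes a).trans (f.commutes a).symm)
      rintro _ ⟨a, rfl⟩
      exact ⟨(theta ρ g e).hom a, congr($(he.symm).hom a)⟩
    haveI : Normal (Y.residueField (p.base x)) ι.fieldRange := hE ▸ inferInstance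
    let e : ι.fieldRange ≃ₐ[Y.residueField (p.base x)] X.residueField x := (AlgEquiv.ofInjectiveField ι).symm
    exact Normal.of_algEquiv e
  · obtain ⟨g, e, he⟩ := exists_theta ρ p hp x (X.residueField x) (𝟙 _) τ.hom
      (by rw [Category.comp_id]; exact hτ.symm)
    exact ⟨g, e, he.trans (Category.comp_id _)⟩

end Groth.Agent.S13597
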