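import Groth.Statements.S13598
import Groth.Agent.HenselBranchLib.IntegralHens
-- import your own Groth.Agent.* helpers here

set_option autoImplicit false
universe u
open Hensel

namespace Groth.Agent.S13598

/-- For a local ring A, a henselization A ⟶ S of A (S a henselian local ring, the structure map local,
and initial among local homomorphisms from A to henselian local rings) and an ideal I of A inside
the maximal ideal, the quotient S/IS with its induced algebra structure over A/I is a henselization
of A/I. (The local-ring and local-homomorphism instances on the quotients hold automatically; they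
are taken as hypotheses only so that the conclusion can be stated.) -/
theorem result {A S : Type u} [CommRing A] [IsLocalRing A] [CommRing S]
    [IsLocalRing S] [Algebra A S] [IsLocalHom (algebraMap A S)] [Hensel.IsHenselization A S]
    (I : Ideal A) (hI : I ≤ IsLocalRing.maximalIdeal A)
    [IsLocalRing (A ⧸ I)] [IsLocalRing (S ⧸ I.map (algebraMap A S))]
    [IsLocalHom (algebraMap (A ⧸ I) (S ⧸ I.map (algebraMap A S)))] :
    Hensel.IsHenselization (A ⧸ I) (S ⧸ I.map (algebraMap A S)) := by
  haveI : HenselianLocalRing S := Hensel.IsHenselization.henselian (R := A)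
  letI : Algebra S (S ⧸ I.map (algebraMap A S)) := Ideal.Quotient.algebra S
  haveI : Algebra.IsIntegral S (S ⧸ I.map (algebraMap A S)) :=
    ⟨fun x => by obtain ⟨s, rfl⟩ := Ideal.Quotient.mk_surjective x; exact isIntegral_algebraMap⟩
  refine ⟨HenselBranchLib.henselianLocalRing_of_isIntegral' S _, fun T _ _ f hf => ?_⟩
  haveI := hf
  haveI : IsLocalHom (Ideal.Quotient.mk I) :=
    IsLocalHom.of_surjective _ Ideal.Quotient.mk_surjective
  obtain ⟨g, hg, hgu⟩ := Hensel.IsHenselization.universal (R := A) (S := S) T (f.comp (Ideal.Quotient.mk I)) inferInstance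
  have hI' : ∀ s ∈ I.map (algebraMap A S), g s = 0 := fun s hs => by
    refine (Ideal.map_le_iff_le_comap.2 fun a ha => ?_ : I.map (algebraMap A S) ≤ RingHom.ker g) hs
    rw [Ideal.mem_comap, RingHom.mem_ker]
    refine (RingHom.congr_fun hg a).trans ?_
    show f (Ideal.Quotient.mk I a) = 0
    rw [Ideal.Quotient.eq_zero_iff_mem.2 ha, map_zero]
  refine ⟨Ideal.Quotient.lift _ g hI', Ideal.Quotient.ringHom_ext (RingHom.ext fun a => RingHom.congr_fun hg a),
    fun G hG => Ideal.Quotient.ringHom_ext ?_⟩
  rw [hgu (G.comp (Ideal.Quotient.mk _)) (RingHom.ext fun a => RingHom.congr_fun hG (Ideal.Quotient.mk I a))]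
  rfl

end Groth.Agent.S13598
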