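import Groth.Statements.S13599
import Groth.Agent.CycNormalDescLib.Basic
import Groth.Agent.CycC1Lib.Cap

set_option autoImplicit false
set_option backward.isDefEq.respectTransparency false
set_option backward.isDefEq.respectTransparency.types false
universe u
open CategoryTheory AlgebraicGeometry
open CategoryTheory.Limits
open Cyc

namespace Groth.Agent.S13599

/-- Let k be a field, X a separated k-scheme of finite type, and k' a finite normal extension field of
k, with G the group of k-automorphisms of k'; put X' = X ×_k Spec k' with first projection p. The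
group G acts on X' over X (σ acts through Spec σ on the second factor). If Z' is a cycle on X' (an
integer-valued function on the points of X' with locally finite support) invariant under every σ ∈
G, then there is exactly one cycle Z on X with [k' : k]_insep · Z' = p^*Z, where [k' : k]_insep is
the inseparable degree and p^*Z is the flat pullback of cycles along p: its coefficient at x' is Z(p
x') times the length of the Artinian local ring O_{X',x'}/𝔪_{p x'}O_{X',x'} (p has discrete fibres,
so there is no dimension condition; the two auxiliary dimension functions are taken to be zero). -/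
theorem result
    {k : Type u} [Field k] {k' : Type u} [Field k'] [Algebra k k'] [FiniteDimensional k k'] [Normal k k']
    {X : Scheme.{u}} (f : X ⟶ Spec (CommRingCat.of k)) [LocallyOfFiniteType f] [QuasiCompact f]
    [IsSeparated f]
    (Z' : AlgebraicCycle (pullback f (Spec.map (CommRingCat.ofHom (algebraMap k k')))) ℤ)
    (hZ' : ∀ (σ : k' ≃ₐ[k] k')
      (t : pullback f (Spec.map (CommRingCat.ofHom (algebraMap k k'))) ⟶
        pullback f (Spec.map (CommRingCat.ofHom (algebraMap k k')))),
      t ≫ pullback.fst f _ = pullback.fst f _ →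
      t ≫ pullback.snd f _ = pullback.snd f _ ≫ Spec.map (CommRingCat.ofHom σ.toAlgHom.toRingHom) →
      ∀ x', Z' (t.base x') = Z' x') :
    ∃! Z : AlgebraicCycle X ℤ, ∀ x' : ↥(pullback f (Spec.map (CommRingCat.ofHom (algebraMap k k')))),
      (Field.finInsepDegree k k' : ℤ) * Z' x' =
        Cyc.pullFun (pullback.fst f (Spec.map (CommRingCat.ofHom (algebraMap k k'))))
          (fun _ => 0) (fun _ => 0) 0 ⇑Z x' := by
  classical
  let p := CycNormalDescLib.proj k' f
  let q := Field.finInsepDegree k k'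
  have hsurj := CycNormalDescLib.surjective_proj k' f
  choose ξ hξ using hsurj
  let m : ↥(CycNormalDescLib.bc k' f) → ℕ := CycNormalDescLib.mult p
  have hinv : ∀ (x₁ x₂ : ↥(CycNormalDescLib.bc k' f)), p x₁ = p x₂ → Z' x₁ = Z' x₂ ∧ m x₁ = m x₂ := by
    intro x₁ x₂ h
    obtain ⟨σ, rfl⟩ := CycNormalDescLib.exists_act k' f h
    refine ⟨(hZ' σ (CycNormalDescLib.act k' f σ) (CycNormalDescLib.act_fst k' f σ)
      (CycNormalDescLib.act_snd k' f σ) x₁).symm, (CycNormalDescLib.mult_act k' f σ x₁).symm⟩
  let zf : X → ℤ := fun x => ((q / m (ξ x) : ℕ) : ℤ) * Z' (ξ x)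
  have hlf : ∀ z : X, ∃ t ∈ nhds z, Set.Finite (t ∩ zf.support) := by
    intro z
    obtain ⟨V, hV, hzV, -⟩ := exists_isAffineOpen_mem_and_subset (X := X) (x := z) (U := ⊤) trivial
    refine ⟨V, V.isOpen.mem_nhds hzV, ?_⟩
    have hpre : IsAffineOpen (p ⁻¹ᵁ V) := hV.preimage p
    refine ((CycC1Lib.finite_support_inter_affine Z' hpre).image p).subset ?_
    rintro x ⟨hx, hzx⟩
    refine ⟨ξ x, ⟨?_, fun h0 => hzx ?_⟩, hξ x⟩
    · show p (ξ x) ∈ V
      rw [show p (ξ x) = x from hξ x]
      exact hx
    · show ((q / m (ξ x) : ℕ) : ℤ) * Z' (ξ x) = 0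
      rw [h0, mul_zero]
  let Z : AlgebraicCycle X ℤ := ⟨zf, fun _ _ => trivial, fun z _ => hlf z⟩
  have hpull : ∀ (C : X → ℤ) (x' : ↥(CycNormalDescLib.bc k' f)),
      Cyc.pullFun p (fun _ => 0) (fun _ => 0) 0 C x' = C (p x') * (m x' : ℤ) := by
    intro C x'
    simp only [Cyc.pullFun, add_zero, ↓reduceIte]
    rfl
  refine ⟨Z, fun x' => ?_, fun C hC => ?_⟩
  · rw [hpull]
    show (q : ℤ) * Z' x' = ((q / m (ξ (p x')) : ℕ) : ℤ) * Z' (ξ (p x')) * (m x' : ℤ)
    obtain ⟨h1, h2⟩ := hinv (ξ (p x')) x' (hξ _)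
    rw [h1, h2, mul_right_comm, ← Nat.cast_mul,
      Nat.div_mul_cancel (CycNormalDescLib.exists_mult_dvd k' f x').1]
  · ext x
    have h1 := (hC (ξ x)).symm
    rw [hpull] at h1
    have h0 : (m (ξ x) : ℤ) ≠ 0 := Int.ofNat_ne_zero.2 (CycNormalDescLib.exists_mult_dvd k' f (ξ x)).2
    refine mul_right_cancel₀ h0 ?_
    rw [show p (ξ x) = x from hξ x] at h1
    rw [h1]
    show (q : ℤ) * Z' (ξ x) = ((q / m (ξ x) : ℕ) : ℤ) * Z' (ξ x) * (m (ξ x) : ℤ)
    rw [mul_right_comm, ← Nat.cast_mul, Nat.div_mul_cancel (CycNormalDescLib.exists_mult_dvd k' f (ξ x)).1]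
end Groth.Agent.S13599
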