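import Groth.Statements.S13600
import Groth.Agent.PureCycLib.Ideal

set_option autoImplicit false
set_option backward.isDefEq.respectTransparency false
set_option backward.isDefEq.respectTransparency.types false
universe u
open CategoryTheory AlgebraicGeometry
open Cyc

namespace Groth.Agent.S13600

/-- Let X be a separated Noetherian scheme and W = Σ a_i z_i an effective cycle on X (a function from
the points of X to the integers, non-negative and with finite support) whose points z_i (those with
a_i ≠ 0) have codimension 1 with X regular there, i.e. O_{X,z_i} is a discrete valuation ring. Then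
X has a unique closed subscheme Z (a quasi-coherent ideal sheaf) such that (1) Z has no embedded
components (every point of Z at which the maximal ideal of the local ring of Z is an associated
prime is a maximal point of Z) and (2) the cycle of Z is W: every maximal point z of Z has O_{Z,z}
of length W(z), and every point with W ≠ 0 is a maximal point of Z. -/
theorem result (X : Scheme.{u}) [IsNoetherian X]
    [X.IsSeparated] (W : X → ℤ) (hfin : {x | W x ≠ 0}.Finite) (hpos : ∀ x, 0 ≤ W x)
    (hreg : ∀ x, W x ≠ 0 → ∃ _ : IsDomain ↑(X.presheaf.stalk x), IsDiscreteValuationRing ↑(X.presheaf.stalk x)) :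
    ∃! 𝓘 : X.IdealSheafData,
      (∀ z : ↥𝓘.subscheme,
        IsAssociatedPrime (IsLocalRing.maximalIdeal ↑(𝓘.subscheme.presheaf.stalk z))
          ↑(𝓘.subscheme.presheaf.stalk z) → ∀ z' : ↥𝓘.subscheme, z' ⤳ z → z' = z) ∧
      (∀ z : ↥𝓘.subscheme, (∀ z' : ↥𝓘.subscheme, z' ⤳ z → z' = z) →
        Module.length ↑(𝓘.subscheme.presheaf.stalk z) ↑(𝓘.subscheme.presheaf.stalk z) =
          ((W (𝓘.subschemeι.base z)).toNat : ℕ∞)) ∧
      (∀ x : X, W x ≠ 0 → ∃ z : ↥𝓘.subscheme, 𝓘.subschemeι.base z = x ∧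
        ∀ z' : ↥𝓘.subscheme, z' ⤳ z → z' = z) := by
  classical
  let s := hfin.toFinset
  let a : X → ℕ := fun x => (W x).toNat
  have hs : ∀ x, x ∈ s ↔ W x ≠ 0 := fun x => hfin.mem_toFinset
  have ha : ∀ x, x ∈ s → a x ≠ 0 := fun x hx => by
    have h1 := hpos x
    have h2 := (hs x).1 hx
    show (W x).toNat ≠ 0
    omega
  have hincomp : ∀ x ∈ s, ∀ x' ∈ s, x ⤳ x' → x = x' := fun x hx x' hx' h => by
    obtain ⟨_, _⟩ := hreg x ((hs x).1 hx)
    obtain ⟨_, _⟩ := hreg x' ((hs x').1 hx')
    exact PureCycLib.eq_of_specializes_dvr h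
  let I := PureCycLib.pureIdeal s a
  have hIx : ∀ x ∈ s, IntMult.stalkIdeal I x = IsLocalRing.maximalIdeal (X.presheaf.stalk x) ^ a x := by
    intro x hx
    ext z
    rw [PureCycLib.mem_stalkIdeal_pureIdeal]
    constructor
    · intro h
      have h2 := h x hx specializes_rfl
      rwa [TopCat.Presheaf.stalkSpecializes_refl] at h2
    · intro hz x' hx' h
      obtain rfl := hincomp x' hx' x hx h
      rw [TopCat.Presheaf.stalkSpecializes_refl]
      exact hz
  have hsupp : ∀ x ∈ s, x ∈ I.support := fun x hx => by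
    rw [SDivLib.mem_support_iff_stalk, hIx x hx]
    intro h
    exact (IsLocalRing.maximalIdeal.isMaximal _).ne_top
      (top_le_iff.1 (h ▸ Ideal.pow_le_self (ha x hx)))
  have hbelow : ∀ y ∈ I.support, ∃ x ∈ s, x ⤳ y := fun y hy => by
    rw [SDivLib.mem_support_iff_stalk, Ne, Ideal.eq_top_iff_one, PureCycLib.mem_stalkIdeal_pureIdeal] at hy
    push Not at hy
    obtain ⟨x, hx, h, -⟩ := hy
    exact ⟨x, hx, h⟩
  have hmin : ∀ z : ↥I.subscheme, I.subschemeι z ∈ s → ∀ z' : ↥I.subscheme, z' ⤳ z → z' = z := by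
    intro z hz z' hzz'
    obtain ⟨x, hx, hx'⟩ := hbelow _ (PureCycLib.mem_support_point I z')
    have h1 : I.subschemeι z' ⤳ I.subschemeι z := hzz'.map I.subschemeι.continuous
    have h2 : x = I.subschemeι z := hincomp x hx _ hz (hx'.trans h1)
    refine I.subschemeι.isClosedEmbedding.injective ?_
    exact (h1.antisymm (h2 ▸ hx')).eq
  have hmin' : ∀ z : ↥I.subscheme, (∀ z' : ↥I.subscheme, z' ⤳ z → z' = z) → I.subschemeι z ∈ s := by
    intro z hz
    obtain ⟨x, hx, hx'⟩ := hbelow _ (PureCycLib.mem_support_point I z)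
    obtain ⟨z', hz'⟩ := PureCycLib.exists_point I (hsupp x hx)
    have h1 : z' ⤳ z := I.subschemeι.isClosedEmbedding.isInducing.specializes_iff.1 (by rw [hz']; exact hx')
    rw [← hz z' h1, hz']
    exact hx
  refine ⟨I, ⟨fun z hz => hmin z ?_, fun z hz => ?_, fun x hx => ?_⟩, fun J hJ => ?_⟩
  · obtain ⟨t, ht, hm⟩ := (PureCycLib.isAssociatedPrime_iff_exists I z).1 hz
    rw [PureCycLib.mem_stalkIdeal_pureIdeal] at ht
    push Not at ht
    obtain ⟨x, hx, h, hxt⟩ := ht
    by_contra hne
    have hlt : CycDivLib.primeOf h ≠ IsLocalRing.closedPoint _ := fun he => hne (by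
      have h3 := CycDivLib.stalkPt_primeOf h
      rw [he, PureCycLib.stalkPt_closedPoint] at h3
      exact h3 ▸ hx)
    obtain ⟨m, hm1, hm2⟩ := SetLike.exists_of_lt (lt_of_le_of_ne
      (IsLocalRing.le_maximalIdeal (CycDivLib.primeOf h).2.ne_top) fun he => hlt (PrimeSpectrum.ext he))
    have hu : IsUnit ((X.presheaf.stalkSpecializes h).hom m) := by
      by_contra hu
      exact hm2 ((IsLocalRing.mem_maximalIdeal _).2 hu)
    have h4 := (PureCycLib.mem_stalkIdeal_pureIdeal s a _ _).1 (hm m hm1) x hx h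
    rw [map_mul] at h4
    exact hxt ((Ideal.unit_mul_mem_iff_mem _ hu).1 h4)
  · have hzs := hmin' z hz
    rw [PureCycLib.length_stalk_subscheme, hIx _ hzs]
    obtain ⟨_, _⟩ := hreg _ ((hs _).1 hzs)
    exact PureCycLib.length_pow _
  · obtain ⟨z, hz⟩ := PureCycLib.exists_point I (hsupp x ((hs x).2 hx))
    exact ⟨z, hz, hmin z (by rw [hz]; exact (hs x).2 hx)⟩
  · obtain ⟨hJ1, hJ2, hJ3⟩ := hJ
    have hJx : ∀ x ∈ s, IntMult.stalkIdeal J x = IsLocalRing.maximalIdeal (X.presheaf.stalk x) ^ a x := by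
      intro x hx
      obtain ⟨z, hz, hzmin⟩ := hJ3 x ((hs x).1 hx)
      obtain ⟨_, _⟩ := hreg x ((hs x).1 hx)
      subst hz
      have h := hJ2 z hzmin
      rw [PureCycLib.length_stalk_subscheme] at h
      exact PureCycLib.eq_pow_of_length _ _ h
    refine DivDescLib.eq_of_stalk fun y => ?_
    ext f
    rw [PureCycLib.mem_stalkIdeal_pureIdeal]
    constructor
    · intro hf x hx h
      rw [← hJx x hx, DiagTorLib.stalkIdeal_specializes J h]
      exact Ideal.mem_map_of_mem _ hf
    · intro hf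
      by_contra hfJ
      obtain ⟨z, h, hass, hzf⟩ := PureCycLib.exists_associated_not_mem J hfJ
      have hzmin : ∀ z' : ↥J.subscheme, z' ⤳ z → z' = z := hJ1 z hass
      have hzs : J.subschemeι z ∈ s := by
        refine (hs _).2 fun h0 => ?_
        have h5 := hJ2 z hzmin
        rw [h0] at h5
        have h6 : Subsingleton (J.subscheme.presheaf.stalk z) := Module.length_eq_zero_iff.1 (by simpa using h5)
        exact one_ne_zero (Subsingleton.elim (1 : J.subscheme.presheaf.stalk z) 0)
      exact hzf (hJx _ hzs ▸ hf _ hzs h)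
end Groth.Agent.S13600
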