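import Groth.Statements.S13604
import Groth.Agent.DivDescLib.Apps
import Groth.Agent.DiagTorLib.SubInt

set_option autoImplicit false
set_option backward.isDefEq.respectTransparency false
set_option backward.isDefEq.respectTransparency.types false
universe u
open CategoryTheory AlgebraicGeometry
open CategoryTheory.Limits
open Cyc

namespace Groth.Agent.S13604

/-- Let k be a field, X a separated k-scheme of finite type, smooth of relative dimension r, and Z ⊆ X a
closed subscheme (a quasi-coherent ideal sheaf) of pure dimension r − 1, i.e. the local ring of X at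
every maximal point of Z has dimension 1. If for some field extension K/k the base change Z_K ⊆ X_K
= X ×_k Spec K (the inverse image ideal sheaf along the first projection) is an effective Cartier
divisor, then the ideal of Z is locally generated by a single non-zero-divisor, i.e. Z too is
effective Cartier. -/
theorem result {k : Type u} [Field k] {K : Type u} [Field K]
    [Algebra k K] {X : Scheme.{u}} (f : X ⟶ Spec (CommRingCat.of k)) (r : ℕ) [SmoothOfRelativeDimension r f]
    [QuasiCompact f] [IsSeparated f] (𝓘 : X.IdealSheafData)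
    (hpure : ∀ z : ↥𝓘.subscheme, (∀ z' : ↥𝓘.subscheme, z' ⤳ z → z' = z) →
      ringKrullDim ↑(X.presheaf.stalk (𝓘.subschemeι.base z)) = 1)
    (hK : BlowUp.IsEffCartierIdeal
      (𝓘.comap (pullback.fst f (Spec.map (CommRingCat.ofHom (algebraMap k K)))))) :
    BlowUp.IsEffCartierIdeal 𝓘 := by
  classical
  let π := Spec.map (CommRingCat.ofHom (algebraMap k K))
  haveI : Flat π := by
    rw [HasRingHomProperty.Spec_iff (P := @Flat)]
    exact RingHom.flat_algebraMap_iff.2 inferInstance
  haveI : Surjective π := ⟨fun z => ⟨(IsLocalRing.closedPoint K : Spec (CommRingCat.of K)), Subsingleton.elim _ _⟩⟩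
  haveI : Smooth f := SmoothOfRelativeDimension.smooth r f
  haveI : IsLocallyNoetherian X := LocallyOfFiniteType.isLocallyNoetherian f
  let q := pullback.fst f π
  haveI : IsLocallyNoetherian (pullback f π) := LocallyOfFiniteType.isLocallyNoetherian (pullback.snd f π)
  haveI : Flat q := MorphismProperty.pullback_fst _ _ inferInstance
  haveI : Surjective q := MorphismProperty.pullback_fst _ _ inferInstance
  haveI : QuasiCompact q := MorphismProperty.pullback_fst _ _ inferInstance
  have hloc : ∀ y, DivDescLib.LocAt q (𝓘.comap q) y := by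
    intro y
    obtain ⟨x₀, rfl⟩ := q.surjective y
    obtain ⟨t, ht, htJ⟩ := DivDescLib.exists_gen hK x₀
    rw [DivDescLib.stalkIdeal_comap] at htJ
    let φ := (q.stalkMap x₀).hom
    let I := IntMult.stalkIdeal 𝓘 (q x₀)
    haveI : IsLocalHom φ := inferInstanceAs (IsLocalHom (q.stalkMap x₀).hom)
    have hφ : φ.Flat := DivDescLib.flat_stalkMap q x₀
    obtain ⟨a, ha, d, hd, had⟩ : ∃ a ∈ I, ∃ d : (pullback f π).presheaf.stalk x₀, IsUnit d ∧ φ a = d * t := by
      by_contra hcon
      push Not at hcon
      have hle : I.map φ ≤ Ideal.span {t} * IsLocalRing.maximalIdeal _ := Ideal.map_le_iff_le_comap.2 fun a ha => by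
        obtain ⟨d, hd⟩ := Ideal.mem_span_singleton'.1 (htJ.le (Ideal.mem_map_of_mem φ ha))
        rw [Ideal.mem_comap, ← hd, mul_comm d t]
        exact Ideal.mul_mem_mul (Ideal.mem_span_singleton_self t)
          ((IsLocalRing.mem_maximalIdeal _).2 fun hu => hcon a ha d hu hd.symm)
      obtain ⟨z, hz, hzt⟩ := Ideal.mem_span_singleton_mul.1 (hle (htJ.ge (Ideal.mem_span_singleton_self t)))
      have h1 : (z - 1) * t = 0 := by rw [sub_mul, one_mul, mul_comm, hzt, sub_self]
      have hz1 : z = 1 := sub_eq_zero.1 ((mem_nonZeroDivisors_iff_right.1 ht) _ h1)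
      exact (IsLocalRing.mem_maximalIdeal _).1 hz (hz1 ▸ isUnit_one)
    have hspan : Ideal.span {φ a} = Ideal.span {t} := by
      rw [had, Ideal.span_singleton_mul_left_unit hd]
    have hIa : I = Ideal.span {a} := by
      refine (DivDescLib.comap_map_self φ hφ I).symm.trans (Eq.trans ?_ (DivDescLib.comap_map_self φ hφ _))
      rw [Ideal.map_span, Set.image_singleton, hspan]
      exact congrArg (Ideal.comap φ) htJ
    have hinj : Function.Injective φ := by
      rw [RingHom.injective_iff_ker_eq_bot, RingHom.ker]
      have h := DivDescLib.comap_map_self φ hφ ⊥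
      rwa [Ideal.map_bot] at h
    refine ⟨a, mem_nonZeroDivisors_iff_right.2 fun c hc => hinj ?_, fun x hx => ?_⟩
    · rw [map_zero]
      have h1 : (φ c * d) * t = 0 := by rw [mul_assoc, ← had, ← map_mul, hc, map_zero]
      exact (hd.mul_left_eq_zero).1 ((mem_nonZeroDivisors_iff_right.1 ht) _ h1)
    · rw [DivDescLib.stalkIdeal_comap, DiagTorLib.stalkIdeal_specializes 𝓘 hx, show IntMult.stalkIdeal 𝓘 (q x₀) = _ from hIa,
        Ideal.map_span, Set.image_singleton, Ideal.map_span, Set.image_singleton]
      rfl
  obtain ⟨I, hI, hIJ⟩ := DivDescLib.exists_descent q hK (fun y _ => hloc y) (DivDescLib.exists_cover q (Or.inl inferInstance))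
  suffices h : I = 𝓘 by exact h ▸ hI
  refine DivDescLib.eq_of_stalk fun y => ?_
  obtain ⟨x, rfl⟩ := q.surjective y
  have h := congrArg (fun J => IntMult.stalkIdeal J x) hIJ
  simp only [DivDescLib.stalkIdeal_comap] at h
  haveI : IsLocalHom (q.stalkMap x).hom := inferInstance
  exact (DivDescLib.comap_map_self _ (DivDescLib.flat_stalkMap q x) _).symm.trans
    (Eq.trans (congrArg _ h) (DivDescLib.comap_map_self _ (DivDescLib.flat_stalkMap q x) _))

end Groth.Agent.S13604
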