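import Groth.Statements.S13608
import Mathlib.RingTheory.AdicCompletion.Basic
import Mathlib.RingTheory.Finiteness.Basic
import Mathlib.RingTheory.Finiteness.Ideal
-- import your own Groth.Agent.* helpers here

set_option autoImplicit false
universe u v
open CAlg

namespace Groth.Agent.S13608

/-- Let A be a commutative ring, I a finitely generated ideal of A and (M_n) an inverse system of
A-modules with transition maps f_n : M_(n+1) → M_n such that I^(n+1) M_n = 0 for every n. If L is an
inverse limit of the system (projections π_n compatible with the f_n, jointly injective, and such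
that every compatible family of elements lifts to L), then L is complete and separated for the
I-adic topology. No surjectivity of the transition maps is assumed. -/
theorem result
    (A : Type u) [CommRing A] (I : Ideal A) (hI : I.FG)
    (M : ℕ → Type v) [∀ n, AddCommGroup (M n)] [∀ n, Module A (M n)]
    (f : ∀ n, M (n + 1) →ₗ[A] M n)
    (hkill : ∀ n, I ^ (n + 1) • (⊤ : Submodule A (M n)) = ⊥)
    (L : Type v) [AddCommGroup L] [Module A L] (π : ∀ n, L →ₗ[A] M n)
    (hπ : ∀ n, f n ∘ₗ π (n + 1) = π n)
    (hinj : ∀ x : L, (∀ n, π n x = 0) → x = 0)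
    (hlift : ∀ y : (∀ n, M n), (∀ n, f n (y (n + 1)) = y n) → ∃ x : L, ∀ n, π n x = y n) :
    IsAdicComplete I L := by
  classical
  have zero_of_mem : ∀ m, ∀ x ∈ I ^ (m + 1) • (⊤ : Submodule A L), π m x = 0 := by
    intro m x hx
    have h : π m x ∈ Submodule.map (π m) (I ^ (m + 1) • ⊤) := ⟨x, hx, rfl⟩
    rw [Submodule.map_smul''] at h
    have h2 : π m x ∈ I ^ (m + 1) • (⊤ : Submodule A (M m)) := Submodule.smul_mono le_rfl le_top h
    rw [hkill] at h2
    exact (Submodule.mem_bot A).mp h2
  -- a series with terms in `I ^ k L` converges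
  have series : ∀ t : ℕ → L, (∀ k, t k ∈ I ^ k • (⊤ : Submodule A L)) →
      ∃ z : L, ∀ m, ∀ N, m < N → π m z = π m (∑ k ∈ Finset.range N, t k) := by
    intro t ht
    have stab : ∀ m N, m < N → π m (∑ k ∈ Finset.range N, t k) = π m (∑ k ∈ Finset.range (m + 1), t k) := by
      intro m N hN
      rw [← Finset.sum_range_add_sum_Ico t (show m + 1 ≤ N by omega), map_add, map_sum (π m) _ (Finset.Ico _ _),
        Finset.sum_eq_zero fun k hk => zero_of_mem m _
          (Submodule.smul_mono (Ideal.pow_le_pow_right (Finset.mem_Ico.mp hk).1) le_rfl (ht k)), add_zero]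
    obtain ⟨z, hz⟩ := hlift (fun m => π m (∑ k ∈ Finset.range (m + 1), t k)) fun m => by
      rw [← LinearMap.comp_apply, hπ, stab m (m + 1 + 1) (by omega)]
    exact ⟨z, fun m N hN => by rw [hz, stab m N hN]⟩
  haveI : IsHausdorff I L := ⟨fun x hx => hinj x fun m => by
    have := hx (m + 1)
    rw [SModEq.zero] at this
    exact zero_of_mem m x this⟩
  haveI : IsPrecomplete I L := ⟨fun {x} hx => by
    have hd : ∀ k, x (k + 1) - x k ∈ I ^ k • (⊤ : Submodule A L) := fun k =>
      (SModEq.sub_mem).mp (hx (Nat.le_succ k)).symm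
    obtain ⟨z, hz⟩ := series _ hd
    refine ⟨x 0 + z, fun n => SModEq.symm (SModEq.sub_mem.mpr ?_)⟩
    obtain ⟨G, hG⟩ : ∃ G : Finset A, Ideal.span (G : Set A) = I ^ n := Ideal.FG.pow (n := n) hI
    have dec : ∀ N : Submodule A L, ∀ y ∈ I ^ n • N, ∃ l : A → L, (∀ g, l g ∈ N) ∧ y = ∑ g ∈ G, g • l g := by
      intro N y hy
      refine Submodule.smul_induction_on hy (fun r hr w hw => ?_) (fun a b ha hb => ?_)
      · rw [← hG, Ideal.span, Submodule.mem_span_finset] at hr
        obtain ⟨c, -, rfl⟩ := hr
        refine ⟨fun g => c g • w, fun g => N.smul_mem _ hw, ?_⟩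
        rw [Finset.sum_smul]
        exact Finset.sum_congr rfl fun g _ => by rw [smul_eq_mul, mul_comm, mul_smul]
      · obtain ⟨l, hl, rfl⟩ := ha
        obtain ⟨l', hl', rfl⟩ := hb
        exact ⟨l + l', fun g => N.add_mem (hl g) (hl' g), by simp only [Pi.add_apply, smul_add, Finset.sum_add_distrib]⟩
    have key : ∀ k, ∃ l : A → L, (∀ g, l g ∈ I ^ k • (⊤ : Submodule A L)) ∧
        x (n + k + 1) - x (n + k) = ∑ g ∈ G, g • l g := fun k =>
      dec _ _ (by rw [← mul_smul, ← pow_add]; exact hd (n + k))
    choose l hl hsum using key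
    choose w hw using fun g => series (fun k => l k g) (fun k => hl k g)
    have hsn : x 0 + z - x n = ∑ g ∈ G, g • w g := by
      rw [← sub_eq_zero]
      refine hinj _ fun m => ?_
      rw [map_sub, map_sub, map_add, hz m (n + (m + 1)) (by omega), map_sum (π m) _ G]
      simp only [map_smul, hw _ m (m + 1) (Nat.lt_succ_self m)]
      simp only [← map_smul, ← map_add, ← map_sub, ← map_sum, Finset.sum_range_sub (fun i => x i), Finset.smul_sum]
      rw [Finset.sum_comm, ← Finset.sum_congr rfl fun k _ => hsum k]
      have := Finset.sum_range_sub (fun k => x (n + k)) (m + 1)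
      simp only [← add_assoc, add_zero] at this
      simp only [← add_assoc, this]
      abel_nf
      exact map_zero _
    rw [hsn]
    exact Submodule.sum_mem _ fun g hg => Submodule.smul_mem_smul (hG ▸ Ideal.subset_span hg) trivial⟩
  exact { }

end Groth.Agent.S13608
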