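import Groth.Statements.S13609
import Mathlib.RingTheory.AdicCompletion.Basic
-- import your own Groth.Agent.* helpers here

set_option autoImplicit false
universe u v
open CAlg

namespace Groth.Agent.S13609

/-- A direct summand of a module that is complete and separated for the I-adic topology is again
complete and separated: for a commutative ring A, an ideal I and A-modules M₁, M₂, if M₁ × M₂ is
I-adically complete then so is M₁. -/
theorem result (A : Type u) [CommRing A] (I : Ideal A)
    (M₁ M₂ : Type v) [AddCommGroup M₁] [Module A M₁] [AddCommGroup M₂] [Module A M₂]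
    [IsAdicComplete I (M₁ × M₂)] : IsAdicComplete I M₁ := by
  have hmap : ∀ (n : ℕ) {x y : M₁}, x ≡ y [SMOD (I ^ n • ⊤ : Submodule A M₁)] →
      ((x, 0) : M₁ × M₂) ≡ (y, 0) [SMOD (I ^ n • ⊤ : Submodule A (M₁ × M₂))] := fun n x y h => by
    rw [SModEq.sub_mem] at h ⊢
    have := Submodule.mem_map_of_mem (f := LinearMap.inl A M₁ M₂) h
    rw [Submodule.map_smul''] at this
    simpa using Submodule.smul_mono le_rfl le_top this
  have hproj : ∀ (n : ℕ) {x y : M₁ × M₂}, x ≡ y [SMOD (I ^ n • ⊤ : Submodule A (M₁ × M₂))] →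
      x.1 ≡ y.1 [SMOD (I ^ n • ⊤ : Submodule A M₁)] := fun n x y h => by
    rw [SModEq.sub_mem] at h ⊢
    have := Submodule.mem_map_of_mem (f := LinearMap.fst A M₁ M₂) h
    rw [Submodule.map_smul''] at this
    simpa using Submodule.smul_mono le_rfl le_top this
  have hH : IsHausdorff I (M₁ × M₂) := IsAdicComplete.toIsHausdorff
  have hP : IsPrecomplete I (M₁ × M₂) := IsAdicComplete.toIsPrecomplete
  refine { haus' := fun x hx => ?_, prec' := fun f hf => ?_ }
  · have := hH.haus' (x, 0) fun n => hmap n (hx n)
    exact congr_arg Prod.fst this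
  · obtain ⟨L, hL⟩ := hP.prec' (fun n => (f n, 0)) fun {m n} hmn => hmap m (hf hmn)
    exact ⟨L.1, fun n => hproj n (hL n)⟩

end Groth.Agent.S13609
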