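import Groth.Statements.S14461
import Groth.Agent.ClopenFFLib.Basic
import Groth.Agent.ClopenFFLib.Topo

set_option autoImplicit false
universe u
open CategoryTheory CategoryTheory.Limits AlgebraicGeometry
open Pi1

namespace Groth.Agent.S14461

/-- Let X be a Noetherian scheme and X₀ → X a closed immersion such that, for every finite étale Y → X,
the projection Y ×_X X₀ → Y induces a bijection on connected components. Then restriction of finite
étale covers from X to X₀ is full and faithful. -/
theorem result {X X₀ : Scheme.{u}} [IsNoetherian X]
    (i : X₀ ⟶ X) [IsClosedImmersion i]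
    (h : ∀ Y : FEt.Cat X, Function.Bijective (pullback.fst Y.hom i).continuous.connectedComponentsMap) :
    (FEt.restrict i).Full ∧ (FEt.restrict i).Faithful := by
  refine ClopenFFLib.full_faithful i fun Y C' => ?_
  haveI : IsFinite (show Y.left ⟶ X from Y.hom) := Y.prop.1
  haveI : IsLocallyNoetherian Y.left := LocallyOfFiniteType.isLocallyNoetherian (show Y.left ⟶ X from Y.hom)
  haveI : CompactSpace Y.left := QuasiCompact.compactSpace_of_compactSpace (show Y.left ⟶ X from Y.hom)
  haveI : IsNoetherian Y.left := ⟨⟩
  haveI : Finite (ConnectedComponents Y.left) := ClopenFFLib.finite_connectedComponents_of_noetherian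
  haveI : Finite (ConnectedComponents ↥((𝟭 Scheme).obj Y.left)) := ‹_›
  exact ClopenFFLib.existsUnique_clopen_of_components _ (pullback.fst Y.hom i).continuous (h Y) C'

end Groth.Agent.S14461
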