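import Groth.Statements.S1361
import Mathlib
import Groth.Agent.S1356
import Groth.Agent.SweepSix.GeomConn
import Groth.Agent.WeightLib.Pts
import Groth.Agent.S14461
-- import your own Groth.Agent.* helpers here

set_option autoImplicit false
set_option backward.isDefEq.respectTransparency false
set_option backward.isDefEq.respectTransparency.types false
set_option maxHeartbeats 1000000
universe u
open FlatMor

namespace Groth.Agent.S1361

open AlgebraicGeometry CategoryTheory Limits in
theorem isOpen_cc {F : Scheme.{u}} [IsNoetherian F] (x : F) : IsOpen (connectedComponent x) := by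
  haveI : Finite (_root_.ConnectedComponents ↥F) := ClopenFFLib.finite_connectedComponents_of_noetherian
  rw [← connectedComponents_preimage_singleton]
  exact (isOpen_discrete _).preimage ConnectedComponents.continuous_coe

open AlgebraicGeometry CategoryTheory Limits in
/-- Let f : X → S be flat, locally of finite presentation, with geometrically reduced fibres. Then for
every point x of X there are an étale morphism X' → X whose image contains x, an étale morphism S' →
S and a factorization X' → S' → S of X' → X → S such that X' → S' is a flat morphism of finite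
presentation all of whose fibres are geometrically connected and geometrically reduced. -/
theorem result {X S : Scheme.{u}} (f : X ⟶ S) [Flat f] [LocallyOfFinitePresentation f] [GeometricallyReduced f] (x : X) :
    ∃ (X' S' : Scheme.{u}) (a : X' ⟶ X) (b : X' ⟶ S') (c : S' ⟶ S), Etale a ∧ x ∈ Set.range ⇑a ∧ Etale c ∧ a ≫ f = b ≫ c ∧
      Flat b ∧ LocallyOfFinitePresentation b ∧ QuasiCompact b ∧ QuasiSeparated b ∧ GeometricallyConnected b ∧ GeometricallyReduced b := by
  obtain ⟨V, hV, hxV, -⟩ : ∃ V : S.Opens, IsAffineOpen V ∧ f x ∈ V ∧ V ≤ ⊤ :=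
    TopologicalSpace.Opens.isBasis_iff_nbhd.mp S.isBasis_affineOpens (show f x ∈ (⊤ : S.Opens) from trivial)
  obtain ⟨U, hU, hxU, hUV⟩ : ∃ U : X.Opens, IsAffineOpen U ∧ x ∈ U ∧ U ≤ f ⁻¹ᵁ V :=
    TopologicalSpace.Opens.isBasis_iff_nbhd.mp X.isBasis_affineOpens (show x ∈ f ⁻¹ᵁ V from hxV)
  haveI : IsAffine (U : Scheme.{u}) := hU
  haveI : IsAffine (V : Scheme.{u}) := hV
  let h₁ : (U : Scheme.{u}) ⟶ V := f.resLE V U hUV
  haveI : Flat h₁ := by dsimp only [h₁, Scheme.Hom.resLE]; infer_instance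
  haveI : LocallyOfFinitePresentation h₁ := by dsimp only [h₁, Scheme.Hom.resLE]; infer_instance
  haveI : GeometricallyReduced h₁ := CompSpreadLib.geometricallyReduced_openImmersion _ _
  let x₁ : ↥(U : Scheme.{u}) := ⟨x, hxU⟩
  let s := h₁ x₁
  haveI : LocallyOfFiniteType (h₁.fiberToSpecResidueField s) := MorphismProperty.pullback_snd _ _ inferInstance
  haveI : IsLocallyNoetherian (h₁.fiber s) :=
    LocallyOfFiniteType.isLocallyNoetherian (h₁.fiberToSpecResidueField s)
  haveI : IsNoetherian (h₁.fiber s) := {}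
  -- the component of x in its fibre, and a quasi-section through it
  let C := connectedComponent (h₁.asFiber x₁)
  obtain ⟨O', hO', hOC⟩ := (h₁.fiberι s).isEmbedding.isInducing.isOpen_iff.mp (isOpen_cc (h₁.asFiber x₁))
  let O : (U : Scheme.{u}).Opens := ⟨O', hO'⟩
  haveI : GeometricallyReduced (O.ι ≫ h₁) := CompSpreadLib.geometricallyReduced_openImmersion _ _
  have hxO : x₁ ∈ O' := h₁.fiberι_asFiber x₁ ▸ hOC.ge mem_connectedComponent
  obtain ⟨Z₀, g₀', z₀, hg₀', hz₀, σ₀, hσ₀⟩ := PicCurveLib.exists_etale_section_at (O.ι ≫ h₁) s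
    ⟨(O.ι ≫ h₁).fiberHomeo s |>.symm ⟨⟨x₁, hxO⟩, rfl⟩⟩
  obtain ⟨Za, hZa, hzZ, -⟩ : ∃ Za : Z₀.Opens, IsAffineOpen Za ∧ z₀ ∈ Za ∧ Za ≤ ⊤ :=
    TopologicalSpace.Opens.isBasis_iff_nbhd.mp Z₀.isBasis_affineOpens (show z₀ ∈ (⊤ : Z₀.Opens) from trivial)
  haveI : IsAffine (Za : Scheme.{u}) := hZa
  let g₀ : (Za : Scheme.{u}) ⟶ V := Za.ι ≫ g₀'
  let z : ↥(Za : Scheme.{u}) := ⟨z₀, hzZ⟩
  let σ : (Za : Scheme.{u}) ⟶ (U : Scheme.{u}) := Za.ι ≫ σ₀ ≫ O.ι
  have hσ : σ ≫ h₁ = g₀ := by simp only [σ, g₀, Category.assoc, hσ₀]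
  haveI : Etale g₀ := inferInstance
  haveI : LocallyQuasiFinite g₀ := ((Unram17Lib.etale_iff_smooth_and_quasiFinite g₀).mp ‹Etale g₀›).2
  have hgz : g₀ z = s := hz₀
  let f₂ := pullback.snd h₁ g₀
  let τ : (Za : Scheme.{u}) ⟶ pullback h₁ g₀ := pullback.lift σ (𝟙 _) (by rw [hσ, Category.id_comp])
  haveI : LocallyOfFiniteType (f₂.fiberToSpecResidueField z) := MorphismProperty.pullback_snd _ _ inferInstance
  haveI : IsLocallyNoetherian (f₂.fiber z) :=
    LocallyOfFiniteType.isLocallyNoetherian (f₂.fiberToSpecResidueField z)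
  haveI : IsNoetherian (f₂.fiber z) := {}
  let j : Spec ((Za : Scheme.{u}).residueField z) ⟶ f₂.fiber z :=
    pullback.lift ((Za : Scheme.{u}).fromSpecResidueField z ≫ τ) (𝟙 _)
      (by rw [Category.assoc, show τ ≫ f₂ = 𝟙 _ from pullback.lift_snd _ _ _, Category.comp_id, Category.id_comp])
  let a₀ : f₂.fiber z := j (IsLocalRing.closedPoint _)
  let T : (f₂.fiber z).Opens := ⟨connectedComponent a₀, isOpen_cc a₀⟩
  have hjT : Set.range j ⊆ Set.range T.ι := by
    rintro _ ⟨w, rfl⟩
    rw [Scheme.Opens.range_ι, show w = IsLocalRing.closedPoint _ from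
      Subsingleton.elim (α := PrimeSpectrum ((Za : Scheme.{u}).residueField z)) _ _]
    exact mem_connectedComponent
  haveI : ConnectedSpace ↥(T : Scheme.{u}) := isConnected_iff_connectedSpace.mp isConnected_connectedComponent
  haveI : GeometricallyConnected (𝟙 (Spec ((Za : Scheme.{u}).residueField z))) := by
    have := SweepSix.GeomConn.gc_specMap_of_purelyInseparable (k := (Za : Scheme.{u}).residueField z)
      ((Za : Scheme.{u}).residueField z)
    simpa using! this
  haveI : Nonempty ↥(Spec ((Za : Scheme.{u}).residueField z)) := ⟨IsLocalRing.closedPoint _⟩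
  have hT : GeometricallyConnected (T.ι ≫ f₂.fiberToSpecResidueField z) :=
    SweepSix.GeomConn.gc_of_source (k := (Za : Scheme.{u}).residueField z) _ (IsOpenImmersion.lift T.ι j hjT)
      (𝟙 _) (by rw [IsOpenImmersion.lift_fac_assoc]; exact pullback.lift_snd _ _ _)
  -- a point of T over x
  obtain ⟨t, htT, htx⟩ : ∃ t ∈ connectedComponent a₀, pullback.fst h₁ g₀ (f₂.fiberι z t) = x₁ := by
    have hP := isPullback_fiberToSpecResidueField_of_isPullback (IsPullback.of_hasPullback h₁ g₀) z
    let M : f₂.fiber z ⟶ h₁.fiber (g₀ z) := pullback.map _ _ _ _ (pullback.fst h₁ g₀)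
      (Spec.map (g₀.residueFieldMap z)) g₀ pullback.condition.symm (by simp)
    haveI : IsFinite (Spec.map (g₀.residueFieldMap z)) :=
      (IsFinite.SpecMap_iff _).mpr (WeightLib.finite_residueFieldMap g₀ z)
    haveI : Subsingleton ↥(Spec ((V : Scheme.{u}).residueField (g₀ z))) :=
      inferInstanceAs (Subsingleton (PrimeSpectrum _))
    haveI : IsFinite M := MorphismProperty.of_isPullback (P := @IsFinite) hP.flip inferInstance
    haveI : IsLocallyNoetherian (Spec ((V : Scheme.{u}).residueField (g₀ z))) := inferInstance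
    haveI : LocallyOfFinitePresentation (Spec.map (g₀.residueFieldMap z)) := inferInstance
    haveI : Flat (Spec.map (g₀.residueFieldMap z)) := inferInstance
    haveI : Flat M := MorphismProperty.of_isPullback (P := @Flat) hP.flip inferInstance
    haveI : LocallyOfFinitePresentation M :=
      MorphismProperty.of_isPullback (P := @LocallyOfFinitePresentation) hP.flip inferInstance
    have hco : IsClopen (M '' connectedComponent a₀) :=
      ⟨M.isClosedMap _ isClosed_connectedComponent, M.isOpenMap _ (isOpen_cc a₀)⟩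
    have hMι : ∀ a, h₁.fiberι (g₀ z) (M a) = pullback.fst h₁ g₀ (f₂.fiberι z a) := fun a => by
      rw [← Scheme.Hom.comp_apply, ← Scheme.Hom.comp_apply,
        show M ≫ h₁.fiberι (g₀ z) = f₂.fiberι z ≫ pullback.fst h₁ g₀ from pullback.lift_fst _ _ _]
    -- the image of the rational point lies in the component of x
    have ha₀ : h₁.fiberι (g₀ z) (M a₀) ∈ O' := by
      rw [hMι]
      show pullback.fst h₁ g₀ (f₂.fiberι z (j _)) ∈ O'
      rw [← Scheme.Hom.comp_apply j, show j ≫ f₂.fiberι z = _ from pullback.lift_fst _ _ _,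
        Scheme.Hom.comp_apply, Scheme.fromSpecResidueField_apply, ← Scheme.Hom.comp_apply,
        show τ ≫ pullback.fst h₁ g₀ = σ from pullback.lift_fst _ _ _]
      simp only [σ, Scheme.Hom.comp_apply]
      exact (σ₀ (Za.ι z)).2
    revert hgz
    intro hgz
    have key : ∀ (y : ↥(V : Scheme.{u})) (_ : y = s) (q : h₁.fiber y), h₁.fiberι y q ∈ O' →
        ∃ p ∈ connectedComponent q, h₁.fiberι y p = x₁ := by
      rintro y rfl q hq
      refine ⟨h₁.asFiber x₁, ?_, h₁.fiberι_asFiber x₁⟩
      rw [← connectedComponent_eq (hOC.le hq : q ∈ C)]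
      exact mem_connectedComponent
    obtain ⟨p, hp, hpx⟩ := key _ hgz (M a₀) ha₀
    obtain ⟨t, ht, htp⟩ := hco.connectedComponent_subset ⟨a₀, mem_connectedComponent, rfl⟩ hp
    exact ⟨t, ht, by rw [← hMι, htp, hpx]⟩
  haveI : GeometricallyReduced f₂ := inferInstance
  obtain ⟨S', g, s', hS', hg, W, hWc, hWgc, hmem⟩ := Groth.Agent.S1356.result f₂ z T hT
  haveI := hS'
  haveI := hg.etale
  obtain ⟨w, hw1, hw2⟩ := Scheme.Pullback.exists_preimage_pullback (f := f₂) (g := g) (f₂.fiberι z t) s'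
    ((f₂.range_fiberι z).le ⟨t, rfl⟩ |>.trans hg.base_eq.symm)
  have hwW : w ∈ W := (hmem w hw2).mpr ⟨t, htT, hw1.symm⟩
  refine ⟨W, S', W.ι ≫ pullback.fst f₂ g ≫ pullback.fst h₁ g₀ ≫ U.ι, W.ι ≫ pullback.snd f₂ g,
    g ≫ g₀ ≫ V.ι, inferInstance, ⟨⟨w, hwW⟩, ?_⟩, inferInstance, ?_, inferInstance, inferInstance, ?_,
    inferInstance, hWgc, CompSpreadLib.geometricallyReduced_openImmersion _ _⟩
  · simp only [Scheme.Hom.comp_apply]
    show U.ι (pullback.fst h₁ g₀ (pullback.fst f₂ g w)) = x
    rw [hw1, htx]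
    rfl
  · simp only [Category.assoc, h₁, ← Scheme.Hom.resLE_comp_ι f hUV]
    rw [pullback.condition_assoc (f := f.resLE V U hUV) (g := g₀), pullback.condition_assoc (f := f₂) (g := g)]
  · haveI : CompactSpace ↥(W : Scheme.{u}) := isCompact_iff_compactSpace.mp hWc
    exact quasiCompact_of_compactSpace _

end Groth.Agent.S1361
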