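import Groth.Statements.S13614
import Groth.Agent.EtShLib.Constructible
import Groth.Agent.EpsLib.ExtZeroMod
-- import your own Groth.Agent.* helpers here

set_option autoImplicit false
open CategoryTheory CategoryTheory.Limits AlgebraicGeometry Opposite
universe u
set_option backward.isDefEq.respectTransparency false
set_option backward.isDefEq.respectTransparency.types false
set_option maxHeartbeats 1000000
open EtModW

namespace Groth.Agent.S13614

/-- Let f : X' → X be a morphism of Noetherian schemes, Λ a Noetherian ring, I an ideal of Λ and F =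
(F_n) an inverse system of constructible sheaves of Λ-modules on the small etale site of X which is
AR I-adic: I^(n+1) F_n = 0 for all n and F receives a morphism with kernel and cokernel null up to
translation from an I-adic system of constructible sheaves. Then the system of pullbacks (f^* F_n)_n
on X' is AR I-adic in the same sense. -/
theorem result
    (Λ : Type (u + 1)) [CommRing Λ] [IsNoetherianRing Λ] (I : Ideal Λ)
    {X X' : Scheme.{u}} [IsNoetherian X] [IsNoetherian X'] (f : X' ⟶ X)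
    (F : ARSys.PS (EtModW.Mod Λ X)) (hc : ∀ n : ℕ, EtModW.IsConstructible Λ (F.obj (op n)))
    (hF : (ARSys.TermKilled I F ∧ ∃ (Y : ARSys.PS (EtModW.Mod Λ X)) (v : Y ⟶ F), ARSys.IsAdic I Y ∧ (∀ n : ℕ, EtModW.IsConstructible Λ (Y.obj (op n))) ∧ ARSys.IsARIso v)) :
    (ARSys.TermKilled I (F ⋙ EtModW.pull Λ f) ∧ ∃ (Y : ARSys.PS (EtModW.Mod Λ X')) (v : Y ⟶ (F ⋙ EtModW.pull Λ f)), ARSys.IsAdic I Y ∧ (∀ n : ℕ, EtModW.IsConstructible Λ (Y.obj (op n))) ∧ ARSys.IsARIso v) := by
  have hkb : ∀ {M : EtModW.Mod Λ X} {J : Ideal Λ}, ARSys.KilledBy J M → ARSys.KilledBy J ((EtModW.pull Λ f).obj M) :=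
    fun {M J} h c hc => by
      apply (((EtCoh.bc f).sheafAdjunctionContinuous (ModuleCat.{u + 1} Λ) X.smallEtaleTopology X'.smallEtaleTopology).homEquiv M _).injective
      rw [Groth.Agent.EpsLib.pullMod_homEquiv_smul, Groth.Agent.EpsLib.pullMod_homEquiv_zero]
      have h1 := congrArg (fun t => t ≫ ((EtCoh.bc f).sheafAdjunctionContinuous (ModuleCat.{u + 1} Λ) X.smallEtaleTopology X'.smallEtaleTopology).homEquiv M _ (𝟙 _)) (h c hc)
      simpa using h1
  haveI : PreservesFiniteLimits (EtModW.pull Λ f) :=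
    Groth.Agent.EtShLib.preservesFiniteLimits_pullA (A := ModuleCat.{u + 1} Λ) f
  haveI : PreservesFiniteColimits (EtModW.pull Λ f) :=
    haveI : (EtModW.pull Λ f).IsLeftAdjoint :=
      ((EtCoh.bc f).sheafAdjunctionContinuous (ModuleCat.{u + 1} Λ) X.smallEtaleTopology X'.smallEtaleTopology).isLeftAdjoint
    inferInstance
  haveI : (EtModW.pull Λ f).Additive := Functor.additive_of_preserves_binary_products _
  have hnull : ∀ (S : ARSys.PS (EtModW.Mod Λ X)), ARSys.IsARNull S → ARSys.IsARNull (S ⋙ EtModW.pull Λ f) :=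
    fun S ⟨r, hr⟩ => ⟨r, fun n => by
      show (EtModW.pull Λ f).map (ARSys.shiftMap S r n) = 0
      rw [hr n, Functor.map_zero]⟩
  have hiso : ∀ (S T : ARSys.PS (EtModW.Mod Λ X')), (S ≅ T) → ARSys.IsARNull S → ARSys.IsARNull T :=
    fun S T e ⟨r, hr⟩ => ⟨r, fun n => by
      rw [← cancel_epi (e.hom.app (op (n + r)))]
      show e.hom.app (op (n + r)) ≫ ARSys.shiftMap T r n = e.hom.app (op (n + r)) ≫ 0
      rw [← e.hom.naturality, show S.map (homOfLE (Nat.le_add_right n r)).op = 0 from hr n, zero_comp, comp_zero]⟩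
  obtain ⟨hT, Y, v, hY, hYc, hv⟩ := hF
  refine ⟨fun n => hkb (hT n), Y ⋙ EtModW.pull Λ f, Functor.whiskerRight v _,
    ⟨fun n => hkb (hY.1 n), fun n m h => Groth.Agent.EpsLib.isQuot_pullMod (EtCoh.bc f) _ _ (hY.2 n m h)⟩,
    fun n => (Groth.Agent.EtShLib.isConstructibleMod_iff _).2
      (((Groth.Agent.EtShLib.isConstructibleMod_iff _).1 (hYc n)).pull (f := f)), ?_, ?_⟩
  · exact hiso _ _ (PreservesKernel.iso ((Functor.whiskeringRight ℕᵒᵖ _ _).obj (EtModW.pull Λ f)) v) (hnull _ hv.1)
  · exact hiso _ _ (PreservesCokernel.iso ((Functor.whiskeringRight ℕᵒᵖ _ _).obj (EtModW.pull Λ f)) v) (hnull _ hv.2)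

end Groth.Agent.S13614
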