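import Groth.Statements.S13622
import Mathlib.RingTheory.AdicCompletion.Completeness
import Mathlib.RingTheory.AdicCompletion.Algebra
import Mathlib.RingTheory.Finiteness.Basic
-- import your own Groth.Agent.* helpers here

set_option autoImplicit false
universe u v
open CAlg

namespace Groth.Agent.S13622

/-- Let A be a commutative ring, I a finitely generated ideal and (M_n) an inverse system of finitely
generated A-modules whose transition maps f_n : M_(n+1) → M_n are surjective with kernel I^(n+1)
M_(n+1), and with I^(n+1) M_n = 0 for all n. If L is an inverse limit of the system (projections π_n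
compatible with the f_n, jointly injective, every compatible family lifting to L), endowed with a
module structure over the I-adic completion A^ of A that is compatible with its A-module structure,
then L is finitely generated as an A^-module. No completeness of A is assumed. -/
theorem result
    (A : Type u) [CommRing A] (I : Ideal A) (hI : I.FG)
    (M : ℕ → Type v) [∀ n, AddCommGroup (M n)] [∀ n, Module A (M n)] [∀ n, Module.Finite A (M n)]
    (f : ∀ n, M (n + 1) →ₗ[A] M n) (hf : ∀ n, Function.Surjective (f n))
    (hker : ∀ n, LinearMap.ker (f n) = I ^ (n + 1) • (⊤ : Submodule A (M (n + 1))))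
    (hkill : ∀ n, I ^ (n + 1) • (⊤ : Submodule A (M n)) = ⊥)
    (L : Type v) [AddCommGroup L] [Module A L] (π : ∀ n, L →ₗ[A] M n)
    (hπ : ∀ n, f n ∘ₗ π (n + 1) = π n)
    (hinj : ∀ x : L, (∀ n, π n x = 0) → x = 0)
    (hlift : ∀ y : (∀ n, M n), (∀ n, f n (y (n + 1)) = y n) → ∃ x : L, ∀ n, π n x = y n)
    [Module (AdicCompletion I A) L] [IsScalarTower A (AdicCompletion I A) L] :
    Module.Finite (AdicCompletion I A) L := by
  classical
  obtain ⟨r, z, hz⟩ := Module.Finite.exists_fin (R := A) (M := M 0)
  choose up hup using hf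
  choose g hg using fun j : Fin r => hlift (fun i => Nat.rec (motive := M) (z j) (fun i v => up i v) i) (fun i => hup i _)
  have hπn : ∀ n (x : L), f n (π (n + 1) x) = π n x := fun n x => LinearMap.congr_fun (hπ n) x
  have hgen : ∀ n, Submodule.span A (Set.range fun j => π n (g j)) = ⊤ := by
    intro n
    induction n with
    | zero =>
      rw [← hz]
      congr 1
      ext w
      simp [hg]
    | succ n ih =>
      let P := Submodule.span A (Set.range fun j => π (n + 1) (g j))
      have hPmap : P.map (f n) = ⊤ := by
        rw [Submodule.map_span, ← Set.range_comp, ← ih]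
        congr 1
        ext w
        simp [hπn]
      have h1 : P ⊔ I ^ (n + 1) • ⊤ = ⊤ := by
        rw [← hker, ← Submodule.comap_map_eq, hPmap, Submodule.comap_top]
      have h2 : I ^ (n + 1) • (⊤ : Submodule A (M (n + 1))) ≤ P := by
        conv_lhs => rw [← h1, Submodule.smul_sup, ← Submodule.mul_smul, ← pow_add]
        refine sup_le Submodule.smul_le_right ?_
        rw [show n + 1 + (n + 1) = n + (n + 1 + 1) by omega, pow_add, Submodule.mul_smul, hkill, Submodule.smul_bot]
        exact bot_le
      exact eq_top_iff.2 (h1 ▸ sup_le le_rfl h2)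
  let G : ∀ n, (Fin r → A) →ₗ[A] M n := fun n => Fintype.linearCombination A fun j => π n (g j)
  have hG : ∀ n a, f n (G (n + 1) a) = G n a := fun n a => by
    simp [G, Fintype.linearCombination_apply, hπn]
  refine ⟨⟨Finset.univ.image g, ?_⟩⟩
  rw [eq_top_iff]
  intro x _
  have h0 : ∃ a, G 0 a = π 0 x := by
    obtain ⟨a, ha⟩ := (Submodule.mem_span_range_iff_exists_fun A).1 ((hgen 0).ge (Submodule.mem_top (x := π 0 x)))
    exact ⟨a, by simpa [G, Fintype.linearCombination_apply] using ha⟩
  have hstep : ∀ n (a : Fin r → A), G n a = π n x → ∃ a', G (n + 1) a' = π (n + 1) x ∧ ∀ j, a' j - a j ∈ I ^ (n + 1) := by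
    intro n a ha
    have hm : π (n + 1) x - G (n + 1) a ∈ I ^ (n + 1) • Submodule.span A (Set.range fun j => π (n + 1) (g j)) := by
      rw [hgen, ← hker, LinearMap.mem_ker, map_sub, hπn, hG, ha, sub_self]
    rw [Submodule.mem_ideal_smul_span_iff_exists_sum] at hm
    obtain ⟨c, hc, hsum⟩ := hm
    refine ⟨fun j => a j + c j, ?_, fun j => by simpa using hc j⟩
    rw [show (fun j => a j + c j) = a + ⇑c from rfl, map_add]
    rw [Finsupp.sum_fintype _ _ (by simp)] at hsum
    rw [show G (n + 1) ⇑c = π (n + 1) x - G (n + 1) a by rw [← hsum]; simp [G, Fintype.linearCombination_apply]]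
    abel
  obtain ⟨a₀, ha₀⟩ := h0
  choose! nxt hnxt using hstep
  let seq : ℕ → Fin r → A := fun n => Nat.rec a₀ (fun n a => nxt n a) n
  have hseq : ∀ n, G n (seq n) = π n x := by
    intro n
    induction n with
    | zero => exact ha₀
    | succ n ih => exact (hnxt n (seq n) ih).1
  have hcauchy : ∀ j m, (fun m => seq (m - 1) j) m ≡ (fun m => seq (m - 1) j) (m + 1) [SMOD (I ^ m • ⊤ : Submodule A A)] := by
    intro j m
    rw [SModEq.sub_mem, Ideal.smul_eq_mul, Ideal.mul_top]
    rcases m with _ | m
    · simp
    · show seq m j - seq (m + 1) j ∈ I ^ (m + 1)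
      rw [← neg_sub]
      exact (I ^ (m + 1)).neg_mem ((hnxt m (seq m) (hseq m)).2 j)
  let c : Fin r → AdicCompletion I A := fun j =>
    AdicCompletion.mk I A (AdicCompletion.AdicCauchySequence.mk I A (fun m => seq (m - 1) j) (hcauchy j))
  have hx : x = ∑ j, c j • g j := by
    refine sub_eq_zero.1 (hinj _ fun n => ?_)
    rw [map_sub, map_sum, ← hseq n]
    simp only [G, Fintype.linearCombination_apply]
    rw [← Finset.sum_sub_distrib]
    refine Finset.sum_eq_zero fun j _ => ?_
    have hd : c j - algebraMap A (AdicCompletion I A) (seq n j) ∈ (I ^ (n + 1) • ⊤ : Submodule A (AdicCompletion I A)) := by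
      rw [AdicCompletion.pow_smul_top_eq_ker_eval hI, LinearMap.mem_ker, map_sub, sub_eq_zero]
      rfl
    have hsmul : ∀ d ∈ (I ^ (n + 1) • ⊤ : Submodule A (AdicCompletion I A)), π n (d • g j) = 0 := fun d hd =>
      Submodule.smul_induction_on hd (fun i hi e _ => by
        rw [smul_assoc, map_smul]
        exact (Submodule.mem_bot A).1 (hkill n ▸ Submodule.smul_mem_smul hi Submodule.mem_top))
        (fun u v hu hv => by rw [add_smul, map_add, hu, hv, add_zero])
    have := hsmul _ hd
    rw [sub_smul, map_sub, algebraMap_smul, (π n).map_smul (seq n j) (g j), sub_eq_zero] at this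
    rw [this, sub_self]
  rw [hx]
  exact Submodule.sum_mem _ fun j _ => Submodule.smul_mem _ _ (Submodule.subset_span (by simp))

end Groth.Agent.S13622
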