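import Groth.Statements.S13623
import Mathlib.RingTheory.GradedAlgebra.Basic
import Mathlib.RingTheory.Support
import Mathlib.RingTheory.LocalRing.Module
import Mathlib.FieldTheory.IsAlgClosed.AlgebraicClosure
import Mathlib.RingTheory.Flat.FaithfullyFlat.Basic
import Mathlib.RingTheory.Adjoin.Basic
import Mathlib.LinearAlgebra.TensorProduct.Tower
import Mathlib.RingTheory.TensorProduct.Maps
-- import your own Groth.Agent.* helpers here

set_option autoImplicit false
universe u
open TensorProduct
open CAlg

namespace Groth.Agent.S13623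

/-- Let A be a commutative ring and B a commutative A-algebra, graded by A-submodules B_m (m ≥ 0)
forming a graded-algebra structure, such that every B_m is a finitely generated A-module. If for
every algebraically closed field k and every A-algebra structure on k the k-algebra k ⊗_A B is
generated by the image of B_1 under b ↦ 1 ⊗ b, then its degree-one part B_1 generates the A-algebra
B. (Algebraically closed fields are taken in the universe of A.) -/
theorem result
    (A : Type u) [CommRing A] (B : Type u) [CommRing B] [Algebra A B]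
    (𝒜 : ℕ → Submodule A B) [GradedAlgebra 𝒜]
    (hfin : ∀ m : ℕ, Module.Finite A (𝒜 m))
    (hgen : ∀ (k : Type u) [Field k] [IsAlgClosed k] [Algebra A k],
      Algebra.adjoin k ((Algebra.TensorProduct.includeRight : B →ₐ[A] k ⊗[A] B) '' (𝒜 1 : Set B)) = ⊤) :
    Algebra.adjoin A (𝒜 1 : Set B) = ⊤ := by
  classical
  rw [eq_top_iff]
  intro b _
  have hadj : ∀ r, 𝒜 1 ^ r ≤ Subalgebra.toSubmodule (Algebra.adjoin A (𝒜 1 : Set B)) := by
    intro r
    induction r with
    | zero => rw [pow_zero]; exact Submodule.one_le.2 (Subalgebra.one_mem _)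
    | succ k ih => rw [pow_succ]; exact Submodule.mul_le.2 fun u hu v hv => Subalgebra.mul_mem _ (ih hu) (Algebra.subset_adjoin hv)
  rw [← DirectSum.sum_support_decompose 𝒜 b]
  refine Subalgebra.sum_mem _ fun m _ => ?_
  suffices h : 𝒜 m ≤ 𝒜 1 ^ m by
    have := h (DirectSum.decompose 𝒜 b m).2
    revert this
    generalize (DirectSum.decompose 𝒜 b m : B) = z
    intro hz
    exact hadj m hz
  have hpowle : ∀ r, 𝒜 1 ^ r ≤ 𝒜 r := by
    intro r
    induction r with
    | zero => rw [pow_zero]; exact Submodule.one_le.2 SetLike.GradedOne.one_mem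
    | succ r ih => rw [pow_succ]; exact Submodule.mul_le.2 fun u hu v hv => SetLike.mul_mem_graded (ih hu) hv
  let Q := 𝒜 m ⧸ (𝒜 1 ^ m).comap (𝒜 m).subtype
  let P : B →ₗ[A] Q := ((𝒜 1 ^ m).comap (𝒜 m).subtype).mkQ.comp
    ((GradedAlgebra.proj 𝒜 m).codRestrict (𝒜 m) fun x => (DirectSum.decompose 𝒜 x m).2)
  have hPsurj : Function.Surjective P := fun z => by
    obtain ⟨⟨x, hx⟩, rfl⟩ := Submodule.mkQ_surjective _ z
    refine ⟨x, congrArg _ (Subtype.ext ?_)⟩
    exact DirectSum.decompose_of_mem_same _ hx
  have hP0 : ∀ w ∈ Submonoid.closure (𝒜 1 : Set B), P w = 0 := by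
    intro w hw
    obtain ⟨r, hr⟩ : ∃ r, w ∈ 𝒜 1 ^ r := by
      induction hw using Submonoid.closure_induction with
      | mem x hx => exact ⟨1, by rw [pow_one]; exact hx⟩
      | one => exact ⟨0, by rw [pow_zero]; exact Submodule.one_le.1 le_rfl⟩
      | mul x y _ _ ihx ihy =>
        obtain ⟨r, hr⟩ := ihx
        obtain ⟨s, hs⟩ := ihy
        exact ⟨r + s, by rw [pow_add]; exact Submodule.mul_mem_mul hr hs⟩
    refine (Submodule.Quotient.mk_eq_zero _).2 ?_
    show GradedAlgebra.proj 𝒜 m w ∈ 𝒜 1 ^ m
    rw [GradedAlgebra.proj_apply]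
    rcases eq_or_ne r m with rfl | hne
    · rw [DirectSum.decompose_of_mem_same _ (hpowle r hr)]; exact hr
    · rw [DirectSum.decompose_of_mem_ne _ (hpowle r hr) hne]; exact Submodule.zero_mem _
  haveI := hfin m
  have hQ : Subsingleton Q := by
    rw [← Module.support_eq_empty_iff (R := A), Set.eq_empty_iff_forall_notMem]
    intro q hq
    rw [Module.mem_support_iff_nontrivial_residueField_tensorProduct, ← not_subsingleton_iff_nontrivial] at hq
    apply hq
    let κ := q.asIdeal.ResidueField
    let k := AlgebraicClosure κ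
    have hk : ∀ z : k ⊗[A] B, P.baseChange k z = 0 := by
      intro z
      have hz : z ∈ Submodule.span k (Submonoid.closure ((Algebra.TensorProduct.includeRight : B →ₐ[A] k ⊗[A] B) '' (𝒜 1 : Set B)) : Set (k ⊗[A] B)) := by
        rw [← Algebra.adjoin_eq_span, hgen k]; exact Submodule.mem_top
      induction hz using Submodule.span_induction with
      | zero => rw [map_zero]
      | add x y _ _ hx hy => rw [map_add, hx, hy, add_zero]
      | smul c x _ hx => rw [map_smul, hx, smul_zero]
      | mem x hx =>
        rw [SetLike.mem_coe, show (Submonoid.closure ((Algebra.TensorProduct.includeRight : B →ₐ[A] k ⊗[A] B) '' (𝒜 1 : Set B))) =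
          (Submonoid.closure (𝒜 1 : Set B)).map (Algebra.TensorProduct.includeRight : B →ₐ[A] k ⊗[A] B).toMonoidHom from (MonoidHom.map_mclosure _ _).symm] at hx
        obtain ⟨w, hw, rfl⟩ := hx
        show P.baseChange k ((1 : k) ⊗ₜ[A] w) = 0
        rw [LinearMap.baseChange_tmul, hP0 w hw, TensorProduct.tmul_zero]
    haveI : Subsingleton (k ⊗[A] Q) := subsingleton_of_forall_eq 0 fun y => by
      obtain ⟨x, rfl⟩ := LinearMap.lTensor_surjective k hPsurj y
      exact hk x
    haveI : Subsingleton (k ⊗[κ] (κ ⊗[A] Q)) :=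
      (TensorProduct.AlgebraTensorModule.cancelBaseChange A κ k k Q).toEquiv.subsingleton
    by_contra hn
    haveI := not_subsingleton_iff_nontrivial.1 hn
    haveI := Module.FaithfullyFlat.lTensor_nontrivial κ k (κ ⊗[A] Q)
    exact false_of_nontrivial_of_subsingleton (k ⊗[κ] (κ ⊗[A] Q))
  intro x hx
  have := (Submodule.Quotient.mk_eq_zero _).1 (Subsingleton.elim (Submodule.Quotient.mk (⟨x, hx⟩ : 𝒜 m) : Q) 0)
  exact this

end Groth.Agent.S13623
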