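import Groth.Statements.S13624
import Groth.Agent.GorOpenLib.Mor
-- import your own Groth.Agent.* helpers here

set_option autoImplicit false
universe u
open CategoryTheory CategoryTheory.Limits AlgebraicGeometry Opposite
open Goren

namespace Groth.Agent.S13624

/-- Let f : X → Y be a proper, flat morphism of schemes which is locally of finite presentation. Then
the set of points y of Y whose scheme-theoretic fibre X_y = X ×_Y Spec κ(y) is a Gorenstein scheme
(every local ring of X_y is a Gorenstein local ring) is open in Y. -/
theorem result (X Y : Scheme.{u}) (f : X ⟶ Y)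
    [IsProper f] [Flat f] [LocallyOfFinitePresentation f] :
    IsOpen {y : Y | ∀ x : ↥(f.fiber y), LocCoh.IsGorensteinLocalRing ((f.fiber y).presheaf.stalk x)} := by
  have h : {y : Y | ∀ x : ↥(f.fiber y), LocCoh.IsGorensteinLocalRing ((f.fiber y).presheaf.stalk x)} =
      (f '' {x : X | ¬ Dual3.IsGorensteinAt f x})ᶜ := by
    ext y
    constructor
    · rintro hy ⟨x, hx, rfl⟩
      exact hx ⟨Flat.stalkMap f x, hy _⟩
    · intro hy z
      have hz : f (f.fiberι y z) = y := by
        have := Set.mem_range_self (f := (f.fiberι y).base) z
        rwa [Scheme.Hom.range_fiberι, Set.mem_preimage, Set.mem_singleton_iff] at this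
      have hG : Dual3.IsGorensteinAt f (f.fiberι y z) := by_contra fun hc => hy ⟨_, hc, hz⟩
      exact (GorLib.gorenstein_fibre_stalk_iff f y z _ rfl).2 ((GorLib.isGorensteinAt_iff f _).1 hG).2
  rw [h]
  exact (f.isClosedMap _ (GorOpenLib.isOpen_gorAt f).isClosed_compl).isOpen_compl

end Groth.Agent.S13624
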