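import Groth.Statements.S7600
import Mathlib
import Groth.Agent.NorLocLib.SmoothLocal

set_option autoImplicit false
universe u
open CategoryTheory CategoryTheory.Limits AlgebraicGeometry
open Variety

namespace Groth.Agent.S7600

/-- (2) ⇒ (1): let X be a scheme over a field k, k' an extension field of k and x' a point of X_{k'}
with image x in X. If X_{k'} is geometrically normal at x' over k' (for every extension field k'' of
k' and every point x'' of (X_{k'})_{k''} over x' the local ring at x'' is an integrally closed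
domain), then X is geometrically normal at x over k. -/
theorem result (k : Type u) [Field k] (X : Scheme.{u}) [X.Over (Spec (CommRingCat.of k))] (k' : Type u) [Field k'] [Algebra k k'] (x' : ↥(Curv2.bc k X k'))
    (h : letI : (Curv2.bc k X k').Over (Spec (CommRingCat.of k')) := ⟨Curv2.bcSnd k X k'⟩
      ∀ (k'' : Type u) [Field k''] [Algebra k' k''] (x'' : ↥(Curv2.bc k' (Curv2.bc k X k') k'')), Curv2.bcFst k' (Curv2.bc k X k') k'' x'' = x' →
          IsDomain ↥((Curv2.bc k' (Curv2.bc k X k') k'').presheaf.stalk x'') ∧ IsIntegrallyClosed ↥((Curv2.bc k' (Curv2.bc k X k') k'').presheaf.stalk x'')) :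
    ∀ (K : Type u) [Field K] [Algebra k K] (y : ↥(Curv2.bc k X K)), Curv2.bcFst k X K y = (Curv2.bcFst k X k' x') →
          IsDomain ↥((Curv2.bc k X K).presheaf.stalk y) ∧ IsIntegrallyClosed ↥((Curv2.bc k X K).presheaf.stalk y) := by
  intro K _ _ y hy
  letI : (Curv2.bc k X k').Over (Spec (CommRingCat.of k')) := ⟨Curv2.bcSnd k X k'⟩
  obtain ⟨z, hz1, hz2⟩ := Scheme.Pullback.exists_preimage_pullback (f := Curv2.bcFst k X K)
    (g := Curv2.bcFst k X k') y x' hy
  let P : Scheme.{u} := pullback (Curv2.bcFst k X K) (Curv2.bcFst k X k')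
  let ι : Spec (P.residueField z) ⟶ P := P.fromSpecResidueField z
  let a : CommRingCat.of K ⟶ P.residueField z :=
    Spec.preimage (ι ≫ pullback.fst _ _ ≫ Curv2.bcSnd k X K)
  let b : CommRingCat.of k' ⟶ P.residueField z :=
    Spec.preimage (ι ≫ pullback.snd _ _ ≫ Curv2.bcSnd k X k')
  letI : Algebra k' (P.residueField z) := b.hom.toAlgebra
  have ha : Spec.map a = ι ≫ pullback.fst _ _ ≫ Curv2.bcSnd k X K := Spec.map_preimage _
  have hb : Spec.map (CommRingCat.ofHom (algebraMap k' (P.residueField z))) =
      ι ≫ pullback.snd _ _ ≫ Curv2.bcSnd k X k' := Spec.map_preimage _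
  let W : Scheme.{u} := Curv2.bc k' (Curv2.bc k X k') (P.residueField z)
  let t : Spec (P.residueField z) ⟶ W := pullback.lift (ι ≫ pullback.snd _ _) (𝟙 _) (by
    rw [Category.id_comp, hb, Category.assoc]; rfl)
  have hab : Spec.map a ≫ Spec.map (CommRingCat.ofHom (algebraMap k K)) =
      Spec.map (CommRingCat.ofHom (algebraMap k' (P.residueField z))) ≫
        Spec.map (CommRingCat.ofHom (algebraMap k k')) := by
    rw [ha, hb]; simp only [Category.assoc]
    rw [← pullback.condition (f := X ↘ Spec (CommRingCat.of k)),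
      ← pullback.condition (f := X ↘ Spec (CommRingCat.of k))]
    rw [← Category.assoc (pullback.fst (Curv2.bcFst k X K) (Curv2.bcFst k X k')), pullback.condition,
      Category.assoc]
  have sqW : IsPullback (Curv2.bcFst k' (Curv2.bc k X k') (P.residueField z) ≫ Curv2.bcFst k X k')
      (Curv2.bcSnd k' (Curv2.bc k X k') (P.residueField z)) (X ↘ Spec (CommRingCat.of k))
      (Spec.map (CommRingCat.ofHom (algebraMap k' (P.residueField z))) ≫
        Spec.map (CommRingCat.ofHom (algebraMap k k'))) :=
    (IsPullback.of_hasPullback _ _).paste_horiz (IsPullback.of_hasPullback _ _)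
  rw [← hab] at sqW
  let π : W ⟶ Curv2.bc k X K := pullback.lift
    (Curv2.bcFst k' (Curv2.bc k X k') (P.residueField z) ≫ Curv2.bcFst k X k')
    (Curv2.bcSnd k' (Curv2.bc k X k') (P.residueField z) ≫ Spec.map a)
    (by rw [Category.assoc]; exact sqW.w)
  have hπ1 : π ≫ Curv2.bcFst k X K = _ := pullback.lift_fst _ _ _
  have hπ2 : π ≫ Curv2.bcSnd k X K = _ := pullback.lift_snd _ _ _
  rw [← hπ1] at sqW
  have sqπ := IsPullback.of_right sqW hπ2 (IsPullback.of_hasPullback _ _)
  have hfa : Flat (Spec.map a) := by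
    rw [HasRingHomProperty.Spec_iff (P := @Flat)]
    letI := a.hom.toAlgebra
    exact (RingHom.flat_algebraMap_iff (R := K) (S := P.residueField z)).2 inferInstance
  haveI : Flat π := MorphismProperty.of_isPullback (P := @Flat) sqπ.flip hfa
  let w : W := t (IsLocalRing.closedPoint (P.residueField z))
  have hw : Curv2.bcFst k' (Curv2.bc k X k') (P.residueField z) w = x' := by
    show (t ≫ pullback.fst _ _) _ = _
    rw [show t ≫ pullback.fst _ _ = ι ≫ pullback.snd _ _ from pullback.lift_fst _ _ _]
    show pullback.snd (Curv2.bcFst k X K) (Curv2.bcFst k X k') (ι _) = x'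
    rw [Scheme.fromSpecResidueField_apply]
    exact hz2
  have htπ : t ≫ π = ι ≫ pullback.fst _ _ := by
    apply pullback.hom_ext
    · simp only [Category.assoc]
      rw [hπ1, pullback.condition, ← Category.assoc, pullback.lift_fst, Category.assoc]
    · simp only [Category.assoc]
      rw [hπ2, ← Category.assoc, pullback.lift_snd, Category.id_comp, ha]
  have hy' : π w = y := by
    show (t ≫ π) _ = y
    rw [htπ]
    show pullback.fst (Curv2.bcFst k X K) (Curv2.bcFst k X k') (ι _) = y
    rw [Scheme.fromSpecResidueField_apply]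
    exact hz1
  obtain ⟨hd, hi⟩ := h (P.residueField z) w hw
  letI := (π.stalkMap w).hom.toAlgebra
  haveI : Module.Flat ((Curv2.bc k X K).presheaf.stalk (π w)) (W.presheaf.stalk w) := Flat.stalkMap π w
  haveI : IsLocalHom (algebraMap ((Curv2.bc k X K).presheaf.stalk (π w)) (W.presheaf.stalk w)) :=
    inferInstanceAs (IsLocalHom (π.stalkMap w).hom)
  haveI := Module.FaithfullyFlat.of_flat_of_isLocalHom
    (A := (Curv2.bc k X K).presheaf.stalk (π w)) (B := W.presheaf.stalk w)
  haveI := hd
  haveI := hi
  rw [← hy']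
  exact NorLocLib.isDomain_isIntegrallyClosed_of_faithfullyFlat _ (W.presheaf.stalk w)

end Groth.Agent.S7600
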