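import Groth.Statements.S13625
import Groth.Agent.ConsLib.General
import Groth.Agent.ConsLib.PairProper
import Groth.Agent.RichLib.LimitDescentFlat
import Groth.Agent.CohCmpLib.SemiCont
import Groth.Agent.CohCmpLib.EulerFibre
import Groth.Agent.CohCmpLib.LineBundle
import Groth.Agent.FibDimLib.FieldExt
import Groth.Agent.GLinStabLib.GenBase
import Groth.Agent.GorOpenLib.Mor
import Groth.Agent.GorLib.BaseChangeScheme
import Groth.Agent.SurfNumLib.K3
import Groth.Agent.CurveVBLib.Integral
import Groth.Agent.S5667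
import Groth.Agent.S5933
import Groth.Agent.S7599
import Groth.Agent.S7600
import Groth.Agent.S0403
import Groth.Agent.S0404
-- import your own Groth.Agent.* helpers here

set_option autoImplicit false
universe u
open CategoryTheory CategoryTheory.Limits AlgebraicGeometry Opposite
open Lim

namespace Groth.Agent.S13625

open RichLib.LimBC ConsLib RichLib.FlatNoeth

attribute [local instance] ConsLib.zAlgebra

set_option backward.isDefEq.respectTransparency false
set_option maxHeartbeats 800000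

noncomputable section

theorem exists_model (A : Type u) [CommRing A] {X : Scheme.{u}} (f : X ⟶ Spec (CommRingCat.of A))
    [Flat f] [IsProper f] [LocallyOfFinitePresentation f] :
    ∃ A₀ : Subalgebra ℤ A, A₀.FG ∧
      ∃ (X₀ : Scheme.{u}) (f₀ : X₀ ⟶ Spec (CommRingCat.of ↥A₀)) (q : X ⟶ X₀),
        Flat f₀ ∧ IsProper f₀ ∧ LocallyOfFinitePresentation f₀ ∧
          IsPullback q f f₀ (Spec.map (CommRingCat.ofHom (algebraMap (↥A₀) A))) := by
  let A' := zSys A
  haveI : ∀ i j (a : i ⟶ j), IsAffineHom (A'.D.map a) := fun _ _ a => A'.affine_map a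
  haveI : ∀ i, IsNoetherian (A'.D.obj i) := fun i => zSys_obj _ i
  let e : Spec (CommRingCat.of A) ≅ A'.c.pt := (zSysIso _).symm
  obtain ⟨i, ⟨N⟩⟩ := DescFP.exists_model A'.hc (f ≫ e.hom)
  haveI := N.lfp
  haveI := N.qc
  haveI := N.qs
  haveI := N.compactSpace
  let Z := ofStage A'.D A'.c A'.hc i
  let eX : X ≅ pullback N.p Z.s := N.sq.isoPullback
  have hX₂ : eX.hom ≫ pullback.snd N.p Z.s = f ≫ e.hom := N.sq.isoPullback_hom_snd
  have hlim : ∀ (P : MorphismProperty Scheme.{u}) [P.RespectsIso], P f → AtLim Z N.p P := by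
    intro P _ hf
    show P (pullback.snd N.p Z.s)
    refine (MorphismProperty.cancel_left_of_respectsIso P eX.hom _).mp ?_
    rw [hX₂]
    exact (MorphismProperty.cancel_right_of_respectsIso P f e.hom).mpr hf
  obtain ⟨ψ₁, hψ₁⟩ := RichLib.LimBC.exists_at_flat Z N.p (hlim @Flat ‹_›)
  obtain ⟨ψ₂, hψ₂⟩ := ConsLib.exists_at_isProper Z N.p (hlim @IsProper ‹_›)
  let ψ := IsCofiltered.min ψ₁ ψ₂
  refine ⟨toZ ψ.left.unop.1, fg_toZ _ ψ.left.unop.2, _, pullback.snd N.p (Z.t ψ), eX.hom ≫ pbπ Z N.p ψ,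
    at_of_hom Z N.p (IsCofiltered.minToLeft ψ₁ ψ₂) hψ₁, at_of_hom Z N.p (IsCofiltered.minToRight ψ₁ ψ₂) hψ₂,
    MorphismProperty.pullback_snd _ _ inferInstance, ?_⟩
  refine (isPullback_cone Z N.p ψ).of_iso eX.symm (Iso.refl _) e.symm (Iso.refl _) ?_ ?_ ?_ ?_
  · exact (Category.comp_id _).trans (Iso.inv_hom_id_assoc _ _).symm
  · exact (Iso.eq_inv_comp eX).mpr ((Category.assoc _ _ _).symm.trans ((Iso.comp_inv_eq e).mpr hX₂))
  · exact (Category.comp_id _).trans (Category.id_comp _).symm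
  · exact (Category.comp_id _).trans (Iso.inv_hom_id_assoc _ _).symm

/-- Enlarging a finitely generated subalgebra into an open set. -/
theorem exists_factor {A : Type u} [CommRing A] (A₀ : Subalgebra ℤ A) (hA₀ : A₀.FG)
    (V : Set (PrimeSpectrum ↥A₀)) (hV : IsOpen V) (h : ∀ p : PrimeSpectrum A, p.comap (algebraMap ↥A₀ A) ∈ V) :
    ∃ (A₁ : Subalgebra ℤ A) (hle : A₀ ≤ A₁), A₁.FG ∧
      ∀ q : PrimeSpectrum ↥A₁, q.comap (Subalgebra.inclusion hle).toRingHom ∈ V := by
  classical
  obtain ⟨I, hI⟩ := (PrimeSpectrum.isClosed_iff_zeroLocus_ideal _).1 hV.isClosed_compl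
  have htop : (1 : A) ∈ Ideal.map (algebraMap ↥A₀ A) I := by
    by_contra h1
    obtain ⟨m, hm, hle⟩ := Ideal.exists_le_maximal _ ((Ideal.ne_top_iff_one _).2 h1)
    have h2 : (⟨m, hm.isPrime⟩ : PrimeSpectrum A).comap (algebraMap ↥A₀ A) ∈ Vᶜ := by
      rw [hI]
      exact Ideal.map_le_iff_le_comap.1 hle
    exact h2 (h _)
  obtain ⟨n, a, b, hab⟩ := Submodule.mem_span_set'.1 htop
  choose c hc hcb using fun i => (b i).2
  refine ⟨A₀ ⊔ Algebra.adjoin ℤ (Finset.univ.image a : Set A), le_sup_left, hA₀.sup ⟨_, rfl⟩, fun q => ?_⟩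
  by_contra hq
  rw [← Set.mem_compl_iff, hI] at hq
  set j : ↥A₀ →+* ↥(A₀ ⊔ Algebra.adjoin ℤ (Finset.univ.image a : Set A)) :=
    (Subalgebra.inclusion le_sup_left).toRingHom
  have ha : ∀ i, a i ∈ A₀ ⊔ Algebra.adjoin ℤ (Finset.univ.image a : Set A) := fun i =>
    le_sup_right (a := A₀) (Algebra.subset_adjoin (by simp))
  have h1 : (1 : ↥(A₀ ⊔ Algebra.adjoin ℤ (Finset.univ.image a : Set A))) = ∑ i, ⟨a i, ha i⟩ * j (c i) := by
    apply Subtype.ext
    rw [AddSubmonoidClass.coe_finset_sum]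
    refine hab.symm.trans (Finset.sum_congr rfl fun i _ => ?_)
    rw [← hcb i]
    rfl
  exact q.isPrime.ne_top ((Ideal.eq_top_iff_one _).2 (h1 ▸ Ideal.sum_mem _ fun i _ =>
    Ideal.mul_mem_left _ _ (hq (hc i))))

/-- The condition on a geometric fibre. -/
def GeomOK (Z : Scheme.{u}) : Prop :=
  IsIntegral Z ∧ Pi1.IsNormalScheme Z ∧ topologicalKrullDim ↥Z = 2 ∧
    ∀ x : ↥Z, LocCoh.IsGorensteinLocalRing (Z.presheaf.stalk x)

theorem normal_of_isIso {Z Z' : Scheme.{u}} (e : Z ⟶ Z') [IsIso e] (h : Pi1.IsNormalScheme Z') : Pi1.IsNormalScheme Z :=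
  fun z => by
    obtain ⟨h1, h2⟩ := h (e z)
    let r : Z'.presheaf.stalk (e z) ≃+* Z.presheaf.stalk z :=
      RingEquiv.ofBijective (e.stalkMap z).hom (ConcreteCategory.bijective_of_isIso (e.stalkMap z))
    exact ⟨r.symm.toMulEquiv.isDomain _, IsIntegrallyClosed.of_equiv r⟩

theorem geomOK_of_isIso {Z Z' : Scheme.{u}} (e : Z ⟶ Z') [IsIso e] (h : GeomOK Z') : GeomOK Z := by
  obtain ⟨h1, h2, h3, h4⟩ := h
  refine ⟨?_, normal_of_isIso e h2, ?_, fun z => ?_⟩
  · haveI := h1
    haveI : Nonempty Z := ⟨(inv e) (genericPoint Z')⟩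
    exact isIntegral_of_isOpenImmersion e
  · rw [← h3]
    exact IsHomeomorph.topologicalKrullDim_eq _ (Scheme.homeoOfIso (asIso e)).isHomeomorph
  · exact GorLib.gorenstein_of_ringEquiv
      (RingEquiv.ofBijective (e.stalkMap z).hom (ConcreteCategory.bijective_of_isIso (e.stalkMap z))).symm (h4 (e z))

theorem exists_field_point {S : Scheme.{u}} {k : Type u} [Field k] (σ : Spec (CommRingCat.of k) ⟶ S) :
    ∃ (y : S) (ψ : S.residueField y ⟶ CommRingCat.of k), σ = Spec.map ψ ≫ S.fromSpecResidueField y :=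
  ⟨_, _, ((Scheme.SpecToEquivOfField k S).symm_apply_apply σ).symm⟩

theorem field_point_apply {T S : Scheme.{u}} {k : Type u} [Field k] (σ : Spec (CommRingCat.of k) ⟶ T) (v : T ⟶ S)
    {y : S} {ψ : S.residueField y ⟶ CommRingCat.of k} (h : σ ≫ v = Spec.map ψ ≫ S.fromSpecResidueField y)
    (o : Spec (CommRingCat.of k)) : v (σ o) = y := by
  rw [← Scheme.Hom.comp_apply, h, Scheme.Hom.comp_apply, Scheme.fromSpecResidueField_apply]

theorem exists_geom_point {T : Scheme.{u}} (p : T) :
    ∃ (Ω : Type u) (_ : Field Ω) (_ : IsAlgClosed Ω) (σ : Spec (CommRingCat.of Ω) ⟶ T)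
      (o : Spec (CommRingCat.of Ω)), σ o = p :=
  ⟨AlgebraicClosure (T.residueField p), inferInstance, inferInstance,
    Spec.map (CommRingCat.ofHom (algebraMap (T.residueField p) _)) ≫ T.fromSpecResidueField p, (⊥ : PrimeSpectrum _), by
      exact Scheme.fromSpecResidueField_apply p _⟩

variable {X S : Scheme.{u}} (f : X ⟶ S) [IsProper f] [Flat f] [LocallyOfFinitePresentation f]

/-- The good locus. -/
def Good : Set S :=
  ({s | (1 : WithBot ℕ∞) < topologicalKrullDim ↥(f.fiber s)} ∩ {s | topologicalKrullDim ↥(f.fiber s) ≤ 2} ∩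
    {s | PerfAux.betti f (Coh.structureModule X) s 0 < 2}) ∩
  ((f '' {x : X | Dual3.IsGorensteinAt f x}ᶜ)ᶜ ∩
    {y : S | ∀ x : ↥(f.fiber y), (∀ (K : Type u) [Field K] [Algebra (IsLocalRing.ResidueField (S.presheaf.stalk y)) K],
        Module.Finite (IsLocalRing.ResidueField (S.presheaf.stalk y)) K →
        ∀ x' : ↥(FBase.bc (f.fiberToSpecResidueField y) K),
          (FBase.bcπ (f.fiberToSpecResidueField y) K).base x' = x →
          IsDomain ((FBase.bc (f.fiberToSpecResidueField y) K).presheaf.stalk x') ∧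
            IsIntegrallyClosed ((FBase.bc (f.fiberToSpecResidueField y) K).presheaf.stalk x'))})

theorem isOpen_good : IsOpen (Good f) := by
  have hh := (CohCmpLib.rank_one_hyps f (CohCmpLib.rank_one_structureModule X)).2
  exact (((Groth.Agent.S0404.result f 1).inter (Groth.Agent.S0403.result f 2)).inter
    (CohCmpLib.isOpen_betti_lt hh.1 hh.2 0 2)).inter
      ((f.isClosedMap _ (GorOpenLib.isOpen_gorAt f).isClosed_compl).isOpen_compl.inter (Groth.Agent.S5933.result f))

section point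

variable (y : S) (k : Type u) [Field k] [IsAlgClosed k] (ψ : S.residueField y ⟶ CommRingCat.of k)

theorem inv_spec :
    topologicalKrullDim ↥(pullback f (Spec.map ψ ≫ S.fromSpecResidueField y)) = topologicalKrullDim ↥(f.fiber y) ∧
    (letI : (pullback f (Spec.map ψ ≫ S.fromSpecResidueField y)).Over (Spec (CommRingCat.of k)) := ⟨pullback.snd _ _⟩
     Module.finrank k (Coh.HH (pullback f (Spec.map ψ ≫ S.fromSpecResidueField y))
      (Coh.structureModule _) 0) = PerfAux.betti f (Coh.structureModule X) y 0) ∧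
    ((∀ x, f x = y → Dual3.IsGorensteinAt f x) ↔
      ∀ x : ↥(pullback f (Spec.map ψ ≫ S.fromSpecResidueField y)),
        LocCoh.IsGorensteinLocalRing ((pullback f (Spec.map ψ ≫ S.fromSpecResidueField y)).presheaf.stalk x)) := by
  let σ := Spec.map ψ ≫ S.fromSpecResidueField y
  let Z := pullback f σ
  let q : Z ⟶ Spec (CommRingCat.of k) := pullback.snd f σ
  letI : Z.Over (Spec (CommRingCat.of k)) := ⟨q⟩
  obtain ⟨hqc, hfp, hfl⟩ := CohCmpLib.rank_one_hyps f (CohCmpLib.rank_one_structureModule X)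
  have H : IsPullback (pullback.fst f σ) q f σ := IsPullback.of_hasPullback f σ
  haveI : IsProper q := MorphismProperty.pullback_snd _ _ ‹IsProper f›
  haveI : Flat q := MorphismProperty.pullback_snd _ _ ‹Flat f›
  have hσ : ∀ z : Spec (CommRingCat.of k), σ z = y := fun z => by
    show S.fromSpecResidueField y ((Spec.map ψ) z) = y
    rw [Scheme.fromSpecResidueField_apply]
  let z : Spec (CommRingCat.of k) := (⊥ : PrimeSpectrum k)
  haveI : Subsingleton ↥(Spec (CommRingCat.of k)) := inferInstanceAs (Subsingleton (PrimeSpectrum k))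
  refine ⟨?_, ?_, ?_⟩
  · refine (GLinStabGen.dim_fiber_eq q z).symm.trans ((FibDimLib.topologicalKrullDim_fiber_baseChange H z).trans ?_)
    rw [hσ z]
  · obtain ⟨W, C, hW, hy⟩ := CohCmpLib.exists_chart_at hfp hfl y
    have h := C.finrank_bc hW H (fun z' => Set.mem_of_eq_of_mem (hσ z') hy) z 0
    exact ((CurvLib.hIso (k := k) (KFlatLib.pullUnitIso (pullback.fst f σ)) 0).finrank_eq).symm.trans (h.trans
      (congrArg (fun t => PerfAux.betti f (Coh.structureModule X) t 0) (hσ z)))
  · haveI : LocallyOfFiniteType q := inferInstance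
    haveI : IsLocallyNoetherian Z := LocallyOfFiniteType.isLocallyNoetherian q
    have hiff : ∀ x : Z, Dual3.IsGorensteinAt f (pullback.fst f σ x) ↔ LocCoh.IsGorensteinLocalRing (Z.presheaf.stalk x) := by
      intro x
      have h := GorLib.gorensteinAt_baseChange f σ q (pullback.fst f σ) H x (Or.inr inferInstance)
      haveI : IsIso (q.fiberι (q x)) := by
        haveI : IsIso ((Spec (CommRingCat.of k)).fromSpecResidueField (q x)) := by
          haveI : Surjective ((Spec (CommRingCat.of k)).fromSpecResidueField (q x)) :=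
            ⟨fun t => ⟨IsLocalRing.closedPoint _, Subsingleton.elim _ _⟩⟩
          haveI : IsClosedImmersion ((Spec (CommRingCat.of k)).fromSpecResidueField (q x)) :=
            IsClosedImmersion.of_isPreimmersion _ (by
              rw [Set.range_eq_univ.2 (Surjective.surj)]; exact isClosed_univ)
          exact isIso_of_isClosedImmersion_of_surjective _
        exact inferInstanceAs (IsIso (pullback.fst q _))
      let e : Z.presheaf.stalk x ≃+* (q.fiber (q x)).presheaf.stalk (q.asFiber x) :=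
        (Z.presheaf.stalkCongr (.of_eq (q.fiberι_asFiber x).symm)).commRingCatIsoToRingEquiv.trans
          (RingEquiv.ofBijective ((q.fiberι (q x)).stalkMap (q.asFiber x)).hom
            (ConcreteCategory.bijective_of_isIso _))
      exact ⟨fun hG => GorLib.gorenstein_of_ringEquiv e (h.1 hG).2,
        fun hG => h.2.1 (Flat.stalkMap f _) ⟨Flat.stalkMap q x, GorLib.gorenstein_of_ringEquiv e.symm hG⟩⟩
    constructor
    · intro h x
      refine (hiff x).1 (h _ ?_)
      rw [← Scheme.Hom.comp_apply, pullback.condition, Scheme.Hom.comp_apply]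
      exact hσ _
    · intro h x hx
      obtain ⟨x', hx', -⟩ := Scheme.Pullback.exists_preimage_pullback x z (hx.trans (hσ z).symm)
      exact hx' ▸ (hiff x').2 (h x')

theorem normal_iff :
    (∀ x : ↥(f.fiber y), (∀ (K : Type u) [Field K] [Algebra (IsLocalRing.ResidueField (S.presheaf.stalk y)) K],
        Module.Finite (IsLocalRing.ResidueField (S.presheaf.stalk y)) K →
        ∀ x' : ↥(FBase.bc (f.fiberToSpecResidueField y) K),
          (FBase.bcπ (f.fiberToSpecResidueField y) K).base x' = x →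
          IsDomain ((FBase.bc (f.fiberToSpecResidueField y) K).presheaf.stalk x') ∧
            IsIntegrallyClosed ((FBase.bc (f.fiberToSpecResidueField y) K).presheaf.stalk x'))) ↔
      Pi1.IsNormalScheme (pullback f (Spec.map ψ ≫ S.fromSpecResidueField y)) := by
  let κ : Type u := S.residueField y
  letI : (f.fiber y).Over (Spec (CommRingCat.of κ)) := ⟨f.fiberToSpecResidueField y⟩
  letI : Algebra κ k := ψ.hom.toAlgebra
  let e : Curv2.bc κ (f.fiber y) k ≅ pullback f (Spec.map ψ ≫ S.fromSpecResidueField y) :=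
    pullbackLeftPullbackSndIso f (S.fromSpecResidueField y) (Spec.map ψ)
  constructor
  · intro h
    have hall : ∀ x, ∀ (K : Type u) [Field K] [Algebra κ K] (x' : ↥(Curv2.bc κ (f.fiber y) K)),
        Curv2.bcFst κ (f.fiber y) K x' = x →
        IsDomain ((Curv2.bc κ (f.fiber y) K).presheaf.stalk x') ∧
          IsIntegrallyClosed ((Curv2.bc κ (f.fiber y) K).presheaf.stalk x') := fun x =>
      (Groth.Agent.S7599.result κ (f.fiber y) x).1.2 fun K hK hA hF _ x' hx' => @h x K hK hA hF x' hx'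
    exact normal_of_isIso e.inv fun x' => hall _ k x' rfl
  · intro h x K iK iA _ x' hx'
    letI : Algebra κ K := iA
    let Z := Curv2.bc κ (f.fiber y) k
    letI : Z.Over (Spec (CommRingCat.of k)) := ⟨Curv2.bcSnd κ (f.fiber y) k⟩
    have hZ : Pi1.IsNormalScheme Z := normal_of_isIso e.hom h
    obtain ⟨w, hw⟩ : ∃ w : Z, Curv2.bcFst κ (f.fiber y) k w = x := by
      obtain ⟨w, hw, -⟩ := Scheme.Pullback.exists_preimage_pullback
        (f := f.fiber y ↘ Spec (CommRingCat.of κ)) (g := Spec.map (CommRingCat.ofHom (algebraMap κ k))) x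
        (⊥ : PrimeSpectrum k) (Subsingleton.elim (α := PrimeSpectrum κ) _ _)
      exact ⟨w, hw⟩
    refine Groth.Agent.S7600.result κ (f.fiber y) k w ?_ K x' (hx'.trans hw.symm)
    refine (Groth.Agent.S7599.result k Z w).1.2 ?_
    intro K' _ _ _ _ w' _
    haveI : IsIso (CommRingCat.ofHom (algebraMap k K')) :=
      (ConcreteCategory.isIso_iff_bijective _).2 IsAlgClosed.algebraMap_bijective_of_isIntegral
    haveI : IsIso (Curv2.bcFst k Z K') := inferInstanceAs (IsIso (pullback.fst _ _))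
    exact normal_of_isIso (Curv2.bcFst k Z K') hZ w'

theorem good_iff : y ∈ Good f ↔ GeomOK (pullback f (Spec.map ψ ≫ S.fromSpecResidueField y)) := by
  obtain ⟨hd, hb, hG⟩ := inv_spec f y k ψ
  have hN := normal_iff f y k ψ
  let Z := pullback f (Spec.map ψ ≫ S.fromSpecResidueField y)
  letI : Z.Over (Spec (CommRingCat.of k)) := ⟨pullback.snd _ _⟩
  haveI : IsProper (Z ↘ Spec (CommRingCat.of k)) := MorphismProperty.pullback_snd _ _ ‹IsProper f›
  have hmem : y ∈ (f '' {x : X | Dual3.IsGorensteinAt f x}ᶜ)ᶜ ↔ ∀ x, f x = y → Dual3.IsGorensteinAt f x := by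
    constructor
    · exact fun h x hx => by_contra fun hc => h ⟨x, hc, hx⟩
    · rintro h ⟨x, hc, hx⟩
      exact hc (h x hx)
  constructor
  · rintro ⟨⟨⟨h1, h2⟩, h3⟩, h4, h5⟩
    change (1 : WithBot ℕ∞) < _ at h1
    change _ ≤ (2 : WithBot ℕ∞) at h2
    change _ < 2 at h3
    rw [← hd] at h1 h2
    rw [← hb] at h3
    have hdim : topologicalKrullDim ↥Z = 2 := by
      change (1 : WithBot ℕ∞) < topologicalKrullDim ↥Z at h1
      change topologicalKrullDim ↥Z ≤ 2 at h2
      refine le_antisymm h2 ?_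
      generalize topologicalKrullDim ↥Z = d at h1 ⊢
      induction d with
      | bot => simp at h1
      | coe d => exact WithBot.coe_le_coe.2 ((ENat.add_one_le_iff (by simp)).2 (WithBot.coe_lt_coe.1 h1))
    have hn : Pi1.IsNormalScheme Z := hN.1 h5
    haveI : Nonempty ↥Z := by
      by_contra hne
      haveI : IsEmpty ↥Z := not_nonempty_iff.mp hne
      have := topologicalKrullDim_zero_of_discreteTopology ↥Z
      rw [hdim] at this
      exact absurd this (by decide)
    haveI := CurvLib.finite_HH (k := k) (DevissLib.isCoh_structureModule Z) 0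
    obtain ⟨x⟩ := ‹Nonempty ↥Z›
    haveI : Nonempty (⊤ : Z.Opens) := ⟨⟨x, trivial⟩⟩
    haveI : Nontrivial (Coh.HH Z (Coh.structureModule Z) 0) :=
      (DegPullLib.e0 (Coh.structureModule Z)).toEquiv.nontrivial (β := Γ(Z, ⊤))
    have h0 : Module.finrank k (Coh.HH Z (Coh.structureModule Z) 0) = 1 := by
      have hp := Module.finrank_pos (R := k) (M := Coh.HH Z (Coh.structureModule Z) 0)
      change Module.finrank k (Coh.HH Z (Coh.structureModule Z) 0) < 2 at h3
      omega
    haveI : ConnectedSpace ↥Z := SurfNumLib.connected_of_h0 (k := k) (X := Z) h0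
    haveI := CurvLib.isNoetherian k (X := Z)
    haveI : ∀ x : Z, IsDomain (Z.presheaf.stalk x) := fun x => (hn x).1
    exact ⟨CurveVBLib.isIntegral_of_connected, hn, hdim, hG.1 (hmem.1 h4)⟩
  · rintro ⟨h1, h2, h3, h4⟩
    haveI := h1
    have h0 : Module.finrank k (Coh.HH Z (Coh.structureModule Z) 0) = 1 := Groth.Agent.S5667.finrank_h0 k Z
    refine ⟨⟨⟨?_, ?_⟩, ?_⟩, hmem.2 (hG.2 h4), hN.2 h2⟩
    · show (1 : WithBot ℕ∞) < _
      rw [← hd, h3]
      decide
    · show _ ≤ (2 : WithBot ℕ∞)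
      rw [← hd, h3]
    · show _ < 2
      rw [← hb]
      exact h0.trans_lt one_lt_two

end point

end


/-- Let R be a commutative ring and f : X → Spec R a proper, flat morphism of schemes, locally of finite
presentation, whose geometric fibres (fibres over Spec k → Spec R, k an algebraically closed field)
are integral, normal schemes of Krull dimension 2 with Gorenstein local rings. Then f is the base
change, along Spec R → Spec R₀ for some ring map R₀ → R with R₀ Noetherian, of a proper, flat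
morphism f₀ : X₀ → Spec R₀ locally of finite presentation whose geometric fibres are again integral,
normal, of Krull dimension 2 and with Gorenstein local rings. (Algebraically closed fields are taken
in the universe of R.) -/
theorem result
    (R : Type u) [CommRing R] (X : Scheme.{u}) (f : X ⟶ Spec (CommRingCat.of R))
    [IsProper f] [Flat f] [LocallyOfFinitePresentation f]
    (hfib : (∀ (k : Type u) [Field k] [IsAlgClosed k] (σ : Spec (CommRingCat.of k) ⟶ Spec (CommRingCat.of R)),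
      IsIntegral (pullback f σ) ∧ Pi1.IsNormalScheme (pullback f σ) ∧
        topologicalKrullDim ↥(pullback f σ) = 2 ∧
        ∀ x : ↥(pullback f σ), LocCoh.IsGorensteinLocalRing ((pullback f σ).presheaf.stalk x))) :
    ∃ (R₀ : CommRingCat.{u}) (φ : R₀ ⟶ CommRingCat.of R) (X₀ : Scheme.{u}) (f₀ : X₀ ⟶ Spec R₀) (g : X ⟶ X₀),
      IsNoetherianRing ↥R₀ ∧ IsPullback g f f₀ (Spec.map φ) ∧
      IsProper f₀ ∧ Flat f₀ ∧ LocallyOfFinitePresentation f₀ ∧
      (∀ (k : Type u) [Field k] [IsAlgClosed k] (σ : Spec (CommRingCat.of k) ⟶ Spec R₀),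
      IsIntegral (pullback f₀ σ) ∧ Pi1.IsNormalScheme (pullback f₀ σ) ∧
        topologicalKrullDim ↥(pullback f₀ σ) = 2 ∧
        ∀ x : ↥(pullback f₀ σ), LocCoh.IsGorensteinLocalRing ((pullback f₀ σ).presheaf.stalk x)) := by
  obtain ⟨A₀, hA₀, X₀, f₀, q, hfl, hp, hlfp, sq⟩ := exists_model R f
  have hgood : ∀ p : PrimeSpectrum R, p.comap (algebraMap ↥A₀ R) ∈ Good f₀ := fun p => by
    obtain ⟨Ω, iF, iA, σ, o, hσ⟩ := exists_geom_point (T := Spec (CommRingCat.of R)) p
    let v := Spec.map (CommRingCat.ofHom (algebraMap ↥A₀ R))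
    obtain ⟨y, ψ, hψ⟩ := exists_field_point (σ ≫ v)
    have hy' : v p = y := hσ ▸ field_point_apply σ v hψ o
    have hZ : GeomOK (pullback f σ) := hfib Ω σ
    let e : pullback f σ ≅ pullback f₀ (Spec.map ψ ≫ (Spec (CommRingCat.of ↥A₀)).fromSpecResidueField y) :=
      ((IsPullback.of_hasPullback f σ).paste_horiz sq).isoPullback ≪≫ pullback.congrHom rfl hψ
    have := (good_iff f₀ y Ω ψ).2 (geomOK_of_isIso e.inv hZ)
    show v p ∈ Good f₀
    rw [hy']
    exact this
  obtain ⟨A₁, hle, hA₁, hq⟩ := exists_factor A₀ hA₀ (Good f₀) (isOpen_good f₀) hgood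
  let v : Spec (CommRingCat.of ↥A₁) ⟶ Spec (CommRingCat.of ↥A₀) :=
    Spec.map (CommRingCat.ofHom (Subalgebra.inclusion hle).toRingHom)
  let u : Spec (CommRingCat.of R) ⟶ Spec (CommRingCat.of ↥A₁) := Spec.map (CommRingCat.ofHom (algebraMap ↥A₁ R))
  have huv : u ≫ v = Spec.map (CommRingCat.ofHom (algebraMap ↥A₀ R)) := by
    simp only [u, v, ← Spec.map_comp]
    rfl
  let w : X ⟶ pullback f₀ v := pullback.lift q (f ≫ u) (by rw [Category.assoc, huv]; exact sq.w)
  have hw : IsPullback w f (pullback.snd f₀ v) u := by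
    refine IsPullback.of_right ?_ (pullback.lift_snd _ _ _) (IsPullback.of_hasPullback f₀ v)
    rw [pullback.lift_fst, huv]
    exact sq
  haveI : Algebra.FiniteType ℤ ↥A₁ := ⟨(Subalgebra.fg_top _).2 hA₁⟩
  refine ⟨CommRingCat.of ↥A₁, CommRingCat.ofHom (algebraMap ↥A₁ R), pullback f₀ v, pullback.snd f₀ v, w,
    Algebra.FiniteType.isNoetherianRing ℤ ↥A₁, hw, MorphismProperty.pullback_snd _ _ hp,
    MorphismProperty.pullback_snd _ _ hfl, MorphismProperty.pullback_snd _ _ hlfp, ?_⟩
  intro k _ _ σ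
  obtain ⟨y, ψ, hψ⟩ := exists_field_point (σ ≫ v)
  have hy : y ∈ Good f₀ := by
    rw [← field_point_apply σ v hψ (⊥ : PrimeSpectrum k)]
    exact hq (σ (⊥ : PrimeSpectrum k))
  let e : pullback (pullback.snd f₀ v) σ ≅ pullback f₀ (Spec.map ψ ≫ (Spec (CommRingCat.of ↥A₀)).fromSpecResidueField y) :=
    pullbackLeftPullbackSndIso f₀ v σ ≪≫ pullback.congrHom rfl hψ
  exact geomOK_of_isIso e.hom ((good_iff f₀ y k ψ).1 hy)

end Groth.Agent.S13625
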