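import Groth.Statements.S13627
import Mathlib.FieldTheory.IsAlgClosed.AlgebraicClosure
-- import your own Groth.Agent.* helpers here

set_option autoImplicit false
universe u
open CategoryTheory CategoryTheory.Limits AlgebraicGeometry Opposite
open FBase

namespace Groth.Agent.S13627

open CategoryTheory CategoryTheory.Limits AlgebraicGeometry

/-- Let P be a property of schemes over fields, invariant under isomorphisms of schemes over the base
field and ascending along every field extension k → K (if Z over k has P then Z ×_k Spec K over K
has P). For a morphism of schemes f : X → T, these conditions are equivalent: (1) for every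
algebraically closed field k and every morphism Spec k → T the fibre X ×_T Spec k has P over k; (2)
for every point t of T the fibre of f over Spec of an algebraic closure of the residue field κ(t)
has P. (Fields are taken in the universe of the schemes. The published statement also treats a
morphism from an algebraic space X to a scheme T; this row treats morphisms of schemes.) -/
theorem result
    (P : ∀ (k : Type u) [Field k] (Z : Scheme.{u}), (Z ⟶ Spec (CommRingCat.of k)) → Prop)
    (hiso : ∀ (k : Type u) [Field k] (Z Z' : Scheme.{u}) (e : Z ≅ Z') (g : Z' ⟶ Spec (CommRingCat.of k)),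
      P k Z' g → P k Z (e.hom ≫ g))
    (hext : ∀ (k K : Type u) [Field k] [Field K] (i : k →+* K) (Z : Scheme.{u}) (g : Z ⟶ Spec (CommRingCat.of k)),
      P k Z g → P K (pullback g (Spec.map (CommRingCat.ofHom i))) (pullback.snd g (Spec.map (CommRingCat.ofHom i))))
    {X T : Scheme.{u}} (f : X ⟶ T) :
    (∀ (k : Type u) [Field k] [IsAlgClosed k] (σ : Spec (CommRingCat.of k) ⟶ T),
        P k (pullback f σ) (pullback.snd f σ)) ↔
      ∀ t : T, P (AlgebraicClosure ↥(T.residueField t))
        (pullback f (Spec.map (CommRingCat.ofHom (algebraMap ↥(T.residueField t) (AlgebraicClosure ↥(T.residueField t)))) ≫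
          T.fromSpecResidueField t))
        (pullback.snd f (Spec.map (CommRingCat.ofHom (algebraMap ↥(T.residueField t) (AlgebraicClosure ↥(T.residueField t)))) ≫
          T.fromSpecResidueField t)) := by
  refine ⟨fun h t => h _ _, fun h k _ _ σ => ?_⟩
  obtain ⟨⟨t, i⟩, rfl⟩ : ∃ d, (Scheme.SpecToEquivOfField k T).symm d = σ :=
    ⟨_, (Scheme.SpecToEquivOfField k T).symm_apply_apply σ⟩
  letI := i.hom.toAlgebra
  let j : AlgebraicClosure (T.residueField t) →ₐ[T.residueField t] k := IsAlgClosed.lift
  let a := Spec.map (CommRingCat.ofHom (algebraMap (T.residueField t) (AlgebraicClosure (T.residueField t))))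
    ≫ T.fromSpecResidueField t
  have hσ : (Scheme.SpecToEquivOfField k T).symm ⟨t, i⟩ = Spec.map (CommRingCat.ofHom j.toRingHom) ≫ a := by
    show Spec.map i ≫ T.fromSpecResidueField t = _
    simp only [a, ← Category.assoc, ← Spec.map_comp, ← CommRingCat.ofHom_comp]
    congr 2
    ext x
    exact (j.commutes x).symm
  rw [hσ]
  have h1 := hext _ k j.toRingHom _ _ (h t)
  have h2 := hiso k _ _ (pullbackLeftPullbackSndIso f a (Spec.map (CommRingCat.ofHom j.toRingHom))).symm _ h1
  rwa [Iso.symm_hom, pullbackLeftPullbackSndIso_inv_snd_snd] at h2

end Groth.Agent.S13627
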