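import Groth.Statements.S13629
import Groth.Agent.CohCmpLib.EulerFibre
import Groth.Agent.S11747
import Groth.Agent.IntMultLib.Positive

set_option autoImplicit false
universe u
open CategoryTheory CategoryTheory.Limits AlgebraicGeometry Opposite
open FGA

namespace Groth.Agent.S13629

/-- Let f : X → Y be a proper, flat morphism of schemes, locally of finite presentation, whose
scheme-theoretic fibres X_y all have Krull dimension at most 2, and let L be an invertible
O_X-module with a tensor inverse M (M ⊗ L ≅ O_X). Then the self-intersection number (L_y · L_y) of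
the restriction of L to the fibre X_y over κ(y), namely the alternating sum χ(O_{X_y}) − 2χ(M_y) +
χ(M_y ⊗ M_y) of Euler characteristics in degrees ≤ 2, is a locally constant function of y: every
point y₀ of Y has an open neighbourhood on which it equals its value at y₀. (The published statement
is the case where the fibres are integral normal Gorenstein surfaces and L is the relative dualizing
sheaf, so that the number is the self-intersection K² of the canonical class of the fibre; the fibre
X_y is regarded as a scheme over Spec κ(y) through the second projection.) -/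
theorem result
    {X Y : Scheme.{u}} (f : X ⟶ Y) [IsProper f] [Flat f] [LocallyOfFinitePresentation f]
    (hdim : ∀ y : Y, topologicalKrullDim ↥(f.fiber y) ≤ 2)
    (L M : X.Modules) (hL : PicF.IsInvertible L) (hM : ClSub.IsInverseOf M L) (y₀ : Y) :
    ∃ U : Y.Opens, y₀ ∈ U ∧ ∀ y : Y, y ∈ U →
      @FGA.intNum ↥(Y.residueField y) _ (f.fiber y) ⟨f.fiberToSpecResidueField y⟩ 2 2
            ![(Scheme.Modules.pullback (f.fiberι y)).obj M, (Scheme.Modules.pullback (f.fiberι y)).obj M]
            (Coh.structureModule (f.fiber y)) =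
        @FGA.intNum ↥(Y.residueField y₀) _ (f.fiber y₀) ⟨f.fiberToSpecResidueField y₀⟩ 2 2
            ![(Scheme.Modules.pullback (f.fiberι y₀)).obj M, (Scheme.Modules.pullback (f.fiberι y₀)).obj M]
            (Coh.structureModule (f.fiber y₀)) := by
  have hMi : PicF.IsInvertible M := IntMultLib.isInvertible_of_inverse hL (HilbPolyLib.swapIso L M ≪≫ hM.some)
  let T : Finset (Fin 2) → X.Modules := fun I => FGA.tensorList ((I.sort (· ≤ ·)).map ![M, M])
  have hTi : ∀ I, PicF.IsInvertible (T I) := fun I => HilbPolyLib.isInvertible_tensorList _ fun N hN => by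
    obtain ⟨j, -, rfl⟩ := List.mem_map.mp hN
    fin_cases j <;> exact hMi
  have hloc : IsLocallyConstant fun y : Y =>
      fun I : Finset (Fin 2) => (-1 : ℤ) ^ I.card * PerfAux.eulerChar f (T I) y := by
    rw [IsLocallyConstant.iff_exists_open]
    intro y
    choose U hU hyU hc using fun I : Finset (Fin 2) =>
      (IsLocallyConstant.iff_exists_open _).1 (CohCmpLib.isLocallyConstant_eulerChar
        ((CohCmpLib.rank_one_hyps f ((CohCmpLib.invertible_iff_rank_one _).1 (hTi I))).2.1)
        ((CohCmpLib.rank_one_hyps f ((CohCmpLib.invertible_iff_rank_one _).1 (hTi I))).2.2)) y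
    refine ⟨⋂ I, U I, isOpen_iInter_of_finite hU, Set.mem_iInter.2 hyU, fun y' hy' => funext fun I => ?_⟩
    exact congrArg ((-1 : ℤ) ^ I.card * ·) (hc I y' (Set.mem_iInter.1 hy' I))
  have key : ∀ y : Y, @FGA.intNum ↥(Y.residueField y) _ (f.fiber y) ⟨f.fiberToSpecResidueField y⟩ 2 2
      ![(Scheme.Modules.pullback (f.fiberι y)).obj M, (Scheme.Modules.pullback (f.fiberι y)).obj M]
      (Coh.structureModule (f.fiber y)) =
      ∑ I : Finset (Fin 2), (-1 : ℤ) ^ I.card * PerfAux.eulerChar f (T I) y := by
    intro y
    letI : (f.fiber y).Over (Spec (CommRingCat.of (Y.residueField y))) := ⟨f.fiberToSpecResidueField y⟩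
    haveI : IsProper (f.fiber y ↘ Spec (CommRingCat.of (Y.residueField y))) :=
      inferInstanceAs (IsProper (pullback.snd f (Y.fromSpecResidueField y)))
    refine Finset.sum_congr rfl fun I _ => congrArg ((-1 : ℤ) ^ I.card * ·) ?_
    rw [HilbPolyLib.eulerCharLE_eq (hdim y)]
    obtain ⟨e⟩ := Groth.Agent.S11747.nonempty_pull_tensorList (f.fiberι y) ((I.sort (· ≤ ·)).map ![M, M])
    rw [List.map_map] at e
    have hmap : (Scheme.Modules.pullback (f.fiberι y)).obj ∘ ![M, M] =
        ![(Scheme.Modules.pullback (f.fiberι y)).obj M, (Scheme.Modules.pullback (f.fiberι y)).obj M] := by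
      funext j; fin_cases j <;> rfl
    rw [hmap] at e
    let z₀ : Spec (CommRingCat.of (Y.residueField y)) := IsLocalRing.closedPoint (Y.residueField y)
    obtain ⟨-, hfp, hfl⟩ := CohCmpLib.rank_one_hyps f ((CohCmpLib.invertible_iff_rank_one _).1 (hTi I))
    have h := CohCmpLib.euler_bc hfp hfl (IsPullback.of_hasPullback f (Y.fromSpecResidueField y)) z₀
    refine Eq.trans ?_ (h.trans (congrArg (PerfAux.eulerChar f (T I)) (Scheme.fromSpecResidueField_apply y z₀)))
    exact finsum_congr fun p => congrArg (fun n : ℕ => (-1 : ℤ) ^ p * (n : ℤ))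
      (CurvLib.hIso (k := ↥(Y.residueField y)) (HilbPolyLib.swapIso _ _ ≪≫ HilbPolyLib.unitLeft _ ≪≫ e.symm) p).finrank_eq
  obtain ⟨U, hUo, hy₀, hU⟩ := (IsLocallyConstant.iff_exists_open _).1 hloc y₀
  refine ⟨⟨U, hUo⟩, hy₀, fun y hy => ?_⟩
  rw [key y, key y₀]
  exact Finset.sum_congr rfl fun I _ => congrFun (hU y hy) I

end Groth.Agent.S13629
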