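import Groth.Statements.S1363
import Mathlib
import Groth.Agent.ProperFlatModelLib.Basic
import Groth.Agent.S3415

set_option autoImplicit false
universe u
open FlatMor

namespace Groth.Agent.S1363

open AlgebraicGeometry CategoryTheory Limits in
/-- For a flat proper morphism of finite presentation, the function on the target counting the connected
components of the geometric fibres is lower semicontinuous. -/
theorem result {X S : Scheme.{u}} (f : X ⟶ S) [IsProper f] [Flat f] [LocallyOfFinitePresentation f] :
    LowerSemicontinuous (fun s : ↑S => MoreMor.nGeomConnComp f s) := by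
  intro s n hn
  obtain ⟨U, hsU, X₀, S₀, f₀, g', g, -, hN, hp, hfl, hfp, hz⟩ := ProperFlatModelLib.exists_local_model f s
  obtain ⟨V, hV, hVle⟩ := Groth.Agent.S3415.result f₀ (g ⟨s, hsU⟩)
    fun x _ => ProperFlatModelLib.isUnivOpenAt f₀ x
  have h1 : U.ι '' (g ⁻¹' V) ∈ nhds s :=
    U.ι.isOpenEmbedding.isOpenMap.image_mem_nhds
      (x := (⟨s, hsU⟩ : U)) (g.continuous.continuousAt.preimage_mem_nhds hV)
  filter_upwards [h1]
  rintro _ ⟨z, hzV, rfl⟩
  have h2 := hVle _ hzV
  rw [← hz ⟨s, hsU⟩, ← hz z] at h2
  exact lt_of_lt_of_le hn h2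

end Groth.Agent.S1363
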