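import Groth.Statements.S13630
import Groth.Agent.S9840
import Groth.Agent.S4642
import Groth.Agent.S1152
import Groth.Agent.S4381
import Groth.Agent.S0086
import Groth.Agent.IntMultLib.Positive
import Groth.Agent.MiscFlat6.InvDual
import Groth.Agent.VertIntLib.Degree
import Groth.Agent.AmpleAffLib.Gen
import Groth.Agent.ParaFDescLib.Main
import Groth.Agent.CurveDualLib.BaseChange
import Groth.Agent.ExtPowLib.Pullback
import Groth.Agent.ExtPowLib.Sheaf
import Groth.Agent.AmpleDevLib.Pull
import Groth.Agent.AmpleDevLib.Components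
-- import your own Groth.Agent.* helpers here

set_option autoImplicit false
set_option maxHeartbeats 2000000
set_option backward.isDefEq.respectTransparency false
universe u
open CategoryTheory CategoryTheory.Limits AlgebraicGeometry Opposite
open FBase

namespace Groth.Agent.S13630

namespace Groth.Agent.S13630Aux

/-- A smooth proper surface with ample anticanonical module descends along an extension of algebraically closed fields. -/
theorem good_descend {k K : Type u} [Field k] [Field K] [IsAlgClosed k] (i : k →+* K)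
    {Z W : Scheme.{u}} (q : Z ⟶ Spec (CommRingCat.of k)) [IsProper q] [Smooth q]
    (a : W ⟶ Z) (b : W ⟶ Spec (CommRingCat.of K))
    (sq : IsPullback a b q (Spec.map (CommRingCat.ofHom i)))
    (hint : IsIntegral W) (hdim : topologicalKrullDim ↥W = 2)
    (hamp : ∃ ω D : W.Modules, Canon.IsTopDiff b 2 ω ∧ ClSub.IsInverseOf D ω ∧ CohB1.IsAmple D) :
    IsIntegral Z ∧ topologicalKrullDim ↥Z = 2 ∧
      ∃ ω D : Z.Modules, Canon.IsTopDiff q 2 ω ∧ ClSub.IsInverseOf D ω ∧ CohB1.IsAmple D := by
  set j := Spec.map (CommRingCat.ofHom i) with hj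
  haveI : Flat j := by
    rw [hj, HasRingHomProperty.Spec_iff (P := @Flat)]
    letI := i.toAlgebra
    exact RingHom.flat_algebraMap_iff.mpr (inferInstance : Module.Flat k K)
  haveI : Surjective j := ⟨fun x => ⟨default, Subsingleton.elim _ _⟩⟩
  haveI : QuasiCompact j := inferInstance
  haveI : Flat a := MorphismProperty.of_isPullback (P := @Flat) sq.flip inferInstance
  haveI : Surjective a := MorphismProperty.of_isPullback (P := @Surjective) sq.flip inferInstance
  haveI : QuasiCompact a := MorphismProperty.of_isPullback (P := @QuasiCompact) sq.flip inferInstance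
  haveI : IsProper b := MorphismProperty.of_isPullback (P := @IsProper) sq inferInstance
  haveI := hint
  refine ⟨?_, ?_, ?_⟩
  · haveI : IsReduced Z := Groth.Agent.S9840.result a
    haveI : IrreducibleSpace Z := (irreducibleSpace_def Z).mpr (by
      show IsIrreducible (Set.univ : Set Z)
      rw [← a.surjective.range_eq, ← Set.image_univ]
      exact (IrreducibleSpace.isIrreducible_univ W).image _ a.continuous.continuousOn)
    exact isIntegral_of_irreducibleSpace_of_isReduced Z
  · letI : Algebra k K := i.toAlgebra
    let e : W ≅ FBase.bc q K := sq.isoPullback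
    rw [← hdim, ← Groth.Agent.S4642.result (K := K) q]
    exact (e.hom.homeomorph.isHomeomorph.topologicalKrullDim_eq).symm
  · obtain ⟨ω', D', hω', hD', hA⟩ := hamp
    obtain ⟨eD'⟩ := hD'
    have hω'inv : PicF.IsInvertible ω' := IntMultLib.isInvertible_of_inverse hA.1 eD'
    have hd : OmegaSh.IsUniversal (OmegaSh.dOmega q) := OmegaAffLib.isUniversal_dOmega
    haveI : Coh.IsQCoh (Omega.sheaf q) := OmegaAffLib.isQCoh_of_isUniversal hd
    obtain ⟨ω, hωq, hω⟩ := ExtPowLib.exists_isExtPow (Omega.sheaf q) 2
    have hdb : OmegaSh.IsUniversal (OmegaSh.dOmega b) := OmegaAffLib.isUniversal_dOmega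
    haveI : Coh.IsQCoh (Omega.sheaf b) := OmegaAffLib.isQCoh_of_isUniversal hdb
    obtain ⟨eΩ⟩ := CurveDualLib.nonempty_omega_pullback q j a b sq
    obtain ⟨e⟩ := ExtPowLib.nonempty_iso
      (ExtPowLib.isExtPow_of_iso_left eΩ (ExtPowLib.isExtPow_pullback a hω)) hω'
    haveI := hωq
    have hωinv : PicF.IsInvertible ω :=
      ParaFDescLib.isInvertible_of_pullback a ω (ParaFDescLib.isInvertible_congr e.symm hω'inv)
    obtain ⟨ed⟩ := MiscFlat6.nonempty_dualIso hωinv
    let D := MiscFlat6.dual ω
    have hDinv : PicF.IsInvertible D := MiscFlat6.dual_isInvertible hωinv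
    obtain ⟨ep⟩ := VertIntLib.nonempty_pb_inverse a
      (show ClSub.IsInverseOf D ω from ⟨HilbPolyLib.swapIso _ _ ≪≫ ed⟩)
    obtain ⟨eD⟩ := AmpleAffLib.nonempty_iso_of_inverse_unique
      (HilbPolyLib.congrLeft e.symm _ ≪≫ HilbPolyLib.swapIso _ _ ≪≫ ep)
      (HilbPolyLib.swapIso ω' D' ≪≫ eD')
    refine ⟨ω, D, hω, ⟨HilbPolyLib.swapIso _ _ ≪≫ ed⟩, ?_⟩
    rw [← Groth.Agent.S4381.result q D]
    refine Groth.Agent.S1152.result q D hDinv j ?_
    rw [Groth.Agent.S4381.result]
    let t : pullback q j ≅ W := sq.isoPullback.symm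
    have ha : CohB1.IsAmple ((Scheme.Modules.pullback a).obj D) :=
      AmpleDevLib.isAmple_of_iso hA.1 (AmpleDevLib.isInvertible_pb a hDinv) eD.symm hA
    exact AmpleDevLib.isAmple_of_iso (AmpleDevLib.isInvertible_pb t.hom (AmpleDevLib.isInvertible_pb a hDinv))
      (AmpleDevLib.isInvertible_pb _ hDinv)
      ((Scheme.Modules.pullbackComp t.hom a).app D ≪≫
        (Scheme.Modules.pullbackCongr sq.isoPullback_inv_fst).app D)
      (AmpleDevLib.isAmple_pb t.hom (AmpleDevLib.isInvertible_pb a hDinv) ha)

end Groth.Agent.S13630Aux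



/-- Say that a morphism of schemes p : S → T is a family of del Pezzo surfaces when p is proper and
smooth (hence of finite presentation) and for every algebraically closed field k and every morphism
Spec k → T the fibre S_k = S ×_T Spec k is an integral scheme of Krull dimension 2 whose
anti-canonical sheaf is ample — there are a second exterior power ω of the sheaf of differentials of
S_k → Spec k and a tensor inverse D of ω with D ample. This property descends along flat,
surjective, quasi-compact morphisms: if T' → T is such a morphism and the base change S ×_T T' → T'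
is a family of del Pezzo surfaces, then so is p. (Stated for a single quasi-compact faithfully flat
base change; together with Zariski-locality on T this is locality for the fpqc topology. Fields are
taken in the universe of the schemes. The published statement is that families of del Pezzo surfaces
form a stack for the étale topology; this row is the locality of the family condition that its proof
establishes.) -/
theorem result :
    MorphismProperty.DescendsAlong
      (fun ⦃S T : Scheme.{u}⦄ (p : S ⟶ T) =>
        IsProper p ∧ Smooth p ∧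
          ∀ (k : Type u) [Field k] [IsAlgClosed k] (σ : Spec (CommRingCat.of k) ⟶ T),
            IsIntegral (pullback p σ) ∧ topologicalKrullDim ↥(pullback p σ) = 2 ∧
              ∃ ω D : (pullback p σ).Modules, Canon.IsTopDiff (pullback.snd p σ) 2 ω ∧
                ClSub.IsInverseOf D ω ∧ CohB1.IsAmple D)
      (@Surjective ⊓ @Flat ⊓ @QuasiCompact : MorphismProperty Scheme.{u}) := by
  refine ⟨fun {A X Y Z} {fst} {snd} {f} {g} h hQ hP => ?_⟩
  obtain ⟨⟨hs, hf⟩, hq⟩ := hQ
  haveI : Surjective f := hs
  haveI : Flat f := hf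
  haveI : QuasiCompact f := hq
  obtain ⟨hpr, hsm, hfib⟩ := hP
  haveI : IsProper g := Groth.Agent.S0086.result.of_isPullback h ⟨⟨hs, hf⟩, hq⟩ hpr
  haveI : Smooth g :=
    MorphismProperty.of_isPullback_of_descendsAlong (P := @Smooth) (Q := @Surjective ⊓ @Flat ⊓ @QuasiCompact)
      h ⟨⟨hs, hf⟩, hq⟩ hsm
  refine ⟨inferInstance, inferInstance, fun k _ _ σ => ?_⟩
  obtain ⟨w⟩ : Nonempty ↥(pullback f σ) := ⟨((pullback.snd f σ).surjective default).choose⟩
  let P := pullback f σ
  let K := AlgebraicClosure (P.residueField w)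
  let ρ : Spec (CommRingCat.of K) ⟶ P :=
    Spec.map (CommRingCat.ofHom (algebraMap (P.residueField w) K)) ≫ P.fromSpecResidueField w
  obtain ⟨φ, hφ⟩ := Spec.map_surjective (ρ ≫ pullback.snd f σ)
  let σ' : Spec (CommRingCat.of K) ⟶ X := ρ ≫ pullback.fst f σ
  have hσ : σ' ≫ f = Spec.map (CommRingCat.ofHom φ.hom) ≫ σ := by
    rw [CommRingCat.ofHom_hom, hφ]
    show (ρ ≫ pullback.fst f σ) ≫ f = (ρ ≫ pullback.snd f σ) ≫ σ
    exact (Category.assoc _ _ _).trans ((congrArg (ρ ≫ ·) pullback.condition).trans (Category.assoc _ _ _).symm)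
  have big := (IsPullback.of_hasPullback fst σ').paste_horiz h.flip
  rw [hσ] at big
  let a := pullback.lift (f := g) (g := σ) (pullback.fst fst σ' ≫ snd)
    (pullback.snd fst σ' ≫ Spec.map (CommRingCat.ofHom φ.hom))
    (by rw [big.w, Category.assoc])
  have ha : IsPullback a (pullback.snd fst σ') (pullback.snd g σ) (Spec.map (CommRingCat.ofHom φ.hom)) := by
    refine IsPullback.of_right ?_ (pullback.lift_snd _ _ _) (IsPullback.of_hasPullback g σ)
    rw [pullback.lift_fst]
    exact big
  obtain ⟨h1, h2, h3⟩ := hfib K σ'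
  exact Groth.Agent.S13630Aux.good_descend φ.hom (pullback.snd g σ) a _ ha h1 h2 h3

end Groth.Agent.S13630
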