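import Groth.Statements.S13631
import Mathlib.LinearAlgebra.Matrix.ToLin
import Mathlib.LinearAlgebra.FreeModule.Finite.Basic
import Mathlib.LinearAlgebra.Matrix.ToLinearEquiv
import Mathlib.RingTheory.Finiteness.Basic
-- import your own Groth.Agent.* helpers here

set_option autoImplicit false
universe u v w
open CAlg

namespace Groth.Agent.S13631

/-- Let k be a field, R an integral domain which is a k-algebra of infinite dimension over k, M a finite
free R-module, σ a ring automorphism of R mapping the image of k onto itself, and φ : M → M a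
σ-semilinear map. If the cokernel of φ is finite-dimensional over k, in the sense that some finitely
generated k-subspace N of M satisfies M = N + φ(M), then φ is injective. -/
theorem result
    {k : Type u} {R : Type v} {M : Type w} [Field k] [CommRing R] [IsDomain R] [Algebra k R]
    (hR : ¬ Module.Finite k R)
    [AddCommGroup M] [Module R M] [Module k M] [IsScalarTower k R M]
    [Module.Finite R M] [Module.Free R M]
    (σ : R ≃+* R)
    (hσ : ∀ x : k, ∃ y : k, σ (algebraMap k R x) = algebraMap k R y)
    (hσ' : ∀ y : k, ∃ x : k, σ (algebraMap k R x) = algebraMap k R y)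
    (φ : M →ₛₗ[(σ : R →+* R)] M)
    (hcoker : ∃ N : Submodule k M, N.FG ∧ ∀ m : M, ∃ n ∈ N, ∃ m' : M, m = n + φ m') :
    Function.Injective φ := by
  classical
  obtain ⟨N, hN, hc⟩ := hcoker
  haveI : Nontrivial R := inferInstance
  let b := Module.Free.chooseBasis R M
  by_contra hni
  obtain ⟨m, hm, hm0⟩ : ∃ m, φ m = 0 ∧ m ≠ 0 := by
    by_contra h'
    push Not at h'
    exact hni ((injective_iff_map_eq_zero φ).mpr h')
  let P : Matrix (Module.Free.ChooseBasisIndex R M) (Module.Free.ChooseBasisIndex R M) R := fun i j => b.repr (φ (b j)) i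
  have hφ : ∀ x, (fun i => b.repr (φ x) i) = P.mulVec (fun j => σ (b.repr x j)) := fun x => by
    funext i
    conv_lhs => rw [← b.sum_repr x, map_sum, map_sum, Finsupp.finsetSum_apply]
    simp only [Matrix.mulVec, dotProduct, P]
    refine Finset.sum_congr rfl fun j _ => ?_
    rw [φ.map_smulₛₗ, map_smul, Finsupp.smul_apply, smul_eq_mul, mul_comm]
    rfl
  have hdet : P.det = 0 := Matrix.exists_mulVec_eq_zero_iff.mp ⟨fun j => σ (b.repr m j), fun h0 => hm0 (by
    apply b.repr.injective
    ext j
    have := congrFun h0 j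
    simpa using this), by rw [← hφ m, hm, map_zero]; rfl⟩
  obtain ⟨v, hv0, hv⟩ := Matrix.exists_vecMul_eq_zero_iff.mpr hdet
  let g : M →ₗ[R] R := b.constr R v
  have hg : ∀ x, g x = dotProduct v (fun i => b.repr x i) := fun x => by
    simp only [g, Module.Basis.constr_apply_fintype, dotProduct, Module.Basis.equivFun_apply, smul_eq_mul]
    exact Finset.sum_congr rfl fun i _ => mul_comm _ _
  have hgφ : ∀ x, g (φ x) = 0 := fun x => by rw [hg, hφ, Matrix.dotProduct_mulVec, hv, zero_dotProduct]
  obtain ⟨i, hi⟩ : ∃ i, v i ≠ 0 := Function.ne_iff.mp hv0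
  have hgi : g (b i) = v i := by simp [g]
  -- `R ≅ v i • R` lands in the image of `N`, hence is finite dimensional
  let gk : M →ₗ[k] R := g.restrictScalars k
  let μ : R →ₗ[k] R := LinearMap.mulLeft k (v i)
  have hμ : LinearMap.range μ ≤ Submodule.map gk N := by
    rintro _ ⟨r, rfl⟩
    obtain ⟨n, hn, m', he⟩ := hc (r • b i)
    refine ⟨n, hn, ?_⟩
    have h1 := congrArg g he
    rw [map_smul, hgi, map_add, hgφ, add_zero] at h1
    show g n = v i * r
    rw [← h1, smul_eq_mul, mul_comm]
  haveI : Module.Finite k (Submodule.map gk N) := Module.Finite.iff_fg.mpr (hN.map gk)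
  haveI : Module.Finite k (LinearMap.range μ) := Submodule.finiteDimensional_of_le hμ
  exact hR (Module.Finite.equiv (LinearEquiv.ofInjective μ (fun x y h => mul_left_cancel₀ hi h)).symm)

end Groth.Agent.S13631
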