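import Groth.Statements.S13632
import Mathlib.RingTheory.Flat.Equalizer
import Mathlib.RingTheory.Flat.Stability
import Mathlib.RingTheory.LocalRing.Module
import Mathlib.RingTheory.LocalRing.ResidueField.Ideal
import Mathlib.RingTheory.Localization.BaseChange
import Mathlib.LinearAlgebra.TensorProduct.Quotient
import Mathlib.Algebra.Module.LocalizedModule.IsLocalization
import Mathlib.LinearAlgebra.Matrix.Charpoly.LinearMap
import Mathlib.RingTheory.Support
import Mathlib.RingTheory.FiniteType
import Mathlib.RingTheory.Localization.Finiteness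
import Mathlib.LinearAlgebra.Dimension.Finite
-- import your own Groth.Agent.* helpers here

set_option autoImplicit false
universe u
open TensorProduct
open CAlg
open scoped TensorProduct

namespace Groth.Agent.S13632

/-- Let S = Spec R, X = Spec A finite and flat over S, Y = Spec B of finite type over S, and φ : X → Y
an S-morphism given by f : B → A. If for every point s of S the fibres X_s and Y_s have the same
order (the κ(s)-dimension of their rings of global sections κ(s) ⊗ A and κ(s) ⊗ B; equivalently at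
every geometric point) and φ is an isomorphism over every closed point of S (κ(m) ⊗ f bijective for
every maximal ideal m), then φ is an isomorphism, i.e. f is bijective. (The published statement
allows an arbitrary base scheme S and Y separated of finite type over S; this row is the case of an
affine base with X and Y affine, the case its proof treats directly. Over a base with no closed
points the general statement fails: the hypothesis at closed points is then empty.) -/
theorem result
    {R A B : Type u} [CommRing R] [CommRing A] [CommRing B] [Algebra R A] [Algebra R B]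
    [Module.Finite R A] [Module.Flat R A] [Algebra.FiniteType R B]
    (f : B →ₐ[R] A)
    (hrank : ∀ p : PrimeSpectrum R,
      Module.rank p.asIdeal.ResidueField (p.asIdeal.ResidueField ⊗[R] B) =
        Module.rank p.asIdeal.ResidueField (p.asIdeal.ResidueField ⊗[R] A))
    (hmax : ∀ (m : Ideal R) [m.IsMaximal],
      Function.Bijective (LinearMap.lTensor m.ResidueField f.toLinearMap)) :
    Function.Bijective f := by
  classical
  have hsurj : Function.Surjective f := by
    have hex := LinearMap.exact_map_mkQ_range f.toLinearMap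
    have hsupp : Module.support R (A ⧸ LinearMap.range f.toLinearMap) = ∅ := by
      rw [Set.eq_empty_iff_forall_notMem]
      intro p hp
      obtain ⟨m, hm, hpm⟩ := Ideal.exists_le_maximal p.asIdeal p.isPrime.ne_top
      haveI := hm
      have hpm' : (⟨m, hm.isPrime⟩ : PrimeSpectrum R) ∈ Module.support R (A ⧸ LinearMap.range f.toLinearMap) :=
        Module.mem_support_mono hpm hp
      rw [Module.mem_support_iff_nontrivial_residueField_tensorProduct, ← not_subsingleton_iff_nontrivial] at hpm'
      apply hpm'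
      refine subsingleton_of_forall_eq 0 fun z => ?_
      obtain ⟨y, rfl⟩ := LinearMap.lTensor_surjective m.ResidueField (Submodule.mkQ_surjective (LinearMap.range f.toLinearMap)) z
      exact (lTensor_exact m.ResidueField hex (Submodule.mkQ_surjective _) y).2 ((hmax m).2 y)
    haveI := Module.support_eq_empty_iff.1 hsupp
    intro y
    exact (Submodule.Quotient.mk_eq_zero _).1 (Subsingleton.elim (Submodule.Quotient.mk y) (0 : A ⧸ LinearMap.range f.toLinearMap))
  refine ⟨?_, hsurj⟩
  let K := RingHom.ker f.toRingHom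
  let KR : Submodule R B := K.restrictScalars R
  -- every fibre of the kernel vanishes
  have hfib : ∀ (p : Ideal R) [p.IsPrime], ∀ x ∈ K, ∃ t ∉ p, t • x ∈ Submodule.map KR.subtype (p • ⊤) := by
    intro p _ x hx
    let κ := p.ResidueField
    have hs : Function.Surjective (f.toLinearMap.baseChange κ) := by
      rw [show ⇑(f.toLinearMap.baseChange κ) = f.toLinearMap.lTensor κ from congrArg _ rfl]
      exact LinearMap.lTensor_surjective _ hsurj
    haveI : FiniteDimensional κ (κ ⊗[R] B) := by
      rw [FiniteDimensional, ← Module.rank_lt_aleph0_iff, hrank ⟨p, inferInstance⟩]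
      exact Module.rank_lt_aleph0 _ _
    have hi : Function.Injective (f.toLinearMap.baseChange κ) :=
      (LinearMap.injective_iff_surjective_of_finrank_eq_finrank (congrArg Cardinal.toNat (hrank ⟨p, inferInstance⟩))).2 hs
    have hinj := LinearMap.lTensor_injective_of_exact_of_flat f.toLinearMap hsurj KR.subtype Subtype.val_injective
      (fun a => ⟨fun ha => ⟨⟨a, ha⟩, rfl⟩, by rintro ⟨b, rfl⟩; exact b.2⟩) κ
    have h0 : (1 : κ) ⊗ₜ[R] (⟨x, hx⟩ : KR) = 0 := by
      refine hinj (hi ?_)
      rw [LinearMap.lTensor_tmul, LinearMap.baseChange_tmul, map_zero, map_zero]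
      show (1 : κ) ⊗ₜ[R] f x = 0
      rw [show f x = 0 from hx, TensorProduct.tmul_zero]
    let g : R ⧸ p →ₗ[R] κ := (IsScalarTower.toAlgHom R (R ⧸ p) κ).toLinearMap
    haveI : IsLocalizedModule p.primeCompl g := by
      have hS : Algebra.algebraMapSubmonoid (R ⧸ p) p.primeCompl = nonZeroDivisors (R ⧸ p) := by
        ext z
        obtain ⟨z, rfl⟩ := Ideal.Quotient.mk_surjective z
        rw [mem_nonZeroDivisors_iff_ne_zero, Ne, Ideal.Quotient.eq_zero_iff_mem]
        constructor
        · rintro ⟨w, hw, hwz⟩ hz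
          exact hw (Ideal.Quotient.eq_zero_iff_mem.1 ((show Ideal.Quotient.mk p w = Ideal.Quotient.mk p z from hwz).trans (Ideal.Quotient.eq_zero_iff_mem.2 hz)))
        · exact fun hz => ⟨z, hz, rfl⟩
      exact isLocalizedModule_iff_isLocalization.2 (hS ▸ inferInstance)
    haveI : IsLocalizedModule p.primeCompl (g.rTensor KR) :=
      IsLocalizedModule.rTensor (R := R) (A := R) p.primeCompl g
    obtain ⟨t, ht⟩ := (IsLocalizedModule.eq_zero_iff p.primeCompl (g.rTensor KR)).1
      (show g.rTensor KR ((Ideal.Quotient.mk p 1) ⊗ₜ[R] (⟨x, hx⟩ : KR)) = 0 by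
        rw [LinearMap.rTensor_tmul, show g (Ideal.Quotient.mk p 1) = 1 from map_one (IsScalarTower.toAlgHom R (R ⧸ p) κ)]; exact h0)
    refine ⟨t, t.2, ⟨(t : R) • ⟨x, hx⟩, ?_, rfl⟩⟩
    have h2 := congrArg (TensorProduct.quotTensorEquivQuotSMul KR p) ht
    rw [Submonoid.smul_def, ← TensorProduct.tmul_smul, map_zero, TensorProduct.quotTensorEquivQuotSMul_mk_tmul,
      Submodule.Quotient.mk_eq_zero, one_smul] at h2
    exact h2
  refine (injective_iff_map_eq_zero f).2 fun x₀ hx₀ => ?_
  by_contra hne
  let ann : Ideal B := (Submodule.span B {x₀}).annihilator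
  have hann : ann ≠ ⊤ := fun h => hne (by
    have := Submodule.mem_annihilator.1 (show (1 : B) ∈ ann from h ▸ Submodule.mem_top) x₀ (Submodule.mem_span_singleton_self _)
    rwa [one_smul] at this)
  obtain ⟨q, hq, hqa⟩ := Ideal.exists_le_maximal ann hann
  let p := q.comap (algebraMap R B)
  haveI hpp : p.IsPrime := Ideal.comap_isPrime _ _
  have hu : ∀ u : R, u ∉ p → algebraMap R B u ∉ q := fun u hu h => hu h
  -- a basis of `A` near `p`
  let Rp := Localization.AtPrime p
  let Ap := LocalizedModule p.primeCompl A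
  haveI : Module.Finite Rp Ap := Module.Finite.of_isLocalizedModule p.primeCompl (LocalizedModule.mkLinearMap p.primeCompl A)
  haveI : Module.Flat Rp Ap := Module.Flat.of_isLocalizedModule Rp p.primeCompl (LocalizedModule.mkLinearMap p.primeCompl A)
  haveI : Module.Free Rp Ap := Module.free_of_flat_of_isLocalRing
  let ι := Module.Free.ChooseBasisIndex Rp Ap
  let e := Module.Free.chooseBasis Rp Ap
  choose a s has using fun i => LocalizedModule.induction_on (S := p.primeCompl) (β := fun z => ∃ (a : A) (s : p.primeCompl), z = LocalizedModule.mk a s) (fun a s => ⟨a, s, rfl⟩) (e i)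
  let e' : Module.Basis ι Rp Ap := e.unitsSMul fun i => (IsLocalization.map_units Rp (s i)).unit
  have he' : ∀ i, e' i = LocalizedModule.mk (a i) 1 := fun i => by
    rw [Module.Basis.unitsSMul_apply, Units.smul_def, IsUnit.unit_spec, algebraMap_smul, has, LocalizedModule.smul'_mk]
    exact LocalizedModule.mk_cancel (s i) (a i)
  choose b hb using fun i => hsurj (a i)
  have hspan : ∀ y : A, ∃ t ∉ p, ∃ c : ι → R, t • y = ∑ i, c i • a i := by
    intro y
    obtain ⟨⟨d, hd⟩, hdc⟩ := IsLocalization.exist_integer_multiples p.primeCompl Finset.univ (fun i => e'.repr (LocalizedModule.mk y 1) i)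
    choose c hc using fun i => hdc i (Finset.mem_univ i)
    have h1 : LocalizedModule.mk (d • y) (1 : p.primeCompl) = LocalizedModule.mk (∑ i, c i • a i) 1 := by
      rw [← LocalizedModule.smul'_mk]
      conv_lhs => rw [← e'.sum_repr (LocalizedModule.mk y 1), Finset.smul_sum]
      rw [show LocalizedModule.mk (∑ i, c i • a i) (1 : p.primeCompl) = LocalizedModule.mkLinearMap p.primeCompl A (∑ i, c i • a i) from rfl, map_sum]
      refine Finset.sum_congr rfl fun i _ => ?_
      rw [map_smul, LocalizedModule.mkLinearMap_apply, ← algebraMap_smul Rp (c i), hc, he', smul_assoc]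
    obtain ⟨⟨v, hv⟩, hve⟩ := LocalizedModule.mk_eq.1 h1
    refine ⟨v * d, fun h => (hpp.mem_or_mem h).elim hv hd, fun i => v * c i, ?_⟩
    simpa [Submonoid.smul_def, Finset.smul_sum, smul_smul] using hve
  have hindep : ∀ c : ι → R, ∑ i, c i • a i = 0 → ∃ t ∉ p, ∀ i, t * c i = 0 := by
    intro c hc
    have h1 : ∑ i, algebraMap R Rp (c i) • e' i = 0 := by
      rw [← map_zero (LocalizedModule.mkLinearMap p.primeCompl A), ← hc, map_sum]
      exact Finset.sum_congr rfl fun i _ => by rw [algebraMap_smul, map_smul, he']; rfl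
    have h2 := fun i => Fintype.linearIndependent_iff.1 e'.linearIndependent _ h1 i
    choose t ht using fun i => (IsLocalization.map_eq_zero_iff p.primeCompl Rp (c i)).1 (h2 i)
    refine ⟨∏ i, (t i : R), fun h => ?_, fun i => ?_⟩
    · obtain ⟨i, -, hi⟩ := hpp.prod_mem_iff.1 h
      exact (t i).2 hi
    · obtain ⟨d, hd⟩ := Finset.dvd_prod_of_mem (fun i => (t i : R)) (Finset.mem_univ i)
      rw [hd, mul_comm (t i : R), mul_assoc, ht, mul_zero]
  -- finitely many elements of the kernel generate it near `p`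
  obtain ⟨Y, hY⟩ := (Algebra.FiniteType.out : (⊤ : Subalgebra R B).FG)
  let gens : (Fin 1 ⊕ {y // y ∈ Y}) ⊕ (ι × ι) → B := Sum.elim (Sum.elim (fun _ => 1) (fun y => y.1)) (fun ik => b ik.1 * b ik.2)
  choose T hT C hC using fun j => hspan (f (gens j))
  let G : (Fin 1 ⊕ {y // y ∈ Y}) ⊕ (ι × ι) → B := fun j => T j • gens j - ∑ i, C j i • b i
  let M : Ideal B := Ideal.span (Set.range G)
  have hGK : ∀ j, G j ∈ K := fun j => by
    show f (G j) = 0
    simp only [G, map_sub, map_smul, map_sum, hb]
    rw [hC, sub_self]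
  have hMK : M ≤ K := Ideal.span_le.2 (by rintro _ ⟨j, rfl⟩; exact hGK j)
  let W : Submodule R B := Submodule.span R (Set.range b) ⊔ M.restrictScalars R
  let Q : Set B := {z | ∃ t ∉ p, t • z ∈ W}
  have hQgen : ∀ j, gens j ∈ Q := fun j => ⟨T j, hT j, by
    rw [show T j • gens j = (∑ i, C j i • b i) + G j by simp [G]]
    exact add_mem (Submodule.mem_sup_left (Submodule.sum_mem _ fun i _ => Submodule.smul_mem _ _ (Submodule.subset_span ⟨i, rfl⟩)))
      (Submodule.mem_sup_right (Ideal.subset_span ⟨j, rfl⟩))⟩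
  have hQsmul : ∀ (r : R) z, z ∈ Q → r • z ∈ Q := fun r z ⟨t, ht, hz⟩ => ⟨t, ht, by rw [smul_comm]; exact W.smul_mem _ hz⟩
  have hQadd : ∀ z z', z ∈ Q → z' ∈ Q → z + z' ∈ Q := fun z z' ⟨t, ht, hz⟩ ⟨t', ht', hz'⟩ =>
    ⟨t * t', fun h => (hpp.mem_or_mem h).elim ht ht', by
      rw [smul_add]
      exact add_mem (by rw [mul_comm, mul_smul]; exact W.smul_mem _ hz) (by rw [mul_smul]; exact W.smul_mem _ hz')⟩
  let QS : Submodule R B := { carrier := Q, add_mem' := fun h h' => hQadd _ _ h h', zero_mem' := ⟨1, p.one_notMem, by simp⟩, smul_mem' := fun r z h => hQsmul r z h }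
  have hQQ : ∀ z z', z ∈ QS → z' ∈ QS → z * z' ∈ QS := by
    rintro z z' ⟨t, ht, hz⟩ ⟨t', ht', hz'⟩
    have key : (t • z) * (t' • z') ∈ QS := by
      obtain ⟨u, hu, m, hm, e1⟩ := Submodule.mem_sup.1 hz
      obtain ⟨u', hu', m', hm', e2⟩ := Submodule.mem_sup.1 hz'
      have hWQ : ∀ w ∈ W, w ∈ QS := fun w hw => ⟨1, p.one_notMem, by rwa [one_smul]⟩
      rw [← e1, ← e2, add_mul, mul_add]
      refine add_mem (add_mem ?_ (hWQ _ (Submodule.mem_sup_right (M.mul_mem_left u hm')))) (hWQ _ (Submodule.mem_sup_right (M.mul_mem_right _ hm)))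
      have hle : Submodule.span R (Set.range b) * Submodule.span R (Set.range b) ≤ QS := by
        rw [Submodule.span_mul_span, Submodule.span_le]
        rintro _ ⟨_, ⟨i, rfl⟩, _, ⟨k, rfl⟩, rfl⟩
        exact hQgen (Sum.inr (i, k))
      exact hle (Submodule.mul_mem_mul hu hu')
    obtain ⟨v, hv, hvw⟩ := key
    refine ⟨v * (t * t'), fun h => (hpp.mem_or_mem h).elim hv
      fun h => (hpp.mem_or_mem h).elim ht ht', ?_⟩
    rw [smul_mul_smul_comm] at hvw
    rwa [mul_smul]
  have hQall : ∀ z : B, z ∈ QS := by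
    intro z
    let SA : Subalgebra R B := QS.toSubalgebra (hQgen (Sum.inl (Sum.inl 0))) hQQ
    have : (⊤ : Subalgebra R B) ≤ SA := by
      rw [← hY, Algebra.adjoin_le_iff]
      exact fun y hy => hQgen (Sum.inl (Sum.inr ⟨y, hy⟩))
    exact this (Algebra.mem_top (x := z))
  have hKM : ∀ k ∈ K, ∃ t ∉ p, algebraMap R B t * k ∈ M := by
    intro k hk
    obtain ⟨t, ht, htk⟩ := hQall k
    obtain ⟨w, hw, m, hm, e1⟩ := Submodule.mem_sup.1 htk
    obtain ⟨c, rfl⟩ := (Submodule.mem_span_range_iff_exists_fun R).1 hw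
    have h0 : ∑ i, c i • a i = 0 := by
      have h1 : f (t • k) = 0 := by rw [map_smul, show f k = 0 from hk, smul_zero]
      rw [← e1, map_add, show f m = 0 from hMK hm, add_zero] at h1
      simpa [map_sum, hb] using h1
    obtain ⟨v, hv, hvc⟩ := hindep c h0
    refine ⟨v * t, fun h => (hpp.mem_or_mem h).elim hv ht, ?_⟩
    rw [← Algebra.smul_def, mul_smul, ← e1, smul_add, Finset.smul_sum]
    simp only [smul_smul, hvc, zero_smul, Finset.sum_const_zero, zero_add]
    exact Submodule.smul_of_tower_mem M v hm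
  -- Nakayama at `q`
  let N : Submodule R B :=
    { carrier := {z | ∃ t : B, t ∉ q ∧ t * z ∈ q * M}
      zero_mem' := ⟨1, q.one_notMem, by simp⟩
      add_mem' := fun {z z'} ⟨t, ht, hz⟩ ⟨t', ht', hz'⟩ => ⟨t * t', fun h => (hq.isPrime.mem_or_mem h).elim ht ht', by
        rw [mul_add]
        exact add_mem (by rw [mul_comm t, mul_assoc]; exact (q * M).mul_mem_left _ hz) (by rw [mul_assoc]; exact (q * M).mul_mem_left _ hz')⟩
      smul_mem' := fun r z ⟨t, ht, hz⟩ => ⟨t, ht, by rw [mul_smul_comm]; exact Submodule.smul_of_tower_mem (q * M) r hz⟩ }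
  have hGN : ∀ g ∈ K, g ∈ N := by
    intro g hg
    obtain ⟨t, ht, htg⟩ := hfib p g hg
    suffices h : Submodule.map KR.subtype (p • ⊤) ≤ N by
      obtain ⟨v, hv, hvz⟩ := h htg
      exact ⟨v * algebraMap R B t, fun h => (hq.isPrime.mem_or_mem h).elim hv (hu t ht), by rw [mul_assoc, ← Algebra.smul_def]; exact hvz⟩
    rw [Submodule.map_smul'', Submodule.map_top, Submodule.range_subtype, Submodule.smul_le]
    intro r hr k hk
    obtain ⟨v, hv, hvk⟩ := hKM k hk
    refine ⟨algebraMap R B v, hu v hv, ?_⟩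
    rw [Algebra.smul_def, mul_left_comm]
    exact Ideal.mul_mem_mul hr hvk
  choose τ hτ hτG using fun j => hGN (G j) (hGK j)
  let τ₀ := ∏ j, τ j
  have hτ₀ : τ₀ ∉ q := fun h => by
    obtain ⟨j, -, hj⟩ := hq.isPrime.prod_mem_iff.1 h
    exact hτ j hj
  haveI : Module.Finite B M := Module.Finite.span_of_finite B (Set.finite_range G)
  have hrange : LinearMap.range (τ₀ • LinearMap.id : Module.End B M) ≤ q • (⊤ : Submodule B M) := by
    refine Submodule.map_le_map_iff_of_injective (f := M.subtype) Subtype.val_injective _ _ |>.1 ?_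
    rw [Submodule.map_smul'', Submodule.map_top, Submodule.range_subtype]
    rintro _ ⟨_, ⟨⟨z, hz⟩, rfl⟩, rfl⟩
    show τ₀ * z ∈ q * M
    suffices h : M ≤ Submodule.comap (LinearMap.mulLeft B τ₀) (q * M) from h hz
    refine Ideal.span_le.2 ?_
    rintro _ ⟨j, rfl⟩
    obtain ⟨d, hd⟩ := Finset.dvd_prod_of_mem τ (Finset.mem_univ j)
    show τ₀ * G j ∈ q * M
    rw [show τ₀ = τ j * d from hd, mul_comm (τ j), mul_assoc]
    exact (q * M).mul_mem_left _ (hτG j)
  obtain ⟨P, hPm, -, hPc, hP0⟩ := LinearMap.exists_monic_and_natDegree_eq_and_coeff_mem_pow_and_aeval_eq_zero _ _ q hrange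
  have hPM : ∀ z ∈ M, P.eval τ₀ * z = 0 := by
    intro z hz
    have h1 := LinearMap.congr_fun hP0 ⟨z, hz⟩
    rw [show (τ₀ • LinearMap.id : Module.End B M) = algebraMap B (Module.End B M) τ₀ from rfl, Polynomial.aeval_algebraMap_apply_eq_algebraMap_eval] at h1
    exact congrArg Subtype.val h1
  have hPq : P.eval τ₀ ∉ q := by
    intro h
    apply hτ₀
    refine hq.isPrime.mem_of_pow_mem P.natDegree ?_
    rw [Polynomial.eval_eq_sum_range, Finset.sum_range_succ, hPm.coeff_natDegree, one_mul] at h
    refine (Ideal.add_mem_iff_right q ?_).1 h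
    refine Ideal.sum_mem _ fun i hi => Ideal.mul_mem_right _ _ ?_
    exact Ideal.pow_le_self (by have := Finset.mem_range.1 hi; omega) (hPc i)
  obtain ⟨t, ht, htx⟩ := hKM x₀ hx₀
  refine (hq.isPrime.mem_or_mem (hqa (show P.eval τ₀ * algebraMap R B t ∈ ann from ?_))).elim hPq (hu t ht)
  rw [Submodule.mem_annihilator_span_singleton, smul_eq_mul, mul_assoc]
  exact hPM _ htx

end Groth.Agent.S13632
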