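import Groth.Statements.S13633
import Groth.Agent.FinTestLib.Alg
import Groth.Agent.AntiAffLib.AffineQuot
import Groth.Agent.DeligneKillLib.Affine
import Groth.Agent.DiagRepLib.Main
import Groth.Agent.GrpHomLib.Field
import Groth.Agent.GrpSchLib.Cartier
import Groth.Agent.AlgSpLib.ReducedSmooth
-- import your own Groth.Agent.* helpers here

set_option autoImplicit false
set_option maxHeartbeats 1600000
set_option synthInstance.maxHeartbeats 100000
set_option backward.isDefEq.respectTransparency false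
universe u
open CategoryTheory CategoryTheory.Limits MonoidalCategory CartesianMonoidalCategory MonObj AlgebraicGeometry
open GrpSch

namespace Groth.Agent.S13633

attribute [-instance] CategoryTheory.Hom.commGroup

open CoactBr

attribute [local instance] CoactBr.braidedAlgSpecOf
attribute [local instance] Groth.Agent.DynLib.pointsGroup

section

variable {k : Type u} [Field k] {G : Over (Spec (CommRingCat.of k))} [GrpObj G] [IsCommMonObj G]

/-- A finite closed subgroup of a commutative group, in coordinates. -/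
theorem sub_data {A : Type u} [CommRing A] [HopfAlgebra k A] (v : sp k A ≅ G) [IsMonHom v.hom] (I : Ideal A)
    [I.IsHopfIdeal k] [Module.Finite k (A ⧸ I)] :
    IsMonHom (pt (Ideal.Quotient.mkₐ k I) ≫ v.hom) ∧ IsFinite (sp k (A ⧸ I)).hom ∧ IsCommMonObj (sp k (A ⧸ I)) := by
  haveI hm : IsMonHom (pt (Ideal.Quotient.mkₐ k I)) := DiagRep.isMonHom_pt (Ideal.Quotient.mkₐ k I)
    (AlgHom.ext fun x => CoalgHomClass.counit_comp_apply (Bialgebra.Quotient.mkBialgHom I) x)
    (AlgHom.ext fun x => CoalgHomClass.map_comp_comul_apply (Bialgebra.Quotient.mkBialgHom I) x)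
  haveI : IsClosedImmersion (pt (Ideal.Quotient.mkₐ k I)).left := by
    rw [pt_left]
    exact IsClosedImmersion.spec_of_surjective _ Ideal.Quotient.mk_surjective
  haveI : Mono (pt (Ideal.Quotient.mkₐ k I)) := DiagRep.mono_of_isClosedImmersion _ inferInstance
  refine ⟨inferInstance, ?_, ⟨?_⟩⟩
  · show IsFinite (Spec.map (CommRingCat.ofHom (algebraMap k (A ⧸ I))))
    rw [IsFinite.SpecMap_iff]
    exact RingHom.finite_algebraMap.2 inferInstance
  · rw [← cancel_mono (pt (Ideal.Quotient.mkₐ k I) ≫ v.hom), Category.assoc, IsMonHom.mul_hom,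
      ← Category.assoc, ← BraidedCategory.braiding_naturality, Category.assoc, IsCommMonObj.mul_comm]

end

/-- The coordinate statement. -/
theorem main {k : Type u} [Field k] (K : Type u) [Field K] [Algebra k K] [IsAlgClosure k K]
    {G H : Over (Spec (CommRingCat.of k))} [GrpObj G] [IsCommMonObj G] [GrpObj H] [IsCommMonObj H]
    [IsAffine G.left] [IsAffine H.left] [LocallyOfFiniteType G.hom] [LocallyOfFiniteType H.hom]
    (ψ : G ⟶ H) [IsMonHom ψ]
    (hinj : ∀ (I : Over (Spec (CommRingCat.of k))) [GrpObj I] [IsCommMonObj I] [IsFinite I.hom]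
      (f g : I ⟶ G) [IsMonHom f] [IsMonHom g], f ≫ ψ = g ≫ ψ → f = g)
    (hsurj : ∀ (I : Over (Spec (CommRingCat.of k))) [GrpObj I] [IsCommMonObj I] [IsFinite I.hom]
      (h : I ⟶ H) [IsMonHom h], ∃ f : I ⟶ G, IsMonHom f ∧ f ≫ ψ = h)
    (hpts : Function.Bijective fun x : sp k K ⟶ G => x ≫ ψ) :
    IsIso ψ := by
  obtain ⟨A, _, _, v, hv, hvi⟩ := DeligneKillLib.exists_sp G
  obtain ⟨B, _, _, w, hw, hwi⟩ := DeligneKillLib.exists_sp H
  haveI := hv; haveI := hvi; haveI := hw; haveI := hwi
  haveI : IsIso v.hom.left := (Over.forget _).map_isIso v.hom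
  haveI : IsIso w.hom.left := (Over.forget _).map_isIso w.hom
  haveI hlA : LocallyOfFiniteType (sp k A).hom := by rw [← Over.w v.hom]; infer_instance
  haveI hlB : LocallyOfFiniteType (sp k B).hom := by rw [← Over.w w.hom]; infer_instance
  haveI : Algebra.FiniteType k A :=
    RingHom.finiteType_algebraMap.1 ((HasRingHomProperty.Spec_iff (P := @LocallyOfFiniteType)).1 hlA)
  haveI : Algebra.FiniteType k B :=
    RingHom.finiteType_algebraMap.1 ((HasRingHomProperty.Spec_iff (P := @LocallyOfFiniteType)).1 hlB)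
  obtain ⟨π, hπ⟩ := AntiAffLib.exists_bialgHom (v.hom ≫ ψ ≫ w.inv)
  let π₀ : B →ₐ[k] A := π
  have hψ : ψ = v.inv ≫ pt π₀ ≫ w.hom := by
    show ψ = v.inv ≫ pt (π : B →ₐ[k] A) ≫ w.hom
    rw [← hπ]
    simp
  have hpre : ∀ {R : Type u} [CommRing R] [Algebra k R] (g : A →ₐ[k] R),
      (pt g ≫ v.hom) ≫ ψ = pt (g.comp π₀) ≫ w.hom := by
    intro R _ _ g
    rw [hψ, pt_comp]
    simp
  have hone : ∀ {R : Type u} [CommRing R] [Algebra k R],
      pt ((Algebra.ofId k R).comp (FinTest.eps k A)) ≫ v.hom = (1 : sp k R ⟶ G) := by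
    intro R _ _
    rw [← one_eq_pt, MonObj.one_comp]
  -- the kernel is trivial
  haveI hK0 : (FinTest.kerIdeal π).IsHopfIdeal k := FinTest.isHopfIdeal_kerIdeal π
  haveI : Module.Finite k (A ⧸ FinTest.kerIdeal π) := by
    refine FinTest.finite_of_finite_points _ ?_
    haveI : Subsingleton ((A ⧸ FinTest.kerIdeal π) →ₐ[k] AlgebraicClosure k) := ⟨fun a b => by
      let e := IsAlgClosure.equiv k (AlgebraicClosure k) K
      have h : ∀ c : (A ⧸ FinTest.kerIdeal π) →ₐ[k] AlgebraicClosure k,
          ((e.toAlgHom.comp c).comp (Ideal.Quotient.mkₐ k _)).comp π₀ = (Algebra.ofId k K).comp (FinTest.eps k B) :=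
        fun c => by
          rw [AlgHom.comp_assoc, FinTest.mk_comp_eq, ← AlgHom.comp_assoc,
            Subsingleton.elim ((e.toAlgHom.comp c).comp (Algebra.ofId k _)) (Algebra.ofId k K)]
      have h1 : (pt ((e.toAlgHom.comp a).comp (Ideal.Quotient.mkₐ k _)) ≫ v.hom) ≫ ψ =
          (pt ((e.toAlgHom.comp b).comp (Ideal.Quotient.mkₐ k _)) ≫ v.hom) ≫ ψ := by rw [hpre, hpre, h, h]
      have h2 := pt_injective ((cancel_mono v.hom).1 (hpts.1 h1))
      refine AlgHom.ext fun x => ?_
      obtain ⟨y, rfl⟩ := Ideal.Quotient.mk_surjective x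
      exact e.injective (DFunLike.congr_fun h2 y)⟩
    infer_instance
  obtain ⟨hN₁, hN₂, hN₃⟩ := sub_data v (FinTest.kerIdeal π)
  haveI := hN₁; haveI := hN₂; haveI := hN₃
  have hmk : Ideal.Quotient.mkₐ k (FinTest.kerIdeal π) = (Algebra.ofId k _).comp (FinTest.eps k A) := by
    have h := hinj (sp k (A ⧸ FinTest.kerIdeal π)) (pt (Ideal.Quotient.mkₐ k _) ≫ v.hom) 1 (by
      rw [hpre, FinTest.mk_comp_eq, MonObj.one_comp, ← one_eq_pt, MonObj.one_comp])
    rw [← hone] at h
    exact pt_injective ((cancel_mono v.hom).1 h)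
  have hmem : ∀ a, a - algebraMap k A (FinTest.eps k A a) ∈ FinTest.kerIdeal π := fun a => by
    rw [← Ideal.Quotient.eq_zero_iff_mem, map_sub, sub_eq_zero]
    exact DFunLike.congr_fun hmk a
  haveI : IsSeparated (sp k B).hom := inferInstanceAs (IsSeparated (Spec.map (CommRingCat.ofHom (algebraMap k B))))
  haveI : IsAffine (sp k A).left := inferInstanceAs (IsAffine (Spec (CommRingCat.of A)))
  haveI : Mono (pt π₀) := by
    refine ⟨fun {T} a b hab => ?_⟩
    haveI : IsMonHom (pt π₀) := SekSuwa.isMonHom_specHom π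
    rw [← mul_inv_eq_one]
    have h := AntiAffLib.kill_of_affine (pt π₀) (𝟙 (sp k A)) (fun R _ _ g hg => ?_) (a * b⁻¹)
      (by rw [MonObj.mul_comp, GrpObj.inv_comp, hab, mul_inv_cancel])
    · rwa [Category.comp_id] at h
    obtain ⟨gam, rfl⟩ := DiagRep.exists_pt g
    rw [← pt_comp, one_eq_pt] at hg
    have hgam := pt_injective hg
    have hker : ∀ x ∈ FinTest.kerIdeal π, gam x = 0 := by
      have : FinTest.kerIdeal π ≤ RingHom.ker gam := by
        refine Ideal.span_le.2 ?_
        rintro _ ⟨y, hy, rfl⟩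
        refine (DFunLike.congr_fun hgam y).trans ?_
        rw [AlgHom.comp_apply, hy, map_zero]
      exact fun x hx => this hx
    rw [Category.comp_id, one_eq_pt]
    congr 1
    refine AlgHom.ext fun x => ?_
    have h1 := hker _ (hmem x)
    rw [map_sub, AlgHom.commutes, sub_eq_zero] at h1
    exact h1
  haveI : Mono (pt π₀).left := (Over.forget _).map_mono (pt π₀)
  haveI : IsMonHom (pt π₀) := SekSuwa.isMonHom_specHom π
  haveI : QuasiCompact (pt π₀).left := inferInstanceAs (QuasiCompact (Spec.map (CommRingCat.ofHom π₀.toRingHom)))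
  haveI : IsClosedImmersion (pt π₀).left := GrpHom.isClosedImmersion_of_mono (u := pt π₀)
  have hsur : Function.Surjective π₀ := DiagRep.surjective_of_isClosedImmersion π₀ inferInstance
  -- points
  have hpt : ∀ h : B →ₐ[k] K, ∃ h₀ : A →ₐ[k] K, h₀.comp π₀ = h := fun h => by
    obtain ⟨x, hx⟩ := hpts.2 (pt h ≫ w.hom)
    obtain ⟨h₀, hh₀⟩ := DiagRep.exists_pt (x ≫ v.inv)
    refine ⟨h₀, pt_injective ((cancel_mono w.hom).1 ?_)⟩
    simp only [← hpre, ← hh₀, Category.assoc, v.inv_hom_id_assoc]
    exact hx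
  have hnil : ∀ x, π₀ x = 0 → IsNilpotent x := fun x hx => by
    haveI : IsJacobsonRing B := isJacobsonRing_of_finiteType (A := k)
    rw [← mem_nilradical, nilradical, Ideal.radical_eq_jacobson, Ideal.jacobson, Submodule.mem_sInf]
    rintro M ⟨-, hM⟩
    obtain ⟨h, hh⟩ := FinTest.exists_pt_ker (k := k) K M
    obtain ⟨h₀, rfl⟩ := hpt h
    exact (hh x).1 (by rw [AlgHom.comp_apply, hx, map_zero])
  have hinjπ : Function.Injective π₀ := by
    rw [injective_iff_map_eq_zero]
    obtain ⟨p, hp⟩ := CharP.exists k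
    rcases CharP.char_is_prime_or_zero k p with hpp | hp0
    · haveI : Fact p.Prime := ⟨hpp⟩
      have hJ : ∀ n, RingHom.ker π₀ ≤ (RingHom.ker (FinTest.eps k B)) ^ n := by
        intro n
        refine le_trans ?_ ((FinTest.powIdeal_le (p ^ n) (pow_pos hpp.pos n)).trans
          (Ideal.pow_le_pow_right (Nat.lt_pow_self hpp.one_lt).le))
        haveI := FinTest.isHopfIdeal_powIdeal (k := k) (B := B) (p ^ n) p n rfl
        haveI := FinTest.finite_quot (k := k) (B := B) (p ^ n) p n rfl
        obtain ⟨h1, h2, h3⟩ := sub_data w (FinTest.powIdeal k B (p ^ n))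
        haveI := h1; haveI := h2; haveI := h3
        obtain ⟨f, -, hf⟩ := hsurj (sp k (B ⧸ FinTest.powIdeal k B (p ^ n))) (pt (Ideal.Quotient.mkₐ k _) ≫ w.hom)
        obtain ⟨φ, hφ⟩ := DiagRep.exists_pt (f ≫ v.inv)
        have e : φ.comp π₀ = Ideal.Quotient.mkₐ k (FinTest.powIdeal k B (p ^ n)) := by
          refine pt_injective ((cancel_mono w.hom).1 ?_)
          simp only [← hpre, ← hφ, Category.assoc, v.inv_hom_id_assoc]
          exact hf
        intro x hx
        rw [← Ideal.Quotient.eq_zero_iff_mem]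
        refine (DFunLike.congr_fun e x).symm.trans ?_
        rw [AlgHom.comp_apply, hx, map_zero]
      obtain ⟨s, hs, hsJ⟩ := FinTest.exists_mul_eq_zero hJ
      exact FinTest.ker_eq_bot_of_mul_eq_zero K π hpt hs fun x hx => hsJ x hx
    · subst hp0
      haveI : CharZero k := CharP.charP_to_charZero k
      haveI : Smooth (sp k B).hom := GrpSchLib.smooth_of_charZero (sp k B)
      haveI : AlgebraicGeometry.IsReduced (sp k B).left := AlgSpLib.isReduced_of_smooth (sp k B).hom
      haveI : _root_.IsReduced B := (affine_isReduced_iff (CommRingCat.of B)).1 ‹_›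
      exact fun x hx => (hnil x hx).eq_zero
  let e := AlgEquiv.ofBijective π₀ ⟨hinjπ, hsur⟩
  haveI : IsIso (pt π₀) := ⟨⟨pt e.symm.toAlgHom, by
      rw [← pt_comp, ← pt_id]; exact congrArg pt (AlgHom.ext fun x => e.apply_symm_apply x), by
      rw [← pt_comp, ← pt_id]; exact congrArg pt (AlgHom.ext fun x => e.symm_apply_apply x)⟩⟩
  rw [hψ]
  infer_instance


/-- Let k be a field, K an algebraic closure of k, and ψ : G → H a homomorphism of commutative affine
group schemes of finite type over k. Assume that for every finite commutative group scheme I over k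
the map Hom(I, G) → Hom(I, H), f ↦ f ≫ ψ, on group-scheme homomorphisms is bijective, and that ψ
induces a bijection G(K) → H(K) on K-valued points. Then ψ is an isomorphism. (All group schemes are
commutative by the standing convention.) -/
theorem result
    {k : Type u} [Field k] (K : Type u) [Field K] [Algebra k K] [IsAlgClosure k K]
    (G H : Over (Spec (CommRingCat.of k)))
    [GrpObj G] [IsCommMonObj G] [GrpObj H] [IsCommMonObj H]
    [IsAffine G.left] [IsAffine H.left] [LocallyOfFiniteType G.hom] [LocallyOfFiniteType H.hom]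
    (ψ : G ⟶ H) [IsMonHom ψ]
    (hinj : ∀ (I : Over (Spec (CommRingCat.of k))) [GrpObj I] [IsCommMonObj I] [IsFinite I.hom]
      (f g : I ⟶ G) [IsMonHom f] [IsMonHom g], f ≫ ψ = g ≫ ψ → f = g)
    (hsurj : ∀ (I : Over (Spec (CommRingCat.of k))) [GrpObj I] [IsCommMonObj I] [IsFinite I.hom]
      (h : I ⟶ H) [IsMonHom h], ∃ f : I ⟶ G, IsMonHom f ∧ f ≫ ψ = h)
    (hpts : Function.Bijective fun x : Over.mk (Spec.map (CommRingCat.ofHom (algebraMap k K))) ⟶ G => x ≫ ψ) :
    IsIso ψ := by
  haveI : IsAlgClosure k K := inferInstance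
  exact main K ψ hinj hsurj hpts

end Groth.Agent.S13633
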