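import Groth.Statements.S13634
import Mathlib.CategoryTheory.Sites.LocallySurjective
import Mathlib.CategoryTheory.Sites.Abelian
import Mathlib.CategoryTheory.Sites.EpiMono

set_option backward.isDefEq.respectTransparency false
set_option backward.isDefEq.respectTransparency.types false

set_option autoImplicit false
universe u
open CategoryTheory CategoryTheory.Limits MonoidalCategory CartesianMonoidalCategory MonObj AlgebraicGeometry
open MultSch

namespace Groth.Agent.S13634

theorem comp_tuple {C : Type*} [Category C] [CartesianMonoidalCategory C] {M T T' : C} (f : T' ⟶ T) :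
    ∀ {n : ℕ} (x : Fin n → (T ⟶ M)), f ≫ MultSch.tuple x = MultSch.tuple fun l => f ≫ x l
  | 0, _ => toUnit_unique _ _
  | n + 1, x => by
    show f ≫ lift (x 0) (MultSch.tuple fun i => x i.succ) = lift (f ≫ x 0) (MultSch.tuple fun i => f ≫ x i.succ)
    rw [comp_lift, comp_tuple f]

/-- Let π : M → M'' be a homomorphism of commutative group schemes over a scheme S which is an
epimorphism of fppf sheaves, H a commutative group scheme over S and φ : (M'')^r → H a multilinear
morphism. If the composite of φ with π^r : M^r → (M'')^r is alternating, then φ is alternating. (The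
published statement is for module schemes over a ring R and an R-multilinear φ; the ring action
plays no role, so this row states it for commutative group schemes, which contains that case.) -/
theorem result
    {S : Scheme.{u}} {M M'' H : Over S}
    [GrpObj M] [IsCommMonObj M] [GrpObj M''] [IsCommMonObj M''] [GrpObj H] [IsCommMonObj H]
    (π : M ⟶ M'') [IsMonHom π] (hπ : Epi (CGrpSh.ptsMap Scheme.fppfPrecoverage π))
    {r : ℕ} (φ : MultSch.pow M'' r ⟶ H) (hφ : MultSch.IsMultilinear φ)
    (halt : ∀ (T : Over S) (x : Fin r → (T ⟶ M)) (i j : Fin r), i ≠ j → x i = x j →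
      MultSch.tuple (fun l => x l ≫ π) ≫ φ = 1) :
    MultSch.IsAlternating φ := by
  intro T x i j hij hx
  let J := QuotSh.J Scheme.fppfPrecoverage S
  haveI := hπ
  haveI : Presheaf.IsLocallySurjective J (CGrpSh.ptsMap Scheme.fppfPrecoverage π).hom :=
    (Sheaf.isLocallySurjective_iff_epi' (A := AddCommGrpCat.{u + 1}) _).2 hπ
  let sv : Fin r → Sieve T := fun l => Presheaf.imageSieve (CGrpSh.ptsMap Scheme.fppfPrecoverage π).hom
    (U := T) (ULift.up (Additive.ofMul (x l)))
  have hinf : ∀ s : Finset (Fin r), s.inf sv ∈ J T := fun s => by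
    induction s using Finset.induction_on with
    | empty => exact J.top_mem T
    | insert a t _ ih =>
      rw [Finset.inf_insert]
      exact J.intersection_covering (Presheaf.imageSieve_mem J (CGrpSh.ptsMap Scheme.fppfPrecoverage π).hom (U := Opposite.op T) _) ih
  refine ((GrothendieckTopology.Subcanonical.isSheaf_of_isRepresentable (J := J) (yoneda.obj H))
    _ (hinf Finset.univ)).isSeparatedFor.ext fun V f hf => ?_
  have hl : ∀ l, ∃ y : V ⟶ M, y ≫ π = f ≫ x l := fun l => by
    obtain ⟨y, hy⟩ := (Finset.inf_le (Finset.mem_univ l) : Finset.univ.inf sv ≤ sv l) _ hf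
    exact ⟨y.down.toMul, congrArg Additive.toMul (congrArg ULift.down hy)⟩
  choose y hy using hl
  let z : Fin r → (V ⟶ M) := fun l => if l = j then y i else y l
  have hz : ∀ l, z l ≫ π = f ≫ x l := fun l => by
    by_cases h : l = j
    · subst h
      simp only [z, if_pos]
      rw [hy, hx]
    · simp only [z, if_neg h]
      exact hy l
  show f ≫ MultSch.tuple x ≫ φ = f ≫ 1
  rw [MonObj.comp_one, ← Category.assoc, comp_tuple, ← funext hz]
  exact halt V z i j hij (by simp [z, hij])

end Groth.Agent.S13634
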