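import Groth.Statements.S13642
import Groth.Agent.S13342

set_option autoImplicit false
open CategoryTheory
universe u
open FSch

namespace Groth.Agent.S13642

/-- Let f : 𝔛 ⟶ 𝔜 be a finite morphism of locally Noetherian formal schemes (adic, with finite morphism
of smallest levels). Then for every open U of 𝔜 the restriction f⁻¹(U) ⟶ U of f to the induced
formal schemes on U and on its inverse image is a finite morphism. -/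
theorem result (𝔛 𝔜 : FSch.Sys.{u}) (h𝔛 : 𝔛.IsLocNoethFormal) (h𝔜 : 𝔜.IsLocNoethFormal)
    (f : 𝔛 ⟶ 𝔜) (hf : FSch.IsFiniteHom f) (U : (𝔜.X 0).Opens) :
    FSch.IsFiniteHom (FSch.Hom.restrictOpen f h𝔛.1 h𝔜.1 U) := by
  let V : (𝔛.X 0).Opens := (TopologicalSpace.Opens.map ((f : FSch.Hom 𝔛 𝔜).app 0).base).obj U
  have hV : ∀ n, IsPullback (𝔛.lvU h𝔛.1 n V).ι ((FSch.Hom.restrictOpen f h𝔛.1 h𝔜.1 U : FSch.Hom _ _).app n)
      ((f : FSch.Hom 𝔛 𝔜).app n) (𝔜.lvU h𝔜.1 n U).ι := fun n =>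
    (S13342.isPullback_resLE _ _ _ _ (FSch.Hom.lvU_preimage f h𝔛.1 h𝔜.1 n U).symm).flip
  refine ⟨fun n => ?_, MorphismProperty.of_isPullback (P := @AlgebraicGeometry.IsFinite) (hV 0) hf.2⟩
  refine IsPullback.of_right ?_ ((FSch.Hom.restrictOpen f h𝔛.1 h𝔜.1 U : FSch.Hom _ _).comm n).symm (hV (n + 1))
  have e1 : (𝔛.restrictOpen h𝔛.1 V).ι n ≫ (𝔛.lvU h𝔛.1 (n + 1) V).ι = (𝔛.lvU h𝔛.1 n V).ι ≫ 𝔛.ι n :=
    AlgebraicGeometry.Scheme.Hom.resLE_comp_ι _ _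
  have e2 : (𝔜.restrictOpen h𝔜.1 U).ι n ≫ (𝔜.lvU h𝔜.1 (n + 1) U).ι = (𝔜.lvU h𝔜.1 n U).ι ≫ 𝔜.ι n :=
    AlgebraicGeometry.Scheme.Hom.resLE_comp_ι _ _
  rw [e1, e2]
  exact (hV n).paste_horiz (hf.1 n)

end Groth.Agent.S13642
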