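import Groth.Statements.S13647
import Groth.Agent.FCohLib.PushCompl
import Groth.Agent.FCohLib.AlgzVan

set_option autoImplicit false
open CategoryTheory CategoryTheory.Limits AlgebraicGeometry
universe u
open FSch

namespace Groth.Agent.S13647

/-- Suppose A is a Noetherian ring that is adic with J as an ideal of definition, and put Y = Spec A.
Consider finite-type morphisms f : X ⟶ Y and h : Z ⟶ Y together with a proper Y-morphism g : Z ⟶ X.
Write X̂ and Ẑ for the completions along the preimages of V(J), and ĝ : Ẑ ⟶ X̂ for the map on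
completions induced by g. A module on X̂ (resp. Ẑ) is termed algebraizable if it is isomorphic to
the completion of some coherent module on X (resp. Z) having support proper over Y. Under these
assumptions, whenever 𝔉 is an algebraizable O_Ẑ-module, its direct image ĝ_* 𝔉 is again an
algebraizable O_X̂-module. -/
theorem result (A : Type u) [CommRing A] [IsNoetherianRing A]
    (J : Ideal A) [IsAdicComplete J A] {X Z : Scheme.{u}} (f : X ⟶ Spec (CommRingCat.of A))
    [LocallyOfFiniteType f] [QuasiCompact f] (h : Z ⟶ Spec (CommRingCat.of A)) [LocallyOfFiniteType h]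
    [QuasiCompact h] (g : Z ⟶ X) (hg : g ≫ f = h) [IsProper g]
    (𝓘 : X.IdealSheafData) (h𝓘 : 𝓘 = (FSch.idealSpec A J).comap f)
    (𝓚 : Z.IdealSheafData) (h𝓚 : 𝓚 = (FSch.idealSpec A J).comap h)
    (hX : (FSch.completionAlong X 𝓘).IsFormal) (hZ : (FSch.completionAlong Z 𝓚).IsFormal)
    (hpc : FSch.PowCompat g 𝓚 𝓘) (𝔉 : FSch.ModF (FSch.completionAlong Z 𝓚) hZ)
    (a𝔉 : (∃ G : Z.Modules, Coh.IsCoh G ∧ ClSub.IsProperOver h (CohB1.support G) ∧
        Nonempty (𝔉 ≅ (FSch.complMod 𝓚 G).realMod hZ))) :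
    (∃ G : X.Modules, Coh.IsCoh G ∧ ClSub.IsProperOver f (CohB1.support G) ∧
        Nonempty ((FSch.pushF (FSch.completionMap g 𝓚 𝓘 hpc) hZ hX).obj 𝔉 ≅ (FSch.complMod 𝓘 G).realMod hX)) := by
  obtain ⟨G, hG, hGs, ⟨e⟩⟩ := a𝔉
  letI : X.Over (Spec (CommRingCat.of A)) := ⟨f⟩
  letI : Z.Over (Spec (CommRingCat.of A)) := ⟨h⟩
  haveI : LocallyOfFiniteType (X ↘ Spec (CommRingCat.of A)) := ‹LocallyOfFiniteType f›
  haveI : IsLocallyNoetherian X := LocallyOfFiniteType.isLocallyNoetherian f
  haveI : IsLocallyNoetherian Z := LocallyOfFiniteType.isLocallyNoetherian h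
  haveI : CompactSpace X := QuasiCompact.compactSpace_of_compactSpace f
  haveI : CompactSpace Z := QuasiCompact.compactSpace_of_compactSpace h
  haveI : AlgebraicGeometry.IsNoetherian X := {}
  haveI : AlgebraicGeometry.IsNoetherian Z := {}
  have hF : Coh.IsCoh ((Scheme.Modules.pushforward g).obj G) := FormalCohLib.isCoh_push_proper g hG
  have hTc : IsClosed (g '' CohB1.support G) := g.isClosedMap _ hGs.1
  have hT : ClSub.IsProperOver f (g '' CohB1.support G) := by
    obtain ⟨T, i, hi, hr, hp⟩ := ProperOverLib.exists_closedImmersion hGs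
    haveI : IsProper (i ≫ h) := hp
    haveI : IsProper ((i ≫ g) ≫ f) := by rw [Category.assoc, hg]; infer_instance
    refine ProperOverLib.of_map (i ≫ g) f _ hTc ?_
    rintro _ ⟨z, hz, rfl⟩
    obtain ⟨t, rfl⟩ := hr.ge hz
    exact ⟨t, rfl⟩
  have hiso := FCohLib.isIso_pushC J g hg (𝓘 := 𝓘) h𝓘 (𝓚 := 𝓚) h𝓚 hpc hX hZ hG
  refine ⟨(Scheme.Modules.pushforward g).obj G, hF, FCohLib.isProperOver_of_subset hT
    (QCohLib.isClosed_support _ hF.2) (FCohLib.support_push_le g subset_rfl hTc), ⟨?_⟩⟩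
  exact (FSch.pushF (FSch.completionMap g 𝓚 𝓘 hpc) hZ hX).mapIso e ≪≫ (@asIso _ _ _ _ _ hiso).symm

end Groth.Agent.S13647
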