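import Groth.Statements.S1365
import Groth.Agent.SteinLib.Conn
import Groth.Agent.LocFFLib.Basic

set_option autoImplicit false
universe u
open FlatMor

namespace Groth.Agent.S1365

open AlgebraicGeometry CategoryTheory CategoryTheory.Limits

theorem subsingleton_sections {X : Scheme.{u}} {U : X.Opens} (h : U = ⊥) : Subsingleton Γ(X, U) := by
  subst h
  infer_instance

theorem app_fromSpecRes {S : Scheme.{u}} (x : S) (W : S.Opens) (hx : x ∈ W) (e) :
    (S.fromSpecResidueField x).appLE W ⊤ e =
      S.presheaf.germ W x hx ≫ S.residue x ≫ (Scheme.ΓSpecIso (S.residueField x)).inv := by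
  have e1 : ⊤ ≤ S.fromSpecStalk x ⁻¹ᵁ W := (Scheme.preimage_eq_top_of_closedPoint_mem (S.fromSpecStalk x) (by rw [Scheme.fromSpecStalk_closedPoint]; exact hx)).ge
  have h1 : (S.fromSpecResidueField x).appLE W ⊤ e =
      (S.fromSpecStalk x).appLE W ⊤ e1 ≫ (Spec.map (S.residue x)).appTop := by
    rw [show (Spec.map (S.residue x)).appTop = (Spec.map (S.residue x)).appLE ⊤ ⊤ le_rfl from
      Scheme.Hom.app_eq_appLE _]
    exact (Scheme.Hom.appLE_comp_appLE (Spec.map (S.residue x)) (S.fromSpecStalk x) W ⊤ ⊤ e1 le_rfl).symm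
  have h2 : (S.fromSpecStalk x).appLE W ⊤ e1 =
      S.presheaf.germ W x hx ≫ (Scheme.ΓSpecIso (S.presheaf.stalk x)).inv := by
    rw [Scheme.Hom.appLE, Scheme.fromSpecStalk_app hx, Category.assoc, Category.assoc, ← Functor.map_comp]
    refine congrArg (fun m => _ ≫ m) ((congrArg (fun m => (Scheme.ΓSpecIso (S.presheaf.stalk x)).inv ≫ m)
      ((congrArg (fun j => (Spec (S.presheaf.stalk x)).presheaf.map j) (Subsingleton.elim _ (𝟙 _))).trans
        ((Spec (S.presheaf.stalk x)).presheaf.map_id _))).trans (Category.comp_id _))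
  rw [h1, h2, Category.assoc, ← Scheme.ΓSpecIso_inv_naturality]

theorem app_square {A X T S : Scheme.{u}} (i : A ⟶ X) (q : A ⟶ T) (f : X ⟶ S) (g : T ⟶ S) (w : i ≫ f = q ≫ g)
    (W : S.Opens) (hi : ⊤ ≤ i ⁻¹ᵁ f ⁻¹ᵁ W) (hg : ⊤ ≤ g ⁻¹ᵁ W) :
    f.app W ≫ i.appLE (f ⁻¹ᵁ W) ⊤ hi = g.appLE W ⊤ hg ≫ q.appTop := by
  rw [Scheme.Hom.app_eq_appLE, Scheme.Hom.appLE_comp_appLE,
    show q.appTop = q.appLE ⊤ ⊤ le_rfl from (Scheme.Hom.app_eq_appLE q)]
  simp only [w]
  exact (Scheme.Hom.appLE_comp_appLE ..).symm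

theorem bijective_app {X S : Scheme.{u}} (f : X ⟶ S) [IsProper f] [IsIntegral S] (hS : Pi1.IsNormalScheme S) [IsReduced X]
    (hgen : ∀ Z ∈ irreducibleComponents ↑X, ∀ x : X, IsGenericPoint x Z → f x = genericPoint ↑S)
    (h0 : Function.Bijective ((f.fiberToSpecResidueField (genericPoint ↑S)).appTop))
    (W : S.Opens) (hW : IsAffineOpen W) : Function.Bijective (f.app W) := by
  by_cases hne : Nonempty W
  swap
  · have hW0 : W = ⊥ := eq_bot_iff.2 fun x hx => (hne ⟨⟨x, hx⟩⟩).elim
    haveI : Subsingleton Γ(S, W) := subsingleton_sections hW0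
    haveI : Subsingleton Γ(X, f ⁻¹ᵁ W) := subsingleton_sections (by subst hW0; rfl)
    exact ⟨fun a b _ => Subsingleton.elim _ _, fun b => ⟨0, Subsingleton.elim _ _⟩⟩
  let ξ := genericPoint S
  have hξ : ξ ∈ W := ((genericPoint_spec S).mem_open_set_iff W.2).2
    ⟨(Classical.arbitrary W).1, trivial, (Classical.arbitrary W).2⟩
  let i := f.fiberι ξ
  let q := f.fiberToSpecResidueField ξ
  have hi : (⊤ : (f.fiber ξ).Opens) ≤ i ⁻¹ᵁ f ⁻¹ᵁ W := fun p _ => by
    show f (i p) ∈ W
    have : i p ∈ Set.range (f.fiberι ξ) := Set.mem_range_self _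
    rw [f.range_fiberι] at this
    rwa [show f (i p) = ξ from this]
  have hfr : (⊤ : (Spec (S.residueField ξ)).Opens) ≤ S.fromSpecResidueField ξ ⁻¹ᵁ W := fun p _ => by
    show S.fromSpecResidueField ξ p ∈ W
    rw [Scheme.fromSpecResidueField_apply]
    exact hξ
  let ψ := i.appLE (f ⁻¹ᵁ W) ⊤ hi
  let ι : Γ(S, W) ⟶ Γ(Spec (S.residueField ξ), ⊤) := (S.fromSpecResidueField ξ).appLE W ⊤ hfr
  have hcomm : f.app W ≫ ψ = ι ≫ q.appTop :=
    app_square i q f (S.fromSpecResidueField ξ) pullback.condition W hi hfr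
  let e : S.functionField →+* Γ(Spec (S.residueField ξ), ⊤) :=
    (S.residue ξ ≫ (Scheme.ΓSpecIso (S.residueField ξ)).inv).hom
  have he : Function.Bijective e := by
    refine (Scheme.ΓSpecIso (S.residueField ξ)).commRingCatIsoToRingEquiv.symm.bijective.comp ⟨?_, S.residue_surjective ξ⟩
    exact RingHom.injective (R := S.functionField) (S := S.residueField ξ) (S.residue ξ).hom
  have hι : ι.hom = e.comp (algebraMap Γ(S, W) S.functionField) := congrArg CommRingCat.Hom.hom (app_fromSpecRes ξ W hξ hfr)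
  have hψ : Function.Injective ψ := by
    rw [injective_iff_map_eq_zero]
    intro s hs
    refine eq_zero_of_basicOpen_eq_bot s (eq_bot_iff.2 fun x hx => ?_)
    obtain ⟨g, hg⟩ := QuasiSober.sober (isIrreducible_irreducibleComponent (x := x)) isClosed_irreducibleComponent
    have hgx : g ⤳ x := hg.specializes mem_irreducibleComponent
    have hgs : g ∈ X.basicOpen s := hgx.mem_open (X.basicOpen s).2 hx
    obtain ⟨g', rfl⟩ : g ∈ Set.range (f.fiberι ξ) := by
      rw [f.range_fiberι]
      exact hgen _ (irreducibleComponent_mem_irreducibleComponents x) g hg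
    have : g' ∈ (f.fiber ξ).basicOpen (ψ s) := by
      rw [Scheme.basicOpen_appLE]
      exact ⟨trivial, hgs⟩
    rw [hs, Scheme.basicOpen_zero] at this
    exact this.elim
  have hφ : ∀ a, ψ (f.app W a) = q.appTop (e (algebraMap _ S.functionField a)) := fun a =>
    (DFunLike.congr_fun (congrArg CommRingCat.Hom.hom hcomm) a).trans (congrArg _ (DFunLike.congr_fun hι a))
  refine ⟨fun a b hab => ?_, fun s => ?_⟩
  · have := congrArg ψ hab
    rw [hφ, hφ] at this
    exact S.germToFunctionField_injective W (he.1 (h0.1 this))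
  · obtain ⟨z, hz⟩ := h0.2 (ψ s)
    obtain ⟨r, rfl⟩ := he.2 z
    obtain ⟨p, hpm, hp⟩ := SteinLib.isIntegral_app f hW s
    obtain ⟨a, ha⟩ := LocFFLib.exists_section_of_integral hS W r ⟨p, hpm, by
      apply he.1
      apply h0.1
      rw [map_zero, map_zero]
      have h2 := congrArg ψ.hom hp
      rw [Polynomial.hom_eval₂, map_zero, ← CommRingCat.hom_comp, hcomm, CommRingCat.hom_comp, hι, ← hz] at h2
      change q.appTop.hom (e (Polynomial.eval₂ _ r p)) = 0
      rw [Polynomial.hom_eval₂, Polynomial.hom_eval₂]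
      exact h2⟩
    exact ⟨a, hψ (by rw [hφ, ha, hz])⟩


open AlgebraicGeometry CategoryTheory Limits in
/-- Let f : X → S be proper with S integral and normal and X reduced, such that the generic points of
the irreducible components of X all lie over the generic point ξ of S, and such that the global
functions of the generic fibre are just the residue field of ξ. Then the structure sheaf of S is the
pushforward of that of X (all components of f on opens are isomorphisms) and f has geometrically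
connected fibres. -/
theorem result {X S : Scheme.{u}} (f : X ⟶ S) [IsProper f] [IsIntegral S] (hS : Pi1.IsNormalScheme S) [IsReduced X]
    (hgen : ∀ Z ∈ irreducibleComponents ↑X, ∀ x : X, IsGenericPoint x Z → f x = genericPoint ↑S)
    (h0 : Function.Bijective ((f.fiberToSpecResidueField (genericPoint ↑S)).appTop)) :
    (∀ U : S.Opens, IsIso (f.app U)) ∧ GeometricallyConnected f := by
  have h : ∀ W : S.Opens, IsAffineOpen W → IsIso (f.app W) := fun W hW =>
    (ConcreteCategory.isIso_iff_bijective _).2 (bijective_app f hS hgen h0 W hW)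
  refine ⟨fun U => SteinLib.isIso_app_of_cover f (fun W : S.affineOpens => W.1) (fun W => W.2)
    (fun s => ?_) (fun W => h _ W.2) U, SteinLib.geometricallyConnected_of_isIso_app f h⟩
  obtain ⟨W, hW, hsW, -⟩ := exists_isAffineOpen_mem_and_subset (X := S) (x := s) (U := ⊤) trivial
  exact ⟨⟨W, hW⟩, hsW⟩

end Groth.Agent.S1365
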