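import Groth.Statements.S13651
import Groth.Agent.FCohLib.AlgzFaithful

set_option autoImplicit false
open CategoryTheory CategoryTheory.Limits AlgebraicGeometry
universe u
open FSch

namespace Groth.Agent.S13651

/-- Let A be an adic Noetherian ring with ideal of definition J, Y = Spec A, f : X ⟶ Y of finite type
and closed (a closed map on underlying spaces), X̂ the completion of X along f⁻¹(V(J)), F and G
coherent O_X-modules whose supports have intersection proper over Y, and u : F ⟶ G a homomorphism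
with completion û : F̂ ⟶ Ĝ. Then û is injective (a monomorphism of O_X̂-modules) if and only if u is
injective, and û is surjective if and only if u is surjective. -/
theorem result (A : Type u) [CommRing A] [IsNoetherianRing A]
    (J : Ideal A) [IsAdicComplete J A] {X : Scheme.{u}} (f : X ⟶ Spec (CommRingCat.of A)) [LocallyOfFiniteType f]
    [QuasiCompact f] (hf : IsClosedMap f.base) (𝓘 : X.IdealSheafData) (h𝓘 : 𝓘 = (FSch.idealSpec A J).comap f)
    (hX : (FSch.completionAlong X 𝓘).IsFormal) (F G : X.Modules) (hF : Coh.IsCoh F) (hG : Coh.IsCoh G)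
    (hs : ClSub.IsProperOver f (CohB1.support F ∩ CohB1.support G)) (u : F ⟶ G) :
    (Mono (FSch.ModSys.realModMap hX (FSch.complModMap 𝓘 u)) ↔ Mono u) ∧
    (Epi (FSch.ModSys.realModMap hX (FSch.complModMap 𝓘 u)) ↔ Epi u) := by
  letI : X.Over (Spec (CommRingCat.of A)) := ⟨f⟩
  haveI : LocallyOfFiniteType (X ↘ Spec (CommRingCat.of A)) := ‹LocallyOfFiniteType f›
  haveI : QuasiCompact (X ↘ Spec (CommRingCat.of A)) := ‹QuasiCompact f›
  haveI : IsLocallyNoetherian X := LocallyOfFiniteType.isLocallyNoetherian f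
  have h' : 𝓘 = (FSch.idealSpec A J).comap (X ↘ Spec (CommRingCat.of A)) := h𝓘
  have zero : ∀ K : X.Modules, Coh.IsCoh K → FSch.ModSys.realModMap hX (FSch.complModMap 𝓘 (𝟙 K)) = 0 → IsZero K :=
    fun K hK h => FCohLib.isZero_of_realModMap_eq_zero J h' hf hK h
  refine ⟨⟨fun hu => ?_, fun hu => FCohLib.mono_realModMap' 𝓘 hX hF hG u⟩,
    ⟨fun hu => ?_, fun hu => FCohLib.epi_realModMap 𝓘 hX hF hG u⟩⟩
  · have hK : Coh.IsCoh (kernel u) := QCohLib.isCoh_kernel _ hF hG.1
    have hκ := FCohLib.mono_realModMap' 𝓘 hX hK hF (kernel.ι u)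
    have h1 : FSch.ModSys.realModMap hX (FSch.complModMap 𝓘 (kernel.ι u)) = 0 := by
      refine (cancel_mono (FSch.ModSys.realModMap hX (FSch.complModMap 𝓘 u))).1 ?_
      rw [← FCohLib.realModMap_complModMap_comp, kernel.condition, FCohLib.realModMap_complModMap_zero,
        Limits.zero_comp]
    have h2 : FSch.ModSys.realModMap hX (FSch.complModMap 𝓘 (𝟙 (kernel u))) = 0 := by
      refine (cancel_mono (FSch.ModSys.realModMap hX (FSch.complModMap 𝓘 (kernel.ι u)))).1 ?_
      rw [h1, Limits.comp_zero, Limits.comp_zero]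
    exact Preadditive.mono_of_isZero_kernel u (zero _ hK h2)
  · have hC : Coh.IsCoh (cokernel u) := QCohLib.isCoh_cokernel _ hF.1 hG
    have hπ := FCohLib.epi_realModMap 𝓘 hX hG hC (cokernel.π u)
    have h1 : FSch.ModSys.realModMap hX (FSch.complModMap 𝓘 (cokernel.π u)) = 0 := by
      refine (cancel_epi (FSch.ModSys.realModMap hX (FSch.complModMap 𝓘 u))).1 ?_
      rw [← FCohLib.realModMap_complModMap_comp, cokernel.condition, FCohLib.realModMap_complModMap_zero,
        Limits.comp_zero]
    have h2 : FSch.ModSys.realModMap hX (FSch.complModMap 𝓘 (𝟙 (cokernel u))) = 0 := by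
      refine (cancel_epi (FSch.ModSys.realModMap hX (FSch.complModMap 𝓘 (cokernel.π u)))).1 ?_
      rw [h1, Limits.zero_comp, Limits.zero_comp]
    exact Preadditive.epi_of_isZero_cokernel u (zero _ hC h2)

end Groth.Agent.S13651
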