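import Groth.Statements.S13659
import Groth.Agent.FBlowLib.BlowInv

set_option autoImplicit false
open CategoryTheory AlgebraicGeometry
universe u
open FBlow

namespace Groth.Agent.S13659

/-- Let R be a base ring of class (N) or (V) for the ideal I, A an admissible R-algebra and 𝔞 a finitely
generated open ideal of A (one containing I^k A for some k). Present Spf A as the completion of Spec
A along the ideal IA (the formal system of the closed subschemes V((IA)^(n+1))), and let P → Spec A
be a scheme-theoretic blowing-up of 𝔞 (universal-property sense) along which the powers of IA pull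
back to the powers of the pulled-back ideal. Then the induced morphism from the completion of P
along the inverse image of IA to Spf A is the admissible formal blowing-up of the ideal 𝔞·O_{Spf A}:
it is adic, 𝔞 generates an invertible ideal of the structure sheaf of the completion of P, and every
adic morphism of formal systems Y → Spf A under which 𝔞 generates an invertible ideal of O_Y factors
through it in exactly one way. (The published statement identifies the two constructions for A
merely topologically of finite presentation; the universal property asserted here is the one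
established for admissible A, so A is taken admissible.) -/
theorem result
    (R : Type u) [CommRing R] (I : Ideal R) (hR : AdicRing.IsBase R I)
    (A : Type u) [CommRing A] [Algebra R A] (hA : AdicRing.Admissible R I A)
    (𝔞 : Ideal A) (h𝔞 : 𝔞.FG) (k : ℕ) (hk : (I ^ k).map (algebraMap R A) ≤ 𝔞)
    (P : Scheme.{u}) (q : P ⟶ Spec (CommRingCat.of A)) (hq : BlowUp.IsBlowUp q (FSch.idealSpec A 𝔞))
    (hpc : FSch.PowCompat q ((FSch.idealSpec A (I.map (algebraMap R A))).comap q) (FSch.idealSpec A (I.map (algebraMap R A))))
    (hX : (FSch.completionAlong (Spec (CommRingCat.of A)) (FSch.idealSpec A (I.map (algebraMap R A)))).IsFormal)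
    (hP : (FSch.completionAlong P ((FSch.idealSpec A (I.map (algebraMap R A))).comap q)).IsFormal) :
    FBlow.IsAdmBlowUp (FSch.completionMap q ((FSch.idealSpec A (I.map (algebraMap R A))).comap q) (FSch.idealSpec A (I.map (algebraMap R A))) hpc) hP hX
      (FBlow.schIdealMap (FSch.completionAlong (Spec (CommRingCat.of A)) (FSch.idealSpec A (I.map (algebraMap R A)))) hX
        (FSch.completionToX (Spec (CommRingCat.of A)) (FSch.idealSpec A (I.map (algebraMap R A))))
        (FSch.completionToX_comm (Spec (CommRingCat.of A)) (FSch.idealSpec A (I.map (algebraMap R A))))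
        (FBlow.IdealSh.ofData (FSch.idealSpec A 𝔞))) := by
  obtain ⟨r, f, hf⟩ := Submodule.fg_iff_exists_fin_generating_family.1 h𝔞
  replace hf : Ideal.span (Set.range f) = 𝔞 := hf
  subst hf
  set K := I.map (algebraMap R A) with hK
  have hk' : K ^ k ≤ Ideal.span (Set.range f) := (Ideal.map_pow (algebraMap R A) I k).ge.trans hk
  rw [FComplLib.idealSpec_eq] at hq
  let b := FSch.completionMap q ((FSch.idealSpec A K).comap q) (FSch.idealSpec A K) hpc
  let gX := FSch.completionToX (Spec (CommRingCat.of A)) (FSch.idealSpec A K)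
  let gXc := FSch.completionToX_comm (Spec (CommRingCat.of A)) (FSch.idealSpec A K)
  let 𝓘 := (FSch.idealSpec A K).comap q
  have hgP : ∀ n, FSch.completionToX P 𝓘 n ≫ q = (b : FSch.Hom _ _).app n ≫ gX n := fun n =>
    (FComplLib.completionMap_app_ι q _ _ hpc n).symm
  have hcomp : ∀ {𝔜 : FSch.Sys.{u}} (g : 𝔜 ⟶ FSch.completionAlong (Spec (CommRingCat.of A)) (FSch.idealSpec A K))
      (n : ℕ), 𝔜.ι n ≫ (g : FSch.Hom _ _).app (n + 1) ≫ gX (n + 1) = (g : FSch.Hom _ _).app n ≫ gX n :=
    fun g n => by rw [← Category.assoc, ← (g : FSch.Hom _ _).comm, Category.assoc, gXc]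
  refine ⟨FComplLib.completion_isAdicHom q _ hpc, ?_, fun 𝔜 h𝔜 g _ hinv => ?_⟩
  · rw [FBlowLib.idealMap_schIdealMap hP hX gX gXc b _ (hcomp b) (fun _ => rfl)]
    exact FBlowLib.isInvertible_completion hq k hk' hP _ hgP (hcomp b)
  rw [FBlowLib.idealMap_schIdealMap h𝔜 hX gX gXc g _ (hcomp g) (fun _ => rfl)] at hinv
  obtain ⟨s, hs, hsq⟩ := FBlowLib.exists_family f hq rfl hinv
  have hp := fun n => FComplLib.completion_level_isPullback q (FSch.idealSpec A K) hpc n
  let κ : ∀ n, 𝔜.X n ⟶ (FSch.completionAlong P 𝓘).X n := fun n => (hp n).lift (s n) ((g : FSch.Hom _ _).app n) (hsq n)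
  have hκc : ∀ n, κ n ≫ (FSch.completionAlong P 𝓘).ι n = 𝔜.ι n ≫ κ (n + 1) := fun n => by
    refine (hp (n + 1)).hom_ext ?_ ?_
    · rw [Category.assoc, Category.assoc, (hp (n + 1)).lift_fst, hs,
        FSch.completionToX_comm P 𝓘 n, (hp n).lift_fst]
    · rw [Category.assoc, Category.assoc, (hp (n + 1)).lift_snd, ← (b : FSch.Hom _ _).comm n, ← Category.assoc,
        (hp n).lift_snd]
      exact (g : FSch.Hom _ _).comm n
  refine ⟨⟨κ, hκc⟩, FSch.Hom.ext (funext fun n => (hp n).lift_snd _ _ _), fun m hm => ?_⟩
  have hmn : ∀ n, (m : FSch.Hom _ _).app n ≫ (b : FSch.Hom _ _).app n = (g : FSch.Hom _ _).app n := fun n =>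
    congrArg (fun u : 𝔜 ⟶ _ => (u : FSch.Hom _ _).app n) hm
  have e := FBlowLib.family_ext f hq rfl hinv (fun n => (m : FSch.Hom _ _).app n ≫ FSch.completionToX P 𝓘 n) s
    (fun n => by rw [← Category.assoc, ← (m : FSch.Hom _ _).comm, Category.assoc, FSch.completionToX_comm])
    hs (fun n => by rw [Category.assoc, hgP, ← Category.assoc, hmn]) hsq
  refine FSch.Hom.ext (funext fun n => (hp n).hom_ext ?_ ?_)
  · exact (congrFun e n).trans ((hp n).lift_fst _ _ _).symm
  · exact (hmn n).trans ((hp n).lift_snd _ _ _).symm

end Groth.Agent.S13659
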