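import Groth.Statements.S13662
import Groth.Agent.FBlowLib.AdjoinChart

set_option autoImplicit false
open CategoryTheory AlgebraicGeometry
open scoped TensorProduct
universe u
open FBlow

set_option linter.style.haveILetI false

noncomputable section

namespace Groth.Agent.S13662

/-- Let R be a complete valuation ring of height one with t a nonzero element generating an ideal of
definition and K its field of fractions, A an admissible R-algebra, f_1, …, f_n elements of A ⊗_R K
that are integral over A, c a nonzero element of R and g_1, …, g_n elements of A with g_i = c f_i in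
A ⊗_R K; put A' = A[f_1, …, f_n] ⊂ A ⊗_R K and 𝔞 = (c, g_1, …, g_n) ⊂ A, and present Spf A and Spf
A' as the formal systems (Spec A/(t)^(m+1))_m and (Spec A'/(t)^(m+1))_m. Then the morphism Spf A' →
Spf A induced by the inclusion A ⊂ A' is the admissible formal blowing-up of the ideal 𝔞·O_{Spf A}
in the sense of the universal property: it is adic, 𝔞 generates an invertible ideal of O_{Spf A'},
and every adic morphism of formal systems Y → Spf A under which 𝔞 generates an invertible ideal of
O_Y factors through Spf A' → Spf A in exactly one way. (The published hypothesis on the f_i is that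
their supremum seminorm on the affinoid algebra A ⊗_R K is at most 1; integrality over A is what is
derived from it and used, and is taken as the hypothesis here.) -/
theorem result
    (R : Type u) [CommRing R] [IsDomain R] [ValuationRing R] [Ring.KrullDimLE 1 R]
    (t : R) (ht : t ≠ 0) [IsAdicComplete (Ideal.span {t}) R]
    (A : Type u) [CommRing A] [Algebra R A] (hA : AdicRing.Admissible R (Ideal.span {t}) A)
    (n : ℕ) (f : Fin n → A ⊗[R] FractionRing R) (hf : ∀ i, IsIntegral A (f i))
    (c : R) (hc : c ≠ 0) (g : Fin n → A)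
    (hg : ∀ i, algebraMap A (A ⊗[R] FractionRing R) (g i) = c • f i)
    (hX : (FSch.spf A ((Ideal.span {t}).map (algebraMap R A))).IsFormal) (h' : (FSch.spf ↥(Algebra.adjoin A (Set.range f)) ((Ideal.span {t}).map (algebraMap R ↥(Algebra.adjoin A (Set.range f))))).IsFormal)
    (hle : ((Ideal.span {t}).map (algebraMap R A)) ≤ ((Ideal.span {t}).map (algebraMap R ↥(Algebra.adjoin A (Set.range f)))).comap (algebraMap A ↥(Algebra.adjoin A (Set.range f)))) :
    FBlow.IsAdmBlowUp (FSch.spfMap ((Ideal.span {t}).map (algebraMap R ↥(Algebra.adjoin A (Set.range f)))) ((Ideal.span {t}).map (algebraMap R A)) (algebraMap A ↥(Algebra.adjoin A (Set.range f))) hle) h' hX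
      (FBlow.schIdealMap (FSch.spf A ((Ideal.span {t}).map (algebraMap R A))) hX (FSch.spfToSpec A ((Ideal.span {t}).map (algebraMap R A))) (FSch.spfToSpec_comm A ((Ideal.span {t}).map (algebraMap R A)))
        (FBlow.IdealSh.ofData (FSch.idealSpec A (Ideal.span (insert (algebraMap R A c) (Set.range g)))))) := by
  obtain ⟨k₀, hk₀⟩ := FBlowLib.exists_pow_mem_span t hc
  have hloc : IsLocalization (Algebra.algebraMapSubmonoid A (nonZeroDivisors R)) (A ⊗[R] FractionRing R) :=
    inferInstance
  have hinj : Function.Injective (algebraMap A (A ⊗[R] FractionRing R)) := by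
    refine IsLocalization.injective (M := Algebra.algebraMapSubmonoid A (nonZeroDivisors R)) _ ?_
    rintro _ ⟨r, hr, rfl⟩
    rw [mem_nonZeroDivisors_iff_right]
    intro x hx
    obtain ⟨k, hk⟩ := FBlowLib.exists_pow_mem_span t (nonZeroDivisors.ne_zero hr)
    refine hA.2 x k fun a ha => ?_
    rw [Ideal.span_singleton_pow, Ideal.mem_span_singleton'] at ha
    obtain ⟨b, rfl⟩ := ha
    obtain ⟨d, hd⟩ := Ideal.mem_span_singleton'.1 hk
    rw [← hd, Algebra.smul_def, map_mul, map_mul, mul_assoc, mul_assoc, mul_comm (algebraMap R A r) x, hx, mul_zero,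
      mul_zero]
  have hcu : IsUnit (algebraMap A (A ⊗[R] FractionRing R) (algebraMap R A c)) :=
    IsLocalization.map_units _ (⟨_, Algebra.mem_algebraMapSubmonoid_of_mem ⟨c, mem_nonZeroDivisors_of_ne_zero hc⟩⟩ :
      Algebra.algebraMapSubmonoid A (nonZeroDivisors R))
  refine FBlowLib.isAdmBlowUp_adjoin hinj (algebraMap R A c) hcu f g (fun i => (hg i).trans ?_) hf _ k₀ ?_ _ ?_
    hX h' hle
  · rw [← IsScalarTower.algebraMap_apply R A (A ⊗[R] FractionRing R), ← Algebra.smul_def]
  · rw [← Ideal.map_pow, Ideal.span_singleton_pow, Ideal.map_span, Set.image_singleton,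
      Ideal.span_singleton_le_span_singleton]
    obtain ⟨d, hd⟩ := Ideal.mem_span_singleton'.1 hk₀
    exact ⟨algebraMap R A d, by rw [← hd, map_mul, mul_comm]⟩
  · rw [Ideal.map_map, ← IsScalarTower.algebraMap_eq]

end Groth.Agent.S13662

end
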