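import Groth.Statements.S13663
import Mathlib
import Mathlib
-- import your own Groth.Agent.* helpers here

set_option autoImplicit false
universe u
open GrRing

namespace Groth.Agent.S13663

/-- Let A be a commutative ring graded by the integers whose ideal generated by the homogeneous elements
of positive degree has homogeneous generators f_1, …, f_p, of positive degrees d_1, …, d_p, and let
d be a positive integer divisible by each d_i. Then A_N = A_d · A_{N-d} for every integer N > dp -
(d_1 + ⋯ + d_p). -/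
theorem result {R A : Type u} [CommRing R] [CommRing A] [Algebra R A]
    (𝒜 : ℤ → Submodule R A) [GradedAlgebra 𝒜]
    {p : ℕ} (f : Fin p → A) (deg : Fin p → ℤ) (hdeg : ∀ i, 0 < deg i) (hf : ∀ i, f i ∈ 𝒜 (deg i))
    (hgen : Ideal.span {a : A | ∃ n : ℤ, 0 < n ∧ a ∈ 𝒜 n} = Ideal.span (Set.range f))
    (d : ℤ) (hd : 0 < d) (hdvd : ∀ i, deg i ∣ d) (N : ℤ) (hN : d * p - ∑ i, deg i < N) :
    𝒜 N = 𝒜 d * 𝒜 (N - d) := by
  classical
  have hdeg' : ∀ i, ∃ q : ℕ, 1 ≤ q ∧ (q : ℤ) * deg i = d := fun i => by
    obtain ⟨q, hq⟩ := hdvd i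
    have hq0 : 0 < q := pos_of_mul_pos_right (hq ▸ hd) (hdeg i).le
    exact ⟨q.toNat, by omega, by rw [Int.toNat_of_nonneg hq0.le, hq, mul_comm]⟩
  choose q hq1 hq using hdeg'
  -- splitting in positive degree
  have split : ∀ M : ℤ, 0 < M → ∀ a ∈ 𝒜 M, ∃ g : Fin p → A, (∀ i, g i ∈ 𝒜 (M - deg i)) ∧ a = ∑ i, f i * g i := by
    intro M hM a ha
    obtain ⟨g, hg⟩ := Ideal.mem_span_range_iff_exists_fun.1 (hgen ▸ Ideal.subset_span ⟨M, hM, ha⟩ : a ∈ Ideal.span (Set.range f))
    refine ⟨fun i => (DirectSum.decompose 𝒜 (g i) (M - deg i) : A), fun i => SetLike.coe_mem _, ?_⟩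
    rw [← DirectSum.decompose_of_mem_same 𝒜 ha, ← hg, DirectSum.decompose_sum, DFinsupp.finsetSum_apply, AddSubmonoidClass.coe_finsetSum]
    refine Finset.sum_congr rfl fun i _ => ?_
    have h := DirectSum.coe_decompose_mul_add_of_left_mem 𝒜 (j := M - deg i) (hf i) (b := g i)
    rw [add_sub_cancel] at h
    rw [mul_comm (g i), h]
  have main : ∀ t (e : Fin p → ℕ), (∑ i, (q i - e i)) ≤ t → (∀ i, e i < q i) → ∀ a ∈ 𝒜 (N - ∑ i, (e i : ℤ) * deg i),
      (∏ i, f i ^ e i) * a ∈ 𝒜 d * 𝒜 (N - d) := by
    intro t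
    induction t with
    | zero =>
      intro e he hlt a ha
      rcases Nat.eq_zero_or_pos p with rfl | hp
      · simp only [Finset.univ_eq_empty, Finset.sum_empty, sub_zero, Finset.prod_empty, one_mul] at ha ⊢
        simp only [Finset.univ_eq_empty, Finset.sum_empty, Nat.cast_zero, mul_zero, sub_zero] at hN
        obtain ⟨g, -, rfl⟩ := split N hN a ha
        simp
      · have := Finset.single_le_sum (f := fun i => q i - e i) (fun _ _ => Nat.zero_le _) (Finset.mem_univ ⟨0, hp⟩)
        have := hlt ⟨0, hp⟩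
        omega
    | succ t ih =>
      intro e he hlt a ha
      have hM : 0 < N - ∑ i, (e i : ℤ) * deg i := by
        have : ∑ i, (e i : ℤ) * deg i ≤ ∑ i, (d - deg i) := Finset.sum_le_sum fun i _ => by
          rw [← hq i]
          have := hlt i
          have := hdeg i
          nlinarith [show (e i : ℤ) + 1 ≤ q i by omega]
        rw [Finset.sum_sub_distrib, Finset.sum_const, Finset.card_univ, Fintype.card_fin, nsmul_eq_mul, mul_comm] at this
        linarith
      obtain ⟨g, hg, rfl⟩ := split _ hM a ha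
      rw [Finset.mul_sum]
      refine Submodule.sum_mem _ fun i _ => ?_
      let e' := Function.update e i (e i + 1)
      have hprod : (∏ l, f l ^ e l) * (f i * g i) = (∏ l, f l ^ e' l) * g i := by
        rw [← mul_assoc, ← Finset.mul_prod_erase _ _ (Finset.mem_univ i), ← Finset.mul_prod_erase _ (fun l => f l ^ e' l) (Finset.mem_univ i)]
        rw [Finset.prod_congr rfl fun l hl => show f l ^ e' l = f l ^ e l by simp [e', (Finset.mem_erase.1 hl).1]]
        simp [e', pow_succ]; ring
      have hsum : ∑ l, (e' l : ℤ) * deg l = (∑ l, (e l : ℤ) * deg l) + deg i := by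
        rw [← Finset.add_sum_erase _ _ (Finset.mem_univ i), ← Finset.add_sum_erase _ (fun l => (e l : ℤ) * deg l) (Finset.mem_univ i)]
        rw [Finset.sum_congr rfl fun l hl => show (e' l : ℤ) * deg l = e l * deg l by simp [e', (Finset.mem_erase.1 hl).1]]
        simp [e']; ring
      rw [hprod]
      by_cases hfull : e i + 1 < q i
      · refine ih e' ?_ (fun l => ?_) _ ?_
        · have hlt' : ∑ l, (q l - e' l) < ∑ l, (q l - e l) := Finset.sum_lt_sum (fun l _ => by
            by_cases hl : l = i <;> simp [e', hl]; omega) ⟨i, Finset.mem_univ i, by simp [e']; omega⟩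
          omega
        · by_cases hl : l = i
          · subst hl; simpa [e'] using hfull
          · simpa [e', hl] using hlt l
        · rw [hsum, ← sub_sub]; exact hg i
      · have hqi : e' i = q i := by have := hlt i; simp [e']; omega
        rw [← Finset.mul_prod_erase _ _ (Finset.mem_univ i), mul_assoc, hqi]
        refine Submodule.mul_mem_mul ?_ ?_
        · have := SetLike.pow_mem_graded (A := 𝒜) (q i) (hf i)
          rwa [nsmul_eq_mul, hq] at this
        · have h1 : ∏ l ∈ Finset.univ.erase i, f l ^ e' l ∈ 𝒜 (∑ l ∈ Finset.univ.erase i, (e' l : ℤ) * deg l) :=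
            SetLike.prod_mem_graded 𝒜 _ _ fun l _ => by
              have := SetLike.pow_mem_graded (A := 𝒜) (e' l) (hf l)
              rwa [nsmul_eq_mul] at this
          have := SetLike.mul_mem_graded h1 (hg i)
          rw [← Finset.add_sum_erase _ _ (Finset.mem_univ i), hqi, hq] at hsum
          rwa [show ∑ l ∈ Finset.univ.erase i, (e' l : ℤ) * deg l + (N - ∑ l, (e l : ℤ) * deg l - deg i) = N - d by linarith] at this
  refine le_antisymm (fun a ha => ?_) (Submodule.mul_le.2 fun a ha b hb => ?_)
  · simpa using main (∑ i, q i) (fun _ => 0) (by simp) (fun i => hq1 i) a (by simpa using ha)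
  · have := SetLike.mul_mem_graded ha hb
    rwa [add_sub_cancel] at this

end Groth.Agent.S13663
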