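import Groth.Statements.S1368
import Groth.Agent.GenFibNearLib.AssScheme

set_option autoImplicit false
universe u
open FlatMor

namespace Groth.Agent.S1368

open AlgebraicGeometry CategoryTheory Limits in
/-- Let f be of finite type with irreducible target, F a quasi-coherent module of finite type on the
source and U an open of the source. If the associated points of F restricted to the generic fibre
all lie in U, then over some nonempty open of the target the associated points of F restricted to
every fibre lie in U. -/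
theorem result {X Y : Scheme.{u}} (f : X ⟶ Y) [IrreducibleSpace ↑Y] [LocallyOfFiniteType f] [QuasiCompact f]
    (F : X.Modules) (hF : Coh.IsCoh F) (U : X.Opens)
    (h : ∀ x ∈ MoreMor.relAss f F, f x = genericPoint ↑Y → x ∈ U) :
    ∃ V : Y.Opens, (V : Set ↑Y).Nonempty ∧ ∀ x ∈ MoreMor.relAss f F, f x ∈ V → x ∈ U := by
  haveI : Coh.IsQCoh F := hF.1
  obtain ⟨V, hV, hP⟩ := GenFibNearLib.exists_open_of_charts f (fun x => x ∈ MoreMor.relAss f F → x ∈ U)
    fun W hW V hV e hη => by
      letI := GenFibNearLib.chartAlg f e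
      letI := GenFibNearLib.chartMod f F e
      haveI := GenFibNearLib.chartTower f F e
      haveI : Algebra.FiniteType Γ(Y, W) Γ(X, V) :=
        RingHom.finiteType_algebraMap.1 (f.finiteType_appLE hW hV e)
      haveI : Module.Finite Γ(X, V) Γ(F, V) := QCohLib.finite_of_isFT hF.2 hV
      obtain ⟨I, hI⟩ := GenFibNearLib.exists_ideal_compl hW hV U
      obtain ⟨r, hr, hF'⟩ := GenFibNearLib.exists_near (M := Γ(F, V))
        (GenFibNearLib.nilradical_isPrime W hW hη) I fun m hm => by
          rw [GenFibNearLib.nilradical_eq W hW hη] at hm ⊢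
          by_contra hne
          obtain ⟨x, hx, hfx, hxU⟩ :=
            GenFibNearLib.exists_relAss_of_zeroAt f F hW hV e hI (hW.primeIdealOf ⟨_, hη⟩) m hne hm
          exact hxU (h x hx (hfx.trans (hW.fromSpec_primeIdealOf _)))
      refine ⟨r, hr, fun Q hQ hx => ?_⟩
      by_contra hxU
      have hxV := AssPointLib.fromSpec_mem hV Q
      have hpQ : (hV.primeIdealOf ⟨_, hxV⟩) = Q := AssPointLib.primeIdealOf_fromSpec hV Q
      have hIQ : I ≤ Q.asIdeal := (hI Q).1 hxU
      haveI := (hW.primeIdealOf ⟨f (hV.fromSpec Q), e hxV⟩).2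
      obtain ⟨G, hGI, hG⟩ := GenFibNearLib.exists_finset_gen (M := Γ(F, V))
        (hW.primeIdealOf ⟨f (hV.fromSpec Q), e hxV⟩).asIdeal I
      obtain ⟨m, hm, hGm⟩ := GenFibNearLib.exists_annAt_of_mem_relAss f F hW hV e hxV
        (G := G) (fun g hg => by rw [hpQ]; exact hIQ (hGI hg)) hx
      refine hm (hF' _ inferInstance (fun hmem => hQ ?_) m (hG m hGm))
      rw [← GenFibNearLib.comap_primeIdealOf' f hW hV e hxV, Ideal.mem_comap, hpQ] at hmem
      exact hmem
  exact ⟨V, ⟨_, hV⟩, fun x hx hfx => hP x hfx hx⟩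

end Groth.Agent.S1368
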