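import Groth.Statements.S13682
import Mathlib.LinearAlgebra.Multilinear.Basic
import Mathlib.Algebra.BigOperators.Fin
import Mathlib.Algebra.BigOperators.Pi
import Mathlib.Algebra.Module.BigOperators
import Mathlib.Tactic.LinearCombination
import Mathlib.Tactic.Ring
import Mathlib.Algebra.Ring.NonZeroDivisors
import Mathlib.Algebra.BigOperators.Intervals
-- import your own Groth.Agent.* helpers here

set_option autoImplicit false
universe u v w
open scoped BigOperators
open BTGrp

namespace Groth.Agent.S13682

/-- Let A be a commutative ring, α ∈ A a non-zero-divisor, M_1, …, M_r and N modules over A and φ : M_1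
× ⋯ × M_r → N an A-multilinear map. Let n be a natural number and let y_{i,j} (j < n) and w_{i,j} (j
≤ n) be elements of M_i with w_{i,j+1} = w_{i,j} + α y_{i,j} for all i and all j < n. Then Σ_i
Σ_{j<n} φ(w_{1,j+1}, …, w_{i-1,j+1}, y_{i,j}, w_{i+1,j}, …, w_{r,j}) = Σ_i Σ_{j<n} φ(w_{1,n}, …,
w_{i-1,n}, y_{i,j}, w_{i+1,0}, …, w_{r,0}). (The published statement takes n ≥ 1; for n = 0 both
sides are empty sums. The families y, w are indexed by all natural numbers here and only the indices
named above enter.) -/
theorem result {A : Type u} [CommRing A] (α : A) (hα : α ∈ nonZeroDivisors A)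
    {r : ℕ} (M : Fin r → Type v) (N : Type w) [∀ i, AddCommGroup (M i)] [∀ i, Module A (M i)]
    [AddCommGroup N] [Module A N] (φ : MultilinearMap A M N) (n : ℕ)
    (y w : ∀ i, ℕ → M i) (hw : ∀ i, ∀ j < n, w i (j + 1) = w i j + α • y i j) :
    (∑ i : Fin r, ∑ j ∈ Finset.range n,
        φ (fun k => if k < i then w k (j + 1) else if k = i then y k j else w k j)) =
      ∑ i : Fin r, ∑ j ∈ Finset.range n,
        φ (fun k => if k < i then w k n else if k = i then y k j else w k 0) := by
  classical
  -- the scalar identity
  have scal : ∀ (u z : Fin r → ℕ → A), (∀ i, ∀ j < n, u i (j + 1) = u i j + α * z i j) →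
      (∑ i : Fin r, ∑ j ∈ Finset.range n,
          ∏ k, (if k < i then u k (j + 1) else if k = i then z k j else u k j)) =
      ∑ i : Fin r, ∑ j ∈ Finset.range n,
          ∏ k, (if k < i then u k n else if k = i then z k j else u k 0) := by
    intro u z hu
    let P : (Fin r → A) → (Fin r → A) → ℕ → A := fun a b i => ∏ k : Fin r, if (k : ℕ) < i then a k else b k
    have step : ∀ (a b : Fin r → A) (i : Fin r) (t : A), α * t = a i - b i →
        α * ∏ k, (if k < i then a k else if k = i then t else b k) = P a b (i + 1) - P a b i := by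
      intro a b i t ht
      simp only [P]
      rw [← Finset.mul_prod_erase _ _ (Finset.mem_univ i),
        ← Finset.mul_prod_erase _ _ (Finset.mem_univ i),
        ← Finset.mul_prod_erase _ _ (Finset.mem_univ i)]
      simp only [lt_irrefl, if_false, if_true, Nat.lt_succ_self]
      have e1 : ∀ k ∈ Finset.univ.erase i, (if k < i then a k else if k = i then t else b k) =
          (if (k : ℕ) < i then a k else b k) := fun k hk => by
        simp [(Finset.mem_erase.mp hk).1]
      have e2 : ∀ k ∈ Finset.univ.erase i, (if (k : ℕ) < i + 1 then a k else b k) =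
          (if (k : ℕ) < i then a k else b k) := fun k hk => by
        have : (k : ℕ) ≠ i := Fin.val_ne_of_ne (Finset.mem_erase.mp hk).1
        by_cases h' : (k : ℕ) < i
        · rw [if_pos h', if_pos (by omega)]
        · rw [if_neg h', if_neg (by omega)]
      rw [Finset.prod_congr rfl e1, Finset.prod_congr rfl e2]
      linear_combination (∏ k ∈ Finset.univ.erase i, if (k : ℕ) < i then a k else b k) * ht
    have tel : ∀ (a b : Fin r → A) (t : Fin r → A), (∀ i, α * t i = a i - b i) →
        α * ∑ i, ∏ k, (if k < i then a k else if k = i then t k else b k) = (∏ k, a k) - ∏ k, b k := by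
      intro a b t ht
      rw [Finset.mul_sum]
      have : ∀ i : Fin r, α * ∏ k, (if k < i then a k else if k = i then t k else b k) =
          P a b (i + 1) - P a b i := fun i => by
        rw [← step a b i (t i) (ht i)]
        congr 1
        refine Finset.prod_congr rfl fun k _ => ?_
        split_ifs with h1 h2 <;> simp_all
      rw [Finset.sum_congr rfl fun i _ => this i, Fin.sum_univ_eq_sum_range (fun i => P a b (i + 1) - P a b i) r,
        Finset.sum_range_sub (P a b) r]
      simp [P]
    apply (isRegular_iff_mem_nonZeroDivisors.mpr hα).left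
    beta_reduce
    rw [Finset.sum_comm, Finset.mul_sum]
    rw [Finset.sum_congr rfl fun j hj => tel (fun k => u k (j + 1)) (fun k => u k j) (fun k => z k j)
      (fun i => by rw [hu i j (Finset.mem_range.mp hj)]; ring)]
    rw [Finset.sum_range_sub (fun j => ∏ k, u k j) n]
    have hz : ∀ i, α * ∑ j ∈ Finset.range n, z i j = u i n - u i 0 := fun i => by
      rw [Finset.mul_sum, ← Finset.sum_range_sub (u i) n]
      exact Finset.sum_congr rfl fun j hj => by rw [hu i j (Finset.mem_range.mp hj)]; ring
    rw [← tel (fun k => u k n) (fun k => u k 0) (fun k => ∑ j ∈ Finset.range n, z k j) hz]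
    congr 1
    refine Finset.sum_congr rfl fun i _ => ?_
    rw [← Finset.mul_prod_erase _ _ (Finset.mem_univ i)]
    simp only [lt_irrefl, if_false, if_true, Finset.sum_mul]
    refine Finset.sum_congr rfl fun j _ => ?_
    rw [← Finset.mul_prod_erase _ _ (Finset.mem_univ i)]
    simp only [lt_irrefl, if_false, if_true]
    congr 1
    exact Finset.prod_congr rfl fun k hk => by simp [(Finset.mem_erase.mp hk).1]
  -- reduction to the free case: coordinates `0` for `w 0` and `j + 1` for `y j`
  let g : ∀ i, Fin (n + 1) → M i := fun i => Fin.cons (w i 0) (fun j : Fin n => y i j)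
  let cw : ℕ → Fin (n + 1) → A := fun j => Fin.cons 1 (fun l : Fin n => if (l : ℕ) < j then α else 0)
  let cy : ℕ → Fin (n + 1) → A := fun j => Fin.cons 0 (fun l : Fin n => if (l : ℕ) = j then 1 else 0)
  have hcy : ∀ i, ∀ j < n, ∑ l, cy j l • g i l = y i j := fun i j hj => by
    simp only [Fin.sum_univ_succ, g, cy, Fin.cons_zero, Fin.cons_succ, zero_smul, zero_add]
    rw [Finset.sum_eq_single ⟨j, hj⟩ (fun b _ hb => by simp [Fin.val_ne_of_ne hb]) (by simp)]
    simp
  have hcw' : ∀ j < n, ∀ l, cw (j + 1) l = cw j l + α * cy j l := fun j hj l => by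
    refine Fin.cases ?_ (fun b => ?_) l
    · simp [cw, cy]
    · simp only [cw, cy, Fin.cons_succ]
      rcases lt_trichotomy (b : ℕ) j with h' | h' | h'
      · rw [if_pos (by omega), if_pos h', if_neg (by omega)]; simp
      · rw [if_pos (by omega), if_neg (by omega), if_pos h']; simp
      · rw [if_neg (by omega), if_neg (by omega), if_neg (by omega)]; simp
  have hcw : ∀ i, ∀ j ≤ n, ∑ l, cw j l • g i l = w i j := fun i j hj => by
    induction j with
    | zero => simp [cw, g, Fin.sum_univ_succ]
    | succ j ih =>
      rw [hw i j (by omega), ← ih (by omega), ← hcy i j (by omega), Finset.smul_sum,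
        ← Finset.sum_add_distrib]
      exact Finset.sum_congr rfl fun l _ => by rw [hcw' j (by omega) l, add_smul, mul_smul]
  have hφ : ∀ v : Fin r → Fin (n + 1) → A, φ (fun i => ∑ l, v i l • g i l) =
      ∑ s : Fin r → Fin (n + 1), (∏ i, v i (s i)) • φ (fun i => g i (s i)) := fun v => by
    rw [φ.map_sum]
    exact Finset.sum_congr rfl fun s _ => φ.map_smul_univ _ _
  have hterm : ∀ (i : Fin r) (j : ℕ), j < n → ∀ p q : ℕ, p ≤ n → q ≤ n →
      φ (fun k => if k < i then w k p else if k = i then y k j else w k q) =
      ∑ s : Fin r → Fin (n + 1), (∏ k, (if k < i then cw p (s k) else if k = i then cy j (s k) else cw q (s k))) •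
        φ (fun k => g k (s k)) := by
    intro i j hj p q hp hq
    have := hφ (fun k => if k < i then cw p else if k = i then cy j else cw q)
    convert this using 2
    · funext k
      split_ifs <;> first | exact (hcw k p hp).symm | exact (hcy k j hj).symm | exact (hcw k q hq).symm
    · congr 1
      refine Finset.prod_congr rfl fun k _ => ?_
      split_ifs <;> rfl
  rw [Finset.sum_congr rfl fun i _ => Finset.sum_congr rfl fun j hj =>
      hterm i j (Finset.mem_range.mp hj) (j + 1) j (Finset.mem_range.mp hj) (Finset.mem_range.mp hj).le,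
    Finset.sum_congr rfl fun i _ => Finset.sum_congr rfl fun j hj =>
      hterm i j (Finset.mem_range.mp hj) n 0 le_rfl (Nat.zero_le n)]
  conv_lhs => enter [2, i]; rw [Finset.sum_comm]
  conv_rhs => enter [2, i]; rw [Finset.sum_comm]
  rw [Finset.sum_comm]
  conv_rhs => rw [Finset.sum_comm]
  refine Finset.sum_congr rfl fun s _ => ?_
  simp only [← Finset.sum_smul]
  rw [scal (fun k j => cw j (s k)) (fun k j => cy j (s k)) (fun k j hj => hcw' j hj (s k))]

end Groth.Agent.S13682
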