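import Groth.Statements.S1369
import Groth.Agent.GenFibNearLib.AssScheme

set_option autoImplicit false
universe u
open FlatMor

namespace Groth.Agent.S1369

open AlgebraicGeometry CategoryTheory Limits in
/-- Let f be of finite type with irreducible target, F a quasi-coherent module of finite type on the
source and U an open of the source. If some associated point of F restricted to the generic fibre is
not in U, then over some nonempty open of the target every fibre carries an associated point of F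
(restricted to that fibre) outside U. -/
theorem result {X Y : Scheme.{u}} (f : X ⟶ Y) [IrreducibleSpace ↑Y] [LocallyOfFiniteType f] [QuasiCompact f]
    (F : X.Modules) (hF : Coh.IsCoh F) (U : X.Opens)
    (h : ∃ x ∈ MoreMor.relAss f F, f x = genericPoint ↑Y ∧ x ∉ U) :
    ∃ V : Y.Opens, (V : Set ↑Y).Nonempty ∧ ∀ y ∈ V, ∃ x ∈ MoreMor.relAss f F, f x = y ∧ x ∉ U := by
  haveI : Coh.IsQCoh F := hF.1
  obtain ⟨x, hx, hfx, hxU⟩ := h
  obtain ⟨W, hW, hη, -⟩ := exists_isAffineOpen_mem_and_subset (x := genericPoint ↑Y) (U := ⊤) trivial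
  obtain ⟨V, hV, hxV, e⟩ := exists_isAffineOpen_mem_and_subset (x := x) (U := f ⁻¹ᵁ W) (show f x ∈ W from hfx ▸ hη)
  letI := GenFibNearLib.chartAlg f e
  letI := GenFibNearLib.chartMod f F e
  haveI := GenFibNearLib.chartTower f F e
  haveI : Algebra.FiniteType Γ(Y, W) Γ(X, V) := RingHom.finiteType_algebraMap.1 (f.finiteType_appLE hW hV e)
  haveI : Module.Finite Γ(X, V) Γ(F, V) := QCohLib.finite_of_isFT hF.2 hV
  obtain ⟨I, hI⟩ := GenFibNearLib.exists_ideal_compl hW hV U
  have hIQ : I ≤ (hV.primeIdealOf ⟨x, hxV⟩).asIdeal := (hI _).1 (by rw [hV.fromSpec_primeIdealOf]; exact hxU)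
  haveI := (hW.primeIdealOf ⟨f x, e hxV⟩).2
  obtain ⟨G, hGI, hG⟩ := GenFibNearLib.exists_finset_gen (M := Γ(F, V)) (hW.primeIdealOf ⟨f x, e hxV⟩).asIdeal I
  obtain ⟨m, hm, hGm⟩ := GenFibNearLib.exists_annAt_of_mem_relAss f F hW hV e hxV (G := G)
    (fun g hg => hIQ (hGI hg)) hx
  have hpn : (hW.primeIdealOf ⟨f x, e hxV⟩).asIdeal = nilradical Γ(Y, W) := by
    rw [GenFibNearLib.nilradical_eq W hW hη]
    congr 3
  have hIm := hG m hGm
  rw [hpn] at hm hIm
  obtain ⟨r, hr, hF'⟩ := GenFibNearLib.exists_not_near (M := Γ(F, V)) (GenFibNearLib.nilradical_isPrime W hW hη)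
    I m hm hIm
  refine ⟨Y.basicOpen r, ⟨_, GenFibNearLib.generic_mem_basicOpen hW hη hr⟩, fun y hy => ?_⟩
  have hyW : y ∈ W := Y.basicOpen_le _ hy
  have hrp : r ∉ (hW.primeIdealOf ⟨y, hyW⟩).asIdeal := (AssPointLib.mem_basicOpen_iff hW hyW r).1 hy
  obtain ⟨h1, h2⟩ := hF' _ (hW.primeIdealOf ⟨y, hyW⟩).2 hrp
  obtain ⟨z, hz, hfz, hzU⟩ := GenFibNearLib.exists_relAss_of_zeroAt f F hW hV e hI _ m h1 h2
  exact ⟨z, hz, hfz.trans (hW.fromSpec_primeIdealOf _), hzU⟩

end Groth.Agent.S1369
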