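import Groth.Statements.S13697
import Groth.Agent.ZCLib.Fibre
import Mathlib.FieldTheory.SeparableDegree

set_option autoImplicit false
universe u
open scoped TensorProduct
open ZeroCyc

namespace Groth.Agent.S13697

/-- Let F : B → A be a multiplicative polynomial law homogeneous of degree d over the commutative ring
A, and let A' be any commutative A-algebra. The kernel of the base change of F to A' (an ideal of A'
⊗_A B) and the extension to A' ⊗_A B of the kernel of F have the same radical. In other words the
support (reduced image) of a family of zero-cycles of degree d on Spec B over Spec A commutes with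
every base change Spec A' → Spec A. (The published statement is for X affine over an algebraic space
S; this row is the case of an affine base, to which the general case reduces.) -/
theorem result {A : Type u} [CommRing A] {B : Type u} [CommRing B] [Algebra A B]
    {d : ℕ} (F : PolLaw.MulLaw A B A d) (A' : Type u) [CommRing A'] [Algebra A A'] :
    (PolLaw.kerBC F.law A').radical =
      ((PolLaw.ker F.law).map (Algebra.TensorProduct.includeRight : B →ₐ[A] A' ⊗[A] B)).radical := by
  refine le_antisymm (Ideal.radical_le_radical_iff.2 fun z hz => ?_)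
    (Ideal.radical_mono (ZCLib.map_ker_le_kerBC F A'))
  rw [Ideal.radical_eq_sInf, Submodule.mem_sInf]
  intro (Q : Ideal _) hQ'
  obtain ⟨hQ, hQp⟩ := hQ'
  haveI := hQp
  obtain ⟨g, hg⟩ := ZCLib.exists_points F (AlgebraicClosure Q.ResidueField)
  let χ : A' ⊗[A] B →ₐ[A] AlgebraicClosure Q.ResidueField :=
    (IsScalarTower.toAlgHom A Q.ResidueField (AlgebraicClosure Q.ResidueField)).comp
      (IsScalarTower.toAlgHom A (A' ⊗[A] B) Q.ResidueField)
  have hχ : ∀ x, χ x = 0 ↔ x ∈ Q := fun x => by
    show algebraMap Q.ResidueField (AlgebraicClosure Q.ResidueField) (algebraMap _ Q.ResidueField x) = 0 ↔ _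
    rw [map_eq_zero, Ideal.algebraMap_residueField_eq_zero]
  obtain ⟨i, hi⟩ := hg.exists_eq (χ.comp Algebra.TensorProduct.includeRight) fun b hb =>
    (hχ _).2 (hQ (Ideal.mem_map_of_mem _ hb))
  have h := hg.kills_kerBC (χ.comp Algebra.TensorProduct.includeLeft) hz i
  rw [← hχ]
  refine Eq.trans ?_ h
  congr 1
  refine Algebra.TensorProduct.ext ?_ ?_
  · ext; simp
  · rw [hi]; ext; simp

end Groth.Agent.S13697
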