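import Groth.Statements.S13702
import Mathlib


-- import your own Groth.Agent.* helpers here

set_option autoImplicit false
universe u
open ZeroCyc

namespace Groth.Agent.S13702

/-- Let A be a local ring with residue field of characteristic p > 0, let g ∈ A[X] be monic and
separable of degree n, so that A' = A[X]/(g) is an étale A-algebra, and let q = p^s with s ≥ 0. Then
the powers 1, t^q, t^{2q}, …, t^{(n-1)q} of the class t of X form a basis of A' as an A-module. -/
theorem result {A : Type u} [CommRing A] [IsLocalRing A] (p : ℕ) [Fact p.Prime]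
    [CharP (IsLocalRing.ResidueField A) p] (g : Polynomial A) (hg : g.Monic) (hsep : g.Separable) (s : ℕ) :
    ∃ b : Module.Basis (Fin g.natDegree) A (AdjoinRoot g),
      ∀ i : Fin g.natDegree, b i = AdjoinRoot.root g ^ (p ^ s * (i : ℕ)) := by
  classical
  let m := IsLocalRing.maximalIdeal A
  let κ := IsLocalRing.ResidueField A
  let t := AdjoinRoot.root g
  let q := p ^ s
  let n := g.natDegree
  haveI : Module.Free A (AdjoinRoot g) := hg.free_adjoinRoot
  haveI : Module.Finite A (AdjoinRoot g) := hg.finite_adjoinRoot
  let v : Fin n → AdjoinRoot g := fun i => t ^ (q * (i : ℕ))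
  let gb := g.map (IsLocalRing.residue A)
  have hgb : gb.Monic := hg.map _
  have hdeg : gb.natDegree = n := hg.natDegree_map _
  haveI : Fact (0 < p) := ⟨Fact.out (p := p.Prime).pos⟩
  -- linear independence of the powers modulo the maximal ideal
  let v' : Fin n → AdjoinRoot gb := fun i => AdjoinRoot.root gb ^ (q * (i : ℕ))
  have hli : LinearIndependent κ v' := by
    rw [Fintype.linearIndependent_iff]
    intro c hc i
    let P : Polynomial κ := ∑ j : Fin n, Polynomial.C (c j) * Polynomial.X ^ (j : ℕ)
    let K := AlgebraicClosure κ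
    haveI : CharP K p := charP_of_injective_algebraMap (algebraMap κ K).injective p
    have hsep' : gb.Separable := hsep.map
    let roots := (gb.map (algebraMap κ K)).roots.toFinset
    have hcard : roots.card = n := by
      rw [Multiset.toFinset_card_of_nodup (Polynomial.nodup_roots hsep'.map),
        IsAlgClosed.card_roots_eq_natDegree, Polynomial.natDegree_map, hdeg]
    have hP : P.map (algebraMap κ K) = 0 := by
      refine Polynomial.eq_zero_of_natDegree_lt_card_of_eval_eq_zero' _ (roots.image (· ^ q)) ?_ ?_
      · intro y hy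
        obtain ⟨r, hr, rfl⟩ := Finset.mem_image.mp hy
        have hr' : gb.aeval r = 0 := by
          have := Multiset.mem_toFinset.mp hr
          rw [Polynomial.mem_roots', Polynomial.IsRoot, Polynomial.eval_map] at this
          exact this.2
        let φ := AdjoinRoot.liftAlgHom gb (Algebra.ofId κ K) r hr'
        have h := congrArg φ hc
        rw [map_sum, map_zero] at h
        rw [← h, Polynomial.eval_map]
        simp only [P, Polynomial.eval₂_finsetSum, Polynomial.eval₂_mul, Polynomial.eval₂_C, Polynomial.eval₂_X_pow]
        refine Finset.sum_congr rfl fun j _ => ?_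
        rw [map_smul, map_pow, AdjoinRoot.liftAlgHom_root, Algebra.smul_def, ← pow_mul]
      · rw [Finset.card_image_of_injective _ (fun a b h => iterateFrobenius_inj K p s (by simpa [iterateFrobenius_def] using h)), hcard]
        refine lt_of_le_of_lt (b := n - 1) ((Polynomial.natDegree_map_le).trans ?_) (by have := i.2; omega)
        refine Polynomial.natDegree_sum_le_of_forall_le _ _ fun j _ => (Polynomial.natDegree_C_mul_X_pow_le _ _).trans ?_
        have := j.2; omega
    have hP0 : P = 0 := (Polynomial.map_eq_zero _).mp hP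
    have := congrArg (fun Q : Polynomial κ => Q.coeff i) hP0
    simpa [P, Polynomial.finsetSum_coeff, Polynomial.coeff_C_mul_X_pow, Fin.val_inj] using this
  have hfr : Module.finrank κ (AdjoinRoot gb) = n := by
    rw [(AdjoinRoot.powerBasis hgb.ne_zero).finrank, AdjoinRoot.powerBasis_dim, hdeg]
  haveI : Module.Finite κ (AdjoinRoot gb) := hgb.finite_adjoinRoot
  have hspan' : Submodule.span κ (Set.range v') = ⊤ :=
    hli.span_eq_top_of_card_eq_finrank' (by rw [Fintype.card_fin, hfr])
  -- lift by Nakayama
  have htop : Submodule.span A (Set.range v) = ⊤ := by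
    let π : AdjoinRoot g →ₐ[A] AdjoinRoot gb :=
      AdjoinRoot.liftAlgHom g (Algebra.ofId A (AdjoinRoot gb)) (AdjoinRoot.root gb) (by
        rw [← AdjoinRoot.eval₂_root gb, Polynomial.eval₂_map]; rfl)
    have hπv : ∀ i, π (v i) = v' i := fun i => by simp [π, v, v', t, map_pow, AdjoinRoot.liftAlgHom_root]
    have hker : ∀ x, π x = 0 → x ∈ m • (⊤ : Submodule A (AdjoinRoot g)) := by
      intro x hx
      obtain ⟨P, rfl⟩ := AdjoinRoot.mk_surjective x
      have hgen : ∀ R : Polynomial A, π (AdjoinRoot.mk g R) = AdjoinRoot.mk gb (R.map (IsLocalRing.residue A)) := by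
        intro R
        induction R using Polynomial.induction_on with
        | C a => simp [π]; rfl
        | add P Q hP hQ => simp only [map_add, Polynomial.map_add, hP, hQ]
        | monomial k a h => simp [π, map_pow, AdjoinRoot.liftAlgHom_root]; rfl
      have hP : gb ∣ P.map (IsLocalRing.residue A) := AdjoinRoot.mk_eq_zero.mp ((hgen P).symm.trans hx)
      obtain ⟨Q, hQ⟩ := hP
      obtain ⟨Q', rfl⟩ := Polynomial.map_surjective _ IsLocalRing.residue_surjective Q
      have hd : (P - g * Q').map (IsLocalRing.residue A) = 0 := by rw [Polynomial.map_sub, Polynomial.map_mul, hQ, sub_self]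
      rw [show AdjoinRoot.mk g P = AdjoinRoot.mk g (P - g * Q') by simp]
      rw [(P - g * Q').as_sum_range_C_mul_X_pow, map_sum]
      refine Submodule.sum_mem _ fun k _ => ?_
      rw [map_mul, map_pow, AdjoinRoot.mk_C, ← AdjoinRoot.algebraMap_eq, ← Algebra.smul_def]
      refine Submodule.smul_mem_smul (Ideal.Quotient.eq_zero_iff_mem.mp ?_) trivial
      have := congrArg (fun R : Polynomial κ => R.coeff k) hd
      show IsLocalRing.residue A ((P - g * Q').coeff k) = 0
      rw [Polynomial.coeff_map] at this
      simpa using this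
    refine le_antisymm le_top (Submodule.le_of_le_smul_of_le_jacobson_bot Module.Finite.fg_top
      (IsLocalRing.maximalIdeal_le_jacobson ⊥) fun x _ => ?_)
    have hx : π x ∈ Submodule.span κ (Set.range v') := hspan' ▸ Submodule.mem_top
    obtain ⟨c, hc⟩ := (Submodule.mem_span_range_iff_exists_fun κ).mp hx
    choose c' hc' using fun i => IsLocalRing.residue_surjective (c i)
    refine Submodule.mem_sup.mpr ⟨∑ i, c' i • v i, Submodule.sum_mem _ fun i _ =>
      Submodule.smul_mem _ _ (Submodule.subset_span ⟨i, rfl⟩), x - ∑ i, c' i • v i, hker _ ?_, add_sub_cancel _ _⟩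
    rw [map_sub, map_sum, sub_eq_zero, ← hc]
    refine Finset.sum_congr rfl fun i _ => ?_
    rw [map_smul, hπv, ← hc' i, ← IsLocalRing.ResidueField.algebraMap_eq, algebraMap_smul]
  have hrank : Module.finrank A (AdjoinRoot g) = Fintype.card (Fin n) := by
    rw [(AdjoinRoot.powerBasis' hg).finrank, AdjoinRoot.powerBasis'_dim, Fintype.card_fin]
  exact ⟨basisOfTopLeSpanOfCardEqFinrank v htop.ge hrank.symm, fun i => by
    rw [coe_basisOfTopLeSpanOfCardEqFinrank]⟩

end Groth.Agent.S13702
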