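import Groth.Statements.S13703
import Groth.Agent.ZCLib.Open

set_option autoImplicit false
universe u
open scoped TensorProduct
open ZeroCyc

namespace Groth.Agent.S13703

/-- Let A be an integral domain, B a commutative A-algebra and F : B → A a multiplicative polynomial law
homogeneous of degree d. For every prime ideal P of B minimal among those containing the kernel of
F, the contraction of P to A is zero and every prime of A is the contraction of a prime of B
containing P. Geometrically: every irreducible component of the support of the family of zero-cycles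
on Spec B defined by F maps onto Spec A. (The published statement is over an arbitrary algebraic
space S, every irreducible component of the support mapping onto an irreducible component of S, and
its proof reduces to an integral affine base; this row is that case.) -/
theorem result {A : Type u} [CommRing A] [IsDomain A] {B : Type u} [CommRing B] [Algebra A B]
    {d : ℕ} (F : PolLaw.MulLaw A B A d) {P : Ideal B} (hP : P ∈ (PolLaw.ker F.law).minimalPrimes) :
    P.comap (algebraMap A B) = ⊥ ∧
      ∀ q : Ideal A, q.IsPrime → ∃ Q : Ideal B, Q.IsPrime ∧ P ≤ Q ∧ Q.comap (algebraMap A B) = q := by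
  haveI := ZCLib.isIntegral_image F
  haveI hPp := hP.1.1
  have hker : PolLaw.ker F.law ≤ P := hP.1.2
  haveI : (P.map (Ideal.Quotient.mk (PolLaw.ker F.law))).IsPrime :=
    Ideal.map_isPrime_of_surjective Ideal.Quotient.mk_surjective (by rwa [Ideal.mk_ker])
  set P' : Ideal (PolLaw.image F.law) := P.map (Ideal.Quotient.mk (PolLaw.ker F.law)) with hP'
  have hcomap : P'.comap (Ideal.Quotient.mk (PolLaw.ker F.law)) = P := by
    rw [hP', Ideal.comap_map_of_surjective _ Ideal.Quotient.mk_surjective, ← RingHom.ker_eq_comap_bot,
      Ideal.mk_ker, sup_eq_left.2 hker]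
  have halg : ∀ Q : Ideal (PolLaw.image F.law),
      (Q.comap (Ideal.Quotient.mk (PolLaw.ker F.law))).comap (algebraMap A B) =
        Q.comap (algebraMap A (PolLaw.image F.law)) := fun Q => by
    rw [Ideal.comap_comap]; rfl
  have hbot : P'.comap (algebraMap A (PolLaw.image F.law)) = ⊥ := by
    have hy : (⟨⊥, Ideal.isPrime_bot⟩ : PrimeSpectrum A) ⤳ PrimeSpectrum.comap
        (algebraMap A (PolLaw.image F.law)) (⟨P', inferInstance⟩ : PrimeSpectrum (PolLaw.image F.law)) :=
      (PrimeSpectrum.le_iff_specializes _ _).1 (show (⊥ : Ideal A) ≤ _ from bot_le)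
    obtain ⟨p, hp, hpy⟩ := ZCLib.generalizingMap_comap_self F hy
    have hle : p.asIdeal ≤ P' := (PrimeSpectrum.le_iff_specializes p ⟨P', inferInstance⟩).2 hp
    haveI := p.isPrime
    have h2 : P ≤ p.asIdeal.comap (Ideal.Quotient.mk (PolLaw.ker F.law)) := by
      refine hP.2 ⟨inferInstance, fun b hb => ?_⟩ ((Ideal.comap_mono hle).trans hcomap.le)
      rw [Ideal.mem_comap, Ideal.Quotient.eq_zero_iff_mem.2 hb]
      exact zero_mem _
    have h3 : P' = p.asIdeal := le_antisymm
      (by rw [hP', Ideal.map_le_iff_le_comap]; exact h2) hle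
    have h4 := congrArg PrimeSpectrum.asIdeal hpy
    rw [h3]
    exact h4
  refine ⟨by rw [← hcomap, halg]; exact hbot, fun q hq => ?_⟩
  obtain ⟨Q, hPQ, hQ, hQq⟩ := Ideal.exists_ideal_over_prime_of_isIntegral q P' (by rw [hbot]; exact bot_le)
  refine ⟨Q.comap (Ideal.Quotient.mk (PolLaw.ker F.law)), Ideal.IsPrime.comap _,
    hcomap.ge.trans (Ideal.comap_mono hPQ), ?_⟩
  rw [halg]; exact hQq

end Groth.Agent.S13703
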