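import Groth.Statements.S13706
import Groth.Agent.ZCLib.Fibre
import Mathlib.FieldTheory.SeparableDegree

set_option autoImplicit false
universe u
open scoped TensorProduct
open ZeroCyc

namespace Groth.Agent.S13706

/-- Let A be a commutative ring, B an A-algebra of finite type and F : B → A a multiplicative polynomial
law homogeneous of degree d. Then there is a finitely generated ideal J of B, contained in the
kernel of F and with the same radical; thus the support of the family of zero-cycles defined by F is
carried by a bijective closed immersion into Spec(B/J), a scheme of finite presentation over A. -/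
theorem result {A : Type u} [CommRing A] {B : Type u} [CommRing B] [Algebra A B]
    [Algebra.FiniteType A B] {d : ℕ} (F : PolLaw.MulLaw A B A d) :
    ∃ J : Ideal B, J.FG ∧ J ≤ PolLaw.ker F.law ∧ J.radical = (PolLaw.ker F.law).radical := by
  classical
  obtain ⟨s, hs⟩ := (Algebra.FiniteType.out (R := A) (A := B))
  let b : Fin s.card → B := fun j => s.equivFin.symm j
  obtain ⟨c, hc⟩ := ZCLib.exists_finsupp_sum (Polynomial.aeval
    (∑ j : Fin s.card, ((Polynomial.X : Polynomial A) ^ (j : ℕ)) ⊗ₜ[A] b j)
    (ZCLib.chi F (Polynomial A) (∑ j : Fin s.card, ((Polynomial.X : Polynomial A) ^ (j : ℕ)) ⊗ₜ[A] b j)))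
  have hmem := ZCLib.aeval_chi_mem_kerBC F (Polynomial A)
    (∑ j : Fin s.card, ((Polynomial.X : Polynomial A) ^ (j : ℕ)) ⊗ₜ[A] b j)
  rw [hc, Finsupp.sum_of_support_subset c c.support.subset_range_sup_succ _
    (fun i _ => TensorProduct.tmul_zero _ _)] at hmem
  let J : Ideal B := Ideal.span ↑(c.support.image c)
  have hJ : J ≤ PolLaw.ker F.law := by
    refine Ideal.span_le.2 fun x hx => ?_
    obtain ⟨k, hk, rfl⟩ := Finset.mem_image.1 hx
    exact ZCLib.mem_ker_of_range F _ c hmem k
      (Finset.mem_range.1 (c.support.subset_range_sup_succ hk))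
  refine ⟨J, ⟨c.support.image c, rfl⟩, hJ, le_antisymm (Ideal.radical_mono hJ)
    (Ideal.radical_le_radical_iff.2 fun x hx => ?_)⟩
  rw [Ideal.radical_eq_sInf, Submodule.mem_sInf]
  intro (Q : Ideal _) hQ'
  obtain ⟨hQ, hQp⟩ := hQ'
  haveI := hQp
  obtain ⟨g, hg⟩ := ZCLib.exists_points F (AlgebraicClosure Q.ResidueField)
  let χ : B →ₐ[A] AlgebraicClosure Q.ResidueField :=
    (IsScalarTower.toAlgHom A Q.ResidueField (AlgebraicClosure Q.ResidueField)).comp
      (IsScalarTower.toAlgHom A B Q.ResidueField)
  have hχ : ∀ y, χ y = 0 ↔ y ∈ Q := fun y => by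
    show algebraMap Q.ResidueField (AlgebraicClosure Q.ResidueField) (algebraMap _ Q.ResidueField y) = 0 ↔ _
    rw [map_eq_zero, Ideal.algebraMap_residueField_eq_zero]
  obtain ⟨i, hi⟩ := hg.exists_eq_of_coeff b c hc χ fun k => by
    by_cases hk : k ∈ c.support
    · exact (hχ _).2 (hQ (Ideal.subset_span (Finset.mem_image_of_mem c hk)))
    · rw [Finsupp.notMem_support_iff.1 hk, map_zero]
  have hgi : g i = χ := AlgHom.ext_of_adjoin_eq_top hs fun y hy => by
    have := hi (s.equivFin ⟨y, hy⟩)
    simpa [b] using this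
  rw [← hχ, ← hgi]
  exact hg.kills_ker hx i

end Groth.Agent.S13706
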