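import Groth.Statements.S13707
import Groth.Agent.ZCLib.Fibre
import Mathlib.FieldTheory.SeparableDegree
import Mathlib.RingTheory.Spectrum.Prime.Topology

set_option autoImplicit false
universe u
open scoped TensorProduct
open ZeroCyc

namespace Groth.Agent.S13707

/-- Let k be a field, B a commutative k-algebra and F : B → k a multiplicative polynomial law
homogeneous of degree d. Then the spectrum of B/ker F (the image of the family of zero-cycles of
degree d on Spec B defined by F) is a finite set of at most d closed points, and the residue field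
at each of them has finite separable degree over k. -/
theorem result {k : Type u} [Field k] {B : Type u} [CommRing B] [Algebra k B]
    {d : ℕ} (F : PolLaw.MulLaw k B k d) :
    Finite (PrimeSpectrum (PolLaw.image F.law)) ∧ Nat.card (PrimeSpectrum (PolLaw.image F.law)) ≤ d ∧
      ∀ P : PrimeSpectrum (PolLaw.image F.law), P.asIdeal.IsMaximal ∧
        Finite (Field.Emb k P.asIdeal.ResidueField) := by
  obtain ⟨hfin, hcard⟩ := ZCLib.finite_fibre F k
  let e : PrimeSpectrum (k ⊗[k] PolLaw.image F.law) ≃ PrimeSpectrum (PolLaw.image F.law) :=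
    (PrimeSpectrum.homeomorphOfRingEquiv (Algebra.TensorProduct.lid k (PolLaw.image F.law)).toRingEquiv).toEquiv
  haveI := Finite.of_equiv _ e
  refine ⟨inferInstance, (Nat.card_congr e).symm.trans_le hcard, fun P => ?_⟩
  haveI := ZCLib.isIntegral_image F
  haveI := P.isPrime
  haveI : P.asIdeal.IsMaximal := Ideal.isMaximal_of_isIntegral_of_isMaximal_comap (R := k) _ (by
    have h : P.asIdeal.comap (algebraMap k (PolLaw.image F.law)) = ⊥ :=
      (Ideal.eq_bot_or_top _).resolve_right (Ideal.IsPrime.ne_top inferInstance)
    rw [h]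
    exact Ideal.bot_isMaximal)
  refine ⟨inferInstance, ?_⟩
  obtain ⟨g, hg⟩ := ZCLib.exists_points F (AlgebraicClosure P.asIdeal.ResidueField)
  let toB : Field.Emb k P.asIdeal.ResidueField → (B →ₐ[k] AlgebraicClosure P.asIdeal.ResidueField) :=
    fun σ => σ.comp ((IsScalarTower.toAlgHom k (PolLaw.image F.law) P.asIdeal.ResidueField).comp
      (Ideal.Quotient.mkₐ k (PolLaw.ker F.law)))
  choose i hi using fun σ => hg.exists_eq (toB σ) fun b hb => by
    simp [toB, Ideal.Quotient.eq_zero_iff_mem.2 hb]
  refine Finite.of_injective i fun σ τ h => AlgHom.ext fun x => ?_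
  obtain ⟨y, rfl⟩ := P.asIdeal.algebraMap_residueField_surjective x
  obtain ⟨b, rfl⟩ := Ideal.Quotient.mk_surjective y
  have hb := AlgHom.congr_fun ((hi σ).symm.trans ((congrArg g h).trans (hi τ))) b
  exact hb

end Groth.Agent.S13707
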