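import Groth.Statements.S13708
import Mathlib
-- import your own Groth.Agent.* helpers here

set_option autoImplicit false
universe u
open CategoryTheory CategoryTheory.Limits AlgebraicGeometry
open ZeroCyc

namespace Groth.Agent.S13708

/-- Let X be a scheme over S such that every finite set of points of X over a common point of S lies in
some affine open subscheme of X (the condition (AF)). Then X is separated over S. (The published
condition (AF) asks for an open U with U → S quasi-affine rather than U affine; with U affine, as
here, the same argument applies verbatim, and the two conditions agree over a quasi-separated base.) -/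
theorem result {X S : Scheme.{u}} (f : X ⟶ S) (hX : SymProd.IsAF f) :
    IsSeparated f := by
  refine ⟨IsClosedImmersion.of_isPreimmersion _ ?_⟩
  rw [← isOpen_compl_iff, isOpen_iff_forall_mem_open]
  intro p hp
  obtain ⟨U, hU, hmem⟩ := hX (f (pullback.fst f f p)) (by classical exact {pullback.fst f f p, pullback.snd f f p}) (by
    intro x hx
    simp only [Finset.mem_insert, Finset.mem_singleton] at hx
    rcases hx with rfl | rfl
    · rfl
    · rw [← Scheme.Hom.comp_apply, ← pullback.condition, Scheme.Hom.comp_apply])
  haveI : IsAffine U := hU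
  let g := U.ι ≫ f
  haveI : IsSeparated g := by
    haveI : IsSeparated (g ≫ terminal.from S) := by
      rw [terminal.hom_ext (g ≫ terminal.from S) (terminal.from _)]
      infer_instance
    exact IsSeparated.of_comp g (terminal.from S)
  let j : pullback g g ⟶ pullback f f :=
    pullback.map g g f f U.ι U.ι (𝟙 S) (Category.comp_id _) (Category.comp_id _)
  have hpj : p ∈ Set.range j := by
    rw [Scheme.Pullback.range_map]
    exact ⟨⟨⟨_, hmem _ (by simp)⟩, rfl⟩, ⟨⟨_, hmem _ (by simp)⟩, rfl⟩⟩
  have hdj : U.ι ≫ pullback.diagonal f = pullback.diagonal g ≫ j := by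
    apply pullback.hom_ext
    · rw [Category.assoc, pullback.diagonal_fst, Category.comp_id, Category.assoc]
      erw [pullback.lift_fst, pullback.diagonal_fst_assoc]
    · rw [Category.assoc, pullback.diagonal_snd, Category.comp_id, Category.assoc]
      erw [pullback.lift_snd, pullback.diagonal_snd_assoc]
  have hcl : IsClosed (Set.range (pullback.diagonal g)) :=
    (pullback.diagonal g).isClosedEmbedding.isClosed_range
  refine ⟨j '' (Set.range (pullback.diagonal g))ᶜ, ?_, j.isOpenEmbedding.isOpenMap _ hcl.isOpen_compl, ?_⟩
  · rintro _ ⟨z, hz, rfl⟩ ⟨x, hx⟩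
    have hx1 : x = U.ι (pullback.fst g g z) := by
      have := congrArg (pullback.fst f f) hx
      rw [← Scheme.Hom.comp_apply, ← Scheme.Hom.comp_apply, pullback.diagonal_fst, pullback.lift_fst,
        Scheme.Hom.comp_apply] at this
      exact this
    refine hz ⟨pullback.fst g g z, j.isOpenEmbedding.injective (Eq.trans ?_ hx)⟩
    rw [hx1, ← Scheme.Hom.comp_apply, ← Scheme.Hom.comp_apply]
    first
      | exact congrArg (fun m : (U : Scheme.{u}) ⟶ pullback f f => m _) hdj
      | exact congrArg (fun m : (U : Scheme.{u}) ⟶ pullback f f => m _) hdj.symm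
  · obtain ⟨z, rfl⟩ := hpj
    refine ⟨z, fun ⟨y, hy⟩ => hp ⟨U.ι y, ?_⟩, rfl⟩
    rw [← hy, ← Scheme.Hom.comp_apply, ← Scheme.Hom.comp_apply]
    first
      | exact congrArg (fun m : (U : Scheme.{u}) ⟶ pullback f f => m _) hdj
      | exact congrArg (fun m : (U : Scheme.{u}) ⟶ pullback f f => m _) hdj.symm

end Groth.Agent.S13708
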