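import Groth.Statements.S13712
import Groth.Agent.ChevLib.Main

set_option autoImplicit false
universe u
open CategoryTheory CategoryTheory.Limits AlgebraicGeometry
open ZeroCyc

namespace Groth.Agent.S13712

/-- Let f : X → Y and g : Y → S be morphisms of schemes with g separated, such that the composite X → S
is integral with topologically finite fibres (every fibre is a finite set). Then the
scheme-theoretic image Y' of f, with its closed immersion Y' → Y, is integral over S, and Y' → S
again has topologically finite fibres. (The published statement is for algebraic spaces; this row is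
the case of schemes.) -/
theorem result {X Y S : Scheme.{u}} (f : X ⟶ Y) (g : Y ⟶ S)
    [IsSeparated g] [IsIntegralHom (f ≫ g)] (hfin : ∀ s : S, Set.Finite ((f ≫ g).base ⁻¹' {s})) :
    IsIntegralHom (f.imageι ≫ g) ∧ ∀ s : S, Set.Finite ((f.imageι ≫ g).base ⁻¹' {s}) := by
  haveI : IsIntegralHom f := IsIntegralHom.of_comp f g
  haveI : IsIntegralHom f.toImage := by
    haveI : IsIntegralHom (f.toImage ≫ f.imageι) := by rw [f.toImage_imageι]; infer_instance
    exact IsIntegralHom.of_comp f.toImage f.imageι
  haveI : Surjective f.toImage := ⟨fun y => by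
    have h1 : DenseRange f.toImage.base := f.toImage.denseRange
    have h2 : IsClosed (Set.range f.toImage.base) := f.toImage.isClosedMap.isClosed_range
    have h3 : Set.range f.toImage.base = Set.univ := by
      rw [← h2.closure_eq]; exact h1.closure_range
    exact Set.mem_range.1 (h3 ▸ Set.mem_univ y :)⟩
  haveI : IsIntegralHom (f.toImage ≫ f.imageι ≫ g) := by
    rw [← Category.assoc, f.toImage_imageι]; infer_instance
  haveI : UniversallyClosed (f.imageι ≫ g) :=
    UniversallyClosed.of_comp_surjective f.toImage (f.imageι ≫ g)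
  refine ⟨?_, fun s => ?_⟩
  · rw [IsIntegralHom.iff_universallyClosed_and_isAffineHom]
    refine ⟨inferInstance, ⟨fun V hV => ?_⟩⟩
    haveI : IsAffine (f.toImage ⁻¹ᵁ ((f.imageι ≫ g) ⁻¹ᵁ V)) :=
      (hV.preimage (f.toImage ≫ f.imageι ≫ g) :)
    haveI : Surjective (f.toImage ∣_ ((f.imageι ≫ g) ⁻¹ᵁ V)) :=
      IsZariskiLocalAtTarget.restrict (P := @Surjective) inferInstance _
    exact ChevLib.isAffine_of_surjective_universallyClosed (f.toImage ∣_ ((f.imageι ≫ g) ⁻¹ᵁ V))
  · refine ((hfin s).image f.toImage.base).subset fun y hy => ?_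
    obtain ⟨x, rfl⟩ := f.toImage.surjective y
    refine ⟨x, ?_, rfl⟩
    have h : (f ≫ g).base x = (f.imageι ≫ g).base (f.toImage.base x) := by
      rw [show f ≫ g = f.toImage ≫ f.imageι ≫ g by rw [← Category.assoc, f.toImage_imageι]]
      rfl
    exact (h.trans hy)

end Groth.Agent.S13712
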