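import Groth.Statements.S13716
import Groth.Agent.ZCLib.Mul
import Mathlib.RingTheory.IntegralClosure.IsIntegralClosure.Basic

set_option autoImplicit false
universe u
open scoped TensorProduct
open ZeroCyc

namespace Groth.Agent.S13716

/-- Let (C, γ) be the algebra of divided powers Γ^d_A(B) of a commutative A-algebra B with its universal
multiplicative law γ : B → C homogeneous of degree d (every multiplicative law B → C' homogeneous of
degree d factors uniquely through γ by an algebra map C → C'). If B is integral over A then so is C
= Γ^d_A(B). -/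
theorem result {A : Type u} [CommRing A] {B : Type u} [CommRing B] [Algebra A B] {C : Type u} [CommRing C] [Algebra A C]
    {d : ℕ} (γ : PolLaw.MulLaw A B C d) (hγ : PolLaw.IsGammaD γ) [Algebra.IsIntegral A B] :
    Algebra.IsIntegral A C := by
  refine ⟨fun c => ?_⟩
  have hc : c ∈ Submodule.span A (ZCLib.coeffSet γ.law ⊤) := by
    rw [ZCLib.span_coeffSet_eq_top hγ]; trivial
  induction hc using Submodule.span_induction with
  | zero => exact isIntegral_zero
  | add a b _ _ ha hb => exact ha.add hb
  | smul r a _ ha => exact ha.smul r
  | mem a ha =>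
    obtain ⟨κ, _, v, α, -, rfl⟩ := ha
    refine IsIntegral.of_mem_of_fg (ZCLib.coeffAlg γ (Algebra.adjoin A (Set.range v)))
      (ZCLib.coeffAlg_fg γ _ (fg_adjoin_of_finite (Set.finite_range v)
        fun b _ => Algebra.IsIntegral.isIntegral b)) _ ?_
    exact ZCLib.coeffs_mem_coeffAlg γ v (fun j => Algebra.subset_adjoin (Set.mem_range_self j)) α

end Groth.Agent.S13716
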