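import Groth.Statements.S13717
import Groth.Agent.ZCLib.Mul

set_option autoImplicit false
universe u
open scoped TensorProduct
open ZeroCyc

namespace Groth.Agent.S13717

/-- Let π : B → B' be a surjective map of commutative A-algebras and let (C, γ) and (C', γ') be the
degree-d divided power algebras Γ^d_A(B) and Γ^d_A(B') with their universal multiplicative laws
homogeneous of degree d. If φ : C → C' is the A-algebra map with φ ∘ γ = γ' ∘ π, then φ is
surjective; geometrically, for a closed subscheme X of an affine Y over an affine S, Γ^d(X/S) →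
Γ^d(Y/S) is a closed immersion. (The published statement is for Y affine over an algebraic space S;
this row is the case of an affine base.) -/
theorem result {A : Type u} [CommRing A] {B : Type u} [CommRing B] [Algebra A B]
    {B' : Type u} [CommRing B'] [Algebra A B'] {C : Type u} [CommRing C] [Algebra A C] {C' : Type u} [CommRing C'] [Algebra A C']
    {d : ℕ} (γ : PolLaw.MulLaw A B C d) (hγ : PolLaw.IsGammaD γ) (γ' : PolLaw.MulLaw A B' C' d) (hγ' : PolLaw.IsGammaD γ')
    (π : B →ₐ[A] B') (hπ : Function.Surjective π) (φ : C →ₐ[A] C')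
    (hφ : PolLaw.postcomp φ.toLinearMap γ.law = (γ'.precomp π).law) :
    Function.Surjective φ := by
  intro c
  have hc : c ∈ Submodule.span A (ZCLib.coeffSet γ'.law ⊤) := by
    rw [ZCLib.span_coeffSet_eq_top hγ']; trivial
  suffices h : c ∈ LinearMap.range φ.toLinearMap from h
  refine (Submodule.span_le (p := LinearMap.range φ.toLinearMap)).2 ?_ hc
  rintro _ ⟨κ, _, v, α, -, rfl⟩
  choose v' hv' using fun j => hπ (v j)
  refine ⟨ZCLib.coeffs γ.law v' α, ?_⟩
  rw [← ZCLib.coeffs_postcomp, hφ]
  show ZCLib.coeffs (PolLaw.precomp γ'.law π.toLinearMap) v' α = _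
  rw [ZCLib.coeffs_precomp, show π.toLinearMap ∘ v' = v from funext hv']

end Groth.Agent.S13717
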