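import Groth.Statements.S13719
import Groth.Agent.ZCLib.Prod
-- import your own Groth.Agent.* helpers here

set_option autoImplicit false
universe u
open scoped TensorProduct
open ZeroCyc

namespace Groth.Agent.S13719

/-- Let A be a commutative ring whose prime spectrum is connected, B₁, B₂ commutative A-algebras and F :
B₁ × B₂ → A a multiplicative polynomial law homogeneous of degree d (a family of zero-cycles of
degree d on the disjoint union Spec B₁ ⊔ Spec B₂ over Spec A). Then there are natural numbers d₁ +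
d₂ = d, the multiplicities of the family on the two pieces, and multiplicative laws F₁ : B₁ → A, F₂
: B₂ → A homogeneous of degrees d₁, d₂ with F(x) = F₁(x₁) F₂(x₂) for every test algebra S and x ∈ S
⊗ (B₁ × B₂) with components x₁, x₂; and the degrees d₁, d₂ of any such factorisation are uniquely
determined. (The published statement is for finitely many algebraic spaces affine over a connected
algebraic space S; this row is the case of two pieces over an affine base.) -/
theorem result {A : Type u} [CommRing A] [ConnectedSpace (PrimeSpectrum A)]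
    {B₁ : Type u} [CommRing B₁] [Algebra A B₁] {B₂ : Type u} [CommRing B₂] [Algebra A B₂]
    {d : ℕ} (F : PolLaw.MulLaw A (B₁ × B₂) A d) :
    ∃ d₁ d₂ : ℕ, d₁ + d₂ = d ∧
      (∃ (F₁ : PolLaw.MulLaw A B₁ A d₁) (F₂ : PolLaw.MulLaw A B₂ A d₂),
        ∀ (S : Type u) [CommSemiring S] [Algebra A S] (x : S ⊗[A] (B₁ × B₂)),
          F.law.toFun' S x = F₁.law.toFun' S (LinearMap.lTensor S (LinearMap.fst A B₁ B₂) x) *
            F₂.law.toFun' S (LinearMap.lTensor S (LinearMap.snd A B₁ B₂) x)) ∧
      ∀ (e₁ e₂ : ℕ) (G₁ : PolLaw.MulLaw A B₁ A e₁) (G₂ : PolLaw.MulLaw A B₂ A e₂),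
        (∀ (S : Type u) [CommSemiring S] [Algebra A S] (x : S ⊗[A] (B₁ × B₂)),
          F.law.toFun' S x = G₁.law.toFun' S (LinearMap.lTensor S (LinearMap.fst A B₁ B₂) x) *
            G₂.law.toFun' S (LinearMap.lTensor S (LinearMap.snd A B₁ B₂) x)) → e₁ = d₁ ∧ e₂ = d₂ := by
  obtain ⟨d₁, d₂, hd, hchi⟩ := ZCLib.Prod.exists_degrees d F
  refine ⟨d₁, d₂, hd, ⟨⟨ZCLib.Prod.leftLaw F, ZCLib.Prod.isHomog_leftLaw F fun S _ _ s => (hchi S s).1,
      ZCLib.Prod.isMult_leftLaw F⟩,
    ⟨ZCLib.Prod.rightLaw F, ZCLib.Prod.isHomog_rightLaw F fun S _ _ s => (hchi S s).2,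
      ZCLib.Prod.isMult_rightLaw F⟩, fun S _ _ z => ZCLib.Prod.factor F S z⟩, ?_⟩
  intro e₁ e₂ G₁ G₂ hG
  constructor
  · have h := hG (Polynomial A) (ZCLib.Prod.tw (Polynomial A) Polynomial.X 1)
    rw [ZCLib.Prod.law_tw, (hchi _ _).1] at h
    have hf : (LinearMap.fst A B₁ B₂).lTensor (Polynomial A)
        (ZCLib.Prod.tw (Polynomial A) Polynomial.X 1) = (Polynomial.X : Polynomial A) • 1 := by
      simp [ZCLib.Prod.tw, Algebra.TensorProduct.one_def, TensorProduct.smul_tmul']
    have hs : (LinearMap.snd A B₁ B₂).lTensor (Polynomial A)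
        (ZCLib.Prod.tw (Polynomial A) Polynomial.X 1) = 1 := by
      simp [ZCLib.Prod.tw, Algebra.TensorProduct.one_def]
    rw [hf, hs, G₁.homog, (G₁.mult _).1, (G₂.mult _).1, mul_one] at h
    replace h := congrArg (Algebra.TensorProduct.rid A (Polynomial A) (Polynomial A)) h
    simp only [Algebra.TensorProduct.rid_tmul, map_smul, map_one, one_smul, smul_eq_mul, mul_one] at h
    simpa using (congrArg Polynomial.natDegree h).symm
  · have h := hG (Polynomial A) (ZCLib.Prod.tw (Polynomial A) 1 Polynomial.X)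
    rw [ZCLib.Prod.law_tw, (hchi _ _).2] at h
    have hs : (LinearMap.snd A B₁ B₂).lTensor (Polynomial A)
        (ZCLib.Prod.tw (Polynomial A) 1 Polynomial.X) = (Polynomial.X : Polynomial A) • 1 := by
      simp [ZCLib.Prod.tw, Algebra.TensorProduct.one_def, TensorProduct.smul_tmul']
    have hf : (LinearMap.fst A B₁ B₂).lTensor (Polynomial A)
        (ZCLib.Prod.tw (Polynomial A) 1 Polynomial.X) = 1 := by
      simp [ZCLib.Prod.tw, Algebra.TensorProduct.one_def]
    rw [hf, hs, G₂.homog, (G₁.mult _).1, (G₂.mult _).1, one_mul] at h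
    replace h := congrArg (Algebra.TensorProduct.rid A (Polynomial A) (Polynomial A)) h
    simp only [Algebra.TensorProduct.rid_tmul, map_smul, map_one, one_smul, smul_eq_mul, mul_one] at h
    simpa using (congrArg Polynomial.natDegree h).symm

end Groth.Agent.S13719
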