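import Groth.Statements.S1372
import Mathlib
import Groth.Agent.MiscFlat6b.Linear
-- import your own Groth.Agent.* helpers here

set_option autoImplicit false
universe u
open FlatMor

namespace Groth.Agent.S1372

open AlgebraicGeometry CategoryTheory Limits in
/-- Let A → B be a ring map and b_1, ..., b_d elements generating B as an A-module. Let h = Σ x_i b_i in
the polynomial ring B[x_1, ..., x_d]. Then universal openness of Spec B → Spec A is equivalent to
openness of the image in Spec A[x_1, ..., x_d] of the basic open D(h). -/
theorem result {A B : Type u} [CommRing A] [CommRing B] [Algebra A B] {d : ℕ} (b : Fin d → B)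
    (hb : Submodule.span A (Set.range b) = ⊤) :
    UniversallyOpen (Spec.map (CommRingCat.ofHom (algebraMap A B))) ↔
      IsOpen (PrimeSpectrum.comap (MvPolynomial.map (σ := Fin d) (algebraMap A B)) ''
        (PrimeSpectrum.basicOpen (∑ i : Fin d, MvPolynomial.X i * MvPolynomial.C (b i)) : Set (PrimeSpectrum (MvPolynomial (Fin d) B)))) := by
  constructor
  · intro h
    let ν := ULift.{u} (Fin d)
    haveI : UniversallyOpen (AffineSpace.map ν (Spec.map (CommRingCat.ofHom (algebraMap A B)))) :=
      MorphismProperty.of_isPullback (P := @UniversallyOpen) (AffineSpace.isPullback_map _).flip h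
    have hopen : IsOpenMap (PrimeSpectrum.comap (MvPolynomial.map (σ := ν) (algebraMap A B))) :=
      ((topologically IsOpenMap).arrow_mk_iso_iff
        (AffineSpace.mapSpecMap (n := ν) (CommRingCat.ofHom (algebraMap A B)))).mp
        (AffineSpace.map ν (Spec.map (CommRingCat.ofHom (algebraMap A B)))).isOpenMap
    let ρA : MvPolynomial ν A ≃+* MvPolynomial (Fin d) A := (MvPolynomial.renameEquiv A Equiv.ulift).toRingEquiv
    let ρB : MvPolynomial ν B ≃+* MvPolynomial (Fin d) B := (MvPolynomial.renameEquiv B Equiv.ulift).toRingEquiv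
    have hc : (MvPolynomial.map (σ := Fin d) (algebraMap A B)).comp ρA.toRingHom =
        ρB.toRingHom.comp (MvPolynomial.map (σ := ν) (algebraMap A B)) :=
      MvPolynomial.ringHom_ext (fun a => by simp [ρA, ρB]) (fun i => by simp [ρA, ρB])
    set S : Set (PrimeSpectrum (MvPolynomial (Fin d) B)) :=
      ↑(PrimeSpectrum.basicOpen (∑ i : Fin d, MvPolynomial.X i * MvPolynomial.C (b i)))
    have himg : PrimeSpectrum.comap (MvPolynomial.map (σ := Fin d) (algebraMap A B)) '' S =
        PrimeSpectrum.comap ρA.toRingHom ⁻¹' (PrimeSpectrum.comap (MvPolynomial.map (σ := ν) (algebraMap A B)) ''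
          (PrimeSpectrum.comap ρB.toRingHom '' S)) := by
      rw [← Set.preimage_image_eq (PrimeSpectrum.comap (MvPolynomial.map (σ := Fin d) (algebraMap A B)) '' S)
        (PrimeSpectrum.comap_injective_of_surjective ρA.toRingHom ρA.surjective), Set.image_image, Set.image_image]
      congr 1
      refine Set.image_congr fun q _ => ?_
      rw [← PrimeSpectrum.comap_comp_apply, hc, PrimeSpectrum.comap_comp_apply]
    rw [himg]
    exact (hopen _ ((PrimeSpectrum.homeomorphOfRingEquiv ρB).symm.isOpenMap _
      (PrimeSpectrum.basicOpen _).isOpen)).preimage (PrimeSpectrum.continuous_comap _)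
  · intro h
    refine MiscFlat6b.universallyOpen_SpecMap_of_linear (A := CommRingCat.of A) (B := CommRingCat.of B)
      (CommRingCat.ofHom (algebraMap A B)) b ?_
    have e : (CommRingCat.Hom.hom (CommRingCat.ofHom (algebraMap A B))).toAlgebra = ‹Algebra A B› :=
      Algebra.algebra_ext _ _ fun _ => rfl
    show (letI := (CommRingCat.Hom.hom (CommRingCat.ofHom (algebraMap A B))).toAlgebra; _ ∧ _)
    erw [e]
    exact ⟨hb, h⟩

end Groth.Agent.S1372
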