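import Groth.Statements.S13720
import Groth.Agent.ZCLib.Ker
import Mathlib.Data.Finset.Order

set_option autoImplicit false
universe u
open scoped TensorProduct
open ZeroCyc

namespace Groth.Agent.S13720

/-- Let B be the filtered direct limit of a directed system (B_i, t_ij : B_i → B_j) of commutative
algebras over the commutative ring A, with structure maps φ_i : B_i → B (jointly surjective, and an
element of B_i vanishing in B already vanishes in some B_j), and let F : B → C be a multiplicative
polynomial law homogeneous of degree d, with restrictions F_i = F ∘ φ_i. Then an element b of B lies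
in the kernel of F if and only if it is the image of some x ∈ B_i whose images in B_j lie in the
kernel of F_j for every j ≥ i; that is, the kernel of F is the direct limit of the kernels of the
F_i. -/
theorem result {A : Type u} [CommRing A] {B : Type u} [CommRing B] [Algebra A B]
    {C : Type u} [CommRing C] [Algebra A C] {ι : Type u} [Preorder ι] [IsDirected ι (fun i j => i ≤ j)] [Nonempty ι]
    (Bi : ι → Type u) [∀ i, CommRing (Bi i)] [∀ i, Algebra A (Bi i)]
    (t : ∀ i j : ι, i ≤ j → (Bi i →ₐ[A] Bi j)) (φ : ∀ i : ι, Bi i →ₐ[A] B)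
    (hcomp : ∀ (i j : ι) (h : i ≤ j), (φ j).comp (t i j h) = φ i)
    (hsurj : ∀ b : B, ∃ (i : ι) (x : Bi i), φ i x = b)
    (hzero : ∀ (i : ι) (x : Bi i), φ i x = 0 → ∃ (j : ι) (h : i ≤ j), t i j h x = 0)
    {d : ℕ} (F : PolLaw.MulLaw A B C d) (b : B) :
    b ∈ PolLaw.ker F.law ↔ ∃ (i : ι) (x : Bi i), φ i x = b ∧
      ∀ (j : ι) (h : i ≤ j), t i j h x ∈ PolLaw.ker (F.precomp (φ j)).law := by
  constructor
  · intro hb
    obtain ⟨i, x, rfl⟩ := hsurj b
    refine ⟨i, x, rfl, fun j h => ZCLib.comap_ker_le F (φ j) ?_⟩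
    show φ j (t i j h x) ∈ PolLaw.ker F.law
    rw [← AlgHom.comp_apply, hcomp]
    exact hb
  · rintro ⟨i, x, rfl, hx⟩
    rw [ZCLib.mem_ker_iff]
    intro S _ _ w
    obtain ⟨κ, _, s, v, rfl⟩ := ZCLib.exists_sum S w
    choose k y hy using fun l => hsurj (v l)
    classical
    obtain ⟨j, hj⟩ := Finset.exists_le (insert i (Finset.univ.image k))
    have hij : i ≤ j := hj i (Finset.mem_insert_self _ _)
    have hkj : ∀ l, k l ≤ j := fun l =>
      hj _ (Finset.mem_insert_of_mem (Finset.mem_image_of_mem k (Finset.mem_univ l)))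
    have h := (ZCLib.mem_ker_iff _ _).1 (hx j hij) S (∑ l, s l ⊗ₜ[A] t (k l) j (hkj l) (y l))
    replace h : F.law.toFun' S ((φ j).toLinearMap.lTensor S
        (1 + (∑ l, s l ⊗ₜ[A] t (k l) j (hkj l) (y l)) * ((1 : S) ⊗ₜ[A] t i j hij x))) = 1 := h
    rw [PolLaw.lTensor_algHom_apply, map_add, map_one, map_mul, map_sum] at h
    simp only [Algebra.TensorProduct.map_tmul, AlgHom.id_apply, ← AlgHom.comp_apply, hcomp, hy] at h
    exact h

end Groth.Agent.S13720
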