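import Groth.Statements.S13722
import Groth.Agent.ZCLib.Ker
import Mathlib.RingTheory.TensorProduct.MvPolynomial
import Mathlib.RingTheory.MvPolynomial.Basic
import Mathlib.Algebra.MvPolynomial.Nilpotent

set_option autoImplicit false
universe u
open scoped TensorProduct
open ZeroCyc

namespace Groth.Agent.S13722

/-- Let B and C be commutative algebras over the commutative ring A and F : B → C a multiplicative
polynomial law homogeneous of degree d. If C is reduced, then the quotient of B by the kernel of F
is reduced. In particular the image of a family of zero-cycles parametrised by a reduced base is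
reduced. -/
theorem result {A : Type u} [CommRing A] {B : Type u} [CommRing B] [Algebra A B]
    {C : Type u} [CommRing C] [Algebra A C] [IsReduced C] {d : ℕ} (F : PolLaw.MulLaw A B C d) :
    IsReduced (PolLaw.image F.law) := by
  refine ⟨fun q hq => ?_⟩
  obtain ⟨b, rfl⟩ := Ideal.Quotient.mk_surjective q
  obtain ⟨n, hn⟩ := hq
  rw [← map_pow, Ideal.Quotient.eq_zero_iff_mem] at hn
  rw [Ideal.Quotient.eq_zero_iff_mem, ZCLib.mem_ker_iff]
  intro S _ _ w
  obtain ⟨κ, _, s, v, rfl⟩ := ZCLib.exists_sum S w
  let R := MvPolynomial κ A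
  let z : R ⊗[A] B := ZCLib.gen v * ((1 : R) ⊗ₜ[A] b)
  have key : F.law.toFun' R (1 + z) = 1 := by
    have hpow : F.law.toFun' R (1 - (-z) ^ n) = 1 := by
      have e : 1 - (-z) ^ n = 1 + -((-ZCLib.gen v) ^ n) * ((1 : R) ⊗ₜ[A] (b ^ n)) := by
        rw [show -z = (-ZCLib.gen v) * ((1 : R) ⊗ₜ[A] b) by simp only [z]; ring, mul_pow,
          Algebra.TensorProduct.tmul_pow, one_pow]
        ring
      rw [e]
      exact (hn R 1 _).trans (F.mult R).1
    rw [← mul_neg_geom_sum (-z) n, sub_neg_eq_add, (F.mult R).2] at hpow
    have hunit : IsUnit (F.law.toFun' R (1 + z)) := IsUnit.of_mul_eq_one _ hpow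
    let e : MvPolynomial κ A ⊗[A] C ≃ₐ[A] MvPolynomial κ C :=
      (Algebra.TensorProduct.comm A _ _).trans
        ((MvPolynomial.algebraTensorAlgEquiv A C).restrictScalars A)
    obtain ⟨c, -, hc⟩ := MvPolynomial.isUnit_iff_eq_C_of_isReduced.1 (hunit.map e)
    have hez : ∀ (x : MvPolynomial κ A ⊗[A] C),
        MvPolynomial.constantCoeff (e x) = Algebra.TensorProduct.lift
          ((Algebra.ofId A C).comp (MvPolynomial.aeval fun _ => (0 : A))) (AlgHom.id A C)
          (fun _ _ => Commute.all _ _) x := by
      intro x
      induction x with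
      | zero => simp
      | tmul p a =>
        induction p using MvPolynomial.induction_on' with
        | add p q hp hq => simp only [TensorProduct.add_tmul, map_add, hp, hq]
        | monomial m r =>
          rcases eq_or_ne m 0 with rfl | hm
          · simp [e, Algebra.smul_def, MvPolynomial.constantCoeff_eq, mul_comm]
          · obtain ⟨l, hl⟩ := Finsupp.support_nonempty_iff.2 hm
            have h0 : MvPolynomial.aeval (fun _ => (0 : A)) (MvPolynomial.monomial m r) = 0 := by
              rw [MvPolynomial.aeval_monomial, Finsupp.prod, Finset.prod_eq_zero hl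
                (zero_pow (Finsupp.mem_support_iff.1 hl)), mul_zero]
            simp [e, Algebra.smul_def, MvPolynomial.constantCoeff_eq, h0]
            classical
            simp [MvPolynomial.coeff_monomial, hm]
      | add x y hx hy => simp only [map_add, hx, hy]
    have hc1 : c = 1 := by
      have h := hez (F.law.toFun' R (1 + z))
      rw [hc, MvPolynomial.constantCoeff_C] at h
      rw [h]
      have h0 := ZCLib.map_rTensor (C := C) (MvPolynomial.aeval (fun _ => (0 : A)) :
        MvPolynomial κ A →ₐ[A] A) F.law (1 + z)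
      rw [map_add, map_one, map_mul, show Algebra.TensorProduct.map
        (MvPolynomial.aeval (fun _ => (0 : A)) : MvPolynomial κ A →ₐ[A] A) (AlgHom.id A B)
        (ZCLib.gen v) = 0 by simp [ZCLib.gen], zero_mul, add_zero, (F.mult A).1] at h0
      have h1 := congrArg (Algebra.TensorProduct.lift (Algebra.ofId A C) (AlgHom.id A C)
        fun _ _ => Commute.all _ _) h0
      rw [map_one, ← AlgHom.comp_apply] at h1
      rw [h1]
      congr 1
      ext <;> simp
    subst hc1
    apply e.injective
    rw [hc, MvPolynomial.C_1, map_one]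
  have hmap : Algebra.TensorProduct.map (MvPolynomial.aeval s : R →ₐ[A] S) (AlgHom.id A B) z =
      (∑ j, s j ⊗ₜ[A] v j) * ((1 : S) ⊗ₜ[A] b) := by
    simp [z, ZCLib.gen, R]
  rw [← hmap, ← map_one (Algebra.TensorProduct.map (MvPolynomial.aeval s : R →ₐ[A] S) (AlgHom.id A B)),
    ← map_add, ZCLib.map_rTensor, key, map_one]

end Groth.Agent.S13722
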