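import Groth.Statements.S13724
import Groth.Agent.ZCLib.Open
import Mathlib.RingTheory.Spectrum.Maximal.Basic

set_option autoImplicit false
universe u
open scoped TensorProduct
open ZeroCyc

namespace Groth.Agent.S13724

/-- Let A be a commutative ring with finitely many maximal ideals, B a commutative A-algebra and F : B →
A a multiplicative polynomial law homogeneous of degree d. Then B/ker F, the coordinate ring of the
image of the family of zero-cycles defined by F, has finitely many maximal ideals. -/
theorem result {A : Type u} [CommRing A] [Finite (MaximalSpectrum A)] {B : Type u} [CommRing B] [Algebra A B]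
    {d : ℕ} (F : PolLaw.MulLaw A B A d) :
    Finite (MaximalSpectrum (PolLaw.image F.law)) := by
  haveI := ZCLib.isIntegral_image F
  let f : MaximalSpectrum (PolLaw.image F.law) → MaximalSpectrum A := fun P =>
    ⟨P.asIdeal.comap (algebraMap A _),
      haveI := P.isMaximal
      Ideal.isMaximal_comap_of_isIntegral_of_isMaximal (R := A) P.asIdeal⟩
  have hsub : ∀ m : MaximalSpectrum A, (f ⁻¹' {m}).Finite := fun m => by
    have h := ((ZCLib.fibre_finite_self F m.toPrimeSpectrum).1).preimage
      (MaximalSpectrum.toPrimeSpectrum_injective.injOn)
    refine h.subset fun P hP => ?_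
    exact congrArg MaximalSpectrum.toPrimeSpectrum hP
  exact Set.finite_univ_iff.1 ((Set.finite_iUnion hsub).subset fun P _ =>
    Set.mem_iUnion.2 ⟨f P, rfl⟩)

end Groth.Agent.S13724
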