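import Groth.Statements.S13725
import Mathlib


-- import your own Groth.Agent.* helpers here

set_option autoImplicit false
universe u
open scoped TensorProduct
open ZeroCyc

namespace Groth.Agent.S13725

/-- Let k be a field of characteristic p > 0 and let F : k → k be the law x ↦ x^p, multiplicative and
homogeneous of degree p over k. The kernel of F is the zero ideal, but after the flat base change k
→ A' = k[X]/(X^p) the kernel of the base-changed law on A' ⊗_k k is not zero (the class of X lies in
it). So in characteristic p, forming the kernel of a multiplicative law is not compatible with flat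
base change. -/
theorem result {k : Type u} [Field k] (p : ℕ) [Fact p.Prime] [CharP k p] :
    PolLaw.ker (PolLaw.MulLaw.pow k k p).law = ⊥ ∧
      PolLaw.kerBC (PolLaw.MulLaw.pow k k p).law (AdjoinRoot ((Polynomial.X : Polynomial k) ^ p)) ≠ ⊥ := by
  have hp : p ≠ 0 := (Fact.out : p.Prime).ne_zero
  constructor
  · rw [eq_bot_iff]
    intro b hb
    have h := hb k (0 : k ⊗[k] k) 1
    have h2 : (0 + 1 * ((1 : k) ⊗ₜ[k] b)) ^ p = (0 : k ⊗[k] k) ^ p := h
    rw [zero_add, one_mul] at h2
    rw [zero_pow hp, Algebra.TensorProduct.tmul_pow, one_pow] at h2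
    have h3 := congrArg (TensorProduct.lid k k) h2
    simpa [hp] using h3
  · intro hbot
    set A' := AdjoinRoot ((Polynomial.X : Polynomial k) ^ p)
    set t : A' := AdjoinRoot.root _
    have htp : t ^ p = 0 := by
      have := AdjoinRoot.eval₂_root ((Polynomial.X : Polynomial k) ^ p)
      simpa using this
    have hmem : t ⊗ₜ[k] (1 : k) ∈ PolLaw.kerBC (PolLaw.MulLaw.pow k k p).law A' := by
      intro R _ _ _ _ x w
      change (x + w * Algebra.TensorProduct.map (IsScalarTower.toAlgHom k A' R) (AlgHom.id k k) (t ⊗ₜ[k] (1 : k))) ^ p = x ^ p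
      have hz : (Algebra.TensorProduct.map (IsScalarTower.toAlgHom k A' R) (AlgHom.id k k) (t ⊗ₜ[k] (1 : k))) ^ p = 0 := by
        rw [← map_pow, Algebra.TensorProduct.tmul_pow, htp, TensorProduct.zero_tmul, map_zero]
      have hp0 : ((p : ℕ) : R ⊗[k] k) = 0 := by
        rw [← map_natCast (algebraMap k (R ⊗[k] k)), CharP.cast_eq_zero, map_zero]
      obtain ⟨r, hr⟩ := exists_add_pow_prime_eq (Fact.out : p.Prime) x (w * Algebra.TensorProduct.map (IsScalarTower.toAlgHom k A' R) (AlgHom.id k k) (t ⊗ₜ[k] (1 : k)))
      rw [hr, mul_pow, hz, hp0]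
      simp
    rw [hbot, Ideal.mem_bot] at hmem
    have h3 := congrArg (TensorProduct.rid k A') hmem
    rw [TensorProduct.rid_tmul, one_smul, map_zero] at h3
    have hne : ¬ ((Polynomial.X : Polynomial k) ^ p ∣ Polynomial.X) := fun hd => by
      have := Polynomial.natDegree_le_of_dvd hd Polynomial.X_ne_zero
      rw [Polynomial.natDegree_X_pow, Polynomial.natDegree_X] at this
      exact absurd this (by have := (Fact.out : p.Prime).two_le; omega)
    exact hne (AdjoinRoot.mk_eq_zero.1 (by rw [AdjoinRoot.mk_X]; exact h3))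

end Groth.Agent.S13725
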