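import Groth.Statements.S13726
import Mathlib

set_option autoImplicit false
universe u
open scoped TensorProduct
open ZeroCyc

namespace Groth.Agent.S13726

/-- Let k be a field of characteristic p > 0 and A = k[t_i : i ∈ ℕ]/(t_i^p : i ∈ ℕ). The law x ↦ x^p
from A to A is multiplicative and homogeneous of degree p over A; its kernel is the ideal generated
by the classes of the variables t_i, and this ideal is not finitely generated. Hence the image of a
family of zero-cycles need not be of finite presentation over the base even when X → S is. -/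
theorem result {k : Type u} [Field k] (p : ℕ) [Fact p.Prime] [CharP k p] :
    PolLaw.ker (PolLaw.MulLaw.pow
        (MvPolynomial ℕ k ⧸ Ideal.span (Set.range fun i : ℕ => (MvPolynomial.X i : MvPolynomial ℕ k) ^ p))
        (MvPolynomial ℕ k ⧸ Ideal.span (Set.range fun i : ℕ => (MvPolynomial.X i : MvPolynomial ℕ k) ^ p)) p).law =
      (Ideal.span (Set.range fun i : ℕ => (MvPolynomial.X i : MvPolynomial ℕ k))).map
        (Ideal.Quotient.mk (Ideal.span (Set.range fun i : ℕ => (MvPolynomial.X i : MvPolynomial ℕ k) ^ p))) ∧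
    ¬ (PolLaw.ker (PolLaw.MulLaw.pow
        (MvPolynomial ℕ k ⧸ Ideal.span (Set.range fun i : ℕ => (MvPolynomial.X i : MvPolynomial ℕ k) ^ p))
        (MvPolynomial ℕ k ⧸ Ideal.span (Set.range fun i : ℕ => (MvPolynomial.X i : MvPolynomial ℕ k) ^ p)) p).law).FG := by
  classical
  set I : Ideal (MvPolynomial ℕ k) := Ideal.span (Set.range fun i : ℕ => (MvPolynomial.X i : MvPolynomial ℕ k) ^ p) with hI
  set m : Ideal (MvPolynomial ℕ k ⧸ I) := (Ideal.span (Set.range fun i : ℕ => (MvPolynomial.X i : MvPolynomial ℕ k))).map (Ideal.Quotient.mk I) with hm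
  have hp : p.Prime := Fact.out
  have hp0 : ((p : ℕ) : MvPolynomial ℕ k ⧸ I) = 0 := by
    rw [← map_natCast (Ideal.Quotient.mk I), CharP.cast_eq_zero, map_zero]
  have hle : ∀ b ∈ m, b ^ p = 0 := by
    intro b hb
    rw [hm, Ideal.mem_map_iff_of_surjective _ Ideal.Quotient.mk_surjective] at hb
    obtain ⟨g, hg, rfl⟩ := hb
    rw [← map_pow, Ideal.Quotient.eq_zero_iff_mem]
    have : Ideal.span (Set.range fun i : ℕ => (MvPolynomial.X i : MvPolynomial ℕ k)) ≤ I.comap (frobenius (MvPolynomial ℕ k) p) := by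
      rw [Ideal.span_le]
      rintro _ ⟨i, rfl⟩
      exact Ideal.subset_span ⟨i, rfl⟩
    exact this hg
  have hker : PolLaw.ker (PolLaw.MulLaw.pow (MvPolynomial ℕ k ⧸ I) (MvPolynomial ℕ k ⧸ I) p).law = m := by
    refine le_antisymm (fun b hb => ?_) (fun b hb => ?_)
    · have h := hb (MvPolynomial ℕ k ⧸ I) 0 1
      change (0 + 1 * (1 ⊗ₜ[MvPolynomial ℕ k ⧸ I] b)) ^ p = (0 : (MvPolynomial ℕ k ⧸ I) ⊗[MvPolynomial ℕ k ⧸ I] (MvPolynomial ℕ k ⧸ I)) ^ p at h
      rw [zero_add, one_mul] at h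
      have h' := congrArg (Algebra.TensorProduct.lid (MvPolynomial ℕ k ⧸ I) (MvPolynomial ℕ k ⧸ I)) h
      rw [map_pow, map_pow, Algebra.TensorProduct.lid_tmul, one_smul] at h'
      replace h' := h'.trans ((congrArg (· ^ p) (map_zero _)).trans (zero_pow hp.ne_zero))
      obtain ⟨g, rfl⟩ := Ideal.Quotient.mk_surjective b
      rw [← map_pow, Ideal.Quotient.eq_zero_iff_mem] at h'
      have hle' : I ≤ RingHom.ker (MvPolynomial.constantCoeff : MvPolynomial ℕ k →+* k) := by
        rw [hI, Ideal.span_le]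
        rintro _ ⟨i, rfl⟩
        simp [hp.ne_zero]
      have h0 : MvPolynomial.constantCoeff g ^ p = 0 := by
        rw [← map_pow]; exact hle' h'
      refine Ideal.mem_map_of_mem _ ?_
      rw [← Set.image_univ, MvPolynomial.mem_ideal_span_X_image]
      intro d hd
      have hd0 : d ≠ 0 := by
        rintro rfl
        exact (MvPolynomial.mem_support_iff.1 hd) (pow_eq_zero_iff hp.ne_zero |>.1 h0)
      obtain ⟨i, hi⟩ := Finsupp.ne_iff.1 hd0
      exact ⟨i, trivial, hi⟩
    · intro S _ _ x w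
      show (x + w * (1 ⊗ₜ[MvPolynomial ℕ k ⧸ I] b)) ^ p = x ^ p
      obtain ⟨r, hr⟩ := exists_add_pow_prime_eq hp x (w * (1 ⊗ₜ[MvPolynomial ℕ k ⧸ I] b))
      have hpT : ∀ (T : Type u) [CommSemiring T] [Algebra (MvPolynomial ℕ k ⧸ I) T], (p : T) = 0 := fun T _ _ => by
        rw [← map_natCast (algebraMap (MvPolynomial ℕ k ⧸ I) T), hp0, map_zero]
      rw [hr, mul_pow, Algebra.TensorProduct.tmul_pow, hle b hb, TensorProduct.tmul_zero, hpT]
      simp
  refine ⟨hker, ?_⟩
  rw [hker]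
  rintro ⟨s, hs⟩
  obtain ⟨N, hN⟩ : ∃ N : ℕ, ∀ b ∈ s, b ∈ (Ideal.span (MvPolynomial.X '' Set.Iio N : Set (MvPolynomial ℕ k))).map (Ideal.Quotient.mk I) := by
    have : ∀ b ∈ s, ∃ N : ℕ, b ∈ (Ideal.span (MvPolynomial.X '' Set.Iio N : Set (MvPolynomial ℕ k))).map (Ideal.Quotient.mk I) := by
      intro b hb
      have hbm : b ∈ m := hs ▸ Submodule.subset_span hb
      rw [hm, Ideal.mem_map_iff_of_surjective _ Ideal.Quotient.mk_surjective] at hbm
      obtain ⟨g, hg, rfl⟩ := hbm
      refine ⟨g.vars.sup id + 1, Ideal.mem_map_of_mem _ ?_⟩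
      rw [← Set.image_univ, MvPolynomial.mem_ideal_span_X_image] at hg
      rw [MvPolynomial.mem_ideal_span_X_image]
      intro d hd
      obtain ⟨i, -, hi⟩ := hg d hd
      refine ⟨i, Nat.lt_succ_of_le (Finset.le_sup (f := id) ?_), hi⟩
      exact (MvPolynomial.mem_vars i).2 ⟨d, hd, Finsupp.mem_support_iff.2 hi⟩
    choose f hf using this
    refine ⟨s.attach.sup fun b => f b.1 b.2, fun b hb => ?_⟩
    exact Ideal.map_mono (Ideal.span_mono (Set.image_mono (Set.Iio_subset_Iio
      (Finset.le_sup (f := fun b : s => f b.1 b.2) (Finset.mem_attach _ ⟨b, hb⟩))))) (hf b hb)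
  have hXN : Ideal.Quotient.mk I (MvPolynomial.X N) ∈ (Ideal.span (MvPolynomial.X '' Set.Iio N : Set (MvPolynomial ℕ k))).map (Ideal.Quotient.mk I) := by
    have : Ideal.Quotient.mk I (MvPolynomial.X N) ∈ m := Ideal.mem_map_of_mem _ (Ideal.subset_span ⟨N, rfl⟩)
    rw [← hs] at this
    exact Submodule.span_le.2 hN this
  let φ : MvPolynomial ℕ k →ₐ[k] DualNumber k := MvPolynomial.aeval (fun i => if i = N then DualNumber.eps else 0)
  have hε : (DualNumber.eps : DualNumber k) ^ p = 0 := by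
    obtain ⟨j, hj⟩ := Nat.exists_eq_add_of_le hp.two_le
    rw [hj, pow_add, pow_two, DualNumber.eps_mul_eps, zero_mul]
  have hIφ : I ≤ RingHom.ker φ.toRingHom := by
    rw [hI, Ideal.span_le]
    rintro _ ⟨i, rfl⟩
    show φ (MvPolynomial.X i ^ p) = 0
    rw [map_pow, MvPolynomial.aeval_X]
    split_ifs
    · exact hε
    · exact zero_pow hp.ne_zero
  have hJφ : Ideal.span (MvPolynomial.X '' Set.Iio N : Set (MvPolynomial ℕ k)) ≤ RingHom.ker φ.toRingHom := by
    rw [Ideal.span_le]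
    rintro _ ⟨i, hi, rfl⟩
    show φ (MvPolynomial.X i) = 0
    rw [MvPolynomial.aeval_X, if_neg hi.ne]
  rw [Ideal.mem_map_iff_of_surjective _ Ideal.Quotient.mk_surjective] at hXN
  obtain ⟨g, hg, hgX⟩ := hXN
  rw [Ideal.Quotient.eq] at hgX
  have h1 := hIφ hgX
  have h2 := hJφ hg
  simp only [RingHom.mem_ker, map_sub, AlgHom.toRingHom_eq_coe, RingHom.coe_coe] at h1 h2
  rw [h2, zero_sub, neg_eq_zero, MvPolynomial.aeval_X, if_pos rfl] at h1
  have h3 := congrArg TrivSqZeroExt.snd h1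
  simp at h3

end Groth.Agent.S13726
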