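import Groth.Statements.S13727
import Groth.Agent.ZCLib.Open
import Mathlib.Topology.Connected.Clopen

set_option autoImplicit false
universe u
open scoped TensorProduct
open ZeroCyc

namespace Groth.Agent.S13727

/-- Let A be a commutative ring whose prime spectrum is connected, B a commutative A-algebra and F : B →
A a multiplicative polynomial law homogeneous of degree d. Then Spec(B/ker F), the support of the
family of zero-cycles of degree d defined by F, has at most d connected components (in particular
finitely many). -/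
theorem result {A : Type u} [CommRing A] [ConnectedSpace (PrimeSpectrum A)]
    {B : Type u} [CommRing B] [Algebra A B] {d : ℕ} (F : PolLaw.MulLaw A B A d) :
    Finite (ConnectedComponents (PrimeSpectrum (PolLaw.image F.law))) ∧
      Nat.card (ConnectedComponents (PrimeSpectrum (PolLaw.image F.law))) ≤ d := by
  classical
  set f := PrimeSpectrum.comap (algebraMap A (PolLaw.image F.law))
  obtain ⟨q₀⟩ := (inferInstance : Nonempty (PrimeSpectrum A))
  have hbound : ∀ (n : ℕ) (c : PrimeSpectrum (PolLaw.image F.law) → Fin n), Continuous c →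
      Function.Surjective c → n ≤ d := by
    intro n c hc hs
    have hmeet : ∀ j, ∃ p, f p = q₀ ∧ c p = j := by
      intro j
      have hclopen : IsClopen (f '' (c ⁻¹' {j})) :=
        ⟨ZCLib.isClosedMap_comap_self F _ ((isClosed_discrete {j}).preimage hc),
          ZCLib.isOpenMap_comap_self F _ ((isOpen_discrete {j}).preimage hc)⟩
      obtain ⟨x, hx⟩ := hs j
      have hmem : q₀ ∈ f '' (c ⁻¹' {j}) := by
        have hne : (f '' (c ⁻¹' {j})).Nonempty := ⟨f x, x, hx, rfl⟩
        rw [IsClopen.eq_univ ⟨ZCLib.isClosedMap_comap_self F _ ((isClosed_discrete {j}).preimage hc),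
          ZCLib.isOpenMap_comap_self F _ ((isOpen_discrete {j}).preimage hc)⟩ hne]
        exact Set.mem_univ _
      obtain ⟨p, hp, hpq⟩ := hmem
      exact ⟨p, hpq, hp⟩
    choose p hp hcp using hmeet
    obtain ⟨hfin, hcard⟩ := ZCLib.fibre_finite_self F q₀
    haveI := hfin.to_subtype
    have h := Nat.card_le_card_of_injective (fun j => (⟨p j, hp j⟩ : f ⁻¹' {q₀}))
      fun i j hij => by have := congrArg (fun x => c x.1) hij; simpa [hcp] using this
    rw [Nat.card_eq_fintype_card, Fintype.card_fin] at h
    exact h.trans hcard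
  rcases isEmpty_or_nonempty (PrimeSpectrum (PolLaw.image F.law)) with hX | hX
  · haveI : IsEmpty (ConnectedComponents (PrimeSpectrum (PolLaw.image F.law))) :=
      ⟨fun x => by obtain ⟨y, -⟩ := ConnectedComponents.surjective_coe x; exact hX.false y⟩
    exact ⟨inferInstance, by simp⟩
  let P : ℕ → Prop := fun n =>
    ∃ c : PrimeSpectrum (PolLaw.image F.law) → Fin n, Continuous c ∧ Function.Surjective c
  have hP1 : P 1 := ⟨fun _ => 0, continuous_const, fun j => ⟨hX.some, Subsingleton.elim _ _⟩⟩
  have hd1 : 1 ≤ d := hP1.elim fun c1 h1 => hbound 1 c1 h1.1 h1.2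
  obtain ⟨n, hn⟩ : ∃ n, n = Nat.findGreatest P d := ⟨_, rfl⟩
  obtain ⟨c, hc, hs⟩ : P n := hn ▸ Nat.findGreatest_spec hd1 hP1
  have hpre : ∀ j, IsPreconnected (c ⁻¹' {j}) := by
    intro j
    rw [isPreconnected_iff_subset_of_disjoint]
    intro U V hU hV hsub hdisj
    by_contra hcon
    simp only [not_or, Set.not_subset] at hcon
    obtain ⟨⟨a, ha, haU⟩, ⟨b, hb, hbV⟩⟩ := hcon
    let c' : PrimeSpectrum (PolLaw.image F.law) → Fin (n + 1) := fun x =>
      if x ∈ c ⁻¹' {j} ∩ U then Fin.last n else (c x).castSucc
    have hclop : IsClopen (c ⁻¹' {j} ∩ U) := by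
      refine ⟨?_, ((isOpen_discrete {j}).preimage hc).inter hU⟩
      have : c ⁻¹' {j} ∩ U = c ⁻¹' {j} \ V := by
        ext x
        refine ⟨fun ⟨h1, h2⟩ => ⟨h1, fun h3 => ?_⟩, fun ⟨h1, h2⟩ => ⟨h1, (hsub h1).resolve_right h2⟩⟩
        exact (hdisj.subset ⟨h1, h2, h3⟩ : x ∈ (∅ : Set _))
      rw [this]
      exact ((isClosed_discrete {j}).preimage hc).sdiff hV
    have hc' : Continuous c' := by
      refine continuous_if ?_ continuousOn_const (continuous_of_discreteTopology.comp hc).continuousOn
      rw [show {x | x ∈ c ⁻¹' {j} ∩ U} = c ⁻¹' {j} ∩ U from rfl, hclop.frontier_eq]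
      simp
    have hs' : Function.Surjective c' := by
      intro k
      induction k using Fin.lastCases with
      | last => exact ⟨b, if_pos ⟨hb, (hsub hb).resolve_right hbV⟩⟩
      | cast k =>
        by_cases hk : k = j
        · subst hk
          exact ⟨a, by show (if _ then _ else _) = _; rw [if_neg fun h => haU h.2, show c a = k from ha]⟩
        · obtain ⟨x, rfl⟩ := hs k
          exact ⟨x, if_neg fun h => hk h.1⟩
    have hle : n + 1 ≤ d := hbound _ c' hc' hs'
    have : n + 1 ≤ Nat.findGreatest P d := Nat.le_findGreatest (P := P) hle ⟨c', hc', hs'⟩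
    omega
  choose sec hsec using hs
  have hsurj : Function.Surjective
      (fun j => (ConnectedComponents.mk (sec j) : ConnectedComponents (PrimeSpectrum (PolLaw.image F.law)))) := by
    intro x
    obtain ⟨y, rfl⟩ := ConnectedComponents.surjective_coe x
    refine ⟨c y, ConnectedComponents.coe_eq_coe'.2 ?_⟩
    exact (hpre (c y)).subset_connectedComponent (show c y ∈ ({c y} : Set _) from rfl) (hsec (c y))
  exact ⟨Finite.of_surjective _ hsurj, (Nat.card_le_card_of_surjective _ hsurj).trans
    (by rw [Nat.card_eq_fintype_card, Fintype.card_fin]; exact hn ▸ Nat.findGreatest_le d)⟩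

end Groth.Agent.S13727
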