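import Groth.Statements.S13728
import Groth.Agent.ZCLib.Norm
import Mathlib.LinearAlgebra.DFinsupp
import Mathlib.Order.Directed
import Mathlib.Data.Finset.Order

set_option autoImplicit false
universe u
open scoped TensorProduct
open ZeroCyc

namespace Groth.Agent.S13728

open PiTensorProduct in
/-- Vanishing in the tensor power of a filtered limit happens at a finite stage. -/
theorem exists_map_eq_zero {A : Type u} [CommRing A] {B : Type u} [AddCommGroup B] [Module A B]
    {ι : Type u} [Preorder ι] [IsDirected ι (fun i j => i ≤ j)] [Nonempty ι]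
    (Bi : ι → Type u) [∀ i, AddCommGroup (Bi i)] [∀ i, Module A (Bi i)]
    (t : ∀ i j : ι, i ≤ j → (Bi i →ₗ[A] Bi j)) (φ : ∀ i : ι, Bi i →ₗ[A] B)
    (hcomp : ∀ (i j : ι) (h : i ≤ j) (x : Bi i), φ j (t i j h x) = φ i x)
    (hsurj : ∀ b : B, ∃ (i : ι) (x : Bi i), φ i x = b)
    (hzero : ∀ (i : ι) (x : Bi i), φ i x = 0 → ∃ (j : ι) (h : i ≤ j), t i j h x = 0)
    (htrans : ∀ (i j k : ι) (hij : i ≤ j) (hjk : j ≤ k) (x : Bi i),
      t j k hjk (t i j hij x) = t i k (hij.trans hjk) x) (d : ℕ) {L : Type} [Finite L] (i : ι)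
    (z : L → ⨂[A] _ : Fin d, Bi i) (hz : ∀ l, PiTensorProduct.map (fun _ : Fin d => φ i) (z l) = 0) :
    ∃ (j : ι) (h : i ≤ j), ∀ l, PiTensorProduct.map (fun _ : Fin d => t i j h) (z l) = 0 := by
  classical
  let g : (Π₀ k, Bi k) →ₗ[A] B := DFinsupp.lsum ℕ φ
  have hg : ∀ k x, g (DFinsupp.single k x) = φ k x := fun k x => DFinsupp.lsum_single _ _ _ _
  have hgs : Function.Surjective g := fun b => by
    obtain ⟨k, x, rfl⟩ := hsurj b
    exact ⟨_, hg k x⟩
  obtain ⟨V, hV, hVz⟩ := ZCLib.exists_witness g hgs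
    (fun l => PiTensorProduct.map (fun _ : Fin d => DFinsupp.lsingle (R := A) (M := Bi) i) (z l))
    (fun l => by
      rw [ZCLib.map_map, show g ∘ₗ DFinsupp.lsingle (R := A) (M := Bi) i = φ i from
        LinearMap.ext fun x => hg i x, hz l])
  let hj : ∀ j : ι, (Π₀ k, Bi k) →ₗ[A] Bi j := fun j =>
    DFinsupp.lsum ℕ fun k => if h : k ≤ j then t k j h else 0
  have hj1 : ∀ j k x (h : k ≤ j), hj j (DFinsupp.single k x) = t k j h x := fun j k x h =>
    (DFinsupp.lsum_single _ _ _ _).trans (by rw [dif_pos h])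
  obtain ⟨j₀, hj₀⟩ := Finset.exists_le (insert i (V.biUnion fun v => v.support))
  have hexp : ∀ (v : Π₀ k, Bi k) (f : (Π₀ k, Bi k) →ₗ[A] B) , f v =
      ∑ k ∈ v.support, f (DFinsupp.single k (v k)) := fun v f => by
    rw [← map_sum]
    exact congrArg f v.sum_single.symm
  have hkill : ∀ v ∈ V, ∀ (k : ι) (hk : j₀ ≤ k), hj k v = t j₀ k hk (hj j₀ v) := by
    intro v hv k hk
    conv_lhs => rw [← v.sum_single]
    conv_rhs => rw [← v.sum_single]
    simp only [DFinsupp.sum, map_sum]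
    refine Finset.sum_congr rfl fun l hl => ?_
    have hlj : l ≤ j₀ := hj₀ l (Finset.mem_insert_of_mem (Finset.mem_biUnion.2 ⟨v, hv, hl⟩))
    rw [hj1 k l _ (hlj.trans hk), hj1 j₀ l _ hlj, htrans]
  have hphi : ∀ v ∈ V, φ j₀ (hj j₀ v) = 0 := by
    intro v hv
    rw [← LinearMap.comp_apply, hexp v, ← hV v hv, hexp v g]
    refine Finset.sum_congr rfl fun l hl => ?_
    have hlj : l ≤ j₀ := hj₀ l (Finset.mem_insert_of_mem (Finset.mem_biUnion.2 ⟨v, hv, hl⟩))
    rw [LinearMap.comp_apply, hj1 j₀ l _ hlj, hcomp, hg]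
  choose J hJ hJ0 using fun (v : {v // v ∈ V}) => hzero j₀ _ (hphi v.1 v.2)
  obtain ⟨j, hj'⟩ := Finset.exists_le (insert j₀ (Finset.univ.image J))
  have h0 : j₀ ≤ j := hj' j₀ (Finset.mem_insert_self _ _)
  have hij : i ≤ j := (hj₀ i (Finset.mem_insert_self _ _)).trans h0
  refine ⟨j, hij, fun l => ?_⟩
  have h := hVz (Bi j) (hj j) (fun v hv => by
    rw [hkill v hv j h0, ← htrans j₀ (J ⟨v, hv⟩) j (hJ ⟨v, hv⟩)
      (hj' _ (Finset.mem_insert_of_mem (Finset.mem_image_of_mem J (Finset.mem_univ _)))),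
      hJ0 ⟨v, hv⟩, map_zero]) l
  rwa [ZCLib.map_map, show hj j ∘ₗ DFinsupp.lsingle (R := A) (M := Bi) i = t i j hij from
    LinearMap.ext fun x => hj1 j i x hij] at h

/-- The functor B ↦ TS^d_A(B) (symmetric tensors of degree d, the invariants of the symmetric group in
the d-fold tensor power) commutes with filtered direct limits. Concretely, let B be the direct limit
of a directed system (B_i, t_ij : B_i → B_j) of commutative algebras over the commutative ring A
(t_ii the identity, t_jk ∘ t_ij = t_ik) with structure maps φ_i : B_i → B (compatible with the t_ij,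
jointly surjective, and an element of B_i vanishing in B vanishes in some B_j). Then every element
of TS^d_A(B) is the image of an element of some TS^d_A(B_i), and an element of TS^d_A(B_i) whose
image in TS^d_A(B) is zero has image zero in TS^d_A(B_j) for some j ≥ i. -/
theorem result {A : Type u} [CommRing A] {B : Type u} [CommRing B] [Algebra A B]
    {ι : Type u} [Preorder ι] [IsDirected ι (fun i j => i ≤ j)] [Nonempty ι]
    (Bi : ι → Type u) [∀ i, CommRing (Bi i)] [∀ i, Algebra A (Bi i)]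
    (t : ∀ i j : ι, i ≤ j → (Bi i →ₐ[A] Bi j)) (φ : ∀ i : ι, Bi i →ₐ[A] B)
    (hcomp : ∀ (i j : ι) (h : i ≤ j), (φ j).comp (t i j h) = φ i)
    (hsurj : ∀ b : B, ∃ (i : ι) (x : Bi i), φ i x = b)
    (hzero : ∀ (i : ι) (x : Bi i), φ i x = 0 → ∃ (j : ι) (h : i ≤ j), t i j h x = 0)
    (hid : ∀ (i : ι) (h : i ≤ i), t i i h = AlgHom.id A (Bi i))
    (htrans : ∀ (i j k : ι) (hij : i ≤ j) (hjk : j ≤ k), (t j k hjk).comp (t i j hij) = t i k (hij.trans hjk)) (d : ℕ) :
    (∀ z : SymTen.TS A B d, ∃ (i : ι) (y : SymTen.TS A (Bi i) d), SymTen.TSmap A d (φ i) y = z) ∧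
      ∀ (i : ι) (y : SymTen.TS A (Bi i) d), SymTen.TSmap A d (φ i) y = 0 →
        ∃ (j : ι) (h : i ≤ j), SymTen.TSmap A d (t i j h) y = 0 := by
  classical
  have key := fun (L : Type) (_ : Finite L) (i : ι) (z : L → ⨂[A] _ : Fin d, Bi i) hz =>
    exists_map_eq_zero Bi (fun i j h => (t i j h).toLinearMap) (fun i => (φ i).toLinearMap)
      (fun i j h x => AlgHom.congr_fun (hcomp i j h) x) hsurj hzero
      (fun i j k hij hjk x => AlgHom.congr_fun (htrans i j k hij hjk) x) d (L := L) i z hz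
  refine ⟨fun z => ?_, fun i y hy => ?_⟩
  · have hlift : ∀ w : ⨂[A] _ : Fin d, B, ∃ (i : ι) (w' : ⨂[A] _ : Fin d, Bi i),
        SymTen.tmap A d (φ i) w' = w := by
      intro w
      induction w using PiTensorProduct.induction_on with
      | smul_tprod r b =>
        choose k x hx using fun l => hsurj (b l)
        obtain ⟨i, hi⟩ := Finset.exists_le (Finset.univ.image k)
        refine ⟨i, r • PiTensorProduct.tprod A fun l =>
          t (k l) i (hi _ (Finset.mem_image_of_mem k (Finset.mem_univ l))) (x l), ?_⟩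
        rw [map_smul, SymTen.tmap_tprod]
        congr 2
        funext l
        rw [← AlgHom.comp_apply, hcomp, hx]
      | add a b ha hb =>
        obtain ⟨i₁, a', ha⟩ := ha
        obtain ⟨i₂, b', hb⟩ := hb
        obtain ⟨i, h₁, h₂⟩ := exists_ge_ge i₁ i₂
        have hm : ∀ (k : ι) (h : k ≤ i) (w : ⨂[A] _ : Fin d, Bi k),
            SymTen.tmap A d (φ i) (SymTen.tmap A d (t k i h) w) = SymTen.tmap A d (φ k) w := by
          intro k h w
          rw [ZCLib.tmap_eq_map, ZCLib.tmap_eq_map, ZCLib.tmap_eq_map, ZCLib.map_map,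
            ← AlgHom.comp_toLinearMap, hcomp]
        exact ⟨i, SymTen.tmap A d (t i₁ i h₁) a' + SymTen.tmap A d (t i₂ i h₂) b', by
          rw [map_add, hm, hm, ha, hb]⟩
    obtain ⟨i, w, hw⟩ := hlift (z : ⨂[A] _ : Fin d, B)
    obtain ⟨j, hij, hj⟩ := key (Equiv.Perm (Fin d)) inferInstance i
      (fun σ => PiTensorProduct.reindex A (fun _ : Fin d => Bi i) σ w - w) (fun σ => by
        rw [map_sub, ← ZCLib.tmap_eq_map, ← ZCLib.tmap_eq_map, SymTen.tmap_reindex, hw, z.2 σ,
          sub_self])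
    refine ⟨j, ⟨SymTen.tmap A d (t i j hij) w, fun σ => ?_⟩, Subtype.ext ?_⟩
    · have h := hj σ
      rw [← ZCLib.tmap_eq_map, map_sub, SymTen.tmap_reindex, sub_eq_zero] at h
      exact h
    · show SymTen.tmap A d (φ j) (SymTen.tmap A d (t i j hij) w) = _
      rw [ZCLib.tmap_eq_map, ZCLib.tmap_eq_map, ZCLib.map_map, ← AlgHom.comp_toLinearMap, hcomp,
        ← ZCLib.tmap_eq_map, hw]
  · obtain ⟨j, hij, hj⟩ := key Unit inferInstance i (fun _ => (y : ⨂[A] _ : Fin d, Bi i))
      (fun _ => by rw [← ZCLib.tmap_eq_map]; exact congrArg Subtype.val hy)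
    refine ⟨j, hij, Subtype.ext ?_⟩
    show SymTen.tmap A d (t i j hij) _ = 0
    rw [ZCLib.tmap_eq_map]
    exact hj ()

end Groth.Agent.S13728
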