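import Groth.Statements.S1373
import Groth.Agent.MiscFlat6.OpenAffineSpace
-- import your own Groth.Agent.* helpers here

set_option autoImplicit false
universe u
open FlatMor

namespace Groth.Agent.S1373

open AlgebraicGeometry CategoryTheory Limits in
/-- (1) ⇔ (3): a morphism f : X → S is universally open if and only if for every n the induced morphism
from affine n-space over X to affine n-space over S is open. -/
theorem result {X S : Scheme.{u}} (f : X ⟶ S) :
    UniversallyOpen f ↔ ∀ n : ℕ, IsOpenMap ⇑(AffineSpace.map (ULift.{u} (Fin n)) f) := by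
  constructor
  · intro h n
    haveI : UniversallyOpen (AffineSpace.map (ULift.{u} (Fin n)) f) :=
      MorphismProperty.of_isPullback (P := @UniversallyOpen) (AffineSpace.isPullback_map f).flip h
    exact (AffineSpace.map (ULift.{u} (Fin n)) f).isOpenMap
  · intro h
    choose U hU hxU using fun x : X => show ∃ U : S.Opens, IsAffineOpen U ∧ f.base x ∈ U by
      obtain ⟨_, ⟨U, hU, rfl⟩, hxU, -⟩ := S.isBasis_affineOpens.exists_subset_of_mem_open (Set.mem_univ (f.base x)) isOpen_univ
      exact ⟨U, hU, hxU⟩
    choose W hW hxW e using fun x : X => show ∃ W : X.Opens, IsAffineOpen W ∧ x ∈ W ∧ W ≤ f ⁻¹ᵁ U x by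
      obtain ⟨_, ⟨W, hW, rfl⟩, hxW, hWU⟩ :=
        X.isBasis_affineOpens.exists_subset_of_mem_open (show x ∈ f ⁻¹ᵁ U x from hxU x) (f ⁻¹ᵁ U x).2
      exact ⟨W, hW, hxW, hWU⟩
    refine (IsZariskiLocalAtSource.iff_of_openCover (P := @UniversallyOpen)
      (X.openCoverOfIsOpenCover W (top_le_iff.mp fun x _ => TopologicalSpace.Opens.mem_iSup.mpr ⟨x, hxW x⟩))).mpr fun x => ?_
    have hφ : UniversallyOpen (Spec.map (f.appLE (U x) (W x) (e x))) := by
      refine MiscFlat6.universallyOpen_SpecMap _ fun n => ?_
      let ν := ULift.{u} (Fin n)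
      haveI hWi : IsOpenImmersion (AffineSpace.map ν (hW x).fromSpec) :=
        MorphismProperty.of_isPullback (P := @IsOpenImmersion) (AffineSpace.isPullback_map (hW x).fromSpec).flip inferInstance
      haveI hUi : IsOpenImmersion (AffineSpace.map ν (hU x).fromSpec) :=
        MorphismProperty.of_isPullback (P := @IsOpenImmersion) (AffineSpace.isPullback_map (hU x).fromSpec).flip inferInstance
      have hcomm : AffineSpace.map ν (Spec.map (f.appLE (U x) (W x) (e x))) ≫ AffineSpace.map ν (hU x).fromSpec =
          AffineSpace.map ν (hW x).fromSpec ≫ AffineSpace.map ν f := by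
        rw [← AffineSpace.map_comp, ← AffineSpace.map_comp, IsAffineOpen.SpecMap_appLE_fromSpec]
      intro s hs
      have h1 := h n _ ((AffineSpace.map ν (hW x).fromSpec).isOpenEmbedding.isOpenMap s hs)
      have h2 := h1.preimage (AffineSpace.map ν (hU x).fromSpec).continuous
      convert h2 using 1
      rw [← Set.image_comp]
      have he : ⇑(AffineSpace.map ν f) ∘ ⇑(AffineSpace.map ν (hW x).fromSpec) =
          ⇑(AffineSpace.map ν (hU x).fromSpec) ∘ ⇑(AffineSpace.map ν (Spec.map (f.appLE (U x) (W x) (e x)))) :=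
        funext fun z => congr($(hcomm.symm).base z)
      rw [he, Set.image_comp, Set.preimage_image_eq _ (AffineSpace.map ν (hU x).fromSpec).isOpenEmbedding.injective]
    show UniversallyOpen ((W x).ι ≫ f)
    have e0 : (W x).ι ≫ f = (hW x).isoSpec.hom ≫ Spec.map (f.appLE (U x) (W x) (e x)) ≫ (hU x).fromSpec := by
      rw [IsAffineOpen.SpecMap_appLE_fromSpec f (hU x) (hW x) (e x), IsAffineOpen.isoSpec_hom_fromSpec_assoc]
    rw [e0]
    infer_instance

end Groth.Agent.S1373
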