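import Groth.Statements.S1454
import Mathlib
import Groth.Agent.UOpenLib.Unibranch
import Groth.Agent.S4928
import Groth.Agent.DvrDom.Points

set_option autoImplicit false
universe u
open FlatMor

namespace Groth.Agent.S1454

open AlgebraicGeometry CategoryTheory Limits in
/-- Consider a locally quasi-finite f : X → Y whose target is locally Noetherian with geometrically
unibranch local rings, and assume every irreducible component of X dominates an irreducible
component of Y (its generic point maps to a generic point of an irreducible component of Y). Then f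
is universally open. -/
theorem result {X Y : Scheme.{u}} (f : X ⟶ Y) [LocallyQuasiFinite f] [LocallyOfFiniteType f] [IsLocallyNoetherian Y]
    (hY : ∀ y : Y, CAlg2.IsGeomUnibranch (Y.presheaf.stalk y))
    (hdom : ∀ Z ∈ irreducibleComponents ↑X, ∀ x : X, IsGenericPoint x Z → ∃ W ∈ irreducibleComponents ↑Y, IsGenericPoint (f x) W) :
    UniversallyOpen f := by
  refine ⟨fun P Y' i₁ g f' sq => ?_⟩
  show IsOpenMap f'.base
  suffices H : ∀ x : X, EGA43.IsUnivOpenAt f x by
    intro U hU
    rw [isOpen_iff_mem_nhds]
    rintro _ ⟨w, hw, rfl⟩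
    exact UOpenLib.IsUnivOpenAt.isOpenAt (H _) sq.flip w rfl U (hU.mem_nhds hw)
  intro x
  have : LocallyOfFinitePresentation f := UOpenLib.locallyOfFinitePresentation_of_isLocallyNoetherian f
  let y := f.base x
  let O := Y.presheaf.stalk y
  let a := Y.fromSpecStalk y
  obtain ⟨x₁, hx₁, hx₁c⟩ := Scheme.Pullback.exists_preimage_pullback (f := f) (g := a) x
    (IsLocalRing.closedPoint O) (Scheme.fromSpecStalk_closedPoint).symm
  refine (Groth.Agent.S4928.result f x x₁ hx₁).mpr ?_
  obtain ⟨ζ, hζ, hζx⟩ := DvrDomLib.exists_generic_specializes x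
  obtain ⟨W, hW, hgen⟩ := hdom _ hζ ζ rfl
  obtain ⟨p, hp⟩ : f.base ζ ∈ Set.range a.base := by
    rw [Scheme.range_fromSpecStalk]
    exact hζx.map f.continuous
  obtain ⟨ζ₁, hζ₁, hζ₁p⟩ := Scheme.Pullback.exists_preimage_pullback (f := f) (g := a) ζ p hp.symm
  have hsp : ζ₁ ⤳ x₁ := by
    rw [← (pullback.fst f a).isEmbedding.isInducing.specializes_iff, hζ₁, hx₁]
    exact hζx
  have hu := hY y
  have : IsDomain (CAlg2.red O) := hu.1.1
  have hnil : (nilradical O).IsPrime := (Ideal.Quotient.isDomain_iff_prime _).mp hu.1.1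
  refine UOpenLib.isUnivOpenAt_of_quasiFinite_local O hu (pullback.snd f a) x₁ hx₁c ζ₁ hsp ?_
  rw [hζ₁p]
  let n : ↥(Spec O) := (⟨nilradical O, hnil⟩ : PrimeSpectrum O)
  have hn : n ⤳ p :=
    (PrimeSpectrum.le_iff_specializes _ _).mp
      (show nilradical O ≤ (p : PrimeSpectrum O).asIdeal from nilradical_le_prime _)
  have hnW : a.base n ∈ W := by
    have hle : W ⊆ closure {a.base n} := by
      rw [← hgen.def, ← hp]
      exact specializes_iff_closure_subset.mp (hn.map a.continuous)
    exact hW.2 (IsIrreducible.closure isIrreducible_singleton) hle (subset_closure rfl)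
  have : a.base n = a.base p := (hn.map a.continuous).antisymm (hp ▸ hgen.specializes hnW) |>.eq
  have := a.isEmbedding.injective this
  rw [← this]

end Groth.Agent.S1454
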