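import Groth.Statements.S13736
import Groth.Agent.S13731
import Groth.Agent.S1454

set_option autoImplicit false
universe u
open HTop

namespace Groth.Agent.S13736

open CategoryTheory CategoryTheory.Limits AlgebraicGeometry in
/-- Let X be a separated irreducible Noetherian scheme whose local rings are all geometrically
unibranch, and {p_i : U_i → X} a finite family of separated quasi-finite morphisms of finite type
with every U_i irreducible. Then the induced morphism from the disjoint union of the U_i to X is
universally submersive (a qfh-covering) if and only if the dominant members p_i are jointly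
surjective onto X; in that case the induced morphism from the disjoint union of the dominant members
alone is already universally submersive. (The published statement does not require the U_i
irreducible; for the affine line X over a field and the single member U = (X minus a closed point) ⊔
(that point) → X, which is dominant and surjective, the quotient property fails, and the published
proof uses that every irreducible component of a dominant member dominates X, so the members are
taken irreducible here.) -/
theorem result {X : Scheme.{u}} [IsNoetherian X] [X.IsSeparated] [IrreducibleSpace ↥X] (hX : ∀ x : X, CAlg2.IsGeomUnibranch (X.presheaf.stalk x)) (E : PreZeroHypercover.{u} X) [Finite E.I₀] [∀ i, LocallyOfFiniteType (E.f i)] [∀ i, QuasiCompact (E.f i)] [∀ i, LocallyQuasiFinite (E.f i)] [∀ i, IsSeparated (E.f i)] [∀ i, IrreducibleSpace ↥(E.X i)] : (SGA1.UnivSubmersive (Sigma.desc E.f) ↔ ∀ x : X, ∃ (i : E.I₀) (u : E.X i), IsDominant (E.f i) ∧ E.f i u = x) ∧ ((∀ x : X, ∃ (i : E.I₀) (u : E.X i), IsDominant (E.f i) ∧ E.f i u = x) → SGA1.UnivSubmersive (Sigma.desc fun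 j : {i : E.I₀ // IsDominant (E.f i)} => E.f j.1)) := by
  have hirr : ∀ {T : Scheme.{u}} [IrreducibleSpace ↥T], irreducibleComponents ↥T = {Set.univ} := fun {T} _ => by
    ext Z
    refine ⟨fun hZ => Set.eq_univ_of_univ_subset (hZ.2 (IrreducibleSpace.isIrreducible_univ _) (Set.subset_univ Z)),
      ?_⟩
    rintro rfl
    exact ⟨IrreducibleSpace.isIrreducible_univ _, fun _ _ _ => Set.subset_univ _⟩
  have key : (∀ x : X, ∃ (i : E.I₀) (u : E.X i), IsDominant (E.f i) ∧ E.f i u = x) →
      SGA1.UnivSubmersive (Sigma.desc fun j : {i : E.I₀ // IsDominant (E.f i)} => E.f j.1) := by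
    intro H
    let F := fun j : {i : E.I₀ // IsDominant (E.f i)} => E.f j.1
    have hopen : ∀ j, UniversallyOpen (F j) := fun j => by
      refine Groth.Agent.S1454.result (F j) hX fun Z hZ y hy => ?_
      rw [hirr] at hZ ⊢
      obtain rfl : Z = Set.univ := hZ
      refine ⟨Set.univ, rfl, ?_⟩
      have h1 := hy.image (F j).continuous
      haveI : IsDominant (F j) := j.2
      rwa [Set.image_univ, (F j).denseRange.closure_range] at h1
    haveI : UniversallyOpen (Sigma.desc F) := IsZariskiLocalAtSource.sigmaDesc hopen
    haveI : Surjective (Sigma.desc F) := ⟨fun x => by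
      obtain ⟨i, v, hi, rfl⟩ := H x
      refine ⟨Sigma.ι (fun j : {i : E.I₀ // IsDominant (E.f i)} => E.X j.1) ⟨i, hi⟩ v, ?_⟩
      rw [← Scheme.Hom.comp_apply, Sigma.ι_desc]⟩
    intro X' Y' i₁ i₂ a sq
    haveI : UniversallyOpen a := MorphismProperty.of_isPullback (P := @UniversallyOpen) sq.flip ‹_›
    haveI : Surjective a := MorphismProperty.of_isPullback (P := @Surjective) sq.flip ‹_›
    exact IsOpenMap.isQuotientMap a.isOpenMap a.continuous a.surjective
  refine ⟨⟨fun hE x => ?_, fun H => ?_⟩, key⟩
  · obtain ⟨i, ξ, v, -, hv, hcl⟩ := Groth.Agent.S13731.result E hE x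
    rw [hirr] at hcl
    refine ⟨i, v, ⟨?_⟩, hv⟩
    refine dense_iff_closure_eq.2 (Set.eq_univ_of_univ_subset ?_)
    rw [← show closure {E.f i ξ} = Set.univ from hcl]
    exact closure_mono (Set.singleton_subset_iff.2 ⟨ξ, rfl⟩)
  · intro X' Y' i₁ i₂ a sq
    let r := Sigma.desc (fun j : {i : E.I₀ // IsDominant (E.f i)} => Sigma.ι E.X j.1)
    have hr : r ≫ Sigma.desc E.f = Sigma.desc (fun j : {i : E.I₀ // IsDominant (E.f i)} => E.f j.1) :=
      Sigma.hom_ext _ _ fun j => by simp [r]
    have sq' : IsPullback (pullback.snd r i₁ ≫ a) (pullback.fst r i₁) i₂ (r ≫ Sigma.desc E.f) :=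
      (IsPullback.of_hasPullback r i₁).flip.paste_horiz sq
    exact Topology.IsQuotientMap.of_comp (pullback.snd r i₁).continuous a.continuous
      (key H (pullback.fst r i₁) i₂ (pullback.snd r i₁ ≫ a) (hr ▸ sq'))

end Groth.Agent.S13736
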