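import Groth.Statements.S13738
import Mathlib

set_option autoImplicit false
universe u
open SGA1

namespace Groth.Agent.S13738

open CategoryTheory CategoryTheory.Limits AlgebraicGeometry in
/-- Let S be a separated irreducible Noetherian scheme, q : X → S finite and surjective with X
separated, and G a finite group acting on X by S-automorphisms, transitively on the geometric points
of X over every geometric point of S. Then every irreducible component of X maps onto S and G acts
transitively on the set of irreducible components of X. -/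
theorem result {X S : Scheme.{u}} [IsNoetherian S] [S.IsSeparated] [X.IsSeparated] [IrreducibleSpace ↥S] (q : X ⟶ S) [IsFinite q] [Surjective q] {G : Type u} [Group G] [Finite G] (ρ : G →* Aut X) (hρ : ∀ g : G, (ρ g).hom ≫ q = q) (htrans : ∀ (Ω : Type u) [Field Ω] [IsAlgClosed Ω] (τ₁ τ₂ : Spec (CommRingCat.of Ω) ⟶ X), τ₁ ≫ q = τ₂ ≫ q → ∃ g : G, τ₁ ≫ (ρ g).hom = τ₂) : (∀ T ∈ irreducibleComponents ↥X, Set.image (fun x => q x) T = Set.univ) ∧ ∀ T₁ ∈ irreducibleComponents ↥X, ∀ T₂ ∈ irreducibleComponents ↥X, ∃ g : G, Set.image (fun x => (ρ g).hom x) T₁ = T₂ := by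
  have htr : ∀ x y : X, q x = q y → ∃ g : G, (ρ g).hom x = y := by
    intro x y hxy
    obtain ⟨w, hw1, hw2⟩ := Scheme.Pullback.exists_preimage_pullback (f := q) (g := q) x y hxy
    let Ω := AlgebraicClosure ((pullback q q).residueField w)
    let a : Spec (CommRingCat.of Ω) ⟶ pullback q q :=
      Spec.map (CommRingCat.ofHom (algebraMap ((pullback q q).residueField w) Ω)) ≫ (pullback q q).fromSpecResidueField w
    obtain ⟨g, hg⟩ := htrans Ω (a ≫ pullback.fst q q) (a ≫ pullback.snd q q) (by
      rw [Category.assoc a, Category.assoc a, pullback.condition])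
    obtain ⟨p⟩ : Nonempty (Spec (CommRingCat.of Ω)) := inferInstance
    have ha : a p = w := by
      have : a p ∈ Set.range ((pullback q q).fromSpecResidueField w) := ⟨_, rfl⟩
      rw [Scheme.range_fromSpecResidueField] at this
      exact this
    refine ⟨g, ?_⟩
    have h1 := congrArg (fun m => m p) hg
    simp only [Scheme.Hom.comp_apply, ha, hw1, hw2] at h1
    exact h1
  haveI : IsNoetherian X := by
    haveI := LocallyOfFiniteType.isLocallyNoetherian q
    haveI : CompactSpace ↥X := QuasiCompact.compactSpace_of_compactSpace q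
    exact ⟨⟩
  have hfin : (irreducibleComponents ↥X).Finite := TopologicalSpace.NoetherianSpace.finite_irreducibleComponents
  have hq : Continuous (fun x => q x) := q.continuous
  obtain ⟨T₀, hT₀, hT₀s⟩ : ∃ T₀ ∈ irreducibleComponents ↥X, Set.image (fun x => q x) T₀ = Set.univ := by
    have hη : ∃ x : X, q x = genericPoint ↥S := q.surjective _
    obtain ⟨x, hx⟩ := hη
    obtain ⟨T, hT, hxT⟩ : ∃ T ∈ irreducibleComponents ↥X, x ∈ T :=
      ⟨irreducibleComponent x, irreducibleComponent_mem_irreducibleComponents x, mem_irreducibleComponent⟩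
    refine ⟨T, hT, Set.eq_univ_of_univ_subset ?_⟩
    rw [← genericPoint_spec S]
    exact closure_minimal (Set.singleton_subset_iff.2 ⟨x, hxT, hx⟩)
      (q.isClosedMap _ (isClosed_of_mem_irreducibleComponents T hT))
  have hmove : ∀ T ∈ irreducibleComponents ↥X, ∃ g : G, Set.image (fun x => (ρ g).hom x) T₀ = T := by
    intro T hT
    let e : G → Set ↥X := fun g => Set.image (fun x => (ρ g).hom x) T₀
    have hsub : T ⊆ ⋃ g : G, e g := fun y _ => by
      obtain ⟨x, hxT, hx⟩ := hT₀s.ge (Set.mem_univ (q y))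
      obtain ⟨g, hg⟩ := htr x y hx
      exact Set.mem_iUnion.2 ⟨g, x, hxT, hg⟩
    have hirr : ∀ g, e g ∈ irreducibleComponents ↥X := fun g =>
      image_mem_irreducibleComponents_of_isPreirreducible_fiber _
        (ρ g).hom.continuous (Scheme.Hom.homeomorph (ρ g).hom).isOpenMap
        (fun _ => (Set.subsingleton_singleton.preimage (Scheme.Hom.homeomorph (ρ g).hom).injective).isPreirreducible)
        (Scheme.Hom.homeomorph (ρ g).hom).surjective hT₀
    haveI := Fintype.ofFinite G
    obtain ⟨z, hz, hzT⟩ := (isIrreducible_iff_sUnion_isClosed.1 hT.1) (Finset.univ.image e)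
      (fun z hz => by
        obtain ⟨g, -, rfl⟩ := Finset.mem_image.1 hz
        exact isClosed_of_mem_irreducibleComponents _ (hirr g))
      (fun y hy => by
        obtain ⟨g, hg⟩ := Set.mem_iUnion.1 (hsub hy)
        exact Set.mem_sUnion.2 ⟨e g, Finset.mem_coe.2 (Finset.mem_image.2 ⟨g, Finset.mem_univ _, rfl⟩), hg⟩)
    obtain ⟨g, -, rfl⟩ := Finset.mem_image.1 hz
    exact ⟨g, (hT.2 (hirr g).1 hzT).antisymm hzT⟩
  refine ⟨fun T hT => ?_, fun T₁ h₁ T₂ h₂ => ?_⟩
  · obtain ⟨g, rfl⟩ := hmove T hT
    rw [Set.image_image, ← hT₀s]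
    refine Set.image_congr fun x _ => ?_
    rw [← Scheme.Hom.comp_apply, hρ]
  · obtain ⟨g₁, rfl⟩ := hmove T₁ h₁
    obtain ⟨g₂, rfl⟩ := hmove T₂ h₂
    refine ⟨g₂ * g₁⁻¹, ?_⟩
    rw [Set.image_image]
    refine Set.image_congr fun x _ => ?_
    rw [← Scheme.Hom.comp_apply]
    congr 2
    simp [Aut.Aut_mul_def, map_mul, map_inv, Aut.Aut_inv_def]

end Groth.Agent.S13738
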