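import Groth.Statements.S13740
import Groth.Agent.CycBivLib.Disjoint
-- import your own Groth.Agent.* helpers here

set_option autoImplicit false
set_option maxHeartbeats 2000000
set_option backward.isDefEq.respectTransparency false
universe w u
open SGA1

namespace Groth.Agent.S13740

open CategoryTheory CategoryTheory.Limits AlgebraicGeometry

theorem univSubmersive_of_finite_surjective {X S : Scheme.{u}} (f : X ⟶ S) [IsFinite f] [Surjective f] :
    SGA1.UnivSubmersive f := by
  intro X' S' i₁ i₂ f' h
  haveI : Surjective f' := MorphismProperty.of_isPullback (P := @Surjective) h.flip inferInstance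
  haveI : UniversallyClosed f' :=
    MorphismProperty.of_isPullback (P := @UniversallyClosed) h.flip inferInstance
  exact IsClosedMap.isQuotientMap f'.isClosedMap f'.continuous f'.surjective

theorem univSubmersive_sigmaDesc {I : Type u} [Finite I] {Y : Scheme.{u}} {W : I → Scheme.{u}}
    (e : ∀ i, W i ⟶ Y) [∀ i, IsClosedImmersion (e i)] (hs : ∀ y, ∃ i w, e i w = y) :
    SGA1.UnivSubmersive (Sigma.desc e) := by
  haveI := CycBivLib.isFinite_sigmaDesc e fun y => ⟨⊤, trivial, Set.toFinite _⟩
  haveI : Surjective (Sigma.desc e) := ⟨fun y => by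
    obtain ⟨i, w, h⟩ := hs y
    exact ⟨Sigma.ι W i w, by rw [← Scheme.Hom.comp_apply, Sigma.ι_desc]; exact h⟩⟩
  exact univSubmersive_of_finite_surjective _

theorem univSubmersive_sigmaDesc' {X S : Scheme.{u}} (q : X ⟶ S) [IsFinite q] [Surjective q] :
    SGA1.UnivSubmersive (Sigma.desc (fun _ : PUnit.{u + 1} => q)) := by
  let e : (∐ fun _ : PUnit.{u + 1} => X) ≅ X := coproductUniqueIso (fun _ : PUnit.{u + 1} => X)
  have he : Sigma.desc (fun _ : PUnit.{u + 1} => q) = e.hom ≫ q :=
    Sigma.hom_ext _ _ fun _ => by simp [e, coproductUniqueIso]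
  rw [he]
  exact univSubmersive_of_finite_surjective _


open CategoryTheory CategoryTheory.Limits AlgebraicGeometry in
/-- Let S be a separated Noetherian scheme, π : X → S finite and surjective with X separated, G a finite
group acting on X by S-automorphisms and transitively on the geometric points of X over every
geometric point of S, and F a presheaf of sets on schemes satisfying the sheaf condition for every
finite family of quasi-finite morphisms of finite type whose induced morphism from the disjoint
union is universally submersive (a qfh-sheaf). Then pulling back along π identifies F(S) with the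
G-invariant elements of F(X): F(π) is injective with image the invariants. (The published statement
takes F a qfh-sheaf on Noetherian schemes over S; this row takes a presheaf on all schemes with the
sheaf property for every such family, a stronger hypothesis.) -/
theorem result {X S : Scheme.{u}} [IsNoetherian S] [S.IsSeparated] [X.IsSeparated] (q : X ⟶ S) [IsFinite q] [Surjective q] {G : Type u} [Group G] [Finite G] (ρ : G →* Aut X) (hρ : ∀ g : G, (ρ g).hom ≫ q = q) (htrans : ∀ (Ω : Type u) [Field Ω] [IsAlgClosed Ω] (τ₁ τ₂ : Spec (CommRingCat.of Ω) ⟶ X), τ₁ ≫ q = τ₂ ≫ q → ∃ g : G, τ₁ ≫ (ρ g).hom = τ₂) (F : Scheme.{u}ᵒᵖ ⥤ Type w) (hF : ∀ ⦃T : Scheme.{u}⦄ (E : PreZeroHypercover.{u} T), Finite E.I₀ → (∀ i, LocallyOfFiniteType (E.f i)) → (∀ i, QuasiCompact (E.f i)) → (∀ i, LocallyQuasiFinite (E.f i)) → SGA1.UnivSubmersive (Sigma.desc E.f) → Presieve.IsSheafFor F E.presieve₀) : Function.Injective (F.map q.op) ∧ Set.range (F.map q.op) = {f : F.obj (Opposite.op X) | ∀ g : G, F.map (ρ g).hom.op f = f} := by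
  let γ : G → (X ⟶ pullback q q) := fun g => pullback.lift (𝟙 X) (ρ g).hom (by rw [hρ, Category.id_comp])
  haveI hγ : ∀ g, IsClosedImmersion (γ g) := fun g => by
    haveI : IsClosedImmersion (γ g ≫ pullback.fst q q) := by
      rw [pullback.lift_fst]
      infer_instance
    exact IsClosedImmersion.of_comp (γ g) (pullback.fst q q)
  let E : PreZeroHypercover.{u} S := PreZeroHypercover.mk PUnit.{u + 1} (fun _ => X) (fun _ => q)
  have hE := hF E (inferInstanceAs (Finite PUnit.{u + 1})) (fun _ => inferInstanceAs (LocallyOfFiniteType q))
    (fun _ => inferInstanceAs (QuasiCompact q)) (fun _ => inferInstanceAs (LocallyQuasiFinite q))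
    (univSubmersive_sigmaDesc' q)
  rw [Presieve.isSheafFor_arrows_iff] at hE
  let E2 : PreZeroHypercover.{u} (pullback q q) := PreZeroHypercover.mk G (fun _ => X) γ
  have hE2 := hF E2 (inferInstanceAs (Finite G)) (fun g => inferInstanceAs (LocallyOfFiniteType (γ g)))
    (fun g => inferInstanceAs (QuasiCompact (γ g))) (fun g => inferInstanceAs (LocallyQuasiFinite (γ g)))
    (univSubmersive_sigmaDesc γ fun z => by
      let κ := (pullback q q).residueField z
      let τ : Spec (CommRingCat.of (AlgebraicClosure κ)) ⟶ pullback q q :=
        Spec.map (CommRingCat.ofHom (algebraMap κ (AlgebraicClosure κ))) ≫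
          (pullback q q).fromSpecResidueField z
      obtain ⟨g, hg⟩ := htrans (AlgebraicClosure κ) (τ ≫ pullback.fst q q) (τ ≫ pullback.snd q q)
        (by simp [pullback.condition])
      have hτ : (τ ≫ pullback.fst q q) ≫ γ g = τ := by
        apply pullback.hom_ext
        · simp [γ]
        · simp only [γ, Category.assoc, pullback.lift_snd]
          simpa using hg
      refine ⟨g, (τ ≫ pullback.fst q q) (Classical.arbitrary (PrimeSpectrum (AlgebraicClosure κ))), ?_⟩
      rw [← Scheme.Hom.comp_apply, hτ]
      change (pullback q q).fromSpecResidueField z (Spec.map _ _) = z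
      exact (pullback q q).fromSpecResidueField_apply z _)
  rw [Presieve.isSheafFor_arrows_iff] at hE2
  have sep : ∀ a b : F.obj (Opposite.op (pullback q q)),
      (∀ g, F.map (γ g).op a = F.map (γ g).op b) → a = b := by
    intro a b hab
    obtain ⟨c, -, huniq⟩ := hE2 (fun g => F.map (γ g).op a) (fun i j Z gi gj h => by
      rw [← Functor.map_comp_apply, ← Functor.map_comp_apply, ← op_comp, ← op_comp]
      exact congrArg (fun φ => F.map φ.op a) h)
    exact (huniq a fun g => rfl).trans (huniq b fun g => (hab g).symm).symm
  constructor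
  · intro a b hab
    obtain ⟨c, -, huniq⟩ := hE (fun _ => F.map q.op a) (fun i j Z gi gj h => by
      rw [← Functor.map_comp_apply, ← Functor.map_comp_apply, ← op_comp, ← op_comp]
      exact congrArg (fun φ => F.map φ.op a) h)
    exact (huniq a fun _ => rfl).trans (huniq b fun _ => hab.symm).symm
  · ext f
    constructor
    · rintro ⟨s, rfl⟩ g
      rw [← Functor.map_comp_apply, ← op_comp, hρ]
    · intro hf
      have key : F.map (pullback.fst q q).op f = F.map (pullback.snd q q).op f := by
        refine sep _ _ fun g => ?_
        rw [← Functor.map_comp_apply, ← Functor.map_comp_apply, ← op_comp, ← op_comp,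
          pullback.lift_fst, pullback.lift_snd, hf g, op_id, Functor.map_id_apply]
      obtain ⟨c, hc, -⟩ := hE (fun _ => f) (fun i j Z gi gj h => by
        have h' := congrArg (fun x => F.map (pullback.lift gi gj h).op x) key
        rw [← Functor.map_comp_apply, ← Functor.map_comp_apply, ← op_comp, ← op_comp,
          pullback.lift_fst, pullback.lift_snd] at h'
        exact h')
      exact ⟨c, hc ⟨⟩⟩

end Groth.Agent.S13740
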