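import Groth.Statements.S13741
import Mathlib

set_option autoImplicit false
universe u
open SGA1

namespace Groth.Agent.S13741

open CategoryTheory AlgebraicGeometry in
lemma exists_of_pt {X : Scheme.{u}} {Ω : Type u} [Field Ω] (τ : Spec (CommRingCat.of Ω) ⟶ X) {y : X}
    (p : Spec (CommRingCat.of Ω)) (h : τ p = y) :
    ∃ φ : X.residueField y ⟶ CommRingCat.of Ω, τ = Spec.map φ ≫ X.fromSpecResidueField y := by
  have hp : p = IsLocalRing.closedPoint Ω := Subsingleton.elim (α := PrimeSpectrum Ω) _ _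
  subst h
  subst hp
  exact ⟨_, (Scheme.descResidueField_stalkClosedPointTo_fromSpecResidueField Ω X τ).symm⟩



open CategoryTheory CategoryTheory.Limits AlgebraicGeometry in
/-- Let S be a separated Noetherian scheme, q : X → S finite and surjective with X separated, and G a
finite group acting on X by S-automorphisms. Assume that G acts transitively on every fibre of q,
that each residue field extension k(x)/k(q x) is normal, and that for each x every k(q
x)-automorphism of k(x) is induced by an element of G fixing x. Then for every algebraically closed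
field Ω, any two Ω-points of X with the same composite to S are conjugate under G. -/
theorem result {X S : Scheme.{u}} [IsNoetherian S] [S.IsSeparated] [X.IsSeparated] (q : X ⟶ S) [IsFinite q] [Surjective q] {G : Type u} [Group G] [Finite G] (ρ : G →* Aut X) (hρ : ∀ g : G, (ρ g).hom ≫ q = q) (h1 : ∀ x y : X, q x = q y → ∃ g : G, (ρ g).hom x = y) (h2 : ∀ x : X, @Normal (S.residueField (q x)) (X.residueField x) _ _ (q.residueFieldMap x).hom.toAlgebra) (h3 : ∀ (x : X) (σ : X.residueField x ≅ X.residueField x), q.residueFieldMap x ≫ σ.hom = q.residueFieldMap x → ∃ g : G, X.fromSpecResidueField x ≫ (ρ g).hom = Spec.map σ.hom ≫ X.fromSpecResidueField x) (Ω : Type u) [Field Ω] [IsAlgClosed Ω] (τ₁ τ₂ : Spec (CommRingCat.of Ω) ⟶ X) (hτ : τ₁ ≫ q = τ₂ ≫ q) : ∃ g : G, τ₁ ≫ (ρ g).hom = τ₂ := by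
  obtain ⟨p⟩ : Nonempty (Spec (CommRingCat.of Ω)) := inferInstance
  have hq : q (τ₁ p) = q (τ₂ p) := by
    simp only [← Scheme.Hom.comp_apply, hτ]
  obtain ⟨g₀, hg₀⟩ := h1 _ _ hq
  obtain ⟨φ₁, hφ₁⟩ := exists_of_pt (τ₁ ≫ (ρ g₀).hom) p (y := τ₂ p) (by rw [Scheme.Hom.comp_apply]; exact hg₀)
  obtain ⟨φ₂, hφ₂⟩ := exists_of_pt τ₂ p (y := τ₂ p) rfl
  generalize τ₂ p = y at φ₁ φ₂ hφ₁ hφ₂
  have e0 : q.residueFieldMap y ≫ φ₁ = q.residueFieldMap y ≫ φ₂ := by
    rw [← Spec.map_inj, ← cancel_mono (S.fromSpecResidueField (q y)), Spec.map_comp, Spec.map_comp,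
      Category.assoc, Category.assoc, Scheme.Hom.SpecMap_residueFieldMap_fromSpecResidueField,
      ← Category.assoc, ← Category.assoc, ← hφ₁, ← hφ₂, Category.assoc, hρ]
    exact hτ
  letI : Algebra (S.residueField (q y)) (X.residueField y) := (q.residueFieldMap y).hom.toAlgebra
  haveI : Normal (S.residueField (q y)) (X.residueField y) := h2 y
  letI : Algebra (X.residueField y) Ω := φ₁.hom.toAlgebra
  letI : Algebra (S.residueField (q y)) Ω := (q.residueFieldMap y ≫ φ₁).hom.toAlgebra
  haveI : IsScalarTower (S.residueField (q y)) (X.residueField y) Ω := IsScalarTower.of_algebraMap_eq' rfl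
  let ψ : X.residueField y →ₐ[S.residueField (q y)] Ω :=
    { φ₂.hom with commutes' := fun r => (congrArg (fun m => m.hom r) e0).symm }
  let σ₀ := Normal.algHomEquivAut (S.residueField (q y)) Ω (X.residueField y) ψ
  let σ : X.residueField y ≅ X.residueField y := σ₀.toRingEquiv.toCommRingCatIso
  have hσ : q.residueFieldMap y ≫ σ.hom = q.residueFieldMap y := by
    ext r; exact σ₀.commutes r
  have hσφ : σ.hom ≫ φ₁ = φ₂ := by
    ext r
    exact AlgHom.congr_fun ((Normal.algHomEquivAut (S.residueField (q y)) Ω (X.residueField y)).symm_apply_apply ψ) r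
  obtain ⟨g₁, hg₁⟩ := h3 y σ hσ
  refine ⟨g₁ * g₀, ?_⟩
  have : (ρ (g₁ * g₀)).hom = (ρ g₀).hom ≫ (ρ g₁).hom := by simp [map_mul, Aut.Aut_mul_def]
  rw [this, ← Category.assoc, hφ₁, Category.assoc, hg₁, ← Category.assoc, ← Spec.map_comp, hσφ, ← hφ₂]

end Groth.Agent.S13741
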