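import Groth.Statements.S13744
import Groth.Agent.LenInsepLib.Tensor
import Mathlib.AlgebraicGeometry.Morphisms.Immersion

set_option autoImplicit false
universe u
open Cyc

set_option backward.isDefEq.respectTransparency false
set_option backward.isDefEq.respectTransparency.types false

namespace Groth.Agent.S13744

open CategoryTheory CategoryTheory.Limits AlgebraicGeometry in
/-- The length of a stalk outside a dense open subscheme is read as zero. -/
theorem toNat_length_stalk_eq_zero {W : Scheme.{u}} [IsLocallyNoetherian W] (U : Set W) (hU : IsOpen U) (hd : Dense U)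
    (z : W) (hz : z ∉ U) :
    (Module.length (W.presheaf.stalk z) (W.presheaf.stalk z)).toNat = 0 := by
  classical
  by_cases htop : Module.length (W.presheaf.stalk z) (W.presheaf.stalk z) = ⊤
  · rw [htop]; rfl
  exfalso
  obtain ⟨_, hart⟩ := isFiniteLength_iff_isNoetherian_isArtinian.1 (Module.length_ne_top_iff.1 htop)
  haveI : IsArtinianRing (W.presheaf.stalk z) := hart
  obtain ⟨V, hV, hzV, -⟩ := exists_isAffineOpen_mem_and_subset (x := z) (U := ⊤) trivial
  haveI : IsAffine V.toScheme := hV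
  haveI : IsNoetherian V.toScheme := ⟨⟩
  have hgen : ∀ y : W, y ⤳ z → y = z := fun y hy => by
    obtain ⟨q, rfl⟩ := (W.range_fromSpecStalk (x := z)).ge hy
    have hq : q = IsLocalRing.closedPoint (W.presheaf.stalk z) :=
      PrimeSpectrum.ext (IsLocalRing.eq_maximalIdeal (inferInstance : q.asIdeal.IsMaximal))
    rw [hq, Scheme.fromSpecStalk_closedPoint]
  let z' : V.toScheme := ⟨z, hzV⟩
  let bad : Set V.toScheme := ⋃ Z ∈ {Z ∈ irreducibleComponents V.toScheme | z' ∉ Z}, Z
  have hbad : IsClosed bad := Set.Finite.isClosed_biUnion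
    ((TopologicalSpace.NoetherianSpace.finite_irreducibleComponents).subset fun Z hZ => hZ.1)
    fun Z hZ => isClosed_of_mem_irreducibleComponents _ hZ.1
  have hzbad : z' ∉ bad := fun h => by
    obtain ⟨Z, hZ, hzZ⟩ := Set.mem_iUnion₂.1 h
    exact hZ.2 hzZ
  obtain ⟨y, hy, hyU⟩ := (hd.preimage V.ι.isOpenEmbedding.isOpenMap).inter_open_nonempty badᶜ hbad.isOpen_compl ⟨z', hzbad⟩
  obtain ⟨Z, hZ, hyZ⟩ : ∃ Z ∈ irreducibleComponents V.toScheme, y ∈ Z :=
    ⟨_, irreducibleComponent_mem_irreducibleComponents y, mem_irreducibleComponent⟩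
  have hzZ : z' ∈ Z := by
    by_contra h
    exact hy (Set.mem_iUnion₂.2 ⟨Z, ⟨hZ, h⟩, hyZ⟩)
  obtain ⟨η, hη⟩ := QuasiSober.sober hZ.1 (isClosed_of_mem_irreducibleComponents _ hZ)
  have hηz : V.ι η = z := hgen _ ((hη.specializes hzZ).map V.ι.continuous)
  exact hz (hηz ▸ (((hη.specializes hyZ).map V.ι.continuous).mem_open hU hyU))

open CategoryTheory CategoryTheory.Limits AlgebraicGeometry in
/-- Let S be a separated Noetherian scheme, p : X → S separated of finite type, ι : Z → X a closed
immersion with Z integral, R a discrete valuation ring with fraction field K and x : Spec R → S. Let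
φ be the scheme-theoretic image in Z ×_S Spec R of Z ×_S Spec K (the flat closure of the generic
fibre), regarded as a closed subscheme of X ×_S Spec R. Then the cycle of φ (coefficient at t =
length of the local ring of φ above t, an infinite length read as 0) equals the cycle of Z ×_S Spec
K pushed forward along the inclusion X ×_S Spec K → X ×_S Spec R. -/
theorem result {X S Z : Scheme.{u}} [IsNoetherian S] [S.IsSeparated] [X.IsSeparated] (p : X ⟶ S) [LocallyOfFiniteType p] [QuasiCompact p] (ι : Z ⟶ X) [IsClosedImmersion ι] [IsIntegral Z] (R : Type u) [CommRing R] [IsDomain R] [IsDiscreteValuationRing R] (x : Spec (CommRingCat.of R) ⟶ S) (t : ↥(pullback p x)) : Cyc.subschemeFun (fun _ => (0 : ℤ)) 0 ((pullback.map (ι ≫ p) (Spec.map (CommRingCat.ofHom (algebraMap R (FractionRing R))) ≫ x) (ι ≫ p) x (𝟙 Z) (Spec.map (CommRingCat.ofHom (algebraMap R (FractionRing R)))) (𝟙 S) ((Category.comp_id _).trans (Category.id_comp _).symm) (Category.comp_id _)).ker.subschemeι ≫ pullback.map (ι ≫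 p) x p x ι (𝟙 _) (𝟙 S) (Category.comp_id _) ((Category.comp_id _).trans (Category.id_comp _).symm)) t = ∑ᶠ t' ∈ {t' : ↥(pullback p (Spec.map (CommRingCat.ofHom (algebraMap R (FractionRing R))) ≫ x)) | (pullback.map p (Spec.map (CommRingCat.ofHom (algebraMap R (FractionRing R))) ≫ x) p x (𝟙 X) (Spec.map (CommRingCat.ofHom (algebraMap R (FractionRing R)))) (𝟙 S) ((Category.comp_id _).trans (Category.id_comp _).symm) (Category.comp_id _)) t' = t}, Cyc.subschemeFun (fun _ => (0 : ℤ)) 0 (pullback.map (ι ≫ p) (Spec.map (CommRingCat.ofHom (algebraMap R (FractionRing R))) ≫ x) p (Spec.map (CommRingCat.ofHom (algebraMap R (FractionRing R))) ≫ x) ι (𝟙 _) (𝟙 S) (Category.comp_id _) ((Category.comp_id _).trans (Category.id_comp _).symm)) t' := by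
  let j : Spec (CommRingCat.of (FractionRing R)) ⟶ Spec (CommRingCat.of R) :=
    Spec.map (CommRingCat.ofHom (algebraMap R (FractionRing R)))
  haveI : IsOpenImmersion j := by
    obtain ⟨ϖ, hϖ⟩ := IsDiscreteValuationRing.exists_irreducible R
    haveI : IsLocalization.Away ϖ (FractionRing R) := IsLocalization.Away.mk ϖ
      ((IsUnit.mk0 _ (by simpa using hϖ.ne_zero)))
      (fun z => by
        obtain ⟨⟨a, s⟩, hz⟩ := IsLocalization.surj (nonZeroDivisors R) z
        obtain ⟨m, w, hw⟩ := IsDiscreteValuationRing.eq_unit_mul_pow_irreducible (nonZeroDivisors.coe_ne_zero s) hϖ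
        refine ⟨m, a * ↑w⁻¹, ?_⟩
        rw [map_mul, ← hz, mul_assoc, ← map_mul, hw, mul_right_comm, Units.mul_inv, one_mul, map_pow])
      (fun a b h => ⟨0, by simpa using IsFractionRing.injective R (FractionRing R) h⟩)
    exact IsOpenImmersion.of_isLocalization ϖ
  haveI : IsNoetherianRing (CommRingCat.of R) := inferInstanceAs (IsNoetherianRing R)
  let a : pullback (ι ≫ p) (j ≫ x) ⟶ pullback (ι ≫ p) x :=
    pullback.map (ι ≫ p) (j ≫ x) (ι ≫ p) x (𝟙 Z) j (𝟙 S) ((Category.comp_id _).trans (Category.id_comp _).symm) (Category.comp_id _)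
  let b : pullback (ι ≫ p) x ⟶ pullback p x :=
    pullback.map (ι ≫ p) x p x ι (𝟙 _) (𝟙 S) (Category.comp_id _) ((Category.comp_id _).trans (Category.id_comp _).symm)
  let b' : pullback (ι ≫ p) (j ≫ x) ⟶ pullback p (j ≫ x) :=
    pullback.map (ι ≫ p) (j ≫ x) p (j ≫ x) ι (𝟙 _) (𝟙 S) (Category.comp_id _) ((Category.comp_id _).trans (Category.id_comp _).symm)
  let c : pullback p (j ≫ x) ⟶ pullback p x :=
    pullback.map p (j ≫ x) p x (𝟙 X) j (𝟙 S) ((Category.comp_id _).trans (Category.id_comp _).symm) (Category.comp_id _)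
  haveI : IsOpenImmersion a := inferInstanceAs (IsOpenImmersion (pullback.map _ _ _ _ _ _ _ _ _))
  haveI : IsOpenImmersion c := inferInstanceAs (IsOpenImmersion (pullback.map _ _ _ _ _ _ _ _ _))
  haveI : IsLocallyNoetherian (pullback (ι ≫ p) x) :=
    LocallyOfFiniteType.isLocallyNoetherian (pullback.snd (ι ≫ p) x)
  haveI : QuasiCompact a := inferInstance
  haveI : IsLocallyNoetherian a.ker.subscheme := LocallyOfFiniteType.isLocallyNoetherian a.ker.subschemeι
  let ā := a.toImage
  have hā : ā ≫ a.ker.subschemeι = a := a.toImage_imageι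
  have hfac : ā ≫ a.ker.subschemeι ≫ b = b' ≫ c := by
    rw [← Category.assoc, hā]
    apply pullback.hom_ext <;> simp [a, b, b', c]
  haveI : IsOpenImmersion ā := inferInstanceAs (IsOpenImmersion a.toImage)
  show Cyc.subschemeFun (fun _ => (0 : ℤ)) 0 (a.ker.subschemeι ≫ b) t =
    ∑ᶠ t' ∈ {t' | c t' = t}, Cyc.subschemeFun (fun _ => (0 : ℤ)) 0 b' t'
  simp only [Cyc.subschemeFun, if_pos]
  let L : a.ker.subscheme → ℤ := fun z => ((Module.length (a.ker.subscheme.presheaf.stalk z) (a.ker.subscheme.presheaf.stalk z)).toNat : ℤ)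
  let L' : ↥(pullback (ι ≫ p) (j ≫ x)) → ℤ := fun z =>
    ((Module.length ((pullback (ι ≫ p) (j ≫ x)).presheaf.stalk z) ((pullback (ι ≫ p) (j ≫ x)).presheaf.stalk z)).toNat : ℤ)
  have hL : ∀ z, L (ā z) = L' z := fun z => by
    simp only [L, L']
    rw [LenInsepLib.length_eq_of_ringEquiv (asIso (ā.stalkMap z)).commRingCatIsoToRingEquiv]
  have hzero : ∀ z, z ∉ Set.range ā → L z = 0 := fun z hz => by
    simp only [L, Nat.cast_eq_zero]
    exact toNat_length_stalk_eq_zero _ ā.isOpenEmbedding.isOpen_range ā.denseRange z hz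
  show ∑ᶠ z ∈ {z | (a.ker.subschemeι ≫ b) z = t}, L z = ∑ᶠ t' ∈ {t' | c t' = t}, ∑ᶠ z ∈ {z | b' z = t'}, L' z
  have h1 : ∑ᶠ z ∈ {z | (a.ker.subschemeι ≫ b) z = t}, L z = ∑ᶠ z ∈ ā '' {z | (b' ≫ c) z = t}, L z := by
    refine finsum_mem_eq_of_bijOn id ⟨fun _ h => h, Function.Injective.injOn fun _ _ h => h, fun _ h => ⟨_, h, rfl⟩⟩ (fun _ _ => rfl) |>.trans ?_
    refine finsum_mem_inter_support_eq' _ _ _ fun z hz => ?_
    have hz' : z ∈ Set.range ā := by_contra fun h => hz (hzero z h)
    obtain ⟨w, rfl⟩ := hz'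
    simp only [id_eq, Set.mem_setOf_eq, ← Scheme.Hom.comp_apply, hfac, ā.isOpenEmbedding.injective.mem_set_image]
  rw [h1, finsum_mem_image ā.isOpenEmbedding.injective.injOn]
  simp only [hL]
  rcases Set.eq_empty_or_nonempty {t' | c t' = t} with he | ⟨t', ht'⟩
  · rw [he, finsum_mem_empty]
    refine finsum_mem_eq_zero_of_forall_eq_zero fun z hz => ?_
    exact absurd (show b' z ∈ ({t' | c t' = t} : Set _) from hz) (by rw [he]; simp)
  · have hs : {t' | c t' = t} = {t'} := by
      ext u
      exact ⟨fun hu => c.isOpenEmbedding.injective ((show c u = t from hu).trans (show c t' = t from ht').symm), fun hu => by rw [hu]; exact ht'⟩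
    rw [hs, finsum_mem_singleton]
    refine finsum_mem_congr (Set.ext fun z => ?_) fun _ _ => rfl
    show c (b' z) = t ↔ b' z = t'
    exact ⟨fun h => c.isOpenEmbedding.injective (h.trans (show c t' = t from ht').symm), fun h => h ▸ ht'⟩

end Groth.Agent.S13744
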