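import Groth.Statements.S13746
import Groth.Agent.RedFibValLib.Scheme
import Groth.Agent.BlanchardLib.Birat
import Groth.Agent.AmpleFinDescLib.Descend
-- import your own Groth.Agent.* helpers here

set_option autoImplicit false
universe u
open CategoryTheory AlgebraicGeometry
open SemiFact

set_option backward.isDefEq.respectTransparency false
set_option backward.isDefEq.respectTransparency.types false
set_option maxHeartbeats 1000000

namespace Groth.Agent.S13746

open CategoryTheory.Limits IsLocalRing RedFibValLib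

/-- An integral extension which is trivial away from `ϖ` is trivial if the fibre at `ϖ` is reduced. -/
theorem surjective_of_integral {A B : Type u} [CommRing A] [CommRing B] (φ : A →+* B) (hint : φ.IsIntegral)
    (hφ : Function.Injective φ) (ϖ : A) (hB : IsSMulRegular B (φ ϖ))
    (hgen : ∀ b : B, ∃ (n : ℕ) (a : A), φ a = φ ϖ ^ n * b)
    (hred : (Ideal.span {ϖ}).radical ≤ Ideal.span {ϖ}) : Function.Surjective φ := by
  intro b
  obtain ⟨n, hn⟩ := hgen b
  clear hgen
  induction n generalizing b with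
  | zero => simpa using hn
  | succ n ih =>
    obtain ⟨a, ha⟩ := hn
    obtain ⟨a', ha'⟩ := ih (φ ϖ * b) ⟨a, by rw [ha, pow_succ, mul_assoc]⟩
    obtain ⟨P, hP, hPb⟩ := hint b
    have e : Polynomial.eval₂ φ (φ a') (P.scaleRoots ϖ) = 0 := by
      rw [ha']
      exact Polynomial.scaleRoots_eval₂_eq_zero φ hPb
    rw [Polynomial.eval₂_at_apply, ← map_zero φ] at e
    have e' := hφ e
    have hlead : (P.scaleRoots ϖ).Monic := (Polynomial.monic_scaleRoots_iff ϖ).2 hP
    have hmem : a' ^ P.natDegree ∈ Ideal.span {ϖ} := by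
      rw [Polynomial.eval_eq_sum_range, Polynomial.natDegree_scaleRoots, Finset.sum_range_succ,
        Polynomial.coeff_scaleRoots_natDegree, hP.leadingCoeff, one_mul] at e'
      rw [eq_neg_of_add_eq_zero_right e']
      refine neg_mem (sum_mem fun i hi => ?_)
      rw [Polynomial.coeff_scaleRoots]
      obtain ⟨j, hj⟩ : ∃ j, P.natDegree - i = j + 1 :=
        ⟨P.natDegree - i - 1, by have := Finset.mem_range.1 hi; omega⟩
      rw [hj, pow_succ]
      exact Ideal.mul_mem_right _ _ (Ideal.mul_mem_left _ _ (Ideal.mul_mem_left _ _ (Ideal.mem_span_singleton_self _)))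
    obtain ⟨c, hc⟩ := Ideal.mem_span_singleton'.1 (hred ⟨_, hmem⟩)
    exact ⟨c, hB (show φ ϖ • φ c = φ ϖ • b by rw [smul_eq_mul, smul_eq_mul, ← ha', ← map_mul, mul_comm, hc])⟩

variable {R : Type u} [CommRing R] [IsDomain R]

/-- Sections of a flat family over a domain have no torsion. -/
theorem isSMulRegular_chartHom {Z : Scheme.{u}} (g : Z ⟶ Spec (CommRingCat.of R)) [Flat g] (U : Z.Opens) (r : R)
    (hr : r ≠ 0) : IsSMulRegular Γ(Z, U) (chartHom g U r) := by
  refine isSMulRegular_iff_right_eq_zero_of_smul.2 fun t ht => ?_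
  refine TopCat.Sheaf.eq_of_locally_eq' Z.sheaf (fun V : {V : Z.affineOpens // (V : Z.Opens) ≤ U} => (V.1 : Z.Opens)) U
    (fun V => homOfLE V.2) (fun x hx => ?_) t 0 fun V => ?_
  · obtain ⟨_, ⟨W, hW, rfl⟩, hxW, hWU⟩ := Z.isBasis_affineOpens.exists_subset_of_mem_open hx U.2
    exact TopologicalSpace.Opens.mem_iSup.mpr ⟨⟨⟨W, hW⟩, hWU⟩, hxW⟩
  · let res : Γ(Z, U) →+* Γ(Z, V.1) := (Z.presheaf.map (homOfLE V.2).op).hom
    show res t = res 0
    rw [map_zero]
    have hflat : (chartHom g V.1).Flat := by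
      refine RingHom.Flat.comp ?_ (g.flat_appLE (isAffineOpen_top _) V.1.2 le_top)
      exact RingHom.Flat.of_bijective (ConcreteCategory.bijective_of_isIso (Scheme.ΓSpecIso (CommRingCat.of R)).inv)
    have hres : res (chartHom g U r) = chartHom g V.1 r := by
      show ((g.appLE ⊤ U le_top) ≫ Z.presheaf.map (homOfLE V.2).op).hom _ = _
      rw [Scheme.Hom.appLE_map]
      rfl
    have h0 : chartHom g V.1 r * res t = 0 := by
      rw [← hres, ← map_mul, ← smul_eq_mul, ht, map_zero]
    algebraize [chartHom g V.1]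
    exact Module.Flat.isSMulRegular_of_nonZeroDivisors (M := Γ(Z, V.1)) (mem_nonZeroDivisors_of_ne_zero hr)
      (show r • res t = r • (0 : Γ(Z, V.1)) by rw [Algebra.smul_def, smul_zero]; exact h0)


/-- Let R be a discrete valuation ring with fraction field K, let X and Y be schemes flat over Spec R
and let π : Y → X be a proper morphism over Spec R whose base change along Spec K → Spec R is an
isomorphism. If the fibre of X over the closed point of Spec R is reduced, then the canonical map
O_X → π_* O_Y is an isomorphism: for every open V ⊆ X the ring map O_X(V) → O_Y(π⁻¹ V) is bijective. -/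
theorem result
    (R : Type u) [CommRing R] [IsDomain R] [IsDiscreteValuationRing R]
    (X Y : Over (Spec (CommRingCat.of R))) [Flat X.hom] [Flat Y.hom]
    (π : Y ⟶ X) [IsProper π.left]
    (hgen : IsIso ((Neron.genericFibre R).map π))
    [IsReduced (X.hom.fiber (IsLocalRing.closedPoint R))] :
    ∀ V : X.left.Opens, IsIso (π.left.app V) := by
  intro V
  rw [ConcreteCategory.isIso_iff_bijective]
  refine BlanchardLib.bijective_app_of_small π.left (fun W y hy => ?_) V
  obtain ⟨_, ⟨W', hW', rfl⟩, hyW, hle⟩ := X.left.isBasis_affineOpens.exists_subset_of_mem_open hy W.2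
  refine ⟨W', hle, hyW, ?_⟩
  obtain ⟨ϖ, hϖ⟩ := IsDiscreteValuationRing.exists_irreducible R
  let A := Γ(X.left, W')
  let B := Γ(Y.left, π.left ⁻¹ᵁ W')
  let φ : A →+* B := (π.left.app W').hom
  let a₀ : A := chartHom X.hom W' ϖ
  have hcomp : φ a₀ = chartHom Y.hom (π.left ⁻¹ᵁ W') ϖ := by
    show (X.hom.appLE ⊤ W' le_top ≫ π.left.app W').hom _ = (Y.hom.appLE ⊤ (π.left ⁻¹ᵁ W') le_top).hom _
    congr 2
    rw [Scheme.Hom.app_eq_appLE, Scheme.Hom.appLE_comp_appLE]
    simp [Over.w π]
  -- isomorphism away from `ϖ`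
  let g := Neron.genPt R
  haveI : IsLocalization.Away ϖ (FractionRing R) := IsLocalization.Away.mk ϖ
    ((IsUnit.mk0 _ (by simpa using hϖ.ne_zero)))
    (fun z => by
      obtain ⟨⟨a, s⟩, hz⟩ := IsLocalization.surj (nonZeroDivisors R) z
      obtain ⟨m, w, hw⟩ := IsDiscreteValuationRing.eq_unit_mul_pow_irreducible (nonZeroDivisors.coe_ne_zero s) hϖ
      refine ⟨m, a * ↑w⁻¹, ?_⟩
      rw [map_mul, ← hz, mul_assoc, ← map_mul, hw, mul_right_comm, Units.mul_inv, one_mul, map_pow])
    (fun a b h => ⟨0, by simpa using IsFractionRing.injective R (FractionRing R) h⟩)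
  haveI : IsOpenImmersion g := IsOpenImmersion.of_isLocalization ϖ
  let fX := pullback.fst X.hom g
  let fY := pullback.fst Y.hom g
  let m := ((Neron.genericFibre R).map π).left
  haveI : IsIso m := (Over.forget _).map_isIso ((Neron.genericFibre R).map π)
  have hsq : IsPullback fY m π.left fX := by
    refine IsPullback.of_bot ?_ (pullback.lift_fst _ _ _).symm (IsPullback.of_hasPullback X.hom g)
    rw [Over.w π, show m ≫ pullback.snd X.hom g = pullback.snd Y.hom g from Over.w _]
    exact IsPullback.of_hasPullback Y.hom g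
  have hD : IsIso (π.left ∣_ fX.opensRange) := by
    haveI : IsIso (pullback.snd π.left fX) := by
      rw [← hsq.isoPullback_inv_snd]
      infer_instance
    exact ((MorphismProperty.isomorphisms Scheme.{u}).arrow_mk_iso_iff
      (morphismRestrictOpensRange π.left fX)).2 ‹_›
  have hbas : X.left.basicOpen a₀ ≤ fX.opensRange := by
    intro x hx
    show x ∈ Set.range fX
    rw [Scheme.Pullback.range_fst]
    show X.hom x ∈ Set.range (PrimeSpectrum.comap (algebraMap R (FractionRing R)))
    rw [PrimeSpectrum.localization_away_comap_range (FractionRing R) ϖ]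
    have hxW : x ∈ W' := X.left.basicOpen_le _ hx
    show ϖ ∉ (X.hom x).asIdeal
    rw [← comap_chartHom_primeIdealOf X.hom hW' x hxW, Ideal.mem_comap]
    exact fun h => (IsAffineOpen.primeIdealOf hW' ⟨x, hxW⟩).isPrime.ne_top
      (absurd hx (fun hx' => by
        have h1 := hW'.fromSpec_preimage_basicOpen a₀
        have h2 : hW'.primeIdealOf ⟨x, hxW⟩ ∈ hW'.fromSpec ⁻¹ᵁ X.left.basicOpen a₀ := by
          show hW'.fromSpec _ ∈ X.left.basicOpen a₀
          rw [hW'.fromSpec_primeIdealOf]; exact hx'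
        rw [h1] at h2
        exact h2 h))
  have hbij := AmpleFinDescLib.bijective_app_of_isIso (h := π.left) (W := fX.opensRange) hD hbas
  -- localisations
  haveI : IsLocalization.Away a₀ Γ(X.left, X.left.basicOpen a₀) := hW'.isLocalization_basicOpen a₀
  have hq : IsLocalization.Away (φ a₀) Γ(Y.left, Y.left.basicOpen (φ a₀)) :=
    isLocalization_basicOpen_of_qcqs (π.left.isCompact_preimage hW'.isCompact)
      (π.left.isQuasiSeparated_preimage hW'.isQuasiSeparated) (φ a₀)
  have hpre : π.left ⁻¹ᵁ X.left.basicOpen a₀ = Y.left.basicOpen (φ a₀) := Scheme.preimage_basicOpen π.left a₀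
  have hnat : ∀ z : A, π.left.app (X.left.basicOpen a₀) (X.left.presheaf.map (homOfLE (X.left.basicOpen_le a₀)).op z) =
      Y.left.presheaf.map (homOfLE (π.left.preimage_mono (X.left.basicOpen_le a₀))).op (φ z) := fun z => by
    rw [← CommRingCat.comp_apply, Scheme.Hom.naturality]
    rfl
  have hApos : IsSMulRegular A a₀ := isSMulRegular_chartHom X.hom W' ϖ hϖ.ne_zero
  have hBpos : IsSMulRegular B (φ a₀) := hcomp ▸ isSMulRegular_chartHom Y.hom (π.left ⁻¹ᵁ W') ϖ hϖ.ne_zero
  have hinj : Function.Injective φ := by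
    refine (injective_iff_map_eq_zero φ).2 fun a ha => ?_
    have h1 : X.left.presheaf.map (homOfLE (X.left.basicOpen_le a₀)).op a = 0 :=
      hbij.1 (by rw [hnat, ha, map_zero, map_zero])
    obtain ⟨⟨_, n, rfl⟩, hn⟩ := (IsLocalization.map_eq_zero_iff (Submonoid.powers a₀) Γ(X.left, X.left.basicOpen a₀) a).1 h1
    exact (hApos.pow n) (show a₀ ^ n • a = a₀ ^ n • 0 by simpa using hn)
  refine ⟨hinj, surjective_of_integral φ ?_ hinj a₀ hBpos ?_ ?_⟩
  · haveI : IsProper (π.left ∣_ W') := IsZariskiLocalAtTarget.restrict (P := @IsProper) ‹_› W'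
    haveI : IsAffine (W' : Scheme.{u}) := hW'
    have h := isIntegral_appTop_of_universallyClosed (π.left ∣_ W')
    rw [morphismRestrict_appTop] at h
    have h' : (π.left.app ((Scheme.Opens.ι W') ''ᵁ ⊤)).hom.IsIntegral :=
      (RingHom.isIntegral_respectsIso.cancel_right_isIso _ _).1 h
    exact (congrArg (fun V => (π.left.app V).hom.IsIntegral) (Scheme.Opens.ι_image_top W')).mp h'
  · intro b
    let rB := Y.left.presheaf.map (homOfLE (π.left.preimage_mono (X.left.basicOpen_le a₀))).op
    obtain ⟨z, hz⟩ := hbij.2 (rB b)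
    obtain ⟨⟨a, ⟨_, n, rfl⟩⟩, he⟩ := IsLocalization.surj (Submonoid.powers a₀) z
    have e1 : rB (φ a₀ ^ n * b) = rB (φ a) := by
      have := congrArg (π.left.app (X.left.basicOpen a₀)) he
      rw [map_mul, hz] at this
      rw [map_mul, mul_comm, ← map_pow, ← hnat, ← hnat]
      exact this
    let r' : B →+* Γ(Y.left, Y.left.basicOpen (φ a₀)) := (Y.left.presheaf.map (homOfLE (Y.left.basicOpen_le _)).op).hom
    have e2 : r' (φ a₀ ^ n * b) = r' (φ a) := by
      have h := congrArg (Y.left.presheaf.map (homOfLE hpre.ge).op) e1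
      simp only [rB, ← CommRingCat.comp_apply, ← Functor.map_comp] at h
      exact h
    obtain ⟨⟨_, m, rfl⟩, hm⟩ := (IsLocalization.eq_iff_exists (Submonoid.powers (φ a₀)) Γ(Y.left, Y.left.basicOpen (φ a₀))).1 e2
    exact ⟨n, a, ((hBpos.pow m) (show φ a₀ ^ m • (φ a₀ ^ n * b) = φ a₀ ^ m • φ a from hm)).symm⟩
  · intro a ha
    by_contra hne
    obtain ⟨M, hM, hle⟩ := Ideal.exists_le_maximal ((Ideal.span {a₀}).colon {a}) (fun h => hne (by
      have h1 : (1 : A) ∈ (Ideal.span {a₀}).colon {a} := h ▸ Submodule.mem_top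
      simpa [Submodule.mem_colon_singleton] using h1))
    let P : PrimeSpectrum A := ⟨M, hM.isPrime⟩
    have ha₀M : a₀ ∈ M := hle (Submodule.mem_colon_singleton.2 (Ideal.mul_mem_right _ _ (Ideal.mem_span_singleton_self _)))
    let x := hW'.fromSpec P
    have hxW : x ∈ W' := hW'.range_fromSpec.subset ⟨P, rfl⟩
    have hPx : hW'.primeIdealOf ⟨x, hxW⟩ = P :=
      hW'.fromSpec.isEmbedding.injective (hW'.fromSpec_primeIdealOf ⟨x, hxW⟩)
    have hcm : (hW'.primeIdealOf ⟨x, hxW⟩).asIdeal.comap (chartHom X.hom W') = maximalIdeal R := by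
      rw [hPx]
      refine (((maximalIdeal.isMaximal R)).eq_of_le (Ideal.comap_ne_top _ hM.ne_top) ?_).symm
      rw [hϖ.maximalIdeal_eq, Ideal.span_singleton_le_iff_mem]
      exact ha₀M
    have hxs : X.hom x = closedPoint R :=
      PrimeSpectrum.ext ((comap_chartHom_primeIdealOf X.hom hW' x hxW).symm.trans hcm)
    obtain ⟨x', hx'⟩ : x ∈ Set.range (X.hom.fiberι (closedPoint R)) := by
      rw [Scheme.Hom.range_fiberι]; exact hxs
    have hred := (isReduced_stalk_fiber_iff X.hom hW' x hxW x' hx').1 inferInstance a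
    rw [hcm, hϖ.maximalIdeal_eq, Ideal.map_span, Set.image_singleton] at hred
    obtain ⟨t, ht, hta⟩ := hred ha
    rw [hPx] at ht
    exact ht (hle (Submodule.mem_colon_singleton.2 hta))

end Groth.Agent.S13746
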