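import Groth.Statements.S7415
import Mathlib
-- import your own Groth.Agent.* helpers here

set_option autoImplicit false
universe u
open CategoryTheory AlgebraicGeometry
open Mor

namespace Groth.Agent.S7415

/-- Let `X` be a reduced scheme with finitely many irreducible components and `x ∈ X`. Then `x` has an
affine open neighbourhood `U` such that `O_X(U) → O_{X,x}` is injective. -/
theorem result (X : Scheme.{u}) [AlgebraicGeometry.IsReduced X]
    (hirr : (irreducibleComponents (X : Type u)).Finite) (x : X) : X.IsGermInjectiveAt x := by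
  let S := {Z ∈ irreducibleComponents (X : Type u) | x ∉ Z}
  have hSc : IsClosed (⋃₀ S) := by
    rw [Set.sUnion_eq_biUnion]
    exact (hirr.subset fun Z hZ => hZ.1).isClosed_biUnion fun Z hZ =>
      isClosed_of_mem_irreducibleComponents Z hZ.1
  obtain ⟨U, hU, hxU, hUS⟩ := exists_isAffineOpen_mem_and_subset (X := X) (x := x)
    (U := ⟨(⋃₀ S)ᶜ, hSc.isOpen_compl⟩) (fun ⟨Z, hZ, hxZ⟩ => hZ.2 hxZ)
  refine ⟨U, hxU, hU, ?_⟩
  refine (injective_iff_map_eq_zero (X.presheaf.germ U x hxU).hom).2 fun s hs => ?_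
  refine eq_zero_of_basicOpen_eq_bot s (eq_bot_iff.2 fun y hy => ?_)
  have hyU : y ∈ U := X.basicOpen_le s hy
  obtain ⟨Z, hZ, hyZ⟩ : ∃ Z ∈ irreducibleComponents (X : Type u), y ∈ Z :=
    ⟨_, irreducibleComponent_mem_irreducibleComponents y, mem_irreducibleComponent⟩
  have hxZ : x ∈ Z := by
    by_contra hxZ
    exact (hUS hyU : y ∉ ⋃₀ S) ⟨Z, ⟨hZ, hxZ⟩, hyZ⟩
  have hcl := hZ.1.closure_genericPoint (isClosed_of_mem_irreducibleComponents Z hZ)
  have hgy : hZ.1.genericPoint ⤳ y := specializes_iff_mem_closure.2 (hcl.symm ▸ hyZ)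
  have hgx : hZ.1.genericPoint ⤳ x := specializes_iff_mem_closure.2 (hcl.symm ▸ hxZ)
  have hg : hZ.1.genericPoint ∈ X.basicOpen s := hgy.mem_open (X.basicOpen s).2 hy
  rw [Scheme.mem_basicOpen _ _ _ (hgy.mem_open U.2 hyU),
    ← X.presheaf.germ_stalkSpecializes (U := U) hxU hgx, CommRingCat.comp_apply] at hg
  have hs' : X.presheaf.germ U x hxU s = 0 := hs
  rw [hs', map_zero] at hg
  exact (not_isUnit_zero hg).elim

end Groth.Agent.S7415
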