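import Groth.Statements.S5104
import Mathlib
import Groth.Agent.S7415

set_option autoImplicit false
universe u
open CategoryTheory CategoryTheory.Limits AlgebraicGeometry TopologicalSpace
open Rat20

namespace Groth.Agent.S5104
open AlgebraicGeometry CategoryTheory Limits in
theorem eq_of_appTop_injective {D T Y S : Scheme.{u}} [IsAffine D] (pY : Y ⟶ S) [IsSeparated pY]
    (q : T ⟶ D) (hq : Function.Injective q.appTop) (a b : D ⟶ Y) (hab : a ≫ pY = b ≫ pY)
    (he : q ≫ a = q ≫ b) : a = b := by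
  let snd : pullback (pullback.diagonal pY) (pullback.lift a b hab) ⟶ D := pullback.snd _ _
  let l : T ⟶ pullback (pullback.diagonal pY) (pullback.lift a b hab) := pullback.lift (q ≫ a) q (by
    apply pullback.hom_ext
    · simp only [Category.assoc, pullback.diagonal_fst, Category.comp_id]
      exact congrArg (q ≫ ·) (pullback.lift_fst a b hab).symm
    · simp only [Category.assoc, pullback.diagonal_snd, Category.comp_id]
      exact he.trans (congrArg (q ≫ ·) (pullback.lift_snd a b hab).symm))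
  haveI : IsClosedImmersion snd := by infer_instance
  have hinj : Function.Injective snd.appTop := by
    have h1 : l ≫ snd = q := pullback.lift_snd _ _ _
    rw [← h1, Scheme.Hom.comp_appTop] at hq
    exact Function.Injective.of_comp (f := l.appTop) hq
  haveI : IsIso snd := IsClosedImmersion.isIso_of_injective_of_isAffine hinj
  have h2 : pullback.lift a b hab = inv snd ≫ pullback.fst _ _ ≫ pullback.diagonal pY := by
    rw [IsIso.eq_inv_comp]
    exact pullback.condition.symm
  have ha := congrArg (· ≫ pullback.fst pY pY) h2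
  have hb := congrArg (· ≫ pullback.snd pY pY) h2
  simp only [Category.assoc, pullback.lift_fst, pullback.lift_snd, pullback.diagonal_fst, pullback.diagonal_snd,
    Category.comp_id] at ha hb
  exact ha.trans hb.symm

open AlgebraicGeometry CategoryTheory Limits in
theorem isGermInjectiveAt_of_hyp {X : Scheme.{u}}
    (hX : IsLocallyNoetherian X ∨ (IsReduced X ∧ ∀ x : ↥X, ∃ W : X.Opens, x ∈ W ∧
      {Z : Set ↥X | Z ∈ irreducibleComponents ↥X ∧ (Z ∩ (W : Set ↥X)).Nonempty}.Finite))
    (x : X) : X.IsGermInjectiveAt x := by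
  rcases hX with hX | ⟨hX, hfin⟩
  · haveI := hX; infer_instance
  · haveI := hX
    obtain ⟨W, hxW, hW⟩ := hfin x
    haveI : IsReduced (W : Scheme) := isReduced_of_isOpenImmersion W.ι
    have hfinW : (irreducibleComponents ((W : Scheme) : Type u)).Finite := by
      refine (hW.image fun Z => ⇑W.ι ⁻¹' Z).subset fun Z hZ => ?_
      have hirr : IsIrreducible (⇑W.ι '' Z) := hZ.1.image _ W.ι.continuous.continuousOn
      obtain ⟨Z', hpre, hsub, hmax⟩ := exists_preirreducible (⇑W.ι '' Z) hirr.2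
      obtain ⟨z, hz⟩ := hZ.1.1
      refine ⟨Z', ⟨⟨⟨hirr.1.mono hsub, hpre⟩, fun T hT hle => (hmax T hT.2 hle).le⟩,
        ⟨W.ι z, hsub ⟨z, hz, rfl⟩, z.2⟩⟩, ?_⟩
      exact (hZ.2 ⟨⟨z, hsub ⟨z, hz, rfl⟩⟩, hpre.preimage W.ι.isOpenEmbedding⟩ fun w hw => hsub ⟨w, hw, rfl⟩).antisymm
        (fun w hw => hsub ⟨w, hw, rfl⟩)
    haveI := Groth.Agent.S7415.result (W : Scheme) hfinW ⟨x, hxW⟩
    exact (inferInstance : X.IsGermInjectiveAt (W.ι ⟨x, hxW⟩))

/-- Let X be an S-scheme which is locally Noetherian, or reduced with locally finite set of irreducible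
components; let Y be separated and locally of finite presentation over S, U a schematically dense
open subset of X, h : U → Y an S-morphism (a pseudo-S-morphism ω of X into Y) and x a point of X.
Then ω is defined at x — some S-morphism from an open neighbourhood V of x to Y agrees with h on U ∩
V — if and only if the restriction of ω to Spec O_{X,x} is everywhere defined — some S-morphism Spec
O_{X,x} → Y agrees with h after pulling back to Spec O_{X,x} ×_X U. (The published statement does
not assume Y separated over S and compares morphisms only on some schematically dense open; this row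
assumes Y separated over S, where the two readings agree.) -/
theorem result {X Y S : Scheme.{u}} (pX : X ⟶ S) (pY : Y ⟶ S)
    [IsSeparated pY] [LocallyOfFinitePresentation pY]
    (hX : IsLocallyNoetherian X ∨ (IsReduced X ∧ ∀ x : ↥X, ∃ W : X.Opens, x ∈ W ∧
      {Z : Set ↥X | Z ∈ irreducibleComponents ↥X ∧ (Z ∩ (W : Set ↥X)).Nonempty}.Finite))
    (U : X.Opens) (hU : CInt.IsSchematicallyDense U) (h : (U : Scheme.{u}) ⟶ Y) (hh : h ≫ pY = U.ι ≫ pX)
    (x : ↥X) :
    (∃ (V : X.Opens) (v : (V : Scheme.{u}) ⟶ Y), x ∈ V ∧ v ≫ pY = V.ι ≫ pX ∧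
        X.homOfLE (inf_le_right : U ⊓ V ≤ V) ≫ v = X.homOfLE (inf_le_left : U ⊓ V ≤ U) ≫ h) ↔
      ∃ w : Spec (X.presheaf.stalk x) ⟶ Y, w ≫ pY = X.fromSpecStalk x ≫ pX ∧
        pullback.fst (X.fromSpecStalk x) U.ι ≫ w = pullback.snd (X.fromSpecStalk x) U.ι ≫ h := by
  constructor
  · rintro ⟨V, v, hxV, hv, hag⟩
    refine ⟨V.fromSpecStalkOfMem x hxV ≫ v, ?_, ?_⟩
    · rw [Category.assoc, hv, Scheme.Opens.fromSpecStalkOfMem_ι_assoc]
    · let P := pullback (X.fromSpecStalk x) U.ι
      let e₁ : P ⟶ X := pullback.snd (X.fromSpecStalk x) U.ι ≫ U.ι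
      have hcond : pullback.fst (X.fromSpecStalk x) U.ι ≫ V.fromSpecStalkOfMem x hxV ≫ V.ι = e₁ := by
        rw [Scheme.Opens.fromSpecStalkOfMem_ι]; exact pullback.condition
      have hr : Set.range e₁ ⊆ Set.range (U ⊓ V).ι := by
        rintro _ ⟨z, rfl⟩
        rw [Scheme.Opens.range_ι]
        refine ⟨?_, ?_⟩
        · show U.ι (pullback.snd (X.fromSpecStalk x) U.ι z) ∈ U
          exact (pullback.snd (X.fromSpecStalk x) U.ι z).2
        · have h3 : e₁ z = V.ι (V.fromSpecStalkOfMem x hxV (pullback.fst (X.fromSpecStalk x) U.ι z)) := by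
            rw [← hcond]; rfl
          rw [h3]
          exact (V.fromSpecStalkOfMem x hxV (pullback.fst (X.fromSpecStalk x) U.ι z)).2
      let m : P ⟶ ((U ⊓ V : X.Opens) : Scheme.{u}) := IsOpenImmersion.lift (U ⊓ V).ι e₁ hr
      have hm : m ≫ (U ⊓ V).ι = e₁ := IsOpenImmersion.lift_fac _ _ _
      have h1 : m ≫ X.homOfLE (inf_le_left : U ⊓ V ≤ U) = pullback.snd (X.fromSpecStalk x) U.ι := by
        rw [← cancel_mono U.ι, Category.assoc, X.homOfLE_ι, hm]
      have h2 : m ≫ X.homOfLE (inf_le_right : U ⊓ V ≤ V) = pullback.fst (X.fromSpecStalk x) U.ι ≫ V.fromSpecStalkOfMem x hxV := by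
        rw [← cancel_mono V.ι, Category.assoc, X.homOfLE_ι, hm, Category.assoc, hcond]
      rw [← reassoc_of% h2, hag, reassoc_of% h1]
  · rintro ⟨w, hw, hwh⟩
    haveI := isGermInjectiveAt_of_hyp hX x
    obtain ⟨V₁, hxV₁, f, hwf, hf⟩ := spread_out_of_isGermInjective' pX pY w hw
    obtain ⟨V, hxV, hV, hVV₁, hgerm⟩ := X.exists_le_and_germ_injective x V₁ hxV₁
    refine ⟨V, X.homOfLE hVV₁ ≫ f, hxV, by rw [Category.assoc, hf, X.homOfLE_ι_assoc], ?_⟩
    refine Scheme.hom_ext_of_forall _ _ fun z => ?_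
    obtain ⟨g, hgle, hzg⟩ := hV.exists_basicOpen_le (V := U ⊓ V) ⟨z.1, z.2⟩ z.2.2
    set D := X.basicOpen g
    have hD : IsAffineOpen D := hV.basicOpen g
    haveI : IsAffine (D : Scheme) := hD
    refine ⟨(U ⊓ V).ι ⁻¹ᵁ D, hzg, ?_⟩
    let i : (((U ⊓ V).ι ⁻¹ᵁ D : ((U ⊓ V : X.Opens) : Scheme.{u}).Opens) : Scheme.{u}) ≅ (D : Scheme.{u}) :=
      IsOpenImmersion.isoOfRangeEq (((U ⊓ V).ι ⁻¹ᵁ D).ι ≫ (U ⊓ V).ι) D.ι (by
        rw [Scheme.Hom.comp_base, TopCat.coe_comp, Set.range_comp, Scheme.Opens.range_ι, Scheme.Opens.range_ι]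
        show (⇑(U ⊓ V).ι : _ → X) '' (⇑(U ⊓ V).ι ⁻¹' (D : Set X)) = (D : Set X)
        refine Set.image_preimage_eq_of_subset ?_
        rw [Scheme.Opens.range_ι]
        exact fun p hp => hgle hp)
    have hi : ((U ⊓ V).ι ⁻¹ᵁ D).ι = i.hom ≫ X.homOfLE hgle := by
      rw [← cancel_mono (U ⊓ V).ι, Category.assoc, X.homOfLE_ι, IsOpenImmersion.isoOfRangeEq_hom_fac]
    rw [hi, Category.assoc, Category.assoc]
    congr 1
    rw [X.homOfLE_homOfLE_assoc, X.homOfLE_homOfLE_assoc, X.homOfLE_homOfLE_assoc]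
    have hDU : D ≤ U := hgle.trans inf_le_left
    have hDV₁ : D ≤ V₁ := (hgle.trans inf_le_right).trans hVV₁
    letI : Algebra Γ(X, V) Γ(X, D) := (X.presheaf.map (homOfLE (X.basicOpen_le g)).op).hom.toAlgebra
    haveI : IsLocalization.Away g Γ(X, D) := hV.isLocalization_basicOpen g
    let ρ : Γ(X, V) →+* X.presheaf.stalk x := (X.presheaf.germ V x hxV).hom
    let L := Localization.Away (ρ g)
    let φ : Γ(X, D) →+* L := IsLocalization.Away.map Γ(X, D) L ρ g
    have hφ : Function.Injective φ := by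
      haveI : IsLocalization ((Submonoid.powers g).map ρ) L := by
        rw [Submonoid.map_powers]; infer_instance
      exact IsLocalization.map_injective_of_injective (Submonoid.powers g) Γ(X, D) L hgerm
    let r : Spec (CommRingCat.of L) ⟶ Spec (X.presheaf.stalk x) :=
      Spec.map (CommRingCat.ofHom (algebraMap (X.presheaf.stalk x) L))
    let q : Spec (CommRingCat.of L) ⟶ (D : Scheme.{u}) := Spec.map (CommRingCat.ofHom φ) ≫ hD.isoSpec.inv
    have hq : q ≫ D.ι = r ≫ X.fromSpecStalk x := by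
      have h4 : Spec.map (X.presheaf.map (homOfLE (X.basicOpen_le g)).op) ≫ hV.fromSpec = hD.fromSpec :=
        hV.map_fromSpec hD _
      simp only [q, r, Category.assoc, IsAffineOpen.isoSpec_inv_ι]
      rw [← h4, ← hV.fromSpecStalk_eq_fromSpecStalk hxV, IsAffineOpen.fromSpecStalk, ← Spec.map_comp_assoc, ← Spec.map_comp_assoc]
      congr 2
      refine CommRingCat.hom_ext (RingHom.ext fun c => ?_)
      show φ (algebraMap Γ(X, V) Γ(X, D) c) = algebraMap (X.presheaf.stalk x) L (ρ c)
      exact IsLocalization.map_eq (S := Γ(X, D)) (Q := L) _ c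
    have hqinj : Function.Injective q.appTop := by
      haveI : IsIso (hD.isoSpec.inv).appTop := (inferInstance : IsIso (Scheme.Γ.map hD.isoSpec.inv.op))
      have h5 : Function.Injective (Spec.map (CommRingCat.ofHom φ)).appTop := by
        intro a b hab
        refine (ConcreteCategory.bijective_of_isIso (Scheme.ΓSpecIso (CommRingCat.of Γ(X, D))).hom).1 (hφ ?_)
        have h6 := congrArg (Scheme.ΓSpecIso (CommRingCat.of L)).hom hab
        rw [← ConcreteCategory.comp_apply, ← ConcreteCategory.comp_apply, Scheme.ΓSpecIso_naturality] at h6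
        exact h6
      simp only [q, Scheme.Hom.comp_appTop, CommRingCat.hom_comp, RingHom.coe_comp]
      exact h5.comp (ConcreteCategory.bijective_of_isIso _).1
    refine eq_of_appTop_injective pY q hqinj _ _ ?_ ?_
    · simp only [Category.assoc, hf, hh, X.homOfLE_ι_assoc]
    · let m : Spec (CommRingCat.of L) ⟶ pullback (X.fromSpecStalk x) U.ι :=
        pullback.lift r (q ≫ X.homOfLE hDU) (by rw [Category.assoc, X.homOfLE_ι, hq])
      have h1 := congrArg (m ≫ ·) hwh
      simp only [m, pullback.lift_fst_assoc, pullback.lift_snd_assoc, Category.assoc] at h1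
      have h2 : r ≫ V₁.fromSpecStalkOfMem x hxV₁ = q ≫ X.homOfLE hDV₁ := by
        rw [← cancel_mono V₁.ι, Category.assoc, Category.assoc, X.homOfLE_ι, Scheme.Opens.fromSpecStalkOfMem_ι, hq]
      rw [← h1, hwf, reassoc_of% h2]

end Groth.Agent.S5104
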