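import Groth.Statements.S13749
import Groth.Agent.NeronDescLib.Basic
import Groth.Agent.NeronExtLib.BaseChange
import Groth.Agent.S2879
import Groth.Agent.S5104
-- import your own Groth.Agent.* helpers here

set_option autoImplicit false
universe u
open CategoryTheory AlgebraicGeometry
open Neron CategoryTheory.Limits

namespace Groth.Agent.S13749

theorem flat_fromSpecStalk {X : Scheme.{u}} (x : X) : Flat (X.fromSpecStalk x) := by
  obtain ⟨V, hV, hxV, -⟩ := exists_isAffineOpen_mem_and_subset (X := X) (x := x) (U := ⊤) trivial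
  rw [← hV.fromSpecStalk_eq_fromSpecStalk hxV]
  haveI := hV.isLocalization_stalk ⟨x, hxV⟩
  haveI := hV.isOpenImmersion_fromSpec
  refine MorphismProperty.comp_mem _ _ _ (HasRingHomProperty.Spec_iff.mpr ?_) inferInstance
  letI := X.presheaf.algebra_section_stalk (⟨x, hxV⟩ : V)
  exact RingHom.flat_algebraMap_iff.mpr (IsLocalization.flat (X.presheaf.stalk x)
    (hV.primeIdealOf ⟨x, hxV⟩).asIdeal.primeCompl)

/-- Let S be a locally Noetherian scheme, U ⊆ S a schematically dense open subscheme, N → S a smooth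
separated morphism of finite type and g : S' → S a flat surjective morphism, and put U' = g⁻¹(U).
Suppose the base change N ×_S S' → S' has the Néron mapping property with respect to U': for every
smooth S'-scheme Y', sending an S'-morphism Y' → N ×_S S' to its restriction over U' is a bijection
onto the U'-morphisms Y' ×_{S'} U' → (N ×_S S') ×_{S'} U'. Then N → S has the Néron mapping property
with respect to U: for every smooth S-scheme Y, restriction to U is a bijection from S-morphisms Y →
N onto U-morphisms Y ×_S U → N ×_S U. (The published statement is for an arbitrary base S and open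
U, with N an algebraic space which is a model of an abelian scheme over U, tested against smooth
schemes; this row takes N a scheme, drops the abelian-scheme hypothesis, and assumes S locally
Noetherian with U schematically dense, the setting in which schematic closures of U-sections commute
with flat base change and fill S'.) -/
theorem result
    {S S' : Scheme.{u}} [IsLocallyNoetherian S] (g : S' ⟶ S) [Flat g] [Surjective g]
    (U : S.Opens) (hU : CInt.IsSchematicallyDense U)
    (N : Over S) [Smooth N.hom] [IsSeparated N.hom] [QuasiCompact N.hom]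
    (hN' : ∀ Y' : Over S', Smooth Y'.hom →
      Function.Bijective (fun f : Y' ⟶ (Over.pullback g).obj N => (Over.pullback (g ⁻¹ᵁ U).ι).map f))
    (Y : Over S) [Smooth Y.hom] :
    Function.Bijective (fun f : Y ⟶ N => (Over.pullback U.ι).map f) := by
  haveI : IsLocallyNoetherian Y.left := LocallyOfFiniteType.isLocallyNoetherian Y.hom
  let UY : Y.left.Opens := Y.hom ⁻¹ᵁ U
  have hUY : CInt.IsSchematicallyDense UY := Groth.Agent.S3844.result Y.hom U hU
  have hrange : Set.range (pullback.fst Y.hom U.ι).base = Set.range UY.ι.base := by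
    rw [Scheme.Opens.range_ι, Scheme.Pullback.range_fst, Scheme.Opens.range_ι]; rfl
  let e := IsOpenImmersion.isoOfRangeEq (pullback.fst Y.hom U.ι) UY.ι hrange
  have he : e.hom ≫ UY.ι = pullback.fst Y.hom U.ι := IsOpenImmersion.isoOfRangeEq_hom_fac _ _ hrange
  constructor
  · rw [NeronExtLib.injective_iff]
    intro f₁ f₂ h12
    refine Over.OverMorphism.ext (SchDenseLib.ext_of_isSchematicallyDense UY hUY N.hom
      ((Over.w f₁).trans (Over.w f₂).symm) ?_)
    rw [← cancel_epi e.hom, reassoc_of% he, reassoc_of% he, h12]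
  rw [NeronExtLib.surjective_iff]
  intro h hh
  let hU' : (UY : Scheme.{u}) ⟶ N.left := e.inv ≫ h
  have hhU : hU' ≫ N.hom = UY.ι ≫ Y.hom := by
    rw [Category.assoc, hh, ← he, Category.assoc, e.inv_hom_id_assoc]
  suffices H : ∃ f : Y.left ⟶ N.left, f ≫ N.hom = Y.hom ∧ UY.ι ≫ f = hU' by
    obtain ⟨f, hf, hfU⟩ := H
    refine ⟨Over.homMk f hf, ?_⟩
    show pullback.fst Y.hom U.ι ≫ f = h
    rw [← he, Category.assoc, hfU, e.hom_inv_id_assoc]
  let q := pullback.fst Y.hom g
  let Y' : Over S' := Over.mk (pullback.snd Y.hom g)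
  haveI : Smooth Y'.hom := MorphismProperty.pullback_snd (P := @Smooth) _ _ ‹_›
  let c := pullback.fst Y'.hom (g ⁻¹ᵁ U).ι
  have hr : Set.range (c ≫ q).base ⊆ Set.range UY.ι.base := by
    rintro _ ⟨z, rfl⟩
    rw [Scheme.Opens.range_ι]
    show (c ≫ q ≫ Y.hom) z ∈ U
    rw [pullback.condition]
    show (c ≫ Y'.hom ≫ g) z ∈ U
    rw [pullback.condition_assoc]
    exact (pullback.snd Y'.hom (g ⁻¹ᵁ U).ι z).2
  let m := IsOpenImmersion.lift UY.ι (c ≫ q) hr
  have hm : m ≫ UY.ι = c ≫ q := IsOpenImmersion.lift_fac _ _ _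
  let a : pullback Y'.hom (g ⁻¹ᵁ U).ι ⟶ pullback N.hom g := pullback.lift (m ≫ hU') (c ≫ Y'.hom) (by
    rw [Category.assoc, hhU, reassoc_of% hm, Category.assoc]
    exact congrArg (c ≫ ·) pullback.condition)
  obtain ⟨f', hf'⟩ := (NeronExtLib.surjective_iff (g ⁻¹ᵁ U).ι Y' ((Over.pullback g).obj N)).mp (hN' Y' ‹_›).2 a
    (pullback.lift_snd _ _ _)
  let g' : pullback Y.hom g ⟶ N.left := f'.left ≫ pullback.fst N.hom g
  have hg' : g' ≫ N.hom = q ≫ Y.hom := by
    show (f'.left ≫ pullback.fst N.hom g) ≫ N.hom = _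
    rw [Category.assoc, pullback.condition, ← Category.assoc,
      show f'.left ≫ pullback.snd N.hom g = Y'.hom from Over.w f']
    exact pullback.condition.symm
  have hg'U : c ≫ g' = m ≫ hU' := by
    show c ≫ f'.left ≫ pullback.fst N.hom g = _
    rw [← Category.assoc, hf']
    exact pullback.lift_fst _ _ _
  refine NeronDescLib.exists_glue Y.hom N.hom hUY hU' hhU fun y => ?_
  refine (Groth.Agent.S5104.result Y.hom N.hom (Or.inl inferInstance) UY hUY hU' hhU y).mpr ?_
  obtain ⟨y', rfl⟩ := q.surjective y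
  haveI : Flat q := inferInstance
  let sy := Y.left.fromSpecStalk (q y')
  let r := Spec.map (q.stalkMap y')
  have hrq : r ≫ sy = (pullback Y.hom g).fromSpecStalk y' ≫ q := Scheme.SpecMap_stalkMap_fromSpecStalk q
  haveI : Flat r := HasRingHomProperty.Spec_iff.mpr (Flat.stalkMap q y')
  haveI : Surjective r := by
    algebraize [(q.stalkMap y').hom]
    haveI := Flat.stalkMap q y'
    haveI : Module.Flat (Y.left.presheaf.stalk (q y')) ((pullback Y.hom g).presheaf.stalk y') := this
    haveI : IsLocalHom (algebraMap (Y.left.presheaf.stalk (q y')) ((pullback Y.hom g).presheaf.stalk y')) :=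
      inferInstanceAs (IsLocalHom (q.stalkMap y').hom)
    haveI : Module.FaithfullyFlat (Y.left.presheaf.stalk (q y')) ((pullback Y.hom g).presheaf.stalk y') :=
      Module.FaithfullyFlat.of_flat_of_isLocalHom
    exact ⟨PrimeSpectrum.comap_surjective_of_faithfullyFlat⟩
  haveI : Flat sy := flat_fromSpecStalk _
  have hdense : CInt.IsSchematicallyDense ((pullback.fst r r) ⁻¹ᵁ (r ⁻¹ᵁ (sy ⁻¹ᵁ UY))) := by
    haveI : Flat (pullback.fst r r ≫ r ≫ sy) := inferInstance
    exact Groth.Agent.S3844.result (pullback.fst r r ≫ r ≫ sy) UY hUY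
  let gs := (sy ∣_ UY) ≫ hU'
  obtain ⟨w, hw₁, hw₂⟩ := Groth.Agent.S2879.result (sy ≫ Y.hom) N.hom r (sy ⁻¹ᵁ UY) hdense gs
    (by rw [Category.assoc, hhU, ← Category.assoc, morphismRestrict_ι, Category.assoc])
    ((pullback Y.hom g).fromSpecStalk y' ≫ g') (by rw [Category.assoc, hg', reassoc_of% hrq]) (by
    let O := r ⁻¹ᵁ (sy ⁻¹ᵁ UY)
    let z := O.ι ≫ (pullback Y.hom g).fromSpecStalk y'
    have hz : Set.range (z ≫ Y'.hom).base ⊆ Set.range (g ⁻¹ᵁ U).ι.base := by
      rintro _ ⟨o, rfl⟩
      rw [Scheme.Opens.range_ι]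
      show (z ≫ pullback.snd Y.hom g ≫ g) o ∈ U
      rw [← pullback.condition]
      have h1 : sy (r (O.ι o)) ∈ UY := o.2
      rw [← Scheme.Hom.comp_apply, hrq] at h1
      exact h1
    let l := pullback.lift z (IsOpenImmersion.lift (g ⁻¹ᵁ U).ι (z ≫ Y'.hom) hz)
      (IsOpenImmersion.lift_fac _ _ _).symm
    have hl : l ≫ c = z := pullback.lift_fst _ _ _
    show O.ι ≫ (pullback Y.hom g).fromSpecStalk y' ≫ g' = (r ∣_ (sy ⁻¹ᵁ UY)) ≫ (sy ∣_ UY) ≫ hU'
    rw [← Category.assoc, show O.ι ≫ (pullback Y.hom g).fromSpecStalk y' = l ≫ c from hl.symm, Category.assoc,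
      hg'U, ← Category.assoc, ← Category.assoc (r ∣_ _)]
    congr 1
    rw [← cancel_mono UY.ι, Category.assoc, hm, ← Category.assoc, hl]
    simp only [Category.assoc, morphismRestrict_ι]
    rw [← Category.assoc (r ∣_ _), morphismRestrict_ι, Category.assoc, ← hrq]
    rfl)
  refine ⟨w, hw₂, ?_⟩
  let p := pullback.fst sy UY.ι
  have hp : Set.range p.base ⊆ Set.range (sy ⁻¹ᵁ UY).ι.base := by
    rintro _ ⟨o, rfl⟩
    rw [Scheme.Opens.range_ι]
    show (p ≫ sy) o ∈ UY
    rw [show p ≫ sy = pullback.snd sy UY.ι ≫ UY.ι from pullback.condition]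
    exact (pullback.snd sy UY.ι o).2
  let p' := IsOpenImmersion.lift (sy ⁻¹ᵁ UY).ι p hp
  have hp' : p' ≫ (sy ⁻¹ᵁ UY).ι = p := IsOpenImmersion.lift_fac _ _ _
  have hs : p' ≫ (sy ∣_ UY) = pullback.snd sy UY.ι := by
    rw [← cancel_mono UY.ι, Category.assoc, morphismRestrict_ι, reassoc_of% hp']; exact pullback.condition
  show p ≫ w = pullback.snd sy UY.ι ≫ hU'
  rw [← hp', Category.assoc, hw₁, reassoc_of% hs]

end Groth.Agent.S13749
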