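import Groth.Statements.S13750
import Groth.Agent.SpreadLocLib.Model
import Groth.Agent.SpreadLocLib.Spread
import Groth.Agent.NeronExtLib.BaseChange
-- import your own Groth.Agent.* helpers here

set_option autoImplicit false
set_option backward.isDefEq.respectTransparency false
set_option backward.isDefEq.respectTransparency.types false
universe u
open CategoryTheory AlgebraicGeometry
open Neron CategoryTheory.Limits SpreadLocLib Opposite

namespace Groth.Agent.S13750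

/-- Uniqueness half in plain form. -/
def HInj {S N : Scheme.{u}} (n : N ⟶ S) (U : S.Opens) {Z : Scheme.{u}} (z : Z ⟶ S) : Prop :=
  ∀ f₁ f₂ : Z ⟶ N, f₁ ≫ n = z → f₂ ≫ n = z → (z ⁻¹ᵁ U).ι ≫ f₁ = (z ⁻¹ᵁ U).ι ≫ f₂ → f₁ = f₂

/-- Existence half in plain form. -/
def HSurj {S N : Scheme.{u}} (n : N ⟶ S) (U : S.Opens) {Z : Scheme.{u}} (z : Z ⟶ S) : Prop :=
  ∀ a : (z ⁻¹ᵁ U : Scheme.{u}) ⟶ N, a ≫ n = (z ⁻¹ᵁ U).ι ≫ z → ∃ f : Z ⟶ N, f ≫ n = z ∧ (z ⁻¹ᵁ U).ι ≫ f = a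

theorem range_fst {S : Scheme.{u}} (U : S.Opens) (Y : Over S) :
    Set.range (pullback.fst Y.hom U.ι).base = Set.range (Y.hom ⁻¹ᵁ U).ι.base := by
  rw [Scheme.Opens.range_ι, Scheme.Pullback.range_fst, Scheme.Opens.range_ι]; rfl

theorem hinj_iff {S : Scheme.{u}} (U : S.Opens) (N Y : Over S) :
    Function.Injective (fun f : Y ⟶ N => (Over.pullback U.ι).map f) ↔ HInj N.hom U Y.hom := by
  let e := IsOpenImmersion.isoOfRangeEq (pullback.fst Y.hom U.ι) (Y.hom ⁻¹ᵁ U).ι (range_fst U Y)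
  have he : e.hom ≫ (Y.hom ⁻¹ᵁ U).ι = pullback.fst Y.hom U.ι := IsOpenImmersion.isoOfRangeEq_hom_fac _ _ _
  rw [NeronExtLib.injective_iff]
  refine ⟨fun h f₁ f₂ h₁ h₂ h12 => congrArg CommaMorphism.left (h (Over.homMk f₁ h₁) (Over.homMk f₂ h₂) ?_),
    fun h f₁ f₂ h12 => Over.OverMorphism.ext (h _ _ (Over.w f₁) (Over.w f₂) ?_)⟩
  · show pullback.fst Y.hom U.ι ≫ f₁ = pullback.fst Y.hom U.ι ≫ f₂
    rw [← he, Category.assoc, Category.assoc, h12]
  · rw [← cancel_epi e.hom, reassoc_of% he, reassoc_of% he, h12]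

theorem hsurj_iff {S : Scheme.{u}} (U : S.Opens) (N Y : Over S) :
    Function.Surjective (fun f : Y ⟶ N => (Over.pullback U.ι).map f) ↔ HSurj N.hom U Y.hom := by
  let e := IsOpenImmersion.isoOfRangeEq (pullback.fst Y.hom U.ι) (Y.hom ⁻¹ᵁ U).ι (range_fst U Y)
  have he : e.hom ≫ (Y.hom ⁻¹ᵁ U).ι = pullback.fst Y.hom U.ι := IsOpenImmersion.isoOfRangeEq_hom_fac _ _ _
  rw [NeronExtLib.surjective_iff]
  refine ⟨fun h a ha => ?_, fun h a ha => ?_⟩
  · obtain ⟨f, hf⟩ := h (e.hom ≫ a) (by rw [Category.assoc, ha, reassoc_of% he])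
    exact ⟨f.left, Over.w f, by rw [← cancel_epi e.hom, reassoc_of% he, hf]⟩
  · obtain ⟨f, hf, hfa⟩ := h (e.inv ≫ a) (by rw [Category.assoc, ha, ← he, Category.assoc, e.inv_hom_id_assoc])
    exact ⟨Over.homMk f hf, by
      show pullback.fst Y.hom U.ι ≫ f = a
      rw [← he, Category.assoc, hfa, e.hom_inv_id_assoc]⟩

section Local

variable {B : Type u} [CommRing B] [IsNoetherianRing B] (M : Submonoid B) (A : Type u) [CommRing A] [Algebra B A]
  [IsLocalization M A] {S N : Scheme.{u}} (p : Spec (CommRingCat.of B) ⟶ S) (n : N ⟶ S) [LocallyOfFinitePresentation n]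
  (U : S.Opens)

theorem exists_hom_top (f : Spec (CommRingCat.of A) ⟶ N) (hf : f ≫ n = proj A ≫ p) :
    ∃ (k : Finset M) (g : (nbhd M k : Scheme.{u}) ⟶ N), g ≫ n = (nbhd M k).ι ≫ p ∧
      (SpreadLocLib.cone M A).π.app (op k) ≫ g = f := by
  obtain ⟨k, g, hg, hga⟩ := SpreadLocLib.exists_hom M A p n ⊤
    ((⊤ : (Spec (CommRingCat.of A)).Opens).ι ≫ f) (by rw [Category.assoc, hf]; rfl)
  refine ⟨k, (nbhd M k : Scheme.{u}).topIso.inv ≫ g, ?_, ?_⟩
  · rw [Category.assoc, hg]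
    exact (nbhd M k : Scheme.{u}).topIso.inv_hom_id_assoc _
  · rw [← cancel_epi (Spec (CommRingCat.of A)).topIso.hom]
    show (⊤ : (Spec (CommRingCat.of A)).Opens).ι ≫ _ = (⊤ : (Spec (CommRingCat.of A)).Opens).ι ≫ _
    rw [← hga, ← Category.assoc, ← Category.assoc]
    congr 1
    rw [← cancel_mono ((nbhd M k).ι ⁻¹ᵁ ⊤).ι, Scheme.Hom.resLE_comp_ι]
    exact ((Category.assoc _ _ _).trans (congrArg
      (((⊤ : (Spec (CommRingCat.of A)).Opens).ι ≫ (SpreadLocLib.cone M A).π.app (op k)) ≫ ·)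
      (nbhd M k : Scheme.{u}).topIso.inv_hom_id)).trans (Category.comp_id _)

include M in
theorem hinj_local (hI : ∀ (Z : Scheme.{u}) (z : Z ⟶ S), Smooth z → HInj n U z) [Smooth p] :
    HInj n U (proj A ≫ p) := by
  classical
  intro f₁ f₂ h₁ h₂ h12
  obtain ⟨k₁, g₁, hg₁, hgf₁⟩ := exists_hom_top M A p n f₁ h₁
  obtain ⟨k₂, g₂, hg₂, hgf₂⟩ := exists_hom_top M A p n f₂ h₂
  let k := k₁ ∪ k₂
  let g₁' := (SpreadLocLib.diag M).map (homOfLE (Finset.subset_union_left (s₁ := k₁) (s₂ := k₂))).op ≫ g₁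
  let g₂' := (SpreadLocLib.diag M).map (homOfLE (Finset.subset_union_right (s₁ := k₁) (s₂ := k₂))).op ≫ g₂
  have e₁ : (SpreadLocLib.cone M A).π.app (op k) ≫ g₁' = f₁ := by
    show _ ≫ _ ≫ _ = _
    rw [← Category.assoc, (SpreadLocLib.cone M A).w, hgf₁]
  have e₂ : (SpreadLocLib.cone M A).π.app (op k) ≫ g₂' = f₂ := by
    show _ ≫ _ ≫ _ = _
    rw [← Category.assoc, (SpreadLocLib.cone M A).w, hgf₂]
  have hg₁' : g₁' ≫ n = (nbhd M k).ι ≫ p := by
    show (_ ≫ _) ≫ _ = _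
    rw [Category.assoc, hg₁, ← Category.assoc, diag_map_ι]
  have hg₂' : g₂' ≫ n = (nbhd M k).ι ≫ p := by
    show (_ ≫ _) ≫ _ = _
    rw [Category.assoc, hg₂, ← Category.assoc, diag_map_ι]
  obtain ⟨l, hkl, hl⟩ := SpreadLocLib.exists_eq M A p n (p ⁻¹ᵁ U) k (Scheme.Opens.ι _ ≫ g₁') (Scheme.Opens.ι _ ≫ g₂')
    (by rw [Category.assoc, hg₁']) (by rw [Category.assoc, hg₂']) (by
      simp only [Scheme.Hom.resLE_comp_ι_assoc, e₁, e₂]
      exact h12)
  simp only [Scheme.Hom.resLE_comp_ι_assoc] at hl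
  have := hI _ ((nbhd M l).ι ≫ p) inferInstance ((SpreadLocLib.diag M).map (homOfLE hkl).op ≫ g₁')
    ((SpreadLocLib.diag M).map (homOfLE hkl).op ≫ g₂') (by rw [Category.assoc, hg₁', ← Category.assoc, diag_map_ι])
    (by rw [Category.assoc, hg₂', ← Category.assoc, diag_map_ι]) hl
  rw [← e₁, ← e₂, ← (SpreadLocLib.cone M A).w (homOfLE hkl).op, Category.assoc, Category.assoc, this]

include M in
theorem hsurj_local (hS : ∀ (Z : Scheme.{u}) (z : Z ⟶ S), Smooth z → HSurj n U z) [Smooth p] :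
    HSurj n U (proj A ≫ p) := by
  intro a ha
  obtain ⟨k, g, hg, hga⟩ := SpreadLocLib.exists_hom M A p n (p ⁻¹ᵁ U) a ha
  obtain ⟨f, hf, hfg⟩ := hS _ ((nbhd M k).ι ≫ p) inferInstance g hg
  refine ⟨(SpreadLocLib.cone M A).π.app (op k) ≫ f, by rw [Category.assoc, hf, ← Category.assoc, cone_app_ι], ?_⟩
  rw [← hga, ← hfg]
  exact (Scheme.Hom.resLE_comp_ι_assoc _ _ _).symm

end Local

section Global

variable {S N : Scheme.{u}} [IsLocallyNoetherian S] (n : N ⟶ S) [LocallyOfFinitePresentation n] (U : S.Opens)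
  (s : S)

theorem exists_affine_model {A : CommRingCat.{u}} (φ : Spec A ⟶ Spec (S.presheaf.stalk s)) [Smooth φ] :
    ∃ (B : Type u) (_ : CommRing B) (_ : IsNoetherianRing B) (M : Submonoid B) (_ : Algebra B A)
      (_ : IsLocalization M A) (p : Spec (CommRingCat.of B) ⟶ S), Smooth p ∧ φ ≫ S.fromSpecStalk s = proj A ≫ p := by
  obtain ⟨V, hV, hsV, -⟩ := exists_isAffineOpen_mem_and_subset (X := S) (x := s) (U := ⊤) trivial
  obtain ⟨ψ, rfl⟩ : ∃ ψ, Spec.map ψ = φ := ⟨_, Spec.map_preimage φ⟩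
  let R := Γ(S, V)
  haveI : IsNoetherianRing R := IsLocallyNoetherian.component_noetherian ⟨V, hV⟩
  let O := S.presheaf.stalk s
  letI : Algebra R O := S.presheaf.algebra_section_stalk (⟨s, hsV⟩ : V)
  haveI : IsLocalization (hV.primeIdealOf ⟨s, hsV⟩).asIdeal.primeCompl O := hV.isLocalization_stalk ⟨s, hsV⟩
  letI : Algebra O A := ψ.hom.toAlgebra
  letI : Algebra R A := (ψ.hom.comp (algebraMap R O)).toAlgebra
  haveI : IsScalarTower R O A := IsScalarTower.of_algebraMap_eq' rfl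
  haveI : Algebra.Smooth O A := RingHom.smooth_algebraMap.1 ((HasRingHomProperty.Spec_iff (P := @Smooth)).1 ‹_›)
  obtain ⟨B, _, _, _, tow, hB, hloc⟩ := SpreadLocLib.exists_smooth_model R O A (hV.primeIdealOf ⟨s, hsV⟩).asIdeal.primeCompl
  haveI : IsNoetherianRing B := Algebra.FiniteType.isNoetherianRing R B
  haveI : Smooth (Spec.map (CommRingCat.ofHom (algebraMap R B))) :=
    (HasRingHomProperty.Spec_iff (P := @Smooth)).2 (RingHom.smooth_algebraMap.2 hB)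
  haveI := hV.isOpenImmersion_fromSpec
  refine ⟨B, inferInstance, inferInstance, _, inferInstance, hloc,
    Spec.map (CommRingCat.ofHom (algebraMap R B)) ≫ hV.fromSpec, inferInstance, ?_⟩
  rw [← hV.fromSpecStalk_eq_fromSpecStalk hsV, IsAffineOpen.fromSpecStalk, ← Category.assoc, ← Category.assoc,
    ← Spec.map_comp, ← Spec.map_comp]
  congr 2
  exact CommRingCat.hom_ext (IsScalarTower.algebraMap_eq R B A)

theorem hinj_spec (hI : ∀ (Z : Scheme.{u}) (z : Z ⟶ S), Smooth z → HInj n U z) {A : CommRingCat.{u}}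
    (φ : Spec A ⟶ Spec (S.presheaf.stalk s)) [Smooth φ] : HInj n U (φ ≫ S.fromSpecStalk s) := by
  obtain ⟨B, _, _, M, _, _, p, hp, hφ⟩ := exists_affine_model s φ
  rw [hφ]
  exact hinj_local M A p n U hI

theorem hsurj_spec (hS : ∀ (Z : Scheme.{u}) (z : Z ⟶ S), Smooth z → HSurj n U z) {A : CommRingCat.{u}}
    (φ : Spec A ⟶ Spec (S.presheaf.stalk s)) [Smooth φ] : HSurj n U (φ ≫ S.fromSpecStalk s) := by
  obtain ⟨B, _, _, M, _, _, p, hp, hφ⟩ := exists_affine_model s φ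
  rw [hφ]
  exact hsurj_local M A p n U hS

theorem hinj_global (hI : ∀ (Z : Scheme.{u}) (z : Z ⟶ S), Smooth z → HInj n U z) {Z : Scheme.{u}}
    (z : Z ⟶ Spec (S.presheaf.stalk s)) [Smooth z] : HInj n U (z ≫ S.fromSpecStalk s) := by
  intro f₁ f₂ h₁ h₂ h12
  refine Scheme.Cover.hom_ext Z.affineCover _ _ fun i => ?_
  haveI := Z.affineCover.map_prop i
  have key := hinj_spec n U s hI (Z.affineCover.f i ≫ z)
  rw [Category.assoc] at key
  refine key _ _ (by rw [Category.assoc, h₁]) (by rw [Category.assoc, h₂]) ?_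
  have := congrArg ((Z.affineCover.f i).resLE ((z ≫ S.fromSpecStalk s) ⁻¹ᵁ U) _ le_rfl ≫ ·) h12
  simp only [Scheme.Hom.resLE_comp_ι_assoc] at this
  exact this

theorem hsurj_global (hI : ∀ (Z : Scheme.{u}) (z : Z ⟶ S), Smooth z → HInj n U z)
    (hS : ∀ (Z : Scheme.{u}) (z : Z ⟶ S), Smooth z → HSurj n U z) {Z : Scheme.{u}}
    (z : Z ⟶ Spec (S.presheaf.stalk s)) [Smooth z] : HSurj n U (z ≫ S.fromSpecStalk s) := by
  intro a ha
  let w := z ≫ S.fromSpecStalk s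
  let 𝒰 := Z.affineCover
  haveI : ∀ i, IsOpenImmersion (𝒰.f i) := fun i => 𝒰.map_prop i
  have hloc : ∀ i, ∃ f : 𝒰.X i ⟶ N, f ≫ n = 𝒰.f i ≫ w ∧
      ((𝒰.f i ≫ w) ⁻¹ᵁ U).ι ≫ f = (𝒰.f i).resLE (w ⁻¹ᵁ U) _ le_rfl ≫ a := fun i => by
    haveI : Smooth (𝒰.f i ≫ z) := inferInstance
    have key := hsurj_spec n U s hS (𝒰.f i ≫ z)
    rw [Category.assoc] at key
    exact key _ (by rw [Category.assoc, ha, Scheme.Hom.resLE_comp_ι_assoc]; rfl)
  choose f hf hfa using hloc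
  have hc : ∀ i j, pullback.fst (𝒰.f i) (𝒰.f j) ≫ f i = pullback.snd (𝒰.f i) (𝒰.f j) ≫ f j := fun i j => by
    haveI : Smooth ((pullback.fst (𝒰.f i) (𝒰.f j) ≫ 𝒰.f i) ≫ z) := inferInstance
    refine hinj_global n U s hI ((pullback.fst (𝒰.f i) (𝒰.f j) ≫ 𝒰.f i) ≫ z) _ _
      (by simp only [Category.assoc, hf, w]) (by simp only [Category.assoc, hf, w, pullback.condition_assoc]) ?_
    let P := (((pullback.fst (𝒰.f i) (𝒰.f j) ≫ 𝒰.f i) ≫ z) ≫ S.fromSpecStalk s) ⁻¹ᵁ U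
    have h1 := congrArg ((pullback.fst (𝒰.f i) (𝒰.f j)).resLE ((𝒰.f i ≫ w) ⁻¹ᵁ U) P le_rfl ≫ ·) (hfa i)
    have hle : P ≤ pullback.snd (𝒰.f i) (𝒰.f j) ⁻¹ᵁ ((𝒰.f j ≫ w) ⁻¹ᵁ U) := by
      rw [← Scheme.Hom.comp_preimage]
      exact le_of_eq (by simp only [P, w, Category.assoc, pullback.condition_assoc])
    have h2 := congrArg ((pullback.snd (𝒰.f i) (𝒰.f j)).resLE ((𝒰.f j ≫ w) ⁻¹ᵁ U) P hle ≫ ·) (hfa j)
    simp only [Scheme.Hom.resLE_comp_ι_assoc, Scheme.Hom.resLE_comp_resLE_assoc] at h1 h2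
    refine h1.trans (Eq.trans ?_ h2.symm)
    simp only [← Category.assoc]
    congr 1
    rw [← cancel_mono (w ⁻¹ᵁ U).ι]
    simp only [Category.assoc, Scheme.Hom.resLE_comp_ι]
    exact ((Scheme.Hom.resLE_comp_ι_assoc (pullback.fst (𝒰.f i) (𝒰.f j)) _ (𝒰.f i)).trans
      (congrArg (P.ι ≫ ·) pullback.condition)).trans
      (Scheme.Hom.resLE_comp_ι_assoc (pullback.snd (𝒰.f i) (𝒰.f j)) hle (𝒰.f j)).symm
  let F := 𝒰.glueMorphisms f hc
  have hF : ∀ i, 𝒰.f i ≫ F = f i := fun i => 𝒰.ι_glueMorphisms f hc i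
  refine ⟨F, Scheme.Cover.hom_ext 𝒰 _ _ fun i => by rw [← Category.assoc, hF, hf], ?_⟩
  refine Scheme.hom_ext_of_forall _ _ fun x => ?_
  obtain ⟨i, y, hy⟩ := 𝒰.exists_eq ((w ⁻¹ᵁ U).ι x)
  have hyU : y ∈ (𝒰.f i ≫ w) ⁻¹ᵁ U := by
    show w (𝒰.f i y) ∈ U
    rw [hy]; exact x.2
  let r := (𝒰.f i).resLE (w ⁻¹ᵁ U) ((𝒰.f i ≫ w) ⁻¹ᵁ U) le_rfl
  haveI : IsOpenImmersion r := by
    haveI : IsOpenImmersion (r ≫ (w ⁻¹ᵁ U).ι) := by rw [Scheme.Hom.resLE_comp_ι]; infer_instance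
    exact IsOpenImmersion.of_comp r (w ⁻¹ᵁ U).ι
  have hxr : x ∈ r.opensRange := ⟨⟨y, hyU⟩, Subtype.ext (by
    show (r ≫ (w ⁻¹ᵁ U).ι) ⟨y, hyU⟩ = _
    rw [Scheme.Hom.resLE_comp_ι]
    exact hy)⟩
  refine ⟨r.opensRange, hxr, ?_⟩
  rw [← cancel_epi r.isoOpensRange.hom, Scheme.Hom.isoOpensRange_hom_ι_assoc, Scheme.Hom.isoOpensRange_hom_ι_assoc]
  show r ≫ (w ⁻¹ᵁ U).ι ≫ F = r ≫ a
  rw [Scheme.Hom.resLE_comp_ι_assoc, hF, hfa i]
  rfl

end Global

/-- Let S be a locally Noetherian scheme, U ⊆ S an open subscheme and N → S a smooth separated morphism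
of finite type having the Néron mapping property with respect to U: for every smooth S-scheme Y,
restriction to U is a bijection from S-morphisms Y → N onto U-morphisms Y ×_S U → N ×_S U. Let s be
a point of S and S̃ = Spec O_{S,s} → S the canonical morphism. Then N ×_S S̃ → S̃ has the Néron
mapping property with respect to the preimage Ũ of U: for every smooth S̃-scheme Ỹ, restriction to Ũ
is a bijection from S̃-morphisms Ỹ → N ×_S S̃ onto Ũ-morphisms. (The published statement is for N an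
algebraic space which is a Néron model of an abelian scheme over U and also covers the strict
henselisation at a geometric point; this row is the localisation case for a scheme N, with no
abelian-scheme hypothesis.) -/
theorem result
    {S : Scheme.{u}} [IsLocallyNoetherian S] (U : S.Opens)
    (N : Over S) [Smooth N.hom] [IsSeparated N.hom] [QuasiCompact N.hom]
    (hN : ∀ Y : Over S, Smooth Y.hom →
      Function.Bijective (fun f : Y ⟶ N => (Over.pullback U.ι).map f))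
    (s : S) (Y' : Over (Spec (S.presheaf.stalk s))) [Smooth Y'.hom] :
    Function.Bijective (fun f : Y' ⟶ (Over.pullback (S.fromSpecStalk s)).obj N =>
      (Over.pullback ((S.fromSpecStalk s) ⁻¹ᵁ U).ι).map f) := by
  have hI : ∀ (Z : Scheme.{u}) (z : Z ⟶ S), Smooth z → HInj N.hom U z := fun Z z hz =>
    (hinj_iff U N (Over.mk z)).1 (hN (Over.mk z) hz).1
  have hS : ∀ (Z : Scheme.{u}) (z : Z ⟶ S), Smooth z → HSurj N.hom U z := fun Z z hz =>
    (hsurj_iff U N (Over.mk z)).1 (hN (Over.mk z) hz).2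
  have sq := (isPullback_morphismRestrict (S.fromSpecStalk s) U)
  exact ⟨NeronExtLib.injective_baseChange sq N Y' ((hinj_iff U N _).2 (hinj_global N.hom U s hI Y'.hom)),
    NeronExtLib.surjective_baseChange sq N Y' ((hsurj_iff U N _).2 (hsurj_global N.hom U s hI hS Y'.hom))⟩

end Groth.Agent.S13750
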