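import Groth.Statements.S13751
import Groth.Agent.AbRegExtLib.Global

set_option autoImplicit false
set_option backward.isDefEq.respectTransparency false
set_option backward.isDefEq.respectTransparency.types false
universe u
open CategoryTheory CategoryTheory.Limits AlgebraicGeometry MonObj
open Neron

namespace Groth.Agent.S13751

/-- Let S be a locally Noetherian scheme all of whose local rings are regular, let U ⊆ S be a dense open
subscheme and let A → S be an abelian scheme: a proper smooth group scheme over S whose geometric
fibres are connected. Then A is a Néron model of its restriction A ×_S U over S, in the sense that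
for every smooth S-scheme Y the restriction map from S-morphisms Y → A to U-morphisms Y ×_S U → A
×_S U is a bijection. (The published statement is for an abelian algebraic space over a regular base
and does not ask U to be dense; for U empty and A of positive relative dimension the identity and
the zero map of A both restrict to the empty morphism, so uniqueness fails, and the published
uniqueness argument uses density — this row takes A a scheme and U dense.) -/
theorem result
    {S : Scheme.{u}} [IsLocallyNoetherian S] (hreg : ∀ s : S, IsRegularLocalRing (S.presheaf.stalk s))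
    (U : S.Opens) (hU : Dense (U : Set S))
    (A : Over S) [GrpObj A] [IsProper A.hom] [Smooth A.hom]
    (hconn : ∀ (L : Type u) [Field L] (t : Spec (CommRingCat.of L) ⟶ S), ConnectedSpace ↑(pullback A.hom t))
    (Y : Over S) [Smooth Y.hom] :
    Function.Bijective (fun f : Y ⟶ A => (Over.pullback U.ι).map f) := by
  haveI : IsLocallyNoetherian Y.left := LocallyOfFiniteType.isLocallyNoetherian Y.hom
  have hY : ∀ y : Y.left, IsRegularLocalRing (Y.left.presheaf.stalk y) := fun y => by
    haveI := hreg (Y.hom y)
    exact BlowUpLib.isRegularLocalRing_stalk_of_smooth Y.hom y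
  haveI := AbRegExt.isReduced_of_regular hY
  let U' : Y.left.Opens := Y.hom ⁻¹ᵁ U
  have hU' : Dense (U' : Set Y.left) := hU.preimage Y.hom.isOpenMap
  let e := pullbackRestrictIsoRestrict Y.hom U
  have he : e.hom ≫ U'.ι = pullback.fst Y.hom U.ι := pullbackRestrictIsoRestrict_hom_ι Y.hom U
  have hfst : ∀ f : Y ⟶ A, ((Over.pullback U.ι).map f).left ≫ pullback.fst A.hom U.ι = e.hom ≫ U'.ι ≫ f.left :=
    fun f => by rw [← Category.assoc, he]; exact pullback.lift_fst _ _ _
  refine ⟨fun f f' h => ?_, fun k => ?_⟩
  · have h1 : e.hom ≫ U'.ι ≫ f.left = e.hom ≫ U'.ι ≫ f'.left := by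
      rw [← hfst, ← hfst]
      exact congrArg (fun m => CommaMorphism.left m ≫ pullback.fst A.hom U.ι) h
    exact Over.OverMorphism.ext (AbRegExt.ext_of_dense A.hom hU' ((Over.w f).trans (Over.w f').symm)
      ((cancel_epi e.hom).1 h1))
  · obtain ⟨g', h1, h2⟩ := AbRegExt.exists_extension A.hom (AbRegExt.noRat_of_grp A) hY Y.hom U' hU'
      (e.inv ≫ k.left ≫ pullback.fst A.hom U.ι) (by
        have hk : k.left ≫ pullback.snd A.hom U.ι = pullback.snd Y.hom U.ι := Over.w k
        simp only [Category.assoc, pullback.condition]
        rw [reassoc_of% hk, ← pullback.condition, ← Category.assoc e.inv, Iso.inv_comp_eq e |>.2 he.symm])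
    refine ⟨Over.homMk g' h1, Over.OverMorphism.ext (pullback.hom_ext ?_ ?_)⟩
    · refine (hfst _).trans ?_
      show e.hom ≫ U'.ι ≫ g' = _
      rw [h2, Iso.hom_inv_id_assoc]
    · exact (Over.w ((Over.pullback U.ι).map (Over.homMk g' h1))).trans (Over.w k).symm

end Groth.Agent.S13751
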