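import Groth.Statements.S2227
import Groth.Agent.StrictSSLib.DVRBase
import Groth.Agent.StrictSSLib.NodeBranch
import Groth.Agent.AlgSpLib.EtSmKey
import Groth.Agent.FibDimLib.Smooth
-- import your own Groth.Agent.* helpers here

set_option autoImplicit false
universe u
open CategoryTheory AlgebraicGeometry
open Models

set_option backward.isDefEq.respectTransparency false
set_option backward.isDefEq.respectTransparency.types false
set_option maxHeartbeats 1000000

namespace Groth.Agent.S2227

open CategoryTheory.Limits IsLocalRing StrictSS StrictSSLib NodalLib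
open scoped TensorProduct

noncomputable section

/-- A point at which a nodal family is not smooth is a node of its fibre. -/
theorem isNode_of_not_smooth {X S : Scheme.{u}} (q : X ⟶ S) [LocallyOfFinitePresentation q]
    (hq : Curv2.IsNodalFamily q) (y : X) (hy : y ∉ q.smoothLocus) :
    @Curv2.IsNode (S.residueField (q y)) _ (q.fiber (q y)) ⟨q.fiberToSpecResidueField (q y)⟩ (q.asFiber y) := by
  haveI := hq.1
  haveI := hq.2.1
  obtain ⟨hFd, hFn⟩ := hq.2.2 (q y)
  letI : (q.fiber (q y)).Over (Spec (CommRingCat.of (S.residueField (q y)))) := ⟨q.fiberToSpecResidueField (q y)⟩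
  haveI : LocallyOfFiniteType (q.fiber (q y) ↘ Spec (CommRingCat.of (S.residueField (q y)))) :=
    locallyOfFiniteType_fiberTo q (q y)
  haveI := lfp_over (S.residueField (q y)) (X := q.fiber (q y))
  haveI : LocallyOfFinitePresentation (q.fiberToSpecResidueField (q y)) :=
    lfp_over (S.residueField (q y)) (X := q.fiber (q y))
  have hns : q.asFiber y ∉ (q.fiberToSpecResidueField (q y)).smoothLocus := fun h =>
    hy ((DepthLib.mem_smoothLocus_iff q y).2 ⟨Flat.stalkMap q y, h⟩)
  have hyF : IsClosed ({q.asFiber y} : Set (q.fiber (q y))) := by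
    by_contra hc
    haveI : IsLocallyNoetherian (q.fiber (q y)) :=
      LocallyOfFiniteType.isLocallyNoetherian (q.fiberToSpecResidueField (q y))
    obtain ⟨z, hz, hyz⟩ := MiscFlat6.exists_closed_specializes (q.asFiber y)
    have h1 := (FibDimLib.ringKrullDim_stalk_lt hyz fun e => hc (e ▸ hz)).trans_le
      ((curveDims_iff _).1 hFd z).1
    refine hns (mem_smoothLocus_of_dim_zero (S.residueField (q y))
      (geometricallyReduced _ hFn) (isReduced _ hFn) _ (le_antisymm ?_ ringKrullDim_nonneg_of_nontrivial))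
    revert h1
    cases ringKrullDim ((q.fiber (q y)).presheaf.stalk (q.asFiber y)) with
    | bot => simp
    | coe n =>
      intro h1
      exact_mod_cast (ENat.lt_one_iff_eq_zero.1 (by exact_mod_cast h1)).le
  exact (hFn _ hyF).resolve_left fun h => hns ((smooth_nhd_iff _ _).1 h)

/-- An etale-local node model around a point. -/
structure Chart {X S : Scheme.{u}} (p : X ⟶ S) (x : X) where
  A : CommRingCat.{u}
  a : A
  U : Scheme.{u}
  gU : U ⟶ X
  gV : Spec A ⟶ S
  e : U ⟶ Spec (CommRingCat.of (NodeAlg A a))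
  etU : Etale gU
  etV : Etale gV
  ete : Etale e
  comm : gU ≫ p = e ≫ nodeToBase A a ≫ gV
  mem : x ∈ Set.range gU

theorem chart_smooth {X S : Scheme.{u}} (p : X ⟶ S) [LocallyOfFinitePresentation p] (x : X)
    (hdim : FlatMor.fibreDimAt p x = 1) (hs : x ∈ p.smoothLocus) : Nonempty (Chart p x) := by
  obtain ⟨O, hxO, hO⟩ := (smooth_nhd_iff p x).2 hs
  haveI := hO
  obtain ⟨A, T, n, jY, η, θ, hjY, hη, hmem, hcomm, P, ε, hε⟩ :=
    AlgSpLib.exists_etale_polynomial_chart (O.ι ≫ p) (⟨x, hxO⟩ : O)
  obtain ⟨w, hw⟩ := hmem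
  haveI := hjY
  haveI := hη
  haveI : Etale (Spec.map θ) := AlgSpLib.etale_standardEtale θ P ε hε
  have hfac : (η ≫ O.ι) ≫ p = Spec.map θ ≫ Spec.map (AlgSpLib.polyC n A) ≫ jY := by
    rw [Category.assoc]; exact hcomm
  have hwx : (η ≫ O.ι) w = x := by rw [Scheme.Hom.comp_apply, hw]; rfl
  have hn : n = 1 := by
    haveI : LocallyOfFiniteType (Spec.map (AlgSpLib.polyC n A)) :=
      (HasRingHomProperty.Spec_iff (P := @LocallyOfFiniteType)).2
        (RingHom.finiteType_algebraMap.2 (inferInstanceAs (Algebra.FiniteType A (MvPolynomial (Fin n) A))))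
    have h1 := FibDimLib.fibreDimAt_comp_etale (η ≫ O.ι) p w
    rw [show (η ≫ O.ι).base w = x from hwx, hdim, hfac, FibDimLib.fibreDimAt_comp_etale] at h1
    rw [FibDimLib.fibreDimAt_comp_of_discrete, FibDimLib.fibreDimAt_affineSpace] at h1
    exact_mod_cast h1
  subst hn
  let Q := Spec.map θ w
  obtain ⟨c, hc⟩ : ∃ c : A, (MvPolynomial.X 0 + MvPolynomial.C c : MvPolynomial (Fin 1) A) ∉ Q.asIdeal := by
    by_cases h : (MvPolynomial.X 0 : MvPolynomial (Fin 1) A) ∈ Q.asIdeal
    · refine ⟨1, fun h' => Q.isPrime.ne_top ((Ideal.eq_top_iff_one _).2 ?_)⟩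
      simpa using sub_mem h' h
    · exact ⟨0, by simpa using h⟩
  obtain ⟨e₁, -⟩ := exists_gm (B := A) c
  let s : MvPolynomial (Fin 1) A := MvPolynomial.X 0 + MvPolynomial.C c
  let m₀ : Spec (CommRingCat.of (Localization.Away s)) ⟶ Spec (AlgSpLib.poly 1 A) :=
    Spec.map (CommRingCat.ofHom (algebraMap (MvPolynomial (Fin 1) A) (Localization.Away s)))
  haveI : IsOpenImmersion m₀ := IsOpenImmersion.of_isLocalization s
  let i : Spec (CommRingCat.of (Localization.Away s)) ⟶ Spec (CommRingCat.of (NodeAlg A 1)) :=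
    Spec.map (CommRingCat.ofHom e₁.toRingEquiv.toRingHom)
  haveI : IsIso i := by
    haveI : IsIso (CommRingCat.ofHom e₁.toRingEquiv.toRingHom) := e₁.toRingEquiv.toCommRingCatIso.isIso_hom
    infer_instance
  have hi : i ≫ nodeToBase A 1 = m₀ ≫ Spec.map (AlgSpLib.polyC 1 A) := by
    rw [← Spec.map_comp, ← Spec.map_comp]
    congr 1
    ext r
    exact (e₁.commutes r).trans (IsScalarTower.algebraMap_apply A (MvPolynomial (Fin 1) A) (Localization.Away s) r)
  haveI : Etale (pullback.snd (Spec.map θ) m₀) := MorphismProperty.pullback_snd _ _ ‹Etale (Spec.map θ)›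
  refine ⟨{ A := A, a := 1, U := pullback (Spec.map θ) m₀, gU := pullback.fst _ _ ≫ η ≫ O.ι, gV := jY,
            e := pullback.snd _ _ ≫ i, etU := inferInstance, etV := inferInstance, ete := inferInstance,
            comm := ?_, mem := ?_ }⟩
  · simp only [Category.assoc] at hfac ⊢
    rw [hfac, reassoc_of% hi, pullback.condition_assoc]
  · obtain ⟨t, ht⟩ : w ∈ Set.range (pullback.fst (Spec.map θ) m₀) := by
      rw [Scheme.Pullback.range_fst]
      show Q ∈ Set.range (PrimeSpectrum.comap (algebraMap (MvPolynomial (Fin 1) A) (Localization.Away s)))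
      rw [PrimeSpectrum.localization_away_comap_range (Localization.Away s) s]
      exact hc
    exact ⟨t, by rw [Scheme.Hom.comp_apply, ht]; exact hwx⟩

theorem finish (R : Type u) [CommRing R] [IsDomain R]
    [IsDiscreteValuationRing R] (ϖ : R) (hϖ : Irreducible ϖ) (X : Scheme.{u})
    (p : X ⟶ Spec (CommRingCat.of R)) (x : X)
    (hx : p.base x = IsLocalRing.closedPoint R) (c : Chart p x) :
    ∃ (R' : Type u) (_ : CommRing R') (_ : IsDomain R') (_ : IsDiscreteValuationRing R')
      (_ : Algebra R R') (_ : Algebra.Etale R R') (_ : Irreducible (algebraMap R R' ϖ))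
      (h : MvPolynomial (Fin 2) R') (_ : h = 0 ∨ ∃ n : ℕ, h = MvPolynomial.C (algebraMap R R' ϖ ^ n))
      (U : Scheme.{u}) (e : U ⟶ X) (_ : Etale e) (x' : U) (_ : e.base x' = x)
      (g : U ⟶ Spec (CommRingCat.of (MvPolynomial (Fin 2) R' ⧸
        Ideal.span {MvPolynomial.X 0 * MvPolynomial.X 1 - h}))) (_ : Etale g),
      g ≫ Spec.map (CommRingCat.ofHom ((Ideal.Quotient.mk _).comp
          (MvPolynomial.C.comp (algebraMap R R')))) = e ≫ p := by
  obtain ⟨A, a, U, gU, gV, e, hgU, hgV, he, hcomm, u₀, hu₀⟩ := c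
  obtain ⟨α, rfl⟩ := Spec.map_surjective gV
  algebraize [α.hom]
  haveI : Algebra.Etale R A := (HasRingHomProperty.Spec_iff (P := @Etale)).1 hgV
  let v := nodeToBase A a (e u₀)
  haveI : v.asIdeal.IsPrime := v.isPrime
  have hv : v.asIdeal.comap (algebraMap R A) = maximalIdeal R := by
    have h1 : (e ≫ nodeToBase A a ≫ Spec.map α) u₀ = closedPoint R := by
      rw [← hcomm, Scheme.Hom.comp_apply, hu₀]; exact hx
    exact congrArg PrimeSpectrum.asIdeal h1
  obtain ⟨f, hf, hdom, hdvr, hirr⟩ := exists_dvr_nbhd v.asIdeal hv ϖ hϖ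
  let B := Localization.Away f
  haveI : Algebra.Etale A B := inferInstance
  haveI : Algebra.Etale R B := Algebra.Etale.comp R A B
  let a' := algebraMap A B a
  obtain ⟨b, w, hw, hab, hb⟩ : ∃ b w : B, IsUnit w ∧ a' = w * b ∧
      ((MvPolynomial.C b : MvPolynomial (Fin 2) B) = 0 ∨
        ∃ n : ℕ, (MvPolynomial.C b : MvPolynomial (Fin 2) B) = MvPolynomial.C (algebraMap R B ϖ ^ n)) := by
    by_cases h0 : a' = 0
    · exact ⟨0, 1, isUnit_one, by rw [h0, mul_zero], Or.inl (map_zero _)⟩
    · obtain ⟨n, w, hn⟩ := IsDiscreteValuationRing.eq_unit_mul_pow_irreducible h0 hirr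
      exact ⟨_, w, w.isUnit, hn, Or.inr ⟨n, rfl⟩⟩
  obtain ⟨σ, -⟩ := exists_scale a' b w hw hab
  obtain ⟨τ, hτ⟩ := StrictSSLib.isPushout a B
  let ι : NodeAlg A a →+* NodeAlg B a' := τ.toRingEquiv.toRingHom.comp
    (Algebra.TensorProduct.includeRight (R := A) (A := B) (B := NodeAlg A a)).toRingHom
  let m : Spec (CommRingCat.of (NodeAlg B a')) ⟶ Spec (CommRingCat.of (NodeAlg A a)) := Spec.map (CommRingCat.ofHom ι)
  let j : Spec (CommRingCat.of B) ⟶ Spec (CommRingCat.of A) := Spec.map (CommRingCat.ofHom (algebraMap A B))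
  haveI : IsOpenImmersion j := IsOpenImmersion.of_isLocalization f
  let tm : CommRingCat.of (B ⊗[A] NodeAlg A a) ⟶ CommRingCat.of (NodeAlg B a') :=
    CommRingCat.ofHom τ.toRingEquiv.toRingHom
  haveI : IsIso tm := (ConcreteCategory.isIso_iff_bijective tm).2 τ.bijective
  let i₀ : Spec (CommRingCat.of (NodeAlg B a')) ⟶ Spec (CommRingCat.of (B ⊗[A] NodeAlg A a)) := Spec.map tm
  haveI : IsIso i₀ := inferInstance
  have hm : m = i₀ ≫ (pullbackSpecIso A B (NodeAlg A a)).inv ≫ pullback.snd _ _ := by
    rw [pullbackSpecIso_inv_snd, ← Spec.map_comp]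
    rfl
  have hmj : m ≫ nodeToBase A a = nodeToBase B a' ≫ j := by
    rw [hm, Category.assoc, Category.assoc, ← pullback.condition, ← Category.assoc _ (pullback.fst _ _),
      pullbackSpecIso_inv_fst, ← Category.assoc, ← Spec.map_comp]
    congr 2
    ext r
    exact τ.commutes r
  haveI : IsOpenImmersion m := by rw [hm]; infer_instance
  have hmr : e u₀ ∈ Set.range m := by
    obtain ⟨v', hv'⟩ : v ∈ Set.range j := by
      show v ∈ Set.range (PrimeSpectrum.comap (algebraMap A B))
      rw [PrimeSpectrum.localization_away_comap_range B f]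
      exact hf
    obtain ⟨z, hz1, hz2⟩ := Scheme.Pullback.exists_preimage_pullback
      (f := Spec.map (CommRingCat.ofHom (algebraMap A B))) (g := nodeToBase A a) v' (e u₀) hv'
    refine ⟨(inv i₀) ((pullbackSpecIso A B (NodeAlg A a)).hom z), ?_⟩
    rw [hm, ← Scheme.Hom.comp_apply, IsIso.inv_hom_id_assoc, ← Scheme.Hom.comp_apply, Iso.hom_inv_id_assoc]
    exact hz2
  obtain ⟨u', hu'⟩ : u₀ ∈ Set.range (pullback.fst e m) := by
    rw [Scheme.Pullback.range_fst]; exact hmr
  haveI : Etale (pullback.snd e m) := MorphismProperty.pullback_snd _ _ he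
  let iσ : Spec (CommRingCat.of (NodeAlg B a')) ⟶ Spec (CommRingCat.of (NodeAlg B b)) :=
    Spec.map (CommRingCat.ofHom σ.symm.toRingEquiv.toRingHom)
  haveI : IsIso iσ := by
    haveI : IsIso (CommRingCat.ofHom σ.symm.toRingEquiv.toRingHom) := σ.symm.toRingEquiv.toCommRingCatIso.isIso_hom
    infer_instance
  have hσ : iσ ≫ nodeToBase B b = nodeToBase B a' := by
    rw [← Spec.map_comp]
    congr 1
    ext r
    exact σ.symm.commutes r
  refine ⟨B, inferInstance, hdom, hdvr, inferInstance, inferInstance, hirr, MvPolynomial.C b, hb,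
    pullback e m, pullback.fst e m ≫ gU, inferInstance, u', ?_, pullback.snd e m ≫ iσ, inferInstance, ?_⟩
  · rw [Scheme.Hom.comp_apply, hu', hu₀]
  · have h2 : Spec.map (CommRingCat.ofHom ((Ideal.Quotient.mk (Ideal.span {MvPolynomial.X 0 * MvPolynomial.X 1 -
        MvPolynomial.C b})).comp (MvPolynomial.C.comp (algebraMap R B)))) =
        nodeToBase B b ≫ j ≫ Spec.map α := by
      rw [← Spec.map_comp, ← Spec.map_comp]
      rfl
    rw [h2, Category.assoc, Category.assoc, reassoc_of% hσ, hcomm, ← reassoc_of% hmj, pullback.condition_assoc]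

end


/-- Let R be a discrete valuation ring with uniformizer ϖ and X → Spec R an at-worst-nodal family of
relative dimension one. For every point x of X lying over the closed point of Spec R there are: a
discrete valuation ring R' with an étale ring map R → R' sending ϖ to a uniformizer of R', an
element h of R'[u, v] which is either 0 or the constant ϖⁿ for some n (via R → R'), a scheme U with
an étale morphism e : U → X whose image contains x, and an étale morphism g : U → Spec(R'[u, v]/(uv
− h)), such that the two composites U → Spec R (through g and through e) agree. (The étaleness of g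
is part of the statement here; the published display leaves it implicit.) -/
theorem result (R : Type u) [CommRing R] [IsDomain R]
    [IsDiscreteValuationRing R] (ϖ : R) (hϖ : Irreducible ϖ) (X : Scheme.{u})
    (p : X ⟶ Spec (CommRingCat.of R)) (hp : Curv2.IsNodalFamily p) (x : X)
    (hx : p.base x = IsLocalRing.closedPoint R) :
    ∃ (R' : Type u) (_ : CommRing R') (_ : IsDomain R') (_ : IsDiscreteValuationRing R')
      (_ : Algebra R R') (_ : Algebra.Etale R R') (_ : Irreducible (algebraMap R R' ϖ))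
      (h : MvPolynomial (Fin 2) R') (_ : h = 0 ∨ ∃ n : ℕ, h = MvPolynomial.C (algebraMap R R' ϖ ^ n))
      (U : Scheme.{u}) (e : U ⟶ X) (_ : Etale e) (x' : U) (_ : e.base x' = x)
      (g : U ⟶ Spec (CommRingCat.of (MvPolynomial (Fin 2) R' ⧸
        Ideal.span {MvPolynomial.X 0 * MvPolynomial.X 1 - h}))) (_ : Etale g),
      g ≫ Spec.map (CommRingCat.ofHom ((Ideal.Quotient.mk _).comp
          (MvPolynomial.C.comp (algebraMap R R')))) = e ≫ p := by
  haveI := hp.1
  haveI := hp.2.1
  refine Classical.choice (α := Chart p x) ?_ |> finish R ϖ hϖ X p x hx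
  by_cases hs : x ∈ p.smoothLocus
  · exact chart_smooth p x ((NodalLib.isNodalFamily_iff_pt p).1 hp |>.2.2 x).1 hs
  · obtain ⟨A, a, U, gU, gV, e, h1, h2, h3, h4, h5⟩ := exists_node_chart p x (isNode_of_not_smooth p hp x hs)
    exact ⟨⟨A, a, U, gU, gV, e, h1, h2, h3, h4, h5⟩⟩

end Groth.Agent.S2227
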