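import Groth.Statements.S13752
import Groth.Agent.StrictSSLib.SplitNode
import Groth.Agent.S2227
-- import your own Groth.Agent.* helpers here

set_option autoImplicit false
universe u
open CategoryTheory AlgebraicGeometry
open SemiFact

set_option backward.isDefEq.respectTransparency false
set_option backward.isDefEq.respectTransparency.types false
set_option maxHeartbeats 1000000

namespace Groth.Agent.S13752

open CategoryTheory.Limits IsLocalRing StrictSS StrictSSLib NodalLib

noncomputable section

theorem fromSpecStalk_stalkMap {K : Type u} [Field K] {X : Scheme.{u}} (g : X ⟶ Spec (CommRingCat.of K)) (x : X) :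
    StrictSSLib.ev g x = @Curv2.stalkMap K _ X ⟨g⟩ x := by
  letI : X.Over (Spec (CommRingCat.of K)) := ⟨g⟩
  have h := GeomRedFieldLib.fromSpecStalk_comp_over (k := K) X x
  exact congrArg CommRingCat.Hom.hom (Spec.map_injective ((spec_ev g x).trans h))

theorem map_maximal {X Y : Scheme.{u}} (f : X ⟶ Y) [Etale f] (x : X) :
    (maximalIdeal (Y.presheaf.stalk (f x))).map (f.stalkMap x).hom = maximalIdeal (X.presheaf.stalk x) := by
  algebraize [(f.stalkMap x).hom]
  haveI : IsLocalHom (algebraMap (Y.presheaf.stalk (f x)) (X.presheaf.stalk x)) :=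
    inferInstanceAs <| IsLocalHom (f.stalkMap x).hom
  haveI : Algebra.EssFiniteType (Y.presheaf.stalk (f x)) (X.presheaf.stalk x) := by
    rw [← RingHom.essFiniteType_algebraMap, RingHom.algebraMap_toAlgebra]
    exact LocallyOfFiniteType.stalkMap f x
  haveI : Algebra.FormallyUnramified (Y.presheaf.stalk (f x)) (X.presheaf.stalk x) := by
    rw [← RingHom.formallyUnramified_algebraMap, RingHom.algebraMap_toAlgebra]
    exact FormallyUnramified.stalkMap f x
  exact Algebra.FormallyUnramified.map_maximalIdeal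

theorem faithfullyFlat_stalkMap {X Y : Scheme.{u}} (f : X ⟶ Y) [Flat f] (x : X) :
    (f.stalkMap x).hom.FaithfullyFlat := by
  algebraize [(f.stalkMap x).hom]
  exact @Module.FaithfullyFlat.of_flat_of_isLocalHom _ _ _ _ _ _ _ (Flat.stalkMap f x) (f.toLRSHom.prop x)

theorem crit_stalk {N : Type u} [CommRing N] (x : Spec (CommRingCat.of N))
    (h : NodeCrit (Localization.AtPrime x.asIdeal)) : NodeCrit ((Spec (CommRingCat.of N)).presheaf.stalk x) :=
  nodeCrit_of_ringEquiv (stalkEquiv (CommRingCat.of N) x).symm h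

theorem crit_up {X Y : Scheme.{u}} (f : X ⟶ Y) [Etale f] (x : X) (h : NodeCrit (Y.presheaf.stalk (f x))) :
    NodeCrit (X.presheaf.stalk x) := by
  letI := (f.stalkMap x).hom.toAlgebra
  haveI : Module.FaithfullyFlat (Y.presheaf.stalk (f x)) (X.presheaf.stalk x) := faithfullyFlat_stalkMap f x
  exact h.map (map_maximal f x)

theorem model_crit {R : Type u} [CommRing R] [IsDomain R] {A : CommRingCat.{u}} (α : CommRingCat.of R ⟶ A)
    [Etale (Spec.map α)] (s : A →+* R) (hs : s.comp α.hom = RingHom.id R) (a : A) (hsa : s a = 0)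
    {U : Scheme.{u}} (e : U ⟶ Spec (CommRingCat.of (NodeAlg A a))) [Etale e] (u' : U)
    (hwu' : ∀ i, uv a i ∈ (e u').asIdeal) (hcomap : (e u').asIdeal.comap (algebraMap A (NodeAlg A a)) = RingHom.ker s) :
    NodeCrit (U.presheaf.stalk u') := by
  have hkill := StrictSSLib.exists_kill α s hs
  have hmodel : NodeCrit ((Spec (CommRingCat.of (NodeAlg A a))).presheaf.stalk (e u')) :=
    crit_stalk (e u') (nodeCrit_origin a s hkill hsa (e u').asIdeal hwu' hcomap)
  exact crit_up e u' hmodel

/-- Transport to a point below along an etale map with a rational point above. -/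
theorem crit_below {R : Type u} [CommRing R] [IsDomain R] [IsNoetherianRing R] {C U : Scheme.{u}}
    (p : C ⟶ Spec (CommRingCat.of R)) [LocallyOfFinitePresentation p] (gU : U ⟶ C) [Etale gU] (u' : U)
    (hz : (p (gU u')).asIdeal = ⊥) (hU : NodeCrit (U.presheaf.stalk u'))
    (j : Spec (CommRingCat.of (FractionRing R)) ⟶ U) (hjpt : j (closedPoint (FractionRing R)) = u')
    (hjp : j ≫ gU ≫ p = Spec.map (CommRingCat.ofHom (algebraMap R (FractionRing R)))) :
    NodeCrit (C.presheaf.stalk (gU u')) ∧
      ∃ Φ : C.presheaf.stalk (gU u') →+* FractionRing R, IsLocalHom Φ ∧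
        Φ.comp (StrictSSLib.ev p (gU u')) = algebraMap R (FractionRing R) := by
  let K := FractionRing R
  -- the residue field
  obtain ⟨ρ, hρl, hρ⟩ : ∃ ρ : U.presheaf.stalk u' →+* K, IsLocalHom ρ ∧
      ρ.comp (StrictSSLib.ev (gU ≫ p) u') = algebraMap R K := by
    rw [← hjpt]
    refine ⟨(Scheme.stalkClosedPointTo j).hom, inferInstance, ?_⟩
    refine congrArg CommRingCat.Hom.hom (Spec.map_injective (a₁ := CommRingCat.ofHom (StrictSSLib.ev (gU ≫ p) _) ≫
      Scheme.stalkClosedPointTo j) (a₂ := CommRingCat.ofHom (algebraMap R K)) ?_)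
    rw [Spec.map_comp, spec_ev, ← Category.assoc, Scheme.Spec_stalkClosedPointTo_fromSpecStalk, hjp]
  haveI := hρl
  haveI : IsLocallyNoetherian U := LocallyOfFiniteType.isLocallyNoetherian (gU ≫ p)
  let ι := (gU.stalkMap u').hom
  have hΦ : (ρ.comp ι).comp (StrictSSLib.ev p (gU u')) = algebraMap R K := by
    rw [RingHom.comp_assoc, ← StrictSSLib.ev_comp]; exact hρ
  refine ⟨?_, ρ.comp ι, inferInstance, hΦ⟩
  letI := ι.toAlgebra
  haveI : Module.FaithfullyFlat (C.presheaf.stalk (gU u')) (U.presheaf.stalk u') := faithfullyFlat_stalkMap gU u'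
  refine nodeCrit_descend (map_maximal gU u') (fun b => ?_) hU
  obtain ⟨⟨r, d⟩, hrd⟩ := IsLocalization.surj (nonZeroDivisors R) (ρ b)
  have hd : IsUnit (StrictSSLib.ev p (gU u') (d : R)) := StrictSSLib.isUnit_ev p (gU u') d (by
    rw [show (p (gU u')).asIdeal = ⊥ from hz]; exact nonZeroDivisors.coe_ne_zero d)
  obtain ⟨du, hdu⟩ := hd.exists_right_inv
  refine ⟨StrictSSLib.ev p (gU u') r * du, ?_⟩
  show b - ι (StrictSSLib.ev p (gU u') r * du) ∈ maximalIdeal _
  rw [IsLocalRing.mem_maximalIdeal]
  intro hu
  refine (hu.map ρ).ne_zero ?_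
  have h1 : ρ (ι (StrictSSLib.ev p (gU u') r)) = algebraMap R K r := RingHom.congr_fun hΦ r
  have h2 : algebraMap R K d * ρ (ι du) = 1 := by
    rw [← RingHom.congr_fun hΦ (d : R)]
    show ρ (ι (StrictSSLib.ev p (gU u') d)) * ρ (ι du) = 1
    rw [← map_mul, ← map_mul, hdu, map_one, map_one]
  rw [map_sub, map_mul, map_mul, h1, ← hrd, sub_eq_zero]
  linear_combination (-(ρ b)) * h2


/-- A generic non-smooth point specialising to a node of the closed fibre is a split node. -/
theorem split_node {R : Type u} [CommRing R] [IsDomain R] [IsNoetherianRing R] [HenselianLocalRing R]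
    [IsSepClosed (ResidueField R)] {C : Scheme.{u}} (p : C ⟶ Spec (CommRingCat.of R)) [LocallyOfFinitePresentation p]
    (hp : Curv2.IsNodalFamily p)
    (x z : C) (hzx : z ⤳ x) (hx : p x = closedPoint R) (hxn : x ∉ p.smoothLocus)
    (hz : (p z).asIdeal = ⊥) (hzn : z ∉ p.smoothLocus) :
    NodeCrit (C.presheaf.stalk z) ∧
      ∃ Φ : C.presheaf.stalk z →+* FractionRing R, IsLocalHom Φ ∧
        Φ.comp (StrictSSLib.ev p z) = algebraMap R (FractionRing R) := by
  haveI := hp.1
  haveI := hp.2.1
  obtain ⟨A, a, U, gU, gV, e, hgU, hgV, he, hcomm, u₀, hu₀⟩ :=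
    exists_node_chart p x (Groth.Agent.S2227.isNode_of_not_smooth p hp x hxn)
  subst hu₀
  haveI := hgU
  haveI := hgV
  haveI := he
  obtain ⟨u', hu's, rfl⟩ := Flat.generalizingMap gU hzx
  obtain ⟨α, rfl⟩ := Spec.map_surjective gV
  have hbase : ∀ u : U, (Spec.map α) (nodeToBase A a (e u)) = p (gU u) := fun u => by
    have h1 := congrArg (fun m : U ⟶ Spec (CommRingCat.of R) => m u) hcomm
    exact h1.symm
  have hnsm : ∀ u : U, gU u ∉ p.smoothLocus → ∀ i, uv a i ∈ (e u).asIdeal := by
    intro u hu i
    by_contra hi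
    obtain ⟨O, huO, hO⟩ := smooth_of_not_mem a e (Spec.map α) u i hi
    rw [← hcomm] at hO
    exact hu ((smooth_etale_iff gU p u).1 ((smooth_nhd_iff (gU ≫ p) u).1 ⟨O, huO, hO⟩))
  -- the section of the base
  obtain ⟨σ, hσ, hσv⟩ := ClopenFFLib.exists_section_through (A := R) (Spec.map α) (nodeToBase A a (e u₀))
    ((hbase u₀).trans hx)
  obtain ⟨s₀, rfl⟩ := Spec.map_surjective σ
  let s : A →+* R := s₀.hom
  have hs : s.comp α.hom = RingHom.id R := by
    rw [← Spec.map_comp, ← Spec.map_id] at hσ
    exact congrArg CommRingCat.Hom.hom (Spec.map_injective hσ)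
  haveI : IsOpenImmersion (Spec.map s₀) := FFDescLib.isOpenImmersion_of_section (Spec.map α) _ hσ
  have hback : ∀ t : Spec (CommRingCat.of R), Spec.map α (Spec.map s₀ t) = t := fun t => by
    rw [← Scheme.Hom.comp_apply, hσ]; rfl
  have hspec : e u' ⤳ e u₀ := hu's.map e.continuous
  have hv' : nodeToBase A a (e u') ∈ Set.range (Spec.map s₀) :=
    (hspec.map (nodeToBase A a).continuous).mem_open (Spec.map s₀).isOpenEmbedding.isOpen_range hσv
  let η : Spec (CommRingCat.of R) := p (gU u')
  have hv'eq : nodeToBase A a (e u') = Spec.map s₀ η := by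
    obtain ⟨t, ht⟩ := hv'
    rw [show η = t by
      rw [← hback t, ht]; exact (hbase u').symm]
    exact ht.symm
  have hv₀ : nodeToBase A a (e u₀) = Spec.map s₀ (closedPoint R) := by
    obtain ⟨t, ht⟩ := hσv
    rw [show closedPoint R = t by
      rw [← hback t, ht, hbase]; exact hx.symm]
    exact ht.symm
  have hwu' := hnsm u' hzn
  have hwu₀ := hnsm u₀ hxn
  have hcomap : (e u').asIdeal.comap (algebraMap A (NodeAlg A a)) = RingHom.ker s := by
    refine (congrArg PrimeSpectrum.asIdeal hv'eq).trans ?_
    show (η.asIdeal).comap s = _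
    rw [show η.asIdeal = ⊥ from hz, ← RingHom.ker_eq_comap_bot]
  have hsa : s a = 0 := by
    have h1 : algebraMap A (NodeAlg A a) a ∈ (e u').asIdeal := by
      rw [← uv_mul]; exact Ideal.mul_mem_right _ _ (hwu' 0)
    exact hcomap.le h1
  -- the vanishing locus of `u, v` over the section
  letI : Algebra A R := s.toAlgebra
  let ζh : NodeAlg A a →+* R := (StrictSSLib.lift a (fun _ => (0 : R)) (by
    show (0 : R) * 0 = s a; rw [hsa, mul_zero])).toRingHom
  have hζh : ∀ r : A, ζh (algebraMap A _ r) = s r := fun r => (StrictSSLib.lift a (fun _ => (0 : R)) _).commutes r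
  let ζ : Spec (CommRingCat.of R) ⟶ Spec (CommRingCat.of (NodeAlg A a)) := Spec.map (CommRingCat.ofHom ζh)
  haveI : IsClosedImmersion ζ := IsClosedImmersion.spec_of_surjective _ fun r => ⟨algebraMap A _ (α.hom r), by
    show ζh _ = r
    rw [hζh]; exact RingHom.congr_fun hs r⟩
  have hζ : ∀ (u : U) (t : Spec (CommRingCat.of R)), nodeToBase A a (e u) = Spec.map s₀ t →
      (∀ i, uv a i ∈ (e u).asIdeal) → e u = ζ t := by
    intro u t hut hu
    have hu2 : ∀ i, uv a i ∈ (ζ t).asIdeal := fun i => by
      show ζh (uv a i) ∈ t.asIdeal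
      rw [show ζh (uv a i) = 0 from StrictSSLib.lift_uv a _ _ i]
      exact zero_mem _
    have hc : (ζ t).asIdeal.comap (algebraMap A (NodeAlg A a)) = (e u).asIdeal.comap (algebraMap A (NodeAlg A a)) := by
      refine Eq.trans ?_ (congrArg PrimeSpectrum.asIdeal hut).symm
      ext r
      show ζh (algebraMap A _ r) ∈ t.asIdeal ↔ s r ∈ t.asIdeal
      rw [hζh]
    exact PrimeSpectrum.ext (le_antisymm (le_of_base_le a hu2 hu hc.ge) (le_of_base_le a hu hu2 hc.le))
  let q' := pullback.snd e ζ
  haveI : Etale q' := MorphismProperty.pullback_snd _ _ he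
  haveI : IsClosedImmersion (pullback.fst e ζ) := MorphismProperty.pullback_fst _ _ ‹IsClosedImmersion ζ›
  obtain ⟨w₀, hw₀U, hw₀R⟩ := Scheme.Pullback.exists_preimage_pullback (f := e) (g := ζ) u₀ (closedPoint R)
    (hζ u₀ _ hv₀ hwu₀)
  obtain ⟨w', hw'U, hw'R⟩ := Scheme.Pullback.exists_preimage_pullback (f := e) (g := ζ) u' η
    (hζ u' _ hv'eq hwu')
  obtain ⟨τ, hτ, hτw⟩ := ClopenFFLib.exists_section_through (A := R) q' w₀ hw₀R
  haveI : IsOpenImmersion τ := FFDescLib.isOpenImmersion_of_section q' τ hτ
  have hw'range : w' ∈ Set.range τ := by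
    refine Specializes.mem_open ((pullback.fst e ζ).isEmbedding.isInducing.specializes_iff.1 ?_)
      τ.isOpenEmbedding.isOpen_range hτw
    rw [hw'U, hw₀U]; exact hu's
  obtain ⟨t', ht'⟩ := hw'range
  have ht'η : t' = η := by
    rw [← hw'R, ← ht', ← Scheme.Hom.comp_apply τ, hτ]; rfl
  let K := FractionRing R
  let gen : Spec (CommRingCat.of K) ⟶ Spec (CommRingCat.of R) := Spec.map (CommRingCat.ofHom (algebraMap R K))
  let j : Spec (CommRingCat.of K) ⟶ U := gen ≫ τ ≫ pullback.fst e ζ
  have hjp : j ≫ gU ≫ p = gen := by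
    simp only [j, Category.assoc]
    rw [hcomm, pullback.condition_assoc, reassoc_of% hτ]
    have e1 : ζ ≫ nodeToBase A a = Spec.map s₀ := by
      rw [← Spec.map_comp]
      exact congrArg Spec.map (CommRingCat.hom_ext (RingHom.ext hζh))
    rw [reassoc_of% e1, hσ, Category.comp_id]
  have hjpt : j (closedPoint K) = u' := by
    have hgen : gen (closedPoint K) = η := by
      refine PrimeSpectrum.ext ?_
      show (maximalIdeal K).comap (algebraMap R K) = η.asIdeal
      rw [show η.asIdeal = ⊥ from hz, maximalIdeal_eq_bot, ← RingHom.ker_eq_comap_bot,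
        (RingHom.injective_iff_ker_eq_bot _).1 (IsFractionRing.injective R K)]
    show pullback.fst e ζ (τ (gen (closedPoint K))) = u'
    rw [hgen, ← ht'η, ht', hw'U]
  exact crit_below p gU u' hz (model_crit α s hs a hsa e u' hwu' hcomap) j hjpt hjp

end


/-- Let R be a regular local ring which is henselian with separably closed residue field (a Noetherian
regular strictly local base), let K be its fraction field and let f : C → Spec R be a nodal curve:
proper, flat, locally of finite presentation, with connected geometric fibres all of whose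
irreducible components are one-dimensional and whose singularities are at most ordinary double
points. Then the generic fibre C_K = C ×_R K has split singularities: every closed point of C_K
either has an open neighbourhood smooth over K, or its local ring has completion isomorphic over K
to K[[u,v]]/(uv) (the point is a node with residue field K whose two branches are defined over K).
(The published statement is for the fibre over the generic point of any regular closed subscheme Z
of the base; that is this statement applied to the nodal curve C ×_S Z → Z.) -/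
theorem result
    (R : Type u) [CommRing R] [IsDomain R] [IsRegularLocalRing R] [HenselianLocalRing R]
    [IsSepClosed (IsLocalRing.ResidueField R)]
    {C : Scheme.{u}} (f : C ⟶ Spec (CommRingCat.of R)) [IsProper f] (hf : Curv2.IsNodalFamily f)
    (hconn : ∀ (L : Type u) [Field L] (t : Spec (CommRingCat.of L) ⟶ Spec (CommRingCat.of R)),
      ConnectedSpace ↑(Limits.pullback f t))
    (y : ↥(Limits.pullback f (Neron.genPt R))) (hy : IsClosed ({y} : Set ↥(Limits.pullback f (Neron.genPt R)))) :
    (∃ V : (Limits.pullback f (Neron.genPt R)).Opens, y ∈ V ∧ Smooth (V.ι ≫ Limits.pullback.snd f (Neron.genPt R))) ∨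
      @Curv2.IsOrdDoublePt (FractionRing R) _ ((Limits.pullback f (Neron.genPt R)).presheaf.stalk y) _
        (@Curv2.stalkAlgebra (FractionRing R) _ (Limits.pullback f (Neron.genPt R)) ⟨Limits.pullback.snd f (Neron.genPt R)⟩ y) _ := by
  by_cases hsm : y ∈ (Limits.pullback.snd f (Neron.genPt R)).smoothLocus
  · haveI := hf.2.1
    haveI : LocallyOfFinitePresentation (pullback.snd f (Neron.genPt R)) :=
      MorphismProperty.pullback_snd _ _ hf.2.1
    exact Or.inl ((smooth_nhd_iff _ y).2 hsm)
  refine Or.inr ?_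
  haveI := hf.2.1
  haveI := hf.1
  haveI : LocallyOfFinitePresentation (pullback.snd f (Neron.genPt R)) :=
    MorphismProperty.pullback_snd _ _ hf.2.1
  let K := FractionRing R
  let fst := pullback.fst f (Neron.genPt R)
  haveI : Flat (Neron.genPt R) := (HasRingHomProperty.Spec_iff (P := @Flat)).2
    (RingHom.flat_algebraMap_iff.2 (IsLocalization.flat K (nonZeroDivisors R)))
  haveI : IsPreimmersion (Neron.genPt R) := IsPreimmersion.of_isLocalization (nonZeroDivisors R)
  haveI : Flat fst := MorphismProperty.pullback_fst _ _ ‹Flat (Neron.genPt R)›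
  haveI : IsPreimmersion fst := MorphismProperty.pullback_fst _ _ ‹IsPreimmersion (Neron.genPt R)›
  let z := fst y
  have hzbot : (f z).asIdeal = ⊥ := by
    show ((pullback.fst f (Neron.genPt R) ≫ f) y).asIdeal = ⊥
    rw [pullback.condition]
    show (((pullback.snd f (Neron.genPt R)) y).asIdeal).comap (algebraMap R K) = ⊥
    rw [(Ideal.eq_bot_or_top ((pullback.snd f (Neron.genPt R)) y).asIdeal).resolve_right
      ((pullback.snd f (Neron.genPt R)) y).isPrime.ne_top, ← RingHom.ker_eq_comap_bot,
      (RingHom.injective_iff_ker_eq_bot _).1 (IsFractionRing.injective R K)]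
  have hzn : z ∉ f.smoothLocus := by
    intro h
    obtain ⟨V, hzV, hV⟩ := (smooth_nhd_iff f z).2 h
    refine hsm ((smooth_nhd_iff _ y).1 ⟨fst ⁻¹ᵁ V, hzV, ?_⟩)
    exact MorphismProperty.of_isPullback (P := @Smooth)
      ((isPullback_morphismRestrict fst V).paste_vert (IsPullback.of_hasPullback f (Neron.genPt R))) hV
  have hN : IsClosed {c : C | c ∉ f.smoothLocus} := f.smoothLocus.2.isClosed_compl
  haveI : CompactSpace C := (quasiCompact_iff_compactSpace f).mp inferInstance
  obtain ⟨x, hxcl, hxc⟩ := IsClosed.exists_closed_singleton (isClosed_closure (s := ({z} : Set C)))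
    (Set.singleton_nonempty z).closure
  have hzx : z ⤳ x := specializes_iff_mem_closure.2 hxcl
  have hxn : x ∉ f.smoothLocus := hzx.mem_closed hN hzn
  have hxs : f x = closedPoint R := by
    have h1 : IsClosed ({f x} : Set (Spec (CommRingCat.of R))) := by
      rw [← Set.image_singleton]; exact f.isClosedMap _ hxc
    exact PrimeSpectrum.ext (IsLocalRing.eq_maximalIdeal
      ((PrimeSpectrum.isClosed_singleton_iff_isMaximal _).1 h1))
  obtain ⟨hcrit, Φ, hΦl, hΦ⟩ := split_node f hf x z hzx hxs hxn hzbot hzn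
  haveI := hΦl
  haveI hi : IsIso (fst.stalkMap y) := AffContLib.isIso_stalkMap_of_flat_preimmersion fst y
  let e := (asIso (fst.stalkMap y)).commRingCatIsoToRingEquiv
  letI : (pullback f (Neron.genPt R)).Over (Spec (CommRingCat.of (FractionRing R))) := ⟨pullback.snd f (Neron.genPt R)⟩
  letI := Curv2.stalkAlgebra (FractionRing R) (pullback f (Neron.genPt R)) y
  haveI : IsLocallyNoetherian (pullback f (Neron.genPt R)) :=
    LocallyOfFiniteType.isLocallyNoetherian (pullback.snd f (Neron.genPt R))
  refine NodalLib.isOrdDoublePt_of_crit (fun b => ⟨Φ (e.symm b), ?_⟩) (nodeCrit_of_ringEquiv e hcrit)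
  let cK : K →+* (pullback f (Neron.genPt R)).presheaf.stalk y :=
    @Curv2.stalkMap K _ (pullback f (Neron.genPt R)) ⟨pullback.snd f (Neron.genPt R)⟩ y
  have hcK : (Φ.comp e.symm.toRingHom).comp cK = RingHom.id K := by
    refine IsLocalization.ringHom_ext (nonZeroDivisors R) ?_
    have h1 : cK.comp (algebraMap R K) = e.toRingHom.comp (StrictSSLib.ev f z) := by
      show (@Curv2.stalkMap K _ (pullback f (Neron.genPt R)) ⟨pullback.snd f (Neron.genPt R)⟩ y).comp _ = _
      rw [← fromSpecStalk_stalkMap, show algebraMap R K = (CommRingCat.ofHom (algebraMap R K)).hom from rfl,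
        ← StrictSSLib.ev_base]
      rw [show pullback.snd f (Neron.genPt R) ≫ Spec.map (CommRingCat.ofHom (algebraMap R K)) = fst ≫ f from
        pullback.condition.symm, StrictSSLib.ev_comp]
      rfl
    rw [RingHom.comp_assoc, h1, RingHom.id_comp]
    ext r
    show Φ (e.symm (e (StrictSSLib.ev f z r))) = _
    rw [RingEquiv.symm_apply_apply]
    exact RingHom.congr_fun hΦ r
  rw [IsLocalRing.mem_maximalIdeal]
  intro hu
  refine ((hu.map e.symm).map Φ).ne_zero ?_
  show Φ (e.symm (b - cK (Φ (e.symm b)))) = 0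
  rw [map_sub, map_sub, sub_eq_zero]
  exact (RingHom.congr_fun hcK _).symm

end Groth.Agent.S13752
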