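import Groth.Statements.S13757
import Groth.Agent.LabGraphLib.Surj

set_option autoImplicit false
universe u
open LabGraph

namespace Groth.Agent.S13757

/-- Let G be a finite connected multigraph (loops and multiple edges allowed) with vertex set V, edge
set E, endpoint map E → V × V and a labelling of the edges by positive integers l. A vertex
labelling φ : V → ℤ is Cartier when l(e) divides the difference of the values of φ at the two
endpoints of every edge e; its multidegree is the vertex labelling whose value at v is the sum, over
the edge-ends at v, of (value of φ at the other endpoint − φ(v)) / l(e). Then the Cartier vertex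
labellings of multidegree zero are exactly the constant ones: the kernel of the multidegree operator
on Cartier labellings is ℤ, embedded as the constants. -/
theorem result
    {V E : Type u} [Fintype V] [Fintype E] [DecidableEq V] [DecidableEq E]
    (ends : E → V × V) (l : E → ℕ) (hl : ∀ e, 0 < l e) (hconn : LabGraph.Connected ends)
    (φ : V → ℤ) (hφ : LabGraph.IsCartier ends l φ) :
    (∀ v : V, LabGraph.mdeg ends l φ v = 0) ↔ ∀ v w : V, φ v = φ w := by
  open LabGraphLib in
  constructor
  · intro h v w
    let γ : E → ℤ := fun e => (φ (ends e).1 - φ (ends e).2) / (l e : ℤ)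
    have hγ : ∀ e, φ (ends e).1 - φ (ends e).2 = (l e : ℤ) * γ e := fun e => (Int.mul_ediv_cancel' (hφ e)).symm
    have hbd : ∀ x, bd ends γ x = 0 := fun x => by
      rw [← h x]
      refine Finset.sum_congr rfl fun e _ => ?_
      have : (φ (ends e).2 - φ (ends e).1) / (l e : ℤ) = -γ e := by
        rw [← neg_sub (φ (ends e).1), Int.neg_ediv_of_dvd (hφ e)]
      rw [this]
      split_ifs <;> simp [γ]
    have h0 := sum_bd_mul ends γ φ
    simp only [hbd, zero_mul, Finset.sum_const_zero] at h0
    have hterm : ∀ e, γ e = 0 := by
      have h1 : ∑ e, (l e : ℤ) * (γ e * γ e) = 0 := by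
        rw [← neg_eq_zero, ← Finset.sum_neg_distrib]
        refine Eq.trans (Finset.sum_congr rfl fun e _ => ?_) h0.symm
        linear_combination γ e * hγ e
      intro e
      have h2 := (Finset.sum_eq_zero_iff_of_nonneg (fun e _ => mul_nonneg (Int.natCast_nonneg _) (mul_self_nonneg _))).1 h1 e (Finset.mem_univ e)
      exact mul_self_eq_zero.1 ((mul_eq_zero.1 h2).resolve_left (by exact_mod_cast (hl e).ne'))
    induction hconn.2 v w with
    | refl => rfl
    | tail _ hab ih =>
      obtain ⟨e, he⟩ := hab
      have h3 := hγ e
      rw [hterm e, mul_zero, sub_eq_zero] at h3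
      rcases he with he | he <;> rw [he] at h3
      · exact ih.trans h3
      · exact ih.trans h3.symm
  · intro h v
    exact Finset.sum_eq_zero fun e _ => by simp [h (ends e).1 (ends e).2]

end Groth.Agent.S13757
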