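import Groth.Statements.S13759
import Groth.Agent.LabGraphLib.BlowUp

set_option autoImplicit false
universe u
open LabGraph

namespace Groth.Agent.S13759

/-- Let G be a finite connected multigraph with vertex set V, edge set E, endpoint map E → V × V and
positive integer edge labels l, and let G̃ be its total blow-up graph: every edge e is replaced by a
path of l(e) edges through l(e) − 1 new vertices, all new edges labelled 1 (so every vertex
labelling of G̃ is Cartier and its multidegree is the sum over edge-ends of the differences of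
values). Let H, resp. H̃, be the cokernel of the multidegree operator from Cartier vertex labellings
of G to ℤ^V, resp. of G̃ to ℤ^Ṽ, and ε : H → H̃ the map induced by extending vertex labellings of G
by zero on the new vertices. Then ε is injective: if a vertex labelling α of G, extended by zero, is
the multidegree of some vertex labelling of G̃, then α is the multidegree of some Cartier vertex
labelling of G. -/
theorem result
    {V E : Type u} [Fintype V] [Fintype E] [DecidableEq V] [DecidableEq E]
    (ends : E → V × V) (l : E → ℕ) (hl : ∀ e, 0 < l e) (hconn : LabGraph.Connected ends)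
    (α : V → ℤ) (ψ : LabGraph.BlVert V E l → ℤ)
    (hψ : ∀ w : LabGraph.BlVert V E l,
      LabGraph.mdeg (LabGraph.blEnds ends l) (fun _ => 1) ψ w = Sum.elim α (fun _ => (0 : ℤ)) w) :
    ∃ φ : V → ℤ, LabGraph.IsCartier ends l φ ∧ ∀ v : V, LabGraph.mdeg ends l φ v = α v := by
  open LabGraphLib in
  let u : E → ℕ → ℤ := fun e i => ψ (pathVert ends l e i)
  let t : E → ℤ := fun e => u e 1 - u e 0
  have hlin : ∀ e i, i + 1 ≤ l e → u e i = u e 0 + i * t e ∧ u e (i + 1) = u e 0 + (i + 1) * t e := by
    intro e i
    induction i with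
    | zero => intro _; constructor <;> simp [t]
    | succ i ih =>
      intro hi
      obtain ⟨h1, h2⟩ := ih (by omega)
      have h3 := hψ (Sum.inr ⟨e, ⟨i, by omega⟩⟩)
      rw [mdeg_inr, Sum.elim_inr] at h3
      refine ⟨by push_cast; exact h2, ?_⟩
      push_cast
      simp only [u] at h1 h2 ⊢
      linear_combination h3 + 2 * h2 - h1
  have hends : ∀ e, ψ (Sum.inl (ends e).2) - ψ (Sum.inl (ends e).1) = (l e : ℤ) * t e := fun e => by
    obtain ⟨m, hm⟩ : ∃ m, l e = m + 1 := ⟨l e - 1, by have := hl e; omega⟩
    have h2 := (hlin e m (by omega)).2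
    have h0 : u e 0 = ψ (Sum.inl (ends e).1) := by simp [u, pathVert]
    have h1 : u e (m + 1) = ψ (Sum.inl (ends e).2) := by
      simp only [u, pathVert]; rw [dif_neg (by omega), dif_neg (by omega)]
    rw [hm, ← h1, ← h0]
    push_cast
    linear_combination h2
  refine ⟨fun v => ψ (Sum.inl v), fun e => ⟨-t e, by linear_combination -(hends e)⟩, fun v => ?_⟩
  have h := hψ (Sum.inl v)
  rw [Sum.elim_inl] at h
  rw [← h]
  have hinl : ∀ e k, k ≤ l e → (pathVert ends l e k = Sum.inl v ↔ (k = 0 ∧ (ends e).1 = v) ∨ (k = l e ∧ (ends e).2 = v)) := by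
    intro e k hk
    have := hl e
    unfold pathVert
    split_ifs with h0 h1
    · simp [h0]; omega
    · simp; omega
    · simp [h0, show k = l e by omega]; omega
  have hsum : mdeg (blEnds ends l) (fun _ => 1) ψ (Sum.inl v) =
      ∑ e, ((if (ends e).1 = v then t e else 0) + (if (ends e).2 = v then -t e else 0)) := by
    simp only [mdeg, blEnds, Nat.cast_one, Int.ediv_one]
    rw [Fintype.sum_sigma]
    refine Finset.sum_congr rfl fun e _ => ?_
    have hpos := hl e
    rw [Finset.sum_add_distrib, Finset.sum_eq_single (⟨0, hpos⟩ : Fin (l e)) ?_ (by simp),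
      Finset.sum_eq_single (⟨l e - 1, by omega⟩ : Fin (l e)) ?_ (by simp)]
    · have e1 : pathVert ends l e (l e - 1 + 1) = Sum.inl v ↔ (ends e).2 = v := by
        rw [hinl e _ (by omega)]
        constructor
        · rintro (⟨h, -⟩ | ⟨-, h⟩) <;> [omega; exact h]
        · exact fun h => Or.inr ⟨by omega, h⟩
      have e0 : pathVert ends l e 0 = Sum.inl v ↔ (ends e).1 = v := by simp [pathVert]
      simp only [e0, e1]
      have h2 := (hlin e (l e - 1) (by omega))
      simp only [u] at h2
      congr 1
      split_ifs
      · simp only [t, u] at h2 ⊢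
        linear_combination h2.1 - h2.2
      · rfl
    · intro k _ hk
      rw [if_neg]
      intro hc
      rcases (hinl e _ k.2).1 hc with ⟨hc, -⟩ | ⟨hc, -⟩
      · omega
      · exact hk (Fin.ext (show k.val = l e - 1 by omega))
    · intro k _ hk
      rw [if_neg]
      intro hc
      rcases (hinl e _ k.2.le).1 hc with ⟨hc, -⟩ | ⟨hc, -⟩
      · exact hk (Fin.ext hc)
      · omega
  rw [hsum, mdeg]
  refine Finset.sum_congr rfl fun e _ => ?_
  have hne : (l e : ℤ) ≠ 0 := by exact_mod_cast (hl e).ne'
  rw [hends e, show ψ (Sum.inl (ends e).1) - ψ (Sum.inl (ends e).2) = (l e : ℤ) * (-t e) by linear_combination -(hends e),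
    Int.mul_ediv_cancel_left _ hne, Int.mul_ediv_cancel_left _ hne]

end Groth.Agent.S13759
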