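import Groth.Statements.S13763
import Groth.Agent.CanDegLib.Main
import Groth.Agent.CohCmpLib.HomLift
import Groth.Agent.SmDefLib.Van
import Groth.Agent.GrowthLib.Semiample
import Groth.Agent.LineSemiLib.Main
import Groth.Agent.PerfLib.Coherent
import Groth.Agent.CurveVBLib.Basic

set_option autoImplicit false
set_option linter.style.haveILetI false
set_option backward.isDefEq.respectTransparency false
set_option backward.isDefEq.respectTransparency.types false

set_option autoImplicit false
universe u
open CategoryTheory CategoryTheory.Limits MonoidalCategory CartesianMonoidalCategory MonObj GrpObj AlgebraicGeometry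
open CanPar

namespace Groth.Agent.S13763

/-- Let X be a smooth proper geometrically connected curve over a field k and G a reductive group scheme
over X. Then there is an integer M such that every parabolic subgroup P of G has degree at most M.
Here the degree of P means the degree of its Lie algebra, a vector bundle on X; it is written as
minus the degree of the module of invariant differentials e^*Ω_{P/X}, which for P smooth over X is
locally free (of the rank n quantified below) and dual to the Lie algebra bundle. -/
theorem result (k : Type u) [Field k] (X : Scheme.{u}) [X.Over (Spec (CommRingCat.of k))]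
    [IsIntegral X] [IsProper (X ↘ Spec (CommRingCat.of k))] [Smooth (X ↘ Spec (CommRingCat.of k))]
    [GeometricallyConnected (X ↘ Spec (CommRingCat.of k))] (hdim : topologicalKrullDim X = 1)
    (G : Over X) [GrpObj G] (hG : Red.IsReductive G) :
    ∃ M : ℤ, ∀ (P : Over X) [GrpObj P] (i : P ⟶ G), Red.IsParabolic i →
      ∀ n : ℕ, FlatMod.IsFinLocFreeOfRank n (LieS.omega P) →
        -Curv2.deg k X (LieS.omega P) n ≤ M := by
  classical
  haveI : IsAffineHom G.hom := hG.1
  haveI : Smooth G.hom := hG.2.1
  haveI hne : Nonempty X := inferInstance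
  obtain ⟨x⟩ := hne
  have hE : FlatMod.IsFinLocFree (LieS.omega G) :=
    CohCmpLib.isFinLocFree_pb (g := (MonObj.one : 𝟙_ (Over X) ⟶ G).left) (SmDefLib.isFinLocFree_omega G.hom)
  obtain ⟨U, m, hxU, ⟨eU⟩⟩ := hE x
  obtain ⟨tE⟩ := CurveVBLib.nonempty_stalk_pi_on eU hxU
  refine ⟨(Module.finrank k (Coh.HH X (LieS.omega G) 1) : ℤ) + m * |Curv2.euler k X (Coh.structureModule X)|,
    fun P _ i hi n hn => ?_⟩
  obtain ⟨hmon, hcl, hsm, -⟩ := hi
  haveI := hmon
  haveI := hcl
  haveI := hsm
  obtain ⟨q, hq⟩ := CanDegLib.exists_epi_omega G P i
  haveI := hq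
  have hQ : FlatMod.IsFinLocFree (LieS.omega P) := fun z => let ⟨V, hV⟩ := hn z; ⟨V, n, hV⟩
  have hnm : n ≤ m := by
    haveI := Module.Free.of_equiv tE.symm
    haveI := Module.Finite.equiv tE.symm
    have h := LinearMap.finrank_le_finrank_of_surjective (GrowthLib.surjective_St_of_epi q x)
    rwa [LineSemiLib.finrank_stalk_of_rank hn, tE.finrank_eq, Module.finrank_fin_fun] at h
  have hEc := PerfLib.isCoh_of_isFinLocFree hE
  have hQc := PerfLib.isCoh_of_isFinLocFree hQ
  have hdeg := CanDegLib.euler_ge (k := k) hdim q hEc hQc
  have hb : (n : ℤ) * Curv2.euler k X (Coh.structureModule X) ≤ m * |Curv2.euler k X (Coh.structureModule X)| :=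
    (mul_le_mul_of_nonneg_left (le_abs_self _) (by positivity)).trans
      (mul_le_mul_of_nonneg_right (by exact_mod_cast hnm) (abs_nonneg _))
  rw [Curv2.deg]
  linarith

end Groth.Agent.S13763
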