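import Groth.Statements.S1377
import Mathlib.AlgebraicGeometry.Normalization
import Mathlib.AlgebraicGeometry.Limits
import Mathlib.AlgebraicGeometry.IdealSheaf.Subscheme

set_option autoImplicit false
universe u
open FlatMor

namespace Groth.Agent.S1377

open AlgebraicGeometry CategoryTheory Limits in
/-- Let S be a scheme, U ⊆ S an open subscheme whose inclusion U → S is quasi-compact (U retrocompact in
S), and V → U a surjective integral morphism. Then there are a scheme V' and a surjective integral
morphism V' → S whose base change to U is V → U. (The published statement puts no condition on U,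
and in that generality it is false: e.g. S = Spec ∏_i ℤ/4^i with U = D(2) ∪ ⋃_i D(e_i), e_i the
idempotents, and V equal to U except that over D(2) it is cut out by x = (2^i)_i. Stated here with U
→ S quasi-compact, under which hypothesis the published argument applies.) -/
theorem result {S V : Scheme.{u}} (U : S.Opens) [QuasiCompact U.ι]
    (v : V ⟶ (U : Scheme.{u})) [IsIntegralHom v] [Surjective v] :
    ∃ (V' : Scheme.{u}) (π : V' ⟶ S) (i : V ⟶ V'), Surjective π ∧ IsIntegralHom π ∧ IsPullback i v π U.ι := by
  let f : V ⟶ S := v ≫ U.ι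
  have hf : f = v ≫ U.ι := rfl
  have : QuasiCompact f := by rw [hf]; infer_instance
  have : QuasiSeparated f := by rw [hf]; infer_instance
  have h₀ : IsPullback (𝟙 V) v f U.ι := by
    simpa [hf] using
      (IsPullback.of_horiz_isIso (show CommSq (𝟙 V) v v (𝟙 _) from ⟨by simp⟩)).paste_vert
        (IsKernelPair.id_of_mono U.ι)
  let e := h₀.isoPullback
  have he₁ : e.hom ≫ pullback.fst f U.ι = 𝟙 V := h₀.isoPullback_hom_fst
  have he₂ : e.hom ≫ pullback.snd f U.ι = v := h₀.isoPullback_hom_snd
  have : IsIntegralHom (pullback.snd f U.ι) := by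
    rw [← MorphismProperty.cancel_left_of_respectsIso @IsIntegralHom e.hom, he₂]
    infer_instance
  let φ : V ⟶ pullback f.fromNormalization U.ι :=
    e.hom ≫ (pullback.snd f U.ι).toNormalization ≫ f.normalizationPullback U.ι
  have : IsIso φ := inferInstanceAs
    (IsIso (e.hom ≫ (pullback.snd f U.ι).toNormalization ≫ f.normalizationPullback U.ι))
  have hφ₁ : φ ≫ pullback.fst _ _ = f.toNormalization := by
    simp only [φ, Category.assoc, Scheme.Hom.toNormalization_normalizationPullback_fst]
    rw [← Category.assoc, he₁, Category.id_comp]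
  have : IsOpenImmersion f.toNormalization := by rw [← hφ₁]; infer_instance
  have hrange : Set.range f.toNormalization = f.fromNormalization ⁻¹' (U : Set S) := by
    rw [← hφ₁, Scheme.Hom.comp_base, TopCat.coe_comp, Set.range_comp,
      φ.surjective.range_eq, Set.image_univ, Scheme.Pullback.range_fst, Scheme.Opens.range_ι]
  let Zc : TopologicalSpace.Closeds S := ⟨(U : Set S)ᶜ, U.isOpen.isClosed_compl⟩
  let I := Scheme.IdealSheafData.vanishingIdeal Zc
  have hI : Set.range I.subschemeι = (U : Set S)ᶜ := by
    simp [I, Scheme.IdealSheafData.range_subschemeι, Zc]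
  let π : f.normalization ⨿ I.subscheme ⟶ S := coprod.desc f.fromNormalization I.subschemeι
  let i : V ⟶ f.normalization ⨿ I.subscheme := f.toNormalization ≫ coprod.inl
  have hiπ : i ≫ π = f := by simp only [i, π, Category.assoc, coprod.inl_desc, Scheme.Hom.toNormalization_fromNormalization]
  refine ⟨_, π, i, ⟨fun x ↦ ?_⟩, inferInstance, (IsOpenImmersion.isPullback v i U.ι π ?_ ?_).flip⟩
  · by_cases hx : x ∈ U
    · obtain ⟨y, hy⟩ := v.surjective ⟨x, hx⟩
      refine ⟨i y, ?_⟩
      change (i ≫ π) y = x
      rw [hiπ]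
      simp [hf, hy]
    · obtain ⟨z, hz⟩ : x ∈ Set.range I.subschemeι := hI.symm ▸ hx
      refine ⟨(coprod.inr : I.subscheme ⟶ _) z, ?_⟩
      change ((coprod.inr : I.subscheme ⟶ _) ≫ π) z = x
      rw [coprod.inr_desc]
      exact hz
  · exact hiπ
  · ext x
    obtain ⟨n | z, rfl⟩ := (coprodMk f.normalization I.subscheme).surjective x
    · have h := Set.ext_iff.mp hrange n
      simp only [coprodMk_inl, TopologicalSpace.Opens.map_coe,
        Scheme.Opens.opensRange_ι, Scheme.Hom.coe_opensRange, Set.mem_preimage, Set.mem_range] at h ⊢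
      rw [← Scheme.Hom.comp_apply, coprod.inl_desc]
      refine h.symm.trans ⟨fun ⟨y, hy⟩ ↦ ⟨y, by simp [i, hy]⟩, fun ⟨y, hy⟩ ↦ ⟨y, ?_⟩⟩
      exact (coprod.inl : f.normalization ⟶ _).isOpenEmbedding.injective (by simpa [i] using hy)
    · have h := (Set.ext_iff.mp hI (I.subschemeι z)).mp ⟨z, rfl⟩
      simp only [coprodMk_inr, TopologicalSpace.Opens.map_coe,
        Scheme.Opens.opensRange_ι, Scheme.Hom.coe_opensRange, Set.mem_preimage, Set.mem_range]
      rw [← Scheme.Hom.comp_apply, coprod.inr_desc]
      refine iff_of_false h fun ⟨y, hy⟩ ↦ ?_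
      exact Set.disjoint_iff_forall_ne.mp (isCompl_range_inl_inr _ _).disjoint
        ⟨f.toNormalization y, rfl⟩ ⟨z, rfl⟩ (by simpa [i] using hy)

end Groth.Agent.S1377
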