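import Groth.Statements.S13770
import Groth.Agent.CanDegLib.Main
import Groth.Agent.CanDegLib.Family
import Groth.Agent.KFlatLib.PerfectPull
import Groth.Agent.SmDefLib.Van
import Groth.Agent.PerfLib.Coherent
import Groth.Agent.GenDescLib.LocFree
import Groth.Agent.EllLawLib.Field
import Groth.Agent.FibDimLib.FieldExt
import Groth.Agent.Formal2VBLib.Dual

set_option autoImplicit false
set_option linter.style.haveILetI false
set_option backward.isDefEq.respectTransparency false
set_option backward.isDefEq.respectTransparency.types false

set_option autoImplicit false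
universe u
open CategoryTheory CategoryTheory.Limits MonoidalCategory CartesianMonoidalCategory MonObj GrpObj AlgebraicGeometry
open CanPar

namespace Groth.Agent.S13770

/-- Let S be a Noetherian scheme, p : X → S a curve over S (smooth, proper, with geometrically connected
fibres of dimension one) and G a reductive group scheme over X. Then the degrees of instability of
the fibres of G are uniformly bounded: there is an integer M such that for every field K and every
morphism x : Spec K → S, every parabolic subgroup P of the restriction G_K of G to the curve X_K = X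
×_S Spec K over K has degree at most M. The degree of a parabolic subgroup is that of its Lie
algebra bundle, written as minus the degree over K of the locally free module e^*Ω of invariant
differentials (dual to the Lie algebra, of the rank quantified in the statement). (The published
statement takes X projective over S; this row takes X proper over S, which is all that its proof
uses: the bound for a single curve over a field applied fibre by fibre, local constancy of the rank
and of the genus, upper semicontinuity of the dimension of the space of global sections in a proper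
flat family, and Noetherian induction on S.) -/
theorem result
    (S X : Scheme.{u}) [IsNoetherian S] (p : X ⟶ S) [Smooth p] [IsProper p] [GeometricallyConnected p]
    (hdim : ∀ s : S, topologicalKrullDim (p.fiber s) = 1)
    (G : Over X) [GrpObj G] (hG : Red.IsReductive G) :
    ∃ M : ℤ, ∀ (K : Type u) [Field K] (x : Spec (CommRingCat.of K) ⟶ S)
      (P : Over (pullback p x)) [GrpObj P] (i : P ⟶ Red.bc (pullback.fst p x) G), Red.IsParabolic i →
      ∀ n : ℕ, FlatMod.IsFinLocFreeOfRank n (LieS.omega P) →
        -@Curv2.deg K _ (pullback p x) ⟨pullback.snd p x⟩ (LieS.omega P) n ≤ M := by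
  classical
  haveI : IsAffineHom G.hom := hG.1
  haveI : Smooth G.hom := hG.2.1
  haveI : CompactSpace X := QuasiCompact.compactSpace_of_compactSpace p
  haveI : IsLocallyNoetherian X := LocallyOfFiniteType.isLocallyNoetherian p
  have hE : FlatMod.IsFinLocFree (LieS.omega G) :=
    CohCmpLib.isFinLocFree_pb (g := (MonObj.one : 𝟙_ (Over X) ⟶ G).left) (SmDefLib.isFinLocFree_omega G.hom)
  have hO : FlatMod.IsFinLocFree (Coh.structureModule X) := Formal2VBLib.isFinLocFree_structureModule X
  obtain ⟨m, hm⟩ := CanDegLib.exists_rank_le hE
  obtain ⟨N, hN⟩ := CanDegLib.exists_betti_le p _ (GenDescLib.isFP_of_isFinLocFree _ hE)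
    (CanDegLib.isFlatOver_of_locFree p hE) 1
  obtain ⟨A, hA⟩ := CanDegLib.exists_betti_le p _ (GenDescLib.isFP_of_isFinLocFree _ hO)
    (CanDegLib.isFlatOver_of_locFree p hO) 0
  obtain ⟨B, hB⟩ := CanDegLib.exists_betti_le p _ (GenDescLib.isFP_of_isFinLocFree _ hO)
    (CanDegLib.isFlatOver_of_locFree p hO) 1
  refine ⟨(N : ℤ) + m * ((A : ℤ) + B), fun K _ x P _ i hi n hn => ?_⟩
  obtain ⟨hmon, hcl, hsm, -⟩ := hi
  haveI := hmon
  haveI := hcl
  haveI := hsm
  letI : (pullback p x).Over (Spec (CommRingCat.of K)) := ⟨pullback.snd p x⟩
  haveI : IsProper (pullback p x ↘ Spec (CommRingCat.of K)) := MorphismProperty.pullback_snd p x inferInstance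
  have hd : topologicalKrullDim ↥(pullback p x) = 1 := by
    rw [← EllLawLib.dim_fiber_spec (pullback.snd p x) (IsLocalRing.closedPoint K),
      FibDimLib.topologicalKrullDim_fiber_baseChange (IsPullback.of_hasPullback p x)]
    exact hdim _
  haveI : Nonempty ↥(pullback p x) := by
    by_contra hne
    haveI := not_nonempty_iff.1 hne
    haveI : IsEmpty (TopologicalSpace.IrreducibleCloseds ↥(pullback p x)) :=
      ⟨fun Z => Z.isIrreducible.1.elim fun a _ => IsEmpty.false a⟩
    rw [topologicalKrullDim, Order.krullDim_eq_bot] at hd
    exact absurd hd (by simp)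
  haveI : QuasiSeparated (Red.bc (pullback.fst p x) G).hom := MorphismProperty.pullback_snd G.hom _ inferInstance
  obtain ⟨q, hq⟩ := CanDegLib.exists_epi_omega (Red.bc (pullback.fst p x) G) P i
  haveI := hq
  obtain ⟨e⟩ := CanDegLib.nonempty_omega_bc (pullback.fst p x) G
  have hnm : n ≤ m := hm (pullback.fst p x) e q n hn
  have hQ : FlatMod.IsFinLocFree (LieS.omega P) := fun z => let ⟨V, hV⟩ := hn z; ⟨V, n, hV⟩
  have hEc := PerfLib.isCoh_of_isFinLocFree hE
  have hpb : Coh.IsCoh (LieS.omega (Red.bc (pullback.fst p x) G)) :=
    PerfLib.isCoh_of_isFinLocFree (CohCmpLib.isFinLocFree_pb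
      (g := (MonObj.one : 𝟙_ (Over (pullback p x)) ⟶ Red.bc (pullback.fst p x) G).left)
      (haveI : Smooth (Red.bc (pullback.fst p x) G).hom := MorphismProperty.pullback_snd G.hom _ inferInstance
       SmDefLib.isFinLocFree_omega (Red.bc (pullback.fst p x) G).hom))
  have hdeg := CanDegLib.euler_ge (k := K) hd q hpb (PerfLib.isCoh_of_isFinLocFree hQ)
  obtain ⟨s, hs⟩ := CanDegLib.finrank_point p hEc.1 K x
  obtain ⟨s', hs'⟩ := CanDegLib.finrank_point p (PerfLib.isCoh_of_isFinLocFree hO).1 K x
  have h1 : (Module.finrank K (Coh.HH (pullback p x) (LieS.omega (Red.bc (pullback.fst p x) G)) 1) : ℤ) ≤ N := by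
    rw [(CurvLib.hIso (k := K) e 1).finrank_eq, hs 1]
    exact_mod_cast hN s
  haveI := CurvLib.isNoetherian K (X := pullback p x)
  have hχ : Curv2.euler K (pullback p x) (Coh.structureModule (pullback p x)) ≤ (A : ℤ) + B := by
    rw [CurvLib.euler_eq_sub fun j hj =>
      CurvLib.subsingleton_HH_of_dim_le _ (d := 1) hd.le j (by omega)]
    have h0 : (Module.finrank K (Coh.HH (pullback p x) (Coh.structureModule (pullback p x)) 0) : ℤ) ≤ A := by
      rw [← (CurvLib.hIso (k := K) (KFlatLib.pullUnitIso (pullback.fst p x)) 0).finrank_eq, hs' 0]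
      exact_mod_cast hA s'
    have : (0 : ℤ) ≤ (Module.finrank K (Coh.HH (pullback p x) (Coh.structureModule (pullback p x)) 1) : ℤ) :=
      Int.natCast_nonneg _
    linarith [Int.natCast_nonneg B]
  have hb : (n : ℤ) * Curv2.euler K (pullback p x) (Coh.structureModule (pullback p x)) ≤ m * ((A : ℤ) + B) :=
    (mul_le_mul_of_nonneg_left hχ (by positivity)).trans
      (mul_le_mul_of_nonneg_right (by exact_mod_cast hnm) (by positivity))
  rw [Curv2.deg]
  linarith

end Groth.Agent.S13770
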