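import Groth.Statements.S13771
import Groth.Agent.PLieLib.Exist
-- import your own Groth.Agent.* helpers here

set_option autoImplicit false
universe u v w
open PLie

namespace Groth.Agent.S13771

open PLieLib

/-- Let R be a commutative ring of prime characteristic p, L₁ and L₂ Lie algebras over R, φ a p-mapping
on L₁ and f : L₁ → L₂ a morphism of Lie algebras whose kernel is stable under φ (a p-ideal). Then
the image f(L₁), a Lie subalgebra of L₂, carries exactly one p-mapping ψ for which the corestriction
of f to its image is a morphism of p-Lie algebras, i.e. ψ (f x) = f (φ x) for all x. -/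
theorem result (R : Type u) [CommRing R] (p : ℕ) [Fact p.Prime] [CharP R p]
    (L₁ : Type v) [LieRing L₁] [LieAlgebra R L₁] (L₂ : Type w) [LieRing L₂] [LieAlgebra R L₂]
    (φ : PLie.PMap R p L₁) (f : L₁ →ₗ⁅R⁆ L₂) (hker : ∀ x : L₁, f x = 0 → f (φ x) = 0) :
    ∃! ψ : PLie.PMap R p f.range, PLie.IsPHom φ ψ f.rangeRestrict := by
  classical
  have hwd : ∀ x y, f x = f y → f (φ x) = f (φ y) := by
    intro x y hxy
    have hk : f (y - x) = 0 := by rw [map_sub, hxy, sub_self]
    have := congrArg f (φ.map_add x (y - x))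
    rw [add_sub_cancel, map_sub, map_add, map_jacobson, hk, jacobson_zero_right, sub_zero, hker _ hk, add_zero] at this
    exact this.symm
  choose s hs using fun z : f.range => (LieHom.mem_range f z.1).1 z.2
  have hsec : ∀ z, f.rangeRestrict (s z) = z := fun z => Subtype.ext (hs z)
  have hG : ∀ x, f.rangeRestrict (φ (s (f.rangeRestrict x))) = f.rangeRestrict (φ x) :=
    fun x => Subtype.ext (hwd _ _ (hs (f.rangeRestrict x)))
  have hsurj : ∀ z : f.range, ∃ x, f.rangeRestrict x = z := fun z => ⟨s z, hsec z⟩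
  have hiter : ∀ (x : L₁) (n : ℕ) (w : L₁),
      (LieAlgebra.ad R f.range (f.rangeRestrict x) ^ n) (f.rangeRestrict w) =
        f.rangeRestrict ((LieAlgebra.ad R L₁ x ^ n) w) := by
    intro x n
    induction n with
    | zero => intro w; rfl
    | succ n ih =>
      intro w
      rw [pow_succ', pow_succ', Module.End.mul_apply, Module.End.mul_apply, ih]
      exact (f.rangeRestrict.map_lie _ _).symm
  refine ⟨⟨fun z => f.rangeRestrict (φ (s z)), ?_, ?_, ?_⟩, fun x => (hG x).symm, ?_⟩
  · intro c z
    obtain ⟨x, rfl⟩ := hsurj z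
    rw [← map_smul, hG, hG, φ.map_smul, map_smul]
  · intro z
    obtain ⟨x, rfl⟩ := hsurj z
    refine LinearMap.ext fun w => ?_
    obtain ⟨w, rfl⟩ := hsurj w
    rw [hG, LieAlgebra.ad_apply, ← LieHom.map_lie, hiter, lie_pmap]
  · intro z z'
    obtain ⟨x, rfl⟩ := hsurj z
    obtain ⟨x', rfl⟩ := hsurj z'
    rw [← map_add, hG, hG, hG, φ.map_add, map_sub, map_add, map_jacobson]
  · intro ψ hψ
    refine PMap.ext' fun z => ?_
    obtain ⟨x, rfl⟩ := hsurj z
    exact ((hψ x).symm.trans (hG x).symm)


end Groth.Agent.S13771
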