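import Groth.Statements.S13772
import Groth.Agent.PLieLib.Exist
-- import your own Groth.Agent.* helpers here

set_option autoImplicit false
universe u v
open PLie

namespace Groth.Agent.S13772

open PLieLib

/-- Let R be a commutative ring of prime characteristic p and L a Lie algebra over R with a p-mapping γ.
For a map g : L → L, there is a p-mapping γ' on L with γ' x = γ x + g x for every x if and only if g
is additive, g (c • x) = c ^ p • g x for all scalars c, and every value g x lies in the centre of L.
(Both parts of the published statement at once: the difference of two p-mappings is a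
Frobenius-semilinear map into the centre, and adding such a map to a p-mapping gives a p-mapping.) -/
theorem result (R : Type u) [CommRing R] (p : ℕ) [Fact p.Prime] [CharP R p]
    (L : Type v) [LieRing L] [LieAlgebra R L] (γ : PLie.PMap R p L) (g : L → L) :
    (∃ γ' : PLie.PMap R p L, ∀ x : L, γ' x = γ x + g x) ↔
      ((∀ x y : L, g (x + y) = g x + g y) ∧ (∀ (c : R) (x : L), g (c • x) = c ^ p • g x) ∧
        ∀ x : L, g x ∈ LieAlgebra.center R L) := by
  constructor
  · rintro ⟨γ', hγ⟩
    have hg : ∀ x, g x = γ' x - γ x := fun x => by rw [hγ, add_sub_cancel_left]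
    refine ⟨fun x y => ?_, fun c x => ?_, fun x => (LieModule.mem_maxTrivSubmodule _ _ _ _).2 fun y => ?_⟩
    · rw [hg, hg, hg, γ'.map_add, γ.map_add]; abel
    · rw [hg, hg, γ'.map_smul, γ.map_smul, smul_sub]
    · rw [← lie_skew, hg, sub_lie, lie_pmap, lie_pmap, sub_self, neg_zero]
  · rintro ⟨ha, hs, hc⟩
    refine ⟨⟨fun x => γ x + g x, fun c x => ?_, fun x => LinearMap.ext fun y => ?_, fun x y => ?_⟩, fun x => rfl⟩
    · rw [γ.map_smul, hs, smul_add]
    · rw [LieAlgebra.ad_apply, add_lie, lie_pmap, ← lie_skew (g x) y, (LieModule.mem_maxTrivSubmodule _ _ _ _).1 (hc x) y, neg_zero, add_zero]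
    · rw [ha, γ.map_add]; abel


end Groth.Agent.S13772
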