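import Groth.Statements.S13775
import Groth.Agent.PLieLib.Exist
-- import your own Groth.Agent.* helpers here

set_option autoImplicit false
universe u v
open PLie

namespace Groth.Agent.S13775

open PLieLib

/-- Let R be a commutative ring of prime characteristic p and L a Lie algebra over R, free as a module
with basis x = bs 0, y = bs 1, z = bs 2 and brackets [x,y] = y, [x,z] = y + z, [y,z] = 0. Then L
carries no p-mapping. (The published statement is the corresponding entry of the classification
table of three-dimensional Lie algebras over an algebraically closed field of characteristic p; this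
row states it over every commutative ring of characteristic p.) -/
theorem result (R : Type u) [CommRing R] (p : ℕ) [Fact p.Prime] [CharP R p]
    (L : Type v) [LieRing L] [LieAlgebra R L] (bs : Module.Basis (Fin 3) R L)
    (hxy : ⁅bs 0, bs 1⁆ = bs 1) (hxz : ⁅bs 0, bs 2⁆ = bs 1 + bs 2) (hyz : ⁅bs 1, bs 2⁆ = 0) :
    IsEmpty (PLie.PMap R p L) := by
  constructor
  intro φ
  classical
  have hp : p.Prime := Fact.out
  obtain ⟨n, hn⟩ := Nat.exists_eq_add_of_le hp.one_le
  have hpow : ∀ m : ℕ, (LieAlgebra.ad R L (bs 0) ^ m) (bs 2) = (m : R) • bs 1 + bs 2 ∧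
      (LieAlgebra.ad R L (bs 0) ^ m) (bs 1) = bs 1 := by
    intro m
    induction m with
    | zero => simp
    | succ m ih =>
      constructor
      · rw [pow_succ', Module.End.mul_apply, ih.1, LieAlgebra.ad_apply, lie_add, lie_smul, hxy, hxz, Nat.cast_succ, add_smul, one_smul]
        abel
      · rw [pow_succ', Module.End.mul_apply, ih.2, LieAlgebra.ad_apply, hxy]
  obtain ⟨h2, h1⟩ := hpow p
  rw [CharP.cast_eq_zero, zero_smul, zero_add, ← lie_pmap φ] at h2
  rw [← lie_pmap φ] at h1
  have hzy : ⁅bs 2, bs 1⁆ = 0 := by rw [← lie_skew, hyz, neg_zero]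
  obtain ⟨c, hc⟩ : ∃ c : Fin 3 → R, φ (bs 0) = c 0 • bs 0 + c 1 • bs 1 + c 2 • bs 2 :=
    ⟨fun j => bs.repr (φ (bs 0)) j, by conv_lhs => rw [← bs.sum_repr (φ (bs 0))]; rw [Fin.sum_univ_three]⟩
  rw [hc] at h1 h2
  simp only [add_lie, smul_lie, hxy, hxz, hyz, hzy, lie_self, smul_zero, add_zero] at h1 h2
  have e1 := congrArg (fun v => bs.repr v 1) h1
  have e2 := congrArg (fun v => bs.repr v 1) h2
  simp at e1 e2
  haveI : Nontrivial R := CharP.nontrivial_of_char_ne_one (R := R) hp.ne_one
  rw [e2] at e1
  exact zero_ne_one e1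


end Groth.Agent.S13775
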