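import Groth.Statements.S13776
import Groth.Agent.PLieLib.Exist
-- import your own Groth.Agent.* helpers here

set_option autoImplicit false
universe u v
open PLie

namespace Groth.Agent.S13776

open PLieLib

/-- Let R be a commutative ring of prime characteristic p, t ∈ R, and L a Lie algebra over R, free as a
module with basis x = bs 0, y = bs 1, z = bs 2 and brackets [x,y] = y, [x,z] = t • z, [y,z] = 0.
Then L carries a p-mapping if and only if t ^ p = t. (The published statement is the corresponding
entry of the classification table over an algebraically closed field of characteristic p, where the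
condition reads: t lies in the prime field; this row states it over every commutative ring of
characteristic p.) -/
theorem result (R : Type u) [CommRing R] (p : ℕ) [Fact p.Prime] [CharP R p] (t : R)
    (L : Type v) [LieRing L] [LieAlgebra R L] (bs : Module.Basis (Fin 3) R L)
    (hxy : ⁅bs 0, bs 1⁆ = bs 1) (hxz : ⁅bs 0, bs 2⁆ = t • bs 2) (hyz : ⁅bs 1, bs 2⁆ = 0) :
    Nonempty (PLie.PMap R p L) ↔ t ^ p = t := by
  classical
  have hp : p.Prime := Fact.out
  have hzy : ⁅bs 2, bs 1⁆ = 0 := by rw [← lie_skew, hyz, neg_zero]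
  have hyx : ⁅bs 1, bs 0⁆ = -bs 1 := by rw [← lie_skew, hxy]
  have hzx : ⁅bs 2, bs 0⁆ = -(t • bs 2) := by rw [← lie_skew, hxz]
  have hpow : ∀ m : ℕ, (LieAlgebra.ad R L (bs 0) ^ m) (bs 1) = bs 1 ∧
      (LieAlgebra.ad R L (bs 0) ^ m) (bs 2) = t ^ m • bs 2 ∧ (LieAlgebra.ad R L (bs 0) ^ (m + 1)) (bs 0) = 0 := by
    intro m
    induction m with
    | zero => simp
    | succ m ih =>
      refine ⟨?_, ?_, ?_⟩
      · rw [pow_succ', Module.End.mul_apply, ih.1, LieAlgebra.ad_apply, hxy]
      · rw [pow_succ', Module.End.mul_apply, ih.2.1, LieAlgebra.ad_apply, lie_smul, hxz, smul_smul, pow_succ]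
      · rw [pow_succ', Module.End.mul_apply, ih.2.2, map_zero]
  obtain ⟨n, hn⟩ := Nat.exists_eq_add_of_le hp.one_le
  constructor
  · rintro ⟨φ⟩
    obtain ⟨c, hc⟩ : ∃ c : Fin 3 → R, φ (bs 0) = c 0 • bs 0 + c 1 • bs 1 + c 2 • bs 2 :=
      ⟨fun j => bs.repr (φ (bs 0)) j, by conv_lhs => rw [← bs.sum_repr (φ (bs 0))]; rw [Fin.sum_univ_three]⟩
    have h1 := (hpow p).1
    have h2 := (hpow p).2.1
    rw [← lie_pmap φ, hc] at h1 h2
    simp only [add_lie, smul_lie, hxy, hxz, hyz, hzy, lie_self, smul_zero, add_zero, smul_smul] at h1 h2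
    have e1 := congrArg (fun v => bs.repr v 1) h1
    have e2 := congrArg (fun v => bs.repr v 2) h2
    simp at e1 e2
    rw [e1, one_mul] at e2
    exact e2.symm
  · intro ht
    obtain ⟨φ, -⟩ := exists_pmap bs ![bs 0, 0, 0] (p := p) fun i => by
      fin_cases i <;> simp only [Fin.zero_eta, Fin.mk_one, Fin.reduceFinMk, Matrix.cons_val_zero, Matrix.cons_val_one, Matrix.cons_val_two,
        Matrix.cons_val, Matrix.tail_cons, Matrix.head_cons, map_zero]
      · refine bs.ext fun j => ?_
        fin_cases j
        · show (LieAlgebra.ad R L (bs 0) ^ p) (bs 0) = ⁅bs 0, bs 0⁆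
          rw [hn, add_comm, (hpow n).2.2, lie_self]
        · show (LieAlgebra.ad R L (bs 0) ^ p) (bs 1) = ⁅bs 0, bs 1⁆
          rw [(hpow p).1, hxy]
        · show (LieAlgebra.ad R L (bs 0) ^ p) (bs 2) = ⁅bs 0, bs 2⁆
          rw [(hpow p).2.1, hxz, ht]
      · refine ad_pow_eq_zero_of_sq (R := R) (L := L) (p := p) fun z => ?_
        induction bs.mem_span z using Submodule.span_induction with
        | mem x hx => obtain ⟨j, rfl⟩ := hx; fin_cases j <;> simp [hyx, hyz]
        | zero => simp
        | add u v _ _ hu hv => simp [lie_add, hu, hv]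
        | smul r u _ hu => simp [lie_smul, hu]
      · refine ad_pow_eq_zero_of_sq (R := R) (L := L) (p := p) fun z => ?_
        induction bs.mem_span z using Submodule.span_induction with
        | mem x hx => obtain ⟨j, rfl⟩ := hx; fin_cases j <;> simp [hzx, hzy, lie_smul]
        | zero => simp
        | add u v _ _ hu hv => simp [lie_add, hu, hv]
        | smul r u _ hu => simp [lie_smul, hu]
    exact ⟨φ⟩


end Groth.Agent.S13776
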