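import Groth.Statements.S13777
import Groth.Agent.PLieLib.Exist
-- import your own Groth.Agent.* helpers here

set_option autoImplicit false
universe u v
open PLie

namespace Groth.Agent.S13777

open PLieLib

/-- Let R be a commutative ring of characteristic 2 and L a Lie algebra over R, free as a module with
basis x = bs 0, y = bs 1, z = bs 2 and brackets [x,y] = z, [x,z] = −x, [y,z] = y. Then L carries no
2-mapping. (The published statement is the corresponding entry of the classification table over an
algebraically closed field of characteristic 2; this row states it over every commutative ring of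
characteristic 2.) -/
theorem result (R : Type u) [CommRing R] [CharP R 2]
    (L : Type v) [LieRing L] [LieAlgebra R L] (bs : Module.Basis (Fin 3) R L)
    (hxy : ⁅bs 0, bs 1⁆ = bs 2) (hxz : ⁅bs 0, bs 2⁆ = -bs 0) (hyz : ⁅bs 1, bs 2⁆ = bs 1) :
    IsEmpty (PLie.PMap R 2 L) := by
  constructor
  intro φ
  classical
  have hzy : ⁅bs 2, bs 1⁆ = -bs 1 := by rw [← lie_skew, hyz]
  have h := lie_pmap φ (bs 0) (bs 1)
  obtain ⟨c, hc⟩ : ∃ c : Fin 3 → R, φ (bs 0) = c 0 • bs 0 + c 1 • bs 1 + c 2 • bs 2 :=
    ⟨fun j => bs.repr (φ (bs 0)) j, by conv_lhs => rw [← bs.sum_repr (φ (bs 0))]; rw [Fin.sum_univ_three]⟩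
  rw [hc] at h
  simp only [add_lie, smul_lie, hxy, hxz, hzy, lie_self, smul_zero, add_zero, pow_two, Module.End.mul_apply,
    LieAlgebra.ad_apply] at h
  have e := congrArg (fun v => bs.repr v 0) h
  simp at e
  haveI : Nontrivial R := CharP.nontrivial_of_char_ne_one (R := R) (show (2 : ℕ) ≠ 1 by norm_num)
  first
    | exact one_ne_zero e
    | exact one_ne_zero e.symm


end Groth.Agent.S13777
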