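import Groth.Statements.S13778
import Groth.Agent.PLieLib.Deform
-- import your own Groth.Agent.* helpers here

set_option autoImplicit false
universe u v
open PLie

namespace Groth.Agent.S13778

open PLieLib TrivSqZeroExt

open DualNumber in
/-- Let K be a field of prime characteristic p, K[ε] the ring of dual numbers (taken with its
characteristic-p structure), t ∈ K with t ^ p = t (an element of the prime field), and a, …, i ∈ K.
Let L be a Lie algebra over K[ε], free as a module with basis x = bs 0, y = bs 1, z = bs 2 and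
brackets [x,y] = aε x + (1 + bε) y + cε z, [x,z] = dε x + eε y + (t + fε) z, [y,z] = gε x + hε y +
iε z. Then L carries a p-mapping over K[ε] if and only if b t = f, c = e = 0 when t = 1, and g = 0
when p = 2. (The published statement determines the singular locus of the restrictable locus in the
centreless stratum of the moduli scheme of based three-dimensional Lie algebras, for t non-zero, and
the rank-one-centre stratum treats t = 0; this row states the restrictability criterion for the
first-order deformations of l_t that the proofs compute, over any field of characteristic p in place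
of the prime field and for every t in the prime field.) -/
theorem result (K : Type u) [Field K] (p : ℕ) [Fact p.Prime] [CharP K p]
    [CharP (DualNumber K) p] (t a b c d e f g h i : K) (ht : t ^ p = t)
    (L : Type v) [LieRing L] [LieAlgebra (DualNumber K) L] (bs : Module.Basis (Fin 3) (DualNumber K) L)
    (hxy : ⁅bs 0, bs 1⁆ = (a • ε : DualNumber K) • bs 0 + (1 + b • ε : DualNumber K) • bs 1 + (c • ε : DualNumber K) • bs 2)
    (hxz : ⁅bs 0, bs 2⁆ = (d • ε : DualNumber K) • bs 0 + (e • ε : DualNumber K) • bs 1 +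
      (algebraMap K (DualNumber K) t + f • ε) • bs 2)
    (hyz : ⁅bs 1, bs 2⁆ = (g • ε : DualNumber K) • bs 0 + (h • ε : DualNumber K) • bs 1 + (i • ε : DualNumber K) • bs 2) :
    Nonempty (PLie.PMap (DualNumber K) p L) ↔ (b * t = f ∧ (t = 1 → c = 0 ∧ e = 0) ∧ (p = 2 → g = 0)) := by
  classical
  have hp : p.Prime := Fact.out
  rw [nonempty_pmap_iff bs]
  have hyx : ⁅bs 1, bs 0⁆ = -⁅bs 0, bs 1⁆ := (lie_skew _ _).symm
  have hzx : ⁅bs 2, bs 0⁆ = -⁅bs 0, bs 2⁆ := (lie_skew _ _).symm
  have hzy : ⁅bs 2, bs 1⁆ = -⁅bs 1, bs 2⁆ := (lie_skew _ _).symm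
  have hj := lie_jacobi (bs 0) (bs 1) (bs 2)
  simp only [hyz, hzx, hxy, hxz, lie_neg, lie_add, lie_smul, lie_self, hyx, hzy, smul_neg, smul_zero, neg_zero] at hj
  have hjg : g * (1 + t) = 0 := by
    have := congrArg (fun v => snd (bs.repr v 0)) hj
    simp [fst_mul, DualNumber.snd_mul, algebraMap_eq_inl] at this
    linear_combination -this
  have hjd : d - t * h = 0 := by
    have := congrArg (fun v => snd (bs.repr v 1)) hj
    simp [fst_mul, DualNumber.snd_mul, algebraMap_eq_inl] at this
    linear_combination this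
  let adP := fun i : Fin 3 => LieAlgebra.ad (DualNumber K) L (bs i)
  let S : ℕ → K := fun n => ∑ j ∈ Finset.range n, t ^ j
  have hxpow : ∀ n : ℕ, (adP 0 ^ (n + 1)) (bs 0) = 0 ∧
      (adP 0 ^ (n + 1)) (bs 1) = (a • ε : DualNumber K) • bs 0 + (1 + (((n + 1 : ℕ) : K) * b) • ε : DualNumber K) • bs 1
        + ((S (n + 1) * c) • ε : DualNumber K) • bs 2 ∧
      (adP 0 ^ (n + 1)) (bs 2) = ((t ^ n * d) • ε : DualNumber K) • bs 0 + ((S (n + 1) * e) • ε : DualNumber K) • bs 1
        + (algebraMap K (DualNumber K) (t ^ (n + 1)) + (((n + 1 : ℕ) : K) * t ^ n * f) • ε : DualNumber K) • bs 2 := by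
    intro n
    induction n with
    | zero => simp [adP, S, hxy, hxz]
    | succ n ih =>
      obtain ⟨h0, h1, h2⟩ := ih
      have hS : S (n + 1 + 1) = S (n + 1) + t ^ (n + 1) := Finset.sum_range_succ _ _
      have hS' : S (n + 1 + 1) = t * S (n + 1) + 1 := geom_sum_succ
      refine ⟨by rw [pow_succ', Module.End.mul_apply, h0, map_zero], ?_, ?_⟩
      · rw [pow_succ', Module.End.mul_apply, h1]
        simp only [adP, map_add, map_smul, LieAlgebra.ad_apply, hxy, hxz, lie_self]
        apply bs.ext_elem
        intro l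
        fin_cases l <;> apply TrivSqZeroExt.ext <;>
          simp [fst_mul, DualNumber.snd_mul, algebraMap_eq_inl, hS'] <;> ring
      · rw [pow_succ', Module.End.mul_apply, h2]
        simp only [adP, map_add, map_smul, LieAlgebra.ad_apply, hxy, hxz, lie_self]
        apply bs.ext_elem
        intro l
        fin_cases l <;> apply TrivSqZeroExt.ext <;>
          simp [fst_mul, DualNumber.snd_mul, algebraMap_eq_inl, hS] <;> ring
  obtain ⟨n, hn⟩ := Nat.exists_eq_add_of_le hp.one_le
  obtain ⟨x0, x1, x2⟩ := hxpow n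
  rw [show n + 1 = p by omega] at x0 x1 x2
  rw [CharP.cast_eq_zero K p] at x1 x2
  simp only [zero_mul, zero_smul, add_zero, ht] at x1 x2
  have hS1 : t = 1 → S p = 0 := by
    rintro rfl
    simp [S, CharP.cast_eq_zero K p]
  have hSne : t ≠ 1 → S p = 1 := fun h1 => by
    simp only [S]
    rw [geom_sum_eq h1, ht, div_self (sub_ne_zero.2 h1)]
  have hd : t ^ n * d = d := by
    by_cases ht0 : t = 0
    · subst ht0
      have : d = 0 := by linear_combination hjd
      rw [this, mul_zero]
    · have : t ^ n = 1 := mul_left_cancel₀ ht0 (by rw [← pow_succ', show n + 1 = p by omega, ht, mul_one])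
      rw [this, one_mul]
  have yy : (adP 1 ^ 2) (bs 0) = (a • ε : DualNumber K) • bs 1 ∧ (adP 1 ^ 2) (bs 1) = 0 ∧
      (adP 1 ^ 2) (bs 2) = (-(g • ε) : DualNumber K) • bs 1 := by
    refine ⟨?_, ?_, ?_⟩ <;>
    · apply bs.ext_elem
      intro l
      fin_cases l <;> apply TrivSqZeroExt.ext <;>
        simp [adP, pow_two, hxy, hyx, hyz, hzy, fst_mul, DualNumber.snd_mul]
  have zz : (adP 2 ^ 2) (bs 0) = ((t * d) • ε : DualNumber K) • bs 2 ∧
      (adP 2 ^ 2) (bs 1) = ((t * g) • ε : DualNumber K) • bs 2 ∧ (adP 2 ^ 2) (bs 2) = 0 := by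
    refine ⟨?_, ?_, ?_⟩ <;>
    · apply bs.ext_elem
      intro l
      fin_cases l <;> apply TrivSqZeroExt.ext <;>
        simp [adP, pow_two, hxz, hzx, hyz, hzy, fst_mul, DualNumber.snd_mul, algebraMap_eq_inl] <;> ring
  constructor
  · intro H
    obtain ⟨w, hw⟩ := H 0
    obtain ⟨q, hq⟩ : ∃ q : Fin 3 → DualNumber K, w = q 0 • bs 0 + q 1 • bs 1 + q 2 • bs 2 :=
      ⟨fun j => bs.repr w j, by conv_lhs => rw [← bs.sum_repr w]; rw [Fin.sum_univ_three]⟩
    have e0 := x0.symm.trans ((hw 0).trans (by rw [hq]))
    have e1 := x1.symm.trans ((hw 1).trans (by rw [hq]))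
    have e2 := x2.symm.trans ((hw 2).trans (by rw [hq]))
    simp only [add_lie, smul_lie, hxy, hxz, hyx, hzx, hyz, hzy, lie_self, smul_zero, zero_add, add_zero] at e0 e1 e2
    have A0 := congrArg (fun v => fst (bs.repr v 1)) e0
    have G0 := congrArg (fun v => fst (bs.repr v 2)) e0
    have A1 := congrArg (fun v => fst (bs.repr v 1)) e1
    have C1 := congrArg (fun v => snd (bs.repr v 1)) e1
    have C2 := congrArg (fun v => snd (bs.repr v 2)) e2
    have Cc := congrArg (fun v => snd (bs.repr v 2)) e1
    have Ce := congrArg (fun v => snd (bs.repr v 1)) e2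
    simp [fst_mul, DualNumber.snd_mul, algebraMap_eq_inl] at A0 A1
    simp [fst_mul, DualNumber.snd_mul, algebraMap_eq_inl, A0, ← A1] at G0 C1 C2 Cc Ce
    have hG : fst (q 2) * t = 0 := by
      rcases G0 with h0 | h0 <;> simp [h0]
    refine ⟨?_, ?_, ?_⟩
    · linear_combination C2 - t * C1 + h * hG
    · rintro rfl
      have hg0 : fst (q 2) = 0 := by simpa using hG
      rw [hS1 rfl, hg0] at Cc
      rw [hS1 rfl] at Ce
      simp at Cc Ce

      exact ⟨by linear_combination -Cc, by linear_combination -Ce⟩
    · rintro rfl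
      obtain ⟨u, hu⟩ := H 1
      obtain ⟨r, hr⟩ : ∃ r : Fin 3 → DualNumber K, u = r 0 • bs 0 + r 1 • bs 1 + r 2 • bs 2 :=
        ⟨fun j => bs.repr u j, by conv_lhs => rw [← bs.sum_repr u]; rw [Fin.sum_univ_three]⟩
      have g0 := yy.1.symm.trans ((hu 0).trans (by rw [hr]))
      have g1 := yy.2.1.symm.trans ((hu 1).trans (by rw [hr]))
      have g2 := yy.2.2.symm.trans ((hu 2).trans (by rw [hr]))
      simp only [add_lie, smul_lie, hxy, hxz, hyx, hzx, hyz, hzy, lie_self, smul_zero, zero_add, add_zero] at g0 g1 g2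
      have B0 := congrArg (fun v => fst (bs.repr v 1)) g0
      have B1 := congrArg (fun v => fst (bs.repr v 1)) g1
      have D2 := congrArg (fun v => snd (bs.repr v 1)) g2
      simp [fst_mul, algebraMap_eq_inl] at B0 B1
      simp [fst_mul, DualNumber.snd_mul, algebraMap_eq_inl, B0, ← B1] at D2
      linear_combination D2
  · rintro ⟨hbt, hce, hg⟩ j
    have hSc : S p * c = c ∧ S p * e = e := by
      by_cases h1 : t = 1
      · obtain ⟨hc0, he0⟩ := hce h1
        simp [hc0, he0]
      · simp [hSne h1]
    fin_cases j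
    · refine ⟨(1 - b • ε : DualNumber K) • bs 0, fun l => ?_⟩
      show (adP 0 ^ p) (bs l) = _
      fin_cases l
      · refine x0.trans ?_
        simp
      · refine x1.trans ?_
        apply bs.ext_elem
        intro m
        fin_cases m <;> apply TrivSqZeroExt.ext <;> simp [hxy, hSc.1, fst_mul, DualNumber.snd_mul]
      · refine x2.trans ?_
        apply bs.ext_elem
        intro m
        fin_cases m <;> apply TrivSqZeroExt.ext <;>
          simp [hxz, hSc.2, hd, ← hbt, fst_mul, DualNumber.snd_mul, algebraMap_eq_inl] <;> ring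
    all_goals
      rcases (show p = 2 ∨ 3 ≤ p by have := hp.two_le; omega) with h2 | h3
    · refine ⟨(-(a • ε) : DualNumber K) • bs 1, fun l => ?_⟩
      show (adP 1 ^ p) (bs l) = _
      rw [h2]
      fin_cases l
      · refine yy.1.trans ?_
        apply bs.ext_elem
        intro m
        fin_cases m <;> apply TrivSqZeroExt.ext <;> simp [hyx, hxy, fst_mul, DualNumber.snd_mul]
      · refine yy.2.1.trans ?_
        simp
      · refine yy.2.2.trans ?_
        apply bs.ext_elem
        intro m
        fin_cases m <;> apply TrivSqZeroExt.ext <;> simp [hyz, hg h2, fst_mul, DualNumber.snd_mul]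
    · refine ⟨0, fun l => ?_⟩
      show (adP 1 ^ p) (bs l) = _
      obtain ⟨m, rfl⟩ := Nat.exists_eq_add_of_le h3
      have h1 : adP 1 (bs 1) = 0 := lie_self _
      rw [show 3 + m = m + (1 + 2) by ring, pow_add, pow_add, pow_one, Module.End.mul_apply, Module.End.mul_apply, zero_lie]
      fin_cases l
      · simp only [Fin.zero_eta, Fin.isValue, yy.1, map_smul, h1, smul_zero, map_zero]
      · simp only [Fin.mk_one, Fin.isValue, yy.2.1, map_zero]
      · simp only [Fin.reduceFinMk, Fin.isValue, yy.2.2, map_smul, h1, smul_zero, map_zero]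
    · refine ⟨(-(d • ε) : DualNumber K) • bs 2, fun l => ?_⟩
      show (adP 2 ^ p) (bs l) = _
      rw [h2]
      fin_cases l
      · refine zz.1.trans ?_
        apply bs.ext_elem
        intro m
        fin_cases m <;> apply TrivSqZeroExt.ext <;>
          simp [hzx, hxz, fst_mul, DualNumber.snd_mul, algebraMap_eq_inl] <;> ring
      · refine zz.2.1.trans ?_
        apply bs.ext_elem
        intro m
        fin_cases m <;> apply TrivSqZeroExt.ext <;> simp [hzy, hyz, hg h2, fst_mul, DualNumber.snd_mul]
      · refine zz.2.2.trans ?_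
        simp
    · refine ⟨0, fun l => ?_⟩
      show (adP 2 ^ p) (bs l) = _
      obtain ⟨m, rfl⟩ := Nat.exists_eq_add_of_le h3
      have h1 : adP 2 (bs 2) = 0 := lie_self _
      rw [show 3 + m = m + (1 + 2) by ring, pow_add, pow_add, pow_one, Module.End.mul_apply, Module.End.mul_apply, zero_lie]
      fin_cases l
      · simp only [Fin.zero_eta, Fin.isValue, zz.1, map_smul, h1, smul_zero, map_zero]
      · simp only [Fin.mk_one, Fin.isValue, zz.2.1, map_smul, h1, smul_zero, map_zero]
      · simp only [Fin.reduceFinMk, Fin.isValue, zz.2.2, map_zero]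


end Groth.Agent.S13778
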