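import Groth.Statements.S13779
import Groth.Agent.PLieLib.Exist
-- import your own Groth.Agent.* helpers here

set_option autoImplicit false
universe u v
open PLie

namespace Groth.Agent.S13779

open PLieLib

/-- Let p be an odd prime, R a commutative ring of characteristic p, t ∈ R, and L a Lie algebra over R,
free as a module with basis x = bs 0, y = bs 1, z = bs 2 and brackets [x,y] = z, [x,z] = t • y,
[y,z] = 0. Then L carries a p-mapping φ with φ x = t ^ ((p - 1) / 2) • x, φ y = 0 and φ z = 0. (The
published statement concerns the Lie algebra with these brackets over a field of Laurent series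
k((t)), k algebraically closed of odd characteristic, t the variable; this row states its
restrictability over every commutative ring of odd prime characteristic and every t.) -/
theorem result (R : Type u) [CommRing R] (p : ℕ) [Fact p.Prime] [CharP R p] (hp : p ≠ 2)
    (t : R) (L : Type v) [LieRing L] [LieAlgebra R L] (bs : Module.Basis (Fin 3) R L)
    (hxy : ⁅bs 0, bs 1⁆ = bs 2) (hxz : ⁅bs 0, bs 2⁆ = t • bs 1) (hyz : ⁅bs 1, bs 2⁆ = 0) :
    ∃ φ : PLie.PMap R p L, φ (bs 0) = t ^ ((p - 1) / 2) • bs 0 ∧ φ (bs 1) = 0 ∧ φ (bs 2) = 0 := by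
  classical
  have hp2 : p.Prime := Fact.out
  obtain ⟨m, hm⟩ := hp2.odd_of_ne_two hp
  have hzy : ⁅bs 2, bs 1⁆ = 0 := by rw [← lie_skew, hyz, neg_zero]
  have hyx : ⁅bs 1, bs 0⁆ = -bs 2 := by rw [← lie_skew, hxy]
  have hzx : ⁅bs 2, bs 0⁆ = -(t • bs 1) := by rw [← lie_skew, hxz]
  obtain ⟨φ, hφ⟩ := exists_pmap bs ![t ^ ((p - 1) / 2) • bs 0, 0, 0] (p := p) fun i => by
    fin_cases i <;> simp only [Fin.zero_eta, Fin.mk_one, Fin.reduceFinMk, Matrix.cons_val_zero, Matrix.cons_val_one, Matrix.cons_val_two,
      Matrix.cons_val, Matrix.tail_cons, Matrix.head_cons, map_zero]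
    · have hcube : LieAlgebra.ad R L (bs 0) ^ 3 = t • LieAlgebra.ad R L (bs 0) := by
        refine bs.ext fun j => ?_
        fin_cases j <;> simp [pow_succ, Module.End.mul_apply, hxy, hxz, lie_smul]
      have hk : ∀ k : ℕ, LieAlgebra.ad R L (bs 0) ^ (2 * k + 1) = t ^ k • LieAlgebra.ad R L (bs 0) := by
        intro k
        induction k with
        | zero => simp
        | succ k ih =>
          rw [show 2 * (k + 1) + 1 = (2 * k + 1) + 2 by ring, pow_add, ih, smul_mul_assoc, ← pow_succ', hcube, smul_smul,
            ← pow_succ]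
      rw [map_smul, show (p - 1) / 2 = m by omega, hm, hk]
    · refine ad_pow_eq_zero_of_sq (R := R) (L := L) (p := p) fun z => ?_
      induction bs.mem_span z using Submodule.span_induction with
      | mem x hx => obtain ⟨j, rfl⟩ := hx; fin_cases j <;> simp [hyx, hyz]
      | zero => simp
      | add u v _ _ hu hv => simp [lie_add, hu, hv]
      | smul r u _ hu => simp [lie_smul, hu]
    · refine ad_pow_eq_zero_of_sq (R := R) (L := L) (p := p) fun z => ?_
      induction bs.mem_span z using Submodule.span_induction with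
      | mem x hx => obtain ⟨j, rfl⟩ := hx; fin_cases j <;> simp [hzx, hzy, lie_smul]
      | zero => simp
      | add u v _ _ hu hv => simp [lie_add, hu, hv]
      | smul r u _ hu => simp [lie_smul, hu]
  exact ⟨φ, hφ 0, hφ 1, hφ 2⟩


end Groth.Agent.S13779
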