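import Groth.Statements.S13780
import Groth.Agent.PLieLib.Exist
-- import your own Groth.Agent.* helpers here

set_option autoImplicit false
universe u v w
open PLie

namespace Groth.Agent.S13780

open PLieLib

/-- Let R be a commutative ring of prime characteristic p, L and L' Lie algebras over R with p-mappings
γ and γ', the centre of L' being zero, and φ : L ≃ L' an isomorphism of Lie algebras over R. Then φ
(γ x) = γ' (φ x) for every x: φ is an isomorphism of p-Lie algebras. (The published statement is the
case L' = L of a centreless restrictable Lie algebra over a field with its unique p-mapping and a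
Lie algebra automorphism; this row allows two algebras and any commutative base ring of
characteristic p.) -/
theorem result (R : Type u) [CommRing R] (p : ℕ) [Fact p.Prime] [CharP R p]
    (L : Type v) [LieRing L] [LieAlgebra R L] (L' : Type w) [LieRing L'] [LieAlgebra R L']
    (γ : PLie.PMap R p L) (γ' : PLie.PMap R p L') (hZ : LieAlgebra.center R L' = ⊥) (φ : L ≃ₗ⁅R⁆ L') :
    PLie.IsPHom γ γ' φ.toLieHom := by
  intro x
  have h : φ.toLieHom (γ x) - γ' (φ.toLieHom x) ∈ LieAlgebra.center R L' := by
    rw [LieModule.mem_maxTrivSubmodule]
    intro z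
    obtain ⟨w, rfl⟩ := φ.surjective z
    have hiter : ∀ n : ℕ, (LieAlgebra.ad R L' (φ.toLieHom x) ^ n) (φ w) = φ ((LieAlgebra.ad R L x ^ n) w) := by
      intro n
      induction n with
      | zero => rfl
      | succ n ih => rw [pow_succ', pow_succ', Module.End.mul_apply, Module.End.mul_apply, ih]; exact (φ.toLieHom.map_lie _ _).symm
    rw [← lie_skew, sub_lie, lie_pmap γ']
    erw [hiter]
    change -(⁅φ.toLieHom (γ x), φ.toLieHom w⁆ - φ.toLieHom _) = 0
    rw [← LieHom.map_lie, lie_pmap, sub_self, neg_zero]
  rw [hZ, LieSubmodule.mem_bot, sub_eq_zero] at h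
  exact h


end Groth.Agent.S13780
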