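import Groth.Prelude
import Mathlib
import Groth.Agent.CohenLib.RegularField

universe u

open Polynomial TensorProduct

namespace Groth.Agent.S13782Aux

variable {R P : Type u} [CommRing R] [CommRing P] [Algebra R P] (g : P)

/-- a derivation sending the generator to `1` splits the conormal sequence -/
theorem formallySmooth_of_derivation [Algebra.FormallySmooth R P]
    (D : Derivation R P (P ⧸ Ideal.span {g})) (hD : D g = 1) :
    Algebra.FormallySmooth R (P ⧸ Ideal.span {g}) := by
  set Q := P ⧸ Ideal.span {g}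
  rw [Algebra.FormallySmooth.iff_split_injection (P := P) Ideal.Quotient.mk_surjective]
  set I := RingHom.ker (algebraMap P Q) with hI
  have hgI : g ∈ I := by
    rw [hI, RingHom.mem_ker]
    exact Ideal.Quotient.eq_zero_iff_mem.mpr (Ideal.mem_span_singleton_self g)
  let c : I.Cotangent := I.toCotangent ⟨g, hgI⟩
  let φ : (Q ⊗[P] Ω[P⁄R]) →ₗ[Q] Q := LinearMap.liftBaseChange Q D.liftKaehlerDifferential
  have hann : Ideal.span {g} ≤ LinearMap.ker (LinearMap.toSpanSingleton P I.Cotangent c) := by
    rw [Ideal.span_le, Set.singleton_subset_iff, SetLike.mem_coe, LinearMap.mem_ker,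
      LinearMap.toSpanSingleton_apply]
    show g • I.toCotangent ⟨g, hgI⟩ = 0
    rw [← map_smul, Ideal.toCotangent_eq_zero]
    show g * g ∈ I ^ 2
    rw [pow_two]; exact Ideal.mul_mem_mul hgI hgI
  let ψ : Q →ₗ[P] I.Cotangent := Submodule.liftQ _ _ hann
  refine ⟨ψ ∘ₗ φ.restrictScalars P, ?_⟩
  ext x
  obtain ⟨⟨x, hx⟩, rfl⟩ := Ideal.toCotangent_surjective _ x
  have hx' : x ∈ Ideal.span {g} := by
    rw [RingHom.mem_ker] at hx; exact Ideal.Quotient.eq_zero_iff_mem.mp hx
  obtain ⟨b, rfl⟩ := Ideal.mem_span_singleton'.mp hx'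
  simp only [LinearMap.comp_apply, LinearMap.restrictScalars_apply, LinearMap.id_apply,
    KaehlerDifferential.kerCotangentToTensor_toCotangent]
  show ψ (φ (1 ⊗ₜ KaehlerDifferential.D R P (b * g))) = _
  have e1 : φ (1 ⊗ₜ KaehlerDifferential.D R P (b * g)) = Ideal.Quotient.mk _ b := by
    simp only [φ, LinearMap.liftBaseChange_tmul, one_smul,
      Derivation.liftKaehlerDifferential_comp_D]
    rw [Derivation.leibniz, hD]
    have : g • D b = 0 := by
      rw [Algebra.smul_def]
      show Ideal.Quotient.mk _ g * _ = 0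
      rw [Ideal.Quotient.eq_zero_iff_mem.mpr (Ideal.mem_span_singleton_self g), zero_mul]
    rw [this, add_zero, Algebra.smul_def, mul_one]
    rfl
  rw [e1]
  show b • I.toCotangent ⟨g, hgI⟩ = I.toCotangent ⟨b * g, hx⟩
  rw [← map_smul]; rfl

/-- conversely, if the generator is regular -/
theorem exists_derivation [Algebra.FormallySmooth R P] (hg : IsSMulRegular P g)
    [Algebra.FormallySmooth R (P ⧸ Ideal.span {g})] :
    ∃ D : Derivation R P (P ⧸ Ideal.span {g}), D g = 1 := by
  set Q := P ⧸ Ideal.span {g}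
  obtain ⟨l, hl⟩ := (Algebra.FormallySmooth.iff_split_injection (R := R) (P := P) (A := Q)
    Ideal.Quotient.mk_surjective).mp inferInstance
  let I := RingHom.ker (algebraMap P Q)
  have hI : I = RingHom.ker (algebraMap P Q) := rfl
  have hIg : I = Ideal.span {g} := by rw [hI]; exact Ideal.mk_ker
  have hgI : g ∈ I := hIg ▸ Ideal.mem_span_singleton_self g
  let c : I.Cotangent := I.toCotangent ⟨g, hgI⟩
  have hker : LinearMap.ker (LinearMap.toSpanSingleton P I.Cotangent c) = Ideal.span {g} := by
    ext b
    rw [LinearMap.mem_ker, LinearMap.toSpanSingleton_apply]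
    show b • I.toCotangent ⟨g, hgI⟩ = 0 ↔ _
    rw [← map_smul, Ideal.toCotangent_eq_zero]
    show b * g ∈ I ^ 2 ↔ _
    rw [hIg, Ideal.span_singleton_pow, Ideal.mem_span_singleton', Ideal.mem_span_singleton']
    constructor
    · rintro ⟨a, ha⟩
      exact ⟨a, hg (show g * (a * g) = g * b by linear_combination ha)⟩
    · rintro ⟨a, rfl⟩
      exact ⟨a, by ring⟩
  let ψ : Q →ₗ[P] I.Cotangent := Submodule.liftQ _ _ hker.ge
  have hψ : Function.Bijective ψ := by
    refine ⟨?_, ?_⟩
    · rw [← LinearMap.ker_eq_bot]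
      exact Submodule.ker_liftQ_eq_bot _ _ _ hker.le
    · intro x
      obtain ⟨⟨x, hx⟩, rfl⟩ := Ideal.toCotangent_surjective _ x
      obtain ⟨b, rfl⟩ := Ideal.mem_span_singleton'.mp (hIg ▸ hx)
      refine ⟨Ideal.Quotient.mk _ b, ?_⟩
      show b • I.toCotangent ⟨g, hgI⟩ = I.toCotangent ⟨b * g, hx⟩
      rw [← map_smul]; rfl
  let χ : Ω[P⁄R] →ₗ[P] Q :=
    ((LinearEquiv.ofBijective ψ hψ).symm.toLinearMap ∘ₗ l) ∘ₗ TensorProduct.mk P Q Ω[P⁄R] 1
  refine ⟨χ.compDer (KaehlerDifferential.D R P), ?_⟩
  show (LinearEquiv.ofBijective ψ hψ).symm (l (1 ⊗ₜ KaehlerDifferential.D R P g)) = 1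
  have e : l (1 ⊗ₜ KaehlerDifferential.D R P g) = c :=
    (congrArg l (KaehlerDifferential.kerCotangentToTensor_toCotangent R P Q ⟨g, hgI⟩).symm).trans
      (DFunLike.congr_fun hl c)
  rw [e, LinearEquiv.symm_apply_eq]
  show _ = ψ (Submodule.Quotient.mk (1 : P))
  exact (one_smul P c).symm

/-- an irreducible element of a ring smooth over a field is regular -/
theorem mul_left_cancel_zero {k A : Type u} [Field k] [CommRing A] [Algebra k A]
    [Algebra.Smooth k A] {s : A} (hs : Irreducible s) (b : A) (hb : s * b = 0) : b = 0 := by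
  haveI : Algebra.FiniteType k A := inferInstance
  haveI : IsNoetherianRing A := Algebra.FiniteType.isNoetherianRing k A
  haveI := CohenLib.isRegularRing_of_formallySmooth (k := k) (S := A)
  set J : Ideal A := Submodule.annihilator (Ideal.span {s}) with hJ
  set K : Ideal A := Submodule.annihilator J with hK
  have hmemJ : ∀ x, x ∈ J ↔ x * s = 0 := fun x => by
    rw [hJ, Submodule.mem_annihilator_span_singleton, smul_eq_mul]
  have hsK : s ∈ K := by
    rw [hK, Submodule.mem_annihilator]
    intro x hx
    rw [smul_eq_mul, mul_comm]; exact (hmemJ x).mp hx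
  have htop : J ⊔ K = ⊤ := by
    by_contra hne
    obtain ⟨p, hp, hle⟩ := Ideal.exists_le_maximal _ hne
    haveI : IsRegularLocalRing (Localization.AtPrime p) :=
      (isRegularRing_iff.1 inferInstance) p
    haveI := CommAlgDim.isDomain_of_isRegularLocalRing (Localization.AtPrime p)
    by_cases hs0 : algebraMap A (Localization.AtPrime p) s = 0
    · obtain ⟨⟨t, ht⟩, hts⟩ :=
        (IsLocalization.map_eq_zero_iff p.primeCompl (Localization.AtPrime p) s).mp hs0
      exact ht (hle (Ideal.mem_sup_left ((hmemJ t).mpr hts)))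
    · obtain ⟨F, hF⟩ := IsNoetherian.noetherian J
      have : ∀ x ∈ F, ∃ t : p.primeCompl, (t : A) * x = 0 := fun x hx => by
        apply (IsLocalization.map_eq_zero_iff p.primeCompl (Localization.AtPrime p) x).mp
        have hxJ : x ∈ J := hF ▸ Submodule.subset_span hx
        have h := congrArg (algebraMap A (Localization.AtPrime p)) ((hmemJ x).mp hxJ)
        rw [map_mul, map_zero] at h
        exact (mul_eq_zero.mp h).resolve_right hs0
      choose t ht using this
      let T : A := ∏ x ∈ F.attach, (t x.1 x.2 : A)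
      have hT : T ∈ K := by
        rw [hK, ← hF, Submodule.mem_annihilator_span]
        rintro ⟨x, hx⟩
        obtain ⟨c, hc⟩ : (t x hx : A) ∣ T :=
          Finset.dvd_prod_of_mem (fun y : {a // a ∈ F} => (t y.1 y.2 : A))
            (Finset.mem_attach F ⟨x, hx⟩)
        show T • x = 0
        rw [smul_eq_mul, show T = (t x hx : A) * c from hc, mul_comm _ c, mul_assoc, ht x hx,
          mul_zero]
      have hT' : T ∈ p.primeCompl := prod_mem fun x _ => (t x.1 x.2).2
      exact hT' (hle (Ideal.mem_sup_right hT))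
  obtain ⟨e, he, f, hf, hef⟩ := Submodule.mem_sup.mp (htop ▸ Submodule.mem_top : (1 : A) ∈ J ⊔ K)
  have hef0 : f * e = 0 := by
    have := Submodule.mem_annihilator.mp hf e he; rwa [smul_eq_mul] at this
  have hsf : s = s * f := by linear_combination (hmemJ e).mp he - s * hef
  rcases hs.isUnit_or_isUnit hsf with h | h
  · exact absurd h hs.not_isUnit
  · have : e = 0 := h.mul_right_eq_zero.mp hef0
    rw [this, zero_add] at hef
    subst hef
    have := Submodule.mem_annihilator.mp hf b ((hmemJ b).mpr (by rw [mul_comm]; exact hb))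
    rwa [one_smul] at this

end Groth.Agent.S13782Aux

namespace Groth.Agent.S13782

open Groth.Agent.S13782Aux

/-- Let k be a field, A a smooth k-algebra, s an irreducible element of A and e an integer, at least 2,
that is invertible in k. Then the k-algebra A[t]/(t^e - s) is smooth exactly when the quotient ring
A/(s) is a smooth k-algebra. (Smooth over k means formally smooth and of finite presentation over
k.) -/
theorem result (k A : Type u) [Field k] [CommRing A] [Algebra k A]
    [Algebra.Smooth k A] (s : A) (hs : Irreducible s) (e : ℕ) (he : 2 ≤ e) (hek : (e : k) ≠ 0) :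
    Algebra.Smooth k (AdjoinRoot (Polynomial.X ^ e - Polynomial.C s)) ↔
      Algebra.Smooth k (A ⧸ Ideal.span {s}) := by
  set f : A[X] := X ^ e - C s with hf
  obtain ⟨m, rfl⟩ : ∃ m, e = m + 1 := ⟨e - 1, by omega⟩
  have hm0 : m ≠ 0 := by omega
  let B := A[X] ⧸ Ideal.span {f}
  let eB : B ≃ₐ[k] AdjoinRoot f :=
    { RingEquiv.refl _ with commutes' := fun _ => rfl }
  have hmon : f.Monic := monic_X_pow_sub_C s (by omega)
  haveI : Algebra.FormallySmooth k A[X] := Algebra.FormallySmooth.comp k A A[X]
  haveI : Algebra.FinitePresentation k A[X] := Algebra.FinitePresentation.trans k A A[X]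
  have hCs : ∀ a : A, (C a : A[X]) = algebraMap A A[X] a := fun _ => rfl
  constructor
  · intro hB
    haveI hB' : Algebra.Smooth k B := Algebra.Smooth.of_equiv eB.symm
    haveI := hB'.1
    obtain ⟨D, hD⟩ := exists_derivation (R := k) f (fun a b h => hmon.isRegular.left h)
    let φ : B →ₐ[k] A ⧸ Ideal.span {s} :=
      Ideal.Quotient.liftₐ _ ((Ideal.Quotient.mkₐ k (Ideal.span {s})).comp
        ((Polynomial.aeval (0 : A)).restrictScalars k)) (by
          intro a ha
          obtain ⟨b, rfl⟩ := Ideal.mem_span_singleton'.mp ha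
          simp [hf, Ideal.Quotient.eq_zero_iff_mem, Ideal.mem_span_singleton_self,
            Ideal.mul_mem_left])
    have hφ : ∀ p : A[X], φ (Ideal.Quotient.mk _ p) = Ideal.Quotient.mk _ (p.eval 0) := fun p => rfl
    let D₀ : A →ₗ[k] A ⧸ Ideal.span {s} :=
      -(φ.toLinearMap ∘ₗ (D : A[X] →ₗ[k] B) ∘ₗ (Algebra.linearMap A A[X]).restrictScalars k)
    have hD₀ : ∀ a, D₀ a = -φ (D (C a)) := fun _ => rfl
    let DA : Derivation k A (A ⧸ Ideal.span {s}) :=
      Derivation.mk' D₀ (by
        intro a b
        rw [hD₀, hD₀, hD₀, C_mul, Derivation.leibniz, map_add]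
        obtain ⟨u, hu⟩ := Ideal.Quotient.mk_surjective (D (C b))
        obtain ⟨v, hv⟩ := Ideal.Quotient.mk_surjective (D (C a))
        rw [← hu, ← hv]
        simp only [Algebra.smul_def, Ideal.Quotient.algebraMap_eq, map_mul, hφ, eval_C, mul_neg]
        ring)
    refine Algebra.Smooth.mk (formallySmooth_of_derivation (R := k) s DA ?_)
      (Algebra.FinitePresentation.quotient (Submodule.fg_span (Set.finite_singleton s)))
    show -φ (D (C s)) = 1
    have h1 : φ (D (X ^ (m + 1))) - φ (D (C s)) = 1 := by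
      rw [← map_sub, ← map_sub, ← hf, hD, map_one]
    rw [Derivation.leibniz_pow] at h1
    have h2 : φ ((m + 1) • (X : A[X]) ^ (m + 1 - 1) • D X) = 0 := by
      obtain ⟨u, hu⟩ := Ideal.Quotient.mk_surjective (D X)
      rw [← hu, map_nsmul, show (X : A[X]) ^ (m + 1 - 1) • Ideal.Quotient.mk (Ideal.span {f}) u
        = Ideal.Quotient.mk _ (X ^ (m + 1 - 1) * u) from rfl, hφ]
      simp [hm0]
    rw [h2, zero_sub] at h1
    exact h1
  · intro hQ
    haveI := hQ.1
    have hreg : IsSMulRegular A s := by
      intro b c hbc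
      rw [← sub_eq_zero]
      exact mul_left_cancel_zero (k := k) hs _ (by
        simp only [smul_eq_mul] at hbc; rw [mul_sub, hbc, sub_self])
    obtain ⟨D₁, hD₁⟩ := exists_derivation (R := k) s hreg
    obtain ⟨L, hL⟩ := Module.projective_lifting_property (R := A)
      ((Ideal.span {s} : Submodule A A).mkQ) D₁.liftKaehlerDifferential
      (Submodule.mkQ_surjective _)
    let DA : Derivation k A A := L.compDer (KaehlerDifferential.D k A)
    obtain ⟨a, ha⟩ : ∃ a, a * s = DA s - 1 := Ideal.mem_span_singleton'.mp (by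
      rw [← Ideal.Quotient.mk_eq_mk_iff_sub_mem]
      have := LinearMap.congr_fun hL (KaehlerDifferential.D k A s)
      rw [LinearMap.comp_apply, Derivation.liftKaehlerDifferential_comp_D, hD₁] at this
      rw [map_one]; exact this)
    let π : A[X] →ₐ[k] B := Ideal.Quotient.mkₐ k _
    let x : B := π X
    let ι : A →ₐ[k] B := π.comp (IsScalarTower.toAlgHom k A A[X])
    let h₀ : A →ₐ[k] TrivSqZeroExt B B :=
      { toFun := fun b => TrivSqZeroExt.inl (ι b) + TrivSqZeroExt.inr (-ι (DA b))
        map_one' := by ext <;> simp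
        map_mul' := fun b c => by
          ext <;> simp [Derivation.leibniz, TrivSqZeroExt.fst_mul, TrivSqZeroExt.snd_mul] <;> ring
        map_zero' := by ext <;> simp
        map_add' := fun b c => by ext <;> simp  <;> abel
        commutes' := fun r => by
          ext <;> simp [TrivSqZeroExt.algebraMap_eq_inl'] }
    let cc : B := algebraMap k B ((m + 1 : ℕ) : k)⁻¹ * (-ι a)
    let h : A[X] →ₐ[k] TrivSqZeroExt B B := Polynomial.aevalTower h₀
      (TrivSqZeroExt.inl x + TrivSqZeroExt.inr (cc * x))
    have hfst : ∀ p, (h p).fst = π p := by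
      intro p
      have : (TrivSqZeroExt.fstHom k B B).comp h = π := by
        refine Polynomial.algHom_ext' ?_ ?_
        · ext b; simp [h, h₀, ι]
        · simp [h, x]
      exact AlgHom.congr_fun this p
    let DP : Derivation k A[X] B :=
      Derivation.mk' ((TrivSqZeroExt.sndHom B B).restrictScalars k ∘ₗ h.toLinearMap) (by
        intro p q
        simp only [LinearMap.comp_apply, AlgHom.toLinearMap_apply, LinearMap.restrictScalars_apply,
          TrivSqZeroExt.sndHom_apply]
        rw [map_mul h p q, TrivSqZeroExt.snd_mul, hfst, hfst]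
        show π p * _ + _ * π q = π p * _ + π q * _
        ring)
    haveI : Algebra.Smooth k B := by
      refine Algebra.Smooth.mk (formallySmooth_of_derivation (R := k) f DP ?_)
        (Algebra.FinitePresentation.quotient (Submodule.fg_span (Set.finite_singleton f)))
      show (h f).snd = 1
      have hX : h X = TrivSqZeroExt.inl x + TrivSqZeroExt.inr (cc * x) := by simp [h]
      have hC : h (C s) = TrivSqZeroExt.inl (ι s) + TrivSqZeroExt.inr (-ι (DA s)) := by
        simp [h, h₀]
      have hxe : x ^ (m + 1) = ι s := by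
        show π X ^ (m + 1) = π (C s)
        rw [← map_pow]
        exact Ideal.Quotient.eq.mpr (Ideal.mem_span_singleton_self f)
      have hDs : ι (DA s) = ι a * ι s + 1 := by
        rw [show DA s = a * s + 1 by rw [ha]; ring, map_add, map_mul, map_one]
      have hinv : algebraMap k B ((m + 1 : ℕ) : k)⁻¹ * ((m + 1 : ℕ) : B) = 1 := by
        rw [← map_natCast (algebraMap k B) (m + 1), ← map_mul, inv_mul_cancel₀ hek, map_one]
      rw [show h f = h (X ^ (m + 1)) - h (C s) from map_sub h _ _, map_pow, hX, hC, TrivSqZeroExt.snd_sub, TrivSqZeroExt.snd_pow]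
      simp only [TrivSqZeroExt.fst_add, TrivSqZeroExt.fst_inl, TrivSqZeroExt.fst_inr, add_zero,
        TrivSqZeroExt.snd_add, TrivSqZeroExt.snd_inl, TrivSqZeroExt.snd_inr, zero_add,
        smul_eq_mul, nsmul_eq_mul, hDs, Nat.pred_succ, cc]
      rw [show x ^ (m + 1) = x ^ m * x from pow_succ x m] at hxe
      linear_combination -(algebraMap k B ((m + 1 : ℕ) : k)⁻¹ * ι a * (↑(m + 1) : B)) * hxe
        - (ι a * ι s) * hinv
    exact Algebra.Smooth.of_equiv eB

end Groth.Agent.S13782
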