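import Groth.Statements.S13783
import Mathlib
-- import your own Groth.Agent.* helpers here

set_option autoImplicit false
universe u
open Curves

namespace Groth.Agent.S13783

/-- Let k be a field and K a finite Galois extension of k. Let S be a finite set of at most three
K-points of the projective line that is stable under the Galois group of K over k, and let b be a
Galois-equivariant bijection from S onto another set S' of K-points. Then some element of GL_2(k)
maps S onto S'. (This is the statement that two closed subschemes of the projective line over k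
which are etale over k of the same degree at most 3 and have isomorphic k-algebras of functions are
exchanged by a k-automorphism of the line, written for their sets of points over a finite Galois
extension K of k splitting both; an isomorphism of the function algebras is the same as a
Galois-equivariant bijection of these point sets.) -/
theorem result (k K : Type u) [Field k] [Field K]
    [Algebra k K] [FiniteDimensional k K] [IsGalois k K]
    (S S' : Set (Projectivization K (Fin 2 → K))) (hfin : S.Finite) (h3 : S.ncard ≤ 3)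
    (hS : ∀ (σ : K ≃ₐ[k] K) (x : Projectivization K (Fin 2 → K)), x ∈ S → W4c1stackycurves.galP σ x ∈ S)
    (b : S ≃ S')
    (hb : ∀ (σ : K ≃ₐ[k] K) (x : S),
      (b ⟨W4c1stackycurves.galP σ x.1, hS σ x.1 x.2⟩ : Projectivization K (Fin 2 → K)) =
        W4c1stackycurves.galP σ (b x).1) :
    ∃ g : Matrix.GeneralLinearGroup (Fin 2) k,
      (fun x => (Matrix.GeneralLinearGroup.toLin ((Matrix.GeneralLinearGroup.map (algebraMap k K)) g)) • x) '' S = S' := by
  classical
  let act : Matrix.GeneralLinearGroup (Fin 2) K → Projectivization K (Fin 2 → K) → Projectivization K (Fin 2 → K) :=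
    fun g x => (Matrix.GeneralLinearGroup.toLin g) • x
  have act_mul : ∀ g h x, act (g * h) x = act g (act h x) := fun g h x => by simp only [act, map_mul, mul_smul]
  have act_one : ∀ x, act 1 x = x := fun x => by simp only [act, map_one, one_smul]
  have act_mk : ∀ (g : Matrix.GeneralLinearGroup (Fin 2) K) (v : (Fin 2 → K)) (hv : v ≠ 0) (hgv : (g : Matrix (Fin 2) (Fin 2) K).mulVec v ≠ 0),
      act g (Projectivization.mk K v hv) = Projectivization.mk K ((g : Matrix (Fin 2) (Fin 2) K).mulVec v) hgv := by
    intro g v hv hgv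
    rfl
  have hginj : ∀ (g : Matrix.GeneralLinearGroup (Fin 2) K) (v : (Fin 2 → K)), v ≠ 0 → (g : Matrix (Fin 2) (Fin 2) K).mulVec v ≠ 0 := by
    intro g v hv h0
    apply hv
    have := congrArg (((g⁻¹ : Matrix.GeneralLinearGroup (Fin 2) K) : Matrix (Fin 2) (Fin 2) K).mulVec) h0
    rwa [Matrix.mulVec_mulVec, ← Units.val_mul, inv_mul_cancel, Units.val_one, Matrix.one_mulVec, Matrix.mulVec_zero] at this
  have h10 : (![1, 0] : (Fin 2 → K)) ≠ 0 := fun h => one_ne_zero (congrFun h 0)
  have h01 : (![0, 1] : (Fin 2 → K)) ≠ 0 := fun h => one_ne_zero (congrFun h 1)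
  have h11 : (![1, 1] : (Fin 2 → K)) ≠ 0 := fun h => one_ne_zero (congrFun h 0)
  let e0 := Projectivization.mk K (![1, 0] : (Fin 2 → K)) h10
  let e1 := Projectivization.mk K (![0, 1] : (Fin 2 → K)) h01
  let e2 := Projectivization.mk K (![1, 1] : (Fin 2 → K)) h11
  have frame : ∀ x y z : Projectivization K (Fin 2 → K), x ≠ y → x ≠ z → y ≠ z →
      ∃ g, act g e0 = x ∧ act g e1 = y ∧ act g e2 = z := by
    intro x y z hxy hxz hyz
    induction x using Projectivization.ind with
    | h u hu =>
    induction y using Projectivization.ind with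
    | h v hv =>
    induction z using Projectivization.ind with
    | h w hw =>
    set D := u 0 * v 1 - u 1 * v 0 with hD
    have hD0 : D ≠ 0 := by
      intro h
      apply hxy
      rw [Projectivization.mk_eq_mk_iff']
      rw [hD, sub_eq_zero] at h
      by_cases hv0 : v 0 = 0
      · have hv1 : v 1 ≠ 0 := fun h1 => hv (funext fun i => by fin_cases i <;> simp [hv0, h1])
        have hu0 : u 0 = 0 := by
          rw [hv0, mul_zero] at h
          exact (mul_eq_zero.mp h).resolve_right hv1
        refine ⟨u 1 / v 1, funext fun i => ?_⟩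
        fin_cases i
        · simp [hu0, hv0]
        · simp [hv1]
      · refine ⟨u 0 / v 0, funext fun i => ?_⟩
        fin_cases i
        · simp [hv0]
        · simp only [Fin.mk_one, Pi.smul_apply, smul_eq_mul, Fin.isValue]
          field_simp
          linear_combination h
    set a := (w 0 * v 1 - w 1 * v 0) / D with ha
    set b := (u 0 * w 1 - u 1 * w 0) / D with hb
    have hw' : a • u + b • v = w := by
      funext i
      fin_cases i <;>
      · simp only [ha, hb, Fin.zero_eta, Fin.mk_one, Pi.add_apply, Pi.smul_apply, smul_eq_mul, Fin.isValue]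
        field_simp
        rw [hD]
        ring
    have ha0 : a ≠ 0 := by
      intro h
      apply hyz
      rw [h, zero_smul, zero_add] at hw'
      exact ((Projectivization.mk_eq_mk_iff' K w v hw hv).mpr ⟨b, hw'⟩).symm
    have hb0 : b ≠ 0 := by
      intro h
      apply hxz
      rw [h, zero_smul, add_zero] at hw'
      exact ((Projectivization.mk_eq_mk_iff' K w u hw hu).mpr ⟨a, hw'⟩).symm
    let A : Matrix (Fin 2) (Fin 2) K := !![a * u 0, b * v 0; a * u 1, b * v 1]
    have hdet : A.det ≠ 0 := by
      have : A.det = a * b * D := by simp [A, Matrix.det_fin_two, hD]; ring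
      rw [this]
      exact mul_ne_zero (mul_ne_zero ha0 hb0) hD0
    refine ⟨Matrix.GeneralLinearGroup.mkOfDetNeZero A hdet, ?_, ?_, ?_⟩
    · rw [act_mk _ _ h10 (hginj _ _ h10), Projectivization.mk_eq_mk_iff']
      refine ⟨a, funext fun i => ?_⟩
      fin_cases i <;> simp [A, Matrix.GeneralLinearGroup.mkOfDetNeZero, Matrix.mulVec, Matrix.vecHead, Matrix.vecTail]
    · rw [act_mk _ _ h01 (hginj _ _ h01), Projectivization.mk_eq_mk_iff']
      refine ⟨b, funext fun i => ?_⟩
      fin_cases i <;> simp [A, Matrix.GeneralLinearGroup.mkOfDetNeZero, Matrix.mulVec, Matrix.vecHead, Matrix.vecTail]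
    · rw [act_mk _ _ h11 (hginj _ _ h11), Projectivization.mk_eq_mk_iff']
      refine ⟨1, funext fun i => ?_⟩
      have h0 := congrFun hw' i
      fin_cases i <;> simp [A, Matrix.GeneralLinearGroup.mkOfDetNeZero, Matrix.mulVec, Matrix.vecHead, Matrix.vecTail] at h0 ⊢ <;> linear_combination -h0
  -- a transformation fixing three points is scalar
  have huniq : ∀ (g h : Matrix.GeneralLinearGroup (Fin 2) K) (x y z : Projectivization K (Fin 2 → K)), x ≠ y → x ≠ z → y ≠ z →
      act g x = act h x → act g y = act h y → act g z = act h z →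
      ∃ l : K, ∀ i j, (g : Matrix (Fin 2) (Fin 2) K) i j = l * (h : Matrix (Fin 2) (Fin 2) K) i j := by
    intro g h x y z hxy hxz hyz hx hy hz
    obtain ⟨f, rfl, rfl, rfl⟩ := frame x y z hxy hxz hyz
    set t := f⁻¹ * h⁻¹ * g * f with ht
    have hfix : ∀ p, act g (act f p) = act h (act f p) → act t p = p := by
      intro p hp
      rw [ht, act_mul, act_mul, act_mul, hp, ← act_mul h⁻¹ h, inv_mul_cancel, act_one, ← act_mul, inv_mul_cancel, act_one]
    have k0 := hfix e0 hx
    have k1 := hfix e1 hy
    have k2 := hfix e2 hz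
    simp only [e0, e1, e2] at k0 k1 k2
    rw [act_mk _ _ h10 (hginj _ _ h10), Projectivization.mk_eq_mk_iff'] at k0
    rw [act_mk _ _ h01 (hginj _ _ h01), Projectivization.mk_eq_mk_iff'] at k1
    rw [act_mk _ _ h11 (hginj _ _ h11), Projectivization.mk_eq_mk_iff'] at k2
    obtain ⟨l0, hl0⟩ := k0
    obtain ⟨l1, hl1⟩ := k1
    obtain ⟨l, hl⟩ := k2
    have a1 := congrFun hl0 1
    have b0 := congrFun hl1 0
    have c0 := congrFun hl 0
    have c1 := congrFun hl 1
    simp [Matrix.mulVec, Matrix.vecHead, Matrix.vecTail] at a1 b0 c0 c1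
    have htl : (t : Matrix (Fin 2) (Fin 2) K) = l • 1 := by
      ext i j
      fin_cases i <;> fin_cases j <;> simp
      · linear_combination -c0 + b0
      · linear_combination -b0
      · linear_combination -a1
      · linear_combination -c1 + a1
    refine ⟨l, fun i j => ?_⟩
    have hg : (g : Matrix (Fin 2) (Fin 2) K) = l • (h : Matrix (Fin 2) (Fin 2) K) := by
      have e : g = h * f * t * f⁻¹ := by rw [ht]; group
      rw [e, Units.val_mul, Units.val_mul, htl, mul_smul_comm, mul_one, smul_mul_assoc, ← Units.val_mul, mul_assoc, mul_inv_cancel, mul_one]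
    rw [hg]; rfl
  -- Galois compatibility
  let conj : (K ≃ₐ[k] K) → Matrix.GeneralLinearGroup (Fin 2) K → Matrix.GeneralLinearGroup (Fin 2) K :=
    fun σ g => Matrix.GeneralLinearGroup.map (σ : K →+* K) g
  have hconj : ∀ (σ : K ≃ₐ[k] K) g x, W4c1stackycurves.galP σ (act g x) = act (conj σ g) (W4c1stackycurves.galP σ x) := by
    intro σ g x
    induction x using Projectivization.ind with
    | h v hv =>
    have hσv : W4c1stackycurves.galVec σ (Fin 2) v ≠ 0 := fun h0 =>
      hv (W4c1stackycurves.galVec_injective σ (Fin 2) (by rw [h0, map_zero]))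
    unfold W4c1stackycurves.galP
    rw [act_mk g v hv (hginj g v hv), Projectivization.map_mk, Projectivization.map_mk, act_mk _ _ hσv (hginj _ _ hσv)]
    congr 1
    funext i
    fin_cases i <;> simp [W4c1stackycurves.galVec_apply, conj, Matrix.mulVec, dotProduct, Fin.sum_univ_two]
  -- rational points
  have hrat : ∀ (σ : K ≃ₐ[k] K), W4c1stackycurves.galP σ e0 = e0 ∧ W4c1stackycurves.galP σ e1 = e1 ∧ W4c1stackycurves.galP σ e2 = e2 := by
    intro σ
    refine ⟨?_, ?_, ?_⟩ <;>
    · unfold W4c1stackycurves.galP
      rw [Projectivization.map_mk]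
      congr 1
      funext i
      fin_cases i <;> simp [W4c1stackycurves.galVec_apply]
  have hne01 : e0 ≠ e1 := fun h => by
    obtain ⟨l, hl⟩ := (Projectivization.mk_eq_mk_iff' K _ _ h10 h01).mp h
    simpa using congrFun hl 0
  have hne02 : e0 ≠ e2 := fun h => by
    obtain ⟨l, hl⟩ := (Projectivization.mk_eq_mk_iff' K _ _ h10 h11).mp h
    have u0 := congrFun hl 0
    have u1 := congrFun hl 1
    simp at u0 u1
    simp [u1] at u0
  have hne12 : e1 ≠ e2 := fun h => by
    obtain ⟨l, hl⟩ := (Projectivization.mk_eq_mk_iff' K _ _ h01 h11).mp h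
    have u0 := congrFun hl 0
    have u1 := congrFun hl 1
    simp at u0 u1
    simp [u0] at u1
  have hfresh : ∀ U : Set (Projectivization K (Fin 2 → K)), U.Finite → U.ncard < 3 →
      ∃ r, r ∉ U ∧ ∀ σ : K ≃ₐ[k] K, W4c1stackycurves.galP σ r = r := by
    intro U hU hcard
    by_contra hno
    push Not at hno
    have h0 : e0 ∈ U := by by_contra h; obtain ⟨σ, hσ⟩ := hno e0 h; exact hσ (hrat σ).1
    have h1 : e1 ∈ U := by by_contra h; obtain ⟨σ, hσ⟩ := hno e1 h; exact hσ (hrat σ).2.1
    have h2 : e2 ∈ U := by by_contra h; obtain ⟨σ, hσ⟩ := hno e2 h; exact hσ (hrat σ).2.2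
    have hsub : ({e0, e1, e2} : Set (Projectivization K (Fin 2 → K))) ⊆ U := by
      rintro p (rfl | rfl | rfl) <;> assumption
    have := Set.ncard_le_ncard hsub hU
    rw [Set.ncard_eq_three.mpr ⟨e0, e1, e2, hne01, hne02, hne12, rfl⟩] at this
    omega
  -- main claim
  have main : ∀ d : ℕ, ∀ (U : Set (Projectivization K (Fin 2 → K))) (c : Projectivization K (Fin 2 → K) → Projectivization K (Fin 2 → K)),
      U.Finite → U.ncard + d = 3 → Set.InjOn c U →
      (∀ σ : K ≃ₐ[k] K, ∀ x ∈ U, W4c1stackycurves.galP σ x ∈ U ∧ c (W4c1stackycurves.galP σ x) = W4c1stackycurves.galP σ (c x)) →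
      ∃ g : Matrix.GeneralLinearGroup (Fin 2) k, ∀ x ∈ U, act (Matrix.GeneralLinearGroup.map (algebraMap k K) g) x = c x := by
    intro d
    induction d with
    | zero =>
      intro U c hU hcard hinj heq
      obtain ⟨x, y, z, hxy, hxz, hyz, rfl⟩ := Set.ncard_eq_three.mp (by omega : U.ncard = 3)
      obtain ⟨f, hf0, hf1, hf2⟩ := frame x y z hxy hxz hyz
      obtain ⟨f', hf'0, hf'1, hf'2⟩ := frame (c x) (c y) (c z) (hinj.ne (by simp) (by simp) hxy)
        (hinj.ne (by simp) (by simp) hxz) (hinj.ne (by simp) (by simp) hyz)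
      set g := f' * f⁻¹ with hgdef
      have hg : ∀ p ∈ ({x, y, z} : Set (Projectivization K (Fin 2 → K))), act g p = c p := by
        rintro p (rfl | rfl | rfl)
        · rw [hgdef, act_mul, ← hf0, ← act_mul f⁻¹ f, inv_mul_cancel, act_one, hf'0, hf0]
        · rw [hgdef, act_mul, ← hf1, ← act_mul f⁻¹ f, inv_mul_cancel, act_one, hf'1, hf1]
        · rw [hgdef, act_mul, ← hf2, ← act_mul f⁻¹ f, inv_mul_cancel, act_one, hf'2, hf2]
      obtain ⟨i0, j0, hij⟩ : ∃ i j, (g : Matrix (Fin 2) (Fin 2) K) i j ≠ 0 := by
        by_contra hno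
        push Not at hno
        have hdet : (g : Matrix (Fin 2) (Fin 2) K).det ≠ 0 := ((g : Matrix (Fin 2) (Fin 2) K).isUnit_iff_isUnit_det.mp g.isUnit).ne_zero
        apply hdet
        rw [Matrix.det_fin_two, hno, hno, hno, hno]
        ring
      have hk : ∀ i j, (g : Matrix (Fin 2) (Fin 2) K) i j / (g : Matrix (Fin 2) (Fin 2) K) i0 j0 ∈ Set.range (algebraMap k K) := by
        intro i j
        rw [IsGalois.mem_range_algebraMap_iff_fixed]
        intro σ
        have hagree : ∀ p ∈ ({x, y, z} : Set (Projectivization K (Fin 2 → K))),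
            act (conj σ g) (W4c1stackycurves.galP σ p) = act g (W4c1stackycurves.galP σ p) := by
          intro p hp
          rw [← hconj, hg p hp, hg _ (heq σ p hp).1, (heq σ p hp).2]
        have hgi := W4c1stackycurves.galVec_injective σ (Fin 2)
        have hPinj : Function.Injective (fun p : Projectivization K (Fin 2 → K) => W4c1stackycurves.galP σ p) := by
          intro p q hpq
          induction p using Projectivization.ind with
          | h v hv =>
          induction q using Projectivization.ind with
          | h w hw =>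
          simp only [W4c1stackycurves.galP, Projectivization.map_mk, Projectivization.mk_eq_mk_iff'] at hpq ⊢
          obtain ⟨l, hl⟩ := hpq
          refine ⟨σ.symm l, hgi ?_⟩
          rw [LinearMap.map_smulₛₗ]
          simpa using hl
        obtain ⟨l, hl⟩ := huniq (conj σ g) g _ _ _ (hPinj.ne hxy) (hPinj.ne hxz) (hPinj.ne hyz)
          (hagree x (by simp)) (hagree y (by simp)) (hagree z (by simp))
        have hl' : ∀ i j, σ ((g : Matrix (Fin 2) (Fin 2) K) i j) = l * (g : Matrix (Fin 2) (Fin 2) K) i j := hl
        show σ _ = _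
        rw [map_div₀, hl', hl']
        have : l ≠ 0 := by
          intro h0
          have := hl' i0 j0
          rw [h0, zero_mul, map_eq_zero] at this
          exact hij this
        field_simp
      choose A hA using hk
      set l := ((g : Matrix (Fin 2) (Fin 2) K) i0 j0)⁻¹ with hldef
      have hAmap : ∀ i j, algebraMap k K (A i j) = l * (g : Matrix (Fin 2) (Fin 2) K) i j := fun i j => by
        rw [hA, hldef]; ring
      have hdetA : (Matrix.of A).det ≠ 0 := by
        intro h0
        have h1 : algebraMap k K (Matrix.of A).det = l ^ 2 * (g : Matrix (Fin 2) (Fin 2) K).det := by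
          simp [Matrix.det_fin_two, map_sub, map_mul, hAmap]
          ring
        rw [h0, map_zero] at h1
        exact mul_ne_zero (pow_ne_zero 2 (inv_ne_zero hij)) ((g : Matrix (Fin 2) (Fin 2) K).isUnit_iff_isUnit_det.mp g.isUnit).ne_zero h1.symm
      refine ⟨Matrix.GeneralLinearGroup.mkOfDetNeZero (Matrix.of A) hdetA, fun p hp => ?_⟩
      rw [← hg p hp]
      induction p using Projectivization.ind with
      | h v hv =>
      rw [act_mk _ v hv (hginj _ v hv), act_mk g v hv (hginj _ v hv), Projectivization.mk_eq_mk_iff']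
      refine ⟨l, funext fun i => ?_⟩
      fin_cases i <;> simp [Matrix.GeneralLinearGroup.mkOfDetNeZero, Matrix.mulVec, dotProduct, Fin.sum_univ_two, hAmap] <;> ring
    | succ d ih =>
      intro U c hU hcard hinj heq
      obtain ⟨r, hr, hrσ⟩ := hfresh U hU (by omega)
      obtain ⟨r', hr', hr'σ⟩ := hfresh (c '' U) (hU.image c) (by rw [Set.ncard_image_of_injOn hinj]; omega)
      have hupd : ∀ x ∈ U, Function.update c r r' x = c x := fun x hx =>
        Function.update_of_ne (fun (h : x = r) => hr (h ▸ hx)) _ _
      obtain ⟨g, hg⟩ := ih (insert r U) (Function.update c r r') (hU.insert r)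
        (by rw [Set.ncard_insert_of_notMem hr hU]; omega) (by
          rw [Set.injOn_insert hr]
          refine ⟨fun a ha b hb h => hinj ha hb (by rwa [hupd a ha, hupd b hb] at h), ?_⟩
          rintro ⟨a, ha, h⟩
          rw [hupd a ha, Function.update_self] at h
          exact hr' ⟨a, ha, h⟩) (by
          intro σ p hp
          rcases hp with rfl | hp
          · rw [hrσ, Function.update_self, hr'σ]
            exact ⟨Set.mem_insert _ _, rfl⟩
          · obtain ⟨h1, h2⟩ := heq σ p hp
            exact ⟨Set.mem_insert_of_mem _ h1, by rw [hupd p hp, hupd _ h1, h2]⟩)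
      exact ⟨g, fun x hx => by rw [hg x (Set.mem_insert_of_mem _ hx), hupd x hx]⟩
  let c : Projectivization K (Fin 2 → K) → Projectivization K (Fin 2 → K) := fun x => if h : x ∈ S then (b ⟨x, h⟩ : Projectivization K (Fin 2 → K)) else x
  have hc : ∀ (x) (h : x ∈ S), c x = b ⟨x, h⟩ := fun x h => dif_pos h
  obtain ⟨g, hg⟩ := main (3 - S.ncard) S c hfin (by omega) (by
      intro x hx y hy h
      rw [hc x hx, hc y hy] at h
      exact congrArg Subtype.val (b.injective (Subtype.ext h))) (by
      intro σ x hx
      refine ⟨hS σ x hx, ?_⟩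
      rw [hc _ (hS σ x hx), hc x hx]
      exact hb σ ⟨x, hx⟩)
  refine ⟨g, Set.ext fun y => ⟨?_, fun hy => ?_⟩⟩
  · rintro ⟨x, hx, rfl⟩
    show act _ x ∈ S'
    rw [hg x hx, hc x hx]
    exact (b ⟨x, hx⟩).2
  · obtain ⟨⟨x, hx⟩, hbx⟩ := b.surjective ⟨y, hy⟩
    refine ⟨x, hx, ?_⟩
    show act _ x = y
    rw [hg x hx, hc x hx, hbx]

end Groth.Agent.S13783
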