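import Groth.Statements.S13785
import Mathlib.LinearAlgebra.Matrix.MvPolynomial
import Mathlib.LinearAlgebra.Matrix.Charpoly.Coeff
-- import your own Groth.Agent.* helpers here

set_option autoImplicit false
universe u
open CAlg

namespace Groth.Agent.S13785

/-- For any commutative ring A, the determinant of the generic n × n matrix is a nonzerodivisor of the
polynomial ring over A in the n² matrix entries. -/
theorem result (A : Type u) [CommRing A] (n : ℕ) :
    (Matrix.mvPolynomialX (Fin n) (Fin n) A).det ∈ nonZeroDivisors (MvPolynomial (Fin n × Fin n) A) := by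
  classical
  rw [mem_nonZeroDivisors_iff_right]
  intro f hf
  let P := MvPolynomial (Fin n × Fin n) A
  let φ : P →ₐ[A] Polynomial P := MvPolynomial.aeval fun ij =>
    (if ij.1 = ij.2 then (Polynomial.X : Polynomial P) else 0) - Polynomial.C (-MvPolynomial.X ij)
  have hdet : φ (Matrix.mvPolynomialX (Fin n) (Fin n) A).det =
      (-Matrix.mvPolynomialX (Fin n) (Fin n) A).charpoly := by
    rw [AlgHom.map_det, Matrix.charpoly]
    congr 1
    ext i j : 1
    simp [φ, MvPolynomial.aeval_X, Matrix.charmatrix_apply, Matrix.mvPolynomialX_apply, Matrix.diagonal_apply]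
    all_goals exact MvPolynomial.aeval_X _ _
  have h0 : φ f * (-Matrix.mvPolynomialX (Fin n) (Fin n) A).charpoly = 0 := by
    rw [← hdet, ← map_mul, hf, map_zero]
  have hφf : φ f = 0 :=
    ((Matrix.charpoly_monic _).mem_nonZeroDivisors).2 _ h0
  have hback : ((Polynomial.aeval (0 : P)).restrictScalars A).comp φ = AlgHom.id A P := by
    apply MvPolynomial.algHom_ext
    intro ij
    simp only [φ, AlgHom.comp_apply, MvPolynomial.aeval_X, AlgHom.restrictScalars_apply, map_sub,
      Polynomial.aeval_C, AlgHom.id_apply]
    rw [apply_ite (Polynomial.aeval (0 : P))]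
    split_ifs <;> (simp; try rfl)
  have := DFunLike.congr_fun hback f
  rw [AlgHom.comp_apply, hφf, map_zero, AlgHom.id_apply] at this
  exact this.symm

end Groth.Agent.S13785
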