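import Groth.Statements.S13786
import Mathlib.RingTheory.MvPolynomial.Groebner
import Mathlib.RingTheory.MvPolynomial.Basic
import Mathlib.Data.Finsupp.MonomialOrder
import Mathlib.LinearAlgebra.Matrix.MvPolynomial
import Mathlib.RingTheory.Flat.FaithfullyFlat.Basic
import Mathlib.LinearAlgebra.Matrix.Determinant.Basic
-- import your own Groth.Agent.* helpers here

set_option autoImplicit false
universe u
open CAlg

namespace Groth.Agent.S13786

/-- For a commutative ring A and n ≥ 1, with det the determinant of the generic n × n matrix in the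
polynomial ring A[X] in n² indeterminates, the A-algebra A[X]/(det) is faithfully flat over A. (For
n = 0 the determinant is 1 and the quotient is the zero ring, so n ≥ 1 is required.) -/
theorem result (A : Type u) [CommRing A] (n : ℕ) (hn : 0 < n) :
    Module.FaithfullyFlat A
      (MvPolynomial (Fin n × Fin n) A ⧸ Ideal.span {(Matrix.mvPolynomialX (Fin n) (Fin n) A).det}) := by
  classical
  rcases subsingleton_or_nontrivial A with hA | hA
  · haveI : Module.Flat A (MvPolynomial (Fin n × Fin n) A ⧸ Ideal.span {(Matrix.mvPolynomialX (Fin n) (Fin n) A).det}) :=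
      haveI := Module.subsingleton A (MvPolynomial (Fin n × Fin n) A ⧸ Ideal.span {(Matrix.mvPolynomialX (Fin n) (Fin n) A).det})
      inferInstance
    exact ⟨fun m hm => absurd (Subsingleton.elim m ⊤) hm.ne_top⟩
  let P := MvPolynomial (Fin n × Fin n) A
  let d : P := (Matrix.mvPolynomialX (Fin n) (Fin n) A).det
  let L : LinearOrder (Fin n × Fin n) := LinearOrder.lift' (finProdFinEquiv : Fin n × Fin n → Fin (n * n)) finProdFinEquiv.injective
  haveI hwf : @WellFoundedGT (Fin n × Fin n) L.toLT := @Finite.to_wellFoundedGT _ _ L.toPreorder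
  let m : MonomialOrder (Fin n × Fin n) := @MonomialOrder.lex _ L hwf
  let mon : Equiv.Perm (Fin n) → ((Fin n × Fin n) →₀ ℕ) := fun τ => ∑ i, Finsupp.single (τ i, i) 1
  have hmon : Function.Injective mon := fun σ τ h => Equiv.ext fun i => by
    by_contra hne
    have h' := congrArg (fun e : (Fin n × Fin n) →₀ ℕ => e (σ i, i)) h
    simp only [mon, Finsupp.finsetSum_apply] at h'
    rw [Finset.sum_eq_single i (fun j _ hj => by simp [Finsupp.single_apply, hj]) (fun hh => absurd (Finset.mem_univ i) hh),
      Finset.sum_eq_zero (fun j _ => by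
        rw [Finsupp.single_apply, if_neg]
        rintro e
        obtain rfl : j = i := congrArg Prod.snd e
        exact hne (congrArg Prod.fst e).symm), Finsupp.single_eq_same] at h'
    exact one_ne_zero h'
  have hd : d = ∑ σ : Equiv.Perm (Fin n), MvPolynomial.monomial (mon σ) ((Equiv.Perm.sign σ : ℤ) : A) := by
    show (Matrix.mvPolynomialX (Fin n) (Fin n) A).det = _
    rw [Matrix.det_apply']
    refine Finset.sum_congr rfl fun σ _ => ?_
    rw [show MvPolynomial.monomial (mon σ) ((Equiv.Perm.sign σ : ℤ) : A) =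
      MvPolynomial.C ((Equiv.Perm.sign σ : ℤ) : A) * MvPolynomial.monomial (mon σ) 1 by
        rw [MvPolynomial.C_mul_monomial, mul_one], MvPolynomial.monomial_sum_one, map_intCast]
    rfl
  have hcoeff : ∀ σ, d.coeff (mon σ) = ((Equiv.Perm.sign σ : ℤ) : A) := fun σ => by
    rw [hd, MvPolynomial.coeff_sum, Finset.sum_eq_single σ (fun τ _ hτ => by
      rw [MvPolynomial.coeff_monomial, if_neg fun e => hτ (hmon e)]) (fun hh => absurd (Finset.mem_univ σ) hh),
      MvPolynomial.coeff_monomial, if_pos rfl]
  have hsign : ∀ σ : Equiv.Perm (Fin n), IsUnit ((Equiv.Perm.sign σ : ℤ) : A) := fun σ =>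
    ((Equiv.Perm.sign σ).isUnit).map (Int.castRingHom A)
  have hd0 : d ≠ 0 := fun h => (hsign 1).ne_zero (by rw [← hcoeff 1, h, MvPolynomial.coeff_zero])
  have hlead : IsUnit (m.leadingCoeff d) := by
    have hs := m.degree_mem_support hd0
    rw [MvPolynomial.mem_support_iff] at hs
    obtain ⟨σ, hσ⟩ : ∃ σ, mon σ = m.degree d := by
      by_contra hno
      refine hs ?_
      rw [hd, MvPolynomial.coeff_sum]
      refine Finset.sum_eq_zero fun τ _ => ?_
      rw [MvPolynomial.coeff_monomial, if_neg]
      intro e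
      rw [← hd] at e
      exact hno ⟨τ, e⟩
    show IsUnit (d.coeff (m.degree d))
    rw [← hσ, hcoeff]
    exact hsign σ
  let W : Submodule A P := MvPolynomial.restrictSupport A {c | ¬ m.degree d ≤ c}
  haveI : Module.Free A W := Module.Free.of_basis (MvPolynomial.basisRestrictSupport A _)
  let ψ : W →ₗ[A] P ⧸ Ideal.span {d} := ((Ideal.Quotient.mkₐ A (Ideal.span {d})).toLinearMap).comp W.subtype
  have hinj : Function.Injective ψ := LinearMap.ker_eq_bot.1 (LinearMap.ker_eq_bot'.2 fun w hw => by
    obtain ⟨q, hq⟩ := Ideal.mem_span_singleton'.1 ((Ideal.Quotient.eq_zero_iff_mem).1 hw)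
    change q * d = (w : P) at hq
    by_contra hw0
    have hq0 : q ≠ 0 := fun h => hw0 (Subtype.ext (by rw [← hq, h, zero_mul]; rfl))
    have hdeg := m.degree_mul_of_right_mem_nonZeroDivisors hq0 hlead.mem_nonZeroDivisors
    have hne : (w : P) ≠ 0 := fun h => hw0 (Subtype.ext h)
    have hmem : m.degree (q * d) ∈ (w : P).support := by
      rw [hq]
      exact m.degree_mem_support hne
    have h2 : ¬ m.degree d ≤ m.degree (q * d) :=
      ((MvPolynomial.mem_restrictSupport_iff A).1 w.2) (Finset.mem_coe.2 hmem)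
    exact h2 (by rw [hdeg]; exact le_add_self))
  have hsurj : Function.Surjective ψ := fun y => by
    obtain ⟨p, rfl⟩ := Ideal.Quotient.mk_surjective y
    obtain ⟨g, r, hp, -, hr⟩ := m.div (b := fun _ : Unit => d) (fun _ => hlead) p
    refine ⟨⟨r, (MvPolynomial.mem_restrictSupport_iff A).2 fun c hc => hr c hc ()⟩, ?_⟩
    show Ideal.Quotient.mk _ r = Ideal.Quotient.mk _ p
    rw [Ideal.Quotient.eq, hp]
    refine Ideal.mem_span_singleton'.2 ⟨- g (), ?_⟩
    simp [Finsupp.linearCombination_unique]
  haveI : Module.Free A (P ⧸ Ideal.span {d}) := Module.Free.of_equiv (LinearEquiv.ofBijective ψ ⟨hinj, hsurj⟩)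
  haveI : Nontrivial (P ⧸ Ideal.span {d}) := by
    refine Ideal.Quotient.nontrivial_iff.2 fun htop => ?_
    have h1 : (1 : P) ∈ Ideal.span {d} := htop ▸ Submodule.mem_top
    obtain ⟨q, hq⟩ := Ideal.mem_span_singleton'.1 h1
    have h2 := congrArg (MvPolynomial.eval (fun _ : Fin n × Fin n => (0 : A))) hq
    haveI : Nonempty (Fin n) := ⟨⟨0, hn⟩⟩
    rw [map_mul, map_one, show MvPolynomial.eval (fun _ : Fin n × Fin n => (0 : A)) d = 0 by
      show MvPolynomial.eval _ (Matrix.mvPolynomialX (Fin n) (Fin n) A).det = 0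
      rw [RingHom.map_det]
      refine Matrix.det_eq_zero_of_row_eq_zero ⟨0, hn⟩ fun j => ?_
      simp [Matrix.mvPolynomialX], mul_zero] at h2
    exact zero_ne_one h2
  exact inferInstanceAs (Module.FaithfullyFlat A (P ⧸ Ideal.span {d}))

end Groth.Agent.S13786
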