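import Groth.Statements.S13787
import Mathlib.Algebra.Polynomial.Laurent
import Mathlib.LinearAlgebra.Matrix.Determinant.Basic
-- import your own Groth.Agent.* helpers here

set_option autoImplicit false
universe u
open CAlg

namespace Groth.Agent.S13787

/-- Let A be a nonzero commutative ring and n ≥ 1, let det be the determinant of the generic n × n
matrix in the polynomial ring A[X] in its n² entries, and let A[X, 1/det] be the localization at det
(the coordinate ring of GL_n over A). The homomorphism Aˣ × ℤ → (A[X, 1/det])ˣ sending (a, e) to a ·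
det^e is injective. (The published statement takes the exponent in the group of locally constant
ℤ-valued functions on Spec A, which also covers A = 0; with integer exponents as here, A must be
nonzero and n ≥ 1.) -/
theorem result (A : Type u) [CommRing A] [Nontrivial A] (n : ℕ) (hn : 0 < n) :
    Function.Injective (fun p : Aˣ × ℤ =>
        Units.map (algebraMap A (Localization.Away (Matrix.mvPolynomialX (Fin n) (Fin n) A).det)).toMonoidHom p.1 *
          (IsLocalization.Away.algebraMap_isUnit (S := Localization.Away (Matrix.mvPolynomialX (Fin n) (Fin n) A).det)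
            (Matrix.mvPolynomialX (Fin n) (Fin n) A).det).unit ^ p.2) := by
  classical
  set det := (Matrix.mvPolynomialX (Fin n) (Fin n) A).det
  let d : Fin n → LaurentPolynomial A := fun i => if i = ⟨0, hn⟩ then LaurentPolynomial.T 1 else 1
  let ψ : MvPolynomial (Fin n × Fin n) A →ₐ[A] LaurentPolynomial A :=
    MvPolynomial.aeval fun q => Matrix.diagonal d q.1 q.2
  have hdet : ψ det = LaurentPolynomial.T 1 := by
    rw [AlgHom.map_det, AlgHom.mapMatrix_apply]
    rw [show (Matrix.mvPolynomialX (Fin n) (Fin n) A).map ψ = Matrix.diagonal d from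
      Matrix.ext fun i j => by simp [ψ], Matrix.det_diagonal, Finset.prod_ite_eq' Finset.univ (⟨0, hn⟩ : Fin n) (fun _ => LaurentPolynomial.T 1), if_pos (Finset.mem_univ _)]
  have hu : IsUnit (ψ.toRingHom det) := by
    show IsUnit (ψ det)
    rw [hdet]; exact LaurentPolynomial.isUnit_T 1
  let χ : Localization.Away det →+* LaurentPolynomial A := IsLocalization.Away.lift det hu
  have hA : ∀ a : A, χ (algebraMap A (Localization.Away det) a) = LaurentPolynomial.C a := fun a => by
    rw [IsScalarTower.algebraMap_apply A (MvPolynomial (Fin n × Fin n) A) (Localization.Away det)]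
    show IsLocalization.Away.lift det hu _ = _
    rw [IsLocalization.Away.lift_eq]
    show ψ (algebraMap A _ a) = _
    rw [ψ.commutes, LaurentPolynomial.algebraMap_apply]
    rfl
  have hz : ∀ (v : (Localization.Away det)ˣ), χ v = LaurentPolynomial.T 1 → ∀ e : ℤ, χ (v ^ e : (Localization.Away det)ˣ) = LaurentPolynomial.T e := by
    intro v hv e
    induction e using Int.induction_on with
    | zero => rw [zpow_zero, Units.val_one, map_one, LaurentPolynomial.T_zero]
    | succ i ih => rw [zpow_add_one, Units.val_mul, map_mul, ih, hv, ← LaurentPolynomial.T_add]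
    | pred i ih =>
      have h1 : χ (v ^ (-(i : ℤ) - 1) : (Localization.Away det)ˣ) * LaurentPolynomial.T 1 = LaurentPolynomial.T (-(i : ℤ)) := by
        rw [← hv, ← map_mul, ← Units.val_mul, ← zpow_add_one, sub_add_cancel]; exact ih
      refine (LaurentPolynomial.isUnit_T 1).mul_right_cancel ?_
      rw [h1, ← LaurentPolynomial.T_add, sub_add_cancel]
  intro p q h
  have h' := congrArg (fun u : (Localization.Away det)ˣ => χ u) h
  simp only [Units.val_mul, map_mul, Units.coe_map, MonoidHom.coe_coe, RingHom.toMonoidHom_eq_coe, hA] at h'
  have hv : χ (IsLocalization.Away.algebraMap_isUnit (S := Localization.Away det) det).unit = LaurentPolynomial.T 1 := by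
    rw [IsUnit.unit_spec]
    show IsLocalization.Away.lift det hu _ = _
    rw [IsLocalization.Away.lift_eq]
    exact hdet
  rw [hz _ hv, hz _ hv, ← LaurentPolynomial.single_eq_C_mul_T, ← LaurentPolynomial.single_eq_C_mul_T] at h'
  have hc := congrArg (fun f : LaurentPolynomial A => f.coeff p.2) h'
  simp only [AddMonoidAlgebra.coeff_single, Finsupp.single_apply] at hc
  by_cases he : q.2 = p.2
  · exact Prod.ext (Units.ext (by simpa [he] using hc)) he.symm
  · simp [he] at hc

end Groth.Agent.S13787
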