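import Groth.Statements.S13788
import Mathlib
import Groth.Agent.S13787
import Groth.Agent.S6485
-- import your own Groth.Agent.* helpers here

set_option autoImplicit false
universe u
open CAlg

namespace Groth.Agent.S13788
open scoped Polynomial

/-- evaluate at `diag(X, 1, …, 1)` -/
noncomputable def eta (B : Type u) [CommRing B] {n : ℕ} (hn : 0 < n) : MvPolynomial (Fin n × Fin n) B →ₐ[B] B[X] :=
  MvPolynomial.aeval fun q => Matrix.diagonal (fun i => if i = (⟨0, hn⟩ : Fin n) then (Polynomial.X : B[X]) else 1) q.1 q.2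

theorem eta_det (B : Type u) [CommRing B] {n : ℕ} (hn : 0 < n) :
    eta B hn (Matrix.mvPolynomialX (Fin n) (Fin n) B).det = Polynomial.X := by
  classical
  rw [AlgHom.map_det, AlgHom.mapMatrix_apply, show (Matrix.mvPolynomialX (Fin n) (Fin n) B).map (eta B hn) = Matrix.diagonal (fun i => if i = (⟨0, hn⟩ : Fin n) then (Polynomial.X : B[X]) else 1) from
    Matrix.ext fun i j => by simp [eta], Matrix.det_diagonal, Finset.prod_ite_eq' Finset.univ, if_pos (Finset.mem_univ _)]

theorem eta_map {A B : Type u} [CommRing A] [CommRing B] (φ : A →+* B) {n : ℕ} (hn : 0 < n) (f : MvPolynomial (Fin n × Fin n) A) :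
    eta B hn (MvPolynomial.map φ f) = (eta A hn f).map φ := by
  induction f using MvPolynomial.induction_on with
  | C a => simp [eta]
  | add p q hp hq => simp [hp, hq]
  | mul_X p i hp =>
    simp only [map_mul, MvPolynomial.map_X, hp, Polynomial.map_mul]
    congr 1
    simp only [eta, MvPolynomial.aeval_X, Matrix.diagonal_apply]
    split_ifs <;> simp

/-- Monomial factorisation over a reduced connected ring. -/
theorem exists_eq_C_mul_X_pow {A : Type u} [CommRing A] [Nontrivial A] [IsReduced A]
    (hconn : ∀ e : A, IsIdempotentElem e → e = 0 ∨ e = 1) (P Q : A[X]) (N : ℕ) (h : P * Q = Polynomial.X ^ N) :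
    ∃ (a : Aˣ) (i : ℕ), i ≤ N ∧ P = Polynomial.C (a : A) * Polynomial.X ^ i := by
  classical
  have key : ∀ p : Ideal A, p.IsPrime → ∃ i ≤ N, (∀ j ≠ i, P.coeff j ∈ p) ∧ (∀ j ≠ N - i, Q.coeff j ∈ p) ∧
      P.coeff i * Q.coeff (N - i) - 1 ∈ p := by
    intro p hp
    let φ := Ideal.Quotient.mk p
    have : IsDomain (A ⧸ p) := (Ideal.Quotient.isDomain_iff_prime p).2 hp
    have h' : P.map φ * Q.map φ = Polynomial.X ^ N := by rw [← Polynomial.map_mul, h, Polynomial.map_pow, Polynomial.map_X]
    obtain ⟨i, hi, hPi⟩ := (dvd_prime_pow Polynomial.prime_X N).1 ⟨_, h'.symm⟩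
    obtain ⟨w, hw⟩ := hPi.symm
    obtain ⟨c, hc, hc'⟩ := Polynomial.isUnit_iff.1 w.isUnit
    have hP : P.map φ = Polynomial.C c * Polynomial.X ^ i := by rw [← hw, ← hc', mul_comm]
    have hQ : Polynomial.C c * Q.map φ = Polynomial.X ^ (N - i) := by
      apply mul_left_cancel₀ (pow_ne_zero i (Polynomial.X_ne_zero (R := A ⧸ p)))
      rw [← mul_assoc, mul_comm (Polynomial.X ^ i), ← hP, h', ← pow_add, Nat.add_sub_cancel' hi]
    refine ⟨i, hi, fun j hj => ?_, fun j hj => ?_, ?_⟩
    · rw [← Ideal.Quotient.eq_zero_iff_mem]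
      have := congrArg (fun r => Polynomial.coeff r j) hP
      simpa [φ, Polynomial.coeff_C_mul, Polynomial.coeff_X_pow, hj] using this
    · rw [← Ideal.Quotient.eq_zero_iff_mem]
      have := congrArg (fun r => Polynomial.coeff r j) hQ
      simp [φ, Polynomial.coeff_X_pow, hj] at this
      exact this.resolve_left hc.ne_zero
    · rw [← Ideal.Quotient.eq_zero_iff_mem, map_sub, map_mul, map_one, sub_eq_zero]
      have h1 := congrArg (fun r => Polynomial.coeff r i) hP
      have h2 := congrArg (fun r => Polynomial.coeff r (N - i)) hQ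
      simp [φ, Polynomial.coeff_C_mul, Polynomial.coeff_X_pow] at h1 h2
      rw [h1, h2]
  have hnil : ∀ r : A, (∀ p : Ideal A, p.IsPrime → r ∈ p) → r = 0 := fun r hr =>
    IsReduced.eq_zero r (mem_nilradical.1 (nilradical_eq_sInf A ▸ (Submodule.mem_sInf.2 hr)))
  have hidem : ∀ i ≤ N, P.coeff i * Q.coeff (N - i) = 0 ∨ P.coeff i * Q.coeff (N - i) = 1 := by
    intro i hi
    refine hconn _ ?_
    rw [IsIdempotentElem, ← sub_eq_zero]
    refine hnil _ fun p hp => ?_
    obtain ⟨i', -, hP, -, h1⟩ := key p hp
    rcases eq_or_ne i i' with rfl | hne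
    · have := p.mul_mem_left (P.coeff i * Q.coeff (N - i)) h1
      rwa [mul_sub, mul_one] at this
    · exact p.sub_mem (p.mul_mem_right _ (p.mul_mem_right _ (hP i hne))) (p.mul_mem_right _ (hP i hne))
  obtain ⟨m, hm⟩ := Ideal.exists_maximal A
  obtain ⟨i, hi, -, -, h1⟩ := key m hm.isPrime
  have hei : P.coeff i * Q.coeff (N - i) = 1 := by
    rcases hidem i hi with h0 | h0
    · rw [h0, zero_sub] at h1
      exact absurd (m.eq_top_iff_one.2 (by simpa using m.neg_mem h1)) hm.ne_top
    · exact h0
  refine ⟨⟨P.coeff i, Q.coeff (N - i), hei, by rw [mul_comm]; exact hei⟩, i, hi, ?_⟩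
  ext j
  rw [Polynomial.coeff_C_mul, Polynomial.coeff_X_pow]
  rcases eq_or_ne j i with rfl | hj
  · simp
  · simp only [hj, if_false, mul_zero]
    refine hnil _ fun p hp => ?_
    obtain ⟨i', -, hP, -, -⟩ := key p hp
    rcases eq_or_ne i i' with rfl | hne
    · exact hP j hj
    · have := p.mul_mem_right (Q.coeff (N - i)) (hP i hne)
      rw [hei] at this
      exact absurd (p.eq_top_iff_one.2 this) hp.ne_top


/-- Units of GL_n: let A be a nonzero commutative ring whose only idempotents are 0 and 1, let n ≥ 1,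
let det be the determinant of the generic n × n matrix in the polynomial ring A[X] in its n²
entries, and let A[X, 1/det] be the coordinate ring of GL_n over A. The homomorphism Aˣ × ℤ → (A[X,
1/det])ˣ, (a, e) ↦ a · det^e, is bijective if and only if A is reduced. (The published statement
allows Spec A disconnected, with exponents locally constant ℤ-valued functions on Spec A; this row
is the connected case, to which the published proof reduces.) -/
theorem result (A : Type u) [CommRing A] [Nontrivial A]
    (hconn : ∀ e : A, IsIdempotentElem e → e = 0 ∨ e = 1) (n : ℕ) (hn : 0 < n) :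
    Function.Bijective (fun p : Aˣ × ℤ =>
        Units.map (algebraMap A (Localization.Away (Matrix.mvPolynomialX (Fin n) (Fin n) A).det)).toMonoidHom p.1 *
          (IsLocalization.Away.algebraMap_isUnit (S := Localization.Away (Matrix.mvPolynomialX (Fin n) (Fin n) A).det)
            (Matrix.mvPolynomialX (Fin n) (Fin n) A).det).unit ^ p.2) ↔ IsReduced A := by
  classical
  set det := (Matrix.mvPolynomialX (Fin n) (Fin n) A).det with hdet
  let L := Localization.Away det
  let du : Lˣ := (IsLocalization.Away.algebraMap_isUnit (S := L) det).unit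
  have hdu : (du : L) = algebraMap (MvPolynomial (Fin n × Fin n) A) L det := IsUnit.unit_spec _
  constructor
  · intro hbij
    refine ⟨fun x hx => ?_⟩
    by_contra hx0
    obtain ⟨k, hk⟩ := hx
    -- some nonzero element of square zero
    obtain ⟨ε, hε0, hε2⟩ : ∃ ε : A, ε ≠ 0 ∧ ε * ε = 0 := by
      have hex : ∃ k, x ^ k = 0 := ⟨k, hk⟩
      let m := Nat.find hex
      have hm : x ^ m = 0 := Nat.find_spec hex
      have hm2 : 2 ≤ m := by
        by_contra hlt
        interval_cases h : m
        · simp at hm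
        · exact hx0 (by simpa using hm)
      refine ⟨x ^ (m - 1), Nat.find_min hex (show m - 1 < m by omega), ?_⟩
      rw [← pow_add, show m - 1 + (m - 1) = m + (m - 2) by omega, pow_add, hm, zero_mul]
    let y : MvPolynomial (Fin n × Fin n) A := MvPolynomial.C ε * MvPolynomial.X (⟨0, hn⟩, ⟨0, hn⟩)
    have hy : y * y = 0 := by
      rw [mul_mul_mul_comm, ← map_mul, hε2, map_zero, zero_mul]
    have hunit : IsUnit (algebraMap _ L (1 + y)) := by
      refine IsUnit.map _ (IsUnit.of_mul_eq_one (1 - y) ?_)
      linear_combination (-1 : MvPolynomial (Fin n × Fin n) A) * hy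
    obtain ⟨⟨a, e⟩, hae⟩ := hbij.2 hunit.unit
    obtain ⟨l, i, rfl⟩ : ∃ l i : ℕ, e = (i : ℤ) - l := ⟨(-e).toNat, e.toNat, by omega⟩
    have h1 : algebraMap _ L (1 + y) * (du : L) ^ l = algebraMap A L a * (du : L) ^ i := by
      have h := congrArg (fun u : Lˣ => (u : L) * (du : L) ^ l) hae
      simp only [IsUnit.unit_spec] at h
      rw [← h]
      show algebraMap A L a * ((du ^ ((i : ℤ) - l) : Lˣ) : L) * (du : L) ^ l = _
      rw [mul_assoc, ← Units.val_pow_eq_pow_val, ← Units.val_pow_eq_pow_val, ← Units.val_mul, ← zpow_natCast du l, ← zpow_add,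
        sub_add_cancel, zpow_natCast]
    rw [hdu, ← map_pow, ← map_pow, IsScalarTower.algebraMap_apply A (MvPolynomial (Fin n × Fin n) A) L, ← map_mul, ← map_mul,
      IsLocalization.eq_iff_exists (Submonoid.powers det)] at h1
    obtain ⟨⟨_, j, rfl⟩, hj⟩ := h1
    have h2 := congrArg (eta A hn) hj
    simp only [map_mul, map_pow, eta_det, map_add, map_one, y, hdet, AlgHom.commutes, ← MvPolynomial.algebraMap_eq] at h2
    have hX : eta A hn (MvPolynomial.X (⟨0, hn⟩, ⟨0, hn⟩)) = Polynomial.X := by simp [eta]
    rw [hX, ← Polynomial.C_eq_algebraMap] at h2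
    have h3 : (Polynomial.X : A[X]) ^ (j + l) + Polynomial.C ε * Polynomial.X ^ (j + l + 1) = Polynomial.C (a : A) * Polynomial.X ^ (j + i) := by
      linear_combination h2
    rcases eq_or_ne i l with rfl | hne
    · have := congrArg (fun r => Polynomial.coeff r (j + i + 1)) h3
      simp [Polynomial.coeff_X_pow] at this
      exact hε0 this
    · have := congrArg (fun r => Polynomial.coeff r (j + l)) h3
      simp [Polynomial.coeff_X_pow, show j + l ≠ j + i by omega, show l ≠ i by omega] at this
  · intro hred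
    refine ⟨Groth.Agent.S13787.result A n hn, fun u => ?_⟩
    obtain ⟨⟨f, ⟨_, m, rfl⟩⟩, hf⟩ := IsLocalization.surj (Submonoid.powers det) (u : L)
    obtain ⟨⟨g, ⟨_, l, rfl⟩⟩, hg⟩ := IsLocalization.surj (Submonoid.powers det) ((u⁻¹ : Lˣ) : L)
    have h1 : algebraMap _ L (f * g) = algebraMap _ L (det ^ (m + l)) := by
      simp only [map_mul, map_pow, pow_add] at hf hg ⊢
      rw [← hf, ← hg, mul_mul_mul_comm, ← Units.val_mul, mul_inv_cancel, Units.val_one, one_mul]
    rw [IsLocalization.eq_iff_exists (Submonoid.powers det)] at h1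
    obtain ⟨⟨_, j, rfl⟩, hj⟩ := h1
    have h2 := congrArg (eta A hn) hj
    simp only [map_mul, map_pow, hdet, eta_det, ← pow_add] at h2
    have h3 : eta A hn f * eta A hn g = Polynomial.X ^ (m + l) := by
      have := congrArg (fun r => r) h2
      rw [pow_add] at this
      exact (Polynomial.monic_X_pow j).isRegular.left this
    obtain ⟨a, i, -, hai⟩ := exists_eq_C_mul_X_pow hconn _ _ _ h3
    have hfe : f = MvPolynomial.C (a : A) * det ^ i := by
      ext d
      rw [← sub_eq_zero]
      refine IsReduced.eq_zero _ (mem_nilradical.1 (nilradical_eq_sInf A ▸ (Submodule.mem_sInf.2 fun (p : Ideal A) hp => ?_)))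
      have : p.IsPrime := hp
      let φ : A →+* p.ResidueField := algebraMap A p.ResidueField
      have hk : ∀ r, φ r = 0 ↔ r ∈ p := fun r => Ideal.algebraMap_residueField_eq_zero
      have hirr := Groth.Agent.S6485.result p.ResidueField n hn
      have hmapdet : MvPolynomial.map φ det = (Matrix.mvPolynomialX (Fin n) (Fin n) p.ResidueField).det := by
        rw [hdet, RingHom.map_det]; congr 1; ext1 i j; simp
      have hj' := congrArg (MvPolynomial.map φ) hj
      simp only [map_mul, map_pow, hmapdet] at hj'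
      set D := (Matrix.mvPolynomialX (Fin n) (Fin n) p.ResidueField).det
      have hfg : MvPolynomial.map φ f * MvPolynomial.map φ g = D ^ (m + l) := by
        exact mul_left_cancel₀ (pow_ne_zero j hirr.ne_zero) hj'
      obtain ⟨i', -, hi'⟩ := (dvd_prime_pow hirr.prime (m + l)).1 ⟨_, hfg.symm⟩
      obtain ⟨w, hw⟩ := hi'.symm
      obtain ⟨c, hc, hc'⟩ := MvPolynomial.isUnit_iff_eq_C_of_isReduced.1 w.isUnit
      have h4 := congrArg (eta p.ResidueField hn) hw
      rw [eta_map, hai, Polynomial.map_mul, Polynomial.map_C, Polynomial.map_pow, Polynomial.map_X, map_mul, map_pow, eta_det, hc', mul_comm] at h4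
      simp only [eta, MvPolynomial.aeval_C, Polynomial.algebraMap_eq] at h4
      have hii : i' = i := by
        have := congrArg Polynomial.natDegree h4
        rwa [Polynomial.natDegree_C_mul_X_pow _ _ hc.ne_zero, Polynomial.natDegree_C_mul_X_pow _ _ (a.isUnit.map φ).ne_zero] at this
      subst hii
      have hca : c = φ a := by
        have := congrArg (fun r => Polynomial.coeff r i') h4
        simpa [Polynomial.coeff_X_pow] using this
      have h5 : MvPolynomial.map φ f = MvPolynomial.map φ (MvPolynomial.C (a : A) * det ^ i') := by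
        rw [map_mul, map_pow, hmapdet, MvPolynomial.map_C, ← hca, ← hw, hc', mul_comm]
      rw [← hk, map_sub, ← MvPolynomial.coeff_map, ← MvPolynomial.coeff_map, h5, sub_self]
    refine ⟨(a, (i : ℤ) - m), Units.ext ?_⟩
    show algebraMap A L a * ((du ^ ((i : ℤ) - m) : Lˣ) : L) = u
    have hum : (u : L) * (du : L) ^ m = algebraMap A L a * (du : L) ^ i := by
      rw [hdu, ← map_pow, ← map_pow]
      refine hf.trans ?_
      rw [hfe, map_mul, IsScalarTower.algebraMap_apply A (MvPolynomial (Fin n × Fin n) A) L]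
      rfl
    apply (du.isUnit.pow m).mul_right_cancel
    rw [hum, mul_assoc, ← Units.val_pow_eq_pow_val, ← Units.val_mul, ← zpow_natCast du m, ← zpow_add, sub_add_cancel, zpow_natCast,
      Units.val_pow_eq_pow_val]

end Groth.Agent.S13788
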