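import Groth.Statements.S13789
import Mathlib.RingTheory.Localization.FractionRing
-- import your own Groth.Agent.* helpers here

set_option autoImplicit false
universe u
open CAlg

namespace Groth.Agent.S13789

/-- Let A be a commutative ring with total ring of fractions Q and let B be a ring with A ⊆ B ⊆ Q. Then
the inclusion A ⊆ B carries nonzerodivisors of A to nonzerodivisors of B, and every nonzerodivisor
of B has the form r/u with r and u nonzerodivisors of A. -/
theorem result {A Q : Type u} [CommRing A] [CommRing Q] [Algebra A Q] [IsFractionRing A Q] (B : Subalgebra A Q) :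
    (∀ a : A, a ∈ nonZeroDivisors A → algebraMap A B a ∈ nonZeroDivisors B) ∧
    (∀ b : B, b ∈ nonZeroDivisors B → ∃ r u : A, r ∈ nonZeroDivisors A ∧ u ∈ nonZeroDivisors A ∧
      (b : Q) * algebraMap A Q u = algebraMap A Q r) := by
  refine ⟨fun a ha => mem_nonZeroDivisors_iff_right.mpr fun z hz => Subtype.ext ?_, fun b hb => ?_⟩
  · have h : (z : Q) * algebraMap A Q a = 0 := congr_arg Subtype.val hz
    exact (IsLocalization.map_units Q ⟨a, ha⟩).mul_left_eq_zero.mp h
  · obtain ⟨r, ⟨u, hu⟩, h⟩ := IsLocalization.exists_mk'_eq (nonZeroDivisors A) (b : Q)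
    have hbu : (b : Q) * algebraMap A Q u = algebraMap A Q r := by
      rw [← h, IsLocalization.mk'_spec Q r ⟨u, hu⟩]
    refine ⟨r, u, mem_nonZeroDivisors_iff_right.mpr fun a ha => ?_, hu, hbu⟩
    have h0 : algebraMap A B a * b = 0 := by
      refine Subtype.ext ?_
      change algebraMap A Q a * (b : Q) = 0
      refine (IsLocalization.map_units Q ⟨u, hu⟩).mul_left_eq_zero.mp ?_
      rw [mul_assoc, hbu, ← map_mul, ha, map_zero]
    have h1 := (mem_nonZeroDivisors_iff_right.mp hb) _ h0
    exact IsFractionRing.injective A Q ((congr_arg Subtype.val h1).trans (map_zero _).symm)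

end Groth.Agent.S13789
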