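import Groth.Statements.S13790
import Mathlib.RingTheory.Localization.FractionRing
-- import your own Groth.Agent.* helpers here

set_option autoImplicit false
universe u
open CAlg

namespace Groth.Agent.S13790

/-- Let A be a commutative ring with total ring of fractions Q and let B be a ring with A ⊆ B ⊆ Q. Then
Q, with the inclusion B ⊆ Q, is the total ring of fractions of B. -/
theorem result {A Q : Type u} [CommRing A] [CommRing Q] [Algebra A Q] [IsFractionRing A Q] (B : Subalgebra A Q) :
    IsFractionRing B Q := by
  constructor
  constructor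
  · rintro ⟨s, hs⟩
    obtain ⟨⟨a, t⟩, h⟩ := IsLocalization.surj (nonZeroDivisors A) (s : Q)
    have ha : a ∈ nonZeroDivisors A := by
      rw [mem_nonZeroDivisors_iff_right]
      intro b hb
      have h1 : algebraMap A B b * algebraMap A B t * s = 0 := by
        apply Subtype.ext
        push_cast
        rw [mul_assoc, mul_comm (algebraMap A Q (t : A)), h, ← map_mul, hb, map_zero]
      have h2 := (mem_nonZeroDivisors_iff_right.mp hs) _ h1
      rw [← map_mul] at h2
      have h3 : algebraMap A Q (b * t) = algebraMap A Q 0 := by
        rw [map_zero]; exact congr_arg Subtype.val h2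
      exact (mem_nonZeroDivisors_iff_right.mp t.2) b (IsFractionRing.injective A Q h3)
    have hu : IsUnit ((s : Q) * algebraMap A Q t) := by
      rw [h]; exact IsLocalization.map_units Q ⟨a, ha⟩
    exact (IsUnit.mul_iff.mp hu).1
  · intro z
    obtain ⟨⟨a, t⟩, h⟩ := IsLocalization.surj (nonZeroDivisors A) z
    refine ⟨(algebraMap A B a, ⟨algebraMap A B t, ?_⟩), h⟩
    rw [mem_nonZeroDivisors_iff_right]
    intro b hb
    apply Subtype.ext
    exact (IsLocalization.map_units Q t).mul_left_eq_zero.mp (congr_arg Subtype.val hb)
  · intro x y h
    exact ⟨1, by rw [Subtype.ext h]⟩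

end Groth.Agent.S13790
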