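import Groth.Statements.S13792
import Mathlib

set_option autoImplicit false
universe u
open CategoryTheory AlgebraicGeometry
open Curves

namespace Groth.Agent.S13792

/-- Let k be a field and E an integral k-scheme of finite type whose underlying space has dimension 1,
and let ι : G → E be a closed immersion. Then either ι is an isomorphism or G is finite over k. (The
published statement is about a closed subgroup scheme of an elliptic curve and its proof states this
fact for E geometrically integral; this row assumes only that E is integral.) -/
theorem result {k : Type u} [Field k]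
    {E G : Scheme.{u}} (f : E ⟶ Spec (CommRingCat.of k)) [LocallyOfFiniteType f] [QuasiCompact f]
    [IsIntegral E] (hdim : topologicalKrullDim ↥E = 1) (ι : G ⟶ E) [IsClosedImmersion ι] :
    IsIso ι ∨ IsFinite (ι ≫ f) := by
  by_cases hs : Function.Surjective ι
  · haveI : Surjective ι := ⟨hs⟩
    exact Or.inl (isIso_of_isClosedImmersion_of_surjective ι)
  right
  haveI : IsLocallyNoetherian G := LocallyOfFiniteType.isLocallyNoetherian (ι ≫ f)
  have hG : topologicalKrullDim ↥G ≤ 0 := by
    refine Order.krullDim_nonpos_iff_forall_isMax.mpr fun a b hab => ?_
    by_contra hne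
    have hlt : a < b := lt_of_le_not_ge hab hne
    let top : TopologicalSpace.IrreducibleCloseds ↥E :=
      ⟨Set.univ, (IrreducibleSpace.isIrreducible_univ _), isClosed_univ⟩
    let m := TopologicalSpace.IrreducibleCloseds.map (ι : ↥G → ↥E) ι.continuous
    have h1 : m a < m b :=
      TopologicalSpace.IrreducibleCloseds.map_strictMono_of_isInducing
        ι.isClosedEmbedding.isInducing hlt
    have h2 : m b < top := by
      refine lt_of_le_of_ne (fun x _ => Set.mem_univ x) fun he => hs fun x => ?_
      have hx : x ∈ closure ((ι : ↥G → ↥E) '' b.carrier) := by
        have := congrArg (fun z : TopologicalSpace.IrreducibleCloseds ↥E => (z : Set ↥E)) he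
        change closure ((ι : ↥G → ↥E) '' b.carrier) = Set.univ at this
        rw [this]; trivial
      exact (closure_minimal (Set.image_subset_range _ _)
        ι.isClosedEmbedding.isClosed_range) hx
    have := Order.LTSeries.length_le_krullDim
      (((RelSeries.singleton _ (m a)).snoc (m b) h1).snoc top (by simpa using h2))
    rw [← topologicalKrullDim, hdim] at this
    simp at this
  haveI : IsLocallyArtinian G := IsLocallyArtinian.of_topologicalKrullDim_le_zero hG
  haveI : LocallyQuasiFinite (ι ≫ f) :=
    locallyQuasiFinite_iff_isDiscrete_preimage_singleton.mpr fun x => IsDiscrete.univ.mono (Set.subset_univ _)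
  haveI : IsLocallyArtinian (Spec (CommRingCat.of k)) :=
    Scheme.isLocallyArtinianScheme_Spec.mpr inferInstance
  exact IsFinite.of_locallyQuasiFinite (ι ≫ f)

end Groth.Agent.S13792
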