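import Groth.Statements.S13793
import Mathlib.Algebra.MonoidAlgebra.NoZeroDivisors
import Mathlib.RingTheory.Nilpotent.Lemmas
import Mathlib.RingTheory.Noetherian.Nilpotent
import Mathlib.Tactic.LinearCombination
import Mathlib.Tactic.Abel
import Mathlib.RingTheory.Nilpotent.Basic
import Mathlib.RingTheory.Ideal.Quotient.Operations
import Mathlib.RingTheory.LocalRing.Basic
import Mathlib.RingTheory.Ideal.Maximal
-- import your own Groth.Agent.* helpers here

set_option autoImplicit false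
universe u
open CAlg

namespace Groth.Agent.S13793

noncomputable section

variable {A : Type u} [CommRing A]

abbrev L (n : ℕ) (A : Type u) [CommRing A] := AddMonoidAlgebra A (Fin n → ℤ)

abbrev mh {a b : ℕ} (M : Matrix (Fin a) (Fin b) ℤ) : (Fin b → ℤ) →+ (Fin a → ℤ) := M.mulVecLin.toAddMonoidHom

abbrev m0 := mh (!![0, 0; 1, 0; 0, 1] : Matrix (Fin 3) (Fin 2) ℤ)
abbrev m1 := mh (!![1, 0; 1, 0; 0, 1] : Matrix (Fin 3) (Fin 2) ℤ)
abbrev m2 := mh (!![1, 0; 0, 1; 0, 1] : Matrix (Fin 3) (Fin 2) ℤ)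
abbrev m3 := mh (!![1, 0; 0, 1; 0, 0] : Matrix (Fin 3) (Fin 2) ℤ)
abbrev n0 := mh (!![0; 1] : Matrix (Fin 2) (Fin 1) ℤ)
abbrev n1 := mh (!![1; 1] : Matrix (Fin 2) (Fin 1) ℤ)
abbrev n2 := mh (!![1; 0] : Matrix (Fin 2) (Fin 1) ℤ)

lemma m0_apply (a : Fin 2 → ℤ) : m0 a = ![0, a 0, a 1] := by
  ext i; fin_cases i <;> simp [m0, mh, Matrix.mulVec, dotProduct, Fin.sum_univ_two]
lemma m1_apply (a : Fin 2 → ℤ) : m1 a = ![a 0, a 0, a 1] := by
  ext i; fin_cases i <;> simp [m1, mh, Matrix.mulVec, dotProduct, Fin.sum_univ_two]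
lemma m2_apply (a : Fin 2 → ℤ) : m2 a = ![a 0, a 1, a 1] := by
  ext i; fin_cases i <;> simp [m2, mh, Matrix.mulVec, dotProduct, Fin.sum_univ_two]
lemma m3_apply (a : Fin 2 → ℤ) : m3 a = ![a 0, a 1, 0] := by
  ext i; fin_cases i <;> simp [m3, mh, Matrix.mulVec, dotProduct, Fin.sum_univ_two]
lemma n0_apply (a : Fin 1 → ℤ) : n0 a = ![0, a 0] := by
  ext i; fin_cases i <;> simp [n0, mh, Matrix.mulVec, dotProduct]
lemma n1_apply (a : Fin 1 → ℤ) : n1 a = ![a 0, a 0] := by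
  ext i; fin_cases i <;> simp [n1, mh, Matrix.mulVec, dotProduct]
lemma n2_apply (a : Fin 1 → ℤ) : n2 a = ![a 0, 0] := by
  ext i; fin_cases i <;> simp [n2, mh, Matrix.mulVec, dotProduct]

variable (A) in
abbrev U {a b : ℕ} (f : (Fin a → ℤ) →+ (Fin b → ℤ)) : (L a A)ˣ →* (L b A)ˣ :=
  Units.map (AddMonoidAlgebra.mapDomainRingHom A f).toMonoidHom

lemma U_U {a b c : ℕ} (f : (Fin b → ℤ) →+ (Fin c → ℤ)) (g : (Fin a → ℤ) →+ (Fin b → ℤ)) (x : (L a A)ˣ) :
    U A f (U A g x) = U A (f.comp g) x := by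
  ext1
  exact (RingHom.congr_fun (AddMonoidAlgebra.mapDomainRingHom_comp (R := A) f g) (x : L a A)).symm

def D2 (η : (L 1 A)ˣ) : (L 2 A)ˣ := U A n0 η * (U A n1 η)⁻¹ * U A n2 η

def D3 (ξ : (L 2 A)ˣ) : (L 3 A)ˣ := U A m0 ξ * (U A m1 ξ)⁻¹ * U A m2 ξ * (U A m3 ξ)⁻¹

lemma D2_mul (x y : (L 1 A)ˣ) : D2 (x * y) = D2 x * D2 y := by
  simp only [D2, map_mul, mul_inv]; ac_rfl

lemma D3_mul (x y : (L 2 A)ˣ) : D3 (x * y) = D3 x * D3 y := by
  simp only [D3, map_mul, mul_inv]; ac_rfl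

lemma D3_inv (x : (L 2 A)ˣ) : D3 x⁻¹ = (D3 x)⁻¹ := by
  simp only [D3, map_inv, mul_inv]

lemma D3_D2 (η : (L 1 A)ˣ) : D3 (D2 η) = 1 := by
  have e10 : m1.comp n0 = m0.comp n0 := by
    refine AddMonoidHom.ext fun x => ?_
    simp only [AddMonoidHom.comp_apply, m1_apply, n0_apply, m0_apply]
    ext i; fin_cases i <;> rfl
  have e20 : m2.comp n0 = m0.comp n1 := by
    refine AddMonoidHom.ext fun x => ?_
    simp only [AddMonoidHom.comp_apply, m2_apply, n0_apply, m0_apply, n1_apply]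
    ext i; fin_cases i <;> rfl
  have e21 : m2.comp n1 = m1.comp n1 := by
    refine AddMonoidHom.ext fun x => ?_
    simp only [AddMonoidHom.comp_apply, m2_apply, m1_apply, n1_apply]
    ext i; fin_cases i <;> rfl
  have e30 : m3.comp n0 = m0.comp n2 := by
    refine AddMonoidHom.ext fun x => ?_
    simp only [AddMonoidHom.comp_apply, m3_apply, n0_apply, m0_apply, n2_apply]
    ext i; fin_cases i <;> rfl
  have e31 : m3.comp n1 = m1.comp n2 := by
    refine AddMonoidHom.ext fun x => ?_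
    simp only [AddMonoidHom.comp_apply, m3_apply, n1_apply, m1_apply, n2_apply]
    ext i; fin_cases i <;> rfl
  have e32 : m3.comp n2 = m2.comp n2 := by
    refine AddMonoidHom.ext fun x => ?_
    simp only [AddMonoidHom.comp_apply, m3_apply, m2_apply, n2_apply]
    ext i; fin_cases i <;> rfl
  simp only [D2, D3, map_mul, map_inv, U_U, e10, e20, e21, e30, e31, e32]
  apply Additive.ofMul.injective
  simp only [ofMul_mul, ofMul_inv, ofMul_one]
  abel

variable (I : Ideal A)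

abbrev red (n : ℕ) : L n A →+* L n (A ⧸ I) := AddMonoidAlgebra.mapRingHom _ (Ideal.Quotient.mk I)

lemma red_eq_iff {n : ℕ} {x y : L n A} : red I n x = red I n y ↔ ∀ v, x.coeff v - y.coeff v ∈ I := by
  constructor
  · intro h v
    have := congrArg (fun z => z.coeff v) h
    simpa [red, Ideal.Quotient.eq] using this
  · intro h
    ext v
    simpa [red, Ideal.Quotient.eq] using h v

lemma red_map {a b : ℕ} (f : (Fin a → ℤ) →+ (Fin b → ℤ)) (x : L a A) :
    red I b (AddMonoidAlgebra.mapDomainRingHom A f x) = AddMonoidAlgebra.mapDomainRingHom (A ⧸ I) f (red I a x) :=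
  RingHom.congr_fun (AddMonoidAlgebra.mapRingHom_comp_mapDomainRingHom (Ideal.Quotient.mk I) f) x

lemma coeff_mul_mem {n : ℕ} (I K : Ideal A) {x y : L n A} (hx : ∀ v, x.coeff v ∈ I) (hy : ∀ v, y.coeff v ∈ K)
    (v : Fin n → ℤ) : (x * y).coeff v ∈ I * K := by
  classical
  rw [AddMonoidAlgebra.coeff_mul]
  refine Submodule.sum_mem _ fun a _ => Submodule.sum_mem _ fun b _ => ?_
  dsimp only
  split_ifs
  · exact Ideal.mul_mem_mul (hx a) (hy b)
  · exact zero_mem _

lemma coeff_pow_mem {n : ℕ} {x : L n A} (hx : ∀ v, x.coeff v ∈ I) (k : ℕ) :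
    ∀ v, (x ^ k).coeff v ∈ I ^ k := by
  induction k with
  | zero => simp
  | succ k ih => intro v; rw [pow_succ, pow_succ]; exact coeff_mul_mem _ _ ih hx v

lemma coeff_map {a b : ℕ} (f : (Fin a → ℤ) →+ (Fin b → ℤ)) (r : (Fin b → ℤ) → (Fin a → ℤ))
    (hr : ∀ x, r (f x) = x) (x : L a A) (v : Fin b → ℤ) :
    (AddMonoidAlgebra.mapDomainRingHom A f x).coeff v = if f (r v) = v then x.coeff (r v) else 0 := by
  show Finsupp.mapDomain f x.coeff v = _
  split_ifs with h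
  · conv_lhs => rw [← h]
    exact Finsupp.mapDomain_apply (Function.LeftInverse.injective hr) _ _
  · refine Finsupp.mapDomain_of_notMem_range _ _ ?_
    rintro ⟨y, rfl⟩
    exact h (by rw [hr])

/-- units of Laurent polynomial rings over domains are monomials -/
lemma exists_eq_single {n : ℕ} {R : Type u} [CommRing R] [IsDomain R] (x : (L n R)ˣ) :
    ∃ a c, c ≠ 0 ∧ (x : L n R) = AddMonoidAlgebra.single a c := by
  classical
  have hs : ∀ y : (L n R)ˣ, 0 < (y : L n R).coeff.support.card := fun y => by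
    refine Finset.card_pos.2 (Finsupp.support_nonempty_iff.2 fun h => y.ne_zero ?_)
    exact AddMonoidAlgebra.coeff_injective (h.trans AddMonoidAlgebra.coeff_zero.symm)
  have h1 : (x : L n R).coeff.support.card = 1 := by
    refine le_antisymm (not_lt.1 fun hlt => ?_) (hs x)
    have hlt' : 1 < (x : L n R).coeff.support.card * (↑x⁻¹ : L n R).coeff.support.card :=
      lt_of_lt_of_le hlt (Nat.le_mul_of_pos_right _ (hs x⁻¹))
    obtain ⟨p, hp, q, hq, hne, hpu, hqu⟩ := TwoUniqueSums.uniqueAdd_of_one_lt_card hlt'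
    have key : ∀ p ∈ (x : L n R).coeff.support ×ˢ (↑x⁻¹ : L n R).coeff.support,
        UniqueAdd (x : L n R).coeff.support (↑x⁻¹ : L n R).coeff.support p.1 p.2 → p.1 + p.2 = 0 := by
      intro p hp hu
      by_contra hc
      rw [Finset.mem_product, Finsupp.mem_support_iff, Finsupp.mem_support_iff] at hp
      have h2 := AddMonoidAlgebra.coeff_mul_add_of_uniqueAdd hu
      rw [x.mul_inv, AddMonoidAlgebra.one_def, AddMonoidAlgebra.coeff_single, Finsupp.single_eq_of_ne hc] at h2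
      exact mul_ne_zero hp.1 hp.2 h2.symm
    have := hpu (Finset.mem_product.1 hq).1 (Finset.mem_product.1 hq).2 ((key q hq hqu).trans (key p hp hpu).symm)
    exact hne (Prod.ext this.1.symm this.2.symm)
  obtain ⟨a, ha, h⟩ := Finsupp.card_support_eq_one.1 h1
  exact ⟨a, _, ha, AddMonoidAlgebra.coeff_injective h⟩

lemma cocycle_coeff (ξ : (L 2 A)ˣ) (hξ : D3 ξ = 1) :
    (∀ a : Fin 2 → ℤ, a ≠ 0 → IsNilpotent ((ξ : L 2 A).coeff a)) ∧ IsUnit ((ξ : L 2 A).coeff 0) := by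
  have hmul : U A m0 ξ * U A m2 ξ = U A m1 ξ * U A m3 ξ := by
    have : U A m0 ξ * U A m2 ξ * (U A m1 ξ * U A m3 ξ)⁻¹ = 1 := by
      rw [← hξ, D3, mul_inv]; ac_rfl
    exact mul_inv_eq_one.1 this
  have key : ∀ P : Ideal A, P.IsPrime → (∀ a : Fin 2 → ℤ, a ≠ 0 → (ξ : L 2 A).coeff a ∈ P) ∧ (ξ : L 2 A).coeff 0 ∉ P := by
    intro P hP
    obtain ⟨a, c, hc, h⟩ := exists_eq_single (Units.map (red P 2).toMonoidHom ξ)
    have h' : red P 2 (ξ : L 2 A) = AddMonoidAlgebra.single a c := h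
    have e := congrArg (fun z : (L 3 A)ˣ => red P 3 (z : L 3 A)) hmul
    simp only [Units.val_mul, map_mul, Units.coe_map, RingHom.toMonoidHom_eq_coe, MonoidHom.coe_coe, red_map, h'] at e
    simp only [AddMonoidAlgebra.mapDomainRingHom_apply, AddMonoidAlgebra.mapDomain_single, AddMonoidAlgebra.single_mul_single] at e
    have e' : m0 a + m2 a = m1 a + m3 a := by
      by_contra hne
      have := congrArg (fun z : L 3 (A ⧸ P) => z.coeff (m0 a + m2 a)) e
      simp only [AddMonoidAlgebra.coeff_single, Finsupp.single_eq_same, Finsupp.single_eq_of_ne hne] at this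
      exact hc (mul_self_eq_zero.1 this)
    rw [m0_apply, m1_apply, m2_apply, m3_apply] at e'
    have ha : a = 0 := by
      have h0 := congrFun e' 0
      have h2 := congrFun e' 2
      simp at h0 h2
      funext i; fin_cases i <;> simp <;> omega
    subst ha
    have hcoef : ∀ b, Ideal.Quotient.mk P ((ξ : L 2 A).coeff b) = (AddMonoidAlgebra.single (0 : Fin 2 → ℤ) c : L 2 (A ⧸ P)).coeff b := fun b => by
      rw [← h']; simp [red]
    refine ⟨fun b hb => ?_, fun h0 => hc ?_⟩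
    · rw [← Ideal.Quotient.eq_zero_iff_mem, hcoef, AddMonoidAlgebra.coeff_single, Finsupp.single_eq_of_ne hb]
    · have := hcoef 0
      rw [Ideal.Quotient.eq_zero_iff_mem.2 h0, AddMonoidAlgebra.coeff_single, Finsupp.single_eq_same] at this
      exact this.symm
  constructor
  · intro a ha
    exact nilpotent_iff_mem_prime.2 fun P hP => (key P hP).1 a ha
  · by_contra h
    obtain ⟨M, hM, hmem⟩ := exists_max_ideal_of_mem_nonunits h
    exact (key M hM.isPrime).2 hmem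

lemma step (J : Ideal A) (N k : ℕ) (hN : J ^ N = ⊥) (hk : 1 ≤ k) (ζ : (L 2 A)ˣ) (hζ : D3 ζ = 1)
    (h : red (J ^ k) 2 (ζ : L 2 A) = 1) :
    ∃ η : (L 1 A)ˣ, red (J ^ (k + 1)) 2 (ζ : L 2 A) = red (J ^ (k + 1)) 2 ((D2 η : (L 2 A)ˣ) : L 2 A) := by
  classical
  obtain ⟨f, hfe⟩ : ∃ f : L 2 A, (ζ : L 2 A) = 1 + f := ⟨(ζ : L 2 A) - 1, by ring⟩
  have hf : ∀ v, f.coeff v ∈ J ^ k := fun v => by
    have := (red_eq_iff (J ^ k)).1 (h.trans (map_one (red (J ^ k) 2)).symm) v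
    rw [hfe] at this
    simpa using this
  have hle : J ^ k * J ^ k ≤ J ^ (k + 1) := by rw [← pow_add]; exact Ideal.pow_le_pow_right (by omega)
  let φ3 := red (J ^ (k + 1)) 3
  have hsq : ∀ x y : L 3 A, (∀ v, x.coeff v ∈ J ^ k) → (∀ v, y.coeff v ∈ J ^ k) → φ3 x * φ3 y = 0 := by
    intro x y hx hy
    rw [← map_mul, ← map_zero φ3, red_eq_iff]
    intro v
    simpa using hle (coeff_mul_mem _ _ hx hy v)
  have hmap : ∀ {a b : ℕ} (g : (Fin a → ℤ) →+ (Fin b → ℤ)) (x : L a A), (∀ v, x.coeff v ∈ J ^ k) →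
      ∀ v, (AddMonoidAlgebra.mapDomainRingHom A g x).coeff v ∈ J ^ k := by
    intro a b g x hx
    have h0 : red (J ^ k) a x = red (J ^ k) a 0 := (red_eq_iff _).2 fun v => by simpa using hx v
    have h1 := congrArg (AddMonoidAlgebra.mapDomainRingHom (A ⧸ J ^ k) g) h0
    rw [← red_map, ← red_map, map_zero, red_eq_iff] at h1
    simpa using h1
  have hlin : φ3 (AddMonoidAlgebra.mapDomainRingHom A m0 f) + φ3 (AddMonoidAlgebra.mapDomainRingHom A m2 f) =
      φ3 (AddMonoidAlgebra.mapDomainRingHom A m1 f) + φ3 (AddMonoidAlgebra.mapDomainRingHom A m3 f) := by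
    have hmul : U A m0 ζ * U A m2 ζ = U A m1 ζ * U A m3 ζ := by
      have : U A m0 ζ * U A m2 ζ * (U A m1 ζ * U A m3 ζ)⁻¹ = 1 := by
        rw [← hζ, D3, mul_inv]; ac_rfl
      exact mul_inv_eq_one.1 this
    have e := congrArg (fun z : (L 3 A)ˣ => φ3 (z : L 3 A)) hmul
    simp only [Units.val_mul, map_mul, Units.coe_map, RingHom.toMonoidHom_eq_coe, MonoidHom.coe_coe, hfe, map_add, map_one] at e
    linear_combination e - hsq _ _ (hmap m0 f hf) (hmap m2 f hf) + hsq _ _ (hmap m1 f hf) (hmap m3 f hf)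
  have hinj : Function.Injective (fun x : Fin 1 → ℤ => (![0, x 0] : Fin 2 → ℤ)) := fun x y e => by
    funext i; fin_cases i; simpa using congrFun e 1
  let g : L 1 A := AddMonoidAlgebra.ofCoeff (Finsupp.comapDomain (fun x : Fin 1 → ℤ => (![0, x 0] : Fin 2 → ℤ)) f.coeff hinj.injOn)
  have hg : ∀ x, g.coeff x = f.coeff ![0, x 0] := fun x => rfl
  have hgJ : ∀ x, g.coeff x ∈ J := fun x => Ideal.pow_le_self (by omega) (hg x ▸ hf _)
  have hnil : IsNilpotent g := ⟨N, by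
    ext v
    have := coeff_pow_mem J hgJ N v
    rw [hN] at this
    simpa using this⟩
  let η : (L 1 A)ˣ := (IsNilpotent.isUnit_one_add hnil).unit
  refine ⟨η, ?_⟩
  let φ := red (J ^ (k + 1)) 2
  let G0 := AddMonoidAlgebra.mapDomainRingHom A n0 g
  let G1 := AddMonoidAlgebra.mapDomainRingHom A n1 g
  let G2 := AddMonoidAlgebra.mapDomainRingHom A n2 g
  have hη : (η : L 1 A) = 1 + g := (IsNilpotent.isUnit_one_add hnil).unit_spec
  have hgk : ∀ x, g.coeff x ∈ J ^ k := fun x => hg x ▸ hf _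
  have hsq2 : ∀ x y : L 2 A, (∀ v, x.coeff v ∈ J ^ k) → (∀ v, y.coeff v ∈ J ^ k) → φ x * φ y = 0 := by
    intro x y hx hy
    rw [← map_mul, ← map_zero φ, red_eq_iff]
    intro v
    simpa using hle (coeff_mul_mem _ _ hx hy v)
  have hmain : φ f + φ G1 = φ G0 + φ G2 := by
    rw [← map_add, ← map_add, red_eq_iff]
    intro v
    rw [← map_add, ← map_add] at hlin
    have := (red_eq_iff _).1 hlin ![0, v 0, v 1]
    simp only [AddMonoidAlgebra.coeff_add, Finsupp.add_apply] at this ⊢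
    rw [coeff_map m0 (fun w => ![w 1, w 2]) (fun x => by ext i; rw [m0_apply]; fin_cases i <;> rfl),
      coeff_map m1 (fun w => ![w 0, w 2]) (fun x => by ext i; rw [m1_apply]; fin_cases i <;> rfl),
      coeff_map m2 (fun w => ![w 0, w 1]) (fun x => by ext i; rw [m2_apply]; fin_cases i <;> rfl),
      coeff_map m3 (fun w => ![w 0, w 1]) (fun x => by ext i; rw [m3_apply]; fin_cases i <;> rfl)] at this
    simp only [G0, G1, G2]
    rw [coeff_map n0 (fun w => ![w 1]) (fun x => by ext i; rw [n0_apply]; fin_cases i; rfl),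
      coeff_map n1 (fun w => ![w 0]) (fun x => by ext i; rw [n1_apply]; fin_cases i; rfl),
      coeff_map n2 (fun w => ![w 0]) (fun x => by ext i; rw [n2_apply]; fin_cases i; rfl)]
    simp only [m0_apply, m1_apply, m2_apply, m3_apply, n0_apply, n1_apply, n2_apply, hg] at this ⊢
    have hv : v = ![v 0, v 1] := by ext i; fin_cases i <;> rfl
    rw [hv] at *
    generalize v 0 = b at this ⊢
    generalize v 1 = c at this ⊢
    simp [funext_iff, Fin.forall_fin_succ] at this ⊢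
    simpa only [eq_comm] using this
  have hD : ((D2 η : (L 2 A)ˣ) : L 2 A) * (1 + G1) = (1 + G0) * (1 + G2) := by
    have e : D2 η * U A n1 η = U A n0 η * U A n2 η := by rw [D2, mul_right_comm, inv_mul_cancel_right]
    have := congrArg (fun z : (L 2 A)ˣ => (z : L 2 A)) e
    simpa only [Units.val_mul, Units.coe_map, RingHom.toMonoidHom_eq_coe, MonoidHom.coe_coe, hη, map_add, map_one, G0, G1, G2] using this
  have hu : IsUnit (φ (1 + G1)) := by
    have := ((U A n1 η).isUnit).map φ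
    simpa only [Units.coe_map, RingHom.toMonoidHom_eq_coe, MonoidHom.coe_coe, hη, map_add, map_one, G1] using this
  apply hu.mul_right_cancel
  rw [← map_mul, ← map_mul, hD, hfe]
  simp only [map_add, map_mul, map_one]
  linear_combination hmain + hsq2 f G1 hf (hmap n1 g hgk) - hsq2 G0 G2 (hmap n0 g hgk) (hmap n2 g hgk)

lemma exists_D2_eq (ξ : (L 2 A)ˣ) (hξ : D3 ξ = 1) : ∃ η : (L 1 A)ˣ, ξ = D2 η := by
  classical
  obtain ⟨hnil, hc⟩ := cocycle_coeff ξ hξ
  let cu : ∀ n, (L n A)ˣ := fun n => Units.map (AddMonoidAlgebra.singleZeroRingHom (R := A) (M := Fin n → ℤ)).toMonoidHom hc.unit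
  have hU : ∀ {a b : ℕ} (f : (Fin a → ℤ) →+ (Fin b → ℤ)), U A f (cu a) = cu b := fun f => by
    ext1; simp [cu, U]
  have hcu : D2 (cu 1) = cu 2 := by simp [D2, hU]
  let ζ := ξ * (cu 2)⁻¹
  have hζ : D3 ζ = 1 := by rw [D3_mul, D3_inv, ← hcu, D3_D2, hξ, inv_one, mul_one]
  let J : Ideal A := Ideal.span ((((ζ : L 2 A) - 1).coeff.support.image (fun v => ((ζ : L 2 A) - 1).coeff v) : Finset A) : Set A)
  have hJ1 : red (J ^ 1) 2 (ζ : L 2 A) = 1 := by
    rw [pow_one, ← map_one (red J 2), red_eq_iff]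
    intro v
    by_cases hv : v ∈ ((ζ : L 2 A) - 1).coeff.support
    · exact Ideal.subset_span (Finset.mem_coe.2 (Finset.mem_image.2 ⟨v, hv, by simp⟩))
    · rw [Finsupp.notMem_support_iff] at hv
      rw [show (ζ : L 2 A).coeff v - (1 : L 2 A).coeff v = 0 by simpa using hv]
      exact zero_mem _
  have hJn : IsNilpotent J := by
    refine (Ideal.FG.isNilpotent_iff_le_nilradical ⟨_, rfl⟩).2 (Ideal.span_le.2 ?_)
    intro x hx
    obtain ⟨v, _, rfl⟩ := Finset.mem_image.1 hx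
    have hval : (ζ : L 2 A) = (ξ : L 2 A) * AddMonoidAlgebra.single 0 (↑hc.unit⁻¹ : A) := by
      simp only [ζ, cu, ← map_inv, Units.val_mul]; rfl
    have hcv : (ζ : L 2 A).coeff v = (ξ : L 2 A).coeff v * ↑hc.unit⁻¹ := by
      rw [hval]
      exact AddMonoidAlgebra.coeff_mul_single_eq_coeff_mul v (fun m _ => by simp)
    show IsNilpotent _
    rw [AddMonoidAlgebra.coeff_sub, Finsupp.sub_apply, hcv, AddMonoidAlgebra.one_def, AddMonoidAlgebra.coeff_single]
    rcases eq_or_ne v 0 with rfl | hv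
    · rw [Finsupp.single_eq_same, IsUnit.mul_val_inv, sub_self]; exact IsNilpotent.zero
    · rw [Finsupp.single_eq_of_ne hv, sub_zero]
      obtain ⟨n, hn⟩ := hnil v hv
      exact ⟨n, by rw [mul_pow, hn, zero_mul]⟩
  obtain ⟨N, hN⟩ := hJn
  have key : ∀ k, ∃ η : (L 1 A)ˣ, red (J ^ (k + 1)) 2 (ζ : L 2 A) = red (J ^ (k + 1)) 2 ((D2 η : (L 2 A)ˣ) : L 2 A) := by
    intro k
    induction k with
    | zero => exact ⟨1, by rw [hJ1]; simp [D2]⟩
    | succ k ih =>
      obtain ⟨η, hη⟩ := ih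
      have h1 : D3 (ζ * (D2 η)⁻¹) = 1 := by rw [D3_mul, D3_inv, D3_D2, hζ, inv_one, mul_one]
      have h2 : red (J ^ (k + 1)) 2 ((ζ * (D2 η)⁻¹ : (L 2 A)ˣ) : L 2 A) = 1 := by
        rw [Units.val_mul, map_mul, hη, ← map_mul, Units.mul_inv, map_one]
      obtain ⟨η', hη'⟩ := step J N (k + 1) (by simpa using hN) (by omega) _ h1 h2
      refine ⟨η' * η, ?_⟩
      rw [D2_mul, Units.val_mul (D2 η'), map_mul _ ((D2 η' : (L 2 A)ˣ) : L 2 A), ← hη', ← map_mul, ← Units.val_mul, inv_mul_cancel_right]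
  obtain ⟨η, hη⟩ := key N
  have hbot : J ^ (N + 1) = ⊥ := by rw [pow_succ, hN]; simp
  have : ζ = D2 η := by
    ext v
    have := (red_eq_iff _).1 hη v
    rw [hbot, Ideal.mem_bot, sub_eq_zero] at this
    exact this
  refine ⟨η * cu 1, ?_⟩
  rw [D2_mul, ← this, hcu, inv_mul_cancel_right]

end


/-- For any commutative ring A, the second cohomology of the complex of unit groups A[t₁^±]ˣ → A[t₁^±,
t₂^±]ˣ → A[t₁^±, t₂^±, t₃^±]ˣ → ⋯ attached to the cosimplicial ring of Laurent polynomial rings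
(coface maps (t₁, t₂) ↦ (t₂, t₃), (t₁t₂, t₃), (t₁, t₂t₃), (t₁, t₂) and t₁ ↦ t₂, t₁t₂, t₁) vanishes:
every unit ξ of A[t₁^±, t₂^±] with ξ(t₂,t₃) ξ(t₁t₂,t₃)⁻¹ ξ(t₁,t₂t₃) ξ(t₁,t₂)⁻¹ = 1 is of the form
η(t₂) η(t₁t₂)⁻¹ η(t₁) for a unit η of A[t^±]. Laurent polynomial rings are written as group algebras
of ℤ^p and the coface maps as the maps induced by the corresponding additive maps ℤ^p → ℤ^(p+1). -/
theorem result (A : Type u) [CommRing A] (ξ : (AddMonoidAlgebra A (Fin 2 → ℤ))ˣ)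
    (hξ : Units.map (AddMonoidAlgebra.mapDomainRingHom A
          (Matrix.mulVecLin (!![0, 0; 1, 0; 0, 1] : Matrix (Fin 3) (Fin 2) ℤ)).toAddMonoidHom).toMonoidHom ξ *
        (Units.map (AddMonoidAlgebra.mapDomainRingHom A
          (Matrix.mulVecLin (!![1, 0; 1, 0; 0, 1] : Matrix (Fin 3) (Fin 2) ℤ)).toAddMonoidHom).toMonoidHom ξ)⁻¹ *
        Units.map (AddMonoidAlgebra.mapDomainRingHom A
          (Matrix.mulVecLin (!![1, 0; 0, 1; 0, 1] : Matrix (Fin 3) (Fin 2) ℤ)).toAddMonoidHom).toMonoidHom ξ *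
        (Units.map (AddMonoidAlgebra.mapDomainRingHom A
          (Matrix.mulVecLin (!![1, 0; 0, 1; 0, 0] : Matrix (Fin 3) (Fin 2) ℤ)).toAddMonoidHom).toMonoidHom ξ)⁻¹ = 1) :
    ∃ η : (AddMonoidAlgebra A (Fin 1 → ℤ))ˣ,
      ξ = Units.map (AddMonoidAlgebra.mapDomainRingHom A
          (Matrix.mulVecLin (!![0; 1] : Matrix (Fin 2) (Fin 1) ℤ)).toAddMonoidHom).toMonoidHom η *
        (Units.map (AddMonoidAlgebra.mapDomainRingHom A
          (Matrix.mulVecLin (!![1; 1] : Matrix (Fin 2) (Fin 1) ℤ)).toAddMonoidHom).toMonoidHom η)⁻¹ *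
        Units.map (AddMonoidAlgebra.mapDomainRingHom A
          (Matrix.mulVecLin (!![1; 0] : Matrix (Fin 2) (Fin 1) ℤ)).toAddMonoidHom).toMonoidHom η := exists_D2_eq ξ hξ

end Groth.Agent.S13793
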