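import Groth.Statements.S13794
import Mathlib.Tactic.LinearCombination
import Mathlib.Tactic.Linarith
import Mathlib.Tactic.FieldSimp
import Mathlib.Tactic.Ring
import Mathlib.Tactic.Positivity
import Mathlib.Algebra.Polynomial.Coeff

set_option autoImplicit false
universe u
open Polynomial
open Curves

namespace Groth.Agent.S13794

/-- Let k be a field of characteristic not 3 and β ∈ k. If a line ax + by + c = 0 with a³ ≠ b³ is the
tangent line at a flex point of the affine cubic x³ + y³ + β = 3xy, then β is a cube in k. Here the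
line is normalised to b ≠ 0 (the roles of x and y are symmetric) and the flex-tangency is expressed
by the restriction of the cubic to the line being λ (x − x₀)³. -/
theorem result {k : Type u} [Field k] (h3 : (3 : k) ≠ 0)
    (β a b c : k) (hb : b ≠ 0) (hab : a ^ 3 ≠ b ^ 3) (lam x₀ : k)
    (hflex : (X : k[X]) ^ 3 + (C (-a / b) * X + C (-c / b)) ^ 3 + C β - 3 * X * (C (-a / b) * X + C (-c / b)) =
      C lam * (X - C x₀) ^ 3) :
    ∃ γ : k, β = γ ^ 3 := by
  set p := -a / b with hp
  set q := -c / b with hq
  have hp3 : 1 + p ^ 3 ≠ 0 := by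
    intro h
    apply hab
    rw [hp] at h
    field_simp at h
    linear_combination -h
  have hL : (X : k[X]) ^ 3 + (C p * X + C q) ^ 3 + C β - 3 * X * (C p * X + C q) =
      C (1 + p ^ 3) * X ^ 3 + C (3 * p ^ 2 * q - 3 * p) * X ^ 2 + C (3 * p * q ^ 2 - 3 * q) * X
        + C (q ^ 3 + β) := by
    simp only [map_add, map_sub, map_mul, map_pow, map_ofNat, map_one]
    ring
  have hR : C lam * (X - C x₀) ^ 3 =
      C lam * X ^ 3 + C (-3 * lam * x₀) * X ^ 2 + C (3 * lam * x₀ ^ 2) * X + C (-(lam * x₀ ^ 3)) := by
    simp only [map_mul, map_pow, map_ofNat, map_neg]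
    ring
  rw [hL, hR] at hflex
  have e3 := congr_arg (fun P => P.coeff 3) hflex
  have e2 := congr_arg (fun P => P.coeff 2) hflex
  have e1 := congr_arg (fun P => P.coeff 1) hflex
  have e0 := congr_arg (fun P => P.coeff 0) hflex
  simp only [Polynomial.coeff_add, Polynomial.coeff_C_mul, Polynomial.coeff_X_pow, Polynomial.coeff_X, Polynomial.coeff_C] at e3 e2 e1 e0
  norm_num at e3 e2 e1 e0
  subst e3
  have f2 : p * (p * q - 1) = -((1 + p ^ 3) * x₀) :=
    mul_left_cancel₀ h3 (by linear_combination e2)
  have f1 : q * (p * q - 1) = (1 + p ^ 3) * x₀ ^ 2 :=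
    mul_left_cancel₀ h3 (by linear_combination e1)
  rcases eq_or_ne x₀ 0 with hx | hx
  · subst hx
    exact ⟨-q, by linear_combination e0⟩
  · have hu : p * q - 1 ≠ 0 := by
      intro h
      rw [h, mul_zero, eq_comm, neg_eq_zero] at f2
      exact (mul_ne_zero hp3 hx) f2
    have hqp : q = -p * x₀ := by
      refine mul_right_cancel₀ hu ?_
      linear_combination f1 + x₀ * f2
    have hxp : x₀ = p := by
      have : x₀ - p = 0 := by linear_combination f2 + (-(p ^ 2)) * hqp
      linear_combination this
    rw [hqp, hxp] at e0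
    exact ⟨-p, by linear_combination e0⟩

end Groth.Agent.S13794
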