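import Groth.Statements.S13798
import Groth.Agent.S13793
import Mathlib.AlgebraicGeometry.AffineScheme
import Mathlib.Algebra.Category.Ring.Limits
import Mathlib.AlgebraicGeometry.PullbackCarrier
import Mathlib.AlgebraicGeometry.Morphisms.OpenImmersion

set_option autoImplicit false
universe u
open CategoryTheory CategoryTheory.Limits AlgebraicGeometry Opposite
open Curves

namespace Groth.Agent.S13798

section
open CategoryTheory CategoryTheory.Limits AlgebraicGeometry Opposite TopologicalSpace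
open AddMonoidAlgebra (single singleZeroRingHom mapRingHom)

variable {n : ℕ}

abbrev MG (n : ℕ) := Fin n → ℤ
noncomputable abbrev RT (n : ℕ) : CommRingCat.{u} := CommRingCat.of (ULift.{u} (AddMonoidAlgebra ℤ (MG n)))
noncomputable abbrev BT (n : ℕ) (A : CommRingCat.{u}) : CommRingCat.{u} := CommRingCat.of (AddMonoidAlgebra A (MG n))

noncomputable def αc (A : CommRingCat.{u}) : A ⟶ BT n A := CommRingCat.ofHom singleZeroRingHom

noncomputable def αr (A : CommRingCat.{u}) : RT.{u} n ⟶ BT n A :=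
  CommRingCat.ofHom ((mapRingHom (MG n) (Int.castRingHom A)).comp ULift.ringEquiv.toRingHom)

theorem αc_apply (A : CommRingCat.{u}) (a : A) : αc (n := n) A a = single 0 a := rfl

theorem αr_single (A : CommRingCat.{u}) (e : MG n) :
    αr A (ULift.up (single e 1)) = (single e 1 : AddMonoidAlgebra A (MG n)) := by
  show mapRingHom (MG n) (Int.castRingHom A) (single e 1) = _
  simp

theorem hom_ext_BT {A C : CommRingCat.{u}} {f g : BT n A ⟶ C} (h1 : αc A ≫ f = αc A ≫ g)
    (h2 : αr A ≫ f = αr A ≫ g) : f = g := by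
  refine CommRingCat.hom_ext (AddMonoidAlgebra.ringHom_ext (fun r => congr($h1 r)) fun e => ?_)
  have := congr($h2 (ULift.up (single e 1)))
  exact (congrArg f.hom (αr_single A e)).symm.trans (this.trans (congrArg g.hom (αr_single A e)))

theorem RT_hom_ext {C : CommRingCat.{u}} {f g : RT.{u} n ⟶ C}
    (h : ∀ e, f (ULift.up (single e 1)) = g (ULift.up (single e 1))) : f = g := by
  refine CommRingCat.hom_ext (RingHom.ext fun x => ?_)
  let up : AddMonoidAlgebra ℤ (MG n) →+* ULift.{u} (AddMonoidAlgebra ℤ (MG n)) := ULift.ringEquiv.symm.toRingHom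
  exact RingHom.congr_fun (AddMonoidAlgebra.ringHom_ext (f := f.hom.comp up) (g := g.hom.comp up)
    (fun r => RingHom.congr_fun
      (RingHom.ext_int ((f.hom.comp up).comp singleZeroRingHom) ((g.hom.comp up).comp singleZeroRingHom)) r) h) x.down

theorem hom_eq {Z : Scheme.{u}} {A : CommRingCat.{u}} (f : Z ⟶ Spec A) :
    Z.toSpecΓ ≫ Spec.map ((Scheme.ΓSpecIso A).inv ≫ f.appTop) = f := by
  rw [Spec.map_comp, ← Category.assoc, ← Scheme.toSpecΓ_naturality, Category.assoc,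
    toSpecΓ_SpecMap_ΓSpecIso_inv, Category.comp_id]

theorem isPullback_spec (n : ℕ) (A : CommRingCat.{u}) :
    IsPullback (Spec.map (αr (n := n) A)) (Spec.map (αc A)) (terminal.from (Spec (RT.{u} n))) (terminal.from (Spec A)) := by
  refine ⟨⟨terminal.hom_ext _ _⟩, ⟨PullbackCone.IsLimit.mk _ (fun s =>
    s.pt.toSpecΓ ≫ Spec.map (CommRingCat.ofHom
      (AddMonoidAlgebra.liftNCRingHom ((Scheme.ΓSpecIso A).inv ≫ s.snd.appTop).hom
        (((((Scheme.ΓSpecIso (RT.{u} n)).inv ≫ s.fst.appTop).hom.comp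
          (ULift.ringEquiv (R := AddMonoidAlgebra ℤ (MG n))).symm.toRingHom) : _ →* _).comp
            (AddMonoidAlgebra.of ℤ (MG n))) fun _ _ => Commute.all _ _))) (fun s => ?_) (fun s => ?_) fun s m hm1 hm2 => ?_⟩⟩
  · conv_rhs => rw [← hom_eq s.fst]
    rw [Category.assoc, ← Spec.map_comp]
    congr 2
    refine RT_hom_ext fun e => ?_
    rw [CommRingCat.comp_apply, αr_single]
    erw [AddMonoidAlgebra.liftNCRingHom_single]
    on_goal 2 => exact fun _ _ => Commute.all _ _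
    rw [map_one, one_mul]
    rfl
  · conv_rhs => rw [← hom_eq s.snd]
    rw [Category.assoc, ← Spec.map_comp]
    congr 2
    refine CommRingCat.hom_ext (RingHom.ext fun a => ?_)
    show AddMonoidAlgebra.liftNCRingHom _ _ (fun _ _ => Commute.all _ _) (single 0 a) = _
    erw [AddMonoidAlgebra.liftNCRingHom_single]
    rw [show Multiplicative.ofAdd (0 : MG n) = 1 from rfl, map_one, mul_one]
  · conv_lhs => rw [← hom_eq m]
    congr 2
    refine hom_ext_BT ?_ ?_
    · refine Eq.trans ?_ (CommRingCat.hom_ext (RingHom.ext fun a => ?_) :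
        (Scheme.ΓSpecIso A).inv ≫ s.snd.appTop = αc A ≫ _)
      · rw [← hm2, Scheme.Hom.comp_appTop, Scheme.ΓSpecIso_inv_naturality_assoc]
      · show _ = AddMonoidAlgebra.liftNCRingHom _ _ (fun _ _ => Commute.all _ _) (single 0 a)
        erw [AddMonoidAlgebra.liftNCRingHom_single]
        rw [show Multiplicative.ofAdd (0 : MG n) = 1 from rfl, map_one, mul_one]
    · refine Eq.trans (b := (Scheme.ΓSpecIso (RT.{u} n)).inv ≫ s.fst.appTop) ?_ ?_
      · rw [← hm1, Scheme.Hom.comp_appTop, Scheme.ΓSpecIso_inv_naturality_assoc]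
      · refine RT_hom_ext fun e => ?_
        rw [CommRingCat.comp_apply (αr A), αr_single]
        erw [AddMonoidAlgebra.liftNCRingHom_single]
        on_goal 2 => exact fun _ _ => Commute.all _ _
        rw [map_one, one_mul]
        rfl

variable {X : Scheme.{u}}

noncomputable def gU (n : ℕ) {U : X.Opens} (hU : IsAffineOpen U) : Spec (BT n Γ(X, U)) ⟶ X ⨯ Spec (RT.{u} n) :=
  prod.lift (Spec.map (αc Γ(X, U)) ≫ hU.fromSpec) (Spec.map (αr Γ(X, U)))

theorem isPullback_gU {U : X.Opens} (hU : IsAffineOpen U) :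
    IsPullback (gU n hU) (Spec.map (αc Γ(X, U))) prod.fst hU.fromSpec := by
  refine IsPullback.of_right ?_ (prod.lift_fst _ _) (IsPullback.of_hasBinaryProduct' X (Spec (RT.{u} n))).flip
  convert isPullback_spec n Γ(X, U) using 1
  · exact prod.lift_snd _ _
  · exact terminal.hom_ext _ _

instance {U : X.Opens} (hU : IsAffineOpen U) : IsOpenImmersion (gU n hU) :=
  MorphismProperty.of_isPullback (isPullback_gU hU).flip (inferInstanceAs (IsOpenImmersion hU.fromSpec))

theorem gU_res {U W : X.Opens} (hU : IsAffineOpen U) (hW : IsAffineOpen W) (h : W ≤ U) :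
    Spec.map (CommRingCat.ofHom (mapRingHom (MG n) (X.presheaf.map (homOfLE h).op).hom)) ≫ gU n hU = gU n hW := by
  have e1 : αc (n := n) Γ(X, U) ≫ CommRingCat.ofHom (mapRingHom (MG n) (X.presheaf.map (homOfLE h).op).hom) =
      X.presheaf.map (homOfLE h).op ≫ αc Γ(X, W) := by
    refine CommRingCat.hom_ext (RingHom.ext fun a => ?_)
    show mapRingHom (MG n) _ (single 0 a) = single 0 _
    rw [AddMonoidAlgebra.mapRingHom_single]
    rfl
  have e2 : αr (n := n) Γ(X, U) ≫ CommRingCat.ofHom (mapRingHom (MG n) (X.presheaf.map (homOfLE h).op).hom) =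
      αr Γ(X, W) := by
    refine CommRingCat.hom_ext (RingHom.ext fun a => ?_)
    show mapRingHom (MG n) _ (mapRingHom (MG n) _ a.down) = mapRingHom (MG n) _ a.down
    rw [← RingHom.comp_apply, ← AddMonoidAlgebra.mapRingHom_comp, RingHom.ext_int (RingHom.comp _ (Int.castRingHom _)) (Int.castRingHom _)]
  refine prod.hom_ext ?_ ?_
  · rw [Category.assoc, gU, gU, prod.lift_fst, prod.lift_fst, ← Category.assoc, ← Spec.map_comp, e1, Spec.map_comp,
      Category.assoc, hU.map_fromSpec hW]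
  · rw [Category.assoc, gU, gU, prod.lift_snd, prod.lift_snd, ← Spec.map_comp, e2]

noncomputable def ev (n : ℕ) {U : X.Opens} (hU : IsAffineOpen U) :
    Γ(X ⨯ Spec (RT.{u} n), ⊤) ⟶ BT n Γ(X, U) :=
  (gU n hU).appTop ≫ (Scheme.ΓSpecIso _).hom

theorem ev_res {U W : X.Opens} (hU : IsAffineOpen U) (hW : IsAffineOpen W) (h : W ≤ U)
    (v : Γ(X ⨯ Spec (RT.{u} n), ⊤)) :
    mapRingHom (MG n) (X.presheaf.map (homOfLE h).op).hom (ev n hU v) = ev n hW v := by
  have : ev n hW = ev n hU ≫ CommRingCat.ofHom (mapRingHom (MG n) (X.presheaf.map (homOfLE h).op).hom) := by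
    rw [ev, ev, ← gU_res hU hW h, Scheme.Hom.comp_appTop, Category.assoc, Category.assoc,
      Scheme.ΓSpecIso_naturality]
  exact congr($this v).symm

theorem ev_fst {U : X.Opens} (hU : IsAffineOpen U) (a : Γ(X, ⊤)) :
    ev n hU ((prod.fst : X ⨯ Spec (RT.{u} n) ⟶ X).appTop a) =
      (single 0 (X.presheaf.map (homOfLE le_top).op a) : AddMonoidAlgebra Γ(X, U) (MG n)) := by
  have h1 : hU.fromSpec.appTop ≫ (Scheme.ΓSpecIso _).hom = X.presheaf.map (homOfLE le_top).op := by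
    rw [Scheme.Hom.appTop, hU.fromSpec_app_of_le ⊤ le_top]
    erw [Category.assoc, Category.assoc]
    change X.presheaf.map _ ≫ (Scheme.ΓSpecIso Γ(X, U)).inv ≫ (Spec Γ(X, U)).presheaf.map (𝟙 (op ⊤)) ≫ _ = _
    rw [CategoryTheory.Functor.map_id, Category.id_comp, Iso.inv_hom_id, Category.comp_id]
  have h2 : (prod.fst : X ⨯ Spec (RT.{u} n) ⟶ X).appTop ≫ ev n hU =
      X.presheaf.map (homOfLE le_top).op ≫ αc Γ(X, U) := by
    rw [ev, ← Category.assoc, ← Scheme.Hom.comp_appTop, gU, prod.lift_fst, Scheme.Hom.comp_appTop, Category.assoc,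
      Scheme.ΓSpecIso_naturality, ← Category.assoc, h1]
  exact congr($h2 a)

theorem ev_snd {U : X.Opens} (hU : IsAffineOpen U) (e : MG n) :
    ev n hU ((prod.snd : X ⨯ Spec (RT.{u} n) ⟶ Spec (RT.{u} n)).appTop
      ((Scheme.ΓSpecIso (RT.{u} n)).inv (ULift.up (single e 1)))) =
      (single e 1 : AddMonoidAlgebra Γ(X, U) (MG n)) := by
  have h2 : (Scheme.ΓSpecIso (RT.{u} n)).inv ≫ (prod.snd : X ⨯ Spec (RT.{u} n) ⟶ Spec (RT.{u} n)).appTop ≫ ev n hU =
      αr Γ(X, U) := by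
    rw [ev, ← Category.assoc (Scheme.Hom.appTop prod.snd), ← Scheme.Hom.comp_appTop, gU, prod.lift_snd,
      Scheme.ΓSpecIso_naturality, Iso.inv_hom_id_assoc]
  exact (congr($h2 (ULift.up (single e 1)))).trans (αr_single _ e)

theorem eq_of_ev {v w : Γ(X ⨯ Spec (RT.{u} n), ⊤)}
    (h : ∀ (U : X.Opens) (hU : IsAffineOpen U), Nonempty U → ev n hU v = ev n hU w) : v = w := by
  refine TopCat.Sheaf.eq_of_locally_eq' (X ⨯ Spec (RT.{u} n)).sheaf
    (fun U : {U : X.affineOpens // Nonempty U.1} => (gU n U.1.2).opensRange) ⊤ (fun U => homOfLE le_top)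
    (fun p _ => ?_) v w fun ⟨⟨U, (hU : IsAffineOpen U)⟩, hne⟩ => ?_
  · obtain ⟨_, ⟨U, hU, rfl⟩, hxU, -⟩ :=
      X.isBasis_affineOpens.exists_subset_of_mem_open (Set.mem_univ ((prod.fst : X ⨯ Spec (RT.{u} n) ⟶ X) p)) isOpen_univ
    refine Opens.mem_iSup.2 ⟨⟨⟨U, hU⟩, ⟨⟨_, hxU⟩⟩⟩, ?_⟩
    obtain ⟨q, hq⟩ : (prod.fst : X ⨯ Spec (RT.{u} n) ⟶ X) p ∈ Set.range hU.fromSpec := by
      rw [hU.range_fromSpec]; exact hxU
    obtain ⟨w, hw, -⟩ := AlgebraicGeometry.Scheme.exists_preimage_of_isPullback (isPullback_gU (n := n) hU) p q hq.symm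
    exact ⟨w, hw⟩
  · have h1 := h U hU hne
    have h2 := (ConcreteCategory.bijective_of_isIso (Scheme.ΓSpecIso (BT n Γ(X, U))).hom).1 h1
    let g := gU n hU
    have key : g.appTop = (X ⨯ Spec (RT.{u} n)).presheaf.map (homOfLE le_top : g.opensRange ⟶ ⊤).op ≫
        g.appLE g.opensRange ⊤ (g.preimage_opensRange).ge := by
      rw [Scheme.Hom.map_appLE, Scheme.Hom.appLE, Scheme.Hom.appTop]
      simp
    have hi : IsIso (g.appLE g.opensRange ⊤ (g.preimage_opensRange).ge) := by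
      rw [Scheme.Hom.appLE]
      haveI := g.isIso_app g.opensRange le_rfl
      haveI : IsIso ((Spec (BT n Γ(X, U))).presheaf.map (homOfLE (g.preimage_opensRange).ge).op) := by
        rw [Subsingleton.elim (homOfLE (g.preimage_opensRange).ge) (eqToHom g.preimage_opensRange.symm)]
        infer_instance
      infer_instance
    refine (ConcreteCategory.bijective_of_isIso (g.appLE g.opensRange ⊤ (g.preimage_opensRange).ge)).1 ?_
    exact (congr($key v)).symm.trans (h2.trans congr($key w))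

theorem single_inj {A : Type u} [CommRing A] [Nontrivial A] {e e' : MG n} {a a' : A} (ha : IsUnit a)
    (h : (single e a : AddMonoidAlgebra A (MG n)) = single e' a') : e = e' ∧ a = a' := by
  classical
  have h1 := congrArg (fun z : AddMonoidAlgebra A (MG n) => z.coeff e) h
  simp only [AddMonoidAlgebra.coeff_single, Finsupp.single_apply, if_true] at h1
  by_cases he : e' = e
  · rw [if_pos he] at h1; exact ⟨he.symm, h1⟩
  · rw [if_neg he] at h1; exact absurd h1 ha.ne_zero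

theorem exists_single {A : Type u} [CommRing A] [IsDomain A] {x : AddMonoidAlgebra A (MG n)} (hx : IsUnit x) :
    ∃ (e : MG n) (a : A), IsUnit a ∧ x = single e a := by
  classical
  obtain ⟨e, a, ha, h⟩ := Groth.Agent.S13793.exists_eq_single hx.unit
  obtain ⟨e', a', ha', h'⟩ := Groth.Agent.S13793.exists_eq_single hx.unit⁻¹
  refine ⟨e, a, ?_, h⟩
  have h1 : (single e a : AddMonoidAlgebra A (MG n)) * single e' a' = 1 := by
    rw [← h, ← h', Units.mul_inv]
  rw [AddMonoidAlgebra.single_mul_single, AddMonoidAlgebra.one_def] at h1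
  have h2 := congrArg (fun z : AddMonoidAlgebra A (MG n) => z.coeff (e + e')) h1
  simp only [AddMonoidAlgebra.coeff_single, Finsupp.single_apply, if_true] at h2
  split_ifs at h2
  · exact IsUnit.of_mul_eq_one _ h2
  · exact absurd h2 (mul_ne_zero ha ha')

end


/-- Units on tori: let X be an integral scheme and P = X × 𝔾_mⁿ, the product with the n-dimensional
split torus Spec ℤ[ℤⁿ] = Spec ℤ[t₁^±, …, t_n^±]. The canonical map Γ(X, O_X)ˣ × ℤⁿ → Γ(P, O_P)ˣ, (u,
e) ↦ pr₁^*(u) · pr₂^*(t^e), is an isomorphism: every invertible global function on P is uniquely of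
this form. -/
theorem result (X : Scheme.{u}) [IsIntegral X] (n : ℕ)
    (v : Γ(X ⨯ Spec (CommRingCat.of (ULift.{u} (AddMonoidAlgebra ℤ (Fin n → ℤ)))), ⊤)) (hv : IsUnit v) :
    ∃! p : (Γ(X, ⊤))ˣ × (Fin n → ℤ),
      v = (prod.fst : X ⨯ Spec (CommRingCat.of (ULift.{u} (AddMonoidAlgebra ℤ (Fin n → ℤ)))) ⟶ X).appTop (p.1 : Γ(X, ⊤)) *
        (prod.snd : X ⨯ Spec (CommRingCat.of (ULift.{u} (AddMonoidAlgebra ℤ (Fin n → ℤ)))) ⟶ Spec (CommRingCat.of (ULift.{u} (AddMonoidAlgebra ℤ (Fin n → ℤ))))).appTop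
          ((Scheme.ΓSpecIso (CommRingCat.of (ULift.{u} (AddMonoidAlgebra ℤ (Fin n → ℤ))))).inv (ULift.up (AddMonoidAlgebra.single p.2 1))) := by
  classical
  have hdata : ∀ U : {U : X.affineOpens // Nonempty U.1}, ∃ (e : MG n) (a : Γ(X, U.1.1)), IsUnit a ∧
      ev n U.1.2 v = (AddMonoidAlgebra.single e a : AddMonoidAlgebra Γ(X, U.1.1) (MG n)) := fun U => by
    haveI := U.2
    exact exists_single (hv.map (ev n U.1.2).hom)
  choose e a ha hea using hdata
  obtain ⟨x₀⟩ : Nonempty ↥X := inferInstance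
  obtain ⟨_, ⟨U₀, hU₀, rfl⟩, hx₀, -⟩ :=
    X.isBasis_affineOpens.exists_subset_of_mem_open (Set.mem_univ x₀) isOpen_univ
  let I₀ : {U : X.affineOpens // Nonempty U.1} := ⟨⟨U₀, hU₀⟩, ⟨⟨x₀, hx₀⟩⟩⟩
  have hcompat : ∀ (U V : {U : X.affineOpens // Nonempty U.1}) (W : X.Opens) (hW : IsAffineOpen W) (_ : Nonempty W)
      (hWU : W ≤ U.1.1) (hWV : W ≤ V.1.1), e U = e V ∧
        X.presheaf.map (homOfLE hWU).op (a U) = X.presheaf.map (homOfLE hWV).op (a V) := by
    intro U V W hW hne hWU hWV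
    have h1 := ev_res U.1.2 hW hWU v
    have h2 := ev_res V.1.2 hW hWV v
    rw [hea] at h1 h2
    simp only [AddMonoidAlgebra.mapRingHom_single] at h1 h2
    exact single_inj ((ha U).map _) (h1.trans h2.symm)
  have he : ∀ U, e U = e I₀ := by
    intro U
    obtain ⟨y, hyU, hy0⟩ := nonempty_preirreducible_inter U.1.1.isOpen U₀.isOpen
      (Set.nonempty_coe_sort.1 U.2) ⟨x₀, hx₀⟩
    obtain ⟨_, ⟨W, hW, rfl⟩, hyW, hWle : W ≤ U.1.1 ⊓ U₀⟩ :=
      X.isBasis_affineOpens.exists_subset_of_mem_open (show y ∈ ((U.1.1 ⊓ U₀ : X.Opens) : Set X) from ⟨hyU, hy0⟩)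
        (U.1.1 ⊓ U₀).isOpen
    exact (hcompat U I₀ W hW ⟨⟨y, hyW⟩⟩ (hWle.trans inf_le_left) (hWle.trans inf_le_right)).1
  have hcov : (⊤ : X.Opens) ≤ ⨆ U : {U : X.affineOpens // Nonempty U.1}, U.1.1 := fun x _ => by
    obtain ⟨_, ⟨W, hW, rfl⟩, hxW, -⟩ :=
      X.isBasis_affineOpens.exists_subset_of_mem_open (Set.mem_univ x) isOpen_univ
    exact TopologicalSpace.Opens.mem_iSup.2 ⟨⟨⟨W, hW⟩, ⟨⟨x, hxW⟩⟩⟩, hxW⟩
  obtain ⟨s, hs, hsu⟩ := TopCat.Sheaf.existsUnique_gluing' X.sheaf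
    (fun U : {U : X.affineOpens // Nonempty U.1} => U.1.1) ⊤ (fun U => homOfLE le_top) hcov a fun U V => by
      refine TopCat.Sheaf.eq_of_locally_eq' X.sheaf
        (fun W : {W : X.affineOpens // Nonempty W.1 ∧ W.1 ≤ U.1.1 ⊓ V.1.1} => W.1.1) (U.1.1 ⊓ V.1.1)
        (fun W => homOfLE W.2.2) (fun x hx => ?_) _ _ fun W => ?_
      · obtain ⟨_, ⟨W, hW, rfl⟩, hxW, hWle⟩ :=
          X.isBasis_affineOpens.exists_subset_of_mem_open hx (U.1.1 ⊓ V.1.1).isOpen
        exact TopologicalSpace.Opens.mem_iSup.2 ⟨⟨⟨W, hW⟩, ⟨⟨x, hxW⟩⟩, hWle⟩, hxW⟩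
      · have := (hcompat U V W.1.1 W.1.2 W.2.1 (W.2.2.trans inf_le_left) (W.2.2.trans inf_le_right)).2
        refine Eq.trans ?_ (this.trans ?_)
        · exact (ConcreteCategory.congr_hom (X.presheaf.map_comp (TopologicalSpace.Opens.infLELeft U.1.1 V.1.1).op (homOfLE W.2.2).op) (a U)).symm
        · exact ConcreteCategory.congr_hom (X.presheaf.map_comp (TopologicalSpace.Opens.infLERight U.1.1 V.1.1).op (homOfLE W.2.2).op) (a V)
  have hsu' : IsUnit s := by
    refine X.toRingedSpace.isUnit_of_isUnit_germ ⊤ s fun x _ => ?_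
    obtain ⟨U, hU⟩ := TopologicalSpace.Opens.mem_iSup.1 (hcov (show x ∈ ⊤ from trivial))
    have h1 : x ∈ X.basicOpen (X.presheaf.map (homOfLE le_top : U.1.1 ⟶ ⊤).op s) := by
      rw [show X.presheaf.map (homOfLE le_top : U.1.1 ⟶ ⊤).op s = a U from hs U, X.basicOpen_of_isUnit (ha U)]
      exact hU
    rw [X.basicOpen_res] at h1
    exact (X.mem_basicOpen s x trivial).1 h1.2
  have hev : ∀ (p : (Γ(X, ⊤))ˣ × MG n) (U : X.Opens) (hU : IsAffineOpen U),
      ev n hU ((prod.fst : X ⨯ Spec (RT.{u} n) ⟶ X).appTop (p.1 : Γ(X, ⊤)) *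
        (prod.snd : X ⨯ Spec (RT.{u} n) ⟶ Spec (RT.{u} n)).appTop
          ((Scheme.ΓSpecIso (RT.{u} n)).inv (ULift.up (AddMonoidAlgebra.single p.2 1)))) =
        (AddMonoidAlgebra.single p.2 (X.presheaf.map (homOfLE le_top).op (p.1 : Γ(X, ⊤))) :
          AddMonoidAlgebra Γ(X, U) (MG n)) := by
    intro p U hU
    rw [map_mul, ev_fst, ev_snd, AddMonoidAlgebra.single_mul_single, zero_add, mul_one]
  refine ⟨(hsu'.unit, e I₀), eq_of_ev fun U hU hne => ?_, fun p hp => ?_⟩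
  · rw [hev]
    rw [hea ⟨⟨U, hU⟩, hne⟩, he]
    exact congrArg (AddMonoidAlgebra.single (e I₀)) (hs ⟨⟨U, hU⟩, hne⟩).symm
  · have key : ∀ U : {U : X.affineOpens // Nonempty U.1},
        p.2 = e U ∧ X.presheaf.map (homOfLE le_top : U.1.1 ⟶ ⊤).op (p.1 : Γ(X, ⊤)) = a U := fun U => by
      haveI := U.2
      exact single_inj (p.1.isUnit.map _) ((hev p U.1.1 U.1.2).symm.trans ((congrArg (ev n U.1.2) hp.symm).trans (hea U)))
    refine Prod.ext (Units.ext ?_) (key I₀).1
    exact hsu _ fun U => (key U).2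

end Groth.Agent.S13798
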