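import Groth.Statements.S1380
import Groth.Agent.EtResSplitLib.Main

set_option autoImplicit false
set_option backward.isDefEq.respectTransparency false
set_option backward.isDefEq.respectTransparency.types false
set_option maxHeartbeats 1000000
universe u
open FlatMor

namespace Groth.Agent.S1380


section Helpers
end Helpers

open TensorProduct in
/-- Let R → S be integral and p a prime of R with only finitely many primes of S above it, such that for
each of them the separable closure of κ(p) in its residue field is finite over κ(p). Then there are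
an étale R-algebra R' and a prime p' of R' over p such that R' ⊗ S is a finite product of
R'-algebras, each integral over R' with exactly one prime over p', whose residue field is purely
inseparable over κ(p'). -/
theorem result {R S : Type u} [CommRing R] [CommRing S] [Algebra R S] [Algebra.IsIntegral R S]
    (p : Ideal R) [p.IsPrime] (hfin : {q : PrimeSpectrum S | q.asIdeal.comap (algebraMap R S) = p}.Finite)
    (hsep : ∀ (q : PrimeSpectrum S) (hq : q.asIdeal.comap (algebraMap R S) = p),
      letI := (Ideal.ResidueField.map p q.asIdeal (algebraMap R S) hq.symm).toAlgebra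
      Module.Finite p.ResidueField (separableClosure p.ResidueField q.asIdeal.ResidueField)) :
    ∃ (R' : Type u) (_ : CommRing R') (_ : Algebra R R') (p' : PrimeSpectrum R'), Algebra.Etale R R' ∧ p'.asIdeal.comap (algebraMap R R') = p ∧
      ∃ (m : ℕ) (A : Fin m → Type u) (_ : ∀ j, CommRing (A j)) (_ : ∀ j, Algebra R' (A j)) (e : R' ⊗[R] S ≃ₐ[R'] (Π j, A j)),
        ∀ j, Algebra.IsIntegral R' (A j) ∧ ∃ (r : PrimeSpectrum (A j)) (hr : r.asIdeal.comap (algebraMap R' (A j)) = p'.asIdeal),
          (∀ r' : PrimeSpectrum (A j), r'.asIdeal.comap (algebraMap R' (A j)) = p'.asIdeal → r' = r) ∧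
          letI := (Ideal.ResidueField.map p'.asIdeal r.asIdeal (algebraMap R' (A j)) hr.symm).toAlgebra
          IsPurelyInseparable p'.asIdeal.ResidueField r.asIdeal.ResidueField := by
  haveI : Finite {q : PrimeSpectrum S // q.asIdeal.comap (algebraMap R S) = p} := hfin.to_subtype
  letI : ∀ q : {q : PrimeSpectrum S // q.asIdeal.comap (algebraMap R S) = p},
      Algebra p.ResidueField q.1.asIdeal.ResidueField := fun q =>
    (Ideal.ResidueField.map p q.1.asIdeal (algebraMap R S) q.2.symm).toAlgebra
  obtain ⟨K, _, _, hKfin, hKsep, hK⟩ := EtResSplitLib.exists_splitting_field (k := p.ResidueField)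
    (fun q : {q : PrimeSpectrum S // q.asIdeal.comap (algebraMap R S) = p} => q.1.asIdeal.ResidueField)
    (fun q => hsep q.1 q.2)
  letI : Algebra R K := ((algebraMap p.ResidueField K).comp (algebraMap R p.ResidueField)).toAlgebra
  haveI : IsScalarTower R p.ResidueField K := IsScalarTower.of_algebraMap_eq fun _ => rfl
  obtain ⟨R₁, _, _, _, p₁, _, _, ⟨ι⟩⟩ := EtResSplitLib.exists_etale_residue p K
  refine EtResSplitLib.exists_split p p₁ (EtResSplitLib.finite_primesOver_baseChange p hfin p₁) ?_
  intro R' _ _ _ _ p' _ _ hp q hq hq' y
  intro hy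
  have hK' := hK ⟨⟨q, hq⟩, hq'.symm⟩ y hy
  let τ : K →+* p'.ResidueField :=
    (Ideal.ResidueField.map p₁ p' (algebraMap R₁ R') (Ideal.LiesOver.over (P := p') (p := p₁))).comp ι.toRingHom
  have hτ : τ.comp (algebraMap p.ResidueField K) = Ideal.ResidueField.map p p' (algebraMap R R') hp := by
    refine IsLocalization.ringHom_ext (nonZeroDivisors (R ⧸ p)) (Ideal.Quotient.ringHom_ext (RingHom.ext fun a => ?_))
    show τ (algebraMap p.ResidueField K (algebraMap R p.ResidueField a)) =
      Ideal.ResidueField.map p p' _ hp (algebraMap R p.ResidueField a)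
    rw [← IsScalarTower.algebraMap_apply R p.ResidueField K, Ideal.ResidueField.map_algebraMap]
    show Ideal.ResidueField.map p₁ p' _ _ (ι (algebraMap R K a)) = _
    rw [ι.commutes, IsScalarTower.algebraMap_apply R R₁ p₁.ResidueField, Ideal.ResidueField.map_algebraMap,
      ← IsScalarTower.algebraMap_apply R R₁ R']
  rw [← hτ, ← Polynomial.map_map]
  exact hK'.map τ

end Groth.Agent.S1380
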