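import Groth.Statements.S13800
import Groth.Agent.EtPnCohLib.Punct
import Mathlib.LinearAlgebra.Lagrange

set_option autoImplicit false
set_option backward.isDefEq.respectTransparency false
set_option backward.isDefEq.respectTransparency.types false
set_option maxHeartbeats 2000000
set_option synthInstance.maxHeartbeats 400000
attribute [local instance] EtSliceLib.pullExact
set_option backward.isDefEq.respectTransparency false
set_option backward.isDefEq.respectTransparency.types false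
set_option maxHeartbeats 1000000
set_option synthInstance.maxHeartbeats 400000
universe u
open CategoryTheory AlgebraicGeometry Polynomial
open EtCoh

namespace Groth.Agent.S13800

/-- Let k be an algebraically closed field, ℓ ≥ 1 an integer invertible in k, and a₁, …, a_r (r ≥ 1)
distinct elements of k, viewed as k-points of the affine line 𝔸¹_k = Spec k[x]. Let j : U → 𝔸¹_k be
an open immersion whose image is the complement of these points (the basic open set of ∏ (x − a_i)),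
and let j_! μ_ℓ be the extension by zero of the sheaf of ℓ-th roots of unity on the small étale
site. Then H^s(𝔸¹_k, j_! μ_ℓ) = 0 for s ≠ 1, and H¹(𝔸¹_k, j_! μ_ℓ) is isomorphic to μ_ℓ(k)^(r−1)
(existence of an isomorphism of abelian groups). -/
theorem result {k : Type u} [Field k] [IsAlgClosed k]
    (ℓ : ℕ) (hℓ : (ℓ : k) ≠ 0) (r : ℕ) (hr : 0 < r) (a : Fin r → k) (ha : Function.Injective a)
    {U : Scheme.{u}} (j : U ⟶ Spec (CommRingCat.of k[X])) [IsOpenImmersion j] [Etale j] [EtShriek.JCont j]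
    (hj : j.opensRange = (Spec (CommRingCat.of k[X])).basicOpen ((Scheme.ΓSpecIso (CommRingCat.of k[X])).inv
      (Finset.univ.prod fun i => (X - C (a i))))) :
    (∀ s : ℕ, s ≠ 1 → Subsingleton (EtCoh.H (Spec (CommRingCat.of k[X])) ((EtShriek.extZero j).obj (EtCoh.mu U ℓ)) s)) ∧
      Nonempty (EtCoh.H (Spec (CommRingCat.of k[X])) ((EtShriek.extZero j).obj (EtCoh.mu U ℓ)) 1 ≃+
        (Fin (r - 1) → Additive (rootsOfUnity ℓ k))) := by
  obtain ⟨m, rfl⟩ : ∃ m, r = m + 1 := ⟨r - 1, by omega⟩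
  have hℓ0 : 0 < ℓ := Nat.pos_of_ne_zero fun h => hℓ (by rw [h, Nat.cast_zero])
  haveI : NeZero ℓ := ⟨hℓ0.ne'⟩
  let X' : Scheme.{u} := Spec (CommRingCat.of k[X])
  let b : X' ⟶ Spec (CommRingCat.of k) := Spec.map (CommRingCat.ofHom (Polynomial.C : k →+* k[X]))
  let ev : k[X] →+* (Fin (m + 1) → k) := RingHom.pi fun i => Polynomial.evalRingHom (a i)
  have hsurj : Function.Surjective ev := fun y =>
    ⟨Lagrange.interpolate Finset.univ a y, funext fun i =>
      Lagrange.eval_interpolate_at_node y ha.injOn (Finset.mem_univ i)⟩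
  let Z : Scheme.{u} := Spec (CommRingCat.of (Fin (m + 1) → k))
  let i : Z ⟶ X' := Spec.map (CommRingCat.ofHom ev)
  haveI : IsClosedImmersion i := IsClosedImmersion.spec_of_surjective _ hsurj
  let σ : (Σ _ : Fin (m + 1), PrimeSpectrum k) → PrimeSpectrum (Fin (m + 1) → k) :=
    PrimeSpectrum.sigmaToPi (fun _ : Fin (m + 1) => k)
  have hσ : Function.Bijective σ := PrimeSpectrum.sigmaToPi_bijective _
  haveI : DiscreteTopology Z := by
    haveI : IsArtinianRing (Fin (m + 1) → k) := IsArtinianRing.of_finite k (Fin (m + 1) → k)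
    exact inferInstanceAs (DiscreteTopology (PrimeSpectrum (Fin (m + 1) → k)))
  let eZ : ↥Z ≃ Fin (m + 1) :=
    (Equiv.ofBijective σ hσ).symm.trans (Equiv.sigmaUnique (Fin (m + 1)) (fun _ => PrimeSpectrum k))
  let P : k[X] := Finset.univ.prod fun i => (Polynomial.X - Polynomial.C (a i))
  have hP : ∀ x : X', x ∈ j.opensRange ↔ P ∉ (x : PrimeSpectrum k[X]).asIdeal := fun x => by
    rw [hj, basicOpen_eq_of_affine]
    exact PrimeSpectrum.mem_basicOpen _ _
  have hrange : Set.range j.base = (Set.range i.base)ᶜ := by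
    ext x
    show x ∈ j.opensRange ↔ ¬ x ∈ Set.range i.base
    rw [hP, not_iff_not]
    constructor
    · intro hx
      obtain ⟨t, -, ht⟩ := Ideal.IsPrime.prod_mem_iff.1 hx
      refine ⟨σ ⟨t, ⊥⟩, PrimeSpectrum.ext ?_⟩
      show Ideal.comap ev (Ideal.comap (Pi.evalRingHom (fun _ : Fin (m + 1) => k) t) ⊥) = _
      rw [Ideal.comap_comap]
      change RingHom.ker (Polynomial.evalRingHom (a t)) = _
      have hker : RingHom.ker (Polynomial.evalRingHom (a t)) = Ideal.span {Polynomial.X - Polynomial.C (a t)} := by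
        ext g
        rw [RingHom.mem_ker, Ideal.mem_span_singleton, Polynomial.dvd_iff_isRoot]
        rfl
      have hmax : (RingHom.ker (Polynomial.evalRingHom (a t))).IsMaximal :=
        RingHom.ker_isMaximal_of_surjective _ fun c => ⟨Polynomial.C c, Polynomial.eval_C⟩
      refine hmax.eq_of_le (PrimeSpectrum.isPrime _).ne_top ?_
      rw [hker]
      exact (Ideal.span_singleton_le_iff_mem _).2 ht
    · rintro ⟨z, rfl⟩
      show ev P ∈ (z : PrimeSpectrum (Fin (m + 1) → k)).asIdeal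
      have : ev P = 0 := funext fun t => by
        show Polynomial.eval (a t) P = 0
        rw [Polynomial.eval_prod]
        exact Finset.prod_eq_zero (Finset.mem_univ t) (by simp)
      rw [this]
      exact Ideal.zero_mem _
  obtain ⟨A, f, w, hS, hA, hZ⟩ := EtPnCohLib.exists_seq j i hrange ℓ
  obtain ⟨μ⟩ := CurveH2Lib.mu_iso_const k (j ≫ b) ℓ hℓ
  have hμ : ∀ s, Nonempty (EtCoh.H X' ((EtShriek.extZero j).obj (EtCoh.mu U ℓ)) s ≃+ EtCoh.H X' A s) := fun s => by
    obtain ⟨e⟩ := hA s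
    obtain ⟨c⟩ := EtPnCohLib.nonempty_H_congr ((EtShriek.extZero j).mapIso μ) s
    exact ⟨c.trans e.symm⟩
  have hC : ∀ q, 1 ≤ q → Subsingleton (EtCoh.H X' (EtPnCohLib.cn X' ℓ) q) := fun q hq =>
    EtSmAcycLib.subsingleton_H_aLine k ℓ hℓ q hq
  have h3 : ∀ q, 1 ≤ q → Subsingleton (EtCoh.H X' ((EtCoh.push i).obj ((EtCoh.pull i).obj (EtPnCohLib.cn X' ℓ))) q) := by
    intro q hq
    obtain ⟨z⟩ := hZ q
    obtain ⟨q', rfl⟩ : ∃ q', q = q' + 1 := ⟨q - 1, by omega⟩
    haveI : IsFinite (Spec.map (CommRingCat.ofHom (algebraMap k (Fin (m + 1) → k)))) := by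
      rw [IsFinite.SpecMap_iff]
      exact RingHom.finite_algebraMap.2 inferInstance
    haveI : Subsingleton (EtCoh.H Z (EtPnCohLib.cn Z ℓ) (q' + 1)) :=
      LocAcycPointLib.subsingleton_H_finite (Spec.map (CommRingCat.ofHom (algebraMap k (Fin (m + 1) → k)))) _ q'
    exact z.toEquiv.subsingleton
  haveI : IsDomain k[X] := inferInstance
  haveI : IrreducibleSpace ↥X' := inferInstanceAs (IrreducibleSpace (PrimeSpectrum k[X]))
  let t : Spec (CommRingCat.of k) ⟶ Z := Spec.map (CommRingCat.ofHom (Pi.evalRingHom (fun _ : Fin (m + 1) => k) 0))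
  have ht : (t ≫ i) ≫ b = 𝟙 _ := by
    simp only [t, i, b, ← Spec.map_comp, ← Spec.map_id]
    refine congrArg Spec.map (CommRingCat.hom_ext (RingHom.ext fun c => ?_))
    exact Polynomial.eval_C
  haveI : ConnectedSpace ↥(Spec (CommRingCat.of k)) := inferInstanceAs (ConnectedSpace (PrimeSpectrum k))
  have hinj := EtPnCohLib.injective_unit_zero_of_point b i t ht ℓ hℓ0
  refine ⟨fun s hs => ?_, ?_⟩
  · obtain ⟨c⟩ := hμ s
    haveI : Subsingleton (EtCoh.H X' A s) := by
      rcases (by omega : s = 0 ∨ 2 ≤ s) with rfl | h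
      · exact EtPnCohLib.les_edge_zero (EtCoh.const X' ℤ) hS hinj
      · obtain ⟨q, rfl⟩ : ∃ q, s = q + 1 := ⟨s - 1, by omega⟩
        obtain ⟨e⟩ := EtPnCohLib.les_left (EtCoh.const X' ℤ) hS q (h3 q (by omega)) (h3 (q + 1) (by omega))
        haveI := hC (q + 1) (by omega)
        exact e.toEquiv.subsingleton
    exact c.toEquiv.subsingleton
  · obtain ⟨c⟩ := hμ 1
    let H2 := Abelian.Ext.{u + 1} (EtCoh.const X' ℤ) (EtPnCohLib.cn X' ℓ) 0
    let H3 := Abelian.Ext.{u + 1} (EtCoh.const X' ℤ)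
      ((EtCoh.push i).obj ((EtCoh.pull i).obj (EtPnCohLib.cn X' ℓ))) 0
    obtain ⟨e2⟩ := EtSmAcycLib.nonempty_H_zero_const_connected (Y := X') (ZMod ℓ)
    obtain ⟨z⟩ := hZ 0
    obtain ⟨d⟩ := EtPnCohLib.nonempty_H_zero_discrete (Y := Z) (ZMod ℓ)
    let e3 : H3 ≃+ (Fin (m + 1) → ZMod ℓ) :=
      (z.trans d).trans (AddEquiv.arrowCongr eZ (AddEquiv.refl (ZMod ℓ)))
    let g : H2 →+ H3 := TorsBCLib.em.{u + 1} (EtCoh.const X' ℤ) ((EtCoh.pullPushAdj i).unit.app (EtPnCohLib.cn X' ℓ)) 0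
    let φ : ZMod ℓ →+ (Fin (m + 1) → ZMod ℓ) := e3.toAddMonoidHom.comp (g.comp e2.symm.toAddMonoidHom)
    obtain ⟨Q, hQ, hker⟩ := EtPnCohLib.exists_cokernel φ (e3.injective.comp (hinj.comp e2.symm.injective))
    let δ : H3 →+ Abelian.Ext.{u + 1} (EtCoh.const X' ℤ) A 1 :=
      AddMonoidHom.mk' (fun x => x.comp hS.extClass rfl) fun x y => Abelian.Ext.add_comp _ _ _ _
    have hδ : Function.Surjective δ := fun y => by
      haveI : Subsingleton (Abelian.Ext.{u + 1} (EtCoh.const X' ℤ) (EtPnCohLib.cn X' ℓ) 1) := hC 1 le_rfl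
      obtain ⟨x, hx⟩ := Abelian.Ext.covariant_sequence_exact₁ _ hS (n₁ := 1) y (Subsingleton.elim _ _) (n₀ := 0) rfl
      exact ⟨x, hx⟩
    have hδk : δ.ker = g.range := by
      ext x
      rw [AddMonoidHom.mem_ker, AddMonoidHom.mem_range]
      refine ⟨fun hx => Abelian.Ext.covariant_sequence_exact₃ _ hS x (rfl : 0 + 1 = 1) hx, ?_⟩
      rintro ⟨y, rfl⟩
      exact TorsBCLib.g_delta hS rfl y
    let ψ : H3 →+ (Fin m → ZMod ℓ) := Q.comp e3.toAddMonoidHom
    have hψ : Function.Surjective ψ := hQ.comp e3.surjective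
    have hψk : ψ.ker = δ.ker := by
      ext x
      rw [hδk, AddMonoidHom.mem_ker, AddMonoidHom.mem_range]
      show Q (e3 x) = 0 ↔ _
      rw [← AddMonoidHom.mem_ker, hker, AddMonoidHom.mem_range]
      constructor
      · rintro ⟨t, ht⟩; exact ⟨e2.symm t, e3.injective ht⟩
      · rintro ⟨y, rfl⟩; exact ⟨e2 y, congrArg (fun v => e3 (g v)) (e2.symm_apply_apply y)⟩
    let E : (Fin m → ZMod ℓ) ≃+ Abelian.Ext.{u + 1} (EtCoh.const X' ℤ) A 1 :=
      (QuotientAddGroup.quotientKerEquivOfSurjective ψ hψ).symm.trans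
        ((QuotientAddGroup.quotientAddEquivOfEq hψk).trans (QuotientAddGroup.quotientKerEquivOfSurjective δ hδ))
    haveI : NeZero (ℓ : k) := ⟨hℓ⟩
    obtain ⟨ζ, hζ⟩ := HasEnoughRootsOfUnity.exists_primitiveRoot k ℓ
    haveI : IsCyclic (rootsOfUnity ℓ k) := rootsOfUnity.isCyclic k ℓ
    have hcard : Nat.card (Additive (rootsOfUnity ℓ k)) = ℓ := by
      rw [Nat.card_congr Additive.toMul]
      exact HasEnoughRootsOfUnity.natCard_rootsOfUnity k ℓ
    let eμ : ZMod ℓ ≃+ Additive (rootsOfUnity ℓ k) :=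
      addEquivOfAddCyclicCardEq ((Nat.card_zmod ℓ).trans hcard.symm)
    exact ⟨c.trans (E.symm.trans (AddEquiv.arrowCongr (Equiv.refl (Fin m)) eμ))⟩

end Groth.Agent.S13800
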