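import Groth.Statements.S13801
import Mathlib

set_option autoImplicit false
open ChowMon

namespace Groth.Agent.S13801

/-- For a prime p and positive natural numbers a_1, ..., a_k with sum n one has v_p(a_1!) + ... +
v_p(a_k!) ≤ v_p(n!), and the inequality is strict whenever some a_i is not divisible by p^(v_p(n)). -/
theorem result {k : ℕ} (p : ℕ) [Fact p.Prime]
    (a : Fin k → ℕ) (ha : ∀ i, 0 < a i) :
    (∑ i, padicValNat p (a i).factorial ≤ padicValNat p (∑ i, a i).factorial) ∧
      ((∃ i, ¬ p ^ padicValNat p (∑ j, a j) ∣ a i) →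
        ∑ i, padicValNat p (a i).factorial < padicValNat p (∑ i, a i).factorial) := by
  have hpp : p.Prime := Fact.out
  set N := ∑ i, a i with hN
  set P := ∏ i, (a i).factorial with hP
  have hP0 : P ≠ 0 := Finset.prod_ne_zero_iff.2 fun i _ => Nat.factorial_ne_zero _
  have hsum : padicValNat p P = ∑ i, padicValNat p (a i).factorial := by
    rw [hP]
    induction (Finset.univ : Finset (Fin k)) using Finset.cons_induction with
    | empty => simp
    | cons j s hj ih =>
      rw [Finset.prod_cons, Finset.sum_cons, padicValNat.mul (Nat.factorial_ne_zero _)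
        (Finset.prod_ne_zero_iff.2 fun i _ => Nat.factorial_ne_zero _), ih]
  have hmono : ∀ {m n : ℕ}, m ∣ n → n ≠ 0 → padicValNat p m ≤ padicValNat p n := by
    intro m n h hn
    obtain ⟨c, rfl⟩ := h
    rw [padicValNat.mul (left_ne_zero_of_mul hn) (right_ne_zero_of_mul hn)]
    exact Nat.le_add_right _ _
  refine ⟨hsum ▸ hmono (Nat.prod_factorial_dvd_factorial_sum _ _) (Nat.factorial_ne_zero _), ?_⟩
  rintro ⟨i, hi⟩
  have hle : a i ≤ N := Finset.single_le_sum (fun j _ => Nat.zero_le (a j)) (Finset.mem_univ i)
  have hC : p ∣ N.choose (a i) := by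
    by_contra h
    apply hi
    have h1 : a i * N.choose (a i) = N * (N - 1).choose (a i - 1) := by
      have hid := Nat.add_one_mul_choose_eq (N - 1) (a i - 1)
      have := ha i
      rw [Nat.sub_add_cancel (by omega),
        Nat.sub_add_cancel (by omega)] at hid
      rw [hid, mul_comm]
    have h2 : p ^ padicValNat p N ∣ a i * N.choose (a i) := h1 ▸ (pow_padicValNat_dvd).mul_right _
    exact (Nat.Coprime.pow_left _ (hpp.coprime_iff_not_dvd.2 h)).dvd_of_dvd_mul_right h2
  have hdvd : N.choose (a i) * P ∣ N.factorial := by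
    rw [← Nat.choose_mul_factorial_mul_factorial hle, hP, ← Finset.mul_prod_erase _ _ (Finset.mem_univ i),
      mul_assoc]
    refine mul_dvd_mul_left _ (mul_dvd_mul_left _ ?_)
    have : N - a i = ∑ j ∈ Finset.univ.erase i, a j := by
      rw [hN, ← Finset.add_sum_erase _ _ (Finset.mem_univ i)]; omega
    rw [this]
    exact Nat.prod_factorial_dvd_factorial_sum _ _
  have := hmono hdvd (Nat.factorial_ne_zero _)
  rw [padicValNat.mul (Nat.choose_pos hle).ne' hP0, hsum] at this
  have := one_le_padicValNat_of_dvd (Nat.choose_pos hle).ne' hC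
  omega

end Groth.Agent.S13801
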