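import Groth.Statements.S13805
import Groth.Agent.EtaLib.Spec
import Groth.Agent.EtaLib.Rel
import Groth.Agent.EtaLib.Valuation

set_option autoImplicit false
universe u
open EtaPt

namespace Groth.Agent.S13805

/-- For a commutative ring A with finitely many minimal prime ideals, every integral ring map f from
M_η(A) to a reduced ring B with N_η(f) bijective is itself bijective. Here η is a natural
transformation from the identity of the category of fields to an endofunctor F with F(η_K) bijective
and η_K purely inseparable for every field K, N_η(A) is the product of the F(k(p)) over the primes p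
of A with diagonal map t_A, and M_η(A) ⊆ N_η(A) is the subring of elements sent into the range of
t_R by every ring map from A to a valuation ring R at whose fraction field η is bijective; q_A : A →
M_η(A) is the corestriction of t_A. -/
theorem result (η : EtaPt.FieldEndo.{u}) (A : Type u) [CommRing A]
    (hA : (minimalPrimes A).Finite) (B : Type u) [CommRing B] [IsReduced B] (f : η.M A →+* B)
    (hf : f.IsIntegral) (hN : Function.Bijective (η.Nmap f)) : Function.Bijective f := by
  have hN' : Function.Bijective (η.Nmap (f.comp (η.q A))) := by
    have : (η.Nmap (f.comp (η.q A)) : η.N A → η.N B) = η.Nmap f ∘ η.Nmap (η.q A) :=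
      funext fun x => EtaLib.Nmap_comp η _ _ x
    rw [this]
    exact hN.comp (EtaLib.bij_Nmap_q hA)
  have : IsReduced (η.M A) := isReduced_of_injective (η.M A).subtype Subtype.val_injective
  refine ⟨fun x y h => EtaLib.t_injective (A := η.M A) (hN.1 ?_), fun b => ?_⟩
  · rw [η.Nmap_t_apply, η.Nmap_t_apply, h]
  · obtain ⟨x, hx, hxb⟩ := (EtaLib.bijOn_M f hf hN).2.2 (η.t_mem_M B b)
    obtain ⟨z, hz⟩ := (EtaLib.bij_q_M (η := η) hA).2 ⟨x, hx⟩
    refine ⟨z, EtaLib.t_injective (η := η) ?_⟩
    rw [← η.Nmap_t_apply, ← hxb]
    exact congrArg (η.Nmap f) (congrArg Subtype.val hz)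
end Groth.Agent.S13805
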