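import Groth.Statements.S13810
import Groth.Agent.EtaLib.Spec
import Groth.Agent.EtaLib.Rel
import Groth.Agent.EtaLib.Valuation

set_option autoImplicit false
universe u
open EtaPt

namespace Groth.Agent.S13810

/-- For commutative rings A and B, the pair of maps N_η of the two projections restricts to a bijection
from M_η(A × B) onto M_η(A) × M_η(B). Here η is a natural transformation from the identity of the
category of fields to an endofunctor F with F(η_K) bijective and η_K purely inseparable for every
field K, N_η(A) is the product of the F(k(p)) over the primes p of A with diagonal map t_A, and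
M_η(A) ⊆ N_η(A) is the subring of elements sent into the range of t_R by every ring map from A to a
valuation ring R at whose fraction field η is bijective; q_A : A → M_η(A) is the corestriction of
t_A. -/
theorem result (η : EtaPt.FieldEndo.{u}) (A B : Type u) [CommRing A] [CommRing B] :
    Set.BijOn (fun x : η.N (A × B) => (η.Nmap (RingHom.fst A B) x, η.Nmap (RingHom.snd A B) x))
      (η.M (A × B)) ((η.M A : Set (η.N A)) ×ˢ (η.M B : Set (η.N B))) := by
  classical
  have hcover : ∀ p : PrimeSpectrum (A × B),
      (∃ q, PrimeSpectrum.comap (RingHom.fst A B) q = p) ∨ ∃ q, PrimeSpectrum.comap (RingHom.snd A B) q = p := by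
    intro p
    rcases (Ideal.ideal_prod_prime p.asIdeal).1 p.isPrime with ⟨q, hq, h⟩ | ⟨q, hq, h⟩
    · exact Or.inl ⟨⟨q, hq⟩, PrimeSpectrum.ext (by ext ⟨a, b⟩; simp [h])⟩
    · exact Or.inr ⟨⟨q, hq⟩, PrimeSpectrum.ext (by ext ⟨a, b⟩; simp [h])⟩
  refine ⟨fun x hx => ⟨EtaLib.Nmap_mem_M η _ hx, EtaLib.Nmap_mem_M η _ hx⟩, fun x _ y _ h => ?_, ?_⟩
  · funext p
    rcases hcover p with ⟨q, rfl⟩ | ⟨q, rfl⟩
    · exact (η.map _).injective (congrFun (congrArg Prod.fst h) q)
    · exact (η.map _).injective (congrFun (congrArg Prod.snd h) q)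
  · rintro ⟨ya, yb⟩ ⟨hya, hyb⟩
    -- residue fields along the surjective projections are isomorphic
    have hb1 : ∀ q : PrimeSpectrum A, Function.Bijective (η.map (Ideal.ResidueField.map
        (PrimeSpectrum.comap (RingHom.fst A B) q).asIdeal q.asIdeal (RingHom.fst A B) rfl)) := fun q => by
      have hb := (RingHom.surjectiveOnStalks_of_surjective (f := RingHom.fst A B) fun a => ⟨(a, 0), rfl⟩).residueFieldMap_bijective
        (PrimeSpectrum.comap (RingHom.fst A B) q).asIdeal q.asIdeal rfl
      exact EtaLib.bij_map_of_phi _ ((η.eta _).comp (RingEquiv.ofBijective _ hb).symm.toRingHom)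
        (RingHom.ext fun c => congrArg (η.eta _) ((RingEquiv.ofBijective _ hb).symm_apply_apply c))
    have hb2 : ∀ q : PrimeSpectrum B, Function.Bijective (η.map (Ideal.ResidueField.map
        (PrimeSpectrum.comap (RingHom.snd A B) q).asIdeal q.asIdeal (RingHom.snd A B) rfl)) := fun q => by
      have hb := (RingHom.surjectiveOnStalks_of_surjective (f := RingHom.snd A B) fun b => ⟨(0, b), rfl⟩).residueFieldMap_bijective
        (PrimeSpectrum.comap (RingHom.snd A B) q).asIdeal q.asIdeal rfl
      exact EtaLib.bij_map_of_phi _ ((η.eta _).comp (RingEquiv.ofBijective _ hb).symm.toRingHom)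
        (RingHom.ext fun c => congrArg (η.eta _) ((RingEquiv.ofBijective _ hb).symm_apply_apply c))
    choose u hu using fun q => (hb1 q).2 (ya q)
    choose v hv using fun q => (hb2 q).2 (yb q)
    have huniq1 : Function.Injective (PrimeSpectrum.comap (RingHom.fst A B)) :=
      PrimeSpectrum.comap_injective_of_surjective _ fun a => ⟨(a, 0), rfl⟩
    have huniq2 : Function.Injective (PrimeSpectrum.comap (RingHom.snd A B)) :=
      PrimeSpectrum.comap_injective_of_surjective _ fun b => ⟨(0, b), rfl⟩
    have hdisj : ∀ q q', PrimeSpectrum.comap (RingHom.fst A B) q ≠ PrimeSpectrum.comap (RingHom.snd A B) q' := by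
      intro q q' h
      have h1 : ((1, 0) : A × B) ∈ (PrimeSpectrum.comap (RingHom.snd A B) q').asIdeal := q'.asIdeal.zero_mem
      rw [← h] at h1
      exact q.isPrime.ne_top (q.asIdeal.eq_top_iff_one.2 h1)
    obtain ⟨x, hx1, hx2⟩ : ∃ x : η.N (A × B), (∀ q, x (PrimeSpectrum.comap (RingHom.fst A B) q) = u q) ∧
        ∀ q, x (PrimeSpectrum.comap (RingHom.snd A B) q) = v q := by
      have hz : ∀ p, ∃ z : η.obj p.asIdeal.ResidueField,
          (∀ q, ∀ h : PrimeSpectrum.comap (RingHom.fst A B) q = p, h ▸ u q = z) ∧
            ∀ q, ∀ h : PrimeSpectrum.comap (RingHom.snd A B) q = p, h ▸ v q = z := by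
        intro p
        rcases hcover p with ⟨q₀, rfl⟩ | ⟨q₀, rfl⟩
        · refine ⟨u q₀, fun q h => ?_, fun q h => absurd h.symm (hdisj q₀ q)⟩
          obtain rfl := huniq1 h
          rfl
        · refine ⟨v q₀, fun q h => absurd h (hdisj q q₀), fun q h => ?_⟩
          obtain rfl := huniq2 h
          rfl
      choose z hz1 hz2 using hz
      exact ⟨z, fun q => (hz1 _ q rfl).symm, fun q => (hz2 _ q rfl).symm⟩
    have hxa : η.Nmap (RingHom.fst A B) x = ya := funext fun q => by rw [EtaLib.Nmap_component, hx1, hu]
    have hxb : η.Nmap (RingHom.snd A B) x = yb := funext fun q => by rw [EtaLib.Nmap_component, hx2, hv]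
    refine ⟨x, fun R _ _ _ hR g => ?_, Prod.ext hxa hxb⟩
    -- a map to a domain factors through one of the projections
    have h01 : g (1, 0) * g (0, 1) = 0 := by rw [← map_mul]; simp [Prod.mk_zero_zero]
    have hsum : g (1, 0) + g (0, 1) = 1 := by rw [← map_add]; simp [Prod.mk_one_one]
    rcases mul_eq_zero.1 h01 with h | h
    · have hg : g = (RingHom.comp
          ({ toFun := fun b => g (0, b), map_one' := by simpa [h] using hsum,
             map_mul' := fun b c => by rw [← map_mul]; simp,
             map_zero' := by simp [Prod.mk_zero_zero],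
             map_add' := fun b c => by rw [← map_add]; simp } : B →+* R) (RingHom.snd A B)) := by
        refine RingHom.ext fun ⟨a, b⟩ => ?_
        show g (a, b) = g (0, b)
        rw [show ((a, b) : A × B) = (a, 0) * (1, 0) + (0, b) by simp, map_add, map_mul, h, mul_zero, zero_add]
      rw [hg, EtaLib.Nmap_comp, hxb]
      exact hyb R hR _
    · have hg : g = (RingHom.comp
          ({ toFun := fun a => g (a, 0), map_one' := by simpa [h] using hsum,
             map_mul' := fun b c => by rw [← map_mul]; simp,
             map_zero' := by simp [Prod.mk_zero_zero],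
             map_add' := fun b c => by rw [← map_add]; simp } : A →+* R) (RingHom.fst A B)) := by
        refine RingHom.ext fun ⟨a, b⟩ => ?_
        show g (a, b) = g (a, 0)
        rw [show ((a, b) : A × B) = (0, b) * (0, 1) + (a, 0) by simp, map_add, map_mul, h, mul_zero, zero_add]
      rw [hg, EtaLib.Nmap_comp, hxa]
      exact hya R hR _
end Groth.Agent.S13810
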