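import Groth.Statements.S13814
import Groth.Agent.EtaLib.Spec
import Groth.Agent.EtaLib.Rel
import Groth.Agent.EtaLib.Valuation
import Groth.Agent.EtaLib.Loc

set_option autoImplicit false
universe u
open EtaPt

namespace Groth.Agent.S13814

/-- Let R be a valuation ring with fraction field K = k((0)) such that η is bijective at K, or such that
every field of the same characteristic as R at which η is bijective is perfect. Then the ring M_η(R)
is again a valuation ring, every element of F(K) is a quotient of generic components of elements of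
M_η(R), and an element of F(K) that is both the generic component of an element of M_η(R) and in the
image of K comes from R. (The published statement assumes nothing about η beyond the standing
conditions, and then fails: for the endofunctor equal to the perfect closure on the fields of
characteristic 2 and transcendence degree at least 2 over the prime field and to the identity on
every other field, and R = F_2(s)[t] localised at (t), neither of the elements (s^(1/2) t, 0) and
(t, 0) of M_η(R) ⊆ F(K) × F_2(s) divides the other, so M_η(R) is not a valuation ring. This row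
assumes that η is bijective at Frac R, or that every field of the same characteristic as R at which
η is bijective is perfect; both the identity and the perfect closure satisfy this.) Here η is a
natural transformation from the identity of the category of fields to an endofunctor F with F(η_K)
bijective and η_K purely inseparable for every field K, N_η(A) is the product of the F(k(p)) over
the primes p of A with diagonal map t_A, and M_η(A) ⊆ N_η(A) is the subring of elements sent into
the range of t_R by every ring map from A to a valuation ring R at whose fraction field η is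
bijective; q_A : A → M_η(A) is the corestriction of t_A. -/
theorem result (η : EtaPt.FieldEndo.{u}) (R : Type u) [CommRing R] [IsDomain R] [ValuationRing R]
    (hη : η.InV R ∨ ∀ (k : Type u) [Field k], ringChar k = ringChar R →
      Function.Bijective (η.eta k) → PerfectField k) :
    IsDomain (η.M R) ∧ PreValuationRing (η.M R) ∧
      (∀ y : η.obj (⊥ : Ideal R).ResidueField, ∃ a b : η.M R,
        (b : η.N R) ⟨⊥, Ideal.isPrime_bot⟩ ≠ 0 ∧
          y * (b : η.N R) ⟨⊥, Ideal.isPrime_bot⟩ = (a : η.N R) ⟨⊥, Ideal.isPrime_bot⟩) ∧
      (fun x : η.N R => x ⟨⊥, Ideal.isPrime_bot⟩) '' (η.M R : Set (η.N R)) ∩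
          Set.range (η.eta (⊥ : Ideal R).ResidueField) =
        Set.range ((η.eta (⊥ : Ideal R).ResidueField).comp (algebraMap R (⊥ : Ideal R).ResidueField)) := by
  classical
  let F := η.obj (⊥ : Ideal R).ResidueField
  let e : η.M R →+* F := EtaLib.ev ⟨⊥, Ideal.isPrime_bot⟩
  have hinj : Function.Injective e := fun x y h => Subtype.ext (EtaLib.injOn_generic x.2 y.2 h)
  have himg := EtaLib.image_generic hη
  let φ := (η.eta (⊥ : Ideal R).ResidueField).comp (algebraMap R (⊥ : Ideal R).ResidueField)
  have hint : ∀ z : F, φ.IsIntegralElem z → ∃ w : η.M R, e w = z := fun z hz => by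
    obtain ⟨x, hx, hxz⟩ := himg.ge hz
    exact ⟨⟨x, hx⟩, hxz⟩
  have hrange : ∀ w : η.M R, φ.IsIntegralElem (e w) := fun w => himg.le ⟨w, w.2, rfl⟩
  -- either an element of the generic fibre or its inverse is integral
  have hdich : ∀ z : F, φ.IsIntegralElem z ∨ φ.IsIntegralElem z⁻¹ := by
    intro z
    obtain ⟨n, c, hc⟩ := η.exists_pow_mem_range_eta (⊥ : Ideal R).ResidueField z
    have hpos : 0 < ringExpChar (⊥ : Ideal R).ResidueField ^ n :=
      pow_pos (expChar_pos (⊥ : Ideal R).ResidueField _) n
    letI := φ.toAlgebra
    rcases ValuationRing.isInteger_or_isInteger R c with ⟨r, hr⟩ | ⟨r, hr⟩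
    · exact Or.inl (IsIntegral.of_pow (R := R) hpos (by
        rw [← hc, ← hr]; exact (isIntegral_algebraMap : IsIntegral R (algebraMap R F r))))
    · exact Or.inr (IsIntegral.of_pow (R := R) hpos (by
        rw [inv_pow, ← hc, ← map_inv₀, ← hr]; exact (isIntegral_algebraMap : IsIntegral R (algebraMap R F r))))
  have hdom : IsDomain (η.M R) := hinj.isDomain e
  refine ⟨hdom, ⟨fun a b => ?_⟩, fun y => ?_, ?_⟩
  · rcases eq_or_ne a 0 with rfl | ha
    · exact ⟨0, Or.inr (mul_zero b)⟩
    rcases eq_or_ne b 0 with rfl | hb
    · exact ⟨0, Or.inl (mul_zero a)⟩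
    have ha' : e a ≠ 0 := (map_ne_zero_iff e hinj).2 ha
    have hb' : e b ≠ 0 := (map_ne_zero_iff e hinj).2 hb
    rcases hdich (e b / e a) with h | h
    · obtain ⟨w, hw⟩ := hint _ h
      exact ⟨w, Or.inl (hinj (by rw [map_mul, hw, mul_div_cancel₀ _ ha']))⟩
    · obtain ⟨w, hw⟩ := hint _ h
      exact ⟨w, Or.inr (hinj (by rw [map_mul, hw, inv_div, mul_div_cancel₀ _ hb']))⟩
  · rcases hdich y with h | h
    · obtain ⟨w, hw⟩ := hint _ h
      exact ⟨w, 1, one_ne_zero, (mul_one y).trans hw.symm⟩
    · rcases eq_or_ne y 0 with rfl | hy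
      · exact ⟨0, 1, one_ne_zero, zero_mul _⟩
      obtain ⟨w, hw⟩ := hint _ h
      refine ⟨1, w, ?_, ?_⟩
      · rw [show (w : η.N R) ⟨⊥, Ideal.isPrime_bot⟩ = y⁻¹ from hw]; exact inv_ne_zero hy
      · rw [show (w : η.N R) ⟨⊥, Ideal.isPrime_bot⟩ = y⁻¹ from hw]; exact mul_inv_cancel₀ hy
  · ext z
    constructor
    · rintro ⟨⟨x, hx, rfl⟩, c, hc⟩
      have := hrange ⟨x, hx⟩
      obtain ⟨P, hP, hP0⟩ := this
      have := EtaLib.isIntegrallyClosed_valuationRing R
      have hci : IsIntegral R c := ⟨P, hP, EtaLib.eta_inj (η := η) (by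
        rw [Polynomial.hom_eval₂, map_zero, hc]; exact hP0)⟩
      obtain ⟨r, rfl⟩ := IsIntegrallyClosed.isIntegral_iff.1 hci
      exact ⟨r, hc⟩
    · rintro ⟨r, rfl⟩
      exact ⟨⟨η.t R r, η.t_mem_M R r, rfl⟩, _, rfl⟩
end Groth.Agent.S13814
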