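import Groth.Statements.S13820
import Groth.Agent.EtaLib.Spec
import Groth.Agent.EtaLib.Rel
import Groth.Agent.EtaLib.Valuation
import Groth.Agent.EtaLib.Loc

set_option autoImplicit false
universe u
open EtaPt

namespace Groth.Agent.S13820

/-- Let A have finitely many minimal prime ideals and let B be an A-algebra with Spec B → Spec A
surjective, C the integral closure of A in B; then the inclusion C ⊆ B carries (C/A)_η onto (B/A)_η.
Here η is a natural transformation from the identity of the category of fields to an endofunctor F
with F(η_K) bijective and η_K purely inseparable for every field K, N_η(A) is the product of the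
F(k(p)) over the primes p of A with diagonal map t_A, and M_η(A) ⊆ N_η(A) is the subring of elements
sent into the range of t_R by every ring map from A to a valuation ring R at whose fraction field η
is bijective; q_A : A → M_η(A) is the corestriction of t_A. For a ring map f : A → B, (B/A)_η ⊆ B
denotes the subring of elements b with t_B(b) in N_η(f)(M_η(A)) (the image in B of the fibre product
of M_η(A) and B over M_η(B)), and q_{B/A} : A → (B/A)_η the corestriction of f. -/
theorem result (η : EtaPt.FieldEndo.{u}) (A B : Type u) [CommRing A] [CommRing B] [Algebra A B]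
    (hA : (minimalPrimes A).Finite) (hs : Function.Surjective (PrimeSpectrum.comap (algebraMap A B))) :
    (η.rel (algebraMap A (integralClosure A B))).map (integralClosure A B).val.toRingHom =
      η.rel (algebraMap A B) := by
  apply le_antisymm
  · rintro _ ⟨c, hc, rfl⟩
    exact EtaLib.rel_map _ (RingHom.id A) (integralClosure A B).val.toRingHom (algebraMap A B)
      (by ext; rfl) hc
  · rintro b ⟨x, hx, hxb⟩
    have hb : IsIntegral A b := by
      obtain ⟨P, hP, hP0⟩ := EtaLib.isIntegral_qRel hs hA (⟨b, x, hx, hxb⟩ : η.rel (algebraMap A B))
      refine ⟨P, hP, ?_⟩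
      have := congrArg (η.rel (algebraMap A B)).subtype hP0
      rw [Polynomial.hom_eval₂, map_zero] at this
      exact this
    refine ⟨⟨b, hb⟩, ⟨x, hx, ?_⟩, rfl⟩
    refine EtaLib.eq_of_minimalPrimes (EtaLib.Nmap_mem_M η _ hx) (η.t_mem_M _ _) fun q hq => ?_
    obtain ⟨Q, rfl⟩ : q ∈ Set.range (PrimeSpectrum.comap (integralClosure A B).val.toRingHom) := by
      obtain ⟨Q, hQ, hQq⟩ := Ideal.exists_comap_eq_of_mem_minimalPrimes_of_injective
        (f := (integralClosure A B).val.toRingHom) Subtype.val_injective q.asIdeal hq
      exact ⟨⟨Q, hQ⟩, PrimeSpectrum.ext hQq⟩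
    apply (η.map (Ideal.ResidueField.map (PrimeSpectrum.comap (integralClosure A B).val.toRingHom Q).asIdeal
      Q.asIdeal (integralClosure A B).val.toRingHom rfl)).injective
    rw [← EtaLib.Nmap_component, ← EtaLib.Nmap_component, ← EtaLib.Nmap_comp, η.Nmap_t_apply]
    rw [show (integralClosure A B).val.toRingHom.comp (algebraMap A (integralClosure A B)) = algebraMap A B from rfl,
      hxb]
    rfl
end Groth.Agent.S13820
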