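import Groth.Statements.S13822
import Groth.Agent.EtaLib.Spec
import Groth.Agent.EtaLib.Rel
import Groth.Agent.EtaLib.Valuation

set_option autoImplicit false
universe u
open scoped TensorProduct
open EtaPt

namespace Groth.Agent.S13822

/-- Let A → A' be faithfully flat with A and A' having finitely many minimal prime ideals, and B an
A-algebra with Spec B → Spec A surjective; if q_{(A' ⊗ B)/A'} is bijective then q_{B/A} is
bijective. Here η is a natural transformation from the identity of the category of fields to an
endofunctor F with F(η_K) bijective and η_K purely inseparable for every field K, N_η(A) is the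
product of the F(k(p)) over the primes p of A with diagonal map t_A, and M_η(A) ⊆ N_η(A) is the
subring of elements sent into the range of t_R by every ring map from A to a valuation ring R at
whose fraction field η is bijective; q_A : A → M_η(A) is the corestriction of t_A. For a ring map f
: A → B, (B/A)_η ⊆ B denotes the subring of elements b with t_B(b) in N_η(f)(M_η(A)) (the image in B
of the fibre product of M_η(A) and B over M_η(B)), and q_{B/A} : A → (B/A)_η the corestriction of f. -/
theorem result (η : EtaPt.FieldEndo.{u}) (A A' B : Type u) [CommRing A] [CommRing A'] [CommRing B]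
    [Algebra A A'] [Algebra A B] [Module.FaithfullyFlat A A']
    (hA : (minimalPrimes A).Finite) (hA' : (minimalPrimes A').Finite)
    (hs : Function.Surjective (PrimeSpectrum.comap (algebraMap A B)))
    (h : Function.Bijective (η.qRel (Algebra.TensorProduct.includeLeftRingHom : A' →+* A' ⊗[A] B))) :
    Function.Bijective (η.qRel (algebraMap A B)) := by
  rw [EtaLib.bij_qRel_iff] at h ⊢
  refine ⟨fun a b hab => ?_, fun b hb => ?_⟩
  · have : Function.Injective (algebraMap A A') := fun x y hxy => sub_eq_zero.1 <|
      (Module.FaithfullyFlat.one_tmul_eq_zero_iff A A (A := A') (x - y)).1 <| by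
        apply (TensorProduct.rid A A').injective
        rw [TensorProduct.rid_tmul, map_zero, sub_smul, Algebra.smul_def, Algebra.smul_def, hxy, sub_self]
    apply this
    apply h.1
    show (algebraMap A A' a) ⊗ₜ[A] (1 : B) = (algebraMap A A' b) ⊗ₜ[A] 1
    rw [← Algebra.TensorProduct.algebraMap_apply, ← Algebra.TensorProduct.algebraMap_apply,
      Algebra.TensorProduct.algebraMap_apply', Algebra.TensorProduct.algebraMap_apply', hab]
  · obtain ⟨a', ha'⟩ := h.2 (EtaLib.rel_map (algebraMap A B) (algebraMap A A')
      (Algebra.TensorProduct.includeRight : B →ₐ[A] A' ⊗[A] B).toRingHom Algebra.TensorProduct.includeLeftRingHom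
      (Algebra.TensorProduct.includeLeftRingHom_comp_algebraMap) hb)
    let q := (LinearMap.range (Algebra.linearMap A B)).mkQ
    have h0 : (1 : A') ⊗ₜ[A] q b = 0 := by
      have := congrArg (LinearMap.lTensor A' q) ha'
      simp only [Algebra.TensorProduct.includeLeftRingHom_apply, LinearMap.lTensor_tmul] at this
      rw [show (Algebra.TensorProduct.includeRight : B →ₐ[A] A' ⊗[A] B).toRingHom b = (1 : A') ⊗ₜ[A] b from rfl,
        LinearMap.lTensor_tmul] at this
      rw [← this, show q (1 : B) = 0 from (Submodule.Quotient.mk_eq_zero _).2 ⟨1, (algebraMap A B).map_one⟩, TensorProduct.tmul_zero]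
    obtain ⟨a, ha⟩ := (Submodule.Quotient.mk_eq_zero _).1
      ((Module.FaithfullyFlat.one_tmul_eq_zero_iff A _ (A := A') (q b)).1 h0)
    exact ⟨a, ha⟩
end Groth.Agent.S13822
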