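import Groth.Statements.S13823
import Groth.Agent.EtaLib.Spec
import Groth.Agent.EtaLib.Rel
import Groth.Agent.EtaLib.Valuation
import Groth.Agent.EtaLib.Loc

set_option autoImplicit false
universe u
open EtaPt

namespace Groth.Agent.S13823

/-- Let A → A' be faithfully flat with A and A' having finitely many minimal prime ideals, and let Ā, Ā'
be the integral closures of A, A' in their total rings of fractions; if q_{Ā'/A'} is bijective then
q_{Ā/A} is bijective. Here η is a natural transformation from the identity of the category of fields
to an endofunctor F with F(η_K) bijective and η_K purely inseparable for every field K, N_η(A) is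
the product of the F(k(p)) over the primes p of A with diagonal map t_A, and M_η(A) ⊆ N_η(A) is the
subring of elements sent into the range of t_R by every ring map from A to a valuation ring R at
whose fraction field η is bijective; q_A : A → M_η(A) is the corestriction of t_A. For a ring map f
: A → B, (B/A)_η ⊆ B denotes the subring of elements b with t_B(b) in N_η(f)(M_η(A)) (the image in B
of the fibre product of M_η(A) and B over M_η(B)), and q_{B/A} : A → (B/A)_η the corestriction of f. -/
theorem result (η : EtaPt.FieldEndo.{u}) (A A' : Type u) [CommRing A] [CommRing A'] [Algebra A A'] [Module.FaithfullyFlat A A']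
    (hA : (minimalPrimes A).Finite) (hA' : (minimalPrimes A').Finite)
    (h : Function.Bijective (η.qRel (algebraMap A' (integralClosure A' (FractionRing A'))))) :
    Function.Bijective (η.qRel (algebraMap A (integralClosure A (FractionRing A)))) := by
  rw [EtaLib.bij_qRel_iff] at h ⊢
  refine ⟨fun a b hab => IsFractionRing.injective A (FractionRing A) (congrArg Subtype.val hab), ?_⟩
  have hsnd : nonZeroDivisors A ≤ (nonZeroDivisors A').comap (algebraMap A A') := by
    intro s hs
    have hinj : Function.Injective (LinearMap.toSpanSingleton A A s) := fun x y hxy =>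
      sub_eq_zero.1 ((mem_nonZeroDivisors_iff_right.1 hs) _ (by
        rw [sub_mul]; exact sub_eq_zero.2 hxy))
    rw [Submonoid.mem_comap, mem_nonZeroDivisors_iff_right]
    intro x hx
    have hT := Module.Flat.lTensor_preserves_injective_linearMap (M := A') _ hinj
    have h0 : LinearMap.lTensor A' (LinearMap.toSpanSingleton A A s) (x ⊗ₜ[A] 1) = 0 := by
      apply (TensorProduct.rid A A').injective
      simp [Algebra.smul_def, mul_comm, hx]
    have := congrArg (TensorProduct.rid A A') (hT (h0.trans (map_zero _).symm))
    simpa using this
  let j : FractionRing A →+* FractionRing A' := IsLocalization.map (FractionRing A') (algebraMap A A') hsnd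
  have hj : ∀ a, j (algebraMap A (FractionRing A) a) = algebraMap A' (FractionRing A') (algebraMap A A' a) :=
    IsLocalization.map_eq hsnd
  let g : integralClosure A (FractionRing A) →+* integralClosure A' (FractionRing A') :=
    (j.comp (integralClosure A (FractionRing A)).val.toRingHom).codRestrict _ fun c => by
      obtain ⟨P, hP, hP0⟩ := c.2
      refine ⟨P.map (algebraMap A A'), hP.map _, ?_⟩
      rw [Polynomial.eval₂_map, ← show j.comp (algebraMap A (FractionRing A)) =
        (algebraMap A' (FractionRing A')).comp (algebraMap A A') from RingHom.ext hj]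
      show Polynomial.eval₂ (j.comp (algebraMap A (FractionRing A))) (j c) P = 0
      rw [← Polynomial.hom_eval₂, hP0, map_zero]
  intro c hc
  obtain ⟨a', ha'⟩ := h.2 (EtaLib.rel_map (algebraMap A (integralClosure A (FractionRing A))) (algebraMap A A') g
    (algebraMap A' (integralClosure A' (FractionRing A'))) (RingHom.ext fun a => Subtype.ext (hj a).symm) hc)
  obtain ⟨⟨a, s⟩, has⟩ := IsLocalization.surj (nonZeroDivisors A) (c : FractionRing A)
  have h1 : algebraMap A A' a = a' * algebraMap A A' (s : A) := by
    apply IsFractionRing.injective A' (FractionRing A')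
    rw [map_mul, ← hj, ← hj, ← has, map_mul]
    exact congrArg (· * _) (congrArg Subtype.val ha').symm
  let q := (LinearMap.range (LinearMap.toSpanSingleton A A (s : A))).mkQ
  have h0 : (1 : A') ⊗ₜ[A] q a = 0 := by
    have e : (1 : A') ⊗ₜ[A] a = a' ⊗ₜ[A] (s : A) := by
      apply (TensorProduct.rid A A').injective
      simp [Algebra.smul_def, h1, mul_comm]
    have := congrArg (LinearMap.lTensor A' q) e
    rwa [LinearMap.lTensor_tmul, LinearMap.lTensor_tmul,
      show q (s : A) = 0 from (Submodule.Quotient.mk_eq_zero _).2 ⟨1, by simp⟩, TensorProduct.tmul_zero] at this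
  obtain ⟨b, hb⟩ := (Submodule.Quotient.mk_eq_zero _).1
    ((Module.FaithfullyFlat.one_tmul_eq_zero_iff A _ (A := A') (q a)).1 h0)
  refine ⟨b, Subtype.ext ?_⟩
  show algebraMap A (FractionRing A) b = c
  apply (IsLocalization.map_units (FractionRing A) s).mul_right_cancel
  rw [has, ← map_mul]
  exact congrArg _ (by simpa using hb)
end Groth.Agent.S13823
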