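import Groth.Statements.S13827
import Groth.Agent.EtaLib.Spec
import Groth.Agent.EtaLib.Rel
import Groth.Agent.EtaLib.Valuation
import Groth.Agent.EtaLib.Loc
import Mathlib.RingTheory.LocalProperties.Reduced

set_option autoImplicit false
universe u
open EtaPt

namespace Groth.Agent.S13827

/-- For a normal ring A (every localization at a prime is an integrally closed domain) with finitely
many minimal prime ideals such that η is bijective at the residue field of every minimal prime, q_A
: A → M_η(A) is bijective. Here η is a natural transformation from the identity of the category of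
fields to an endofunctor F with F(η_K) bijective and η_K purely inseparable for every field K,
N_η(A) is the product of the F(k(p)) over the primes p of A with diagonal map t_A, and M_η(A) ⊆
N_η(A) is the subring of elements sent into the range of t_R by every ring map from A to a valuation
ring R at whose fraction field η is bijective; q_A : A → M_η(A) is the corestriction of t_A. -/
theorem result (η : EtaPt.FieldEndo.{u}) (A : Type u) [CommRing A] (hn : EGA4.IsNormalRing A)
    (hA : (minimalPrimes A).Finite)
    (hη : ∀ p : PrimeSpectrum A, p.asIdeal ∈ minimalPrimes A → Function.Bijective (η.eta p.asIdeal.ResidueField)) :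
    Function.Bijective (η.q A) := by
  classical
  have hred : IsReduced A := by
    refine isReduced_ofLocalizationMaximal A fun m hm => ?_
    have := (hn m).1
    infer_instance
  refine ⟨fun a b hab => EtaLib.t_injective (congrArg Subtype.val hab), fun x => ?_⟩
  -- at each minimal prime the value comes from `A / p`
  have hloc : ∀ p : PrimeSpectrum A, p.asIdeal ∈ minimalPrimes A →
      ∃ a : A, η.t A a p = (x : η.N A) p := by
    intro p hp
    obtain ⟨y, hy⟩ := (hη p hp).2 ((x : η.N A) p)
    have hint : IsIntegral A y := by
      obtain ⟨P, hP, hP0⟩ := EtaLib.isIntegralElem_component x.2 p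
      exact ⟨P, hP, EtaLib.eta_inj (η := η) (by rw [Polynomial.hom_eval₂, map_zero, hy]; exact hP0)⟩
    let I : Ideal A :=
      { carrier := {r | algebraMap A p.asIdeal.ResidueField r * y ∈ (algebraMap A p.asIdeal.ResidueField).range}
        add_mem' := fun {r r'} hr hr' => by
          show algebraMap A p.asIdeal.ResidueField (r + r') * y ∈ (algebraMap A p.asIdeal.ResidueField).range
          rw [map_add, add_mul]; exact add_mem hr hr'
        zero_mem' := by show algebraMap A p.asIdeal.ResidueField 0 * y ∈ (algebraMap A p.asIdeal.ResidueField).range; rw [map_zero, zero_mul]; exact zero_mem _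
        smul_mem' := fun c r hr => by
          show algebraMap A p.asIdeal.ResidueField (c * r) * y ∈ (algebraMap A p.asIdeal.ResidueField).range
          rw [map_mul, mul_assoc]; exact mul_mem ⟨c, rfl⟩ hr }
    have hI : I = ⊤ := by
      by_contra hne
      obtain ⟨m, hm, hIm⟩ := I.exists_le_maximal hne
      have hpm : p.asIdeal ≤ m := fun r hr => hIm (by
        show algebraMap A p.asIdeal.ResidueField r * y ∈ (algebraMap A p.asIdeal.ResidueField).range
        rw [Ideal.algebraMap_residueField_eq_zero.2 hr, zero_mul]; exact zero_mem _)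
      obtain ⟨hd, hic⟩ := hn m
      have hu : ∀ s : m.primeCompl, IsUnit (algebraMap A p.asIdeal.ResidueField s) := fun s =>
        isUnit_iff_ne_zero.mpr fun h0 => s.2 (hpm (Ideal.algebraMap_residueField_eq_zero.1 h0))
      let ψ : Localization.AtPrime m →+* p.asIdeal.ResidueField := IsLocalization.lift hu
      have hψ : ∀ r, ψ (algebraMap A _ r) = algebraMap A p.asIdeal.ResidueField r := IsLocalization.lift_eq hu
      have hψi : Function.Injective ψ := by
        refine (injective_iff_map_eq_zero ψ).2 fun z hz => ?_
        obtain ⟨⟨r, s⟩, hrs⟩ := IsLocalization.surj m.primeCompl z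
        have hr : r ∈ p.asIdeal := by
          rw [← Ideal.algebraMap_residueField_eq_zero, ← hψ, ← hrs, map_mul, hz, zero_mul]
        have hle : RingHom.ker (algebraMap A (Localization.AtPrime m)) ≤ p.asIdeal := fun w hw => by
          rw [← Ideal.algebraMap_residueField_eq_zero, ← hψ, RingHom.mem_ker.1 hw, map_zero]
        have hker : p.asIdeal ≤ RingHom.ker (algebraMap A (Localization.AtPrime m)) :=
          hp.2 ⟨RingHom.ker_isPrime _, bot_le⟩ hle
        have h0 : z * algebraMap A (Localization.AtPrime m) s = 0 := hrs.trans (hker hr)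
        exact (IsLocalization.map_units (Localization.AtPrime m) s).mul_left_eq_zero.1 h0
      let F := FractionRing (Localization.AtPrime m)
      let Ψ : F →+* p.asIdeal.ResidueField := IsFractionRing.lift hψi
      have hΨ : ∀ z, Ψ (algebraMap _ F z) = ψ z := IsFractionRing.lift_algebraMap hψi
      obtain ⟨u, v, -, huv⟩ := IsFractionRing.div_surjective (A := A ⧸ p.asIdeal) y
      obtain ⟨u, rfl⟩ := Ideal.Quotient.mk_surjective u
      obtain ⟨v, rfl⟩ := Ideal.Quotient.mk_surjective v
      let z : F := algebraMap _ F (algebraMap A (Localization.AtPrime m) u) /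
        algebraMap _ F (algebraMap A (Localization.AtPrime m) v)
      have hz : Ψ z = y := by
        show Ψ (_ / _) = y
        rw [map_div₀, hΨ, hΨ, hψ, hψ, ← huv]
        rfl
      have hzi : IsIntegral (Localization.AtPrime m) z := by
        obtain ⟨P, hP, hP0⟩ := hint
        refine ⟨P.map (algebraMap A _), hP.map _, Ψ.injective ?_⟩
        rw [Polynomial.eval₂_map, Polynomial.hom_eval₂, map_zero, hz, ← hP0]
        congr 1
        ext r
        exact (hΨ _).trans (hψ r)
      obtain ⟨w, hw⟩ := IsIntegrallyClosed.isIntegral_iff.1 hzi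
      obtain ⟨⟨r, s⟩, hrs⟩ := IsLocalization.surj m.primeCompl w
      refine s.2 (hIm ⟨r, ?_⟩)
      rw [← hψ, ← hψ, ← hrs, map_mul, ← hΨ w, hw, hz, mul_comm]
    obtain ⟨a, ha⟩ : (1 : A) ∈ I := hI ▸ Submodule.mem_top
    rw [map_one, one_mul] at ha
    exact ⟨a, show η.eta _ (algebraMap A _ a) = _ by rw [ha, hy]⟩
  choose a ha using hloc
  -- the minimal primes are pairwise comaximal
  have := hA.to_subtype
  have hco : Pairwise fun p q : minimalPrimes A => IsCoprime (p : Ideal A) (q : Ideal A) := by
    intro p q hpq
    rw [Ideal.isCoprime_iff_sup_eq]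
    by_contra hne
    obtain ⟨m, hm, hle⟩ := Ideal.exists_le_maximal _ hne
    obtain ⟨hd, -⟩ := hn m
    have key : ∀ r : minimalPrimes A, (r : Ideal A) ≤ m →
        (r : Ideal A) = RingHom.ker (algebraMap A (Localization.AtPrime m)) := by
      intro r hr
      have hrp : (r : Ideal A).IsPrime := r.2.1.1
      have hle : RingHom.ker (algebraMap A (Localization.AtPrime m)) ≤ (r : Ideal A) := fun w hw => by
        obtain ⟨s, hs⟩ := (IsLocalization.map_eq_zero_iff m.primeCompl _ _).1 (RingHom.mem_ker.1 hw)
        exact (hrp.mem_or_mem (hs ▸ (r : Ideal A).zero_mem)).resolve_left fun h => s.2 (hr h)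
      exact le_antisymm (r.2.2 ⟨RingHom.ker_isPrime _, bot_le⟩ hle) hle
    exact hpq (Subtype.ext ((key p (le_sup_left.trans hle)).trans (key q (le_sup_right.trans hle)).symm))
  obtain ⟨c, hc⟩ := (Ideal.quotientInfRingEquivPiQuotient (fun p : minimalPrimes A => (p : Ideal A)) hco).surjective
    fun p => Ideal.Quotient.mk _ (a ⟨p, p.2.1.1⟩ p.2)
  obtain ⟨c, rfl⟩ := Ideal.Quotient.mk_surjective c
  refine ⟨c, Subtype.ext (EtaLib.eq_of_minimalPrimes (η.t_mem_M A c) x.2 fun p hp => ?_)⟩
  rw [← ha p hp]
  show η.eta _ (algebraMap A _ c) = η.eta _ (algebraMap A _ (a p hp))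
  congr 1
  rw [← sub_eq_zero, ← map_sub, Ideal.algebraMap_residueField_eq_zero, ← Ideal.Quotient.mk_eq_mk_iff_sub_mem]
  exact congrFun hc ⟨p.asIdeal, hp⟩
end Groth.Agent.S13827
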