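import Groth.Statements.S13831
import Mathlib

set_option autoImplicit false
universe u
open AlgebraicGeometry
open ChowMon

namespace Groth.Agent.S13831

open CategoryTheory AlgebraicGeometry

theorem finrank_residueField_le {T' T : Scheme.{u}} (p : T' ⟶ T) [IsFinite p] (U : T.Opens) (hU : IsAffineOpen U) :
    ∃ n : ℕ, ∀ t' : T', p t' ∈ U →
      (letI := (p.residueFieldMap t').hom.toAlgebra
      Module.Finite (T.residueField (p t')) (T'.residueField t') ∧
        Module.finrank (T.residueField (p t')) (T'.residueField t') ≤ n) := by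
  classical
  have hV : IsAffineOpen (p ⁻¹ᵁ U) := hU.preimage p
  letI := (p.app U).hom.toAlgebra
  haveI : Module.Finite Γ(T, U) Γ(T', p ⁻¹ᵁ U) := RingHom.finite_algebraMap.mp (p.finite_app U hU)
  obtain ⟨s, hs⟩ := Module.Finite.fg_top (R := Γ(T, U)) (M := Γ(T', p ⁻¹ᵁ U))
  refine ⟨s.card, fun t' ht => ?_⟩
  letI := (p.residueFieldMap t').hom.toAlgebra
  let ε : Γ(T', p ⁻¹ᵁ U) →+* T'.residueField t' := (T'.evaluation (p ⁻¹ᵁ U) t' ht).hom
  have hε : ∀ a, ε (algebraMap Γ(T, U) Γ(T', p ⁻¹ᵁ U) a) =
      algebraMap (T.residueField (p t')) (T'.residueField t') ((T.evaluation U (p t') ht).hom a) := fun a =>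
    (Scheme.evaluation_naturality_apply p t' ht a).symm
  let W : Submodule (T.residueField (p t')) (T'.residueField t') := Submodule.span _ (ε '' (s : Set _))
  have hmem : ∀ b, ε b ∈ W := fun b => by
    have hb : b ∈ Submodule.span Γ(T, U) (s : Set Γ(T', p ⁻¹ᵁ U)) := hs ▸ Submodule.mem_top
    induction hb using Submodule.span_induction with
    | zero => rw [map_zero]; exact zero_mem _
    | mem x h => exact Submodule.subset_span ⟨x, h, rfl⟩
    | add x y _ _ hx hy => rw [map_add]; exact add_mem hx hy
    | smul a x _ hx =>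
      rw [Algebra.smul_def, map_mul, hε, ← Algebra.smul_def]
      exact W.smul_mem _ hx
  have hmul : ∀ x y, x ∈ W → y ∈ W → x * y ∈ W := fun x y hx hy => by
    induction hx using Submodule.span_induction with
    | zero => rw [zero_mul]; exact zero_mem _
    | add x z _ _ hx hz => rw [add_mul]; exact add_mem hx hz
    | smul a x _ hx => rw [smul_mul_assoc]; exact W.smul_mem _ hx
    | mem x h =>
      obtain ⟨a, -, rfl⟩ := h
      induction hy using Submodule.span_induction with
      | zero => rw [mul_zero]; exact zero_mem _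
      | add y z _ _ hy hz => rw [mul_add]; exact add_mem hy hz
      | smul c y _ hy => rw [mul_smul_comm]; exact W.smul_mem _ hy
      | mem y h =>
        obtain ⟨b, -, rfl⟩ := h
        rw [← map_mul]
        exact hmem _
  let S : Subalgebra (T.residueField (p t')) (T'.residueField t') :=
    W.toSubalgebra (by rw [← map_one ε]; exact hmem 1) hmul
  haveI : FiniteDimensional (T.residueField (p t')) W :=
    FiniteDimensional.span_of_finite _ (s.finite_toSet.image ε)
  haveI : Algebra.IsAlgebraic (T.residueField (p t')) S :=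
    haveI : FiniteDimensional (T.residueField (p t')) S := ‹FiniteDimensional (T.residueField (p t')) W›
    Algebra.IsAlgebraic.of_finite _ _
  have htop : W = ⊤ := by
    refine eq_top_iff.mpr fun z _ => ?_
    obtain ⟨w, rfl⟩ := T'.residue_surjective t' z
    letI := TopCat.Presheaf.algebra_section_stalk T'.presheaf (⟨t', ht⟩ : (p ⁻¹ᵁ U : Set T'))
    haveI := hV.isLocalization_stalk ⟨t', ht⟩
    obtain ⟨a, ⟨c, hc⟩, rfl⟩ := IsLocalization.exists_mk'_eq (hV.primeIdealOf ⟨t', ht⟩).asIdeal.primeCompl w
    have hu : IsUnit (ε c) :=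
      (IsLocalization.map_units (T'.presheaf.stalk t') (⟨c, hc⟩ :
        (hV.primeIdealOf ⟨t', ht⟩).asIdeal.primeCompl)).map (T'.residue t').hom
    have he : (T'.residue t').hom (IsLocalization.mk' _ a ⟨c, hc⟩) = ε a * (ε c)⁻¹ := by
      rw [eq_mul_inv_iff_mul_eq₀ hu.ne_zero]
      change _ * (T'.residue t').hom (algebraMap _ (T'.presheaf.stalk t') c) =
        (T'.residue t').hom (algebraMap _ (T'.presheaf.stalk t') a)
      rw [← map_mul, IsLocalization.mk'_spec]
    change (T'.residue t').hom (IsLocalization.mk' _ a ⟨c, hc⟩) ∈ W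
    rw [he]
    exact hmul _ _ (hmem a) (Subalgebra.inv_mem_of_algebraic (A := S) (x := ⟨ε c, hmem c⟩)
      ((Algebra.IsAlgebraic.isAlgebraic (⟨ε c, hmem c⟩ : S)).algHom S.val))
  refine ⟨⟨htop ▸ Submodule.fg_span (s.finite_toSet.image ε)⟩, ?_⟩
  rw [← finrank_top (T.residueField (p t')) (T'.residueField t'), ← htop]
  calc Module.finrank (T.residueField (p t')) W
      ≤ (s.image ε).card := by
        have := finrank_span_finset_le_card (R := T.residueField (p t')) (s.image ε)
        rwa [Finset.coe_image] at this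
    _ ≤ s.card := Finset.card_image_le

/-- For a finite universal homeomorphism p : T' → T of Noetherian schemes there is an integer d ≥ 1 such
that for every point t' of T' over t the residue field degree [k(t') : k(t)] is a power of the
exponential characteristic of k(t) dividing d. -/
theorem result {T' T : Scheme.{u}} (p : T' ⟶ T) [IsFinite p] (hp : FlatMor.IsUnivHomeo p)
    [IsNoetherian T] [IsNoetherian T'] [T.IsSeparated] [T'.IsSeparated] :
    ∃ d : ℕ, 0 < d ∧ ∀ t' : T', ∃ e : ℕ,
      @Module.finrank (T.residueField (p t')) (T'.residueField t') _ _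
          (p.residueFieldMap t').hom.toAlgebra.toModule =
        ringExpChar (T.residueField (p t')) ^ e ∧
      ringExpChar (T.residueField (p t')) ^ e ∣ d := by
  haveI : UniversallyInjective p := by
    rw [universallyInjective_eq]
    intro X' Y' i₁ i₂ f' h
    exact (hp i₁ i₂ f' h).injective
  obtain ⟨s, hs, hcov⟩ : ∃ s : Set T.affineOpens, s.Finite ∧ ∀ t : T, ∃ U ∈ s, t ∈ U.1 := by
    obtain ⟨b, hb⟩ := (isCompact_univ (X := T)).elim_finite_subcover (fun U : T.affineOpens => (U.1 : Set T))
      (fun U => U.1.2) fun t _ => by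
        obtain ⟨_, ⟨U, hU, rfl⟩, htU, -⟩ :=
          T.isBasis_affineOpens.exists_subset_of_mem_open (Set.mem_univ t) isOpen_univ
        exact Set.mem_iUnion.mpr ⟨⟨U, hU⟩, htU⟩
    refine ⟨b, b.finite_toSet, fun t => ?_⟩
    obtain ⟨U, hU, htU⟩ := Set.mem_iUnion₂.mp (hb (Set.mem_univ t))
    exact ⟨U, hU, htU⟩
  choose n hn using fun U : T.affineOpens => finrank_residueField_le p U.1 U.2
  refine ⟨(hs.toFinset.sup n).factorial, Nat.factorial_pos _, fun t' => ?_⟩
  obtain ⟨U, hU, htU⟩ := hcov (p t')
  obtain ⟨hfin, hle⟩ := hn U t' htU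
  letI := (p.residueFieldMap t').hom.toAlgebra
  haveI := hfin
  haveI : IsPurelyInseparable (T.residueField (p t')) (T'.residueField t') :=
    ((((tfae_universallyInjective p).out 0 2).mp (inferInstance : UniversallyInjective p) :
      Function.Injective p ∧ ∀ x, (p.residueFieldMap x).hom.IsPurelyInseparable)).2 t'
  obtain ⟨e, he⟩ := IsPurelyInseparable.finrank_eq_pow (F := T.residueField (p t'))
    (T'.residueField t') (ringExpChar (T.residueField (p t')))
  refine ⟨e, he, ?_⟩
  rw [← he]
  exact Nat.dvd_factorial Module.finrank_pos (hle.trans (Finset.le_sup (hs.mem_toFinset.mpr hU)))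

end Groth.Agent.S13831
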