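import Groth.Statements.S13834
import Mathlib

-- import your own Groth.Agent.* helpers here

set_option autoImplicit false
universe u
open AlgebraicGeometry
open EtaPt

namespace Groth.Agent.S13834

open CategoryTheory Topology

section
variable {α : Type*} [TopologicalSpace α] [QuasiSober α] [T0Space α]

theorem generic_iff {x : α} : x ∈ genericPoints α ↔ ∀ y, y ⤳ x → y = x := by
  constructor
  · intro hx y hy
    have h := hx.eq_of_subset isIrreducible_singleton.closure (specializes_iff_closure_subset.1 hy)
    exact (inseparable_iff_closure_eq.2 h.symm).eq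
  · intro h
    obtain ⟨Z, hZ, hxZ⟩ := exists_mem_irreducibleComponents_subset_of_isIrreducible {x} isIrreducible_singleton
    obtain ⟨η, hη⟩ := QuasiSober.sober hZ.1 (isClosed_of_mem_irreducibleComponents Z hZ)
    have : η = x := h η (hη.specializes (hxZ (Set.mem_singleton x) : x ∈ Z))
    subst this
    show closure ({η} : Set α) ∈ irreducibleComponents α
    rw [hη.def]; exact hZ

theorem generic_open {U : TopologicalSpace.Opens α} (x : U) :
    x ∈ genericPoints U ↔ (x : α) ∈ genericPoints α := by
  haveI : QuasiSober U := U.2.isOpenEmbedding_subtypeVal.quasiSober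
  rw [generic_iff, generic_iff]
  refine ⟨fun h y hy => ?_, fun h y hy => Subtype.ext (h _ (subtype_specializes_iff _ _ |>.1 hy))⟩
  have := h ⟨y, hy.mem_open U.2 x.2⟩ ((subtype_specializes_iff _ _).2 hy)
  exact congrArg Subtype.val this

end

theorem finite_generic_affine {W A : Scheme.{u}} [IsAffine W] [IsAffine A] (h : W ⟶ A) [Flat h] [LocallyOfFiniteType h]
    (hA : (genericPoints A).Finite) : (genericPoints W).Finite := by
  have key : ∀ u, (genericPoints W ∩ h ⁻¹' {u}).Finite := fun u => by
    haveI : LocallyOfFiniteType (h.fiberToSpecResidueField u) := MorphismProperty.pullback_snd _ _ inferInstance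
    haveI : IsLocallyNoetherian (h.fiber u) := LocallyOfFiniteType.isLocallyNoetherian (h.fiberToSpecResidueField u)
    haveI : IsNoetherian (h.fiber u) := {}
    refine ((genericPoints.finite TopologicalSpace.NoetherianSpace.finite_irreducibleComponents).image (h.fiberι u)).subset ?_
    rintro w ⟨hw, hwu⟩
    obtain ⟨z, rfl⟩ : w ∈ Set.range (h.fiberι u) := by rw [h.range_fiberι]; exact hwu
    refine ⟨z, generic_iff.2 fun z' hz' => ?_, rfl⟩
    exact (h.fiberι u).isEmbedding.injective (generic_iff.1 hw _ (hz'.map (h.fiberι u).continuous))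
  refine (hA.biUnion fun u _ => key u).subset fun w hw => ?_
  refine Set.mem_biUnion ?_ ⟨hw, rfl⟩
  refine generic_iff.2 fun u hu => ?_
  obtain ⟨w', hw', rfl⟩ := Flat.generalizingMap h hu
  rw [generic_iff.1 hw w' hw']



/-- If f : Y → X is faithfully flat and locally of finite presentation and each quasi-compact open
subset of X has only finitely many irreducible components, the same is true of each quasi-compact
open subset of Y. -/
theorem result {Y X : Scheme.{u}} (f : Y ⟶ X) [Flat f] [LocallyOfFinitePresentation f] [Surjective f]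
    (hX : ∀ U : X.Opens, IsCompact (U : Set X) → (irreducibleComponents (U : Type u)).Finite)
    (V : Y.Opens) (hV : IsCompact (V : Set Y)) : (irreducibleComponents (V : Type u)).Finite := by
  classical
  suffices hg : (genericPoints (V : Type u)).Finite by
    haveI := hg.to_subtype
    exact Set.finite_coe_iff.1 (Finite.of_equiv _ genericPoints.equiv)
  have key : ∀ y : Y, ∃ W : Y.Opens, y ∈ W ∧ (genericPoints W).Finite := fun y => by
    obtain ⟨A, hA, hyA, -⟩ := exists_isAffineOpen_mem_and_subset (X := X) (x := f y) (U := ⊤) trivial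
    obtain ⟨W, hW, hyW, hWA⟩ := exists_isAffineOpen_mem_and_subset (X := Y) (x := y) (U := f ⁻¹ᵁ A) hyA
    haveI : IsAffine (A : Scheme.{u}) := hA
    haveI : IsAffine (W : Scheme.{u}) := hW
    exact ⟨W, hyW, finite_generic_affine (f.resLE A W hWA) (genericPoints.finite (hX A hA.isCompact))⟩
  choose W hyW hWfin using key
  obtain ⟨t, ht⟩ := hV.elim_finite_subcover (fun y => (W y : Set Y)) (fun y => (W y).2) fun y _ => Set.mem_iUnion.2 ⟨y, hyW y⟩
  have hfin : (⋃ y ∈ t, Subtype.val '' genericPoints (W y) : Set Y).Finite :=
    t.finite_toSet.biUnion fun y _ => (hWfin y).image _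
  refine (hfin.preimage Subtype.val_injective.injOn).subset fun v hv => ?_
  obtain ⟨y, hy, hvy⟩ := Set.mem_iUnion₂.1 (ht v.2)
  exact Set.mem_iUnion₂.2 ⟨y, hy, ⟨v.1, hvy⟩, (generic_open (U := W y) ⟨v.1, hvy⟩).2 ((generic_open (U := V) v).1 hv), rfl⟩

end Groth.Agent.S13834
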