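import Groth.Statements.S13835


set_option autoImplicit false
universe u
open AlgebraicGeometry CategoryTheory
open ChowMon

namespace Groth.Agent.S13835

/-- Let p : T' → T be a universal homeomorphism of separated schemes with T reduced and f' : T' → Y a
morphism (Y separated); if T has an open cover by affine opens U_i such that each restriction of f'
to p⁻¹(U_i) factors through p⁻¹(U_i) → U_i, then f' factors through p. -/
theorem result {T' T Y : Scheme.{u}} (p : T' ⟶ T) (hp : FlatMor.IsUnivHomeo p) [IsReduced T]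
    [T.IsSeparated] [T'.IsSeparated] [Y.IsSeparated] (f' : T' ⟶ Y)
    {ι : Type u} (U : ι → T.affineOpens) (hU : ⨆ i, (U i : T.Opens) = ⊤)
    (hloc : ∀ i, ∃ fi : ((U i : T.Opens) : Scheme.{u}) ⟶ Y, (p ⁻¹ᵁ (U i : T.Opens)).ι ≫ f' = (p ∣_ (U i : T.Opens)) ≫ fi) :
    ∃ f : T ⟶ Y, p ≫ f = f' := by
  have : Surjective p := ⟨(hp _ _ _ ((CategoryTheory.IsPullback.of_id_fst (f := p)).flip)).bijective.surjective⟩
  choose fi hfi using hloc
  let 𝒰 : T.OpenCover := T.openCoverOfIsOpenCover (fun i => (U i : T.Opens)) hU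
  have compat : ∀ i j, CategoryTheory.Limits.pullback.fst (U i : T.Opens).ι (U j : T.Opens).ι ≫ fi i =
      CategoryTheory.Limits.pullback.snd (U i : T.Opens).ι (U j : T.Opens).ι ≫ fi j := by
    intro i j
    let w := CategoryTheory.Limits.pullback.fst (U i : T.Opens).ι (U j : T.Opens).ι
    let w' := CategoryTheory.Limits.pullback.snd (U i : T.Opens).ι (U j : T.Opens).ι
    let W := CategoryTheory.Limits.pullback (U i : T.Opens).ι (U j : T.Opens).ι
    have : IsReduced W := isReduced_of_isOpenImmersion w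
    have hww : w ≫ (U i : T.Opens).ι = w' ≫ (U j : T.Opens).ι := CategoryTheory.Limits.pullback.condition
    let q := CategoryTheory.Limits.pullback.fst (w ≫ (U i : T.Opens).ι) p
    let t := CategoryTheory.Limits.pullback.snd (w ≫ (U i : T.Opens).ι) p
    have hqt : q ≫ w ≫ (U i : T.Opens).ι = t ≫ p := CategoryTheory.Limits.pullback.condition
    have : Surjective q := inferInstance
    refine ext_of_isDominant q ?_
    have ki := (isPullback_morphismRestrict p (U i : T.Opens)).exists_lift (q ≫ w) t (by rw [CategoryTheory.Category.assoc, hqt])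
    have kj := (isPullback_morphismRestrict p (U j : T.Opens)).exists_lift (q ≫ w') t (by rw [CategoryTheory.Category.assoc, ← hww, hqt])
    obtain ⟨a, ha1, ha2⟩ := ki
    obtain ⟨b, hb1, hb2⟩ := kj
    rw [← CategoryTheory.Category.assoc, ← CategoryTheory.Category.assoc, ← ha1, ← hb1, CategoryTheory.Category.assoc, CategoryTheory.Category.assoc, ← hfi, ← hfi,
      ← CategoryTheory.Category.assoc, ← CategoryTheory.Category.assoc, ha2, hb2]
  refine ⟨𝒰.glueMorphisms fi compat, ?_⟩
  refine (T'.openCoverOfIsOpenCover (fun i => p ⁻¹ᵁ (U i : T.Opens)) ?_).hom_ext _ _ fun i => ?_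
  · change ⨆ i, p ⁻¹ᵁ (U i : T.Opens) = ⊤
    rw [← Scheme.Hom.preimage_iSup, hU, Scheme.Hom.preimage_top]
  · change (p ⁻¹ᵁ (U i : T.Opens)).ι ≫ p ≫ _ = (p ⁻¹ᵁ (U i : T.Opens)).ι ≫ f'
    rw [hfi i, ← CategoryTheory.Category.assoc, ← morphismRestrict_ι, CategoryTheory.Category.assoc]
    exact congrArg ((p ∣_ (U i : T.Opens)) ≫ ·) (𝒰.ι_glueMorphisms fi compat i)
end Groth.Agent.S13835
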