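import Groth.Statements.S13837
import Groth.Agent.WeakNorm
import Mathlib.RingTheory.Kaehler.Basic
import Groth.Agent.S0415
-- import your own Groth.Agent.* helpers here

set_option autoImplicit false
universe u
open AlgebraicGeometry
open scoped TensorProduct
open HTop

namespace Groth.Agent.S13837

/-- Let A ⊆ B be an integral ring extension where A and B have finitely many minimal prime ideals; then
the weak normalization of A in B is the equaliser of the two maps B ⇉ (B ⊗_A B)_red: the
A-subalgebra E of elements b with b ⊗ 1 − 1 ⊗ b nilpotent in B ⊗_A B has Spec E → Spec A a universal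
homeomorphism, and every A-subalgebra C of B with Spec C → Spec A a universal homeomorphism is
contained in E. -/
theorem result (A B : Type u) [CommRing A] [CommRing B] [Algebra A B] (hinj : Function.Injective (algebraMap A B))
    [Algebra.IsIntegral A B] (hA : (minimalPrimes A).Finite) (hB : (minimalPrimes B).Finite) :
    ∃ E : Subalgebra A B, (∀ b : B, b ∈ E ↔ IsNilpotent (b ⊗ₜ[A] (1 : B) - (1 : B) ⊗ₜ[A] b)) ∧
      FlatMor.IsUnivHomeo (Spec.map (CommRingCat.ofHom (algebraMap A E))) ∧
      ∀ C : Subalgebra A B, FlatMor.IsUnivHomeo (Spec.map (CommRingCat.ofHom (algebraMap A C))) → C ≤ E := by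
  let π := Ideal.Quotient.mkₐ A (nilradical (B ⊗[A] B))
  let l : B →ₐ[A] B ⊗[A] B := Algebra.TensorProduct.includeLeft
  let r : B →ₐ[A] B ⊗[A] B := Algebra.TensorProduct.includeRight
  let E := AlgHom.equalizer (π.comp l) (π.comp r)
  have hE : ∀ b : B, b ∈ E ↔ IsNilpotent (b ⊗ₜ[A] (1 : B) - (1 : B) ⊗ₜ[A] b) := fun b => by
    show π (l b) = π (r b) ↔ _
    rw [← sub_eq_zero, ← map_sub, show π (l b - r b) = Ideal.Quotient.mk _ (l b - r b) from rfl,
      Ideal.Quotient.eq_zero_iff_mem, mem_nilradical]
    rfl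
  have huh : ∀ (C : Subalgebra A B), FlatMor.IsUnivHomeo (Spec.map (CommRingCat.ofHom (algebraMap A C))) ↔
      RingHom.ker (Algebra.TensorProduct.lmul' A (S := C)) ≤ nilradical (C ⊗[A] C) := by
    intro C
    rw [Groth.Agent.S0415.result]
    haveI : Algebra.IsIntegral A C := Algebra.IsIntegral.of_injective C.val Subtype.val_injective
    have h3 : Surjective (Spec.map (CommRingCat.ofHom (algebraMap A C))) :=
      ⟨(algebraMap_isIntegral_iff.mpr inferInstance : (algebraMap A C).IsIntegral).comap_surjective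
        fun x y h => hinj (congrArg Subtype.val h)⟩
    have h1 : IsIntegralHom (Spec.map (CommRingCat.ofHom (algebraMap A C))) :=
      IsIntegralHom.SpecMap_iff.mpr (algebraMap_isIntegral_iff.mpr inferInstance)
    simp only [h1, h3, and_true, true_and, UniversallyInjective.iff_diagonal, diagonal_SpecMap,
      CategoryTheory.MorphismProperty.cancel_right_of_respectsIso @Surjective]
    rw [surjective_iff]
    show Function.Surjective (PrimeSpectrum.comap (Algebra.TensorProduct.lmul' A (S := C)).toRingHom) ↔ _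
    rw [← Set.range_eq_univ, range_comap_of_surjective _ _ fun c => ⟨c ⊗ₜ 1, by simp⟩,
      PrimeSpectrum.zeroLocus_eq_univ_iff]
    rfl
  refine ⟨E, hE, (huh E).mpr ?_, fun C hC c hc => ?_⟩
  · -- nilpotency descends along `E ⊗ E → B ⊗ B`
    haveI : Algebra.IsIntegral E B := Algebra.IsIntegral.tower_top A
    intro z hz
    replace hz : z ∈ KaehlerDifferential.ideal A E := hz
    rw [← KaehlerDifferential.span_range_eq_ideal] at hz
    refine Ideal.span_le.mpr ?_ hz
    rintro _ ⟨e, rfl⟩
    rw [SetLike.mem_coe, nilradical_eq_sInf, Submodule.mem_sInf]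
    intro (P : Ideal (E ⊗[A] E)) (hP : Ideal.IsPrime P)
    haveI : P.IsPrime := hP
    let Ω := AlgebraicClosure P.ResidueField
    let φ : E ⊗[A] E →+* Ω := (algebraMap P.ResidueField Ω).comp (algebraMap _ P.ResidueField)
    obtain ⟨ψ₁, h₁⟩ := WeakNormLib.exists_lift (φ.comp (Algebra.TensorProduct.includeLeft : E →ₐ[A] E ⊗[A] E).toRingHom) (algebraMap E B) Subtype.val_injective (algebraMap_isIntegral_iff.mpr inferInstance)
    obtain ⟨ψ₂, h₂⟩ := WeakNormLib.exists_lift (φ.comp (Algebra.TensorProduct.includeRight : E →ₐ[A] E ⊗[A] E).toRingHom) (algebraMap E B) Subtype.val_injective (algebraMap_isIntegral_iff.mpr inferInstance)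
    letI : Algebra A Ω := (φ.comp (algebraMap A (E ⊗[A] E))).toAlgebra
    let Ψ₁ : B →ₐ[A] Ω := { ψ₁ with commutes' := fun a => h₁ (algebraMap A E a) }
    have hc2 : ∀ a : A, ψ₂ (algebraMap E B (algebraMap A E a)) = φ (algebraMap A (E ⊗[A] E) a) := fun a => by
      rw [h₂]
      exact congrArg φ ((Algebra.TensorProduct.includeRight : E →ₐ[A] E ⊗[A] E).commutes a)
    let Ψ₂ : B →ₐ[A] Ω := { ψ₂ with commutes' := hc2 }
    have h := ((hE e).mp e.2).map (Algebra.TensorProduct.productMap Ψ₁ Ψ₂)
    rw [map_sub, Algebra.TensorProduct.productMap_apply_tmul, Algebra.TensorProduct.productMap_apply_tmul, map_one,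
      map_one, one_mul, mul_one, isNilpotent_iff_eq_zero, sub_eq_zero] at h
    have h' : φ ((1 : E) ⊗ₜ[A] e - e ⊗ₜ[A] (1 : E)) = 0 := by
      rw [map_sub, sub_eq_zero]
      exact (h₂ e).symm.trans (h.symm.trans (h₁ e))
    exact Ideal.algebraMap_residueField_eq_zero.mp ((algebraMap P.ResidueField Ω).injective (h'.trans (map_zero _).symm))
  · have hker := (huh C).mp hC
    have hm : (⟨c, hc⟩ : C) ⊗ₜ[A] (1 : C) - (1 : C) ⊗ₜ[A] ⟨c, hc⟩ ∈
        RingHom.ker (Algebra.TensorProduct.lmul' A (S := C)) := by simp [RingHom.mem_ker]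
    have h := (mem_nilradical.mp (hker hm)).map (Algebra.TensorProduct.map C.val C.val)
    rw [hE]
    simpa using h

end Groth.Agent.S13837
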