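import Groth.Statements.S13838
import Groth.Agent.AWNLib.Basic

set_option autoImplicit false
universe u
open AlgebraicGeometry
open HTop

namespace Groth.Agent.S13838

/-- Let A ⊆ B be an integral ring extension where A and B have finitely many minimal prime ideals, such
that every prime p of A has a prime q of B above it for which k(p) is closed under extracting
p-power roots inside k(q) (the purely inseparable closure of k(p) in k(q) is k(p)); then the semi-
and weak normalizations of A in B coincide: every A-subalgebra C of B with Spec C → Spec A a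
universal homeomorphism already induces isomorphisms on residue fields. -/
theorem result (A B : Type u) [CommRing A] [CommRing B] [Algebra A B] (hinj : Function.Injective (algebraMap A B))
    [Algebra.IsIntegral A B] (hA : (minimalPrimes A).Finite) (hB : (minimalPrimes B).Finite)
    (hpi : ∀ p : PrimeSpectrum A, ∃ q : PrimeSpectrum B, ∃ hq : p.asIdeal = Ideal.comap (algebraMap A B) q.asIdeal,
      ∀ x : q.asIdeal.ResidueField,
        (∃ n : ℕ, x ^ ringExpChar p.asIdeal.ResidueField ^ n ∈
            Set.range (Ideal.ResidueField.map p.asIdeal q.asIdeal (algebraMap A B) hq)) →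
        x ∈ Set.range (Ideal.ResidueField.map p.asIdeal q.asIdeal (algebraMap A B) hq)) :
    ∀ C : Subalgebra A B, FlatMor.IsUnivHomeo (Spec.map (CommRingCat.ofHom (algebraMap A C))) →
      HTop.ResidueFieldsIso (Spec.map (CommRingCat.ofHom (algebraMap A C))) := by
  intro C hC
  rw [EtaLib.residueFieldsIso_iff]
  intro Q
  refine ⟨RingHom.injective _, fun y => ?_⟩
  obtain ⟨n, z, hz⟩ := AWNLib.pow_mem_of_univHomeo _ hC Q y
  obtain ⟨q, hq, hx⟩ := hpi (PrimeSpectrum.comap (algebraMap A C) Q)
  have hQ : Q = PrimeSpectrum.comap C.val.toRingHom q := by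
    rw [Groth.Agent.S0415.result] at hC
    have := hC.2.1
    refine (Spec.map (CommRingCat.ofHom (algebraMap A C))).injective ?_
    exact PrimeSpectrum.ext (hq.trans rfl)
  subst hQ
  let ι := Ideal.ResidueField.map (PrimeSpectrum.comap (algebraMap A C)
    (PrimeSpectrum.comap C.val.toRingHom q)).asIdeal (PrimeSpectrum.comap C.val.toRingHom q).asIdeal (algebraMap A C) rfl
  let j := Ideal.ResidueField.map (PrimeSpectrum.comap C.val.toRingHom q).asIdeal q.asIdeal C.val.toRingHom rfl
  have hcomp : ∀ w, j (ι w) = Ideal.ResidueField.map (PrimeSpectrum.comap (algebraMap A C)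
      (PrimeSpectrum.comap C.val.toRingHom q)).asIdeal q.asIdeal (algebraMap A B) hq w := by
    refine DFunLike.congr_fun (Ideal.ResidueField.ringHom_ext (f := j.comp ι) (RingHom.ext fun a => ?_))
    show j (ι (algebraMap A _ a)) = Ideal.ResidueField.map _ q.asIdeal (algebraMap A B) hq (algebraMap A _ a)
    simp only [ι, j, Ideal.ResidueField.map_algebraMap]
    rfl
  obtain ⟨w, hw⟩ := hx (j y) ⟨n, z, by rw [← hcomp, ← map_pow]; exact congrArg j hz⟩
  exact ⟨w, j.injective ((hcomp w).trans hw)⟩
end Groth.Agent.S13838
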