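import Groth.Statements.S13843
import Groth.Agent.EtTransferLib.Field
import Mathlib.FieldTheory.Galois.Basic
import Mathlib.FieldTheory.Normal.Closure
import Mathlib.GroupTheory.Sylow

set_option maxHeartbeats 1000000
set_option linter.unusedSectionVars false
set_option backward.isDefEq.respectTransparency false
set_option backward.isDefEq.respectTransparency.types false

set_option autoImplicit false
universe u
open CategoryTheory CategoryTheory.Limits AlgebraicGeometry
open GalCoh

namespace Groth.Agent.S13843

open CategoryTheory.Abelian EtTransferLib EtSliceLib Groth.Agent.EtShLib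

/-- The map of spectra of a tower, over the bottom field. -/
noncomputable def towerMap (K L M : Type u) [Field K] [Field L] [Field M] [Algebra K L] [Algebra K M]
    [FiniteDimensional K L] [Algebra.IsSeparable K L] [FiniteDimensional K M] [Algebra.IsSeparable K M]
    (φ : L →ₐ[K] M) : fieldEt K M ⟶ fieldEt K L :=
  MorphismProperty.Over.homMk (Spec.map (CommRingCat.ofHom φ.toRingHom)) (by
    show Spec.map _ ≫ Spec.map (CommRingCat.ofHom (algebraMap K L)) = Spec.map (CommRingCat.ofHom (algebraMap K M))
    rw [← Spec.map_comp, ← CommRingCat.ofHom_comp]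
    exact congrArg (fun c => Spec.map (CommRingCat.ofHom c)) φ.comp_algebraMap)

theorem eq_zero_of_coprime {A : Type*} [AddCommGroup A] {d m : ℕ} (h : Nat.Coprime d m) {a : A} (h1 : d • a = 0)
    (h2 : m • a = 0) : a = 0 := by
  have e := Nat.gcd_eq_gcd_ab d m
  rw [Nat.Coprime.gcd_eq_one h] at e
  have h3 : ((1 : ℕ) : ℤ) • a = (0 : A) := by
    rw [e, add_zsmul, mul_comm, mul_zsmul, natCast_zsmul, h1, zsmul_zero, mul_comm, mul_zsmul, natCast_zsmul, h2,
      zsmul_zero, add_zero]
  simpa using h3


/-- Let K be a field, F an abelian sheaf on the small étale site of Spec K, i > 0 and α a class in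
H^i(Spec K, F) which pulls back to zero over some finite separable field extension L of K. If p is a
prime not dividing the order of α, then there is a finite separable field extension L' of K whose
degree is not divisible by p and over which α pulls back to zero. Hence the period and the index of
α have the same prime factors. (Exactness of pullback of abelian sheaves, which always holds, is
carried as an instance hypothesis, in the conclusion for every such instance.) -/
theorem result (K : Type u) [Field K] (F : EtCoh.Ab (Spec (CommRingCat.of K))) (i : ℕ)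
    (hi : 0 < i) (α : EtCoh.H (Spec (CommRingCat.of K)) F i) (L : Type u) [Field L] [Algebra K L] [FiniteDimensional K L]
    [Algebra.IsSeparable K L] [PreservesFiniteLimits (EtCoh.pull (Spec.map (CommRingCat.ofHom (algebraMap K L))))]
    (hα : EtCore.Hpull (Spec.map (CommRingCat.ofHom (algebraMap K L))) F i α = 0) (p : ℕ) (hp : p.Prime) (hpα : ¬ p ∣ addOrderOf α) :
    ∃ (L' : Type u) (_ : Field L') (_ : Algebra K L') (_ : FiniteDimensional K L') (_ : Algebra.IsSeparable K L'),
      ¬ p ∣ Module.finrank K L' ∧
        ∀ [PreservesFiniteLimits (EtCoh.pull (Spec.map (CommRingCat.ofHom (algebraMap K L'))))],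
          EtCore.Hpull (Spec.map (CommRingCat.ofHom (algebraMap K L'))) F i α = 0 := by
  classical
  haveI : PreservesFiniteLimits (EtCoh.pull (fieldEt K L).hom) := ‹_›
  have hk := (kills_iff (W := fieldEt K L) F i α).1 hα
  let M := IntermediateField.normalClosure K L (SeparableClosure K)
  haveI : Fact p.Prime := ⟨hp⟩
  haveI : Algebra.IsSeparable K M := Algebra.isSeparable_tower_bot_of_isSeparable K M (SeparableClosure K)
  haveI : Normal K M := by infer_instance
  haveI : IsGalois K M := ⟨⟩
  let P : Sylow p (M ≃ₐ[K] M) := default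
  let L' : IntermediateField K M := IntermediateField.fixedField (P : Subgroup (M ≃ₐ[K] M))
  haveI : Algebra.IsSeparable L' M := Algebra.isSeparable_tower_top_of_isSeparable K L' M
  haveI : Algebra.IsSeparable K L' := Algebra.isSeparable_tower_bot_of_isSeparable K L' M
  refine ⟨L', inferInstance, inferInstance, inferInstance, inferInstance, ?_, ?_⟩
  · intro hdvd
    refine Sylow.not_dvd_index P ?_
    have h1 := Module.finrank_mul_finrank K L' M
    rw [IntermediateField.finrank_fixedField_eq_card, ← IsGalois.card_aut_eq_finrank K M,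
      ← Subgroup.index_mul_card (P : Subgroup (M ≃ₐ[K] M))] at h1
    rw [← Nat.eq_of_mul_eq_mul_right Nat.card_pos h1]
    exact hdvd
  intro inst
  haveI : PreservesFiniteLimits (EtCoh.pull (fieldEt K L').hom) := inst
  refine (kills_iff (W := fieldEt K L') F i α).2 ?_
  let φ : fieldEt K M ⟶ fieldEt K L' := towerMap K L' M L'.val
  let σ : L →ₐ[K] M := Classical.choice (by
    have f : L →ₐ[K] SeparableClosure K := IsSepClosed.lift
    exact ⟨f.codRestrict M.toSubalgebra fun x => AlgHom.fieldRange_le_normalClosure f ⟨x, rfl⟩⟩)
  let y : Ext.{u + 1} (free (fieldEt K L')) F i := (Ext.mk₀ (toConst (fieldEt K L'))).comp α (zero_add i)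
  have hM : (Ext.mk₀ (freeMap φ)).comp y (zero_add i) = 0 := by
    rw [← Ext.comp_assoc_of_second_deg_zero, Ext.mk₀_comp_mk₀, freeMap_toConst,
      ← freeMap_toConst (towerMap K L M σ), ← Ext.mk₀_comp_mk₀, Ext.comp_assoc_of_second_deg_zero, hk, Ext.comp_zero]
  haveI : IsFinite φ.left := isFinite_specMap L' M
  have hd : Module.finrank L' M • y = 0 := by
    refine nsmul_eq_zero_of_freeMap φ _ (fun Ω _ _ ξ z => ?_) y hM
    rw [← card_lifts L' M Ω z.hom]
    exact Nat.card_congr (liftEquiv φ z)
  have hm : addOrderOf α • y = 0 := by
    change addOrderOf α • ((Ext.mk₀ (toConst (fieldEt K L'))).precomp F (zero_add i)) α = 0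
    rw [← map_nsmul ((Ext.mk₀ (toConst (fieldEt K L'))).precomp F (zero_add i)) (addOrderOf α) α,
      addOrderOf_nsmul_eq_zero, map_zero]
  obtain ⟨a, ha⟩ := P.2.exists_card_eq
  refine eq_zero_of_coprime ?_ hd hm
  rw [IntermediateField.finrank_fixedField_eq_card]
  exact ha ▸ (Nat.Coprime.pow_left a (hp.coprime_iff_not_dvd.2 hpα))

end Groth.Agent.S13843
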