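import Groth.Statements.S13846
import Mathlib

set_option autoImplicit false
universe u v
open TwSh

namespace Groth.Agent.S13846

/-- Let k be a field and V, W finite-dimensional ℤ-graded k-vector spaces, V = ⊕ V_i with V ≠ 0 and W =
⊕ W_i. Let φ : End_k(V) ≃ End_k(W) be a k-algebra isomorphism which sends every endomorphism
homogeneous of degree d (one mapping V_i into V_{i+d} for all i) to an endomorphism homogeneous of
degree d. Then there are an integer n and a k-linear isomorphism g : V ≅ W with g(V_i) = W_{i+n} for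
every i such that φ(f) = g ∘ f ∘ g⁻¹ for all f; moreover n is unique and g is unique up to a nonzero
scalar: if g' : V ≅ W satisfies g'(V_i) = W_{i+n'} for all i and φ(f) = g' ∘ f ∘ g'⁻¹ for all f,
then n' = n and g' = c·g for some c ∈ kˣ. (The published statement is about non-zero perfect
complexes over k: an isomorphism of their derived endomorphism algebras, as algebra objects of the
derived category, is induced by an isomorphism from the first complex to a shift of the second, for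
a unique shift and up to a unit; this row is its form for finite-dimensional ℤ-graded vector spaces,
to which the bounded derived category of a field is equivalent by taking cohomology.) -/
theorem result (k : Type u) [Field k] (V W : Type v) [AddCommGroup V] [Module k V] [FiniteDimensional k V] [Nontrivial V] [AddCommGroup W] [Module k W] [FiniteDimensional k W] (𝒱 : ℤ → Submodule k V) (h𝒱 : DirectSum.IsInternal 𝒱) (𝒲 : ℤ → Submodule k W) (h𝒲 : DirectSum.IsInternal 𝒲) (φ : Module.End k V ≃ₐ[k] Module.End k W) (hφ : ∀ (d : ℤ) (f : Module.End k V), (∀ (i : ℤ) (x : V), x ∈ 𝒱 i → f x ∈ 𝒱 (i + d)) → ∀ (i : ℤ) (y : W), y ∈ 𝒲 i → φ f y ∈ 𝒲 (i + d)) : ∃ (n : ℤ) (g : V ≃ₗ[k] W), (∀ i : ℤ, Submodule.map (g : V →ₗ[k] W) (𝒱 i) = 𝒲 (i + n)) ∧ (∀ f : Module.End k V, φ f = (g : V →ₗ[k] W) ∘ₗ f ∘ₗ (g.symm : W →ₗ[k] V)) ∧ ∀ (n' : ℤ) (g' : V ≃ₗ[k] W), (∀ i : ℤ, Submodule.map (g' : V →ₗ[k] W) (𝒱 i) = 𝒲 (i + n')) → (∀ f : Module.End k V, φ f =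 (g' : V →ₗ[k] W) ∘ₗ f ∘ₗ (g'.symm : W →ₗ[k] V)) → n' = n ∧ ∃ c : kˣ, ∀ x : V, g' x = c • g x := by
  classical
  letI : DirectSum.Decomposition 𝒱 := h𝒱.chooseDecomposition
  letI : DirectSum.Decomposition 𝒲 := h𝒲.chooseDecomposition
  let P : ℤ → Module.End k V := fun i =>
    (𝒱 i).subtype ∘ₗ DirectSum.component k ℤ (fun i => 𝒱 i) i ∘ₗ (DirectSum.decomposeLinearEquiv 𝒱).toLinearMap
  let Q : ℤ → Module.End k W := fun i =>
    (𝒲 i).subtype ∘ₗ DirectSum.component k ℤ (fun i => 𝒲 i) i ∘ₗ (DirectSum.decomposeLinearEquiv 𝒲).toLinearMap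
  have Pmem : ∀ i x, P i x ∈ 𝒱 i := fun i x => SetLike.coe_mem _
  have Psame : ∀ i x, x ∈ 𝒱 i → P i x = x := fun i x hx => DirectSum.decompose_of_mem_same 𝒱 hx
  have Pne : ∀ i j x, x ∈ 𝒱 j → j ≠ i → P i x = 0 := fun i j x hx h => DirectSum.decompose_of_mem_ne 𝒱 hx h
  have Qsame : ∀ i x, x ∈ 𝒲 i → Q i x = x := fun i x hx => DirectSum.decompose_of_mem_same 𝒲 hx
  have Qne : ∀ i j x, x ∈ 𝒲 j → j ≠ i → Q i x = 0 := fun i j x hx h => DirectSum.decompose_of_mem_ne 𝒲 hx h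
  have hP0 : ∀ i j x, x ∈ 𝒱 j → P i x ∈ 𝒱 (j + 0) := by
    intro i j x hx
    rw [add_zero]
    rcases eq_or_ne j i with rfl | h
    · rw [Psame j x hx]; exact hx
    · rw [Pne i j x hx h]; exact zero_mem _
  obtain ⟨g, hg⟩ := φ.eq_linearEquivConjAlgEquiv
  have hφg : ∀ f : Module.End k V, φ f = (g : V →ₗ[k] W) ∘ₗ f ∘ₗ (g.symm : W →ₗ[k] V) := fun f => by
    rw [hg]; rfl
  have hgh : ∀ (d : ℤ) (f : Module.End k V), (∀ (i : ℤ) (x : V), x ∈ 𝒱 i → f x ∈ 𝒱 (i + d)) →
      ∀ (i : ℤ) (y : W), y ∈ 𝒲 i → g (f (g.symm y)) ∈ 𝒲 (i + d) := by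
    intro d f hf i y hy
    have := hφ d f hf i y hy
    rwa [hφg] at this
  obtain ⟨i₀, x₀, hx₀, hx₀0⟩ : ∃ i x, x ∈ 𝒱 i ∧ x ≠ (0 : V) := by
    by_contra! h
    obtain ⟨v, hv⟩ := exists_ne (0 : V)
    refine hv ?_
    rw [← DirectSum.sum_support_decompose 𝒱 v]
    exact Finset.sum_eq_zero fun i _ => h i _ (SetLike.coe_mem _)
  obtain ⟨j, w, hw, hw0⟩ : ∃ j w, w ∈ 𝒲 j ∧ g (P i₀ (g.symm w)) ≠ 0 := by
    by_contra! h
    have : (g : V →ₗ[k] W) ∘ₗ P i₀ ∘ₗ (g.symm : W →ₗ[k] V) = 0 :=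
      DirectSum.decompose_lhom_ext 𝒲 fun j => LinearMap.ext fun y => h j y y.2
    have h2 := LinearMap.congr_fun this (g x₀)
    simp only [LinearMap.coe_comp, LinearEquiv.coe_coe, Function.comp_apply, LinearEquiv.symm_apply_apply,
      Psame i₀ x₀ hx₀, LinearMap.zero_apply] at h2
    exact hx₀0 (g.map_eq_zero_iff.1 h2)
  obtain ⟨x₁, hx₁def⟩ : ∃ x₁, x₁ = P i₀ (g.symm w) := ⟨_, rfl⟩
  have hx₁ : x₁ ∈ 𝒱 i₀ := hx₁def ▸ Pmem _ _
  have hgx₁ : g x₁ ∈ 𝒲 j := by
    have := hgh 0 (P i₀) (hP0 i₀) j w hw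
    rwa [add_zero, ← hx₁def] at this
  have hx₁0 : x₁ ≠ 0 := fun h => hw0 (by rw [← hx₁def, h, map_zero])
  obtain ⟨lam, hlam⟩ := Module.Projective.exists_dual_eq_one k hx₁0
  have key : ∀ i x, x ∈ 𝒱 i → g x ∈ 𝒲 (i + (j - i₀)) := by
    intro i x hx
    let f : Module.End k V := LinearMap.smulRight (lam ∘ₗ P i₀) x
    have hf : ∀ (m : ℤ) (y : V), y ∈ 𝒱 m → f y ∈ 𝒱 (m + (i - i₀)) := by
      intro m y hy
      rcases eq_or_ne m i₀ with rfl | h
      · rw [show m + (i - m) = i by ring]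
        exact Submodule.smul_mem _ _ hx
      · simp [f, Pne i₀ m y hy h]
    have := hgh (i - i₀) f hf j (g x₁) hgx₁
    simp only [f, LinearEquiv.symm_apply_apply, LinearMap.smulRight_apply, LinearMap.coe_comp,
      Function.comp_apply, Psame i₀ x₁ hx₁, hlam, one_smul] at this
    rwa [show j + (i - i₀) = i + (j - i₀) by ring] at this
  have hQP : ∀ i, Q (i + (j - i₀)) ∘ₗ (g : V →ₗ[k] W) = (g : V →ₗ[k] W) ∘ₗ P i := by
    intro i
    refine DirectSum.decompose_lhom_ext 𝒱 fun m => LinearMap.ext fun y => ?_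
    simp only [LinearMap.coe_comp, LinearEquiv.coe_coe, Function.comp_apply, Submodule.coe_subtype]
    rcases eq_or_ne m i with rfl | h
    · rw [Psame m y y.2, Qsame _ _ (key m y y.2)]
    · rw [Pne i m y y.2 h, map_zero, Qne _ _ _ (key m y y.2) (by omega)]
  refine ⟨j - i₀, g, fun i => le_antisymm (Submodule.map_le_iff_le_comap.2 fun x hx => key i x hx) ?_, hφg, ?_⟩
  · intro y hy
    refine ⟨P i (g.symm y), Pmem _ _, ?_⟩
    have := LinearMap.congr_fun (hQP i) (g.symm y)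
    simp only [LinearMap.coe_comp, LinearEquiv.coe_coe, Function.comp_apply, LinearEquiv.apply_symm_apply] at this
    rw [Qsame _ _ hy] at this
    exact this.symm
  · intro n' g' hg' hφg'
    have hcomm : ∀ f : Module.End k V, ∀ x, g.symm (g' (f x)) = f (g.symm (g' x)) := by
      intro f x
      have := LinearMap.congr_fun ((hφg f).symm.trans (hφg' f)) (g' x)
      simp only [LinearMap.coe_comp, LinearEquiv.coe_coe, Function.comp_apply, LinearEquiv.symm_apply_apply] at this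
      rw [← this, LinearEquiv.symm_apply_apply]
    obtain ⟨c, hc⟩ : ∃ c : k, ∀ x, g' x = c • g x := by
      obtain ⟨v, hv⟩ := exists_ne (0 : V)
      obtain ⟨mu, hmu⟩ := Module.Projective.exists_dual_eq_one k hv
      refine ⟨mu (g.symm (g' v)), fun x => ?_⟩
      have := hcomm (LinearMap.smulRight mu x) v
      simp only [LinearMap.smulRight_apply, hmu, one_smul] at this
      rw [← g.apply_symm_apply (g' x), this, map_smul]
    have hc0 : c ≠ 0 := by
      rintro rfl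
      exact hx₀0 (g'.map_eq_zero_iff.1 (by rw [hc, zero_smul]))
    refine ⟨?_, Units.mk0 c hc0, fun x => hc x⟩
    by_contra hne
    have h1 : g' x₁ ∈ 𝒲 (i₀ + n') := by
      rw [← hg' i₀]; exact Submodule.mem_map_of_mem hx₁
    have h2 : g' x₁ ∈ 𝒲 (i₀ + (j - i₀)) := hc x₁ ▸ Submodule.smul_mem _ c (key i₀ x₁ hx₁)
    have : g' x₁ = 0 := by
      rw [← Qsame _ _ h1, Qne _ _ _ h2 (by omega)]
    exact hx₁0 (g'.map_eq_zero_iff.1 this)

end Groth.Agent.S13846
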