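import Groth.Statements.S13847
import Mathlib


set_option autoImplicit false
set_option linter.all false
universe u v
open TwSh

namespace Groth.Agent.S13847

theorem nonempty_simple (R : Type u) [Ring R] [IsSimpleRing R] [IsArtinianRing R] (S : Type*)
    [AddCommGroup S] [Module R S] [IsSimpleModule R S] (T : Type*) [AddCommGroup T] [Module R T]
    [IsSimpleModule R T] : Nonempty (S ≃ₗ[R] T) := by
  classical
  have h := IsSimpleRing.isIsotypic R (S × T)
  let a : Submodule R (S × T) := LinearMap.range (LinearMap.inl R S T)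
  let b : Submodule R (S × T) := LinearMap.range (LinearMap.inr R S T)
  let ea : S ≃ₗ[R] a := LinearEquiv.ofInjective _ LinearMap.inl_injective
  let eb : T ≃ₗ[R] b := LinearEquiv.ofInjective _ LinearMap.inr_injective
  haveI : IsSimpleModule R a := IsSimpleModule.congr ea.symm
  haveI : IsSimpleModule R b := IsSimpleModule.congr eb.symm
  exact ⟨(ea.trans (Classical.choice (h b a))).trans eb.symm⟩

section
variable {A : Type u} [Ring A] (M : Type v) [AddCommGroup M] [Module A M]

/-- the reduction modulo the radical -/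
abbrev bar : Type v := M ⧸ (Ring.jacobson A • (⊤ : Submodule A M))

theorem isTorsion : Module.IsTorsionBySet A (bar (A := A) M) (Ring.jacobson A : Set A) := by
  intro x a
  obtain ⟨m, rfl⟩ := Submodule.Quotient.mk_surjective _ x
  show (a : A) • Submodule.Quotient.mk m = 0
  rw [← Submodule.Quotient.mk_smul, Submodule.Quotient.mk_eq_zero]
  exact Submodule.smul_mem_smul a.2 trivial

noncomputable instance : Module (A ⧸ Ring.jacobson A) (bar (A := A) M) := (isTorsion M).module

instance : IsScalarTower A (A ⧸ Ring.jacobson A) (bar (A := A) M) := (isTorsion M).isScalarTower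

end

section
variable {A : Type u} [Ring A] {M N : Type v} [AddCommGroup M] [Module A M] [AddCommGroup N] [Module A N]

/-- reduction of a map -/
noncomputable def red (f : M →ₗ[A] N) : bar (A := A) M →ₗ[A ⧸ Ring.jacobson A] bar (A := A) N :=
  let g : bar (A := A) M →ₗ[A] bar (A := A) N := Submodule.mapQ _ _ f
    (Submodule.smul_le.2 fun r hr (m : M) (_ : m ∈ (⊤ : Submodule A M)) =>
      (Submodule.mem_comap (f := f)).2 ((map_smul f r m).symm ▸
        Submodule.smul_mem_smul hr (Submodule.mem_top : f m ∈ (⊤ : Submodule A N))))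
  { toFun := g
    map_add' := g.map_add
    map_smul' := fun q x => by
      obtain ⟨a, rfl⟩ := Ideal.Quotient.mk_surjective q
      exact g.map_smul a x }

@[simp] theorem red_mk (f : M →ₗ[A] N) (m : M) :
    red f (Submodule.Quotient.mk m) = Submodule.Quotient.mk (f m) := rfl

theorem mk_surj : Function.Surjective (Submodule.Quotient.mk : M → bar (A := A) M) :=
  Submodule.Quotient.mk_surjective _

theorem red_surj [Module.Projective A M] (g : bar (A := A) M →ₗ[A ⧸ Ring.jacobson A] bar (A := A) N) :
    ∃ f : M →ₗ[A] N, red f = g := by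
  let g' : M →ₗ[A] bar (A := A) N :=
    { toFun := fun m => g (Submodule.Quotient.mk m)
      map_add' := fun a b => by simp
      map_smul' := fun a m => by
        show g (Submodule.Quotient.mk (a • m)) = a • g (Submodule.Quotient.mk m)
        exact LinearMap.map_smul_of_tower g a (Submodule.Quotient.mk m) }
  obtain ⟨f, hf⟩ := Module.projective_lifting_property (Submodule.mkQ (Ring.jacobson A • (⊤ : Submodule A N)))
    g' (Submodule.mkQ_surjective _)
  refine ⟨f, LinearMap.ext fun x => ?_⟩
  obtain ⟨m, rfl⟩ := mk_surj x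
  exact LinearMap.congr_fun hf m

theorem surjective_of_red [Module.Finite A N] (f : M →ₗ[A] N) (h : Function.Surjective (red f)) :
    Function.Surjective f := by
  have hfg : (⊤ : Submodule A (N ⧸ LinearMap.range f)).FG := Module.Finite.fg_top
  have h0 : (⊤ : Submodule A (N ⧸ LinearMap.range f)) = ⊥ := by
    refine hfg.eq_bot_of_le_jacobson_smul fun x _ => ?_
    obtain ⟨n, rfl⟩ := Submodule.Quotient.mk_surjective _ x
    obtain ⟨y, hy⟩ := h (Submodule.Quotient.mk n)
    obtain ⟨m, rfl⟩ := mk_surj y
    rw [red_mk, Submodule.Quotient.eq] at hy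
    have h2 : Submodule.mkQ (LinearMap.range f) (f m - n) ∈
        Ring.jacobson A • (⊤ : Submodule A (N ⧸ LinearMap.range f)) := by
      have := Submodule.mem_map_of_mem (f := Submodule.mkQ (LinearMap.range f)) hy
      rw [Submodule.map_smul''] at this
      exact Submodule.smul_mono le_rfl le_top this
    have h3 : Submodule.mkQ (LinearMap.range f) (f m - n) = -Submodule.Quotient.mk n := by
      rw [map_sub, Submodule.mkQ_apply, Submodule.mkQ_apply,
        (Submodule.Quotient.mk_eq_zero _).2 (LinearMap.mem_range_self f m), zero_sub]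
    rw [h3] at h2
    exact neg_mem_iff.1 h2
  intro n
  have : Submodule.Quotient.mk n ∈ (⊥ : Submodule A (N ⧸ LinearMap.range f)) := h0 ▸ trivial
  exact (Submodule.Quotient.mk_eq_zero _).1 ((Submodule.mem_bot A).1 this)

theorem bijective_of_red_eq [Module.Finite A M] [Module.Projective A M] (f : M →ₗ[A] M)
    (h : red f = LinearMap.id) : Function.Bijective f := by
  have hs : Function.Surjective f := surjective_of_red f fun x => ⟨x, by rw [h]; rfl⟩
  obtain ⟨s, hsec⟩ := Module.projective_lifting_property f LinearMap.id hs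
  have hred : red s = LinearMap.id := by
    refine LinearMap.ext fun x => ?_
    obtain ⟨m, rfl⟩ := mk_surj x
    rw [red_mk]
    have := LinearMap.congr_fun h (Submodule.Quotient.mk (s m))
    rw [red_mk] at this
    have h2 : f (s m) = m := LinearMap.congr_fun hsec m
    rw [h2] at this
    exact this.symm
  have hs' : Function.Surjective s := surjective_of_red s fun x => ⟨x, by rw [hred]; rfl⟩
  refine ⟨fun a b hab => ?_, hs⟩
  obtain ⟨a, rfl⟩ := hs' a
  obtain ⟨b, rfl⟩ := hs' b
  have e := fun x => LinearMap.congr_fun hsec x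
  have := (e a).symm.trans (hab.trans (e b))
  rw [show a = b from this]

end

section
variable {A : Type u} [Ring A] (M : Type v) [AddCommGroup M] [Module A M]

/-- reduction as a ring map -/
noncomputable def redHom : Module.End A M →+* Module.End (A ⧸ Ring.jacobson A) (bar (A := A) M) where
  toFun := red
  map_one' := LinearMap.ext fun x => by obtain ⟨m, rfl⟩ := mk_surj x; rfl
  map_mul' f g := LinearMap.ext fun x => by obtain ⟨m, rfl⟩ := mk_surj x; rfl
  map_zero' := LinearMap.ext fun x => by obtain ⟨m, rfl⟩ := mk_surj x; rfl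
  map_add' f g := LinearMap.ext fun x => by obtain ⟨m, rfl⟩ := mk_surj x; rfl

instance [Module.Finite A M] : Module.Finite (A ⧸ Ring.jacobson A) (bar (A := A) M) :=
  Module.Finite.of_restrictScalars_finite A _ _

theorem ker_redHom [IsSimpleRing (A ⧸ Ring.jacobson A)] [IsArtinianRing (A ⧸ Ring.jacobson A)]
    [Module.Finite A M] [Module.Projective A M] :
    RingHom.ker (redHom (A := A) M) = Ring.jacobson (Module.End A M) := by
  have hs : Function.Surjective (redHom (A := A) M) := fun g => red_surj g
  haveI : RingHomSurjective (redHom (A := A) M) := ⟨hs⟩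
  haveI : IsSemisimpleRing (Module.End (A ⧸ Ring.jacobson A) (bar (A := A) M)) :=
    IsSemisimpleRing.moduleEnd _ _
  apply le_antisymm
  · refine le_of_le_of_eq (le_sInf ?_) (Ring.jacobson_eq_sInf_isMaximal (R := Module.End A M)).symm
    intro I (hI : I.IsMaximal) f hf
    by_contra hfI
    obtain ⟨x, hx, y, hy, hxy⟩ : ∃ x, x ∈ Ideal.span {f} ∧ ∃ y, y ∈ I ∧ x + y = 1 := by
      have : Ideal.span {f} ⊔ I = ⊤ := by
        refine hI.out.2 (Ideal.span {f} ⊔ I) (lt_of_le_of_ne le_sup_right fun e => hfI ?_)
        rw [e]; exact Ideal.mem_sup_left (Ideal.mem_span_singleton_self f)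
      have h1 : (1 : Module.End A M) ∈ Ideal.span {f} ⊔ I := this ▸ trivial
      obtain ⟨x, hx, y, hy, h⟩ := Submodule.mem_sup.1 h1
      exact ⟨x, hx, y, hy, h⟩
    obtain ⟨c, rfl⟩ := Ideal.mem_span_singleton'.1 hx
    have hy1 : red y = LinearMap.id := by
      have := congrArg (redHom M) hxy
      rw [map_add, map_mul, RingHom.mem_ker.1 hf, mul_zero, zero_add, map_one] at this
      exact this
    have hu : IsUnit y := (Module.End.isUnit_iff y).2 (bijective_of_red_eq y hy1)
    exact hI.ne_top (Ideal.eq_top_of_isUnit_mem I hy hu)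
  · intro f hf
    have h1 := Ring.map_jacobson_le (redHom (A := A) M) ⟨f, hf, rfl⟩
    have h2 := (IsSemisimpleRing.jacobson_eq_bot
      (R := Module.End (A ⧸ Ring.jacobson A) (bar (A := A) M))).le h1
    exact RingHom.mem_ker.2 ((Submodule.mem_bot _).1 h2)

end

theorem card_le_length {R : Type*} [Ring R] {M : Type*} [AddCommGroup M] [Module R M] {m : ℕ}
    (ε : Fin m → Module.End R M) (hne : ∀ i, ε i ≠ 0) (hid : ∀ i, ε i * ε i = ε i)
    (hor : ∀ i j, i ≠ j → ε i * ε j = 0) : (m : ℕ∞) ≤ Module.length R M := by
  let N : Fin (m + 1) → Submodule R M := fun j => ⨆ (i : Fin m) (_ : i.1 < j.1), LinearMap.range (ε i)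
  have hN : StrictMono N := by
    refine Fin.strictMono_iff_lt_succ.2 fun j => lt_of_le_not_ge ?_ ?_
    · exact iSup₂_le fun i hi => le_iSup₂ (f := fun (i : Fin m) (_ : i.1 < j.succ.1) => LinearMap.range (ε i)) i
        (by simp at hi ⊢; omega)
    · intro hle
      have h1 : LinearMap.range (ε j) ≤ LinearMap.ker (ε j) := by
        refine (le_trans (le_iSup₂ (f := fun (i : Fin m) (_ : i.1 < j.succ.1) => LinearMap.range (ε i)) j
          (by simp)) hle).trans (iSup₂_le fun i hi => ?_)
        rintro _ ⟨x, rfl⟩
        rw [LinearMap.mem_ker]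
        have := LinearMap.congr_fun (hor j i (by rintro rfl; simp at hi)) x
        exact this
      apply hne j
      ext x
      have := h1 ⟨x, rfl⟩
      rw [LinearMap.mem_ker] at this
      exact (LinearMap.congr_fun (hid j) x).symm.trans this
  have := Order.LTSeries.length_le_krullDim (LTSeries.mk m N hN)
  rw [← Module.coe_length] at this
  exact_mod_cast this

theorem count {A : Type u} [Ring A] [IsSimpleRing (A ⧸ Ring.jacobson A)]
    [IsArtinianRing (A ⧸ Ring.jacobson A)] (P Q : Type v) [AddCommGroup P] [Module A P]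
    [Module.Finite A P] [Module.Projective A P] [AddCommGroup Q] [Module A Q] [Module.Finite A Q]
    [Module.Projective A Q] (e : Module.End A P ≃+* Module.End A Q)
    (S : Type*) [AddCommGroup S] [Module (A ⧸ Ring.jacobson A) S]
    [IsSimpleModule (A ⧸ Ring.jacobson A) S] (k : ℕ)
    (φ : bar (A := A) P ≃ₗ[A ⧸ Ring.jacobson A] (Fin k → S)) :
    (k : ℕ∞) ≤ Module.length (A ⧸ Ring.jacobson A) (bar (A := A) Q) := by
  classical
  have hker : ∀ x : Module.End A P, redHom (A := A) P x = 0 ↔ redHom (A := A) Q (e x) = 0 := by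
    intro x
    rw [← RingHom.mem_ker, ← RingHom.mem_ker, ker_redHom, ker_redHom]
    constructor
    · intro h
      haveI : RingHomSurjective e.toRingHom := ⟨e.surjective⟩
      exact Ring.map_jacobson_le e.toRingHom ⟨x, h, rfl⟩
    · intro h
      haveI : RingHomSurjective e.symm.toRingHom := ⟨e.symm.surjective⟩
      have := Ring.map_jacobson_le e.symm.toRingHom ⟨e x, h, rfl⟩
      rw [show x = e.symm.toRingHom.toSemilinearMap (e x) from (e.symm_apply_apply x).symm]
      exact this
  let δ : Fin k → Module.End (A ⧸ Ring.jacobson A) (Fin k → S) := fun i =>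
    (LinearMap.single _ (fun _ => S) i).comp (LinearMap.proj i)
  choose x hx using fun i => red_surj (φ.symm.conjRingEquiv (δ i))
  let ψ := φ.symm.conjRingEquiv
  have hmul : ∀ i j, ψ (δ i) * ψ (δ j) = if i = j then ψ (δ i) else 0 := by
    intro i j
    rw [← map_mul]
    split_ifs with h
    · subst h
      congr 1
      ext v l
      simp [δ]
    · rw [show δ i * δ j = 0 from ?_, map_zero]
      ext v l
      simp [δ, Pi.single_apply, h, Ne.symm h]
  refine card_le_length (fun i => redHom (A := A) Q (e (x i))) (fun i h => ?_) (fun i => ?_)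
    (fun i j hij => ?_)
  · have h0 : ψ (δ i) = 0 := (hx i).symm.trans ((hker _).2 h)
    have h1 : δ i = 0 := by
      apply ψ.injective
      rw [h0, map_zero]
    haveI := IsSimpleModule.nontrivial (A ⧸ Ring.jacobson A) S
    obtain ⟨s, hs⟩ := exists_ne (0 : S)
    exact hs (by simpa [δ] using congrArg (fun f => f (Pi.single i s) i) h1)
  · have h0 : redHom (A := A) P (x i * x i - x i) = 0 := by
      rw [map_sub, map_mul, show redHom (A := A) P (x i) = ψ (δ i) from hx i, hmul, if_pos rfl, sub_self]
    have := (hker _).1 h0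
    rw [map_sub, map_sub, map_mul, map_mul, sub_eq_zero] at this
    exact this
  · have h0 : redHom (A := A) P (x i * x j) = 0 := by
      rw [map_mul, show redHom (A := A) P (x i) = ψ (δ i) from hx i,
        show redHom (A := A) P (x j) = ψ (δ j) from hx j, hmul, if_neg hij]
    have := (hker _).1 h0
    rw [map_mul, map_mul] at this
    exact this


/-- Let A be a ring which is strongly local, that is, the quotient of A by its Jacobson radical J is a
simple left-Artinian ring, and let P and Q be finitely generated projective left A-modules. If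
End_A(P) and End_A(Q) are isomorphic as rings, then P ≅ Q as A-modules. (The published assertion
says more, that every ring isomorphism End_A(P) ≅ End_A(Q) is induced by an isomorphism P ≅ Q; that
is not correct for isomorphisms which are not linear over the centre — complex conjugation is a ring
automorphism of End_ℂ(ℂ) = ℂ induced by no ℂ-linear map — and this row keeps the existence of an
isomorphism P ≅ Q, which is what the first part of the printed proof establishes.) -/
theorem result (A : Type u) [Ring A] [IsSimpleRing (A ⧸ Ring.jacobson A)] [IsArtinianRing (A ⧸ Ring.jacobson A)] (P Q : Type v) [AddCommGroup P] [Module A P] [Module.Finite A P] [Module.Projective A P] [AddCommGroup Q] [Module A Q] [Module.Finite A Q] [Module.Projective A Q] (e : Module.End A P ≃+* Module.End A Q) : Nonempty (P ≃ₗ[A] Q) := by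
  classical
  haveI : Nontrivial (A ⧸ Ring.jacobson A) := inferInstance
  obtain ⟨n, I, hI, -⟩ : ∃ (n : ℕ) (I : Ideal (A ⧸ Ring.jacobson A)),
      IsSimpleModule (A ⧸ Ring.jacobson A) I ∧ True := by
    obtain ⟨n, _, I, hI, -⟩ := IsSimpleRing.exists_ringEquiv_matrix_end_mulOpposite (A ⧸ Ring.jacobson A)
    exact ⟨n, I, hI, trivial⟩
  haveI := hI
  let I' := ULift.{v} I
  haveI : IsSimpleModule (A ⧸ Ring.jacobson A) I' :=
    IsSimpleModule.congr (ULift.moduleEquiv : I' ≃ₗ[A ⧸ Ring.jacobson A] I)
  have dec : ∀ (M : Type v) [AddCommGroup M] [Module A M] [Module.Finite A M],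
      ∃ k : ℕ, Nonempty (bar (A := A) M ≃ₗ[A ⧸ Ring.jacobson A] (Fin k → I')) := by
    intro M _ _ _
    have hT : IsIsotypicOfType (A ⧸ Ring.jacobson A) (bar (A := A) M) I' := by
      intro m hm
      exact ⟨(Classical.choice (nonempty_simple (A ⧸ Ring.jacobson A) m I)).trans ULift.moduleEquiv.symm⟩
    exact hT.linearEquiv_fun
  obtain ⟨k, ⟨φ⟩⟩ := dec P
  obtain ⟨l, ⟨ψ⟩⟩ := dec Q
  have hlen : ∀ (M : Type v) [AddCommGroup M] [Module A M] (j : ℕ),
      (bar (A := A) M ≃ₗ[A ⧸ Ring.jacobson A] (Fin j → I')) →
        Module.length (A ⧸ Ring.jacobson A) (bar (A := A) M) = j := by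
    intro M _ _ j f
    rw [f.length_eq, Module.length_pi_of_fintype]
    simp [Module.length_eq_one]
  have hkl : k = l := by
    have h1 := count P Q e I' k φ
    have h2 := count Q P e.symm I' l ψ
    rw [hlen Q l ψ] at h1
    rw [hlen P k φ] at h2
    exact le_antisymm (by exact_mod_cast h1) (by exact_mod_cast h2)
  subst hkl
  let θ := φ.trans ψ.symm
  obtain ⟨f, hf⟩ := red_surj θ.toLinearMap
  obtain ⟨g, hg⟩ := red_surj θ.symm.toLinearMap
  have hs : Function.Surjective f := surjective_of_red f (by rw [hf]; exact θ.surjective)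
  have hgf : red (g ∘ₗ f) = LinearMap.id := by
    refine LinearMap.ext fun x => ?_
    obtain ⟨m, rfl⟩ := mk_surj x
    have h1 := LinearMap.congr_fun hf (Submodule.Quotient.mk m)
    have h2 := LinearMap.congr_fun hg (Submodule.Quotient.mk (f m))
    rw [red_mk] at h1 h2
    show Submodule.Quotient.mk (g (f m)) = _
    rw [h2, h1]
    exact θ.symm_apply_apply _
  have hinj : Function.Injective (⇑g ∘ ⇑f) := (bijective_of_red_eq _ hgf).1
  exact ⟨LinearEquiv.ofBijective f ⟨hinj.of_comp, hs⟩⟩

end Groth.Agent.S13847
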