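import Groth.Statements.S13848
import Mathlib


-- import your own Groth.Agent.* helpers here

set_option autoImplicit false
universe u v
open TwSh

namespace Groth.Agent.S13848

/-- Let A be a ring with A/J a simple left-Artinian ring, J the Jacobson radical, and let P be a
non-zero finitely generated projective left A-module. An A-linear automorphism u of P which commutes
with every A-linear endomorphism of P (equivalently, induces the identity on End_A(P) by
conjugation) is scalar multiplication by a unique central element a of A: u(x) = a·x for all x ∈ P,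
and a is determined by u. (So the automorphisms of P acting trivially on End_A(P) are exactly the
central units of A acting by scalars; the published assertion does not exclude P = 0, where
uniqueness fails.) -/
theorem result (A : Type u) [Ring A] [IsSimpleRing (A ⧸ Ring.jacobson A)] [IsArtinianRing (A ⧸ Ring.jacobson A)] (P : Type v) [AddCommGroup P] [Module A P] [Module.Finite A P] [Module.Projective A P] [Nontrivial P] (u : P ≃ₗ[A] P) (hu : ∀ f : Module.End A P, (u : P →ₗ[A] P) ∘ₗ f = f ∘ₗ (u : P →ₗ[A] P)) : ∃! a : A, (∀ b : A, a * b = b * a) ∧ ∀ x : P, u x = a • x := by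
  classical
  let τ : Submodule A A := ⨆ φ : P →ₗ[A] A, LinearMap.range φ
  have hmem : ∀ (φ : P →ₗ[A] A) p, φ p ∈ τ := fun φ p => le_iSup (fun φ : P →ₗ[A] A => LinearMap.range φ) φ ⟨p, rfl⟩
  obtain ⟨s, hs⟩ := Module.projective_def'.mp (inferInstance : Module.Projective A P)
  have hdual : ∀ x : P, (s x).sum (fun p a => a • p) = x := fun x => LinearMap.congr_fun hs x
  obtain ⟨φ₀, p₀, hp₀⟩ : ∃ (φ : P →ₗ[A] A) (p : P), φ p ∉ Ring.jacobson A := by
    by_contra hcon
    push Not at hcon
    refine (Submodule.jacobson_smul_lt_top (⊤ : Submodule A P)).ne (eq_top_iff.mpr fun x _ => ?_)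
    rw [← hdual x]
    refine Submodule.sum_mem _ fun p _ => Submodule.smul_mem_smul ?_ Submodule.mem_top
    exact hcon ((Finsupp.lapply p).comp s) x
  have hright : ∀ a ∈ τ, ∀ b : A, a * b ∈ τ := by
    intro a ha b
    refine Submodule.iSup_induction _ (motive := fun a => a * b ∈ τ) ha ?_ ?_ ?_
    · rintro φ _ ⟨p, rfl⟩
      simpa using hmem ((LinearMap.toSpanSingleton A A b).comp φ) p
    · simp
    · intro x y hx hy; rw [add_mul]; exact add_mem hx hy
  let π : A →+* A ⧸ Ring.jacobson A := Ideal.Quotient.mk _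
  let I : TwoSidedIdeal (A ⧸ Ring.jacobson A) := TwoSidedIdeal.mk' (π '' (τ : Set A))
    ⟨0, τ.zero_mem, map_zero π⟩
    (by rintro _ _ ⟨x, hx, rfl⟩ ⟨y, hy, rfl⟩; exact ⟨x + y, add_mem hx hy, map_add π x y⟩)
    (by rintro _ ⟨x, hx, rfl⟩; exact ⟨-x, neg_mem hx, map_neg π x⟩)
    (by
      rintro z _ ⟨x, hx, rfl⟩
      obtain ⟨y, rfl⟩ := Ideal.Quotient.mk_surjective z
      exact ⟨y * x, τ.smul_mem y hx, map_mul π y x⟩)
    (by
      rintro _ z ⟨x, hx, rfl⟩
      obtain ⟨y, rfl⟩ := Ideal.Quotient.mk_surjective z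
      exact ⟨x * y, hright x hx y, map_mul π x y⟩)
  have h1 : (1 : A ⧸ Ring.jacobson A) ∈ I := by
    refine IsSimpleRing.one_mem_of_ne_zero_mem I (x := π (φ₀ p₀)) ?_ ?_
    · exact fun h => hp₀ (Ideal.Quotient.eq_zero_iff_mem.mp h)
    · rw [TwoSidedIdeal.mem_mk']
      exact ⟨_, hmem φ₀ p₀, rfl⟩
  rw [TwoSidedIdeal.mem_mk'] at h1
  obtain ⟨t, ht, ht1⟩ := h1
  have hτ : τ = ⊤ := by
    by_contra hne
    obtain ⟨m, hm, hle⟩ := Ideal.exists_le_maximal τ hne
    have hJm : Ring.jacobson A ≤ m := sInf_le hm.out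
    refine hm.ne_top ((Ideal.eq_top_iff_one m).mpr ?_)
    have h2 : t - 1 ∈ Ring.jacobson A := Ideal.Quotient.eq.mp (ht1.trans (map_one π).symm)
    simpa using m.sub_mem (hle ht) (hJm h2)
  have hfaith : ∀ c : A, (∀ x : P, c • x = 0) → c = 0 := by
    intro c hc
    have : ∀ a ∈ τ, c * a = 0 := by
      intro a ha
      refine Submodule.iSup_induction _ (motive := fun a => c * a = 0) ha ?_ ?_ ?_
      · rintro φ _ ⟨p, rfl⟩
        rw [← smul_eq_mul, ← map_smul, hc, map_zero]
      · simp
      · intro x y hx hy; rw [mul_add, hx, hy, add_zero]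
    simpa using this 1 (hτ ▸ trivial)
  have hscal : ∀ b ∈ τ, ∃ a : A, ∀ x : P, b • u x = a • x := by
    intro b hb
    refine Submodule.iSup_induction _ (motive := fun b => ∃ a : A, ∀ x : P, b • u x = a • x) hb ?_ ?_ ?_
    · rintro φ _ ⟨p, rfl⟩
      refine ⟨φ (u p), fun x => ?_⟩
      have h := LinearMap.congr_fun (hu ((LinearMap.toSpanSingleton A P x).comp φ)) p
      simpa using h
    · exact ⟨0, fun x => by simp⟩
    · rintro b c ⟨a, ha⟩ ⟨a', ha'⟩
      exact ⟨a + a', fun x => by rw [add_smul, add_smul, ha, ha']⟩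
  obtain ⟨a, ha⟩ := hscal 1 (hτ ▸ trivial)
  simp only [one_smul] at ha
  refine ⟨a, ⟨fun b => ?_, ha⟩, fun a' ha' => ?_⟩
  · refine sub_eq_zero.mp (hfaith _ fun x => ?_)
    rw [sub_smul, mul_smul, mul_smul, ← ha, ← ha, map_smul, sub_self]
  · refine sub_eq_zero.mp (hfaith _ fun x => ?_)
    rw [sub_smul, ← ha, ← ha'.2, sub_self]

end Groth.Agent.S13848
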