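import Groth.Statements.S13858
import Groth.Agent.HdgLefLib.Geom
import Groth.Agent.MultSecLib.Basic
import Groth.Agent.GorBlowLib.Sec
import Groth.Agent.DefClassLib.Basic
import Groth.Agent.CycKSuppLib.Killed
import Groth.Agent.CohCmpLib.FamilyPic2
import Groth.Agent.ExtTwistLib.Basic
import Groth.Agent.CurvLib.Euler

set_option autoImplicit false
set_option backward.isDefEq.respectTransparency false
set_option backward.isDefEq.respectTransparency.types false
set_option maxHeartbeats 1000000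
open CategoryTheory CategoryTheory.Limits AlgebraicGeometry
open AdjLin

namespace Groth.Agent.S13858

section
open MonoidalCategory TopologicalSpace Opposite
open KFlatLib (pb pf puSec shApp tm PM pT tens)

universe u

variable {X : Scheme.{u}}

/-- The restriction sequence with the unit as its second map. -/
theorem exists_unit_seq (I : X.IdealSheafData) [IsLocallyNoetherian X] {F : X.Modules}
    (hF : FlatMod.IsFinLocFree F) :
    ∃ S : ShortComplex X.Modules, S.ShortExact ∧ Nonempty (S.X₁ ≅ CohB1.tensorMod F (ClSub.idealMod I)) ∧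
      ∃ (e₂ : S.X₂ ≅ F) (e₃ : S.X₃ ≅ pf I.subschemeι (pb I.subschemeι F)),
        S.g ≫ e₃.hom = e₂.hom ≫ (Scheme.Modules.pullbackPushforwardAdjunction I.subschemeι).unit.app F := by
  obtain ⟨T, hT, h₁, ⟨e₂⟩, ⟨θ⟩⟩ := HdgLefLib.exists_restrict_seq I hF
  let i := I.subschemeι
  let P := pb i F
  let adj := Scheme.Modules.pullbackPushforwardAdjunction i
  let π : F ⟶ pf i P := e₂.inv ≫ T.g ≫ θ.hom
  let g : P ⟶ P := (adj.homEquiv F P).symm π
  have hπ : adj.unit.app F ≫ (Scheme.Modules.pushforward i).map g = π := by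
    exact (adj.homEquiv_unit F P g).symm.trans (Equiv.apply_symm_apply _ _)
  haveI := hT.epi_g
  haveI : Epi π := inferInstanceAs (Epi (e₂.inv ≫ T.g ≫ θ.hom))
  haveI : Epi ((Scheme.Modules.pushforward i).map g) := epi_of_epi_fac hπ
  haveI : (Scheme.Modules.pullback i).IsLeftAdjoint := adj.isLeftAdjoint
  haveI := CycKSuppLib.isIso_counit i P
  haveI : Epi g := by
    haveI : Epi ((Scheme.Modules.pullback i).map ((Scheme.Modules.pushforward i).map g)) := inferInstance
    have hn := adj.counit.naturality g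
    haveI : Epi (adj.counit.app P ≫ g) := by
      rw [show adj.counit.app P ≫ g = _ from hn.symm]
      exact epi_comp _ _
    exact epi_of_epi (adj.counit.app P) g
  have hP : FlatMod.IsFinLocFree P := CohCmpLib.isFinLocFree_pb i hF
  haveI : Coh.IsQCoh P := FinLFAnn.isQCoh_of_isFinLocFree hP
  haveI : IsLocallyNoetherian I.subscheme := LocallyOfFiniteType.isLocallyNoetherian I.subschemeι
  haveI : IsIso g := CohCmpLib.isIso_of_epi_of_iso (LocSuppLib.isCoh_of_isFinLocFree hP).2 (Iso.refl P) g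
  refine ⟨T, hT, h₁, e₂, θ ≪≫ ((Scheme.Modules.pushforward i).mapIso (asIso g)).symm, ?_⟩
  rw [Iso.trans_hom, ← Category.assoc, show T.g ≫ θ.hom = e₂.hom ≫ π by simp [π], ← hπ]
  simp [adj, i]

/-- Lifting sections along the unit. -/
theorem surjective_unit (I : X.IdealSheafData) [IsLocallyNoetherian X] {F : X.Modules}
    (hF : FlatMod.IsFinLocFree F) (h : Subsingleton (Coh.HH X (CohB1.tensorMod F (ClSub.idealMod I)) 1)) :
    Function.Surjective (((Scheme.Modules.pullbackPushforwardAdjunction I.subschemeι).unit.app F).app ⊤) := by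
  obtain ⟨S, hS, ⟨e₁⟩, e₂, e₃, he⟩ := exists_unit_seq I hF
  intro z
  obtain ⟨y, hy⟩ := GorBlowLib.surjective_top hS (SerreVanLib.subsingleton_HH_of_iso e₁ 1 h) (e₃.inv.app ⊤ z)
  refine ⟨e₂.hom.app ⊤ y, ?_⟩
  refine (congrArg (fun t : S.X₂ ⟶ _ => t.app ⊤ y) he.symm).trans ?_
  refine (congrArg (e₃.hom.app ⊤) hy).trans ?_
  exact congrArg (fun t : pf I.subschemeι (pb I.subschemeι F) ⟶ pf I.subschemeι (pb I.subschemeι F) => t.app ⊤ z)
    e₃.inv_hom_id

theorem mult_of_restrict (I : X.IdealSheafData) [IsLocallyNoetherian X] {E L : X.Modules}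
    (hE : FlatMod.IsFinLocFree E) (hL : PicF.IsInvertible L)
    (hLI : ClSub.IsInverseOf L (ClSub.idealMod I))
    (hO : Subsingleton (Coh.HH X (Coh.structureModule X) 1))
    (hEI : Subsingleton (Coh.HH X (CohB1.tensorMod E (ClSub.idealMod I)) 1))
    (hD : MultSecLib.Mult (CohB1.tensorMod E (ClSub.quotMod I)) (CohB1.tensorMod L (ClSub.quotMod I))) :
    MultSecLib.Mult E L := by
  let i := I.subschemeι
  let adj := Scheme.Modules.pullbackPushforwardAdjunction i
  have hLf := AmpleDevLib.isFinLocFree_of_isInvertible hL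
  let ED := pf i (pb i E)
  let LD := pf i (pb i L)
  let uE : E ⟶ ED := adj.unit.app E
  let uL : L ⟶ LD := adj.unit.app L
  have hsE := surjective_unit I hE hEI
  obtain ⟨φ⟩ := hLI
  have hsL := surjective_unit I hLf (SerreVanLib.subsingleton_HH_of_iso φ 1 hO)
  -- transport of the hypothesis
  have isoD : ∀ {F : X.Modules}, FlatMod.IsFinLocFree F →
      Nonempty (CohB1.tensorMod F (ClSub.quotMod I) ≅ pf i (pb i F)) := fun {F} hF => by
    haveI := ProjFormLib.isIso_projApp i hF (Coh.structureModule I.subscheme)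
    exact ⟨asIso (ProjFormLib.projApp i F (Coh.structureModule I.subscheme)) ≪≫
      (Scheme.Modules.pushforward i).mapIso (HilbPolyLib.swapIso _ _ ≪≫ HilbPolyLib.unitLeft _)⟩
  have hD' : MultSecLib.Mult ED LD := MultSecLib.mult_iso (isoD hE).some (isoD hLf).some hD
  let h₁ : pT E L ⟶ pT E LD := DCoh.toP.obj E ◁ DCoh.toP.map uL
  let h₂ : pT E LD ⟶ pT ED LD := DCoh.toP.map uE ▷ DCoh.toP.obj LD
  let f₁ : tens E L ⟶ tens E LD := ((DCoh.tensorBi (X := X)).obj E).map uL
  let f₂ : tens E LD ⟶ tens ED LD := ((DCoh.tensorBi (X := X)).map uE).app LD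
  -- the second map is a monomorphism
  haveI : Mono f₂ := by
    haveI := ProjFormLib.isIso_projApp i hE (pb i L)
    exact mono_of_mono_fac (show f₂ ≫ KFlatLib.pushμ i (pb i E) (pb i L) = ProjFormLib.projApp i E (pb i L) from rfl)
  -- surjectivity on sums of products
  have hsurj : ∀ u : (pT ED LD).obj (op ⊤), ∃ v : (pT E L).obj (op ⊤), h₂.app (op ⊤) (h₁.app (op ⊤) v) = u := fun u => by
    induction u using TensorProduct.induction_on with
    | zero => exact ⟨0, by rw [map_zero, map_zero]⟩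
    | tmul a b =>
      obtain ⟨a', ha⟩ := hsE a
      obtain ⟨b', hb⟩ := hsL b
      refine ⟨tm (DCoh.toP.obj E : PM X.presheaf) (DCoh.toP.obj L : PM X.presheaf) a' b', ?_⟩
      subst ha hb
      rfl
    | add u u' hu hu' =>
      obtain ⟨v, rfl⟩ := hu
      obtain ⟨v', rfl⟩ := hu'
      exact ⟨v + v', by rw [map_add, map_add]⟩
  intro w
  obtain ⟨u, hu⟩ := hD' (f₂.app ⊤ (f₁.app ⊤ w))
  obtain ⟨v, rfl⟩ := hsurj u
  rw [← KFlatLib.shApp_map (M := E) (N := LD) h₂ ⊤ _, ← KFlatLib.shApp_map (M := E) (N := L) h₁ ⊤ v] at hu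
  have hker : f₁.app ⊤ (w - shApp E L ⊤ v) = 0 := by
    rw [map_sub, sub_eq_zero]
    exact (QCohLib.app_injective_of_mono f₂ ⊤ hu).symm
  obtain ⟨S, hS, ⟨e₁⟩, e₂, e₃, he⟩ := exists_unit_seq I hLf
  have hS' := ProjFormLib.shortExact_tens hE hS
  let G := ProjFormLib.tF E
  let d := (G.map e₂.inv).app ⊤ (w - shApp E L ⊤ v)
  have hd : (G.map S.g).app ⊤ d = 0 := by
    have e : G.map e₂.inv ≫ G.map S.g = G.map uL ≫ G.map e₃.inv := by
      rw [← G.map_comp, ← G.map_comp]
      refine congrArg G.map ?_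
      rw [Iso.inv_comp_eq, ← Category.assoc, ← he, Category.assoc, Iso.hom_inv_id, Category.comp_id]
    refine (congrArg (fun t : G.obj L ⟶ _ => t.app ⊤ (w - shApp E L ⊤ v)) e).trans ?_
    exact (congrArg ((G.map e₃.inv).app ⊤) hker).trans (map_zero _)
  obtain ⟨z, hz⟩ := QCohLib.exists_of_app_eq_zero hS'.exact hS'.mono_f d hd
  let j : Coh.structureModule X ⟶ L := (e₁ ≪≫ φ).inv ≫ S.f ≫ e₂.hom
  obtain ⟨a, ha⟩ := (ExtTwistLib.shT_right_bijective (M := E) (AmpleLib.one_genOn (X := X) ⊤)).2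
    ((G.map (e₁ ≪≫ φ).hom).app ⊤ z)
  refine ⟨v + (DCoh.toP.obj E ◁ DCoh.toP.map j).app (op ⊤)
    (tm (DCoh.toP.obj E : PM X.presheaf) (DCoh.toP.obj (Coh.structureModule X) : PM X.presheaf) a (1 : Γ(X, ⊤))), ?_⟩
  rw [KFlatLib.shApp_add]
  refine (congrArg (shApp E L ⊤ v + ·) ?_).trans (add_sub_cancel _ w)
  refine (KFlatLib.shApp_map (M := E) (N := Coh.structureModule X) (M' := E) (N' := L)
    (DCoh.toP.obj E ◁ DCoh.toP.map j) ⊤ _).symm.trans ?_
  refine (congrArg ((G.map j).app ⊤) ha).trans ?_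
  have e : G.map (e₁ ≪≫ φ).hom ≫ G.map j = G.map S.f ≫ G.map e₂.hom := by
    rw [← G.map_comp, ← G.map_comp]
    exact congrArg G.map (by simp [j])
  refine (congrArg (fun t : _ ⟶ G.obj L => t.app ⊤ z) e).trans ?_
  refine (congrArg ((G.map e₂.hom).app ⊤) hz).trans ?_
  refine congrArg (fun t : G.obj L ⟶ G.obj L => t.app ⊤ (w - shApp E L ⊤ v)) (?_ : G.map e₂.inv ≫ G.map e₂.hom = 𝟙 _)
  rw [← G.map_comp, Iso.inv_hom_id, G.map_id]

end

/-- Let X be a regular projective variety over the complex numbers (an integral scheme, proper over ℂ,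
with H^1(X, O_X) = 0), E a finite locally free O_X-module, I a quasi-coherent ideal of O_X with
closed subscheme D and O_D its structure sheaf viewed on X, and L an invertible module generated by
its global sections with L ⊗ I ≅ O_X (so that L = O_X(D)) and H^1(E ⊗ I) = 0 (that is, H^1(E ⊗
L^{-1}) = 0). If the multiplication map H^0(E ⊗ O_D) ⊗ H^0(L ⊗ O_D) → H^0(E ⊗ O_D ⊗ L ⊗ O_D) on the
restrictions to D is surjective, then the multiplication map H^0(E) ⊗ H^0(L) → H^0(E ⊗ L) is
surjective (such a multiplication map is written as the map from the global sections of the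
sectionwise tensor product presheaf to the global sections of its sheafification). -/
theorem result
    (X : Scheme.{0}) [X.Over (Spec (CommRingCat.of ℂ))] [IsIntegral X] [IsProper (X ↘ Spec (CommRingCat.of ℂ))]
    (hreg : Subsingleton (Coh.HH X (Coh.structureModule X) 1))
    (E : X.Modules) (hE : FlatMod.IsFinLocFree E)
    (I : X.IdealSheafData) (L : X.Modules) (hLi : PicF.IsInvertible L) (hLg : Curv2.IsGloballyGenerated L)
    (hLI : ClSub.IsInverseOf L (ClSub.idealMod I))
    (h1 : Subsingleton (Coh.HH X (CohB1.tensorMod E (ClSub.idealMod I)) 1))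
    (hD : Function.Surjective
      ((toSheafify (Opens.grothendieckTopology X) (CohB1.tensorPre (CohB1.tensorMod E (ClSub.quotMod I)) (CohB1.tensorMod L (ClSub.quotMod I))).presheaf).app (Opposite.op ⊤))) :
    Function.Surjective
      ((toSheafify (Opens.grothendieckTopology X) (CohB1.tensorPre E L).presheaf).app (Opposite.op ⊤)) := by
  haveI := CurvLib.isNoetherian ℂ (X := X)
  rw [← MultSecLib.mult_iff]
  exact mult_of_restrict I hE hLi hLI hreg h1 ((MultSecLib.mult_iff _ _).2 hD)

end Groth.Agent.S13858
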