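import Groth.Statements.S13860
-- import your own Groth.Agent.* helpers here

set_option autoImplicit false
universe u v w
open ModRep

namespace Groth.Agent.S13860

/-- For k a field of characteristic p > 0, G a finite group and P a Sylow p-subgroup of G, a short exact
sequence of k[G]-modules has a k[G]-linear splitting exactly when it has a k[P]-linear one. Stated
here for the surjection of the sequence: a G-equivariant k-linear map g : B → C between k-linear
representations of G admits a G-equivariant k-linear section if and only if it admits a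
P-equivariant k-linear section. -/
theorem result {k : Type u} [Field k] (p : ℕ) [Fact p.Prime]
    [CharP k p] {G : Type v} [Group G] [Finite G] (P : Sylow p G)
    {B C : Type w} [AddCommGroup B] [Module k B] [AddCommGroup C] [Module k C]
    (ρB : Representation k G B) (ρC : Representation k G C)
    (g : B →ₗ[k] C) (hg : ∀ x : G, g ∘ₗ ρB x = ρC x ∘ₗ g) :
    (∃ s : C →ₗ[k] B, g ∘ₗ s = LinearMap.id ∧ ∀ x : G, s ∘ₗ ρC x = ρB x ∘ₗ s) ↔
      (∃ s : C →ₗ[k] B, g ∘ₗ s = LinearMap.id ∧ ∀ x : G, x ∈ P → s ∘ₗ ρC x = ρB x ∘ₗ s) := by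
  refine ⟨fun ⟨s, h1, h2⟩ => ⟨s, h1, fun x _ => h2 x⟩, fun ⟨s, h1, h2⟩ => ?_⟩
  classical
  let H : Subgroup G := (P : Subgroup G)
  haveI : Fintype (G ⧸ H) := Fintype.ofFinite _
  let F : G → (C →ₗ[k] B) := fun a => ρB a ∘ₗ s ∘ₗ ρC a⁻¹
  have hFr : ∀ a b, b ∈ H → F (a * b) = F a := fun a b hb => by
    refine LinearMap.ext fun v => ?_
    simp only [F, mul_inv_rev, map_mul, LinearMap.comp_apply, Module.End.mul_apply]
    rw [← LinearMap.comp_apply s (ρC b⁻¹), h2 _ (inv_mem hb), LinearMap.comp_apply, ← Module.End.mul_apply (ρB b), ← map_mul,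
      mul_inv_cancel, map_one, Module.End.one_apply]
  let Fq : G ⧸ H → (C →ₗ[k] B) := Quotient.lift F fun a b hab => by
    have := hFr a (a⁻¹ * b) (QuotientGroup.leftRel_apply.1 hab)
    rw [mul_inv_cancel_left] at this
    exact this.symm
  have hn : (Fintype.card (G ⧸ H) : k) ≠ 0 := by
    rw [Ne, CharP.cast_eq_zero_iff k p, ← Nat.card_eq_fintype_card]
    exact P.not_dvd_index
  refine ⟨(Fintype.card (G ⧸ H) : k)⁻¹ • ∑ q, Fq q, ?_, fun x => ?_⟩
  · have hF : ∀ q, g ∘ₗ Fq q = LinearMap.id := fun q => by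
      induction q using QuotientGroup.induction_on with
      | H a =>
        show g ∘ₗ (ρB a ∘ₗ s ∘ₗ ρC a⁻¹) = LinearMap.id
        refine LinearMap.ext fun v => ?_
        have e1 := LinearMap.congr_fun (hg a) (s (ρC a⁻¹ v))
        have e2 := LinearMap.congr_fun h1 (ρC a⁻¹ v)
        simp only [LinearMap.comp_apply, LinearMap.id_apply] at e1 e2 ⊢
        rw [e1, e2, ← Module.End.mul_apply (ρC a), ← map_mul, mul_inv_cancel, map_one, Module.End.one_apply]
    refine LinearMap.ext fun v => ?_
    simp only [LinearMap.comp_apply, LinearMap.smul_apply, LinearMap.sum_apply, map_smul, map_sum, LinearMap.id_apply]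
    rw [Finset.sum_congr rfl (fun q _ => show g (Fq q v) = v from LinearMap.congr_fun (hF q) v), Finset.sum_const,
      Finset.card_univ, ← Nat.cast_smul_eq_nsmul k, inv_smul_smul₀ hn]
  · have hx : ∀ q : G ⧸ H, Fq (x • q) ∘ₗ ρC x = ρB x ∘ₗ Fq q := fun q => by
      induction q using QuotientGroup.induction_on with
      | H a =>
        show (ρB (x * a) ∘ₗ s ∘ₗ ρC (x * a)⁻¹) ∘ₗ ρC x = ρB x ∘ₗ (ρB a ∘ₗ s ∘ₗ ρC a⁻¹)
        refine LinearMap.ext fun v => ?_
        simp only [LinearMap.comp_apply, map_mul, Module.End.mul_apply]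
        rw [← Module.End.mul_apply (ρC (x * a)⁻¹), ← map_mul, mul_inv_rev, inv_mul_cancel_right]
    refine LinearMap.ext fun v => ?_
    simp only [LinearMap.comp_apply, LinearMap.smul_apply, LinearMap.sum_apply, map_smul, map_sum]
    congr 1
    rw [← Equiv.sum_comp (MulAction.toPerm x : Equiv.Perm (G ⧸ H)) (fun q => Fq q (ρC x v))]
    exact Finset.sum_congr rfl fun q _ => LinearMap.congr_fun (hx q) v

end Groth.Agent.S13860
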