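import Groth.Statements.S13867
import Groth.Agent.H0Lib.Descent
import Groth.Agent.MiscFlat6.FpqcDesc
-- import your own Groth.Agent.* helpers here

set_option autoImplicit false
set_option maxHeartbeats 1000000
set_option backward.isDefEq.respectTransparency false
universe u
open CategoryTheory MonoidalCategory CartesianMonoidalCategory MonObj GrpObj AlgebraicGeometry
open ParSch

namespace Groth.Agent.S13867

variable {S : Scheme.{u}}

/-- Two points have the same class in the quotient iff they differ by a point of the subgroup. -/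
theorem comp_eq_iff {H G : Over S} [GrpObj G] [GrpObj H] {i : H ⟶ G} {Q : Over S} {q : G ⟶ Q}
    (hq : RedSub.IsQuotient i q) {T : Over S} (a b : T ⟶ G) :
    a ≫ q = b ≫ q ↔ ∃ ε : T ⟶ H, a * (ε ≫ i) = b := by
  have hact : ∀ (p : T ⟶ G ⊗ H), p ≫ (G ◁ i) ≫ μ[G] = (p ≫ fst G H) * ((p ≫ snd G H) ≫ i) := by
    intro p
    rw [Hom.mul_def, ← Category.assoc]
    congr 1
    apply CartesianMonoidalCategory.hom_ext <;> simp
  constructor
  · intro h
    refine ⟨hq.2.2.2.lift a b h ≫ snd G H, ?_⟩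
    have h1 := hact (hq.2.2.2.lift a b h)
    rw [hq.2.2.2.lift_snd, hq.2.2.2.lift_fst] at h1
    exact h1.symm
  · rintro ⟨ε, rfl⟩
    have h1 := hact (lift a ε)
    rw [lift_fst, lift_snd] at h1
    rw [← h1]
    simp only [Category.assoc, ← hq.2.2.2.w, lift_fst_assoc]

/-- Being an isomorphism on functions over every affine open suffices. -/
theorem isIso_app_of_affine {X Y : Scheme.{u}} (f : X ⟶ Y)
    (h : ∀ U : Y.Opens, IsAffineOpen U → IsIso (f.app U)) (U : Y.Opens) : IsIso (f.app U) := by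
  have hb : TopologicalSpace.Opens.IsBasis (Set.range fun U : Y.affineOpens => (U : Y.Opens)) := by
    simpa [Set.range_comp] using Y.isBasis_affineOpens
  have hS := TopCat.Sheaf.isIso_iff_isIso_basis hb
    (φ := (⟨f.c⟩ : Y.sheaf ⟶ (TopCat.Sheaf.pushforward CommRingCat f.base).obj X.sheaf)) fun V => h _ V.2
  have : IsIso f.c := inferInstanceAs (IsIso ((TopCat.Sheaf.forget CommRingCat _).map
    (⟨f.c⟩ : Y.sheaf ⟶ (TopCat.Sheaf.pushforward CommRingCat f.base).obj X.sheaf)))
  exact inferInstanceAs (IsIso (f.c.app (Opposite.op U)))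

/-- The functions over an affine open are the global functions of the restriction. -/
theorem isIso_app_iff_restrict {X Y : Scheme.{u}} (f : X ⟶ Y) (U : Y.Opens) :
    IsIso (f.app U) ↔ IsIso (f ∣_ U).appTop := by
  rw [morphismRestrict_appTop]
  have key : ∀ V : Y.Opens, V = U → (IsIso (f.app V) ↔ IsIso (f.app U)) := by rintro V rfl; rfl
  rw [← key (U.ι ''ᵁ ⊤) (by simp)]
  exact (isIso_comp_right_iff _ _).symm

open Limits in
/-- Constant functions on schemes over affine bases: flat base change and faithfully flat descent. -/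
theorem isIso_appTop_affine {X₀ S₀ T W : Scheme.{u}} [IsAffine S₀] [IsAffine T] (g : X₀ ⟶ S₀)
    [QuasiCompact g] [QuasiSeparated g] (p : T ⟶ S₀) [Flat p]
    (g' : W ⟶ T) (p' : W ⟶ X₀) (sq : IsPullback p' g' g p) :
    (IsIso g.appTop → IsIso g'.appTop) ∧ (Surjective p → IsIso g'.appTop → IsIso g.appTop) := by
  let φ := Spec.preimage (T.isoSpec.inv ≫ p ≫ S₀.isoSpec.hom)
  have hφ : Spec.map φ = T.isoSpec.inv ≫ p ≫ S₀.isoSpec.hom := Spec.map_preimage _
  have hfl : φ.hom.Flat := (HasRingHomProperty.Spec_iff (P := @Flat)).mp (hφ ▸ inferInstance)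
  have sq' : IsPullback p' (g' ≫ T.isoSpec.hom) (g ≫ S₀.isoSpec.hom) (Spec.map φ) :=
    sq.of_iso (Iso.refl _) (Iso.refl _) T.isoSpec S₀.isoSpec (by simp) (by simp) (by simp) (by simp [hφ])
  have : IsIso T.isoSpec.hom.appTop := inferInstanceAs (IsIso (Scheme.Γ.map T.isoSpec.hom.op))
  have : IsIso S₀.isoSpec.hom.appTop := inferInstanceAs (IsIso (Scheme.Γ.map S₀.isoSpec.hom.op))
  constructor
  · intro h
    have : IsIso (g ≫ S₀.isoSpec.hom).appTop := by rw [Scheme.Hom.comp_appTop]; infer_instance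
    have h1 := H0Lib.isIso_appTop_baseChange sq' hfl
    rw [Scheme.Hom.comp_appTop] at h1
    exact IsIso.of_isIso_comp_left T.isoSpec.hom.appTop g'.appTop
  · intro hs h
    have hff : φ.hom.FaithfullyFlat := by
      refine RingHom.FaithfullyFlat.iff_flat_and_comap_surjective.mpr ⟨hfl, ?_⟩
      exact (show Surjective (Spec.map φ) from hφ ▸ inferInstance).surj
    have : IsIso (g' ≫ T.isoSpec.hom).appTop := by rw [Scheme.Hom.comp_appTop]; infer_instance
    have h1 := H0Lib.isIso_appTop_descend sq' hff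
    rw [Scheme.Hom.comp_appTop] at h1
    exact IsIso.of_isIso_comp_left S₀.isoSpec.hom.appTop g.appTop

open Limits in
/-- The fibre product of the two quotient maps is a product with the quotient of the subgroups. -/
theorem exists_isPullback {G H H' X X' Y : Over S} [GrpObj G] [GrpObj H] [GrpObj H']
    (iH : H ⟶ G) (iH' : H' ⟶ G) [IsMonHom iH'] [Mono iH'] (e : H ⟶ H') (he : e ≫ iH' = iH)
    (q : G ⟶ X) (hq : RedSub.IsQuotient iH q) (q' : G ⟶ X') (hq' : RedSub.IsQuotient iH' q')
    (f : X ⟶ X') (hf : q ≫ f = q') (r : H' ⟶ Y) (hr : RedSub.IsQuotient e r) :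
    ∃ a : (G ⊗ Y).left ⟶ X.left, IsPullback a (fst G Y).left f.left q'.left := by
  let act : G ⊗ H' ⟶ G := (G ◁ iH') ≫ μ[G]
  have hact : ∀ {T : Over S} (p : T ⟶ G ⊗ H'), p ≫ act = (p ≫ fst G H') * ((p ≫ snd G H') ≫ iH') := by
    intro T p
    rw [Hom.mul_def, ← Category.assoc]
    congr 1
    apply CartesianMonoidalCategory.hom_ext <;> simp
  have hw : act ≫ q ≫ f = fst G H' ≫ q' := by rw [hf]; exact hq'.2.2.2.w.symm
  have hwl : (act ≫ q).left ≫ f.left = (fst G H').left ≫ q'.left := by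
    rw [← Over.comp_left, ← Over.comp_left, Category.assoc, hw]
  let P := pullback f.left q'.left
  let u : (G ⊗ H').left ⟶ P := pullback.lift (act ≫ q).left (fst G H').left hwl
  let v : (G ⊗ H').left ⟶ (G ⊗ Y).left := (G ◁ r).left
  have hu1 : u ≫ pullback.fst _ _ = (act ≫ q).left := pullback.lift_fst _ _ _
  have hu2 : u ≫ pullback.snd _ _ = (fst G H').left := pullback.lift_snd _ _ _
  have hsqu : IsPullback act.left u q.left (pullback.fst f.left q'.left) := by
    refine IsPullback.of_bot (h₂₁ := pullback.fst f.left q'.left) (v₂₁ := pullback.snd f.left q'.left) (v₂₂ := f.left) ?_ (by rw [hu1]; rfl)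
      (IsPullback.of_hasPullback f.left q'.left)
    rw [hu2, ← Over.comp_left, hf]
    exact (hq'.2.2.2.map (Over.forget S)).flip
  have hsqv : IsPullback (snd G H').left v r.left (snd G Y).left := by
    refine IsPullback.of_bot (h₂₁ := (snd G Y).left) (v₂₁ := (fst G Y).left) (v₂₂ := Y.hom) (h₃₁ := G.hom) ?_ ?_ ?_
    · have h1 : v ≫ (fst G Y).left = (fst G H').left := by
        rw [← Over.comp_left, whiskerLeft_fst]
      rw [h1, Over.w r]
      exact (IsPullback.of_hasPullback G.hom H'.hom).flip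
    · rw [← Over.comp_left, ← Over.comp_left, whiskerLeft_snd]
    · exact (IsPullback.of_hasPullback G.hom Y.hom).flip
  have := hq.1
  have := hq.2.1
  have := hq.2.2.1
  have := hr.1
  have := hr.2.1
  have := hr.2.2.1
  have : Surjective u := MorphismProperty.of_isPullback hsqu hq.1
  have : Flat u := MorphismProperty.of_isPullback hsqu hq.2.1
  have : LocallyOfFinitePresentation u := MorphismProperty.of_isPullback hsqu hq.2.2.1
  have : Surjective v := MorphismProperty.of_isPullback hsqv hr.1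
  have : Flat v := MorphismProperty.of_isPullback hsqv hr.2.1
  have : LocallyOfFinitePresentation v := MorphismProperty.of_isPullback hsqv hr.2.2.1
  have hu3 : u ≫ pullback.snd _ _ ≫ G.hom = (G ⊗ H').hom := by
    rw [reassoc_of% hu2]; exact Over.w (fst G H')
  have hv3 : v ≫ (G ⊗ Y).hom = (G ⊗ H').hom := Over.w (G ◁ r)
  -- the kernel pairs agree
  have key : ∀ {T : Over S} (t₁ t₂ : T ⟶ G ⊗ H'),
      (t₁.left ≫ u = t₂.left ≫ u ↔ t₁.left ≫ v = t₂.left ≫ v) := by
    intro T t₁ t₂
    have e1 : t₁.left ≫ u = t₂.left ≫ u ↔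
        t₁ ≫ act ≫ q = t₂ ≫ act ≫ q ∧ t₁ ≫ fst G H' = t₂ ≫ fst G H' := by
      refine ⟨fun h => ⟨?_, ?_⟩, fun h => ?_⟩
      · ext
        simp only [Over.comp_left]
        rw [← Over.comp_left, ← hu1, reassoc_of% h]
      · ext
        simp only [Over.comp_left]
        rw [← hu2, reassoc_of% h]
      · apply pullback.hom_ext
        · simp only [Category.assoc, hu1, ← Over.comp_left, h.1]
        · simp only [Category.assoc, hu2, ← Over.comp_left, h.2]
    have e2 : t₁.left ≫ v = t₂.left ≫ v ↔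
        t₁ ≫ fst G H' = t₂ ≫ fst G H' ∧ (t₁ ≫ snd G H') ≫ r = (t₂ ≫ snd G H') ≫ r := by
      rw [← Over.comp_left, ← Over.comp_left]
      refine ⟨fun h => ?_, fun h => ?_⟩
      · have h' : t₁ ≫ (G ◁ r) = t₂ ≫ (G ◁ r) := Over.OverMorphism.ext h
        constructor
        · simpa using congrArg (· ≫ fst G Y) h'
        · simpa using congrArg (· ≫ snd G Y) h'
      · congr 1
        apply CartesianMonoidalCategory.hom_ext
        · simpa using h.1
        · simpa using h.2
    rw [e1, e2, ← Category.assoc, ← Category.assoc t₂, hact, hact, comp_eq_iff hq, comp_eq_iff hr]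
    constructor
    · rintro ⟨⟨ε, hε⟩, hg⟩
      refine ⟨hg, ε, ?_⟩
      rw [← cancel_mono iH', MonObj.mul_comp, Category.assoc ε, he]
      rw [hg, _root_.mul_assoc] at hε
      exact mul_left_cancel hε
    · rintro ⟨hg, ε, hε⟩
      refine ⟨⟨ε, ?_⟩, hg⟩
      rw [← hε, MonObj.mul_comp, Category.assoc ε, he, hg, _root_.mul_assoc]
  have hc1 : ∀ {Z : Scheme.{u}} (g₁ g₂ : Z ⟶ (G ⊗ H').left), g₁ ≫ u = g₂ ≫ u → g₁ ≫ v = g₂ ≫ v := by
    intro Z g₁ g₂ h
    have hs : g₂ ≫ (G ⊗ H').hom = g₁ ≫ (G ⊗ H').hom := by rw [← hu3, reassoc_of% h]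
    exact (key (Over.homMk g₁ rfl : Over.mk (g₁ ≫ (G ⊗ H').hom) ⟶ G ⊗ H') (Over.homMk g₂ hs)).mp h
  have hc2 : ∀ {Z : Scheme.{u}} (g₁ g₂ : Z ⟶ (G ⊗ H').left), g₁ ≫ v = g₂ ≫ v → g₁ ≫ u = g₂ ≫ u := by
    intro Z g₁ g₂ h
    have hs : g₂ ≫ (G ⊗ H').hom = g₁ ≫ (G ⊗ H').hom := by rw [← hv3, reassoc_of% h]
    exact (key (Over.homMk g₁ rfl : Over.mk (g₁ ≫ (G ⊗ H').hom) ⟶ G ⊗ H') (Over.homMk g₂ hs)).mpr h
  let φ : P ⟶ (G ⊗ Y).left := EffectiveEpi.desc u v fun g₁ g₂ h => hc1 g₁ g₂ h
  let ψ : (G ⊗ Y).left ⟶ P := EffectiveEpi.desc v u fun g₁ g₂ h => hc2 g₁ g₂ h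
  have hφ : u ≫ φ = v := EffectiveEpi.fac _ _ _
  have hψ : v ≫ ψ = u := EffectiveEpi.fac _ _ _
  let iso : (G ⊗ Y).left ≅ P :=
    { hom := ψ
      inv := φ
      hom_inv_id := by rw [← cancel_epi v, reassoc_of% hψ, hφ, Category.comp_id]
      inv_hom_id := by rw [← cancel_epi u, reassoc_of% hφ, hψ, Category.comp_id] }
  refine ⟨ψ ≫ pullback.fst _ _, IsPullback.of_iso_pullback ⟨?_⟩ iso rfl ?_⟩
  · rw [← cancel_epi v, Category.assoc, reassoc_of% hψ, pullback.condition, reassoc_of% hu2,
      ← Category.assoc v, show v = (G ◁ r).left from rfl]; simp only [← Over.comp_left, whiskerLeft_fst, Category.assoc, whiskerLeft_fst_assoc]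
  · rw [← cancel_epi v]
    change v ≫ ψ ≫ _ = _
    rw [reassoc_of% hψ, hu2, ← Over.comp_left, whiskerLeft_fst]

/-- Let k be an algebraically closed field, G a group scheme of finite type over k and H ⊆ H' closed
subgroup schemes of G. Let q : G → X and q' : G → X' be the quotients of G by H and by H' (fppf
quotients represented by schemes), f : X → X' the morphism with q ≫ f = q', and r : H' → Y the
quotient of H' by H. Then f is a contraction (proper, and O_{X'}(U) → O_X(f⁻¹ U) is an isomorphism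
for every open U of X') if and only if Y is proper over k and the global functions of Y reduce to k
(the map k → Γ(Y, O_Y) is an isomorphism). -/
theorem result
    (k : Type u) [Field k] [IsAlgClosed k]
    (G : Over (Spec (CommRingCat.of k))) [GrpObj G] [LocallyOfFiniteType G.hom] [QuasiCompact G.hom]
    (H H' : Over (Spec (CommRingCat.of k))) [GrpObj H] [GrpObj H']
    (iH : H ⟶ G) [IsMonHom iH] (hH : IsClosedImmersion iH.left)
    (iH' : H' ⟶ G) [IsMonHom iH'] (hH' : IsClosedImmersion iH'.left)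
    (e : H ⟶ H') [IsMonHom e] (he : e ≫ iH' = iH)
    (X X' Y : Over (Spec (CommRingCat.of k))) (q : G ⟶ X) (hq : RedSub.IsQuotient iH q) (q' : G ⟶ X') (hq' : RedSub.IsQuotient iH' q')
    (f : X ⟶ X') (hf : q ≫ f = q') (r : H' ⟶ Y) (hr : RedSub.IsQuotient e r) :
    (IsProper f.left ∧ ∀ U : X'.left.Opens, IsIso (f.left.app U)) ↔
      (IsProper Y.hom ∧ IsIso Y.hom.appTop) := by
  classical
  have : Mono iH'.left := inferInstance
  have : Mono iH' := Over.mono_of_mono_left iH'
  obtain ⟨a, hsq⟩ := exists_isPullback iH iH' e he q hq q' hq' f hf r hr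
  have := hq'.1
  have := hq'.2.1
  have hsqY : IsPullback (snd G Y).left (fst G Y).left Y.hom G.hom :=
    (IsPullback.of_hasPullback G.hom Y.hom).flip
  let π := (fst G Y).left
  have hflat : ∀ {T : Scheme.{u}} (t : T ⟶ Spec (CommRingCat.of k)), Flat t := fun t => inferInstance
  have := hflat G.hom
  let pt : G.left := (η[G] : 𝟙_ (Over (Spec (CommRingCat.of k))) ⟶ G).left (default : PrimeSpectrum k)
  have : Surjective G.hom := ⟨fun z => ⟨pt, Subsingleton.elim (α := PrimeSpectrum k) _ _⟩⟩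
  have : CompactSpace G.left := QuasiCompact.compactSpace_of_compactSpace G.hom
  have : IsLocallyNoetherian G.left := LocallyOfFiniteType.isLocallyNoetherian G.hom
  have : IsNoetherian G.left := ⟨⟩
  have : QuasiCompact q'.left := ⟨fun U _ _ => TopologicalSpace.NoetherianSpace.isCompact _⟩
  have hproper : IsProper f.left ↔ IsProper Y.hom := by
    have h1 : IsProper f.left ↔ IsProper π :=
      ⟨fun h => MorphismProperty.of_isPullback (P := @IsProper) hsq h,
        fun h => MiscFlat6.desc_isProper.of_isPullback hsq.flip ⟨⟨inferInstance, inferInstance⟩, inferInstance⟩ h⟩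
    have h2 : IsProper Y.hom ↔ IsProper π :=
      ⟨fun h => MorphismProperty.of_isPullback (P := @IsProper) hsqY h,
        fun h => MiscFlat6.desc_isProper.of_isPullback hsqY.flip ⟨⟨inferInstance, inferInstance⟩, inferInstance⟩ h⟩
    exact h1.trans h2.symm
  -- compare both sides over an affine scheme mapping to `G`
  have key : ∀ (U : X'.left.Opens) (_ : IsAffineOpen U) (T : Scheme.{u}) (_ : IsAffine T)
      (d₀ : T ⟶ (q'.left ⁻¹ᵁ U).toScheme) (_ : Flat d₀),
      IsProper f.left → IsProper Y.hom →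
      (IsIso (f.left.app U) → Nonempty T → IsIso Y.hom.appTop) ∧
      (IsIso Y.hom.appTop → Surjective d₀ → IsIso (f.left.app U)) := by
    intro U hU T _ d₀ _ hfp hYp
    let d : T ⟶ G.left := d₀ ≫ (q'.left ⁻¹ᵁ U).ι
    let p : T ⟶ U.toScheme := d₀ ≫ q'.left ∣_ U
    have hp : d ≫ q'.left = p ≫ U.ι := by simp [d, p]
    have sqd := IsPullback.of_hasPullback π d
    have sq1 := sqd.paste_horiz hsq
    rw [hp] at sq1
    have sq2 := IsPullback.of_right' sq1 (isPullback_morphismRestrict f.left U).flip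
    have sq3 := sqd.paste_horiz hsqY
    have : Flat (q'.left ∣_ U) := IsZariskiLocalAtTarget.restrict (P := @Flat) inferInstance U
    have : IsProper (f.left ∣_ U) := IsZariskiLocalAtTarget.restrict (P := @IsProper) hfp U
    have : IsAffine U.toScheme := hU
    have := hflat (d ≫ G.hom)
    have hU' := isIso_appTop_affine (f.left ∣_ U) p _ _ sq2
    have hY' := isIso_appTop_affine Y.hom (d ≫ G.hom) _ _ sq3
    constructor
    · intro h hne
      refine hY'.2 ⟨fun z => ⟨hne.some, Subsingleton.elim (α := PrimeSpectrum k) _ _⟩⟩ (hU'.1 ?_)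
      exact (isIso_app_iff_restrict f.left U).mp h
    · intro h hs
      have : Surjective (q'.left ∣_ U) := IsZariskiLocalAtTarget.restrict (P := @Surjective) inferInstance U
      have : Surjective p := inferInstance
      exact (isIso_app_iff_restrict f.left U).mpr (hU'.2 this (hY'.1 h))
  constructor
  · rintro ⟨hfp, hiso⟩
    have hYp := hproper.mp hfp
    obtain ⟨U, hU, hxU, -⟩ := exists_isAffineOpen_mem_and_subset (x := q'.left pt) (U := ⊤) trivial
    let x : (q'.left ⁻¹ᵁ U).toScheme := ⟨pt, hxU⟩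
    obtain ⟨V, hV, hxV, -⟩ := exists_isAffineOpen_mem_and_subset (x := x) (U := ⊤) trivial
    exact ⟨hYp, (key U hU V.toScheme hV V.ι inferInstance hfp hYp).1 (hiso U) ⟨⟨x, hxV⟩⟩⟩
  · rintro ⟨hYp, hiso⟩
    have hfp := hproper.mpr hYp
    refine ⟨hfp, fun U => isIso_app_of_affine f.left (fun U hU => ?_) U⟩
    have hc : IsCompact ((q'.left ⁻¹ᵁ U : G.left.Opens) : Set G.left) := TopologicalSpace.NoetherianSpace.isCompact _
    have : CompactSpace (q'.left ⁻¹ᵁ U).toScheme := isCompact_iff_compactSpace.mp hc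
    let 𝒲 := (q'.left ⁻¹ᵁ U).toScheme.affineCover.finiteSubcover
    let d₀ : (∐ 𝒲.X) ⟶ (q'.left ⁻¹ᵁ U).toScheme := Limits.Sigma.desc 𝒲.f
    have : Flat d₀ := IsZariskiLocalAtSource.sigmaDesc (P := @Flat) fun i => inferInstance
    have : Surjective d₀ := by
      refine ⟨fun z => ?_⟩
      obtain ⟨i, y, hy⟩ := 𝒲.exists_eq z
      exact ⟨Limits.Sigma.ι 𝒲.X i y, by rw [← Scheme.Hom.comp_apply, Limits.Sigma.ι_desc]; exact hy⟩
    exact (key U hU (∐ 𝒲.X) inferInstance d₀ inferInstance hfp hYp).2 hiso inferInstance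

end Groth.Agent.S13867
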