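import Groth.Statements.S1387
import Groth.Agent.UOpenLib.FibreDim
import Groth.Agent.UOpenLib.Chevalley
import Groth.Agent.UOpenLib.Unibranch
import Groth.Agent.UOpenLib.AffineSpace
import Groth.Agent.S3404
-- import your own Groth.Agent.* helpers here

set_option autoImplicit false
universe u
open FlatMor

namespace Groth.Agent.S1387

open AlgebraicGeometry CategoryTheory Limits MvPolynomial

/-- Going down for a quasi-finite chart over affine space: over the generic point there is a point of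
the hyperplane `X 0 = 0`. -/
theorem exists_point_hyperplane {R B : Type u} [CommRing R] [CommRing B] {d : ℕ}
    (φ : MvPolynomial (Fin (d + 1)) R →+* B) (hft : φ.FiniteType) (hqf : φ.QuasiFinite)
    (qζ qx : PrimeSpectrum B) (hle : qζ.asIdeal ≤ qx.asIdeal) (p₀ : PrimeSpectrum R)
    (hgen : qζ.asIdeal.comap φ = p₀.asIdeal.map C) (hx : φ (X 0) ∈ qx.asIdeal) :
    ∃ q : PrimeSpectrum B, φ (X 0) ∈ q.asIdeal ∧ PrimeSpectrum.comap (φ.comp C) q = p₀ := by
  let K := FractionRing (R ⧸ p₀.asIdeal)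
  let N := integralClosure (R ⧸ p₀.asIdeal) K
  haveI : IsIntegrallyClosed N := integralClosure.isIntegrallyClosedOfFiniteExtension K
  have hinj : Function.Injective (algebraMap (R ⧸ p₀.asIdeal) N) := fun a b h =>
    IsFractionRing.injective (R ⧸ p₀.asIdeal) K (congrArg Subtype.val h)
  let θ : R →+* N := (algebraMap (R ⧸ p₀.asIdeal) N).comp (Ideal.Quotient.mk p₀.asIdeal)
  have hθint : θ.IsIntegral := RingHom.IsIntegral.trans _ _
    (RingHom.isIntegral_of_surjective _ Ideal.Quotient.mk_surjective)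
    (algebraMap_isIntegral_iff.mpr integralClosure.AlgebraIsIntegral)
  have hθker : RingHom.ker θ = p₀.asIdeal := by
    rw [← RingHom.comap_ker, (RingHom.injective_iff_ker_eq_bot _).mp hinj, ← RingHom.ker_eq_comap_bot,
      Ideal.mk_ker]
  haveI : IsIntegralHom (Spec.map (CommRingCat.ofHom θ)) := IsIntegralHom.SpecMap_iff.mpr hθint
  let Θ : MvPolynomial (Fin (d + 1)) R →+* MvPolynomial (Fin (d + 1)) N := MvPolynomial.map θ
  let vΘ := Spec.map (CommRingCat.ofHom (R := MvPolynomial (Fin (d + 1)) R) (S := MvPolynomial (Fin (d + 1)) N) Θ)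
  haveI : IsIntegralHom vΘ :=
    MorphismProperty.of_isPullback (UOpenLib.isPullback_polyProj θ (d + 1)).flip ‹_›
  let u := Spec.map (CommRingCat.ofHom φ)
  haveI : LocallyOfFiniteType u := HasRingHomProperty.Spec_iff.mpr hft
  haveI : LocallyQuasiFinite u := HasRingHomProperty.Spec_iff.mpr hqf
  let a := pullback.fst u vΘ
  let u' := pullback.snd u vΘ
  haveI : LocallyOfFiniteType u' := MorphismProperty.pullback_snd _ _ inferInstance
  haveI : LocallyQuasiFinite u' := MorphismProperty.pullback_snd _ _ inferInstance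
  haveI : IsIntegralHom a := MorphismProperty.pullback_fst _ _ inferInstance
  let η : PrimeSpectrum (MvPolynomial (Fin (d + 1)) N) := ⟨⊥, Ideal.isPrime_bot⟩
  have hη : u.base qζ = vΘ.base η := by
    apply PrimeSpectrum.ext
    show qζ.asIdeal.comap φ = Ideal.comap Θ ⊥
    rw [hgen, ← RingHom.ker_eq_comap_bot, MvPolynomial.ker_map, hθker]
  obtain ⟨ζ', hζ'1, hζ'2⟩ := UOpenLib.image_fst_snd (IsPullback.of_hasPullback u vΘ) qζ η hη
  obtain ⟨w, hw1, hw2⟩ : qx ∈ a.base '' closure {ζ'} := by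
    rw [← (a.isClosedMap _ isClosed_closure).closure_eq]
    refine closure_mono ?_ (((PrimeSpectrum.le_iff_specializes qζ qx).1 hle).mem_closure)
    rintro _ rfl
    exact ⟨ζ', subset_closure rfl, hζ'1⟩
  haveI := UOpenLib.isIntegrallyClosed_mvPolynomial_fin N (d + 1)
  have h1 : EGA43.IsUnivOpenAt u' w :=
    UOpenLib.isUnivOpenAt_of_quasiFinite_normal (O := MvPolynomial (Fin (d + 1)) N) u' ζ' w
      (specializes_iff_mem_closure.mpr hw1) (congrArg PrimeSpectrum.asIdeal hζ'2)
  have h2 := UOpenLib.IsUnivOpenAt.isOpenAt h1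
    (IsPullback.of_horiz_isIso (fst := 𝟙 _) (snd := u') (f := u') (g := 𝟙 _) ⟨by simp⟩) w rfl
  have hcomm : ∀ z, PrimeSpectrum.comap φ (a.base z) = PrimeSpectrum.comap Θ (u'.base z) := fun z => by
    show u.base (a.base z) = vΘ.base (u'.base z)
    rw [← Scheme.Hom.comp_apply, pullback.condition, Scheme.Hom.comp_apply]
  let κ : MvPolynomial (Fin (d + 1)) N →+* MvPolynomial (Fin d) N :=
    eval₂Hom C (Fin.cases 0 X)
  let y' : PrimeSpectrum (MvPolynomial (Fin (d + 1)) N) := ⟨RingHom.ker κ, RingHom.ker_isPrime κ⟩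
  have hX : ∀ z, (φ (X 0) ∈ (a.base z : PrimeSpectrum B).asIdeal ↔
      (X 0 : MvPolynomial (Fin (d + 1)) N) ∈ (u'.base z : PrimeSpectrum (MvPolynomial (Fin (d + 1)) N)).asIdeal) := fun z => by
    have h := congrArg (fun q : PrimeSpectrum (MvPolynomial (Fin (d + 1)) R) => X 0 ∈ q.asIdeal) (hcomm z)
    simp only [PrimeSpectrum.comap_asIdeal, Ideal.mem_comap] at h
    rw [show Θ (X 0) = X 0 from MvPolynomial.map_X _ _] at h
    exact iff_of_eq h
  have hyle : y' ⤳ u'.base w := by
    refine (PrimeSpectrum.le_iff_specializes y' (u'.base w)).1 fun p hp => ?_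
    let P := (u'.base w : PrimeSpectrum (MvPolynomial (Fin (d + 1)) N)).asIdeal
    have h0 : (X 0 : MvPolynomial (Fin (d + 1)) N) ∈ P := (hX w).1 (by rw [hw2]; exact hx)
    have key : (Ideal.Quotient.mk P).comp ((rename Fin.succ).toRingHom.comp κ) = Ideal.Quotient.mk P := by
      refine MvPolynomial.ringHom_ext (fun r => by simp [κ]) fun i => ?_
      refine Fin.cases ?_ (fun j => ?_) i
      · simp only [RingHom.comp_apply, κ, eval₂Hom_X', Fin.cases_zero, map_zero]
        exact (Ideal.Quotient.eq_zero_iff_mem.2 h0).symm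
      · simp [κ]
    have h := RingHom.congr_fun key p
    rw [RingHom.comp_apply, RingHom.comp_apply, (RingHom.mem_ker.1 hp), map_zero, map_zero] at h
    exact Ideal.Quotient.eq_zero_iff_mem.1 h.symm
  obtain ⟨z, -, hz⟩ := (Groth.Agent.S3404.result u' w).1 h2 y' hyle
  refine ⟨a.base z, (hX z).2 ?_, ?_⟩
  · rw [hz]
    show κ (X 0) = 0
    simp [κ]
  · rw [PrimeSpectrum.comap_comp_apply, hcomm, hz]
    apply PrimeSpectrum.ext
    ext r
    show κ (Θ (C r)) = 0 ↔ r ∈ p₀.asIdeal
    have hr : r ∈ p₀.asIdeal ↔ θ r = 0 := Iff.trans (Eq.to_iff (congrArg (r ∈ ·) hθker.symm)) RingHom.mem_ker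
    rw [hr]
    simp [κ, Θ]

/-- Quasi-finiteness near a point of a principal closed subset spreads out. -/
theorem exists_basicOpen_quasiFinite {P A C₀ : Type u} [CommRing P] [CommRing A] [CommRing C₀]
    (ψ : P →+* A) (hft : ψ.FiniteType) (π : A →+* C₀) (hπ : Function.Surjective π)
    (t : P) (hker : RingHom.ker π = Ideal.span {ψ t}) (hqf : (π.comp ψ).QuasiFinite)
    (qx : PrimeSpectrum A) (hx : ψ t ∈ qx.asIdeal) :
    ∃ b : A, b ∉ qx.asIdeal ∧ ∀ (A' : Type u) [CommRing A'] [Algebra A A'] [IsLocalization.Away b A'],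
      ((algebraMap A A').comp ψ).FiniteType ∧ ((algebraMap A A').comp ψ).QuasiFinite := by
  letI := ψ.toAlgebra
  letI := (π.comp ψ).toAlgebra
  haveI : Algebra.FiniteType P A := hft
  haveI : Algebra.QuasiFinite P C₀ := hqf
  haveI : Algebra.FiniteType P C₀ :=
    RingHom.FiniteType.comp (RingHom.FiniteType.of_surjective π hπ) hft
  have hrange : Set.range (PrimeSpectrum.comap π) = PrimeSpectrum.zeroLocus ({ψ t} : Set A) := by
    rw [range_comap_of_surjective _ _ hπ, hker, PrimeSpectrum.zeroLocus_span]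
  let c := PrimeSpectrum.comap π
  have hc := PrimeSpectrum.isClosedEmbedding_comap_of_surjective C₀ π hπ
  let P₀ := PrimeSpectrum.comap (algebraMap P A) qx
  let S := PrimeSpectrum.comap (algebraMap P A) ⁻¹' {P₀}
  let T := PrimeSpectrum.comap (algebraMap P C₀) ⁻¹' {P₀}
  have hT : DiscreteTopology T := by
    rw [discreteTopology_iff_isOpen_singleton]
    rintro ⟨q, hq⟩
    have key : ∀ (P' : PrimeSpectrum P) (h : PrimeSpectrum.comap (algebraMap P C₀) q = P'),
        IsOpen (X := ↥(PrimeSpectrum.comap (algebraMap P C₀) ⁻¹' {P'})) {⟨q, h⟩} := by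
      rintro _ rfl
      exact (Algebra.quasiFiniteAt_iff_isOpen_singleton_fiber q).mp inferInstance
    exact key P₀ hq
  have hS : DiscreteTopology S := by
    have hTS : c ⁻¹' S = T := rfl
    have hsurj : ∀ q ∈ S, q ∈ Set.range c := fun q hq => by
      rw [hrange, PrimeSpectrum.mem_zeroLocus, Set.singleton_subset_iff]
      have : t ∈ (PrimeSpectrum.comap (algebraMap P A) q).asIdeal := by
        rw [Set.mem_singleton_iff.mp hq]; exact hx
      exact this
    have hemb : Topology.IsEmbedding (S.restrictPreimage c) := hc.isEmbedding.restrictPreimage S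
    have hs : Function.Surjective (S.restrictPreimage c) := fun ⟨q, hq⟩ => by
      obtain ⟨q', rfl⟩ := hsurj q hq
      exact ⟨⟨q', hq⟩, rfl⟩
    haveI : DiscreteTopology ↥(c ⁻¹' S) := hT
    exact (hemb.toHomeomorphOfSurjective hs).discreteTopology
  have hH : Algebra.QuasiFiniteAt P qx.asIdeal :=
    (Algebra.quasiFiniteAt_iff_isOpen_singleton_fiber qx).mpr (isOpen_discrete (α := S) _)
  obtain ⟨_, ⟨b, rfl⟩, hbq, hbsub⟩ := PrimeSpectrum.isTopologicalBasis_basic_opens.exists_subset_of_mem_open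
    (show qx ∈ {q : PrimeSpectrum A | Algebra.QuasiFiniteAt P q.asIdeal} from hH)
    (RichLib.QFLocus.isOpen_setOf_quasiFiniteAt P A)
  refine ⟨b, hbq, fun A' _ _ _ => ?_⟩
  letI := ((algebraMap A A').comp ψ).toAlgebra
  haveI : IsScalarTower P A A' := IsScalarTower.of_algebraMap_eq' rfl
  haveI : Algebra.FiniteType A A' := IsLocalization.finiteType_of_monoid_fg (Submonoid.powers b) A'
  have hft' : Algebra.FiniteType P A' := Algebra.FiniteType.trans (S := A) inferInstance inferInstance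
  refine ⟨hft', FibDimLib.quasiFinite_of_forall (A := P) fun q' => ?_⟩
  let q₀ := PrimeSpectrum.comap (algebraMap A A') q'
  have hq₀ : b ∉ q₀.asIdeal := fun e ↦ q'.isPrime.ne_top
    (Ideal.eq_top_of_isUnit_mem _ e (IsLocalization.Away.algebraMap_isUnit _))
  have : Algebra.QuasiFiniteAt P q₀.asIdeal := hbsub hq₀
  have : q'.asIdeal.LiesOver q₀.asIdeal := ⟨rfl⟩
  exact Algebra.QuasiFiniteAt.of_surjectiveOnStalks_of_liesOver q₀.asIdeal
    (RingHom.surjectiveOnStalks_of_isLocalization (Submonoid.powers b) A') q'.asIdeal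

theorem mem_primeIdealOf_iff {X : Scheme.{u}} {U : X.Opens} (hU : IsAffineOpen U) (s : Γ(X, U))
    (x : X) (hx : x ∈ U) : s ∈ (hU.primeIdealOf ⟨x, hx⟩).asIdeal ↔ x ∉ X.basicOpen s := by
  have h : hU.primeIdealOf ⟨x, hx⟩ ∈ PrimeSpectrum.basicOpen s ↔ x ∈ X.basicOpen s := by
    rw [← hU.fromSpec_preimage_basicOpen s]
    show hU.fromSpec.base (hU.primeIdealOf ⟨x, hx⟩) ∈ X.basicOpen s ↔ _
    rw [hU.fromSpec_primeIdealOf]
  rw [← not_iff_not, not_not]
  exact h

open AlgebraicGeometry CategoryTheory Limits in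
/-- Let f : X → S be dominant and locally of finite type with X and S irreducible, let η be the generic
point of S and s a point with dim X_s ≤ dim X_η, and let Z be a locally principal closed subscheme
of X (its ideal sheaf is generated by one section on an affine neighbourhood of each point) whose
generic fibre is empty. Then, set-theoretically, the fibre of Z over s is a union of irreducible
components of the fibre of X over s. -/
theorem result {X S : Scheme.{u}} (f : X ⟶ S) [IrreducibleSpace ↑S] [IrreducibleSpace ↑X] [IsDominant f] [LocallyOfFiniteType f]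
    (s : S) (hdim : topologicalKrullDim ↑(f.fiber s) ≤ topologicalKrullDim ↑(f.fiber (genericPoint ↑S)))
    (Z : X.IdealSheafData) (hZ : ∀ x : X, ∃ (U : X.Opens) (hU : IsAffineOpen U) (g : Γ(X, U)), x ∈ U ∧ Z.ideal ⟨U, hU⟩ = Ideal.span {g})
    (hη : ∀ x ∈ (Z.support : Set ↑X), f x ≠ genericPoint ↑S) :
    ∀ x : ↑(f ⁻¹' {s}), (x : ↑X) ∈ (Z.support : Set ↑X) →
      ∃ C ∈ irreducibleComponents ↑(f ⁻¹' {s}), x ∈ C ∧ Subtype.val '' C ⊆ (Z.support : Set ↑X) := by
  intro x hxZ
  by_contra hcon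
  let h := Z.subschemeι ≫ f
  obtain ⟨z, hz⟩ : (x : X) ∈ Set.range Z.subschemeι := by rw [Scheme.IdealSheafData.range_subschemeι]; exact hxZ
  have hfx : f (x : X) = s := x.2
  have hhz : h z = s := by show (Z.subschemeι ≫ f) z = s; rw [Scheme.Hom.comp_apply, hz, hfx]
  obtain ⟨d, hd⟩ := UOpenLib.exists_fibreDimAt_eq_nat h z
  let ξ := genericPoint (X : Type u)
  haveI : Nonempty (X : Type u) := ⟨(x : X)⟩
  have hξ : ∀ p : X, ξ ⤳ p := fun p => (genericPoint_spec X).specializes trivial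
  have hfξ : f ξ = genericPoint (S : Type u) := by
    refine (IsGenericPoint.eq ?_ (genericPoint_spec S))
    have h1 := (genericPoint_spec X).image f.continuous
    rwa [Set.image_univ, (show DenseRange f from f.denseRange).closure_eq] at h1
  -- the fibre over the generic point has dimension at least `d + 1`
  have hdim1 : ((d + 1 : ℕ) : WithBot ℕ∞) ≤ topologicalKrullDim ↥(f ⁻¹' {s}) := by
    obtain ⟨z', hz'f, hz'z, -, hz'd⟩ := UOpenLib.exists_max_fibreDimAt h z
    obtain ⟨c, hci, hcs, hcU⟩ := UOpenLib.exists_prime_chain h (U := ⊤) (ζ := z') trivial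
      (le_of_eq (hd.symm.trans hz'd.symm))
    let y := Z.subschemeι z'
    have hys : f y = s := by rw [← hhz, ← hz'f]; rfl
    obtain ⟨w₀, hw₀, hw₀y, hw₀s⟩ : ∃ w₀ : X, w₀ ⤳ y ∧ w₀ ≠ y ∧ f w₀ = s := by
      by_contra hmax
      apply hcon
      let F := (f ⁻¹' {s} : Set X)
      haveI : QuasiSober ↥F := (f.fiberHomeo s).symm.isClosedEmbedding.quasiSober
      refine ⟨closure {(⟨y, hys⟩ : ↥F)}, FibDimLib.closure_mem_irreducibleComponents_of_max ?_, ?_, ?_⟩
      · intro q hq
        by_contra hne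
        exact hmax ⟨q.1, hq.map continuous_subtype_val, fun e => hne (Subtype.ext e), q.2⟩
      · refine specializes_iff_mem_closure.1 ((subtype_specializes_iff _ _).2 ?_)
        show y ⤳ (x : X)
        rw [← hz]
        exact hz'z.map Z.subschemeι.continuous
      · refine Set.Subset.trans (image_closure_subset_closure_image continuous_subtype_val) ?_
        refine closure_minimal ?_ Z.support.isClosed
        rintro _ ⟨_, rfl, rfl⟩
        have : y ∈ Set.range Z.subschemeι := ⟨z', rfl⟩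
        rwa [Scheme.IdealSheafData.range_subschemeι] at this
    have hcf : ∀ i, f (Z.subschemeι (c i)) = s := fun i => by
      rw [← hhz, ← hz'f, ← (hcU i).2.1]; rfl
    let C' : Fin (d + 1 + 1) → ↥(f ⁻¹' {s}) :=
      Fin.cases ⟨w₀, hw₀s⟩ (fun i => ⟨Z.subschemeι (c i), hcf i⟩)
    have hyc : ∀ i, y ⤳ Z.subschemeι (c i) := fun i => (hcU i).2.2.map Z.subschemeι.continuous
    refine UOpenLib.le_topologicalKrullDim_of_chain C' ?_ ?_
    · intro i j hij
      induction i using Fin.cases with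
      | zero =>
        induction j using Fin.cases with
        | zero => rfl
        | succ j =>
          exfalso
          have e : w₀ = Z.subschemeι (c j) := congrArg Subtype.val hij
          exact hw₀y ((hw₀.antisymm (e ▸ hyc j)).eq)
      | succ i =>
        induction j using Fin.cases with
        | zero =>
          exfalso
          have e : Z.subschemeι (c i) = w₀ := congrArg Subtype.val hij
          exact hw₀y ((hw₀.antisymm (e ▸ hyc i)).eq)
        | succ j =>
          have e0 := congrArg (Subtype.val : ↥(f ⁻¹' {s}) → X) hij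
          have e : Z.subschemeι (c i) = Z.subschemeι (c j) := e0
          rw [hci (Z.subschemeι.isEmbedding.injective e)]
    · intro i j hij
      rw [subtype_specializes_iff]
      induction i using Fin.cases with
      | zero =>
        induction j using Fin.cases with
        | zero => exact specializes_rfl
        | succ j => exact hw₀.trans (hyc j)
      | succ i =>
        induction j using Fin.cases with
        | zero => exact absurd hij (by simp [Fin.le_iff_val_le_val])
        | succ j => exact (hcs i j (Fin.succ_le_succ_iff.1 hij)).map Z.subschemeι.continuous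
  have hn : ((d + 1 : ℕ) : WithBot ℕ∞) ≤ UOpenLib.fibreClosureDim f ξ := by
    rw [UOpenLib.fibreClosureDim_eq_inter, (genericPoint_spec X).def, Set.univ_inter, hfξ]
    refine hdim1.trans ?_
    rw [← IsHomeomorph.topologicalKrullDim_eq _ (f.fiberHomeo s).isHomeomorph,
      ← IsHomeomorph.topologicalKrullDim_eq _ (f.fiberHomeo (genericPoint S)).isHomeomorph]
    exact hdim
  -- charts
  obtain ⟨_, ⟨V, hV, rfl⟩, hsV, -⟩ :=
    S.isBasis_affineOpens.exists_subset_of_mem_open (Set.mem_univ s) isOpen_univ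
  have hV : IsAffineOpen V := hV
  obtain ⟨U₁, hU₁, hzU₁, e₁, φ₁, hφ₁, hft₁, hqf₁⟩ :=
    FibDimLib.exists_qf_affine_nhd h z hV (hhz ▸ hsV) d hd
  obtain ⟨O, hO, hOU₁⟩ := Z.subschemeι.isEmbedding.isInducing.isOpen_iff.mp U₁.isOpen
  obtain ⟨U₀, hU₀, g₀, hxU₀, hg₀⟩ := hZ (x : X)
  have hxO : (x : X) ∈ O := hz ▸ hOU₁.ge hzU₁
  obtain ⟨b₀, hb₀, hxD⟩ := hU₀.exists_basicOpen_le (V := ⟨O, hO⟩ ⊓ f ⁻¹ᵁ V)
    ⟨(x : X), hxO, show f (x : X) ∈ V by rw [hfx]; exact hsV⟩ hxU₀
  let D := X.basicOpen b₀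
  have hD : IsAffineOpen D := hU₀.basicOpen b₀
  have hDU₀ : D ≤ U₀ := X.basicOpen_le b₀
  let g : Γ(X, D) := (X.presheaf.map (homOfLE hDU₀).op).hom g₀
  have hg : Z.ideal ⟨D, hD⟩ = Ideal.span {g} := by
    rw [← Z.map_ideal (U := ⟨D, hD⟩) (V := ⟨U₀, hU₀⟩) hDU₀, hg₀, Ideal.map_span, Set.image_singleton]
    try rfl
  have eD : D ≤ f ⁻¹ᵁ V := hb₀.trans inf_le_right
  have eW : Z.subschemeι ⁻¹ᵁ D ≤ U₁ := fun p hp => hOU₁.le (hb₀ hp).1
  let π := (Z.subschemeι.app D).hom
  have hπ : Function.Surjective π := Z.subschemeι.app_surjective D hD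
  have hπker : RingHom.ker π = Ideal.span {g} := by
    rw [← hg]; exact Z.ker_subschemeι_app ⟨D, hD⟩
  let r := (Z.subscheme.presheaf.map (homOfLE eW).op).hom
  choose a ha using fun i => hπ (r (φ₁ (MvPolynomial.X i)))
  let ψ : MvPolynomial (Fin (d + 1)) Γ(S, V) →+* Γ(X, D) :=
    eval₂Hom (f.appLE V D eD).hom (Fin.cases g a)
  let κ₀ : MvPolynomial (Fin (d + 1)) Γ(S, V) →+* MvPolynomial (Fin d) Γ(S, V) :=
    eval₂Hom MvPolynomial.C (Fin.cases 0 MvPolynomial.X)
  have hψg : ψ (MvPolynomial.X 0) = g := by simp [ψ]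
  have hcomp : π.comp ψ = (r.comp φ₁).comp κ₀ := by
    refine MvPolynomial.ringHom_ext (fun c => ?_) fun i => ?_
    · have h1 : φ₁ (MvPolynomial.C c) = (h.appLE V U₁ e₁).hom c := RingHom.congr_fun hφ₁ c
      simp only [RingHom.comp_apply, ψ, κ₀, eval₂Hom_C, h1]
      show (f.appLE V D eD ≫ Z.subschemeι.app D).hom c = (h.appLE V U₁ e₁ ≫ Z.subscheme.presheaf.map (homOfLE eW).op).hom c
      rw [Scheme.Hom.appLE_map, Scheme.Hom.app_eq_appLE, Scheme.Hom.appLE_comp_appLE]
    · refine Fin.cases ?_ (fun j => ?_) i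
      · simp only [RingHom.comp_apply, ψ, κ₀, eval₂Hom_X', Fin.cases_zero, map_zero]
        exact RingHom.mem_ker.1 (hπker ▸ Ideal.mem_span_singleton_self g)
      · simp only [RingHom.comp_apply, ψ, κ₀, eval₂Hom_X', Fin.cases_succ]
        exact ha j
  have hW : IsAffineOpen (Z.subschemeι ⁻¹ᵁ D) := hD.preimage Z.subschemeι
  have hrqf : r.QuasiFinite := by
    have h0 := HasRingHomProperty.appLE @LocallyQuasiFinite (𝟙 Z.subscheme) inferInstance
      ⟨U₁, hU₁⟩ ⟨_, hW⟩ eW
    simp only [Scheme.Hom.appLE, Scheme.Hom.id_app, Category.id_comp] at h0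
    exact h0
  have hκ₀ : Function.Surjective κ₀ := fun p => ⟨MvPolynomial.rename Fin.succ p, by
    simp [κ₀, bind₁_rename, Function.comp_def]⟩
  have hqfc : (π.comp ψ).QuasiFinite := hcomp ▸
    (hrqf.comp hqf₁).comp (RingHom.QuasiFinite.of_finite (RingHom.Finite.of_surjective _ hκ₀))
  have hψft : ψ.FiniteType := by
    refine RingHom.FiniteType.of_comp_finiteType (f := MvPolynomial.C) ?_
    rw [show ψ.comp MvPolynomial.C = (f.appLE V D eD).hom from eval₂Hom_comp_C _ _]
    exact f.finiteType_appLE hV hD eD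
  have hgx : g ∈ (hD.primeIdealOf ⟨x, hxD⟩).asIdeal := by
    rw [mem_primeIdealOf_iff]
    have h1 : (x : X) ∈ (Z.support : Set X) ∩ (D : Set X) := ⟨hxZ, hxD⟩
    rw [Z.coe_support_inter ⟨D, hD⟩, hg] at h1
    exact (X.mem_zeroLocus_iff _ _).1 h1.1 g (Ideal.mem_span_singleton_self g)
  obtain ⟨b, hb, hbqf⟩ := exists_basicOpen_quasiFinite ψ hψft π hπ (MvPolynomial.X 0)
    (by rw [hψg]; exact hπker) hqfc (hD.primeIdealOf ⟨x, hxD⟩) (by rw [hψg]; exact hgx)
  let D' := X.basicOpen b
  have hxD' : (x : X) ∈ D' := not_not.1 fun hh => hb ((mem_primeIdealOf_iff hD b _ hxD).2 hh)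
  have hD' : IsAffineOpen D' := hD.basicOpen b
  have hD'D : D' ≤ D := X.basicOpen_le b
  have := hD.isLocalization_basicOpen b
  obtain ⟨hftD, hqfD⟩ := hbqf Γ(X, D')
  let φ := (algebraMap Γ(X, D) Γ(X, D')).comp ψ
  have hφC : φ.comp MvPolynomial.C = (f.appLE V D' (hD'D.trans eD)).hom := by
    rw [RingHom.comp_assoc, show ψ.comp MvPolynomial.C = (f.appLE V D eD).hom from eval₂Hom_comp_C _ _]
    show ((f.appLE V D eD) ≫ X.presheaf.map (homOfLE hD'D).op).hom = _
    rw [Scheme.Hom.appLE_map]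
  have hξD : ξ ∈ D' := (hξ x).mem_open D'.isOpen hxD'
  have hgen := UOpenLib.comap_eq_of_le_fibreClosureDim f hV hD' (hD'D.trans eD) φ hφC hqfD hξD hn
  have hφg : ∀ p (hp : p ∈ D'), φ (MvPolynomial.X 0) ∈ (hD'.primeIdealOf ⟨p, hp⟩).asIdeal ↔ p ∉ X.basicOpen g := by
    intro p hp
    rw [mem_primeIdealOf_iff]
    have : φ (MvPolynomial.X 0) = (X.presheaf.map (homOfLE hD'D).op).hom g := by
      show algebraMap Γ(X, D) Γ(X, D') (ψ (MvPolynomial.X 0)) = _
      rw [hψg]; rfl
    rw [this]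
    refine not_congr ?_
    erw [X.basicOpen_res]
    exact ⟨fun hh => hh.2, fun hh => ⟨hp, hh⟩⟩
  obtain ⟨q, hq1, hq2⟩ := exists_point_hyperplane φ hftD hqfD (hD'.primeIdealOf ⟨ξ, hξD⟩)
    (hD'.primeIdealOf ⟨x, hxD'⟩) ((UOpenLib.primeIdealOf_le_iff hD' hξD hxD').2 (hξ x))
    _ hgen ((hφg x hxD').2 ((mem_primeIdealOf_iff hD g _ hxD).1 hgx))
  obtain ⟨p, hp, rfl⟩ := UOpenLib.exists_point_of_prime hD' q
  refine hη p ?_ ?_
  · have : p ∈ (Z.support : Set X) ∩ (D : Set X) := by
      rw [Z.coe_support_inter ⟨D, hD⟩, hg]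
      refine ⟨(X.mem_zeroLocus_iff _ _).2 fun t ht hpt => ?_, hD'D hp⟩
      obtain ⟨c, rfl⟩ := Ideal.mem_span_singleton'.1 ht
      rw [X.basicOpen_mul] at hpt
      exact (hφg p hp).1 hq1 hpt.2
    exact this.1
  · have h1 := UOpenLib.comap_primeIdealOf f hV hD' (hD'D.trans eD) φ hφC p hp
    rw [hq2] at h1
    have h2 := congrArg hV.fromSpec.base h1
    rw [hV.fromSpec_primeIdealOf, hV.fromSpec_primeIdealOf] at h2
    exact h2.symm.trans hfξ

end Groth.Agent.S1387
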