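import Groth.Statements.S13872
import Groth.Agent.ZCLib.Tau
import Groth.Agent.ZCLib.Pol

set_option autoImplicit false
universe u
open scoped TensorProduct
open ZeroCyc

namespace Groth.Agent.S13872

/-- Let A be a commutative ring, B an A-algebra and d ≥ 1; let (C, γ) be the degree-d divided power
algebra Γ^d_A(B) with its universal multiplicative law γ : B → C of degree d (every multiplicative
law of degree d out of B factors uniquely through γ), and let φ : Γ^d_A(B) → TS^d_A(B) be the
canonical homomorphism to the symmetric tensors, taken as data characterised by: after any base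
change S, φ ∘ γ sends Σ_j s_j ⊗ b_j to Σ_{c : [d] → [n]} (∏_i s_{c(i)}) ⊗ (b_{c(1)} ⊗ ⋯ ⊗ b_{c(d)}),
i.e. φ corresponds to the law x ↦ x ⊗ ⋯ ⊗ x. Then d!·x = 0 for every x in the kernel of φ, and d!·y
lies in the image of φ for every symmetric tensor y ∈ TS^d_A(B). (The published statement also
asserts x^{d!} = 0 and y^{d!} in the image of φ; those two halves are a separate result and are not
restated here.) -/
theorem result {A B C : Type u} [CommRing A] [CommRing B] [Algebra A B] [CommRing C] [Algebra A C] (d : ℕ) (hd : 0 < d)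
    (γ : PolLaw.MulLaw A B C d) (hγ : PolLaw.IsGammaD γ) (φ : C →ₐ[A] SymTen.TS A B d)
    (hφ : ∀ (S : Type u) [CommSemiring S] [Algebra A S] (n : ℕ) (s : Fin n → S) (b : Fin n → B),
      ((SymTen.TS A B d).val.comp φ).toLinearMap.lTensor S (γ.law.toFun' S (∑ j, s j ⊗ₜ[A] b j)) =
        ∑ c : Fin d → Fin n, (∏ i, s (c i)) ⊗ₜ[A] PiTensorProduct.tprod A (fun i => b (c i))) :
    (∀ x : C, φ x = 0 → d.factorial • x = 0) ∧
      (∀ y : SymTen.TS A B d, d.factorial • y ∈ φ.range) := by
  have key : ∀ c : C, ZCLib.pol γ.homog (φ c : ⨂[A] _ : Fin d, B) = d.factorial • c := by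
    intro c
    have hc : c ∈ Submodule.span A (ZCLib.coeffSet γ.law ⊤) := by
      rw [ZCLib.span_coeffSet_eq_top hγ]; trivial
    induction hc using Submodule.span_induction with
    | zero => simp
    | add a b _ _ ha hb => rw [map_add, Subalgebra.coe_add, map_add, ha, hb, nsmul_add]
    | smul r a _ ha => rw [map_smul, Subalgebra.coe_smul, map_smul, ha, smul_comm]
    | mem a ha =>
      obtain ⟨κ, _, v, α, -, rfl⟩ := ha
      rw [ZCLib.val_phi_coeffs φ hφ, ZCLib.pol_orbs]
  have key' : (SymTen.TS A B d).val.toLinearMap ∘ₗ φ.toLinearMap ∘ₗ ZCLib.pol γ.homog =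
      ZCLib.symmSum A d B := by
    refine PiTensorProduct.ext (MultilinearMap.ext fun m => ?_)
    simp only [LinearMap.compMultilinearMap_apply, LinearMap.comp_apply, ZCLib.pol_tprod,
      AlgHom.toLinearMap_apply, Subalgebra.val_apply]
    rw [ZCLib.val_phi_coeffs φ hφ, ZCLib.orbs_ones]
  refine ⟨fun x hx => ?_, fun y => ⟨ZCLib.pol γ.homog y, Subtype.ext ?_⟩⟩
  · rw [← key, hx, ZeroMemClass.coe_zero, map_zero]
  · refine (LinearMap.congr_fun key' y).trans ?_
    rw [ZCLib.symmSum_of_mem]
    · rfl
    · rw [← ZCLib.TS_toSubmodule]; exact y.2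

end Groth.Agent.S13872
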