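import Groth.Statements.S13874
import Groth.Agent.ZCLib.Residue
import Groth.Agent.S13398
import Groth.Agent.S0415
import Mathlib.RingTheory.Spectrum.Prime.Homeomorph
import Mathlib.RingTheory.Kaehler.Basic

set_option autoImplicit false
universe u
open scoped TensorProduct
open AlgebraicGeometry
open ZeroCyc

namespace Groth.Agent.S13874

/-- A map of rings with nilpotent kernel, powers of all elements in the image and fractions of the
image at all primes gives a universal homeomorphism with trivial residue extensions. -/
theorem isUnivHomeo_of_fractions {C T : Type u} [CommRing C] [CommRing T] (f : C →+* T) (n : ℕ)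
    (hn : 0 < n) (hnil : ∀ x : C, f x = 0 → x ^ n = 0) (hpow : ∀ y : T, y ^ n ∈ f.range)
    (hfrac : ∀ (q : Ideal T) [q.IsPrime] (y : T), ∃ c c' : C, f c' ∉ q ∧ y * f c' - f c ∈ q) :
    FlatMor.IsUnivHomeo (Spec.map (CommRingCat.ofHom f)) ∧
      ∀ x : ↥(Spec (CommRingCat.of T)),
        Function.Surjective ((Spec.map (CommRingCat.ofHom f)).residueFieldMap x).hom := by
  classical
  have hint : f.IsIntegral := fun y => by
    letI := f.toAlgebra
    obtain ⟨c, hc⟩ := hpow y
    have h : IsIntegral C (y ^ n) := by
      rw [← hc]; exact isIntegral_algebraMap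
    exact h.of_pow hn
  have hhomeo : IsHomeomorph (PrimeSpectrum.comap f) := by
    refine PrimeSpectrum.isHomeomorph_comap _ (fun y => ⟨_, hn, ?_⟩) fun x hx => ?_
    · obtain ⟨c, hc⟩ := hpow y
      exact ⟨c, hc⟩
    · exact ⟨_, hnil x hx⟩
  constructor
  · rw [Groth.Agent.S0415.result]
    refine ⟨IsIntegralHom.SpecMap_iff.mpr hint, ?_, ⟨hhomeo.surjective⟩⟩
    letI := f.toAlgebra
    have h : RingHom.ker (Algebra.TensorProduct.lmul' C (S := T)) ≤
        nilradical (T ⊗[C] T) := by
      intro z hz
      replace hz : z ∈ KaehlerDifferential.ideal C T := hz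
      rw [← KaehlerDifferential.span_range_eq_ideal] at hz
      refine Ideal.span_le.mpr ?_ hz
      rintro _ ⟨y, rfl⟩
      rw [SetLike.mem_coe, nilradical_eq_sInf, Submodule.mem_sInf]
      intro (P : Ideal _) (hP : P.IsPrime)
      let l : T →ₐ[C] T ⊗[C] T :=
        Algebra.TensorProduct.includeLeft
      let r : T →ₐ[C] T ⊗[C] T :=
        Algebra.TensorProduct.includeRight
      have hφl : ∀ c, l (f c) = algebraMap C _ c := fun c => l.commutes c
      have hφr : ∀ c, r (f c) = algebraMap C _ c := fun c => r.commutes c
      have hq : P.comap l = P.comap r := by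
        refine congrArg PrimeSpectrum.asIdeal (hhomeo.injective (a₁ := ⟨P.comap l, inferInstance⟩)
          (a₂ := ⟨P.comap r, inferInstance⟩) ?_)
        ext c
        show l (f c) ∈ P ↔ r (f c) ∈ P
        rw [hφl, hφr]
      obtain ⟨c, c', hc', hy⟩ := hfrac (P.comap l) y
      have hy' : r (y * f c' - f c) ∈ P := by
        rw [← Ideal.mem_comap, ← hq]; exact hy
      rw [Ideal.mem_comap] at hy hc'
      rw [map_sub, map_mul, hφl, hφl] at hy
      rw [map_sub, map_mul, hφr, hφr] at hy'
      rw [hφl] at hc'
      have h2 : (r y - l y) * algebraMap C _ c' ∈ P := by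
        have := sub_mem hy' hy
        rwa [sub_sub_sub_cancel_right, ← sub_mul] at this
      exact (hP.mem_or_mem h2).resolve_right hc'
    rw [UniversallyInjective.iff_diagonal]
    show Surjective (CategoryTheory.Limits.pullback.diagonal
      (Spec.map (CommRingCat.ofHom (algebraMap C T))))
    rw [diagonal_SpecMap, CategoryTheory.MorphismProperty.cancel_right_of_respectsIso @Surjective,
      surjective_iff]
    show Function.Surjective
      (PrimeSpectrum.comap (Algebra.TensorProduct.lmul' C (S := T)).toRingHom)
    rw [← Set.range_eq_univ, range_comap_of_surjective _ _ fun c => ⟨c ⊗ₜ 1, by simp⟩,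
      PrimeSpectrum.zeroLocus_eq_univ_iff]
    exact h
  · intro x
    let res := ((Spec.map (CommRingCat.ofHom f)).residueFieldMap x).hom
    let ev : T → (Spec (CommRingCat.of T)).residueField x :=
      fun t => (Scheme.Spec.residueFieldIso _ x).inv (algebraMap _ x.asIdeal.ResidueField t)
    have hev : ∀ c, ev (f c) ∈ res.fieldRange := fun c => by
      refine ⟨(Spec (CommRingCat.of C)).Γevaluation _ ((Scheme.ΓSpecIso _).inv c), ?_⟩
      show (Spec.map (CommRingCat.ofHom f)).residueFieldMap x _ = _
      rw [Scheme.Γevaluation_naturality_apply]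
      have e1 := CategoryTheory.ConcreteCategory.congr_hom
        (Scheme.ΓSpecIso_inv_naturality (CommRingCat.ofHom f)) c
      refine (congrArg _ e1.symm).trans ?_
      have e2 := CategoryTheory.ConcreteCategory.congr_hom
        (Scheme.Spec.algebraMap_residueFieldIso_inv (CommRingCat.of T) x) (f c)
      exact e2.symm
    have hev' : ∀ t, ev t ∈ res.fieldRange := fun t => by
      obtain ⟨c, c', hc', hy⟩ := hfrac x.asIdeal t
      have h0 : algebraMap _ x.asIdeal.ResidueField (f c') ≠ 0 := by
        rwa [Ne, Ideal.algebraMap_residueField_eq_zero]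
      have h1 : algebraMap _ x.asIdeal.ResidueField t =
          algebraMap _ x.asIdeal.ResidueField (f c) / algebraMap _ x.asIdeal.ResidueField (f c') := by
        rw [eq_div_iff h0, ← map_mul, ← sub_eq_zero, ← map_sub,
          Ideal.algebraMap_residueField_eq_zero]
        exact hy
      show (Scheme.Spec.residueFieldIso _ x).inv.hom _ ∈ _
      rw [h1, map_div₀]
      exact div_mem (hev c) (hev c')
    intro z
    obtain ⟨a, b, -, hab⟩ := IsFractionRing.div_surjective
      (A := T ⧸ x.asIdeal) ((Scheme.Spec.residueFieldIso _ x).hom z)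
    obtain ⟨a, rfl⟩ := Ideal.Quotient.mk_surjective a
    obtain ⟨b, rfl⟩ := Ideal.Quotient.mk_surjective b
    have hz : z = ev a / ev b := by
      show z = (Scheme.Spec.residueFieldIso _ x).inv.hom _ / (Scheme.Spec.residueFieldIso _ x).inv.hom _
      rw [← map_div₀]
      rw [show (algebraMap _ x.asIdeal.ResidueField a) / (algebraMap _ x.asIdeal.ResidueField b) =
        (Scheme.Spec.residueFieldIso _ x).hom z from hab]
      simp
    rw [hz]
    exact div_mem (hev' a) (hev' b)


/-- Affine form. Let A be a commutative ring, B an A-algebra and d ≥ 1; let (C, γ) be the degree-d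
divided power algebra Γ^d_A(B) with its universal multiplicative law γ : B → C of degree d (every
multiplicative law of degree d out of B factors uniquely through γ), and let φ : Γ^d_A(B) →
TS^d_A(B) be the canonical homomorphism to the symmetric tensors, taken as data characterised by:
after any base change S, φ ∘ γ sends Σ_j s_j ⊗ b_j to Σ_{c : [d] → [n]} (∏_i s_{c(i)}) ⊗ (b_{c(1)} ⊗
⋯ ⊗ b_{c(d)}), i.e. φ corresponds to the law x ↦ x ⊗ ⋯ ⊗ x. Then the morphism Spec TS^d_A(B) → Spec
Γ^d_A(B) induced by φ (the comparison map from the d-th symmetric product of Spec B over Spec A to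
the scheme of degree-d divided powers) is a universal homeomorphism inducing an isomorphism on every
residue field. (The published statement is for a separated algebraic space X over an algebraic space
S; this row is its content for X = Spec B over S = Spec A. The second assertion of the published
statement, that the map is an isomorphism when B is flat over A or A contains the rationals, is not
part of this row.) -/
theorem result {A B C : Type u} [CommRing A] [CommRing B] [Algebra A B] [CommRing C] [Algebra A C] (d : ℕ) (hd : 0 < d)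
    (γ : PolLaw.MulLaw A B C d) (hγ : PolLaw.IsGammaD γ) (φ : C →ₐ[A] SymTen.TS A B d)
    (hφ : ∀ (S : Type u) [CommSemiring S] [Algebra A S] (n : ℕ) (s : Fin n → S) (b : Fin n → B),
      ((SymTen.TS A B d).val.comp φ).toLinearMap.lTensor S (γ.law.toFun' S (∑ j, s j ⊗ₜ[A] b j)) =
        ∑ c : Fin d → Fin n, (∏ i, s (c i)) ⊗ₜ[A] PiTensorProduct.tprod A (fun i => b (c i))) :
    FlatMor.IsUnivHomeo (Spec.map (CommRingCat.ofHom φ.toRingHom)) ∧
      ∀ x : ↥(Spec (CommRingCat.of (SymTen.TS A B d))),
        Function.Surjective ((Spec.map (CommRingCat.ofHom φ.toRingHom)).residueFieldMap x).hom := by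
  obtain ⟨hnil, hpow⟩ := Groth.Agent.S13398.result d γ hγ φ hφ
  exact isUnivHomeo_of_fractions φ.toRingHom _ (Nat.factorial_pos d) hnil hpow
    fun q _ y => ZCLib.exists_fraction φ hφ q y

end Groth.Agent.S13874
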