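import Groth.Statements.S13877
import Mathlib
import Groth.Agent.S0612
-- import your own Groth.Agent.* helpers here

set_option autoImplicit false
set_option maxHeartbeats 1000000
universe u v
open Crimp

namespace Groth.Agent.S13877

/-- Over R = k⟦t⟧ with k an algebraically closed field of characteristic zero, let S' be a commutative
R-algebra with an R-basis of size d whose discriminant generates the ideal (t ^ a) (a finite cover
of the formal disk of degree d, unramified over the punctured disk, with branch divisor (t ^ a)),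
and let S be an R-subalgebra of S' with an R-basis of size d whose discriminant generates (t ^ b) (a
crimp with branch divisor (t ^ b)). Then t ^ b annihilates S' / S and twice the R-length of S' / S
plus a equals b. (The published statement is for a family of such subalgebras over a k-scheme T and
also asserts T-flatness of the quotient; this row is its restriction to T a point.) -/
theorem result {k : Type u} [Field k] [IsAlgClosed k] [CharZero k]
    {St : Type v} [CommRing St] [Algebra (PowerSeries k) St] (d a b : ℕ)
    (bt : Module.Basis (Fin d) (PowerSeries k) St)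
    (ha : Ideal.span {Algebra.discr (PowerSeries k) ⇑bt} = Ideal.span {(PowerSeries.X : PowerSeries k) ^ a})
    (S : Subalgebra (PowerSeries k) St) (bS : Module.Basis (Fin d) (PowerSeries k) S)
    (hb : Ideal.span {Algebra.discr (PowerSeries k) ⇑bS} = Ideal.span {(PowerSeries.X : PowerSeries k) ^ b}) :
    (∀ q : St ⧸ Subalgebra.toSubmodule S, ((PowerSeries.X : PowerSeries k) ^ b) • q = 0) ∧
    2 * Module.length (PowerSeries k) (St ⧸ Subalgebra.toSubmodule S) + (a : ℕ∞) = (b : ℕ∞) := by
  classical
  let R := PowerSeries k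
  let φ : (Fin d → R) →ₗ[R] (Fin d → R) :=
    bt.equivFun.toLinearMap ∘ₗ S.val.toLinearMap ∘ₗ bS.equivFun.symm.toLinearMap
  set P := LinearMap.toMatrix' φ with hPdef
  have hφinj : Function.Injective φ :=
    bt.equivFun.injective.comp (Subtype.val_injective.comp bS.equivFun.symm.injective)
  have hP : ∀ v, P.mulVec v = φ v := fun v => by
    rw [hPdef, ← Matrix.toLin'_apply, Matrix.toLin'_toMatrix']
  have hdet : P.det ≠ 0 := by
    intro h
    obtain ⟨v, hv0, hv⟩ := Matrix.exists_mulVec_eq_zero_iff.mpr h
    rw [hP] at hv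
    exact hv0 (hφinj (hv.trans (map_zero φ).symm))
  have hφb : ∀ j, φ (Pi.single j 1) = bt.equivFun (bS j : St) := fun j => by
    show bt.equivFun (S.val (bS.equivFun.symm (Pi.single j 1))) = _
    congr 1
    rw [show bS.equivFun.symm (Pi.single j 1) = bS j by
      apply bS.equivFun.injective
      rw [LinearEquiv.apply_symm_apply]
      funext i
      simp [Finsupp.single_apply, Pi.single_apply, eq_comm]]
    rfl
  have hcol : ∀ j, (bS j : St) = ∑ i, P i j • bt i := fun j => by
    have h1 : ∀ i, P i j = bt.equivFun (bS j : St) i := fun i => by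
      rw [← hφb, hPdef, LinearMap.toMatrix'_apply]
    simp only [h1]
    exact (bt.sum_equivFun _).symm
  have htr : ∀ x : S, Algebra.trace R S x = Algebra.trace R St (x : St) := by
    intro x
    rw [Algebra.trace_eq_matrix_trace bS, Algebra.trace_eq_matrix_trace bt]
    have hmul : P * Algebra.leftMulMatrix bS x = Algebra.leftMulMatrix bt (x : St) * P := by
      have key : φ ∘ₗ Matrix.toLin' (Algebra.leftMulMatrix bS x) =
          Matrix.toLin' (Algebra.leftMulMatrix bt (x : St)) ∘ₗ φ := by
        refine LinearMap.ext fun v => ?_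
        obtain ⟨s, rfl⟩ := bS.equivFun.surjective v
        have e1 : Matrix.toLin' (Algebra.leftMulMatrix bS x) (bS.equivFun s) = bS.equivFun (x * s) := by
          rw [Matrix.toLin'_apply]
          exact Algebra.leftMulMatrix_mulVec_repr bS x s
        have e2 : ∀ t : St, Matrix.toLin' (Algebra.leftMulMatrix bt (x : St)) (bt.equivFun t) =
            bt.equivFun ((x : St) * t) := fun t => by
          rw [Matrix.toLin'_apply]
          exact Algebra.leftMulMatrix_mulVec_repr bt (x : St) t
        have e3 : ∀ t : S, φ (bS.equivFun t) = bt.equivFun (t : St) := fun t => by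
          show bt.equivFun (S.val (bS.equivFun.symm (bS.equivFun t))) = _
          rw [LinearEquiv.symm_apply_apply]; rfl
        show φ (Matrix.toLin' _ _) = Matrix.toLin' _ (φ _)
        rw [e1, e3, e3, e2]
        rfl
      have h2 := congrArg LinearMap.toMatrix' key
      rwa [LinearMap.toMatrix'_comp, LinearMap.toMatrix'_comp, LinearMap.toMatrix'_toLin',
        LinearMap.toMatrix'_toLin'] at h2
    refine mul_left_cancel₀ hdet ?_
    calc P.det * (Algebra.leftMulMatrix bS x).trace = ((P.adjugate * P) * Algebra.leftMulMatrix bS x).trace := by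
          rw [Matrix.adjugate_mul, Matrix.smul_mul, one_mul, Matrix.trace_smul, smul_eq_mul]
      _ = ((Algebra.leftMulMatrix bt (x : St) * P) * P.adjugate).trace := by
          rw [mul_assoc, hmul, Matrix.trace_mul_comm]
      _ = P.det * (Algebra.leftMulMatrix bt (x : St)).trace := by
          rw [mul_assoc, Matrix.mul_adjugate, Matrix.mul_smul, mul_one, Matrix.trace_smul, smul_eq_mul]
  have hdisc : Algebra.discr R ⇑bS = P.det ^ 2 * Algebra.discr R ⇑bt := by
    rw [← Algebra.discr_of_matrix_vecMul]
    have h1 : Matrix.vecMul (⇑bt) (P.map (algebraMap R St)) = fun j => (bS j : St) := by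
      funext j
      rw [hcol, Matrix.vecMul, dotProduct]
      exact Finset.sum_congr rfl fun i _ => by rw [Matrix.map_apply, Algebra.smul_def, mul_comm]
    rw [h1, Algebra.discr_def, Algebra.discr_def]
    congr 1
    ext i j
    simp only [Algebra.traceMatrix_apply, Algebra.traceForm_apply]
    rw [htr]; rfl
  have hass : P.det ^ 2 * (PowerSeries.X : R) ^ a ∣ (PowerSeries.X : R) ^ b ∧
      (PowerSeries.X : R) ^ b ∣ P.det ^ 2 * (PowerSeries.X : R) ^ a := by
    have h : Ideal.span {P.det ^ 2 * (PowerSeries.X : R) ^ a} = Ideal.span {(PowerSeries.X : R) ^ b} := by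
      rw [← Ideal.span_singleton_mul_span_singleton, ← ha, Ideal.span_singleton_mul_span_singleton, ← hdisc, hb]
    exact ⟨Ideal.mem_span_singleton.mp (h ▸ Ideal.mem_span_singleton_self _),
      Ideal.mem_span_singleton.mp (h.symm ▸ Ideal.mem_span_singleton_self _)⟩
  have hdiv : P.det ∣ (PowerSeries.X : R) ^ b :=
    ((dvd_pow_self P.det two_ne_zero).trans (dvd_mul_right _ _)).trans hass.1
  have hmap : (Subalgebra.toSubmodule S).map bt.equivFun.toLinearMap = LinearMap.range φ := by
    ext v
    constructor
    · rintro ⟨s, hs, rfl⟩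
      refine ⟨bS.equivFun ⟨s, hs⟩, ?_⟩
      show bt.equivFun (S.val (bS.equivFun.symm (bS.equivFun ⟨s, hs⟩))) = _
      rw [LinearEquiv.symm_apply_apply]; rfl
    · rintro ⟨w, rfl⟩
      exact ⟨(bS.equivFun.symm w : S), (bS.equivFun.symm w : S).2, rfl⟩
  let E := Submodule.Quotient.equiv (Subalgebra.toSubmodule S) (LinearMap.range φ) bt.equivFun hmap
  constructor
  · intro q
    obtain ⟨s, rfl⟩ := Submodule.Quotient.mk_surjective _ q
    apply E.injective
    obtain ⟨c, hc⟩ := hdiv
    rw [map_smul, map_zero]
    show (PowerSeries.X : R) ^ b • (Submodule.Quotient.mk (bt.equivFun s) : (Fin d → R) ⧸ LinearMap.range φ) = 0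
    rw [← Submodule.Quotient.mk_smul, Submodule.Quotient.mk_eq_zero]
    refine ⟨c • P.adjugate.mulVec (bt.equivFun s), ?_⟩
    rw [← hP, Matrix.mulVec_smul, Matrix.mulVec_mulVec, Matrix.mul_adjugate, Matrix.smul_mulVec,
      Matrix.one_mulVec, smul_smul, hc, mul_comm]
  · rw [E.length_eq]
    have hφd : LinearMap.det φ = P.det := (LinearMap.det_toMatrix' φ).symm
    rw [Groth.Agent.S0612.result φ (by rw [hφd]; exact mem_nonZeroDivisors_of_ne_zero hdet), hφd]
    have hX : (PowerSeries.X : R) ∈ nonZeroDivisors R := mem_nonZeroDivisors_of_ne_zero PowerSeries.X_ne_zero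
    have hpow : ∀ m : ℕ, Ring.ord R ((PowerSeries.X : R) ^ m) = m := fun m => by
      rw [Ring.ord_pow hX, Ring.ord_of_irreducible PowerSeries.X_irreducible]; simp
    obtain ⟨v, hv⟩ := (associated_of_dvd_dvd hass.1 hass.2)
    have h := congrArg (Ring.ord R) hv
    rw [mul_assoc, Ring.ord_mul (R := R) (mul_mem (pow_mem hX a) v.isUnit.mem_nonZeroDivisors),
      Ring.ord_mul (R := R) v.isUnit.mem_nonZeroDivisors, Ring.ord_pow (mem_nonZeroDivisors_of_ne_zero hdet), hpow, hpow,
      Ring.ord_of_isUnit v.isUnit, add_zero] at h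
    rw [← h]
    simp [two_mul, two_nsmul]

end Groth.Agent.S13877
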