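import Groth.Statements.S13878
import Mathlib.RingTheory.PowerSeries.Inverse
import Mathlib.LinearAlgebra.Matrix.NonsingularInverse
import Mathlib.LinearAlgebra.Matrix.ToLin
import Mathlib.LinearAlgebra.Matrix.Basis
import Mathlib.RingTheory.Ideal.Quotient.Operations
-- import your own Groth.Agent.* helpers here

set_option autoImplicit false
universe u
open Crimp

namespace Groth.Agent.S13878

/-- Over R = k⟦t⟧ with k an algebraically closed field of characteristic zero, let S' = R × R × R (the
unramified triple cover of the formal disk) and let S be an R-submodule of S' containing 1 such that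
S' / S is isomorphic to R / (t ^ m) ⊕ R / (t ^ n) with m ≤ n. Then t ^ n S' is contained in S, and
there is f in S', not lying in R·1 + t S', such that S = R·1 + R·(t ^ m f) + t ^ n S'. -/
theorem result {k : Type u} [Field k] [IsAlgClosed k] [CharZero k] (m n : ℕ) (hmn : m ≤ n)
    (S : Submodule (PowerSeries k) (Fin 3 → PowerSeries k))
    (h1 : (1 : (Fin 3 → PowerSeries k)) ∈ S)
    (e : ((Fin 3 → PowerSeries k) ⧸ S) ≃ₗ[PowerSeries k]
      ((PowerSeries k ⧸ Ideal.span {(PowerSeries.X : PowerSeries k) ^ m}) × (PowerSeries k ⧸ Ideal.span {(PowerSeries.X : PowerSeries k) ^ n}))) :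
    Ideal.span {(PowerSeries.X : PowerSeries k) ^ n} • (⊤ : Submodule (PowerSeries k) (Fin 3 → PowerSeries k)) ≤ S ∧
    ∃ f : (Fin 3 → PowerSeries k),
      f ∉ Submodule.span (PowerSeries k) {(1 : (Fin 3 → PowerSeries k))} ⊔ Ideal.span {(PowerSeries.X : PowerSeries k)} • (⊤ : Submodule (PowerSeries k) (Fin 3 → PowerSeries k)) ∧
      S = Submodule.span (PowerSeries k) {(1 : (Fin 3 → PowerSeries k)), ((PowerSeries.X : PowerSeries k) ^ m) • f} ⊔
        Ideal.span {(PowerSeries.X : PowerSeries k) ^ n} • (⊤ : Submodule (PowerSeries k) (Fin 3 → PowerSeries k)) := by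
  classical
  let R := PowerSeries k
  let π : (Fin 3 → PowerSeries k) →ₗ[PowerSeries k] ((PowerSeries k ⧸ Ideal.span {(PowerSeries.X : PowerSeries k) ^ m}) × (PowerSeries k ⧸ Ideal.span {(PowerSeries.X : PowerSeries k) ^ n})) :=
    e.toLinearMap ∘ₗ S.mkQ
  have hπ : ∀ x, π x = 0 ↔ x ∈ S := fun x => by simp [π, Submodule.Quotient.mk_eq_zero]
  have hπ1 : π 1 = 0 := (hπ 1).mpr h1
  have hπs : Function.Surjective π := e.surjective.comp S.mkQ_surjective
  have hdvd : ∀ (a : PowerSeries k) (j : ℕ), Ideal.Quotient.mk (Ideal.span {(PowerSeries.X : PowerSeries k) ^ j}) a = 0 ↔ PowerSeries.X ^ j ∣ a := fun a j => by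
    rw [Ideal.Quotient.eq_zero_iff_mem, Ideal.mem_span_singleton]
  have hsm : ∀ (j : ℕ) (a b : PowerSeries k), a • Ideal.Quotient.mk (Ideal.span {(PowerSeries.X : PowerSeries k) ^ j}) b = Ideal.Quotient.mk _ (a * b) := fun _ _ _ => rfl
  have hsm1 : ∀ (j : ℕ) (a : PowerSeries k), a • (1 : PowerSeries k ⧸ Ideal.span {(PowerSeries.X : PowerSeries k) ^ j}) = Ideal.Quotient.mk _ a := fun j a => congrArg (Ideal.Quotient.mk _) (mul_one a)
  have htn : Ideal.span {(PowerSeries.X : PowerSeries k) ^ n} • (⊤ : Submodule (PowerSeries k) (Fin 3 → PowerSeries k)) ≤ S := by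
    refine Submodule.smul_le.mpr fun a ha x _ => (hπ _).mp ?_
    obtain ⟨c, rfl⟩ := Ideal.mem_span_singleton'.mp ha
    rw [map_smul]
    obtain ⟨⟨p₁, hp₁⟩, ⟨p₂, hp₂⟩⟩ : (∃ p, Ideal.Quotient.mk _ p = (π x).1) ∧ (∃ p, Ideal.Quotient.mk _ p = (π x).2) :=
      ⟨Ideal.Quotient.mk_surjective _, Ideal.Quotient.mk_surjective _⟩
    refine Prod.ext ?_ ?_
    · rw [Prod.smul_fst, ← hp₁, hsm]
      exact (hdvd _ _).mpr (Dvd.dvd.mul_right (Dvd.dvd.mul_left (pow_dvd_pow _ hmn) _) _)
    · rw [Prod.smul_snd, ← hp₂, hsm]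
      exact (hdvd _ _).mpr (Dvd.dvd.mul_right (Dvd.dvd.mul_left dvd_rfl _) _)
  -- residues
  let cc := PowerSeries.constantCoeff (R := k)
  let res : (Fin 3 → PowerSeries k) → Fin 3 → k := fun x i => cc (x i)
  have res_add : ∀ x y, res (x + y) = res x + res y := fun x y => funext fun i => by simp [res]
  have res_smul : ∀ (a : PowerSeries k) x, res (a • x) = cc a • res x := fun a x => funext fun i => by simp [res, cc]
  have hmk : ∀ (j : ℕ), 1 ≤ j → ∀ a : PowerSeries k, Ideal.Quotient.mk (Ideal.span {(PowerSeries.X : PowerSeries k) ^ j}) a = 0 → cc a = 0 := fun j hj a ha => by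
    exact PowerSeries.X_dvd_iff.mp ((dvd_pow_self _ (by omega)).trans ((hdvd a j).mp ha))
  have hresker : ∀ x, res x = 0 → ∃ y, x = (PowerSeries.X : PowerSeries k) • y := fun x hx => by
    choose y hy using fun i => PowerSeries.X_dvd_iff.mpr (show cc (x i) = 0 from congrFun hx i)
    exact ⟨y, funext fun i => by simp [hy i]⟩
  -- a basis `1, u, v`
  obtain ⟨u, v, hu, hv, hind⟩ : ∃ u v, π u = (1, 0) ∧ π v = (0, 1) ∧ LinearIndependent k ![(1 : Fin 3 → k), res u, res v] := by
    obtain ⟨v₀, hv₀⟩ := hπs (0, 1)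
    obtain ⟨u₀, hu₀⟩ := hπs (1, 0)
    by_cases hm : 1 ≤ m
    · refine ⟨u₀, v₀, hu₀, hv₀, Fintype.linearIndependent_iff.mpr fun a ha => ?_⟩
      rw [Fin.sum_univ_three] at ha
      obtain ⟨y, hy⟩ := hresker (PowerSeries.C (a 0) • 1 + PowerSeries.C (a 1) • u₀ + PowerSeries.C (a 2) • v₀) (by
        simp only [res_add, res_smul, cc, PowerSeries.constantCoeff_C]
        rw [← ha]
        congr 2)
      have h2 := congrArg π hy
      simp only [map_add, map_smul, hπ1, smul_zero, zero_add, hu₀, hv₀] at h2
      obtain ⟨⟨p₁, hp₁⟩, ⟨p₂, hp₂⟩⟩ : (∃ p, Ideal.Quotient.mk _ p = (π y).1) ∧ (∃ p, Ideal.Quotient.mk _ p = (π y).2) :=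
        ⟨Ideal.Quotient.mk_surjective _, Ideal.Quotient.mk_surjective _⟩
      have e1 := congrArg Prod.fst h2
      have e2 := congrArg Prod.snd h2
      simp only [Prod.fst_add, Prod.snd_add, Prod.smul_fst, Prod.smul_snd, smul_zero, add_zero, zero_add, ← hp₁, ← hp₂,
        hsm, hsm1] at e1 e2
      have f1 := hmk m hm _ (by rw [map_sub, e1, sub_self] : Ideal.Quotient.mk (Ideal.span {(PowerSeries.X : PowerSeries k) ^ m}) (PowerSeries.C (a 1) - PowerSeries.X * p₁) = 0)
      have f2 := hmk n (hm.trans hmn) _ (by rw [map_sub, e2, sub_self] : Ideal.Quotient.mk (Ideal.span {(PowerSeries.X : PowerSeries k) ^ n}) (PowerSeries.C (a 2) - PowerSeries.X * p₂) = 0)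
      simp [cc] at f1 f2
      have f0 : a 0 = 0 := by simpa [f1, f2, res] using congrFun ha 0
      intro i
      fin_cases i <;> assumption
    · have hm0 : m = 0 := by omega
      have h11 : (1 : PowerSeries k ⧸ Ideal.span {(PowerSeries.X : PowerSeries k) ^ m}) = 0 := by
        rw [← map_one (Ideal.Quotient.mk _), hdvd, hm0, pow_zero]
      -- a vector independent from `1`
      obtain ⟨v, hv, hv2⟩ : ∃ v, π v = (0, 1) ∧ LinearIndependent k ![(1 : Fin 3 → k), res v] := by
        by_cases hn : 1 ≤ n
        · refine ⟨v₀, hv₀, (LinearIndependent.pair_iff' one_ne_zero).mpr fun a ha => ?_⟩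
          obtain ⟨y, hy⟩ := hresker (v₀ - PowerSeries.C a • 1) (by
            funext i
            have := congrFun ha i
            simp [res, cc] at this ⊢
            rw [← this, sub_self])
          have h2 := congrArg (fun z => (π z).2) hy
          simp only [map_sub, map_smul, hπ1, smul_zero, sub_zero, hv₀] at h2
          obtain ⟨p₂, hp₂⟩ := Ideal.Quotient.mk_surjective ((π y).2)
          rw [Prod.smul_snd, ← hp₂, hsm] at h2
          have := hmk n hn _ (by rw [map_sub, map_one, h2, sub_self] : Ideal.Quotient.mk (Ideal.span {(PowerSeries.X : PowerSeries k) ^ n}) (1 - PowerSeries.X * p₂) = 0)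
          simp [cc] at this
        · refine ⟨Pi.single 0 1, Prod.ext ?_ ?_, (LinearIndependent.pair_iff' one_ne_zero).mpr fun a ha => ?_⟩
          · obtain ⟨p, hp⟩ := Ideal.Quotient.mk_surjective ((π (Pi.single 0 1)).1)
            rw [← hp, hdvd, hm0, pow_zero]; exact one_dvd _
          · obtain ⟨p, hp⟩ := Ideal.Quotient.mk_surjective ((π (Pi.single 0 1)).2)
            rw [← hp, ← map_one (Ideal.Quotient.mk _), Ideal.Quotient.eq, Ideal.mem_span_singleton, show n = 0 by omega, pow_zero]
            exact one_dvd _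
          · have e0 := congrFun ha 0
            have e1 := congrFun ha 1
            simp [res, cc] at e0 e1
            rw [e1] at e0
            exact zero_ne_one e0
      obtain ⟨i, hi⟩ : ∃ i : Fin 3, (Pi.single i 1 : Fin 3 → k) ∉ Submodule.span k (Set.range ![(1 : Fin 3 → k), res v]) := by
        by_contra hall
        push Not at hall
        have htop : Submodule.span k (Set.range ![(1 : Fin 3 → k), res v]) = ⊤ := by
          rw [eq_top_iff]
          intro x _
          rw [pi_eq_sum_univ' x]
          exact Submodule.sum_mem _ fun i _ => Submodule.smul_mem _ _ (hall i)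
        have := finrank_span_eq_card hv2
        rw [htop, finrank_top, Module.finrank_fin_fun, Fintype.card_fin] at this
        omega
      obtain ⟨c, hc⟩ := Ideal.Quotient.mk_surjective ((π (Pi.single i 1)).2)
      refine ⟨Pi.single i 1 - c • v, v, ?_, hv, ?_⟩
      · refine Prod.ext ?_ ?_
        · obtain ⟨p, hp⟩ := Ideal.Quotient.mk_surjective ((π (Pi.single i 1 - c • v)).1)
          rw [← hp, h11, hdvd, hm0, pow_zero]; exact one_dvd _
        · simp only [map_sub, map_smul, hv, Prod.snd_sub, Prod.smul_snd, ← hc, hsm1, sub_self]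
      · have hr : res (Pi.single i 1 - c • v) = Pi.single i 1 - cc c • res v := by
          funext j
          rcases eq_or_ne j i with rfl | hji <;> simp [res, cc, *]
        refine Fintype.linearIndependent_iff.mpr fun a ha => ?_
        rw [Fin.sum_univ_three] at ha
        simp only [Matrix.cons_val_zero, Matrix.cons_val_one, Matrix.cons_val_two, Matrix.head_cons, Matrix.tail_cons, hr] at ha
        have a1 : a 1 = 0 := by
          by_contra h
          refine hi ?_
          have : (Pi.single i 1 : Fin 3 → k) = (-(a 1)⁻¹ * a 0) • (1 : Fin 3 → k) + (cc c - (a 1)⁻¹ * a 2) • res v := by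
            funext j
            have := congrFun ha j
            simp at this ⊢
            field_simp
            linear_combination this
          rw [this]
          exact add_mem (Submodule.smul_mem _ _ (Submodule.subset_span ⟨0, rfl⟩)) (Submodule.smul_mem _ _ (Submodule.subset_span ⟨1, rfl⟩))
        have := Fintype.linearIndependent_iff.mp hv2 ![a 0, a 2] (by simpa [a1, Fin.sum_univ_two] using ha)
        intro j
        fin_cases j
        · simpa using this 0
        · exact a1
        · simpa using this 1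
  let M : Matrix (Fin 3) (Fin 3) (PowerSeries k) := Matrix.of ![1, u, v]
  have hM : IsUnit M.det := by
    rw [PowerSeries.isUnit_iff_constantCoeff, RingHom.map_det, isUnit_iff_ne_zero]
    have hrow : LinearIndependent k (PowerSeries.constantCoeff.mapMatrix M).row := by
      convert hind using 1
      funext i j
      fin_cases i <;> simp [M, res, cc, Matrix.row]
    exact ((Matrix.linearIndependent_rows_iff_isUnit.mp hrow).map Matrix.detMonoidHom).ne_zero
  refine ⟨htn, u, ?_, le_antisymm ?_ ?_⟩
  · intro hmem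
    obtain ⟨y, hy, z, hz, hyz⟩ := Submodule.mem_sup.mp hmem
    obtain ⟨a, rfl⟩ := Submodule.mem_span_singleton.mp hy
    have hres : res z = 0 := by
      refine Submodule.smul_induction_on hz (fun b hb x _ => ?_) fun p q hp hq => by rw [res_add, hp, hq, add_zero]
      rw [res_smul, show cc b = 0 from PowerSeries.X_dvd_iff.mp (Ideal.mem_span_singleton.mp hb), zero_smul]
    have h0 := Fintype.linearIndependent_iff.mp hind ![cc a, -1, 0] (by
      simp only [Fin.sum_univ_three, ← hyz, res_add, res_smul, hres, add_zero]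
      funext j
      simp [res, cc]) 1
    simp at h0
  · intro x hx
    have hco := Matrix.vecMul_vecMul x M⁻¹ M
    rw [Matrix.nonsing_inv_mul _ hM, Matrix.vecMul_one] at hco
    set w := Matrix.vecMul x M⁻¹ with hw
    have hx' : x = w 0 • (1 : Fin 3 → PowerSeries k) + w 1 • u + w 2 • v := by
      conv_lhs => rw [← hco]
      funext j
      simp [Matrix.vecMul, dotProduct, Fin.sum_univ_three, M]
    have hπx := (hπ x).mpr hx
    rw [hx'] at hπx
    simp only [map_add, map_smul, hπ1, smul_zero, zero_add, hu, hv] at hπx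
    have e1 := congrArg Prod.fst hπx
    have e2 := congrArg Prod.snd hπx
    simp only [Prod.fst_add, Prod.snd_add, Prod.smul_fst, Prod.smul_snd, smul_zero, add_zero, zero_add,
      hsm1, Prod.fst_zero, Prod.snd_zero, hdvd] at e1 e2
    obtain ⟨b, hb⟩ := e1
    rw [hx', hb, mul_comm, mul_smul]
    refine Submodule.add_mem_sup (add_mem (Submodule.smul_mem _ _ (Submodule.subset_span (Set.mem_insert _ _))) (Submodule.smul_mem _ _ (Submodule.subset_span (Set.mem_insert_of_mem _ rfl)))) ?_
    exact Submodule.smul_mem_smul (Ideal.mem_span_singleton.mpr e2) Submodule.mem_top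
  · refine sup_le (Submodule.span_le.mpr ?_) htn
    rintro x (rfl | rfl)
    · exact h1
    · refine (hπ _).mp ?_
      rw [map_smul, hu]
      refine Prod.ext ?_ (smul_zero _)
      simp [hsm1, hdvd]

end Groth.Agent.S13878
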