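import Groth.Statements.S13879
import Mathlib.RingTheory.Ideal.Span

set_option autoImplicit false
universe u
open Crimp

namespace Groth.Agent.S13879

/-- Over R = k⟦t⟧ with k an algebraically closed field of characteristic zero, let S' = R × R × R and
let S be the R-submodule R·1 + R·(t ^ m f) + t ^ n S' of S' for some f in S' and natural numbers m,
n. Then S is closed under multiplication (equivalently, is an R-subalgebra of S') if and only if t ^
(2m) f ^ 2 lies in S. (The published statement has m ≤ n and S' / S isomorphic to R / (t ^ m) ⊕ R /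
(t ^ n), under which S has this shape; this row states the criterion for every submodule of this
shape.) -/
theorem result {k : Type u} [Field k] [IsAlgClosed k] [CharZero k] (m n : ℕ) (f : (Fin 3 → PowerSeries k))
    (S : Submodule (PowerSeries k) (Fin 3 → PowerSeries k))
    (hS : S = Submodule.span (PowerSeries k) {(1 : (Fin 3 → PowerSeries k)), ((PowerSeries.X : PowerSeries k) ^ m) • f} ⊔
        Ideal.span {(PowerSeries.X : PowerSeries k) ^ n} • (⊤ : Submodule (PowerSeries k) (Fin 3 → PowerSeries k))) :
    (∀ x ∈ S, ∀ y ∈ S, x * y ∈ S) ↔ ((PowerSeries.X : PowerSeries k) ^ (2 * m)) • (f * f) ∈ S := by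
  subst hS
  constructor
  · intro h
    have hx : ((PowerSeries.X : PowerSeries k) ^ m) • f ∈ Submodule.span (PowerSeries k)
        {(1 : (Fin 3 → PowerSeries k)), ((PowerSeries.X : PowerSeries k) ^ m) • f} ⊔
        Ideal.span {(PowerSeries.X : PowerSeries k) ^ n} • (⊤ : Submodule (PowerSeries k) (Fin 3 → PowerSeries k)) :=
      Submodule.mem_sup_left (Submodule.subset_span (Or.inr rfl))
    have := h _ hx _ hx
    rwa [smul_mul_smul_comm, ← pow_add, ← two_mul] at this
  · intro h x hx y hy
    rw [Submodule.mem_sup] at hx hy
    obtain ⟨a, ha, b, hb, rfl⟩ := hx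
    obtain ⟨c, hc, d, hd, rfl⟩ := hy
    have hT : ∀ b ∈ Ideal.span {(PowerSeries.X : PowerSeries k) ^ n} •
        (⊤ : Submodule (PowerSeries k) (Fin 3 → PowerSeries k)), ∀ z : Fin 3 → PowerSeries k,
        b * z ∈ Ideal.span {(PowerSeries.X : PowerSeries k) ^ n} •
        (⊤ : Submodule (PowerSeries k) (Fin 3 → PowerSeries k)) := fun b hb z => by
      refine Submodule.smul_induction_on hb (fun t ht v _ => ?_) (fun u v hu hv => ?_)
      · rw [smul_mul_assoc]
        exact Submodule.smul_mem_smul ht trivial
      · rw [add_mul]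
        exact add_mem hu hv
    rw [add_mul, mul_add]
    refine add_mem (add_mem ?_ (Submodule.mem_sup_right ?_)) (Submodule.mem_sup_right (hT b hb _))
    · obtain ⟨p, q, rfl⟩ := Submodule.mem_span_pair.mp ha
      obtain ⟨p', q', rfl⟩ := Submodule.mem_span_pair.mp hc
      simp only [add_mul, mul_add, smul_mul_smul_comm, mul_one, one_mul, ← pow_add, ← two_mul]
      refine add_mem (add_mem ?_ ?_) (add_mem ?_ (Submodule.smul_mem _ _ h))
      · exact Submodule.smul_mem _ _ (Submodule.mem_sup_left (Submodule.subset_span (Or.inl rfl)))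
      · exact Submodule.smul_mem _ _ (Submodule.mem_sup_left (Submodule.subset_span (Or.inr rfl)))
      · exact Submodule.smul_mem _ _ (Submodule.mem_sup_left (Submodule.subset_span (Or.inr rfl)))
    · rw [mul_comm]
      exact hT d hd a

end Groth.Agent.S13879
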