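import Groth.Statements.S13883
import Groth.Agent.BlowRegLib.PosD
import Groth.Agent.CIGenLib.SmoothPts
-- import your own Groth.Agent.* helpers here

set_option autoImplicit false
universe u
open AlgebraicGeometry CategoryTheory CategoryTheory.Limits
open SurfBl

namespace Groth.Agent.S13883

/-- Let k be an algebraically closed field of characteristic zero, X a k-scheme smooth of relative
dimension 2 over k, s a closed point of X, β : B → X a blowing up of X in the reduced point s
(universal property), E ⊆ B the exceptional divisor, i.e. the closed subscheme cut out by the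
inverse image ideal I_E of the ideal of s, and V a finite locally free O_B-module; write e : β^*β_*V
→ V for the counit of the pull-back / direct-image adjunction. Then: (1) β_*V is torsion free in the
sense that there is no non-zero map from the skyscraper κ(s) at s to β_*V; (2) if H^0(E, (V ⊗ L)|_E)
= 0 for every O_B-module L with L ⊗ I_E ≅ O_B (such L is O_B(E), and (V ⊗ L)|_E is V|_E ⊗ O_E(-1)),
then β_*V is finite locally free and e is a monomorphism; (3) if V|_E is generated by its global
sections then R^i β_*V = 0 for all i > 0 and e is an epimorphism. -/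
theorem result
    {k : Type u} [Field k] [IsAlgClosed k] [CharZero k]
    (X : Scheme.{u}) [X.Over (Spec (CommRingCat.of k))] [SmoothOfRelativeDimension 2 (X ↘ Spec (CommRingCat.of k))]
    (s : X) (hs : IsClosed ({s} : Set X))
    {B : Scheme.{u}} (β : B ⟶ X) (hβ : BlowUp.IsBlowUp β (Scheme.IdealSheafData.vanishingIdeal ⟨{s}, hs⟩))
    (V : B.Modules) (hV : FlatMod.IsFinLocFree V) [HasInjectiveResolutions B.Modules] :
    Subsingleton ((Scheme.Modules.pushforward (X.fromSpecResidueField s)).obj
        (Coh.structureModule (Spec (X.residueField s))) ⟶ (Scheme.Modules.pushforward β).obj V) ∧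
    ((∀ L : B.Modules, ClSub.IsInverseOf L (ClSub.idealMod (BlowUp.exceptional β (Scheme.IdealSheafData.vanishingIdeal ⟨{s}, hs⟩))) →
        Subsingleton (Coh.HH (BlowUp.exceptional β (Scheme.IdealSheafData.vanishingIdeal ⟨{s}, hs⟩)).subscheme
          ((Scheme.Modules.pullback (BlowUp.exceptional β (Scheme.IdealSheafData.vanishingIdeal ⟨{s}, hs⟩)).subschemeι).obj (CohB1.tensorMod V L)) 0)) →
      FlatMod.IsFinLocFree ((Scheme.Modules.pushforward β).obj V) ∧
        Mono ((Scheme.Modules.pullbackPushforwardAdjunction β).counit.app V)) ∧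
    (Curv2.IsGloballyGenerated ((Scheme.Modules.pullback (BlowUp.exceptional β (Scheme.IdealSheafData.vanishingIdeal ⟨{s}, hs⟩)).subschemeι).obj V) →
      (∀ i : ℕ, 0 < i → IsZero ((Coh.Rpush β i).obj V)) ∧
        Epi ((Scheme.Modules.pullbackPushforwardAdjunction β).counit.app V)) := by
  haveI : Smooth (X ↘ Spec (CommRingCat.of k)) := SmoothOfRelativeDimension.smooth 2 _
  haveI : IsLocallyNoetherian X := LocallyOfFiniteType.isLocallyNoetherian (X ↘ Spec (CommRingCat.of k))
  obtain ⟨hr, hd⟩ := CIGen.closedPt_of_smooth (X ↘ Spec (CommRingCat.of k)) 2 s hs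
  haveI := hr
  obtain ⟨U, hsU, f, hf, hI⟩ := BlowRegLib.exists_point_chart s hs 2 hd
  have hsupp : ∀ x, x ∈ ((Scheme.IdealSheafData.vanishingIdeal (⟨{s}, hs⟩ : TopologicalSpace.Closeds X)).support : Set X) → x = s := fun x hx => by
    rwa [Scheme.IdealSheafData.coe_support_vanishingIdeal] at hx
  have hch : BlowRegLib.PointCharts (Scheme.IdealSheafData.vanishingIdeal (⟨{s}, hs⟩ : TopologicalSpace.Closeds X)) :=
    fun y hy => ⟨U, f, (hsupp y hy).symm ▸ hsU, hf, hI⟩
  refine ⟨BlowRegLib.subsingleton_hom_sky s hs hβ hch hV, fun h0 => ?_, fun hg => BlowRegLib.rpush_and_epi_of_gg hβ hch hV hg⟩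
  have hJ := IntMultLib.isInvertible_idealMod _ hβ.1
  obtain ⟨e⟩ := MiscFlat6.nonempty_dualIso hJ
  have hG := BlowRegLib.push_finLocFree_global hβ hV (MiscFlat6.dual_isInvertible hJ)
    (HilbPolyLib.swapIso _ _ ≪≫ e) hf hI (fun x hx => hsupp x hx ▸ hsU)
    (fun y hy => by rw [hsupp y hy]; exact ⟨hr, hd⟩) (h0 _ ⟨HilbPolyLib.swapIso _ _ ≪≫ e⟩)
  exact ⟨hG, BlowRegLib.mono_counit hβ hch hV hG⟩

end Groth.Agent.S13883
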