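import Groth.Statements.S1389
import Mathlib
import Mathlib.AlgebraicGeometry.Morphisms.FormallyUnramified
-- import your own Groth.Agent.* helpers here

set_option autoImplicit false
universe u
open FlatMor

namespace Groth.Agent.S1389

open AlgebraicGeometry CategoryTheory Limits

lemma residueFieldCongr_fromSpec {X : Scheme.{u}} {x y : X} (h : x = y) :
    Spec.map (X.residueFieldCongr h).inv ≫ X.fromSpecResidueField y = X.fromSpecResidueField x := by
  subst h; simp

/-- Let (U, u) and (U', u') be étale neighbourhoods of a point s of S and h₁, h₂ two S-morphisms U → U'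
sending u to u' which induce the same map of residue fields κ(u') → κ(u). Then there is an étale
neighbourhood (U'', u'') of s with an S-morphism h : U'' → U sending u'' to u and with h followed by
h₁ equal to h followed by h₂. -/
theorem result {S U U' : Scheme.{u}} (s : S) (g : U ⟶ S) (g' : U' ⟶ S) [Etale g] [Etale g'] (u : U) (u' : U')
    (hu : g u = s) (hu' : g' u' = s) (h₁ h₂ : U ⟶ U') (w₁ : h₁ ≫ g' = g) (w₂ : h₂ ≫ g' = g) (e₁ : h₁ u = u') (e₂ : h₂ u = u')
    (hres : (U'.residueFieldCongr e₁).inv ≫ h₁.residueFieldMap u = (U'.residueFieldCongr e₂).inv ≫ h₂.residueFieldMap u) :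
    ∃ (U'' : Scheme.{u}) (g'' : U'' ⟶ S) (u'' : U'') (h : U'' ⟶ U), Etale g'' ∧ g'' u'' = s ∧ h ≫ g = g'' ∧ h u'' = u ∧ h ≫ h₁ = h ≫ h₂ := by
  obtain rfl := hu
  let m : U ⟶ pullback g' g' := pullback.lift h₁ h₂ (w₁.trans w₂.symm)
  have cond : U.fromSpecResidueField u ≫ h₁ = U.fromSpecResidueField u ≫ h₂ := by
    obtain rfl := e₁
    rw [← Scheme.Hom.SpecMap_residueFieldMap_fromSpecResidueField,
      ← Scheme.Hom.SpecMap_residueFieldMap_fromSpecResidueField]
    have hres' : h₁.residueFieldMap u = (U'.residueFieldCongr e₂).inv ≫ h₂.residueFieldMap u := by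
      simpa using hres
    rw [hres', Spec.map_comp, Category.assoc]
    congr 1
    exact residueFieldCongr_fromSpec e₂
  have hp : (U.fromSpecResidueField u) ≫ m =
      (U.fromSpecResidueField u ≫ h₁) ≫ pullback.diagonal g' := by
    apply pullback.hom_ext <;>
      simp only [m, Category.assoc, pullback.lift_fst, pullback.lift_snd, pullback.diagonal_fst,
        pullback.diagonal_snd, Category.comp_id, cond]
  let z := pullback.lift (f := m) (g := pullback.diagonal g') _ _ hp
  refine ⟨pullback m (pullback.diagonal g'), pullback.fst _ _ ≫ g,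
    z (IsLocalRing.closedPoint _), pullback.fst _ _, inferInstance, ?_, rfl, ?_, ?_⟩
  · rw [Scheme.Hom.comp_apply, ← Scheme.Hom.comp_apply z, pullback.lift_fst,
      Scheme.fromSpecResidueField_apply]
  · rw [← Scheme.Hom.comp_apply z, pullback.lift_fst, Scheme.fromSpecResidueField_apply]
  · have h := pullback.condition (f := m) (g := pullback.diagonal g')
    have a := congr($h ≫ pullback.fst g' g')
    have b := congr($h ≫ pullback.snd g' g')
    simp only [m, Category.assoc, pullback.lift_fst, pullback.lift_snd, pullback.diagonal_fst,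
      pullback.diagonal_snd, Category.comp_id] at a b
    exact a.trans b.symm

end Groth.Agent.S1389
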