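import Groth.Statements.S13903
import Mathlib
import Mathlib
-- import your own Groth.Agent.* helpers here

set_option autoImplicit false
universe u
open EtAlg

namespace Groth.Agent.S13903

/-- Let K be a field and L a finite-dimensional reduced commutative K-algebra of dimension d all of
whose elements are separable over K, generated as a K-algebra by z and t. In any finite set of at
least d^(4d) elements of K there is an element c such that c • z + t generates L as a K-algebra.
(The published statement does not require separability; for K of characteristic p and L obtained by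
adjoining p-th roots of two independent indeterminates, L is a reduced finite K-algebra generated by
two elements with no single generator, so separability over K is assumed here, as the counting in
the published proof requires.) -/
theorem result (K L : Type u) [Field K] [CommRing L]
    [Algebra K L] [Module.Finite K L] [IsReduced L] [Algebra.IsSeparable K L] (z t : L)
    (hgen : Algebra.adjoin K ({z, t} : Set L) = ⊤) (S : Finset K)
    (hS : Module.finrank K L ^ (4 * Module.finrank K L) ≤ S.card) :
    ∃ c ∈ S, Algebra.adjoin K ({c • z + t} : Set L) = ⊤ := by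
  classical
  haveI : IsArtinianRing L := IsArtinianRing.of_finite K L
  let Kb := AlgebraicClosure K
  haveI : ∀ m : MaximalSpectrum L, m.asIdeal.IsMaximal := fun m => m.isMaximal
  haveI : Fintype (MaximalSpectrum L) := Fintype.ofFinite _
  haveI : Fintype (L →ₐ[K] Kb) := minpoly.AlgHom.fintype K L Kb
  have hge : Module.finrank K L ≤ Fintype.card (L →ₐ[K] Kb) := by
    letI : ∀ m : MaximalSpectrum L, Field (L ⧸ m.asIdeal) := fun m => Ideal.Quotient.field m.asIdeal
    haveI : ∀ m : MaximalSpectrum L, Algebra.IsSeparable K (L ⧸ m.asIdeal) := fun m => ⟨fun x => by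
      obtain ⟨y, rfl⟩ := Ideal.Quotient.mk_surjective x
      refine Polynomial.Separable.of_dvd (Algebra.IsSeparable.isSeparable K y) (minpoly.dvd K _ ?_)
      show Polynomial.aeval (Ideal.Quotient.mkₐ K m.asIdeal y) _ = 0
      rw [Polynomial.aeval_algHom_apply, minpoly.aeval, map_zero]⟩
    have hbij : Function.Bijective (Pi.algHom K _ (fun m : MaximalSpectrum L => Ideal.Quotient.mkₐ K m.asIdeal)) :=
      (IsArtinianRing.equivPi L).bijective
    have he : Module.finrank K L = ∑ m : MaximalSpectrum L, Module.finrank K (L ⧸ m.asIdeal) := by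
      rw [(AlgEquiv.ofBijective _ hbij).toLinearEquiv.finrank_eq, Module.finrank_pi_fintype]
    rw [he]
    simp_rw [← AlgHom.card K (L ⧸ _) Kb]
    rw [← Fintype.card_sigma]
    refine Fintype.card_le_of_injective (fun x => x.2.comp (Ideal.Quotient.mkₐ K x.1.asIdeal)) ?_
    rintro ⟨m, φ⟩ ⟨m', φ'⟩ h
    have hker : ∀ (m : MaximalSpectrum L) (φ : (L ⧸ m.asIdeal) →ₐ[K] Kb),
        RingHom.ker (φ.comp (Ideal.Quotient.mkₐ K m.asIdeal)).toRingHom = m.asIdeal := fun m φ => by
      ext x
      show φ (Ideal.Quotient.mk m.asIdeal x) = 0 ↔ _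
      rw [map_eq_zero_iff φ φ.toRingHom.injective, Ideal.Quotient.eq_zero_iff_mem]
    have hmm : m = m' := MaximalSpectrum.ext ((hker m φ).symm.trans ((congrArg (fun f : L →ₐ[K] Kb => RingHom.ker f.toRingHom) h).trans (hker m' φ')))
    subst hmm
    exact Sigma.ext rfl (heq_of_eq (Ideal.Quotient.algHom_ext _ h))
  have hle : Fintype.card (L →ₐ[K] Kb) ≤ Module.finrank K L := by
    rw [← Nat.card_eq_fintype_card]; exact card_algHom_le_finrank K L Kb
  let bad : Finset K := (Finset.univ.offDiag : Finset ((L →ₐ[K] Kb) × (L →ₐ[K] Kb))).biUnion fun q =>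
    S.filter fun c => c • q.1 z + q.1 t = c • q.2 z + q.2 t
  have hbad : bad.card < S.card := by
    refine lt_of_le_of_lt (Finset.card_biUnion_le_card_mul _ _ 1 fun q hq => ?_) ?_
    · refine Finset.card_le_one.2 fun c hc c' hc' => ?_
      rw [Finset.mem_filter] at hc hc'
      by_contra hne
      rw [Finset.mem_offDiag] at hq
      apply hq.2.2
      have h1 : (c - c') • (q.1 z - q.2 z) = 0 := by
        linear_combination (norm := module) hc.2 - hc'.2
      have hz : q.1 z = q.2 z := sub_eq_zero.1 ((smul_eq_zero.1 h1).resolve_left (sub_ne_zero.2 hne))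
      have ht : q.1 t = q.2 t := by have := hc.2; rw [hz] at this; exact add_left_cancel this
      exact AlgHom.ext_of_adjoin_eq_top hgen (by rintro x (rfl | rfl) <;> assumption)
    · rw [mul_one, Finset.offDiag_card, Finset.card_univ]
      refine lt_of_lt_of_le ?_ hS
      rcases Nat.eq_zero_or_pos (Module.finrank K L) with h0 | h0
      · simp [h0, Nat.le_zero.1 (h0 ▸ hle)]
      · have h1 : Fintype.card (L →ₐ[K] Kb) * Fintype.card (L →ₐ[K] Kb) ≤ Module.finrank K L * Module.finrank K L :=
          Nat.mul_le_mul hle hle
        have h2 : Module.finrank K L * Module.finrank K L ≤ Module.finrank K L ^ (4 * Module.finrank K L) := by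
          rw [← sq]; exact Nat.pow_le_pow_right h0 (by omega)
        have h3 : 0 < Fintype.card (L →ₐ[K] Kb) := lt_of_lt_of_le h0 hge
        have h4 : 0 < Module.finrank K L * Module.finrank K L := Nat.mul_pos h0 h0
        omega
  obtain ⟨c, hcS, hc⟩ := Finset.exists_mem_notMem_of_card_lt_card hbad
  refine ⟨c, hcS, ?_⟩
  set T := Algebra.adjoin K ({c • z + t} : Set L) with hT
  have hy : c • z + t ∈ T := Algebra.subset_adjoin rfl
  have hinj : Function.Injective (fun φ : L →ₐ[K] Kb => φ.comp T.val) := by
    intro φ ψ h
    by_contra hne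
    apply hc
    rw [Finset.mem_biUnion]
    refine ⟨(φ, ψ), Finset.mem_offDiag.2 ⟨Finset.mem_univ _, Finset.mem_univ _, hne⟩, Finset.mem_filter.2 ⟨hcS, ?_⟩⟩
    have := AlgHom.congr_fun h ⟨_, hy⟩
    simpa [map_add, map_smul] using this
  have h5 : Module.finrank K L ≤ Module.finrank K T := by
    refine hge.trans ?_
    rw [← Nat.card_eq_fintype_card]
    haveI : Fintype (T →ₐ[K] Kb) := minpoly.AlgHom.fintype K T Kb
    exact (Nat.card_le_card_of_injective _ hinj).trans (card_algHom_le_finrank K T Kb)
  rw [← Algebra.toSubmodule_eq_top]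
  exact Submodule.eq_top_of_finrank_eq (le_antisymm (Submodule.finrank_le _) h5)

end Groth.Agent.S13903
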