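import Groth.Statements.S13904
import Mathlib.RingTheory.KrullDimension.Field
import Mathlib.RingTheory.KrullDimension.Polynomial
import Groth.Agent.CommAlgDim.Integral


-- import your own Groth.Agent.* helpers here

set_option autoImplicit false
universe u
open CAlg

namespace Groth.Agent.S13904

/-- Let k be a field, A a commutative k-algebra and φ : k[x_1, …, x_r] → A a finite k-algebra map such
that A/p has Krull dimension r for every minimal prime p of A (an equidimensional affine scheme of
dimension r, finite over affine r-space). Then for every minimal prime p of A and every prime q of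
k[x_1, …, x_r] there is a prime P ⊇ p of A with φ⁻¹(P) = q: the finite map restricted to each
irreducible component of Spec A is surjective onto affine r-space. (The published statement is over
an algebraically closed field with φ a Noether normalisation; this row allows any field and any
finite k-algebra map φ.) -/
theorem result (k : Type u) [Field k] (r : ℕ)
    (A : Type u) [CommRing A] [Algebra k A] (φ : MvPolynomial (Fin r) k →ₐ[k] A)
    (hφ : φ.toRingHom.Finite)
    (hdim : ∀ p ∈ minimalPrimes A, ringKrullDim (A ⧸ p) = r)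
    (p : Ideal A) (hp : p ∈ minimalPrimes A)
    (q : Ideal (MvPolynomial (Fin r) k)) [q.IsPrime] :
    ∃ P : Ideal A, P.IsPrime ∧ p ≤ P ∧ P.comap φ.toRingHom = q := by
  haveI := hp.1.1
  let ψ : MvPolynomial (Fin r) k →+* A ⧸ p := (Ideal.Quotient.mk p).comp φ.toRingHom
  have hψfin : ψ.Finite := (RingHom.Finite.of_surjective _ Ideal.Quotient.mk_surjective).comp hφ
  algebraize [ψ]
  have hinj : Function.Injective (algebraMap (MvPolynomial (Fin r) k) (A ⧸ p)) := by
    rw [injective_iff_map_eq_zero]
    intro g hg
    by_contra hg0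
    let J := RingHom.ker ψ
    haveI : J.IsPrime := RingHom.ker_isPrime ψ
    letI : Algebra (MvPolynomial (Fin r) k ⧸ J) (A ⧸ p) := (RingHom.kerLift ψ).toAlgebra
    have hfin : (RingHom.kerLift ψ).Finite :=
      RingHom.Finite.of_comp_finite (f := Ideal.Quotient.mk J) (g := RingHom.kerLift ψ) hψfin
    haveI : Module.Finite (MvPolynomial (Fin r) k ⧸ J) (A ⧸ p) := hfin
    have h1 := CommAlgDim.ringKrullDim_eq_of_integral (MvPolynomial (Fin r) k ⧸ J) (A ⧸ p) (RingHom.kerLift_injective ψ)
    have h2 : ringKrullDim (MvPolynomial (Fin r) k ⧸ J) + 1 ≤ ringKrullDim (MvPolynomial (Fin r) k) :=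
      ringKrullDim_succ_le_of_surjective (Ideal.Quotient.mk J) Ideal.Quotient.mk_surjective
        (mem_nonZeroDivisors_of_ne_zero hg0) (Ideal.Quotient.eq_zero_iff_mem.2 hg)
    rw [MvPolynomial.ringKrullDim_of_isNoetherianRing, ringKrullDim_eq_zero_of_field, zero_add, Nat.card_fin, ← h1, hdim p hp] at h2
    have h3 : r + 1 ≤ r := by exact_mod_cast h2
    omega
  obtain ⟨P', -, hP', hP'q⟩ := Ideal.exists_ideal_over_prime_of_isIntegral q (⊥ : Ideal (A ⧸ p))
    (by rw [← RingHom.ker_eq_comap_bot, (RingHom.injective_iff_ker_eq_bot _).1 hinj]; exact bot_le)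
  refine ⟨P'.comap (Ideal.Quotient.mk p), inferInstance, ?_, ?_⟩
  · intro x hx
    rw [Ideal.mem_comap, Ideal.Quotient.eq_zero_iff_mem.2 hx]; exact zero_mem _
  · rw [Ideal.comap_comap]; exact hP'q

end Groth.Agent.S13904
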