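import Groth.Statements.S13905
import Mathlib


-- import your own Groth.Agent.* helpers here

set_option autoImplicit false
universe u
open ProjGeom

namespace Groth.Agent.S13905

open W4c1etcurveeff3b in
/-- Hyperplanes of projective n-space in general position, in linear-algebra form (V of dimension n + 1
over a field k, hyperplanes as n-dimensional subspaces, points as nonzero vectors): if S is a finite
set of hyperplanes in general position with at least n members and H is a hyperplane containing none
of the lines cut out by n members of S, then S with H added is again in general position. (The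
published statement is for hyperplanes of P^n_k and closed points; a closed point lying on n + 1
members is automatically one of the rational points cut out by n of them, so the condition on
nonzero vectors of V is the same condition.) -/
theorem result (k V : Type u) [Field k]
    [AddCommGroup V] [Module k V] [DecidableEq (Submodule k V)] (n : ℕ) (S : Finset (Submodule k V))
    (hS : InGeneralPosition k V n S) (hn : n ≤ S.card) (H : Submodule k V)
    (hH : Module.finrank k H = n)
    (havoid : ∀ T ⊆ S, T.card = n → ¬ (T.inf id ≤ H)) :
    InGeneralPosition k V n (insert H S) := by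
  classical
  obtain ⟨hV, hdim, hinf, hpt⟩ := hS
  haveI : FiniteDimensional k V := Module.finite_of_finrank_pos (by omega)
  refine ⟨hV, fun W hW => (Finset.mem_insert.1 hW).elim (fun h => h ▸ hH) (hdim W), fun T hT hc => ?_, fun v hv T hT hvT => ?_⟩
  · by_cases hHT : H ∈ T
    · have hsub : T.erase H ⊆ S := by rwa [← Finset.subset_insert_iff]
      have hc' : (T.erase H).card + 1 = T.card := Finset.card_erase_add_one hHT
      rw [← Finset.insert_erase hHT, Finset.inf_insert, Finset.insert_erase hHT]
      have hW := hinf _ hsub (by omega)
      have hnle : ¬ (T.erase H).inf id ≤ H := by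
        intro hle
        obtain ⟨T'', h1, h2, h3⟩ := Finset.exists_subsuperset_card_eq hsub (by omega : (T.erase H).card ≤ n) hn
        exact havoid T'' h2 h3 ((Finset.inf_mono h1).trans hle)
      have hlt : Module.finrank k H < Module.finrank k ↥(H ⊔ (T.erase H).inf id) :=
        Submodule.finrank_lt_finrank_of_lt (left_lt_sup.2 hnle)
      have hle := Submodule.finrank_le (H ⊔ (T.erase H).inf id)
      have hsum := Submodule.finrank_sup_add_finrank_inf_eq H ((T.erase H).inf id)
      change Module.finrank k ↥(H ⊓ (T.erase H).inf id) = _
      omega
    · exact hinf T (fun x hx => (Finset.mem_insert.1 (hT hx)).resolve_left fun h => hHT (h ▸ hx)) hc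
  · by_cases hHT : H ∈ T
    · have hsub : T.erase H ⊆ S := by rwa [← Finset.subset_insert_iff]
      by_contra hcard
      obtain ⟨T'', h1, h2⟩ := Finset.exists_subset_card_eq (show n ≤ (T.erase H).card by rw [Finset.card_erase_of_mem hHT]; omega)
      have hW := hinf T'' (h1.trans hsub) h2.le
      rw [h2, Nat.add_sub_cancel_left] at hW
      have hle : Submodule.span k {v} ≤ T''.inf id := (Submodule.span_singleton_le_iff_mem _ _).2 (Submodule.mem_finsetInf.2 fun W hW => hvT W (Finset.mem_of_mem_erase (h1 hW)))
      have heq := Submodule.eq_of_le_of_finrank_eq hle (by rw [hW, finrank_span_singleton hv])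
      exact havoid T'' (h1.trans hsub) h2 (heq ▸ (Submodule.span_singleton_le_iff_mem _ _).2 (hvT H hHT))
    · exact hpt v hv T (fun x hx => (Finset.mem_insert.1 (hT hx)).resolve_left fun h => hHT (h ▸ hx)) hvT

end Groth.Agent.S13905
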