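import Groth.Statements.S13907
import Groth.Agent.ProjSectLib.Basic


-- import your own Groth.Agent.* helpers here

set_option autoImplicit false
universe u
open ProjGeom

namespace Groth.Agent.S13907

/-- Over an algebraically closed field k, let C be a nonempty irreducible closed subset of the
underlying space of projective n-space with homogeneous coordinates x_0, …, x_n, and for i ≤ n let
L_i be the linear subspace where x_1, …, x_i vanish. Then there is an index i ≤ n with C ∩ L_i
nonempty and of topological Krull dimension zero. -/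
theorem result (k : Type u) [Field k]
    [IsAlgClosed k] (n : ℕ) (C : Set (ProjectiveSpectrum (CohB1.polyGrading n k)))
    (hC : IsClosed C) (hirr : IsIrreducible C) :
    ∃ i : ℕ, i ≤ n ∧
      (C ∩ ProjectiveSpectrum.zeroLocus (CohB1.polyGrading n k)
          ((fun j : Fin (n + 1) => (MvPolynomial.X j : MvPolynomial (Fin (n + 1)) k)) ''
            {j : Fin (n + 1) | 1 ≤ j.val ∧ j.val ≤ i})).Nonempty ∧
      topologicalKrullDim ↥(C ∩ ProjectiveSpectrum.zeroLocus (CohB1.polyGrading n k)
          ((fun j : Fin (n + 1) => (MvPolynomial.X j : MvPolynomial (Fin (n + 1)) k)) ''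
            {j : Fin (n + 1) | 1 ≤ j.val ∧ j.val ≤ i})) = 0 := by
  classical
  obtain ⟨x, hx⟩ := QuasiSober.sober hirr hC
  let L : ℕ → Set (MvPolynomial (Fin (n + 1)) k) := fun i =>
    (fun j : Fin (n + 1) => (MvPolynomial.X j : MvPolynomial (Fin (n + 1)) k)) '' {j : Fin (n + 1) | 1 ≤ j.val ∧ j.val ≤ i}
  let D : ℕ → Set (ProjectiveSpectrum (CohB1.polyGrading n k)) := fun i =>
    C ∩ ProjectiveSpectrum.zeroLocus (CohB1.polyGrading n k) (L i)
  let P : ℕ → Prop := fun i => (D i).Nonempty
  have h0 : P 0 := by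
    refine ⟨x, hx ▸ subset_closure rfl, ?_⟩
    rintro a ⟨j, ⟨hj1, hj2⟩, rfl⟩
    omega
  set i := Nat.findGreatest P n
  have hi : i ≤ n := Nat.findGreatest_le n
  have hne : P i := Nat.findGreatest_spec (Nat.zero_le n) h0
  have hcl : IsClosed (D i) := hC.inter (ProjectiveSpectrum.isClosed_zeroLocus _ _)
  refine ⟨i, hi, hne, ?_⟩
  have hzero : ∀ y ∈ D i, ProjDimLib.dPt y ≤ 0 := by
    intro y hy
    by_contra hpos
    have hlt : i < n := by
      by_contra hn
      have hin : i = n := by omega
      -- every point of the last linear space is the coordinate point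
      obtain ⟨t, ht⟩ : ∃ t, ProjDimLib.dPt y = t + 1 := ⟨ProjDimLib.dPt y - 1, by omega⟩
      obtain ⟨z, hyz, hfz, -⟩ := ProjSectLib.exists_mem y 1 (fun _ => MvPolynomial.X (0 : Fin (n + 1))) (fun _ => 1)
        (fun _ => MvPolynomial.isHomogeneous_X k 0) (fun _ => one_pos) (by omega)
      refine (ProjDimLib.hilb_ne_zero_iff (HomogeneousIdeal.isHomogeneous _)).1 (ProjDimLib.hilb_pt_ne_zero z) ?_
      refine Ideal.span_le.2 ?_
      rintro _ ⟨j, rfl⟩
      rcases Nat.eq_zero_or_pos j.val with h | h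
      · rw [show j = 0 from Fin.ext h]
        exact hfz 0
      · exact hyz (hy.2 ⟨j, ⟨h, by omega⟩, rfl⟩)
    obtain ⟨z, hyz, hfz, -⟩ := ProjSectLib.exists_mem y 1 (fun _ => MvPolynomial.X (⟨i + 1, by omega⟩ : Fin (n + 1))) (fun _ => 1)
      (fun _ => MvPolynomial.isHomogeneous_X k _) (fun _ => one_pos) (by omega)
    have hP : P (i + 1) := by
      refine ⟨z, ProjDimLib.mem_of_le hC hy.1 hyz, ?_⟩
      rintro a ⟨j, ⟨hj1, hj2⟩, rfl⟩
      rcases Nat.lt_or_ge j.val (i + 1) with h | h
      · exact hyz (hy.2 ⟨j, ⟨hj1, by omega⟩, rfl⟩)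
      · rw [show j = ⟨i + 1, by omega⟩ from Fin.ext (show j.val = i + 1 by omega)]
        exact hfz 0
    exact absurd hP (Nat.findGreatest_is_greatest (Nat.lt_succ_self i) hlt)
  obtain ⟨y, hy⟩ := hne
  refine le_antisymm (by simpa using ProjDimLib.dim_le hcl hzero) ?_
  have := ProjDimLib.dPt_le_dim hcl hy
  rwa [Nat.le_zero.1 (hzero y hy)] at this

end Groth.Agent.S13907
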