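import Groth.Statements.S13911
import Mathlib

set_option autoImplicit false
universe u
open PlaneConic

namespace Groth.Agent.S13911

open MvPolynomial Matrix

variable {k : Type u} [Field k] [CharZero k] {Q : Matrix (Fin 3) (Fin 3) k}

noncomputable def qf (Q : Matrix (Fin 3) (Fin 3) k) : MvPolynomial (Fin 3) k :=
  ∑ i : Fin 3, ∑ j : Fin 3, Q i j • (X i * X j)

noncomputable def lf (a : Fin 3 → k) : MvPolynomial (Fin 3) k := ∑ i : Fin 3, a i • X i

omit [CharZero k] in
lemma pderiv_qf (hQ : Q.IsSymm) (i : Fin 3) : pderiv i (qf Q) = ∑ j : Fin 3, C (2 * Q i j) * X j := by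
  have h01 := hQ.apply 0 1
  have h02 := hQ.apply 0 2
  have h12 := hQ.apply 1 2
  fin_cases i <;>
    simp [qf, Fin.sum_univ_three, smul_eq_C_mul, pderiv_mul, Pi.single_apply, h01, h02, h12, map_ofNat] <;> ring

omit [CharZero k] in
lemma pderiv_lf (a : Fin 3 → k) (i : Fin 3) : pderiv i (lf a) = C (a i) := by
  fin_cases i <;> simp [lf, Fin.sum_univ_three, smul_eq_C_mul, Pi.single_apply]

omit [CharZero k] in
lemma pderiv2_qf (hQ : Q.IsSymm) (i j : Fin 3) : pderiv j (pderiv i (qf Q)) = C (2 * Q i j) := by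
  rw [pderiv_qf hQ]
  fin_cases j <;> simp [Fin.sum_univ_three, pderiv_mul, Pi.single_apply]

omit [CharZero k] in
lemma rel_of_mul (hQ : Q.IsSymm) {g h : MvPolynomial (Fin 3) k} {a b : Fin 3 → k}
    (hg : ∀ i, pderiv i g = C (a i)) (hh : ∀ i, pderiv i h = C (b i)) (e : qf Q = g * h) (i j : Fin 3) :
    2 * Q i j = a i * b j + a j * b i := by
  apply C_injective (Fin 3) k
  rw [← pderiv2_qf hQ, e, pderiv_mul, map_add, pderiv_mul, pderiv_mul, hg, hh, hg, hh, pderiv_C, pderiv_C,
    map_add, map_mul, map_mul]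
  ring

lemma eq_of_rel {a b : Fin 3 → k} (h : ∀ i j, 2 * Q i j = a i * b j + a j * b i) : qf Q = lf a * lf b := by
  apply mul_left_cancel₀ (two_ne_zero' (MvPolynomial (Fin 3) k))
  have h' : ∀ i j, (2 : MvPolynomial (Fin 3) k) * C (Q i j) = C (a i) * C (b j) + C (a j) * C (b i) := by
    intro i j
    rw [← map_mul, ← map_mul, ← map_add, ← h, map_mul, map_ofNat]
  simp only [qf, lf, Fin.sum_univ_three, smul_eq_C_mul]
  linear_combination (X 0 * X 0) * h' 0 0 + (X 0 * X 1) * h' 0 1 + (X 0 * X 2) * h' 0 2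
    + (X 1 * X 0) * h' 1 0 + (X 1 * X 1) * h' 1 1 + (X 1 * X 2) * h' 1 2
    + (X 2 * X 0) * h' 2 0 + (X 2 * X 1) * h' 2 1 + (X 2 * X 2) * h' 2 2

lemma mulVec_of_rel {a b : Fin 3 → k} (h : ∀ i j, 2 * Q i j = a i * b j + a j * b i) (u : Fin 3 → k) :
    (2 : k) • (Q *ᵥ u) = (b ⬝ᵥ u) • a + (a ⬝ᵥ u) • b := by
  ext i
  simp only [Matrix.mulVec, dotProduct, Fin.sum_univ_three, Pi.smul_apply, Pi.add_apply, smul_eq_mul]
  linear_combination u 0 * h i 0 + u 1 * h i 1 + u 2 * h i 2

lemma det_of_rel {a b : Fin 3 → k} (h : ∀ i j, 2 * Q i j = a i * b j + a j * b i) : Q.det = 0 := by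
  have : ¬ Function.Injective (Matrix.of ![a, b]).mulVecLin := fun hi => by
    have := LinearMap.finrank_le_finrank_of_injective hi
    simp at this
  rw [← LinearMap.ker_eq_bot, Submodule.eq_bot_iff] at this
  push_neg at this
  obtain ⟨u, hu, hu0⟩ := this
  rw [← Matrix.exists_mulVec_eq_zero_iff]
  refine ⟨u, hu0, ?_⟩
  have h0 : a ⬝ᵥ u = 0 := congrFun (LinearMap.mem_ker.1 hu) 0
  have h1 : b ⬝ᵥ u = 0 := congrFun (LinearMap.mem_ker.1 hu) 1
  have := mulVec_of_rel h u
  rw [h0, h1, zero_smul, zero_smul, add_zero] at this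
  exact (smul_eq_zero.1 this).resolve_left two_ne_zero

lemma factor_aux [IsAlgClosed k] (hQ : Q.IsSymm) {u : Fin 3 → k} (hu : Q *ᵥ u = 0) (i j l : Fin 3)
    (hl : u l ≠ 0) (hij : i ≠ j) (hil : i ≠ l) (hjl : j ≠ l)
    (huniv : ∀ m, m = i ∨ m = j ∨ m = l) :
    ∃ a b : Fin 3 → k, ∀ p q, 2 * Q p q = a p * b q + a q * b p := by
  obtain ⟨α, β, α', β', hA, hB, hC⟩ : ∃ α β α' β' : k, α * α' = Q i i ∧ α * β' + α' * β = 2 * Q i j ∧ β * β' = Q j j := by
    by_cases hA : Q i i = 0
    · exact ⟨0, 1, 2 * Q i j, Q j j, by simp [hA], by ring, by ring⟩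
    · obtain ⟨s, hs⟩ := IsAlgClosed.exists_eq_mul_self (Q i j ^ 2 - Q i i * Q j j)
      refine ⟨Q i i, Q i j + s, 1, (Q i j - s) / Q i i, mul_one _, ?_, ?_⟩
      · field_simp; ring
      · field_simp; linear_combination hs
  let v : k → k → Fin 3 → k := fun x y m => if m = i then x else if m = j then y else -(x * u i + y * u j) / u l
  have hsum : ∀ p, Q p i * u i + Q p j * u j + Q p l * u l = 0 := by
    intro p
    have := congrFun hu p
    simp only [Matrix.mulVec, dotProduct, Pi.zero_apply] at this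
    have huniv' : (Finset.univ : Finset (Fin 3)) = {i, j, l} := by
      ext m; simpa using huniv m
    rw [huniv', Finset.sum_insert (by simp [hij, hil]), Finset.sum_insert (by simp [hjl]), Finset.sum_singleton] at this
    linear_combination this
  refine ⟨v α β, v α' β', ?_⟩
  have hi := hsum i
  have hj := hsum j
  have hl' := hsum l
  have e1 := hQ.apply i j
  have e2 := hQ.apply i l
  have e3 := hQ.apply j l
  intro p q
  have vi : ∀ x y, v x y i = x := fun x y => if_pos rfl
  have vj : ∀ x y, v x y j = y := fun x y => by simp [v, hij.symm]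
  have vl : ∀ x y, v x y l = -(x * u i + y * u j) / u l := fun x y => by simp [v, hil.symm, hjl.symm]
  rcases huniv p with rfl | rfl | rfl <;> rcases huniv q with rfl | rfl | rfl <;>
    simp only [vi, vj, vl]
  · linear_combination (-2) * hA
  · linear_combination -hB
  · field_simp
    linear_combination 2 * hi + 2 * u p * hA + u j * hB
  · linear_combination 2 * e1 - hB
  · linear_combination (-2) * hC
  · field_simp
    linear_combination 2 * hj + 2 * u p * hC + u i * hB - 2 * u i * e1
  · field_simp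
    linear_combination 2 * hi + 2 * u q * hA + u j * hB + 2 * u p * e2
  · field_simp
    linear_combination 2 * hj + 2 * u q * hC + u i * hB - 2 * u i * e1 + 2 * u p * e3
  · field_simp
    linear_combination 2 * u q * hl' - 2 * u i * hi - 2 * u j * hj - 2 * u i * u q * e2 - 2 * u j * u q * e3 + 2 * u i * u j * e1 - 2 * u i ^ 2 * hA - 2 * u i * u j * hB - 2 * u j ^ 2 * hC

lemma factor [IsAlgClosed k] (hQ : Q.IsSymm) (hd : Q.det = 0) :
    ∃ a b : Fin 3 → k, ∀ p q, 2 * Q p q = a p * b q + a q * b p := by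
  obtain ⟨u, hu0, hu⟩ := Matrix.exists_mulVec_eq_zero_iff.2 hd
  obtain ⟨l, hl⟩ := Function.ne_iff.1 hu0
  fin_cases l
  · exact factor_aux hQ hu 1 2 0 hl (by decide) (by decide) (by decide) (by decide)
  · exact factor_aux hQ hu 0 2 1 hl (by decide) (by decide) (by decide) (by decide)
  · exact factor_aux hQ hu 0 1 2 hl (by decide) (by decide) (by decide) (by decide)

lemma rank_two {a b : Fin 3 → k} (h : ∀ i j, 2 * Q i j = a i * b j + a j * b i)
    (hli : LinearIndependent k ![a, b]) : Q.rank = 2 := by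
  have hr : LinearMap.range Q.mulVecLin = Submodule.span k (Set.range ![a, b]) := by
    refine le_antisymm ?_ ?_
    · rintro _ ⟨u, rfl⟩
      have := mulVec_of_rel h u
      rw [Matrix.mulVecLin_apply, show Q *ᵥ u = (2 : k)⁻¹ • ((b ⬝ᵥ u) • a + (a ⬝ᵥ u) • b) by
        rw [← this, smul_smul, inv_mul_cancel₀ two_ne_zero, one_smul]]
      exact Submodule.smul_mem _ _ (Submodule.add_mem _
        (Submodule.smul_mem _ _ (Submodule.subset_span ⟨0, rfl⟩))
        (Submodule.smul_mem _ _ (Submodule.subset_span ⟨1, rfl⟩)))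
    · have hM : Function.Surjective (Matrix.of ![a, b]).mulVecLin := by
        rw [← LinearMap.range_eq_top]
        refine Submodule.eq_top_of_finrank_eq ?_
        rw [← Matrix.rank, LinearIndependent.rank_matrix (M := Matrix.of ![a, b]) hli]
        simp
      rw [Submodule.span_le]
      rintro _ ⟨m, rfl⟩
      obtain ⟨u, hu⟩ := hM (Pi.single (1 - m) 2)
      have h0 : a ⬝ᵥ u = (Pi.single (1 - m) 2 : Fin 2 → k) 0 := congrFun hu 0
      have h1 : b ⬝ᵥ u = (Pi.single (1 - m) 2 : Fin 2 → k) 1 := congrFun hu 1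
      refine ⟨u, ?_⟩
      have := mulVec_of_rel h u
      rw [h0, h1] at this
      apply smul_right_injective (Fin 3 → k) (two_ne_zero' k)
      simp only [Matrix.mulVecLin_apply]
      rw [this]
      fin_cases m <;> simp
  rw [Matrix.rank, hr, finrank_span_eq_card hli]
  rfl

lemma rank_one {a : Fin 3 → k} (h : ∀ i j, 2 * Q i j = a i * a j + a j * a i) (hQ0 : Q ≠ 0) : Q.rank = 1 := by
  have e : Q = Matrix.vecMulVec a a := by
    ext i j
    rw [Matrix.vecMulVec_apply]
    apply mul_left_cancel₀ (two_ne_zero' k)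
    linear_combination h i j
  refine le_antisymm (e ▸ Matrix.rank_vecMulVec_le a a) (Nat.one_le_iff_ne_zero.2 fun h0 => hQ0 ?_)
  rw [Matrix.rank, Submodule.finrank_eq_zero, LinearMap.range_eq_bot] at h0
  ext i j
  have := congrFun (LinearMap.congr_fun h0 (Pi.single j 1)) i
  simpa using this



/-- For an algebraically closed field k of characteristic zero, a nonzero symmetric 3 × 3 matrix Q over
k and the ternary quadratic form f = Σ Q_ij X_i X_j in k[X_0, X_1, X_2] (the equation of a plane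
conic): (1) f is irreducible iff det Q ≠ 0; (2) the conic has a singular point, that is a nonzero
vector at which all partial derivatives of f vanish, iff det Q = 0 (so smooth conics are exactly the
irreducible ones); (3) f is the product of two linearly independent linear forms (two distinct
lines) iff rank Q = 2; (4) f is the square of a linear form (a double line) iff rank Q = 1. -/
theorem result (k : Type u) [Field k] [IsAlgClosed k] [CharZero k]
    (Q : Matrix (Fin 3) (Fin 3) k) (hQ : Q.IsSymm) (hQ0 : Q ≠ 0) (f : MvPolynomial (Fin 3) k)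
    (hf : f = ∑ i : Fin 3, ∑ j : Fin 3, Q i j • (MvPolynomial.X i * MvPolynomial.X j)) :
    (Irreducible f ↔ Q.det ≠ 0) ∧
    ((∃ u : Fin 3 → k, u ≠ 0 ∧ ∀ i : Fin 3, MvPolynomial.eval u (MvPolynomial.pderiv i f) = 0) ↔ Q.det = 0) ∧
    ((∃ a b : Fin 3 → k, LinearIndependent k ![a, b] ∧
        f = (∑ i : Fin 3, a i • MvPolynomial.X i) * (∑ i : Fin 3, b i • MvPolynomial.X i)) ↔ Q.rank = 2) ∧
    ((∃ a : Fin 3 → k, f = (∑ i : Fin 3, a i • MvPolynomial.X i) ^ 2) ↔ Q.rank = 1) := by
  have hf' : f = qf Q := hf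
  subst hf'
  have hdr : ∀ r, Q.rank = r → r < 3 → Q.det = 0 := by
    intro r hr hr3
    by_contra hd
    have := Matrix.rank_of_isUnit Q ((Matrix.isUnit_iff_isUnit_det Q).2 (isUnit_iff_ne_zero.2 hd))
    simp at this
    omega
  have rel : ∀ a b : Fin 3 → k, qf Q = lf a * lf b → ∀ i j, 2 * Q i j = a i * b j + a j * b i :=
    fun a b e => rel_of_mul hQ (pderiv_lf a) (pderiv_lf b) e
  have class2 : Q.det = 0 → (∃ a b : Fin 3 → k, LinearIndependent k ![a, b] ∧ ∀ i j, 2 * Q i j = a i * b j + a j * b i) ∨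
      ∃ a : Fin 3 → k, ∀ i j, 2 * Q i j = a i * a j + a j * a i := by
    intro hd
    obtain ⟨a, b, h⟩ := factor hQ hd
    by_cases hli : LinearIndependent k ![a, b]
    · exact Or.inl ⟨a, b, hli, h⟩
    · right
      by_cases ha : a = 0
      · exact ⟨0, fun i j => by rw [h, ha]; simp⟩
      · rw [LinearIndependent.pair_iff' ha] at hli
        push_neg at hli
        obtain ⟨c, rfl⟩ := hli
        obtain ⟨s, hs⟩ := IsAlgClosed.exists_eq_mul_self c
        refine ⟨s • a, fun i j => ?_⟩
        rw [h]; simp only [Pi.smul_apply, smul_eq_mul, hs]; ring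
  refine ⟨⟨fun hirr hd => ?_, fun hd => ?_⟩, ?_, ⟨?_, ?_⟩, ?_, ?_⟩
  · obtain ⟨a, b, h⟩ := factor hQ hd
    rcases hirr.isUnit_or_isUnit (eq_of_rel h) with hu | hu <;>
      · have := (MvPolynomial.isUnit_iff_eq_C_of_isReduced).1 hu
        obtain ⟨r, hr, e⟩ := this
        have := congrArg MvPolynomial.constantCoeff e
        simp [lf] at this
        exact hr.ne_zero this.symm
  · have hne : qf Q ≠ 0 := by
      intro h0
      refine hQ0 ?_
      ext i j
      have := pderiv2_qf hQ i j
      rw [h0, map_zero, map_zero] at this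
      simpa using (MvPolynomial.C_eq_zero.1 this.symm)
    have hhom : (qf Q).IsHomogeneous 2 := by
      refine MvPolynomial.IsHomogeneous.sum _ _ _ fun i _ => MvPolynomial.IsHomogeneous.sum _ _ _ fun j _ => ?_
      rw [MvPolynomial.smul_eq_C_mul]
      exact ((MvPolynomial.isHomogeneous_X k i).mul (MvPolynomial.isHomogeneous_X k j)).C_mul _
    have hdeg := hhom.totalDegree hne
    refine ⟨fun hu => ?_, fun g h e => ?_⟩
    · obtain ⟨r, -, e⟩ := (MvPolynomial.isUnit_iff_eq_C_of_isReduced).1 hu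
      rw [e, MvPolynomial.totalDegree_C] at hdeg
      omega
    · have hg0 : g ≠ 0 := fun h0 => hne (by rw [e, h0, zero_mul])
      have hh0 : h ≠ 0 := fun h0 => hne (by rw [e, h0, mul_zero])
      rw [e, MvPolynomial.totalDegree_mul_of_isDomain hg0 hh0] at hdeg
      have key : ∀ g : MvPolynomial (Fin 3) k, g.totalDegree ≤ 1 → ∀ i, MvPolynomial.pderiv i g = MvPolynomial.C (MvPolynomial.coeff 0 (MvPolynomial.pderiv i g)) := by
        intro g hg i
        rw [← MvPolynomial.totalDegree_eq_zero_iff_eq_C]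
        refine Nat.eq_zero_of_le_zero ?_
        refine Finset.sup_le fun m hm => ?_
        by_contra hm'
        rw [MvPolynomial.mem_support_iff] at hm
        rw [MvPolynomial.coeff_pderiv] at hm
        have hc := left_ne_zero_of_mul hm
        have := MvPolynomial.le_totalDegree (MvPolynomial.mem_support_iff.2 hc)
        rw [Finsupp.sum_add_index' (fun _ => rfl) (fun _ _ _ => rfl), Finsupp.sum_single_index rfl] at this
        omega
      have hu : ∀ g : MvPolynomial (Fin 3) k, g ≠ 0 → g.totalDegree = 0 → IsUnit g := by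
        intro g hg0 hg
        rw [MvPolynomial.totalDegree_eq_zero_iff_eq_C] at hg
        rw [hg]
        refine (isUnit_iff_ne_zero.2 fun hc => hg0 ?_).map MvPolynomial.C
        rw [hg, hc, map_zero]
      by_contra hcon
      push_neg at hcon
      have hg1 : g.totalDegree ≠ 0 := fun h1 => hcon.1 (hu g hg0 h1)
      have hh1 : h.totalDegree ≠ 0 := fun h1 => hcon.2 (hu h hh0 h1)
      exact hd (det_of_rel (rel_of_mul hQ (key g (by omega)) (key h (by omega)) e))
  · rw [← Matrix.exists_mulVec_eq_zero_iff]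
    refine exists_congr fun u => and_congr_right fun _ => ?_
    rw [_root_.funext_iff]
    refine forall_congr' fun i => ?_
    rw [pderiv_qf hQ]
    simp [Matrix.mulVec, dotProduct, Fin.sum_univ_three]
    constructor <;> intro h
    · have : (2 : k) * (Q i 0 * u 0 + Q i 1 * u 1 + Q i 2 * u 2) = 0 := by linear_combination h
      exact (mul_eq_zero.1 this).resolve_left two_ne_zero
    · linear_combination 2 * h
  · rintro ⟨a, b, hli, e⟩
    exact rank_two (rel a b e) hli
  · intro hr
    rcases class2 (hdr 2 hr (by omega)) with ⟨a, b, hli, h⟩ | ⟨a, h⟩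
    · exact ⟨a, b, hli, eq_of_rel h⟩
    · have := rank_one h hQ0; omega
  · rintro ⟨a, e⟩
    exact rank_one (rel a a (e.trans (pow_two _))) hQ0
  · intro hr
    rcases class2 (hdr 1 hr (by omega)) with ⟨a, b, hli, h⟩ | ⟨a, h⟩
    · have := rank_two h hli; omega
    · exact ⟨a, (eq_of_rel h).trans (pow_two _).symm⟩

end Groth.Agent.S13911
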