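import Groth.Statements.S13912
import Mathlib

set_option autoImplicit false
set_option backward.isDefEq.respectTransparency false
set_option backward.isDefEq.respectTransparency.types false
set_option maxHeartbeats 1000000
set_option synthInstance.maxHeartbeats 400000
universe u
open PlaneConic

namespace Groth.Agent.S13912

open MvPolynomial in
/-- The linear form with given coefficients. -/
private noncomputable def lf {k : Type u} [Field k] (c : Fin 3 → k) : MvPolynomial (Fin 3) k :=
  ∑ i, C (c i) * X i

/-- The linear functional with given coefficients. -/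
private noncomputable def lev {k : Type u} [Field k] (c : Fin 3 → k) : (Fin 3 → k) →ₗ[k] k :=
  ∑ i, c i • LinearMap.proj i

open MvPolynomial in
private theorem eval_lf {k : Type u} [Field k] (c v : Fin 3 → k) : eval v (lf c) = lev c v := by
  simp [lf, lev, smul_eq_mul]

open MvPolynomial in
private theorem exists_lf {k : Type u} [Field k] {p : MvPolynomial (Fin 3) k} (hp : p.IsHomogeneous 1) :
    ∃ c, p = lf c := by
  refine ⟨fun i => coeff (Finsupp.single i 1) p, ?_⟩
  ext d
  simp only [lf, coeff_sum, coeff_C_mul, coeff_X, mul_ite, mul_one, mul_zero]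
  by_cases hd : ∃ i, Finsupp.single i 1 = d
  · obtain ⟨i, rfl⟩ := hd
    rw [Finset.sum_eq_single i (fun j _ hj => by
        rw [if_neg]; intro h; exact hj ((Finsupp.single_left_inj one_ne_zero).1 h)) (by simp), if_pos rfl]
  · rw [Finset.sum_eq_zero (fun i _ => if_neg fun h => hd ⟨i, h⟩)]
    refine hp.coeff_eq_zero fun h1 => ?_
    obtain ⟨i, hi⟩ := (Finsupp.sum_eq_one_iff _).mp (h1 : d.degree = 1)
    exact hd ⟨i, hi.symm⟩

/-- product of two functionals vanishing on a subspace: one vanishes. -/
private theorem prod_zero {k : Type u} [Field k] {W : Type u} [AddCommGroup W] [Module k W]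
    (f g : W →ₗ[k] k) (h : ∀ v, f v * g v = 0) : f = 0 ∨ g = 0 := by
  by_contra hh
  push Not at hh
  obtain ⟨v, hv⟩ : ∃ v, f v ≠ 0 := by
    by_contra! h'; exact hh.1 (LinearMap.ext h')
  obtain ⟨w, hw⟩ : ∃ w, g w ≠ 0 := by
    by_contra! h'; exact hh.2 (LinearMap.ext h')
  have hgv : g v = 0 := (mul_eq_zero.1 (h v)).resolve_left hv
  have hfw : f w = 0 := (mul_eq_zero.1 (h w)).resolve_right hw
  have := h (v + w)
  simp only [map_add, hgv, hfw, zero_add, add_zero] at this
  exact (mul_ne_zero hv hw) this

private theorem prop_of_ker {k : Type u} [Field k] {W : Type u} [AddCommGroup W] [Module k W]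
    (f g : W →ₗ[k] k) (h : LinearMap.ker f ≤ LinearMap.ker g) : ∃ c : k, g = c • f := by
  by_cases hf : f = 0
  · subst hf; exact ⟨0, LinearMap.ext fun v => by simpa using h (by simp : v ∈ LinearMap.ker (0 : W →ₗ[k] k))⟩
  obtain ⟨v, hv⟩ : ∃ v, f v ≠ 0 := by
    by_contra! h'; exact hf (LinearMap.ext h')
  refine ⟨g v / f v, LinearMap.ext fun w => ?_⟩
  have := h (show w - (f w / f v) • v ∈ LinearMap.ker f by simp [hv])
  simp only [LinearMap.mem_ker, map_sub, map_smul, smul_eq_mul] at this
  simp only [LinearMap.smul_apply, smul_eq_mul]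
  rw [sub_eq_zero.1 this]; field_simp

open Matrix in
/-- Singular pencil: scalar operations make the upper-right entry zero. -/
private theorem singular_case {k : Type u} [Field k] {W : Type u} [AddCommGroup W] [Module k W]
    (a b c d : W →ₗ[k] k) (h : ∀ v, a v * d v = b v * c v) :
    ∃ g h : GL (Fin 2) k, ∀ v, (g.val * !![a v, b v; c v, d v] * h.val) 0 1 = 0 := by
  let sw : GL (Fin 2) k := GeneralLinearGroup.mkOfDetNeZero !![0, 1; 1, 0] (by simp [det_fin_two])
  by_cases ha : a = 0
  · subst ha
    rcases prod_zero b c (fun v => by simpa using (h v).symm) with rfl | rfl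
    · exact ⟨1, 1, fun v => by simp⟩
    · exact ⟨1, sw, fun v => by simp [sw, Matrix.mul_apply, Fin.sum_univ_two]⟩
  have key : b.comp (LinearMap.ker a).subtype = 0 ∨ c.comp (LinearMap.ker a).subtype = 0 :=
    prod_zero _ _ fun v => by
      have := h v.1
      have hv : a v.1 = 0 := v.2
      simpa [hv] using this.symm
  rcases key with hb | hc
  · obtain ⟨l, rfl⟩ := prop_of_ker a b (fun v hv => LinearMap.congr_fun hb ⟨v, hv⟩)
    exact ⟨1, GeneralLinearGroup.mkOfDetNeZero !![1, -l; 0, 1] (by simp [det_fin_two]),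
      fun v => by simp [Matrix.mul_apply, Fin.sum_univ_two]; ring⟩
  · obtain ⟨l, rfl⟩ := prop_of_ker a c (fun v hv => LinearMap.congr_fun hc ⟨v, hv⟩)
    have hd : d = l • b := by
      have h0 : ∀ v, a v * (d - l • b) v = 0 := fun v => by
        have := h v
        simp only [LinearMap.smul_apply, LinearMap.sub_apply, smul_eq_mul] at this ⊢
        linear_combination this
      rcases prod_zero a (d - l • b) h0 with h1 | h1
      · exact absurd h1 ha
      · exact sub_eq_zero.1 h1
    exact ⟨GeneralLinearGroup.mkOfDetNeZero !![-l, 1; 1, 0] (by simp [det_fin_two]), 1,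
      fun v => by simp [hd, Matrix.mul_apply, Fin.sum_univ_two]⟩

open Matrix in
/-- The split case. -/
private theorem split_case {k : Type u} [Field k] {W : Type u} [AddCommGroup W] [Module k W]
    (a b c d l m : W →ₗ[k] k) (h : ∀ v, a v * d v - b v * c v = l v * m v) :
    ∃ g h : GL (Fin 2) k, ∀ v, (g.val * !![a v, b v; c v, d v] * h.val) 0 1 = 0 := by
  obtain ⟨g, e, hge⟩ := singular_case (a.comp (LinearMap.ker l).subtype) (b.comp (LinearMap.ker l).subtype)
    (c.comp (LinearMap.ker l).subtype) (d.comp (LinearMap.ker l).subtype) fun v => by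
      have := h v.1
      have hv : l v.1 = 0 := v.2
      simp only [hv, zero_mul, sub_eq_zero] at this
      simpa using this
  -- the transformed entries
  let A (i j : Fin 2) : W →ₗ[k] k :=
    (g.val i 0 * e.val 0 j) • a + (g.val i 0 * e.val 1 j) • b +
      (g.val i 1 * e.val 0 j) • c + (g.val i 1 * e.val 1 j) • d
  have hA : ∀ v i j, (g.val * !![a v, b v; c v, d v] * e.val) i j = A i j v := fun v i j => by
    simp [A, Matrix.mul_apply, Fin.sum_univ_two]; ring
  obtain ⟨β, hβ⟩ := prop_of_ker l (A 0 1) (fun v hv => by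
    rw [LinearMap.mem_ker, ← hA]; simpa using hge ⟨v, hv⟩)
  have hdet : ∀ v, A 0 0 v * A 1 1 v = A 0 1 v * A 1 0 v + g.val.det * e.val.det * (l v * m v) := by
    intro v
    have := congrArg Matrix.det (Matrix.ext (hA v) : g.val * !![a v, b v; c v, d v] * e.val = of fun i j => A i j v)
    rw [det_mul, det_mul, det_fin_two !![a v, b v; c v, d v], det_fin_two (of fun i j => A i j v)] at this
    simp only [of_apply, cons_val', cons_val_zero, cons_val_one, cons_val_fin_one] at this
    rw [← h v]; linear_combination -this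
  have key : (A 0 0).comp (LinearMap.ker l).subtype = 0 ∨ (A 1 1).comp (LinearMap.ker l).subtype = 0 :=
    prod_zero _ _ fun v => by
      have hv : l v.1 = 0 := v.2
      have := hdet v.1
      simpa [hβ, hv] using this
  rcases key with h0 | h1
  · obtain ⟨α, hα⟩ := prop_of_ker l (A 0 0) (fun v hv => LinearMap.congr_fun h0 ⟨v, hv⟩)
    by_cases hβ0 : β = 0
    · exact ⟨g, e, fun v => by rw [hA, hβ, hβ0]; simp⟩
    refine ⟨g, e * GeneralLinearGroup.mkOfDetNeZero !![0, -β; 1, α] (by simp [det_fin_two, hβ0]), fun v => ?_⟩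
    rw [Units.val_mul, ← mul_assoc, Matrix.mul_apply, Fin.sum_univ_two]
    simp [hA, hα, hβ]; ring
  · obtain ⟨δ, hδ⟩ := prop_of_ker l (A 1 1) (fun v hv => LinearMap.congr_fun h1 ⟨v, hv⟩)
    by_cases hβ0 : β = 0
    · exact ⟨g, e, fun v => by rw [hA, hβ, hβ0]; simp⟩
    refine ⟨GeneralLinearGroup.mkOfDetNeZero !![δ, -β; 1, 0] (by simp [det_fin_two, hβ0]) * g, e, fun v => ?_⟩
    rw [Units.val_mul, mul_assoc, mul_assoc, Matrix.mul_apply, Fin.sum_univ_two, ← mul_assoc]
    simp [hA, hδ, hβ]; ring


/-- Over an algebraically closed field k of characteristic zero, for a 2 × 2 matrix M of linear forms in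
k[X_0, X_1, X_2] (entries homogeneous of degree 1, zero allowed), det M is a product of two linear
forms if and only if M can be brought by invertible scalar row and column operations g M h, with g,
h in GL_2(k), to a matrix with zero upper-right entry. (The published statement concerns matrices
with nonzero determinant; this row also allows determinant zero, where both sides hold.) -/
theorem result (k : Type u) [Field k] [IsAlgClosed k] [CharZero k]
    (M : Matrix (Fin 2) (Fin 2) (MvPolynomial (Fin 3) k)) (hM : ∀ a b : Fin 2, (M a b).IsHomogeneous 1) :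
    (∃ l₁ l₂ : MvPolynomial (Fin 3) k, l₁.IsHomogeneous 1 ∧ l₂.IsHomogeneous 1 ∧ M.det = l₁ * l₂) ↔
    ∃ g h : GL (Fin 2) k,
      ((MvPolynomial.C : k →+* MvPolynomial (Fin 3) k).mapMatrix g.val * M *
        (MvPolynomial.C : k →+* MvPolynomial (Fin 3) k).mapMatrix h.val) 0 1 = 0 := by
  classical
  have hev : ∀ (g h : GL (Fin 2) k) (v : Fin 3 → k),
      MvPolynomial.eval v (((MvPolynomial.C : k →+* MvPolynomial (Fin 3) k).mapMatrix g.val * M *
        (MvPolynomial.C : k →+* MvPolynomial (Fin 3) k).mapMatrix h.val) 0 1) =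
      (g.val * (M.map (MvPolynomial.eval v)) * h.val) 0 1 := fun g h v => by
    simp [Matrix.mul_apply, RingHom.mapMatrix_apply]
  choose co hco using fun i j => exists_lf (hM i j)
  constructor
  · rintro ⟨l₁, l₂, h₁, h₂, hdet⟩
    obtain ⟨c₁, rfl⟩ := exists_lf h₁
    obtain ⟨c₂, rfl⟩ := exists_lf h₂
    obtain ⟨g, h, hgh⟩ := split_case (lev (co 0 0)) (lev (co 0 1)) (lev (co 1 0)) (lev (co 1 1)) (lev c₁) (lev c₂)
      (fun v => by
        have := congrArg (MvPolynomial.eval v) hdet
        rw [Matrix.det_fin_two] at this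
        simpa [hco, eval_lf] using this)
    refine ⟨g, h, MvPolynomial.funext fun v => ?_⟩
    have e : M.map (MvPolynomial.eval v) = !![lev (co 0 0) v, lev (co 0 1) v; lev (co 1 0) v, lev (co 1 1) v] := by
      ext i j; fin_cases i <;> fin_cases j <;> simp [hco, eval_lf]
    rw [hev, e, map_zero, hgh v]
  · rintro ⟨g, h, h0⟩
    set N := (MvPolynomial.C : k →+* MvPolynomial (Fin 3) k).mapMatrix g.val * M *
      (MvPolynomial.C : k →+* MvPolynomial (Fin 3) k).mapMatrix h.val with hN
    have hd : N.det = MvPolynomial.C (g.val.det * h.val.det) * M.det := by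
      rw [hN, Matrix.det_mul, Matrix.det_mul, ← RingHom.map_det, ← RingHom.map_det, map_mul]; ring
    have hg : g.val.det * h.val.det ≠ 0 :=
      mul_ne_zero (g.isUnit.map Matrix.detMonoidHom).ne_zero (h.isUnit.map Matrix.detMonoidHom).ne_zero
    have hh : ∀ i, (N i i).IsHomogeneous 1 := fun i => by
      simp only [hN, Matrix.mul_apply, Fin.sum_univ_two, RingHom.mapMatrix_apply, Matrix.map_apply]
      have t : ∀ (x y : k) a b, (MvPolynomial.C x * M a b * MvPolynomial.C y).IsHomogeneous 1 := fun x y a b =>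
        (((MvPolynomial.isHomogeneous_C (Fin 3) x).mul (hM a b)).mul (MvPolynomial.isHomogeneous_C (Fin 3) y) : )
      simp only [add_mul]
      exact ((t _ _ _ _).add (t _ _ _ _)).add ((t _ _ _ _).add (t _ _ _ _))
    refine ⟨MvPolynomial.C (g.val.det * h.val.det)⁻¹ * N 0 0, N 1 1, ?_, hh 1, ?_⟩
    · exact ((MvPolynomial.isHomogeneous_C (Fin 3) _).mul (hh 0) : )
    · have : N.det = N 0 0 * N 1 1 := by rw [Matrix.det_fin_two, h0]; ring
      rw [mul_assoc, ← this, hd, ← mul_assoc, ← map_mul, inv_mul_cancel₀ hg, map_one, one_mul]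

end Groth.Agent.S13912
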