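import Groth.Statements.S13913
import Mathlib.RingTheory.MvPolynomial.EulerIdentity
-- import your own Groth.Agent.* helpers here

set_option autoImplicit false
universe u
open PlaneCubic

namespace Groth.Agent.S13913

/-- Over an algebraically closed field of characteristic zero, for linearly independent linear forms z₁,
z₂ and quadratic forms q₁, q₂ in three variables and a nonzero common zero p of z₁ and z₂, the point
p is a singular point of the plane cubic z₁q₂ − z₂q₁ = 0 (all three partial derivatives vanish at p)
if and only if q₁ and q₂ both vanish at p. -/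
theorem result (k : Type u) [Field k] [IsAlgClosed k] [CharZero k]
    (z₁ z₂ q₁ q₂ : MvPolynomial (Fin 3) k) (hz₁ : z₁.IsHomogeneous 1) (hz₂ : z₂.IsHomogeneous 1)
    (hq₁ : q₁.IsHomogeneous 2) (hq₂ : q₂.IsHomogeneous 2) (hind : LinearIndependent k ![z₁, z₂])
    (p : Fin 3 → k) (hp : p ≠ 0) (hp₁ : MvPolynomial.eval p z₁ = 0) (hp₂ : MvPolynomial.eval p z₂ = 0) :
    (∀ i : Fin 3, MvPolynomial.eval p (MvPolynomial.pderiv i (z₁ * q₂ - z₂ * q₁)) = 0) ↔
      (MvPolynomial.eval p q₁ = 0 ∧ MvPolynomial.eval p q₂ = 0) := by
  have key : ∀ i : Fin 3, MvPolynomial.eval p (MvPolynomial.pderiv i (z₁ * q₂ - z₂ * q₁)) =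
      MvPolynomial.eval p q₂ * MvPolynomial.eval p (MvPolynomial.pderiv i z₁) -
        MvPolynomial.eval p q₁ * MvPolynomial.eval p (MvPolynomial.pderiv i z₂) := fun i => by
    simp only [map_sub, MvPolynomial.pderiv_mul, map_add, map_mul, hp₁, hp₂]
    ring
  simp only [key]
  constructor
  · intro h
    let a := MvPolynomial.eval p q₂
    let b := - MvPolynomial.eval p q₁
    let w := a • z₁ + b • z₂
    have hw : w.IsHomogeneous 1 :=
      (MvPolynomial.homogeneousSubmodule (Fin 3) k 1).add_mem (Submodule.smul_mem _ a hz₁) (Submodule.smul_mem _ b hz₂)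
    have hd : ∀ i, MvPolynomial.pderiv i w = 0 := fun i => by
      have hh : (MvPolynomial.pderiv i w).IsHomogeneous 0 := MvPolynomial.IsHomogeneous.pderiv hw
      rw [← MvPolynomial.totalDegree_zero_iff_isHomogeneous, MvPolynomial.totalDegree_eq_zero_iff_eq_C] at hh
      rw [hh, ← MvPolynomial.C_0]
      congr 1
      have h1 : MvPolynomial.eval p (MvPolynomial.pderiv i w) = 0 := by
        simp only [w, a, b, map_add, Derivation.map_smul, MvPolynomial.smul_eval]
        linear_combination h i
      rw [hh, MvPolynomial.eval_C] at h1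
      exact h1
    have h0 : w = 0 := by
      have := MvPolynomial.IsHomogeneous.sum_X_mul_pderiv hw
      simp only [hd, mul_zero, Finset.sum_const_zero, one_smul] at this
      exact this.symm
    have := LinearIndependent.pair_iff.1 hind a b h0
    exact ⟨neg_eq_zero.1 this.2, this.1⟩
  · rintro ⟨h1, h2⟩ i
    rw [h1, h2]
    ring

end Groth.Agent.S13913
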