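import Groth.Statements.S13915
import Groth.Agent.BlowPtLib.Plane
-- import your own Groth.Agent.* helpers here

set_option autoImplicit false
universe u
open CategoryTheory CategoryTheory.Limits AlgebraicGeometry
open BlowUp

namespace Groth.Agent.S13915

/-- On the blowing up σ : X ⟶ P²_k of the projective plane over an algebraically closed field k of
characteristic zero at a closed point, with E the ideal of the exceptional line and H the pull-back
of O(1), one has χ(X, σ^*O(a) ⊗ E^b) = (a² + 3a)/2 − (b² + b)/2 + 1 for all integers a and natural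
numbers b (the line bundle written aH − bL; the k-structure on X is the composite through σ). -/
theorem result (k : Type u) [Field k] [IsAlgClosed k] [CharZero k]
    (p : ↥(CohB1.ProjSpace 2 k)) (hp : IsClosed ({p} : Set ↥(CohB1.ProjSpace 2 k)))
    {X : Scheme.{u}} [X.Over (Spec (CommRingCat.of k))] (σ : X ⟶ CohB1.ProjSpace 2 k)
    (hσk : σ ≫ CohB1.ProjSpace.toSpec 2 k = X ↘ Spec (CommRingCat.of k))
    (hσ : BlowUp.IsBlowUp σ (Scheme.IdealSheafData.vanishingIdeal ⟨{p}, hp⟩)) (a : ℤ) (b : ℕ) :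
    Curv2.euler k X (CohB1.tensorMod ((Scheme.Modules.pullback σ).obj (Twist.twistProjSpace 2 k a))
      (ClSub.idealMod ((BlowUp.exceptional σ (Scheme.IdealSheafData.vanishingIdeal ⟨{p}, hp⟩)) ^ b))) =
      (a * a + 3 * a) / 2 - ((b : ℤ) * b + b) / 2 + 1 := by
  obtain ⟨φ, -, hφ⟩ := BlowPtLib.exists_projection (m := 1) hp hσ
  obtain ⟨e⟩ := BlowPtLib.nonempty_idealPow_bd (m := 1) hp hσ φ hφ a b
  refine (CurvLib.euler_congr e).trans ?_
  have h := BlowPtLib.euler_bd hp hσ φ hφ hσk a b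
  obtain ⟨x, hx⟩ : ∃ x : ℤ, a * a + 3 * a = x := ⟨_, rfl⟩
  obtain ⟨y, hy⟩ : ∃ y : ℤ, (b : ℤ) * b + b = y := ⟨_, rfl⟩
  obtain ⟨z, hz⟩ := Int.even_mul_succ_self (b : ℤ)
  rw [hx, hy]
  have h1 : (a + 1) * (a + 2) - (b : ℤ) * (b + 1) = x - y + 2 := by rw [← hx, ← hy]; ring
  have h2 : y = z + z := by rw [← hy, ← hz]; ring
  omega

end Groth.Agent.S13915
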