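import Groth.Statements.S13919
import Groth.Agent.ThreePointLib.Basic

set_option autoImplicit false
universe u
open W4c1limliniiii

namespace Groth.Agent.S13919

open Polynomial in
/-- Over an algebraically closed field of characteristic p (zero allowed), fix three distinct points of
the affine line and indices 2 ≤ e_i ≤ d prime to p with ∑ (e_i − 1) = 2d − 2, and encode self-maps
of the projective line up to automorphisms of the target as base-point-free separable pencils of
polynomials of degree at most d. If p is positive, the first two indices are less than p and p ≤ d,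
then there is no separable degree-d self-map of the projective line with ramification index exactly
e_i at the i-th point; if p = 0 or d < p there is exactly one up to automorphisms of the target.
(The first clause includes the case d = p; with it, when all e_i are less than p, the three-point
count is one map if p = 0 or p > d and none otherwise.) -/
theorem result (k : Type u) [Field k] [IsAlgClosed k]
    (p : ℕ) [CharP k p] (d : ℕ) (P : Fin 3 → k) (hP : Function.Injective P)
    (e : Fin 3 → ℕ) (he : W4c1limliniiii.Admissible p d e) :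
    (p ≠ 0 → e 0 < p → e 1 < p → p ≤ d → W4c1limliniiii.ramMaps d P e = ∅) ∧
      (p = 0 ∨ d < p → ∃ V : Submodule k k[X], W4c1limliniiii.ramMaps d P e = {V}) := by
  obtain ⟨he0, hsum⟩ := he
  have he2 : ∀ i, 2 ≤ e i := fun i => (he0 i).1
  have hed : ∀ i, e i ≤ d := fun i => (he0 i).2.1
  refine ⟨fun hp0 h0 h1 hpd => ?_, fun hp => ?_⟩
  · haveI : Fact p.Prime := ⟨(CharP.char_is_prime_or_zero k p).resolve_right hp0⟩
    set h := (X - C (P 2)) ^ (e 2 - p) with hh
    set A := (X - C (P 0)) ^ p with hA
    set B := (X - C (P 1)) ^ p with hB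
    have hpp : p ≠ 0 := hp0
    have hh0 : h ≠ 0 := pow_ne_zero _ (X_sub_C_ne_zero _)
    have hexp : ∀ t : k, (X - C t) ^ p = X ^ p - C (t ^ p) := fun t => by rw [sub_pow_char, C_pow]
    have hder : ∀ t : k, derivative ((X - C t) ^ p) = 0 := fun t => by
      rw [derivative_pow, CharP.cast_eq_zero, map_zero, zero_mul, zero_mul]
    have hdeg : ∀ t : k, (h * (X - C t) ^ p).natDegree ≤ d := fun t => by
      refine natDegree_mul_le.trans ?_
      rw [hh, natDegree_pow, natDegree_pow, natDegree_X_sub_C, natDegree_X_sub_C]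
      have := hed 2
      omega
    have hab : P 0 ^ p - P 1 ^ p ≠ 0 := by
      rw [← sub_pow_char]
      exact pow_ne_zero _ (sub_ne_zero.2 fun hc => by simpa using hP hc)
    have hindep : ∀ x y : k, C x * (h * A) + C y * (h * B) = 0 → x = 0 ∧ y = 0 := fun x y hxy => by
      have h2 : C x * A + C y * B = 0 := mul_left_cancel₀ hh0 (by linear_combination hxy)
      have ea := congrArg (Polynomial.eval (P 0)) h2
      have eb := congrArg (Polynomial.eval (P 1)) h2
      rw [hA, hB, hexp, hexp] at ea eb
      simp only [eval_add, eval_mul, eval_C, eval_sub, eval_pow, eval_X, eval_zero, sub_self, mul_zero, add_zero,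
        zero_add] at ea eb
      refine ⟨(mul_eq_zero.1 eb).resolve_right fun hc => hab (by linear_combination -hc),
        (mul_eq_zero.1 ea).resolve_right hab⟩
    set W := Submodule.span k {h * A, h * B} with hW
    have hAW : h * A ∈ W := Submodule.subset_span (Set.mem_insert _ _)
    have hBW : h * B ∈ W := Submodule.subset_span (Set.mem_insert_of_mem _ rfl)
    refine Set.eq_empty_iff_forall_notMem.2 fun V hV => ?_
    have hns : ¬ IsSeparable W := by
      rintro ⟨a, ha, b, hb, hne⟩
      obtain ⟨x, y, rfl⟩ := Submodule.mem_span_pair.1 ha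
      obtain ⟨z, w, rfl⟩ := Submodule.mem_span_pair.1 hb
      apply hne
      rw [smul_eq_C_mul, smul_eq_C_mul, smul_eq_C_mul, smul_eq_C_mul, InsepLimLib.wronskian_comb, wronskian,
        derivative_mul, derivative_mul, hA, hB, hder, hder]
      ring
    apply hns
    rw [ThreePointLib.eq_of_mem_ramMaps hP hsum hed hV (W := W) ?_ ?_ ?_]
    · exact hV.2.1
    · rw [hW, Submodule.span_le]
      rintro x (rfl | rfl) <;> exact mem_degreeLE.2 (degree_le_of_natDegree_le (hdeg _))
    · have hli : LinearIndependent k ![h * A, h * B] := LinearIndependent.pair_iff.2 fun x y hxy => by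
        rw [smul_eq_C_mul, smul_eq_C_mul] at hxy
        exact hindep x y hxy
      have := finrank_span_eq_card hli
      rwa [Matrix.range_cons, Matrix.range_cons, Matrix.range_empty, Set.union_empty, Set.singleton_union,
        Fintype.card_fin] at this
    · intro i
      have key : ∀ (i : Fin 3) (s : k[X]), s ∈ W → (∃ j, s = h * (X - C (P j)) ^ p) →
          (X - C (P i)) ^ e i ∣ s → ∃ s ∈ W, s ≠ 0 ∧ e i ≤ rootMultiplicity (P i) s := fun i s hs hj hdvd => by
        obtain ⟨j, rfl⟩ := hj
        exact ⟨_, hs, mul_ne_zero hh0 (pow_ne_zero _ (X_sub_C_ne_zero _)), (le_rootMultiplicity_iff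
          (mul_ne_zero hh0 (pow_ne_zero _ (X_sub_C_ne_zero _)))).2 hdvd⟩
      fin_cases i
      · exact key 0 _ hAW ⟨0, rfl⟩ ((pow_dvd_pow _ h0.le).mul_left _)
      · exact key 1 _ hBW ⟨1, rfl⟩ ((pow_dvd_pow _ h1.le).mul_left _)
      · refine key 2 (h * (X - C (P 2)) ^ p) ?_ ⟨2, rfl⟩ ?_
        · have heq : (X - C (P 2)) ^ p = C ((P 2 ^ p - P 1 ^ p) / (P 0 ^ p - P 1 ^ p)) * A +
              C (1 - (P 2 ^ p - P 1 ^ p) / (P 0 ^ p - P 1 ^ p)) * B := by
            rw [hA, hB, hexp, hexp, hexp, map_sub (C : k →+* k[X]) 1, map_one]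
            have hc : C ((P 2 ^ p - P 1 ^ p) / (P 0 ^ p - P 1 ^ p)) * (C (P 0 ^ p) - C (P 1 ^ p)) =
                C (P 2 ^ p) - C (P 1 ^ p) := by
              rw [← map_sub, ← map_mul, div_mul_cancel₀ _ hab, map_sub]
            linear_combination hc
          rw [heq, mul_add, mul_left_comm h, mul_left_comm h, ← smul_eq_C_mul, ← smul_eq_C_mul]
          exact add_mem (W.smul_mem _ hAW) (W.smul_mem _ hBW)
        · rw [hh, ← pow_add]
          exact pow_dvd_pow _ (by omega)
  · obtain ⟨v, hv, hv0⟩ := (Submodule.ne_bot_iff _).1 (ThreePointLib.L_ne_bot (P := P) hsum hed)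
    have hchar : ∀ j, 1 ≤ j → j ≤ d → (j : k) ≠ 0 := fun j hj1 hj2 hj => by
      rw [CharP.cast_eq_zero_iff k p] at hj
      rcases hp with rfl | hp
      · rw [zero_dvd_iff] at hj; omega
      · have := Nat.le_of_dvd (by omega) hj; omega
    have hmem := ThreePointLib.mem_ramMaps hP hsum hed he2 (ThreePointLib.span_le hv)
      (ThreePointLib.finrank_span hP hsum hed hv hv0) (ThreePointLib.mult hP hsum hed hv hv0)
      ⟨_, Submodule.subset_span (Set.mem_insert _ _), _, Submodule.subset_span (Set.mem_insert_of_mem _ rfl),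
        ThreePointLib.wronskian_ne_zero_of_indep hchar hv.1 hv.2.1 (ThreePointLib.indep hP hsum hed hv hv0)⟩
    exact ⟨_, Set.eq_singleton_iff_unique_mem.2 ⟨hmem, fun W hW =>
      ThreePointLib.eq_of_mem_ramMaps hP hsum hed hmem hW.1.1 hW.1.2.1 fun i => (hW.2.2 i).1⟩⟩

end Groth.Agent.S13919
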