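import Groth.Statements.S13920
import Groth.Agent.RamShiftLib.Basic

set_option autoImplicit false
universe u
open W4c1limliniiii

namespace Groth.Agent.S13920

open Polynomial in
/-- Over an algebraically closed field of prime characteristic p, fix n points of the affine line with
ramification indices e_i < p, and at infinity an index E with p < E and E prime to p, the datum (E,
e_1, …, e_n) being admissible for degree d (each index between 2 and d, ∑ (index − 1) = 2d − 2). If
one separable degree-d self-map of the projective line (up to automorphisms of the target, encoded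
as a base-point-free separable pencil of polynomials of degree at most d) has ramification index
exactly e_i at the i-th point and exactly E at infinity, then infinitely many do: the set of such
pencils is empty or infinite. (The consequence for general points, that no such map exists, is not
restated.) -/
theorem result
    (k : Type u) [Field k] [IsAlgClosed k] (p : ℕ) [Fact p.Prime] [CharP k p]
    (d n : ℕ) (P : Fin n → k) (e : Fin n → ℕ) (E : ℕ)
    (he : W4c1limliniiii.Admissible p d (Fin.cons E e : Fin (n + 1) → ℕ))
    (hlt : ∀ i, e i < p) (hE : p < E) :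
    {V : Submodule k k[X] | V ∈ W4c1limliniiii.ramMaps d P e ∧ W4c1limliniiii.HasRamIdxInf d V E} = ∅ ∨
      {V : Submodule k k[X] | V ∈ W4c1limliniiii.ramMaps d P e ∧
        W4c1limliniiii.HasRamIdxInf d V E}.Infinite := by
  obtain ⟨he0, -⟩ := he
  have hE2 := he0 0
  simp only [Fin.cons_zero] at hE2
  have hei : ∀ i, 2 ≤ e i := fun i => by
    have := (he0 i.succ).1
    rwa [Fin.cons_succ] at this
  have hp2 := Nat.Prime.two_le (Fact.out : p.Prime)
  by_cases hne : {V : Submodule k k[X] | V ∈ W4c1limliniiii.ramMaps d P e ∧ W4c1limliniiii.HasRamIdxInf d V E} = ∅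
  · exact Or.inl hne
  right
  obtain ⟨V, ⟨⟨hle, hrank, ⟨F, hFV, hFd⟩, hbpf⟩, hsep, hram⟩, ⟨G, hGV, hG0, hGd⟩, hinf⟩ :=
    Set.nonempty_iff_ne_empty.2 hne
  have hGd' : G.natDegree + E = d := le_antisymm hGd (hinf G hGV hG0)
  have hF0 : F ≠ 0 := fun h => by rw [h, natDegree_zero] at hFd; omega
  haveI : FiniteDimensional k V := FiniteDimensional.of_finrank_pos (by omega)
  have hindep : ∀ x y : k, C x * G + C y * F = 0 → x = 0 ∧ y = 0 := fun x y h => by
    have hy : y = 0 := by
      have h1 := congrArg (fun f => coeff f d) h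
      simp only [coeff_add, coeff_C_mul, coeff_zero, coeff_eq_zero_of_natDegree_lt (show G.natDegree < d by omega),
        mul_zero, zero_add] at h1
      exact (mul_eq_zero.1 h1).resolve_right (by rw [← hFd]; exact leadingCoeff_ne_zero.2 hF0)
    refine ⟨?_, hy⟩
    rw [hy, map_zero, zero_mul, add_zero, mul_eq_zero, C_eq_zero] at h
    exact h.resolve_right hG0
  have hspan : Submodule.span k {G, F} = V := by
    refine Submodule.eq_of_le_of_finrank_le (Submodule.span_le.2 ?_) ?_
    · rintro x (rfl | rfl) <;> assumption
    · have hli : LinearIndependent k ![G, F] := LinearIndependent.pair_iff.2 fun x y h => by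
        rw [smul_eq_C_mul, smul_eq_C_mul] at h
        exact hindep x y h
      have := finrank_span_eq_card hli
      rw [Matrix.range_cons, Matrix.range_cons, Matrix.range_empty, Set.union_empty, Set.singleton_union,
        Fintype.card_fin] at this
      omega
  have hbp : ∀ b, ¬ (G.eval b = 0 ∧ F.eval b = 0) := fun b hb => by
    obtain ⟨s, hs, hsb⟩ := hbpf b
    rw [← hspan] at hs
    obtain ⟨x, y, rfl⟩ := Submodule.mem_span_pair.1 hs
    exact hsb (by simp [hb.1, hb.2])
  have hW0 : wronskian G F ≠ 0 := fun h0 => by
    obtain ⟨a, ha, b, hb, hab⟩ := hsep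
    rw [← hspan] at ha hb
    obtain ⟨x, y, rfl⟩ := Submodule.mem_span_pair.1 ha
    obtain ⟨z, w, rfl⟩ := Submodule.mem_span_pair.1 hb
    apply hab
    rw [smul_eq_C_mul, smul_eq_C_mul, smul_eq_C_mul, smul_eq_C_mul, InsepLimLib.wronskian_comb, h0, mul_zero]
  let Ft : k → k[X] := fun t => F + C t * X ^ p * G
  have hlow : ∀ t : k, (C t * X ^ p * G).natDegree < d := fun t => by
    refine lt_of_le_of_lt natDegree_mul_le ?_
    have := natDegree_C_mul_X_pow_le t p
    omega
  have hFtd : ∀ t, (Ft t).natDegree = d := fun t => by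
    rw [natDegree_add_eq_left_of_natDegree_lt (by rw [hFd]; exact hlow t), hFd]
  have hWt : ∀ t, wronskian G (Ft t) = wronskian G F := fun t => by
    simp only [Ft, wronskian, derivative_add, derivative_mul, derivative_C, derivative_X_pow, CharP.cast_eq_zero,
      map_zero, zero_mul, mul_zero, zero_add]
    ring
  have hi : ∀ t, ∀ x y : k, C x * G + C y * Ft t = 0 → x = 0 ∧ y = 0 := fun t x y h => by
    have hy : y = 0 := by
      have h1 := congrArg (fun f => coeff f d) h
      simp only [Ft, coeff_add, coeff_C_mul, coeff_zero, coeff_eq_zero_of_natDegree_lt (show G.natDegree < d by omega),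
        coeff_eq_zero_of_natDegree_lt (hlow t), mul_zero, zero_add, add_zero] at h1
      exact (mul_eq_zero.1 h1).resolve_right (by rw [← hFd]; exact leadingCoeff_ne_zero.2 hF0)
    refine ⟨?_, hy⟩
    rw [hy, map_zero, zero_mul, add_zero, mul_eq_zero, C_eq_zero] at h
    exact h.resolve_right hG0
  have hbt : ∀ t b, ¬ (G.eval b = 0 ∧ (Ft t).eval b = 0) := fun t b hb => hbp b ⟨hb.1, by
    have := hb.2
    simpa [Ft, hb.1] using this⟩
  have hmem : ∀ t, Submodule.span k {G, Ft t} ∈ {V : Submodule k k[X] |
      V ∈ W4c1limliniiii.ramMaps d P e ∧ W4c1limliniiii.HasRamIdxInf d V E} := fun t => by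
    refine ⟨⟨⟨?_, ?_, ⟨Ft t, Submodule.subset_span (Set.mem_insert_of_mem _ rfl), hFtd t⟩, fun b => ?_⟩,
      ⟨G, Submodule.subset_span (Set.mem_insert _ _), Ft t, Submodule.subset_span (Set.mem_insert_of_mem _ rfl),
        (hWt t).symm ▸ hW0⟩, fun i => ?_⟩, ⟨G, Submodule.subset_span (Set.mem_insert _ _), hG0, hGd⟩, fun s hs hs0 => ?_⟩
    · rw [Submodule.span_le]
      rintro x (rfl | rfl)
      · exact mem_degreeLE.2 (degree_le_of_natDegree_le (by omega))
      · exact mem_degreeLE.2 (degree_le_of_natDegree_le (hFtd t).le)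
    · have hli : LinearIndependent k ![G, Ft t] := LinearIndependent.pair_iff.2 fun x y h => by
        rw [smul_eq_C_mul, smul_eq_C_mul] at h
        exact hi t x y h
      have := finrank_span_eq_card hli
      rwa [Matrix.range_cons, Matrix.range_cons, Matrix.range_empty, Set.union_empty, Set.singleton_union,
        Fintype.card_fin] at this
    · by_cases h : G.eval b = 0
      · exact ⟨Ft t, Submodule.subset_span (Set.mem_insert_of_mem _ rfl), fun h' => hbt t b ⟨h, h'⟩⟩
      · exact ⟨G, Submodule.subset_span (Set.mem_insert _ _), h⟩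
    · have hr := hram i
      rw [← hspan] at hr
      have he1 : 1 ≤ e i := (hei i).trans' one_le_two
      refine RamShiftLib.hasRamIdx_of_wronskian p (hbt t _) (hi t) he1 (Or.inr (hlt i)) ?_ ?_
      · rw [hWt]; exact RamShiftLib.wronskian_dvd_of_hasRamIdx hr
      · rw [hWt]
        refine RamShiftLib.not_dvd_of_hasRamIdx (hbp _) (by omega) (fun h => ?_) hr
        rw [CharP.cast_eq_zero_iff k p] at h
        have := Nat.le_of_dvd (by omega) h
        have := hlt i
        omega
    · obtain ⟨x, y, rfl⟩ := Submodule.mem_span_pair.1 hs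
      rw [smul_eq_C_mul, smul_eq_C_mul] at hs0 ⊢
      by_cases hy : y = 0
      · have hx : x ≠ 0 := fun hx => hs0 (by simp [hx, hy])
        rw [hy, map_zero, zero_mul, add_zero, natDegree_C_mul hx]
        omega
      · rw [natDegree_add_eq_right_of_natDegree_lt, natDegree_C_mul hy, hFtd]
        · omega
        · rw [natDegree_C_mul hy, hFtd]
          exact lt_of_le_of_lt (natDegree_C_mul_le _ _) (by omega)
  refine (Set.infinite_range_of_injective fun t s hts => ?_).mono (Set.range_subset_iff.2 hmem)
  have h1 : Ft t ∈ Submodule.span k {G, Ft s} := by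
    have h2 : Ft t ∈ Submodule.span k {G, Ft t} := Submodule.subset_span (Set.mem_insert_of_mem _ rfl)
    have h3 : Submodule.span k {G, Ft t} = Submodule.span k {G, Ft s} := hts
    rwa [h3] at h2
  obtain ⟨x, y, hxy⟩ := Submodule.mem_span_pair.1 h1
  rw [smul_eq_C_mul, smul_eq_C_mul] at hxy
  have hy : y = 1 := by
    have h2 := congrArg (fun f => coeff f d) hxy
    simp only [Ft, coeff_add, coeff_C_mul, coeff_eq_zero_of_natDegree_lt (show G.natDegree < d by omega),
      coeff_eq_zero_of_natDegree_lt (hlow s), coeff_eq_zero_of_natDegree_lt (hlow t), mul_zero, zero_add,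
      add_zero] at h2
    have hne : F.coeff d ≠ 0 := by rw [← hFd]; exact leadingCoeff_ne_zero.2 hF0
    exact mul_right_cancel₀ hne (by rw [one_mul]; exact h2)
  have h4 : (C x + C (s - t) * X ^ p) * G = 0 := by
    simp only [Ft] at hxy
    rw [hy, map_one, one_mul] at hxy
    rw [map_sub]
    linear_combination hxy
  have h5 := congrArg (fun f => coeff f p) ((mul_eq_zero.1 h4).resolve_right hG0)
  simp only [← map_sub, coeff_add, coeff_C_mul, coeff_X_pow, if_pos, mul_one, coeff_zero, coeff_C,
    show p ≠ 0 by omega, if_false, zero_add, sub_eq_zero] at h5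
  exact h5.symm

end Groth.Agent.S13920
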