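import Groth.Statements.S13922
import Groth.Agent.RamShiftLib.Flip

set_option autoImplicit false
universe u
open W4c1limliniiii

namespace Groth.Agent.S13922

open Polynomial in
/-- Over an algebraically closed field of prime characteristic p, let (d; e_1, …, e_n) be admissible
ramification data (2 ≤ e_i ≤ d, ∑ (e_i − 1) = 2d − 2) with every e_i < p, and for two distinct
indices i ≠ j replace e_i, e_j by p − e_i, p − e_j and d by d + p − e_i − e_j. Then the number of
separable self-maps of the projective line with the prescribed ramification at general points, up to
automorphisms of the target (counted as base-point-free separable pencils of polynomials, for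
configurations of points of the affine line off the zero set of a non-zero polynomial), is the same
for the two data: a number is the general count for one if and only if it is the general count for
the other. -/
theorem result (k : Type u) [Field k] [IsAlgClosed k]
    (p : ℕ) [Fact p.Prime] [CharP k p] (d n : ℕ) (e : Fin n → ℕ)
    (he : W4c1limliniiii.Admissible p d e) (hlt : ∀ l, e l < p) (i j : Fin n) (hij : i ≠ j)
    (m : ℕ) :
    W4c1limliniiii.HasGenericCount (k := k) d e m ↔
      W4c1limliniiii.HasGenericCount (k := k) (d + p - e i - e j)
        (Function.update (Function.update e i (p - e i)) j (p - e j)) m := by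
  classical
  obtain ⟨he0, hsum⟩ := he
  set e' := Function.update (Function.update e i (p - e i)) j (p - e j) with he'def
  have hei := he0 i
  have hej := he0 j
  have hlti := hlt i
  have hltj := hlt j
  have hi : e' i + e i = p := by
    rw [he'def, Function.update_of_ne hij, Function.update_self]; omega
  have hj : e' j + e j = p := by
    rw [he'def, Function.update_self]; omega
  have hl : ∀ l, l ≠ i → l ≠ j → e' l = e l := fun l hli hlj => by
    rw [he'def, Function.update_of_ne hlj, Function.update_of_ne hli]
  have he1 : ∀ l, 1 ≤ e l ∧ e l < p := fun l => ⟨(he0 l).1.trans' one_le_two, hlt l⟩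
  have he1' : ∀ l, 1 ≤ e' l ∧ e' l < p := fun l => by
    by_cases hli : l = i
    · subst hli; omega
    by_cases hlj : l = j
    · subst hlj; omega
    rw [hl l hli hlj]; exact he1 l
  have hd : d + p - e i - e j + e i + e j = d + p := by omega
  have hsum' : (∑ l, e' l) + 2 = 2 * (d + p - e i - e j) + n := by
    have h1 : ∀ f : Fin n → ℕ, ∑ l, f l = f i + (f j + ∑ l ∈ (Finset.univ.erase i).erase j, f l) := fun f => by
      rw [Finset.add_sum_erase _ _ (Finset.mem_erase.2 ⟨hij.symm, Finset.mem_univ j⟩),
        Finset.add_sum_erase _ _ (Finset.mem_univ i)]
    have h2 : ∑ l ∈ (Finset.univ.erase i).erase j, e' l = ∑ l ∈ (Finset.univ.erase i).erase j, e l :=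
      Finset.sum_congr rfl fun l hl' => by
        rw [Finset.mem_erase, Finset.mem_erase] at hl'
        exact hl l hl'.2.1 hl'.1
    rw [h1 e] at hsum
    rw [h1 e', h2]
    omega
  exact ⟨RamShiftLib.hasGenericCount_flip p hij he1 he1' hi hj hl hd (by omega) (by omega) hsum hsum',
    RamShiftLib.hasGenericCount_flip p hij he1' he1 (by omega) (by omega) (fun l a b => (hl l a b).symm)
      (by omega) (by omega) (by omega) hsum' hsum⟩

end Groth.Agent.S13922
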