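import Groth.Statements.S13925
import Mathlib.Order.SupIndep
import Mathlib.LinearAlgebra.Span.Basic
-- import your own Groth.Agent.* helpers here

set_option autoImplicit false
universe u v w x
open W4c1limliniiii

namespace Groth.Agent.S13925

/-- Let k be a field and U, E, W vector spaces over k with linear maps f : U → E, g' : E → U, f₂ : E → W
and g : W → E such that g' ∘ f = 0, the kernel of f₂ is contained in the image of g, and the image
of g meets the kernel of g' only in 0 — the conditions holding at a point of a linked Grassmannian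
at which the linking scalar vanishes. Let V₁ ≤ U and V₂ ≤ E be subspaces and let C' ≤ V₂ be a
subspace contained in the kernel of g' and meeting f(V₁) only in 0. Then the subspaces f(V₁), ker f₂
∩ V₂ and C' of E are independent: their sum is direct. (The published statement is for two
consecutive members V_{i-1}, V_i of a point of a linked Grassmannian at which the linking scalar
vanishes and adds the decomposition V_i = f(V_{i-1}) ⊕ (ker f_i ∩ V_i) ⊕ C with C ⊇ C'; this row
states the independence, with only the three conditions the argument uses.) -/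
theorem result (k : Type u) [Field k]
    (U : Type v) (E : Type w) (W : Type x) [AddCommGroup U] [Module k U] [AddCommGroup E]
    [Module k E] [AddCommGroup W] [Module k W]
    (f : U →ₗ[k] E) (g' : E →ₗ[k] U) (f₂ : E →ₗ[k] W) (g : W →ₗ[k] E)
    (hgf : g'.comp f = 0) (hII : LinearMap.ker f₂ ≤ LinearMap.range g)
    (hIII : LinearMap.range g ⊓ LinearMap.ker g' = ⊥)
    (V₁ : Submodule k U) (V₂ : Submodule k E) (C' : Submodule k E) (hC : C' ≤ V₂)
    (hCg : C' ≤ LinearMap.ker g') (hCf : Submodule.map f V₁ ⊓ C' = ⊥) :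
    iSupIndep ![Submodule.map f V₁, LinearMap.ker f₂ ⊓ V₂, C'] := by
  have hA : Submodule.map f V₁ ≤ LinearMap.ker g' := by
    rintro _ ⟨x, -, rfl⟩
    exact LinearMap.congr_fun hgf x
  have hB : ∀ x ∈ LinearMap.ker f₂ ⊓ V₂, x ∈ LinearMap.ker g' → x = 0 := fun x hx hx' =>
    (Submodule.mem_bot k).mp (hIII ▸ ⟨hII hx.1, hx'⟩ : x ∈ (⊥ : Submodule k E))
  have hAC : ∀ x, x ∈ Submodule.map f V₁ → x ∈ C' → x = 0 := fun x h h' =>
    (Submodule.mem_bot k).mp (hCf ▸ ⟨h, h'⟩)
  intro i
  rw [Submodule.disjoint_def]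
  intro x hx hx'
  fin_cases i
  · have hle : (⨆ (j : Fin 3) (_ : j ≠ 0), ![Submodule.map f V₁, LinearMap.ker f₂ ⊓ V₂, C'] j) ≤ (LinearMap.ker f₂ ⊓ V₂) ⊔ C' :=
      iSup₂_le fun j hj => by fin_cases j <;> simp_all
    obtain ⟨b, hb, c, hc, rfl⟩ := Submodule.mem_sup.mp (hle hx')
    have : b = 0 := hB b hb (by simpa using sub_mem (hA hx) (hCg hc))
    subst this
    simp only [zero_add] at hx ⊢
    exact hAC c hx hc
  · have hle : (⨆ (j : Fin 3) (_ : j ≠ 1), ![Submodule.map f V₁, LinearMap.ker f₂ ⊓ V₂, C'] j) ≤ LinearMap.ker g' :=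
      iSup₂_le fun j hj => by fin_cases j <;> simp_all
    exact hB x hx (hle hx')
  · have hle : (⨆ (j : Fin 3) (_ : j ≠ 2), ![Submodule.map f V₁, LinearMap.ker f₂ ⊓ V₂, C'] j) ≤ Submodule.map f V₁ ⊔ (LinearMap.ker f₂ ⊓ V₂) :=
      iSup₂_le fun j hj => by fin_cases j <;> simp_all
    obtain ⟨a, ha, b, hb, rfl⟩ := Submodule.mem_sup.mp (hle hx')
    have : b = 0 := hB b hb (by simpa using sub_mem (hCg hx) (hA ha))
    subst this
    simp only [add_zero] at hx ⊢
    exact hAC a ha hx

end Groth.Agent.S13925
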