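import Groth.Statements.S13926
import Mathlib.LinearAlgebra.FiniteDimensional.Lemmas
-- import your own Groth.Agent.* helpers here

set_option autoImplicit false
universe u v w
open W4c1limliniiii

namespace Groth.Agent.S13926

/-- Let k be a field, E₁ and E₂ finite-dimensional vector spaces over k of the same dimension, f : E₁ →
E₂ and g : E₂ → E₁ linear maps whose composite g ∘ f is multiplication by a scalar s, and V₁ a
subspace of E₁. Then there is a subspace V₂ of E₂ of the same dimension as V₁ with f(V₁) ≤ V₂ and
g(V₂) ≤ V₁. (The published statement is the surjectivity of the truncation morphisms of a linked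
Grassmannian, with a further assertion on lifting families; this row is the lifting step over a
field — over a point the chain of linked subspaces V_1, …, V_{n'} extends one index at a time — and
assumes only g ∘ f = s.) -/
theorem result (k : Type u) [Field k]
    (E₁ : Type v) (E₂ : Type w) [AddCommGroup E₁] [Module k E₁] [FiniteDimensional k E₁]
    [AddCommGroup E₂] [Module k E₂] [FiniteDimensional k E₂]
    (hdim : Module.finrank k E₁ = Module.finrank k E₂)
    (f : E₁ →ₗ[k] E₂) (g : E₂ →ₗ[k] E₁) (s : k) (hgf : g.comp f = s • LinearMap.id)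
    (V₁ : Submodule k E₁) :
    ∃ V₂ : Submodule k E₂, Module.finrank k V₂ = Module.finrank k V₁ ∧
      Submodule.map f V₁ ≤ V₂ ∧ Submodule.map g V₂ ≤ V₁ := by
  have grow : ∀ (T : Submodule k E₂) (d : ℕ) (L : Submodule k E₂), L ≤ T → Module.finrank k L ≤ d →
      d ≤ Module.finrank k T → ∃ U, L ≤ U ∧ U ≤ T ∧ Module.finrank k U = d := by
    intro T d
    induction d with
    | zero => exact fun L hL hd _ => ⟨L, le_rfl, hL, by omega⟩
    | succ d ih =>
      intro L hL hd hT
      rcases Nat.eq_or_lt_of_le hd with e | e
      · exact ⟨L, le_rfl, hL, e⟩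
      obtain ⟨U, hLU, hUT, hU⟩ := ih L hL (by omega) (by omega)
      obtain ⟨x, hxT, hxU⟩ := SetLike.exists_of_lt (lt_of_le_of_ne hUT (fun e' => by rw [e'] at hU; omega))
      refine ⟨U ⊔ Submodule.span k {x}, hLU.trans le_sup_left, sup_le hUT ((Submodule.span_singleton_le_iff_mem x T).mpr hxT), ?_⟩
      have h0 : U ⊓ Submodule.span k {x} = ⊥ := by
        refine (Submodule.eq_bot_iff _).mpr fun z hz => ?_
        obtain ⟨a, rfl⟩ := Submodule.mem_span_singleton.mp hz.2
        by_cases ha : a = 0
        · simp [ha]
        · exact absurd ((U.smul_mem_iff ha).mp hz.1) hxU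
      have := Submodule.finrank_sup_add_finrank_inf_eq U (Submodule.span k {x})
      rw [h0, finrank_bot, finrank_span_singleton (fun e' => hxU (by rw [e']; exact U.zero_mem))] at this
      omega
  have hle : Submodule.map f V₁ ≤ Submodule.comap g V₁ := by
    rintro _ ⟨x, hx, rfl⟩
    show g (f x) ∈ V₁
    have : g (f x) = s • x := LinearMap.congr_fun hgf x
    rw [this]
    exact V₁.smul_mem s hx
  have hd : Module.finrank k V₁ ≤ Module.finrank k (Submodule.comap g V₁) := by
    let g' : Submodule.comap g V₁ →ₗ[k] E₁ := g ∘ₗ (Submodule.comap g V₁).subtype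
    have h1 := LinearMap.finrank_range_add_finrank_ker g'
    have h2 : LinearMap.range g' = LinearMap.range g ⊓ V₁ := by
      rw [LinearMap.range_comp, Submodule.range_subtype, Submodule.map_comap_eq]
    have h3 : Module.finrank k (LinearMap.ker g') = Module.finrank k (LinearMap.ker g) := by
      rw [LinearMap.ker_comp]
      exact (Submodule.comapSubtypeEquivOfLe (fun x (hx : x ∈ LinearMap.ker g) => show g x ∈ V₁ by rw [LinearMap.mem_ker.mp hx]; exact V₁.zero_mem)).finrank_eq
    have h4 := LinearMap.finrank_range_add_finrank_ker g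
    have h5 := Submodule.finrank_sup_add_finrank_inf_eq (LinearMap.range g) V₁
    have h6 := Submodule.finrank_le (LinearMap.range g ⊔ V₁)
    rw [h2, h3] at h1
    omega
  obtain ⟨U, h1, h2, h3⟩ := grow _ _ _ hle (Submodule.finrank_map_le f V₁) hd
  exact ⟨U, h3, h1, Submodule.map_le_iff_le_comap.mpr h2⟩

end Groth.Agent.S13926
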