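import Groth.Statements.S13929
import Groth.Agent.RamMapLib.Wronski
import Groth.Agent.S13921

set_option autoImplicit false
universe u
open W4c1limliniiii

namespace Groth.Agent.S13929

open Polynomial in
/-- Over an algebraically closed field of characteristic p with p = 0 or d < p, fix n distinct points of
the affine line and admissible ramification indices (2 ≤ e_i ≤ d, e_i prime to p, ∑ (e_i − 1) = 2d −
2). Then there are only finitely many separable self-maps of the projective line of degree d, up to
automorphisms of the target, with ramification index exactly e_i at the i-th point: the set of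
base-point-free separable pencils of polynomials of degree at most d with this ramification is
finite. (This is the case of a fully specified ramification divisor; the points are arbitrary
distinct points, not only general ones.) -/
theorem result (k : Type u) [Field k] [IsAlgClosed k]
    (p : ℕ) [CharP k p] (d n : ℕ) (P : Fin n → k) (hP : Function.Injective P)
    (e : Fin n → ℕ) (he : W4c1limliniiii.Admissible p d e) (hp : p = 0 ∨ d < p) :
    (W4c1limliniiii.ramMaps d P e).Finite := by
  classical
  obtain ⟨he, hsum⟩ := he
  have he1 : ∀ i, 1 ≤ e i := fun i => (he i).1.trans' one_le_two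
  have hd : 1 ≤ d := RamMapLib.Data.one_le (e := e) hsum he1
  have hchar : ∀ j, 1 ≤ j → j ≤ d → (j : k) ≠ 0 := fun j h1 h2 h => by
    rw [CharP.cast_eq_zero_iff k p] at h
    rcases hp with rfl | hp
    · rw [zero_dvd_iff] at h; omega
    · have := Nat.le_of_dvd (by omega) h; omega
  let S : Fin (d + 1) → Fin (d + 1) → RamMapLib.Var n d → Set k := fun a b v =>
    {x | ∃ φ : RamMapLib.Var n d → k, RamMapLib.Sol e a b φ ∧ (∀ i, φ (.P i) = P i) ∧ φ v = x}
  have hSF : ∀ a b m, (S a b (.F m)).Finite := fun a b m =>
    RamMapLib.finite_values hsum he1 hchar P _ ⟨m, Or.inl rfl⟩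
  have hSG : ∀ a b m, (S a b (.G m)).Finite := fun a b m =>
    RamMapLib.finite_values hsum he1 hchar P _ ⟨m, Or.inr rfl⟩
  refine Set.Finite.subset (Set.finite_iUnion fun a : Fin (d + 1) => Set.finite_iUnion fun b : Fin (d + 1) =>
    ((Set.Finite.pi (t := fun m => S a b (.F m)) (hSF a b)).prod
      (Set.Finite.pi (t := fun m => S a b (.G m)) (hSG a b))).image
      (fun c : (Fin (d + 1) → k) × (Fin (d + 1) → k) =>
        Submodule.span k {RamMapLib.pk c.1, RamMapLib.pk c.2})) fun V hV => ?_
  obtain ⟨a, b, φ, hφ, hφP, rfl⟩ := Groth.Agent.S13921.exists_sol hd hP hV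
  exact Set.mem_iUnion.2 ⟨a, Set.mem_iUnion.2 ⟨b, ⟨(fun m => φ (.F m), fun m => φ (.G m)),
    ⟨fun m _ => ⟨φ, hφ, hφP, rfl⟩, fun m _ => ⟨φ, hφ, hφP, rfl⟩⟩, rfl⟩⟩⟩

end Groth.Agent.S13929
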