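import Groth.Statements.S13934
import Groth.Agent.CurveVBLib.Line
import Groth.Agent.CohCmpLib.LineBundle

set_option autoImplicit false
universe u
open CategoryTheory CategoryTheory.Limits AlgebraicGeometry
open W4c1limliniiii

namespace Groth.Agent.S13934

/-- On a smooth proper integral curve over an algebraically closed field (any characteristic), let 0 → L
→ E → M → 0 be a short exact sequence of O_X-modules with E finite locally free of rank 2 and degree
0, L and M invertible and deg L > 0 (so M is det E ⊗ L⁻¹). Then: every invertible sheaf N admitting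
a non-zero map N → E has deg N ≤ deg L, so L is the line bundle of maximal degree in E; every
invertible subsheaf N of E of positive degree with invertible quotient E/N coincides with L (some
isomorphism N ≅ L commutes with the inclusions); and E is not an extension of two invertible sheaves
of degree 0. Degrees are χ(−) minus rank times χ(O_X). (The published lemma is stated on a curve of
genus 2 in characteristic p; its argument uses neither, and this row assumes neither.) -/
theorem result (k : Type u) [Field k] [IsAlgClosed k] (X : Scheme.{u}) [X.Over (Spec (CommRingCat.of k))]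
    [IsIntegral X] [IsProper (X ↘ Spec (CommRingCat.of k))] [Smooth (X ↘ Spec (CommRingCat.of k))]
    (hdim : topologicalKrullDim X = 1)
    (S : ShortComplex X.Modules) (hS : S.ShortExact)
    (hE : FlatMod.IsFinLocFreeOfRank 2 S.X₂) (hE0 : Curv2.deg k X S.X₂ 2 = 0)
    (hL : PicF.IsInvertible S.X₁) (hM : PicF.IsInvertible S.X₃) (hpos : 0 < Curv2.deg k X S.X₁ 1) :
    (∀ (N : X.Modules), PicF.IsInvertible N → ∀ j : N ⟶ S.X₂, j ≠ 0 →
        Curv2.deg k X N 1 ≤ Curv2.deg k X S.X₁ 1) ∧
    (∀ (N : X.Modules), PicF.IsInvertible N → ∀ (j : N ⟶ S.X₂), Mono j →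
        PicF.IsInvertible (cokernel j) → 0 < Curv2.deg k X N 1 → ∃ φ : N ≅ S.X₁, φ.hom ≫ S.f = j) ∧
    (∀ (N N' : X.Modules), PicF.IsInvertible N → PicF.IsInvertible N' →
        Curv2.deg k X N 1 = 0 → Curv2.deg k X N' 1 = 0 →
        ∀ (a : N ⟶ S.X₂) (b : S.X₂ ⟶ N') (w : a ≫ b = 0), ¬ (ShortComplex.mk a b w).ShortExact) := by
  haveI := CurvLib.isNoetherian k (X := X)
  have hr : ∀ {P : X.Modules}, PicF.IsInvertible P → FlatMod.IsFinLocFreeOfRank 1 P := fun {P} h =>
    (CohCmpLib.invertible_iff_rank_one P).1 h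
  have hc : ∀ {P : X.Modules}, PicF.IsInvertible P → Coh.IsCoh P := fun h => CurvLib.isCoh_of_locFree (hr h)
  have hd : ∀ {P : X.Modules}, PicF.IsInvertible P → Curv2.deg k X P 1 = CurveVBLib.dg k P := fun h =>
    CurveVBLib.deg_eq_dg (k := k) (hr h)
  have hsum := CurveVBLib.dg_add (k := k) hS (hc hL) (CurvLib.isCoh_of_locFree hE) (hc hM)
  rw [CurveVBLib.deg_eq_dg (k := k) hE] at hE0
  rw [hd hL] at hpos
  haveI := hS.mono_f
  have key : ∀ {N : X.Modules}, PicF.IsInvertible N → ∀ j : N ⟶ S.X₂, j ≠ 0 →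
      (∃ φ : N ⟶ S.X₁, φ ≫ S.f = j ∧ Mono φ ∧ CurveVBLib.dg k N ≤ CurveVBLib.dg k S.X₁ ∧
        (CurveVBLib.dg k N = CurveVBLib.dg k S.X₁ → IsIso φ)) ∨ CurveVBLib.dg k N < 0 := by
    intro N hN j hj
    by_cases h : j ≫ S.g = 0
    · left
      let φ : N ⟶ S.X₁ := hS.exact.lift j h
      have hφ : φ ≫ S.f = j := hS.exact.lift_f j h
      haveI : Mono φ := CurveVBLib.mono_of_line (k := k) hdim (hr hN) (hr hL) (fun h0 => hj (by rw [← hφ, h0, zero_comp]))
      exact ⟨φ, hφ, inferInstance, CurveVBLib.dg_le_of_mono (k := k) hdim (hc hN) (CurveVBLib.genRank_eq (hr hN))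
        (hr hL) φ⟩
    · right
      haveI : Mono (j ≫ S.g) := CurveVBLib.mono_of_line (k := k) hdim (hr hN) (hr hM) h
      have := (CurveVBLib.dg_le_of_mono (k := k) hdim (hc hN) (CurveVBLib.genRank_eq (hr hN)) (hr hM) (j ≫ S.g)).1
      omega
  refine ⟨fun N hN j hj => ?_, fun N hN j hj hQ hNpos => ?_, fun N N' hN hN' hN0 hN0' a b w hT => ?_⟩
  · rw [hd hN, hd hL]
    rcases key hN j hj with ⟨φ, -, -, h, -⟩ | h <;> omega
  · rw [hd hN] at hNpos
    haveI := hj
    let T : ShortComplex X.Modules := ShortComplex.mk j (cokernel.π j) (cokernel.condition j)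
    have hT : T.ShortExact :=
      { exact := ShortComplex.exact_of_g_is_cokernel _ (cokernelIsCokernel j)
        mono_f := hj
        epi_g := inferInstanceAs (Epi (cokernel.π j)) }
    have hsum' : CurveVBLib.dg k S.X₂ = CurveVBLib.dg k N + CurveVBLib.dg k (cokernel j) :=
      CurveVBLib.dg_add (k := k) hT (hc hN) (CurvLib.isCoh_of_locFree hE) (hc hQ)
    have hne : j ≠ 0 := fun h0 => by
      have hz : IsZero N := (IsZero.iff_id_eq_zero N).2 (by rw [← cancel_mono j, h0, comp_zero, comp_zero])
      rw [CurveVBLib.dg_of_isZero (k := k) hz] at hNpos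
      exact lt_irrefl 0 hNpos
    rcases key hN j hne with ⟨φ, hφ, hmono, hle, hiso⟩ | h
    · -- `S.f` composed to the quotient kills, as a nonzero map between line bundles lowers degree
      have hz : S.f ≫ cokernel.π j = 0 := by
        by_contra hne'
        haveI := CurveVBLib.mono_of_line (k := k) hdim (hr hL) (hr hQ) hne'
        have := (CurveVBLib.dg_le_of_mono (k := k) hdim (hc hL) (CurveVBLib.genRank_eq (hr hL)) (hr hQ)
          (S.f ≫ cokernel.π j)).1
        omega
      let ψ : S.X₁ ⟶ N := hT.exact.lift S.f hz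
      have hψ : ψ ≫ j = S.f := hT.exact.lift_f S.f hz
      refine ⟨⟨φ, ψ, ?_, ?_⟩, hφ⟩
      · rw [← cancel_mono j, Category.assoc, hψ, hφ, Category.id_comp]
      · rw [← cancel_mono S.f, Category.assoc, hφ, hψ, Category.id_comp]
    · omega
  · rw [hd hN] at hN0
    rw [hd hN'] at hN0'
    haveI : Mono a := hT.mono_f
    by_cases h : S.f ≫ b = 0
    · let ψ : S.X₁ ⟶ N := hT.exact.lift S.f h
      have hψ : ψ ≫ a = S.f := hT.exact.lift_f S.f h
      haveI : Mono ψ := mono_of_mono_fac hψ
      have := (CurveVBLib.dg_le_of_mono (k := k) hdim (hc hL) (CurveVBLib.genRank_eq (hr hL)) (hr hN) ψ).1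
      omega
    · haveI := CurveVBLib.mono_of_line (k := k) hdim (hr hL) (hr hN') h
      have := (CurveVBLib.dg_le_of_mono (k := k) hdim (hc hL) (CurveVBLib.genRank_eq (hr hL)) (hr hN') (S.f ≫ b)).1
      omega

end Groth.Agent.S13934
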