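import Groth.Statements.S13935
import Groth.Agent.InsepLimLib.Main

set_option autoImplicit false
universe u
open W4c1limliniiii

namespace Groth.Agent.S13935

open Polynomial in
/-- Let A be a discrete valuation ring of prime characteristic p containing a coefficient field — a
subfield k₀ ⊆ A mapping isomorphically onto the residue field k, which is algebraically closed —
with fraction field K. Let F, G ∈ A[x] have degree at most d and k-linearly independent reductions,
so that ⟨F, G⟩ is a family of pencils over Spec A; suppose F and G are coprime over K and the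
generic member ⟨F, G⟩ ⊗ K is a base-point-free separable pencil of degree d with ramification index
exactly e_i at points P_1, …, P_n ∈ A of the affine line (admissible data: 2 ≤ e_i ≤ d, ∑ (e_i − 1)
= 2d − 2, and every e_i < p), while its special member ⟨F̄, Ḡ⟩ over k is inseparable. If the
reductions P̄_i ∈ k are pairwise distinct, then they are in special position in the following sense:
for some integer m ≥ 1 with mp ≤ d and some ε ∈ {0, 1} there is a base-point-free separable pencil
over k of degree d + mp − 1 + ε with ramification index exactly e_i at P̄_i for each i and exactly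
2mp − 1 + 2ε at infinity. (The companion case in which two of the sections meet in the special fibre
is not restated.) -/
theorem result
    (p : ℕ) [Fact p.Prime] (k₀ : Type u) [Field k₀]
    (A : Type u) [CommRing A] [IsDomain A] [IsDiscreteValuationRing A] [CharP A p] [Algebra k₀ A]
    (hcoef : Function.Bijective (algebraMap k₀ (IsLocalRing.ResidueField A)))
    [IsAlgClosed (IsLocalRing.ResidueField A)]
    (K : Type u) [Field K] [Algebra A K] [IsFractionRing A K]
    (d n : ℕ) (e : Fin n → ℕ) (he : W4c1limliniiii.Admissible p d e) (hlt : ∀ i, e i < p)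
    (P : Fin n → A) (F G : A[X]) (hF : F.natDegree ≤ d) (hG : G.natDegree ≤ d)
    (hind : LinearIndependent (IsLocalRing.ResidueField A)
      ![F.map (IsLocalRing.residue A), G.map (IsLocalRing.residue A)])
    (hcop : IsCoprime (F.map (algebraMap A K)) (G.map (algebraMap A K)))
    (hgen : Submodule.span K {F.map (algebraMap A K), G.map (algebraMap A K)} ∈
      W4c1limliniiii.ramMaps d (fun i => algebraMap A K (P i)) e)
    (hinsep : ¬ W4c1limliniiii.IsSeparable
      (Submodule.span (IsLocalRing.ResidueField A)
        {F.map (IsLocalRing.residue A), G.map (IsLocalRing.residue A)}))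
    (hdist : Function.Injective (fun i => IsLocalRing.residue A (P i))) :
    ∃ m ε : ℕ, 1 ≤ m ∧ m * p ≤ d ∧ ε ≤ 1 ∧
      ∃ V ∈ W4c1limliniiii.ramMaps (d + m * p - 1 + ε) (fun i => IsLocalRing.residue A (P i)) e,
        W4c1limliniiii.HasRamIdxInf (d + m * p - 1 + ε) V (2 * m * p - 1 + 2 * ε) := by
  classical
  obtain ⟨he, hsum⟩ := he
  have he2 : ∀ i, 2 ≤ e i := fun i => (he i).1
  have hd : 1 ≤ d := RamMapLib.Data.one_le (e := e) hsum fun i => (he2 i).trans' one_le_two
  let k := IsLocalRing.ResidueField A
  let π := IsLocalRing.residue A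
  let ι := algebraMap A K
  have hι : Function.Injective ι := IsFractionRing.injective A K
  haveI : CharP k p := by
    refine (CharP.charP_iff_prime_eq_zero Fact.out).2 ?_
    rw [← map_natCast π, CharP.cast_eq_zero, map_zero]
  haveI : CharP K p := charP_of_injective_algebraMap hι p
  obtain ⟨⟨hle, -, ⟨s₁, hs₁, hs₁d⟩, -⟩, hsep, hram⟩ := hgen
  have hPk : Function.Injective fun i => ι (P i) := fun i j h => hdist (congrArg π (hι h))
  obtain ⟨H, F2, hH, hF2, hHd, hind', hspanK, hspank⟩ : ∃ H F2 : A[X], H.natDegree ≤ d ∧ F2.natDegree ≤ d ∧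
      H.coeff d ≠ 0 ∧ LinearIndependent k ![H.map π, F2.map π] ∧
      Submodule.span K {H.map ι, F2.map ι} = Submodule.span K {F.map ι, G.map ι} ∧
      Submodule.span k {H.map π, F2.map π} = Submodule.span k {F.map π, G.map π} := by
    by_cases hFd : F.coeff d = 0
    · refine ⟨G, F, hG, hF, fun hGd => ?_, LinearIndependent.pair_symm_iff.1 hind, by rw [Set.pair_comm],
        by rw [Set.pair_comm]⟩
      obtain ⟨x, y, rfl⟩ := Submodule.mem_span_pair.1 hs₁
      have hne : x • F.map ι + y • G.map ι ≠ 0 := fun h => by
        rw [h, natDegree_zero] at hs₁d; omega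
      refine leadingCoeff_ne_zero.2 hne ?_
      rw [leadingCoeff, hs₁d, coeff_add, coeff_smul, coeff_smul, coeff_map, coeff_map, hFd, hGd, map_zero,
        smul_zero, smul_zero, add_zero]
    · exact ⟨F, G, hF, hG, hFd, hind, rfl, rfl⟩
  have hmemK : ∀ s ∈ Submodule.span K {F.map ι, G.map ι}, ∃ x y : K, C x * H.map ι + C y * F2.map ι = s :=
    fun s hs => by
      rw [← hspanK, Submodule.mem_span_pair] at hs
      obtain ⟨x, y, h⟩ := hs
      exact ⟨x, y, by rw [← smul_eq_C_mul, ← smul_eq_C_mul]; exact h⟩
  set HK := H.map ι with hHKdef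
  set FK := F2.map ι with hFKdef
  have hHKd : HK.natDegree ≤ d := natDegree_map_le.trans hH
  have hFKd : FK.natDegree ≤ d := natDegree_map_le.trans hF2
  have hHKcoeff : HK.coeff d ≠ 0 := by rw [hHKdef, coeff_map]; exact (map_ne_zero_iff _ hι).2 hHd
  have hHKdeg : HK.natDegree = d := le_antisymm hHKd (le_natDegree_of_ne_zero hHKcoeff)
  have hW0 : wronskian HK FK ≠ 0 := by
    obtain ⟨a, ha, b, hb, hab⟩ := hsep
    obtain ⟨x, y, rfl⟩ := hmemK a ha
    obtain ⟨z, w, rfl⟩ := hmemK b hb
    intro h
    exact hab (by rw [InsepLimLib.wronskian_comb, h, mul_zero])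
  have hs : ∀ i, ∃ (x y : K) (s : K[X]), (x ≠ 0 ∨ y ≠ 0) ∧ C x * HK + C y * FK = s ∧
      (X - C (ι (P i))) ^ e i ∣ s := fun i => by
    obtain ⟨⟨s, hs, hs0, hse⟩, -⟩ := hram i
    obtain ⟨x, y, hxy⟩ := hmemK s hs
    refine ⟨x, y, s, ?_, hxy, (Polynomial.le_rootMultiplicity_iff hs0).1 hse⟩
    by_contra h
    simp only [not_or, not_not] at h
    exact hs0 (by rw [← hxy, h.1, h.2]; simp)
  let RA : A[X] := ∏ i, (X - C (P i)) ^ (e i - 1)
  let RK : K[X] := ∏ i, (X - C (ι (P i))) ^ (e i - 1)
  have hRA : RA.map ι = RK := by simp [RA, RK, Polynomial.map_prod]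
  have hRk : RA.map π = ∏ i, (X - C (π (P i))) ^ (e i - 1) := by simp [RA, Polynomial.map_prod]
  have hRKd : RK.natDegree = 2 * d - 2 :=
    InsepLimLib.natDegree_ram (fun i => (he2 i).trans' one_le_two) hsum
  obtain ⟨q, hq⟩ : RK ∣ wronskian HK FK := by
    refine Fintype.prod_dvd_of_coprime (fun i j hij => (Polynomial.pairwise_coprime_X_sub_C hPk hij).pow) fun i => ?_
    obtain ⟨x, y, s, hxy, rfl, hdiv⟩ := hs i
    rcases hxy with hx | hy
    · have h1 := RamMapLib.pow_pred_dvd_wronskian_left (r := C (0 : K) * HK + C 1 * FK) hdiv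
      rw [InsepLimLib.wronskian_comb, mul_one, mul_zero, sub_zero] at h1
      exact (IsUnit.dvd_mul_left (isUnit_C.2 (Ne.isUnit hx))).1 h1
    · have h1 := RamMapLib.pow_pred_dvd_wronskian_left (r := C (1 : K) * HK + C 0 * FK) hdiv
      rw [InsepLimLib.wronskian_comb, mul_one, mul_zero, zero_sub] at h1
      exact (IsUnit.dvd_mul_left (isUnit_C.2 (Ne.isUnit (neg_ne_zero.2 hy)))).1 h1
  have hq0 : q ≠ 0 := fun h => hW0 (by rw [hq, h, mul_zero])
  have hqC : q = C (q.coeff 0) := by
    refine eq_C_of_natDegree_eq_zero ?_
    have h1 := RamMapLib.natDegree_wronskian_le hHKd hFKd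
    rw [hq, natDegree_mul InsepLimLib.ram_ne_zero hq0, hRKd] at h1
    omega
  set c := q.coeff 0
  have hc : c ≠ 0 := fun h => hq0 (by rw [hqC, h, map_zero])
  have hWc : wronskian HK FK = C c * RK := by rw [hq, hqC, mul_comm]
  let B : K[X] → K[X] → K[X] := fun f g =>
    derivative g * derivative (derivative f) - derivative (derivative g) * derivative f
  let SK := C c⁻¹ * B HK FK
  have hWd : derivative (wronskian HK FK) =
      HK * derivative (derivative FK) - derivative (derivative HK) * FK := by
    simp only [wronskian, derivative_sub, derivative_mul]; ring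
  have heqK : RK * derivative (derivative HK) - derivative RK * derivative HK = SK * HK := by
    rw [hWc, derivative_C_mul] at hWd
    rw [wronskian] at hWc
    have hcc : C c⁻¹ * C c = (1 : K[X]) := by rw [← map_mul, inv_mul_cancel₀ hc, map_one]
    simp only [SK, B]
    linear_combination -(C c⁻¹ * derivative HK) * hWd - (C c⁻¹ * derivative (derivative HK)) * hWc
      - (RK * derivative (derivative HK) - derivative RK * derivative HK) * hcc
  have hSKdvd : ∀ i, (X - C (ι (P i))) ^ (e i - 2) ∣ SK := fun i => by
    obtain ⟨x, y, s, hxy, hse, hdiv⟩ := hs i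
    have h1 : (X - C (ι (P i))) ^ (e i - 1) ∣ derivative s := Polynomial.pow_sub_one_dvd_derivative_of_pow_dvd hdiv
    have h2 : (X - C (ι (P i))) ^ (e i - 2) ∣ derivative (derivative s) := by
      have := Polynomial.pow_sub_one_dvd_derivative_of_pow_dvd h1
      rwa [Nat.sub_sub] at this
    have h1' := (pow_dvd_pow _ (show e i - 2 ≤ e i - 1 by omega)).trans h1
    subst hse
    simp only [derivative_add, derivative_C_mul] at h1' h2
    rcases hxy with hx | hy
    · have h3 : (X - C (ι (P i))) ^ (e i - 2) ∣ C x * B HK FK := by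
        have := dvd_sub (h2.mul_left (derivative FK)) (h1'.mul_left (derivative (derivative FK)))
        refine this.trans (dvd_of_eq ?_)
        simp only [B]; ring
      exact ((IsUnit.dvd_mul_left (isUnit_C.2 (Ne.isUnit hx))).1 h3).mul_left _
    · have h3 : (X - C (ι (P i))) ^ (e i - 2) ∣ C y * B HK FK := by
        have := dvd_sub (h1'.mul_left (derivative (derivative HK))) (h2.mul_left (derivative HK))
        refine this.trans (dvd_of_eq ?_)
        simp only [B]; ring
      exact ((IsUnit.dvd_mul_left (isUnit_C.2 (Ne.isUnit hy))).1 h3).mul_left _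
  have hHπ : H.map π ≠ 0 := hind'.ne_zero 0
  have hprim : H.IsPrimitive := fun r hr => by
    by_contra hu
    obtain ⟨H', hH'⟩ := hr
    exact hHπ (by rw [hH', Polynomial.map_mul, map_C, (IsLocalRing.residue_eq_zero_iff r).2 hu, map_zero, zero_mul])
  obtain ⟨SA, hSA⟩ := hprim.dvd_of_fraction_map_dvd_fraction_map
    (K := K) (q := RA * derivative (derivative H) - derivative RA * derivative H) ⟨SK, by
      rw [Polynomial.map_sub, Polynomial.map_mul, Polynomial.map_mul, ← derivative_map, ← derivative_map,
        ← derivative_map, hRA]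
      rw [mul_comm _ SK]
      exact heqK⟩
  have hSAK : SA.map ι = SK := by
    have h1 := congrArg (Polynomial.map ι) hSA
    rw [Polynomial.map_sub, Polynomial.map_mul, Polynomial.map_mul, Polynomial.map_mul, ← derivative_map,
      ← derivative_map, ← derivative_map, hRA, heqK, mul_comm SK] at h1
    exact (mul_left_cancel₀ (fun h => hHKcoeff (by rw [h, coeff_zero])) h1).symm
  have hSKd : SK.natDegree ≤ 2 * d - 4 := by
    by_cases hS0 : SK = 0
    · simp [hS0]
    have h1 : (RK * derivative (derivative HK) - derivative RK * derivative HK).natDegree ≤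
        2 * d - 2 + d - 2 := by
      have a1 := natDegree_derivative_le HK
      have a2 := natDegree_derivative_le (derivative HK)
      have a3 := natDegree_derivative_le RK
      by_cases hd2 : 2 ≤ d
      · refine (natDegree_sub_le _ _).trans (max_le (natDegree_mul_le.trans ?_) (natDegree_mul_le.trans ?_))
        · omega
        · omega
      · have hd1 : d = 1 := by omega
        subst hd1
        have hR0 : derivative RK = 0 := by
          rw [eq_C_of_natDegree_eq_zero (show RK.natDegree = 0 by omega), derivative_C]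
        have hH2 : derivative (derivative HK) = 0 := by
          rw [eq_C_of_natDegree_eq_zero (show (derivative HK).natDegree = 0 by omega), derivative_C]
        rw [hR0, hH2]
        simp
    rw [heqK, natDegree_mul hS0 (fun h => hHKcoeff (by rw [h, coeff_zero])), hHKdeg] at h1
    omega
  have hSAd : SA.natDegree ≤ 2 * d - 4 := by rw [← natDegree_map_eq_of_injective hι, hSAK]; exact hSKd
  refine InsepLimLib.exists_new_pencil p (H := H.map π) (F2 := F2.map π) (S := SA.map π) hdist he2 hlt hsum
    (natDegree_map_le.trans hH) (natDegree_map_le.trans hF2) (fun x y h => ?_) ?_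
    (natDegree_map_le.trans hSAd) ?_ (fun i => ?_) (fun hd2 => ?_) ?_
  · refine LinearIndependent.pair_iff.1 hind' x y ?_
    rw [smul_eq_C_mul, smul_eq_C_mul]
    exact h
  · by_contra h
    apply hinsep
    rw [← hspank]
    exact ⟨_, Submodule.subset_span (Set.mem_insert _ _), _, Submodule.subset_span (Set.mem_insert_of_mem _ rfl), h⟩
  · rw [← hRk, derivative_map, derivative_map, derivative_map, ← Polynomial.map_mul, ← Polynomial.map_mul,
      ← Polynomial.map_sub, hSA, Polynomial.map_mul, mul_comm]
  · have h1 : (X - C (P i)) ^ (e i - 2) ∣ SA := by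
      rw [← map_dvd_map ι hι ((monic_X_sub_C _).pow _), hSAK, Polynomial.map_pow, Polynomial.map_sub, map_X, map_C]
      exact hSKdvd i
    have h2 := Polynomial.map_dvd π h1
    rwa [Polynomial.map_pow, Polynomial.map_sub, map_X, map_C] at h2
  · have h1 := InsepLimLib.coeff_infinity (R := RK) (H := HK) (S := SK) (N := 2 * d - 2) (by omega) hRKd.le
      (by rw [← hRKd]; exact (monic_prod_of_monic _ _ fun i _ => (monic_X_sub_C _).pow _))
      (by omega) (fun h => hHKcoeff (by rw [h, coeff_zero])) heqK
    rw [show 2 * d - 2 - 2 = 2 * d - 4 by omega, hHKdeg] at h1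
    have h2 : SA.coeff (2 * d - 4) = (d : A) * ((d : A) - 1) - ((2 * d - 2 : ℕ) : A) * d := hι (by
      rw [← coeff_map, hSAK, h1, map_sub, map_mul, map_mul, map_sub, map_one, map_natCast, map_natCast])
    rw [coeff_map, h2, map_sub, map_mul, map_mul, map_sub, map_one, map_natCast, map_natCast]
  · intro m hm
    rw [← hRk, ← Polynomial.map_pow, ← Polynomial.map_mul, coeff_map]
    suffices h0 : (RA * H ^ (p - 2)).coeff m = 0 by rw [h0, map_zero]
    refine hι ?_
    rw [map_zero, ← coeff_map, Polynomial.map_mul, Polynomial.map_pow, hRA]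
    have hp := Nat.Prime.two_le (Fact.out : p.Prime)
    have h1 : derivative (FK * HK ^ (p - 1)) = C c * (RK * HK ^ (p - 2)) := by
      have h2 : (C ((p - 1 : ℕ) : K) : K[X]) = -1 := by
        rw [Nat.cast_sub (by omega), CharP.cast_eq_zero, Nat.cast_one, zero_sub, map_neg, map_one]
      have h3 : HK ^ (p - 1) = HK ^ (p - 2) * HK := by rw [← pow_succ, show p - 2 + 1 = p - 1 by omega]
      rw [wronskian] at hWc
      rw [derivative_mul, derivative_pow, h2, show p - 1 - 1 = p - 2 by omega, h3]
      linear_combination HK ^ (p - 2) * hWc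
    have h4 := InsepLimLib.exact_derivative p (FK * HK ^ (p - 1)) m hm
    rw [h1, coeff_C_mul] at h4
    exact (mul_eq_zero.1 h4).resolve_left hc

end Groth.Agent.S13935
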