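import Groth.Statements.S13936
import Mathlib
-- import your own Groth.Agent.* helpers here

set_option autoImplicit false
universe u
open W4c1limliniiii

open scoped TensorProduct
namespace Groth.Agent.S13936

/-- Let R be a commutative ring, S_Y → S_X a homomorphism of R-algebras (an affine piece of a morphism f
: X → Y of schemes over Spec R) and σ : S_X → R an R-algebra retraction (a section of X over the
base) with kernel I. For e ≥ 1 write T^{e−1} for the augmentation ideal of the ring of principal
parts of order e − 1 (the kernel of P^{e−1} → the algebra; for e = 2 this is the module of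
differentials). Then the natural map T^{e−1}(S_Y/R) → T^{e−1}(S_X/R) takes values in I ·
T^{e−1}(S_X/R) — that is, the induced map f^*T^{e−1}_Y → T^{e−1}_X vanishes at the section σ — if
and only if every element of S_Y whose image in S_X lies in I has image in I^e, which says that the
fibre of f through σ contains the e-th order thickening of σ. (The published statement is for a
morphism of separated schemes over a base and sections over an arbitrary base change; this row is
the affine computation it reduces to.) -/
theorem result (R SY SX : Type u)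
    [CommRing R] [CommRing SY] [CommRing SX] [Algebra R SY] [Algebra R SX] [Algebra SY SX]
    [IsScalarTower R SY SX] (σ : SX →ₐ[R] R) (e : ℕ) (he : 1 ≤ e) :
    (∀ y ∈ PP16.augIdeal (e - 1) R SY,
        PP16.map (e - 1) R SY R SX y ∈
          RingHom.ker σ.toRingHom • (PP16.augIdeal (e - 1) R SX).restrictScalars SX) ↔
      (∀ b : SY, algebraMap SY SX b ∈ RingHom.ker σ.toRingHom →
        algebraMap SY SX b ∈ RingHom.ker σ.toRingHom ^ e) := by
  classical
  obtain ⟨n, rfl⟩ : ∃ n, e = n + 1 := ⟨e - 1, by omega⟩
  rw [show n + 1 - 1 = n from rfl]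
  set I := RingHom.ker σ.toRingHom with hI
  let T := PP16.augIdeal n R SX
  let ι := algebraMap SX (PP16.P n R SX)
  let δ : SX → PP16.P n R SX := fun c => PP16.dn n R SX c - ι c
  have hmk : ∀ (S : Type u) [CommRing S] [Algebra R S] (c : S), Ideal.Quotient.mk ((KaehlerDifferential.ideal R S) ^ (n + 1))
      ((1 : S) ⊗ₜ[R] c - c ⊗ₜ[R] (1 : S)) = PP16.dn n R S c - algebraMap S (PP16.P n R S) c := fun S _ _ c => rfl
  have hδT : ∀ c, δ c ∈ T := fun c => by
    show PP16.dn n R SX c - algebraMap SX (PP16.P n R SX) c ∈ T
    rw [← hmk]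
    exact Ideal.mem_map_of_mem _ (KaehlerDifferential.one_smul_sub_smul_one_mem_ideal R c)
  set IT : Submodule SX (PP16.P n R SX) := I • T.restrictScalars SX with hIT
  let J : Ideal (PP16.P n R SX) :=
    { carrier := IT
      add_mem' := fun {a b} ha hb => IT.add_mem ha hb
      zero_mem' := IT.zero_mem
      smul_mem' := by
        intro u v hv
        show u * v ∈ IT
        refine Submodule.smul_induction_on (p := fun v => u * v ∈ IT) hv ?_ ?_
        · intro i hi t ht
          rw [mul_smul_comm]
          exact Submodule.smul_mem_smul hi (T.mul_mem_left u ht)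
        · intro a b ha hb
          rw [mul_add]
          exact add_mem ha hb }
  have hιJ : ∀ i ∈ I, ∀ t ∈ T, ι i * t ∈ J := by
    intro i hi t ht
    show ι i * t ∈ IT
    rw [← Algebra.smul_def]
    exact Submodule.smul_mem_smul hi ht
  have hT : T ^ (n + 1) = ⊥ := by
    show (PP16.augIdeal n R SX) ^ (n + 1) = ⊥
    rw [PP16.augIdeal, ← Ideal.map_pow, Ideal.map_quotient_self]
  have hδmul : ∀ a b, δ (a * b) = ι a * δ b + ι b * δ a + δ a * δ b := by
    intro a b
    simp only [δ, map_mul]
    ring
  have hδadd : ∀ a b, δ (a + b) = δ a + δ b := by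
    intro a b
    simp only [δ, map_add]
    ring
  have hclaim : ∀ m, ∀ c ∈ I ^ m, δ c ∈ J ⊔ T ^ m := by
    intro m
    induction m with
    | zero => intro c _; exact Ideal.mem_sup_right (by simp)
    | succ m ih =>
      intro c hc
      rw [pow_succ] at hc
      refine Submodule.mul_induction_on (C := fun c => δ c ∈ J ⊔ T ^ (m + 1)) hc ?_ ?_
      · intro a ha b hb
        rw [hδmul]
        refine add_mem (add_mem ?_ (Ideal.mem_sup_left (hιJ b hb _ (hδT a)))) ?_
        · rcases Nat.eq_zero_or_pos m with rfl | hm
          · exact Ideal.mem_sup_right (by simpa using T.mul_mem_left (ι a) (hδT b))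
          · exact Ideal.mem_sup_left (hιJ a (Ideal.pow_le_self (by omega) ha) _ (hδT b))
        · obtain ⟨x, hx, y, hy, hxy⟩ := Submodule.mem_sup.mp (ih a ha)
          rw [← hxy, add_mul, pow_succ T m]
          exact add_mem (Ideal.mem_sup_left (J.mul_mem_right _ hx)) (Ideal.mem_sup_right (Ideal.mul_mem_mul hy (hδT b)))
      · intro a b ha hb
        rw [hδadd]
        exact add_mem ha hb
  have hmapgen : ∀ s : SY, PP16.map n R SY R SX
      (Ideal.Quotient.mk ((KaehlerDifferential.ideal R SY) ^ (n + 1)) ((1 : SY) ⊗ₜ[R] s - s ⊗ₜ[R] (1 : SY))) =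
        δ (algebraMap SY SX s) := by
    intro s
    rw [hmk, map_sub, PP16.map_dn, PP16.map_algebraMap]
  constructor
  · intro h b hb
    let Ψ₀ : SX ⊗[R] SX →ₐ[R] SX :=
      Algebra.TensorProduct.lift ((Algebra.ofId R SX).comp σ) (AlgHom.id R SX) (fun _ _ => Commute.all _ _)
    let q := Ideal.Quotient.mkₐ R (I ^ (n + 1))
    have hker : ∀ x ∈ KaehlerDifferential.ideal R SX, Ψ₀ x ∈ I := by
      intro x hx
      have hle : KaehlerDifferential.ideal R SX ≤ I.comap Ψ₀ := by
        rw [← KaehlerDifferential.span_range_eq_ideal, Ideal.span_le]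
        rintro _ ⟨s, rfl⟩
        show Ψ₀ _ ∈ I
        rw [RingHom.mem_ker]
        show σ _ = 0
        simp [Ψ₀]
      exact hle hx
    let Ψ : PP16.P n R SX →ₐ[R] (SX ⧸ I ^ (n + 1)) :=
      Ideal.Quotient.liftₐ _ (q.comp Ψ₀) (fun x hx => by
        show Ideal.Quotient.mk (I ^ (n + 1)) (Ψ₀ x) = 0
        rw [Ideal.Quotient.eq_zero_iff_mem]
        have hle : (KaehlerDifferential.ideal R SX).map Ψ₀ ≤ I := Ideal.map_le_iff_le_comap.mpr hker
        have h2 := Ideal.pow_right_mono hle (n + 1)
        rw [← Ideal.map_pow] at h2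
        exact h2 (Ideal.mem_map_of_mem _ hx))
    have hb0 : σ (algebraMap SY SX b) = 0 := hb
    have hΨι : ∀ i, Ψ (ι i) = q (algebraMap R SX (σ i)) := by
      intro i
      show q (Ψ₀ (i ⊗ₜ[R] (1 : SX))) = _
      simp [Ψ₀]
    have hΨdn : ∀ c, Ψ (PP16.dn n R SX c) = q c := by
      intro c
      show q (Ψ₀ ((1 : SX) ⊗ₜ[R] c)) = _
      simp [Ψ₀]
    have hΨJ : ∀ z ∈ IT, Ψ z = 0 := by
      intro z hz
      refine Submodule.smul_induction_on (p := fun z => Ψ z = 0) hz ?_ ?_
      · intro i hi t _
        rw [Algebra.smul_def, map_mul, hΨι, show σ i = 0 from hi, map_zero, map_zero, zero_mul]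
      · intro x y hx hy
        rw [map_add, hx, hy, add_zero]
    have h1 := h _ (Ideal.mem_map_of_mem _ (KaehlerDifferential.one_smul_sub_smul_one_mem_ideal R b))
    rw [hmapgen] at h1
    have h2 := hΨJ _ h1
    simp only [δ, map_sub, hΨι, hΨdn, hb0, map_zero, sub_zero] at h2
    exact Ideal.Quotient.eq_zero_iff_mem.mp h2
  · intro h y hy
    have hle : PP16.augIdeal n R SY ≤ J.comap (PP16.map n R SY R SX) := by
      refine Ideal.map_le_iff_le_comap.mpr (le_of_eq_of_le (KaehlerDifferential.span_range_eq_ideal R SY).symm (Ideal.span_le.mpr ?_))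
      rintro _ ⟨s, rfl⟩
      show PP16.map n R SY R SX (Ideal.Quotient.mk _ _) ∈ J
      rw [hmapgen]
      let r := σ (algebraMap SY SX s)
      have hc : algebraMap SY SX (s - algebraMap R SY r) ∈ I := by
        rw [map_sub, ← IsScalarTower.algebraMap_apply]
        show σ _ = 0
        simp [r]
      have hr : δ (algebraMap R SX r) = 0 := by
        simp only [δ, ι]
        rw [AlgHom.commutes, ← IsScalarTower.algebraMap_apply, sub_self]
      have heq : δ (algebraMap SY SX s) = δ (algebraMap SY SX (s - algebraMap R SY r)) := by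
        conv_lhs => rw [show algebraMap SY SX s = algebraMap SY SX (s - algebraMap R SY r) + algebraMap R SX r by
          rw [map_sub, ← IsScalarTower.algebraMap_apply, sub_add_cancel], hδadd, hr, add_zero]
      rw [heq]
      have := hclaim (n + 1) _ (h _ hc)
      rwa [hT, sup_bot_eq] at this
    exact hle hy

end Groth.Agent.S13936
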