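import Groth.Statements.S13951
import Groth.Agent.AlgSpLib.ReducedSmooth
-- import your own Groth.Agent.* helpers here

set_option autoImplicit false
universe u
open TateLoc

namespace Groth.Agent.S13951
open CategoryTheory.Limits
open CategoryTheory AlgebraicGeometry in
/-- Field-valued points over a section whose fibres are connected and finite lie on the section. -/
theorem eq_section_of_connectedFibres {S I : Scheme.{u}} (h : I ⟶ S) [IsFinite h] (e : S ⟶ I) (he : e ≫ h = 𝟙 S)
    (hconn : ∀ s : S, ConnectedSpace ↥(h.fiber s)) (K : Type u) [Field K] (y : Spec (CommRingCat.of K) ⟶ I) :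
    y = (y ≫ h) ≫ e := by
  haveI : IsClosedImmersion (e ≫ h) := by rw [he]; infer_instance
  haveI : IsClosedImmersion e := IsClosedImmersion.of_comp e h
  obtain ⟨⟨z, φ⟩, rfl⟩ := (Scheme.SpecToEquivOfField K I).symm.surjective y
  show Spec.map φ ≫ I.fromSpecResidueField z = (((Spec.map φ ≫ I.fromSpecResidueField z) ≫ h) ≫ e : _)
  haveI := hconn (h z)
  haveI : Finite (h.fiber (h z) : Scheme.{u}) := inferInstance
  haveI : DiscreteTopology (h.fiber (h z) : Scheme.{u}) := inferInstance
  haveI : Subsingleton (h.fiber (h z) : Scheme.{u}) := PreconnectedSpace.trivial_of_discrete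
  have hez : h (e (h z)) = h z := by rw [← Scheme.Hom.comp_apply, he]; rfl
  have hz : e (h z) = z := by
    have h1 := congrArg (h.fiberι (h z)) (Subsingleton.elim ((h.fiberHomeo (h z)).symm ⟨e (h z), hez⟩)
      ((h.fiberHomeo (h z)).symm ⟨z, rfl⟩))
    rwa [Scheme.Hom.fiberι_fiberHomeo_symm, Scheme.Hom.fiberι_fiberHomeo_symm] at h1
  suffices hh : I.fromSpecResidueField z = (I.fromSpecResidueField z ≫ h) ≫ e by
    rw [Category.assoc, Category.assoc]
    rw [Category.assoc] at hh
    rw [← hh]
  generalize hsdef : h z = s at hz
  subst hz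
  have hsurj : Function.Surjective (e.residueFieldMap s) := by
    intro a
    obtain ⟨b, rfl⟩ := IsLocalRing.residue_surjective a
    obtain ⟨c, rfl⟩ := e.stalkMap_surjective s b
    exact ⟨I.residue _ c, ConcreteCategory.congr_hom (Scheme.residue_residueFieldMap e s) c⟩
  haveI : IsIso (e.residueFieldMap s) :=
    (ConcreteCategory.isIso_iff_bijective _).2 ⟨(e.residueFieldMap s).hom.injective, hsurj⟩
  rw [← cancel_epi (Spec.map (e.residueFieldMap s))]
  rw [← Category.assoc, ← Category.assoc, Scheme.Hom.SpecMap_residueFieldMap_fromSpecResidueField]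
  simp only [Category.assoc, reassoc_of% he]


open CategoryTheory AlgebraicGeometry CategoryTheory.Limits in
/-- Let S be a reduced scheme and I a finite locally free commutative S-group scheme (finite, flat, of
finite presentation) whose fibres over all points of S are connected. Then the restriction of the
sheaf of points of I from the big fppf site of S to the small etale site of S is the zero sheaf. -/
theorem result (S : Scheme.{u}) [IsReduced S]
    (I : Over S) [GrpObj I] [IsCommMonObj I] [IsFinite I.hom] [Flat I.hom] [LocallyOfFinitePresentation I.hom]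
    (hconn : ∀ s : S, ConnectedSpace ↥(I.hom.fiber s)) :
    IsZero ((BigSite.resEt Scheme.fppfPrecoverage S).obj (CGrpSh.pts Scheme.fppfPrecoverage I)) := by
  refine IsZero.iff_id_eq_zero _ |>.2 (Sheaf.hom_ext (NatTrans.ext (funext fun U => AddCommGrpCat.ext fun x => ?_)))
  show x = 0
  haveI hr : AlgebraicGeometry.IsReduced (Opposite.unop ((EtFppf.a S).op.obj U)).left := by
    let g : U.unop.left ⟶ S := U.unop.hom
    haveI : AlgebraicGeometry.Etale g := U.unop.prop
    haveI := (Etale.iff_smoothOfRelativeDimension_zero g).1 inferInstance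
    haveI : AlgebraicGeometry.Smooth g := SmoothOfRelativeDimension.smooth 0 g
    exact @AlgSpLib.isReduced_of_smooth _ _ g (by assumption) inferInstance
  refine ULift.ext _ _ (Additive.toMul.injective (Over.OverMorphism.ext ?_))
  refine ext_of_fromSpecResidueField_eq _ _ I.hom Set.univ dense_univ (fun v _ => ?_) (by rw [Over.w, Over.w])
  have key : ∀ y : ((EtFppf.a S).obj U.unop) ⟶ I, ((EtFppf.a S).obj U.unop).left.fromSpecResidueField v ≫ y.left =
      (((EtFppf.a S).obj U.unop).left.fromSpecResidueField v ≫ ((EtFppf.a S).obj U.unop).hom) ≫ (MonObj.one (X := I)).left := fun y => by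
    refine (eq_section_of_connectedFibres I.hom (MonObj.one (X := I)).left (Over.w (MonObj.one (X := I))) hconn _ _).trans ?_
    exact congrArg (· ≫ (MonObj.one (X := I)).left) ((Category.assoc _ _ _).trans (congrArg (fun k => _ ≫ k) (Over.w y)))
  exact (key _).trans (key _).symm


end Groth.Agent.S13951
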