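import Groth.Statements.S13953
import Mathlib.RingTheory.Spectrum.Prime.Topology
import Mathlib.RingTheory.LocalRing.MaximalIdeal.Basic
import Mathlib.RingTheory.Ideal.Span

set_option autoImplicit false
universe u
open TateLoc

namespace Groth.Agent.S13953

/-- Let (R_i) be a family of local commutative rings and R = ∏ R_i. Any open cover of Spec R can be
refined by one coming from a finite partition of the index set: there is a map c from the index set
to a finite set such that, for each value m, the basic open subset of Spec R defined by the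
idempotent which is 1 at the indices with c i = m and 0 elsewhere (this open is the spectrum of the
product of the R_i over that class) is contained in some member of the cover. -/
theorem result {ι : Type u} (R : ι → Type u)
    [∀ i, CommRing (R i)] [∀ i, IsLocalRing (R i)] {J : Type u}
    (U : J → TopologicalSpace.Opens (PrimeSpectrum (∀ i, R i))) (hU : ⨆ j, U j = ⊤) :
    ∃ (n : ℕ) (c : ι → Fin n), ∀ m : Fin n, ∃ j : J,
      PrimeSpectrum.basicOpen (fun i => if c i = m then (1 : R i) else 0) ≤ U j := by
  classical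
  let B : Set (∀ i, R i) := {f | ∃ j, PrimeSpectrum.basicOpen f ≤ U j}
  have hB : Ideal.span B = ⊤ := by
    by_contra hne
    obtain ⟨M, hM, hle⟩ := Ideal.exists_le_maximal _ hne
    let x : PrimeSpectrum (∀ i, R i) := ⟨M, hM.isPrime⟩
    have hx : x ∈ ⨆ j, U j := hU ▸ trivial
    obtain ⟨j, hj⟩ := TopologicalSpace.Opens.mem_iSup.1 hx
    obtain ⟨_, ⟨f, rfl⟩, hxf, hfU⟩ := PrimeSpectrum.isTopologicalBasis_basic_opens.exists_subset_of_mem_open hj (U j).2
    exact hxf (hle (Ideal.subset_span ⟨j, hfU⟩))
  obtain ⟨T, hTB, h1T⟩ := Submodule.mem_span_finite_of_mem_span (hB ▸ trivial : (1 : ∀ i, R i) ∈ Ideal.span B)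
  have hex : ∀ i, ∃ a : T, IsUnit ((a : ∀ i, R i) i) := fun i => by
    by_contra hne
    push_neg at hne
    have hle : Ideal.span (T : Set (∀ i, R i)) ≤ (IsLocalRing.maximalIdeal (R i)).comap (Pi.evalRingHom R i) :=
      Ideal.span_le.2 fun a ha => (IsLocalRing.mem_maximalIdeal _).2 (hne ⟨a, ha⟩)
    have := hle h1T
    rw [Ideal.mem_comap, map_one] at this
    exact (IsLocalRing.mem_maximalIdeal _).1 this isUnit_one
  choose a ha using hex
  let e := T.equivFin
  refine ⟨T.card, fun i => e (a i), fun m => ?_⟩
  obtain ⟨j, hj⟩ := hTB (e.symm m).2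
  refine ⟨j, le_trans ?_ hj⟩
  have : (fun i => if e (a i) = m then (1 : R i) else 0) =
      ((e.symm m : T) : ∀ i, R i) * fun i => if h : e (a i) = m then (((ha i).unit⁻¹ : (R i)ˣ) : R i) else 0 := by
    funext i
    by_cases h : e (a i) = m
    · rw [Pi.mul_apply, if_pos h, dif_pos h, ← h, Equiv.symm_apply_apply]
      exact (IsUnit.mul_val_inv (ha i)).symm
    · rw [Pi.mul_apply, if_neg h, dif_neg h, mul_zero]
  rw [this]
  exact PrimeSpectrum.basicOpen_mul_le_left _ _

end Groth.Agent.S13953
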