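import Groth.Statements.S13958
import Groth.Agent.ProfComplLib.Basic
import Mathlib


-- import your own Groth.Agent.* helpers here

set_option autoImplicit false
universe u
open TateLoc

namespace Groth.Agent.S13958

open CategoryTheory in
/-- Let A' be a finitely generated abelian group (written multiplicatively, discrete) and A a subgroup.
If the image of x ∈ A' in the profinite completion of A' lies in the image of the profinite
completion of A under the map induced by the inclusion, then x ∈ A. (The published statement says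
that the square formed by the two completion maps and the two inclusions is Cartesian; given the
injectivity of the induced map on completions, which holds here, that amounts to this membership
criterion.) -/
theorem result (A' : Type u) [CommGroup A'] [Group.FG A']
    (A : Subgroup A') (x : A')
    (hx : ProfiniteGrp.ProfiniteCompletion.etaFn (GrpCat.of A') x ∈
      Set.range ⇑(ProfiniteGrp.profiniteCompletion.map (GrpCat.ofHom A.subtype)).hom) :
    x ∈ A := by
  classical
  obtain ⟨z, hz⟩ := hx
  by_contra hxA
  haveI : Module.Finite ℤ (Additive A') :=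
    Module.Finite.iff_addGroup_fg.mpr (GroupFG.iff_add_fg.mp inferInstance)
  let o : Subgroup A' ≃o Submodule ℤ (Additive A') := Subgroup.toAddSubgroup.trans AddSubgroup.toIntSubmodule
  obtain ⟨N, ⟨hAN, hxN⟩, hmax⟩ := set_has_maximal_iff_noetherian.mpr
    (inferInstance : IsNoetherian ℤ (Additive A'))
    {N : Submodule ℤ (Additive A') | A ≤ o.symm N ∧ x ∉ o.symm N}
    ⟨o A, by simp, by simpa using hxA⟩
  set M : Subgroup A' := o.symm N with hM
  have hkey : ∀ b : A', b ∉ M → x ∈ M ⊔ Subgroup.zpowers b := by
    intro b hb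
    by_contra hc
    refine hmax (o (M ⊔ Subgroup.zpowers b)) ⟨?_, ?_⟩ ?_
    · simpa using le_trans hAN le_sup_left
    · simpa using hc
    · rw [show N = o M by simp [hM]]
      refine o.lt_iff_lt.mpr (lt_of_le_of_ne le_sup_left fun h => hb ?_)
      rw [h]; exact Subgroup.mem_sup_right (Subgroup.mem_zpowers b)
  haveI : Finite (A' ⧸ M) := by
    haveI : Group.FG (A' ⧸ M) := Group.fg_of_surjective (QuotientGroup.mk'_surjective M)
    refine CommGroup.finite_of_fg_torsion _ fun q => ?_
    obtain ⟨b, rfl⟩ := QuotientGroup.mk'_surjective M q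
    by_contra hinf
    have hb : ∀ k : ℤ, k ≠ 0 → b ^ k ∉ M := fun k hk h => hinf (isOfFinOrder_iff_zpow_eq_one.mpr
      ⟨k, hk, by rw [← map_zpow]; exact (QuotientGroup.eq_one_iff _).mpr h⟩)
    have hex : ∀ k : ℤ, k ≠ 0 → ∃ m : ℤ, (QuotientGroup.mk' M x) = (QuotientGroup.mk' M b) ^ (k * m) := by
      intro k hk
      obtain ⟨u, hu, v, hv, huv⟩ := Subgroup.mem_sup.mp (hkey _ (hb k hk))
      obtain ⟨m, rfl⟩ := Subgroup.mem_zpowers_iff.mp hv
      refine ⟨m, ?_⟩
      rw [← huv, map_mul, map_zpow, map_zpow, ← zpow_mul,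
        show QuotientGroup.mk' M u = 1 from (QuotientGroup.eq_one_iff u).mpr hu, one_mul]
    obtain ⟨a, ha⟩ := hex 1 one_ne_zero
    have ha0 : a ≠ 0 := by
      rintro rfl
      exact hxN ((QuotientGroup.eq_one_iff x).mp (by simpa using ha))
    obtain ⟨m, hm⟩ := hex (2 * a) (by omega)
    refine hinf (isOfFinOrder_iff_zpow_eq_one.mpr ⟨2 * a * m - a, ?_, ?_⟩)
    · intro h
      have h2 : a * (2 * m - 1) = 0 := by linarith
      rcases mul_eq_zero.mp h2 with h | h <;> omega
    · rw [zpow_sub, ← hm, ha, one_mul, mul_inv_cancel]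
  haveI : M.FiniteIndex := Subgroup.finiteIndex_of_finite_quotient
  let K : FiniteIndexNormalSubgroup (GrpCat.of A') := FiniteIndexNormalSubgroup.ofSubgroup M
  have h := congrArg (fun w => w.1 K) hz
  replace h := (ProfComplLib.map_apply (GrpCat.ofHom A.subtype) z K).symm.trans h
  obtain ⟨a, ha⟩ := QuotientGroup.mk_surjective (z.1 (K.comap (GrpCat.ofHom A.subtype).hom))
  rw [← ha] at h
  refine hxN ?_
  have h2 : (a : A')⁻¹ * x ∈ M := QuotientGroup.eq.mp h
  simpa using M.mul_mem (hAN a.2) h2

end Groth.Agent.S13958
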