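import Groth.Statements.S13959
import Groth.Agent.TorsVecLib.Points
-- import your own Groth.Agent.* helpers here

set_option autoImplicit false
set_option backward.isDefEq.respectTransparency false
set_option linter.all false
universe u
open TateLoc

namespace Groth.Agent.S13959

section

open CategoryTheory CategoryTheory.Limits MonoidalCategory CartesianMonoidalCategory MonObj AlgebraicGeometry

theorem one_smulPt {S : Scheme.{u}} {G X : Over S} [GrpObj G] (a : AlgGrp.Action G X) {T : Over S}
    (p : T ⟶ X) : TorsVec.smulPt a (1 : T ⟶ G) p = p := by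
  have e : lift (1 : T ⟶ G) p = lift (toUnit T) p ≫ (η[G] ▷ X) := by
    rw [lift_whiskerRight, Hom.one_def]
  rw [TorsVec.smulPt, e, Category.assoc, a.one_act, leftUnitor_hom, lift_snd]

theorem eq_one_of_isReduced {k : Type u} [Field k] {I : Over (Spec (CommRingCat.of k))} [GrpObj I]
    [Subsingleton ↥(I.left)] {T : Over (Spec (CommRingCat.of k))} [AlgebraicGeometry.IsReduced T.left]
    (g : T ⟶ I) : g = 1 := by
  haveI : Surjective η[I].left := ⟨fun x => ⟨Classical.arbitrary ↥(Spec (CommRingCat.of k)), Subsingleton.elim _ _⟩⟩
  haveI : IsIso (pullback.fst g.left η[I].left) := isIso_of_isClosedImmersion_of_surjective _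
  ext1
  rw [Hom.one_def, Over.comp_left]
  have h1 : inv (pullback.fst g.left η[I].left) ≫ pullback.snd g.left η[I].left ≫ η[I].left = g.left := by
    rw [IsIso.inv_comp_eq, pullback.condition]
  rw [← h1, ← Category.assoc]
  congr 1
  have hη : η[I].left ≫ I.hom = 𝟙 _ := Over.w η[I]
  calc inv (pullback.fst g.left η[I].left) ≫ pullback.snd g.left η[I].left
      = inv (pullback.fst g.left η[I].left) ≫ pullback.snd g.left η[I].left ≫ η[I].left ≫ I.hom := by
        rw [hη, Category.comp_id]
    _ = g.left ≫ I.hom := by simpa only [Category.assoc] using congrArg (· ≫ I.hom) h1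
    _ = _ := Over.w g

end

open CategoryTheory AlgebraicGeometry in
/-- Let k be a field, L an extension field of k which is separable over k in the sense that L ⊗_k L is
reduced (not necessarily algebraic), and I an infinitesimal k-group scheme (finite over k with
one-point underlying space). If a k-scheme E with an action of I is an fppf torsor under I and
acquires a point over L, then E already has a k-point. (The published statement is the injectivity
of H^1(k, I) → H^1(L, I); this row is its torsor form.) -/
theorem result (k : Type u) [Field k] (L : Type u) [Field L] [Algebra k L]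
    [IsReduced (TensorProduct k L L)]
    (I E : Over (Spec (CommRingCat.of k))) [GrpObj I] [IsFinite I.hom] [Subsingleton ↥(I.left)]
    (a : AlgGrp.Action I E) (hE : NonAbH1.IsTorsorFor Scheme.fppfPrecoverage a)
    (hL : NonAbH1.HasSectionOver E (Spec.map (CommRingCat.ofHom (algebraMap k L)))) :
    NonAbH1.HasSectionOver E (𝟙 (Spec (CommRingCat.of k))) := by
  obtain ⟨l, hl⟩ := hL
  let p : TorsVec.testObj (𝟙 (Spec (CommRingCat.of k))) L ⟶ E :=
    Over.homMk l (by rw [hl]; exact (Category.comp_id _).symm)
  obtain ⟨g, hg⟩ := TorsVec.exists_smulPt a hE.1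
    (TorsVec.testMap (𝟙 _) (TorsVec.insL (A := k) (B := L)) ≫ p) (TorsVec.testMap (𝟙 _) TorsVec.insR ≫ p)
  haveI : AlgebraicGeometry.IsReduced
      (TorsVec.testObj (𝟙 (Spec (CommRingCat.of k))) (TensorProduct k L L)).left :=
    inferInstanceAs (AlgebraicGeometry.IsReduced (Spec (CommRingCat.of (TensorProduct k L L))))
  rw [eq_one_of_isReduced g, one_smulPt] at hg
  exact TorsVec.exists_descend (𝟙 _) p hg

end Groth.Agent.S13959
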