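import Groth.Statements.S13963
import Mathlib.Topology.Algebra.Group.OpenMapping
import Mathlib.Topology.Baire.LocallyCompactRegular
import Mathlib.Topology.Compactness.SigmaCompact

set_option autoImplicit false
universe u
open TateLoc

namespace Groth.Agent.S13963

/-- Let A' → A → A'' be continuous homomorphisms of locally compact, second-countable, Hausdorff abelian
topological groups which form a short exact sequence of abstract groups (the first injective, the
second surjective, image equal to kernel). If A' and A'' are compact, then A is compact. -/
theorem result (A' A A'' : Type u)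
    [AddCommGroup A'] [TopologicalSpace A'] [IsTopologicalAddGroup A'] [SecondCountableTopology A'] [T2Space A']
    [CompactSpace A']
    [AddCommGroup A] [TopologicalSpace A] [IsTopologicalAddGroup A] [LocallyCompactSpace A]
    [SecondCountableTopology A] [T2Space A]
    [AddCommGroup A''] [TopologicalSpace A''] [IsTopologicalAddGroup A''] [SecondCountableTopology A''] [T2Space A'']
    [CompactSpace A'']
    (f : A' →+ A) (g : A →+ A'') (hf : Continuous f) (hg : Continuous g)
    (hinj : Function.Injective f) (hsurj : Function.Surjective g) (hex : g.ker = f.range) :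
    CompactSpace A := by
  classical
  have hK : IsCompact (Set.range f) := isCompact_range hf
  have hopen : IsOpenMap g := AddMonoidHom.isOpenMap_of_sigmaCompact g hsurj hg
  choose C hC hCnhds using fun a : A => exists_compact_mem_nhds a
  choose s hs using hsurj
  obtain ⟨t, -, ht⟩ := (isCompact_univ (X := A'')).elim_nhds_subcover (fun b => g '' C (s b))
    (fun b _ => by
      have := hopen.image_mem_nhds (hCnhds (s b))
      rwa [hs] at this)
  let T : Set A := ⋃ b ∈ t, C (s b)
  have hT : IsCompact T := t.finite_toSet.isCompact_biUnion fun b _ => hC _
  refine ⟨((hT.prod hK).image continuous_add).of_isClosed_subset isClosed_univ fun a _ => ?_⟩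
  obtain ⟨b, hb, c, hc, hca⟩ := Set.mem_iUnion₂.1 (ht (Set.mem_univ (g a)))
  have hker : a - c ∈ g.ker := by rw [AddMonoidHom.mem_ker, map_sub, hca, sub_self]
  rw [hex] at hker
  exact ⟨(c, a - c), ⟨Set.mem_iUnion₂.2 ⟨b, hb, hc⟩, hker⟩, add_sub_cancel c a⟩

end Groth.Agent.S13963
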