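import Groth.Statements.S13971
import Groth.Agent.ArtLib.T1Lift
import Groth.Agent.ArtLib.Pairs

set_option autoImplicit false
universe u v
open CategoryTheory
open ArtFun

namespace Groth.Agent.S13971

/-- Let k be a field of characteristic zero and F a deformation functor on Artinian local k-algebras
with residue field k — F(k) is a point and the comparison map F(A₁ ×_A A₂) → F(A₁) ×_{F(A)} F(A₂) is
bijective whenever A₂ → A is surjective — whose tangent space F(k[ε]) is finite-dimensional. Suppose
that for every object A and every surjective morphism q : A'' → A' between split square-zero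
extensions of A (A' and A'' come with retractions onto A whose kernels have square zero and with
sections from A, and q commutes with the retractions and the sections), the map F(q) : F(A'') →
F(A') is surjective. Then F is unobstructed: F(B) → F(A) is surjective for every surjective B → A.
(The published statement is for deformation categories, with the hypothesis that, for every object
over A, the functor M ↦ {isomorphism classes of its liftings to A ⊕ M} on finite A-modules carries
surjections to surjections; this row is the case of a category fibred in sets, for which a split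
square-zero extension of A is A ⊕ M with M the kernel, a finite A-module, and that hypothesis is the
displayed surjectivity.) -/
theorem result {k : Type u} [Field k] [CharZero k]
    (F : ArtFun.Art k k ⥤ Type v) [ArtFun.TangentStr F]
    (h0 : ArtFun.H0 F)
    (hRS : (∀ ⦃B A A' A'' : ArtFun.Art k k⦄ (p' : B ⟶ A') (p'' : B ⟶ A'') (f' : A' ⟶ A) (f'' : A'' ⟶ A)
        (h : ArtFun.Art.IsFibreProd p' p'' f' f''), Function.Surjective f'' → Function.Bijective (ArtFun.cmp F h)))
    (hfin : ArtFun.Hfin F)
    (hT1 : ∀ ⦃A A' A'' : ArtFun.Art k k⦄ (π' : A' ⟶ A) (i' : A ⟶ A') (π'' : A'' ⟶ A) (i'' : A ⟶ A'')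
        (q : A'' ⟶ A'), i' ≫ π' = 𝟙 A → i'' ≫ π'' = 𝟙 A →
        RingHom.ker π'.toAlgHom * RingHom.ker π'.toAlgHom = ⊥ →
        RingHom.ker π''.toAlgHom * RingHom.ker π''.toAlgHom = ⊥ →
        q ≫ π' = π'' → i'' ≫ q = i' → Function.Surjective q → Function.Surjective (F.map q)) :
    ArtFun.IsSmoothFunctor F := by
  have h1 : ArtFun.S1 F := fun _ _ _ _ _ _ _ _ h hf => (hRS _ _ _ _ h hf).2
  have h2 : ArtFun.Heps F := fun _ _ _ _ h => hRS _ _ _ _ h (ArtLib.toBase_surjective _)
  obtain ⟨H⟩ := ArtLib.hasHull_of_conditions h0 h1 h2 hfin fun x₀ σ σ' _ =>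
    ArtFun.Art.hom_ext (AlgHom.ext fun c =>
      (σ.toAlgHom.commutes c).trans (σ'.toAlgHom.commutes c).symm)
  have hs := ArtLib.surjective_app_of_versal h0 H.family H.miniversal.1
  have hT : ArtLib.T1Lifts (k := k) H.ring.carrier := by
    intro A M M' _ _ _ _ _ _ _ _ _ _ _ _ _ _ f hM hM' hf φ
    have : Module.Finite k A := ArtLib.finite_carrier A
    have : Module.Finite k M := Module.Finite.trans (A : Type u) M
    have : Module.Finite k M' := Module.Finite.trans (A : Type u) M'
    have : Module.Finite k (TrivSqZeroExt A M) := inferInstanceAs (Module.Finite k (A × M))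
    have : Module.Finite k (TrivSqZeroExt A M') := inferInstanceAs (Module.Finite k (A × M'))
    let A₁ : Art k k := ArtLib.mkObj (TrivSqZeroExt A M)
      (A.res.comp (TrivSqZeroExt.fstHom k A M))
      (fun c => by
        obtain ⟨a, ha⟩ := A.res_surjective c
        exact ⟨TrivSqZeroExt.inl a, ha⟩)
      (fun b hb => ArtLib.isNilpotent_of_fst (ArtLib.isNilpotent_of_res_eq_zero A hb))
    let A₂ : Art k k := ArtLib.mkObj (TrivSqZeroExt A M')
      (A.res.comp (TrivSqZeroExt.fstHom k A M'))
      (fun c => by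
        obtain ⟨a, ha⟩ := A.res_surjective c
        exact ⟨TrivSqZeroExt.inl a, ha⟩)
      (fun b hb => ArtLib.isNilpotent_of_fst (ArtLib.isNilpotent_of_res_eq_zero A hb))
    let q : A₂ ⟶ A₁ := ArtFun.Art.homMk ((TrivSqZeroExt.map f).restrictScalars k)
      (AlgHom.ext fun b => congrArg A.res (TrivSqZeroExt.fst_map f b))
    let φ' : ArtFun.HomSet H.ring.carrier H.ring.res A₁ :=
      ⟨φ, AlgHom.ext fun r => ArtLib.res_unique H.ring _ r⟩
    have hq : Function.Surjective q := fun b => by
      obtain ⟨m, hm⟩ := hf b.snd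
      refine ⟨(TrivSqZeroExt.inl b.fst + TrivSqZeroExt.inr m : TrivSqZeroExt A M'), ?_⟩
      change TrivSqZeroExt.map f (TrivSqZeroExt.inl b.fst + TrivSqZeroExt.inr m) = b
      refine TrivSqZeroExt.ext ?_ ?_ <;> simp [hm]
    obtain ⟨y, hy⟩ := hT1 (A := A)
      (ArtFun.Art.homMk (A := A₁) (TrivSqZeroExt.fstHom k A M) rfl)
      (ArtFun.Art.homMk (B := A₁) (TrivSqZeroExt.inlAlgHom k A M) (AlgHom.ext fun _ => rfl))
      (ArtFun.Art.homMk (A := A₂) (TrivSqZeroExt.fstHom k A M') rfl)
      (ArtFun.Art.homMk (B := A₂) (TrivSqZeroExt.inlAlgHom k A M') (AlgHom.ext fun _ => rfl))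
      q (ArtFun.Art.hom_ext (AlgHom.ext fun _ => rfl))
      (ArtFun.Art.hom_ext (AlgHom.ext fun _ => rfl))
      (by
        refine eq_bot_iff.2 (Ideal.mul_le.2 fun a ha b hb => ?_)
        change a.fst = 0 at ha
        change b.fst = 0 at hb
        refine (Submodule.mem_bot _).2 (TrivSqZeroExt.ext ?_ ?_)
        · exact (TrivSqZeroExt.fst_mul a b).trans (by rw [ha, zero_mul]; rfl)
        · exact (TrivSqZeroExt.snd_mul a b).trans (by rw [ha, hb]; simp))
      (by
        refine eq_bot_iff.2 (Ideal.mul_le.2 fun a ha b hb => ?_)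
        change a.fst = 0 at ha
        change b.fst = 0 at hb
        refine (Submodule.mem_bot _).2 (TrivSqZeroExt.ext ?_ ?_)
        · exact (TrivSqZeroExt.fst_mul a b).trans (by rw [ha, zero_mul]; rfl)
        · exact (TrivSqZeroExt.snd_mul a b).trans (by rw [ha, hb]; simp))
      (ArtFun.Art.hom_ext (AlgHom.ext fun b => TrivSqZeroExt.fst_map f b))
      (ArtFun.Art.hom_ext (AlgHom.ext fun a => TrivSqZeroExt.map_inl f a))
      hq (H.family.app A₁ φ')
    obtain ⟨ψ, hψ, -⟩ := H.miniversal.1 q hq φ' y hy
    refine ⟨ψ.1, fun r => ?_⟩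
    have h : TrivSqZeroExt.map f (ψ.1 r) = φ r := AlgHom.congr_fun (congrArg Subtype.val hψ) r
    exact ⟨by rw [← h, TrivSqZeroExt.fst_map], by rw [← h, TrivSqZeroExt.snd_map]⟩
  obtain ⟨n, ⟨e⟩⟩ := ArtLib.exists_psEquiv_of_t1Lifts H.ring hT
  intro B A μ hμ y
  obtain ⟨φ, rfl⟩ := hs A y
  obtain ⟨ψ, rfl⟩ := ArtLib.isSmoothFunctor_of_equiv (fun c => ⟨c, rfl⟩) e μ hμ φ
  exact ⟨H.family.app B ψ, (H.family.natural μ ψ).symm⟩

end Groth.Agent.S13971
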