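import Groth.Statements.S13973
import Groth.Agent.TanPnLib.Main

set_option autoImplicit false
set_option linter.style.haveILetI false
set_option backward.isDefEq.respectTransparency false
set_option backward.isDefEq.respectTransparency.types false

set_option autoImplicit false
universe u
open CategoryTheory CategoryTheory.Limits AlgebraicGeometry
open LefPen

namespace Groth.Agent.S13973

/-- In the form its proof establishes, for a smooth hypersurface Z₀ = V(F) ⊂ Pⁿ_k of degree d ≥ 1, n ≥
2, over a field k (F a nonzero form), the group H¹(Z₀, T_{Pⁿ}|_{Z₀}) vanishes exactly when (n, d) is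
not one of: n = 2 and d ≥ 5; n = 3 and d = 4. Here T_{Pⁿ} = Hom(Ω_{Pⁿ/k}, O) (the sheaf Hom, assumed
to exist as the right adjoint of tensoring with Ω_{Pⁿ/k}) and T_{Pⁿ}|_{Z₀} is its pullback along the
closed immersion. (The published statement says that the coboundary δ : H⁰(Z₀, N₀) → H¹(Z₀, T_{Z₀})
of the dual conormal sequence is surjective exactly in these cases; its proof identifies the
cokernel of δ with H¹(Z₀, T_{Pⁿ}|_{Z₀}), and that group with H²(Pⁿ, T_{Pⁿ}(−d)), and computes when
it vanishes, which is what this row states.) -/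
theorem result (k : Type u) [Field k] (n d : ℕ)
    (hn : 2 ≤ n) (hd : 1 ≤ d) (F : LefPen.Form n k d) (hF : F ≠ 0)
    [Smooth ((LefPen.hypIdeal F).subschemeι ≫ CohB1.ProjSpace.toSpec n k)]
    [DCoh.HasSheafHom (Omega.sheaf (CohB1.ProjSpace.toSpec n k))] :
    Subsingleton (Coh.HH (LefPen.hypIdeal F).subscheme
        ((Scheme.Modules.pullback (LefPen.hypIdeal F).subschemeι).obj
          ((DCoh.sheafHom (Omega.sheaf (CohB1.ProjSpace.toSpec n k))).obj
            (Coh.structureModule (CohB1.ProjSpace n k)))) 1) ↔
      ¬ ((n = 2 ∧ 5 ≤ d) ∨ (n = 3 ∧ d = 4)) := by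
  have e := (Scheme.Modules.pullback (LefPen.hypIdeal F).subschemeι).mapIso
    (HomCohLib.sheafHomIso (Omega.sheaf (CohB1.ProjSpace.toSpec n k)) (Coh.structureModule (CohB1.ProjSpace n k)))
  exact Iff.trans ⟨fun h => SerreVanLib.subsingleton_HH_of_iso e.symm 1 h,
    fun h => SerreVanLib.subsingleton_HH_of_iso e 1 h⟩ (TanPnLib.restrict_iff k n hn d F hF)

end Groth.Agent.S13973
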