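import Groth.Statements.S13975
import Groth.Agent.InfAutSchLib.Basic
-- import your own Groth.Agent.* helpers here

set_option autoImplicit false
universe u
open CategoryTheory CategoryTheory.Limits AlgebraicGeometry
open Deform

namespace Groth.Agent.S13975

/-- Let k be a field and X₀ a locally Noetherian k-scheme, and let X_ε be the trivial first-order
deformation X₀ ×_k Spec k[ε], presented by a cartesian square with projections q : X_ε → X₀ and p :
X_ε → Spec k[ε], together with the closed immersion i : X₀ → X_ε over ε = 0 which is a section of q.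
Then the infinitesimal automorphisms of X₀ — automorphisms of X_ε over Spec k[ε] that restrict to
the identity of X₀ along i — form a group isomorphic to the additive group of derivations
Der_k(O_{X₀}, O_{X₀}) = Hom_{O_{X₀}}(Ω_{X₀/k}, O_{X₀}): there is a bijection taking composition to
addition. -/
theorem result (k : Type u) [Field k]
    (X₀ : Scheme.{u}) [IsLocallyNoetherian X₀] (x : X₀ ⟶ Spec (CommRingCat.of k))
    (Xε : Scheme.{u}) (q : Xε ⟶ X₀) (p : Xε ⟶ Spec (CommRingCat.of (DualNumber k)))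
    (hsq : IsPullback q p x (Spec.map (CommRingCat.ofHom (algebraMap k (DualNumber k)))))
    (i : X₀ ⟶ Xε) (hiq : i ≫ q = 𝟙 X₀)
    (hip : i ≫ p = x ≫ Spec.map (CommRingCat.ofHom (TrivSqZeroExt.fstHom k k k).toRingHom)) :
    ∃ e : {φ : Xε ≅ Xε // φ.hom ≫ p = p ∧ i ≫ φ.hom = i} ≃ (Omega.sheaf x ⟶ Coh.structureModule X₀),
      ∀ φ ψ χ : {φ : Xε ≅ Xε // φ.hom ≫ p = p ∧ i ≫ φ.hom = i},
        φ.1 ≪≫ ψ.1 = χ.1 → e χ = e φ + e ψ := by
  haveI : QuasiSeparated x := inferInstance
  have hspec : Spec.map (CommRingCat.ofHom (algebraMap k (DualNumber k))) =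
      ArtFun.Art.specOver (HilbGlueLib.D k) := rfl
  have hres : x ≫ Spec.map (CommRingCat.ofHom (TrivSqZeroExt.fstHom k k k).toRingHom) =
      x ≫ ArtFun.Art.specRes (HilbGlueLib.D k) := rfl
  let a : Xε ≅ ArtFun.Art.XA x (HilbGlueLib.D k) := hsq.isoPullback
  have ha1 : a.hom ≫ pullback.fst x (ArtFun.Art.specOver (HilbGlueLib.D k)) = q := hsq.isoPullback_hom_fst
  have ha2 : a.hom ≫ pullback.snd x (ArtFun.Art.specOver (HilbGlueLib.D k)) = p := hsq.isoPullback_hom_snd
  have hai : i ≫ a.hom = ArtFun.Art.XAincl x (HilbGlueLib.D k) := by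
    apply pullback.hom_ext
    · rw [Category.assoc, ha1, ArtFun.Art.XAincl_fst]; exact hiq
    · rw [Category.assoc, ha2, ArtFun.Art.XAincl_snd]; exact hip.trans hres
  have hai' : ArtFun.Art.XAincl x (HilbGlueLib.D k) ≫ a.inv = i := by
    rw [← hai, Category.assoc, Iso.hom_inv_id, Category.comp_id]
  have ha2' : a.inv ≫ p = pullback.snd x (ArtFun.Art.specOver (HilbGlueLib.D k)) := by
    exact (congrArg (a.inv ≫ ·) ha2).symm.trans (a.inv_hom_id_assoc _)
  obtain ⟨h, hh⟩ := InfAutSchLib.exists_end_equiv (x := x)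
  have h1 : h (InfAutSchLib.one x) = 0 := by
    have hc := hh (InfAutSchLib.one x) (InfAutSchLib.one x)
    rw [show InfAutSchLib.comp (InfAutSchLib.one x) (InfAutSchLib.one x) = InfAutSchLib.one x from
      Subtype.ext (Category.id_comp _)] at hc
    exact left_eq_add.mp hc
  let push : {φ : Xε ≅ Xε // φ.hom ≫ p = p ∧ i ≫ φ.hom = i} → InfAutSchLib.End1 x := fun φ =>
    ⟨a.inv ≫ φ.1.hom ≫ a.hom, by rw [Category.assoc, Category.assoc]; exact (congrArg (a.inv ≫ φ.1.hom ≫ ·) ha2).trans ((congrArg (a.inv ≫ ·) φ.2.1).trans ha2'),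
      by rw [reassoc_of% hai', reassoc_of% φ.2.2, hai]⟩
  have hz : ∀ v w : Omega.sheaf x ⟶ Coh.structureModule X₀, v + w = 0 → (h.symm v).1 ≫ (h.symm w).1 = 𝟙 _ := fun v w e => by
    have : InfAutSchLib.comp (h.symm v) (h.symm w) = InfAutSchLib.one x :=
      h.injective (by rw [hh, Equiv.apply_symm_apply, Equiv.apply_symm_apply, e, h1])
    exact congrArg Subtype.val this
  let pull : (Omega.sheaf x ⟶ Coh.structureModule X₀) → {φ : Xε ≅ Xε // φ.hom ≫ p = p ∧ i ≫ φ.hom = i} := fun v =>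
    ⟨⟨a.hom ≫ (h.symm v).1 ≫ a.inv, a.hom ≫ (h.symm (-v)).1 ≫ a.inv,
        by simp only [Category.assoc, Iso.inv_hom_id_assoc]; rw [reassoc_of% hz v (-v) (add_neg_cancel v), Iso.hom_inv_id],
        by simp only [Category.assoc, Iso.inv_hom_id_assoc]; rw [reassoc_of% hz (-v) v (neg_add_cancel v), Iso.hom_inv_id]⟩,
      by
        show (a.hom ≫ (h.symm v).1 ≫ a.inv) ≫ p = p
        rw [Category.assoc, Category.assoc]; exact (congrArg (a.hom ≫ (h.symm v).1 ≫ ·) ha2').trans ((congrArg (a.hom ≫ ·) (h.symm v).2.1).trans ha2),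
      by
        show i ≫ a.hom ≫ (h.symm v).1 ≫ a.inv = i
        rw [reassoc_of% hai, reassoc_of% (h.symm v).2.2, hai']⟩
  refine ⟨{
    toFun := fun φ => h (push φ)
    invFun := pull
    left_inv := fun φ => Subtype.ext (Iso.ext (by
      show a.hom ≫ (h.symm (h (push φ))).1 ≫ a.inv = _
      rw [Equiv.symm_apply_apply]
      show a.hom ≫ (a.inv ≫ φ.1.hom ≫ a.hom) ≫ a.inv = _
      simp))
    right_inv := fun v => (h.apply_symm_apply v).symm.trans (congrArg h (Subtype.ext (by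
      show (h.symm v).1 = a.inv ≫ (a.hom ≫ (h.symm v).1 ≫ a.inv) ≫ a.hom
      simp))) |>.symm }, fun φ ψ χ e => ?_⟩
  show h (push χ) = h (push φ) + h (push ψ)
  rw [← hh]
  refine congrArg h (Subtype.ext ?_)
  show a.inv ≫ χ.1.hom ≫ a.hom = (a.inv ≫ φ.1.hom ≫ a.hom) ≫ a.inv ≫ ψ.1.hom ≫ a.hom
  rw [← e]
  simp

end Groth.Agent.S13975
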