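import Groth.Statements.S13976
import Groth.Agent.VBExtLib.QcohMain

set_option autoImplicit false
universe u
open CategoryTheory CategoryTheory.Limits AlgebraicGeometry
open Deform

namespace Groth.Agent.S13976

/-- Let k be a field, X a locally Noetherian k-scheme and E₀ a quasi-coherent O_X-module with
Ext²_{O_X}(E₀, E₀) = 0 (Ext in the category of O_X-modules). Let C' → C be a surjection of local
Artinian k-algebras with residue field k whose kernel is annihilated by the maximal ideal, X_C = X
×_k Spec C and X_{C'} = X ×_k Spec C' the trivial deformations (cartesian squares with projections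
q, q'), g : X_C → X_{C'} the morphism induced by C' → C, and j : X → X_C the inclusion of the closed
fibre. Then every quasi-coherent O_{X_C}-module E flat over Spec C with j^*E ≅ E₀ lifts: there is a
quasi-coherent O_{X_{C'}}-module E', flat over Spec C', with g^*E' ≅ E. (The published statement
gives an obstruction theory for deformations of E₀ with obstruction space Ext²(E₀, E₀); this row
states the lifting it yields when that space is zero.) -/
theorem result {k : Type u} [Field k]
    (X : Scheme.{u}) [IsLocallyNoetherian X] (x : X ⟶ Spec (CommRingCat.of k)) [HasExt.{u} X.Modules]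
    (E₀ : X.Modules) (hE₀ : Coh.IsQCoh E₀) (hExt : Subsingleton (Abelian.Ext.{u} E₀ E₀ 2))
    {C' C : ArtFun.Art k k} (π : C' ⟶ C) (hπ : ArtFun.Art.IsSemismallExt π)
    (XC : Scheme.{u}) (q : XC ⟶ X) (pC : XC ⟶ ArtFun.Art.spec C)
    (hC : IsPullback q pC x (ArtFun.Art.specMap (ArtFun.Art.ofBase C)))
    (XC' : Scheme.{u}) (q' : XC' ⟶ X) (pC' : XC' ⟶ ArtFun.Art.spec C')
    (hC' : IsPullback q' pC' x (ArtFun.Art.specMap (ArtFun.Art.ofBase C')))
    (g : XC ⟶ XC') (hgq : g ≫ q' = q) (hgp : g ≫ pC' = pC ≫ ArtFun.Art.specMap π)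
    (j : X ⟶ XC) (hjq : j ≫ q = 𝟙 X) (hjp : j ≫ pC = x ≫ ArtFun.Art.specRes C)
    (E : XC.Modules) (hE : Coh.IsQCoh E) (hEfl : FlatMod.IsFlatOver pC E)
    (hE0 : Nonempty ((Scheme.Modules.pullback j).obj E ≅ E₀)) :
    ∃ E' : XC'.Modules, Coh.IsQCoh E' ∧ FlatMod.IsFlatOver pC' E' ∧
      Nonempty ((Scheme.Modules.pullback g).obj E' ≅ E) := by
  obtain ⟨e⟩ := hE0
  have hb : ArtFun.Art.specRes C' ≫ ArtFun.Art.specMap (ArtFun.Art.ofBase C') = 𝟙 _ := by
    rw [ArtFun.Art.specRes_comp]
    exact (Category.id_comp _).symm.trans (ArtFun.Art.comp_specRes_base (𝟙 _))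
  have hbC : ArtFun.Art.specRes C ≫ ArtFun.Art.specMap (ArtFun.Art.ofBase C) = 𝟙 _ := by
    rw [ArtFun.Art.specRes_comp]
    exact (Category.id_comp _).symm.trans (ArtFun.Art.comp_specRes_base (𝟙 _))
  have hcomp : ArtFun.Art.ofBase C' ≫ π = ArtFun.Art.ofBase C :=
    ArtFun.Art.hom_ext (AlgHom.ext fun c => π.toAlgHom.commutes c)
  haveI : Flat x := inferInstance
  have hflat : Flat pC' := MorphismProperty.of_isPullback hC' inferInstance
  have hi : (j ≫ g) ≫ pC' = x ≫ ArtFun.Art.specRes C' := by
    rw [Category.assoc, hgp, ← Category.assoc, hjp, Category.assoc, ArtFun.Art.specRes_comp]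
  have hξ : IsPullback (j ≫ g) x pC' (ArtFun.Art.specRes C') := by
    refine IsPullback.of_right ?_ hi hC'
    rw [Category.assoc, hgq, hjq]
    erw [hb]
    exact IsPullback.id_horiz x
  have hj : IsPullback j x pC (ArtFun.Art.specRes C) := by
    refine IsPullback.of_right ?_ hjp hC
    rw [hjq]
    erw [hbC]
    exact IsPullback.id_horiz x
  have hg : IsPullback g pC pC' (ArtFun.Art.specMap π) := by
    refine IsPullback.of_right ?_ hgp hC'
    rw [hgq]
    erw [← ArtFun.Art.specMap_comp, hcomp]
    exact hC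
  exact VBExtLib.exists_qcoh_flat_lift x hExt π hπ
    ⟨XC', pC', hflat, j ≫ g, hξ⟩ XC pC g hg j hj rfl E hE hEfl e

end Groth.Agent.S13976
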