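import Groth.Statements.S13978
import Groth.Agent.ArtLib.Basic
import Mathlib.LinearAlgebra.TensorProduct.Basis
import Mathlib.LinearAlgebra.Dimension.Free
-- import your own Groth.Agent.* helpers here

set_option autoImplicit false
universe u v
open CategoryTheory
open scoped TensorProduct
open ArtFun ArtFun.ObsTheory

namespace Groth.Agent.S13978

/-- In an extension killed by the maximal ideal scalars act on the kernel through the residue. -/
theorem mul_eq_smul {k : Type u} [Field k] {C' C : ArtFun.Art k k} {p : C' ⟶ C}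
    (hp : ArtFun.Art.IsSemismallExt p) (a : C') {j : C'} (hj : j ∈ RingHom.ker p.toAlgHom) :
    a * j = C'.res a • j := by
  have h : (a - algebraMap k C' (C'.res a)) * j = 0 := Ideal.mem_bot.1 (hp.2 ▸ Ideal.mul_mem_mul
    ((ArtFun.Art.mem_maximalIdeal_iff C' _).2 (by rw [map_sub, AlgHom.commutes]; exact sub_self _)) hj)
  rw [sub_mul, sub_eq_zero] at h
  rw [h, Algebra.smul_def]

/-- A semismall kernel is finite over the residue field. -/
theorem finite_ker {k : Type u} [Field k] {C' C : ArtFun.Art k k} (p : C' ⟶ C) :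
    Module.Finite k ↥(RingHom.ker p.toAlgHom) := by
  haveI := ArtLib.finite_carrier C'
  let f : ↥(RingHom.ker p.toAlgHom) →ₗ[k] C' :=
    { toFun := fun j => (j : C'), map_add' := fun _ _ => rfl, map_smul' := fun _ _ => rfl }
  exact Module.Finite.of_injective f Subtype.val_injective

/-- For obstruction theories of functors in the vector-space form, let k be a field, F a functor on
Artinian local k-algebras with residue field k and (V, ω) an obstruction theory for F — for each
surjection p : C' → C whose kernel J is killed by the maximal ideal and each u ∈ F(C) an obstruction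
ω(p, u) ∈ V ⊗_k J, zero exactly when u lifts, and compatible with replacing C' → C by C'/K → C for
ideals K ≤ J. Let Ω ⊆ V be the subspace spanned by the obstructions along tiny extensions (those p
whose kernel is one-dimensional), transported into V by the isomorphisms V ⊗ J ≅ V coming from
linear isomorphisms J ≅ k. Then for every p and u the obstruction ω(p, u) lies in the image of Ω ⊗_k
J → V ⊗_k J. (The published statement is for deformation categories and obstruction theories
functorial along all morphisms of extensions; this row assumes functoriality along quotients C'/K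
only, which is all its proof uses, and no condition on F.) -/
theorem result {k : Type u} [Field k]
    {F : ArtFun.Art k k ⥤ Type v} {V : Type u} [AddCommGroup V] [Module k V]
    (T : ArtFun.ObsTheory F V) {C' C : ArtFun.Art k k} (p : C' ⟶ C) (hp : ArtFun.Art.IsSemismallExt p)
    (u : F.obj C) :
    T.obs p hp u ∈ LinearMap.range (LinearMap.rTensor (↥(RingHom.ker p.toAlgHom))
      (Submodule.span k {v : V | ∃ (B' B : ArtFun.Art k k) (t : B' ⟶ B) (ht : ArtFun.Art.IsSmallExt t)
          (w : F.obj B) (φ : ↥(RingHom.ker t.toAlgHom) ≃ₗ[k] k),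
          v = TensorProduct.rid k V (LinearMap.lTensor V φ.toLinearMap (T.obs t ht.isSemismallExt w))}).subtype) := by
  classical
  generalize hS : {v : V | ∃ (B' B : ArtFun.Art k k) (t : B' ⟶ B) (ht : ArtFun.Art.IsSmallExt t)
    (w : F.obj B) (φ : ↥(RingHom.ker t.toAlgHom) ≃ₗ[k] k),
    v = TensorProduct.rid k V (LinearMap.lTensor V φ.toLinearMap (T.obs t ht.isSemismallExt w))} = S
  haveI := finite_ker p
  let b := Module.finBasis k ↥(RingHom.ker p.toAlgHom)
  have key : ∀ l : ↥(RingHom.ker p.toAlgHom) →ₗ[k] k,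
      TensorProduct.rid k V (LinearMap.lTensor V l (T.obs p hp u)) ∈ Submodule.span k S := by
    intro l
    by_cases hl : l = 0
    · subst hl
      simp
    obtain ⟨t₀, ht₀⟩ : ∃ t, l t ≠ 0 := by
      by_contra h
      exact hl (LinearMap.ext fun t => not_not.1 fun ht => h ⟨t, ht⟩)
    let t := (l t₀)⁻¹ • t₀
    have ht : l t = 1 := by rw [map_smul, smul_eq_mul, inv_mul_cancel₀ ht₀]
    let K : Ideal C' :=
      { carrier := {x | ∃ j : ↥(RingHom.ker p.toAlgHom), (j : C') = x ∧ l j = 0}
        zero_mem' := ⟨0, rfl, map_zero l⟩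
        add_mem' := by
          rintro _ _ ⟨i, rfl, hi⟩ ⟨j, rfl, hj⟩
          exact ⟨i + j, rfl, by rw [map_add, hi, hj, add_zero]⟩
        smul_mem' := by
          rintro a _ ⟨j, rfl, hj⟩
          exact ⟨C'.res a • j, (mul_eq_smul hp a j.2).symm, by rw [map_smul, hj, smul_zero]⟩ }
    have hKJ : K ≤ RingHom.ker p.toAlgHom := by
      rintro _ ⟨j, rfl, -⟩
      exact j.2
    have hK : K ≤ IsLocalRing.maximalIdeal C' := hKJ.trans (ArtLib.ker_le_maximalIdeal p)
    let q := ArtFun.Art.quotFactor hK p hKJ
    let σ := (ArtFun.Art.kerToQuot hK p hKJ).restrictScalars k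
    have hσ : ∀ j, σ j = l j • σ t := fun j => by
      rw [← map_smul, ← sub_eq_zero, ← map_sub]
      refine Subtype.ext (Ideal.Quotient.eq_zero_iff_mem.2 ⟨_, rfl, ?_⟩)
      rw [map_sub, map_smul, ht, smul_eq_mul, mul_one, sub_self]
    have hσsurj : Function.Surjective σ := fun y => by
      obtain ⟨c, hc⟩ := Ideal.Quotient.mk_surjective (y.1 : C' ⧸ K)
      have hmem : c ∈ RingHom.ker p.toAlgHom := by
        have := RingHom.mem_ker.1 y.2
        rw [← hc] at this
        exact this
      exact ⟨⟨c, hmem⟩, Subtype.ext hc⟩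
    have hσt : σ t ≠ 0 := fun h => by
      obtain ⟨j, hj, hlj⟩ := Ideal.Quotient.eq_zero_iff_mem.1 (congrArg Subtype.val h)
      rw [Subtype.ext hj, ht] at hlj
      exact one_ne_zero hlj
    have hqsemi : ArtFun.Art.IsSemismallExt q := by
      refine ⟨fun c => ?_, eq_bot_iff.2 (Ideal.mul_le.2 fun y hy z hz => Ideal.mem_bot.2 ?_)⟩
      · obtain ⟨a, rfl⟩ := hp.1 c
        exact ⟨Ideal.Quotient.mk K a, rfl⟩
      · obtain ⟨y, rfl⟩ := ArtFun.Art.quotMk_surjective C' K hK y
        obtain ⟨z, rfl⟩ := ArtFun.Art.quotMk_surjective C' K hK z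
        rw [ArtFun.Art.mem_maximalIdeal_iff, ArtFun.Art.res_app, ← ArtFun.Art.mem_maximalIdeal_iff] at hy
        have hz' : z ∈ RingHom.ker p.toAlgHom := hz
        rw [← map_mul, show y * z = 0 from Ideal.mem_bot.1 (hp.2 ▸ Ideal.mul_mem_mul hy hz'), map_zero]
    have hsmall : ArtFun.Art.IsSmallExt q := by
      refine ⟨hqsemi.1, fun h => hσt (Subtype.ext ((Submodule.eq_bot_iff _).1 h _ (σ t).2)),
        ⟨⟨((σ t : ↥(RingHom.ker q.toAlgHom)) : (ArtFun.Art.quot C' K hK : Type u)),
          le_antisymm (fun y hy => ?_) ((Ideal.span_singleton_le_iff_mem _).2 (σ t).2)⟩⟩, hqsemi.2⟩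
      obtain ⟨j, hj⟩ := hσsurj ⟨y, hy⟩
      rw [show y = ((σ j : ↥(RingHom.ker q.toAlgHom)) : (ArtFun.Art.quot C' K hK : Type u)) from
        (congrArg Subtype.val hj).symm, hσ j]
      change l j • ((σ t : ↥(RingHom.ker q.toAlgHom)) : (ArtFun.Art.quot C' K hK : Type u)) ∈ _
      rw [Algebra.smul_def]
      exact Ideal.mul_mem_left _ _ (Ideal.mem_span_singleton_self _)
    have hbij : Function.Bijective (LinearMap.toSpanSingleton k _ (σ t)) := by
      refine ⟨fun a c h => smul_left_injective k hσt h, fun y => ?_⟩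
      obtain ⟨j, rfl⟩ := hσsurj y
      exact ⟨l j, (hσ j).symm⟩
    let φ := (LinearEquiv.ofBijective _ hbij).symm
    have hφ : φ.toLinearMap.comp σ = l := LinearMap.ext fun j =>
      (LinearEquiv.ofBijective _ hbij).symm_apply_eq.2 (hσ j)
    have h := Submodule.subset_span (R := k) (hS ▸ ⟨_, _, q, hsmall, u, φ, rfl⟩ :
      TensorProduct.rid k V (LinearMap.lTensor V φ.toLinearMap (T.obs q hsmall.isSemismallExt u)) ∈ S)
    rw [T.obs_quot p hp K hK hKJ hsmall.isSemismallExt u, ← LinearMap.comp_apply, ← LinearMap.lTensor_comp,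
      hφ] at h
    exact h
  have hf : T.obs p hp u = ∑ i, (TensorProduct.rid k V (LinearMap.lTensor V (b.coord i) (T.obs p hp u))) ⊗ₜ[k] b i := by
    generalize T.obs p hp u = x
    induction x using TensorProduct.induction_on with
    | zero => simp
    | tmul v j =>
      simp only [LinearMap.lTensor_tmul, TensorProduct.rid_tmul, TensorProduct.smul_tmul,
        ← TensorProduct.tmul_sum, Module.Basis.coord_apply, b.sum_repr j]
    | add x y hx hy =>
      simp only [map_add, TensorProduct.add_tmul, Finset.sum_add_distrib, ← hx, ← hy]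
  rw [hf]
  exact Submodule.sum_mem _ fun i _ => ⟨⟨_, key (b.coord i)⟩ ⊗ₜ b i, rfl⟩

end Groth.Agent.S13978
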