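import Groth.Statements.S13982
import Groth.Agent.NodeDefSmoothLib.Node
import Groth.Agent.NodeDefSmoothLib.Omega
import Groth.Agent.CMFlatLib.FibreDim
import Groth.Agent.CMFlatLib.FibreDepth
import Groth.Agent.CMFlatLib.DimFormula
import Groth.Agent.CMFlatLib.Open
import Groth.Agent.SmoothDimLib.Fibre
import Groth.Agent.CurvOpenLib.Smooth
import Groth.Agent.Unram17Lib.SmoothNormal

set_option autoImplicit false
set_option backward.isDefEq.respectTransparency false
set_option backward.isDefEq.respectTransparency.types false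
universe u
open CategoryTheory CategoryTheory.Limits AlgebraicGeometry
open Curves

namespace Groth.Agent.S13982


open IsLocalRing in
/-- The image of the maximal ideal of the base generates that of its stalk. -/
theorem maximal_stalk_eq {Λ : Type u} [CommRing Λ] [IsLocalRing Λ] (s : Spec (CommRingCat.of Λ))
    (hs : ∀ c ∈ maximalIdeal Λ, ¬ IsUnit (((Spec (CommRingCat.of Λ)).presheaf.germ ⊤ s trivial).hom
      ((Scheme.ΓSpecIso (CommRingCat.of Λ)).inv.hom c))) :
    maximalIdeal ((Spec (CommRingCat.of Λ)).presheaf.stalk s) = (maximalIdeal Λ).map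
      (((Spec (CommRingCat.of Λ)).presheaf.germ ⊤ s trivial).hom.comp (Scheme.ΓSpecIso (CommRingCat.of Λ)).inv.hom) := by
  have hU : IsAffineOpen (⊤ : (Spec (CommRingCat.of Λ)).Opens) := isAffineOpen_top _
  letI := TopCat.Presheaf.algebra_section_stalk (Spec (CommRingCat.of Λ)).presheaf
    (⟨s, trivial⟩ : (⊤ : (Spec (CommRingCat.of Λ)).Opens))
  haveI := hU.isLocalization_stalk ⟨s, trivial⟩
  have hprime : (hU.primeIdealOf ⟨s, trivial⟩).asIdeal =
      (maximalIdeal Λ).map (Scheme.ΓSpecIso (CommRingCat.of Λ)).inv.hom := by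
    haveI : ((maximalIdeal Λ).map (Scheme.ΓSpecIso (CommRingCat.of Λ)).inv.hom).IsMaximal :=
      Ideal.map_isMaximal_of_equiv (Scheme.ΓSpecIso (CommRingCat.of Λ)).symm.commRingCatIsoToRingEquiv
    refine (Ideal.IsMaximal.eq_of_le inferInstance Ideal.IsPrime.ne_top' ?_).symm
    refine Ideal.map_le_iff_le_comap.2 fun c hc => ?_
    rw [Ideal.mem_comap, ← IsLocalization.AtPrime.to_map_mem_maximal_iff
      ((Spec (CommRingCat.of Λ)).presheaf.stalk s) (hU.primeIdealOf ⟨s, trivial⟩).asIdeal]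
    exact (IsLocalRing.mem_maximalIdeal _).2 (hs c hc)
  rw [← IsLocalization.AtPrime.map_eq_maximalIdeal (hU.primeIdealOf ⟨s, trivial⟩).asIdeal, hprime, Ideal.map_map]
  rfl

theorem flat_specializes {X : Scheme.{u}} {V : X.Opens} (hV : IsAffineOpen V) {q x : X} (h : q ⤳ x) (hq : q ∈ V)
    (hx : x ∈ V) : (hV.primeIdealOf ⟨q, hq⟩).asIdeal ≤ (hV.primeIdealOf ⟨x, hx⟩).asIdeal := by
  intro b hb
  by_contra hbx
  letI := TopCat.Presheaf.algebra_section_stalk X.presheaf (⟨x, hx⟩ : V)
  haveI := hV.isLocalization_stalk ⟨x, hx⟩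
  have h1 : x ∈ X.basicOpen b := (X.mem_basicOpen b x hx).2
    (IsLocalization.map_units (X.presheaf.stalk x) (⟨b, hbx⟩ : (hV.primeIdealOf ⟨x, hx⟩).asIdeal.primeCompl))
  have h2 : q ∈ X.basicOpen b := h.mem_open (X.basicOpen b).2 h1
  letI := TopCat.Presheaf.algebra_section_stalk X.presheaf (⟨q, hq⟩ : V)
  haveI := hV.isLocalization_stalk ⟨q, hq⟩
  exact (IsLocalRing.mem_maximalIdeal _).1
    ((IsLocalization.AtPrime.to_map_mem_maximal_iff (X.presheaf.stalk q) (hV.primeIdealOf ⟨q, hq⟩).asIdeal b).2 hb)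
    ((X.mem_basicOpen b q hq).1 h2)

/-- The implication its proof establishes. Let Λ be a complete Noetherian local ring of Krull dimension
1 and u ∈ Λ an element whose radical ideal is the maximal ideal (a system of parameters). Let f : X
→ Spec Λ be proper and flat with X locally Noetherian, and let P be a finite set of points of X over
the closed point of Spec Λ such that: (a) at every point of the closed fibre outside P the morphism
f is smooth of relative dimension 1 on an open neighbourhood (the closed fibre is a curve, smooth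
away from P), and (b) for every p ∈ P the completion of the local ring O_{X,p} is isomorphic,
compatibly with the maps from Λ, to Λ[[x, y]]/(xy − u) (p is a node of the closed fibre deformed by
the parameter u). Then f is smooth of relative dimension 1 on an open neighbourhood of every point
of X that does not lie over the closed point. (The published statement asserts that a flat
projective family over Λ with a prescribed projective nodal closed fibre exists and that it is
smooth over the punctured spectrum away from the closed fibre; this row states the smoothness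
implication for a given proper flat family, with smoothness of the closed fibre away from P put on
f, which for flat f is equivalent to smoothness of the fibre there.) -/
theorem result
    (Λ : Type u) [CommRing Λ] [IsLocalRing Λ] [IsNoetherianRing Λ]
    [IsAdicComplete (IsLocalRing.maximalIdeal Λ) Λ] (hdim : ringKrullDim Λ = 1)
    (u : Λ) (hu : (Ideal.span {u}).radical = IsLocalRing.maximalIdeal Λ)
    (X : Scheme.{u}) [IsLocallyNoetherian X] (f : X ⟶ Spec (CommRingCat.of Λ)) [IsProper f] [Flat f]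
    (P : Finset X) (hP : ∀ p ∈ P, f.base p = IsLocalRing.closedPoint Λ)
    (hsm : ∀ q : X, f.base q = IsLocalRing.closedPoint Λ → q ∉ P →
      ∃ U : X.Opens, q ∈ U ∧ SmoothOfRelativeDimension 1 (U.ι ≫ f))
    (hnode : ∀ p ∈ P, ∃ e : AdicCompletion (IsLocalRing.maximalIdeal (X.presheaf.stalk p)) (X.presheaf.stalk p) ≃+*
        (MvPowerSeries (Fin 2) Λ ⧸ Ideal.span {MvPowerSeries.X 0 * MvPowerSeries.X 1 - MvPowerSeries.C u}),
      ∀ c : Λ, e (algebraMap (X.presheaf.stalk p) _ (((X.presheaf.germ ⊤ p trivial).hom.comp (Coh.toGlobal f)) c)) =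
        Ideal.Quotient.mk _ (MvPowerSeries.C c)) :
    ∀ q : X, f.base q ≠ IsLocalRing.closedPoint Λ →
      ∃ U : X.Opens, q ∈ U ∧ SmoothOfRelativeDimension 1 (U.ι ≫ f) := by
  intro q hq
  haveI : IsNoetherianRing (CommRingCat.of Λ) := inferInstanceAs (IsNoetherianRing Λ)
  haveI : LocallyOfFinitePresentation f := inferInstance
  obtain ⟨x, hqx, hx⟩ := f.isClosedMap.specializingMap
    (show f.base q ⤳ IsLocalRing.closedPoint Λ from IsLocalRing.specializes_closedPoint _)
  by_cases hxP : x ∉ P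
  · obtain ⟨U, hxU, hU⟩ := hsm x hx hxP
    exact ⟨U, hqx.mem_open U.2 hxU, hU⟩
  replace hxP : x ∈ P := not_not.1 hxP
  obtain ⟨e, he⟩ := hnode x hxP
  obtain ⟨_, ⟨δ⟩⟩ := NodeDefSmoothLib.exists_data u _ e he
  set ψ := (X.presheaf.germ ⊤ x trivial).hom.comp (Coh.toGlobal f) with hψdef
  have ht : u ∈ IsLocalRing.maximalIdeal Λ := hu ▸ Ideal.le_radical (Ideal.mem_span_singleton_self u)
  have hψ : (IsLocalRing.maximalIdeal Λ).map ψ ≤ IsLocalRing.maximalIdeal (X.presheaf.stalk x) := by
    refine Ideal.map_le_iff_le_comap.2 fun c hc => ?_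
    have h := δ.closed (ψ c) 1 (by
      rw [pow_one, δ.comp, NodeDefSmoothLib.mk_mem_max_iff ht, MvPowerSeries.constantCoeff_C]
      exact hc)
    rwa [pow_one] at h
  have hgerm : ∀ c, (f.stalkMap x).hom (((Spec (CommRingCat.of Λ)).presheaf.germ ⊤ (f x) trivial).hom
      ((Scheme.ΓSpecIso (CommRingCat.of Λ)).inv.hom c)) = ψ c := fun c =>
    f.germ_stalkMap_apply ⊤ x trivial _
  obtain ⟨hCM, hdim1⟩ := NodeDefSmoothLib.closedFibre δ ht hψ
  -- the closed fibre at `x`
  letI := (f.stalkMap x).hom.toAlgebra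
  have hmax : (IsLocalRing.maximalIdeal ((Spec (CommRingCat.of Λ)).presheaf.stalk (f x))).map (f.stalkMap x).hom =
      (IsLocalRing.maximalIdeal Λ).map ψ := by
    rw [maximal_stalk_eq (f x) (fun c hc hcu => (IsLocalRing.mem_maximalIdeal _).1 (hψ (Ideal.mem_map_of_mem _ hc))
      (hgerm c ▸ hcu.map (f.stalkMap x).hom)), Ideal.map_map]
    exact congrArg (fun g => (IsLocalRing.maximalIdeal Λ).map g) (RingHom.ext hgerm)
  obtain ⟨eF⟩ := CMFlatLib.nonempty_fibre_equiv f x
  have eF' := eF.trans (Ideal.quotEquivOfEq (show _ = (IsLocalRing.maximalIdeal Λ).map ψ from hmax))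
  haveI : Nontrivial (X.presheaf.stalk x ⧸ (IsLocalRing.maximalIdeal Λ).map ψ) :=
    Ideal.Quotient.nontrivial_iff.2 fun h => (IsLocalRing.maximalIdeal.isMaximal _).ne_top (top_le_iff.1 (h ▸ hψ))
  haveI : IsLocalRing (X.presheaf.stalk x ⧸ (IsLocalRing.maximalIdeal Λ).map ψ) :=
    IsLocalRing.of_surjective' _ Ideal.Quotient.mk_surjective
  have hcm : MoreMor.IsCMAt f x :=
    ⟨Flat.stalkMap f x, (CMFlatLib.isCohenMacaulayLocalRing_congr eF').2
      (SMTLib.isCohenMacaulayLocalRing_of_isCM _ hCM)⟩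
  obtain ⟨d, O, hO, hxO, hd⟩ := CMFlatLib.exists_open_fibreDimAt_eq f x hcm
  have hd1 : (1 : WithBot ℕ∞) ≤ (d : WithBot ℕ∞) := by
    refine le_of_le_of_eq ?_ (hd x hxO)
    show _ ≤ FlatMor.localDim (f.fiber (f x)) (f.asFiber x)
    haveI : LocallyOfFiniteType (f.fiberToSpecResidueField (f x)) := UOpenLib.lft_fiberToSpec f (f x)
    rw [FibDimLib.localDim_eq_closure_add_stalk (f.fiberToSpecResidueField (f x)) (f.asFiber x),
      ringKrullDim_eq_of_ringEquiv eF', hdim1]
    exact le_add_of_nonneg_left ((FibDimLib.localDim_nonneg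
      (⟨f.asFiber x, subset_closure rfl⟩ : closure ({f.asFiber x} : Set (f.fiber (f x))))).trans (FibDimLib.localDim_le _))
  -- an affine chart
  obtain ⟨_, ⟨V, hV, rfl⟩, hxV, -⟩ :=
    X.isBasis_affineOpens.exists_subset_of_mem_open (Set.mem_univ x) isOpen_univ
  have hV : IsAffineOpen V := hV
  have hqV : q ∈ V := hqx.mem_open V.2 hxV
  have hU : IsAffineOpen (⊤ : (Spec (CommRingCat.of Λ)).Opens) := isAffineOpen_top _
  have eV : V ≤ f ⁻¹ᵁ ⊤ := le_top
  letI := (f.appLE ⊤ V eV).hom.toAlgebra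
  haveI : Algebra.FinitePresentation Γ(Spec (CommRingCat.of Λ), ⊤) Γ(X, V) := f.finitePresentation_appLE hU hV eV
  letI := TopCat.Presheaf.algebra_section_stalk X.presheaf (⟨x, hxV⟩ : V)
  haveI := hV.isLocalization_stalk ⟨x, hxV⟩
  letI : Algebra Γ(Spec (CommRingCat.of Λ), ⊤) (X.presheaf.stalk x) :=
    ((algebraMap Γ(X, V) (X.presheaf.stalk x)).comp (algebraMap Γ(Spec (CommRingCat.of Λ), ⊤) Γ(X, V))).toAlgebra
  haveI : IsScalarTower Γ(Spec (CommRingCat.of Λ), ⊤) Γ(X, V) (X.presheaf.stalk x) := IsScalarTower.of_algebraMap_eq' rfl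
  haveI : Algebra.EssFiniteType Γ(X, V) (X.presheaf.stalk x) :=
    Algebra.EssFiniteType.of_isLocalization _ (hV.primeIdealOf ⟨x, hxV⟩).asIdeal.primeCompl
  haveI : Algebra.EssFiniteType Γ(Spec (CommRingCat.of Λ), ⊤) (X.presheaf.stalk x) :=
    Algebra.EssFiniteType.comp _ Γ(X, V) _
  let j := (Scheme.ΓSpecIso (CommRingCat.of Λ)).inv.hom
  have hj : ∀ c, algebraMap Γ(Spec (CommRingCat.of Λ), ⊤) (X.presheaf.stalk x) (j c) = ψ c := fun c => by
    show (X.presheaf.germ V x hxV).hom ((f.appLE ⊤ V eV).hom (j c)) = _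
    show (X.presheaf.germ V x hxV).hom ((X.presheaf.map (homOfLE eV).op).hom (f.appTop.hom (j c))) = _
    rw [TopCat.Presheaf.germ_res_apply]
    rfl
  have hr₀ : algebraMap Γ(Spec (CommRingCat.of Λ), ⊤) Γ(X, V) (j u) ∉ (hV.primeIdealOf ⟨q, hqV⟩).asIdeal := by
    intro hmem
    letI := TopCat.Presheaf.algebra_section_stalk X.presheaf (⟨q, hqV⟩ : V)
    haveI := hV.isLocalization_stalk ⟨q, hqV⟩
    have h1 := (IsLocalRing.mem_maximalIdeal _).1
      ((IsLocalization.AtPrime.to_map_mem_maximal_iff (X.presheaf.stalk q) (hV.primeIdealOf ⟨q, hqV⟩).asIdeal _).2 hmem)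
    refine h1 ?_
    show IsUnit ((X.presheaf.germ V q hqV).hom ((X.presheaf.map (homOfLE eV).op).hom (f.appTop.hom (j u))))
    rw [TopCat.Presheaf.germ_res_apply]
    have hu' : u ∉ (f.base q).asIdeal := fun hmem => hq <| by
      refine PrimeSpectrum.ext (le_antisymm (IsLocalRing.le_maximalIdeal (f.base q).isPrime.ne_top) ?_)
      show IsLocalRing.maximalIdeal Λ ≤ _
      rw [← hu]
      exact (f.base q).isPrime.radical_le_iff.2 ((Ideal.span_singleton_le_iff_mem _).2 hmem)
    have hbo : f q ∈ (Spec (CommRingCat.of Λ)).basicOpen (j u) := by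
      rw [basicOpen_eq_of_affine]
      exact hu'
    have h2 := ((Spec (CommRingCat.of Λ)).mem_basicOpen (j u) (f q) trivial).1 hbo
    have h3 := h2.map (f.stalkMap q).hom
    rwa [f.germ_stalkMap_apply] at h3
  have hfin := NodeDefSmoothLib.finrank_le_one (R := Γ(Spec (CommRingCat.of Λ), ⊤)) (B := Γ(X, V))
    (A := X.presheaf.stalk x) (hV.primeIdealOf ⟨x, hxV⟩).asIdeal (hV.primeIdealOf ⟨q, hqV⟩).asIdeal
    (flat_specializes hV hqx hqV hxV) (j u) hr₀ fun n => by
      obtain ⟨a, ha, b, hb, -, -, hgen, hab⟩ := NodeDefSmoothLib.exists_coords δ ht n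
      refine ⟨a, ha, b, hb, fun z => ?_, by rw [hj]; exact hab⟩
      obtain ⟨c, α, β, h⟩ := hgen z
      exact ⟨j c, α, β, by rw [hj]; exact h⟩
  obtain ⟨hiff, hdimq⟩ := SmoothDimLib.mem_smoothLocus_iff f hU hV eV q hqV
  have hqO : q ∈ O := hqx.mem_open hO hxO
  have hqs : q ∈ f.smoothLocus := hiff.2 ⟨Flat.stalkMap f q, by
    rw [hd q hqO]
    exact le_trans (by exact_mod_cast hfin) hd1⟩
  have hdone : d = 1 := by
    have h := (hd q hqO).symm.trans (hdimq hqs)
    have h1 : (1 : ℕ) ≤ d := by exact_mod_cast hd1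
    have h2 : (d : WithBot ℕ∞) ≤ 1 := h.le.trans (by exact_mod_cast hfin)
    have h3 : d ≤ 1 := by exact_mod_cast h2
    omega
  obtain ⟨W, hqW, hW⟩ := Unram17Lib.exists_smooth_nhd (f := f) hqs
  let U : X.Opens := W ⊓ ⟨O, hO⟩
  refine ⟨U, ⟨hqW, hqO⟩, (CurvOpenLib.smoothOfRelativeDimension_iff_forall 1 _).2 ⟨?_, fun z => ?_⟩⟩
  · rw [← X.homOfLE_ι (show U ≤ W from inf_le_left), Category.assoc]
    infer_instance
  · rw [FibDimLib.fibreDimAt_comp_isOpenImmersion, hd (U.ι.base z) z.2.2, hdone]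

end Groth.Agent.S13982
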