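import Groth.Statements.S13985
import Mathlib
-- helpers

set_option autoImplicit false
universe u
open CategoryTheory
open CohGab

namespace Groth.Agent.S13985

/-- For a ring A, the canonical map from the centre of A to the centre of the category of finitely
generated left A-modules (the endomorphism ring of its identity functor), sending a to
multiplication by a, is bijective: every natural endomorphism of the identity functor acts on each
finitely generated module as multiplication by a unique element of A, and that element is central.
(The published statement calls this map an isomorphism of commutative rings; this row states its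
bijectivity.) -/
theorem result (A : Type u) [Ring A]
    (φ : 𝟭 (FGModuleCat.{u} A) ⟶ 𝟭 (FGModuleCat.{u} A)) :
    ∃! a : A, a ∈ Subring.center A ∧
      ∀ (M : FGModuleCat.{u} A) (x : M), (φ.app M).hom.hom x = a • x := by
  let R : FGModuleCat.{u} A := FGModuleCat.of A A
  let a : A := (φ.app R).hom.hom (1 : A)
  have hval : ∀ (M : FGModuleCat.{u} A) (x : M), (φ.app M).hom.hom x = a • x := fun M x => by
    let g : R ⟶ M := FGModuleCat.ofHom (LinearMap.toSpanSingleton A M x)
    have h := congrArg (fun k : R ⟶ M => k.hom.hom (1 : A)) (φ.naturality g)
    have hg : ∀ r : A, g.hom.hom r = r • x := fun r => rfl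
    have h' : (φ.app M).hom.hom (g.hom.hom (1 : A)) = g.hom.hom a := h
    rw [hg, hg, one_smul] at h'
    exact h'
  refine ⟨a, ⟨Subring.mem_center_iff.mpr fun b => ?_, hval⟩, fun b hb => ?_⟩
  · have h1 : (φ.app R).hom.hom (b • (1 : A) : A) = b • (φ.app R).hom.hom (1 : A) := map_smul _ _ _
    have h2 := hval R (b • (1 : A) : A)
    rw [h1] at h2
    simpa using h2
  · have := hb.2 R (1 : A)
    simpa using this.symm

end Groth.Agent.S13985
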