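import Groth.Statements.S13986
import Groth.Agent.DevissLib.Induction
import Groth.Agent.DevissLib.KilledImm
import Groth.Agent.DevissLib.ClosedImm
import Groth.Agent.ConsLib.ModLoci

-- import your own Groth.Agent.* helpers here

set_option autoImplicit false
universe u
open CategoryTheory AlgebraicGeometry
open CohGab

namespace Groth.Agent.S13986

open CategoryTheory.Limits TensorProduct DevissLib

theorem nontrivial_tensor {A B : Type u} [CommRing A] [IsLocalRing A] [CommRing B] [Nontrivial B] [Algebra A B]
    (hs : Function.Surjective (algebraMap A B)) (M : Type u) [AddCommGroup M] [Module A M] [Module.Finite A M]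
    (hM : ∀ m : M, (1 : B) ⊗ₜ[A] m = 0) : Subsingleton M := by
  have hle : RingHom.ker (algebraMap A B) ≤ IsLocalRing.maximalIdeal A :=
    IsLocalRing.le_maximalIdeal (RingHom.ker_ne_top _)
  let π : B →+* IsLocalRing.ResidueField A :=
    RingHom.liftOfSurjective _ hs ⟨IsLocalRing.residue A, hle.trans IsLocalRing.ker_residue.ge⟩
  let π' : B →ₐ[A] IsLocalRing.ResidueField A :=
    { π with commutes' := fun a => RingHom.liftOfRightInverse_comp_apply _ _ (Function.rightInverse_surjInv hs) _ a }
  have h0 : ∀ m : M, (1 : IsLocalRing.ResidueField A) ⊗ₜ[A] m = 0 := fun m => by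
    have := congrArg (π'.toLinearMap.rTensor M) (hM m)
    rw [LinearMap.rTensor_tmul, map_zero, AlgHom.toLinearMap_apply, map_one] at this
    exact this
  have hk : ((⊥ : Submodule A M).map (TensorProduct.mk A (IsLocalRing.ResidueField A) M 1)) = ⊤ := by
    refine eq_top_iff.2 fun x _ => ?_
    suffices x = 0 from this ▸ Submodule.zero_mem _
    induction x using TensorProduct.induction_on with
    | zero => rfl
    | tmul c m =>
      obtain ⟨a, rfl⟩ := IsLocalRing.residue_surjective c
      rw [show IsLocalRing.residue A a = a • (1 : IsLocalRing.ResidueField A) by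
        rw [Algebra.smul_def, mul_one]; rfl, ← TensorProduct.smul_tmul', h0, smul_zero]
    | add a b ha hb => rw [ha trivial, hb trivial, add_zero]
  have h2 := IsLocalRing.map_tensorProduct_mk_eq_top.1 hk
  exact subsingleton_of_forall_eq 0 fun m => (Submodule.mem_bot A).1 (h2 ▸ Submodule.mem_top)

variable {X : Scheme.{u}}

theorem support_mid {S : ShortComplex X.Modules} (hS : S.ShortExact) :
    CohB1.support S.X₂ ⊆ CohB1.support S.X₁ ∪ CohB1.support S.X₃ := by
  intro x hx
  by_contra h
  rw [Set.mem_union, not_or, notMem_support_iff, notMem_support_iff] at h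
  exact (notMem_support_iff _ x).2
    ((hS.exact.map (St x)).isZero_X₂ (h.1.eq_of_src _ _) (h.2.eq_of_tgt _ _)) hx

theorem support_quotient_point [IsNoetherian X] {F : X.Modules} (hF : Coh.IsCoh F) {η : X}
    (hη : η ∈ CohB1.support F) : ∃ (G0 Q Q' : X.Modules) (π : F ⟶ Q) (j : Q ⟶ Q'),
      Coh.IsCoh G0 ∧ CohB1.support G0 = closure {η} ∧
      Nonempty (↑(G0.presheaf.stalk η) ≃ₗ[X.presheaf.stalk η] IsLocalRing.ResidueField (X.presheaf.stalk η)) ∧
      Epi π ∧ Coh.IsCoh Q ∧ CohB1.support Q ⊆ closure {η} ∧ η ∈ CohB1.support Q := by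
  obtain ⟨Z, i, hi, hZ, hr⟩ := DevissLib.exists_integral_closed (isClosed_closure (s := {η}))
    isIrreducible_singleton.closure
  have hgen : i (genericPoint Z) = η := by
    have h1 : IsGenericPoint (i (genericPoint Z)) (closure (Set.range i)) := by
      have := (genericPoint_spec Z).image i.continuous
      rwa [Set.image_univ] at this
    rw [hr, closure_closure] at h1
    exact h1.eq isGenericPoint_closure
  haveI : Coh.IsQCoh F := hF.1
  let P := (Scheme.Modules.pullback i).obj F
  have hP : Coh.IsCoh P := ConsLib.isCoh_pullback i hF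
  let Q' := (Scheme.Modules.pushforward i).obj P
  have hQ' : Coh.IsCoh Q' := QCohLib.isCoh_push_finite i P hP
  let φ : F ⟶ Q' := (Scheme.Modules.pullbackPushforwardAdjunction i).unit.app F
  obtain ⟨hc, hs, he⟩ := DevissLib.push_generic i (Coh.structureModule Z) (DevissLib.isCoh_structureModule Z) ⊤
    ⟨genericPoint Z, trivial⟩ (fun W _ => DevissLib.exists_gen_structureModule W)
  refine ⟨(Coh.push i).obj (Coh.structureModule Z), Abelian.image φ, Q', Abelian.factorThruImage φ,
    Abelian.image.ι φ, hc, hs.trans hr, hgen ▸ he, inferInstance, DevissLib.isCoh_image φ hF hQ', ?_, ?_⟩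
  · exact (DevissLib.support_mono (Abelian.image.ι φ)).trans ((DevissLib.support_push_subset i P).trans hr.le)
  · intro hcon
    let z := genericPoint Z
    have hzero : ∀ a : (St (i z)).obj F, ((St (i z)).map φ).hom a = 0 := by
      intro a
      have hsub : Subsingleton ((St (i z)).obj (Abelian.image φ)) := by rw [hgen]; exact hcon
      rw [show φ = Abelian.factorThruImage φ ≫ Abelian.image.ι φ from (Abelian.image.fac φ).symm,
        Functor.map_comp, ModuleCat.hom_comp, LinearMap.comp_apply,
        Subsingleton.elim (((St (i z)).map (Abelian.factorThruImage φ)).hom a) 0, map_zero]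
    letI := (i.stalkMap z).hom.toAlgebra
    haveI : _root_.IsNoetherian (X.presheaf.stalk (i z)) ((St (i z)).obj F) := DevissLib.isNoetherian_stalk hF _
    have h1 : ∀ a : (St (i z)).obj F,
        (1 : Z.presheaf.stalk z) ⊗ₜ[X.presheaf.stalk (i z)] a = 0 := by
      intro a
      obtain ⟨U, hU, s, rfl⟩ := exists_gm_eq F (i z) a
      refine (ConcreteCategory.bijective_of_isIso ((KFlatLib.stalkPullIso i z).inv.app F)).1 ?_
      refine (KFlatLib.stalkPullInv_germ i F z hU s).trans (Eq.trans ?_ (map_zero _).symm)
      have h0 := (gm_app φ (i z) hU s).symm.trans (hzero _)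
      obtain ⟨O, hxO, i₁, i₂, hO⟩ := TopCat.Presheaf.germ_eq _ (i z) hU hU (φ.app U s) 0
        (h0.trans (gm_zero Q' _ hU).symm)
      rw [map_zero] at hO
      refine (gm_map P (i.preimage_mono i₁.le) z hxO _).symm.trans ?_
      exact (congr_arg (gm P z (U := i ⁻¹ᵁ O) hxO) hO).trans (gm_zero P z hxO)
    have := nontrivial_tensor (B := Z.presheaf.stalk z) (i.stalkMap_surjective z) _ h1
    rw [← hgen] at hη
    exact hη this


/-- Let X be a Noetherian scheme and F, E coherent O_X-modules. Then E lies in the smallest Serre
subcategory of Coh(X) containing F — that is, E has every property P of O_X-modules such that P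
holds for F and P is a Serre class on coherent modules (for a short exact sequence of coherent
modules the middle term has P iff both outer terms do) — if and only if Supp(E) ⊆ Supp(F).
Equivalently: for a closed subset Z, the coherent modules supported in Z form the Serre subcategory
generated by any coherent module whose support is exactly Z. (The published statement is about
coherent sheaves twisted by a class in the second etale cohomology group of the units of the
structure sheaf; this row is its case of the trivial class, ordinary coherent sheaves.) -/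
theorem result (X : Scheme.{u}) [IsNoetherian X]
    (F E : X.Modules) (hF : Coh.IsCoh F) (hE : Coh.IsCoh E) :
    (∀ P : ObjectProperty X.Modules, P F →
      (∀ S : ShortComplex X.Modules, S.ShortExact → Coh.IsCoh S.X₁ → Coh.IsCoh S.X₂ →
        Coh.IsCoh S.X₃ → (P S.X₂ ↔ P S.X₁ ∧ P S.X₃)) → P E) ↔
    CohB1.support E ⊆ CohB1.support F := by
  constructor
  · intro h
    refine h (fun M => CohB1.support M ⊆ CohB1.support F) subset_rfl fun S hS h₁ h₂ h₃ => ?_
    haveI := hS.mono_f
    haveI := hS.epi_g
    exact ⟨fun h => ⟨(DevissLib.support_mono S.f).trans h, (DevissLib.support_epi S.g).trans h⟩,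
      fun h => (support_mid hS).trans (Set.union_subset h.1 h.2)⟩
  · intro hsupp P hPF hP
    by_cases hne : (CohB1.support F).Nonempty
    swap
    · have hE0 : IsZero E := DevissLib.isZero_of_support_empty
        (Set.eq_empty_of_subset_empty (hsupp.trans (Set.not_nonempty_iff_eq_empty.1 hne).le))
      let S : ShortComplex X.Modules := ShortComplex.mk (𝟙 F) (0 : F ⟶ E) comp_zero
      have hS : S.ShortExact :=
        { exact := (ShortComplex.exact_iff_epi _ rfl).mpr inferInstance
          mono_f := inferInstanceAs (Mono (𝟙 F))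
          epi_g := ⟨fun a b _ => hE0.eq_of_src a b⟩ }
      exact ((hP S hS hF hF hE).1 hPF).2
    have hzero : ∀ K : X.Modules, IsZero K → P K := fun K hK => by
      let S : ShortComplex X.Modules := ShortComplex.mk (𝟙 F) (0 : F ⟶ K) comp_zero
      have hS : S.ShortExact :=
        { exact := (ShortComplex.exact_iff_epi _ rfl).mpr inferInstance
          mono_f := inferInstanceAs (Mono (𝟙 F))
          epi_g := ⟨fun a b _ => hK.eq_of_src a b⟩ }
      exact ((hP S hS hF hF (DevissLib.isCoh_of_isZero hK)).1 hPF).2
    refine DevissLib.devissage (fun M => Coh.IsCoh M → P M) ?_ (CohB1.support F) ?_ hne ?_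
      (QCohLib.isClosed_support F hF.2) E hE hsupp hE
    · rintro M N ⟨e⟩ hM hN
      have hMc := QCohLib.isCoh_of_iso e.symm hN
      let S : ShortComplex X.Modules := ShortComplex.mk (kernel.ι e.hom) e.hom (kernel.condition _)
      have hS : S.ShortExact :=
        { exact := ShortComplex.exact_of_f_is_kernel _ (kernelIsKernel _)
          mono_f := inferInstanceAs (Mono (kernel.ι e.hom))
          epi_g := inferInstanceAs (Epi e.hom) }
      exact ((hP S hS (QCohLib.isCoh_kernel e.hom hMc hN.1) hMc hN).1 (hM hMc)).2
    · intro S hS h₁ h₂ h₃ _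
      have := hP S hS h₁ h₂ h₃
      exact ⟨fun a b _ => (this.1 (b h₂)).2, fun a b _ => this.2 ⟨a h₁, b h₃⟩, fun a _ _ => (this.1 (a h₂)).1⟩
    · intro η hη _
      obtain ⟨G0, Q, Q', π, j, hG0, hs0, ⟨e⟩, hπ, hQ, hQs, hηQ⟩ := support_quotient_point hF hη
      have hPQ : P Q := by
        let S : ShortComplex X.Modules := ShortComplex.mk (kernel.ι π) π (kernel.condition _)
        have hS : S.ShortExact :=
          { exact := ShortComplex.exact_of_f_is_kernel _ (kernelIsKernel _)
            mono_f := inferInstanceAs (Mono (kernel.ι π))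
            epi_g := hπ }
        exact ((hP S hS (QCohLib.isCoh_kernel π hF hQ.1) hF hQ).1 hPF).2
      have hgen : ∀ y ∈ closure ({η} : Set X), y ⤳ η → y = η := fun y hy h =>
        (h.antisymm (specializes_iff_mem_closure.mpr hy)).eq
      obtain ⟨H, p₁, p₂, hH, hHs, hb, hinj, a, ha⟩ := DevissLib.exists_bridge hG0 hQ
        (fun y hy => hgen y (hs0.le hy)) (fun y hy => hgen y (hQs hy)) e hηQ
      let G := Abelian.image p₂
      have hG : Coh.IsCoh G := DevissLib.isCoh_image p₂ hH hQ
      have hGs : CohB1.support G ⊆ closure {η} := (DevissLib.support_mono (Abelian.image.ι p₂)).trans hQs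
      let q := ((DevissLib.St η).map (Abelian.factorThruImage p₂)).hom
      have hq : Function.Bijective q := by
        refine ⟨fun u v h => hinj ?_, (ModuleCat.epi_iff_surjective _).1 inferInstance⟩
        rw [← Abelian.image.fac p₂, Functor.map_comp, ModuleCat.hom_comp, LinearMap.comp_apply,
          LinearMap.comp_apply]
        exact congrArg _ h
      let e' := ((LinearEquiv.ofBijective q hq).symm.trans (LinearEquiv.ofBijective _ hb)).trans e
      have hηG : η ∈ CohB1.support G := (DevissLib.mem_support_iff_nonzero G η).2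
        ⟨q a, fun h => ha (by
          rw [← Abelian.image.fac p₂, Functor.map_comp, ModuleCat.hom_comp, LinearMap.comp_apply]
          exact (congrArg _ h).trans (map_zero _))⟩
      refine ⟨G, hG, hGs.antisymm ((QCohLib.isClosed_support G hG.2).closure_subset_iff.2 (by simpa using hηG)),
        ⟨e'⟩, fun _ => ?_⟩
      let S : ShortComplex X.Modules := ShortComplex.mk (Abelian.image.ι p₂) (cokernel.π p₂) (kernel.condition _)
      exact ((hP S (DevissLib.imCokSeq_shortExact p₂) hG hQ (QCohLib.isCoh_cokernel p₂ hH.1 hQ)).1 hPQ).1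


end Groth.Agent.S13986
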