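import Groth.Statements.S13987
import Mathlib
import Mathlib
import Groth.Agent.CohGenLib.Localization
-- import your own Groth.Agent.* helpers here

set_option autoImplicit false
set_option linter.all false
set_option backward.isDefEq.respectTransparency false
universe u
open CategoryTheory CategoryTheory.Limits AlgebraicGeometry
open CohGab

namespace Groth.Agent.S13987

section Criterion

universe v₁ v₂ u₁ u₂

variable {C : Type u₁} [Category.{v₁} C] {D : Type u₂} [Category.{v₂} D] (L : C ⥤ D) (W : MorphismProperty C)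
  [W.IsMultiplicative]

/-- A functor to whose target every object and every map descends up to `W` is a localization. -/
theorem isLocalization_of_left [L.EssSurj] (hW : ∀ {X Y : C} (f : X ⟶ Y), W f ↔ IsIso (L.map f))
    (hfull : ∀ {X Y : C} (f : L.obj X ⟶ L.obj Y),
      ∃ (Y' : C) (s : Y ⟶ Y') (g : X ⟶ Y'), W s ∧ f ≫ L.map s = L.map g)
    (heq : ∀ {X Y : C} (f g : X ⟶ Y), L.map f = L.map g → ∃ (Y' : C) (s : Y ⟶ Y'), W s ∧ f ≫ s = g ≫ s) :
    L.IsLocalization W := by
  haveI hlc : W.HasLeftCalculusOfFractions :=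
    { exists_leftFraction := fun X Y φ => by
        haveI := (hW φ.s).1 φ.hs
        obtain ⟨Y', t, g, ht, hg⟩ := hfull (inv (L.map φ.s) ≫ L.map φ.f)
        rw [Category.assoc, IsIso.inv_comp_eq, ← L.map_comp, ← L.map_comp] at hg
        obtain ⟨Z, t', ht', e⟩ := heq _ _ hg
        exact ⟨{ f := g ≫ t', s := t ≫ t', hs := W.comp_mem _ _ ht ht' }, by simpa using e⟩
      ext := fun X' X Y f₁ f₂ s hs e => by
        haveI := (hW s).1 hs
        obtain ⟨Z, t, ht, e'⟩ := heq f₁ f₂ (by rw [← cancel_epi (L.map s), ← L.map_comp, ← L.map_comp, e])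
        exact ⟨Z, t, ht, e'⟩ }
  have hinv : W.IsInvertedBy L := fun X Y f hf => (hW f).1 hf
  let Φ := Localization.lift L hinv W.Q
  let η : W.Q ⋙ Φ ≅ L := Localization.fac L hinv W.Q
  have hΦ : ∀ {X Y : C} (f : X ⟶ Y), Φ.map (W.Q.map f) = η.hom.app X ≫ L.map f ≫ η.inv.app Y := by
    intro X Y f
    rw [← Category.assoc, ← cancel_mono (η.hom.app Y), Category.assoc _ (η.inv.app Y), Iso.inv_hom_id_app,
      Category.comp_id]
    exact NatTrans.naturality η.hom f
  haveI := Localization.essSurj W.Q W
  have hinj : ∀ {X Y : C} (a b : W.Q.obj X ⟶ W.Q.obj Y), Φ.map a = Φ.map b → a = b := by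
    intro X Y a b hab
    obtain ⟨φ, rfl⟩ := Localization.exists_leftFraction W.Q W a
    obtain ⟨ψ, rfl⟩ := Localization.exists_leftFraction W.Q W b
    obtain ⟨χ, hχ⟩ := hlc.exists_leftFraction (MorphismProperty.RightFraction.mk φ.s φ.hs ψ.s)
    have hσ : W (ψ.s ≫ χ.s) := W.comp_mem _ _ ψ.hs χ.hs
    haveI := Localization.inverts W.Q W _ hσ
    rw [← cancel_mono (W.Q.map (ψ.s ≫ χ.s))]
    have h1 : φ.map W.Q (Localization.inverts W.Q W) ≫ W.Q.map (ψ.s ≫ χ.s) = W.Q.map (φ.f ≫ χ.f) := by
      rw [show ψ.s ≫ χ.s = φ.s ≫ χ.f from hχ, Functor.map_comp, ← Category.assoc,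
        MorphismProperty.LeftFraction.map_comp_map_s, Functor.map_comp]
    have h2 : ψ.map W.Q (Localization.inverts W.Q W) ≫ W.Q.map (ψ.s ≫ χ.s) = W.Q.map (ψ.f ≫ χ.s) := by
      rw [Functor.map_comp, ← Category.assoc, MorphismProperty.LeftFraction.map_comp_map_s, Functor.map_comp]
    rw [h1, h2]
    have h3 : Φ.map (W.Q.map (φ.f ≫ χ.f)) = Φ.map (W.Q.map (ψ.f ≫ χ.s)) := by
      rw [← h1, ← h2]; simp only [Functor.map_comp]; rw [hab]
    rw [hΦ, hΦ, cancel_epi, cancel_mono] at h3
    obtain ⟨Z, t, ht, e⟩ := heq _ _ h3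
    exact (MorphismProperty.map_eq_iff_postcomp W.Q W _ _).2 ⟨Z, t, ht, e⟩
  have hsurj : ∀ {X Y : C} (g : Φ.obj (W.Q.obj X) ⟶ Φ.obj (W.Q.obj Y)), ∃ a, Φ.map a = g := by
    intro X Y g
    obtain ⟨Y', s, f, hs, hf⟩ := hfull (η.inv.app X ≫ g ≫ η.hom.app Y)
    haveI := Localization.inverts W.Q W s hs
    haveI := hinv s hs
    refine ⟨W.Q.map f ≫ inv (W.Q.map s), ?_⟩
    rw [Functor.map_comp, Functor.map_inv, IsIso.comp_inv_eq, hΦ, hΦ, ← hf]
    simp
  haveI : Φ.Faithful := ⟨fun {X Y} f g h => by
    let a := W.Q.objObjPreimageIso X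
    let b := W.Q.objObjPreimageIso Y
    rw [← cancel_epi a.hom, ← cancel_mono b.inv]
    exact hinj _ _ (by simp [h])⟩
  haveI : Φ.Full := ⟨fun {X Y} g => by
    let a := W.Q.objObjPreimageIso X
    let b := W.Q.objObjPreimageIso Y
    obtain ⟨c, hc⟩ := hsurj (Φ.map a.hom ≫ g ≫ Φ.map b.inv)
    exact ⟨a.inv ≫ c ≫ b.hom, by simp [hc]⟩⟩
  haveI : Φ.EssSurj := ⟨fun d => ⟨W.Q.obj (L.objPreimage d), ⟨η.app _ ≪≫ L.objObjPreimageIso d⟩⟩⟩
  haveI : Φ.IsEquivalence := {}
  exact Functor.IsLocalization.of_equivalence_target W.Q W L Φ.asEquivalence η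

end Criterion

section Adj

variable {C : Type*} [Category C] {D : Type*} [Category D] {F : C ⥤ D} {G : D ⥤ C}

theorem rmap_eq (adj : F ⊣ G) [IsIso adj.counit] {A B : C} (f : F.obj A ⟶ F.obj B) :
    f ≫ F.map (adj.unit.app B) = F.map (adj.unit.app A ≫ G.map f) := by
  rw [← cancel_mono (adj.counit.app (F.obj B))]
  simp

end Adj

end Groth.Agent.S13987

namespace Groth.Agent.S13987

/-- Let X be a Noetherian scheme, Z ⊆ X a closed subset and U = X ∖ Z. Then restriction to U induces an
equivalence between the quotient abelian category Coh(X)/Coh_Z(X) (coherent modules modulo those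
supported in Z) and Coh(U): the restriction functor Coh(X) ⥤ Coh(U) is a localization functor for
the class of morphisms of coherent O_X-modules whose kernel and cokernel (taken in O_X-modules) have
support contained in Z. The hypothesis that restriction to U preserves coherence always holds and is
carried only to form the functor between the full subcategories. (The published statement is about
coherent sheaves twisted by a class in the second etale cohomology group of the units of the
structure sheaf; this row is its case of the trivial class, ordinary coherent sheaves.) -/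
theorem result (X : Scheme.{u}) [IsNoetherian X]
    (U : X.Opens)
    (hres : ∀ M : X.Modules, Coh.IsCoh M → Coh.IsCoh ((Scheme.Modules.restrictFunctor U.ι).obj M)) :
    (ObjectProperty.lift (fun N : (↑U : Scheme.{u}).Modules => Coh.IsCoh N)
        (ObjectProperty.ι (fun M : X.Modules => Coh.IsCoh M) ⋙ Scheme.Modules.restrictFunctor U.ι)
        (fun M => hres M.obj M.property)).IsLocalization
      (fun (A B : ObjectProperty.FullSubcategory (fun M : X.Modules => Coh.IsCoh M)) (f : A ⟶ B) =>
        CohB1.support (kernel f.hom) ⊆ (↑U : Set X)ᶜ ∧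
          CohB1.support (cokernel f.hom) ⊆ (↑U : Set X)ᶜ) := by
  haveI : PreservesFiniteLimits (Scheme.Modules.restrictFunctor U.ι) := inferInstance
  let R := Scheme.Modules.restrictFunctor U.ι
  let P : ObjectProperty X.Modules := fun M => Coh.IsCoh M
  let L := ObjectProperty.lift (fun N : (↑U : Scheme.{u}).Modules => Coh.IsCoh N) (P.ι ⋙ R) (fun M => hres M.obj M.property)
  let W : MorphismProperty P.FullSubcategory := fun A B f =>
    CohB1.support (kernel f.hom) ⊆ (↑U : Set X)ᶜ ∧ CohB1.support (cokernel f.hom) ⊆ (↑U : Set X)ᶜ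
  have hzero : ∀ M : X.Modules, CohB1.support M ⊆ (↑U : Set X)ᶜ ↔ IsZero (R.obj M) := by
    intro M
    constructor
    · intro h
      refine DevissLib.isZero_of_support_empty (Set.eq_empty_iff_forall_notMem.2 fun x hx => ?_)
      exact h ((CohGenLib.mem_support_restrict U.ι M x).1 hx) x.2
    · intro h x hx hxU
      have := (CohGenLib.mem_support_restrict U.ι M ⟨x, hxU⟩).2 hx
      rw [DevissLib.support_of_isZero h] at this
      exact this
  have hLiso : ∀ {A B : P.FullSubcategory} (f : A ⟶ B), IsIso (L.map f) ↔ IsIso (R.map f.hom) := fun f =>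
    (isIso_iff_of_reflects_iso (L.map f) (ObjectProperty.ι (fun N : (↑U : Scheme.{u}).Modules => Coh.IsCoh N))).symm
  have hW : ∀ {A B : P.FullSubcategory} (f : A ⟶ B), W f ↔ IsIso (L.map f) := by
    intro A B f
    refine Iff.trans (?_ : _ ↔ IsIso (R.map f.hom)) (hLiso _).symm
    refine (and_congr (hzero _) (hzero _)).trans ?_
    constructor
    · rintro ⟨h₁, h₂⟩
      haveI : Mono (R.map f.hom) := Preadditive.mono_of_isZero_kernel _ (h₁.of_iso (PreservesKernel.iso R f.hom).symm)
      haveI : Epi (R.map f.hom) := Preadditive.epi_of_isZero_cokernel _ (h₂.of_iso (PreservesCokernel.iso R f.hom).symm)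
      exact isIso_of_mono_of_epi _
    · intro h
      haveI : IsIso (R.map f.hom) := h
      exact ⟨(isZero_kernel_of_mono (R.map f.hom)).of_iso (PreservesKernel.iso R f.hom),
        (isZero_cokernel_of_epi (R.map f.hom)).of_iso (PreservesCokernel.iso R f.hom)⟩
  haveI : W.IsMultiplicative :=
    { id_mem := fun A => (hW _).2 (by rw [L.map_id]; infer_instance)
      comp_mem := fun f g hf hg => (hW _).2 (by
        haveI := (hW f).1 hf; haveI := (hW g).1 hg; rw [L.map_comp]; infer_instance) }
  haveI : IsLocallyNoetherian (U : Scheme.{u}) := LocallyOfFiniteType.isLocallyNoetherian U.ι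
  haveI : L.EssSurj := ⟨fun N => by
    obtain ⟨F, hF, ⟨e⟩⟩ := CohGenLib.exists_extension U.ι N.property
    exact ⟨⟨F, hF⟩, ⟨ObjectProperty.isoMk _ e⟩⟩⟩
  refine isLocalization_of_left L W hW ?_ ?_
  · intro A B f
    haveI := A.property.1
    haveI := B.property.1
    let j := U.ι
    let adj := Scheme.Modules.restrictAdjunction j
    haveI : Coh.IsQCoh (R.obj B.obj) := (hres _ B.property).1
    haveI := QCohLib.isQCoh_pushforward j (R.obj B.obj)
    let a : A.obj ⟶ (Scheme.Modules.pushforward j).obj (R.obj B.obj) := adj.unit.app A.obj ≫ (Scheme.Modules.pushforward j).map f.hom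
    let b : B.obj ⟶ (Scheme.Modules.pushforward j).obj (R.obj B.obj) := adj.unit.app B.obj
    let m := biprod.desc a b
    have hAB := DevissLib.isCoh_biprod A.property B.property
    have hE : Coh.IsCoh (Abelian.coimage m) := QCohLib.isCoh_cokernel _
      (QCohLib.isCoh_kernel m hAB inferInstance).1 hAB
    let g : A.obj ⟶ Abelian.coimage m := biprod.inl ≫ cokernel.π (kernel.ι m)
    let s : B.obj ⟶ Abelian.coimage m := biprod.inr ≫ cokernel.π (kernel.ι m)
    have hg : g ≫ Abelian.factorThruCoimage m = a := by simp [g, m]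
    have hs : s ≫ Abelian.factorThruCoimage m = b := by simp [s, m]
    haveI : IsIso (R.map b) := CohGenLib.isIso_restrict_unit j B.obj
    haveI : Mono (R.map (Abelian.factorThruCoimage m)) := inferInstance
    have hsb : R.map s ≫ R.map (Abelian.factorThruCoimage m) = R.map b := by rw [← Functor.map_comp, hs]
    haveI : IsSplitEpi (R.map (Abelian.factorThruCoimage m)) :=
      ⟨⟨⟨inv (R.map b) ≫ R.map s, by rw [Category.assoc, hsb, IsIso.inv_hom_id]⟩⟩⟩
    haveI : IsIso (R.map (Abelian.factorThruCoimage m)) := isIso_of_mono_of_isSplitEpi _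
    haveI : IsIso (R.map s) := IsIso.of_isIso_fac_right hsb
    refine ⟨⟨Abelian.coimage m, hE⟩, ObjectProperty.homMk s, ObjectProperty.homMk g, (hW _).2 ?_, ?_⟩
    · exact (hLiso _).2 (inferInstanceAs (IsIso (R.map s)))
    · apply ObjectProperty.hom_ext
      change f.hom ≫ R.map s = R.map g
      rw [← cancel_mono (R.map (Abelian.factorThruCoimage m)), Category.assoc, ← Functor.map_comp, hs,
        ← Functor.map_comp, hg]
      exact rmap_eq adj f.hom
  · intro A B f g h
    have h' : R.map (f.hom - g.hom) = 0 := by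
      have : R.map f.hom = R.map g.hom := congrArg (fun q => (ObjectProperty.ι (fun N : (↑U : Scheme.{u}).Modules => Coh.IsCoh N)).map q) h
      rw [Functor.map_sub, this, sub_self]
    have hc : Coh.IsCoh (cokernel (f.hom - g.hom)) := QCohLib.isCoh_cokernel _ A.property.1 B.property
    refine ⟨⟨_, hc⟩, ObjectProperty.homMk (cokernel.π (f.hom - g.hom)), (hW _).2 ?_, ?_⟩
    · refine (hLiso _).2 ?_
      change IsIso (R.map (cokernel.π (f.hom - g.hom)))
      exact CokernelCofork.IsColimit.isIso_π _
        (isColimitOfHasCokernelOfPreservesColimit R (f.hom - g.hom)) h' 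
    · apply ObjectProperty.hom_ext
      change f.hom ≫ cokernel.π (f.hom - g.hom) = g.hom ≫ cokernel.π (f.hom - g.hom)
      rw [← sub_eq_zero, ← Preadditive.sub_comp, cokernel.condition]

end Groth.Agent.S13987
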