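import Groth.Statements.S13988
import Mathlib
import Groth.Agent.DevissExtLib.Tools
-- import your own Groth.Agent.* helpers here

set_option autoImplicit false
set_option linter.all false
set_option backward.isDefEq.respectTransparency false
universe u
open CategoryTheory AlgebraicGeometry
open CohGab
open CategoryTheory.Limits TopologicalSpace Opposite

namespace Groth.Agent.S13988

/-- The germ of `1` generates freely. -/
theorem gm_one_inj {X : Scheme.{u}} {U : X.Opens} (x : X) (hx : x ∈ U) {a b : X.presheaf.stalk x}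
    (h : a • DevissLib.gm (Coh.structureModule X) x hx (1 : Γ(X, U)) =
      b • DevissLib.gm (Coh.structureModule X) x hx (1 : Γ(X, U))) : a = b := by
  obtain ⟨V, hV, a, rfl⟩ := X.presheaf.exists_germ_eq a
  obtain ⟨W, hW, b, rfl⟩ := X.presheaf.exists_germ_eq b
  let O := Coh.structureModule X
  have key : ∀ (V : X.Opens) (hV : x ∈ V) (a : Γ(X, V)),
      X.presheaf.germ V x hV a • DevissLib.gm O x hx (1 : Γ(X, U)) = DevissLib.gm O x hV a := by
    intro V hV a
    let T : X.Opens := V ⊓ U
    rw [← DevissLib.gm_map O (inf_le_right : T ≤ U) x ⟨hV, hx⟩, ← X.presheaf.germ_res_apply (homOfLE (inf_le_left : T ≤ V)) x ⟨hV, hx⟩ a,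
      ← DevissLib.gm_smul, ← DevissLib.gm_map O (inf_le_left : T ≤ V) x ⟨hV, hx⟩ a]
    refine congrArg (DevissLib.gm O x _) ?_
    refine (congrArg (fun z : Γ(X, T) => X.presheaf.map (homOfLE (inf_le_left : T ≤ V)).op a * z)
      (map_one (X.presheaf.map (homOfLE (inf_le_right : T ≤ U)).op).hom)).trans ?_
    exact mul_one _
  rw [key V hV a, key W hW b] at h
  obtain ⟨T, hT, i₁, i₂, e⟩ := TopCat.Presheaf.germ_eq O.presheaf x hV hW a b h
  exact X.presheaf.germ_ext T hT i₁ i₂ e

end Groth.Agent.S13988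

namespace Groth.Agent.S13988

variable {X : Scheme.{u}} [IsNoetherian X]

abbrev CohC (X : Scheme.{u}) := ObjectProperty.FullSubcategory (fun M : X.Modules => Coh.IsCoh M)

/-- Naturality on sections. -/
theorem app_nat (φ : 𝟭 (CohC X) ⟶ 𝟭 (CohC X)) {A B : CohC X} (f : A.obj ⟶ B.obj) (U : X.Opens) (a : Γ(A.obj, U)) :
    (φ.app B).hom.app U (f.app U a) = f.app U ((φ.app A).hom.app U a) := by
  have h := congrArg (fun g : A ⟶ B => g.hom.app U a) (φ.naturality (ObjectProperty.homMk f : A ⟶ B))
  exact h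

/-- A natural endomorphism is multiplication by its value at `1`. -/
theorem app_eq (φ : 𝟭 (CohC X) ⟶ 𝟭 (CohC X)) (M : CohC X) (U : X.Opens) (s : Γ(M.obj, U)) (r : Γ(X, ⊤))
    (hr : r = (φ.app ⟨Coh.structureModule X, DevissLib.isCoh_structureModule X⟩).hom.app ⊤ (1 : Γ(X, ⊤))) :
    (φ.app M).hom.app U s = (X.presheaf.map (homOfLE (le_top : U ≤ ⊤)).op r : Γ(X, U)) • s := by
  let O : CohC X := ⟨Coh.structureModule X, DevissLib.isCoh_structureModule X⟩
  let c₀ : Γ(X, U) := X.presheaf.map (homOfLE (le_top : U ≤ ⊤)).op r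
  change _ = c₀ • s
  have hone : (φ.app O).hom.app U (1 : Γ(X, U)) = c₀ := by
    have h1 : (Coh.structureModule X).presheaf.map (homOfLE (le_top : U ≤ ⊤)).op (1 : Γ(X, ⊤)) = (1 : Γ(X, U)) :=
      map_one (X.presheaf.map (homOfLE (le_top : U ≤ ⊤)).op).hom
    have h2 := ConcreteCategory.congr_hom ((φ.app O).hom.mapPresheaf.naturality (homOfLE (le_top : U ≤ ⊤)).op)
      (1 : Γ(X, ⊤))
    refine (congrArg ((φ.app O).hom.app U) h1).symm.trans (h2.trans ?_)
    change _ = X.presheaf.map (homOfLE (le_top : U ≤ ⊤)).op r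
    rw [hr]
    rfl
  let O₁ := Coh.structureModule X
  let v : Γ(O₁ ⊞ M.obj, U) :=
    (biprod.inl : O₁ ⟶ O₁ ⊞ M.obj).app U (1 : Γ(X, U)) + (biprod.inr : M.obj ⟶ O₁ ⊞ M.obj).app U s
  have hv₁ : (biprod.fst : O₁ ⊞ M.obj ⟶ O₁).app U v = (1 : Γ(X, U)) := by
    rw [map_add]
    refine (congr_arg₂ (· + ·) (congr_arg (fun g : O₁ ⟶ O₁ => g.app U (1 : Γ(X, U))) biprod.inl_fst)
      (congr_arg (fun g : M.obj ⟶ O₁ => g.app U s) biprod.inr_fst)).trans ?_
    exact add_zero _
  have hv₂ : (biprod.snd : O₁ ⊞ M.obj ⟶ M.obj).app U v = s := by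
    rw [map_add]
    refine (congr_arg₂ (· + ·) (congr_arg (fun g : O₁ ⟶ M.obj => g.app U (1 : Γ(X, U))) biprod.inl_snd)
      (congr_arg (fun g : M.obj ⟶ M.obj => g.app U s) biprod.inr_snd)).trans ?_
    exact zero_add _
  obtain ⟨H, i, hi, hH, ht, hst⟩ := DevissExt.exists_sub_through'
    (DevissLib.isCoh_biprod (DevissLib.isCoh_structureModule X) M.property) U (fun _ : Fin 1 => v)
  obtain ⟨t, ht⟩ := ht 0
  let Hc : CohC X := ⟨H, hH⟩
  have hp₁ : (i ≫ biprod.fst : H ⟶ O₁).app U t = (1 : Γ(X, U)) := (congrArg _ ht).trans hv₁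
  have hp₂ : (i ≫ biprod.snd : H ⟶ M.obj).app U t = s := (congrArg _ ht).trans hv₂
  have e₁ := (app_nat φ (A := Hc) (B := O) (i ≫ biprod.fst) U t).symm
  have e₂ := (app_nat φ (A := Hc) (B := M) (i ≫ biprod.snd) U t).symm
  rw [hp₁, hone] at e₁
  rw [hp₂] at e₂
  rw [← e₂]
  refine TopCat.Presheaf.section_ext ((QCohLib.toAbF X).obj M.obj : TopCat.Sheaf AddCommGrpCat _) U _ _
    fun x hx => ?_
  change DevissLib.gm M.obj x hx _ = DevissLib.gm M.obj x hx _
  obtain ⟨c, hc⟩ := hst x hx (DevissLib.gm H x hx ((φ.app Hc).hom.app U t))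
  have hmul : DevissLib.gm H x hx ((φ.app Hc).hom.app U t) = c 0 • DevissLib.gm H x hx t := by
    apply (ModuleCat.mono_iff_injective ((DevissLib.St x).map i)).mp inferInstance
    rw [map_smul, hc, Fin.sum_univ_one, DevissLib.gm_app i x hx t, ht]
  have h₁ : c 0 • DevissLib.gm O₁ x hx (1 : Γ(X, U)) = DevissLib.gm O₁ x hx c₀ := by
    rw [← e₁, ← hp₁, ← DevissLib.gm_app (i ≫ biprod.fst) x hx, ← DevissLib.gm_app (i ≫ biprod.fst) x hx, hmul,
      map_smul]
  have hc₀ : DevissLib.gm O₁ x hx c₀ = X.presheaf.germ U x hx c₀ • DevissLib.gm O₁ x hx (1 : Γ(X, U)) := by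
    refine Eq.trans (congrArg (DevissLib.gm O₁ x hx) (mul_one c₀).symm) ?_
    exact DevissLib.gm_smul O₁ x hx c₀ (1 : Γ(X, U))
  rw [DevissLib.gm_smul, ← hp₂, ← DevissLib.gm_app (i ≫ biprod.snd) x hx,
    ← DevissLib.gm_app (i ≫ biprod.snd) x hx, hmul, map_smul]
  congr 1
  exact gm_one_inj x hx (h₁.trans hc₀)

end Groth.Agent.S13988

namespace Groth.Agent.S13988

/-- Let X be a Noetherian scheme. The canonical ring map from the global functions Γ(X, O_X) to the
centre of the category of coherent O_X-modules (the endomorphisms of its identity functor), sending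
r to multiplication by r, is bijective: for every natural endomorphism φ of the identity functor of
Coh(X) there is a unique global function r such that, for every coherent module M, φ_M is
multiplication by r (compared as maps of the underlying abelian sheaves). (The published result
builds a ringed space from Coh(X) — irreducible Serre subcategories of finite type, with the centres
of the categories Coh(U) as structure sheaf — and proves it isomorphic to X, for coherent sheaves
twisted by a class in the cohomological Brauer group and with X over a field, a hypothesis its proof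
does not use; this row is the ring-theoretic content of that isomorphism on global sections, for the
trivial class; applied to the open subschemes of X it gives the statement on every open.) -/
theorem result (X : Scheme.{u}) [IsNoetherian X]
    (φ : 𝟭 (ObjectProperty.FullSubcategory (fun M : X.Modules => Coh.IsCoh M)) ⟶ 𝟭 (ObjectProperty.FullSubcategory (fun M : X.Modules => Coh.IsCoh M))) :
    ∃! r : Coh.Γtop X, ∀ M : ObjectProperty.FullSubcategory (fun M : X.Modules => Coh.IsCoh M),
      (SheafOfModules.toSheaf X.ringCatSheaf).map (φ.app M).hom = Coh.smulAb M.obj r := by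
  let O : CohC X := ⟨Coh.structureModule X, DevissLib.isCoh_structureModule X⟩
  refine ⟨((φ.app O).hom.app ⊤ (1 : Γ(X, ⊤)) : Γ(X, ⊤)), fun M => ?_, fun r hr => ?_⟩
  · ext U m
    exact app_eq φ M U.unop m _ rfl
  · have h := congrArg (fun g : Coh.toAb O.obj ⟶ Coh.toAb O.obj => g.hom.app (op ⊤) (1 : Γ(X, ⊤))) (hr O)
    refine Eq.trans ?_ h.symm
    let r' : Γ(X, ⊤) := r
    change r' = @HMul.hMul Γ(X, ⊤) Γ(X, ⊤) Γ(X, ⊤) _ (X.presheaf.map (homOfLE (le_top : (⊤ : X.Opens) ≤ ⊤)).op r') 1
    rw [mul_one]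
    exact (ConcreteCategory.congr_hom (X.presheaf.map_id (op ⊤)) r').symm

end Groth.Agent.S13988
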