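import Mathlib
import Groth.Statements.S13989
import Mathlib
-- import your own Groth.Agent.* helpers here

set_option autoImplicit false
set_option linter.all false
universe v u v' u' v'' u''
open CategoryTheory CategoryTheory.Limits
open CohGab

namespace Groth.Agent.S13989

variable {A A' : Type u} [Category.{v} A] [Abelian A] [Category.{v} A'] [Abelian A']
  (i : A' ⥤ A) [i.Full] [i.Faithful] [PreservesFiniteLimits i] [PreservesFiniteColimits i]
  (J : ObjectProperty A) [J.IsSerreClass] [(J.inverseImage i).IsSerreClass]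

/-- An equality modulo `J` of maps of the subcategory holds modulo `J ∩ A'`. -/
theorem exists_precomp_eq {X Y : A'} (f g : X ⟶ Y) {Z : A} (s : Z ⟶ i.obj X) (hs : J.isoModSerre s)
    (h : s ≫ i.map f = s ≫ i.map g) :
    ∃ (K : A') (k : K ⟶ X), (J.inverseImage i).isoModSerre k ∧ k ≫ f = k ≫ g := by
  haveI : PreservesBinaryBiproducts i := preservesBinaryBiproducts_of_preservesBinaryProducts i
  haveI : i.Additive := Functor.additive_of_preservesBinaryBiproducts i
  refine ⟨kernel (f - g), kernel.ι _, ?_, by rw [← sub_eq_zero, ← Preadditive.comp_sub, kernel.condition]⟩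
  rw [ObjectProperty.isoModSerre_iff_of_mono]
  change J (i.obj (cokernel (kernel.ι (f - g))))
  refine J.prop_of_iso (PreservesCokernel.iso i (kernel.ι (f - g))).symm ?_
  have w : s ≫ i.map (f - g) = 0 := by rw [i.map_sub, Preadditive.comp_sub, h, sub_self]
  let l : Z ⟶ i.obj (kernel (f - g)) := kernel.lift (i.map (f - g)) s w ≫ (PreservesKernel.iso i (f - g)).inv
  have hl : l ≫ i.map (kernel.ι (f - g)) = s := by simp [l]
  haveI : Epi (cokernel.desc s (cokernel.π (i.map (kernel.ι (f - g)))) (by
      rw [← hl, Category.assoc, cokernel.condition, comp_zero])) :=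
    epi_of_epi_fac (cokernel.π_desc s (cokernel.π (i.map (kernel.ι (f - g)))) (by
      rw [← hl, Category.assoc, cokernel.condition, comp_zero]))
  exact J.prop_of_epi (cokernel.desc s (cokernel.π (i.map (kernel.ι (f - g)))) _) hs.2

/-- Every fraction between objects of the subcategory comes from the subcategory. -/
theorem exists_fraction (hsub : ∀ (M : A') (N : A) (f : N ⟶ i.obj M), Mono f → J N → i.essImage N)
    (hquot : ∀ (M : A') (N : A) (p : i.obj M ⟶ N), Epi p → J N → i.essImage N)
    {M N : A'} {Z : A} (s : Z ⟶ i.obj M) (hs : J.isoModSerre s) (f : Z ⟶ i.obj N) :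
    ∃ (M' N' : A') (m : M' ⟶ M) (q : N ⟶ N') (g : M' ⟶ N') (t : Z ⟶ i.obj M'),
      (J.inverseImage i).isoModSerre m ∧ (J.inverseImage i).isoModSerre q ∧ J.isoModSerre t ∧
      t ≫ i.map m = s ∧ t ≫ i.map g = f ≫ i.map q := by
  obtain ⟨C₀, ⟨eC⟩⟩ := hquot M _ (cokernel.π s) inferInstance hs.2
  let c := i.preimage (cokernel.π s ≫ eC.inv)
  have hc : i.map c ≫ eC.hom = cokernel.π s := by simp [c]
  let α : Abelian.image s ≅ i.obj (kernel c) :=
    (kernelIsoOfEq hc.symm) ≪≫ kernelCompMono (i.map c) eC.hom ≪≫ (PreservesKernel.iso i c).symm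
  have hα : α.hom ≫ i.map (kernel.ι c) = Abelian.image.ι s := by simp [α]
  let t := Abelian.factorThruImage s ≫ α.hom
  have hts : t ≫ i.map (kernel.ι c) = s := by simp [t, hα]
  have ht : J.isoModSerre t := J.isoModSerre.comp_mem _ _ hs.1.isoModSerre_factorThruImage
    (J.isoModSerre_of_isIso _)
  have hm : J.isoModSerre (i.map (kernel.ι c)) :=
    J.isoModSerre.of_precomp t _ ht (by rw [hts]; exact hs)
  have hm' : (J.inverseImage i).isoModSerre (kernel.ι c) := by
    rw [ObjectProperty.isoModSerre_iff_of_mono]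
    exact J.prop_of_iso (PreservesCokernel.iso i (kernel.ι c)).symm hm.2
  haveI : Epi t := inferInstanceAs (Epi (Abelian.factorThruImage s ≫ α.hom))
  let r := kernel.ι t ≫ f
  obtain ⟨N₀, ⟨eN⟩⟩ := hsub N _ (Abelian.image.ι r) inferInstance
    (J.prop_of_epi (Abelian.factorThruImage r) ht.1)
  let n := i.preimage (eN.hom ≫ Abelian.image.ι r)
  have hn : i.map n = eN.hom ≫ Abelian.image.ι r := i.map_preimage _
  haveI : Mono (i.map n) := by rw [hn]; infer_instance
  haveI : Mono n := i.mono_of_mono_map inferInstance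
  have hN₀ : J (i.obj N₀) := J.prop_of_iso eN.symm (J.prop_of_epi (Abelian.factorThruImage r) ht.1)
  have hq : (J.inverseImage i).isoModSerre (cokernel.π n) := by
    rw [ObjectProperty.isoModSerre_iff_of_epi]
    haveI : IsIso (Abelian.factorThruImage n) := inferInstance
    exact (J.inverseImage i).prop_of_iso (asIso (Abelian.factorThruImage n)) hN₀
  have hr : kernel.ι t ≫ f ≫ i.map (cokernel.π n) = 0 := by
    rw [← Category.assoc, show kernel.ι t ≫ f = (Abelian.factorThruImage r ≫ eN.inv) ≫ i.map n by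
      simp [hn, r], Category.assoc, ← i.map_comp, cokernel.condition, i.map_zero, comp_zero]
  exact ⟨kernel c, cokernel n, kernel.ι c, cokernel.π n,
    i.preimage (Abelian.epiDesc t (f ≫ i.map (cokernel.π n)) hr), t, hm', hq, ht, hts,
    by rw [i.map_preimage, Abelian.comp_epiDesc]⟩

end Groth.Agent.S13989

namespace Groth.Agent.S13989

/-- Let A be an abelian category, A' a full abelian subcategory (given as a fully faithful exact functor
i : A' ⥤ A) and J a Serre subcategory of A, with J' = J ∩ A' (the preimage of J under i, a Serre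
subcategory of A'). Assume that every subobject and every quotient object, in A, of an object of A'
which belongs to J belongs to A' (lies in the essential image of i). Then the functor A'/J' ⥤ A/J
induced between the quotient categories is fully faithful: for L : A ⥤ Q and L' : A' ⥤ Q'
localization functors at the morphisms whose kernel and cokernel lie in J, resp. J', every functor Φ
: Q' ⥤ Q with L' ⋙ Φ ≅ i ⋙ L is full and faithful. -/
theorem result
    {A A' : Type u} [Category.{v} A] [Abelian A] [Category.{v} A'] [Abelian A']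
    (i : A' ⥤ A) [i.Full] [i.Faithful] [PreservesFiniteLimits i] [PreservesFiniteColimits i]
    (J : ObjectProperty A) [J.IsSerreClass] [(J.inverseImage i).IsSerreClass]
    (hsub : ∀ (M : A') (N : A) (f : N ⟶ i.obj M), Mono f → J N → i.essImage N)
    (hquot : ∀ (M : A') (N : A) (p : i.obj M ⟶ N), Epi p → J N → i.essImage N)
    {Q : Type u'} [Category.{v'} Q] (L : A ⥤ Q) [L.IsLocalization J.isoModSerre]
    {Q' : Type u''} [Category.{v''} Q'] (L' : A' ⥤ Q') [L'.IsLocalization (J.inverseImage i).isoModSerre]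
    (Φ : Q' ⥤ Q) (e : L' ⋙ Φ ≅ i ⋙ L) : Φ.Full ∧ Φ.Faithful := by
  let W' := (J.inverseImage i).isoModSerre
  haveI := Localization.essSurj L' W'
  have hLL : ∀ {X Y : A'} (f : X ⟶ Y), Φ.map (L'.map f) = e.hom.app X ≫ L.map (i.map f) ≫ e.inv.app Y := by
    intro X Y f
    rw [← Category.assoc, ← cancel_mono (e.hom.app Y), Category.assoc _ (e.inv.app Y), Iso.inv_hom_id_app, Category.comp_id]
    exact NatTrans.naturality e.hom f
  have hinj : ∀ {M N : A'} (a b : L'.obj M ⟶ L'.obj N), Φ.map a = Φ.map b → a = b := by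
    intro M N a b hab
    obtain ⟨φ, rfl⟩ := Localization.exists_rightFraction L' W' a
    obtain ⟨ψ, rfl⟩ := Localization.exists_rightFraction L' W' b
    let σ := pullback.fst φ.s ψ.s ≫ φ.s
    have hσ : W' σ := W'.comp_mem _ _ (MorphismProperty.pullback_fst _ _ ψ.hs) φ.hs
    haveI := Localization.inverts L' W' σ hσ
    rw [← cancel_epi (L'.map σ)]
    have h1 : L'.map σ ≫ φ.map L' (Localization.inverts L' W') = L'.map (pullback.fst φ.s ψ.s ≫ φ.f) := by
      simp [σ]
    have h2 : L'.map σ ≫ ψ.map L' (Localization.inverts L' W') = L'.map (pullback.snd φ.s ψ.s ≫ ψ.f) := by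
      simp [σ, pullback.condition]
    rw [h1, h2]
    have h3 : Φ.map (L'.map (pullback.fst φ.s ψ.s ≫ φ.f)) = Φ.map (L'.map (pullback.snd φ.s ψ.s ≫ ψ.f)) := by
      rw [← h1, ← h2]; simp only [Functor.map_comp]; rw [hab]
    rw [hLL, hLL] at h3
    rw [cancel_epi, cancel_mono] at h3
    obtain ⟨Z, s, hs, hsfg⟩ := (MorphismProperty.map_eq_iff_precomp L J.isoModSerre _ _).mp h3
    obtain ⟨K, k, hk, hkfg⟩ := exists_precomp_eq i J _ _ s hs hsfg
    exact (MorphismProperty.map_eq_iff_precomp L' W' _ _).mpr ⟨K, k, hk, hkfg⟩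
  have hsurj : ∀ {M N : A'} (g : Φ.obj (L'.obj M) ⟶ Φ.obj (L'.obj N)), ∃ a, Φ.map a = g := by
    intro M N g
    obtain ⟨φ, hφ⟩ := Localization.exists_rightFraction L J.isoModSerre (e.inv.app M ≫ g ≫ e.hom.app N)
    obtain ⟨M', N', m, q, g', t, hm, hq, ht, htm, htg⟩ := exists_fraction i J hsub hquot φ.s φ.hs φ.f
    haveI := Localization.inverts L' W' m hm
    haveI := Localization.inverts L' W' q hq
    haveI := Localization.inverts L J.isoModSerre t ht
    have key : L.map (i.map m) ≫ (e.inv.app M ≫ g ≫ e.hom.app N) ≫ L.map (i.map q) = L.map (i.map g') := by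
      rw [← cancel_epi (L.map t), hφ, ← Category.assoc, ← L.map_comp, htm, ← Category.assoc,
        MorphismProperty.RightFraction.map_s_comp_map, ← L.map_comp, ← L.map_comp, htg]
    refine ⟨inv (L'.map m) ≫ L'.map g' ≫ inv (L'.map q), ?_⟩
    rw [Functor.map_comp, Functor.map_comp, Functor.map_inv, Functor.map_inv, IsIso.inv_comp_eq, IsIso.comp_inv_eq,
      hLL, hLL, hLL, ← key]
    simp
  constructor
  · refine ⟨fun {X Y} g => ?_⟩
    let a := L'.objObjPreimageIso X
    let b := L'.objObjPreimageIso Y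
    obtain ⟨c, hc⟩ := hsurj (Φ.map a.hom ≫ g ≫ Φ.map b.inv)
    exact ⟨a.inv ≫ c ≫ b.hom, by simp [hc]⟩
  · refine ⟨fun {X Y} f g h => ?_⟩
    let a := L'.objObjPreimageIso X
    let b := L'.objObjPreimageIso Y
    rw [← cancel_epi a.hom, ← cancel_mono b.inv]
    exact hinj _ _ (by simp [h])

end Groth.Agent.S13989
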