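import Groth.Statements.S13991
import Mathlib
import Groth.Agent.SerreCohLib.Basic
-- import your own Groth.Agent.* helpers here

set_option autoImplicit false
universe u
open CategoryTheory AlgebraicGeometry
open CohGab

namespace Groth.Agent.S13991

/-- Let X be a Noetherian scheme and Z ⊆ X a closed subset. Then Z is irreducible (or empty) if and only
if Coh_Z(X), the coherent O_X-modules supported in Z, is an irreducible Serre subcategory of Coh(X),
i.e. it is not generated as a Serre subcategory by two Serre subcategories properly contained in it: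
whenever J₁, J₂ are Serre classes on coherent modules (middle term of a short exact sequence of
coherent modules belongs iff both outer terms do), both contained in Coh_Z, such that every Serre
class on coherent modules containing J₁ and J₂ contains Coh_Z, then J₁ or J₂ contains Coh_Z.
Consequently the points of X correspond to the irreducible Serre subcategories of finite type other
than the zero subcategory. (The published statement says 'Z is irreducible iff Coh_Z is irreducible'
and deduces a bijection between the points of X and all irreducible Serre subcategories of finite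
type; the zero subcategory Coh_∅ is irreducible in this sense while ∅ is not an irreducible space,
so irreducibility of Z is read here as 'irreducible or empty'. The published statement is also about
coherent sheaves twisted by a class in the second etale cohomology group of the units of the
structure sheaf; this row is its case of the trivial class.) -/
theorem result (X : Scheme.{u}) [IsNoetherian X]
    (Z : TopologicalSpace.Closeds X) :
    IsPreirreducible (↑Z : Set X) ↔
    ∀ J₁ J₂ : ObjectProperty X.Modules, (∀ S : ShortComplex X.Modules, S.ShortExact → Coh.IsCoh S.X₁ → Coh.IsCoh S.X₂ →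
        Coh.IsCoh S.X₃ → (J₁ S.X₂ ↔ J₁ S.X₁ ∧ J₁ S.X₃)) → (∀ S : ShortComplex X.Modules, S.ShortExact → Coh.IsCoh S.X₁ → Coh.IsCoh S.X₂ →
        Coh.IsCoh S.X₃ → (J₂ S.X₂ ↔ J₂ S.X₁ ∧ J₂ S.X₃)) →
      (∀ M : X.Modules, Coh.IsCoh M → J₁ M → CohB1.support M ⊆ (↑Z : Set X)) →
      (∀ M : X.Modules, Coh.IsCoh M → J₂ M → CohB1.support M ⊆ (↑Z : Set X)) →
      (∀ Q : ObjectProperty X.Modules, (∀ S : ShortComplex X.Modules, S.ShortExact → Coh.IsCoh S.X₁ → Coh.IsCoh S.X₂ →
        Coh.IsCoh S.X₃ → (Q S.X₂ ↔ Q S.X₁ ∧ Q S.X₃)) →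
        (∀ M : X.Modules, Coh.IsCoh M → J₁ M → Q M) → (∀ M : X.Modules, Coh.IsCoh M → J₂ M → Q M) →
        ∀ M : X.Modules, Coh.IsCoh M → CohB1.support M ⊆ (↑Z : Set X) → Q M) →
      (∀ M : X.Modules, Coh.IsCoh M → CohB1.support M ⊆ (↑Z : Set X) → J₁ M) ∨
        (∀ M : X.Modules, Coh.IsCoh M → CohB1.support M ⊆ (↑Z : Set X) → J₂ M) := by
  constructor
  · intro hZ J₁ J₂ h₁ h₂ hs₁ hs₂ hgen
    let Q : ObjectProperty X.Modules := fun M => ∃ N, Coh.IsCoh N ∧ (J₁ N ∨ J₂ N)
    obtain ⟨F, hF, hFs⟩ := Groth.Agent.SerreCohLib.exists_coh_support_eq (↑Z : Set X) Z.isClosed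
    obtain ⟨N₀, hN₀, hJ₀⟩ : ∃ N, Coh.IsCoh N ∧ (J₁ N ∨ J₂ N) := hgen Q
      (fun S _ _ _ _ => ⟨fun h => ⟨h, h⟩, fun h => h.1⟩) (fun M hM h => ⟨M, hM, Or.inl h⟩)
      (fun M hM h => ⟨M, hM, Or.inr h⟩) F hF hFs.le
    obtain ⟨N, hN, hJ, hsub⟩ : ∃ N, Coh.IsCoh N ∧ (J₁ N ∨ J₂ N) ∧ (↑Z : Set X) ⊆ CohB1.support N := by
      rcases (↑Z : Set X).eq_empty_or_nonempty with he | hne
      · exact ⟨N₀, hN₀, hJ₀, he.le.trans (Set.empty_subset _)⟩
      obtain ⟨η, hη⟩ := QuasiSober.sober ⟨hne, hZ⟩ Z.isClosed
      let T : ObjectProperty X.Modules := fun M =>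
        CohB1.support M ⊆ {x | ∃ N, Coh.IsCoh N ∧ (J₁ N ∨ J₂ N) ∧ x ∈ CohB1.support N}
      obtain ⟨N, hN, hJ, hηN⟩ := hgen T (Groth.Agent.SerreCohLib.isSerre_support_subset _)
        (fun M hM h x hx => ⟨M, hM, Or.inl h, hx⟩) (fun M hM h x hx => ⟨M, hM, Or.inr h, hx⟩) F hF hFs.le
        (hFs.ge hη.mem)
      exact ⟨N, hN, hJ, hη ▸ (QCohLib.isClosed_support N hN.2).closure_subset_iff.2
        (Set.singleton_subset_iff.2 hηN)⟩
    rcases hJ with hJ | hJ
    · exact Or.inl fun M hM hMs =>
        Groth.Agent.SerreCohLib.IsSerre.of_support_subset h₁ hN hM hJ (hMs.trans hsub)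
    · exact Or.inr fun M hM hMs =>
        Groth.Agent.SerreCohLib.IsSerre.of_support_subset h₂ hN hM hJ (hMs.trans hsub)
  · intro h
    rw [isPreirreducible_iff_isClosed_union_isClosed]
    intro A B hA hB hcov
    obtain ⟨F, hF, hFs⟩ := Groth.Agent.SerreCohLib.exists_coh_support_eq ((↑Z : Set X) ∩ A) (Z.isClosed.inter hA)
    obtain ⟨G, hG, hGs⟩ := Groth.Agent.SerreCohLib.exists_coh_support_eq ((↑Z : Set X) ∩ B) (Z.isClosed.inter hB)
    obtain ⟨H, hH, hHs⟩ := Groth.Agent.SerreCohLib.exists_coh_support_eq (↑Z : Set X) Z.isClosed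
    rcases h (fun M => CohB1.support M ⊆ (↑Z : Set X) ∩ A) (fun M => CohB1.support M ⊆ (↑Z : Set X) ∩ B)
      (Groth.Agent.SerreCohLib.isSerre_support_subset _) (Groth.Agent.SerreCohLib.isSerre_support_subset _)
      (fun M _ h => h.trans Set.inter_subset_left) (fun M _ h => h.trans Set.inter_subset_left)
      (fun Q hQ hA' hB' M hM hMs => Groth.Agent.SerreCohLib.IsSerre.of_support_subset hQ
        (DevissLib.isCoh_biprod hF hG) hM
        (Groth.Agent.SerreCohLib.IsSerre.biprod hQ hF hG (hA' F hF hFs.le) (hB' G hG hGs.le))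
        (by rw [Groth.Agent.SerreCohLib.support_biprod_eq, hFs, hGs, ← Set.inter_union_distrib_left]
            exact hMs.trans (Set.subset_inter subset_rfl hcov))) with h' | h'
    · exact Or.inl ((hHs.ge.trans (h' H hH hHs.le)).trans Set.inter_subset_right)
    · exact Or.inr ((hHs.ge.trans (h' H hH hHs.le)).trans Set.inter_subset_right)

end Groth.Agent.S13991
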