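import Groth.Statements.S13993
import Groth.Agent.AnnPairLib.Basic


-- import your own Groth.Agent.* helpers here

set_option autoImplicit false
universe u
open CategoryTheory
open CAlg

namespace Groth.Agent.S13993

/-- Let k be a field and A = k[[x,y]]/(xy) the complete local ring of a node, with branch rings A/(y)
and A/(x) viewed as A-modules. Then the first Ext group Ext¹_A(A/(y), A/(x)) has dimension one over
k. (The published statement is for the local ring at a node of a reduced curve over an algebraically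
closed field of characteristic zero, a node being a point whose complete local ring is A; this row
states the case of the complete local ring A itself, over an arbitrary field.) -/
theorem result (k : Type u) [Field k] : Module.finrank k (Abelian.Ext (ModuleCat.of (MvPowerSeries (Fin 2) k ⧸ Ideal.span {(MvPowerSeries.X (0 : Fin 2) : MvPowerSeries (Fin 2) k) * MvPowerSeries.X (1 : Fin 2)}) ((MvPowerSeries (Fin 2) k ⧸ Ideal.span {(MvPowerSeries.X (0 : Fin 2) : MvPowerSeries (Fin 2) k) * MvPowerSeries.X (1 : Fin 2)}) ⧸ Ideal.span {Ideal.Quotient.mk (Ideal.span {(MvPowerSeries.X (0 : Fin 2) : MvPowerSeries (Fin 2) k) * MvPowerSeries.X (1 : Fin 2)}) (MvPowerSeries.X (1 : Fin 2))})) (ModuleCat.of (MvPowerSeries (Fin 2) k ⧸ Ideal.span {(MvPowerSeries.X (0 : Fin 2) : MvPowerSeries (Fin 2) k) * MvPowerSeries.X (1 : Fin 2)}) ((MvPowerSeries (Fin 2) k ⧸ Ideal.span {(MvPowerSeries.X (0 : Fin 2) : MvPowerSeries (Fin 2) k) * MvPowerSeries.X (1 : Fin 2)}) ⧸ Ideal.span {Ideal.Quotient.mk (Ideal.span {(MvPowerSeries.X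 (0 : Fin 2) : MvPowerSeries (Fin 2) k) * MvPowerSeries.X (1 : Fin 2)}) (MvPowerSeries.X (0 : Fin 2))})) 1) = 1 := by
  classical
  let S := MvPowerSeries (Fin 2) k
  let I : Ideal S := Ideal.span {(MvPowerSeries.X (0 : Fin 2) : S) * MvPowerSeries.X (1 : Fin 2)}
  let A := S ⧸ I
  let a : A := Ideal.Quotient.mk I (MvPowerSeries.X 0)
  let b : A := Ideal.Quotient.mk I (MvPowerSeries.X 1)
  have hab : a * b = 0 := by
    rw [← map_mul, Ideal.Quotient.eq_zero_iff_mem]; exact Ideal.mem_span_singleton_self _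
  have hX1 : (MvPowerSeries.X 1 : S) ≠ 0 := fun h => by
    simpa using congrArg (MvPowerSeries.coeff (Finsupp.single (1 : Fin 2) 1)) h
  have h1 : ∀ r, r * b = 0 → a ∣ r := by
    intro r hr
    obtain ⟨f, rfl⟩ := Ideal.Quotient.mk_surjective r
    rw [← map_mul, Ideal.Quotient.eq_zero_iff_mem] at hr
    obtain ⟨c, hc⟩ := Ideal.mem_span_singleton.1 hr
    refine ⟨Ideal.Quotient.mk I c, ?_⟩
    rw [← map_mul]
    congr 1
    apply mul_right_cancel₀ hX1
    rw [hc]; ring
  have hdec : ∀ r : A, ∃ (c : k) (u v : A), r = algebraMap k A c + a * u + b * v := by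
    intro r
    obtain ⟨f, rfl⟩ := Ideal.Quotient.mk_surjective r
    let f0 : S := fun d => if d 0 = 0 ∧ d ≠ 0 then MvPowerSeries.coeff d f else 0
    have h0 : ∀ d, MvPowerSeries.coeff d f0 = if d 0 = 0 ∧ d ≠ 0 then MvPowerSeries.coeff d f else 0 := fun d => rfl
    obtain ⟨u, hu⟩ : (MvPowerSeries.X 0 : S) ∣ f - MvPowerSeries.C (MvPowerSeries.constantCoeff f) - f0 := by
      rw [MvPowerSeries.X_dvd_iff]
      intro d hd
      rw [map_sub, map_sub, h0, MvPowerSeries.coeff_C]
      by_cases hd0 : d = 0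
      · subst hd0; simp
      · simp [hd, hd0]
    obtain ⟨v, hv⟩ : (MvPowerSeries.X 1 : S) ∣ f0 := by
      rw [MvPowerSeries.X_dvd_iff]
      intro d hd
      rw [h0, if_neg]
      rintro ⟨h, h'⟩
      exact h' (Finsupp.ext fun i => by fin_cases i <;> simp [h, hd])
    refine ⟨MvPowerSeries.constantCoeff f, Ideal.Quotient.mk I u, Ideal.Quotient.mk I v, ?_⟩
    have he : algebraMap k A (MvPowerSeries.constantCoeff f) = Ideal.Quotient.mk I (MvPowerSeries.C (MvPowerSeries.constantCoeff f)) := rfl
    rw [he, ← map_mul, ← map_mul, ← map_add, ← map_add, ← hu, ← hv]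
    congr 1
    ring
  let ε : A →+* k := Ideal.Quotient.lift I MvPowerSeries.constantCoeff fun f hf => by
    obtain ⟨g, rfl⟩ := Ideal.mem_span_singleton.1 hf
    exact (map_mul _ _ _).trans (by rw [map_mul, MvPowerSeries.constantCoeff_X, zero_mul, zero_mul])
  refine AnnPairLib.finrank_ext a b k hab h1 hdec fun r s h => ?_
  have ha0 : ε a = 0 := MvPowerSeries.constantCoeff_X _
  have hb0 : ε b = 0 := MvPowerSeries.constantCoeff_X _
  have := congrArg ε h
  simp [ha0, hb0] at this

end Groth.Agent.S13993
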