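import Groth.Statements.S13994
import Groth.Agent.PlanarTorLib.Basic

set_option backward.isDefEq.respectTransparency false
set_option linter.style.haveILetI false

set_option autoImplicit false
universe u
open CategoryTheory
open CAlg

namespace Groth.Agent.S13994

/-- Let S be a regular local ring of Krull dimension two, f a non-zero element of S and R the quotient
of S by f, assumed reduced. Let M and N be finitely generated R-modules, each admitting a
non-zero-divisor in the maximal ideal of R, annihilated by ideals I and J respectively, where I + J
contains a power of the maximal ideal. Then Tor₁^R(M, Hom_R(N, R)) = 0. (The published claim is made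
for the stalks at a common point of two subcurves without common component of a reduced projective
curve over a characteristic-zero algebraically closed field, the point being a planar singularity,
and the stalks of torsion-free sheaves supported on them; this row states it over an arbitrary
two-dimensional regular local ring. Tor is computed by resolving the second argument.) -/
theorem result (S : Type u) [CommRing S] [IsRegularLocalRing S] (hS : ringKrullDim S = 2) (f : S) (hf : f ≠ 0) (R : Type u) [CommRing R] [IsLocalRing R] [IsReduced R] (π : S →+* R) (hπ : Function.Surjective π) (hker : RingHom.ker π = Ideal.span {f}) (I J : Ideal R) (n : ℕ) (hIJ : IsLocalRing.maximalIdeal R ^ n ≤ I ⊔ J) (M N : Type u) [AddCommGroup M] [Module R M] [Module.Finite R M] [AddCommGroup N] [Module R N] [Module.Finite R N] (hI : I ≤ Module.annihilator R M) (hJ : J ≤ Module.annihilator R N) (x : R) (hx : x ∈ IsLocalRing.maximalIdeal R) (hxM : IsSMulRegular M x) (y : R) (hy : y ∈ IsLocalRing.maximalIdeal R) (hyN : IsSMulRegular N y) : Limits.IsZero (((Tor (ModuleCat.{u} R) 1).obj (ModuleCat.of R M)).obj (ModuleCat.of R (Module.Dual R N))) := by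
  by_cases hm : IsLocalRing.maximalIdeal R = ⊥
  · haveI : Subsingleton M := ⟨fun a b => hxM (by
      rw [show x = 0 from by rwa [hm, Ideal.mem_bot] at hx]; simp)⟩
    exact PlanarTorLib.isZero_tor_one_of_injective (LinearMap.id : (Fin 0 → R) →ₗ[R] (Fin 0 → R))
      (0 : (Fin 0 → R) →ₗ[R] M)
      (fun z => ⟨0, Subsingleton.elim _ _⟩)
      (fun z => ⟨fun _ => ⟨z, rfl⟩, fun _ => Subsingleton.elim _ _⟩) _
      (by rw [LinearMap.rTensor_id]; exact Function.injective_id)
  obtain ⟨a, p, hp⟩ := Module.Finite.exists_fin' R M
  refine PlanarTorLib.isZero_tor_one_of_injective (LinearMap.ker p).subtype p hp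
    (LinearMap.exact_subtype_ker_map p) _ ?_
  refine PlanarTorLib.injective_rTensor_ker S hS π hπ I J n hIJ M hx hxM hI (Module.Dual R N) ?_ ?_ p hp
  · intro r hr
    refine Module.mem_annihilator.2 fun φ => LinearMap.ext fun z => ?_
    rw [LinearMap.smul_apply, ← map_smul, Module.mem_annihilator.1 (hJ hr) z, map_zero, LinearMap.zero_apply]
  · exact PlanarTorLib.dual_socle hm

end Groth.Agent.S13994
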