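import Groth.Statements.S13995
import Mathlib.RingTheory.LocalProperties.Reduced
import Mathlib.RingTheory.Ideal.AssociatedPrime.Basic
import Mathlib.RingTheory.KrullDimension.Zero
import Mathlib.RingTheory.Support
import Mathlib.LinearAlgebra.FiniteDimensional.Basic
import Mathlib.RingTheory.Ideal.MinimalPrime.Localization
-- import your own Groth.Agent.* helpers here

set_option autoImplicit false
universe u
open CAlg

namespace Groth.Agent.S13995

/-- Let R be a reduced Noetherian ring, M a finitely generated R-module all of whose associated primes
are minimal primes of R and whose localization at each minimal prime p is one-dimensional over the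
field R_p, and let g : M → Q be a surjection onto a finitely generated R-module Q all of whose
associated primes are minimal primes of R. Then the kernel of g is the intersection, over the
minimal primes p of R lying in the support of Q, of the kernels of the localization maps M → M_p.
(The published statement is for a torsion-free coherent sheaf F of uniform rank one on a reduced
connected projective curve over a characteristic-zero algebraically closed field: its non-zero
torsion-free quotients are exactly the maximal torsion-free quotients F_D of the restrictions of F
to subcurves D; this row is the corresponding statement for modules over a reduced Noetherian ring,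
a subcurve being a set of minimal primes, and identifies each torsion-free quotient with F_D for D
the set of generic points of its support.) -/
theorem result (R : Type u) [CommRing R] [IsNoetherianRing R] [IsReduced R] (M : Type u) [AddCommGroup M] [Module R M] [Module.Finite R M] (hM : associatedPrimes R M ⊆ minimalPrimes R) (hrk : ∀ p : PrimeSpectrum R, p.asIdeal ∈ minimalPrimes R → Module.finrank (Localization.AtPrime p.asIdeal) (LocalizedModule p.asIdeal.primeCompl M) = 1) (Q : Type u) [AddCommGroup Q] [Module R Q] [Module.Finite R Q] (hQ : associatedPrimes R Q ⊆ minimalPrimes R) (g : M →ₗ[R] Q) (hg : Function.Surjective g) : LinearMap.ker g = ⨅ p ∈ {p : PrimeSpectrum R | p.asIdeal ∈ minimalPrimes R ∧ p ∈ Module.support R Q}, LinearMap.ker (LocalizedModule.mkLinearMap p.asIdeal.primeCompl M) := by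
  classical
  refine le_antisymm (fun x hx => ?_) (fun x hx => ?_)
  · rw [Submodule.mem_iInf]
    intro p
    rw [Submodule.mem_iInf]
    rintro ⟨hp, hpQ⟩
    let Rp := Localization.AtPrime p.asIdeal
    haveI : Ring.KrullDimLE 0 Rp := .of_isLocalization p.asIdeal hp Rp
    letI : Field Rp := (Ring.KrullDimLE.isField_of_isReduced).toField
    rw [LinearMap.mem_ker]
    by_contra hne
    have hsp := (finrank_eq_one_iff_of_nonzero' (K := Rp) _ hne).mp (hrk p hp)
    have hsurj : Function.Surjective (LocalizedModule.map p.asIdeal.primeCompl g) := fun w => by
      induction w using LocalizedModule.induction_on with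
      | h m s => obtain ⟨y, rfl⟩ := hg m; exact ⟨LocalizedModule.mk y s, LocalizedModule.map_mk _ _ _ _⟩
    rw [Module.mem_support_iff] at hpQ
    obtain ⟨w, hw⟩ := exists_ne (0 : LocalizedModule p.asIdeal.primeCompl Q)
    obtain ⟨z, rfl⟩ := hsurj w
    obtain ⟨c, rfl⟩ := hsp z
    apply hw
    rw [map_smul, LocalizedModule.mkLinearMap_apply, LocalizedModule.map_mk, LinearMap.mem_ker.mp hx, LocalizedModule.zero_mk, smul_zero]
  · rw [LinearMap.mem_ker]
    by_contra hne
    obtain ⟨P, hP, hle⟩ := exists_le_isAssociatedPrime_of_isNoetherianRing R (g x) hne
    have hPp : P.IsPrime := hP.isPrime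
    let p : PrimeSpectrum R := ⟨P, hPp⟩
    have hs : p ∈ Module.support R Q := Module.mem_support_iff'.mpr ⟨g x, fun r hr hr0 => hr (hle (Submodule.mem_colon_singleton.mpr (by rw [hr0]; exact zero_mem _)))⟩
    have := (Submodule.mem_iInf _).mp ((Submodule.mem_iInf _).mp hx p) ⟨hQ hP, hs⟩
    rw [LinearMap.mem_ker, LocalizedModule.mkLinearMap_apply, ← LocalizedModule.zero_mk 1, LocalizedModule.mk_eq] at this
    obtain ⟨u, hu⟩ := this
    simp only [Submonoid.smul_def, smul_zero, OneMemClass.coe_one, one_smul] at hu
    exact u.2 (hle (Submodule.mem_colon_singleton.mpr (by rw [← map_smul, hu, map_zero]; exact zero_mem _)))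

end Groth.Agent.S13995
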