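import Groth.Statements.S13996
import Mathlib.RingTheory.Ideal.AssociatedPrime.Basic
import Mathlib.RingTheory.Ideal.MinimalPrime.Localization
import Mathlib.RingTheory.Ideal.MinimalPrime.Noetherian
import Mathlib.RingTheory.KrullDimension.Basic
-- import your own Groth.Agent.* helpers here

set_option autoImplicit false
universe u
open CAlg

namespace Groth.Agent.S13996

/-- Let R be a reduced Noetherian local ring of Krull dimension one with maximal ideal m, and M a
non-zero finitely generated R-module. Then M is torsion-free in the sense that no element of m which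
is a non-zero-divisor on R is a zero-divisor on M, if and only if M has depth one, i.e. some element
of m is a non-zero-divisor on M. (The published statement is for a non-zero coherent sheaf F on a
connected reduced projective curve over a characteristic-zero algebraically closed field and asserts
the equivalence of: F torsion-free in the above sense at every closed point; F pure of dimension
one; depth of F_p equal to one at every closed point p. This row is the equivalence of the first and
third conditions at a single closed point p with F_p ≠ 0; at points outside the support the third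
condition as published cannot hold, so the row assumes the stalk non-zero.) -/
theorem result (R : Type u) [CommRing R] [IsLocalRing R] [IsNoetherianRing R] [IsReduced R] (hdim : ringKrullDim R = 1) (M : Type u) [AddCommGroup M] [Module R M] [Module.Finite R M] [Nontrivial M] : (∀ r : R, r ∈ IsLocalRing.maximalIdeal R → IsSMulRegular R r → IsSMulRegular M r) ↔ (∃ x : R, x ∈ IsLocalRing.maximalIdeal R ∧ IsSMulRegular M x) := by
  have hK : Ring.KrullDimLE 1 R := Ring.krullDimLE_iff.mpr (by rw [hdim]; norm_num)
  constructor
  · intro h
    suffices ∃ x, x ∈ IsLocalRing.maximalIdeal R ∧ IsSMulRegular R x from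
      this.imp fun x hx => ⟨hx.1, h x hx.1 hx.2⟩
    by_contra hc
    have hsub : (IsLocalRing.maximalIdeal R : Set R) ⊆
        ⋃ p ∈ ((minimalPrimes.finite_of_isNoetherianRing (R := R)).toFinset : Set (Ideal R)), (p : Ideal R) := by
      intro x hx
      rw [Set.Finite.coe_toFinset, minimalPrimes_eq_minimals] at *
      have hreg : ¬ IsSMulRegular R x := fun hh => hc ⟨x, hx, hh⟩
      rw [isSMulRegular_iff_right_eq_zero_of_smul] at hreg
      push Not at hreg
      obtain ⟨y, hy, hy0⟩ := hreg
      have hmem : x ∈ ⋃ p ∈ (⊥ : Ideal R).minimalPrimes, (p : Set R) := by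
        rw [Ideal.iUnion_minimalPrimes]
        have hrad : (⊥ : Ideal R).radical = ⊥ := Ideal.isRadical_bot.radical
        exact ⟨y, by simpa [hrad] using hy0, by simpa [hrad] using hy⟩
      rw [← minimalPrimes_eq_minimals]
      exact hmem
    obtain ⟨p, hp, hmp⟩ := (Ideal.subset_union_prime (f := fun p : Ideal R => p)
      (IsLocalRing.maximalIdeal R) (IsLocalRing.maximalIdeal R)
      (fun i hi _ _ => ((minimalPrimes.finite_of_isNoetherianRing (R := R)).mem_toFinset.mp hi).1.1)).mp hsub
    rw [Set.Finite.mem_toFinset] at hp
    have heq : IsLocalRing.maximalIdeal R = p :=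
      (IsLocalRing.maximalIdeal.isMaximal R).eq_of_le hp.1.1.ne_top hmp
    have h0 : Ring.KrullDimLE 0 R := by
      rw [Ring.krullDimLE_zero_iff]
      intro I hI
      have hIm : I ≤ IsLocalRing.maximalIdeal R := IsLocalRing.le_maximalIdeal hI.ne_top
      have := hp.2 ⟨hI, bot_le⟩ (heq ▸ hIm)
      exact (le_antisymm hIm (heq ▸ this)) ▸ IsLocalRing.maximalIdeal.isMaximal R
    have h1 := Ring.krullDimLE_iff.mp h0
    rw [hdim] at h1
    exact absurd h1 (by norm_num)
  · rintro ⟨x, hx, hxM⟩ r hr hrR
    rw [isSMulRegular_iff_right_eq_zero_of_smul] at hxM ⊢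
    intro m hm
    by_contra hm0
    obtain ⟨P, hP, hle⟩ := exists_le_isAssociatedPrime_of_isNoetherianRing R m hm0
    have hrP : r ∈ P := hle (by rw [Submodule.mem_colon_singleton]; simpa using hm)
    rcases Ring.krullDimLE_one_iff.mp hK P hP.isPrime with hmin | hmax
    · refine Set.disjoint_left.mp (Ideal.disjoint_nonZeroDivisors_of_mem_minimalPrimes hmin) hrP ?_
      rw [SetLike.mem_coe, mem_nonZeroDivisors_iff_right]
      intro y hy
      exact isSMulRegular_iff_right_eq_zero_of_smul.mp hrR y (by rw [smul_eq_mul, mul_comm]; exact hy)
    · rw [IsLocalRing.eq_maximalIdeal hmax] at hP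
      obtain ⟨_, y, hy⟩ := isAssociatedPrime_iff.mp hP
      have hxy : x • y = 0 := by
        rw [hy, Submodule.mem_colon_singleton] at hx
        simpa using hx
      have := hxM y hxy
      exact (IsLocalRing.maximalIdeal.isMaximal R).ne_top (by simp [hy, this])

end Groth.Agent.S13996
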