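import Groth.Statements.S13997

-- import your own Groth.Agent.* helpers here

set_option autoImplicit false
universe u
open FlatMor

namespace Groth.Agent.S13997

open scoped Pointwise in
/-- Finite type lifts along quotients by nilpotent finitely generated ideals. -/
theorem finiteType_of_quotient {A B C : Type u} [CommRing A] [CommRing B] [CommRing C] (φ : A →+* B) (π : B →+* C)
    (hπ : Function.Surjective π) (hn : IsNilpotent (RingHom.ker π)) (hfg : (RingHom.ker π).FG)
    (h : (π.comp φ).FiniteType) : φ.FiniteType := by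
  classical
  letI := φ.toAlgebra
  letI := (π.comp φ).toAlgebra
  let πa : B →ₐ[A] C := { π with commutes' := fun _ => rfl }
  obtain ⟨s, hs⟩ := (show Algebra.FiniteType A C from h).out
  obtain ⟨T, hT⟩ := hfg
  choose lift hlift using fun c => hπ c
  let S : Subalgebra A B := Algebra.adjoin A ((s.image lift ∪ T : Finset B) : Set B)
  have hsurj : ∀ b : B, ∃ c ∈ S, b - c ∈ RingHom.ker π := by
    intro b
    have hb : πa b ∈ S.map πa := by
      have : Algebra.adjoin A (s : Set C) ≤ S.map πa := Algebra.adjoin_le fun c hc =>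
        ⟨lift c, Algebra.subset_adjoin (Finset.mem_union_left _ (Finset.mem_image_of_mem lift hc)), hlift c⟩
      exact this (hs ▸ trivial)
    obtain ⟨c, hc, hcb⟩ := hb
    exact ⟨c, hc, by rw [RingHom.mem_ker, map_sub, sub_eq_zero]; exact hcb.symm⟩
  have hJS : ∀ t ∈ T, t ∈ S := fun t ht => Algebra.subset_adjoin (Finset.mem_union_right _ ht)
  have hstep : ∀ k : ℕ, ∀ z ∈ RingHom.ker π ^ k, ∃ c ∈ S, z - c ∈ RingHom.ker π ^ (k + 1) := by
    intro k z hz
    rw [show RingHom.ker π ^ k = Ideal.span ((T : Set B) ^ k) by rw [← hT]; exact Submodule.span_pow _ k] at hz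
    induction hz using Submodule.span_induction with
    | mem m hm =>
      refine ⟨m, ?_, by simp⟩
      induction k generalizing m with
      | zero => rw [pow_zero] at hm; exact hm ▸ S.one_mem
      | succ k ih =>
        rw [pow_succ] at hm
        obtain ⟨a, ha, b, hb, rfl⟩ := hm
        exact S.mul_mem (ih a ha) (hJS b hb)
    | zero => exact ⟨0, S.zero_mem, by simp⟩
    | add x y _ _ ihx ihy =>
      obtain ⟨c, hc, hcx⟩ := ihx
      obtain ⟨d, hd, hdy⟩ := ihy
      exact ⟨c + d, S.add_mem hc hd, by rw [show x + y - (c + d) = (x - c) + (y - d) by ring]; exact add_mem hcx hdy⟩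
    | smul b x hx ih =>
      obtain ⟨c, hc, hcx⟩ := ih
      obtain ⟨b', hb', hbb⟩ := hsurj b
      have hxk : x ∈ RingHom.ker π ^ k := by
        rw [← hT]; exact le_of_eq (Submodule.span_pow (R := B) (T : Set B) k).symm hx
      refine ⟨b' * c, S.mul_mem hb' hc, ?_⟩
      rw [smul_eq_mul, show b * x - b' * c = (b - b') * x + b' * (x - c) by ring]
      refine add_mem ?_ (Ideal.mul_mem_left _ _ hcx)
      rw [pow_succ']
      exact Ideal.mul_mem_mul hbb hxk
  have hall : ∀ k : ℕ, ∀ b : B, ∃ c ∈ S, b - c ∈ RingHom.ker π ^ k := by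
    intro k
    induction k with
    | zero => exact fun b => ⟨0, S.zero_mem, by simp⟩
    | succ k ih =>
      intro b
      obtain ⟨c, hc, hbc⟩ := ih b
      obtain ⟨d, hd, hbd⟩ := hstep k _ hbc
      exact ⟨c + d, S.add_mem hc hd, by rwa [← sub_sub]⟩
  obtain ⟨N, hN⟩ := hn
  refine ⟨⟨s.image lift ∪ T, eq_top_iff.2 fun b _ => ?_⟩⟩
  obtain ⟨c, hc, hbc⟩ := hall N b
  rw [hN] at hbc
  obtain rfl : b = c := sub_eq_zero.1 hbc
  exact hc



open AlgebraicGeometry CategoryTheory in
/-- Consider a commutative square of schemes F₀ ≫ j = i ≫ F in which i : Y₀ ⟶ Y and j : X₀ ⟶ X are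
closed immersions surjective on points whose ideals are locally nilpotent (nilpotent on every affine
open), and suppose moreover that the ideal of i is of finite type (finitely generated on every
affine open of Y). Then F : Y ⟶ X is locally of finite type if and only if F₀ : Y₀ ⟶ X₀ is. The
square is not assumed cartesian and the ideal of j need not be of finite type. (The published
statement also asserts the version for morphisms of finite type; that version follows from this one,
because quasi-compactness of a morphism transfers along closed immersions surjective on points, and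
it is not restated here.) -/
theorem result {X X₀ Y Y₀ : Scheme.{u}}
    (F : Y ⟶ X) (F₀ : Y₀ ⟶ X₀) (i : Y₀ ⟶ Y) (j : X₀ ⟶ X)
    (hi : MoreMor.IsThickening i) (hj : MoreMor.IsThickening j)
    (hinil : ∀ U : Y.affineOpens, IsNilpotent (i.ker.ideal U))
    (hjnil : ∀ U : X.affineOpens, IsNilpotent (j.ker.ideal U))
    (hfg : ∀ U : Y.affineOpens, (i.ker.ideal U).FG)
    (w : F₀ ≫ j = i ≫ F) :
    LocallyOfFiniteType F ↔ LocallyOfFiniteType F₀ := by
  haveI : IsClosedImmersion i := hi.1
  haveI : IsClosedImmersion j := hj.1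
  constructor
  · intro hF
    haveI : LocallyOfFiniteType (F₀ ≫ j) := w ▸ inferInstance
    exact locallyOfFiniteType_of_comp F₀ j
  · intro hF₀
    haveI hc : LocallyOfFiniteType (i ≫ F) := w ▸ inferInstance
    rw [HasRingHomProperty.iff_appLE (P := @LocallyOfFiniteType)] at hc ⊢
    intro V U e
    have hker : RingHom.ker (i.app U.1).hom = i.ker.ideal U := (Scheme.Hom.ker_apply _ _).symm
    refine finiteType_of_quotient _ (i.app U.1).hom (i.app_surjective U.1 U.2)
      (hker ▸ hinil U) (hker ▸ hfg U) ?_
    have h := hc V ⟨i ⁻¹ᵁ U.1, U.2.preimage i⟩ (fun y hy => e hy)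
    rw [← CommRingCat.hom_comp, Scheme.Hom.app_eq_appLE, Scheme.Hom.appLE_comp_appLE]
    exact h


end Groth.Agent.S13997
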