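import Groth.Statements.S13998
import Groth.Agent.S1302
import Groth.Agent.FComplLib.Thicken
-- import your own Groth.Agent.* helpers here

set_option autoImplicit false
universe u
open FlatMor

namespace Groth.Agent.S13998

theorem finite_of_nilpotent {A B C : Type u} [CommRing A] [CommRing B] [CommRing C] (φ : A →+* B) (π : B →+* C)
    (I : Ideal A) (hI : IsNilpotent I) (hs : Function.Surjective π) (hfin : (π.comp φ).Finite)
    (hker : RingHom.ker π ≤ I.map φ) : φ.Finite := by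
  classical
  algebraize [φ, π.comp φ]
  obtain ⟨T, hT⟩ := (inferInstance : Module.Finite A C).fg_top
  let g : C → B := Function.surjInv hs
  let πa : B →ₐ[A] C := ⟨π, fun _ => rfl⟩
  let N : Submodule A B := Submodule.span A ((T.image g : Finset B) : Set B)
  have h1 : ∀ b : B, ∃ n ∈ N, b - n ∈ I.map φ := fun b => by
    have hmap : N.map πa.toLinearMap = ⊤ := by
      rw [Submodule.map_span, Finset.coe_image, Set.image_image]
      have e : (fun x => πa.toLinearMap (g x)) = id := funext fun x => Function.surjInv_eq hs x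
      rw [e, Set.image_id, hT]
    obtain ⟨n, hn, hnb⟩ := (hmap.ge (Submodule.mem_top (x := π b)) : π b ∈ N.map πa.toLinearMap)
    refine ⟨n, hn, hker ?_⟩
    rw [RingHom.mem_ker, map_sub]
    exact sub_eq_zero.mpr hnb.symm
  have step : ∀ k, ∀ x ∈ (I ^ k).map φ, ∀ c : B, ∃ n ∈ N, c * x - n ∈ (I ^ (k + 1)).map φ := by
    intro k x hx
    induction hx using Submodule.span_induction with
    | mem x hx =>
      obtain ⟨a, ha, rfl⟩ := hx
      intro c
      obtain ⟨n, hn, hc⟩ := h1 c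
      refine ⟨a • n, N.smul_mem a hn, ?_⟩
      rw [Algebra.smul_def, show algebraMap A B a = φ a from rfl,
        show c * φ a - φ a * n = φ a * (c - n) by ring, pow_succ, Ideal.map_mul]
      exact Ideal.mul_mem_mul (Ideal.mem_map_of_mem φ ha) hc
    | zero => exact fun c => ⟨0, N.zero_mem, by simp⟩
    | add x y _ _ hx hy =>
      intro c
      obtain ⟨n, hn, h⟩ := hx c
      obtain ⟨n', hn', h'⟩ := hy c
      exact ⟨n + n', N.add_mem hn hn', by simpa [mul_add, add_sub_add_comm] using add_mem h h'⟩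
    | smul d x _ hx =>
      intro c
      obtain ⟨n, hn, h⟩ := hx (c * d)
      exact ⟨n, hn, by simpa [smul_eq_mul, mul_assoc] using h⟩
  have hall : ∀ k (b : B), ∃ n ∈ N, b - n ∈ (I ^ k).map φ := by
    intro k
    induction k with
    | zero => exact fun b => ⟨0, N.zero_mem, by simp [Ideal.map_top]⟩
    | succ k ih =>
      intro b
      obtain ⟨n, hn, h⟩ := ih b
      obtain ⟨n', hn', h'⟩ := step k _ h 1
      exact ⟨n + n', N.add_mem hn hn', by simpa [sub_add_eq_sub_sub] using h'⟩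
  obtain ⟨m, hm⟩ := hI
  refine ⟨⟨T.image g, eq_top_iff.mpr fun b _ => ?_⟩⟩
  obtain ⟨n, hn, h⟩ := hall m b
  rw [hm, Ideal.zero_eq_bot, Ideal.map_bot, Ideal.mem_bot, sub_eq_zero] at h
  exact h ▸ hn

open AlgebraicGeometry CategoryTheory in
/-- Consider a cartesian square of schemes F₀ ≫ j = i ≫ F (so Y₀ = Y ×_X X₀) in which i : Y₀ ⟶ Y and j :
X₀ ⟶ X are closed immersions surjective on points whose ideals are locally nilpotent (nilpotent on
every affine open), and suppose moreover that the ideal of j is of finite type (finitely generated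
on every affine open of X). Then F : Y ⟶ X is finite if and only if F₀ : Y₀ ⟶ X₀ is finite. -/
theorem result {X X₀ Y Y₀ : Scheme.{u}}
    (F : Y ⟶ X) (F₀ : Y₀ ⟶ X₀) (i : Y₀ ⟶ Y) (j : X₀ ⟶ X)
    (hi : MoreMor.IsThickening i) (hj : MoreMor.IsThickening j)
    (hinil : ∀ U : Y.affineOpens, IsNilpotent (i.ker.ideal U))
    (hjnil : ∀ U : X.affineOpens, IsNilpotent (j.ker.ideal U))
    (hfg : ∀ U : X.affineOpens, (j.ker.ideal U).FG)
    (hc : IsPullback F₀ i j F) :
    IsFinite F ↔ IsFinite F₀ := by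
  haveI : IsClosedImmersion j := hj.1
  refine ⟨fun h => MorphismProperty.of_isPullback hc.flip h, fun h => ?_⟩
  haveI : IsAffineHom F := (Groth.Agent.S1302.result i j F₀ F hi hj hc.w.symm).1 inferInstance
  refine { finite_app := fun U hU => ?_ }
  obtain ⟨hs, hk, he⟩ := FComplLib.chart hc.flip ⟨U, hU⟩ ⟨F ⁻¹ᵁ U, hU.preimage F⟩ le_rfl
  rw [Scheme.Hom.app_eq_appLE]
  refine finite_of_nilpotent _ (i.app _).hom _ (hjnil ⟨U, hU⟩) hs ?_ hk.le
  rw [← CommRingCat.hom_comp, he, CommRingCat.hom_comp]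
  refine RingHom.Finite.comp ?_ (RingHom.Finite.of_surjective _ (j.app_surjective U hU))
  have e : i ⁻¹ᵁ (F ⁻¹ᵁ U) = F₀ ⁻¹ᵁ (j ⁻¹ᵁ U) := by
    rw [← Scheme.Hom.comp_preimage, ← Scheme.Hom.comp_preimage, hc.w]
  have hfin : (F₀.app (j ⁻¹ᵁ U)).hom.Finite := IsFinite.finite_app F₀ _ (hU.preimage j)
  rw [Scheme.Hom.app_eq_appLE] at hfin
  have key : ∀ (W : Y₀.Opens) (hle : W ≤ F₀ ⁻¹ᵁ (j ⁻¹ᵁ U)), W = F₀ ⁻¹ᵁ (j ⁻¹ᵁ U) →
      (F₀.appLE (j ⁻¹ᵁ U) W hle).hom.Finite := fun W _ hW => by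
    subst hW
    exact hfin
  exact key _ _ e

end Groth.Agent.S13998
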