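import Groth.Statements.S14001
import Groth.Agent.KHeartLib.Euler
import Groth.Agent.S15821
import Groth.Agent.DRingLib.Devissage
import Mathlib.RingTheory.Support
import Mathlib.RingTheory.Ideal.AssociatedPrime.Basic
-- import your own Groth.Agent.* helpers here

set_option autoImplicit false
set_option linter.style.haveILetI false
universe u
open CategoryTheory
attribute [local instance] HasDerivedCategory.standard
open KZero

namespace Groth.Agent.S14001

open CategoryTheory CategoryTheory.Limits CategoryTheory.Pretriangulated

section Aux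

variable {R : Type u} [CommRing R]

theorem isPerfect_koszul : ∀ l : List R, DRing.IsPerfect R (DRing.toD (Koszul.koszul R l)) := by
  intro l
  induction l with
  | nil =>
    refine ⟨_, 0, 0, fun i hi => ?_, fun i => ?_, ⟨Iso.refl _⟩⟩
    · exact HomologicalComplex.isZero_single_obj_X (ComplexShape.up ℤ) 0 (ModuleCat.of R R) i (by omega)
    · by_cases h : i = 0
      · subst h
        let e : R ≃ₗ[R] (Koszul.koszul R []).X 0 :=
          ((HomologicalComplex.singleObjXSelf (ComplexShape.up ℤ) 0
            (ModuleCat.of R R)).toLinearEquiv).symm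
        exact ⟨Module.Finite.equiv e, Module.Projective.of_equiv e⟩
      · have hz : IsZero ((Koszul.koszul R []).X i) :=
          HomologicalComplex.isZero_single_obj_X (ComplexShape.up ℤ) 0 (ModuleCat.of R R) i h
        have := DRingLib.free_of_isZero hz
        exact ⟨DRingLib.finite_of_isZero hz, Module.Projective.of_free⟩
  | cons f l ih =>
    exact DRingLib.isPerfect_obj₃ (DerivedCategory.Q.mapTriangle.obj
      (CochainComplex.mappingCone.triangle (f • 𝟙 (Koszul.koszul R l))))
      ((DerivedCategory.mem_distTriang_iff _).2 ⟨_, _, _, ⟨Iso.refl _⟩⟩) ih ih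

end Aux


/-- Let R be a Noetherian local ring whose maximal ideal is generated by an R-regular sequence f_1, …,
f_n. Let K_0 be the Grothendieck group of the full triangulated subcategory of D(R) consisting of
the perfect complexes all of whose cohomology modules are supported at the closed point (the perfect
complexes acyclic off the closed point): the free abelian group on these objects modulo the
relations of distinguished triangles with all three vertices in the subcategory. Then K_0 is
generated by the class of the Koszul complex of f_1, …, f_n. -/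
theorem result (R : Type u) [CommRing R]
    [IsNoetherianRing R] [IsLocalRing R] (fs : List R) (hreg : RingTheory.Sequence.IsRegular R fs)
    (hgen : Ideal.ofList fs = IsLocalRing.maximalIdeal R) :
    AddSubgroup.closure
        {KZero.clTr (fun K : Dual.D R => DRing.IsPerfect R K ∧
            ∀ i : ℤ, Module.support R (Dual.HD R K i) ⊆ {IsLocalRing.closedPoint R})
          (DRing.toD (Koszul.koszul R fs))} = ⊤ := by
  open Groth.Agent.KHeartLib in
  haveI : IsNoetherian R R := inferInstance
  let P : ObjectProperty (ModuleCat.{u} R) := fun M =>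
    Module.Finite R M ∧ Module.support R M ⊆ {IsLocalRing.closedPoint R}
  let k : ModuleCat.{u} R := ModuleCat.of R (R ⧸ Ideal.ofList fs)
  have hfin : ∀ {M : ModuleCat.{u} R}, IsZero M → P M := fun {M} h => by
    haveI := ModuleCat.subsingleton_of_isZero h
    exact ⟨inferInstance, by simp [Module.support_eq_empty]⟩
  have hsub : ∀ {M N : ModuleCat.{u} R} (g : M ⟶ N), Function.Injective g.hom → P N → P M :=
    fun {M N} g hg hN => by
      haveI := hN.1
      exact ⟨Module.Finite.of_injective g.hom hg, (Module.support_subset_of_injective g.hom hg).trans hN.2⟩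
  have hquot : ∀ {M N : ModuleCat.{u} R} (g : M ⟶ N), Function.Surjective g.hom → P M → P N :=
    fun {M N} g hg hM => by
      haveI := hM.1
      exact ⟨Module.Finite.of_surjective g.hom hg, (Module.support_subset_of_surjective g.hom hg).trans hM.2⟩
  haveI : WSerre.IsWeakSerre P :=
    { exists_zero := ⟨_, isZero_zero _, hfin (isZero_zero _)⟩
      kernels_le := by
        rintro _ ⟨g, c, hc, hg⟩
        haveI := Fork.IsLimit.mono hc
        exact hsub c.ι ((ModuleCat.mono_iff_injective _).1 inferInstance) hg.1
      cokernels_le := by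
        rintro _ ⟨g, c, hc, hg⟩
        haveI := Cofork.IsColimit.epi hc
        exact hquot c.π ((ModuleCat.epi_iff_surjective _).1 inferInstance) hg.2
      prop_X₂_of_shortExact := fun {S} hS h₁ h₃ => by
        haveI := h₁.1
        haveI := h₃.1
        haveI := hS.mono_f
        haveI := hS.epi_g
        have hex := (ShortComplex.moduleCat_exact_iff_range_eq_ker S).1 hS.exact
        haveI := isNoetherian_of_range_eq_ker _ _ hex
        refine ⟨Module.IsNoetherian.finite _ _, ?_⟩
        rw [Module.support_of_exact (LinearMap.exact_iff.2 hex.symm)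
          ((ModuleCat.mono_iff_injective _).1 inferInstance)
          ((ModuleCat.epi_iff_surjective _).1 inferInstance)]
        exact Set.union_subset h₁.2 h₃.2 }
  -- the residue field is the Koszul complex
  have hwr : RingTheory.Sequence.IsWeaklyRegular R fs := hreg.toIsWeaklyRegular
  obtain ⟨hK, ⟨eK⟩⟩ := Groth.Agent.S15821.result R fs hwr
  have hH : ∀ i, (DerivedCategory.homologyFunctor (ModuleCat.{u} R) i).obj (DRing.toD (Koszul.koszul R fs)) ≅
      (Koszul.koszul R fs).homology i :=
    fun i => (DerivedCategory.homologyFunctorFactors (ModuleCat.{u} R) i).app _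
  haveI : (DRing.toD (Koszul.koszul R fs)).IsGE 0 :=
    (DerivedCategory.isGE_iff _ 0).2 fun i hi => (hK i (by omega)).of_iso (hH i)
  haveI : (DRing.toD (Koszul.koszul R fs)).IsLE 0 :=
    (DerivedCategory.isLE_iff _ 0).2 fun i hi => (hK i (by omega)).of_iso (hH i)
  obtain ⟨e₀⟩ := Groth.Agent.DerLib.Devissage.nonempty_iso_single (DRing.toD (Koszul.koszul R fs)) 0
  let e : DRing.toD (Koszul.koszul R fs) ≅ (DerivedCategory.singleFunctor (ModuleCat.{u} R) 0).obj k :=
    e₀ ≪≫ (DerivedCategory.singleFunctor (ModuleCat.{u} R) 0).mapIso (hH 0 ≪≫ eK)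
  have hkperf : DRing.IsPerfect R ((DerivedCategory.singleFunctor (ModuleCat.{u} R) 0).obj k) :=
    DRingLib.isPerfect_of_iso e (isPerfect_koszul fs)
  have hkP : P k := by
    refine ⟨inferInstanceAs (Module.Finite R (R ⧸ Ideal.ofList fs)), ?_⟩
    change Module.support R (R ⧸ Ideal.ofList fs) ⊆ _
    rw [Module.support_eq_zeroLocus, Ideal.annihilator_quotient, hgen]
    intro p hp
    have hle : IsLocalRing.maximalIdeal R ≤ p.asIdeal := hp
    exact PrimeSpectrum.ext ((IsLocalRing.maximalIdeal.isMaximal R).eq_of_le p.isPrime.ne_top hle).symm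
  -- dévissage of finite modules supported at the closed point
  have dev : ∀ (S : ModuleCat.{u} R → Prop), (∀ {A B : ModuleCat.{u} R}, (A ≅ B) → S A → S B) →
      (∀ M, IsZero M → S M) → S k →
      (∀ T : ShortComplex (ModuleCat.{u} R), T.ShortExact → P T.X₁ → P T.X₂ → P T.X₃ →
        S T.X₁ → S T.X₃ → S T.X₂) → ∀ M, P M → S M := by
    intro S hiso hzero hk hext M hM
    haveI := hM.1
    suffices key : ∀ (N : Submodule R M) (L : ModuleCat.{u} R) (q : M →ₗ[R] L),
        Function.Surjective q → LinearMap.ker q = N → S L from
      key _ M LinearMap.id Function.surjective_id rfl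
    intro N
    induction N using WellFoundedGT.induction with
    | _ N IH =>
    intro L q hq hN
    have hL : P L := hquot (ModuleCat.ofHom q) hq hM
    rcases subsingleton_or_nontrivial L with hs | hn
    · exact hzero L (ModuleCat.isZero_of_subsingleton L)
    obtain ⟨p, hp⟩ := associatedPrimes.nonempty R L
    obtain ⟨hpp, g, hg⟩ := (isAssociatedPrime_iff_exists_injective_linearMap _ _).1 hp
    have hpm : p = Ideal.ofList fs := by
      have h1 : (⟨p, hpp⟩ : PrimeSpectrum R) ∈ Module.support R L :=
        Module.support_subset_of_injective g hg (by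
          rw [Module.support_eq_zeroLocus, Ideal.annihilator_quotient]
          exact fun x hx => hx)
      rw [hgen]
      exact congrArg PrimeSpectrum.asIdeal (hL.2 h1)
    subst hpm
    let q' : L →ₗ[R] L ⧸ LinearMap.range g := (LinearMap.range g).mkQ
    have hlt : N < LinearMap.ker (q'.comp q) := by
      refine lt_of_le_of_ne (hN ▸ LinearMap.ker_le_ker_comp q q') fun h => ?_
      haveI : Nontrivial (R ⧸ Ideal.ofList fs) := Ideal.Quotient.nontrivial_iff.2 hpp.ne_top
      obtain ⟨m, hm⟩ := hq (g 1)
      have : m ∈ LinearMap.ker q := by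
        rw [hN, h]
        simp [q', hm]
      exact one_ne_zero (hg ((LinearMap.mem_ker.1 this ▸ hm).symm.trans (map_zero g).symm))
    let T : ShortComplex (ModuleCat.{u} R) := ShortComplex.mk
      (X₁ := k) (X₂ := L) (X₃ := ModuleCat.of R (L ⧸ LinearMap.range g))
      (ModuleCat.ofHom g) (ModuleCat.ofHom q') (by
        ext x
        simp [q'])
    have hT : T.ShortExact :=
      { exact := (ShortComplex.moduleCat_exact_iff_range_eq_ker T).2 (by simp [T, q'])
        mono_f := (ModuleCat.mono_iff_injective _).2 hg
        epi_g := (ModuleCat.epi_iff_surjective _).2 (Submodule.mkQ_surjective _) }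
    exact hext T hT hkP hL (hquot T.g (Submodule.mkQ_surjective _) hL) hk
      (IH _ hlt T.X₃ (q'.comp q) ((Submodule.mkQ_surjective _).comp hq) rfl)
  have hperf : ∀ M, P M → DRing.IsPerfect R ((DerivedCategory.singleFunctor (ModuleCat.{u} R) 0).obj M) :=
    dev (fun M => DRing.IsPerfect R ((DerivedCategory.singleFunctor (ModuleCat.{u} R) 0).obj M))
      (fun e h => DRingLib.isPerfect_of_iso ((DerivedCategory.singleFunctor _ 0).mapIso e) h)
      (fun M h => DRingLib.isPerfect_of_isZero ((DerivedCategory.singleFunctor _ 0).map_isZero h)) hkperf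
      (fun T hT _ _ _ h₁ h₃ => DRingLib.isPerfect_obj₂ _ hT.singleTriangle_distinguished h₁ h₃)
  have hQ : IsHeartClass P (fun K : Dual.D R => DRing.IsPerfect R K ∧
      ∀ i : ℤ, Module.support R (Dual.HD R K i) ⊆ {IsLocalRing.closedPoint R}) := by
    refine ⟨fun K h => ?_, fun K h i => ⟨?_, h.2 i⟩, fun K a b ha hb h => ⟨?_, fun i => (h i).2⟩⟩
    · obtain ⟨E, a, b, hv, -, ⟨e⟩⟩ := h.1
      refine ⟨a, b, ?_, ?_⟩
      · haveI : (DRing.toD E).IsGE a := (DerivedCategory.isGE_iff _ a).2 fun j hj =>
          ((HomologicalComplex.exactAt_iff_isZero_homology E j).1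
            (HomologicalComplex.ExactAt.of_isZero (hv j (Or.inl hj)))).of_iso
              ((DerivedCategory.homologyFunctorFactors _ j).app E)
        exact DerivedCategory.TStructure.t.isGE_of_iso e a
      · haveI : (DRing.toD E).IsLE b := (DerivedCategory.isLE_iff _ b).2 fun j hj =>
          ((HomologicalComplex.exactAt_iff_isZero_homology E j).1
            (HomologicalComplex.ExactAt.of_isZero (hv j (Or.inr hj)))).of_iso
              ((DerivedCategory.homologyFunctorFactors _ j).app E)
        exact DerivedCategory.TStructure.t.isLE_of_iso e b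
    · obtain ⟨E, a, b, -, hp, ⟨e⟩⟩ := h.1
      haveI := (hp i).1
      haveI : IsNoetherian R (E.X i) := isNoetherian_of_isNoetherianRing_of_finite R _
      haveI : Module.Finite R (E.homology i) := by
        haveI : Module.Finite R (E.sc i).X₂ := (hp i).1
        haveI : IsNoetherian R (E.sc i).X₂ := isNoetherian_of_isNoetherianRing_of_finite R _
        haveI : Module.Finite R (E.sc i).cycles := Module.Finite.of_injective (E.sc i).iCycles.hom
          ((ModuleCat.mono_iff_injective _).1 inferInstance)
        exact Module.Finite.of_surjective (E.sc i).homologyπ.hom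
          ((ModuleCat.epi_iff_surjective _).1 inferInstance)
      haveI : Module.Finite R ((HomologicalComplex.homologyFunctor (ModuleCat.{u} R) (ComplexShape.up ℤ) i).obj E) :=
        ‹Module.Finite R (E.homology i)›
      exact Module.Finite.equiv (((DerivedCategory.homologyFunctorFactors _ i).app E).symm ≪≫
        (DerivedCategory.homologyFunctor _ i).mapIso e).toLinearEquiv
    · refine DRingLib.Devissable.of_homology DRingLib.devissable_isPerfect a (b + 1 - a).toNat K
        (fun i hi => ?_) (fun i => DRingLib.isPerfect_singleFunctor (hperf _ (h i)) i)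
      rcases hi with hi | hi
      · exact DerivedCategory.isZero_of_isGE K a i hi
      · exact DerivedCategory.isZero_of_isLE K b i (by omega)
  let Q : ObjectProperty (Dual.D R) := fun K => DRing.IsPerfect R K ∧
      ∀ i : ℤ, Module.support R (Dual.HD R K i) ⊆ {IsLocalRing.closedPoint R}
  have hQ' : IsHeartClass P Q := hQ
  haveI : Q.IsClosedUnderIsomorphisms := hQ'.closedIso
  haveI : Q.ContainsZero := hQ'.containsZero
  let H := AddSubgroup.closure {KZero.clTr Q (DRing.toD (Koszul.koszul R fs))}
  change H = ⊤
  rw [eq_top_iff, ← clTr_closure_eq_top Q, AddSubgroup.closure_le]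
  rintro _ ⟨K, hK', rfl⟩
  refine hQ'.clTr_mem' H (dev (fun M => KZero.clTr Q ((DerivedCategory.singleFunctor (ModuleCat.{u} R) 0).obj M) ∈ H)
    (fun e h => ?_) (fun M h => ?_) ?_ (fun T hT p₁ p₂ p₃ a b => ?_)) K hK'
  · rw [← clTr_congr Q ((DerivedCategory.singleFunctor _ 0).mapIso e)]
    exact h
  · rw [clTr_eq_zero Q (hQ'.single (hfin h) 0) ((DerivedCategory.singleFunctor _ 0).map_isZero h)]
    exact H.zero_mem
  · rw [← clTr_congr Q e]
    exact AddSubgroup.subset_closure rfl
  · have := clTr_add Q _ hT.singleTriangle_distinguished (hQ'.single p₁ 0) (hQ'.single p₂ 0) (hQ'.single p₃ 0)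
    simp only [ShortComplex.ShortExact.singleTriangle, Triangle.mk] at this
    exact this.symm ▸ H.add_mem a b

end Groth.Agent.S14001
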