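import Groth.Statements.S14003
import Groth.Agent.KHeartLib.CohSupp
import Groth.Agent.KHeartLib.Classes
import Mathlib.RingTheory.Length
import Mathlib.RingTheory.SimpleModule.Basic
-- import your own Groth.Agent.* helpers here

set_option autoImplicit false
set_option linter.style.haveILetI false
universe u
open CategoryTheory AlgebraicGeometry
open KZero

namespace Groth.Agent.S14003

/-- Let X be a Noetherian scheme and Y' a closed subset; write K_0 for the Grothendieck group of the
abelian category of coherent O_X-modules with support in Y' (free abelian group on its objects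
modulo the relations of short exact sequences). Let (F_a) be a family of such modules such that for
every irreducible closed subset Z ⊆ Y' with generic point ζ there is an index a with the support of
F_a contained in Z and the stalk of F_a at ζ of length one over the local ring (a one-dimensional
vector space over the residue field). Then the classes of the F_a generate K_0. (The published
statement omits the condition that the support of F_a lie in Z; without it the claim fails already
for the spectrum of a product of two fields, where the modules k_1 ⊕ k_2 ⊕ k_2 and k_1 ⊕ k_1 ⊕ k_2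
have one-dimensional stalks at the two points but their classes generate a subgroup of index 3 in
K_0 = ℤ².) -/
theorem result (X : Scheme.{u}) [IsNoetherian X]
    (Y' : Set X) (hY' : IsClosed Y') {ι : Type u} (F : ι → X.Modules)
    (hF : ∀ a : ι, Coh.IsCoh (F a) ∧ CohB1.support (F a) ⊆ Y')
    (hgen : ∀ (Z : Set X), IsClosed Z → IsIrreducible Z → Z ⊆ Y' → ∀ y : X, closure ({y} : Set X) = Z →
      ∃ a : ι, CohB1.support (F a) ⊆ Z ∧ Module.length (X.presheaf.stalk y) ((F a).presheaf.stalk y) = 1) :
    AddSubgroup.closure (Set.range fun a : ι =>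
        KZero.clSub (fun G : X.Modules => Coh.IsCoh G ∧ CohB1.support G ⊆ Y') (F a)) = ⊤ := by
  open Groth.Agent.KHeartLib in
  haveI := isWeakSerre_cohIn (X := X) Y'
  let P : ObjectProperty X.Modules := fun G => Coh.IsCoh G ∧ CohB1.support G ⊆ Y'
  haveI : WSerre.IsWeakSerre P := isWeakSerre_cohIn (X := X) Y'
  let H := AddSubgroup.closure (Set.range fun a : ι => KZero.clSub P (F a))
  change H = ⊤
  have hmem : ∀ a, KZero.clSub P (F a) ∈ H := fun a => AddSubgroup.subset_closure ⟨a, rfl⟩
  suffices key : ∀ M : X.Modules, Coh.IsCoh M → CohB1.support M ⊆ Y' → KZero.clSub P M ∈ H by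
    rw [eq_top_iff, ← clSub_closure_eq_top P, AddSubgroup.closure_le]
    rintro _ ⟨M, hM, rfl⟩
    exact key M hM.1 hM.2
  intro M hM hMY
  rcases Y'.eq_empty_or_nonempty with hY | hne
  · rw [clSub_eq_zero P ⟨hM, hMY⟩ (DevissLib.isZero_of_support_empty (Set.subset_eq_empty (hMY.trans hY.le) rfl))]
    exact H.zero_mem
  refine DevissLib.devissage (fun N => KZero.clSub P N ∈ H)
    (fun A B ⟨e⟩ h => by simpa only [clSub_congr P e] using h) Y' (fun S hS hc₁ hc₂ hc₃ hs₂ => ?_)
    hne (fun η hη hclos => ?_) hY' M hM hMY
  · haveI := hS.mono_f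
    haveI := hS.epi_g
    have h : KZero.clSub P S.X₂ = KZero.clSub P S.X₁ + KZero.clSub P S.X₃ := clSub_add P S hS
      ⟨hc₁, (DevissLib.support_mono S.f).trans hs₂⟩ ⟨hc₂, hs₂⟩
      ⟨hc₃, (DevissLib.support_epi S.g).trans hs₂⟩
    refine ⟨fun a b => ?_, fun a b => by rw [h]; exact H.add_mem a b, fun a b => ?_⟩
    · rw [h] at b; simpa using H.sub_mem b a
    · rw [h] at a; simpa using H.sub_mem a b
  · obtain ⟨a, hsupp, hlen⟩ := hgen (closure {η}) isClosed_closure
      isIrreducible_singleton.closure hclos η rfl
    haveI hsimple := Module.length_eq_one_iff.1 hlen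
    have hηF : η ∈ CohB1.support (F a) := fun h => by
      haveI := h
      haveI := IsSimpleModule.nontrivial (X.presheaf.stalk η) ((F a).presheaf.stalk η)
      exact not_subsingleton _ h
    refine ⟨F a, (hF a).1, hsupp.antisymm ?_, ?_, hmem a⟩
    · exact (QCohLib.isClosed_support _ (hF a).1.2).closure_subset_iff.2
        (Set.singleton_subset_iff.2 hηF)
    · obtain ⟨m, hm, ⟨e⟩⟩ := isSimpleModule_iff_quot_maximal.1 hsimple
      obtain rfl := IsLocalRing.eq_maximalIdeal hm
      exact ⟨e⟩

end Groth.Agent.S14003
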