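import Groth.Statements.S14007
import Groth.Agent.PerfLib.Coherent
import Groth.Agent.KHeartLib.Euler
-- import your own Groth.Agent.* helpers here

set_option autoImplicit false
set_option linter.style.haveILetI false
universe u
open CategoryTheory AlgebraicGeometry
attribute [local instance] HasDerivedCategory.standard
open KZero

namespace Groth.Agent.S14007

/-- Let X be a Noetherian scheme and Y' ⊆ X a closed subset, and suppose that every coherent O_X-module
with support in Y', viewed in degree 0, is a perfect object of D(O_X). Write K_0(C) for the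
Grothendieck group of the abelian category C of coherent O_X-modules supported in Y' (objects modulo
short exact sequences) and K_0(D) for that of the full triangulated subcategory D of D(O_X) on the
perfect complexes all of whose cohomology sheaves are supported in Y' (objects modulo distinguished
triangles with vertices in D). Then the homomorphism K_0(C) → K_0(D) induced by G ↦ G[0] is an
isomorphism: there is an isomorphism of groups carrying the class of every G in C to the class of
G[0]. -/
theorem result (X : Scheme.{u}) [IsNoetherian X]
    (Y' : Set X) (hY' : IsClosed Y')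
    (hperf : ∀ G : X.Modules, Coh.IsCoh G → CohB1.support G ⊆ Y' → DCoh.IsPerfect (DCoh.inD X G)) :
    ∃ φ : KZero.K0sub (fun G : X.Modules => Coh.IsCoh G ∧ CohB1.support G ⊆ Y') ≃+
        KZero.K0tr (fun K : DCoh.D X => DCoh.IsPerfect K ∧ ∀ i : ℤ, CohB1.support (DCoh.HD K i) ⊆ Y'),
      ∀ G : X.Modules, Coh.IsCoh G → CohB1.support G ⊆ Y' →
        φ (KZero.clSub (fun G : X.Modules => Coh.IsCoh G ∧ CohB1.support G ⊆ Y') G) =
          KZero.clTr (fun K : DCoh.D X => DCoh.IsPerfect K ∧ ∀ i : ℤ, CohB1.support (DCoh.HD K i) ⊆ Y')
            (DCoh.inD X G) := by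
  open Groth.Agent.KHeartLib Groth.Agent.PerfLib in
  haveI : WSerre.IsWeakSerre (fun G : X.Modules => Coh.IsCoh G ∧ CohB1.support G ⊆ Y') :=
    isWeakSerre_cohIn (X := X) Y'
  let P : ObjectProperty X.Modules := fun G => Coh.IsCoh G ∧ CohB1.support G ⊆ Y'
  haveI : WSerre.IsWeakSerre P := isWeakSerre_cohIn (X := X) Y'
  have sing : ∀ (n : ℤ) (G : X.Modules), P G →
      DCoh.IsPerfect ((DerivedCategory.singleFunctor X.Modules n).obj G) := fun n G hG =>
    isPerfect_of_iso (((DerivedCategory.singleFunctors X.Modules).shiftIso (-n) n 0 (by omega)).app G)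
      (isPerfect_shift (hperf G hG.1 hG.2) (-n))
  have perf : ∀ (k : ℕ) (a : ℤ) (K : DCoh.D X), K.IsGE a → K.IsLE (a + k) →
      (∀ i, P (DCoh.HD K i)) → DCoh.IsPerfect K := by
    intro k
    induction k with
    | zero =>
      intro a K _ hle hP
      haveI : K.IsLE a := DerivedCategory.TStructure.t.isLE_of_le K (a + ((0 : ℕ) : ℤ)) a (by omega)
      obtain ⟨e⟩ := Groth.Agent.DerLib.Devissage.nonempty_iso_single K a
      exact isPerfect_of_iso e.symm (sing a _ (hP a))
    | succ k ih =>
      intro a K hge hle hP
      open DerivedCategory DerivedCategory.TStructure Groth.Agent.DerLib.Devissage in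
      haveI : K.IsLE (a + k + 1) := t.isLE_of_le K (a + ((k + 1 : ℕ) : ℤ)) _ (by push_cast; omega)
      open DerivedCategory DerivedCategory.TStructure Groth.Agent.DerLib.Devissage in
      refine isPerfect_obj₂ _ (t.triangleLEGT_distinguished (a + k) K) ?_ ?_
      · open DerivedCategory DerivedCategory.TStructure Groth.Agent.DerLib.Devissage in
        refine ih a ((t.truncLE (a + k)).obj K) ?_ inferInstance fun i => ?_
        · rw [isGE_iff]
          intro i hi
          haveI := isIso_homology_truncLEι K (a + k) i (by omega)
          exact (isZero_of_isGE K a i hi).of_iso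
            (asIso ((DerivedCategory.homologyFunctor X.Modules i).map ((t.truncLEι (a + k)).app K)))
        · rcases le_or_gt i (a + k) with hib | hib
          · haveI := isIso_homology_truncLEι K (a + k) i hib
            exact P.prop_of_iso (asIso ((DerivedCategory.homologyFunctor X.Modules i).map
              ((t.truncLEι (a + k)).app K))).symm (hP i)
          · exact P.prop_of_isZero (isZero_of_isLE _ (a + k) i hib)
      · open DerivedCategory DerivedCategory.TStructure Groth.Agent.DerLib.Devissage in
        change DCoh.IsPerfect ((t.truncGT (a + k)).obj K)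
        open DerivedCategory DerivedCategory.TStructure Groth.Agent.DerLib.Devissage in
        haveI : ((t.truncGT (a + k)).obj K).IsLE (a + k + 1) := by
          rw [isLE_iff]
          intro i hi
          haveI := isIso_homology_truncGTπ K (a + k) i (by omega)
          exact (isZero_of_isLE K (a + k + 1) i hi).of_iso
            (asIso ((DerivedCategory.homologyFunctor X.Modules i).map ((t.truncGTπ (a + k)).app K))).symm
        open DerivedCategory DerivedCategory.TStructure Groth.Agent.DerLib.Devissage in
        obtain ⟨e⟩ := nonempty_iso_single ((t.truncGT (a + k)).obj K) (a + k + 1)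
        open DerivedCategory DerivedCategory.TStructure Groth.Agent.DerLib.Devissage in
        haveI := isIso_homology_truncGTπ K (a + k) (a + k + 1) (by omega)
        exact isPerfect_of_iso e.symm (sing _ _ (P.prop_of_iso
          (asIso ((DerivedCategory.homologyFunctor X.Modules (a + k + 1)).map
            ((DerivedCategory.TStructure.t.truncGTπ (a + k)).app K))) (hP _)))
  have hQ : IsHeartClass P (fun K : DCoh.D X =>
      DCoh.IsPerfect K ∧ ∀ i : ℤ, CohB1.support (DCoh.HD K i) ⊆ Y') := by
    refine ⟨fun K h => (isCohD_and_bounded_of_isPerfect h.1).2,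
      fun K h i => ⟨(isCohD_and_bounded_of_isPerfect h.1).1 i, h.2 i⟩,
      fun K a b ha hb h => ⟨perf (b - a).toNat a K ha ?_ h, fun i => (h i).2⟩⟩
    exact DerivedCategory.TStructure.t.isLE_of_le K b _ (by omega)
  obtain ⟨φ, hφ⟩ := hQ.exists_equiv
  exact ⟨φ, fun G h₁ h₂ => hφ G ⟨h₁, h₂⟩⟩

end Groth.Agent.S14007
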