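import Groth.Statements.S14017
import Mathlib.CategoryTheory.Sites.LocallySurjective
import Mathlib.CategoryTheory.Sites.EpiMono
import Groth.Agent.WCSiteLib.Site
-- import your own Groth.Agent.* helpers here

set_option autoImplicit false
set_option backward.isDefEq.respectTransparency false
set_option synthInstance.maxHeartbeats 400000
set_option maxHeartbeats 800000
open CategoryTheory CategoryTheory.Limits AlgebraicGeometry Opposite
universe u
open EtModW

namespace Groth.Agent.S14017

/-- Let X be a scheme, Λ a commutative ring and I a finitely generated ideal of Λ; let F be a sheaf of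
Λ-modules on the small pro-étale site of X and p : F ⟶ Q a quotient map modulo I (Q is killed by I
and every morphism out of F killed by I factors uniquely through p, so Q = F/IF); let U be a weakly
contractible object of the pro-étale site. Then the map on sections F(U) → Q(U) is surjective and
its kernel is exactly the submodule I·F(U): sections over a weakly contractible object commute with
forming IF and F/IF. (The published lemma is for sheaves of Λ-modules on an arbitrary site and a
weakly contractible object of it; this row states the case of the small pro-étale site of a scheme.) -/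
theorem result
    (Λ : Type (u + 1)) [CommRing Λ] (I : Ideal Λ) (hI : I.FG)
    (X : Scheme.{u}) (F Q : EtModW.ModP Λ X) (p : F ⟶ Q) (hp : ARSys.IsQuot I p)
    (U : X.ProEt) (hU : ProEtS.IsWC U) :
    Function.Surjective (p.hom.app (op U)).hom ∧
      LinearMap.ker (p.hom.app (op U)).hom = I • (⊤ : Submodule Λ (F.obj.obj (op U))) := by
  classical
  haveI : Limits.HasFiniteBiproducts (EtModW.ModP Λ X) := HasFiniteBiproducts.of_hasFiniteProducts
  obtain ⟨s, hs⟩ := hI
  let a : (↥s) → Λ := fun i => i.1
  have hp1 : ∀ x ∈ I, x • p = 0 := fun x hx => by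
    have := congrArg (fun t => p ≫ t) (hp.1 x hx)
    simpa using this
  let φ : (⨁ fun _ : ↥s => F) ⟶ F := biproduct.desc (fun i => a i • 𝟙 F)
  have hφp : φ ≫ p = 0 := by
    refine biproduct.hom_ext' _ _ fun i => ?_
    simp [φ, a, hp1 i.1 (hs ▸ Submodule.subset_span i.2)]
  have hπ : ARSys.HomKilledBy I (cokernel.π φ) := by
    let J : Ideal Λ := LinearMap.ker (LinearMap.toSpanSingleton Λ (F ⟶ cokernel φ) (cokernel.π φ))
    have hJ : I ≤ J := by
      rw [← hs]
      refine Submodule.span_le.2 fun x hx => ?_
      have h1 := congrArg (fun t => biproduct.ι (fun _ : ↥s => F) ⟨x, hx⟩ ≫ t) (cokernel.condition φ)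
      simp only [φ, a, biproduct.ι_desc_assoc, comp_zero] at h1
      simpa [J] using h1
    intro x hx
    simpa [J] using hJ hx
  obtain ⟨ψ, hψ, -⟩ := hp.2 _ _ hπ
  have hd : cokernel.π φ ≫ cokernel.desc φ p hφp = p := cokernel.π_desc _ _ _
  have hQ : ψ ≫ cokernel.desc φ p hφp = 𝟙 Q := by
    obtain ⟨_, _, huniq⟩ := hp.2 Q p hp1
    exact (huniq _ (show p ≫ ψ ≫ cokernel.desc φ p hφp = p by rw [← Category.assoc, hψ, hd])).trans (huniq (𝟙 Q) (Category.comp_id p)).symm
  haveI : IsSplitEpi (cokernel.desc φ p hφp) := ⟨⟨ψ, hQ⟩⟩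
  haveI : Epi p := by rw [← hd]; infer_instance
  have hiso : cokernel.desc φ p hφp ≫ ψ = 𝟙 _ := by
    rw [← cancel_epi (cokernel.π φ), ← Category.assoc, hd, hψ, Category.comp_id]
  haveI : IsIso (cokernel.desc φ p hφp) := ⟨ψ, hiso, hQ⟩
  have hex : (ShortComplex.mk φ p hφp).Exact :=
    ShortComplex.exact_of_g_is_cokernel _ (IsColimit.ofIsoColimit (cokernelIsCokernel φ)
      (Cofork.ext (asIso (cokernel.desc φ p hφp)) (cokernel.π_desc _ _ _)))
  have surj : ∀ {A B : EtModW.ModP Λ X} (f : A ⟶ B), Epi f → Function.Surjective (f.hom.app (op U)).hom := by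
    intro A B f hf
    haveI hls : Sheaf.IsLocallySurjective f :=
      (Sheaf.isLocallySurjective_iff_epi' (J := Scheme.ProEt.topology X) (A := ModuleCat.{u + 1} Λ) f).2 hf
    have hls' : Sheaf.IsLocallySurjective ((sheafCompose (Scheme.ProEt.topology X) (forget (ModuleCat.{u + 1} Λ))).map f) :=
      ⟨fun t => hls.1 t⟩
    exact hU _ _ _ ((Sheaf.isLocallySurjective_iff_epi _).1 hls')
  refine ⟨surj p inferInstance, le_antisymm ?_ ?_⟩
  · intro x hx
    let ev := sheafToPresheaf (Scheme.ProEt.topology X) (ModuleCat.{u + 1} Λ) ⋙ (evaluation _ _).obj (op U)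
    have hk : (p.hom.app (op U)).hom x = 0 := hx
    have hE : ((ShortComplex.mk (kernel.ι p) p (kernel.condition p)).map ev).Exact :=
      ShortComplex.exact_of_f_is_kernel _ (KernelFork.mapIsLimit _ (kernelIsKernel p) ev)
    obtain ⟨k, hkk⟩ := (ShortComplex.moduleCat_exact_iff _).1 hE x hk
    haveI : Epi (kernel.lift p φ hφp) := hex.epi_kernelLift
    obtain ⟨y, rfl⟩ := surj (kernel.lift p φ hφp) inferInstance k
    have hkk' : (ev.map φ).hom y = x := by
      rw [← hkk]
      refine (congrArg (fun f : (⨁ fun _ : ↥s => F) ⟶ F => (ev.map f).hom y) (kernel.lift_ι p φ hφp).symm).trans ?_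
      rw [ev.map_comp]
      rfl
    have hφ : φ = (∑ i, biproduct.π (fun _ : ↥s => F) i ≫ (a i • 𝟙 F)) := by
      refine biproduct.hom_ext' _ _ fun j => ?_
      rw [biproduct.ι_desc, Preadditive.comp_sum, Finset.sum_eq_single j]
      · rw [biproduct.ι_π_self_assoc]
      · intro k _ hk'
        rw [biproduct.ι_π_ne_assoc _ (Ne.symm hk'), zero_comp]
      · exact fun h => absurd (Finset.mem_univ _) h
    rw [← hkk', hφ]
    rw [Functor.map_sum, ModuleCat.hom_sum, LinearMap.sum_apply]
    refine Submodule.sum_mem _ fun i _ => ?_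
    simp only [Functor.map_comp, ModuleCat.hom_comp, LinearMap.comp_apply]
    exact Submodule.smul_mem_smul (hs ▸ Submodule.subset_span i.2) Submodule.mem_top
  · refine Submodule.smul_le.2 fun x hx y _ => ?_
    have := congrArg (fun f : F ⟶ Q => (f.hom.app (op U)).hom y) (hp1 x hx)
    show (p.hom.app (op U)).hom (x • y) = 0
    rw [map_smul]
    exact this

end Groth.Agent.S14017
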