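import Groth.Statements.S14018
import Mathlib.CategoryTheory.Limits.Types.Limits
import Mathlib.CategoryTheory.Sites.Limits
import Mathlib.CategoryTheory.Category.Preorder
-- import your own Groth.Agent.* helpers here

set_option autoImplicit false
open CategoryTheory CategoryTheory.Limits Opposite
universe w v u
open CohSite

namespace Groth.Agent.S14018

/-- Let (C, J) be a site with enough weakly contractible objects — every object V has a covering sieve
all of whose arrows factor through some weakly contractible object, an object U being weakly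
contractible when every epimorphism of sheaves of sets (valued in a fixed universe) is surjective on
sections over U. Then the topos of sheaves of sets is replete: if (F_n) is an inverse system of
sheaves of sets indexed by ℕ with every transition map F_(n+1) ⟶ F_n an epimorphism, then each
projection lim_n F_n ⟶ F_n is an epimorphism; the limit is taken as any limit cone. (The small
pro-étale site of a scheme is such a site.) -/
theorem result
    {C : Type u} [Category.{v} C] (J : GrothendieckTopology C)
    (hwc : ∀ V : C, ∃ S : Sieve V, S ∈ J V ∧ ∀ ⦃W : C⦄ (f : W ⟶ V), S.arrows f →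
      ∃ (U : C) (g : W ⟶ U) (h : U ⟶ V), (∀ (A B : Sheaf J (Type w)) (ψ : A ⟶ B), Epi ψ → Function.Surjective (ψ.hom.app (op U))) ∧ g ≫ h = f)
    (F : ℕᵒᵖ ⥤ Sheaf J (Type w))
    (hF : ∀ n : ℕ, Epi (F.map (homOfLE (Nat.le_succ n)).op))
    (c : Cone F) (hc : IsLimit c) (n : ℕ) :
    Epi (c.π.app (op n)) := by
  refine ⟨fun {Z} u w huw => ?_⟩
  apply Sheaf.hom_ext
  ext ⟨V⟩ x
  obtain ⟨S, hS, hfac⟩ := hwc V
  refine (((isSheaf_iff_isSheaf_of_type _ _).1 Z.property) S hS).isSeparatedFor.ext fun W f hf => ?_
  obtain ⟨U, g, h, hU, rfl⟩ := hfac f hf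
  let E := sheafToPresheaf J (Type w) ⋙ (evaluation _ _).obj (op U)
  have hs : ∀ t, Function.Surjective ((F.map (homOfLE (Nat.le_succ t)).op).hom.app (op U)) := fun t =>
    hU _ _ _ (hF t)
  choose s hs' using fun t : ℕ => hs (n + t)
  let y₀ : (F.obj (op n)).obj.obj (op U) := (F.obj (op n)).obj.map h.op x
  let L : ∀ t, (F.obj (op (n + t))).obj.obj (op U) := fun t =>
    Nat.rec (motive := fun t => (F.obj (op (n + t))).obj.obj (op U)) y₀ (fun k p => s k p) t
  let T := fun {a b : ℕ} (hab : a ≤ b) (z : (F.obj (op b)).obj.obj (op U)) => (F.map (homOfLE hab).op).hom.app (op U) z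
  have T_trans : ∀ {a b d : ℕ} (hab : a ≤ b) (hbd : b ≤ d) z, T hab (T hbd z) = T (hab.trans hbd) z :=
    fun {a b d} hab hbd z => by
      show _ = (F.map ((homOfLE hbd).op ≫ (homOfLE hab).op)).hom.app (op U) z
      rw [F.map_comp]
      rfl
  have hL : ∀ t, T (Nat.le_succ (n + t)) (L (t + 1)) = L t := fun t => hs' t (L t)
  have hL0 : ∀ t, T (Nat.le_add_right n t) (L t) = y₀ := fun t => by
    induction t with
    | zero =>
      show (F.map (𝟙 (op n))).hom.app (op U) y₀ = y₀
      rw [F.map_id]
      rfl
    | succ k ih => rw [← ih, ← hL k, T_trans]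
  let y : ∀ j, (F.obj (op j)).obj.obj (op U) := fun j => T (Nat.le_add_left j n) (L j)
  have hy : ∀ a b (hab : a ≤ b), T hab (y b) = y a := fun a b hab => by
    induction b, hab using Nat.le_induction with
    | base =>
      show (F.map (𝟙 (op a))).hom.app (op U) (y a) = y a
      rw [F.map_id]
      rfl
    | succ k hk ih =>
      rw [← ih]
      show T _ (T _ (L (k + 1))) = T hk (T _ (L k))
      rw [← hL k, T_trans, T_trans, T_trans]
  let hc' := isLimitOfPreserves E hc
  let z := (Types.isLimitEquivSections hc').symm ⟨fun j => y j.unop, fun {j j'} k => by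
    rw [show k = (homOfLE (leOfHom k.unop)).op from Quiver.Hom.unop_inj (Subsingleton.elim _ _)]
    exact hy _ _ _⟩
  have hz : (c.π.app (op n)).hom.app (op U) z = y₀ :=
    (Types.isLimitEquivSections_symm_apply hc' _ (op n)).trans (hL0 n)
  have e := congrArg (fun m : c.pt ⟶ Z => m.hom.app (op U) z) huw
  have e' : u.hom.app (op U) y₀ = w.hom.app (op U) y₀ := by
    rw [← hz]
    exact e
  show Z.obj.map (g ≫ h).op (u.hom.app (op V) x) = Z.obj.map (g ≫ h).op (w.hom.app (op V) x)
  rw [op_comp, Functor.map_comp, types_comp_apply, types_comp_apply]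
  refine congrArg (Z.obj.map g.op) ?_
  rw [← NatTrans.naturality_apply, ← NatTrans.naturality_apply]
  exact e'

end Groth.Agent.S14018
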