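import Groth.Statements.S14020
import Mathlib.RingTheory.Noetherian.OfPrime
import Mathlib.RingTheory.HopkinsLevitzki
import Mathlib.RingTheory.Ideal.Quotient.Operations
-- import your own Groth.Agent.* helpers here

set_option autoImplicit false
universe u
open CAlg

namespace Groth.Agent.S14020

/-- Let R be a commutative ring and I a finitely generated ideal such that the quotient ring R/I is
artinian. Then R/I^n is artinian for every n. -/
theorem result
    (R : Type u) [CommRing R] (I : Ideal R) (hI : I.FG) [IsArtinianRing (R ⧸ I)] (n : ℕ) :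
    IsArtinianRing (R ⧸ I ^ n) := by
  rcases Nat.eq_zero_or_pos n with rfl | hn
  · have : Subsingleton (R ⧸ I ^ 0) := Ideal.Quotient.subsingleton_iff.mpr (by simp)
    infer_instance
  have key : ∀ P : Ideal (R ⧸ I ^ n), P.IsPrime →
      P.FG ∧ P.IsMaximal := by
    intro P hP
    set Q := P.comap (Ideal.Quotient.mk (I ^ n)) with hQ
    have hQp : Q.IsPrime := Ideal.comap_isPrime _ _
    have hIQ : I ≤ Q := hQp.le_of_pow_le
      (n := n) (fun x hx => by simp [hQ, Ideal.Quotient.eq_zero_iff_mem.mpr hx])
    have hmax : Q.IsMaximal := by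
      have : (Q.map (Ideal.Quotient.mk I)).IsPrime :=
        Ideal.map_isPrime_of_surjective Ideal.Quotient.mk_surjective (by rwa [Ideal.mk_ker])
      have := IsArtinianRing.isMaximal_of_isPrime (Q.map (Ideal.Quotient.mk I))
      have h2 := Ideal.comap_isMaximal_of_surjective (Ideal.Quotient.mk I) Ideal.Quotient.mk_surjective
        (K := Q.map (Ideal.Quotient.mk I))
      rwa [Ideal.comap_map_of_surjective _ Ideal.Quotient.mk_surjective, ← RingHom.ker_eq_comap_bot,
        Ideal.mk_ker, sup_eq_left.mpr hIQ] at h2
    have hfg : Q.FG := by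
      refine Submodule.fg_of_fg_map_of_fg_inf_ker (Ideal.Quotient.mkₐ R I).toLinearMap ?_ ?_
      · have hmapeq : Submodule.map (Ideal.Quotient.mkₐ R I).toLinearMap (Q : Submodule R R) =
            (Q.map (Ideal.Quotient.mk I)).restrictScalars R := by
          ext z
          rw [Submodule.restrictScalars_mem, Ideal.mem_map_iff_of_surjective _ Ideal.Quotient.mk_surjective]
          simp
        rw [hmapeq]
        exact (IsNoetherian.noetherian (Q.map (Ideal.Quotient.mk I))).restrictScalars_of_surjective
          Ideal.Quotient.mk_surjective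
      · have hker : LinearMap.ker (Ideal.Quotient.mkₐ R I).toLinearMap = I := by
          ext x; simp [Ideal.Quotient.eq_zero_iff_mem]
        rw [hker, inf_eq_right.mpr hIQ]
        exact hI
    have hPQ : P = Q.map (Ideal.Quotient.mk (I ^ n)) :=
      (Ideal.map_comap_of_surjective _ Ideal.Quotient.mk_surjective P).symm
    refine ⟨hPQ ▸ hfg.map _, ?_⟩
    rcases Ideal.map_eq_top_or_isMaximal_of_surjective (Ideal.Quotient.mk (I ^ n))
      Ideal.Quotient.mk_surjective hmax with h | h
    · exact absurd (hPQ.trans h) hP.ne_top
    · exact hPQ ▸ h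
  have : IsNoetherianRing (R ⧸ I ^ n) := IsNoetherianRing.of_prime fun P hP => (key P hP).1
  rw [isArtinianRing_iff_krullDimLE_zero]
  exact Ring.krullDimLE_zero_iff.mpr fun P hP => (key P hP).2

end Groth.Agent.S14020
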