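import Groth.Statements.S14032
import Mathlib


-- import your own Groth.Agent.* helpers here

set_option autoImplicit false
universe u v
open W4c1frobunstiva

namespace Groth.Agent.S14032

open TensorProduct in
/-- Let R be a commutative Noetherian ring with nilradical n, M an R-module and r a natural number. Then
M is NR-free of rank r — generated by r elements such that every linear relation among them has
nilpotent coefficients — if and only if (R/n) ⊗_R M is free of rank r over R/n, in the sense of
admitting a basis indexed by r elements. (The published statement assumes M finitely generated and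
also gives the converse when R is local; over a Noetherian ring the nilradical is nilpotent, the
case used here, and finite generation is not needed.) -/
theorem result (R : Type u) [CommRing R]
    [IsNoetherianRing R] (M : Type v) [AddCommGroup M] [Module R M] (r : ℕ) :
    W4c1frobunstiva.IsNRFree R M r ↔
      Nonempty (Module.Basis (Fin r) (R ⧸ nilradical R) ((R ⧸ nilradical R) ⊗[R] M)) := by
  classical
  set N := nilradical R with hN
  let q := TensorProduct.quotTensorEquivQuotSMul M N
  have hq : ∀ m : M, q ((1 : R ⧸ N) ⊗ₜ[R] m) = Submodule.Quotient.mk m := fun m => by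
    rw [← map_one (Ideal.Quotient.mk N), TensorProduct.quotTensorEquivQuotSMul_mk_tmul, one_smul]
  have hker : ∀ m : M, (1 : R ⧸ N) ⊗ₜ[R] m = 0 ↔ m ∈ N • (⊤ : Submodule R M) := fun m => by
    rw [← q.map_eq_zero_iff, hq, Submodule.Quotient.mk_eq_zero]
  have hsurj : ∀ z : (R ⧸ N) ⊗[R] M, ∃ m, (1 : R ⧸ N) ⊗ₜ[R] m = z := fun z => by
    obtain ⟨m, hm⟩ := Submodule.Quotient.mk_surjective _ (q z)
    exact ⟨m, q.injective (by rw [hq, hm])⟩
  have hsm : ∀ (a : R) (m : M), (Ideal.Quotient.mk N a) • ((1 : R ⧸ N) ⊗ₜ[R] m) = (1 : R ⧸ N) ⊗ₜ[R] (a • m) := fun a m => by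
    rw [TensorProduct.smul_tmul', smul_eq_mul, mul_one, TensorProduct.tmul_smul, TensorProduct.smul_tmul',
      Algebra.smul_def, mul_one, Ideal.Quotient.algebraMap_eq]
  have hlin : ∀ (a : Fin r → R) (m : Fin r → M), ∑ i, (Ideal.Quotient.mk N (a i)) • ((1 : R ⧸ N) ⊗ₜ[R] m i)
      = (1 : R ⧸ N) ⊗ₜ[R] (∑ i, a i • m i) := fun a m => by
    rw [TensorProduct.tmul_sum]; exact Finset.sum_congr rfl fun i _ => hsm _ _
  constructor
  · rintro ⟨m, hspan, hrel⟩
    refine ⟨Module.Basis.mk (v := fun i => (1 : R ⧸ N) ⊗ₜ[R] m i) ?_ ?_⟩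
    · rw [Fintype.linearIndependent_iff]
      intro g hg i
      choose a ha using fun i => Ideal.Quotient.mk_surjective (I := N) (g i)
      simp only [← ha, hlin, hker] at hg
      rw [← hspan, Submodule.mem_ideal_smul_span_iff_exists_sum] at hg
      obtain ⟨c, hc, hsum⟩ := hg
      rw [Finsupp.sum_fintype _ _ (fun i => zero_smul R (m i))] at hsum
      have h := hrel (fun i => a i - c i) (by simp [sub_smul, Finset.sum_sub_distrib, hsum]) i
      rw [← ha, Ideal.Quotient.eq_zero_iff_mem]
      have h' : a i - c i ∈ N := h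
      simpa using add_mem h' (hc i)
    · rintro z -
      obtain ⟨x, rfl⟩ := hsurj z
      obtain ⟨a, rfl⟩ := (Submodule.mem_span_range_iff_exists_fun R).1 (hspan ▸ Submodule.mem_top : x ∈ Submodule.span R (Set.range m))
      rw [← hlin]
      exact Submodule.sum_mem _ fun i _ => Submodule.smul_mem _ _ (Submodule.subset_span ⟨i, rfl⟩)
  · rintro ⟨b⟩
    choose m hm using fun i => hsurj (b i)
    refine ⟨m, ?_, fun a ha i => ?_⟩
    · obtain ⟨k, hk⟩ := IsNoetherianRing.isNilpotent_nilradical R
      set S := Submodule.span R (Set.range m)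
      have h1 : ∀ x : M, x ∈ S ⊔ N • (⊤ : Submodule R M) := fun x => by
        choose a ha using fun i => Ideal.Quotient.mk_surjective (I := N) (b.repr ((1 : R ⧸ N) ⊗ₜ[R] x) i)
        refine Submodule.mem_sup.2 ⟨∑ i, a i • m i,
          Submodule.sum_mem _ fun i _ => Submodule.smul_mem _ _ (Submodule.subset_span ⟨i, rfl⟩),
          x - ∑ i, a i • m i, (hker _).1 ?_, add_sub_cancel _ _⟩
        rw [TensorProduct.tmul_sub, ← hlin]
        simp only [hm, ha, b.sum_repr, sub_self]
      have h2 : ∀ j, (⊤ : Submodule R M) ≤ S ⊔ N ^ j • (⊤ : Submodule R M) := by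
        intro j
        induction j with
        | zero => simp
        | succ j ih =>
          refine ih.trans (sup_le le_sup_left ?_)
          calc N ^ j • (⊤ : Submodule R M) ≤ N ^ j • (S ⊔ N • (⊤ : Submodule R M)) :=
                Submodule.smul_mono le_rfl fun x _ => h1 x
            _ ≤ _ := by
              rw [Submodule.smul_sup, pow_succ, ← Submodule.smul_assoc, smul_eq_mul]
              exact sup_le_sup_right Submodule.smul_le_right _
      have h3 := h2 k
      rw [hk, Submodule.zero_eq_bot, Submodule.bot_smul, sup_bot_eq, top_le_iff] at h3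
      exact h3
    · have h0 := congrArg (fun x => (1 : R ⧸ N) ⊗ₜ[R] x) ha
      simp only [TensorProduct.tmul_zero, ← hlin, hm] at h0
      have := Fintype.linearIndependent_iff.1 b.linearIndependent _ h0 i
      exact Ideal.Quotient.eq_zero_iff_mem.1 this

end Groth.Agent.S14032
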