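import Groth.Statements.S14033
import Mathlib

-- import your own Groth.Agent.* helpers here

set_option autoImplicit false
universe u v
open W4c1frobunstiva

namespace Groth.Agent.S14033

open DualNumber Pointwise in
/-- Let R be a commutative ring, R[ε] its ring of dual numbers (ε² = 0), M an R[ε]-module and r a
natural number. Then M is free of rank r over R[ε] (admits a basis of r elements) if and only if the
R-modules M/εM and εM are both free of rank r. (The published statement concerns a coherent sheaf on
the product of a scheme S with Spec ℤ[ε] and local freeness of rank r; that assertion is local, and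
this row is its form over one ring, with no finiteness assumption on M and no hypothesis on R.) -/
theorem result (R : Type u) [CommRing R] (M : Type v)
    [AddCommGroup M] [Module R[ε] M] [Module R M] [IsScalarTower R R[ε] M] (r : ℕ) :
    Nonempty (Module.Basis (Fin r) R[ε] M) ↔
      (Nonempty (Module.Basis (Fin r) R (M ⧸ ((ε : R[ε]) • (⊤ : Submodule R[ε] M)))) ∧
        Nonempty (Module.Basis (Fin r) R (((ε : R[ε]) • (⊤ : Submodule R[ε] M)).restrictScalars R))) := by
  classical
  open scoped Pointwise DualNumber in
  focus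
    set E : Submodule R[ε] M := (ε : R[ε]) • (⊤ : Submodule R[ε] M) with hE
    have hmem : ∀ x, x ∈ E ↔ ∃ y, (ε : R[ε]) • y = x := fun x => by
      rw [hE, Submodule.mem_smul_pointwise_iff_exists]
      exact ⟨fun ⟨y, _, e⟩ => ⟨y, e⟩, fun ⟨y, e⟩ => ⟨y, Submodule.mem_top, e⟩⟩
    have hdec : ∀ (z : R[ε]) (m : M), z • m = (TrivSqZeroExt.fst z) • m + (TrivSqZeroExt.snd z) • ((ε : R[ε]) • m) := by
      intro z m
      conv_lhs => rw [← TrivSqZeroExt.inl_fst_add_inr_snd_eq z, DualNumber.inr_eq_smul_eps, add_smul, smul_assoc]
      congr 1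
      exact algebraMap_smul R[ε] (TrivSqZeroExt.fst z) m
    have hee : ∀ m : M, (ε : R[ε]) • ((ε : R[ε]) • m) = 0 := fun m => by rw [smul_smul, DualNumber.eps_mul_eps, zero_smul]
    constructor
    · rintro ⟨b⟩
      refine ⟨⟨Module.Basis.mk (v := fun i => E.mkQ (b i)) ?_ ?_⟩, ⟨Module.Basis.mk (v := fun i => (⟨(ε : R[ε]) • b i, (hmem _).2 ⟨b i, rfl⟩⟩ : E.restrictScalars R)) ?_ ?_⟩⟩
      · rw [Fintype.linearIndependent_iff]
        intro a ha i
        have h1 : E.mkQ (∑ j, a j • b j) = 0 := by simpa [map_sum, LinearMap.map_smul_of_tower] using ha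
        obtain ⟨y, hy⟩ := (hmem _).1 ((Submodule.Quotient.mk_eq_zero _).1 h1)
        have h2 := congrArg (fun v => TrivSqZeroExt.fst (b.repr v i)) hy
        simp only [map_smul, Finsupp.smul_apply, smul_eq_mul, TrivSqZeroExt.fst_mul, DualNumber.fst_eps, zero_mul] at h2
        rw [show ∑ j, a j • b j = ∑ j, algebraMap R R[ε] (a j) • b j from Finset.sum_congr rfl fun j _ => (algebraMap_smul R[ε] (a j) (b j)).symm, b.repr_sum_self] at h2
        exact h2.symm
      · rintro x -
        obtain ⟨m, rfl⟩ := Submodule.mkQ_surjective _ x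
        rw [← b.sum_repr m, map_sum]
        refine Submodule.sum_mem _ fun i _ => ?_
        rw [hdec, map_add, LinearMap.map_smul_of_tower, show E.mkQ (TrivSqZeroExt.snd (b.repr m i) • ((ε : R[ε]) • b i)) = 0 from (Submodule.Quotient.mk_eq_zero _).2 ((E.restrictScalars R).smul_mem _ ((hmem _).2 ⟨b i, rfl⟩)), add_zero]
        exact Submodule.smul_mem _ _ (Submodule.subset_span ⟨i, rfl⟩)
      · rw [Fintype.linearIndependent_iff]
        intro a ha i
        have h1 : ∑ j, ((algebraMap R R[ε] (a j)) * ε) • b j = 0 := by
          have := congrArg Subtype.val ha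
          simpa [Submodule.coe_sum, mul_smul, algebraMap_smul] using this
        have h2 := congrArg TrivSqZeroExt.snd ((Fintype.linearIndependent_iff.1 b.linearIndependent) _ h1 i)
        simpa [TrivSqZeroExt.algebraMap_eq_inl] using h2
      · rintro ⟨x, hx⟩ -
        obtain ⟨y, rfl⟩ := (hmem _).1 hx
        have h : (⟨(ε : R[ε]) • y, hx⟩ : E.restrictScalars R) = ∑ i, TrivSqZeroExt.fst (b.repr y i) • (⟨(ε : R[ε]) • b i, (hmem _).2 ⟨b i, rfl⟩⟩ : E.restrictScalars R) := by
          apply Subtype.ext
          simp only [Submodule.coe_sum, Submodule.coe_smul]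
          conv_lhs => rw [← b.sum_repr y, Finset.smul_sum]
          refine Finset.sum_congr rfl fun i _ => ?_
          rw [smul_comm, hdec, hee, smul_zero, add_zero]
        rw [h]
        exact Submodule.sum_mem _ fun i _ => Submodule.smul_mem _ _ (Submodule.subset_span ⟨i, rfl⟩)
    · rintro ⟨⟨b⟩, ⟨c⟩⟩
      choose m hm using fun i => Submodule.mkQ_surjective E (b i)
      have hstep : ∀ x : M, ∃ a : Fin r → R, ∃ y, x = ∑ i, a i • m i + (ε : R[ε]) • y := by
        intro x
        have h1 : E.mkQ (x - ∑ i, b.repr (E.mkQ x) i • m i) = 0 := by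
          simp only [map_sub, map_sum, LinearMap.map_smul_of_tower, hm, b.sum_repr, sub_self]
        obtain ⟨y, hy⟩ := (hmem _).1 ((Submodule.Quotient.mk_eq_zero _).1 h1)
        exact ⟨_, y, by rw [hy]; abel⟩
      let g : (Fin r → R) →ₗ[R] E.restrictScalars R := Fintype.linearCombination R fun i => (⟨(ε : R[ε]) • m i, (hmem _).2 ⟨m i, rfl⟩⟩ : E.restrictScalars R)
      have hg : Function.Surjective g := by
        rintro ⟨x, hx⟩
        obtain ⟨y, rfl⟩ := (hmem _).1 hx
        obtain ⟨a, y', rfl⟩ := hstep y
        refine ⟨a, Subtype.ext ?_⟩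
        simp only [g, Fintype.linearCombination_apply, Submodule.coe_sum, Submodule.coe_smul, smul_add, Finset.smul_sum, hee, add_zero]
        exact Finset.sum_congr rfl fun i _ => smul_comm _ _ _
      have hg' : Function.Injective g := by
        have := OrzechProperty.injective_of_surjective_endomorphism (c.equivFun.toLinearMap ∘ₗ g) (c.equivFun.surjective.comp hg)
        exact Function.Injective.of_comp (show Function.Injective (c.equivFun ∘ g) from this)
      refine ⟨Module.Basis.mk (v := m) ?_ ?_⟩
      · rw [Fintype.linearIndependent_iff]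
        intro z hz i
        rw [Finset.sum_congr rfl (fun j _ => hdec (z j) (m j)), Finset.sum_add_distrib] at hz
        have h1 : ∑ j, TrivSqZeroExt.fst (z j) • b j = 0 := by
          have h := congrArg E.mkQ hz
          rw [map_add, map_zero, show E.mkQ (∑ j, TrivSqZeroExt.snd (z j) • ((ε : R[ε]) • m j)) = 0 from (Submodule.Quotient.mk_eq_zero _).2 ((E.restrictScalars R).sum_mem fun j _ => (E.restrictScalars R).smul_mem _ ((hmem _).2 ⟨m j, rfl⟩)), add_zero, map_sum] at h
          simpa [LinearMap.map_smul_of_tower, ← hm] using h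
        have hfst : ∀ j, TrivSqZeroExt.fst (z j) = 0 := Fintype.linearIndependent_iff.1 b.linearIndependent _ h1
        simp only [hfst, zero_smul, Finset.sum_const_zero, zero_add] at hz
        have h2 : g (fun j => TrivSqZeroExt.snd (z j)) = g 0 := by
          rw [map_zero]; apply Subtype.ext
          simpa [g, Fintype.linearCombination_apply] using hz
        exact TrivSqZeroExt.ext (hfst i) (congrFun (hg' h2) i)
      · rintro x -
        obtain ⟨a, y, rfl⟩ := hstep x
        obtain ⟨a', y', rfl⟩ := hstep y
        simp only [smul_add, hee, add_zero, Finset.smul_sum]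
        refine add_mem (Submodule.sum_mem _ fun i _ => ?_) (Submodule.sum_mem _ fun i _ => ?_)
        · rw [← algebraMap_smul R[ε] (a i) (m i)]
          exact Submodule.smul_mem _ _ (Submodule.subset_span ⟨i, rfl⟩)
        · rw [← algebraMap_smul R[ε] (a' i) (m i)]
          exact Submodule.smul_mem _ _ (Submodule.smul_mem _ _ (Submodule.subset_span ⟨i, rfl⟩))

end Groth.Agent.S14033
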