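import Groth.Statements.S14035
import Groth.Agent.WeilResLib.FlatPure


-- import your own Groth.Agent.* helpers here

set_option autoImplicit false
universe u v
open W4c1frobunstiva

namespace Groth.Agent.S14035

open TensorProduct in
/-- Let A → B be a ring homomorphism with B Noetherian. If B modulo its nilradical is flat over A and
every fibre ring κ(p) ⊗_A B, p a prime of A, is reduced, then B is reduced. (This is the affine form
of the statement for a morphism of schemes X → Y all of whose fibres are reduced and whose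
restriction to the reduced closed subscheme X_red is flat. The published statement does not say X is
locally Noetherian, but its proof applies Nakayama's lemma to the nilradical as a finitely generated
ideal; without it the square-zero extension of a discrete valuation ring A by Frac(A)/A is a
counterexample.) -/
theorem result (A : Type u) (B : Type v)
    [CommRing A] [CommRing B] [Algebra A B] [IsNoetherianRing B]
    [Module.Flat A (B ⧸ nilradical B)]
    (hfib : ∀ p : PrimeSpectrum A, IsReduced (p.asIdeal.ResidueField ⊗[A] B)) :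
    IsReduced B := by
  let N := nilradical B
  suffices h : N = ⊥ by exact ⟨fun x hx => by simpa [N, h] using (mem_nilradical.mpr hx : x ∈ N)⟩
  by_contra hne
  haveI : Nontrivial N := Submodule.nontrivial_iff_ne_bot.mpr hne
  obtain ⟨q, hq⟩ : (Module.support B N).Nonempty := Module.nonempty_support_iff.mpr ‹_›
  let p : PrimeSpectrum A := ⟨q.asIdeal.comap (algebraMap A B), inferInstance⟩
  -- a multiple of every element of `N` lies in `q N`
  have key : ∀ x ∈ N, ∃ a : A, a ∉ p.asIdeal ∧ a • x ∈ q.asIdeal • N := by
    intro x hx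
    have hinj := Groth.Agent.WeilRes.rTensor_injective_of_flat_quotient (R := A) (N.subtype.restrictScalars A)
      (N.mkQ.restrictScalars A) Subtype.val_injective (fun z => LinearMap.exact_subtype_mkQ N z)
      (Submodule.mkQ_surjective N) p.asIdeal.ResidueField
    have h0 : (⟨x, hx⟩ : N) ⊗ₜ[A] (1 : p.asIdeal.ResidueField) = 0 := hinj (by
      rw [map_zero, LinearMap.rTensor_tmul]
      haveI := hfib p
      have hn : IsNilpotent ((1 : p.asIdeal.ResidueField) ⊗ₜ[A] x) := by
        obtain ⟨m, hm⟩ := (mem_nilradical.mp hx)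
        exact ⟨m, by rw [Algebra.TensorProduct.tmul_pow, one_pow, hm, TensorProduct.tmul_zero]⟩
      have h := congrArg (TensorProduct.comm A _ _) hn.eq_zero
      simpa using h)
    let L : (A ⧸ p.asIdeal) →ₗ[A] p.asIdeal.ResidueField := (Algebra.linearMap (A ⧸ p.asIdeal) p.asIdeal.ResidueField).restrictScalars A
    have hLu : ∀ s : p.asIdeal.primeCompl, algebraMap A p.asIdeal.ResidueField s ≠ 0 := fun s h => s.2
      (Ideal.algebraMap_residueField_eq_zero.mp h)
    haveI : IsLocalizedModule p.asIdeal.primeCompl L := by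
      refine ⟨fun s => ?_, fun y => ?_, fun {u v} huv => ⟨1, by
        rw [one_smul, one_smul]; exact p.asIdeal.injective_algebraMap_quotient_residueField huv⟩⟩
      · rw [Module.End.isUnit_iff]
        refine ⟨fun u v huv => ?_, fun y => ⟨(algebraMap A p.asIdeal.ResidueField s)⁻¹ * y, ?_⟩⟩
        · simp only [Module.algebraMap_end_apply, Algebra.smul_def] at huv
          exact mul_left_cancel₀ (hLu s) huv
        · simp only [Module.algebraMap_end_apply, Algebra.smul_def]
          rw [mul_inv_cancel_left₀ (hLu s)]
      · obtain ⟨u, v, hv, rfl⟩ := IsFractionRing.div_surjective (A := A ⧸ p.asIdeal) y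
        obtain ⟨v, rfl⟩ := Ideal.Quotient.mk_surjective v
        have hv' : v ∉ p.asIdeal := fun h => (nonZeroDivisors.ne_zero hv) (Ideal.Quotient.eq_zero_iff_mem.mpr h)
        refine ⟨⟨u, ⟨v, hv'⟩⟩, ?_⟩
        rw [Submonoid.smul_def, Algebra.smul_def]
        show algebraMap A p.asIdeal.ResidueField v * _ = _
        rw [show algebraMap A p.asIdeal.ResidueField v = algebraMap (A ⧸ p.asIdeal) p.asIdeal.ResidueField (Ideal.Quotient.mk _ v) from rfl]
        exact mul_div_cancel₀ _ (hLu ⟨v, hv'⟩)
    haveI hloc : IsLocalizedModule p.asIdeal.primeCompl (TensorProduct.AlgebraTensorModule.rTensor A N L) := inferInstance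
    have h2 : TensorProduct.AlgebraTensorModule.rTensor A N L ((1 : A ⧸ p.asIdeal) ⊗ₜ[A] (⟨x, hx⟩ : N)) = 0 := by
      have h := (congrArg (fun w => TensorProduct.comm A N p.asIdeal.ResidueField w) h0).trans (LinearEquiv.map_zero _)
      simpa [L] using h
    obtain ⟨a, ha⟩ := (IsLocalizedModule.eq_zero_iff p.asIdeal.primeCompl (TensorProduct.AlgebraTensorModule.rTensor A N L)).mp h2
    refine ⟨a, a.2, ?_⟩
    rw [Submonoid.smul_def, ← TensorProduct.tmul_smul] at ha
    have h3 : ((a : A) • (⟨x, hx⟩ : N)) ∈ p.asIdeal • (⊤ : Submodule A N) := by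
      rw [← Submodule.Quotient.mk_eq_zero]
      have e := TensorProduct.quotTensorEquivQuotSMul_mk_tmul p.asIdeal 1 ((a : A) • (⟨x, hx⟩ : N))
      rw [map_one, one_smul] at e
      rw [← e]
      exact (congrArg (fun w => TensorProduct.quotTensorEquivQuotSMul N p.asIdeal w) ha).trans (LinearEquiv.map_zero _)
    refine Submodule.smul_induction_on (p := fun z : N => (z : B) ∈ q.asIdeal • N) h3 ?_ ?_
    · intro r hr z _
      show (↑(r • z) : B) ∈ q.asIdeal • N
      rw [Submodule.coe_smul_of_tower, Ideal.smul_eq_mul, Algebra.smul_def r (z : B)]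
      exact Ideal.mul_mem_mul (show algebraMap A B r ∈ q.asIdeal from hr) z.2
    · intro y z hy hz
      exact add_mem hy hz
  obtain ⟨S, hS⟩ := IsNoetherian.noetherian N
  choose f hf1 hf2 using fun x : S => key x.1 (hS ▸ Submodule.subset_span x.2)
  let a := ∏ x : S, f x
  have ha : algebraMap A B a ∉ q.asIdeal := fun h => by
    obtain ⟨x, -, hx⟩ := (Ideal.IsPrime.prod_mem_iff (p := p.asIdeal)).mp h
    exact hf1 x hx
  have hq2 : q ∈ Module.support B (N ⧸ (q.asIdeal • (⊤ : Submodule B N))) := by
    rw [Module.support_quotient]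
    exact ⟨hq, fun _ h => h⟩
  rw [Module.mem_support_iff_of_finite] at hq2
  refine ha (hq2 (Module.mem_annihilator.mpr fun z => ?_))
  obtain ⟨z, rfl⟩ := Submodule.mkQ_surjective _ z
  rw [← map_smul, Submodule.mkQ_apply, Submodule.Quotient.mk_eq_zero]
  suffices hmem : ((algebraMap A B a • z : N) : B) ∈ q.asIdeal • N by
    have hmap : Submodule.map N.subtype (q.asIdeal • (⊤ : Submodule B N)) = q.asIdeal • N := by
      rw [Submodule.map_smul'', Submodule.map_subtype_top]
    rw [← hmap] at hmem
    obtain ⟨w, hw, hwe⟩ := hmem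
    rwa [← Subtype.val_injective (show (w : B) = _ from hwe)]
  suffices hgen : ∀ w ∈ Submodule.span B (S : Set B), algebraMap A B a * w ∈ q.asIdeal • N by
    exact hgen z.1 ((SetLike.ext_iff.mp hS z.1).mpr z.2)
  intro w hz
  induction hz using Submodule.span_induction with
  | mem w hw =>
    have h := hf2 ⟨w, hw⟩
    rw [Algebra.smul_def (f ⟨w, hw⟩)] at h
    obtain ⟨c, hc⟩ := Finset.dvd_prod_of_mem f (Finset.mem_univ (⟨w, hw⟩ : S))
    show algebraMap A B a * w ∈ _
    rw [show a = c * f ⟨w, hw⟩ by rw [mul_comm]; exact hc, map_mul, mul_assoc]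
    exact Ideal.mul_mem_left _ _ h
  | zero => simp
  | add u v _ _ hu hv => rw [mul_add]; exact add_mem hu hv
  | smul c u _ hu => rw [smul_eq_mul c u, mul_left_comm]; exact Ideal.mul_mem_left _ _ hu

end Groth.Agent.S14035
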