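import Groth.Statements.S14037
import Mathlib
import Groth.Agent.PropFibLib.Criterion
import Groth.Agent.NagataCompLib.Nagata
import Groth.Agent.CycP1Lib.Graph
-- import your own Groth.Agent.* helpers here

set_option autoImplicit false
universe u
open CategoryTheory CategoryTheory.Limits AlgebraicGeometry
open W4c1frobunstiva

namespace Groth.Agent.S14037

/-- Let f : X → Y be separated and of finite type, with X and Y integral, Y Noetherian and normal.
Suppose that every geometric fibre of f — the base change of X along any morphism from the spectrum
of an algebraically closed field to Y — is proper over that field and connected (so non-empty). Then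
f is proper. -/
theorem result {X Y : Scheme.{u}}
    (f : X ⟶ Y) [IsSeparated f] [LocallyOfFiniteType f] [QuasiCompact f]
    [IsIntegral X] [IsIntegral Y] [IsNoetherian Y] (hY : Pi1.IsNormalScheme Y)
    (hfib : ∀ (Ω : Type u) [Field Ω] [IsAlgClosed Ω] (y : Spec (CommRingCat.of Ω) ⟶ Y),
      IsProper (pullback.snd f y) ∧ ConnectedSpace ↥(pullback f y)) :
    IsProper f := by
  haveI : QuasiSeparatedSpace Y := inferInstance
  obtain ⟨Z, j, p, hj, hjc, hp, hjp⟩ := NagataCompLib.exists_compactification f
  haveI := hj
  haveI := hjc
  haveI := hp
  haveI : IsIntegral j.image := CycP1Lib.isIntegral_image j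
  haveI : IsProper (j.imageι ≫ p) := inferInstance
  have e : j.toImage ≫ j.imageι ≫ p = f := by rw [Scheme.Hom.toImage_imageι_assoc, hjp]
  subst e
  exact PropFibLib.isProper_of_compactification j.toImage (j.imageι ≫ p) hY hfib

end Groth.Agent.S14037
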