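import Groth.Statements.S14039
import Mathlib


-- import your own Groth.Agent.* helpers here

set_option autoImplicit false
open W4c1frobunstiva

namespace Groth.Agent.S14039

/-- For natural numbers p, n ≥ 1 and s, the number of monomials of degree s in n variables in which
every variable occurs with a positive exponent strictly less than p — that is, of exponent vectors
(e_1, …, e_n) with sum s and 1 ≤ e_i ≤ p − 1 — equals the inclusion–exclusion sum over i from 0 to n
of (−1)^i · C(n, i) · C(s − i(p − 1) − 1, n − 1), the last factor counting monomials of degree s −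
i(p − 1) − n in n variables and read as 0 when s < i(p − 1) + n. (A companion count, by how many
exponents lie below p/2, and a remark on polynomiality in s and p are not part of this row.) -/
theorem result (p n s : ℕ)
    (hn : 1 ≤ n) :
    (Fintype.card {e : Fin n → Fin p // (∀ i, 1 ≤ (e i : ℕ)) ∧ ∑ i, (e i : ℕ) = s} : ℤ) =
      ∑ i ∈ Finset.range (n + 1),
        (-1 : ℤ) ^ i * (n.choose i : ℤ) *
          (if i * (p - 1) + n ≤ s then (((s - i * (p - 1) - 1).choose (n - 1) : ℕ) : ℤ) else 0) := by
  classical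
  obtain ⟨n, rfl⟩ : ∃ m, n = m + 1 := ⟨n - 1, by omega⟩
  set E : Finset (Fin p) := Finset.univ.filter (fun e : Fin p => 1 ≤ (e : ℕ)) with hE
  set Sp : PowerSeries ℤ := ∑ e ∈ E, PowerSeries.X ^ (e : ℕ) with hSp
  have hL : (Fintype.card {e : Fin (n+1) → Fin p // (∀ i, 1 ≤ (e i : ℕ)) ∧ ∑ i, (e i : ℕ) = s} : ℤ)
      = PowerSeries.coeff s (Sp ^ (n + 1)) := by
    have h1 : Sp ^ (n + 1) = ∑ f ∈ Fintype.piFinset (fun _ : Fin (n+1) => E),
        PowerSeries.X ^ (∑ i, (f i : ℕ)) := by
      rw [show Sp ^ (n+1) = ∏ _i : Fin (n+1), Sp by simp, hSp, Finset.prod_univ_sum]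
      exact Finset.sum_congr rfl fun f _ => (Finset.prod_pow_eq_pow_sum _ _ _)
    rw [h1, map_sum]
    simp only [PowerSeries.coeff_X_pow]
    rw [Finset.sum_boole, Fintype.card_subtype]
    congr 2
    ext f
    simp [hE, Fintype.mem_piFinset, eq_comm]
  set g : PowerSeries ℤ := (PowerSeries.invOneSubPow ℤ (n + 1)).val with hg
  have hgc : ∀ k, PowerSeries.coeff k g = ((n + k).choose n : ℤ) := by
    intro k
    rw [hg, PowerSeries.invOneSubPow_val_succ_eq_mk_add_choose, PowerSeries.coeff_mk]
  have hS : Sp * (1 - PowerSeries.X) = PowerSeries.X * (1 - PowerSeries.X ^ (p - 1)) := by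
    have h1 : Sp = PowerSeries.X * ∑ j ∈ Finset.range (p - 1), (PowerSeries.X : PowerSeries ℤ) ^ j := by
      rw [hSp, hE, Finset.sum_filter,
        Fin.sum_univ_eq_sum_range (fun e => if 1 ≤ e then (PowerSeries.X : PowerSeries ℤ) ^ e else 0) p]
      cases p with
      | zero => simp
      | succ q =>
        rw [Finset.sum_range_succ', Finset.mul_sum]
        simp [pow_succ']
    rw [h1, mul_assoc, geom_sum_mul_neg]
  have hexp : Sp ^ (n + 1) = ∑ i ∈ Finset.range (n + 1 + 1),
      PowerSeries.C ((-1 : ℤ) ^ i * ((n+1).choose i : ℤ)) *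
        (PowerSeries.X ^ (i * (p - 1) + (n + 1)) * g) := by
    have h1 : (1 - PowerSeries.X : PowerSeries ℤ) ^ (n + 1) * g = 1 := by
      rw [← PowerSeries.invOneSubPow_inv_eq_one_sub_pow, hg]
      exact (PowerSeries.invOneSubPow ℤ (n + 1)).inv_val
    calc Sp ^ (n + 1) = (Sp * (1 - PowerSeries.X)) ^ (n + 1) * g := by
          rw [mul_pow, mul_assoc, h1, mul_one]
      _ = _ := by
        rw [hS, mul_pow, sub_eq_neg_add, add_pow, Finset.mul_sum, Finset.sum_mul]
        refine Finset.sum_congr rfl fun i _ => ?_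
        rw [map_mul, map_pow, map_neg, map_one, map_natCast, one_pow, neg_pow, ← pow_mul,
          pow_add, mul_comm (p - 1) i]
        ring
  rw [hL, hexp, map_sum]
  refine Finset.sum_congr rfl fun i _ => ?_
  rw [PowerSeries.coeff_C_mul, PowerSeries.coeff_X_pow_mul', Nat.add_sub_cancel]
  split_ifs with h
  · rw [hgc]
    congr 3
    omega
  · rfl

end Groth.Agent.S14039
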