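import Groth.Statements.S14041
import Groth.Agent.GenFinLib.Main
import Groth.Agent.CurveFFLib.GenEtale
import Mathlib.RingTheory.Localization.Free
import Mathlib.AlgebraicGeometry.Morphisms.Finite

set_option autoImplicit false
universe u
open CategoryTheory CategoryTheory.Limits AlgebraicGeometry
open W4c1frobunstiva

namespace Groth.Agent.S14041

open TensorProduct in
/-- A finite algebra of domains is generically free of the generic degree. -/
theorem exists_finrank_tensor {A B K L : Type u} [CommRing A] [IsDomain A] [IsNoetherianRing A] [CommRing B] [IsDomain B]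
    [Algebra A B] [Module.Finite A B] [FaithfulSMul A B] [Field K] [Field L] [Algebra A K] [IsFractionRing A K]
    [Algebra B L] [IsFractionRing B L] [Algebra K L] [Algebra A L] [IsScalarTower A K L] [IsScalarTower A B L] :
    ∃ a : A, a ≠ 0 ∧ ∀ (F : Type u) [Field F] [Algebra A F], algebraMap A F a ≠ 0 →
      Module.finrank F (F ⊗[A] B) = Module.finrank K L := by
  haveI : Algebra.IsIntegral A B := inferInstance
  haveI : IsLocalization (Algebra.algebraMapSubmonoid B (nonZeroDivisors A)) L := by
    refine (isLocalization_iff _ _).mpr ⟨?_, ?_, ?_⟩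
    · rintro ⟨_, a, ha, rfl⟩
      refine isUnit_iff_ne_zero.mpr ?_
      rw [← IsScalarTower.algebraMap_apply, IsScalarTower.algebraMap_apply A K L]
      exact (map_ne_zero _).mpr (IsFractionRing.to_map_ne_zero_of_mem_nonZeroDivisors ha)
    · intro z
      obtain ⟨b, c, hc, rfl⟩ := IsFractionRing.div_surjective B z
      have hc0 : c ≠ 0 := nonZeroDivisors.ne_zero hc
      obtain ⟨a, ha, ha0⟩ := Submodule.exists_mem_ne_zero_of_ne_bot (Ideal.comap_ne_bot_of_algebraic_mem hc0
        (Ideal.mem_span_singleton_self c) (Algebra.IsAlgebraic.isAlgebraic (R := A) c))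
      obtain ⟨d, hd⟩ := Ideal.mem_span_singleton.mp (Ideal.mem_comap.mp ha)
      refine ⟨⟨b * d, ⟨algebraMap A B a, a, mem_nonZeroDivisors_of_ne_zero ha0, rfl⟩⟩, ?_⟩
      have hc' : algebraMap B L c ≠ 0 := IsFractionRing.to_map_ne_zero_of_mem_nonZeroDivisors hc
      simp only [hd, map_mul]
      field_simp
    · intro x y h
      exact ⟨1, by rw [IsFractionRing.injective B L h]⟩
  haveI : IsLocalizedModule (nonZeroDivisors A) (IsScalarTower.toAlgHom A B L).toLinearMap :=
    isLocalizedModule_iff_isLocalization.mpr inferInstance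
  haveI : Module.FinitePresentation A B := Module.finitePresentation_of_finite A B
  obtain ⟨a, ha, hfree, hrank⟩ := Module.FinitePresentation.exists_free_localizedModule_powers
    (nonZeroDivisors A) (IsScalarTower.toAlgHom A B L).toLinearMap K
  refine ⟨a, nonZeroDivisors.ne_zero ha, fun F _ _ haF => ?_⟩
  letI : Algebra (Localization.Away a) F := (IsLocalization.Away.lift a (isUnit_iff_ne_zero.mpr haF)).toAlgebra
  haveI : IsScalarTower A (Localization.Away a) F :=
    IsScalarTower.of_algebraMap_eq fun x => (IsLocalization.Away.lift_eq a _ x).symm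
  have h₁ : IsBaseChange (Localization.Away a) (LocalizedModule.mkLinearMap (Submonoid.powers a) B) :=
    IsLocalizedModule.isBaseChange (Submonoid.powers a) _ _
  have h₂ : IsBaseChange F (TensorProduct.mk (Localization.Away a) F (LocalizedModule.Away a B) 1) :=
    TensorProduct.isBaseChange _ _ _
  rw [(h₁.comp h₂).equiv.finrank_eq]
  haveI : Module.Free (Localization.Away a) (LocalizedModule.Away a B) := hfree
  haveI : Nontrivial (Localization.Away a) := (algebraMap (Localization.Away a) F).domain_nontrivial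
  exact Module.finrank_baseChange.trans hrank

open TensorProduct in
theorem isPullback_tensor (A B F : Type u) [CommRing A] [CommRing B] [CommRing F] [Algebra A B] [Algebra A F] :
    IsPullback (Spec.map (CommRingCat.ofHom (Algebra.TensorProduct.includeRight.toRingHom : B →+* F ⊗[A] B)))
      (Spec.map (CommRingCat.ofHom (algebraMap F (F ⊗[A] B))))
      (Spec.map (CommRingCat.ofHom (algebraMap A B))) (Spec.map (CommRingCat.ofHom (algebraMap A F))) := by
  refine (IsPullback.of_iso_pullback ⟨?_⟩ (pullbackSpecIso A F B).symm ?_ ?_).flip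
  · rw [← Spec.map_comp, ← Spec.map_comp]
    congr 1
    ext r
    exact ((Algebra.TensorProduct.includeRight : B →ₐ[A] F ⊗[A] B).commutes r).symm
  · exact pullbackSpecIso_inv_fst' A F B
  · exact pullbackSpecIso_inv_snd A F B

open TensorProduct in
/-- The fibre over a point of an affine open with affine preimage. -/
theorem fibre_affine {X Y : Scheme.{u}} (f : X ⟶ Y) {V : Y.Opens} (hV : IsAffineOpen V) (hW : IsAffineOpen (f ⁻¹ᵁ V))
    (hfin : (f.app V).hom.Finite) (y : Y) (hy : y ∈ V) :
    letI := (Y.evaluation V y hy).hom.toAlgebra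
    letI := (f.app V).hom.toAlgebra
    IsFinite (pullback.snd f (Y.fromSpecResidueField y)) ∧
      (letI := ((Scheme.ΓSpecIso (CommRingCat.of (Y.residueField y))).inv ≫
          (pullback.snd f (Y.fromSpecResidueField y)).appTop).hom.toAlgebra;
        Module.finrank (Y.residueField y) ↑(Γ(pullback f (Y.fromSpecResidueField y), ⊤))) =
        Module.finrank (Y.residueField y) (Y.residueField y ⊗[Γ(Y, V)] Γ(X, f ⁻¹ᵁ V)) := by
  letI := (Y.evaluation V y hy).hom.toAlgebra
  letI := (f.app V).hom.toAlgebra
  haveI : Module.Finite Γ(Y, V) Γ(X, f ⁻¹ᵁ V) := hfin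
  set j : Spec (Y.residueField y) ⟶ Spec Γ(Y, V) := Spec.map (Y.evaluation V y hy) with hj
  have hjy : j ≫ hV.fromSpec = Y.fromSpecResidueField y := by
    rw [hj, Scheme.evaluation, Spec.map_comp, Category.assoc]
    exact congrArg (Spec.map (Y.residue y) ≫ ·) (hV.fromSpecStalk_eq_fromSpecStalk hy)
  have sq : IsPullback hW.fromSpec (Spec.map (f.app V)) f hV.fromSpec := by
    refine (IsOpenImmersion.isPullback (Spec.map (f.app V)) hW.fromSpec hV.fromSpec f ?_ ?_).flip
    · rw [Scheme.Hom.app_eq_appLE, IsAffineOpen.SpecMap_appLE_fromSpec f hV hW le_rfl]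
    · rw [hV.opensRange_fromSpec, hW.opensRange_fromSpec]
  have h := (isPullback_tensor Γ(Y, V) Γ(X, f ⁻¹ᵁ V) (Y.residueField y)).paste_horiz sq
  rw [show Spec.map (CommRingCat.ofHom (algebraMap Γ(Y, V) (Y.residueField y))) ≫ hV.fromSpec =
    Y.fromSpecResidueField y from hjy] at h
  constructor
  · haveI : MorphismProperty.RespectsIso @IsFinite := MorphismProperty.IsStableUnderBaseChange.respectsIso
    rw [← h.isoPullback_inv_snd, MorphismProperty.cancel_left_of_respectsIso (P := @IsFinite), IsFinite.SpecMap_iff]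
    exact RingHom.finite_algebraMap.mpr inferInstance
  · letI := ((Scheme.ΓSpecIso (CommRingCat.of (Y.residueField y))).inv ≫
        (pullback.snd f (Y.fromSpecResidueField y)).appTop).hom.toAlgebra
    let ε : Γ(pullback f (Y.fromSpecResidueField y), ⊤) ≃+* (Y.residueField y ⊗[Γ(Y, V)] Γ(X, f ⁻¹ᵁ V)) :=
      ((Scheme.Γ.mapIso h.isoPullback.op) ≪≫ Scheme.ΓSpecIso _).commRingCatIsoToRingEquiv
    refine (AlgEquiv.ofRingEquiv (f := ε) fun r => ?_).toLinearEquiv.finrank_eq
    change ((Scheme.ΓSpecIso (CommRingCat.of (Y.residueField y))).inv ≫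
      (pullback.snd f (Y.fromSpecResidueField y)).appTop ≫ h.isoPullback.hom.appTop ≫
        (Scheme.ΓSpecIso (CommRingCat.of (Y.residueField y ⊗[Γ(Y, V)] Γ(X, f ⁻¹ᵁ V)))).hom) r = _
    rw [← Scheme.Hom.comp_appTop_assoc, h.isoPullback_hom_snd, Scheme.ΓSpecIso_naturality, Iso.inv_hom_id_assoc]
    rfl


/-- Let k be a field, X and Y integral schemes of finite type over k of the same (topological Krull)
dimension, and f : X → Y a dominant k-morphism, so that f sends the generic point ξ of X to the
generic point of Y. Then κ(ξ) is a finite extension of the residue field at f(ξ), say of degree d,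
and there is a non-empty open subset U of Y such that for every point y of U the fibre X_y = X ×_Y
Spec κ(y) is finite over κ(y) and its ring of global sections has dimension exactly d over κ(y).
(The published statement speaks of the length of X_y; the κ(y)-dimension of Γ(X_y, O) is the
invariant for which the equality holds on U, including at the generic point.) -/
theorem result (k : Type u) [Field k] {X Y : Scheme.{u}}
    [X.Over (Spec (CommRingCat.of k))] [Y.Over (Spec (CommRingCat.of k))]
    [LocallyOfFiniteType (X ↘ Spec (CommRingCat.of k))] [QuasiCompact (X ↘ Spec (CommRingCat.of k))]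
    [LocallyOfFiniteType (Y ↘ Spec (CommRingCat.of k))] [QuasiCompact (Y ↘ Spec (CommRingCat.of k))]
    [IsIntegral X] [IsIntegral Y] (f : X ⟶ Y) [IsDominant f]
    (hf : f ≫ (Y ↘ Spec (CommRingCat.of k)) = X ↘ Spec (CommRingCat.of k))
    (hdim : topologicalKrullDim ↥X = topologicalKrullDim ↥Y) :
    (letI := (f.residueFieldMap (genericPoint ↥X)).hom.toAlgebra;
      Module.Finite (Y.residueField (f.base (genericPoint ↥X))) (X.residueField (genericPoint ↥X))) ∧
    ∃ U : Y.Opens, Nonempty ↥U ∧ ∀ y : Y, y ∈ U →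
      IsFinite (pullback.snd f (Y.fromSpecResidueField y)) ∧
        (letI := ((Scheme.ΓSpecIso (CommRingCat.of (Y.residueField y))).inv ≫
            (pullback.snd f (Y.fromSpecResidueField y)).appTop).hom.toAlgebra;
          Module.finrank (Y.residueField y) ↑(Γ(pullback f (Y.fromSpecResidueField y), ⊤))) =
        (letI := (f.residueFieldMap (genericPoint ↥X)).hom.toAlgebra;
          Module.finrank (Y.residueField (f.base (genericPoint ↥X))) (X.residueField (genericPoint ↥X))) := by
  have hξ : f (genericPoint X) = genericPoint Y := GenFinLib.base_genericPoint f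
  have hres : (f.residueFieldMap (genericPoint X)).hom.Finite := by
    letI := ((Y.presheaf.stalkSpecializes (specializes_of_eq hξ) ≫ f.stalkMap (genericPoint X)).hom).toAlgebra
    have h0 : ((Y.presheaf.stalkSpecializes (specializes_of_eq hξ) ≫ f.stalkMap (genericPoint X)).hom).Finite :=
      CurveFFLib.finite_functionField (k := k) hdim f hf hξ
    rw [CommRingCat.hom_comp] at h0
    have h1 := RingHom.Finite.of_comp_finite h0
    have h2 : ((f.stalkMap (genericPoint X)) ≫ X.residue (genericPoint X)).hom.Finite := by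
      rw [CommRingCat.hom_comp]
      exact RingHom.Finite.comp (RingHom.Finite.of_surjective _ (X.residue_surjective _)) h1
    rw [← Scheme.residue_residueFieldMap, CommRingCat.hom_comp] at h2
    exact RingHom.Finite.of_comp_finite h2
  refine ⟨hres, ?_⟩
  haveI : QuasiCompact f := by
    haveI : IsLocallyNoetherian Y := LocallyOfFiniteType.isLocallyNoetherian (Y ↘ Spec (CommRingCat.of k))
    haveI : QuasiSeparated (Y ↘ Spec (CommRingCat.of k)) := QuasiSeparated.of_quasiSeparatedSpace _
    haveI : QuasiCompact (f ≫ (Y ↘ Spec (CommRingCat.of k))) := by rw [hf]; infer_instance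
    exact QuasiCompact.of_comp f (Y ↘ Spec (CommRingCat.of k))
  haveI : LocallyOfFiniteType f := by
    haveI : LocallyOfFiniteType (f ≫ (Y ↘ Spec (CommRingCat.of k))) := by rw [hf]; infer_instance
    exact locallyOfFiniteType_of_comp f (Y ↘ Spec (CommRingCat.of k))
  obtain ⟨V, hV, hVne, hfinV⟩ := GenFinLib.exists_eq_preimage f hres (Or.inr inferInstance)
  haveI := hVne
  haveI : Nonempty (V : Scheme.{u}) := hVne
  haveI := hfinV
  have hW : IsAffineOpen (f ⁻¹ᵁ V) := by
    haveI : IsAffine V := hV
    exact isAffine_of_isAffineHom (f ∣_ V)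
  have hξV : genericPoint X ∈ f ⁻¹ᵁ V := by
    show f (genericPoint X) ∈ V
    rw [hξ]
    exact ((genericPoint_spec Y).mem_open_set_iff V.2).mpr ⟨_, trivial, hVne.some.2⟩
  haveI : Nonempty (f ⁻¹ᵁ V) := ⟨⟨_, hξV⟩⟩
  haveI : Nonempty (f ⁻¹ᵁ V : Scheme.{u}) := ⟨⟨_, hξV⟩⟩
  have hfin : (f.app V).hom.Finite := by
    rw [Scheme.Hom.app_eq_appLE]
    exact GenFinLib.appLE_finite_of_isFinite f hW hV le_rfl (by rw [Scheme.Hom.resLE_eq_morphismRestrict]; exact hfinV)
  letI := (f.app V).hom.toAlgebra
  haveI : Module.Finite Γ(Y, V) Γ(X, f ⁻¹ᵁ V) := hfin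
  haveI : FaithfulSMul Γ(Y, V) Γ(X, f ⁻¹ᵁ V) := (faithfulSMul_iff_algebraMap_injective _ _).2 (by
    show Function.Injective (f.app V)
    rw [Scheme.Hom.app_eq_appLE]
    exact GenFinLib.appLE_injective f hW hV le_rfl)
  haveI : IsLocallyNoetherian Y := LocallyOfFiniteType.isLocallyNoetherian (Y ↘ Spec (CommRingCat.of k))
  haveI : IsNoetherianRing Γ(Y, V) := IsLocallyNoetherian.component_noetherian ⟨V, hV⟩
  letI := (Y.evaluation V (f.base (genericPoint X)) hξV).hom.toAlgebra
  haveI := GenFinLib.eval_isFractionRing V hV _ hξ hξV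
  letI := (X.evaluation (f ⁻¹ᵁ V) (genericPoint X) hξV).hom.toAlgebra
  haveI := GenFinLib.eval_isFractionRing (f ⁻¹ᵁ V) hW _ rfl hξV
  letI := (f.residueFieldMap (genericPoint X)).hom.toAlgebra
  letI : Algebra Γ(Y, V) (X.residueField (genericPoint X)) :=
    (f.app V ≫ X.evaluation (f ⁻¹ᵁ V) (genericPoint X) hξV).hom.toAlgebra
  haveI : IsScalarTower Γ(Y, V) Γ(X, f ⁻¹ᵁ V) (X.residueField (genericPoint X)) :=
    IsScalarTower.of_algebraMap_eq' rfl
  haveI : IsScalarTower Γ(Y, V) (Y.residueField (f.base (genericPoint X))) (X.residueField (genericPoint X)) :=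
    IsScalarTower.of_algebraMap_eq fun c => by
      show X.evaluation (f ⁻¹ᵁ V) (genericPoint X) hξV (f.app V c) =
        f.residueFieldMap (genericPoint X) (Y.evaluation V _ hξV c)
      exact (Scheme.evaluation_naturality_apply f _ hξV c).symm
  obtain ⟨a, ha, hrank⟩ := exists_finrank_tensor (A := Γ(Y, V)) (B := Γ(X, f ⁻¹ᵁ V))
    (K := Y.residueField (f.base (genericPoint X))) (L := X.residueField (genericPoint X))
  refine ⟨Y.basicOpen a, ⟨⟨_, GenFinLib.eval_ne_zero hV ha⟩⟩, fun y hy => ?_⟩
  have hyV : y ∈ V := Y.basicOpen_le a hy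
  obtain ⟨h1, h2⟩ := fibre_affine f hV hW hfin y hyV
  refine ⟨h1, h2.trans ?_⟩
  letI := (Y.evaluation V y hyV).hom.toAlgebra
  exact hrank (Y.residueField y) ((Y.evaluation_ne_zero_iff_mem_basicOpen y hyV a).mpr hy)

end Groth.Agent.S14041
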