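import Groth.Statements.S14042
import Groth.Agent.S14041
import Groth.Agent.FibDegLib.Basic
import Groth.Agent.CMFlatLib.Dim
import Groth.Agent.RegLCILib.Scheme
import Groth.Agent.OmegaAffLib.Apps

set_option autoImplicit false
universe u
open CategoryTheory CategoryTheory.Limits AlgebraicGeometry
open W4c1frobunstiva

namespace Groth.Agent.S14042

/-- The fibre of an open containing the whole fibre has the same rank. -/
theorem rk_opens_eq {X S : Scheme.{u}} (f : X ⟶ S) (W : X.Opens) {s : S} (hW : ∀ x, f x = s → x ∈ W) :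
    FibDegLib.rk (W.ι ≫ f) s = FibDegLib.rk f s := by
  let j := FibDegLib.fibreIncl f W s
  have sq : IsPullback (pullback.fst (W.ι ≫ f) (S.fromSpecResidueField s)) j W.ι
      (pullback.fst f (S.fromSpecResidueField s)) := FibDegLib.isPullback_fibreIncl f W s
  haveI : IsOpenImmersion j := MorphismProperty.of_isPullback (P := @IsOpenImmersion) sq inferInstance
  haveI : Surjective j := ⟨fun z => by
    have hz : f (pullback.fst f (S.fromSpecResidueField s) z) = s := by
      rw [← Scheme.Hom.comp_apply, pullback.condition, Scheme.Hom.comp_apply, Scheme.fromSpecResidueField_apply]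
    obtain ⟨w, -, hw⟩ := Scheme.exists_preimage_of_isPullback sq ⟨_, hW _ hz⟩ z rfl
    exact ⟨w, hw⟩⟩
  haveI : IsIso j := (isIso_iff_isOpenImmersion_and_epi_base _).2
    ⟨inferInstance, (TopCat.epi_iff_surjective _).2 j.surjective⟩
  exact FibDegLib.gRank_eq_of_isIso (K := S.residueField s) _ _ j ((pullback.lift_snd _ _ _).trans (Category.comp_id _))

/-- Quasi-finite maps between regular affine varieties of the same dimension are flat. -/
theorem flat_of_quasiFinite (k : Type u) [Field k] {A B : Type u} [CommRing A] [IsDomain A] [IsRegularRing A]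
    [CommRing B] [IsDomain B] [IsRegularRing B] [Algebra k A] [Algebra.FiniteType k A] [Algebra k B]
    [Algebra.FiniteType k B] [Algebra A B] [IsScalarTower k A B] [Algebra.QuasiFinite A B]
    (hdim : ringKrullDim A = ringKrullDim B) : Module.Flat A B := by
  haveI : IsNoetherianRing B := Algebra.FiniteType.isNoetherianRing k B
  refine Module.flat_of_isLocalized_maximal (R := A) (S := B) (M := B) (Mₚ := fun P _ => Localization.AtPrime P)
    (f := fun P _ => Algebra.linearMap B (Localization.AtPrime P)) fun q hq => ?_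
  haveI : IsRegularLocalRing (Localization.AtPrime q) := IsRegularRing.isRegularLocalRing_localization q
  refine CMFlatLib.flat_of_isCM_quasiFiniteAt q (CommAlgDim.isCM_of_isRegularLocalRing _) ?_
  have h1 := FibDimLib.ringKrullDim_quotient_add_height_affine k B q
  have h2 := FibDimLib.ringKrullDim_quotient_add_height_affine k A (q.comap (algebraMap A B))
  rw [CMFlatLib.ringKrullDim_quotient_eq_of_quasiFiniteAt (k := k) (A := A) q, ← hdim, ← h2] at h1
  rw [IsLocalization.AtPrime.ringKrullDim_eq_height q (Localization.AtPrime q)]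
  obtain ⟨s, hs, -⟩ := FibDimLib.ringKrullDim_quotient_eq_trdeg k (q.comap (algebraMap A B))
  rw [hs] at h1
  obtain ⟨a, ha⟩ := ENat.ne_top_iff_exists.1 (Ideal.height_ne_top (I := q) (Ideal.IsPrime.ne_top inferInstance))
  obtain ⟨b, hb⟩ := ENat.ne_top_iff_exists.1
    (Ideal.height_ne_top (I := q.comap (algebraMap A B)) (Ideal.IsPrime.ne_top inferInstance))
  rw [← ha, ← hb] at h1 ⊢
  norm_cast at h1 ⊢
  omega

/-- The dimension of an affine chart of a variety. -/
theorem ringKrullDim_chart {k : Type u} [Field k] (X : Scheme.{u}) [X.Over (Spec (CommRingCat.of k))] [IsIntegral X]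
    [LocallyOfFiniteType (X ↘ Spec (CommRingCat.of k))] {U : X.Opens} (hU : IsAffineOpen U) [Nonempty (U : Scheme.{u})]
    [Algebra k Γ(X, U)] (hk : algebraMap k Γ(X, U) = ((X ↘ Spec (CommRingCat.of k)).appLE ⊤ U le_top).hom.comp
      (Scheme.ΓSpecIso (CommRingCat.of k)).inv.hom) [Algebra.FiniteType k Γ(X, U)] :
    ringKrullDim Γ(X, U) = topologicalKrullDim X := by
  haveI : IsFractionRing Γ(X, U) X.functionField := functionField_isFractionRing_of_isAffineOpen X U hU
  letI := Curv2.stalkAlgebra k X (genericPoint X)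
  haveI : IsScalarTower k Γ(X, U) X.functionField := IsScalarTower.of_algebraMap_eq fun c => by
    rw [hk]
    change X.presheaf.germ ⊤ (genericPoint X) trivial _ = X.presheaf.germ U (genericPoint X) _
      ((X ↘ Spec (CommRingCat.of k)).appLE ⊤ U le_top _)
    exact (X.presheaf.germ_res_apply (homOfLE le_top) _ _ _).symm
  obtain ⟨s, hs, hs'⟩ := CurveFFLib.trdeg_functionField (k := k) (X := X)
  obtain ⟨t, ht, ht'⟩ := WeilLib.dim_eq_trdeg k Γ(X, U) X.functionField
  rw [hs, ht]
  exact_mod_cast (hs'.symm.trans ht').symm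

/-- Quasi-finite maps between regular varieties of the same dimension are flat. -/
theorem flat_quasiFiniteLocus {k : Type u} [Field k] {X Y : Scheme.{u}}
    [X.Over (Spec (CommRingCat.of k))] [Y.Over (Spec (CommRingCat.of k))]
    [LocallyOfFiniteType (X ↘ Spec (CommRingCat.of k))]
    [LocallyOfFiniteType (Y ↘ Spec (CommRingCat.of k))]
    [IsIntegral X] [IsIntegral Y] (f : X ⟶ Y) [LocallyOfFiniteType f]
    (hf : f ≫ (Y ↘ Spec (CommRingCat.of k)) = X ↘ Spec (CommRingCat.of k))
    (hdim : topologicalKrullDim ↥X = topologicalKrullDim ↥Y)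
    (hX : ∀ x : X, IsRegularLocalRing (X.presheaf.stalk x))
    (hY : ∀ y : Y, IsRegularLocalRing (Y.presheaf.stalk y)) : Flat (f.quasiFiniteLocus.ι ≫ f) := by
  haveI : IsLocallyNoetherian Y := LocallyOfFiniteType.isLocallyNoetherian (Y ↘ Spec (CommRingCat.of k))
  haveI : IsLocallyNoetherian X := LocallyOfFiniteType.isLocallyNoetherian (X ↘ Spec (CommRingCat.of k))
  haveI : LocallyQuasiFinite (f.quasiFiniteLocus.ι ≫ f) := inferInstance
  refine Flat.of_stalkMap _ fun z => ?_
  obtain ⟨U, hU, hyU, -⟩ := exists_isAffineOpen_mem_and_subset (show f z.1 ∈ (⊤ : Y.Opens) from trivial)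
  obtain ⟨W, hW, hxW, hWU⟩ := exists_isAffineOpen_mem_and_subset
    (show z.1 ∈ f.quasiFiniteLocus ⊓ f ⁻¹ᵁ U from ⟨z.2, hyU⟩)
  have hWq : W ≤ f.quasiFiniteLocus := le_trans hWU inf_le_left
  have hWU' : W ≤ f ⁻¹ᵁ U := le_trans hWU inf_le_right
  have key : (f.stalkMap z.1).hom.Flat := ?_
  · rw [Scheme.Hom.stalkMap_comp]
    exact (RingHom.Flat.respectsIso.cancel_right_isIso _ _).mpr key
  suffices h : Flat (f.resLE U W hWU') by
    have h' : Flat (W.ι ≫ f) := by
      rw [← Scheme.Hom.resLE_comp_ι f hWU']
      infer_instance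
    haveI := h'
    have hcancel : ∀ w : (W : Scheme.{u}), ((W.ι ≫ f).stalkMap w).hom.Flat → (f.stalkMap (W.ι w)).hom.Flat := by
      intro w h2
      haveI : IsIso (W.ι.stalkMap w) := inferInstance
      rw [Scheme.Hom.stalkMap_comp] at h2
      exact (RingHom.Flat.respectsIso.cancel_right_isIso _ _).mp h2
    exact hcancel ⟨z.1, hxW⟩ (Flat.stalkMap _ _)
  haveI : IsAffine (U : Scheme.{u}) := hU
  haveI : IsAffine (W : Scheme.{u}) := hW
  rw [HasRingHomProperty.iff_of_isAffine (P := @Flat)]
  refine (RingHom.Flat.respectsIso.arrow_mk_iso_iff (arrowResLEAppIso f U W hWU')).mpr ?_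
  haveI : LocallyQuasiFinite (f.resLE U W hWU') := by
    haveI : LocallyQuasiFinite (f.resLE U W hWU' ≫ U.ι) := by
      rw [Scheme.Hom.resLE_comp_ι, ← X.homOfLE_ι hWq, Category.assoc]
      infer_instance
    exact LocallyQuasiFinite.of_comp _ U.ι
  have hqf : (f.appLE U W hWU').hom.QuasiFinite :=
    (RingHom.QuasiFinite.respectsIso.arrow_mk_iso_iff (arrowResLEAppIso f U W hWU')).mp
      ((HasRingHomProperty.iff_of_isAffine (P := @LocallyQuasiFinite)).mp inferInstance)
  haveI : Nonempty (W : Scheme.{u}) := ⟨⟨z.1, hxW⟩⟩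
  haveI : Nonempty (U : Scheme.{u}) := ⟨⟨f z.1, hyU⟩⟩
  letI algA : Algebra k Γ(Y, U) := (((Y ↘ Spec (CommRingCat.of k)).appLE ⊤ U le_top).hom.comp
    (Scheme.ΓSpecIso (CommRingCat.of k)).inv.hom).toAlgebra
  letI algB : Algebra k Γ(X, W) := (((X ↘ Spec (CommRingCat.of k)).appLE ⊤ W le_top).hom.comp
    (Scheme.ΓSpecIso (CommRingCat.of k)).inv.hom).toAlgebra
  haveI : Algebra.FiniteType k Γ(Y, U) :=
    RingHom.finiteType_respectsIso.2 _ (Scheme.ΓSpecIso (CommRingCat.of k)).symm.commRingCatIsoToRingEquiv
      ((Y ↘ Spec (CommRingCat.of k)).finiteType_appLE (isAffineOpen_top _) hU le_top)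
  haveI : Algebra.FiniteType k Γ(X, W) :=
    RingHom.finiteType_respectsIso.2 _ (Scheme.ΓSpecIso (CommRingCat.of k)).symm.commRingCatIsoToRingEquiv
      ((X ↘ Spec (CommRingCat.of k)).finiteType_appLE (isAffineOpen_top _) hW le_top)
  letI := (f.appLE U W hWU').hom.toAlgebra
  haveI : IsScalarTower k Γ(Y, U) Γ(X, W) := IsScalarTower.of_algebraMap_eq' (by
    show ((X ↘ Spec (CommRingCat.of k)).appLE ⊤ W le_top).hom.comp _ =
      (f.appLE U W hWU').hom.comp (((Y ↘ Spec (CommRingCat.of k)).appLE ⊤ U le_top).hom.comp _)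
    rw [← RingHom.comp_assoc, ← CommRingCat.hom_comp _ (f.appLE U W hWU')]
    exact congrArg (fun t => CommRingCat.Hom.hom t |>.comp (Scheme.ΓSpecIso (CommRingCat.of k)).inv.hom)
      ((OmegaSh.appLE_congr_hom hf.symm _ _).trans
        (Scheme.Hom.appLE_comp_appLE f (Y ↘ Spec (CommRingCat.of k)) ⊤ U W le_top hWU').symm))
  haveI : Algebra.QuasiFinite Γ(Y, U) Γ(X, W) := hqf
  haveI := RegLCILib.isRegularRing_section hY hU
  haveI := RegLCILib.isRegularRing_section hX hW
  exact flat_of_quasiFinite k (by rw [ringKrullDim_chart (k := k) Y hU rfl, ringKrullDim_chart (k := k) X hW rfl, hdim])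


/-- Let k be a field, X and Y integral schemes of finite type over k of the same dimension whose local
rings are all regular, and f : X → Y a dominant and separated k-morphism; let d be the degree of the
residue field of the generic point of X over that of the generic point of Y, a finite extension.
Then for every point y of Y, either the fibre X_y has positive dimension — it is not finite over
κ(y) — or its ring of global sections has dimension at most d over κ(y). (The published statement
speaks of length; the κ(y)-rank used here is at least the length, so this form implies the printed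
one. The published statement does not mention separatedness: for the affine line with doubled origin
mapping to the affine line — regular, dominant, degree 1 — the fibre over the origin is two reduced
points, of rank 2; the étale-local splitting of a quasi-finite morphism used in the published proof
needs f separated, so f is taken separated here.) -/
theorem result (k : Type u) [Field k] {X Y : Scheme.{u}}
    [X.Over (Spec (CommRingCat.of k))] [Y.Over (Spec (CommRingCat.of k))]
    [LocallyOfFiniteType (X ↘ Spec (CommRingCat.of k))] [QuasiCompact (X ↘ Spec (CommRingCat.of k))]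
    [LocallyOfFiniteType (Y ↘ Spec (CommRingCat.of k))] [QuasiCompact (Y ↘ Spec (CommRingCat.of k))]
    [IsIntegral X] [IsIntegral Y] (f : X ⟶ Y) [IsDominant f]
    (hf : f ≫ (Y ↘ Spec (CommRingCat.of k)) = X ↘ Spec (CommRingCat.of k))
    (hdim : topologicalKrullDim ↥X = topologicalKrullDim ↥Y)
    [IsSeparated f] (hX : ∀ x : X, IsRegularLocalRing (X.presheaf.stalk x))
    (hY : ∀ y : Y, IsRegularLocalRing (Y.presheaf.stalk y)) (y : Y)
    (hy : IsFinite (pullback.snd f (Y.fromSpecResidueField y))) :
    (letI := ((Scheme.ΓSpecIso (CommRingCat.of (Y.residueField y))).inv ≫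
            (pullback.snd f (Y.fromSpecResidueField y)).appTop).hom.toAlgebra;
          Module.finrank (Y.residueField y) ↑(Γ(pullback f (Y.fromSpecResidueField y), ⊤))) ≤
      (letI := (f.residueFieldMap (genericPoint ↥X)).hom.toAlgebra;
          Module.finrank (Y.residueField (f.base (genericPoint ↥X))) (X.residueField (genericPoint ↥X))) := by
  obtain ⟨hres, U, ⟨⟨u, hu⟩⟩, hU⟩ := Groth.Agent.S14041.result k f hf hdim
  have hηU : genericPoint Y ∈ U := ((genericPoint_spec Y).mem_open_set_iff U.2).mpr ⟨u, trivial, hu⟩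
  obtain ⟨hηfin, hηd⟩ := hU (genericPoint Y) hηU
  haveI : LocallyOfFiniteType f := by
    haveI : LocallyOfFiniteType (f ≫ (Y ↘ Spec (CommRingCat.of k))) := by rw [hf]; infer_instance
    exact locallyOfFiniteType_of_comp f (Y ↘ Spec (CommRingCat.of k))
  haveI : IsLocallyNoetherian Y := LocallyOfFiniteType.isLocallyNoetherian (Y ↘ Spec (CommRingCat.of k))
  haveI : LocallyOfFinitePresentation f := inferInstance
  haveI := flat_quasiFiniteLocus f hf hdim hX hY
  haveI : LocallyQuasiFinite (f.quasiFiniteLocus.ι ≫ f) := inferInstance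
  have hmem : ∀ y : Y, IsFinite (pullback.snd f (Y.fromSpecResidueField y)) →
      (∀ x, f x = y → x ∈ f.quasiFiniteLocus) ∧ (f ⁻¹' {y}).Finite := by
    intro y hy
    haveI : IsFinite (f.fiberToSpecResidueField y) := hy
    haveI : DiscreteTopology ↥(f.fiber y) :=
      FibDegLib.discreteTopology (K := Y.residueField y) (f.fiberToSpecResidueField y)
    haveI : CompactSpace ↥(f.fiber y) := QuasiCompact.compactSpace_of_compactSpace (f.fiberToSpecResidueField y)
    haveI : Finite ↥(f.fiber y) := finite_of_compact_of_discrete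
    refine ⟨?_, ?_⟩
    · rintro x rfl
      rw [Scheme.Hom.mem_quasiFiniteLocus, Scheme.Hom.quasiFiniteAt_iff_isOpen_singleton_asFiber]
      exact isOpen_discrete _
    · rw [← f.range_fiberι y]
      exact Set.finite_range _
  obtain ⟨hy1, hy2⟩ := hmem y hy
  obtain ⟨hη1, hη2⟩ := hmem _ hηfin
  obtain ⟨N, hyN, hN⟩ := FibDegLib.exists_nhd_rk_le (f.quasiFiniteLocus.ι ≫ f) (s := y)
    ((hy2.preimage f.quasiFiniteLocus.ι.isOpenEmbedding.injective.injOn).subset fun _ hx => hx)
  have hle := hN (genericPoint Y) (((genericPoint_spec Y).mem_open_set_iff N.2).mpr ⟨y, trivial, hyN⟩)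
  rw [rk_opens_eq f f.quasiFiniteLocus hy1, rk_opens_eq f f.quasiFiniteLocus hη1] at hle
  refine le_trans ?_ hηd.le
  refine Cardinal.toNat_le_toNat hle ?_
  obtain ⟨V, hV, hηV, -⟩ := exists_isAffineOpen_mem_and_subset (show genericPoint Y ∈ (⊤ : Y.Opens) from trivial)
  haveI : IsFinite (f.fiberToSpecResidueField (genericPoint Y)) := hηfin
  letI := ((Scheme.ΓSpecIso (CommRingCat.of (Y.residueField (genericPoint Y)))).inv ≫
      (pullback.snd f (Y.fromSpecResidueField (genericPoint Y))).appTop).hom.toAlgebra
  haveI : Module.Finite (Y.residueField (genericPoint Y)) Γ(pullback f (Y.fromSpecResidueField (genericPoint Y)), ⊤) := by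
    show ((Scheme.ΓSpecIso (CommRingCat.of (Y.residueField (genericPoint Y)))).inv ≫
      (pullback.snd f (Y.fromSpecResidueField (genericPoint Y))).appTop).hom.Finite
    rw [CommRingCat.hom_comp]
    exact RingHom.Finite.comp (pullback.snd f (Y.fromSpecResidueField (genericPoint Y))).finite_appTop
      (RingHom.Finite.of_surjective _ (ConcreteCategory.bijective_of_isIso _).2)
  exact Module.rank_lt_aleph0 (Y.residueField (genericPoint Y))
    Γ(pullback f (Y.fromSpecResidueField (genericPoint Y)), ⊤)

end Groth.Agent.S14042
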