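import Groth.Statements.S14043
import Mathlib


-- import your own Groth.Agent.* helpers here

set_option autoImplicit false
universe u v
open W4c1frobunstiva

namespace Groth.Agent.S14043

/-- Let R be a commutative Noetherian ring, M an R-module that is NR-free of rank r — generated by some
r elements all of whose linear relations have nilpotent coefficients — and m, m' two generating
families of M, each indexed by the same finite set of size r. Then some invertible r × r matrix T
over R expresses m' in terms of m, m'_j = Σ_i T_{ji} m_i; reducing modulo the nilradical n, such a T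
induces the change-of-basis matrix between the bases of M/nM given by the images of m and m' (an
r-element generating family of M is itself an NR-basis), so only the existence of an invertible T is
asserted here. (T is not unique.) -/
theorem result (R : Type u) [CommRing R]
    [IsNoetherianRing R] (M : Type v) [AddCommGroup M] [Module R M] (r : ℕ)
    (hM : W4c1frobunstiva.IsNRFree R M r) (m m' : Fin r → M)
    (hm : Submodule.span R (Set.range m) = ⊤) (hm' : Submodule.span R (Set.range m') = ⊤) :
    ∃ T : Matrix (Fin r) (Fin r) R, IsUnit T ∧ ∀ j, m' j = ∑ i, T j i • m i := by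
  classical
  obtain ⟨m₀, hm₀, hnil⟩ := hM
  have hex : ∀ (v w : Fin r → M), Submodule.span R (Set.range v) = ⊤ → ∃ T : Matrix (Fin r) (Fin r) R, ∀ j, w j = ∑ i, T j i • v i := fun v w hv => by
    have : ∀ j, ∃ c : Fin r → R, ∑ i, c i • v i = w j := fun j => (Submodule.mem_span_range_iff_exists_fun R).1 (hv ▸ Submodule.mem_top)
    choose c hc using this
    exact ⟨Matrix.of c, fun j => (hc j).symm⟩
  let q := Ideal.Quotient.mk (nilradical R)
  have hunit : ∀ (v w : Fin r → M) (U T : Matrix (Fin r) (Fin r) R), (∀ j, v j = ∑ i, U j i • w i) → (∀ j, w j = ∑ i, T j i • v i) →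
      ∀ j, v j = ∑ l, (U * T) j l • v l := by
    intro v w U T hU hT j
    rw [hU j]
    simp only [Matrix.mul_apply, Finset.sum_smul, hT, Finset.smul_sum, smul_smul]
    exact Finset.sum_comm
  obtain ⟨U₀, hU₀⟩ := hex m₀ m hm₀
  obtain ⟨V₀, hV₀⟩ := hex m m₀ hm
  obtain ⟨U, hU⟩ := hex m₀ m' hm₀
  obtain ⟨V, hV⟩ := hex m' m₀ hm'
  have hone : ∀ N : Matrix (Fin r) (Fin r) R, (∀ j, m₀ j = ∑ l, N j l • m₀ l) → IsUnit N := by
    intro N hN
    rw [Matrix.isUnit_iff_isUnit_det]
    have h1 : N.map q = 1 := by
      ext j l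
      have h2 : ∑ l, (N j l - (1 : Matrix (Fin r) (Fin r) R) j l) • m₀ l = 0 := by
        simp [sub_smul, Finset.sum_sub_distrib, ← hN j, Matrix.one_apply]
      have h3 : q (N j l - (1 : Matrix (Fin r) (Fin r) R) j l) = 0 := Ideal.Quotient.eq_zero_iff_mem.2 (hnil _ h2 l)
      rw [map_sub, sub_eq_zero] at h3
      simp [Matrix.map_apply, h3, Matrix.one_apply, apply_ite q]
    have h4 : IsUnit (q N.det) := by rw [RingHom.map_det, RingHom.mapMatrix_apply, h1, Matrix.det_one]; exact isUnit_one
    obtain ⟨y, hy⟩ := h4.exists_left_inv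
    obtain ⟨w, rfl⟩ := Ideal.Quotient.mk_surjective y
    rw [← map_mul, ← map_one q, Ideal.Quotient.eq] at hy
    have h5 : IsUnit (w * N.det) := by
      have := IsNilpotent.isUnit_add_one (mem_nilradical.1 hy)
      rwa [sub_add_cancel] at this
    exact isUnit_of_mul_isUnit_right h5
  have h1 := hone (V₀ * U₀) (hunit m₀ m V₀ U₀ hV₀ hU₀)
  have h2 := hone (V * U) (hunit m₀ m' V U hV hU)
  rw [Matrix.isUnit_iff_isUnit_det, Matrix.det_mul, IsUnit.mul_iff] at h1 h2
  refine ⟨U * V₀, by rw [Matrix.isUnit_iff_isUnit_det, Matrix.det_mul]; exact h2.2.mul h1.1, fun j => ?_⟩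
  rw [hU j]
  simp only [Matrix.mul_apply, Finset.sum_smul, hV₀, Finset.smul_sum, smul_smul]
  exact Finset.sum_comm

end Groth.Agent.S14043
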