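import Groth.Statements.S14044
import Mathlib

set_option autoImplicit false
set_option backward.isDefEq.respectTransparency false
set_option backward.isDefEq.respectTransparency.types false
set_option maxHeartbeats 1000000
set_option synthInstance.maxHeartbeats 400000
universe u
open W4c1frobunstiva

namespace Groth.Agent.S14044

open PowerSeries Matrix in
/-- Block matrix `[[a, w], [0, A]]`. -/
private def blk {R : Type u} [CommRing R] {r : ℕ} (a : R) (w : Fin r → R) (A : Matrix (Fin r) (Fin r) R) :
    Matrix (Fin (r + 1)) (Fin (r + 1)) R :=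
  Matrix.of (Fin.cons (Fin.cons a w) fun i => Fin.cons 0 (A i))

open Matrix in
private theorem blk_mul {R : Type u} [CommRing R] {r : ℕ} (a b : R) (w v : Fin r → R)
    (A B : Matrix (Fin r) (Fin r) R) :
    blk a w A * blk b v B = blk (a * b) (a • v + w ᵥ* B) (A * B) := by
  ext i j
  rw [Matrix.mul_apply, Fin.sum_univ_succ]
  refine Fin.cases ?_ (fun i => ?_) i <;> refine Fin.cases ?_ (fun j => ?_) j <;>
    simp [blk, Matrix.mul_apply, vecMul, dotProduct]

open Matrix in
private theorem blk_det {R : Type u} [CommRing R] {r : ℕ} (a : R) (w : Fin r → R)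
    (A : Matrix (Fin r) (Fin r) R) : (blk a w A).det = a * A.det := by
  rw [det_succ_column_zero, Fin.sum_univ_succ]
  simp [blk, Matrix.submatrix]
  congr 1

open Matrix in
private theorem blk_isUnit {R : Type u} [CommRing R] {r : ℕ} {a : R} (w : Fin r → R)
    {A : Matrix (Fin r) (Fin r) R} (ha : IsUnit a) (hA : IsUnit A) : IsUnit (blk a w A) := by
  rw [Matrix.isUnit_iff_isUnit_det, blk_det]
  exact ha.mul ((Matrix.isUnit_iff_isUnit_det A).1 hA)

open PowerSeries Matrix in
/-- Reduce a row modulo the rows of a triangular matrix. -/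
private theorem reduce_row {k : Type u} [Field k] : ∀ (r : ℕ) (T : Matrix (Fin r) (Fin r) (PowerSeries k))
    (e : Fin r → ℕ), (∀ i, T i i = X ^ e i) → (∀ i j, j < i → T i j = 0) → ∀ w : Fin r → PowerSeries k,
    ∃ c, ∀ j n, e j ≤ n → coeff n ((w + c ᵥ* T) j) = 0 := by
  intro r
  induction r with
  | zero => exact fun T e _ _ w => ⟨0, fun j => j.elim0⟩
  | succ r ih =>
    intro T e hd ht w
    let c0 : PowerSeries k := - PowerSeries.mk fun n => coeff (n + e 0) (w 0)
    obtain ⟨c, hc⟩ := ih (Matrix.of fun i j => T i.succ j.succ) (fun i => e i.succ) (fun i => hd i.succ)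
      (fun i j h => ht _ _ (Fin.succ_lt_succ_iff.2 h)) (fun j => w j.succ + c0 * T 0 j.succ)
    refine ⟨Fin.cons c0 c, fun j n hn => ?_⟩
    have hj : ((Fin.cons c0 c : Fin (r + 1) → PowerSeries k) ᵥ* T) j = c0 * T 0 j + ∑ i, c i * T i.succ j := by
      simp [vecMul, dotProduct, Fin.sum_univ_succ]
    rw [Pi.add_apply, hj]
    revert hn
    refine Fin.cases ?_ (fun j => ?_) j <;> intro hn
    · simp only [ht _ _ (Fin.succ_pos _), mul_zero, Finset.sum_const_zero, add_zero, hd, map_add, c0,
        neg_mul, map_neg]
      rw [coeff_mul_X_pow', if_pos hn, coeff_mk, Nat.sub_add_cancel hn, add_neg_cancel]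
    · have := hc j n hn
      simpa [vecMul, dotProduct, add_assoc] using this

open PowerSeries Matrix in
private theorem main {k : Type u} [Field k] (p : ℕ) : ∀ (r : ℕ) (M : Matrix (Fin r) (Fin r) (PowerSeries k)),
    M.det ≠ 0 → ∃ (N P : Matrix (Fin r) (Fin r) (PowerSeries k)) (e : Fin r → ℕ), IsUnit N ∧ IsUnit P ∧
      (∀ i j n, ¬ p ∣ n → PowerSeries.coeff n (P i j) = 0) ∧
      (∀ i, (N * M * P) i i = PowerSeries.X ^ e i) ∧ (∀ i j, j < i → (N * M * P) i j = 0) ∧
      (∀ i j, i < j → ∀ n, (e j ≤ n ∨ (e i ≤ n ∧ n % p = e i % p)) →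
        PowerSeries.coeff n ((N * M * P) i j) = 0) := by
  intro r
  induction r with
  | zero => exact fun M _ => ⟨1, 1, fun _ => 0, isUnit_one, isUnit_one, fun i => i.elim0, fun i => i.elim0,
      fun i => i.elim0, fun i => i.elim0⟩
  | succ r ih =>
    intro M hM
    -- minimal order in the first column
    obtain ⟨i₁, hi₁⟩ : ∃ i, M i 0 ≠ 0 := by
      by_contra! h; exact hM (det_eq_zero_of_column_eq_zero 0 h)
    have hex : ∃ m, ∃ i, coeff m (M i 0) ≠ 0 := by
      obtain ⟨m, hm⟩ : ∃ m, coeff m (M i₁ 0) ≠ 0 := by
        by_contra! h; exact hi₁ (PowerSeries.ext fun m => by simpa using h m)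
      exact ⟨m, i₁, hm⟩
    classical
    let m := Nat.find hex
    obtain ⟨i₀, hi₀⟩ : ∃ i, coeff m (M i 0) ≠ 0 := Nat.find_spec hex
    let u : Fin (r + 1) → PowerSeries k := fun i => PowerSeries.mk fun n => coeff (n + m) (M i 0)
    have hu : ∀ i, M i 0 = X ^ m * u i := fun i => PowerSeries.ext fun n => by
      rw [coeff_X_pow_mul']
      split_ifs with h
      · rw [coeff_mk, Nat.sub_add_cancel h]
      · by_contra hh; exact Nat.find_min hex (not_le.1 h) ⟨i, hh⟩
    have hu0 : IsUnit (u i₀) := by
      rw [isUnit_iff_constantCoeff, ← coeff_zero_eq_constantCoeff_apply, coeff_mk, zero_add]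
      exact isUnit_iff_ne_zero.2 hi₀
    let s := Equiv.swap (0 : Fin (r + 1)) i₀
    let B : Matrix (Fin (r + 1)) (Fin (r + 1)) (PowerSeries k) :=
      (1 : Matrix (Fin (r + 1)) (Fin (r + 1)) (PowerSeries k)).updateCol 0 fun i => u (s i)
    have hB : IsUnit B.det := by
      have : B.det = u i₀ := by
        rw [det_of_isLowerTriangular, Fin.prod_univ_succ]
        · simp [B, updateCol_apply, s, Fin.succ_ne_zero]
        · intro i j hij
          have hij' : i < j := hij
          have hj : j ≠ 0 := fun h => by subst h; exact Fin.not_lt_zero i hij'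
          simp [B, updateCol_apply, hj, hij'.ne]
      rw [this]; exact hu0
    let N₁ := B⁻¹ * (1 : Matrix (Fin (r + 1)) (Fin (r + 1)) (PowerSeries k)).submatrix s id
    have hS : IsUnit ((1 : Matrix (Fin (r + 1)) (Fin (r + 1)) (PowerSeries k)).submatrix s id) := by
      rw [isUnit_iff_isUnit_det, det_permute]
      simp only [det_one, mul_one]
      exact ((Int.castRingHom (PowerSeries k)).isUnit_map (Units.isUnit (Equiv.Perm.sign s)))
    have hN₁ : IsUnit N₁ := ((isUnit_iff_isUnit_det _).2 (isUnit_nonsing_inv_det B hB)).mul hS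
    have hcol : ∀ i, (N₁ * M) i 0 = if i = 0 then X ^ m else 0 := by
      intro i
      have h1 : ∀ l, ((1 : Matrix (Fin (r + 1)) (Fin (r + 1)) (PowerSeries k)).submatrix s id * M) l 0 = B l 0 * X ^ m := fun l => by
        simp [Matrix.mul_apply, B, updateCol_apply, hu, Matrix.one_apply, mul_comm]
      rw [show N₁ * M = B⁻¹ * ((1 : Matrix (Fin (r + 1)) (Fin (r + 1)) (PowerSeries k)).submatrix s id * M) from
        Matrix.mul_assoc _ _ _, Matrix.mul_apply]
      simp only [h1, ← mul_assoc, ← Finset.sum_mul, ← Matrix.mul_apply, nonsing_inv_mul B hB]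
      rw [Matrix.one_apply]; split_ifs <;> simp
    let M'' : Matrix (Fin r) (Fin r) (PowerSeries k) := Matrix.of fun i j => (N₁ * M) i.succ j.succ
    let w : Fin r → PowerSeries k := fun j => (N₁ * M) 0 j.succ
    have hblk : N₁ * M = blk (X ^ m) w M'' := by
      ext i j
      refine Fin.cases ?_ (fun i => ?_) i <;> refine Fin.cases ?_ (fun j => ?_) j <;>
        simp [blk, hcol, w, M'', Fin.succ_ne_zero]
    have hM'' : M''.det ≠ 0 := by
      intro h
      have : (N₁ * M).det = 0 := by rw [hblk, blk_det, h, mul_zero]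
      rw [det_mul] at this
      exact hM ((((isUnit_iff_isUnit_det _).1 hN₁).mul_right_eq_zero).1 this)
    obtain ⟨N'', P'', e, hN, hP, hPp, hdiag, htri, hred⟩ := ih M'' hM''
    obtain ⟨c, hc⟩ := reduce_row r _ e hdiag htri (w ᵥ* P'')
    set T := N'' * M'' * P'' with hT
    set v := w ᵥ* P'' + c ᵥ* T with hv
    let q : Fin r → PowerSeries k := fun j => PowerSeries.mk fun n => if p ∣ n then - coeff (n + m) (v j) else 0
    have hprod : (blk 1 c 1 * blk 1 0 N'' * N₁) * M * (blk 1 0 P'' * blk 1 q 1) =
        blk (X ^ m) (v + (X ^ m : PowerSeries k) • q) T := by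
      have e0 : (blk 1 c 1 * blk 1 0 N'' * N₁) * M * (blk 1 0 P'' * blk 1 q 1) =
          blk 1 c 1 * (blk 1 0 N'' * blk (X ^ m) w M'' * blk 1 0 P'') * blk 1 q 1 := by
        rw [← hblk]; simp only [Matrix.mul_assoc]
      rw [e0, blk_mul, blk_mul, blk_mul, blk_mul]
      simp only [one_mul, mul_one, smul_zero, zero_add, add_zero, one_smul, Matrix.one_mul, Matrix.mul_one,
        vecMul_one, Matrix.zero_vecMul, zero_smul, hv, hT]
      congr 1
      abel
    refine ⟨blk 1 c 1 * blk 1 0 N'' * N₁, blk 1 0 P'' * blk 1 q 1, Fin.cons m e,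
      ((blk_isUnit c isUnit_one isUnit_one).mul (blk_isUnit 0 isUnit_one hN)).mul hN₁,
      (blk_isUnit 0 isUnit_one hP).mul (blk_isUnit q isUnit_one isUnit_one), ?_, ?_, ?_, ?_⟩
    · intro i j n hn
      have hn0 : n ≠ 0 := fun h => hn (h ▸ dvd_zero p)
      rw [blk_mul]
      refine Fin.cases ?_ (fun i => ?_) i <;> refine Fin.cases ?_ (fun j => ?_) j <;>
        simp [blk, q, hn, hn0, PowerSeries.coeff_one, hPp _ _ _ hn]
    · intro i
      rw [hprod]
      refine Fin.cases ?_ (fun i => ?_) i <;> simp [blk, hdiag]
    · intro i j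
      rw [hprod]
      refine Fin.cases ?_ (fun i => ?_) i <;> refine Fin.cases ?_ (fun j => ?_) j <;>
        simp [blk] <;> intro h
      exact htri _ _ h
    · intro i j
      rw [hprod]
      refine Fin.cases ?_ (fun i => ?_) i <;> refine Fin.cases ?_ (fun j => ?_) j <;> intro hij n hn
      · exact absurd hij (lt_irrefl _)
      · simp only [Fin.cons_zero, Fin.cons_succ] at hn
        simp only [blk, Matrix.of_apply, Fin.cons_zero, Fin.cons_succ, Pi.add_apply, Pi.smul_apply,
          smul_eq_mul, map_add, coeff_X_pow_mul']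
        split_ifs with hmn
        · simp only [q, coeff_mk, Nat.sub_add_cancel hmn]
          split_ifs with hd
          · simp
          · rw [add_zero]
            refine hc j n (hn.resolve_right fun hh => hd ((Nat.modEq_iff_dvd' hmn).1 hh.2.symm))
        · rw [add_zero]
          exact hc j n (hn.resolve_right fun hh => hmn hh.1)
      · exact absurd hij (Fin.not_lt_zero _)
      · simp only [Fin.cons_succ] at hn
        simpa [blk] using hred _ _ (Fin.succ_lt_succ_iff.1 hij) n hn


/-- Let k be a field, p a prime number and M a square matrix of size r over k[[t]] with non-zero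
determinant. Allowing, besides invertible row operations over k[[t]], invertible column operations
by matrices with entries in k[[t^p]] (power series whose coefficients vanish in all degrees not
divisible by p), M can be brought to a row-reduced form — upper triangular, diagonal entries
t^{e_i}, entries above the diagonal in column j polynomials of degree less than e_j — in which in
addition the (i, j) entry (i < j) has no term in a degree that is at least e_i and congruent to e_i
modulo p. (Existence only; the form is not unique. The published statement asks that no term in any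
degree congruent to e_i modulo p remain; the published reduction — adding k[[t^p]]-multiples of
column i to column j — removes exactly the terms of degree at least e_i, which is what is asserted
here. The published statement takes k algebraically closed of characteristic p, where k[[t^p]] is
the ring of p-th powers; neither assumption is used.) -/
theorem result (k : Type u)
    [Field k] (p : ℕ) [Fact p.Prime] (r : ℕ) (M : Matrix (Fin r) (Fin r) (PowerSeries k))
    (hM : M.det ≠ 0) :
    ∃ (N P : Matrix (Fin r) (Fin r) (PowerSeries k)) (e : Fin r → ℕ), IsUnit N ∧ IsUnit P ∧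
      (∀ i j n, ¬ p ∣ n → PowerSeries.coeff n (P i j) = 0) ∧
      (∀ i, (N * M * P) i i = PowerSeries.X ^ e i) ∧ (∀ i j, j < i → (N * M * P) i j = 0) ∧
      (∀ i j, i < j → ∀ n, (e j ≤ n ∨ (e i ≤ n ∧ n % p = e i % p)) →
        PowerSeries.coeff n ((N * M * P) i j) = 0) := by
  exact main p r M hM

end Groth.Agent.S14044
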