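import Groth.Statements.S14046
import Mathlib


-- import your own Groth.Agent.* helpers here

set_option autoImplicit false
universe u v w
open W4c1frobunstiva

namespace Groth.Agent.S14046

open TensorProduct in
/-- Let R → A be a homomorphism of commutative rings and I, J ideals of A with I ∩ J = 0 — so that A is
the fibre product of A/I and A/J over A/(I + J), i.e. Spec A is the union of the two closed
subschemes in the strong sense — and suppose A/(I + J) is flat over R. Then this persists under
every base change: for every commutative R-algebra R', the ideals generated by I and J in R' ⊗_R A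
again meet in 0. (This is the ideal-theoretic, affine form of the base-change step; the exact
sequence of unit sheaves deduced from it in the published statement — restriction of units to a
closed subscheme being surjective locally — is not restated. Without flatness of A/(I + J) the
conclusion fails: for A = k[x, y]/(xy) over R = k[u] with u ↦ x + y, I = (x) and J = (y), the base
change to R/(u) gives k[x]/(x²), in which both ideals become (x).) -/
theorem result (R : Type u) (A : Type v)
    [CommRing R] [CommRing A] [Algebra R A] (I J : Ideal A) (hIJ : I ⊓ J = ⊥)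
    [Module.Flat R (A ⧸ (I ⊔ J))] (R' : Type w) [CommRing R'] [Algebra R R'] :
    I.map (Algebra.TensorProduct.includeRight : A →ₐ[R] R' ⊗[R] A) ⊓
      J.map (Algebra.TensorProduct.includeRight : A →ₐ[R] R' ⊗[R] A) = ⊥ := by
  let f : A →ₗ[R] (A ⧸ I) × (A ⧸ J) := (Ideal.Quotient.mkₐ R I).toLinearMap.prod (Ideal.Quotient.mkₐ R J).toLinearMap
  let g : (A ⧸ I) × (A ⧸ J) →ₗ[R] A ⧸ (I ⊔ J) :=
    (Ideal.Quotient.factorₐ R (le_sup_left : I ≤ I ⊔ J)).toLinearMap ∘ₗ LinearMap.fst R _ _ - (Ideal.Quotient.factorₐ R (le_sup_right : J ≤ I ⊔ J)).toLinearMap ∘ₗ LinearMap.snd R _ _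
  have hg : Function.Surjective g := fun z => by
    obtain ⟨a, rfl⟩ := Ideal.Quotient.mk_surjective z
    exact ⟨(Ideal.Quotient.mk I a, 0), by simp [g]⟩
  have hf : Function.Injective f := by
    rw [injective_iff_map_eq_zero]
    intro a ha
    have : a ∈ I ⊓ J := ⟨Ideal.Quotient.eq_zero_iff_mem.1 (congrArg Prod.fst ha), Ideal.Quotient.eq_zero_iff_mem.1 (congrArg Prod.snd ha)⟩
    simpa [hIJ] using this
  have hex : Function.Exact f g := by
    rintro ⟨u, v⟩
    obtain ⟨u, rfl⟩ := Ideal.Quotient.mk_surjective u
    obtain ⟨v, rfl⟩ := Ideal.Quotient.mk_surjective v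
    constructor
    · intro h
      have : u - v ∈ I ⊔ J := Ideal.Quotient.eq.1 (sub_eq_zero.1 (by simpa [g] using h))
      obtain ⟨i, hi, j, hj, e⟩ := Submodule.mem_sup.1 this
      refine ⟨u - i, Prod.ext (Ideal.Quotient.eq.2 (by simpa using hi)) (Ideal.Quotient.eq.2 ?_)⟩
      rwa [show u - i - v = j by linear_combination -e]
    · rintro ⟨a, ha⟩
      rw [← ha]
      simp [g, f]
  have hinj := LinearMap.lTensor_injective_of_exact_of_flat g hg f hf hex R'
  rw [eq_bot_iff]
  rintro z ⟨hzI, hzJ⟩
  have key : ∀ (K : Ideal A) (z : TensorProduct R R' A), z ∈ K.map (Algebra.TensorProduct.includeRight : A →ₐ[R] TensorProduct R R' A) →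
      (Ideal.Quotient.mkₐ R K).toLinearMap.lTensor R' z = 0 := by
    intro K z hz
    have hle : K.map (Algebra.TensorProduct.includeRight : A →ₐ[R] TensorProduct R R' A) ≤ RingHom.ker (Algebra.TensorProduct.map (AlgHom.id R R') (Ideal.Quotient.mkₐ R K)) := by
      rw [Ideal.map_le_iff_le_comap]
      intro a ha
      simp [Ideal.Quotient.eq_zero_iff_mem.2 ha]
    exact hle hz
  have hz : f.lTensor R' z = 0 := by
    apply (TensorProduct.prodRight R R R' (A ⧸ I) (A ⧸ J)).injective
    have h1 := key I z hzI
    have h2 := key J z hzJ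
    rw [map_zero]
    have e : ∀ w, TensorProduct.prodRight R R R' (A ⧸ I) (A ⧸ J) (f.lTensor R' w) = ((Ideal.Quotient.mkₐ R I).toLinearMap.lTensor R' w, (Ideal.Quotient.mkₐ R J).toLinearMap.lTensor R' w) := by
      intro w
      induction w with
      | zero => simp only [map_zero]; rfl
      | tmul a b => simp [f]
      | add a b ha hb => simp only [map_add, ha, hb, Prod.mk_add_mk]
    rw [e, h1, h2]; rfl
  exact hinj (hz.trans (map_zero _).symm)

end Groth.Agent.S14046
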