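import Groth.Statements.S14048
import Mathlib.RingTheory.Localization.Away.Basic
import Mathlib.Data.Rat.Lemmas
import Mathlib.RingTheory.TensorProduct.Maps
import Mathlib.Data.Nat.Prime.Infinite
-- import your own Groth.Agent.* helpers here

set_option autoImplicit false
universe u
open TensorProduct
open CAlg

namespace Groth.Agent.S14048

/-- Let A be an integral domain in which 2 is invertible and let t be an element of A, so that Spec A is
a scheme over the affine line Spec ℤ[1/2][t]. Assume that (1) the ℚ-algebra map ℚ[X] → ℚ ⊗_ℤ A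
sending X to 1 ⊗ t is bijective (the map Spec A → Spec ℤ[1/2][t] becomes an isomorphism after base
change to ℚ); (2) every prime number is invertible in A/(t) (the fibre over t = 0 is of pure
characteristic zero); and (3) there is a ring homomorphism s : A → ℤ[1/2] with s(t) = 1 (the fibre
over t = 1 admits a section). Then A is not Noetherian. -/
theorem result (A : Type u) [CommRing A]
    [IsDomain A] (h2 : IsUnit (2 : A)) (t : A)
    (h1 : Function.Bijective (Polynomial.aeval (R := ℚ) ((1 : ℚ) ⊗ₜ[ℤ] t : ℚ ⊗[ℤ] A)))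
    (h0 : ∀ p : ℕ, p.Prime → IsUnit ((p : ℕ) : A ⧸ Ideal.span ({t} : Set A)))
    (s : A →+* Localization.Away (2 : ℤ)) (hs : s t = 1) :
    ¬ IsNoetherianRing A := by
  classical
  intro hN
  let e := AlgEquiv.ofBijective (Polynomial.aeval (R := ℚ) ((1 : ℚ) ⊗ₜ[ℤ] t : ℚ ⊗[ℤ] A)) h1
  let incl : A →+* ℚ ⊗[ℤ] A := (Algebra.TensorProduct.includeRight : A →ₐ[ℤ] ℚ ⊗[ℤ] A).toRingHom
  have huniq : ∀ φ φ' : A →+* ℚ, φ t = φ' t → φ = φ' := by
    intro φ φ' h
    let L : (A →+* ℚ) → (ℚ ⊗[ℤ] A →ₐ[ℚ] ℚ) := fun φ =>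
      Algebra.TensorProduct.lift (AlgHom.id ℚ ℚ) φ.toIntAlgHom (fun _ _ => mul_comm _ _)
    have hL : L φ = L φ' := by
      have : (L φ).comp e.toAlgHom = (L φ').comp e.toAlgHom := Polynomial.algHom_ext (by simpa [e, L] using h)
      exact AlgHom.ext fun z => by
        obtain ⟨y, rfl⟩ := e.surjective z
        exact AlgHom.congr_fun this y
    ext a
    simpa [L] using AlgHom.congr_fun hL ((1 : ℚ) ⊗ₜ[ℤ] a)
  let ψ : A →+* Polynomial ℚ :=
    ((Polynomial.aeval (Polynomial.X + 1 : Polynomial ℚ)).comp e.symm.toAlgHom).toRingHom.comp incl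
  have hψt : ψ t = Polynomial.X + 1 := by
    have : e.symm ((1 : ℚ) ⊗ₜ[ℤ] t) = Polynomial.X := e.injective (by simp [e])
    simp [ψ, incl, this]
  let ι : Localization.Away (2 : ℤ) →+* ℚ := IsLocalization.Away.lift (S := Localization.Away (2 : ℤ)) (g := Int.castRingHom ℚ) (2 : ℤ) (by norm_num)
  have hs0 : ∀ a, (ψ a).coeff 0 = ι (s a) := by
    intro a
    have := huniq ((Polynomial.evalRingHom (0 : ℚ)).comp ψ) (ι.comp s) (by simp [hψt, hs])
    rw [Polynomial.coeff_zero_eq_eval_zero]
    exact RingHom.congr_fun this a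
  obtain ⟨G, hG⟩ := (IsNoetherian.noetherian (RingHom.ker s) : (RingHom.ker s).FG)
  obtain ⟨p, hpge, hp⟩ := Nat.exists_infinite_primes (3 + ∑ g ∈ G, ∑ i ∈ Finset.range ((ψ g).natDegree + 1), ((ψ g).coeff i).den)
  haveI := Fact.mk hp
  let R : Subring ℚ :=
    { carrier := {q | ¬ p ∣ q.den}
      mul_mem' := fun {a b} ha hb h => (hp.dvd_mul.mp (h.trans (Rat.mul_den_dvd a b))).elim ha hb
      one_mem' := by simpa using hp.one_lt.ne'
      add_mem' := fun {a b} ha hb h => (hp.dvd_mul.mp (h.trans (Rat.add_den_dvd a b))).elim ha hb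
      zero_mem' := by simpa using hp.one_lt.ne'
      neg_mem' := fun {a} ha => by simpa using ha }
  have hgR : ∀ g ∈ G, ∀ i, (ψ g).coeff i ∈ R := by
    intro g hg i hdvd
    rcases Nat.lt_or_ge i ((ψ g).natDegree + 1) with hi | hi
    · have h1' : ((ψ g).coeff i).den ≤ ∑ g ∈ G, ∑ i ∈ Finset.range ((ψ g).natDegree + 1), ((ψ g).coeff i).den :=
        le_trans (Finset.single_le_sum (f := fun i => ((ψ g).coeff i).den) (fun _ _ => Nat.zero_le _) (Finset.mem_range.mpr hi))
          (Finset.single_le_sum (f := fun g => ∑ i ∈ Finset.range ((ψ g).natDegree + 1), ((ψ g).coeff i).den) (fun _ _ => Nat.zero_le _) hg)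
      have := Nat.le_of_dvd ((ψ g).coeff i).den_pos hdvd
      omega
    · rw [Polynomial.coeff_eq_zero_of_natDegree_lt (by omega)] at hdvd
      exact hp.one_lt.ne' (by simpa using hdvd)
  have hιR : ∀ z, ι z ∈ R := by
    intro z
    obtain ⟨⟨m, ⟨d, n, rfl⟩⟩, hz⟩ := IsLocalization.surj (Submonoid.powers (2 : ℤ)) z
    have hzq : ι z = (m : ℚ) * ((2 : ℚ) ^ n)⁻¹ := by
      have := congrArg ι hz
      rw [map_mul] at this
      simp only [map_pow, map_ofNat] at this
      rw [show ι (algebraMap ℤ _ m) = (m : ℚ) from IsLocalization.Away.lift_eq (2 : ℤ) _ m] at this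
      rw [← this, mul_inv_cancel_right₀ (pow_ne_zero _ two_ne_zero)]
    rw [hzq, ← inv_pow]
    refine mul_mem (intCast_mem R m) (pow_mem ?_ n)
    show ¬ p ∣ ((2 : ℚ)⁻¹).den
    intro h
    have h2d : ((2 : ℚ)⁻¹).den = 2 := by exact_mod_cast Rat.inv_natCast_den_of_pos (a := 2) two_pos
    rw [h2d] at h
    have := Nat.le_of_dvd two_pos h
    omega
  have key : ∀ k : ℕ, ∀ a : A, (ψ a).coeff k ∈ R := by
    intro k
    induction k using Nat.strong_induction_on with
    | _ k ih =>
      intro a
      rcases Nat.eq_zero_or_pos k with rfl | hk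
      · rw [hs0]; exact hιR _
      obtain ⟨⟨m, ⟨d, n, rfl⟩⟩, hz⟩ := IsLocalization.surj (Submonoid.powers (2 : ℤ)) (s a)
      have hker : (2 : A) ^ n * a - (m : A) ∈ RingHom.ker s := by
        rw [RingHom.mem_ker, map_sub, map_mul, map_pow, map_ofNat, map_intCast, sub_eq_zero, mul_comm]
        simpa using hz
      rw [← hG] at hker
      have hall : ∀ f ∈ Submodule.span A (G : Set A), (ψ f).coeff 0 = 0 ∧ (ψ f).coeff k ∈ R := by
        intro f hf
        induction hf using Submodule.span_induction with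
        | mem g hg => exact ⟨by rw [hs0, show s g = 0 from RingHom.mem_ker.mp (by rw [← hG]; exact Submodule.subset_span hg), map_zero], hgR g hg k⟩
        | zero => simp [R.zero_mem]
        | add x y _ _ hx hy => simp only [map_add, Polynomial.coeff_add]; exact ⟨by rw [hx.1, hy.1, add_zero], add_mem hx.2 hy.2⟩
        | smul c x hxG hx =>
          rw [smul_eq_mul, map_mul]
          refine ⟨by rw [Polynomial.mul_coeff_zero, hx.1, mul_zero], ?_⟩
          rw [Polynomial.coeff_mul]
          refine sum_mem fun ij hij => ?_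
          rw [Finset.mem_antidiagonal] at hij
          rcases Nat.eq_zero_or_pos ij.2 with h2 | h2
          · rw [h2, hx.1, mul_zero]; exact R.zero_mem
          · refine mul_mem (ih _ (by omega) c) ?_
            have aux : ∀ j, 0 < j → j < k → (ψ x).coeff j ∈ R := fun j _ hj => ih j hj x
            rcases lt_or_eq_of_le (show ij.2 ≤ k by omega) with hlt | heq
            · exact aux _ h2 hlt
            · exact heq ▸ hx.2
      have h3 := (hall _ hker).2
      rw [map_sub, map_mul, map_pow, map_ofNat, map_intCast, Polynomial.coeff_sub] at h3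
      have hm0 : ((m : Polynomial ℚ)).coeff k = 0 := by
        rw [← Polynomial.C_eq_intCast, Polynomial.coeff_C]; exact if_neg (by omega)
      rw [hm0, sub_zero, ← map_ofNat Polynomial.C 2, ← map_pow, Polynomial.coeff_C_mul] at h3
      have h2R : ((2 : ℚ) ^ n)⁻¹ ∈ R := by
        rw [← inv_pow]; refine pow_mem ?_ n
        show ¬ p ∣ ((2 : ℚ)⁻¹).den
        intro h
        have h2d : ((2 : ℚ)⁻¹).den = 2 := by exact_mod_cast Rat.inv_natCast_den_of_pos (a := 2) two_pos
        rw [h2d] at h
        have := Nat.le_of_dvd two_pos h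
        omega
      have := mul_mem h2R h3
      rwa [← mul_assoc, inv_mul_cancel₀ (pow_ne_zero _ two_ne_zero), one_mul] at this
  obtain ⟨u, hu⟩ := (h0 p hp).exists_right_inv
  obtain ⟨a, rfl⟩ := Ideal.Quotient.mk_surjective u
  have hmem : (p : A) * a - 1 ∈ Ideal.span {t} := by
    rw [← Ideal.Quotient.eq_zero_iff_mem, map_sub, map_mul, map_natCast, map_one, hu, sub_self]
  obtain ⟨c, hc⟩ := Ideal.mem_span_singleton'.mp hmem
  have h4 : (p : ℚ) * (ψ a).eval (-1) = 1 := by
    have := congrArg (fun f => (ψ f).eval (-1 : ℚ)) hc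
    simp [hψt] at this
    linarith
  have h5 : (ψ a).eval (-1) ∈ R := by
    rw [Polynomial.eval_eq_sum_range]
    exact sum_mem fun i _ => mul_mem (key i a) (pow_mem (neg_mem (one_mem R)) i)
  rw [eq_inv_of_mul_eq_one_right h4] at h5
  apply h5
  simp [Rat.inv_natCast_den_of_pos hp.pos]

end Groth.Agent.S14048
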