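import Groth.Statements.S14051
import Mathlib.RingTheory.GradedAlgebra.Basic
import Mathlib.Algebra.Module.GradedModule
import Mathlib.RingTheory.Ideal.Operations
import Mathlib.Algebra.Algebra.Operations
-- import your own Groth.Agent.* helpers here

set_option autoImplicit false
universe u
open CAlg

namespace Groth.Agent.S14051

/-- Let A be a commutative ℕ-graded algebra over a base ring R which is generated by A_1 as an
A_0-algebra, written as A_{n+1} = A_1 · A_n for every n, and let M be a graded A-module: an A-module
with R-submodules M_n giving a direct-sum decomposition and A_i · M_j ⊆ M_{i+j}. If M is spanned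
over A by a set of homogeneous elements all of degree at most n₀, then for every n ≥ n₀ and every k
≥ 0 the degree-(n+k) part of M is A_k · M_n. -/
theorem result
    (R : Type u) [CommRing R] (A : Type u) [CommRing A] [Algebra R A]
    (𝒜 : ℕ → Submodule R A) [GradedAlgebra 𝒜]
    (hA : ∀ n : ℕ, 𝒜 (n + 1) = 𝒜 1 * 𝒜 n)
    (M : Type u) [AddCommGroup M] [Module R M] [Module A M] [IsScalarTower R A M]
    (ℳ : ℕ → Submodule R M) [DirectSum.Decomposition ℳ] [SetLike.GradedSMul 𝒜 ℳ]
    (s : Set M) (n₀ : ℕ) (hs : ∀ y ∈ s, ∃ d : ℕ, d ≤ n₀ ∧ y ∈ ℳ d)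
    (hspan : Submodule.span A s = ⊤)
    (n k : ℕ) (hn : n₀ ≤ n) :
    ℳ (n + k) = 𝒜 k • ℳ n := by
  classical
  have hmulA : ∀ i j : ℕ, 𝒜 (i + j) = 𝒜 i * 𝒜 j := by
    intro i j
    induction i with
    | zero =>
      refine le_antisymm ?_ (Submodule.mul_le.mpr fun a ha b hb => SetLike.mul_mem_graded ha hb)
      intro b hb
      rw [zero_add] at hb
      rw [← one_mul b]
      exact Submodule.mul_mem_mul (SetLike.one_mem_graded 𝒜) hb
    | succ i ih => rw [show i + 1 + j = (i + j) + 1 by omega, hA, ih, ← mul_assoc, ← hA]
  refine le_antisymm (fun m hm => ?_) (Submodule.smul_le.mpr fun a ha y hy => ?_)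
  · have main : ∀ x : M, ∀ a : A, x ∈ Submodule.span A s →
        (DirectSum.decompose ℳ (a • x) (n + k) : M) ∈ 𝒜 k • ℳ n := by
      intro x a hx
      induction hx using Submodule.span_induction generalizing a with
      | mem y hy =>
        obtain ⟨d, hd, hyd⟩ := hs y hy
        rw [← DirectSum.sum_support_decompose 𝒜 a, Finset.sum_smul, DirectSum.decompose_sum]
        erw [DFinsupp.finsetSum_apply, AddSubmonoidClass.coe_finsetSum]
        refine Submodule.sum_mem _ fun i _ => ?_
        have hmem : ((DirectSum.decompose 𝒜 a i : A) • y) ∈ ℳ (i + d) :=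
          SetLike.GradedSMul.smul_mem (DirectSum.decompose 𝒜 a i).2 hyd
        by_cases he : i + d = n + k
        · rw [DirectSum.decompose_of_mem_same ℳ (he ▸ hmem)]
          have h2 : (DirectSum.decompose 𝒜 a i : A) ∈ 𝒜 k * 𝒜 (n - d) := by
            rw [← hmulA]
            have := (DirectSum.decompose 𝒜 a i).2
            rwa [show k + (n - d) = i by omega]
          refine Submodule.mul_induction_on h2 (fun p hp q hq => ?_) (fun p q hp hq => ?_)
          · rw [mul_smul]
            refine Submodule.smul_mem_smul hp ?_
            have := SetLike.GradedSMul.smul_mem (A := 𝒜) (B := ℳ) hq hyd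
            rwa [show (n - d) +ᵥ d = n by rw [vadd_eq_add]; omega] at this
          · rw [add_smul]; exact add_mem hp hq
        · rw [DirectSum.decompose_of_mem_ne ℳ hmem he]
          exact Submodule.zero_mem _
      | zero => simp
      | add x y _ _ hx hy =>
        rw [smul_add, DirectSum.decompose_add]
        exact add_mem (hx a) (hy a)
      | smul c x _ hx =>
        rw [← mul_smul]
        exact hx (a * c)
    have := main m 1 (hspan ▸ Submodule.mem_top)
    rwa [one_smul, DirectSum.decompose_of_mem_same ℳ hm] at this
  · have := SetLike.GradedSMul.smul_mem (A := 𝒜) (B := ℳ) ha hy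
    rwa [vadd_eq_add, add_comm] at this

end Groth.Agent.S14051
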