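import Groth.Statements.S14052
import Mathlib.RingTheory.GradedAlgebra.Basic
import Mathlib.Algebra.Algebra.Operations
import Mathlib.RingTheory.Finiteness.Defs
-- import your own Groth.Agent.* helpers here

set_option autoImplicit false
universe u
open CAlg

namespace Groth.Agent.S14052

/-- Let A be a commutative ℕ-graded algebra over a base ring R with A_{n+1} = A_1 · A_n for every n (A
is generated by A_1 over A_0), and let S be a commutative ℕ-graded A-algebra, the structure map
sending A_i into S_i, which is a finite A-module. Let s be a finite set of homogeneous elements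
spanning S as an A-module, all of degree at most n₀, with n₀ > 0. Then (1) S_{n+k} = S_k · S_n for
all n ≥ n₀ and k ≥ 0, and (2) for every d ≥ n₀ the d-th Veronese subring of S is generated by S_d
over S_0, that is S_{md} = (S_d)^m for every m > 0. -/
theorem result
    (R : Type u) [CommRing R] (A : Type u) [CommRing A] [Algebra R A]
    (𝒜 : ℕ → Submodule R A) [GradedAlgebra 𝒜] (hA : ∀ n : ℕ, 𝒜 (n + 1) = 𝒜 1 * 𝒜 n)
    (S : Type u) [CommRing S] [Algebra R S] [Algebra A S] [IsScalarTower R A S]
    (𝒮 : ℕ → Submodule R S) [GradedAlgebra 𝒮]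
    (hAS : ∀ (i : ℕ) (a : A), a ∈ 𝒜 i → algebraMap A S a ∈ 𝒮 i)
    [Module.Finite A S]
    (s : Set S) (hsfin : s.Finite) (n₀ : ℕ) (hn₀ : 0 < n₀)
    (hs : ∀ y ∈ s, ∃ d : ℕ, d ≤ n₀ ∧ y ∈ 𝒮 d) (hspan : Submodule.span A s = ⊤) :
    (∀ n k : ℕ, n₀ ≤ n → 𝒮 (n + k) = 𝒮 k * 𝒮 n) ∧
      (∀ d : ℕ, n₀ ≤ d → ∀ m : ℕ, 0 < m → 𝒮 (m * d) = 𝒮 d ^ m) := by
  classical
  have hA2 : ∀ i j, 𝒜 (i + j) = 𝒜 i * 𝒜 j := by
    intro i
    induction i with
    | zero =>
      intro j
      rw [zero_add]
      refine le_antisymm (fun x hx => ?_) (Submodule.mul_le.2 fun a ha b hb => by simpa using SetLike.mul_mem_graded ha hb)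
      rw [← one_mul x]
      exact Submodule.mul_mem_mul SetLike.GradedOne.one_mem hx
    | succ i ih =>
      intro j
      rw [show i + 1 + j = (i + j) + 1 by omega, hA (i + j), hA i, ih, mul_assoc]
  have h1 : ∀ n k : ℕ, n₀ ≤ n → 𝒮 (n + k) = 𝒮 k * 𝒮 n := by
    intro n k hn
    refine le_antisymm (fun z hz => ?_) (Submodule.mul_le.2 fun a ha b hb => by rw [add_comm]; exact SetLike.mul_mem_graded ha hb)
    suffices hw : ∀ w ∈ Submodule.span A s, GradedRing.proj 𝒮 (n + k) w ∈ 𝒮 k * 𝒮 n by
      have := hw z (hspan ▸ Submodule.mem_top)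
      rwa [GradedRing.proj_apply, DirectSum.decompose_of_mem_same _ hz] at this
    intro w hw
    induction hw using Submodule.closure_induction with
    | zero => rw [map_zero]; exact Submodule.zero_mem _
    | add x y _ _ hx hy => rw [map_add]; exact Submodule.add_mem _ hx hy
    | smul_mem a y hy =>
      obtain ⟨d, hd, hyd⟩ := hs y hy
      rw [Algebra.smul_def, ← DirectSum.sum_support_decompose 𝒜 a, map_sum, Finset.sum_mul, map_sum]
      refine Submodule.sum_mem _ fun i _ => ?_
      have hai : algebraMap A S (DirectSum.decompose 𝒜 a i : A) * y ∈ 𝒮 (i + d) :=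
        SetLike.mul_mem_graded (hAS i _ (DirectSum.decompose 𝒜 a i).2) hyd
      rw [GradedRing.proj_apply]
      by_cases he : i + d = n + k
      · rw [he] at hai
        rw [DirectSum.decompose_of_mem_same _ hai]
        obtain ⟨j, rfl⟩ : ∃ j, i = k + j := ⟨i - k, by omega⟩
        have hmem : (DirectSum.decompose 𝒜 a (k + j) : A) ∈ 𝒜 k * 𝒜 j := hA2 k j ▸ (DirectSum.decompose 𝒜 a (k + j)).2
        refine Submodule.mul_induction_on hmem (fun b hb c hc => ?_) (fun b c hb hc => by rw [map_add, add_mul]; exact Submodule.add_mem _ hb hc)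
        rw [map_mul, mul_assoc]
        refine Submodule.mul_mem_mul (hAS k b hb) ?_
        have := SetLike.mul_mem_graded (hAS j c hc) hyd
        rwa [show j + d = n by omega] at this
      · rw [DirectSum.decompose_of_mem_ne _ hai he]
        exact Submodule.zero_mem _
  refine ⟨h1, fun d hd m hm => ?_⟩
  induction m with
  | zero => omega
  | succ m ih =>
    rcases Nat.eq_zero_or_pos m with rfl | hm'
    · simp
    · rw [Nat.succ_mul, h1 (m * d) d (le_trans hd (Nat.le_mul_of_pos_left d hm')), ih hm', ← pow_succ']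

end Groth.Agent.S14052
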