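import Groth.Statements.S14053
import Mathlib.RingTheory.GradedAlgebra.Basic
import Mathlib.Algebra.Algebra.Operations
import Mathlib.RingTheory.Adjoin.Basic
-- import your own Groth.Agent.* helpers here

set_option autoImplicit false
universe u
open CAlg

namespace Groth.Agent.S14053

/-- Let k be a field and R a commutative ℕ-graded k-algebra with R_0 = k · 1 which is generated as a
k-algebra by R_1, R_2 and R_3, each a finite-dimensional k-vector space, of dimensions d_1, d_2,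
d_3. Then for every natural number e ≥ 5 d_1 + 4 d_2 + 3 d_3 the (6e)-th Veronese subring of R is
generated in degree one over k: R_{6em} = (R_{6e})^m for every m > 0. -/
theorem result
    (k : Type u) [Field k] (R : Type u) [CommRing R] [Algebra k R]
    (ℛ : ℕ → Submodule k R) [GradedAlgebra ℛ]
    (h0 : ℛ 0 = 1)
    (hgen : Algebra.adjoin k ((ℛ 1 : Set R) ∪ (ℛ 2 : Set R) ∪ (ℛ 3 : Set R)) = ⊤)
    [Module.Finite k (ℛ 1)] [Module.Finite k (ℛ 2)] [Module.Finite k (ℛ 3)]
    (e : ℕ) (he : 5 * Module.finrank k (ℛ 1) + 4 * Module.finrank k (ℛ 2) + 3 * Module.finrank k (ℛ 3) ≤ e)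
    (m : ℕ) (hm : 0 < m) :
    ℛ (m * (6 * e)) = ℛ (6 * e) ^ m := by
  classical
  have hmul : ∀ a b, ℛ a * ℛ b ≤ ℛ (a + b) := fun a b => Submodule.mul_le.mpr fun x hx y hy => SetLike.mul_mem_graded hx hy
  have hpow : ∀ a N, ℛ a ^ N ≤ ℛ (a * N) := fun a N => by
    induction N with
    | zero => rw [pow_zero, mul_zero, h0]
    | succ N ih => rw [pow_succ, Nat.mul_succ]; exact (mul_le_mul_left ih (ℛ a)).trans (hmul _ _)
  let P : ℕ → ℕ → ℕ → Submodule k R := fun a b c => ℛ 1 ^ a * ℛ 2 ^ b * ℛ 3 ^ c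
  have hP : ∀ a b c a' b' c', P (a + a') (b + b') (c + c') = P a b c * P a' b' c' := fun a b c a' b' c' => by
    simp only [P, pow_add]; ac_rfl
  have hPle : ∀ a b c, P a b c ≤ ℛ (a + 2 * b + 3 * c) := fun a b c => by
    refine (mul_le_mul' (mul_le_mul' (hpow 1 a) (hpow 2 b)) (hpow 3 c)).trans ?_
    rw [one_mul]
    exact (mul_le_mul_left (hmul _ _) _).trans (hmul _ _)
  -- monomials span
  have hclos : ∀ x ∈ Submonoid.closure ((ℛ 1 : Set R) ∪ (ℛ 2 : Set R) ∪ (ℛ 3 : Set R)), ∃ a b c, x ∈ P a b c := fun x hx => by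
    induction hx using Submonoid.closure_induction with
    | mem x hx =>
      rcases hx with (h | h) | h
      · exact ⟨1, 0, 0, by simpa [P] using h⟩
      · exact ⟨0, 1, 0, by simpa [P] using h⟩
      · exact ⟨0, 0, 1, by simpa [P] using h⟩
    | one => exact ⟨0, 0, 0, by simp only [P, pow_zero, one_mul]; exact Submodule.one_le.mp le_rfl⟩
    | mul x y _ _ hx hy =>
      obtain ⟨a, b, c, hx⟩ := hx
      obtain ⟨a', b', c', hy⟩ := hy
      exact ⟨a + a', b + b', c + c', hP a b c a' b' c' ▸ Submodule.mul_mem_mul hx hy⟩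
  have hspan : ∀ n, ℛ n ≤ ⨆ t : {t : ℕ × ℕ × ℕ // t.1 + 2 * t.2.1 + 3 * t.2.2 = n}, P t.1.1 t.1.2.1 t.1.2.2 := fun n x hx => by
    have hmem : x ∈ Submodule.span k (Submonoid.closure ((ℛ 1 : Set R) ∪ (ℛ 2 : Set R) ∪ (ℛ 3 : Set R)) : Set R) := by
      rw [← Algebra.adjoin_eq_span, hgen]; trivial
    rw [show x = GradedAlgebra.proj ℛ n x from ((GradedAlgebra.proj_apply ℛ n x).trans (DirectSum.decompose_of_mem_same ℛ hx)).symm]
    clear hx
    induction hmem using Submodule.span_induction with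
    | mem y hy =>
      obtain ⟨a, b, c, hy⟩ := hclos y hy
      by_cases h : a + 2 * b + 3 * c = n
      · rw [GradedAlgebra.proj_apply, DirectSum.decompose_of_mem_same ℛ (h ▸ hPle a b c hy)]
        exact Submodule.mem_iSup_of_mem ⟨(a, b, c), h⟩ hy
      · rw [GradedAlgebra.proj_apply, DirectSum.decompose_of_mem_ne ℛ (hPle a b c hy) h]
        exact zero_mem _
    | zero => rw [map_zero]; exact zero_mem _
    | add y z _ _ hy hz => rw [map_add]; exact add_mem hy hz
    | smul r y _ hy => rw [map_smul]; exact Submodule.smul_mem _ r hy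
  have key : ∀ N, ℛ (6 * N) ≤ ℛ 6 ^ N := by
    intro N
    induction N with
    | zero => rw [pow_zero, mul_zero, h0]
    | succ N ih =>
      rcases Nat.eq_zero_or_pos N with rfl | hN
      · simp
      refine (hspan _).trans (iSup_le ?_)
      rintro ⟨⟨a, b, c⟩, h⟩
      simp only at h ⊢
      obtain ⟨a₀, b₀, c₀, ha, hb, hc, h6⟩ : ∃ a₀ b₀ c₀, a₀ ≤ a ∧ b₀ ≤ b ∧ c₀ ≤ c ∧ a₀ + 2 * b₀ + 3 * c₀ = 6 := by
        by_cases h1 : 6 ≤ a
        · exact ⟨6, 0, 0, by omega⟩
        by_cases h2 : 3 ≤ b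
        · exact ⟨0, 3, 0, by omega⟩
        by_cases h3 : 2 ≤ c
        · exact ⟨0, 0, 2, by omega⟩
        exact ⟨4, 1, 0, by omega⟩
      rw [← Nat.add_sub_cancel' ha, ← Nat.add_sub_cancel' hb, ← Nat.add_sub_cancel' hc, hP, pow_succ']
      refine mul_le_mul' (h6 ▸ hPle a₀ b₀ c₀) ((hPle _ _ _).trans ?_)
      rwa [show a - a₀ + 2 * (b - b₀) + 3 * (c - c₀) = 6 * N by omega]
  refine le_antisymm ?_ (mul_comm (6 * e) m ▸ hpow (6 * e) m)
  rw [show m * (6 * e) = 6 * (e * m) by ring]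
  refine (key _).trans ?_
  rw [pow_mul]
  exact pow_le_pow_left' (hpow 6 e) m

end Groth.Agent.S14053
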