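import Groth.Statements.S14054
import Groth.Agent.CastMumLib.Main
import Groth.Agent.S1611
import Groth.Agent.GenusZeroLib.Mult

set_option autoImplicit false
set_option backward.isDefEq.respectTransparency false
set_option backward.isDefEq.respectTransparency.types false
set_option maxHeartbeats 1000000

universe u
open CategoryTheory CategoryTheory.Limits AlgebraicGeometry TopologicalSpace
open Variety

namespace Groth.Agent.S14054

open AmpleLib (GenAt res) in
theorem exists_genAt_basis {k : Type u} [Field k] {X : Scheme.{u}} [X.Over (Spec (CommRingCat.of k))]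
    {L : X.Modules} (hL : PicF.IsInvertible L) (x : X) (σ : Γ(L, ⊤))
    (hσ : GenAt L σ (show x ∈ (⊤ : X.Opens) from trivial)) {ι : Type*} [Fintype ι] (b : ι → Γ(L, ⊤))
    (r : ι → Γ(X, ⊤)) (hb : σ = ∑ i, r i • b i) :
    ∃ i, GenAt L (b i) (show x ∈ (⊤ : X.Opens) from trivial) := by
  classical
  obtain ⟨U, e, hxU, he⟩ := TwistLib.exists_genOn hL x
  have hc : ∀ s : Γ(L, ⊤), ∃ c : Γ(X, U), c • e = res L le_top s := fun s => by
    obtain ⟨c, hc⟩ := (he U le_rfl).2 (res L le_top s)
    exact ⟨c, by simpa only [AmpleLib.res_refl] using hc⟩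
  choose c hc using hc
  have key : ∀ s : Γ(L, ⊤), GenAt L s (show x ∈ (⊤ : X.Opens) from trivial) ↔
      IsUnit (X.presheaf.germ U x hxU (c s)) := fun s => by
    rw [← AmpleLib.genAt_res (le_top : U ≤ ⊤) s hxU, ← hc, AmpleLib.genAt_smul_iff _ e hxU (he.genAt hxU),
      Scheme.mem_basicOpen]
  by_contra hne
  simp only [key, not_exists] at hne
  have h := (key σ).1 hσ
  have hs : c σ = ∑ i, X.presheaf.map (homOfLE (le_top : U ≤ ⊤)).op (r i) * c (b i) := by
    refine ((he U le_rfl).1 ?_)
    dsimp only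
    rw [AmpleLib.res_refl, hc, Finset.sum_smul, hb]
    rw [show res L (le_top : U ≤ ⊤) (∑ i, r i • b i) = ∑ i, res L (le_top : U ≤ ⊤) (r i • b i) from map_sum _ _ _]
    refine Finset.sum_congr rfl fun i _ => ?_
    rw [AmpleLib.res_smul, ← hc, mul_smul]
  rw [hs, map_sum] at h
  refine (IsLocalRing.maximalIdeal.isMaximal (X.presheaf.stalk x)).ne_top
    (Ideal.eq_top_of_isUnit_mem _ (sum_mem fun i _ => ?_) h)
  rw [map_mul]
  exact Ideal.mul_mem_left _ _ (hne i)

/-- Let X be a proper scheme over a field k, L a globally generated invertible O_X-module with tensor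
inverse M, r = dim_k H⁰(X, L), and b ≥ 1 an integer such that H^q(X, L^{⊗(b−q)}) = 0 whenever 1 ≤ q
≤ r − 1, where for q > b the module L^{⊗(b−q)} is the tensor power M^{⊗(q−b)}. Then the
multiplication map H⁰(X, L^{⊗b}) ⊗ H⁰(X, L) → H⁰(X, L^{⊗(b+1)}) is surjective. The map is written as
the canonical map from the global sections of the sectionwise tensor product presheaf of L^{⊗b} and
L (these are H⁰(L^{⊗b}) ⊗ H⁰(L), tensor over the global functions) to the global sections of its
sheafification L^{⊗b} ⊗ L = L^{⊗(b+1)}. The base field is arbitrary. -/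
theorem result (k : Type u) [Field k]
    (X : Scheme.{u}) [X.Over (Spec (CommRingCat.of k))] [IsProper (X ↘ (Spec (CommRingCat.of k)))]
    (L : X.Modules) (hL : PicF.IsInvertible L) (hgg : Curv2.IsGloballyGenerated L)
    (M : X.Modules) (hM : ClSub.IsInverseOf M L)
    (b : ℕ) (hb : 1 ≤ b)
    (hvan₁ : ∀ q : ℕ, 1 ≤ q → q ≤ b → q < Module.finrank k (Coh.HH X L 0) →
      Subsingleton (Coh.HH X (CohB1.tensorPow L (b - q)) q))
    (hvan₂ : ∀ q : ℕ, b < q → q < Module.finrank k (Coh.HH X L 0) →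
      Subsingleton (Coh.HH X (CohB1.tensorPow M (q - b)) q)) :
    Function.Surjective
      ((toSheafify (Opens.grothendieckTopology X) (CohB1.tensorPre (CohB1.tensorPow L b) L).presheaf).app
        (Opposite.op ⊤)) := by
  classical
  haveI := CurvLib.isNoetherian k (X := X)
  rw [← MultSecLib.mult_iff]
  haveI hfin : Module.Finite k (Coh.HH X L 0) :=
    CurvLib.finite_HH (LocSuppLib.isCoh_of_isFinLocFree (AmpleDevLib.isFinLocFree_of_isInvertible hL)) 0
  letI := GenusZeroLib.kmod k L
  let B := (Module.finBasis k (Coh.HH X L 0)).map (GenusZeroLib.e0k k L)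
  let l : List Γ(L, ⊤) := List.ofFn fun i => B i
  have hlen : l.length = Module.finrank k (Coh.HH X L 0) := List.length_ofFn
  have hg : ∀ x : X, ∃ τ ∈ l, AmpleLib.GenAt L τ (show x ∈ (⊤ : X.Opens) from trivial) := fun x => by
    obtain ⟨σ, hσ⟩ := Groth.Agent.S1611.exists_genAt_of_gg hL hgg x
    obtain ⟨i, hi⟩ := exists_genAt_basis (k := k) hL x σ hσ (fun i => B i) (fun i => GenusZeroLib.ρ k (B.repr σ i))
      (B.sum_repr σ).symm
    exact ⟨B i, List.mem_ofFn.2 ⟨i, rfl⟩, hi⟩
  rcases hl : l with - | ⟨σ, l'⟩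
  · intro w
    refine ⟨0, TopCat.Presheaf.section_ext ((SheafOfModules.toSheaf _).obj (CohB1.tensorMod (CohB1.tensorPow L b) L)) ⊤ _ _ fun x _ => ?_⟩
    obtain ⟨τ, hτ, -⟩ := hg x
    rw [hl] at hτ
    simp at hτ
  · rw [hl] at hg hlen
    simp only [List.length_cons] at hlen
    exact CastMumLib.mult_pow k hL hM b σ l' hg (fun q h1 h2 h3 => hvan₁ q h1 h2 (by omega))
      (fun q h2 h3 => hvan₂ q h2 (by omega)) ‹_›

end Groth.Agent.S14054
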