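import Groth.Statements.S14055
import Mathlib
import Groth.Agent.SurfAmpleLib.Adj
import Groth.Agent.SurfAmpleLib.Main
import Groth.Agent.SurfNumLib.Config
import Groth.Agent.SurfNumLib.K3
import Groth.Agent.SurfNumLib.Deg
-- import your own Groth.Agent.* helpers here

set_option autoImplicit false
universe u
open CategoryTheory CategoryTheory.Limits AlgebraicGeometry TopologicalSpace
open Surf

namespace Groth.Agent.S14055

/-- Let k be an algebraically closed field and X a smooth surface over k: an integral scheme, proper and
smooth over k, of dimension 2; let W be its canonical module, a second exterior power of Ω_{X/k}.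
For an invertible module L and an integral closed one-dimensional subscheme C ⊆ X write (L·C) =
χ(O_C ⊗ L) − χ(O_C). If W is nef, that is (W·C) ≥ 0 for every such C, then X is minimal: it contains
no (−1)-curve, where a (−1)-curve is taken, through its numerical characterization, to be an
integral closed one-dimensional subscheme E with H¹(E, O_E) = 0 and (O_X(E)·E) = −1, O_X(E) being a
tensor inverse of the ideal sheaf of E. -/
theorem result (k : Type u) [Field k] [IsAlgClosed k] (X : Scheme.{u})
    [X.Over (Spec (CommRingCat.of k))] [IsProper (X ↘ (Spec (CommRingCat.of k)))] [Smooth (X ↘ (Spec (CommRingCat.of k)))]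
    [IsIntegral X] (hdim : topologicalKrullDim X = 2)
    (W : X.Modules) (hW : ExtPow.IsExtPow 2 (Omega.sheaf (X ↘ (Spec (CommRingCat.of k)))) W)
    (hnef : (∀ C : X.IdealSheafData, IsIntegral C.subscheme → topologicalKrullDim (C.support : Set X) = 1 →
      0 ≤ Curv2.euler k X (CohB1.tensorMod (ClSub.quotMod C) W) - Curv2.euler k X (ClSub.quotMod C))) :
    (∀ (E : X.IdealSheafData) (N : X.Modules), IsIntegral E.subscheme →
      topologicalKrullDim (E.support : Set X) = 1 → ClSub.IsInverseOf N (ClSub.idealMod E) →
      Subsingleton (Coh.HH E.subscheme (Coh.structureModule E.subscheme) 1) →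
      Curv2.euler k X (CohB1.tensorMod (ClSub.quotMod E) N) - Curv2.euler k X (ClSub.quotMod E) ≠ -1) := by
  intro E N hE hd hN hH hbad
  have hX : topologicalKrullDim X = ((2 : ℕ) : WithBot ℕ∞) := hdim
  haveI := hE
  haveI := CurvLib.isNoetherian k (X := X)
  have hJ := SurfAmpleLib.isEffCartier_curve' k hX E hd
  have hI := IntMultLib.isInvertible_idealMod _ hJ
  obtain ⟨e⟩ := hN
  let e' : CohB1.tensorMod (ClSub.idealMod E) N ≅ Coh.structureModule X := HilbPolyLib.swapIso _ _ ≪≫ e
  have hNi := IntMultLib.isInvertible_of_inverse hI e'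
  have h := SurfAmpleLib.curve_adjunction hX hW E hd
  letI : E.subscheme.Over (Spec (CommRingCat.of k)) := ⟨E.subschemeι ≫ (X ↘ Spec (CommRingCat.of k))⟩
  haveI : IsProper (E.subscheme ↘ Spec (CommRingCat.of k)) :=
    inferInstanceAs (IsProper (E.subschemeι ≫ (X ↘ Spec (CommRingCat.of k))))
  rw [SurfNumLib.hh_quot E rfl, show HodgeIdxLib.hh k (Coh.structureModule E.subscheme) 1 = 0 from
    Module.finrank_zero_of_subsingleton] at h
  rw [SurfAmpleLib.deg_eq (k := k) hJ hNi, HodgeIdxLib.pr_comm (ClSub.idealMod E) N,
    HodgeIdxLib.pr_inverse hX.le hI hNi hI e'] at hbad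
  have hw := hnef E hE hd
  rw [SurfAmpleLib.deg_eq (k := k) hJ (SurfAmpleLib.isInvertible_canonical hX hW)] at hw
  omega

end Groth.Agent.S14055
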