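import Groth.Statements.S14056
import Mathlib
import Groth.Agent.SurfAmpleLib.Adj
import Groth.Agent.SurfAmpleLib.Main
import Groth.Agent.SurfNumLib.Config
import Groth.Agent.SurfNumLib.K3
import Groth.Agent.SurfNumLib.Deg
-- import your own Groth.Agent.* helpers here

set_option autoImplicit false
universe u
open CategoryTheory CategoryTheory.Limits AlgebraicGeometry TopologicalSpace
open Surf

namespace Groth.Agent.S14056

/-- Let k be an algebraically closed field and X a smooth surface over k: an integral scheme, proper and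
smooth over k, of dimension 2; let W be its canonical module, a second exterior power of Ω_{X/k}.
For an invertible module L and an integral closed one-dimensional subscheme C ⊆ X write (L·C) =
χ(O_C ⊗ L) − χ(O_C). Suppose that X has non-negative Kodaira dimension, that is some tensor power
W^{⊗m} with m > 0 has a nonzero global section, and that X is minimal: it contains no (−1)-curve,
where a (−1)-curve is taken, through its numerical characterization, to be an integral closed
one-dimensional subscheme E with H¹(E, O_E) = 0 and (O_X(E)·E) = −1, O_X(E) being a tensor inverse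
of the ideal sheaf of E. Then W is nef: (W·C) ≥ 0 for every integral closed one-dimensional C ⊆ X.
(Together with the first assertion: under non-negative Kodaira dimension, X is minimal if and only
if W is nef.) -/
theorem result (k : Type u) [Field k] [IsAlgClosed k] (X : Scheme.{u})
    [X.Over (Spec (CommRingCat.of k))] [IsProper (X ↘ (Spec (CommRingCat.of k)))] [Smooth (X ↘ (Spec (CommRingCat.of k)))]
    [IsIntegral X] (hdim : topologicalKrullDim X = 2)
    (W : X.Modules) (hW : ExtPow.IsExtPow 2 (Omega.sheaf (X ↘ (Spec (CommRingCat.of k)))) W)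
    (m : ℕ) (hm : 0 < m) (hsec : Nontrivial (Coh.HH X (CohB1.tensorPow W m) 0))
    (hmin : (∀ (E : X.IdealSheafData) (N : X.Modules), IsIntegral E.subscheme →
      topologicalKrullDim (E.support : Set X) = 1 → ClSub.IsInverseOf N (ClSub.idealMod E) →
      Subsingleton (Coh.HH E.subscheme (Coh.structureModule E.subscheme) 1) →
      Curv2.euler k X (CohB1.tensorMod (ClSub.quotMod E) N) - Curv2.euler k X (ClSub.quotMod E) ≠ -1)) :
    (∀ C : X.IdealSheafData, IsIntegral C.subscheme → topologicalKrullDim (C.support : Set X) = 1 →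
      0 ≤ Curv2.euler k X (CohB1.tensorMod (ClSub.quotMod C) W) - Curv2.euler k X (ClSub.quotMod C)) := by
  intro C hC hd
  have hX : topologicalKrullDim X = ((2 : ℕ) : WithBot ℕ∞) := hdim
  haveI := hC
  haveI := CurvLib.isNoetherian k (X := X)
  have hJ := SurfAmpleLib.isEffCartier_curve' k hX C hd
  have hI := IntMultLib.isInvertible_idealMod _ hJ
  have hWi := SurfAmpleLib.isInvertible_canonical hX hW
  rw [SurfAmpleLib.deg_eq (k := k) hJ hWi]
  by_contra hneg
  push Not at hneg
  have hP := AmpleThLib.tensorPow_isInvertible hWi m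
  obtain ⟨φ, hφ⟩ := CurvLib.exists_hom_ne_zero (L := CohB1.tensorPow W m) hsec
  obtain ⟨hc, hcd⟩ := HodgeIdxLib.dim_cokernel_le k (n := 1) hX hP hφ
  have hsum : HodgeIdxLib.pr k (ClSub.idealMod C) (ClSub.idealMod C) < 0 := by
    by_contra hnn
    push Not at hnn
    have h1 := HodgeIdxLib.N_cokernel (k := k) (T := ClSub.idealMod C) hX hP hI hφ
    rw [HodgeIdxLib.N2_pow_left hX.le hWi hI] at h1
    change IntFunLib.N k [ClSub.idealMod C] (cokernel φ) = (m : ℤ) * HodgeIdxLib.pr k W (ClSub.idealMod C) at h1
    rw [HodgeIdxLib.pr_comm W] at h1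
    have h2 : IntFunLib.N k [ClSub.idealMod C] (cokernel φ) ≤ 0 := by
      rcases (CohB1.support (cokernel φ)).eq_empty_or_nonempty with he | hne
      · rw [IntFunLib.N_low (by simpa using hI) hc (by
          rw [he]
          haveI : IsEmpty (TopologicalSpace.IrreducibleCloseds ↥(∅ : Set X)) :=
            ⟨fun c => by obtain ⟨x, -⟩ := c.isIrreducible.nonempty; exact x.2⟩
          rw [show topologicalKrullDim ↥(∅ : Set X) = ⊥ from Order.krullDim_eq_bot]
          exact WithBot.bot_lt_coe _)]
      obtain ⟨T, hT, -, hsumT⟩ := IntFunLib.N_sum (k := k) (l := [ClSub.idealMod C]) (by simpa using hI) hc hne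
        (by simpa using hcd)
      rw [hsumT]
      refine Finset.sum_nonpos fun c hc' => smul_nonpos_of_nonneg_of_nonpos (Nat.zero_le _) ?_
      have hcd' : topologicalKrullDim (closure ({c} : Set X)) = 1 := by simpa using ((hT c).mp hc').2
      by_cases hcC : IntMultLib.ptIdeal c = C
      · have h3 := SurfNumLib.pr_ideal (k := k) C (CurvLib.isCoh_of_isInvertible hI) hI
        subst hcC
        change IntFunLib.N k [ClSub.idealMod (IntMultLib.ptIdeal c)] (ClSub.quotMod (IntMultLib.ptIdeal c)) ≤ 0
        omega
      · haveI := IntMultLib.isIntegral_ptIdeal c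
        have hdc : topologicalKrullDim ((IntMultLib.ptIdeal c).support : Set X) = 1 := by
          rw [IntFunLib.dim_ptIdeal, hcd']
        exact SurfNumLib.N_effCartier_nonpos (k := k) hJ _ hdc (SurfNumLib.not_subset_of_ne hd hdc (Ne.symm hcC))
    have h4 := mul_pos (show (0 : ℤ) < m by exact_mod_cast hm) (show 0 < HodgeIdxLib.pr k (ClSub.idealMod C) W by omega)
    omega
  have h := SurfAmpleLib.curve_adjunction hX hW C hd
  obtain ⟨e⟩ := MiscFlat6.nonempty_dualIso hI
  have hD := MiscFlat6.dual_isInvertible hI
  letI : C.subscheme.Over (Spec (CommRingCat.of k)) := ⟨C.subschemeι ≫ (X ↘ Spec (CommRingCat.of k))⟩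
  haveI : IsProper (C.subscheme ↘ Spec (CommRingCat.of k)) :=
    inferInstanceAs (IsProper (C.subschemeι ≫ (X ↘ Spec (CommRingCat.of k))))
  haveI := CurvLib.finite_HH (k := k) (DevissLib.isCoh_structureModule C.subscheme) 1
  refine hmin C _ hC hd ⟨HilbPolyLib.swapIso _ _ ≪≫ e⟩ (Module.finrank_zero_iff (R := k).1 ?_) ?_
  · change HodgeIdxLib.hh k (Coh.structureModule C.subscheme) 1 = 0
    rw [← SurfNumLib.hh_quot C rfl]
    omega
  · rw [SurfAmpleLib.deg_eq (k := k) hJ hD, HodgeIdxLib.pr_comm (ClSub.idealMod C) _,
      HodgeIdxLib.pr_inverse hX.le hI hD hI e]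
    omega

end Groth.Agent.S14056
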