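import Groth.Statements.S14057
import Mathlib
import Groth.Agent.SurfAmpleLib.Adj
import Groth.Agent.SurfAmpleLib.Main
import Groth.Agent.SurfNumLib.Config
import Groth.Agent.SurfNumLib.K3
import Groth.Agent.SurfNumLib.Deg
-- import your own Groth.Agent.* helpers here

set_option autoImplicit false
universe u
open CategoryTheory CategoryTheory.Limits AlgebraicGeometry TopologicalSpace
open Surf

namespace Groth.Agent.S14057

/-- Let k be an algebraically closed field and X a smooth surface over k: an integral scheme, proper and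
smooth over k, of dimension 2; let W be its canonical module, a second exterior power of Ω_{X/k}.
For an invertible module L and an integral closed one-dimensional subscheme C ⊆ X write (L·C) =
χ(O_C ⊗ L) − χ(O_C), and (W·W) for the self-intersection number of W (the alternating sum χ(O_X) −
2χ(W) + χ(W ⊗ W)). Suppose W is nef and (W·W) > 0. Then W is ample if and only if X contains no
(−2)-curve, where a (−2)-curve is taken, through its numerical characterization, to be an integral
closed one-dimensional subscheme E with H¹(E, O_E) = 0 and (O_X(E)·E) = −2, O_X(E) being a tensor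
inverse of the ideal sheaf of E. (The published statement is for a minimal surface of general type;
its proof uses exactly that the canonical module is nef with positive self-intersection, which is
how the hypothesis is written here.) -/
theorem result (k : Type u) [Field k] [IsAlgClosed k] (X : Scheme.{u})
    [X.Over (Spec (CommRingCat.of k))] [IsProper (X ↘ (Spec (CommRingCat.of k)))] [Smooth (X ↘ (Spec (CommRingCat.of k)))]
    [IsIntegral X] (hdim : topologicalKrullDim X = 2)
    (W : X.Modules) (hW : ExtPow.IsExtPow 2 (Omega.sheaf (X ↘ (Spec (CommRingCat.of k)))) W)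
    (hnef : (∀ C : X.IdealSheafData, IsIntegral C.subscheme → topologicalKrullDim (C.support : Set X) = 1 →
      0 ≤ Curv2.euler k X (CohB1.tensorMod (ClSub.quotMod C) W) - Curv2.euler k X (ClSub.quotMod C)))
    (hpos : 0 < FGA.intNum k X 2 ![W, W] (Coh.structureModule X)) :
    CohB1.IsAmple W ↔
    (∀ (E : X.IdealSheafData) (N : X.Modules), IsIntegral E.subscheme →
      topologicalKrullDim (E.support : Set X) = 1 → ClSub.IsInverseOf N (ClSub.idealMod E) →
      Subsingleton (Coh.HH E.subscheme (Coh.structureModule E.subscheme) 1) →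
      Curv2.euler k X (CohB1.tensorMod (ClSub.quotMod E) N) - Curv2.euler k X (ClSub.quotMod E) ≠ -2) := by
  have hX : topologicalKrullDim X = ((2 : ℕ) : WithBot ℕ∞) := hdim
  haveI := CurvLib.isNoetherian k (X := X)
  have hWi := SurfAmpleLib.isInvertible_canonical hX hW
  rw [SurfNumLib.intNum_eq_pr hX.le] at hpos
  constructor
  · intro hA E N hE hd hN hH hbad
    haveI := hE
    have hJ := SurfAmpleLib.isEffCartier_curve' k hX E hd
    have hI := IntMultLib.isInvertible_idealMod _ hJ
    obtain ⟨e⟩ := hN
    let e' : CohB1.tensorMod (ClSub.idealMod E) N ≅ Coh.structureModule X := HilbPolyLib.swapIso _ _ ≪≫ e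
    have hNi := IntMultLib.isInvertible_of_inverse hI e'
    have h := SurfAmpleLib.curve_adjunction hX hW E hd
    letI : E.subscheme.Over (Spec (CommRingCat.of k)) := ⟨E.subschemeι ≫ (X ↘ Spec (CommRingCat.of k))⟩
    haveI : IsProper (E.subscheme ↘ Spec (CommRingCat.of k)) :=
      inferInstanceAs (IsProper (E.subschemeι ≫ (X ↘ Spec (CommRingCat.of k))))
    rw [SurfNumLib.hh_quot E rfl, show HodgeIdxLib.hh k (Coh.structureModule E.subscheme) 1 = 0 from
      Module.finrank_zero_of_subsingleton] at h
    rw [SurfAmpleLib.deg_eq (k := k) hJ hNi, HodgeIdxLib.pr_comm (ClSub.idealMod E) N,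
      HodgeIdxLib.pr_inverse hX.le hI hNi hI e'] at hbad
    have hneg := SurfNumLib.pr_effCartier_pos (k := k) hX hJ (SurfNumLib.ne_top_of_dim hd) hA
    omega
  · intro hno
    refine SurfAmpleLib.isAmple_surface (k := k) hX hWi hpos fun c hc => ?_
    haveI := IntMultLib.isIntegral_ptIdeal c
    have hd : topologicalKrullDim ((IntMultLib.ptIdeal c).support : Set X) = 1 := by
      rw [IntFunLib.dim_ptIdeal, hc, Nat.cast_one]
    have hJ := SurfAmpleLib.isEffCartier_curve' k hX _ hd
    have hI := IntMultLib.isInvertible_idealMod _ hJ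
    have hn := hnef _ inferInstance hd
    rw [SurfAmpleLib.deg_eq (k := k) hJ hWi] at hn
    have h3 := SurfNumLib.pr_ideal (k := k) _ (CurvLib.isCoh_of_isInvertible hI) hWi
    change _ = -IntFunLib.N k [W] (IntFunLib.Fpt c) at h3
    by_contra hle
    have h0 : HodgeIdxLib.pr k (ClSub.idealMod (IntMultLib.ptIdeal c)) W = 0 := by omega
    have hsq := SurfNumLib.neg_semidef hX hWi hI hpos h0
    have hlt : HodgeIdxLib.pr k (ClSub.idealMod (IntMultLib.ptIdeal c)) (ClSub.idealMod (IntMultLib.ptIdeal c)) < 0 :=
      lt_of_le_of_ne hsq fun h => SurfNumLib.curve_ne_zero_of_effCartier (k := k) hX hJ (SurfNumLib.ne_top_of_dim hd)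
        fun d hd' => SurfNumLib.curve_zero hX hWi hI hpos h0 h.ge hd'
    have h := SurfAmpleLib.curve_adjunction hX hW _ hd
    obtain ⟨e⟩ := MiscFlat6.nonempty_dualIso hI
    have hD := MiscFlat6.dual_isInvertible hI
    letI : (IntMultLib.ptIdeal c).subscheme.Over (Spec (CommRingCat.of k)) := ⟨(IntMultLib.ptIdeal c).subschemeι ≫ (X ↘ Spec (CommRingCat.of k))⟩
    haveI : IsProper ((IntMultLib.ptIdeal c).subscheme ↘ Spec (CommRingCat.of k)) :=
      inferInstanceAs (IsProper ((IntMultLib.ptIdeal c).subschemeι ≫ (X ↘ Spec (CommRingCat.of k))))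
    haveI := CurvLib.finite_HH (k := k) (DevissLib.isCoh_structureModule (IntMultLib.ptIdeal c).subscheme) 1
    refine hno (IntMultLib.ptIdeal c) _ inferInstance hd ⟨HilbPolyLib.swapIso _ _ ≪≫ e⟩ (Module.finrank_zero_iff (R := k).1 ?_) ?_
    · change HodgeIdxLib.hh k (Coh.structureModule (IntMultLib.ptIdeal c).subscheme) 1 = 0
      rw [← SurfNumLib.hh_quot (IntMultLib.ptIdeal c) rfl]
      omega
    · rw [SurfAmpleLib.deg_eq (k := k) hJ hD, HodgeIdxLib.pr_comm (ClSub.idealMod (IntMultLib.ptIdeal c)) _,
        HodgeIdxLib.pr_inverse hX.le hI hD hI e]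
      change - -HodgeIdxLib.pr k (ClSub.idealMod (IntMultLib.ptIdeal c)) (ClSub.idealMod (IntMultLib.ptIdeal c)) = -2
      omega

end Groth.Agent.S14057
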