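import Groth.Statements.S14059
import Groth.Agent.GeomIrrLib.Basic
import Groth.Agent.LVCorrLib.Basic

set_option autoImplicit false
set_option backward.isDefEq.respectTransparency false
set_option backward.isDefEq.respectTransparency.types false
set_option linter.style.haveILetI false
universe u
open CategoryTheory MonoidalCategory CartesianMonoidalCategory MonObj GrpObj AlgebraicGeometry
open GrpSch

namespace Groth.Agent.S14059

theorem stalkMap_comp {k : Type u} [Field k] {X : Scheme.{u}} [X.Over (Spec (CommRingCat.of k))]
    (a : X ⟶ X) (ha : a ≫ (X ↘ Spec (CommRingCat.of k)) = X ↘ Spec (CommRingCat.of k)) (x : X) :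
    (a.stalkMap x).hom.comp (Curv2.stalkMap k X (a.base x)) = Curv2.stalkMap k X x := by
  refine RingHom.ext fun c => ?_
  show (a.stalkMap x).hom ((X.presheaf.germ ⊤ (a.base x) trivial).hom
      ((X ↘ Spec (CommRingCat.of k)).appTop.hom _)) = (X.presheaf.germ ⊤ x trivial).hom _
  erw [Scheme.Hom.germ_stalkMap_apply]
  congr 1
  show (a.appTop).hom ((X ↘ Spec (CommRingCat.of k)).appTop.hom _) = _
  rw [← RingHom.comp_apply, ← CommRingCat.hom_comp, ← Scheme.Hom.comp_appTop, ha]
  rfl

theorem resMap_bijective {k : Type u} [Field k] [IsAlgClosed k] {X : Scheme.{u}}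
    [X.Over (Spec (CommRingCat.of k))] [LocallyOfFiniteType (X ↘ Spec (CommRingCat.of k))]
    {x : X} (hx : IsClosed ({x} : Set X)) : Function.Bijective (Curv2.resMap k X x) := by
  have h : CommRingCat.ofHom (Curv2.resMap k X x) =
      (residueFieldIsoBase (X ↘ Spec (CommRingCat.of k)) x hx).inv := by
    rw [← Spec.map_inj]
    exact (GeomIrrLib.specMap_resMap x).trans (SpecMap_residueFieldIsoBase_inv _ x hx).symm
  have h2 := ConcreteCategory.bijective_of_isIso
    (residueFieldIsoBase (X ↘ Spec (CommRingCat.of k)) x hx).inv
  rw [← h] at h2
  exact h2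

/-- A closed point whose local ring is a field is open. -/
theorem isOpen_singleton {X : Scheme.{u}} [IsLocallyNoetherian X] [CompactSpace X] {x : X}
    (hx : IsClosed ({x} : Set X)) (hf : IsField (X.presheaf.stalk x)) : IsOpen ({x} : Set X) := by
  haveI : IsNoetherian X := {}
  have hgen : ∀ z : X, z ⤳ x → z = x := fun z hz => by
    obtain ⟨P, rfl⟩ : z ∈ Set.range (X.fromSpecStalk x).base := X.range_fromSpecStalk (x := x) ▸ hz
    letI := hf.toField
    rw [show P = IsLocalRing.closedPoint _ from @Subsingleton.elim (PrimeSpectrum (X.presheaf.stalk x)) inferInstance _ _]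
    exact X.fromSpecStalk_closedPoint
  have hcomp : ({x} : Set X) ∈ irreducibleComponents X := by
    obtain ⟨Z, hZ, hxZ⟩ : ∃ Z ∈ irreducibleComponents X, x ∈ Z :=
      ⟨irreducibleComponent x, irreducibleComponent_mem_irreducibleComponents x, mem_irreducibleComponent⟩
    obtain ⟨z, hz⟩ := QuasiSober.sober hZ.1 (isClosed_of_mem_irreducibleComponents Z hZ)
    obtain rfl := hgen z (hz.specializes hxZ)
    rwa [← hx.closure_eq, hz.def]
  have hfin : (irreducibleComponents X \ {({x} : Set X)}).Finite :=
    (TopologicalSpace.NoetherianSpace.finite_irreducibleComponents (α := X)).sdiff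
  have : ({x} : Set X) = (⋃ Z ∈ irreducibleComponents X \ {({x} : Set X)}, Z)ᶜ := by
    ext y
    simp only [Set.mem_singleton_iff, Set.mem_compl_iff, Set.mem_iUnion, not_exists]
    constructor
    · rintro rfl Z ⟨hZ, hne⟩ hyZ
      exact hne (subset_antisymm
        (hcomp.2 hZ.1 (Set.singleton_subset_iff.mpr hyZ)) (Set.singleton_subset_iff.mpr hyZ))
    · intro h
      have h1 : irreducibleComponent y = {x} := by
        by_contra hne
        exact h _ ⟨irreducibleComponent_mem_irreducibleComponents y, hne⟩ mem_irreducibleComponent
      have h2 := mem_irreducibleComponent (x := y)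
      rw [h1] at h2
      exact h2
  rw [this]
  exact (hfin.isClosed_biUnion fun Z hZ => isClosed_of_mem_irreducibleComponents Z hZ.1).isOpen_compl

/-- Let k be an algebraically closed field and G a group scheme of finite type over k, with unit point e
(the image of the unit section). Then the tangent space of G at e is zero, that is the cotangent
space m_e/m_e² of the local ring O_{G,e} vanishes, if and only if G is isomorphic over k to a finite
disjoint union of copies of Spec k, stated as: the underlying space of G is finite and discrete and
the structure map k → O_{G,g} is bijective for every point g. (The published statement is over an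
arbitrary field; the group scheme of cube roots of unity over the rationals has zero tangent space
at the unit but a point with residue field larger than the base field, and the printed argument
translates by rational points, so the base field is taken algebraically closed here.) -/
theorem result (k : Type u) [Field k] [IsAlgClosed k]
    (G : Over (Spec (CommRingCat.of k))) [GrpObj G] [LocallyOfFiniteType G.hom] [QuasiCompact G.hom]
    (e : G.left) (he : e ∈ Set.range (η[G]).left.base) :
    letI : G.left.Over (Spec (CommRingCat.of k)) := ⟨G.hom⟩
    Subsingleton (IsLocalRing.CotangentSpace (G.left.presheaf.stalk e)) ↔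
      (Finite G.left ∧ DiscreteTopology G.left ∧
        ∀ g : G.left, Function.Bijective (Curv2.stalkMap k G.left g)) := by
  letI : G.left.Over (Spec (CommRingCat.of k)) := ⟨G.hom⟩
  haveI : LocallyOfFiniteType (G.left ↘ Spec (CommRingCat.of k)) := ‹LocallyOfFiniteType G.hom›
  haveI : IsLocallyNoetherian G.left := LocallyOfFiniteType.isLocallyNoetherian G.hom
  haveI : CompactSpace G.left := QuasiCompact.compactSpace_of_compactSpace G.hom
  haveI : IsNoetherian G.left := {}
  haveI : JacobsonSpace G.left := LocallyOfFiniteType.jacobsonSpace G.hom
  constructor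
  · intro h
    have hfe : IsField (G.left.presheaf.stalk e) := IsLocalRing.isField_iff_maximalIdeal_eq.mpr
      (IsLocalRing.isField_iff_maximalIdeal_eq.mp (IsLocalRing.subsingleton_cotangentSpace_iff.mp h))
    have hec : IsClosed ({e} : Set G.left) := by
      obtain ⟨a, rfl⟩ := he
      obtain rfl : a = IsLocalRing.closedPoint k := @Subsingleton.elim (PrimeSpectrum k) inferInstance _ _
      exact (pointEquivClosedPoint G.hom ⟨(η[G]).left, Over.w η[G]⟩).2
    have hbe : Function.Bijective (Curv2.stalkMap k G.left e) := by
      have h2 : Function.Bijective (G.left.residue e) := ⟨by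
        letI := hfe.toField
        exact (G.left.residue e).hom.injective, Ideal.Quotient.mk_surjective⟩
      have h1 := resMap_bijective (k := k) hec
      rw [Curv2.resMap, RingHom.coe_comp] at h1
      exact (Function.Bijective.of_comp_iff' h2 _).mp h1
    have key : ∀ g : G.left, IsClosed ({g} : Set G.left) →
        IsOpen ({g} : Set G.left) ∧ Function.Bijective (Curv2.stalkMap k G.left g) := fun g hg => by
      let g' : 𝟙_ _ ⟶ G := Over.homMk _ ((pointEquivClosedPoint G.hom).symm ⟨g, hg⟩).2
      let α := (GrpObj.mulRight (A := G) g').symm ≪≫ GrpObj.mulRight (A := G) η[G]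
      have hα : g' ≫ α.hom = η[G] := by
        dsimp only [Iso.trans_hom, Iso.symm_hom, α]
        rw [← Category.assoc, ← Iso.eq_comp_inv]
        simp [comp_lift_assoc]
      have hge : α.hom.left.base g = e := by
        obtain ⟨a, rfl⟩ := he
        obtain rfl : a = IsLocalRing.closedPoint k := @Subsingleton.elim (PrimeSpectrum k) inferInstance _ _
        simpa [g', pointEquivClosedPoint] using congr(($hα).left (IsLocalRing.closedPoint k))
      haveI : IsIso α.hom.left := (Over.forget _).map_isIso α.hom
      refine ⟨?_, ?_⟩
      · have : ({g} : Set G.left) = α.hom.left.base ⁻¹' {e} := by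
          ext y
          simp only [Set.mem_singleton_iff, Set.mem_preimage]
          exact ⟨fun h => h ▸ hge, fun h => α.hom.left.homeomorph.injective (h.trans hge.symm)⟩
        rw [this]
        exact (isOpen_singleton hec hfe).preimage α.hom.left.continuous
      · rw [← stalkMap_comp (k := k) α.hom.left (Over.w α.hom) g, RingHom.coe_comp]
        exact (ConcreteCategory.bijective_of_isIso (α.hom.left.stalkMap g)).comp (hge ▸ hbe)
    obtain ⟨hfin, hdisc⟩ :=
      Groth.Agent.LVCorrLib.finite_discrete_of_closedPoints_open fun g hg => (key g hg).1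
    exact ⟨hfin, hdisc, fun g => (key g (isClosed_discrete _)).2⟩
  · rintro ⟨-, -, h⟩
    have hF : IsField (G.left.presheaf.stalk e) :=
      MulEquiv.isField (Field.toIsField k) (RingEquiv.ofBijective _ (h e)).symm.toMulEquiv
    exact IsLocalRing.subsingleton_cotangentSpace_iff.mpr hF

end Groth.Agent.S14059
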