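import Groth.Statements.S1406
import Groth.Agent.AlgSpLib.Reduced
import Mathlib
-- import your own Groth.Agent.* helpers here

set_option autoImplicit false
universe u
open FlatMor

namespace Groth.Agent.S1406
set_option linter.all false

open AlgebraicGeometry CategoryTheory Limits in
/-- Let a : X' → X be flat, locally of finite presentation and surjective. Then all fibres of f : X → Y
are locally Noetherian if and only if all fibres of a ≫ f are. -/
theorem result {X X' Y : Scheme.{u}} (f : X ⟶ Y) (a : X' ⟶ X) [Flat a] [LocallyOfFinitePresentation a] [Surjective a] :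
    (∀ y : Y, IsLocallyNoetherian (f.fiber y)) ↔ ∀ y : Y, IsLocallyNoetherian ((a ≫ f).fiber y) := by
  have key : ∀ y : Y, ∃ g : (a ≫ f).fiber y ⟶ f.fiber y,
      Flat g ∧ LocallyOfFinitePresentation g ∧ Surjective g := by
    intro y
    let P := pullback a (f.fiberι y)
    have H : IsPullback (pullback.fst a (f.fiberι y))
        (pullback.snd a (f.fiberι y) ≫ f.fiberToSpecResidueField y) (a ≫ f)
        (Y.fromSpecResidueField y) :=
      (IsPullback.of_hasPullback a (f.fiberι y)).flip.paste_horiz
        (IsPullback.of_hasPullback f (Y.fromSpecResidueField y)).flip |>.flip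
    refine ⟨H.isoPullback.inv ≫ pullback.snd a (f.fiberι y), ?_, ?_, ?_⟩ <;> infer_instance
  refine forall_congr' fun y => ?_
  obtain ⟨g, hg1, hg2, hg3⟩ := key y
  exact ⟨fun h => haveI := h; LocallyOfFiniteType.isLocallyNoetherian g,
    fun h => haveI := h; AlgSpLib.isLocallyNoetherian_of_fppf_surjective g⟩

end Groth.Agent.S1406
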