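import Groth.Statements.S14065
import Groth.Agent.CurveDualLib.DualClosed
import Groth.Agent.CohCmpLib.SectionPair
-- import your own Groth.Agent.* helpers here

set_option autoImplicit false
universe u
open CategoryTheory CategoryTheory.Limits AlgebraicGeometry TopologicalSpace
open Curves

namespace Groth.Agent.S14065

/-- Let k be an algebraically closed field and C a smooth projective connected curve over k — an
integral scheme, proper and smooth over k, of dimension 1 — of genus g = dim_k H¹(C, O_C) with g ≥
2, and let T be the tangent module of C, a tensor inverse of the module of differentials Ω_{C/k}.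
Then dim_k H¹(C, T) = 3g − 3. (The published proof makes this computation, together with the
vanishing of H⁰(C, T), to find the dimension of the tangent space of the moduli stack of genus-g
curves at C; only the dimension of H¹(C, T) is stated here.) -/
theorem result (k : Type u) [Field k] [IsAlgClosed k]
    (C : Scheme.{u}) [C.Over (Spec (CommRingCat.of k))] [IsProper (C ↘ (Spec (CommRingCat.of k)))] [Smooth (C ↘ (Spec (CommRingCat.of k)))] [IsIntegral C]
    (hdim : topologicalKrullDim C = 1) (g : ℕ) (hg : Curv2.genus k C = g) (h2 : 2 ≤ g)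
    (T : C.Modules) (hT : ClSub.IsInverseOf T (Omega.sheaf (C ↘ (Spec (CommRingCat.of k))))) :
    Module.finrank k (Coh.HH C T 1) = 3 * g - 3 := by
  let Ω := Omega.sheaf (C ↘ (Spec (CommRingCat.of k)))
  have hΩ : PicF.IsInvertible Ω := CurveDualLib.omega_invertible hdim
  obtain ⟨eT⟩ := hT
  have hTi : PicF.IsInvertible T := CohCmpLib.isInvertible_of_inverse' hΩ (HilbPolyLib.swapIso Ω T ≪≫ eT)
  let M := CohB1.tensorMod Ω Ω
  have hM : PicF.IsInvertible M := HilbPolyLib.isInvertible_tensor hΩ hΩ
  have e : CohB1.tensorMod T M ≅ Ω :=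
    (HilbPolyLib.assocIso T Ω Ω).symm ≪≫ HilbPolyLib.congrLeft eT Ω ≪≫ HilbPolyLib.unitLeft Ω
  rw [CurveDualLib.h1_eq_h0_closed (k := k) hdim hTi hM e]
  have hd := GenusZeroLib.deg_tensor k hdim hΩ hΩ
  rw [CurveDualLib.deg_omega_closed (k := k) hdim, hg] at hd
  have h0 := RRVanLib.finrank_h0_structure (k := k) (X := C)
  haveI := RRVanLib.subsingleton_h1 (k := k) hdim h0 hM (by rw [hd, hg]; omega)
  have h2 := CurvLib.deg_curve (k := k) hdim M h0
  rw [hd, hg, Module.finrank_zero_of_subsingleton (R := k) (M := Coh.HH C M 1)] at h2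
  omega

end Groth.Agent.S14065
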