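import Groth.Statements.S14067
import Groth.Agent.SliceDenseLib.Main

set_option autoImplicit false
universe u
open CategoryTheory AlgebraicGeometry
open FamCyc

namespace Groth.Agent.S14067

/-- Standard smooth charts inside an open. -/
theorem exists_chart {X S : Scheme.{u}} (p : X ⟶ S) [Smooth p] (x : X) (V : X.Opens) (hx : x ∈ V) :
    ∃ W : X.Opens, IsAffineOpen W ∧ W ≤ V ∧ x ∈ W ∧ ∃ (U : S.Opens) (_ : IsAffineOpen U) (hWU : W ≤ p ⁻¹ᵁ U),
      (p.appLE U W hWU).hom.IsStandardSmooth := by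
  obtain ⟨U, hU, W₀, hW₀, hxW₀, e, hstd⟩ := Smooth.exists_isStandardSmooth p x
  obtain ⟨f, hfV, hxf⟩ := hW₀.exists_basicOpen_le (V := V) ⟨x, hx⟩ hxW₀
  refine ⟨X.basicOpen f, hW₀.basicOpen f, hfV, hxf, U, hU, (X.basicOpen_le f).trans e, ?_⟩
  haveI := hW₀.isLocalization_basicOpen f
  rw [← Scheme.Hom.appLE_map p e (homOfLE (X.basicOpen_le f)).op, CommRingCat.hom_comp]
  exact (RingHom.isStandardSmooth_holdsForLocalizationAway _ f).comp hstd

/-- The vanishing on one chart. -/
theorem eq_zero_on_chart {X S : Scheme.{u}} (p : X ⟶ S) (V : X.Opens) (t : Γ(X, V))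
    (h : ∀ (Z : Scheme.{u}) (j : Z ⟶ X), IsImmersion j → Etale (j ≫ p) → j.app V t = 0)
    (W : X.Opens) (hW : IsAffineOpen W) (hle : W ≤ V) (U : S.Opens) (hU : IsAffineOpen U) (hWU : W ≤ p ⁻¹ᵁ U)
    (hstd : (p.appLE U W hWU).hom.IsStandardSmooth) : X.presheaf.map (homOfLE hle).op t = 0 := by
  by_contra ht
  letI := (p.appLE U W hWU).hom.toAlgebra
  obtain ⟨ι, σ, _, _, ⟨P⟩⟩ := hstd
  haveI : Algebra.IsStandardSmoothOfRelativeDimension P.dimension Γ(S, U) Γ(X, W) :=
    ⟨_, _, _, ‹_›, P, rfl⟩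
  obtain ⟨C, _, _, φ, g, hEt, hu, hsurj, hφt⟩ :=
    SliceDenseLib.exists_immersive (A := Γ(S, U)) (B := Γ(X, W)) P.dimension ht
  let L := Localization.Away g
  let ψ : L →+* C := IsLocalization.Away.lift g (g := φ.toRingHom) hu
  have hψ : ψ.comp (algebraMap Γ(X, W) L) = φ.toRingHom := IsLocalization.Away.lift_comp _ _
  have hψs : Function.Surjective ψ := fun z => by
    obtain ⟨k, b, hb⟩ := hsurj z
    refine ⟨IsLocalization.mk' L b (⟨g ^ k, k, rfl⟩ : Submonoid.powers g), (hu.pow k).mul_left_inj.1 ?_⟩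
    rw [hb]
    have := congrArg ψ (IsLocalization.mk'_spec L b (⟨g ^ k, k, rfl⟩ : Submonoid.powers g))
    rw [map_mul, show ψ (algebraMap _ L (g ^ k)) = φ (g ^ k) from congr($hψ (g ^ k)), map_pow,
      show ψ (algebraMap _ L b) = φ b from congr($hψ b)] at this
    exact this
  haveI : IsClosedImmersion (Spec.map (CommRingCat.ofHom ψ)) :=
    IsClosedImmersion.spec_of_surjective _ hψs
  haveI : IsOpenImmersion (Spec.map (CommRingCat.ofHom (algebraMap Γ(X, W) L))) :=
    IsOpenImmersion.of_isLocalization g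
  let q : Spec (CommRingCat.of C) ⟶ Spec Γ(X, W) := Spec.map (CommRingCat.ofHom φ.toRingHom)
  haveI : IsImmersion q := by
    rw [show q = Spec.map (CommRingCat.ofHom ψ) ≫ Spec.map (CommRingCat.ofHom (algebraMap Γ(X, W) L)) by
      rw [← Spec.map_comp, ← CommRingCat.ofHom_comp, hψ]]
    infer_instance
  have hjp : (q ≫ hW.fromSpec) ≫ p = Spec.map (CommRingCat.ofHom (algebraMap Γ(S, U) C)) ≫ hU.fromSpec := by
    rw [Category.assoc, ← IsAffineOpen.SpecMap_appLE_fromSpec p hU hW hWU, ← Category.assoc, ← Spec.map_comp]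
    congr 2
    ext a
    exact φ.commutes a
  haveI : Etale (Spec.map (CommRingCat.ofHom (algebraMap Γ(S, U) C))) :=
    HasRingHomProperty.Spec_iff.mpr (RingHom.etale_algebraMap.mpr hEt)
  have h0 := h _ (q ≫ hW.fromSpec) inferInstance (by rw [hjp]; infer_instance)
  have h0' : q.app (hW.fromSpec ⁻¹ᵁ V) (hW.fromSpec.app V t) = 0 := h0
  have e : hW.fromSpec.app V ≫ q.app (hW.fromSpec ⁻¹ᵁ V) = X.presheaf.map (homOfLE hle).op ≫
      (Scheme.ΓSpecIso Γ(X, W)).inv ≫ q.app ⊤ ≫
      (Spec (CommRingCat.of C)).presheaf.map ((TopologicalSpace.Opens.map q.base).map (homOfLE le_top)).op := by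
    rw [IsAffineOpen.fromSpec_app_of_le hW V hle, Category.assoc, Category.assoc, Scheme.Hom.naturality q]
    rfl
  rw [← CommRingCat.comp_apply, e, CommRingCat.comp_apply, CommRingCat.comp_apply, CommRingCat.comp_apply] at h0'
  apply hφt
  have hinj : Function.Injective ((Spec (CommRingCat.of C)).presheaf.map
      ((TopologicalSpace.Opens.map q.base).map (homOfLE (le_top (a := hW.fromSpec ⁻¹ᵁ V)))).op) := by
    have : q ⁻¹ᵁ (hW.fromSpec ⁻¹ᵁ V) = ⊤ := eq_top_iff.2 fun z _ => hle (hW.range_fromSpec.le ⟨q z, rfl⟩)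
    haveI : IsIso ((TopologicalSpace.Opens.map q.base).map (homOfLE (le_top (a := hW.fromSpec ⁻¹ᵁ V)))) :=
      ⟨homOfLE this.ge, rfl, rfl⟩
    exact (ConcreteCategory.bijective_of_isIso _).1
  have h1 := hinj (h0'.trans (map_zero _).symm)
  have hn := congr(ConcreteCategory.hom $(Scheme.ΓSpecIso_inv_naturality (CommRingCat.ofHom φ.toRingHom))
    (X.presheaf.map (homOfLE hle).op t))
  replace h1 : (Scheme.ΓSpecIso (CommRingCat.of C)).inv (φ (X.presheaf.map (homOfLE hle).op t)) = 0 := hn.trans h1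
  exact (ConcreteCategory.bijective_of_isIso (Scheme.ΓSpecIso (CommRingCat.of C)).inv).1 (h1.trans (map_zero _).symm)

/-- Let p : X ⟶ S be a smooth morphism of schemes. The family of all immersions j : Z ⟶ X such that Z is
étale over S is schematically dominant: if t is a section of the structure sheaf of X over an open V
whose pullback along every such j is zero, then t = 0. -/
theorem result {X S : Scheme.{u}} (p : X ⟶ S) [Smooth p]
    (V : X.Opens) (t : Γ(X, V))
    (h : ∀ (Z : Scheme.{u}) (j : Z ⟶ X), IsImmersion j → Etale (j ≫ p) → j.app V t = 0) : t = 0 := by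
  refine X.sheaf.eq_of_locally_eq' (fun x : V => ?W) V (fun x => homOfLE ?hle) ?hcov t 0 fun x => ?heq
  case W =>
    exact (exists_chart p x.1 V x.2).choose
  case hle => exact (exists_chart p x.1 V x.2).choose_spec.2.1
  case hcov =>
    intro y hy
    exact TopologicalSpace.Opens.mem_iSup.2 ⟨⟨y, hy⟩, (exists_chart p y V hy).choose_spec.2.2.1⟩
  case heq =>
    obtain ⟨hW, hle, -, U, hU, hWU, hstd⟩ := (exists_chart p x.1 V x.2).choose_spec
    erw [map_zero]
    show X.presheaf.map (homOfLE hle).op t = 0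
    exact eq_zero_on_chart p V t h _ hW hle U hU hWU hstd

end Groth.Agent.S14067
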