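import Groth.Statements.S14068
import Groth.Agent.SliceDenseLib.FlatRing
import Groth.Agent.S14067
-- import your own Groth.Agent.* helpers here

set_option autoImplicit false
set_option maxHeartbeats 800000
universe u
open CategoryTheory AlgebraicGeometry
open FamCyc
open scoped TensorProduct

namespace Groth.Agent.S14068

/-- The vanishing on one chart. -/
theorem eq_zero_on_chart {S S' B' : Scheme.{u}} (g : S' ⟶ S) (q : B' ⟶ S') [Flat q] [LocallyOfFinitePresentation q]
    (V : B'.Opens) (t : Γ(B', V))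
    (h : ∀ (Z : Scheme.{u}) (j : Z ⟶ S'), IsImmersion j → Etale (j ≫ g) →
      (Limits.pullback.snd j q).app V t = 0)
    (W : S'.Opens) (hW : IsAffineOpen W) (U : S.Opens) (hU : IsAffineOpen U) (hWU : W ≤ g ⁻¹ᵁ U)
    (hstd : (g.appLE U W hWU).hom.IsStandardSmooth)
    (W' : B'.Opens) (hW' : IsAffineOpen W') (hle : W' ≤ V) (hW'W : W' ≤ q ⁻¹ᵁ W) :
    B'.presheaf.map (homOfLE hle).op t = 0 := by
  by_contra ht
  letI := (g.appLE U W hWU).hom.toAlgebra
  letI := (q.appLE W W' hW'W).hom.toAlgebra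
  obtain ⟨ι, σ, _, _, ⟨P⟩⟩ := hstd
  haveI : Algebra.IsStandardSmoothOfRelativeDimension P.dimension Γ(S, U) Γ(S', W) :=
    ⟨_, _, _, ‹_›, P, rfl⟩
  haveI : Module.Flat Γ(S', W) Γ(B', W') := q.flat_appLE hW hW' hW'W
  haveI : Algebra.FinitePresentation Γ(S', W) Γ(B', W') := q.finitePresentation_appLE hW hW' hW'W
  obtain ⟨C, _, _, φ, f, hEt, hu, hsurj, hφt⟩ :=
    SliceDenseLib.exists_immersive_flat (A := Γ(S, U)) (B := Γ(S', W)) (D := Γ(B', W')) P.dimension ht
  letI : Algebra Γ(S', W) C := φ.toRingHom.toAlgebra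
  let L := Localization.Away f
  let ψ : L →+* C := IsLocalization.Away.lift f (g := φ.toRingHom) hu
  have hψ : ψ.comp (algebraMap Γ(S', W) L) = φ.toRingHom := IsLocalization.Away.lift_comp _ _
  have hψs : Function.Surjective ψ := fun z => by
    obtain ⟨k, b, hb⟩ := hsurj z
    refine ⟨IsLocalization.mk' L b (⟨f ^ k, k, rfl⟩ : Submonoid.powers f), (hu.pow k).mul_left_inj.1 ?_⟩
    rw [hb]
    have := congrArg ψ (IsLocalization.mk'_spec L b (⟨f ^ k, k, rfl⟩ : Submonoid.powers f))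
    rw [map_mul, show ψ (algebraMap _ L (f ^ k)) = φ (f ^ k) from congr($hψ (f ^ k)), map_pow,
      show ψ (algebraMap _ L b) = φ b from congr($hψ b)] at this
    exact this
  haveI : IsClosedImmersion (Spec.map (CommRingCat.ofHom ψ)) :=
    IsClosedImmersion.spec_of_surjective _ hψs
  haveI : IsOpenImmersion (Spec.map (CommRingCat.ofHom (algebraMap Γ(S', W) L))) :=
    IsOpenImmersion.of_isLocalization f
  let i : Spec (CommRingCat.of C) ⟶ Spec Γ(S', W) := Spec.map (CommRingCat.ofHom φ.toRingHom)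
  haveI : IsImmersion i := by
    rw [show i = Spec.map (CommRingCat.ofHom ψ) ≫ Spec.map (CommRingCat.ofHom (algebraMap Γ(S', W) L)) by
      rw [← Spec.map_comp, ← CommRingCat.ofHom_comp, hψ]]
    infer_instance
  have hjp : (i ≫ hW.fromSpec) ≫ g = Spec.map (CommRingCat.ofHom (algebraMap Γ(S, U) C)) ≫ hU.fromSpec := by
    rw [Category.assoc, ← IsAffineOpen.SpecMap_appLE_fromSpec g hU hW hWU, ← Category.assoc, ← Spec.map_comp]
    congr 2
    ext a
    exact φ.commutes a
  haveI : Etale (Spec.map (CommRingCat.ofHom (algebraMap Γ(S, U) C))) :=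
    HasRingHomProperty.Spec_iff.mpr (RingHom.etale_algebraMap.mpr hEt)
  have h0 := h _ (i ≫ hW.fromSpec) inferInstance (by rw [hjp]; infer_instance)
  let E := C ⊗[Γ(S', W)] Γ(B', W')
  let a : Γ(B', W') →+* E :=
    (Algebra.TensorProduct.includeRight : Γ(B', W') →ₐ[Γ(S', W)] E).toRingHom
  let r : Spec (CommRingCat.of E) ⟶ Spec Γ(B', W') := Spec.map (CommRingCat.ofHom a)
  let w : Spec (CommRingCat.of E) ⟶ Limits.pullback (i ≫ hW.fromSpec) q :=
    Limits.pullback.lift (Spec.map (CommRingCat.ofHom Algebra.TensorProduct.includeLeftRingHom))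
      (r ≫ hW'.fromSpec) (by
        rw [Category.assoc, ← IsAffineOpen.SpecMap_appLE_fromSpec q hW hW' hW'W, ← Category.assoc, ← Category.assoc,
          ← Spec.map_comp, ← Spec.map_comp]
        congr 2
        ext b
        show (φ b) ⊗ₜ[Γ(S', W)] (1 : Γ(B', W')) = (1 : C) ⊗ₜ[Γ(S', W)] (algebraMap Γ(S', W) Γ(B', W') b)
        rw [Algebra.algebraMap_eq_smul_one, ← TensorProduct.smul_tmul, Algebra.smul_def, mul_one]
        rfl)
  have h1 : (r ≫ hW'.fromSpec).app V t = 0 := by
    have e : w ≫ Limits.pullback.snd (i ≫ hW.fromSpec) q = r ≫ hW'.fromSpec := Limits.pullback.lift_snd _ _ _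
    rw [Scheme.Hom.congr_app e.symm V, Scheme.Hom.comp_app]
    erw [CommRingCat.comp_apply, CommRingCat.comp_apply, h0, map_zero, map_zero]
  have h0' : r.app (hW'.fromSpec ⁻¹ᵁ V) (hW'.fromSpec.app V t) = 0 := h1
  have e : hW'.fromSpec.app V ≫ r.app (hW'.fromSpec ⁻¹ᵁ V) = B'.presheaf.map (homOfLE hle).op ≫
      (Scheme.ΓSpecIso Γ(B', W')).inv ≫ r.app ⊤ ≫
      (Spec (CommRingCat.of E)).presheaf.map ((TopologicalSpace.Opens.map r.base).map (homOfLE le_top)).op := by
    rw [IsAffineOpen.fromSpec_app_of_le hW' V hle, Category.assoc, Category.assoc, Scheme.Hom.naturality r]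
    rfl
  rw [← CommRingCat.comp_apply, e, CommRingCat.comp_apply, CommRingCat.comp_apply, CommRingCat.comp_apply] at h0'
  apply hφt
  have hinj : Function.Injective ((Spec (CommRingCat.of E)).presheaf.map
      ((TopologicalSpace.Opens.map r.base).map (homOfLE (le_top (a := hW'.fromSpec ⁻¹ᵁ V)))).op) := by
    have : r ⁻¹ᵁ (hW'.fromSpec ⁻¹ᵁ V) = ⊤ := eq_top_iff.2 fun z _ => hle (hW'.range_fromSpec.le ⟨r z, rfl⟩)
    haveI : IsIso ((TopologicalSpace.Opens.map r.base).map (homOfLE (le_top (a := hW'.fromSpec ⁻¹ᵁ V)))) :=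
      ⟨homOfLE this.ge, rfl, rfl⟩
    exact (ConcreteCategory.bijective_of_isIso _).1
  have h2 := hinj (h0'.trans (map_zero _).symm)
  have hn := congr(ConcreteCategory.hom $(Scheme.ΓSpecIso_inv_naturality (CommRingCat.ofHom a))
    (B'.presheaf.map (homOfLE hle).op t))
  replace h2 : (Scheme.ΓSpecIso (CommRingCat.of E)).inv (a (B'.presheaf.map (homOfLE hle).op t)) = 0 := hn.trans h2
  exact (ConcreteCategory.bijective_of_isIso (Scheme.ΓSpecIso (CommRingCat.of E)).inv).1 (h2.trans (map_zero _).symm)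

/-- Let g : S' ⟶ S be a smooth morphism and q : B' ⟶ S' a flat morphism locally of finite presentation.
Then the family of base changes Z ×_{S'} B' ⟶ B' of all immersions j : Z ⟶ S' with Z étale over S is
schematically dominant: a section of the structure sheaf of B' over an open V whose pullback along
every member of the family is zero is itself zero. -/
theorem result {S S' B' : Scheme.{u}} (g : S' ⟶ S) [Smooth g]
    (q : B' ⟶ S') [Flat q] [LocallyOfFinitePresentation q] (V : B'.Opens) (t : Γ(B', V))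
    (h : ∀ (Z : Scheme.{u}) (j : Z ⟶ S'), IsImmersion j → Etale (j ≫ g) →
      (Limits.pullback.snd j q).app V t = 0) : t = 0 := by
  have hch : ∀ x : V, ∃ W' : B'.Opens, x.1 ∈ W' ∧ ∃ hle : W' ≤ V, B'.presheaf.map (homOfLE hle).op t = 0 := fun x => by
    obtain ⟨W, hW, -, hxW, U, hU, hWU, hstd⟩ := Groth.Agent.S14067.exists_chart g (q x.1) ⊤ trivial
    obtain ⟨W', hW', hxW', hsub⟩ :=
      exists_isAffineOpen_mem_and_subset (U := V ⊓ q ⁻¹ᵁ W) (x := x.1) ⟨x.2, hxW⟩
    exact ⟨W', hxW', hsub.trans Set.inter_subset_left,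
      eq_zero_on_chart g q V t h W hW U hU hWU hstd W' hW' _ (hsub.trans Set.inter_subset_right)⟩
  choose W' hxW' hle hzero using hch
  refine B'.sheaf.eq_of_locally_eq' W' V (fun x => homOfLE (hle x))
    (fun y hy => TopologicalSpace.Opens.mem_iSup.2 ⟨⟨y, hy⟩, hxW' ⟨y, hy⟩⟩) t 0 fun x => ?_
  erw [map_zero]
  exact hzero x

end Groth.Agent.S14068
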