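import Groth.Statements.S14069
import Groth.Agent.EtLocLib.Unram
-- import your own Groth.Agent.* helpers here

set_option autoImplicit false
universe u
open CategoryTheory AlgebraicGeometry
open FamCyc

namespace Groth.Agent.S14069

/-- Let i : S₀ ⟶ S be a closed immersion, p : X ⟶ S a scheme over S, q : Y ⟶ S a smooth morphism, X₀ = X
×_S S₀, x₀ a point of X₀ and f₀ : X₀ ⟶ Y a morphism over S. Then there are a scheme U, an étale
morphism e : U ⟶ X whose base change U ×_X X₀ ⟶ X₀ is an open immersion whose image contains x₀, and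
a morphism f : U ⟶ Y over S whose restriction to U ×_X X₀ equals the restriction of f₀. -/
theorem result {S S₀ X Y : Scheme.{u}} (i : S₀ ⟶ S) [IsClosedImmersion i]
    (p : X ⟶ S) (q : Y ⟶ S) [Smooth q] (f₀ : Limits.pullback p i ⟶ Y)
    (hf₀ : f₀ ≫ q = Limits.pullback.fst p i ≫ p) (x₀ : ↥(Limits.pullback p i)) :
    ∃ (U : Scheme.{u}) (e : U ⟶ X) (f : U ⟶ Y), Etale e ∧ f ≫ q = e ≫ p ∧
      IsOpenImmersion (Limits.pullback.snd e (Limits.pullback.fst p i)) ∧
      x₀ ∈ Set.range (Limits.pullback.snd e (Limits.pullback.fst p i)).base ∧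
      Limits.pullback.snd e (Limits.pullback.fst p i) ≫ f₀ =
        Limits.pullback.fst e (Limits.pullback.fst p i) ≫ f := by
  let i0 := Limits.pullback.fst p i
  obtain ⟨S1, hS, Y1, hY, hy, e1, hss⟩ := Smooth.exists_isStandardSmooth q (f₀.base x₀)
  obtain ⟨n, g, hgC, hg⟩ := hss.exists_etale_mvPolynomial
  obtain ⟨W, hWo, hW⟩ := i0.isClosedEmbedding.isInducing.isOpen_iff.mp (f₀ ⁻¹ᵁ Y1).2
  have hxS : p.base (i0.base x₀) ∈ S1 := by
    rw [← Scheme.Hom.comp_apply, ← hf₀, Scheme.Hom.comp_apply]; exact e1 hy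
  have hxW : i0.base x₀ ∈ W := by
    have : x₀ ∈ i0.base ⁻¹' W := hW ▸ hy
    exact this
  obtain ⟨_, ⟨X1 : X.Opens, hX, rfl⟩, hx1, hsub⟩ :=
    X.isBasis_affineOpens.exists_subset_of_mem_open
      (show i0.base x₀ ∈ (W ∩ (p ⁻¹ᵁ S1 : Set X)) from ⟨hxW, hxS⟩) (hWo.inter (p ⁻¹ᵁ S1).2)
  have hX : IsAffineOpen X1 := hX
  have eX : X1 ≤ p ⁻¹ᵁ S1 := fun z hz => (hsub hz).2
  have eF : i0 ⁻¹ᵁ X1 ≤ f₀ ⁻¹ᵁ Y1 := fun z hz => by
    have h1 : z ∈ i0.base ⁻¹' W := (hsub hz).1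
    rw [hW] at h1
    exact h1
  have hX0 : IsAffineOpen (i0 ⁻¹ᵁ X1) := hX.preimage i0
  let C := Γ(X, X1)
  let C0 := Γ(Limits.pullback p i, i0 ⁻¹ᵁ X1)
  let π : C ⟶ C0 := i0.appLE X1 _ le_rfl
  let ψ : Γ(Y, Y1) ⟶ C0 := f₀.appLE Y1 _ eF
  let φ : Γ(S, S1) ⟶ C := p.appLE S1 X1 eX
  let qB : Γ(S, S1) ⟶ Γ(Y, Y1) := q.appLE S1 Y1 e1
  have hcomm : φ ≫ π = qB ≫ ψ := by
    apply Spec.map_injective
    rw [← cancel_mono hS.fromSpec, Spec.map_comp, Spec.map_comp, Category.assoc, Category.assoc,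
      IsAffineOpen.SpecMap_appLE_fromSpec p hS hX eX,
      IsAffineOpen.SpecMap_appLE_fromSpec q hS hY e1,
      IsAffineOpen.SpecMap_appLE_fromSpec_assoc i0 hX hX0 le_rfl,
      IsAffineOpen.SpecMap_appLE_fromSpec_assoc f₀ hY hX0 eF, hf₀]
  have hπ : Function.Surjective π.hom := by
    have := i0.app_surjective X1 hX
    rwa [Scheme.Hom.app_eq_appLE] at this
  choose c hc using fun k : Fin n => hπ (ψ.hom (g (MvPolynomial.X k)))
  let P := CommRingCat.of (MvPolynomial (Fin n) Γ(S, S1))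
  let hm : P ⟶ C := CommRingCat.ofHom (MvPolynomial.eval₂Hom φ.hom c)
  let gm : P ⟶ Γ(Y, Y1) := CommRingCat.ofHom g
  let Cm : Γ(S, S1) ⟶ P := CommRingCat.ofHom MvPolynomial.C
  have hCg : Cm ≫ gm = qB := CommRingCat.hom_ext hgC
  have hCh : Cm ≫ hm = φ := CommRingCat.hom_ext (RingHom.ext fun r => MvPolynomial.eval₂_C ..)
  have hsq : hm ≫ π = gm ≫ ψ := by
    refine CommRingCat.hom_ext (MvPolynomial.ringHom_ext (fun r => ?_) fun k => ?_)
    · have h1 := congr($(hcomm) r)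
      rw [← hCh, ← hCg, Category.assoc, Category.assoc] at h1
      exact h1
    · change π.hom (MvPolynomial.eval₂ φ.hom c (MvPolynomial.X k)) = _
      rw [MvPolynomial.eval₂_X]
      exact hc k
  haveI : Etale (Spec.map gm) := (HasRingHomProperty.Spec_iff (P := @Etale)).2 hg
  let U1 := Limits.pullback (Spec.map hm) (Spec.map gm)
  let p1 : U1 ⟶ Spec C := Limits.pullback.fst _ _
  let q1 : U1 ⟶ Spec Γ(Y, Y1) := Limits.pullback.snd _ _
  haveI : Etale p1 := MorphismProperty.pullback_fst _ _ ‹Etale (Spec.map gm)›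
  let ee : U1 ⟶ X := p1 ≫ hX.fromSpec
  haveI : Etale ee := inferInstanceAs (Etale (p1 ≫ hX.fromSpec))
  let σ : Spec C0 ⟶ U1 := Limits.pullback.lift (Spec.map π) (Spec.map ψ)
    (by rw [← Spec.map_comp, ← Spec.map_comp, hsq])
  let P1 := Limits.pullback ee i0
  let s1 : P1 ⟶ Limits.pullback p i := Limits.pullback.snd _ _
  haveI : Etale s1 := MorphismProperty.pullback_snd _ _ ‹Etale ee›
  let σ0 : Spec C0 ⟶ P1 := Limits.pullback.lift σ hX0.fromSpec (by
    simp only [σ, ee, p1, Limits.pullback.lift_fst_assoc]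
    exact IsAffineOpen.SpecMap_appLE_fromSpec i0 hX hX0 le_rfl)
  haveI : IsOpenImmersion (σ0 ≫ s1) := by
    rw [Limits.pullback.lift_snd]; infer_instance
  haveI : IsOpenImmersion σ0 := EtLocLib.isOpenImmersion_of_comp σ0 s1
  let t1 : P1 ⟶ U1 := Limits.pullback.fst _ _
  haveI : IsClosedImmersion t1 := MorphismProperty.pullback_fst _ _ (inferInstanceAs (IsClosedImmersion i0))
  let U' : U1.Opens := ⟨(t1.base '' (Set.range σ0.base)ᶜ)ᶜ,
    (t1.isClosedEmbedding.isClosedMap _ σ0.isOpenEmbedding.isOpen_range.isClosed_compl).isOpen_compl⟩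
  let e : (U' : Scheme.{u}) ⟶ X := U'.ι ≫ ee
  let m : Limits.pullback e i0 ⟶ P1 :=
    Limits.pullback.map _ _ _ _ U'.ι (𝟙 _) (𝟙 _) (by simp [e]) (by simp)
  haveI : IsOpenImmersion m := inferInstance
  have hm1 : m ≫ t1 = Limits.pullback.fst e i0 ≫ U'.ι := Limits.pullback.lift_fst _ _ _
  have hm2 : m ≫ s1 = Limits.pullback.snd e i0 := (Limits.pullback.lift_snd _ _ _).trans (Category.comp_id _)
  have hrm : Set.range m.base ⊆ Set.range σ0.base := by
    rintro _ ⟨z, rfl⟩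
    by_contra hz
    have h1 : t1.base (m.base z) ∈ U' := by
      rw [← Scheme.Hom.comp_apply, hm1, Scheme.Hom.comp_apply]; exact Subtype.prop _
    exact h1 ⟨_, hz, rfl⟩
  let l := IsOpenImmersion.lift σ0 m hrm
  have hl : l ≫ σ0 = m := IsOpenImmersion.lift_fac ..
  haveI : IsOpenImmersion l := by
    haveI : IsOpenImmersion (l ≫ σ0) := hl ▸ inferInstance
    exact IsOpenImmersion.of_comp l σ0
  have hls : Limits.pullback.snd e i0 = l ≫ hX0.fromSpec := by
    rw [← hm2, ← hl, Category.assoc, Limits.pullback.lift_snd]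
  refine ⟨U', e, U'.ι ≫ q1 ≫ hY.fromSpec, inferInstanceAs (Etale (U'.ι ≫ ee)), ?_, ?_, ?_, ?_⟩
  · simp only [e, ee, Category.assoc]
    rw [← IsAffineOpen.SpecMap_appLE_fromSpec q hS hY e1, ← IsAffineOpen.SpecMap_appLE_fromSpec p hS hX eX,
      show q.appLE S1 Y1 e1 = Cm ≫ gm from hCg.symm, show p.appLE S1 X1 eX = Cm ≫ hm from hCh.symm,
      Spec.map_comp, Spec.map_comp]
    simp only [p1, q1, Category.assoc, Limits.pullback.condition_assoc]
  · show IsOpenImmersion (Limits.pullback.snd e i0)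
    rw [hls]; infer_instance
  · show x₀ ∈ Set.range (Limits.pullback.snd e i0).base
    let z := hX0.primeIdealOf ⟨x₀, hx1⟩
    have hzU : t1.base (σ0.base z) ∈ U' := fun ⟨w, hw, hwe⟩ =>
      hw (t1.isClosedEmbedding.injective hwe ▸ ⟨z, rfl⟩)
    have hz : s1.base (σ0.base z) = x₀ := by
      rw [← Scheme.Hom.comp_apply, Limits.pullback.lift_snd]
      exact hX0.fromSpec_primeIdealOf ⟨x₀, hx1⟩
    obtain ⟨v, -, hv⟩ := Scheme.Pullback.exists_preimage_pullback (f := e) (g := i0) ⟨_, hzU⟩ x₀ (by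
      show ee.base (t1.base (σ0.base z)) = i0.base x₀
      rw [← hz]
      exact congrArg (fun h => h.base (σ0.base z)) (Limits.pullback.condition (f := ee) (g := i0)))
    exact ⟨v, hv⟩
  · show Limits.pullback.snd e i0 ≫ f₀ = Limits.pullback.fst e i0 ≫ U'.ι ≫ q1 ≫ hY.fromSpec
    rw [← reassoc_of% hm1, hls, Category.assoc, ← IsAffineOpen.SpecMap_appLE_fromSpec f₀ hY hX0 eF, ← hl]
    simp only [t1, σ0, σ, q1, ψ, Category.assoc, Limits.pullback.lift_fst_assoc, Limits.pullback.lift_snd_assoc]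

end Groth.Agent.S14069
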