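import Groth.Statements.S14070
import Mathlib
import Groth.Agent.UOpenLib.UnibranchAffine

set_option autoImplicit false
open CategoryTheory AlgebraicGeometry
universe u
open FamCyc

namespace Groth.Agent.S14070

/-- Let S be a scheme all of whose local rings are geometrically unibranch and which has only finitely
many irreducible components, and let f : X ⟶ S be a morphism locally of finite type such that every
point x of X lies on an irreducible component W of X (given its reduced subscheme structure) with W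
⟶ S equidimensional at x. Then f is universally open. (No Noetherian hypothesis on S: finiteness of
its set of irreducible components is what is used, and the statement fails without it.) -/
theorem result {X S : Scheme.{u}}
    (hS : ∀ s : S, CAlg2.IsGeomUnibranch (S.presheaf.stalk s))
    (hfin : (irreducibleComponents (S : Type u)).Finite)
    (f : X ⟶ S) [LocallyOfFiniteType f]
    (hT : ∀ x : X, ∃ W : TopologicalSpace.Closeds X, (W : Set X) ∈ irreducibleComponents (X : Type u) ∧
      ∃ w : ↥((Scheme.IdealSheafData.vanishingIdeal W).subscheme),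
        (Scheme.IdealSheafData.vanishingIdeal W).subschemeι.base w = x ∧
        EGA43.IsEquidimAt ((Scheme.IdealSheafData.vanishingIdeal W).subschemeι ≫ f) w) :
    UniversallyOpen f := by
  -- each point of the base has an irreducible open neighbourhood
  have huniq : ∀ s : S, ∀ η₁ η₂ : S, closure {η₁} ∈ irreducibleComponents (S : Type u) →
      closure {η₂} ∈ irreducibleComponents (S : Type u) → η₁ ⤳ s → η₂ ⤳ s → η₁ = η₂ := by
    intro s η₁ η₂ h₁ h₂ hs₁ hs₂
    let O := S.presheaf.stalk s
    have hnil : (nilradical O).IsPrime :=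
      (Ideal.Quotient.isDomain_iff_prime _).mp (hS s).1.1
    let n : ↥(Spec O) := (⟨nilradical O, hnil⟩ : PrimeSpectrum O)
    have key : ∀ η, closure {η} ∈ irreducibleComponents (S : Type u) → η ⤳ s →
        (S.fromSpecStalk s).base n = η := by
      intro η hη hηs
      obtain ⟨r, hr⟩ : η ∈ Set.range (S.fromSpecStalk s).base := by
        rw [Scheme.range_fromSpecStalk]; exact hηs
      have hn : n ⤳ r := (PrimeSpectrum.le_iff_specializes _ _).mp
        (show nilradical O ≤ (r : PrimeSpectrum O).asIdeal from nilradical_le_prime _)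
      exact FibDimLib.eq_of_specializes_of_closure_mem hη (hr ▸ hn.map (S.fromSpecStalk s).continuous)
    exact (key η₁ h₁ hs₁).symm.trans (key η₂ h₂ hs₂)
  have hnhd : ∀ s : S, ∀ η : S, closure {η} ∈ irreducibleComponents (S : Type u) → η ⤳ s →
      ∃ V : S.Opens, IsAffineOpen V ∧ s ∈ V ∧ ∀ y ∈ V, η ⤳ y := by
    intro s η hη hηs
    let O : Set S := (⋃ Z ∈ {Z ∈ irreducibleComponents (S : Type u) | Z ≠ closure {η}}, Z)ᶜ
    have hO : IsOpen O := (Set.Finite.isClosed_biUnion (hfin.subset fun Z hZ ↦ hZ.1)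
      fun Z hZ ↦ isClosed_of_mem_irreducibleComponents Z hZ.1).isOpen_compl
    have hgen : ∀ Z ∈ irreducibleComponents (S : Type u), ∃ z, Z = closure {z} := by
      intro Z hZ
      have h := (hZ.1 : IsIrreducible Z).isGenericPoint_genericPoint_closure
      rw [closure_eq_iff_isClosed.mpr (isClosed_of_mem_irreducibleComponents _ hZ)] at h
      exact ⟨_, h.def.symm⟩
    have hsO : s ∈ O := by
      simp only [O, Set.mem_compl_iff, Set.mem_iUnion, not_exists]
      rintro Z ⟨hZ, hne⟩ hsZ
      obtain ⟨z, rfl⟩ := hgen Z hZ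
      exact hne (by rw [huniq s z η hZ hη (specializes_iff_mem_closure.mpr hsZ) hηs])
    obtain ⟨_, ⟨V, hV, rfl⟩, hsV, hVO⟩ :=
      S.isBasis_affineOpens.exists_subset_of_mem_open hsO hO
    refine ⟨V, hV, hsV, fun y hy ↦ specializes_iff_mem_closure.mpr ?_⟩
    by_contra hyc
    exact hVO hy (Set.mem_biUnion (x := irreducibleComponent y)
      ⟨irreducibleComponent_mem_irreducibleComponents y, fun e ↦ hyc (e ▸ mem_irreducibleComponent)⟩
      mem_irreducibleComponent)
  refine ⟨fun P Y' i₁ k f' sq O hO ↦ isOpen_iff_mem_nhds.mpr ?_⟩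
  rintro _ ⟨p, hp, rfl⟩
  refine UOpenLib.IsUnivOpenAt.isOpenAt (f := f) (x := i₁.base p) ?_ sq.flip p rfl O (hO.mem_nhds hp)
  generalize i₁.base p = x
  obtain ⟨W, -, w, hw, e, U, hwU, hcomp, hdim⟩ := hT x
  subst hw
  set g := (Scheme.IdealSheafData.vanishingIdeal W).subschemeι ≫ f with hgdef
  suffices H : EGA43.IsUnivOpenAt g w from UOpenLib.IsUnivOpenAt.of_comp H
  let g' := U.ι ≫ g
  suffices H : EGA43.IsUnivOpenAt g' ⟨w, hwU⟩ from UOpenLib.IsUnivOpenAt.of_comp H
  obtain ⟨x₀, hx₀g, hx₀w, hx₀max, hx₀d⟩ := UOpenLib.exists_max_fibreDimAt g' ⟨w, hwU⟩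
  refine UOpenLib.isUnivOpenAt_of_specializes g' hx₀w hx₀g ?_
  obtain ⟨ζ, hζ, hζx₀⟩ := DvrDomLib.exists_generic_specializes x₀
  obtain ⟨W', hW', hwW', hclos⟩ := hcomp _ hζ
  have hgen : closure {g'.base ζ} = W' := by
    rw [← hclos, closure_image_closure (U.ι ≫ g).continuous, Set.image_singleton]
  have hηs : g'.base ζ ⤳ g'.base x₀ := by
    rw [hx₀g]
    exact specializes_iff_mem_closure.mpr (hgen.symm ▸ hwW')
  obtain ⟨V, hV, hxV, hVgen⟩ := hnhd (g'.base x₀) (g'.base ζ) (hgen.symm ▸ hW') hηs
  refine UOpenLib.isUnivOpenAt_of_unibranch_affine g' x₀ hV hxV (hS _) hζx₀ hVgen ?_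
  rw [UOpenLib.fibreDimAt_eq_of_max g' hx₀max]
  have h1 : UOpenLib.fibreClosureDim g' ζ = e :=
    hdim ζ _ (UOpenLib.closure_asFiber_mem g' fun x' _ hx' ↦
      FibDimLib.eq_of_specializes_of_closure_mem hζ (specializes_iff_mem_closure.mpr hx'))
  have h2 : UOpenLib.fibreClosureDim g' x₀ = e :=
    hdim x₀ _ (UOpenLib.closure_asFiber_mem g' hx₀max)
  rw [h1, h2]

end Groth.Agent.S14070
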