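import Groth.Statements.S14073
import Mathlib
import Groth.Agent.FFRDetLib.Basic
-- import your own Groth.Agent.* helpers here

set_option autoImplicit false
universe u
open FamCyc

namespace Groth.Agent.S14073

/-- Let A be a Noetherian ring, M an A-module with a finite resolution by finite free modules, and φ an
endomorphism of M. Then there is a unique element of A (the determinant of φ) whose image in A_p is
the determinant of the localized endomorphism φ_p of the free A_p-module M_p, for every prime p of A
at which M_p is free. -/
theorem result (A : Type u) [CommRing A] [IsNoetherianRing A]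
    (M : Type u) [AddCommGroup M] [Module A M] (n : ℕ) (hM : FamCyc.HasFiniteFreeResolutionLE A n M)
    (φ : M →ₗ[A] M) :
    ∃! a : A, ∀ (p : Ideal A) [p.IsPrime],
      Module.Free (Localization.AtPrime p) (LocalizedModule p.primeCompl M) →
        algebraMap A (Localization.AtPrime p) a =
          LinearMap.det (LocalizedModule.map p.primeCompl φ) := by
  haveI := Groth.Agent.FFRDetLib.finite_of_ffr n hM
  obtain ⟨r, c, -, -, hass, hp⟩ := Groth.Agent.FFRDetLib.exists_isCP n hM φ
  have key : ∀ (p : Ideal A) [p.IsPrime],
      Module.Free (Localization.AtPrime p) (LocalizedModule p.primeCompl M) →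
        algebraMap A (Localization.AtPrime p) ((-1) ^ r * c.coeff 0) =
          LinearMap.det (LocalizedModule.map p.primeCompl φ) := by
    intro p _ hfree
    haveI := hfree
    obtain ⟨h1, h2⟩ := hp p
    haveI : Module.Finite (Localization.AtPrime p) (LocalizedModule p.primeCompl M) :=
      Module.Finite.of_isLocalizedModule p.primeCompl (LocalizedModule.mkLinearMap p.primeCompl M)
    have e := LinearMap.det_eq_sign_charpoly_coeff (R := Localization.AtPrime p)
      (M := LocalizedModule p.primeCompl M) (LocalizedModule.map p.primeCompl φ)
    rw [map_mul, map_pow, map_neg, map_one, ← Polynomial.coeff_map, ← h2, ← h1]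
    exact e.symm
  refine ⟨(-1) ^ r * c.coeff 0, key, fun a ha => sub_eq_zero.1 (Groth.Agent.FFRDetLib.eq_zero_of_forall_ass A _ fun p _ hpp => ?_)⟩
  rw [map_sub, ha p (hass p hpp), key p (hass p hpp), sub_self]

end Groth.Agent.S14073
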