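import Groth.Statements.S14077
import Groth.Agent.FamDescLib.Glob

set_option autoImplicit false
set_option backward.isDefEq.respectTransparency false
open CategoryTheory CategoryTheory.Limits AlgebraicGeometry
universe u
open FamCyc

namespace Groth.Agent.S14077

/-- Let p : X ⟶ S be flat and locally of finite presentation and g : G ⟶ S proper and smooth with
geometrically connected fibres. Let S₀ ⟶ S be the closed subscheme defined by the nilradical, X₀ = X
×_S S₀, and Z₀ a closed subscheme of X₀, locally of finite presentation and flat over S₀. Let W be a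
closed subscheme of X ×_S G, flat and locally of finite presentation over G, whose preimage in (X
×_S G) ×_S S₀ coincides with the preimage of Z₀. Then there is exactly one closed subscheme Z of X,
flat and locally of finite presentation over S, whose preimage in X₀ is Z₀ and whose preimage in X
×_S G is W. (The published statement allows locally closed subschemes and asks W ⟶ G to be flat and
finitely presented only over a schematically dense open subset containing all points of relative
codimension one over Z₀; this row states the case where that open subset is all of W and the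
subschemes are closed.) -/
theorem result {S X G : Scheme.{u}}
    (p : X ⟶ S) [Flat p] [LocallyOfFinitePresentation p]
    (g : G ⟶ S) [IsProper g] [Smooth g] [GeometricallyConnected g]
    (Z₀ : (pullback p S.nilradical.subschemeι).IdealSheafData)
    [Flat (Z₀.subschemeι ≫ pullback.snd p S.nilradical.subschemeι)]
    [LocallyOfFinitePresentation (Z₀.subschemeι ≫ pullback.snd p S.nilradical.subschemeι)]
    (W : (pullback p g).IdealSheafData)
    [Flat (W.subschemeι ≫ pullback.snd p g)] [LocallyOfFinitePresentation (W.subschemeι ≫ pullback.snd p g)]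
    (hW : W.comap (pullback.fst (pullback.fst p g ≫ p) S.nilradical.subschemeι) =
      Z₀.comap (pullback.map (pullback.fst p g ≫ p) S.nilradical.subschemeι p S.nilradical.subschemeι
        (pullback.fst p g) (𝟙 _) (𝟙 S) (Category.comp_id _)
        ((Category.comp_id _).trans (Category.id_comp _).symm))) :
    ∃! Z : X.IdealSheafData, Flat (Z.subschemeι ≫ p) ∧ LocallyOfFinitePresentation (Z.subschemeι ≫ p) ∧
      Z.comap (pullback.fst p S.nilradical.subschemeι) = Z₀ ∧ Z.comap (pullback.fst p g) = W := by
  haveI : Flat (pullback.fst p g) := MorphismProperty.pullback_fst _ _ inferInstance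
  haveI : QuasiCompact (pullback.fst p g) := MorphismProperty.pullback_fst _ _ inferInstance
  haveI : Surjective (pullback.fst p g) := MorphismProperty.pullback_fst _ _ inferInstance
  have heq : W.comap (pullback.fst (pullback.fst p g) (pullback.fst p g)) =
      W.comap (pullback.snd (pullback.fst p g) (pullback.fst p g)) := by
    have hloc : ∀ z : (pullback (pullback.fst p g) (pullback.fst p g) : Scheme),
        ∃ (T : Type u) (_ : CommRing T) (q : Spec (CommRingCat.of T) ⟶ pullback (pullback.fst p g) (pullback.fst p g)),
          IsOpenImmersion q ∧ z ∈ Set.range q ∧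
          (W.comap (pullback.fst (pullback.fst p g) (pullback.fst p g))).comap q =
            (W.comap (pullback.snd (pullback.fst p g) (pullback.fst p g))).comap q := by
      intro z
      let w := pullback.fst (pullback.fst p g) (pullback.fst p g) z
      obtain ⟨U, hU, hwU, -⟩ := exists_isAffineOpen_mem_and_subset (X := G) (x := pullback.snd p g w) (U := ⊤) trivial
      obtain ⟨V, hV, hwV, hVU⟩ := exists_isAffineOpen_mem_and_subset (X := pullback p g) (x := w)
        (U := pullback.snd p g ⁻¹ᵁ U) hwU
      letI : Algebra Γ(G, U) Γ(pullback p g, V) := ((pullback.snd p g).appLE U V hVU).hom.toAlgebra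
      haveI : Algebra.FinitePresentation Γ(G, U) Γ(pullback p g, V) :=
        (pullback.snd p g).finitePresentation_appLE hU hV hVU
      obtain ⟨Y, y, hy, hrange, hyeq⟩ := FamDesc.comap_local Z₀ W hW hU.fromSpec hV.fromSpec
        (hU.SpecMap_appLE_fromSpec _ hV hVU).symm
      obtain ⟨y₀, hy₀⟩ := hrange (show w ∈ Set.range hV.fromSpec by rw [hV.range_fromSpec]; exact hwV)
      obtain ⟨V', hV', hyV', -⟩ := exists_isAffineOpen_mem_and_subset (X := Y) (x := y₀) (U := ⊤) trivial
      refine ⟨Γ(Y, V'), inferInstance, hV'.fromSpec ≫ y, inferInstance, ?_, ?_⟩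
      · rw [← SetLike.mem_coe, ← hV'.range_fromSpec] at hyV'
        obtain ⟨t, ht⟩ := hyV'
        exact ⟨t, (Scheme.Hom.comp_apply _ _ _).trans ((congrArg y ht).trans hy₀)⟩
      · rw [Scheme.IdealSheafData.comap_comp, hyeq, ← Scheme.IdealSheafData.comap_comp]
    choose T iT q hq hz he using hloc
    haveI := hq
    exact FamDesc.eq_of_cover q (fun z => ⟨z, hz z⟩) he
  obtain ⟨Z, hZ⟩ := Groth.Agent.S11731.exists_descend (pullback.fst p g) W heq
  have hinj := Groth.Agent.S4666.result (pullback.fst p g)
  refine ⟨Z, ⟨?_, ?_, ?_, hZ⟩, fun Z' hZ' => hinj (hZ'.2.2.2.trans hZ.symm)⟩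
  · refine SubDesc.prop_of_fpqc @Flat g (Z.subschemeι ≫ p) ?_
    have h1 : Flat ((Z.comap (pullback.fst p g)).subschemeι ≫ pullback.snd p g) := by rw [hZ]; infer_instance
    rw [FamDesc.prop_comap_iff @Flat] at h1
    have h2 := ((IsPullback.of_hasPullback Z.subschemeι (pullback.fst p g)).paste_vert (IsPullback.of_hasPullback p g))
    rw [← h2.isoPullback_hom_snd, MorphismProperty.cancel_left_of_respectsIso (P := @Flat)] at h1
    exact h1
  · refine SubDesc.prop_of_fpqc @LocallyOfFinitePresentation g (Z.subschemeι ≫ p) ?_
    have h1 : LocallyOfFinitePresentation ((Z.comap (pullback.fst p g)).subschemeι ≫ pullback.snd p g) := by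
      rw [hZ]; infer_instance
    rw [FamDesc.prop_comap_iff @LocallyOfFinitePresentation] at h1
    have h2 := ((IsPullback.of_hasPullback Z.subschemeι (pullback.fst p g)).paste_vert (IsPullback.of_hasPullback p g))
    rw [← h2.isoPullback_hom_snd, MorphismProperty.cancel_left_of_respectsIso (P := @LocallyOfFinitePresentation)] at h1
    exact h1
  · let m := pullback.map (pullback.fst p g ≫ p) S.nilradical.subschemeι p S.nilradical.subschemeι
      (pullback.fst p g) (𝟙 _) (𝟙 S) (Category.comp_id _) ((Category.comp_id _).trans (Category.id_comp _).symm)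
    have hsq : IsPullback m (pullback.fst (pullback.fst p g ≫ p) S.nilradical.subschemeι)
        (pullback.fst p S.nilradical.subschemeι) (pullback.fst p g) := by
      refine IsPullback.of_right (h₁₂ := pullback.snd p S.nilradical.subschemeι)
        (v₁₃ := S.nilradical.subschemeι) (h₂₂ := p) ?_ (pullback.lift_fst _ _ _)
        (IsPullback.of_hasPullback p S.nilradical.subschemeι).flip
      rw [pullback.lift_snd, Category.comp_id]
      exact (IsPullback.of_hasPullback _ _).flip
    haveI : Flat m := MorphismProperty.of_isPullback hsq.flip ‹Flat (pullback.fst p g)›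
    haveI : Surjective m := MorphismProperty.of_isPullback hsq.flip ‹Surjective (pullback.fst p g)›
    refine Groth.Agent.S4666.result m ?_
    show (Z.comap _).comap m = Z₀.comap m
    rw [← Scheme.IdealSheafData.comap_comp, hsq.w, Scheme.IdealSheafData.comap_comp, hZ, hW]

end Groth.Agent.S14077
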