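import Groth.Statements.S14078
import Groth.Agent.EtSplitLib.Residue

set_option autoImplicit false
open CategoryTheory CategoryTheory.Limits AlgebraicGeometry
universe u
open FamCyc

namespace Groth.Agent.S14078

/-- Let f : X ⟶ S be a morphism of schemes locally of finite type, i : Z ⟶ X an immersion such that Z ⟶
S is locally quasi-finite, and z a point of Z. Then there are an étale morphism g : T ⟶ S and an
open subscheme U of X ×_S T such that the preimage U ×_X Z of Z in U is finite over T and contains a
point u over z whose residue field extension κ(z) → κ(u) is an isomorphism, u being moreover the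
only point of U ×_X Z in its fibre over T. (The published statement covers algebraic spaces X, with
U ⟶ X ×_S T étale in general and an open subspace when X is a scheme; this row is the scheme case.) -/
theorem result {Z X S : Scheme.{u}} (f : X ⟶ S)
    [LocallyOfFiniteType f] (i : Z ⟶ X) [IsImmersion i] [LocallyQuasiFinite (i ≫ f)] (z : Z) :
    ∃ (T : Scheme.{u}) (g : T ⟶ S) (U : (pullback f g).Opens)
      (u : ↥(pullback (U.ι ≫ pullback.fst f g) i)),
      Etale g ∧
      IsFinite (pullback.fst (U.ι ≫ pullback.fst f g) i ≫ U.ι ≫ pullback.snd f g) ∧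
      (pullback.snd (U.ι ≫ pullback.fst f g) i).base u = z ∧
      IsIso ((pullback.snd (U.ι ≫ pullback.fst f g) i).residueFieldMap u) ∧
      ∀ u' : ↥(pullback (U.ι ≫ pullback.fst f g) i),
        (pullback.fst (U.ι ≫ pullback.fst f g) i ≫ U.ι ≫ pullback.snd f g).base u' =
          (pullback.fst (U.ι ≫ pullback.fst f g) i ≫ U.ι ≫ pullback.snd f g).base u → u' = u := by
  let h := i ≫ f
  obtain ⟨T, g, hg, v, W, q, -, hbij, hW, hqW, hqv, hqz, huniq⟩ :=
    EtLocLib.exists_finite_open_elementary h z
  let i' : pullback h g ⟶ pullback f g := pullback.lift (pullback.fst h g ≫ i)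
    (pullback.snd h g) (by rw [Category.assoc]; exact pullback.condition)
  have hi' : IsPullback (pullback.fst h g) i' i (pullback.fst f g) :=
    IsPullback.of_bot (by rw [pullback.lift_snd]; exact IsPullback.of_hasPullback h g)
      (pullback.lift_fst ..).symm (IsPullback.of_hasPullback f g)
  haveI : IsImmersion i' := MorphismProperty.of_isPullback hi' inferInstance
  obtain ⟨U₀, hU₀, hUW⟩ := i'.isEmbedding.isInducing.isOpen_iff.mp W.2
  let U : (pullback f g).Opens := ⟨U₀, hU₀⟩
  obtain rfl : i' ⁻¹ᵁ U = W := TopologicalSpace.Opens.ext hUW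
  have hP : IsPullback (i' ∣_ U) ((i' ⁻¹ᵁ U).ι ≫ pullback.fst h g)
      (U.ι ≫ pullback.fst f g) i :=
    ((isPullback_morphismRestrict i' U).flip.paste_horiz hi').flip
  let e := hP.isoPullback
  have he : e.hom ≫ (pullback.fst (U.ι ≫ pullback.fst f g) i ≫ U.ι ≫ pullback.snd f g) =
      (i' ⁻¹ᵁ U).ι ≫ pullback.snd h g := by
    rw [← Category.assoc, hP.isoPullback_hom_fst, morphismRestrict_ι_assoc, pullback.lift_snd]
  let q' : ↥((i' ⁻¹ᵁ U).toScheme) := (⟨q, hqW⟩ : (i' ⁻¹ᵁ U))
  refine ⟨T, g, U, e.hom q', hg, ?_, ?_, ?_, ?_⟩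
  · haveI := hW
    rw [← Iso.inv_hom_id_assoc e (pullback.fst (U.ι ≫ pullback.fst f g) i ≫ U.ι ≫ pullback.snd f g), he]
    infer_instance
  · change (e.hom ≫ pullback.snd _ _).base q' = z
    rw [hP.isoPullback_hom_snd]
    exact hqz
  · haveI h0 : IsIso ((pullback.fst h g).residueFieldMap ((i' ⁻¹ᵁ U).ι q')) :=
      (ConcreteCategory.isIso_iff_bijective _).mpr
        (EtSplitLib.bijective_residueFieldMap_fst h g q (by rw [hqv]; exact hbij))
    have key : IsIso ((e.hom ≫ pullback.snd _ _).residueFieldMap q') := by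
      rw [Scheme.Hom.residueFieldMap_congr hP.isoPullback_hom_snd, Scheme.residueFieldMap_comp]
      exact IsIso.comp_isIso' inferInstance (IsIso.comp_isIso' h0 inferInstance)
    have key2 : IsIso ((pullback.snd (U.ι ≫ pullback.fst f g) i).residueFieldMap (e.hom q') ≫
        e.hom.residueFieldMap q') :=
      cast (congrArg (fun m => IsIso m) (Scheme.residueFieldMap_comp e.hom _ q')) key
    exact @IsIso.of_isIso_comp_right _ _ _ _ _ _ (e.hom.residueFieldMap q') inferInstance key2
  · intro u' hu'
    obtain ⟨w, rfl⟩ : ∃ w, e.hom w = u' := ⟨e.inv u', by simp [← Scheme.Hom.comp_apply]⟩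
    have h1 : ∀ w, (pullback.fst (U.ι ≫ pullback.fst f g) i ≫ U.ι ≫ pullback.snd f g).base
        (e.hom w) = pullback.snd h g w.1 := fun w => by
      rw [← Scheme.Hom.comp_apply, he]; rfl
    rw [h1, h1] at hu'
    exact congrArg e.hom (Subtype.ext (huniq w.1 w.2 (hu'.trans hqv)))

end Groth.Agent.S14078
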