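import Groth.Statements.S14079
import Groth.Agent.EquidimCompLib.Main

set_option autoImplicit false
open CategoryTheory AlgebraicGeometry
universe u
open FamCyc

namespace Groth.Agent.S14079

/-- (iv) ⇒ (iii): let f : X ⟶ S be locally of finite type. Suppose that every point x of X which is a
maximal point of its fibre (no other point of the fibre over f x specializes to x) lies on an
irreducible component W of X, given its reduced subscheme structure, with W ⟶ S equidimensional at
x. Then every point of X lies on such an irreducible component. -/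
theorem result {X S : Scheme.{u}} (f : X ⟶ S) [LocallyOfFiniteType f]
    (h : ∀ x : X, (∀ x' : X, f.base x' = f.base x → x ∈ closure ({x'} : Set X) → x' = x) →
      ∃ W : TopologicalSpace.Closeds X, (W : Set X) ∈ irreducibleComponents (X : Type u) ∧
      ∃ w : ↥((Scheme.IdealSheafData.vanishingIdeal W).subscheme),
        (Scheme.IdealSheafData.vanishingIdeal W).subschemeι.base w = x ∧
        EGA43.IsEquidimAt ((Scheme.IdealSheafData.vanishingIdeal W).subschemeι ≫ f) w)
    (x : X) :
    ∃ W : TopologicalSpace.Closeds X, (W : Set X) ∈ irreducibleComponents (X : Type u) ∧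
      ∃ w : ↥((Scheme.IdealSheafData.vanishingIdeal W).subscheme),
        (Scheme.IdealSheafData.vanishingIdeal W).subschemeι.base w = x ∧
        EGA43.IsEquidimAt ((Scheme.IdealSheafData.vanishingIdeal W).subschemeι ≫ f) w := by
  obtain ⟨d, hd⟩ := UOpenLib.exists_fibreDimAt_eq_nat f x
  obtain ⟨U, hxU, hle⟩ := EquidimLib.exists_nhd_fibreClosureDim_le f x hd
  obtain ⟨x₀, -, hx₀x, hmax, hx₀d⟩ := UOpenLib.exists_max_fibreDimAt f x
  obtain ⟨W, hW, w, hw, heq⟩ := h x₀ hmax
  obtain ⟨ζ, hζ⟩ := QuasiSober.sober hW.1 W.isClosed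
  have hζW : closure {ζ} = (W : Set X) := hζ.def
  let j := (Scheme.IdealSheafData.vanishingIdeal W).subschemeι
  have hrange : Set.range j.base = (W : Set X) := by
    show Set.range (Scheme.IdealSheafData.vanishingIdeal W).subschemeι.base = _
    rw [Scheme.IdealSheafData.range_subschemeι, Scheme.IdealSheafData.coe_support_vanishingIdeal]
  obtain ⟨η, hη⟩ : ζ ∈ Set.range j.base := hrange ▸ hζ.mem
  have hζw : ζ ⤳ x₀ := hζ.specializes (hw ▸ hrange ▸ Set.mem_range_self w)
  have hηw : η ⤳ w := j.isEmbedding.isInducing.specializes_iff.mp (by rw [hη]; exact hw ▸ hζw)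
  have hηmax : closure {η} ∈ irreducibleComponents
      (↥((Scheme.IdealSheafData.vanishingIdeal W).subscheme) : Type u) := by
    refine FibDimLib.closure_mem_irreducibleComponents_of_max fun v hv => ?_
    refine j.isEmbedding.injective ?_
    rw [hη]
    exact FibDimLib.eq_of_specializes_of_closure_mem (hζW ▸ hW) (hη ▸ hv.map j.continuous)
  obtain ⟨e, U₁, hU₁⟩ := (EquidimLib.isEquidimAt_iff (j ≫ f) w).mp heq
  have hηU : η ∈ U₁ := hηw.mem_open U₁.isOpen hU₁.mem
  have h1 := hU₁.dim η hηU (EquidimLib.isFibreMax_of_max (j ≫ f) hηmax)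
  have h2 := hU₁.dim w hU₁.mem (fun v hv hvw => j.isEmbedding.injective (by
    rw [show j.base w = x₀ from hw]
    refine hmax _ ?_ ?_
    · exact hv.trans (congrArg f.base hw)
    · exact hw ▸ ((specializes_iff_mem_closure.mpr hvw).map j.continuous).mem_closure))
  rw [EquidimCompLib.fibreClosureDim_closedImmersion] at h1 h2
  rw [hη] at h1
  rw [show j.base w = x₀ from hw] at h2
  refine EquidimCompLib.exists_component f x d U hxU hle ζ (hζW ▸ hW) (hζw.trans hx₀x) ?_ ?_
  · have h3 := (hU₁.max η hηU hηmax).1
    rwa [show (j ≫ f).base η = f.base ζ from congrArg f.base hη] at h3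
  · rw [h1, ← h2, hx₀d, hd]

end Groth.Agent.S14079
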