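import Groth.Statements.S14080
import Groth.Agent.ArSingLib.TruncPoly

set_option autoImplicit false
universe u
open ArSing

namespace Groth.Agent.S14080

/-- Let k be a field in which 2 is invertible and σ an involutive k-algebra automorphism of the power
series ring k[[t]], with ξ the coefficient of t in σ(t). Then ξ^2 = 1, the k-algebra endomorphism φ
with φ(t) = (t + ξ σ(t))/2 is an automorphism, and φ⁻¹ σ φ is the automorphism t ↦ ξ t. (The
published statement is over an algebraically closed field of characteristic prime to 2; only the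
invertibility of 2 is used, so any field with 2 ≠ 0 is allowed here.) -/
theorem result (k : Type u) [Field k] (h2 : (2 : k) ≠ 0)
    (σ : PowerSeries k ≃ₐ[k] PowerSeries k) (hσ : ∀ f, σ (σ f) = f) :
    (PowerSeries.coeff 1 (σ PowerSeries.X)) ^ 2 = 1 ∧
    ∃ φ : PowerSeries k ≃ₐ[k] PowerSeries k,
      φ PowerSeries.X = PowerSeries.C (2⁻¹ : k) *
        (PowerSeries.X + PowerSeries.C (PowerSeries.coeff 1 (σ PowerSeries.X)) * σ PowerSeries.X) ∧
      ∀ f, φ.symm (σ (φ f)) = PowerSeries.rescale (PowerSeries.coeff 1 (σ PowerSeries.X)) f := by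
  classical
  set a := PowerSeries.coeff 1 (σ PowerSeries.X)
  have h0 : PowerSeries.constantCoeff (σ PowerSeries.X) = 0 := by
    by_contra h
    have hu : IsUnit (σ PowerSeries.X) := PowerSeries.isUnit_iff_constantCoeff.2 (isUnit_iff_ne_zero.2 h)
    have := hu.map σ
    rw [hσ] at this
    exact PowerSeries.X_prime.not_unit this
  have hs0 := PowerSeries.HasSubst.of_constantCoeff_zero' h0
  -- extensionality
  have hext : ∀ (φ ψ : PowerSeries k →ₐ[k] PowerSeries k),
      PowerSeries.constantCoeff (φ PowerSeries.X) = 0 → φ PowerSeries.X = ψ PowerSeries.X → φ = ψ := by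
    intro φ ψ hφ h
    refine AlgHom.ext fun f => PowerSeries.ext fun n => ?_
    have hp : ∀ p : Polynomial k, φ p = ψ p := by
      intro p
      have : φ.comp (Polynomial.coeToPowerSeries.algHom k) = ψ.comp (Polynomial.coeToPowerSeries.algHom k) :=
        Polynomial.algHom_ext (by simpa using h)
      simpa using AlgHom.congr_fun this p
    have hd : ∀ χ : PowerSeries k →ₐ[k] PowerSeries k, PowerSeries.constantCoeff (χ PowerSeries.X) = 0 →
        PowerSeries.coeff n (χ (f - (PowerSeries.trunc (n + 1) f : Polynomial k))) = 0 := by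
      intro χ hχ
      obtain ⟨g, hg⟩ : (PowerSeries.X : PowerSeries k) ^ (n + 1) ∣ f - (PowerSeries.trunc (n + 1) f : Polynomial k) := by
        rw [PowerSeries.X_pow_dvd_iff]
        intro m hm
        simp [PowerSeries.coeff_trunc, hm]
      rw [hg, map_mul, map_pow]
      exact PowerSeries.X_pow_dvd_iff.1 (dvd_mul_of_dvd_left
        (pow_dvd_pow_of_dvd (PowerSeries.X_dvd_iff.2 hχ) _) _) n (Nat.lt_succ_self n)
    have e1 := hd φ hφ
    have e2 := hd ψ (h ▸ hφ)
    rw [map_sub, map_sub, sub_eq_zero] at e1 e2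
    rw [e1, e2, hp]
  have hσsub : (σ : PowerSeries k →ₐ[k] PowerSeries k) = PowerSeries.substAlgHom hs0 :=
    hext _ _ h0 (PowerSeries.substAlgHom_X hs0).symm
  have hone : ∀ v : PowerSeries k, PowerSeries.coeff 1 (σ v) = a * PowerSeries.coeff 1 v := by
    intro v
    obtain ⟨g, hg⟩ : (PowerSeries.X : PowerSeries k) ^ 2 ∣
        v - PowerSeries.C (PowerSeries.constantCoeff v) - PowerSeries.C (PowerSeries.coeff 1 v) * PowerSeries.X := by
      rw [PowerSeries.X_pow_dvd_iff]
      intro m hm
      rcases m with _ | _ | m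
      · simp
      · simp [PowerSeries.coeff_C]
      · omega
    have hv : v = PowerSeries.X ^ 2 * g + PowerSeries.C (PowerSeries.constantCoeff v) +
        PowerSeries.C (PowerSeries.coeff 1 v) * PowerSeries.X := by linear_combination hg
    conv_lhs => rw [hv]
    have hC : ∀ c, σ (PowerSeries.C c) = PowerSeries.C c := fun c => σ.commutes c
    have hz : PowerSeries.coeff 1 (σ PowerSeries.X ^ 2 * σ g) = 0 :=
      PowerSeries.X_pow_dvd_iff.1 (dvd_mul_of_dvd_left (pow_dvd_pow_of_dvd (PowerSeries.X_dvd_iff.2 h0) 2) _)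
        1 one_lt_two
    rw [map_add σ, map_add σ, map_mul σ, map_mul σ, map_pow, hC, hC, map_add, map_add, hz]
    simp [PowerSeries.coeff_C, PowerSeries.coeff_C_mul, a, mul_comm]
  have ha : a ^ 2 = 1 := by
    have := hone (σ PowerSeries.X)
    rw [hσ, PowerSeries.coeff_one_X] at this
    rw [pow_two]; exact this.symm
  refine ⟨ha, ?_⟩
  set u := PowerSeries.C (2⁻¹ : k) * (PowerSeries.X + PowerSeries.C a * σ PowerSeries.X) with hu
  have hu0 : PowerSeries.constantCoeff u = 0 := by simp [u, h0]
  have hu1 : IsUnit (PowerSeries.coeff 1 u) := by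
    rw [isUnit_iff_ne_zero]
    have : PowerSeries.coeff 1 u = (2⁻¹ : k) * (1 + a * a) := by simp [u, PowerSeries.coeff_C_mul, a]
    rw [this, ← pow_two, ha, one_add_one_eq_two, inv_mul_cancel₀ h2]
    exact one_ne_zero
  have hsu := PowerSeries.HasSubst.of_constantCoeff_zero' hu0
  have hsv := PowerSeries.HasSubst.substInvOfIsUnit u hu1
  let φ : PowerSeries k ≃ₐ[k] PowerSeries k := AlgEquiv.ofAlgHom
    (PowerSeries.substAlgHom hsu) (PowerSeries.substAlgHom hsv)
    (hext _ _ (by
      rw [AlgHom.comp_apply, PowerSeries.substAlgHom_X, PowerSeries.coe_substAlgHom,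
        PowerSeries.subst_substInvOfIsUnit_left u hu0, PowerSeries.constantCoeff_X]) (by
      rw [AlgHom.comp_apply, PowerSeries.substAlgHom_X, PowerSeries.coe_substAlgHom,
        PowerSeries.subst_substInvOfIsUnit_left u hu0, AlgHom.id_apply]))
    (hext _ _ (by
      rw [AlgHom.comp_apply, PowerSeries.substAlgHom_X, PowerSeries.coe_substAlgHom,
        PowerSeries.subst_substInvOfIsUnit_right u hu0, PowerSeries.constantCoeff_X]) (by
      rw [AlgHom.comp_apply, PowerSeries.substAlgHom_X, PowerSeries.coe_substAlgHom,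
        PowerSeries.subst_substInvOfIsUnit_right u hu0, AlgHom.id_apply]))
  have hφX : φ PowerSeries.X = u := PowerSeries.substAlgHom_X hsu
  refine ⟨φ, hφX, fun f => ?_⟩
  have hσu : σ u = PowerSeries.C a * u := by
    have hC : ∀ c, σ (PowerSeries.C c) = PowerSeries.C c := fun c => σ.commutes c
    have haa : PowerSeries.C a * PowerSeries.C a = (1 : PowerSeries k) := by
      rw [← map_mul, ← pow_two, ha, map_one]
    simp only [u, map_mul, map_add, hC, hσ]
    linear_combination (-PowerSeries.C (2⁻¹ : k) * σ PowerSeries.X) * haa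
  have hmain : σ (φ PowerSeries.X) = φ (PowerSeries.C a * PowerSeries.X) := by
    rw [hφX, hσu, map_mul, hφX]
    exact congrArg (· * u) (φ.commutes a).symm
  have := hext ((φ.symm : PowerSeries k →ₐ[k] PowerSeries k).comp
    ((σ : PowerSeries k →ₐ[k] PowerSeries k).comp (φ : PowerSeries k →ₐ[k] PowerSeries k)))
    (PowerSeries.rescaleAlgHom a) (by
      show PowerSeries.constantCoeff (φ.symm (σ (φ PowerSeries.X))) = 0
      rw [hmain, AlgEquiv.symm_apply_apply]; simp) (by
      show φ.symm (σ (φ PowerSeries.X)) = _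
      rw [hmain, AlgEquiv.symm_apply_apply, ← AlgHom.coe_toRingHom, PowerSeries.coe_rescaleAlgHom, PowerSeries.rescale_X])
  have h' := AlgHom.congr_fun this f
  rw [← AlgHom.coe_toRingHom (PowerSeries.rescaleAlgHom a), PowerSeries.coe_rescaleAlgHom] at h'
  exact h'

end Groth.Agent.S14080
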