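import Groth.Statements.S14081
import Groth.Agent.ArSingLib.Inv

set_option autoImplicit false
universe u
open ArSing

namespace Groth.Agent.S14081

/-- Over an algebraically closed field k of characteristic prime to 2 and to r+1, with r even, every
non-trivial k-algebra involution σ of A_r = k[[x,y]]/(y^2 - x^(r+1)) is conjugate, by a k-algebra
automorphism φ of A_r, to the involution x ↦ x, y ↦ -y (that is, φ⁻¹σφ fixes the class of x and
negates the class of y). -/
theorem result (k : Type u) [Field k] [IsAlgClosed k] (r : ℕ)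
    (h2 : (2 : k) ≠ 0) (hr : ((r + 1 : ℕ) : k) ≠ 0) (hev : Even r)
    (σ : ArSing.ring k r ≃ₐ[k] ArSing.ring k r) (hσ : ∀ a, σ (σ a) = a) (hne : σ ≠ AlgEquiv.refl) :
    ∃ φ : ArSing.ring k r ≃ₐ[k] ArSing.ring k r,
      φ.symm (σ (φ (ArSing.x k r))) = ArSing.x k r ∧
      φ.symm (σ (φ (ArSing.y k r))) = -ArSing.y k r := by
  classical
  rcases Nat.eq_zero_or_pos r with rfl | hpos
  · -- `r = 0`: the algebra is `k[[y]]`
    have hyE : ∀ p, ArSingLib.yMap k 0 (ArSingLib.E2 p) = ArSing.xMap k 0 p := fun p => by
      refine AlgHom.congr_fun (ArSingLib.ps_hom_ext (φ := (ArSingLib.yMap k 0).comp ArSingLib.E2)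
        (ψ := ArSing.xMap k 0) ?_ ?_) p
      · rw [AlgHom.comp_apply, ArSingLib.E2_X, map_pow, ArSingLib.yMap_X]
        exact Ideal.pow_mem_of_mem _ ArSingLib.y_mem 2 two_pos
      · rw [AlgHom.comp_apply, ArSingLib.E2_X, map_pow, ArSingLib.yMap_X, pow_two, ArSingLib.y_sq, zero_add,
          pow_one, ArSingLib.xMap_X]
    have hform : ∀ a b, ArSingLib.yMap k 0 (ArSingLib.E2 a + PowerSeries.X * ArSingLib.E2 b) =
        ArSing.xMap k 0 a + ArSing.xMap k 0 b * ArSing.y k 0 := fun a b => by
      rw [map_add, map_mul, hyE, hyE, ArSingLib.yMap_X, mul_comm]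
    have hbij : Function.Bijective (ArSingLib.yMap k 0) := by
      refine ⟨(injective_iff_map_eq_zero _).2 fun g hg => ?_, fun z => ?_⟩
      · obtain ⟨a, b, rfl⟩ := ArSingLib.exists_evenOdd g
        rw [hform] at hg
        obtain ⟨rfl, rfl⟩ := ArSingLib.nf_zero hg
        simp
      · obtain ⟨a, b, rfl⟩ := ArSingLib.exists_nf z
        exact ⟨_, hform a b⟩
    let E : PowerSeries k ≃ₐ[k] ArSing.ring k 0 := AlgEquiv.ofBijective _ hbij
    let τ : PowerSeries k ≃ₐ[k] PowerSeries k := (E.trans σ).trans E.symm
    have hτ : ∀ f, τ (τ f) = f := fun f => by simp [τ, hσ]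
    have h0 : PowerSeries.constantCoeff (τ PowerSeries.X) = 0 := by
      by_contra h
      have hu := (PowerSeries.isUnit_iff_constantCoeff.2 (isUnit_iff_ne_zero.2 h)).map τ
      rw [hτ] at hu
      exact PowerSeries.X_prime.not_unit hu
    set a := PowerSeries.coeff 1 (τ PowerSeries.X) with ha
    set u := PowerSeries.C (2⁻¹ : k) * (PowerSeries.X + PowerSeries.C a * τ PowerSeries.X)
    have hC : ∀ c, τ (PowerSeries.C c) = PowerSeries.C c := fun c => τ.commutes c
    have haa : a * a = 1 := by
      obtain ⟨g, hg⟩ := PowerSeries.X_dvd_iff.2 h0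
      have h1 : PowerSeries.constantCoeff g = a := by
        rw [ha, hg, PowerSeries.coeff_succ_X_mul, PowerSeries.coeff_zero_eq_constantCoeff_apply]
      have h := congrArg τ hg
      rw [hτ, map_mul, hg] at h
      have h' := congrArg (PowerSeries.coeff 1) h
      rw [PowerSeries.coeff_one_X, mul_assoc, PowerSeries.coeff_succ_X_mul,
        PowerSeries.coeff_zero_eq_constantCoeff_apply, map_mul] at h'
      have h2' : PowerSeries.constantCoeff (τ g) = a := by
        obtain ⟨g', hg'⟩ : PowerSeries.X ∣ g - PowerSeries.C a := by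
          rw [PowerSeries.X_dvd_iff, map_sub, PowerSeries.constantCoeff_C, h1, sub_self]
        rw [show g = PowerSeries.X * g' + PowerSeries.C a by rw [← hg']; ring, map_add, map_mul, hC, map_add,
          map_mul, h0, zero_mul, zero_add, PowerSeries.constantCoeff_C]
      rw [h1, h2'] at h'
      exact h'.symm
    have hu0 : PowerSeries.constantCoeff u = 0 := by simp [u, h0]
    have hu1 : IsUnit (PowerSeries.coeff 1 u) := by
      rw [isUnit_iff_ne_zero]
      have : PowerSeries.coeff 1 u = (2⁻¹ : k) * (1 + a * a) := by simp [u, PowerSeries.coeff_C_mul, ha]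
      rw [this, haa, one_add_one_eq_two, inv_mul_cancel₀ h2]
      exact one_ne_zero
    have hsu := PowerSeries.HasSubst.of_constantCoeff_zero' hu0
    have hsurj : Function.Surjective (PowerSeries.substAlgHom (R := k) hsu) := fun f =>
      ⟨PowerSeries.substAlgHom (R := k) (PowerSeries.HasSubst.substInvOfIsUnit u hu1) f, by
        have : (PowerSeries.substAlgHom (R := k) hsu).comp
            (PowerSeries.substAlgHom (R := k) (PowerSeries.HasSubst.substInvOfIsUnit u hu1)) = AlgHom.id k _ := by
          refine ArSingLib.ps_hom_ext ?_ ?_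
          · rw [AlgHom.comp_apply, PowerSeries.substAlgHom_X, PowerSeries.coe_substAlgHom,
              PowerSeries.subst_substInvOfIsUnit_left u hu0, PowerSeries.maximalIdeal_eq_span_X]
            exact Ideal.mem_span_singleton_self _
          · rw [AlgHom.comp_apply, PowerSeries.substAlgHom_X, PowerSeries.coe_substAlgHom,
              PowerSeries.subst_substInvOfIsUnit_left u hu0, AlgHom.id_apply]
        exact AlgHom.congr_fun this f⟩
    let ψ : PowerSeries k ≃ₐ[k] PowerSeries k := AlgEquiv.ofBijective _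
      ⟨ArSingLib.injective_of_surjective (PowerSeries.substAlgHom (R := k) hsu).toRingHom hsurj, hsurj⟩
    have hψX : ψ PowerSeries.X = u := PowerSeries.substAlgHom_X hsu
    have hτu : τ u = PowerSeries.C a * u := by
      have hCa : PowerSeries.C a * PowerSeries.C a = (1 : PowerSeries k) := by rw [← map_mul, haa, map_one]
      simp only [u, map_mul, map_add, hC, hτ]
      linear_combination (-PowerSeries.C (2⁻¹ : k) * τ PowerSeries.X) * hCa
    rcases mul_self_eq_one_iff.1 haa with ha1 | ha1
    · exfalso
      have hid : (τ : PowerSeries k →ₐ[k] PowerSeries k).comp (ψ : PowerSeries k →ₐ[k] PowerSeries k) = ψ := by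
        refine ArSingLib.ps_hom_ext ?_ ?_
        · show τ (ψ PowerSeries.X) ∈ _
          rw [hψX, hτu, ha1, map_one, one_mul, PowerSeries.maximalIdeal_eq_span_X, Ideal.mem_span_singleton,
            PowerSeries.X_dvd_iff]
          exact hu0
        · show τ (ψ PowerSeries.X) = ψ PowerSeries.X
          rw [hψX, hτu, ha1, map_one, one_mul]
      refine hne (AlgEquiv.ext fun z => ?_)
      obtain ⟨g, rfl⟩ := E.surjective z
      obtain ⟨g, rfl⟩ := ψ.surjective g
      have := congrArg E (AlgHom.congr_fun hid g)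
      simpa [τ] using this
    · refine ⟨(E.symm.trans ψ).trans E, ?_⟩
      have hφy : (E.symm.trans ψ).trans E (ArSing.y k 0) = E u := by
        have : E.symm (ArSing.y k 0) = PowerSeries.X := by
          rw [AlgEquiv.symm_apply_eq]; exact (ArSingLib.yMap_X).symm
        simp [this, hψX]
      have hσy : σ (E u) = -E u := by
        have : E (τ u) = σ (E u) := by simp [τ]
        rw [← this, hτu, ha1, map_neg, map_one, neg_one_mul, map_neg]
      have hy : ((E.symm.trans ψ).trans E).symm (σ ((E.symm.trans ψ).trans E (ArSing.y k 0))) = -ArSing.y k 0 := by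
        rw [hφy, hσy, ← hφy, ← map_neg, AlgEquiv.symm_apply_apply]
      refine ⟨?_, hy⟩
      have hx : ArSing.x k 0 = ArSing.y k 0 * ArSing.y k 0 := by rw [ArSingLib.y_sq, zero_add, pow_one]
      rw [hx, map_mul, map_mul, map_mul, hy]
      ring
  · have hr2 : 2 ≤ r := by obtain ⟨m, rfl⟩ := hev; omega
    obtain ⟨φ, a, d, ha, hd, har, h3, h4, h5⟩ := ArSingLib.linearise h2 hr2 σ hσ
    have ha1 : a = 1 := by
      obtain ⟨m, rfl⟩ := hev
      rw [show m + m + 1 = 2 * m + 1 by omega, pow_succ, pow_mul, pow_two, ha, one_pow, one_mul] at har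
      exact har
    subst ha1
    have hd1 : d = -1 := (mul_self_eq_one_iff.1 hd).resolve_left fun h => hne (h5 rfl h)
    subst hd1
    exact ⟨φ, by simpa using h3, h4.trans (by rw [map_neg, map_one]; ring)⟩

end Groth.Agent.S14081
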