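import Groth.Statements.S14082
import Groth.Agent.ArSingLib.Inv

set_option autoImplicit false
universe u
open ArSing

namespace Groth.Agent.S14082

/-- Over an algebraically closed field k of characteristic prime to 2 and to r+1, with r odd and r ≥ 3,
every non-trivial k-algebra involution σ of A_r = k[[x,y]]/(y^2 - x^(r+1)) is conjugate, by a
k-algebra automorphism φ of A_r, to one of the three involutions (x, y) ↦ (x, -y), (x, y) ↦ (-x, y),
(x, y) ↦ (-x, -y). -/
theorem result (k : Type u) [Field k] [IsAlgClosed k] (r : ℕ)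
    (h2 : (2 : k) ≠ 0) (hr : ((r + 1 : ℕ) : k) ≠ 0) (hodd : Odd r) (h3 : 3 ≤ r)
    (σ : ArSing.ring k r ≃ₐ[k] ArSing.ring k r) (hσ : ∀ a, σ (σ a) = a) (hne : σ ≠ AlgEquiv.refl) :
    ∃ φ : ArSing.ring k r ≃ₐ[k] ArSing.ring k r,
      (φ.symm (σ (φ (ArSing.x k r))) = ArSing.x k r ∧ φ.symm (σ (φ (ArSing.y k r))) = -ArSing.y k r) ∨
      (φ.symm (σ (φ (ArSing.x k r))) = -ArSing.x k r ∧ φ.symm (σ (φ (ArSing.y k r))) = ArSing.y k r) ∨
      (φ.symm (σ (φ (ArSing.x k r))) = -ArSing.x k r ∧ φ.symm (σ (φ (ArSing.y k r))) = -ArSing.y k r) := by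
  obtain ⟨φ, a, d, ha, hd, -, h3, h4, h5⟩ := ArSingLib.linearise h2 (by omega) σ hσ
  refine ⟨φ, ?_⟩
  rcases mul_self_eq_one_iff.1 ha with rfl | rfl <;> rcases mul_self_eq_one_iff.1 hd with rfl | rfl
  · exact absurd (h5 rfl rfl) hne
  · exact Or.inl ⟨by simpa using h3, h4.trans (by rw [map_neg, map_one]; ring)⟩
  · exact Or.inr (Or.inl ⟨h3.trans (by rw [map_neg, map_one]; ring), by simpa using h4⟩)
  · exact Or.inr (Or.inr ⟨h3.trans (by rw [map_neg, map_one]; ring), h4.trans (by rw [map_neg, map_one]; ring)⟩)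

end Groth.Agent.S14082
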