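import Groth.Statements.S14083
import Groth.Agent.ArSingLib.Coord
import Groth.Agent.S14080

set_option autoImplicit false
universe u
open ArSing

namespace Groth.Agent.S14083

/-- Over an algebraically closed field k of characteristic different from 2, every non-trivial k-algebra
involution σ of the node algebra A_1 = k[[x,y]]/(y^2 - x^2) is conjugate, by a k-algebra
automorphism φ of A_1, to one of the three involutions (x, y) ↦ (x, -y), (x, y) ↦ (-x, -y), (x, y) ↦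
(y, x). -/
theorem result (k : Type u) [Field k] [IsAlgClosed k]
    (h2 : (2 : k) ≠ 0)
    (σ : ArSing.ring k 1 ≃ₐ[k] ArSing.ring k 1) (hσ : ∀ a, σ (σ a) = a) (hne : σ ≠ AlgEquiv.refl) :
    ∃ φ : ArSing.ring k 1 ≃ₐ[k] ArSing.ring k 1,
      (φ.symm (σ (φ (ArSing.x k 1))) = ArSing.x k 1 ∧ φ.symm (σ (φ (ArSing.y k 1))) = -ArSing.y k 1) ∨
      (φ.symm (σ (φ (ArSing.x k 1))) = -ArSing.x k 1 ∧ φ.symm (σ (φ (ArSing.y k 1))) = -ArSing.y k 1) ∨
      (φ.symm (σ (φ (ArSing.x k 1))) = ArSing.y k 1 ∧ φ.symm (σ (φ (ArSing.y k 1))) = ArSing.x k 1) := by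
  classical
  have hsub : ∀ s : k, MvPowerSeries.HasSubst (![PowerSeries.X, PowerSeries.C s * PowerSeries.X] : Fin 2 → PowerSeries k) :=
    fun s => MvPowerSeries.hasSubst_of_constantCoeff_zero fun i => by
      fin_cases i
      · exact PowerSeries.constantCoeff_X
      · show PowerSeries.constantCoeff (PowerSeries.C s * PowerSeries.X) = 0
        simp
  have hbr : ∀ s : k, s * s = 1 → ∃ π : ArSing.ring k 1 →ₐ[k] PowerSeries k,
      π (ArSing.x k 1) = PowerSeries.X ∧ π (ArSing.y k 1) = PowerSeries.C s * PowerSeries.X := by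
    intro s hs
    have h0 : ∀ f ∈ Ideal.span {ArSing.eqn k 1}, MvPowerSeries.substAlgHom (R := k) (hsub s) f = 0 := by
      intro f hf
      obtain ⟨g, rfl⟩ := Ideal.mem_span_singleton'.1 hf
      rw [map_mul, ArSing.eqn, map_sub, map_pow, map_pow, MvPowerSeries.substAlgHom_X, MvPowerSeries.substAlgHom_X]
      simp only [Matrix.cons_val_zero, Matrix.cons_val_one]
      rw [show (PowerSeries.C s * PowerSeries.X) ^ 2 - PowerSeries.X ^ (1 + 1) =
        (PowerSeries.C (s * s) - 1) * PowerSeries.X ^ 2 by rw [map_mul]; ring, hs, map_one, sub_self, zero_mul, mul_zero]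
    exact ⟨Ideal.Quotient.liftₐ _ (MvPowerSeries.substAlgHom (R := k) (hsub s)) h0,
      MvPowerSeries.substAlgHom_X (hsub s) 0, MvPowerSeries.substAlgHom_X (hsub s) 1⟩
  have hmax : ∀ f : PowerSeries k, PowerSeries.constantCoeff f = 0 → f ∈ IsLocalRing.maximalIdeal (PowerSeries k) :=
    fun f hf => by rw [PowerSeries.maximalIdeal_eq_span_X, Ideal.mem_span_singleton, PowerSeries.X_dvd_iff]; exact hf
  obtain ⟨P, hPx, hPy⟩ := hbr 1 (one_mul 1)
  obtain ⟨M, hMx, hMy⟩ := hbr (-1) (by ring)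
  rw [map_one, one_mul] at hPy
  rw [map_neg, map_one, neg_one_mul] at hMy
  have hm : ∀ (π : ArSing.ring k 1 →ₐ[k] PowerSeries k), π (ArSing.x k 1) = PowerSeries.X →
      ∀ p, π (ArSing.xMap k 1 p) = p := fun π hπ p =>
    AlgHom.congr_fun (ArSingLib.ps_hom_ext (φ := π.comp (ArSing.xMap k 1)) (ψ := AlgHom.id k _)
      (hmax _ (by simp [ArSingLib.xMap_X, hπ])) (by simp [ArSingLib.xMap_X, hπ])) p
  have hPnf : ∀ p q, P (ArSing.xMap k 1 p + ArSing.xMap k 1 q * ArSing.y k 1) = p + q * PowerSeries.X :=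
    fun p q => by rw [map_add, map_mul, hm P hPx, hm P hPx, hPy]
  have hMnf : ∀ p q, M (ArSing.xMap k 1 p + ArSing.xMap k 1 q * ArSing.y k 1) = p - q * PowerSeries.X :=
    fun p q => by rw [map_add, map_mul, hm M hMx, hm M hMx, hMy]; ring
  have hC2 : IsUnit (2 : PowerSeries k) := by
    rw [PowerSeries.isUnit_iff_constantCoeff, map_ofNat]; exact isUnit_iff_ne_zero.2 h2
  have hjoint : ∀ a b, P a = P b → M a = M b → a = b := by
    intro a b h3 h4
    obtain ⟨p, q, rfl⟩ := ArSingLib.exists_nf a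
    obtain ⟨p', q', rfl⟩ := ArSingLib.exists_nf b
    rw [hPnf, hPnf] at h3
    rw [hMnf, hMnf] at h4
    have e1 : p = p' := hC2.mul_left_cancel (by linear_combination h3 + h4)
    have e2 : q = q' := mul_right_cancel₀ PowerSeries.X_ne_zero (hC2.mul_left_cancel (by linear_combination h3 - h4))
    rw [e1, e2]
  have hsurj : ∀ F G, PowerSeries.constantCoeff F = PowerSeries.constantCoeff G → ∃ w, P w = F ∧ M w = G := by
    intro F G h
    obtain ⟨D, hD⟩ : PowerSeries.X ∣ F - G := by rw [PowerSeries.X_dvd_iff, map_sub, h, sub_self]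
    obtain ⟨i2, hi⟩ := hC2.exists_left_inv
    refine ⟨ArSing.xMap k 1 (i2 * (F + G)) + ArSing.xMap k 1 (i2 * D) * ArSing.y k 1, ?_, ?_⟩
    · rw [hPnf]; linear_combination F * hi - i2 * hD
    · rw [hMnf]; linear_combination G * hi + i2 * hD
  have hconst : ∀ a, PowerSeries.constantCoeff (P a) = PowerSeries.constantCoeff (M a) := fun a => by
    obtain ⟨p, q, rfl⟩ := ArSingLib.exists_nf a
    rw [hPnf, hMnf]; simp
  have hu_mul : (ArSing.y k 1 + ArSing.x k 1) * (ArSing.y k 1 - ArSing.x k 1) = 0 := by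
    linear_combination ArSingLib.y_sq (k := k) (r := 1)
  have hC : ∀ f : PowerSeries k ≃ₐ[k] PowerSeries k, ∀ g,
      PowerSeries.constantCoeff (f g) = PowerSeries.constantCoeff g := by
    intro f g
    by_contra h
    have hu : IsUnit (f g - algebraMap k (PowerSeries k) (PowerSeries.constantCoeff g)) := by
      rw [PowerSeries.isUnit_iff_constantCoeff, map_sub, isUnit_iff_ne_zero, sub_ne_zero]
      simpa using h
    have := hu.map f.symm
    rw [map_sub, AlgEquiv.symm_apply_apply, AlgEquiv.commutes, PowerSeries.isUnit_iff_constantCoeff, map_sub,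
      isUnit_iff_ne_zero, sub_ne_zero] at this
    exact this (by simp)
  have hglue0 : ∀ f g : PowerSeries k ≃ₐ[k] PowerSeries k, ∃ Φ : ArSing.ring k 1 →ₐ[k] ArSing.ring k 1,
      ∀ a, P (Φ a) = f (P a) ∧ M (Φ a) = g (M a) := by
    intro f g
    choose w hw1 hw2 using fun a => hsurj (f (P a)) (g (M a)) (by rw [hC, hC]; exact hconst a)
    exact ⟨{ toFun := w
             map_one' := hjoint _ _ (by simp [hw1]) (by simp [hw2])
             map_mul' := fun a b => hjoint _ _ (by simp [hw1]) (by simp [hw2])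
             map_zero' := hjoint _ _ (by simp [hw1]) (by simp [hw2])
             map_add' := fun a b => hjoint _ _ (by simp [hw1]) (by simp [hw2])
             commutes' := fun c => hjoint _ _
               ((hw1 _).trans (by rw [P.commutes, f.commutes]))
               ((hw2 _).trans (by rw [M.commutes, g.commutes])) },
      fun a => ⟨hw1 a, hw2 a⟩⟩
  have hglue : ∀ f g : PowerSeries k ≃ₐ[k] PowerSeries k, ∃ Φ : ArSing.ring k 1 ≃ₐ[k] ArSing.ring k 1,
      ∀ a, P (Φ a) = f (P a) ∧ M (Φ a) = g (M a) := by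
    intro f g
    obtain ⟨Φ, hΦ⟩ := hglue0 f g
    obtain ⟨Ψ, hΨ⟩ := hglue0 f.symm g.symm
    refine ⟨AlgEquiv.ofAlgHom Φ Ψ ?_ ?_, hΦ⟩ <;>
      refine AlgHom.ext fun a => hjoint _ _ ?_ ?_ <;>
      simp [(hΦ _).1, (hΦ _).2, (hΨ _).1, (hΨ _).2]
  obtain ⟨ρ, hρx, hρy⟩ := ArSingLib.exists_aut (u := ArSing.x k 1) (v := -ArSing.y k 1) ArSingLib.e_x.1
    (by rw [← zero_sub, ArSingLib.e0_sub, ArSingLib.e_y.1, ← map_zero (algebraMap k (ArSing.ring k 1)),
      ArSingLib.e0_algebraMap, sub_zero])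
    (by rw [← zero_sub, ArSingLib.e1_sub, ArSingLib.e2_sub, ArSingLib.e_y.2.1, ArSingLib.e_y.2.2,
      ArSingLib.e_x.2.1, ArSingLib.e_x.2.2, ← map_zero (algebraMap k (ArSing.ring k 1)),
      ArSingLib.e1_algebraMap, ArSingLib.e2_algebraMap]; simp)
    ((by ring : (-ArSing.y k 1) * (-ArSing.y k 1) = ArSing.y k 1 * ArSing.y k 1).trans ArSingLib.y_sq)
  have hPρ : ∀ a, P (ρ a) = M a := fun a => AlgHom.congr_fun
    (ArSingLib.hom_ext (φ := P.comp (ρ : ArSing.ring k 1 →ₐ[k] ArSing.ring k 1)) (ψ := M)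
      (hmax _ (by simp [hρx, hPx])) (hmax _ (by simp [hρy, hPy])) (by simp [hρx, hPx, hMx]) (by simp [hρy, hPy, hMy])) a
  have hMρ : ∀ a, M (ρ a) = P a := fun a => AlgHom.congr_fun
    (ArSingLib.hom_ext (φ := M.comp (ρ : ArSing.ring k 1 →ₐ[k] ArSing.ring k 1)) (ψ := P)
      (hmax _ (by simp [hρx, hMx])) (hmax _ (by simp [hρy, hMy])) (by simp [hρx, hMx, hPx]) (by simp [hρy, hPy, hMy])) a
  have hPsec : ∀ F, P (ArSing.xMap k 1 F) = F := hm P hPx
  have hMsec : ∀ F, M (ArSing.xMap k 1 F) = F := hm M hMx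
  have hfacP : ∀ R : ArSing.ring k 1 →ₐ[k] PowerSeries k, R (σ (ArSing.y k 1 - ArSing.x k 1)) = 0 →
      ∀ a, R (σ a) = R (σ (ArSing.xMap k 1 (P a))) := by
    intro R hR a
    obtain ⟨p, q, rfl⟩ := ArSingLib.exists_nf a
    rw [hPnf, ← sub_eq_zero, ← map_sub, ← map_sub,
      show ArSing.xMap k 1 p + ArSing.xMap k 1 q * ArSing.y k 1 - ArSing.xMap k 1 (p + q * PowerSeries.X) =
        ArSing.xMap k 1 q * (ArSing.y k 1 - ArSing.x k 1) by rw [map_add, map_mul, ArSingLib.xMap_X]; ring,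
      map_mul, map_mul, hR, mul_zero]
  have hfacM : ∀ R : ArSing.ring k 1 →ₐ[k] PowerSeries k, R (σ (ArSing.y k 1 + ArSing.x k 1)) = 0 →
      ∀ a, R (σ a) = R (σ (ArSing.xMap k 1 (M a))) := by
    intro R hR a
    obtain ⟨p, q, rfl⟩ := ArSingLib.exists_nf a
    rw [hMnf, ← sub_eq_zero, ← map_sub, ← map_sub,
      show ArSing.xMap k 1 p + ArSing.xMap k 1 q * ArSing.y k 1 - ArSing.xMap k 1 (p - q * PowerSeries.X) =
        ArSing.xMap k 1 q * (ArSing.y k 1 + ArSing.x k 1) by rw [map_sub, map_mul, ArSingLib.xMap_X]; ring,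
      map_mul, map_mul, hR, mul_zero]
  have hdich : ∀ R : ArSing.ring k 1 →ₐ[k] PowerSeries k, R (σ (ArSing.y k 1 + ArSing.x k 1)) = 0 ∨
      R (σ (ArSing.y k 1 - ArSing.x k 1)) = 0 := fun R =>
    mul_eq_zero.1 (by rw [← map_mul, ← map_mul, hu_mul, map_zero, map_zero])
  have hσ0 : ∀ a, P (σ a) = 0 → M (σ a) = 0 → a = 0 := fun a h3 h4 =>
    σ.injective (by rw [map_zero]; exact hjoint _ _ (by rw [h3, map_zero]) (by rw [h4, map_zero]))
  have hu_ne : ArSing.y k 1 + ArSing.x k 1 ≠ 0 := fun h => by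
    have := congrArg P h
    rw [map_add, hPx, hPy, map_zero, ← two_mul] at this
    exact mul_ne_zero hC2.ne_zero PowerSeries.X_ne_zero this
  have hv_ne : ArSing.y k 1 - ArSing.x k 1 ≠ 0 := fun h => by
    have := congrArg M h
    rw [map_sub, hMx, hMy, map_zero] at this
    exact mul_ne_zero hC2.ne_zero PowerSeries.X_ne_zero (by linear_combination -this)
  rcases hdich P with hP' | hP' <;> rcases hdich M with hM' | hM'
  · exact absurd (hσ0 _ hP' hM') hu_ne
  · -- swap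
    let τ : PowerSeries k →ₐ[k] PowerSeries k := (P.comp (σ : ArSing.ring k 1 →ₐ[k] ArSing.ring k 1)).comp (ArSing.xMap k 1)
    let τ' : PowerSeries k →ₐ[k] PowerSeries k := (M.comp (σ : ArSing.ring k 1 →ₐ[k] ArSing.ring k 1)).comp (ArSing.xMap k 1)
    have h1 : ∀ a, P (σ a) = τ (M a) := hfacM P hP'
    have h3 : ∀ a, M (σ a) = τ' (P a) := hfacP M hM'
    have h4 : ∀ F, τ (τ' F) = F := fun F => by
      rw [← hPsec F, ← h3, ← h1, hσ]
    have h5 : ∀ F, τ' (τ F) = F := fun F => by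
      rw [← hMsec F, ← h1, ← h3, hσ]
    let T : PowerSeries k ≃ₐ[k] PowerSeries k := AlgEquiv.ofAlgHom τ' τ (AlgHom.ext h5) (AlgHom.ext h4)
    obtain ⟨Φ, hΦ⟩ := hglue AlgEquiv.refl T
    refine ⟨Φ, Or.inl ?_⟩
    have key : ∀ a, Φ.symm (σ (Φ a)) = ρ a := fun a => by
      rw [AlgEquiv.symm_apply_eq]
      refine hjoint _ _ ?_ ?_
      · rw [h1, (hΦ a).2, (hΦ _).1, hPρ]
        exact h4 _
      · rw [h3, (hΦ a).1, (hΦ _).2, hMρ]
        rfl
    exact ⟨(key _).trans hρx, (key _).trans hρy⟩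
  · -- preserve
    let τ : PowerSeries k →ₐ[k] PowerSeries k := (P.comp (σ : ArSing.ring k 1 →ₐ[k] ArSing.ring k 1)).comp (ArSing.xMap k 1)
    let τ' : PowerSeries k →ₐ[k] PowerSeries k := (M.comp (σ : ArSing.ring k 1 →ₐ[k] ArSing.ring k 1)).comp (ArSing.xMap k 1)
    have h1 : ∀ a, P (σ a) = τ (P a) := hfacP P hP'
    have h3 : ∀ a, M (σ a) = τ' (M a) := hfacM M hM'
    have h4 : ∀ F, τ (τ F) = F := fun F => by rw [← hPsec F, ← h1, ← h1, hσ]
    have h5 : ∀ F, τ' (τ' F) = F := fun F => by rw [← hMsec F, ← h3, ← h3, hσ]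
    let T : PowerSeries k ≃ₐ[k] PowerSeries k := AlgEquiv.ofAlgHom τ τ (AlgHom.ext h4) (AlgHom.ext h4)
    let T' : PowerSeries k ≃ₐ[k] PowerSeries k := AlgEquiv.ofAlgHom τ' τ' (AlgHom.ext h5) (AlgHom.ext h5)
    obtain ⟨ha, f, -, hf⟩ := S14080.result k h2 T h4
    obtain ⟨hb, g, -, hg⟩ := S14080.result k h2 T' h5
    obtain ⟨Φ, hΦ⟩ := hglue f g
    set a := PowerSeries.coeff 1 (T PowerSeries.X)
    set b := PowerSeries.coeff 1 (T' PowerSeries.X)
    have keyP : ∀ z, P (Φ.symm (σ (Φ z))) = PowerSeries.rescale a (P z) := fun z => by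
      have := (hΦ (Φ.symm (σ (Φ z)))).1
      rw [AlgEquiv.apply_symm_apply, h1, (hΦ z).1] at this
      rw [← hf, AlgEquiv.eq_symm_apply]
      exact this.symm
    have keyM : ∀ z, M (Φ.symm (σ (Φ z))) = PowerSeries.rescale b (M z) := fun z => by
      have := (hΦ (Φ.symm (σ (Φ z)))).2
      rw [AlgEquiv.apply_symm_apply, h3, (hΦ z).2] at this
      rw [← hg, AlgEquiv.eq_symm_apply]
      exact this.symm
    rw [pow_two] at ha hb
    rcases mul_self_eq_one_iff.1 ha with ha1 | ha1 <;> rcases mul_self_eq_one_iff.1 hb with hb1 | hb1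
    · refine absurd (AlgEquiv.ext fun z => ?_) hne
      obtain ⟨z, rfl⟩ := Φ.surjective z
      have h0 : Φ.symm (σ (Φ z)) = z := hjoint _ _
        (by rw [keyP, ha1, PowerSeries.rescale_one, RingHom.id_apply])
        (by rw [keyM, hb1, PowerSeries.rescale_one, RingHom.id_apply])
      rw [AlgEquiv.symm_apply_eq] at h0
      exact h0
    · refine ⟨Φ, Or.inr (Or.inr ⟨hjoint _ _ ?_ ?_, hjoint _ _ ?_ ?_⟩)⟩ <;>
        simp [keyP, keyM, ha1, hb1, hPx, hPy, hMx, hMy, PowerSeries.rescale_X]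
    · have hx : Φ.symm (σ (Φ (ArSing.x k 1))) = -ArSing.y k 1 := hjoint _ _
        (by simp [keyP, ha1, hPx, hPy, PowerSeries.rescale_X]) (by simp [keyM, hb1, hMx, hMy, PowerSeries.rescale_X])
      have hy : Φ.symm (σ (Φ (ArSing.y k 1))) = -ArSing.x k 1 := hjoint _ _
        (by simp [keyP, ha1, hPx, hPy, PowerSeries.rescale_X]) (by simp [keyM, hb1, hMx, hMy, PowerSeries.rescale_X])
      refine ⟨ρ.trans Φ, Or.inr (Or.inr ?_)⟩
      have hsx : ρ.symm (ArSing.x k 1) = ArSing.x k 1 := by rw [AlgEquiv.symm_apply_eq, hρx]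
      have hsy : ρ.symm (ArSing.y k 1) = -ArSing.y k 1 := by
        rw [AlgEquiv.symm_apply_eq, map_neg, hρy, neg_neg]
      constructor
      · show ρ.symm (Φ.symm (σ (Φ (ρ (ArSing.x k 1))))) = _
        rw [hρx, hx, map_neg, hsy, neg_neg]
      · show ρ.symm (Φ.symm (σ (Φ (ρ (ArSing.y k 1))))) = _
        rw [hρy, map_neg, map_neg, map_neg, hy, neg_neg, hsx]
    · refine ⟨Φ, Or.inr (Or.inl ⟨hjoint _ _ ?_ ?_, hjoint _ _ ?_ ?_⟩)⟩ <;>
        simp [keyP, keyM, ha1, hb1, hPx, hPy, hMx, hMy, PowerSeries.rescale_X]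
  · exact absurd (hσ0 _ hP' hM') hv_ne

end Groth.Agent.S14083
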