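import Groth.Statements.S14085
import Mathlib

-- import your own Groth.Agent.* helpers here

set_option autoImplicit false
universe u
open FlatMor

namespace Groth.Agent.S14085

/-- Let R be a ring, A and B flat R-algebras, I an ideal of A and B → A/I an injective finite flat map
of R-algebras. Then the fibre product ring B ×_{A/I} A, realised as the subalgebra of B × A of pairs
with equal image in A/I, is flat over R. (This is the affine statement behind flatness over the base
of the pushout of a closed immersion along a finite flat morphism.) -/
theorem result (R A B : Type u) [CommRing R] [CommRing A] [CommRing B]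
    [Algebra R A] [Algebra R B] [Module.Flat R A] [Module.Flat R B] (I : Ideal A)
    [Algebra B (A ⧸ I)] [IsScalarTower R B (A ⧸ I)] [Module.Finite B (A ⧸ I)] [Module.Flat B (A ⧸ I)]
    (hinj : Function.Injective (algebraMap B (A ⧸ I))) :
    Module.Flat R ↥(AlgHom.equalizer ((IsScalarTower.toAlgHom R B (A ⧸ I)).comp (AlgHom.fst R B A))
          ((Ideal.Quotient.mkₐ R I).comp (AlgHom.snd R B A))) := by
  classical
  let g : (B × A) →ₗ[R] (A ⧸ I) := ((IsScalarTower.toAlgHom R B (A ⧸ I)).comp (AlgHom.fst R B A)).toLinearMap - ((Ideal.Quotient.mkₐ R I).comp (AlgHom.snd R B A)).toLinearMap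
  haveI : Module.Flat R (A ⧸ I) := Module.Flat.trans R B (A ⧸ I)
  have hg : Function.Surjective g := by
    intro y
    obtain ⟨a, rfl⟩ := Ideal.Quotient.mk_surjective y
    exact ⟨(0, -a), by simp [g]⟩
  have hker : LinearMap.ker g = Subalgebra.toSubmodule (AlgHom.equalizer ((IsScalarTower.toAlgHom R B (A ⧸ I)).comp (AlgHom.fst R B A)) ((Ideal.Quotient.mkₐ R I).comp (AlgHom.snd R B A))) := by
    ext x
    simp only [g, LinearMap.mem_ker, LinearMap.sub_apply, sub_eq_zero]
    rfl
  have hK : Module.Flat R (LinearMap.ker g) := by
    rw [Module.Flat.iff_rTensor_preserves_injective_linearMap]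
    intro X Y _ _ _ _ h hh
    have h1 : Function.Injective ((LinearMap.ker g).subtype.lTensor X) :=
      LinearMap.lTensor_injective_of_exact_of_flat g hg (LinearMap.ker g).subtype Subtype.coe_injective g.exact_subtype_ker_map X
    have h2 : Function.Injective (h.rTensor (B × A)) := by
      have e : ∀ z, TensorProduct.prodRight R R Y B A (h.rTensor (B × A) z) = ((h.rTensor B).prodMap (h.rTensor A)) (TensorProduct.prodRight R R X B A z) := fun z => by
        induction z with
        | zero => simp only [map_zero]
        | tmul x p => simp
        | add a b ha hb => simp only [map_add, ha, hb]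
      intro a b hab
      apply (TensorProduct.prodRight R R X B A).injective
      apply (Function.Injective.prodMap (Module.Flat.rTensor_preserves_injective_linearMap (M := B) h hh) (Module.Flat.rTensor_preserves_injective_linearMap (M := A) h hh))
      exact ((e a).symm.trans (congrArg _ hab)).trans (e b)
    refine Function.Injective.of_comp (f := (LinearMap.ker g).subtype.lTensor Y) ?_
    rw [← LinearMap.coe_comp, LinearMap.lTensor_comp_rTensor, ← LinearMap.rTensor_comp_lTensor, LinearMap.coe_comp]
    exact h2.comp h1
  exact Module.Flat.of_linearEquiv (LinearEquiv.ofEq _ _ hker).symm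

end Groth.Agent.S14085
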