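import Groth.Statements.S14086
import Mathlib
import Mathlib.RingTheory.Flat.Equalizer
import Mathlib.RingTheory.Flat.FaithfullyFlat.Algebra
import Mathlib.RingTheory.Flat.Stability
import Mathlib.LinearAlgebra.TensorProduct.RightExactness
import Mathlib.RingTheory.Spectrum.Prime.Topology
import Mathlib.RingTheory.IntegralClosure.IsIntegralClosure.Basic
import Mathlib.RingTheory.TensorProduct.Maps
-- import your own Groth.Agent.* helpers here

set_option autoImplicit false
universe u
open FlatMor

namespace Groth.Agent.S14086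

/-- Let R be a ring, A and B flat R-algebras, I an ideal of A, B → A/I an injective finite flat map of
R-algebras and P = B ×_{A/I} A the fibre product ring (pairs in B × A with equal image in A/I). For
any R-algebra R' the base change R' ⊗_R P maps injectively to R' ⊗_R A, and any b' in R' ⊗_R B and
a' in R' ⊗_R A with the same image in R' ⊗_R (A/I) are the two components of some element of R' ⊗_R
P; that is, R' ⊗_R P is the fibre product of R' ⊗_R B and R' ⊗_R A over R' ⊗_R (A/I). -/
theorem result (R A B R' : Type u) [CommRing R] [CommRing A]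
    [CommRing B] [CommRing R'] [Algebra R A] [Algebra R B] [Algebra R R'] [Module.Flat R A] [Module.Flat R B]
    (I : Ideal A) [Algebra B (A ⧸ I)] [IsScalarTower R B (A ⧸ I)] [Module.Finite B (A ⧸ I)] [Module.Flat B (A ⧸ I)]
    (hinj : Function.Injective (algebraMap B (A ⧸ I))) :
    Function.Injective (Algebra.TensorProduct.map (AlgHom.id R' R')
        ((AlgHom.snd R B A).comp (AlgHom.equalizer ((IsScalarTower.toAlgHom R B (A ⧸ I)).comp (AlgHom.fst R B A))
          ((Ideal.Quotient.mkₐ R I).comp (AlgHom.snd R B A))).val)) ∧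
    ∀ (b : TensorProduct R R' B) (a : TensorProduct R R' A),
      Algebra.TensorProduct.map (AlgHom.id R' R') (IsScalarTower.toAlgHom R B (A ⧸ I)) b =
        Algebra.TensorProduct.map (AlgHom.id R' R') (Ideal.Quotient.mkₐ R I) a →
      ∃ x : TensorProduct R R' ↥(AlgHom.equalizer ((IsScalarTower.toAlgHom R B (A ⧸ I)).comp (AlgHom.fst R B A))
          ((Ideal.Quotient.mkₐ R I).comp (AlgHom.snd R B A))),
        Algebra.TensorProduct.map (AlgHom.id R' R') ((AlgHom.fst R B A).comp (AlgHom.equalizer ((IsScalarTower.toAlgHom R B (A ⧸ I)).comp (AlgHom.fst R B A))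
          ((Ideal.Quotient.mkₐ R I).comp (AlgHom.snd R B A))).val) x = b ∧
        Algebra.TensorProduct.map (AlgHom.id R' R') ((AlgHom.snd R B A).comp (AlgHom.equalizer ((IsScalarTower.toAlgHom R B (A ⧸ I)).comp (AlgHom.fst R B A))
          ((Ideal.Quotient.mkₐ R I).comp (AlgHom.snd R B A))).val) x = a := by
  classical
  haveI : FaithfulSMul B (A ⧸ I) := (faithfulSMul_iff_algebraMap_injective _ _).mpr hinj
  haveI : Algebra.IsIntegral B (A ⧸ I) := Algebra.IsIntegral.of_finite _ _
  haveI : Module.FaithfullyFlat B (A ⧸ I) :=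
    .of_comap_surjective (Algebra.IsIntegral.comap_surjective B (A ⧸ I))
  haveI : Module.Flat R (A ⧸ I) := Module.Flat.trans R B (A ⧸ I)
  let φ : B →ₐ[R] A ⧸ I := IsScalarTower.toAlgHom R B (A ⧸ I)
  let π : A →ₐ[R] A ⧸ I := Ideal.Quotient.mkₐ R I
  set E := AlgHom.equalizer (φ.comp (AlgHom.fst R B A)) (π.comp (AlgHom.snd R B A)) with hE
  let g : E →ₗ[R] B × A := E.val.toLinearMap
  let d : B × A →ₗ[R] A ⧸ I :=
    φ.toLinearMap.comp (LinearMap.fst R B A) - π.toLinearMap.comp (LinearMap.snd R B A)
  have hg : Function.Injective g := Subtype.val_injective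
  have hd : Function.Surjective d := fun q => by
    obtain ⟨a, ha⟩ := Ideal.Quotient.mk_surjective (-q)
    exact ⟨(0, a), by simp [d, π, ha]⟩
  have hex : Function.Exact g d := fun x => by
    constructor
    · intro hx
      exact ⟨⟨x, sub_eq_zero.mp hx⟩, rfl⟩
    · rintro ⟨y, rfl⟩
      exact sub_eq_zero.mpr y.2
  have hinjT := LinearMap.lTensor_injective_of_exact_of_flat d hd g hg hex R'
  have hexT := lTensor_exact R' hex hd
  -- `R' ⊗ B → R' ⊗ (A ⧸ I)` is injective
  have hφ : Function.Injective (φ.toLinearMap.lTensor R') := by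
    have h1 := Module.FaithfullyFlat.tensorProduct_mk_injective (A := B) (B := A ⧸ I)
      (TensorProduct R B R')
    let e := TensorProduct.AlgebraTensorModule.cancelBaseChange R B B (A ⧸ I) R'
    have h2 : φ.toLinearMap.rTensor R' =
        (e.toLinearMap.restrictScalars R).comp ((TensorProduct.mk B (A ⧸ I) _ 1).restrictScalars R) :=
      TensorProduct.ext' fun b r => by simp [e, φ, Algebra.algebraMap_eq_smul_one]
    have h3 : Function.Injective (φ.toLinearMap.rTensor R') := by
      rw [h2]; exact e.injective.comp h1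
    exact (LinearMap.lTensor_inj_iff_rTensor_inj R' φ.toLinearMap).mpr h3
  let eP := TensorProduct.prodRight R R R' B A
  have k1 : ∀ x : TensorProduct R R' E,
      Algebra.TensorProduct.map (AlgHom.id R' R') ((AlgHom.fst R B A).comp E.val) x =
        (eP (g.lTensor R' x)).1 := fun x => by
    induction x with
    | zero => simp
    | tmul r e => simp [eP, g]
    | add a b ha hb => simp only [map_add, ha, hb, Prod.fst_add]
  have k2 : ∀ x : TensorProduct R R' E,
      Algebra.TensorProduct.map (AlgHom.id R' R') ((AlgHom.snd R B A).comp E.val) x =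
        (eP (g.lTensor R' x)).2 := fun x => by
    induction x with
    | zero => simp
    | tmul r e => simp [eP, g]
    | add a b ha hb => simp only [map_add, ha, hb, Prod.snd_add]
  have k3 : ∀ z : TensorProduct R R' (B × A), d.lTensor R' z =
      φ.toLinearMap.lTensor R' (eP z).1 - π.toLinearMap.lTensor R' (eP z).2 := fun z => by
    induction z with
    | zero => simp
    | tmul r e => simp [eP, d, TensorProduct.tmul_sub]
    | add a b ha hb => simp only [map_add, ha, hb, Prod.fst_add, Prod.snd_add]; abel
  refine ⟨fun x y hxy => ?_, fun b a hab => ?_⟩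
  · have hx2 : (eP (g.lTensor R' x)).2 = (eP (g.lTensor R' y)).2 := by rw [← k2, ← k2, hxy]
    have hx0 : ∀ w, d.lTensor R' (g.lTensor R' w) = 0 := fun w => (hexT _).mpr ⟨w, rfl⟩
    have a1 := (k3 _).symm.trans (hx0 x)
    have a2 := (k3 _).symm.trans (hx0 y)
    rw [sub_eq_zero] at a1 a2
    have hx1 : (eP (g.lTensor R' x)).1 = (eP (g.lTensor R' y)).1 := hφ (by rw [a1, a2, hx2])
    exact hinjT (eP.injective (Prod.ext hx1 hx2))
  · obtain ⟨z, hz⟩ := eP.surjective (b, a)
    obtain ⟨x, hx⟩ := (hexT z).mp (by
      rw [k3, hz, sub_eq_zero]; exact hab)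
    exact ⟨x, by rw [k1, hx, hz], by rw [k2, hx, hz]⟩

end Groth.Agent.S14086
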