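import Groth.Statements.S14087
import Groth.Agent.ArSingLib.TruncPoly

set_option autoImplicit false
universe u
open ArSing

namespace Groth.Agent.S14087

open Polynomial in
/-- Over an algebraically closed field k, if B = k[t]/(t^n) with n ≥ 1 is flat over a k-subalgebra A ⊆ B
(a finite flat extension of pointed finite algebras with curvilinear top), then A is curvilinear
too: A is isomorphic as a k-algebra to k[t]/(t^m) for some m. -/
theorem result (k : Type u) [Field k] [IsAlgClosed k]
    (n : ℕ) (hn : 0 < n)
    (A : Subalgebra k (Polynomial k ⧸ Ideal.span {(X : Polynomial k) ^ n}))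
    [Module.Flat A (Polynomial k ⧸ Ideal.span {(X : Polynomial k) ^ n})] :
    ∃ m : ℕ, Nonempty (A ≃ₐ[k] (Polynomial k ⧸ Ideal.span {(X : Polynomial k) ^ m})) := by
  set B := Polynomial k ⧸ Ideal.span {(X : Polynomial k) ^ n} with hB
  let x : B := Ideal.Quotient.mk _ X
  have hxn : x ^ n = 0 := by
    rw [← map_pow, Ideal.Quotient.eq_zero_iff_mem]
    exact Ideal.mem_span_singleton_self _
  have hform : ∀ b : B, b = 0 ∨ ∃ (a : ℕ) (u : Bˣ), b = x ^ a * u := by
    intro b
    obtain ⟨p, rfl⟩ := Ideal.Quotient.mk_surjective b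
    by_cases hp : p = 0
    · left; simp [hp]
    obtain ⟨q, hq, hq'⟩ := exists_eq_pow_rootMultiplicity_mul_and_not_dvd p hp 0
    rw [map_zero, sub_zero] at hq hq'
    have hco : IsCoprime q ((X : Polynomial k) ^ n) :=
      (((Polynomial.prime_X.coprime_iff_not_dvd).2 hq').symm).pow_right
    obtain ⟨a, b, hab⟩ := hco
    have hu : IsUnit (Ideal.Quotient.mk (Ideal.span {(X : Polynomial k) ^ n}) q) := by
      refine IsUnit.of_mul_eq_one_right (Ideal.Quotient.mk _ a) ?_
      rw [← map_mul, ← map_one (Ideal.Quotient.mk _), Ideal.Quotient.eq]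
      exact Ideal.mem_span_singleton'.2 ⟨-b, by linear_combination -hab⟩
    refine Or.inr ⟨rootMultiplicity 0 p, hu.unit, ?_⟩
    conv_lhs => rw [hq]
    rw [map_mul, map_pow, IsUnit.unit_spec]
  have hdvd : ∀ b c : B, b ∣ c ∨ c ∣ b := by
    intro b c
    rcases hform b with rfl | ⟨i, u, rfl⟩
    · exact Or.inr (dvd_zero c)
    rcases hform c with rfl | ⟨j, v, rfl⟩
    · exact Or.inl (dvd_zero _)
    rcases le_total i j with h | h
    · left
      rw [Units.mul_right_dvd, Units.dvd_mul_right]
      exact pow_dvd_pow x h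
    · right
      rw [Units.mul_right_dvd, Units.dvd_mul_right]
      exact pow_dvd_pow x h
  have : Nontrivial B := Ideal.Quotient.nontrivial_iff.2 (by
    rw [Ne, Ideal.span_singleton_eq_top, isUnit_pow_iff hn.ne']
    exact Polynomial.prime_X.not_unit)
  have : IsLocalRing B := IsLocalRing.of_isUnit_or_isUnit_one_sub_self fun b => by
    rcases hform b with rfl | ⟨i, u, rfl⟩
    · right; simp
    rcases i with _ | i
    · left; simp
    · right
      refine IsNilpotent.isUnit_one_sub ⟨n, ?_⟩
      rw [mul_pow, ← pow_mul, mul_comm (i + 1) n, pow_mul, hxn, zero_pow (by omega), zero_mul]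
  have : Module.Finite k B := ((monic_X_pow (R := k) n).finite_quotient)
  have : Module.Finite k A := Module.Finite.of_injective A.val.toLinearMap Subtype.val_injective
  have : Module.Finite A B := Module.Finite.of_restrictScalars_finite k A B
  have : Algebra.IsIntegral A B := Algebra.IsIntegral.of_finite A B
  have hloc : IsLocalHom (algebraMap A B) :=
    RingHom.IsIntegral.isLocalHom (fun b => Algebra.IsIntegral.isIntegral (R := A) b) Subtype.val_injective
  have hunit : ∀ a : A, IsUnit (a : B) → IsUnit a := fun a ha =>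
    hloc.map_nonunit a ha
  have : IsLocalRing A := IsLocalRing.of_isUnit_or_isUnit_one_sub_self fun a => by
    rcases IsLocalRing.isUnit_or_isUnit_one_sub_self (a : B) with h | h
    · exact Or.inl (hunit a h)
    · exact Or.inr (hunit _ (by simpa using h))
  have : Module.FaithfullyFlat A B :=
    @Module.FaithfullyFlat.of_flat_of_isLocalHom A B _ _ _ _ _ (by assumption) hloc
  have : IsNoetherianRing A := isNoetherian_of_tower k inferInstance
  obtain ⟨S, hS⟩ := IsNoetherian.noetherian (IsLocalRing.maximalIdeal A)
  have hgen : ∀ S : Finset A, ∃ f ∈ Ideal.span (S : Set A), ∀ g ∈ S, algebraMap A B f ∣ algebraMap A B g := by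
    classical
    intro S
    induction S using Finset.induction_on with
    | empty => exact ⟨0, zero_mem _, by simp⟩
    | insert g S _ ih =>
      obtain ⟨f, hf, hfS⟩ := ih
      rw [Finset.coe_insert]
      rcases hdvd (algebraMap A B f) (algebraMap A B g) with h | h
      · refine ⟨f, Ideal.span_mono (Set.subset_insert _ _) hf, fun g' hg' => ?_⟩
        rcases Finset.mem_insert.1 hg' with rfl | hg'
        · exact h
        · exact hfS g' hg'
      · refine ⟨g, Ideal.subset_span (Set.mem_insert _ _), fun g' hg' => ?_⟩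
        rcases Finset.mem_insert.1 hg' with rfl | hg'
        · exact dvd_rfl
        · exact h.trans (hfS g' hg')
  obtain ⟨f, hf, hfS⟩ := hgen S
  have hmax : IsLocalRing.maximalIdeal A = Ideal.span {f} := by
    refine le_antisymm ?_ ((Ideal.span_singleton_le_iff_mem _).2 (hS ▸ hf))
    rw [← Ideal.comap_map_eq_self_of_faithfullyFlat (B := B) (Ideal.span {f}), ← hS]
    refine Ideal.span_le.2 fun g hg => ?_
    rw [SetLike.mem_coe, Ideal.mem_comap, Ideal.map_span, Set.image_singleton, Ideal.mem_span_singleton]
    exact hfS g hg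
  exact ⟨_, ArSingLib.nonempty_algEquiv_truncPoly k A ⟨⟨f, hmax⟩⟩⟩

end Groth.Agent.S14087
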