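import Groth.Statements.S14088
import Groth.Agent.ArSingLib.TruncPoly

set_option autoImplicit false
universe u
open ArSing

namespace Groth.Agent.S14088

/-- The identity behind the torus-equivariant classes h_i = h_0 + i τ of the coordinate hyperplanes of a
projective space of binary forms, stated in an arbitrary commutative ring: for n ≤ m, (h_0 ⋯
h_(n-1))^2 · h_n ⋯ h_(m-1) equals the sum over s = 0, …, n of (-1)^s s! (n choose s) (m choose s)
τ^s h_0 ⋯ h_(m+n-s-1), where h_i = h + i τ. (The published statement is in the equivariant Chow ring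
of that projective space; only the relations h_i = h_j + (j - i) τ are used, so it holds in any
commutative ring.) -/
theorem result (A : Type u) [CommRing A] (h τ : A) (n m : ℕ) (hnm : n ≤ m) :
    (∏ i ∈ Finset.range n, (h + (i : A) * τ) ^ 2) * ∏ i ∈ Finset.Ico n m, (h + (i : A) * τ) =
      ∑ s ∈ Finset.range (n + 1), (-1 : A) ^ s * (Nat.factorial s : A) * (Nat.choose n s : A) *
        (Nat.choose m s : A) * τ ^ s * ∏ i ∈ Finset.range (m + n - s), (h + (i : A) * τ) := by
  let P : ℕ → A := fun N => ∏ i ∈ Finset.range N, (h + (i : A) * τ)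
  have hP : ∀ N, P (N + 1) = P N * (h + (N : A) * τ) := fun N => Finset.prod_range_succ _ _
  let c : ℕ → ℕ → A := fun n s => (-1 : A) ^ s * (Nat.factorial s : A) * (Nat.choose n s : A) * (Nat.choose m s : A)
  have hch : ∀ s, (Nat.choose m s : A) * ((m : A) - s) = (Nat.choose m (s + 1) : A) * ((s : A) + 1) := by
    intro s
    rcases le_or_gt s m with hs | hs
    · rw [← Nat.cast_sub hs]
      exact_mod_cast congrArg (Nat.cast : ℕ → A) (Nat.choose_succ_right_eq m s).symm
    · simp [Nat.choose_eq_zero_of_lt hs, Nat.choose_eq_zero_of_lt (Nat.lt_succ_of_lt hs)]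
  have key : ∀ n, P n * P m = ∑ s ∈ Finset.range (n + 1), c n s * τ ^ s * P (m + n - s) := by
    intro n
    induction n with
    | zero => simp [P, c]
    | succ n ih =>
      have hterm : ∀ s ∈ Finset.range (n + 1), c n s * τ ^ s * P (m + n - s) * (h + (n : A) * τ) =
          c n s * τ ^ s * P (m + (n + 1) - s) - c n s * ((m : A) - s) * τ ^ (s + 1) * P (m + n - s) := by
        intro s hs
        rw [Finset.mem_range] at hs
        rw [show m + (n + 1) - s = (m + n - s) + 1 by omega, hP, Nat.cast_sub (by omega : s ≤ m + n)]
        push_cast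
        ring
      rw [hP, mul_right_comm, ih, Finset.sum_mul, Finset.sum_congr rfl hterm, Finset.sum_sub_distrib]
      have hext : ∑ s ∈ Finset.range (n + 1), c n s * τ ^ s * P (m + (n + 1) - s) =
          ∑ s ∈ Finset.range (n + 1 + 1), c n s * τ ^ s * P (m + (n + 1) - s) := by
        rw [Finset.sum_range_succ _ (n + 1)]
        simp [c]
      rw [hext, Finset.sum_range_succ' _ (n + 1), Finset.sum_range_succ' (fun s => c (n + 1) s * τ ^ s * P (m + (n + 1) - s)) (n + 1)]
      rw [add_sub_right_comm, ← Finset.sum_sub_distrib]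
      refine congrArg₂ (· + ·) (Finset.sum_congr rfl fun s _ => ?_) (by simp [c])
      rw [show m + (n + 1) - (s + 1) = m + n - s by omega]
      simp only [c, Nat.choose_succ_succ, Nat.factorial_succ]
      push_cast
      linear_combination (-(-1 : A) ^ s * (Nat.factorial s : A) * (Nat.choose n s : A) * τ ^ (s + 1) * P (m + n - s)) * hch s
  calc _ = P n * P m := by
        rw [Finset.prod_pow]
        simp only [P, pow_two, ← Finset.prod_range_mul_prod_Ico _ hnm]
        ring
    _ = _ := key n

end Groth.Agent.S14088
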