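import Groth.Statements.S1409
import Mathlib.RingTheory.Flat.FaithfullyFlat.Algebra
import Mathlib.RingTheory.Ideal.GoingDown
import Mathlib.RingTheory.Localization.AtPrime.Basic
import Mathlib.RingTheory.Nilpotent.Lemmas
import Mathlib.RingTheory.Ideal.MinimalPrime.Localization


-- import your own Groth.Agent.* helpers here

set_option autoImplicit false
universe u
open FlatMor

namespace Groth.Agent.S1409

/-- Let (R_i) be a directed system of commutative rings whose transition maps are faithfully flat, with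
colimit R. Then, counting in the extended natural numbers, the minimal primes of R are exactly as
numerous as the supremum over i of the count of minimal primes of R_i. -/
theorem result {ι : Type u} [Preorder ι] [IsDirected ι (· ≤ ·)] [Nonempty ι] (G : ι → Type u) [∀ i, CommRing (G i)]
    (f : ∀ i j, i ≤ j → G i →+* G j) [DirectedSystem G fun i j h => f i j h]
    (hf : ∀ i j (h : i ≤ j), letI := (f i j h).toAlgebra
      Module.FaithfullyFlat (G i) (G j)) :
    (minimalPrimes (Ring.DirectLimit G fun i j h => ⇑(f i j h))).encard = ⨆ i, (minimalPrimes (G i)).encard := by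
  let D := Ring.DirectLimit G fun i j h => ⇑(f i j h)
  let φ : ∀ i, G i →+* D := fun i => Ring.DirectLimit.of G (fun i j h => ⇑(f i j h)) i
  have hφ : ∀ i j (h : i ≤ j) x, φ j (f i j h x) = φ i x := fun i j h x => Ring.DirectLimit.of_f h x
  have hφc : ∀ i j (h : i ≤ j), (φ j).comp (f i j h) = φ i := fun i j h => RingHom.ext (hφ i j h)
  have hsys : ∀ i j k (hij : i ≤ j) (hjk : j ≤ k) x,
      f j k hjk (f i j hij x) = f i k (hij.trans hjk) x := fun i j k hij hjk x =>
    DirectedSystem.map_map' (f := f) hij hjk x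
  -- contraction of minimal is minimal
  have key1 : ∀ (P : Ideal D), P ∈ minimalPrimes D → ∀ i, P.comap (φ i) ∈ minimalPrimes (G i) := by
    intro P hP i
    have hPp : P.IsPrime := hP.1.1
    refine ⟨⟨inferInstance, bot_le⟩, ?_⟩
    rintro q ⟨hq, -⟩ hle x hx
    by_contra hxq
    have hnil : ∃ (s : D), s ∉ P ∧ IsNilpotent (s * φ i x) := by
      have h1 : IsNilpotent (algebraMap D (Localization.AtPrime P) (φ i x)) := by
        rw [← mem_nilradical, nilradical_eq_sInf, Ideal.mem_sInf]
        intro Q hQ
        have hQp : Q.IsPrime := hQ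
        have hQP : Q.comap (algebraMap D (Localization.AtPrime P)) ≤ P := by
          have h2 := IsLocalRing.le_maximalIdeal hQp.ne_top
          have h3 := Ideal.comap_mono (f := algebraMap D (Localization.AtPrime P)) h2
          rwa [← Ideal.under_def _ (IsLocalRing.maximalIdeal (Localization.AtPrime P)),
            Localization.AtPrime.under_maximalIdeal] at h3
        exact (hP.2 ⟨inferInstance, bot_le⟩ hQP) hx
      obtain ⟨n, hn⟩ := h1
      rw [← map_pow] at hn
      obtain ⟨⟨s, hs⟩, hs'⟩ := (IsLocalization.map_eq_zero_iff P.primeCompl _ _).1 hn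
      refine ⟨s, hs, n + 1, ?_⟩
      calc (s * φ i x) ^ (n + 1) = s ^ n * φ i x * (s * φ i x ^ n) := by ring
        _ = 0 := by simp only at hs'; rw [hs', mul_zero]
    obtain ⟨s, hsP, n, hn⟩ := hnil
    obtain ⟨j, t, rfl⟩ := Ring.DirectLimit.exists_of s
    obtain ⟨m, him, hjm⟩ := exists_ge_ge i j
    have hz : φ m ((f j m hjm t * f i m him x) ^ n) = 0 := by
      rw [map_pow, map_mul, hφ, hφ]; exact hn
    obtain ⟨k, hmk, hk⟩ := Ring.DirectLimit.of.zero_exact hz
    rw [map_pow, map_mul, hsys, hsys] at hk
    algebraize [f i k (him.trans hmk)]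
    have := hf i k (him.trans hmk)
    have : (P.comap (φ k)).LiesOver (P.comap (φ i)) := ⟨by
      rw [Ideal.under_def, Ideal.comap_comap]; exact congrArg (Ideal.comap · P) (hφc i k (him.trans hmk)).symm⟩
    obtain ⟨Q, hQle, hQp, hQo⟩ := Ideal.exists_ideal_le_liesOver_of_le (P.comap (φ k)) hle
    have hmem : f j k (hjm.trans hmk) t * f i k (him.trans hmk) x ∈ Q :=
      hQp.mem_of_pow_mem n (hk ▸ Q.zero_mem)
    rcases hQp.mem_or_mem hmem with h | h
    · exact hsP (by simpa [hφ] using hQle h)
    · exact hxq (by rw [hQo.over]; exact h)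
  -- every minimal prime of `G i` is a contraction
  have key2 : ∀ i, ∀ q ∈ minimalPrimes (G i), ∃ P ∈ minimalPrimes D, P.comap (φ i) = q := by
    intro i q hq
    have hqp : q.IsPrime := hq.1.1
    have hcm : (q.map (φ i)).comap (φ i) = q := by
      refine le_antisymm ?_ Ideal.le_comap_map
      intro x hx
      have h1 : ∀ y ∈ q.map (φ i), ∃ k, ∃ h : i ≤ k, ∃ z ∈ q.map (f i k h), φ k z = y := by
        intro y hy
        induction hy using Submodule.span_induction with
        | mem y hy =>
          obtain ⟨z, hz, rfl⟩ := hy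
          exact ⟨i, le_rfl, f i i le_rfl z, Ideal.mem_map_of_mem _ hz, hφ i i le_rfl z⟩
        | zero => exact ⟨i, le_rfl, 0, zero_mem _, map_zero _⟩
        | add a b _ _ ha hb =>
          obtain ⟨k, hk, z, hz, rfl⟩ := ha
          obtain ⟨l, hl, w, hw, rfl⟩ := hb
          obtain ⟨m, hkm, hlm⟩ := exists_ge_ge k l
          refine ⟨m, hk.trans hkm, f k m hkm z + f l m hlm w, add_mem ?_ ?_, by rw [map_add, hφ, hφ]⟩
          · have := Ideal.mem_map_of_mem (f k m hkm) hz
            rwa [Ideal.map_map, (RingHom.ext (hsys i k m hk hkm) : (f k m hkm).comp (f i k hk) = _)] at this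
          · have := Ideal.mem_map_of_mem (f l m hlm) hw
            rwa [Ideal.map_map, (RingHom.ext (hsys i l m hl hlm) : (f l m hlm).comp (f i l hl) = _)] at this
        | smul a b _ hb =>
          obtain ⟨k, hk, z, hz, rfl⟩ := hb
          obtain ⟨l, t, rfl⟩ := Ring.DirectLimit.exists_of a
          obtain ⟨m, hkm, hlm⟩ := exists_ge_ge k l
          refine ⟨m, hk.trans hkm, f l m hlm t * f k m hkm z, Ideal.mul_mem_left _ _ ?_, ?_⟩
          · have := Ideal.mem_map_of_mem (f k m hkm) hz
            rwa [Ideal.map_map, (RingHom.ext (hsys i k m hk hkm) : (f k m hkm).comp (f i k hk) = _)] at this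
          · rw [map_mul, hφ, hφ, smul_eq_mul]
      obtain ⟨k, hk, z, hz, hzx⟩ := h1 _ hx
      have : φ k (z - f i k hk x) = 0 := by rw [map_sub, hφ, hzx, sub_self]
      obtain ⟨l, hkl, hl⟩ := Ring.DirectLimit.of.zero_exact this
      rw [map_sub, sub_eq_zero, hsys] at hl
      have h2 := Ideal.mem_map_of_mem (f k l hkl) hz
      rw [Ideal.map_map, (RingHom.ext (hsys i k l hk hkl) : (f k l hkl).comp (f i k hk) = _), hl] at h2
      algebraize [f i l (hk.trans hkl)]
      have := hf i l (hk.trans hkl)
      rw [← Ideal.comap_map_eq_self_of_faithfullyFlat (B := G l) q]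
      exact h2
    obtain ⟨Q, hQp, hQ⟩ := (Ideal.comap_map_eq_self_iff_of_isPrime q).1 hcm
    obtain ⟨P, hP, hPQ⟩ := Ideal.exists_minimalPrimes_le (I := (⊥ : Ideal D)) (J := Q) bot_le
    have hPp : P.IsPrime := hP.1.1
    have hle : P.comap (φ i) ≤ q := hQ ▸ Ideal.comap_mono hPQ
    exact ⟨P, hP, le_antisymm hle (hq.2 ⟨inferInstance, bot_le⟩ hle)⟩
  refine le_antisymm ?_ (iSup_le fun i => ?_)
  · classical
    refine ENat.forall_natCast_le_iff_le.1 fun n hn => ?_
    obtain ⟨t, hts, htn⟩ := Set.exists_subset_encard_eq hn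
    have htf : t.Finite := Set.finite_of_encard_eq_coe htn
    have sep : ∀ a b : Ideal D, a ≠ b → ∃ k, a.comap (φ k) ≠ b.comap (φ k) := by
      intro a b hab
      by_contra h
      push_neg at h
      apply hab
      ext z
      obtain ⟨k, x, rfl⟩ := Ring.DirectLimit.exists_of z
      exact SetLike.ext_iff.1 (h k) x
    choose! sk hsk using sep
    obtain ⟨i, hi⟩ := ((htf.toFinset ×ˢ htf.toFinset).image fun p => sk p.1 p.2).exists_le
    refine le_trans ?_ (le_iSup (fun i => (minimalPrimes (G i)).encard) i)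
    rw [← htn]
    refine Set.encard_le_encard_of_injOn (f := fun P => P.comap (φ i))
      (fun P hP => key1 P (hts hP) i) fun a ha b hb h => ?_
    by_contra hab
    have hle : sk a b ≤ i := hi _ (Finset.mem_image.2 ⟨(a, b), by simp [ha, hb], rfl⟩)
    apply hsk a b hab
    rw [← hφc _ _ hle, ← Ideal.comap_comap, ← Ideal.comap_comap]
    exact congrArg _ h
  · choose! g hg hg' using key2 i
    exact Set.encard_le_encard_of_injOn hg (fun a ha b hb h => by rw [← hg' a ha, ← hg' b hb, h])

end Groth.Agent.S1409
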