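import Groth.Statements.S14090
import Groth.Agent.BlowUpLib.Cartier
-- import your own Groth.Agent.* helpers here

set_option autoImplicit false
universe u
open CategoryTheory AlgebraicGeometry
open BlowUp

namespace Groth.Agent.S14090

open CategoryTheory.Limits

namespace aux

theorem lift {A B C : Type u} [CommRing A] [CommRing B] [CommRing C] [Algebra A B]
    (hinj : Function.Injective (algebraMap A B)) (I : Ideal A)
    (hIB : (Ideal.map (algebraMap A B) I : Set B) ⊆ algebraMap A B '' (I : Set A))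
    (ψ : A →+* C) {t : C} (ht : t ∈ nonZeroDivisors C) (hI : I.map ψ = Ideal.span {t}) :
    ∃ ρ : B →+* C, ρ.comp (algebraMap A B) = ψ ∧
      ∀ ρ' : B →+* C, ρ'.comp (algebraMap A B) = ψ → ρ' = ρ := by
  have htI : t ∈ I.map ψ := hI ▸ Ideal.mem_span_singleton_self t
  have hcancel : ∀ x y : C, (∀ a ∈ I, x * ψ a = y * ψ a) → x = y := fun x y h => by
    have h2 : ∀ z ∈ I.map ψ, x * z = y * z := fun z hz => by
      induction hz using Submodule.span_induction with
      | mem z hz => obtain ⟨a, ha, rfl⟩ := hz; exact h a ha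
      | zero => simp
      | add p q _ _ hp hq => rw [mul_add, mul_add, hp, hq]
      | smul c p _ hp => rw [smul_eq_mul, mul_left_comm, hp, mul_left_comm]
    exact sub_eq_zero.1 ((mem_nonZeroDivisors_iff_right.1 ht) _ (by rw [sub_mul, h2 t htI, sub_self]))
  have hm : ∀ (b : B) (a : A), a ∈ I → ∃ a' ∈ I, algebraMap A B a' = b * algebraMap A B a := fun b a ha =>
    hIB (Ideal.mul_mem_left _ b (Ideal.mem_map_of_mem _ ha))
  choose m hmI hm using hm
  have hx : ∀ b : B, ∃ x : C, ∀ a (ha : a ∈ I), ψ (m b a ha) = x * ψ a := fun b => by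
    have h2 : ∀ z ∈ I.map ψ, ∃ x, ∀ a (ha : a ∈ I), z * ψ (m b a ha) = t * x * ψ a := fun z hz => by
      induction hz using Submodule.span_induction with
      | mem z hz =>
        obtain ⟨a₀, ha₀, rfl⟩ := hz
        obtain ⟨y, hy⟩ := Ideal.mem_span_singleton.1 (hI.le (Ideal.mem_map_of_mem ψ (hmI b a₀ ha₀)))
        refine ⟨y, fun a ha => ?_⟩
        rw [← hy, ← map_mul, ← map_mul]
        congr 1
        apply hinj
        rw [map_mul, map_mul, hm, hm]
        ring
      | zero => exact ⟨0, fun a ha => by simp⟩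
      | add p q _ _ hp hq =>
        obtain ⟨x, hx⟩ := hp
        obtain ⟨y, hy⟩ := hq
        exact ⟨x + y, fun a ha => by rw [add_mul, hx a ha, hy a ha]; ring⟩
      | smul c p _ hp =>
        obtain ⟨x, hx⟩ := hp
        exact ⟨c * x, fun a ha => by rw [smul_eq_mul, mul_assoc, hx a ha]; ring⟩
    obtain ⟨x, hx⟩ := h2 t htI
    refine ⟨x, fun a ha => sub_eq_zero.1 ((mem_nonZeroDivisors_iff_right.1 ht) _ ?_)⟩
    rw [sub_mul, mul_comm, hx a ha]
    ring
  choose r hr using hx
  have hm_eq : ∀ {x y : A}, algebraMap A B x = algebraMap A B y → ψ x = ψ y := fun h => congrArg ψ (hinj h)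
  let ρ : B →+* C :=
    { toFun := r
      map_one' := hcancel _ _ fun a ha => by
        rw [← hr 1 a ha, one_mul]
        exact hm_eq (by rw [hm, one_mul])
      map_zero' := hcancel _ _ fun a ha => by
        rw [← hr 0 a ha, zero_mul, ← map_zero ψ]
        exact hm_eq (by rw [hm, zero_mul, map_zero])
      map_add' := fun b c => hcancel _ _ fun a ha => by
        rw [add_mul, ← hr b a ha, ← hr c a ha, ← hr (b + c) a ha, ← map_add]
        exact hm_eq (by rw [map_add, hm, hm, hm, add_mul])
      map_mul' := fun b c => hcancel _ _ fun a ha => by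
        rw [mul_assoc, ← hr c a ha, ← hr b _ (hmI c a ha), ← hr (b * c) a ha]
        exact hm_eq (by rw [hm, hm, hm, mul_assoc]) }
  refine ⟨ρ, RingHom.ext fun x => hcancel _ _ fun a ha => ?_, fun ρ' h' => RingHom.ext fun b => hcancel _ _ fun a ha => ?_⟩
  · show r (algebraMap A B x) * ψ a = ψ x * ψ a
    rw [← hr _ a ha, ← map_mul]
    exact hm_eq (by rw [hm, map_mul])
  · show ρ' b * ψ a = r b * ψ a
    rw [← hr b a ha, ← h', RingHom.comp_apply, RingHom.comp_apply, hm, map_mul]

end aux

/-- Let A → B be an injective ring homomorphism and I an ideal of A such that the ideal I·B of B is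
contained in the image of I (so I is an ideal of B as well) and I·B is generated by one
nonzerodivisor of B (I is free of rank one over B). Then Spec B → Spec A is a blowing up of Spec A
in I. (This is the affine statement behind recovering a pair (X̃, D̃), D̃ an effective Cartier
divisor finite flat over D, as the blow-up of the pushout X̃ ⨿_D̃ D along D.) -/
theorem result (A B : Type u) [CommRing A] [CommRing B] [Algebra A B]
    (hinj : Function.Injective (algebraMap A B)) (I : Ideal A)
    (hIB : (Ideal.map (algebraMap A B) I : Set B) ⊆ algebraMap A B '' (I : Set A))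
    (f : B) (hf : f ∈ nonZeroDivisors B) (hgen : Ideal.map (algebraMap A B) I = Ideal.span {f}) :
    BlowUp.IsBlowUp (Spec.map (CommRingCat.ofHom (algebraMap A B))) (Curv2.idealSheaf A I) := by
  refine ⟨?_, fun Y g hg => ?_⟩
  · show BlowUp.IsEffCartierIdeal ((BlowUpLib.specIdeal I).comap _)
    rw [BlowUpLib.comap_specIdeal, hgen]
    exact BlowUpLib.isEffCartier_specIdeal hf
  change BlowUp.IsEffCartierIdeal ((BlowUpLib.specIdeal I).comap g) at hg
  let b := Spec.map (CommRingCat.ofHom (algebraMap A B))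
  -- charts
  have hch : ∀ {Z : Scheme.{u}} (g : Z ⟶ Spec (CommRingCat.of A)),
      BlowUp.IsEffCartierIdeal ((BlowUpLib.specIdeal I).comap g) → ∀ z : Z, ∃ (C : Type u) (_ : CommRing C)
        (j : Spec (CommRingCat.of C) ⟶ Z) (_ : IsOpenImmersion j), z ∈ Set.range j ∧
        ∃! h : Spec (CommRingCat.of C) ⟶ Spec (CommRingCat.of B), h ≫ b = j ≫ g := by
    intro Z g hg z
    obtain ⟨C, _, j, hj, t, ht, hz, he⟩ := BlowUpLib.exists_spec_chart hg z
    refine ⟨C, inferInstance, j, hj, hz, ?_⟩
    obtain ⟨ψ, hψ⟩ : ∃ ψ : A →+* C, j ≫ g = Spec.map (CommRingCat.ofHom ψ) :=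
      ⟨(Spec.preimage (j ≫ g)).hom, (Spec.map_preimage _).symm⟩
    rw [← Scheme.IdealSheafData.comap_comp, hψ, BlowUpLib.comap_specIdeal] at he
    obtain ⟨ρ, hρ, huniq⟩ := aux.lift hinj I hIB ψ ht (BlowUpLib.specIdeal_injective he)
    refine ⟨Spec.map (CommRingCat.ofHom ρ), ?_, fun h hh => ?_⟩
    · show Spec.map _ ≫ Spec.map _ = _
      rw [← Spec.map_comp, hψ, ← CommRingCat.ofHom_comp, hρ]
    · have h2 : CommRingCat.ofHom (algebraMap A B) ≫ Spec.preimage h = CommRingCat.ofHom ψ := by
        apply Spec.map_injective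
        rw [Spec.map_comp, Spec.map_preimage]
        exact hh.trans hψ
      rw [← Spec.map_preimage h, ← huniq (Spec.preimage h).hom (congrArg CommRingCat.Hom.hom h2)]
      rfl
  -- uniqueness
  have huniq : ∀ {Z : Scheme.{u}} (g : Z ⟶ Spec (CommRingCat.of A)),
      BlowUp.IsEffCartierIdeal ((BlowUpLib.specIdeal I).comap g) →
      ∀ h h' : Z ⟶ Spec (CommRingCat.of B), h ≫ b = g → h' ≫ b = g → h = h' := by
    intro Z g hg h h' e e'
    choose C iC j hj hjz u hu hu' using hch g hg
    let 𝒰 : Z.OpenCover := Scheme.Cover.mkOfCovers Z (fun z => Spec (CommRingCat.of (C z))) j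
      (fun z => ⟨z, hjz z⟩) hj
    refine 𝒰.hom_ext _ _ fun z => ?_
    exact (hu' z (j z ≫ h) ((Category.assoc _ _ _).trans (congrArg (j z ≫ ·) e))).trans
      (hu' z (j z ≫ h') ((Category.assoc _ _ _).trans (congrArg (j z ≫ ·) e'))).symm
  -- existence
  choose C iC j hj hjz u hu hu' using hch g hg
  let 𝒰 : Y.OpenCover := Scheme.Cover.mkOfCovers Y (fun z => Spec (CommRingCat.of (C z))) j
    (fun z => ⟨z, hjz z⟩) hj
  have hglue : ∀ x y, pullback.fst (𝒰.f x) (𝒰.f y) ≫ u x = pullback.snd (𝒰.f x) (𝒰.f y) ≫ u y := fun x y => by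
    refine huniq (pullback.fst (j x) (j y) ≫ j x ≫ g) ?_ _ _ ?_ ?_
    · haveI : IsOpenImmersion (j x) := hj x
      haveI : IsOpenImmersion (j y) := hj y
      rw [← Category.assoc, Scheme.IdealSheafData.comap_comp]
      exact BlowUpLib.isEffCartier_comap_of_flat _ hg
    · exact (Category.assoc _ _ _).trans (congrArg (pullback.fst (j x) (j y) ≫ ·) (hu x))
    · refine (Category.assoc _ _ _).trans ((congrArg (pullback.snd (j x) (j y) ≫ ·) (hu y)).trans ?_)
      rw [← Category.assoc, ← pullback.condition, Category.assoc]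
  have hb : 𝒰.glueMorphisms u hglue ≫ b = g := 𝒰.hom_ext _ _ fun z => by
    exact (Category.assoc _ _ _).symm.trans
      ((congrArg (· ≫ b) (Scheme.Cover.ι_glueMorphisms 𝒰 u hglue z)).trans (hu z))
  exact ⟨_, hb, fun h hh => huniq g hg _ _ hh hb⟩


end Groth.Agent.S14090
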