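import Groth.Statements.S14093
import Groth.Agent.ArSingLib.NF

set_option autoImplicit false
universe u
open ArSing

namespace Groth.Agent.S14093

/-- For an algebraically closed field k of characteristic prime to 2 and to r+1 and the involution σ of
A_r = k[[x,y]]/(y^2 - x^(r+1)) with σ(x) = x, σ(y) = -y: the invariant subalgebra is k[[x]] (the
image of t ↦ x from k[[t]]), the inclusion k[[x]] → A_r is faithfully flat (flat, and the maximal
ideal of k[[t]] does not generate the unit ideal of A_r), and the fixed locus (the closed subscheme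
cut out by all σ(a) - a) is a Cartier divisor of length r + 1, i.e. its ideal is generated by one
nonzerodivisor and the quotient has length r + 1. -/
theorem result (k : Type u) [Field k] [IsAlgClosed k] (r : ℕ)
    (h2 : (2 : k) ≠ 0) (hr : ((r + 1 : ℕ) : k) ≠ 0)
    (σ : ArSing.ring k r ≃ₐ[k] ArSing.ring k r) (hx : σ (ArSing.x k r) = ArSing.x k r)
    (hy : σ (ArSing.y k r) = -ArSing.y k r) :
    (∀ a : ArSing.ring k r, σ a = a ↔ a ∈ (ArSing.xMap k r).range) ∧
    ((ArSing.xMap k r).toRingHom.Flat ∧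
      Ideal.map (ArSing.xMap k r) (IsLocalRing.maximalIdeal (PowerSeries k)) ≠ ⊤) ∧
    (∃ g : ArSing.ring k r, g ∈ nonZeroDivisors (ArSing.ring k r) ∧
      Ideal.span (Set.range fun a : ArSing.ring k r => σ a - a) = Ideal.span {g}) ∧
    Module.length (ArSing.ring k r)
      (ArSing.ring k r ⧸ Ideal.span (Set.range fun a : ArSing.ring k r => σ a - a)) = r + 1 := by
  classical
  have hxm : ∀ p, σ (ArSing.xMap k r p) = ArSing.xMap k r p := fun p =>
    ArSingLib.map_xMap (σ : ArSing.ring k r →ₐ[k] ArSing.ring k r) (AlgHom.id k _) (by simp)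
      (by simpa [ArSingLib.xMap_X] using hx) p
  have hσnf : ∀ p q, σ (ArSing.xMap k r p + ArSing.xMap k r q * ArSing.y k r) =
      ArSing.xMap k r p + ArSing.xMap k r (-q) * ArSing.y k r := fun p q => by
    rw [map_add, map_mul, hxm, hxm, hy, map_neg]
    ring
  have hI : Ideal.span (Set.range fun a : ArSing.ring k r => σ a - a) = Ideal.span {ArSing.y k r} := by
    refine le_antisymm (Ideal.span_le.2 ?_) ((Ideal.span_singleton_le_iff_mem _).2 ?_)
    · rintro _ ⟨a, rfl⟩
      obtain ⟨p, q, rfl⟩ := ArSingLib.exists_nf a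
      rw [SetLike.mem_coe, Ideal.mem_span_singleton']
      refine ⟨-2 * ArSing.xMap k r q, ?_⟩
      simp only [hσnf, map_neg]
      ring
    · have h : σ (ArSing.y k r) - ArSing.y k r ∈ Ideal.span (Set.range fun a : ArSing.ring k r => σ a - a) :=
        Ideal.subset_span ⟨_, rfl⟩
      rw [hy] at h
      have h' := Ideal.mul_mem_left _ (algebraMap k (ArSing.ring k r) (-2⁻¹)) h
      rwa [show algebraMap k (ArSing.ring k r) (-2⁻¹) * (-ArSing.y k r - ArSing.y k r) =
        algebraMap k (ArSing.ring k r) (2⁻¹ * 2) * ArSing.y k r by simp only [map_neg, map_mul, map_ofNat]; ring,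
        inv_mul_cancel₀ h2, map_one, one_mul] at h'
  refine ⟨fun a => ⟨fun h => ?_, ?_⟩, ⟨?_, ?_⟩, ⟨ArSing.y k r, ?_, hI⟩, ?_⟩
  · obtain ⟨p, q, rfl⟩ := ArSingLib.exists_nf a
    rw [hσnf] at h
    have h3 := (ArSingLib.nf_inj h).2
    have : q = 0 := by
      ext i
      have := congrArg (PowerSeries.coeff i) h3
      rw [map_neg, neg_eq_iff_add_eq_zero, ← two_mul] at this
      simpa [h2] using this
    subst this
    exact ⟨p, by simp⟩
  · rintro ⟨p, rfl⟩
    exact hxm p
  · rw [RingHom.Flat]
    algebraize [(ArSing.xMap k r).toRingHom]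
    let L : (PowerSeries k × PowerSeries k) →ₗ[PowerSeries k] ArSing.ring k r :=
      { toFun := fun pq => ArSing.xMap k r pq.1 + ArSing.xMap k r pq.2 * ArSing.y k r
        map_add' := fun a b => by simp only [Prod.fst_add, Prod.snd_add, map_add]; ring
        map_smul' := fun c a => by
          simp only [Prod.smul_fst, Prod.smul_snd, smul_eq_mul, map_mul, RingHom.id_apply]
          rw [Algebra.smul_def, RingHom.algebraMap_toAlgebra]
          simp only [AlgHom.toRingHom_eq_coe, AlgHom.coe_toRingHom]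
          ring }
    refine Module.Flat.of_linearEquiv (LinearEquiv.ofBijective L ⟨fun a b h => ?_, fun a => ?_⟩).symm
    · exact Prod.ext (ArSingLib.nf_inj h).1 (ArSingLib.nf_inj h).2
    · obtain ⟨p, q, rfl⟩ := ArSingLib.exists_nf a
      exact ⟨(p, q), rfl⟩
  · refine ne_top_of_le_ne_top (IsLocalRing.maximalIdeal.isMaximal (ArSing.ring k r)).ne_top ?_
    rw [PowerSeries.maximalIdeal_eq_span_X, Ideal.map_span, Set.image_singleton, Ideal.span_singleton_le_iff_mem,
      ArSingLib.xMap_X]
    exact ArSingLib.x_mem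
  · refine mem_nonZeroDivisors_iff_right.2 fun a ha => ?_
    obtain ⟨p, q, rfl⟩ := ArSingLib.exists_nf a
    have := ArSingLib.nf_mul (r := r) p q 0 1
    rw [map_zero, map_one, one_mul, zero_add, ha] at this
    obtain ⟨h3, h4⟩ := ArSingLib.nf_zero this.symm
    simp only [mul_one, mul_zero, add_zero, zero_add, mul_eq_zero,
      pow_eq_zero_iff (Nat.succ_ne_zero r), PowerSeries.X_ne_zero, or_false] at h3 h4
    simp [h3, h4]
  · rw [hI, ArSingLib.length_quot (k := k) _ (ArSing.xMap k r).toRingHom (r + 1) ?_ fun g => ?_]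
    · simp
    · intro a
      obtain ⟨a, rfl⟩ := Ideal.Quotient.mk_surjective a
      obtain ⟨p, q, rfl⟩ := ArSingLib.exists_nf a
      refine ⟨p, ?_⟩
      simp only [RingHom.comp_apply, AlgHom.toRingHom_eq_coe, AlgHom.coe_toRingHom]
      rw [Ideal.Quotient.eq, Ideal.mem_span_singleton']
      exact ⟨-ArSing.xMap k r q, by ring⟩
    · simp only [AlgHom.toRingHom_eq_coe, AlgHom.coe_toRingHom, Ideal.mem_span_singleton']
      refine ⟨?_, fun ⟨g', hg⟩ => ⟨ArSing.xMap k r g' * ArSing.y k r, ?_⟩⟩
      · rintro ⟨a, ha⟩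
        obtain ⟨p, q, rfl⟩ := ArSingLib.exists_nf a
        have := ArSingLib.nf_mul (r := r) p q 0 1
        rw [map_zero, map_one, one_mul, zero_add, ha] at this
        have h5 : g = p * 0 + q * 1 * PowerSeries.X ^ (r + 1) := (ArSingLib.nf_inj (r := r) (q := 0) (q' := p * 1 + q * 0)
          (by rw [map_zero, zero_mul, add_zero]; exact this)).1
        exact ⟨q, by rw [h5]; ring⟩
      · rw [hg, map_mul, map_pow, ArSingLib.xMap_X, ← ArSingLib.y_sq]
        ring

end Groth.Agent.S14093
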