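import Groth.Statements.S14094
import Groth.Agent.ArSingLib.NF

set_option autoImplicit false
universe u
open ArSing

namespace Groth.Agent.S14094

/-- K algebraically closed of characteristic prime to 2 and to r+1, r = 2m - 1 with m ≥ 2, σ the
involution x ↦ -x, y ↦ y of A_r = k[[x,y]]/(y^2 - x^(r+1)), and φ : A_(m-1) → A_r the k-algebra map
x ↦ x^2, y ↦ y. Then the invariant subalgebra of σ is the image of φ (so A_r^σ ≅ A_(m-1)), φ is
faithfully flat (flat, and the maximal ideal of A_(m-1) does not generate the unit ideal), and the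
fixed locus of σ is a Cartier divisor of length 2: its ideal, generated by the elements σ(a) - a, is
generated by one nonzerodivisor and has quotient of length 2. -/
theorem result (k : Type u) [Field k] [IsAlgClosed k] (m r : ℕ)
    (hm : 2 ≤ m) (hr : r = 2 * m - 1) (h2 : (2 : k) ≠ 0) (hr1 : ((r + 1 : ℕ) : k) ≠ 0)
    (σ : ArSing.ring k r ≃ₐ[k] ArSing.ring k r) (hx : σ (ArSing.x k r) = -ArSing.x k r)
    (hy : σ (ArSing.y k r) = ArSing.y k r)
    (φ : ArSing.ring k (m - 1) →ₐ[k] ArSing.ring k r) (hφx : φ (ArSing.x k (m - 1)) = ArSing.x k r ^ 2)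
    (hφy : φ (ArSing.y k (m - 1)) = ArSing.y k r) :
    (∀ a : ArSing.ring k r, σ a = a ↔ a ∈ φ.range) ∧
    (φ.toRingHom.Flat ∧ ∀ I : Ideal (ArSing.ring k (m - 1)), I.IsMaximal → Ideal.map φ I ≠ ⊤) ∧
    (∃ g : ArSing.ring k r, g ∈ nonZeroDivisors (ArSing.ring k r) ∧ Ideal.span (Set.range fun a : ArSing.ring k r => σ a - a) = Ideal.span {g}) ∧
    Module.length (ArSing.ring k r) (ArSing.ring k r ⧸ Ideal.span (Set.range fun a : ArSing.ring k r => σ a - a)) = 2 := by
  classical
  have hp2 : m - 1 + 1 = m := by omega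
  have hσx : ∀ p, σ (ArSing.xMap k r p) = ArSing.xMap k r (PowerSeries.rescale (-1 : k) p) := fun p =>
    ArSingLib.map_xMap_neg (σ := (σ : ArSing.ring k r →ₐ[k] ArSing.ring k r)) hx p
  have hφm : ∀ p, φ (ArSing.xMap k (m - 1) p) = ArSing.xMap k r (ArSingLib.E2 p) := fun p =>
    ArSingLib.map_xMap φ ArSingLib.E2 (by simp [ArSingLib.E2_X])
      (by rw [ArSingLib.E2_X, map_pow, ArSingLib.xMap_X, hφx]) p
  have hφnf : ∀ p q, φ (ArSing.xMap k (m - 1) p + ArSing.xMap k (m - 1) q * ArSing.y k (m - 1)) =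
      ArSing.xMap k r (ArSingLib.E2 p) + ArSing.xMap k r (ArSingLib.E2 q) * ArSing.y k r := fun p q => by
    rw [map_add, map_mul, hφm, hφm, hφy]
  have hσnf : ∀ a b c d, σ (ArSing.xMap k r (ArSingLib.E2 a + PowerSeries.X * ArSingLib.E2 b) +
      ArSing.xMap k r (ArSingLib.E2 c + PowerSeries.X * ArSingLib.E2 d) * ArSing.y k r) =
      ArSing.xMap k r (ArSingLib.E2 a - PowerSeries.X * ArSingLib.E2 b) +
      ArSing.xMap k r (ArSingLib.E2 c - PowerSeries.X * ArSingLib.E2 d) * ArSing.y k r := fun a b c d => by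
    rw [map_add, map_mul, hσx, hσx, hy, ArSingLib.rescale_neg_evenOdd, ArSingLib.rescale_neg_evenOdd]
  have hform : ∀ z, ∃ a b c d, z = ArSing.xMap k r (ArSingLib.E2 a + PowerSeries.X * ArSingLib.E2 b) +
      ArSing.xMap k r (ArSingLib.E2 c + PowerSeries.X * ArSingLib.E2 d) * ArSing.y k r := fun z => by
    obtain ⟨p, q, rfl⟩ := ArSingLib.exists_nf z
    obtain ⟨a, b, rfl⟩ := ArSingLib.exists_evenOdd p
    obtain ⟨c, d, rfl⟩ := ArSingLib.exists_evenOdd q
    exact ⟨a, b, c, d, rfl⟩
  have hI : Ideal.span (Set.range fun a : ArSing.ring k r => σ a - a) = Ideal.span {ArSing.x k r} := by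
    refine le_antisymm (Ideal.span_le.2 ?_) ((Ideal.span_singleton_le_iff_mem _).2 ?_)
    · rintro _ ⟨z, rfl⟩
      obtain ⟨a, b, c, d, rfl⟩ := hform z
      rw [SetLike.mem_coe, Ideal.mem_span_singleton']
      refine ⟨-2 * (ArSing.xMap k r (ArSingLib.E2 b) + ArSing.xMap k r (ArSingLib.E2 d) * ArSing.y k r), ?_⟩
      simp only [hσnf]
      simp only [map_add, map_sub, map_mul, ArSingLib.xMap_X]
      ring
    · have h : σ (ArSing.x k r) - ArSing.x k r ∈ Ideal.span (Set.range fun a : ArSing.ring k r => σ a - a) :=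
        Ideal.subset_span ⟨_, rfl⟩
      rw [hx] at h
      have h' := Ideal.mul_mem_left _ (algebraMap k (ArSing.ring k r) (-2⁻¹)) h
      rwa [show algebraMap k (ArSing.ring k r) (-2⁻¹) * (-ArSing.x k r - ArSing.x k r) =
        algebraMap k (ArSing.ring k r) (2⁻¹ * 2) * ArSing.x k r by simp only [map_neg, map_mul, map_ofNat]; ring,
        inv_mul_cancel₀ h2, map_one, one_mul] at h'
  refine ⟨fun z => ⟨fun h => ?_, ?_⟩, ⟨?_, fun I hI' => ?_⟩, ⟨ArSing.x k r, ?_, hI⟩, ?_⟩
  · obtain ⟨a, b, c, d, rfl⟩ := hform z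
    rw [hσnf] at h
    obtain ⟨h3, h4⟩ := ArSingLib.nf_inj h
    have hz : ∀ p : PowerSeries k, PowerSeries.X * p + PowerSeries.X * p = 0 → p = 0 := fun p hp => by
      rw [← mul_add, mul_eq_zero, or_iff_right PowerSeries.X_ne_zero] at hp
      ext i
      have := congrArg (PowerSeries.coeff i) hp
      rw [map_add, ← two_mul] at this
      simpa [h2] using this
    have hb := hz (ArSingLib.E2 b) (by linear_combination -h3)
    have hd := hz (ArSingLib.E2 d) (by linear_combination -h4)
    refine ⟨ArSing.xMap k (m - 1) a + ArSing.xMap k (m - 1) c * ArSing.y k (m - 1), ?_⟩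
    show φ _ = _
    rw [hφnf, hb, hd, mul_zero, add_zero, add_zero]
  · rintro ⟨w, rfl⟩
    obtain ⟨p, q, rfl⟩ := ArSingLib.exists_nf w
    show σ (φ _) = φ _
    have := hσnf p 0 q 0
    simp only [map_zero, mul_zero, add_zero, sub_zero] at this
    rw [hφnf, this]
  · rw [RingHom.Flat]
    algebraize [φ.toRingHom]
    let L : (ArSing.ring k (m - 1) × ArSing.ring k (m - 1)) →ₗ[ArSing.ring k (m - 1)] ArSing.ring k r :=
      { toFun := fun pq => φ pq.1 + φ pq.2 * ArSing.x k r
        map_add' := fun a b => by simp only [Prod.fst_add, Prod.snd_add, map_add]; ring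
        map_smul' := fun c a => by
          simp only [Prod.smul_fst, Prod.smul_snd, smul_eq_mul, map_mul, RingHom.id_apply]
          rw [Algebra.smul_def, RingHom.algebraMap_toAlgebra]
          simp only [AlgHom.toRingHom_eq_coe, AlgHom.coe_toRingHom]
          ring }
    refine Module.Flat.of_linearEquiv (LinearEquiv.ofBijective L ⟨?_, fun z => ?_⟩).symm
    · rw [injective_iff_map_eq_zero]
      rintro ⟨u, v⟩ h
      obtain ⟨a, c, rfl⟩ := ArSingLib.exists_nf u
      obtain ⟨b, d, rfl⟩ := ArSingLib.exists_nf v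
      change φ _ + φ _ * _ = 0 at h
      rw [hφnf, hφnf] at h
      obtain ⟨h3, h4⟩ := ArSingLib.nf_zero (r := r) (p := ArSingLib.E2 a + PowerSeries.X * ArSingLib.E2 b)
        (q := ArSingLib.E2 c + PowerSeries.X * ArSingLib.E2 d) (by
          simp only [map_add, map_mul, ArSingLib.xMap_X]; linear_combination h)
      obtain ⟨rfl, rfl⟩ := ArSingLib.evenOdd_zero h3
      obtain ⟨rfl, rfl⟩ := ArSingLib.evenOdd_zero h4
      simp
    · obtain ⟨a, b, c, d, rfl⟩ := hform z
      refine ⟨(ArSing.xMap k (m - 1) a + ArSing.xMap k (m - 1) c * ArSing.y k (m - 1),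
        ArSing.xMap k (m - 1) b + ArSing.xMap k (m - 1) d * ArSing.y k (m - 1)), ?_⟩
      show φ _ + φ _ * _ = _
      rw [hφnf, hφnf]
      simp only [map_add, map_mul, ArSingLib.xMap_X]
      ring
  · rw [IsLocalRing.eq_maximalIdeal hI', ArSingLib.maximalIdeal_ring, Ideal.map_span, Set.image_pair, hφx, hφy]
    refine ne_top_of_le_ne_top (IsLocalRing.maximalIdeal.isMaximal (ArSing.ring k r)).ne_top (Ideal.span_le.2 ?_)
    rintro _ (rfl | rfl)
    · exact Ideal.pow_mem_of_mem _ ArSingLib.x_mem 2 two_pos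
    · exact ArSingLib.y_mem
  · refine mem_nonZeroDivisors_iff_right.2 fun a ha => ?_
    obtain ⟨p, q, rfl⟩ := ArSingLib.exists_nf a
    obtain ⟨h3, h4⟩ := ArSingLib.nf_zero (r := r) (p := p * PowerSeries.X) (q := q * PowerSeries.X) (by
      simp only [map_mul, ArSingLib.xMap_X]; linear_combination ha)
    rw [mul_eq_zero, or_iff_left PowerSeries.X_ne_zero] at h3 h4
    simp [h3, h4]
  · rw [hI, ArSingLib.length_quot (k := k) _ (ArSingLib.yMap k r).toRingHom 2 ?_ fun g => ?_]
    · simp
    · intro a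
      obtain ⟨a, rfl⟩ := Ideal.Quotient.mk_surjective a
      obtain ⟨p, q, rfl⟩ := ArSingLib.exists_nf a
      refine ⟨PowerSeries.C (PowerSeries.constantCoeff p) + PowerSeries.C (PowerSeries.constantCoeff q) * PowerSeries.X, ?_⟩
      obtain ⟨p', hp'⟩ : PowerSeries.X ∣ p - PowerSeries.C (PowerSeries.constantCoeff p) := by
        rw [PowerSeries.X_dvd_iff]; simp
      obtain ⟨q', hq'⟩ : PowerSeries.X ∣ q - PowerSeries.C (PowerSeries.constantCoeff q) := by
        rw [PowerSeries.X_dvd_iff]; simp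
      simp only [RingHom.comp_apply, AlgHom.toRingHom_eq_coe, AlgHom.coe_toRingHom]
      rw [Ideal.Quotient.eq, Ideal.mem_span_singleton']
      refine ⟨-(ArSing.xMap k r p' + ArSing.xMap k r q' * ArSing.y k r), ?_⟩
      have hC : ∀ (c : k) (f : PowerSeries k →ₐ[k] ArSing.ring k r), f (PowerSeries.C c) = algebraMap k _ c :=
        fun c f => f.commutes c
      conv_rhs => rw [show p = PowerSeries.X * p' + PowerSeries.C (PowerSeries.constantCoeff p) by rw [← hp']; ring,
        show q = PowerSeries.X * q' + PowerSeries.C (PowerSeries.constantCoeff q) by rw [← hq']; ring]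
      simp only [map_add, map_mul, ArSingLib.xMap_X, ArSingLib.yMap_X, hC, PowerSeries.constantCoeff_X,
        PowerSeries.constantCoeff_C, zero_mul, mul_zero, zero_add]
      ring
    · have hyy : ArSingLib.yMap k r (PowerSeries.X ^ 2) ∈ Ideal.span {ArSing.x k r} := by
        rw [map_pow, ArSingLib.yMap_X, pow_two, ArSingLib.y_sq, Ideal.mem_span_singleton]
        exact dvd_pow_self _ r.succ_ne_zero
      obtain ⟨g', hg'⟩ : PowerSeries.X ^ 2 ∣ g - (PowerSeries.C (PowerSeries.constantCoeff g) +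
          PowerSeries.C (PowerSeries.coeff 1 g) * PowerSeries.X) := by
        rw [PowerSeries.X_pow_dvd_iff]
        intro i hi
        rcases i with _ | _ | i
        · simp
        · simp [PowerSeries.coeff_C]
        · omega
      have hg : g = PowerSeries.X ^ 2 * g' + (PowerSeries.C (PowerSeries.constantCoeff g) +
          PowerSeries.C (PowerSeries.coeff 1 g) * PowerSeries.X) := by rw [← hg']; ring
      simp only [AlgHom.toRingHom_eq_coe, AlgHom.coe_toRingHom]
      refine ⟨fun h => ?_, fun ⟨g'', hg''⟩ => ?_⟩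
      · rw [hg, map_add, Ideal.add_mem_iff_right _ (by rw [map_mul]; exact Ideal.mul_mem_right _ _ hyy),
          map_add, map_mul, ArSingLib.yMap_X, Ideal.mem_span_singleton'] at h
        obtain ⟨a, ha⟩ := h
        obtain ⟨p, q, rfl⟩ := ArSingLib.exists_nf a
        have hC : ∀ (c : k), ArSingLib.yMap k r (PowerSeries.C c) = ArSing.xMap k r (PowerSeries.C c) :=
          fun c => ((ArSingLib.yMap k r).commutes c).trans ((ArSing.xMap k r).commutes c).symm
        obtain ⟨h3, h4⟩ := ArSingLib.nf_inj (r := r) (p := p * PowerSeries.X) (q := q * PowerSeries.X)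
          (p' := PowerSeries.C (PowerSeries.constantCoeff g)) (q' := PowerSeries.C (PowerSeries.coeff 1 g)) (by
          rw [← hC, ← hC]; simp only [map_mul, ArSingLib.xMap_X]; linear_combination ha)
        rw [PowerSeries.X_pow_dvd_iff]
        intro i hi
        have e3 := congrArg PowerSeries.constantCoeff h3
        have e4 := congrArg PowerSeries.constantCoeff h4
        simp only [map_mul, PowerSeries.constantCoeff_X, mul_zero, PowerSeries.constantCoeff_C] at e3 e4
        rcases i with _ | _ | i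
        · rw [PowerSeries.coeff_zero_eq_constantCoeff_apply, ← e3]
        · exact e4.symm
        · omega
      · rw [hg'', map_mul]
        exact Ideal.mul_mem_right _ _ hyy

end Groth.Agent.S14094
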