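import Groth.Statements.S14095
import Groth.Agent.ArSingLib.NF

set_option autoImplicit false
universe u
open ArSing

namespace Groth.Agent.S14095

/-- K algebraically closed of characteristic prime to 2 and to r+1, r = 2m - 1 with m ≥ 1, σ the
involution x ↦ -x, y ↦ -y of A_r = k[[x,y]]/(y^2 - x^(r+1)), and φ : A_m → A_r the k-algebra map x ↦
x^2, y ↦ xy. Then the invariant subalgebra of σ is the image of φ and φ is injective (so A_r^σ ≅
A_m), φ is not flat, and the fixed locus of σ is the reduced closed point and is not a Cartier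
divisor: the ideal generated by the elements σ(a) - a has quotient of length 1 and is not generated
by one nonzerodivisor. -/
theorem result (k : Type u) [Field k] [IsAlgClosed k] (m r : ℕ)
    (hm : 1 ≤ m) (hr : r = 2 * m - 1) (h2 : (2 : k) ≠ 0) (hr1 : ((r + 1 : ℕ) : k) ≠ 0)
    (σ : ArSing.ring k r ≃ₐ[k] ArSing.ring k r) (hx : σ (ArSing.x k r) = -ArSing.x k r)
    (hy : σ (ArSing.y k r) = -ArSing.y k r)
    (φ : ArSing.ring k m →ₐ[k] ArSing.ring k r) (hφx : φ (ArSing.x k m) = ArSing.x k r ^ 2)
    (hφy : φ (ArSing.y k m) = ArSing.x k r * ArSing.y k r) :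
    (∀ a : ArSing.ring k r, σ a = a ↔ a ∈ φ.range) ∧ Function.Injective φ ∧
    ¬ φ.toRingHom.Flat ∧
    Module.length (ArSing.ring k r) (ArSing.ring k r ⧸ Ideal.span (Set.range fun a : ArSing.ring k r => σ a - a)) = 1 ∧
    ¬ (∃ g : ArSing.ring k r, g ∈ nonZeroDivisors (ArSing.ring k r) ∧ Ideal.span (Set.range fun a : ArSing.ring k r => σ a - a) = Ideal.span {g}) := by
  classical
  have hr' : r + 1 = 2 * m := by omega
  have hσx : ∀ p, σ (ArSing.xMap k r p) = ArSing.xMap k r (PowerSeries.rescale (-1 : k) p) := fun p =>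
    ArSingLib.map_xMap_neg (σ := (σ : ArSing.ring k r →ₐ[k] ArSing.ring k r)) hx p
  have hφm : ∀ p, φ (ArSing.xMap k m p) = ArSing.xMap k r (ArSingLib.E2 p) := fun p =>
    ArSingLib.map_xMap φ ArSingLib.E2 (by simp [ArSingLib.E2_X])
      (by rw [ArSingLib.E2_X, map_pow, ArSingLib.xMap_X, hφx]) p
  have hφnf : ∀ p q, φ (ArSing.xMap k m p + ArSing.xMap k m q * ArSing.y k m) =
      ArSing.xMap k r (ArSingLib.E2 p) + ArSing.xMap k r (PowerSeries.X * ArSingLib.E2 q) * ArSing.y k r :=
    fun p q => by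
      rw [map_add, map_mul, hφm, hφm, hφy, map_mul, ArSingLib.xMap_X]
      ring
  have hσnf : ∀ a b c d, σ (ArSing.xMap k r (ArSingLib.E2 a + PowerSeries.X * ArSingLib.E2 b) +
      ArSing.xMap k r (ArSingLib.E2 c + PowerSeries.X * ArSingLib.E2 d) * ArSing.y k r) =
      ArSing.xMap k r (ArSingLib.E2 a - PowerSeries.X * ArSingLib.E2 b) +
      ArSing.xMap k r (-(ArSingLib.E2 c - PowerSeries.X * ArSingLib.E2 d)) * ArSing.y k r := fun a b c d => by
    rw [map_add, map_mul, hσx, hσx, hy, ArSingLib.rescale_neg_evenOdd, ArSingLib.rescale_neg_evenOdd, map_neg]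
    ring
  have hform : ∀ z, ∃ a b c d, z = ArSing.xMap k r (ArSingLib.E2 a + PowerSeries.X * ArSingLib.E2 b) +
      ArSing.xMap k r (ArSingLib.E2 c + PowerSeries.X * ArSingLib.E2 d) * ArSing.y k r := fun z => by
    obtain ⟨p, q, rfl⟩ := ArSingLib.exists_nf z
    obtain ⟨a, b, rfl⟩ := ArSingLib.exists_evenOdd p
    obtain ⟨c, d, rfl⟩ := ArSingLib.exists_evenOdd q
    exact ⟨a, b, c, d, rfl⟩
  have hI : Ideal.span (Set.range fun a : ArSing.ring k r => σ a - a) = IsLocalRing.maximalIdeal _ := by
    refine le_antisymm (Ideal.span_le.2 ?_) ?_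
    · rintro _ ⟨z, rfl⟩
      obtain ⟨a, b, c, d, rfl⟩ := hform z
      rw [SetLike.mem_coe, ArSingLib.maximalIdeal_ring, Ideal.mem_span_pair]
      refine ⟨-2 * ArSing.xMap k r (ArSingLib.E2 b), -2 * ArSing.xMap k r (ArSingLib.E2 c), ?_⟩
      simp only [hσnf]
      simp only [map_add, map_sub, map_mul, map_neg, ArSingLib.xMap_X]
      ring
    · rw [ArSingLib.maximalIdeal_ring, Ideal.span_le]
      have key : ∀ t, σ t = -t → t ∈ Ideal.span (Set.range fun a : ArSing.ring k r => σ a - a) := by
        intro t ht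
        have h : σ t - t ∈ Ideal.span (Set.range fun a : ArSing.ring k r => σ a - a) := Ideal.subset_span ⟨_, rfl⟩
        rw [ht] at h
        have h' := Ideal.mul_mem_left _ (algebraMap k (ArSing.ring k r) (-2⁻¹)) h
        rwa [show algebraMap k (ArSing.ring k r) (-2⁻¹) * (-t - t) =
          algebraMap k (ArSing.ring k r) (2⁻¹ * 2) * t by simp only [map_neg, map_mul, map_ofNat]; ring,
          inv_mul_cancel₀ h2, map_one, one_mul] at h'
      rintro _ (rfl | rfl)
      exacts [key _ hx, key _ hy]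
  have hinj : Function.Injective φ := by
    rw [injective_iff_map_eq_zero]
    intro w hw
    obtain ⟨p, q, rfl⟩ := ArSingLib.exists_nf w
    rw [hφnf] at hw
    obtain ⟨h3, h4⟩ := ArSingLib.nf_zero hw
    rw [mul_eq_zero, or_iff_right PowerSeries.X_ne_zero] at h4
    have e3 := (ArSingLib.evenOdd_zero (a := p) (b := 0) (by rw [map_zero, mul_zero, add_zero]; exact h3)).1
    have e4 := (ArSingLib.evenOdd_zero (a := q) (b := 0) (by rw [map_zero, mul_zero, add_zero]; exact h4)).1
    simp [e3, e4]
  refine ⟨fun z => ⟨fun h => ?_, ?_⟩, hinj, ?_, ?_, ?_⟩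
  · obtain ⟨a, b, c, d, rfl⟩ := hform z
    rw [hσnf] at h
    obtain ⟨h3, h4⟩ := ArSingLib.nf_inj h
    have hz : ∀ p : PowerSeries k, p + p = 0 → p = 0 := fun p hp => by
      ext i
      have := congrArg (PowerSeries.coeff i) hp
      rw [map_add, ← two_mul] at this
      simpa [h2] using this
    have hb := hz (PowerSeries.X * ArSingLib.E2 b) (by linear_combination -h3)
    have hc := hz (ArSingLib.E2 c) (by linear_combination -h4)
    refine ⟨ArSing.xMap k m a + ArSing.xMap k m d * ArSing.y k m, ?_⟩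
    show φ _ = _
    rw [hφnf, hb, hc, zero_add, add_zero]
  · rintro ⟨w, rfl⟩
    obtain ⟨p, q, rfl⟩ := ArSingLib.exists_nf w
    show σ (φ _) = φ _
    have := hσnf p 0 0 q
    simp only [map_zero, mul_zero, add_zero, sub_zero, zero_sub, neg_neg, zero_add] at this
    rw [hφnf, this]
  · intro hflat
    obtain ⟨n, a, z, hz, ha⟩ := ArSingLib.flat_rel hflat ![ArSing.y k m, -ArSing.x k m]
      ![ArSing.x k r, ArSing.y k r] (by
        simp only [Fin.sum_univ_two, Matrix.cons_val_zero, Matrix.cons_val_one, AlgHom.toRingHom_eq_coe,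
          AlgHom.coe_toRingHom, map_neg, hφx, hφy]
        ring)
    have hcoef : ∀ j, a 1 j ∈ IsLocalRing.maximalIdeal (ArSing.ring k m) := by
      intro j
      have h := ha j
      simp only [Fin.sum_univ_two, Matrix.cons_val_zero, Matrix.cons_val_one] at h
      obtain ⟨a0, a1, hA⟩ := ArSingLib.exists_nf (a 0 j)
      obtain ⟨b0, b1, hB⟩ := ArSingLib.exists_nf (a 1 j)
      rw [hA, hB] at h
      rw [hB, ArSingLib.mem_max_nf]
      have e := (ArSingLib.nf_zero (r := m) (p := a1 * PowerSeries.X ^ (m + 1) - PowerSeries.X * b0)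
        (q := a0 - PowerSeries.X * b1) (by
          simp only [map_sub, map_mul, map_pow, ArSingLib.xMap_X, ← ArSingLib.y_sq]
          linear_combination h)).1
      have : PowerSeries.X * b0 = PowerSeries.X * (a1 * PowerSeries.X ^ m) := by
        rw [sub_eq_zero] at e; rw [← e]; ring
      rw [mul_left_cancel₀ PowerSeries.X_ne_zero this, map_mul, map_pow, PowerSeries.constantCoeff_X,
        zero_pow (by omega), mul_zero]
    have hmem : ArSing.y k r ∈ Ideal.span {ArSing.x k r} := by
      rw [show ArSing.y k r = _ from hz 1]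
      refine Submodule.sum_mem _ fun j _ => ?_
      simp only [AlgHom.toRingHom_eq_coe, AlgHom.coe_toRingHom]
      refine Ideal.mul_mem_right _ _ ?_
      have := Ideal.mem_map_of_mem φ (hcoef j)
      rw [ArSingLib.maximalIdeal_ring, Ideal.map_span, Set.image_pair, hφx, hφy] at this
      refine Ideal.span_le.2 ?_ this
      rintro _ (rfl | rfl)
      · exact Ideal.pow_mem_of_mem _ (Ideal.mem_span_singleton_self _) 2 two_pos
      · exact Ideal.mul_mem_right _ _ (Ideal.mem_span_singleton_self _)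
    obtain ⟨t, ht⟩ := Ideal.mem_span_singleton'.1 hmem
    obtain ⟨p, q, rfl⟩ := ArSingLib.exists_nf t
    have e := (ArSingLib.nf_inj (r := r) (p := p * PowerSeries.X) (q := q * PowerSeries.X) (p' := 0) (q' := 1) (by
      simp only [map_mul, map_zero, map_one, ArSingLib.xMap_X]; linear_combination ht)).2
    simpa using congrArg PowerSeries.constantCoeff e
  · rw [hI]
    have : IsSimpleModule (ArSing.ring k r) (ArSing.ring k r ⧸ IsLocalRing.maximalIdeal (ArSing.ring k r)) :=
      isSimpleModule_iff_isCoatom.2 (IsLocalRing.maximalIdeal.isMaximal _).out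
    exact Module.length_eq_one _ _
  · rintro ⟨g, -, hg⟩
    rw [hI] at hg
    obtain ⟨s, hs⟩ := Ideal.mem_span_singleton'.1 (hg ▸ ArSingLib.x_mem (k := k) (r := r))
    obtain ⟨p', q', hgp⟩ := ArSingLib.exists_nf g
    have hgm : PowerSeries.constantCoeff p' = 0 := by
      rw [← ArSingLib.mem_max_nf (r := r) p' q', ← hgp, hg]; exact Ideal.mem_span_singleton_self g
    by_cases hu : IsUnit s
    · have hgx : Ideal.span {g} = Ideal.span {ArSing.x k r} := by
        rw [← hs, Ideal.span_singleton_mul_left_unit hu]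
      obtain ⟨t, ht⟩ := Ideal.mem_span_singleton'.1 (hgx ▸ hg ▸ ArSingLib.y_mem (k := k) (r := r))
      obtain ⟨p, q, rfl⟩ := ArSingLib.exists_nf t
      have e := (ArSingLib.nf_inj (r := r) (p := p * PowerSeries.X) (q := q * PowerSeries.X) (p' := 0) (q' := 1) (by
        simp only [map_mul, map_zero, map_one, ArSingLib.xMap_X]; linear_combination ht)).2
      simpa using congrArg PowerSeries.constantCoeff e
    · obtain ⟨p, q, rfl⟩ := ArSingLib.exists_nf s
      have hp : PowerSeries.constantCoeff p = 0 := not_not.1 fun h => hu ((ArSingLib.isUnit_nf p q).2 h)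
      rw [hgp, ArSingLib.nf_mul] at hs
      have e := (ArSingLib.nf_inj (r := r) (p := p * p' + q * q' * PowerSeries.X ^ (r + 1)) (q := p * q' + q * p') (p' := PowerSeries.X) (q' := 0) (by
        rw [ArSingLib.xMap_X, map_zero, zero_mul, add_zero]; exact hs)).1
      have h1 := congrArg (PowerSeries.coeff 1) e
      rw [map_add, PowerSeries.coeff_one_X, show r + 1 = 2 + (2 * m - 2) by omega, pow_add,
        show q * q' * (PowerSeries.X ^ 2 * PowerSeries.X ^ (2 * m - 2)) =
          PowerSeries.X ^ 2 * (q * q' * PowerSeries.X ^ (2 * m - 2)) by ring] at h1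
      rw [PowerSeries.X_pow_dvd_iff.1 (dvd_mul_right _ _) 1 one_lt_two, add_zero, PowerSeries.coeff_one_mul] at h1
      simp [hp, hgm] at h1

end Groth.Agent.S14095
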