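import Groth.Statements.S14096
import Groth.Agent.ArSingLib.NF

set_option autoImplicit false
universe u
open ArSing

namespace Groth.Agent.S14096

/-- K algebraically closed of characteristic ≠ 2, σ the involution of the node algebra A_1 =
k[[x,y]]/(y^2 - x^2) exchanging x and y, and φ : A_1 → A_1 the k-algebra map with φ(x + y) = x + y
and φ(y - x) = (y - x)^2 (in the branch coordinates u = x + y, v = y - x with uv = 0: u ↦ u, v ↦
v^2). Then the invariant subalgebra of σ is the image of φ and φ is injective (so A_1^σ ≅ A_1), and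
the fixed locus of σ is the branch v = 0: the ideal generated by the elements σ(a) - a is the ideal
(y - x), a minimal prime ideal generated by a zero-divisor (so not a Cartier divisor). Moreover φ is
not flat. (The published statement asserts that this extension is faithfully flat; it is not: as a
module over the invariant subalgebra B = k[[u,w]]/(uw), w = v^2, A_1 is B ⊕ (B/uB)·v, and B/uB is
not flat over B — equivalently the fibre length jumps from 1 on the branch w = 0 to 2 at the closed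
point.) -/
theorem result (k : Type u) [Field k] [IsAlgClosed k]
    (h2 : (2 : k) ≠ 0)
    (σ : ArSing.ring k 1 ≃ₐ[k] ArSing.ring k 1) (hx : σ (ArSing.x k 1) = ArSing.y k 1)
    (hy : σ (ArSing.y k 1) = ArSing.x k 1)
    (φ : ArSing.ring k 1 →ₐ[k] ArSing.ring k 1) (hφu : φ (ArSing.x k 1 + ArSing.y k 1) = ArSing.x k 1 + ArSing.y k 1)
    (hφv : φ (ArSing.y k 1 - ArSing.x k 1) = (ArSing.y k 1 - ArSing.x k 1) ^ 2) :
    (∀ a : ArSing.ring k 1, σ a = a ↔ a ∈ φ.range) ∧ Function.Injective φ ∧
    Ideal.span (Set.range fun a : ArSing.ring k 1 => σ a - a) = Ideal.span {ArSing.y k 1 - ArSing.x k 1} ∧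
    (ArSing.y k 1 - ArSing.x k 1) ∉ nonZeroDivisors (ArSing.ring k 1) ∧
    Ideal.span {ArSing.y k 1 - ArSing.x k 1} ∈ minimalPrimes (ArSing.ring k 1) ∧
    ¬ φ.toRingHom.Flat := by
  classical
  have hsub : ∀ s : k, MvPowerSeries.HasSubst (![PowerSeries.X, PowerSeries.C s * PowerSeries.X] : Fin 2 → PowerSeries k) :=
    fun s => MvPowerSeries.hasSubst_of_constantCoeff_zero fun i => by
      fin_cases i
      · exact PowerSeries.constantCoeff_X
      · show PowerSeries.constantCoeff (PowerSeries.C s * PowerSeries.X) = 0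
        simp
  have hbr : ∀ s : k, s * s = 1 → ∃ π : ArSing.ring k 1 →ₐ[k] PowerSeries k,
      π (ArSing.x k 1) = PowerSeries.X ∧ π (ArSing.y k 1) = PowerSeries.C s * PowerSeries.X := by
    intro s hs
    have h0 : ∀ f ∈ Ideal.span {ArSing.eqn k 1}, MvPowerSeries.substAlgHom (R := k) (hsub s) f = 0 := by
      intro f hf
      obtain ⟨g, rfl⟩ := Ideal.mem_span_singleton'.1 hf
      rw [map_mul, ArSing.eqn, map_sub, map_pow, map_pow, MvPowerSeries.substAlgHom_X, MvPowerSeries.substAlgHom_X]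
      simp only [Matrix.cons_val_zero, Matrix.cons_val_one]
      rw [show (PowerSeries.C s * PowerSeries.X) ^ 2 - PowerSeries.X ^ (1 + 1) =
        (PowerSeries.C (s * s) - 1) * PowerSeries.X ^ 2 by rw [map_mul]; ring, hs, map_one, sub_self, zero_mul, mul_zero]
    exact ⟨Ideal.Quotient.liftₐ _ (MvPowerSeries.substAlgHom (R := k) (hsub s)) h0,
      MvPowerSeries.substAlgHom_X (hsub s) 0, MvPowerSeries.substAlgHom_X (hsub s) 1⟩
  have hmax : ∀ f : PowerSeries k, PowerSeries.constantCoeff f = 0 → f ∈ IsLocalRing.maximalIdeal (PowerSeries k) :=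
    fun f hf => by rw [PowerSeries.maximalIdeal_eq_span_X, Ideal.mem_span_singleton, PowerSeries.X_dvd_iff]; exact hf
  obtain ⟨P, hPx, hPy⟩ := hbr 1 (one_mul 1)
  obtain ⟨M, hMx, hMy⟩ := hbr (-1) (by ring)
  rw [map_one, one_mul] at hPy
  rw [map_neg, map_one, neg_one_mul] at hMy
  have hm : ∀ (π : ArSing.ring k 1 →ₐ[k] PowerSeries k), π (ArSing.x k 1) = PowerSeries.X →
      ∀ p, π (ArSing.xMap k 1 p) = p := fun π hπ p =>
    AlgHom.congr_fun (ArSingLib.ps_hom_ext (φ := π.comp (ArSing.xMap k 1)) (ψ := AlgHom.id k _)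
      (hmax _ (by simp [ArSingLib.xMap_X, hπ])) (by simp [ArSingLib.xMap_X, hπ])) p
  have hPnf : ∀ p q, P (ArSing.xMap k 1 p + ArSing.xMap k 1 q * ArSing.y k 1) = p + q * PowerSeries.X :=
    fun p q => by rw [map_add, map_mul, hm P hPx, hm P hPx, hPy]
  have hMnf : ∀ p q, M (ArSing.xMap k 1 p + ArSing.xMap k 1 q * ArSing.y k 1) = p - q * PowerSeries.X :=
    fun p q => by rw [map_add, map_mul, hm M hMx, hm M hMx, hMy]; ring
  have hC2 : IsUnit (2 : PowerSeries k) := by
    rw [PowerSeries.isUnit_iff_constantCoeff, map_ofNat]; exact isUnit_iff_ne_zero.2 h2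
  have hjoint : ∀ a b, P a = P b → M a = M b → a = b := by
    intro a b h3 h4
    obtain ⟨p, q, rfl⟩ := ArSingLib.exists_nf a
    obtain ⟨p', q', rfl⟩ := ArSingLib.exists_nf b
    rw [hPnf, hPnf] at h3
    rw [hMnf, hMnf] at h4
    have e1 : p = p' := hC2.mul_left_cancel (by linear_combination h3 + h4)
    have e2 : q = q' := mul_right_cancel₀ PowerSeries.X_ne_zero (hC2.mul_left_cancel (by linear_combination h3 - h4))
    rw [e1, e2]
  have hsurj : ∀ F G, PowerSeries.constantCoeff F = PowerSeries.constantCoeff G → ∃ w, P w = F ∧ M w = G := by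
    intro F G h
    obtain ⟨D, hD⟩ : PowerSeries.X ∣ F - G := by rw [PowerSeries.X_dvd_iff, map_sub, h, sub_self]
    obtain ⟨i2, hi⟩ := hC2.exists_left_inv
    refine ⟨ArSing.xMap k 1 (i2 * (F + G)) + ArSing.xMap k 1 (i2 * D) * ArSing.y k 1, ?_, ?_⟩
    · rw [hPnf]; linear_combination F * hi - i2 * hD
    · rw [hMnf]; linear_combination G * hi + i2 * hD
  have hconst : ∀ a, PowerSeries.constantCoeff (P a) = PowerSeries.constantCoeff (M a) := fun a => by
    obtain ⟨p, q, rfl⟩ := ArSingLib.exists_nf a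
    rw [hPnf, hMnf]; simp
  have hPσ : ∀ a, P (σ a) = P a := by
    intro a
    exact AlgHom.congr_fun (ArSingLib.hom_ext (φ := P.comp (σ : ArSing.ring k 1 →ₐ[k] ArSing.ring k 1)) (ψ := P)
      (hmax _ (by simp [hx, hPy])) (hmax _ (by simp [hy, hPx])) (by simp [hx, hPx, hPy]) (by simp [hy, hPx, hPy])) a
  have hMσ : ∀ a, M (σ a) = PowerSeries.rescale (-1 : k) (M a) := by
    intro a
    have := AlgHom.congr_fun (ArSingLib.hom_ext (φ := M.comp (σ : ArSing.ring k 1 →ₐ[k] ArSing.ring k 1))
      (ψ := (PowerSeries.rescaleAlgHom (-1 : k)).comp M)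
      (hmax _ (by simp [hx, hMy])) (hmax _ (by simp [hy, hMx]))
      (by simp [hx, hMx, hMy, ArSingLib.negOne_rescale_X]) (by simp [hy, hMx, hMy, ArSingLib.negOne_rescale_X])) a
    simpa [ArSingLib.rescaleAlgHom_apply] using this
  have hPu := congrArg P hφu
  have hPv := congrArg P hφv
  have hMu := congrArg M hφu
  have hMv := congrArg M hφv
  simp only [map_add, map_sub, map_pow, hPx, hPy, hMx, hMy] at hPu hPv hMu hMv
  have hPφx : P (φ (ArSing.x k 1)) = PowerSeries.X := hC2.mul_left_cancel (by linear_combination hPu - hPv)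
  have hPφy : P (φ (ArSing.y k 1)) = PowerSeries.X := hC2.mul_left_cancel (by linear_combination hPu + hPv)
  have hMφx : M (φ (ArSing.x k 1)) = -2 * PowerSeries.X ^ 2 := hC2.mul_left_cancel (by linear_combination hMu - hMv)
  have hMφy : M (φ (ArSing.y k 1)) = 2 * PowerSeries.X ^ 2 := hC2.mul_left_cancel (by linear_combination hMu + hMv)
  let T : PowerSeries k →ₐ[k] PowerSeries k := ArSingLib.E2.comp (PowerSeries.rescaleAlgHom (-2 : k))
  have hTX : T PowerSeries.X = -2 * PowerSeries.X ^ 2 := by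
    simp only [T, AlgHom.comp_apply, ArSingLib.rescaleAlgHom_apply, PowerSeries.rescale_X, map_mul, ArSingLib.E2_X]
    rw [show PowerSeries.C (-2 : k) = (-2 : PowerSeries k) by simp only [map_neg, map_ofNat],
      map_neg, map_ofNat]
  have hPφ : ∀ w, P (φ w) = P w := fun w =>
    AlgHom.congr_fun (ArSingLib.hom_ext (φ := P.comp φ) (ψ := P) (hmax _ (by simp [hPφx])) (hmax _ (by simp [hPφy]))
      (by simp [hPφx, hPx]) (by simp [hPφy, hPy])) w
  have hMφ : ∀ w, M (φ w) = ArSingLib.E2 (PowerSeries.rescale (-2 : k) (M w)) := fun w => by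
    have := AlgHom.congr_fun (ArSingLib.hom_ext (φ := M.comp φ) (ψ := T.comp M) (hmax _ (by simp [hMφx]))
      (hmax _ (by simp [hMφy])) (by simp [hMφx, hMx, hTX]) (by simp [hMφy, hMy, hTX])) w
    simpa [T, ArSingLib.rescaleAlgHom_apply] using this
  have hker : ∀ a, P a = 0 → a ∈ Ideal.span {ArSing.y k 1 - ArSing.x k 1} := by
    intro a ha
    obtain ⟨p, q, rfl⟩ := ArSingLib.exists_nf a
    rw [hPnf] at ha
    refine Ideal.mem_span_singleton'.2 ⟨ArSing.xMap k 1 q, ?_⟩
    rw [show p = -(q * PowerSeries.X) by linear_combination ha, map_neg, map_mul, ArSingLib.xMap_X]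
    ring
  have hkerM : ∀ a, M a = 0 → a ∈ Ideal.span {ArSing.y k 1 + ArSing.x k 1} := by
    intro a ha
    obtain ⟨p, q, rfl⟩ := ArSingLib.exists_nf a
    rw [hMnf] at ha
    refine Ideal.mem_span_singleton'.2 ⟨ArSing.xMap k 1 q, ?_⟩
    rw [show p = q * PowerSeries.X by linear_combination ha, map_mul, ArSingLib.xMap_X]
    ring
  have huv : (ArSing.y k 1 + ArSing.x k 1) * (ArSing.y k 1 - ArSing.x k 1) = 0 := by
    linear_combination ArSingLib.y_sq (k := k) (r := 1)
  have hPu0 : P (ArSing.y k 1 + ArSing.x k 1) ≠ 0 := by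
    rw [map_add, hPx, hPy, ← two_mul]
    exact mul_ne_zero hC2.ne_zero PowerSeries.X_ne_zero
  have hspan : Ideal.span {ArSing.y k 1 - ArSing.x k 1} = RingHom.ker P := by
    refine le_antisymm ((Ideal.span_singleton_le_iff_mem _).2 ?_) hker
    rw [RingHom.mem_ker, map_sub, hPx, hPy, sub_self]
  refine ⟨fun a => ⟨fun h => ?_, ?_⟩, ?_, ?_, ?_, ⟨⟨hspan ▸ RingHom.ker_isPrime P, bot_le⟩, ?_⟩, ?_⟩
  · have hG := hMσ a
    rw [h] at hG
    obtain ⟨g, g', hg⟩ := ArSingLib.exists_evenOdd (M a)
    rw [hg, ArSingLib.rescale_neg_evenOdd] at hG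
    have hg' : PowerSeries.X * ArSingLib.E2 g' = 0 := hC2.mul_left_cancel (by linear_combination hG)
    rw [hg', add_zero] at hg
    obtain ⟨w, hw1, hw2⟩ := hsurj (P a) (PowerSeries.rescale ((-2 : k)⁻¹) g) (by
      rw [hconst, hg, ← PowerSeries.coeff_zero_eq_constantCoeff_apply, ← PowerSeries.coeff_zero_eq_constantCoeff_apply,
        PowerSeries.coeff_rescale, pow_zero, one_mul]
      exact ArSingLib.coeff_E2_even g 0)
    refine ⟨w, hjoint _ _ ?_ ?_⟩
    · show P (φ w) = P a
      rw [hPφ, hw1]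
    · show M (φ w) = M a
      rw [hMφ, hw2, hg, PowerSeries.rescale_rescale, inv_mul_cancel₀ (by simpa using h2), PowerSeries.rescale_one,
        RingHom.id_apply]
  · rintro ⟨w, rfl⟩
    show σ (φ w) = φ w
    refine hjoint _ _ (hPσ _) ?_
    rw [hMσ, hMφ, ArSingLib.rescale_neg_E2]
  · rw [injective_iff_map_eq_zero]
    intro w hw
    refine hjoint _ _ ?_ ?_
    · rw [← hPφ, hw, map_zero]
    · have h3 := hMφ w
      rw [hw, map_zero] at h3
      rw [map_zero]
      have h4 := (ArSingLib.evenOdd_zero (a := PowerSeries.rescale (-2 : k) (M w)) (b := 0)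
        (by rw [← h3, map_zero, mul_zero, add_zero])).1
      ext i
      have := congrArg (PowerSeries.coeff i) h4
      rw [PowerSeries.coeff_rescale, map_zero] at this
      rw [map_zero]
      exact (mul_eq_zero.1 this).resolve_left (pow_ne_zero _ (neg_ne_zero.2 h2))
  · refine le_antisymm (Ideal.span_le.2 ?_) ((Ideal.span_singleton_le_iff_mem _).2 ?_)
    · rintro _ ⟨a, rfl⟩
      exact hker _ (by rw [map_sub, hPσ, sub_self])
    · exact Ideal.subset_span ⟨ArSing.x k 1, by simp only [hx]⟩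
  · intro h
    have := mem_nonZeroDivisors_iff_right.1 h _ huv
    exact hPu0 (by rw [this, map_zero])
  · rintro Q ⟨hQ, -⟩ hle
    rw [Ideal.span_singleton_le_iff_mem]
    refine (hQ.mem_or_mem (huv ▸ Q.zero_mem)).resolve_left fun hu => hPu0 ?_
    exact hspan.le (hle hu)
  · intro hflat
    obtain ⟨n, c, z, hz, hc⟩ := ArSingLib.flat_rel hflat ![ArSing.x k 1 + ArSing.y k 1]
      ![ArSing.y k 1 - ArSing.x k 1] (by
        simp only [Fin.sum_univ_one, Matrix.cons_val_fin_one, AlgHom.toRingHom_eq_coe, AlgHom.coe_toRingHom, hφu]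
        linear_combination huv)
    have hcj : ∀ j, c 0 j ∈ Ideal.span {ArSing.y k 1 - ArSing.x k 1} := by
      intro j
      have := congrArg P (hc j)
      simp only [Fin.sum_univ_one, Matrix.cons_val_fin_one, map_mul, map_zero] at this
      refine hker _ ((mul_eq_zero.1 this).resolve_left ?_)
      rw [add_comm]
      exact hPu0
    have hmem : ArSing.y k 1 - ArSing.x k 1 ∈ Ideal.span {(ArSing.y k 1 - ArSing.x k 1) ^ 2} := by
      rw [show ArSing.y k 1 - ArSing.x k 1 = _ from hz 0]
      refine Submodule.sum_mem _ fun j _ => Ideal.mul_mem_right _ _ ?_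
      obtain ⟨d, hd⟩ := Ideal.mem_span_singleton'.1 (hcj j)
      simp only [AlgHom.toRingHom_eq_coe, AlgHom.coe_toRingHom]
      rw [← hd, map_mul, hφv]
      have h0 : ArSing.y k 1 - ArSing.x k 1 = ∑ j, φ.toRingHom (c 0 j) * z j := hz 0
      simp only [AlgHom.toRingHom_eq_coe, AlgHom.coe_toRingHom] at h0
      rw [← h0]
      exact Ideal.mul_mem_left _ _ (Ideal.mem_span_singleton_self _)
    obtain ⟨d, hd⟩ := Ideal.mem_span_singleton'.1 hmem
    have := congrArg M hd
    simp only [map_mul, map_pow, map_sub, hMx, hMy] at this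
    have h3 := congrArg (PowerSeries.coeff 1) this
    rw [show M d * (-PowerSeries.X - PowerSeries.X) ^ 2 = PowerSeries.X ^ 2 * (4 * M d) by ring,
      PowerSeries.X_pow_dvd_iff.1 (dvd_mul_right _ _) 1 one_lt_two] at h3
    simp only [map_sub, map_neg, PowerSeries.coeff_one_X] at h3
    exact h2 (by linear_combination h3)

end Groth.Agent.S14096
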