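import Groth.Statements.S14097
import Groth.Agent.ArSingLib.TruncPoly

set_option autoImplicit false
universe u
open ArSing

namespace Groth.Agent.S14097

/-- In any commutative ring, if h_0, …, h_(k-1) (k ≥ 2) and τ satisfy h_i^2 + τ h_i = 0, then ∏_(i ≤
k-2) (h_i + h_(i+1) + τ) = Σ_(j ≤ k-1) τ^(k-1-j) e_j(h), e_j the elementary symmetric functions.
(The published statement is the resulting formula for the class of the small diagonal in the Chow
ring of (P^1)^k, where the h_i are the hyperplane classes of the factors and satisfy these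
relations; only the ring identity is asserted here.) -/
theorem result (A : Type u) [CommRing A] (k : ℕ) (hk : 2 ≤ k) (τ : A)
    (h : ℕ → A) (hrel : ∀ i, i < k → h i ^ 2 + τ * h i = 0) :
    ∏ i ∈ Finset.range (k - 1), (h i + h (i + 1) + τ) =
      ∑ j ∈ Finset.range k, τ ^ (k - 1 - j) * (((Finset.range k).val.map h).esymm j) := by
  let H : ℕ → Multiset A := fun n => (Finset.range n).val.map h
  let S : ℕ → A := fun n => ∑ j ∈ Finset.range (n + 1), τ ^ (n - j) * (H (n + 1)).esymm j
  let Q : ℕ → A := fun n => ∏ i ∈ Finset.range n, h i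
  have hH : ∀ n, H (n + 1) = h n ::ₘ H n := fun n => by
    simp [H, Finset.range_add_one]
  have hes : ∀ (a : A) (s : Multiset A) (j : ℕ),
      (a ::ₘ s).esymm (j + 1) = s.esymm (j + 1) + a * s.esymm j := by
    intro a s j
    simp [Multiset.esymm, Multiset.powersetCard_cons, Multiset.map_map, Function.comp_def,
      Multiset.sum_map_mul_left]
  have hes0 : ∀ s : Multiset A, s.esymm 0 = 1 := fun s => by simp [Multiset.esymm]
  have htop : ∀ n, (H n).esymm n = Q n := by
    intro n
    induction n with
    | zero => simp [H, Q, hes0]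
    | succ n ih =>
      rw [hH, hes, ih]
      have : (H n).esymm (n + 1) = 0 := by
        rw [Multiset.esymm, Multiset.powersetCard_eq_empty _ (by simp [H])]
        simp
      rw [this, zero_add]
      simp [Q, Finset.prod_range_succ, mul_comm]
  have hS : ∀ n, S (n + 1) = τ * S n + Q (n + 1) + h (n + 1) * S n := by
    intro n
    simp only [S]
    rw [Finset.sum_range_succ' _ (n + 1), hH (n + 1)]
    simp only [hes, mul_add, Finset.sum_add_distrib, hes0]
    have e1 : ∑ j ∈ Finset.range (n + 1), τ ^ (n + 1 - (j + 1)) * (H (n + 1)).esymm (j + 1) + τ ^ (n + 1) * 1 =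
        τ * (∑ j ∈ Finset.range (n + 1), τ ^ (n - j) * (H (n + 1)).esymm j) + Q (n + 1) := by
      rw [← htop (n + 1), Finset.mul_sum]
      have : ∑ j ∈ Finset.range (n + 1 + 1), τ ^ (n + 1 - j) * (H (n + 1)).esymm j =
          ∑ j ∈ Finset.range (n + 1), τ ^ (n + 1 - (j + 1)) * (H (n + 1)).esymm (j + 1) + τ ^ (n + 1) * 1 := by
        rw [Finset.sum_range_succ' _ (n + 1)]
        simp [hes0]
      rw [← this, Finset.sum_range_succ _ (n + 1), Nat.sub_self, pow_zero, one_mul]
      refine congrArg (· + _) (Finset.sum_congr rfl fun j hj => ?_)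
      rw [Finset.mem_range] at hj
      rw [show n + 1 - j = (n - j) + 1 by omega, pow_succ]
      ring
    have e2 : ∑ j ∈ Finset.range (n + 1), τ ^ (n + 1 - (j + 1)) * (h (n + 1) * (H (n + 1)).esymm j) =
        h (n + 1) * ∑ j ∈ Finset.range (n + 1), τ ^ (n - j) * (H (n + 1)).esymm j := by
      rw [Finset.mul_sum]
      refine Finset.sum_congr rfl fun j _ => ?_
      rw [Nat.add_sub_add_right]
      ring
    rw [Nat.sub_zero]
    linear_combination e1 + e2
  have hSh : ∀ n, n < k → S n * h n = Q (n + 1) := by
    intro n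
    induction n with
    | zero => intro _; simp [S, Q, hes0]
    | succ n ih =>
      intro hn
      rw [hS, show Q (n + 1 + 1) = Q (n + 1) * h (n + 1) from Finset.prod_range_succ _ _]
      linear_combination S n * hrel (n + 1) hn
  have key : ∀ n, n < k → ∏ i ∈ Finset.range n, (h i + h (i + 1) + τ) = S n := by
    intro n
    induction n with
    | zero => intro _; simp [S, hes0]
    | succ n ih =>
      intro hn
      rw [Finset.prod_range_succ, ih (by omega), hS]
      linear_combination hSh n (by omega)
  obtain ⟨k', rfl⟩ : ∃ k', k = k' + 1 := ⟨k - 1, by omega⟩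
  simpa [S, H] using key k' (by omega)

end Groth.Agent.S14097
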