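import Groth.Statements.S14100
import Groth.Agent.DerLib.Ghost

set_option autoImplicit false
universe w v u
open DCoh

namespace Groth.Agent.S14100

open CategoryTheory in
/-- Let C be an abelian category, a an integer and n a natural number, and let K_0 → K_1 → ⋯ → K_{n+1}
be composable morphisms in the derived category of C such that each K_i has cohomology concentrated
in degrees a, …, a+n and each map K_i → K_{i+1} induces zero on every cohomology object. Then the
composite K_0 → K_{n+1} is zero. (The chain is given as a functor from the ordered set of natural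
numbers; only its values on 0, …, n+1 matter.) -/
theorem result
    (C : Type u) [Category.{v} C] [Abelian C] [HasDerivedCategory.{w} C]
    (a : ℤ) (n : ℕ) (K : ℕ ⥤ DerivedCategory C)
    (hGE : ∀ i : ℕ, i ≤ n + 1 → (K.obj i).IsGE a)
    (hLE : ∀ i : ℕ, i ≤ n + 1 → (K.obj i).IsLE (a + n))
    (hzero : ∀ i : ℕ, i ≤ n → ∀ q : ℤ,
      (DerivedCategory.homologyFunctor C q).map (K.map (homOfLE (Nat.le_succ i))) = 0) :
    K.map (homOfLE (Nat.zero_le (n + 1))) = 0 := by
  open Triangulated in
  suffices H : ∀ j : ℕ, j ≤ n + 1 → ∃ g,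
      g ≫ (DerivedCategory.TStructure.t.truncLTι (a + n + 1 - j)).app (K.obj j) =
        K.map (homOfLE (Nat.zero_le j)) by
    obtain ⟨g, hg⟩ := H (n + 1) le_rfl
    have hge := hGE (n + 1) le_rfl
    have hle : ((DerivedCategory.TStructure.t.truncLT (a + n + 1 - ((n + 1 : ℕ) : ℤ))).obj
        (K.obj (n + 1))).IsLE (a - 1) :=
      DerivedCategory.TStructure.t.isLE_truncLT_obj _ _ (a - 1) (by push_cast; omega)
    rw [← hg, DerivedCategory.TStructure.t.zero_of_isLE_of_isGE
      ((DerivedCategory.TStructure.t.truncLTι (a + n + 1 - ((n + 1 : ℕ) : ℤ))).app (K.obj (n + 1)))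
      (a - 1) a (by omega) hle hge, Limits.comp_zero]
  intro j
  induction j with
  | zero =>
    intro _
    have hle := hLE 0 (Nat.zero_le _)
    refine ⟨DerivedCategory.TStructure.t.liftTruncLT (𝟙 (K.obj 0)) (a + n) (a + n + 1 - ((0 : ℕ) : ℤ))
      (by simp), ?_⟩
    rw [DerivedCategory.TStructure.t.liftTruncLT_ι, show homOfLE (Nat.zero_le 0) = 𝟙 (0 : ℕ) from
      Subsingleton.elim _ _, K.map_id]
  | succ j ih =>
    intro hj
    obtain ⟨g, hg⟩ := ih (by omega)
    have hm : (a + n + 1 - ((j + 1 : ℕ) : ℤ)) = a + n - j := by push_cast; omega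
    rw [hm]
    have : ((DerivedCategory.TStructure.t.truncLT (a + n + 1 - (j : ℤ))).obj (K.obj j)).IsLE (a + n - j) :=
      DerivedCategory.TStructure.t.isLE_truncLT_obj _ _ _ (by omega)
    obtain ⟨g', hg'⟩ := Groth.Agent.DerLib.Ghost.exists_lift_truncLT (a + n - j)
      ((DerivedCategory.TStructure.t.truncLTι (a + n + 1 - (j : ℤ))).app (K.obj j) ≫
        K.map (homOfLE (Nat.le_succ j)))
      (by rw [Functor.map_comp, hzero j (by omega), Limits.comp_zero])
    refine ⟨g ≫ g', ?_⟩
    rw [Category.assoc, hg', ← Category.assoc, hg, ← K.map_comp]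
    rfl

end Groth.Agent.S14100
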