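import Groth.Statements.S14101
import Groth.Agent.GenRedLib.Basic
import Mathlib


-- import your own Groth.Agent.* helpers here

set_option autoImplicit false
universe u
open CAlg

namespace Groth.Agent.S14101

/-- Affine form — let A be a reduced commutative ring of finite type over ℤ. Then for all but finitely
many prime numbers p the reduction A/pA is reduced. (The published statement is for a reduced scheme
of finite type over ℤ; such a scheme has a finite affine open cover, so the affine form carries the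
same content.) -/
theorem result
    (A : Type u) [CommRing A] [Algebra.FiniteType ℤ A] [IsReduced A] :
    {p : ℕ | p.Prime ∧ ¬ IsReduced (A ⧸ Ideal.span {(p : A)})}.Finite := by
  classical
  have : IsNoetherianRing A := Algebra.FiniteType.isNoetherianRing ℤ A
  have : Algebra.FinitePresentation ℤ A := Algebra.FinitePresentation.of_finiteType.mp inferInstance
  -- the minimal primes of characteristic zero
  let Good : Ideal A → Prop := fun P => ∀ n : ℕ, (n : A) ∈ P → n = 0
  have hfin : (minimalPrimes A).Finite := minimalPrimes.finite_of_isNoetherianRing A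
  obtain ⟨I, hI⟩ := (PrimeSpectrum.isClosed_iff_zeroLocus_ideal _).mp
    (Algebra.isOpen_smoothLocus (R := ℤ) (A := A)).isClosed_compl
  have hsmP : ∀ P ∈ minimalPrimes A, Good P → ¬ I ≤ P := by
    intro P hP hG hIP
    have : P.IsPrime := hP.1.1
    have hmem : (⟨P, this⟩ : PrimeSpectrum A) ∈ (Algebra.smoothLocus ℤ A)ᶜ := by
      rw [hI]; exact hIP
    apply hmem
    show Algebra.FormallySmooth ℤ (Localization.AtPrime P)
    let L := Localization.AtPrime P
    have : Ring.KrullDimLE 0 L := .of_isLocalization _ hP _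
    have hF : IsField L := Ring.KrullDimLE.isField_of_isReduced
    letI := hF.toField
    have : CharZero L := charZero_of_inj_zero fun n hn => by
      rw [← map_natCast (algebraMap A L), IsLocalization.map_eq_zero_iff P.primeCompl] at hn
      obtain ⟨⟨m, hm⟩, hmn⟩ := hn
      exact hG n ((Ideal.IsPrime.mem_or_mem ‹_› (show m * (n : A) ∈ P by simp_all)).resolve_left hm)
    have hE : Algebra.EssFiniteType ℤ L := .comp ℤ A L
    let iZ : Algebra ℤ L := Ring.toIntAlgebra L
    have hE' : @Algebra.EssFiniteType ℤ L _ _ iZ := by convert hE; exact Subsingleton.elim _ _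
    have h := @formallySmooth_int_of_charZero L _ _ hE'
    convert h using 2 <;> first | rfl | exact Algebra.algebra_ext _ _ fun r => by simp
  have hbadn : ∀ P : Ideal A, ∃ n : ℕ, n ≠ 0 ∧ (¬ Good P → (n : A) ∈ P) := by
    intro P
    by_cases h : Good P
    · exact ⟨1, one_ne_zero, fun h' => absurd h h'⟩
    · simp only [Good, not_forall] at h
      obtain ⟨n, hn, hn0⟩ := h
      exact ⟨n, hn0, fun _ => hn⟩
  choose nP hnP0 hnP using hbadn
  let bad := hfin.toFinset.filter fun P => ¬ Good P
  let good := hfin.toFinset.filter fun P => Good P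
  let J : Ideal A := I ⊓ bad.inf id
  have hJ : ¬ ((J : Set A) ⊆ ⋃ P ∈ (good : Set (Ideal A)), (P : Set A)) := by
    have hpr : ∀ P ∈ good, P.IsPrime := fun P hP => by
      simp only [good, Finset.mem_filter, Set.Finite.mem_toFinset] at hP
      exact hP.1.1.1
    refine mt (Ideal.subset_union_prime (f := fun P : Ideal A => P) ⊥ ⊥ (fun P hP _ _ => hpr P hP)).mp ?_
    rintro ⟨P, hP, hJP⟩
    have := hpr P hP
    simp only [good, Finset.mem_filter, Set.Finite.mem_toFinset] at hP
    rcases (Ideal.IsPrime.inf_le this).mp hJP with h | h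
    · exact hsmP P hP.1 hP.2 h
    · obtain ⟨Q, hQ, hQP⟩ := (Ideal.IsPrime.inf_le' this).mp h
      simp only [bad, Finset.mem_filter, Set.Finite.mem_toFinset] at hQ
      exact hQ.2 ((hP.1.2 hQ.1.1 hQP).antisymm hQP ▸ hP.2)
  obtain ⟨g, hgJ, hg⟩ := Set.not_subset.mp hJ
  let N := ∏ P ∈ hfin.toFinset, nP P
  have hN : N ≠ 0 := Finset.prod_ne_zero_iff.mpr fun P _ => hnP0 P
  have hgN : ∀ x : A, g * x = 0 → (N : A) * x = 0 := by
    intro x hx
    apply IsNilpotent.eq_zero
    rw [← mem_nilradical, nilradical, ← Ideal.sInf_minimalPrimes, Ideal.mem_sInf]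
    intro P hP
    have := hP.1.1
    by_cases hG : Good P
    · refine P.mul_mem_left _ ((Ideal.IsPrime.mem_or_mem this (by rw [hx]; exact P.zero_mem :
        g * x ∈ P)).resolve_left fun h => hg ?_)
      exact Set.mem_biUnion (x := P) (by simp [good, hG]; exact hP) h
    · apply P.mul_mem_right
      show ((∏ Q ∈ hfin.toFinset, nP Q : ℕ) : A) ∈ P
      rw [Nat.cast_prod, ← Finset.mul_prod_erase _ _ (hfin.mem_toFinset.mpr hP)]
      exact P.mul_mem_right _ (hnP P hG)
  have hsmooth : Algebra.Smooth ℤ (Localization.Away g) := by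
    refine ⟨(Algebra.basicOpen_subset_smoothLocus_iff).mp fun q hq => ?_, inferInstance⟩
    by_contra hq'
    exact hq ((Set.ext_iff.mp hI q).mp hq' (Ideal.mem_inf.mp hgJ).1)
  have hass : (associatedPrimes A (A ⧸ Ideal.span {g})).Finite := associatedPrimes.finite A _
  refine ((N.primeFactors.finite_toSet).union (hass.biUnion (t := fun Q => {p : ℕ | p.Prime ∧ (p : A) ∈ Q})
    fun Q hQ => ?_)).subset ?_
  · refine Set.Subsingleton.finite fun p ⟨hp, hpQ⟩ q ⟨hq, hqQ⟩ => ?_
    by_contra hne
    obtain ⟨a, b, hab⟩ := Nat.Coprime.cast (R := A) ((Nat.coprime_primes hp hq).mpr hne)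
    exact hQ.isPrime.ne_top (Q.eq_top_iff_one.mpr (hab ▸ Q.add_mem (Q.mul_mem_left a hpQ) (Q.mul_mem_left b hqQ)))
  rintro p ⟨hp, hnred⟩
  by_contra hout
  simp only [Set.mem_union, Finset.mem_coe, Set.mem_iUnion, not_or, not_exists] at hout
  obtain ⟨hpN, hpQ⟩ := hout
  apply hnred
  have hsat1 : ∀ x y : A, g * x = (p : A) * y → x ∈ Ideal.span {(p : A)} := by
    intro x y hxy
    have hy : y ∈ Ideal.span {g} := by
      by_contra hy
      have hzd : (p : A) ∈ {r : A | ∃ z : A ⧸ Ideal.span {g}, z ≠ 0 ∧ r • z = 0} := by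
        refine ⟨Ideal.Quotient.mk _ y, fun h => hy (Ideal.Quotient.eq_zero_iff_mem.mp h), ?_⟩
        rw [Algebra.smul_def, Ideal.Quotient.algebraMap_eq, ← map_mul, ← hxy, Ideal.Quotient.eq_zero_iff_mem]
        exact Ideal.mul_mem_right _ _ (Ideal.subset_span rfl)
      rw [← biUnion_associatedPrimes_eq_zero_divisors A] at hzd
      simp only [Set.mem_iUnion] at hzd
      obtain ⟨Q, hQ, hQp⟩ := hzd
      exact hpQ Q hQ ⟨hp, hQp⟩
    obtain ⟨z, rfl⟩ := Ideal.mem_span_singleton'.mp hy
    have h0 := hgN (x - p * z) (by linear_combination hxy)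
    have hcop : Nat.Coprime p N := hp.coprime_iff_not_dvd.mpr fun h =>
      hpN (Nat.mem_primeFactors.mpr ⟨hp, h, hN⟩)
    obtain ⟨a, b, hab⟩ := Nat.Coprime.cast (R := A) hcop
    refine Ideal.mem_span_singleton'.mpr ⟨a * (x - p * z) + z, ?_⟩
    linear_combination (x - (p : A) * z) * hab - b * h0
  have hsat : ∀ (k : ℕ) (x : A), g ^ k * x ∈ Ideal.span {(p : A)} → x ∈ Ideal.span {(p : A)} := by
    intro k
    induction k with
    | zero => simp
    | succ k ih =>
      intro x hx
      rw [pow_succ, mul_assoc] at hx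
      obtain ⟨y, hy⟩ := Ideal.mem_span_singleton'.mp (ih _ hx)
      exact hsat1 x y (by rw [← hy]; ring)
  have : Fact p.Prime := ⟨hp⟩
  let F := ULift.{u} (ZMod p)
  letI : Field F := ULift.field
  have hker : RingHom.ker (algebraMap ℤ F) = Ideal.span {(p : ℤ)} := by
    ext z
    rw [RingHom.mem_ker, eq_intCast, Ideal.mem_span_singleton]
    constructor
    · intro h
      exact (ZMod.intCast_zmod_eq_zero_iff_dvd z p).mp
        ((map_intCast (ULift.ringEquiv : F ≃+* ZMod p) z).symm.trans (by rw [h, map_zero]))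
    · intro h
      exact (ULift.ringEquiv : F ≃+* ZMod p).injective (by
        rw [map_intCast, map_zero]; exact (ZMod.intCast_zmod_eq_zero_iff_dvd z p).mpr h)
  have hsurj : Function.Surjective (algebraMap ℤ F) := fun x => by
    obtain ⟨z, hz⟩ := ZMod.intCast_surjective x.down
    exact ⟨z, (ULift.ringEquiv : F ≃+* ZMod p).injective (by rw [eq_intCast, map_intCast]; exact hz)⟩
  have hred := isReduced_quotient_of_smooth (R := ℤ) (Localization.Away g) F hsurj
  rw [hker, Ideal.map_span, Set.image_singleton, map_natCast,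
    ← map_natCast (algebraMap A (Localization.Away g)) p, ← Set.image_singleton, ← Ideal.map_span] at hred
  refine isReduced_of_injective (Ideal.Quotient.lift _ ((Ideal.Quotient.mk ((Ideal.span {(p : A)}).map
    (algebraMap A (Localization.Away g)))).comp (algebraMap A (Localization.Away g))) fun x hx =>
      Ideal.Quotient.eq_zero_iff_mem.mpr (Ideal.mem_map_of_mem _ hx))
    (RingHom.lift_injective_of_ker_le_ideal _ _ fun x hx => ?_)
  have hmem := Ideal.Quotient.eq_zero_iff_mem.mp (RingHom.mem_ker.mp hx)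
  rw [IsLocalization.algebraMap_mem_map_algebraMap_iff (Submonoid.powers g)] at hmem
  obtain ⟨m, ⟨k, rfl⟩, hm⟩ := hmem
  exact hsat k x hm

end Groth.Agent.S14101
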