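import Mathlib
import Groth.Statements.S14103
import Groth.Agent.CMFlatLib.FibreDepth

-- import your own Groth.Agent.* helpers here

set_option autoImplicit false
universe u
open CategoryTheory CategoryTheory.Limits AlgebraicGeometry Opposite TopologicalSpace
open CInt

namespace Groth.Agent.S14103

/-- Let f : X → S be a morphism of locally Noetherian schemes and Y a closed subset of X. The
codimension of Y in X relative to f, namely the infimum over the points y of Y of the Krull
dimension of the local ring at y of the fibre of f through y, is at most the codimension of Y in X,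
the infimum over y ∈ Y of the Krull dimension of O_{X,y}. -/
theorem result {X S : Scheme.{u}} [IsLocallyNoetherian X] [IsLocallyNoetherian S]
    (f : X ⟶ S) (Y : Set ↥X) (hY : IsClosed Y) :
    (⨅ y : Y, ringKrullDim ↑(CInt.fiberStalk f y.1)) ≤ ⨅ y : Y, ringKrullDim ↑(X.presheaf.stalk y.1) := by
  refine iInf_mono fun y => ?_
  let σ := (f.stalkMap y.1).hom
  letI := σ.toAlgebra
  obtain ⟨e⟩ := CMFlatLib.nonempty_fibre_equiv f y.1
  calc ringKrullDim ↑(CInt.fiberStalk f y.1)
      = ringKrullDim (GorLib.Fib (S.presheaf.stalk (f y.1)) (X.presheaf.stalk y.1)) := ringKrullDim_eq_of_ringEquiv e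
    _ ≤ _ := ringKrullDim_le_of_surjective (Ideal.Quotient.mk _) Ideal.Quotient.mk_surjective

end Groth.Agent.S14103
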