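import Groth.Statements.S14109
import Groth.Agent.CMFlatLib.FibreDepth
import Mathlib

set_option autoImplicit false
universe u
open CategoryTheory CategoryTheory.Limits AlgebraicGeometry Opposite TopologicalSpace
open CInt

namespace Groth.Agent.S14109
open AlgebraicGeometry CategoryTheory in
theorem exists_maximal_point {X' X : Scheme.{u}} (g : X' ⟶ X) [Surjective g] (y : X) :
    ∃ y' : X', g y' = y ∧ ∀ z : X', z ⤳ y' → g z = y → z = y' := by
  obtain ⟨x', hx'⟩ := g.surjective y
  obtain ⟨a, ha⟩ : x' ∈ Set.range (g.fiberι y) := by rw [Scheme.Hom.range_fiberι]; exact hx'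
  obtain ⟨η, hη⟩ := QuasiSober.sober (isIrreducible_irreducibleComponent (x := a)) isClosed_irreducibleComponent
  have hmem : ∀ w : ↥(g.fiber y), g (g.fiberι y w) = y := fun w => by
    have h : g.fiberι y w ∈ Set.range (g.fiberι y) := ⟨w, rfl⟩
    rw [Scheme.Hom.range_fiberι] at h
    exact h
  refine ⟨g.fiberι y η, hmem η, fun z hz hzy => ?_⟩
  obtain ⟨w, rfl⟩ : z ∈ Set.range (g.fiberι y) := by rw [Scheme.Hom.range_fiberι]; exact hzy
  have hw : w ⤳ η := (g.fiberι y).isEmbedding.isInducing.specializes_iff.1 hz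
  have hsub : irreducibleComponent a ⊆ closure {w} := by
    rw [← hη.def]
    exact closure_minimal (Set.singleton_subset_iff.2 hw.mem_closure) isClosed_closure
  have heq := (irreducibleComponent_mem_irreducibleComponents a).2 isIrreducible_singleton.closure hsub
  have hwη : η ⤳ w := specializes_iff_mem_closure.2 (by rw [hη.def]; exact heq (subset_closure rfl))
  rw [(hw.antisymm hwη).eq]

theorem dim_quotient_le {R R' : Type u} [CommRing R] [IsLocalRing R] [CommRing R'] [IsLocalRing R'] [IsNoetherianRing R'] [IsNoetherianRing R]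
    (ψ : R →+* R') [IsLocalHom ψ] (I : Ideal R) (hI : I ≤ IsLocalRing.maximalIdeal R)
    (h0 : ∀ P : Ideal R', P.IsPrime → P.comap ψ = IsLocalRing.maximalIdeal R → P = IsLocalRing.maximalIdeal R') :
    ringKrullDim (R' ⧸ I.map ψ) ≤ ringKrullDim (R ⧸ I) := by
  letI := ψ.toAlgebra
  have hI' : I.map ψ ≤ IsLocalRing.maximalIdeal R' :=
    (Ideal.map_mono hI).trans (IsLocalRing.map_maximalIdeal_le ψ)
  haveI : Nontrivial (R ⧸ I) := Ideal.Quotient.nontrivial_iff.2 (ne_top_of_le_ne_top (IsLocalRing.maximalIdeal.isMaximal R).ne_top hI)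
  haveI : Nontrivial (R' ⧸ I.map ψ) := Ideal.Quotient.nontrivial_iff.2 (ne_top_of_le_ne_top (IsLocalRing.maximalIdeal.isMaximal R').ne_top hI')
  haveI : IsLocalRing (R ⧸ I) := IsLocalRing.of_surjective' _ Ideal.Quotient.mk_surjective
  haveI : IsLocalRing (R' ⧸ I.map ψ) := IsLocalRing.of_surjective' _ Ideal.Quotient.mk_surjective
  let χ : R ⧸ I →+* R' ⧸ I.map ψ := Ideal.quotientMap (I.map ψ) ψ Ideal.le_comap_map
  letI := χ.toAlgebra
  have hm := IsLocalRing.map_maximalIdeal_of_surjective (Ideal.Quotient.mk I) Ideal.Quotient.mk_surjective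
  have hm' := IsLocalRing.map_maximalIdeal_of_surjective (Ideal.Quotient.mk (I.map ψ)) Ideal.Quotient.mk_surjective
  have hover : (IsLocalRing.maximalIdeal (R' ⧸ I.map ψ)).comap χ = IsLocalRing.maximalIdeal (R ⧸ I) := by
    apply Ideal.comap_injective_of_surjective (Ideal.Quotient.mk I) Ideal.Quotient.mk_surjective
    rw [Ideal.comap_comap, show χ.comp (Ideal.Quotient.mk I) = (Ideal.Quotient.mk (I.map ψ)).comp ψ from RingHom.ext fun _ => rfl,
      ← Ideal.comap_comap, IsLocalRing.eq_maximalIdeal (Ideal.comap_isMaximal_of_surjective (Ideal.Quotient.mk (I.map ψ)) Ideal.Quotient.mk_surjective),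
      IsLocalRing.maximalIdeal_comap, IsLocalRing.eq_maximalIdeal (Ideal.comap_isMaximal_of_surjective (Ideal.Quotient.mk I) Ideal.Quotient.mk_surjective)]
  haveI : (IsLocalRing.maximalIdeal (R' ⧸ I.map ψ)).LiesOver (IsLocalRing.maximalIdeal (R ⧸ I)) := ⟨hover.symm⟩
  have h := Ideal.height_le_height_add_of_liesOver (IsLocalRing.maximalIdeal (R ⧸ I)) (IsLocalRing.maximalIdeal (R' ⧸ I.map ψ))
  set J := (IsLocalRing.maximalIdeal (R ⧸ I)).map (algebraMap (R ⧸ I) (R' ⧸ I.map ψ)) with hJdef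
  set N := (IsLocalRing.maximalIdeal (R' ⧸ I.map ψ)).map (Ideal.Quotient.mk J)
  have hN : N.height = 0 := by
    rcases eq_or_ne J ⊤ with hJ | hJ
    · exact absurd (hJ.ge.trans (Ideal.map_le_iff_le_comap.2 hover.ge)) (fun h => (IsLocalRing.maximalIdeal.isMaximal _).ne_top (top_le_iff.1 h))
    haveI : Nontrivial ((R' ⧸ I.map ψ) ⧸ J) := Ideal.Quotient.nontrivial_iff.2 hJ
    haveI : IsLocalRing ((R' ⧸ I.map ψ) ⧸ J) := IsLocalRing.of_surjective' _ Ideal.Quotient.mk_surjective
    have hNm : N = IsLocalRing.maximalIdeal _ := IsLocalRing.map_maximalIdeal_of_surjective _ Ideal.Quotient.mk_surjective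
    haveI : N.IsPrime := hNm ▸ inferInstance
    rw [Ideal.height_eq_zero_iff]
    refine ⟨⟨inferInstance, bot_le⟩, fun P hP _ => ?_⟩
    haveI := hP.1
    let P' : Ideal R' := (P.comap (Ideal.Quotient.mk J)).comap (Ideal.Quotient.mk (I.map ψ))
    have hP' : P' = IsLocalRing.maximalIdeal R' := by
      refine h0 P' inferInstance (le_antisymm (IsLocalRing.le_maximalIdeal (Ideal.comap_isPrime ψ P').ne_top) fun r hr => ?_)
      show Ideal.Quotient.mk J (χ (Ideal.Quotient.mk I r)) ∈ P
      rw [(Ideal.Quotient.eq_zero_iff_mem (I := J)).2 (Ideal.mem_map_of_mem χ (show Ideal.Quotient.mk I r ∈ IsLocalRing.maximalIdeal (R ⧸ I) from hm ▸ Ideal.mem_map_of_mem _ hr))]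
      exact P.zero_mem
    intro x hx
    obtain ⟨x, rfl⟩ := Ideal.Quotient.mk_surjective x
    obtain ⟨x, rfl⟩ := Ideal.Quotient.mk_surjective x
    have hx' : x ∈ IsLocalRing.maximalIdeal R' := fun hu => (hNm ▸ hx : _ ∈ IsLocalRing.maximalIdeal _) ((hu.map _).map _)
    rw [← hP'] at hx'
    exact hx'
  rw [hN, add_zero] at h
  rw [← IsLocalRing.maximalIdeal_height_eq_ringKrullDim, ← IsLocalRing.maximalIdeal_height_eq_ringKrullDim]
  exact_mod_cast h

open AlgebraicGeometry CategoryTheory in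
theorem dim_fiberStalk_le {X' X S : Scheme.{u}} [IsLocallyNoetherian X'] [IsLocallyNoetherian X] (f : X ⟶ S) (g : X' ⟶ X) (y' : X')
    (hmax : ∀ z : X', z ⤳ y' → g z = g y' → z = y') :
    ringKrullDim ↑(CInt.fiberStalk (g ≫ f) y') ≤ ringKrullDim ↑(CInt.fiberStalk f (g y')) := by
  obtain ⟨e⟩ := CMFlatLib.nonempty_fibre_equiv (g ≫ f) y'
  obtain ⟨e'⟩ := CMFlatLib.nonempty_fibre_equiv f (g y')
  rw [ringKrullDim_eq_of_ringEquiv e, ringKrullDim_eq_of_ringEquiv e']
  show ringKrullDim (_ ⧸ (IsLocalRing.maximalIdeal _).map ((g ≫ f).stalkMap y').hom) ≤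
    ringKrullDim (_ ⧸ (IsLocalRing.maximalIdeal _).map (f.stalkMap (g y')).hom)
  rw [ringKrullDim_eq_of_ringEquiv (Ideal.quotEquivOfEq (show (IsLocalRing.maximalIdeal _).map ((g ≫ f).stalkMap y').hom =
      ((IsLocalRing.maximalIdeal _).map (f.stalkMap (g y')).hom).map (g.stalkMap y').hom by
    rw [Ideal.map_map, Scheme.Hom.stalkMap_comp]; rfl))]
  haveI : IsLocalHom (g.stalkMap y').hom := g.toLRSHom.prop y'
  haveI : IsLocalHom (f.stalkMap (g y')).hom := f.toLRSHom.prop (g y')
  refine dim_quotient_le (g.stalkMap y').hom _ (IsLocalRing.map_maximalIdeal_le _) fun P hP hPc => ?_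
  let pt : Spec (X'.presheaf.stalk y') := ⟨P, hP⟩
  have h1 : X'.fromSpecStalk y' pt = y' := by
    refine hmax _ ((X'.range_fromSpecStalk (x := y')).le ⟨pt, rfl⟩) ?_
    rw [← Scheme.Hom.comp_apply, ← Scheme.SpecMap_stalkMap_fromSpecStalk, Scheme.Hom.comp_apply]
    have : (Spec.map (g.stalkMap y')) pt = IsLocalRing.closedPoint (X.presheaf.stalk (g y')) := PrimeSpectrum.ext hPc
    rw [this, Scheme.fromSpecStalk_closedPoint]
  have h2 : pt = IsLocalRing.closedPoint (X'.presheaf.stalk y') :=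
    (X'.fromSpecStalk y').isEmbedding.injective (h1.trans Scheme.fromSpecStalk_closedPoint.symm)
  exact congrArg PrimeSpectrum.asIdeal h2

/-- Let f : X → S and g : X' → X be morphisms of locally Noetherian schemes with g surjective, Y a
closed subset of X and Y' its preimage under g. Then the codimension of Y' relative to the composite
X' → S (the infimum over y' ∈ Y' of the Krull dimension of the local ring at y' of the fibre of that
composite through y') is at most the codimension of Y relative to f (the same infimum over y ∈ Y for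
the fibres of f). -/
theorem result {X X' S : Scheme.{u}} [IsLocallyNoetherian X]
    [IsLocallyNoetherian X'] [IsLocallyNoetherian S] (f : X ⟶ S) (g : X' ⟶ X) [Surjective g]
    (Y : Set ↥X) (hY : IsClosed Y) :
    (⨅ y' : (fun x' => g x') ⁻¹' Y, ringKrullDim ↑(CInt.fiberStalk (g ≫ f) y'.1)) ≤
      ⨅ y : Y, ringKrullDim ↑(CInt.fiberStalk f y.1) := by
  refine le_iInf fun y => ?_
  obtain ⟨y', hy', hmax⟩ := exists_maximal_point g y.1
  refine (iInf_le _ (⟨y', show g y' ∈ Y by rw [hy']; exact y.2⟩ : ↥((fun x' => g x') ⁻¹' Y))).trans ?_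
  have key := dim_fiberStalk_le f g y' fun z hz he => hmax z hz (he.trans hy')
  have : ∀ w : X, w = y.1 → ringKrullDim ↑(CInt.fiberStalk f w) = ringKrullDim ↑(CInt.fiberStalk f y.1) := by rintro _ rfl; rfl
  exact key.trans (this _ hy').le

end Groth.Agent.S14109
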