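import Groth.Statements.S14105
import Groth.Agent.S14109
import Groth.Agent.CatLib.CplStrict
import Mathlib

set_option autoImplicit false
universe u
open CategoryTheory CategoryTheory.Limits AlgebraicGeometry Opposite TopologicalSpace
open CInt

namespace Groth.Agent.S14105
open AlgebraicGeometry CategoryTheory Limits in
theorem dim_stalk_fiber {X S : Scheme.{u}} (f : X ⟶ S) (s : S) (a : ↥(f.fiber s)) :
    ringKrullDim ((f.fiber s).presheaf.stalk a) = ringKrullDim ↑(CInt.fiberStalk f (f.fiberι s a)) := by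
  have key : ∀ z : X, f.fiberι s a = z → ringKrullDim ((f.fiber s).presheaf.stalk a) = ringKrullDim ↑(CInt.fiberStalk f z) := by
    intro z hz
    have hs : f z = s := by
      have h : z ∈ Set.range (f.fiberι s) := ⟨a, hz⟩
      rw [Scheme.Hom.range_fiberι] at h
      exact h
    subst hs
    have ha : a = f.asFiber z := (f.fiberι (f z)).isEmbedding.injective (hz.trans (f.fiberι_asFiber z).symm)
    rw [ha]
  exact key _ rfl

open AlgebraicGeometry CategoryTheory Limits in
theorem isNoetherianRing_fiber_stalk {X S : Scheme.{u}} [IsLocallyNoetherian X] (f : X ⟶ S) (s : S) (a : ↥(f.fiber s)) :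
    IsNoetherianRing ((f.fiber s).presheaf.stalk a) := by
  have hsurj : Function.Surjective ((f.fiberι s).stalkMap a) := (f.fiberι s).stalkMap_surjective a
  exact isNoetherianRing_of_surjective _ _ _ hsurj

open AlgebraicGeometry CategoryTheory Limits in
theorem dim_le_of_flat {W Z : Scheme.{u}} (h : W ⟶ Z) [Flat h] (a : W) [IsNoetherianRing (W.presheaf.stalk a)]
    [IsNoetherianRing (Z.presheaf.stalk (h a))] :
    ringKrullDim (Z.presheaf.stalk (h a)) ≤ ringKrullDim (W.presheaf.stalk a) := by
  letI := (h.stalkMap a).hom.toAlgebra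
  haveI : IsLocalHom (algebraMap (Z.presheaf.stalk (h a)) (W.presheaf.stalk a)) := h.toLRSHom.prop a
  haveI : Module.Flat (Z.presheaf.stalk (h a)) (W.presheaf.stalk a) := Flat.stalkMap h a
  rw [CatLib.ringKrullDim_eq_add_of_flat (A := Z.presheaf.stalk (h a)) (B := W.presheaf.stalk a)]
  haveI : Nontrivial (W.presheaf.stalk a ⧸ (IsLocalRing.maximalIdeal (Z.presheaf.stalk (h a))).map (algebraMap (Z.presheaf.stalk (h a)) (W.presheaf.stalk a))) :=
    Ideal.Quotient.nontrivial_iff.2 (ne_top_of_le_ne_top (IsLocalRing.maximalIdeal.isMaximal _).ne_top (IsLocalRing.map_maximalIdeal_le _))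
  exact le_add_of_nonneg_right ringKrullDim_nonneg_of_nontrivial

open AlgebraicGeometry CategoryTheory Limits in
theorem exists_maximal_point {W Z : Scheme.{u}} (h : W ⟶ Z) (a₀ : W) :
    ∃ a : W, h a = h a₀ ∧ ∀ z : W, z ⤳ a → h z = h a₀ → z = a := by
  obtain ⟨b, hb⟩ : a₀ ∈ Set.range (h.fiberι (h a₀)) := by rw [Scheme.Hom.range_fiberι]; rfl
  obtain ⟨η, hη⟩ := QuasiSober.sober (isIrreducible_irreducibleComponent (x := b)) isClosed_irreducibleComponent
  have hmem : h (h.fiberι (h a₀) η) = h a₀ := by
    have hr : h.fiberι (h a₀) η ∈ Set.range (h.fiberι (h a₀)) := ⟨η, rfl⟩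
    rw [Scheme.Hom.range_fiberι] at hr
    exact hr
  refine ⟨_, hmem, fun z hz hzy => ?_⟩
  obtain ⟨w, rfl⟩ : z ∈ Set.range (h.fiberι (h a₀)) := by rw [Scheme.Hom.range_fiberι]; exact hzy
  have hw : w ⤳ η := (h.fiberι (h a₀)).isEmbedding.isInducing.specializes_iff.1 hz
  have hsub : irreducibleComponent b ⊆ closure {w} := by
    rw [← hη.def]
    exact closure_minimal (Set.singleton_subset_iff.2 hw.mem_closure) isClosed_closure
  have heq := (irreducibleComponent_mem_irreducibleComponents b).2 isIrreducible_singleton.closure hsub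
  have hwη : η ⤳ w := specializes_iff_mem_closure.2 (by rw [hη.def]; exact heq (subset_closure rfl))
  rw [(hw.antisymm hwη).eq]

open AlgebraicGeometry CategoryTheory Limits in
theorem dim_le_of_maximal {W Z : Scheme.{u}} (h : W ⟶ Z) (a : W) [IsNoetherianRing (W.presheaf.stalk a)]
    [IsNoetherianRing (Z.presheaf.stalk (h a))] (hmax : ∀ z : W, z ⤳ a → h z = h a → z = a) :
    ringKrullDim (W.presheaf.stalk a) ≤ ringKrullDim (Z.presheaf.stalk (h a)) := by
  haveI : IsLocalHom (h.stalkMap a).hom := h.toLRSHom.prop a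
  have key := Groth.Agent.S14109.dim_quotient_le (h.stalkMap a).hom ⊥ bot_le fun P hP hPc => ?_
  · have e1 := ringKrullDim_eq_of_ringEquiv (RingEquiv.quotientBot (Z.presheaf.stalk (h a)))
    have e2 := ringKrullDim_eq_of_ringEquiv (RingEquiv.quotientBot (W.presheaf.stalk a))
    have e3 : ringKrullDim (W.presheaf.stalk a ⧸ Ideal.map (h.stalkMap a).hom ⊥) =
        ringKrullDim (W.presheaf.stalk a ⧸ (⊥ : Ideal (W.presheaf.stalk a))) :=
      ringKrullDim_eq_of_ringEquiv (Ideal.quotEquivOfEq Ideal.map_bot)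
    exact ((e2.symm.trans e3.symm).trans_le key).trans_eq e1
  let pt : Spec (W.presheaf.stalk a) := ⟨P, hP⟩
  have h1 : W.fromSpecStalk a pt = a := by
    refine hmax _ ((W.range_fromSpecStalk (x := a)).le ⟨pt, rfl⟩) ?_
    rw [← Scheme.Hom.comp_apply, ← Scheme.SpecMap_stalkMap_fromSpecStalk, Scheme.Hom.comp_apply]
    have : (Spec.map (h.stalkMap a)) pt = IsLocalRing.closedPoint (Z.presheaf.stalk (h a)) := PrimeSpectrum.ext hPc
    rw [this, Scheme.fromSpecStalk_closedPoint]
  have h2 : pt = IsLocalRing.closedPoint (W.presheaf.stalk a) :=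
    (W.fromSpecStalk a).isEmbedding.injective (h1.trans Scheme.fromSpecStalk_closedPoint.symm)
  exact congrArg PrimeSpectrum.asIdeal h2

open AlgebraicGeometry CategoryTheory Limits in
theorem exists_fiber_map {X S S' : Scheme.{u}} (f : X ⟶ S) (g : S' ⟶ S) (s' : S') :
    ∃ h : (pullback.snd f g).fiber s' ⟶ f.fiber (g s'), Flat h ∧
      h ≫ f.fiberι (g s') = (pullback.snd f g).fiberι s' ≫ pullback.fst f g := by
  have sq1 : IsPullback ((pullback.snd f g).fiberι s' ≫ pullback.fst f g) ((pullback.snd f g).fiberToSpecResidueField s') f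
      (S'.fromSpecResidueField s' ≫ g) :=
    (IsPullback.of_hasPullback (pullback.snd f g) (S'.fromSpecResidueField s')).paste_horiz (IsPullback.of_hasPullback f g)
  rw [← Scheme.Hom.SpecMap_residueFieldMap_fromSpecResidueField g s'] at sq1
  let h : (pullback.snd f g).fiber s' ⟶ f.fiber (g s') :=
    pullback.lift ((pullback.snd f g).fiberι s' ≫ pullback.fst f g)
      ((pullback.snd f g).fiberToSpecResidueField s' ≫ Spec.map (g.residueFieldMap s')) (by rw [sq1.w, Category.assoc])
  have hh : h ≫ f.fiberι (g s') = (pullback.snd f g).fiberι s' ≫ pullback.fst f g := pullback.lift_fst _ _ _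
  have sq2 : IsPullback h ((pullback.snd f g).fiberToSpecResidueField s') (f.fiberToSpecResidueField (g s')) (Spec.map (g.residueFieldMap s')) := by
    refine IsPullback.of_right ?_ (pullback.lift_snd _ _ _) (IsPullback.of_hasPullback f (S.fromSpecResidueField (g s')))
    rw [show pullback.fst f (S.fromSpecResidueField (g s')) = f.fiberι (g s') from rfl, hh]
    exact sq1
  haveI : Flat (Spec.map (g.residueFieldMap s')) := by
    rw [HasRingHomProperty.Spec_iff (P := @Flat)]
    letI := (g.residueFieldMap s').hom.toAlgebra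
    show Module.Flat (S.residueField (g s')) (S'.residueField s')
    infer_instance
  exact ⟨h, MorphismProperty.of_isPullback sq2.flip ‹Flat (Spec.map (g.residueFieldMap s'))›, hh⟩

/-- Let f : X → S be a morphism and g : S' → S a base change, with X, S, S' and X' = X ×_S S' locally
Noetherian, and let Y be a closed subset of X with preimage Y' under the projection X' → X. Writing
the codimension of a closed subset relative to a morphism as the infimum, over its points, of the
Krull dimension of the local ring of the fibre through that point: the codimension of Y' relative to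
X' → S' is at least the codimension of Y relative to f, and the two are equal when the projection X'
→ X maps Y' onto Y. -/
theorem result {X S S' : Scheme.{u}} (f : X ⟶ S) (g : S' ⟶ S)
    [IsLocallyNoetherian X] [IsLocallyNoetherian S] [IsLocallyNoetherian S']
    [IsLocallyNoetherian (pullback f g)] (Y : Set ↥X) (hY : IsClosed Y) :
    ((⨅ y : Y, ringKrullDim ↑(CInt.fiberStalk f y.1)) ≤
      ⨅ y' : (fun x' => (pullback.fst f g) x') ⁻¹' Y,
        ringKrullDim ↑(CInt.fiberStalk (pullback.snd f g) y'.1)) ∧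
    (Y ⊆ Set.range (pullback.fst f g).base →
      (⨅ y' : (fun x' => (pullback.fst f g) x') ⁻¹' Y,
        ringKrullDim ↑(CInt.fiberStalk (pullback.snd f g) y'.1)) =
        ⨅ y : Y, ringKrullDim ↑(CInt.fiberStalk f y.1)) := by
  have part1 : (⨅ y : Y, ringKrullDim ↑(CInt.fiberStalk f y.1)) ≤
      ⨅ y' : (fun x' => (pullback.fst f g) x') ⁻¹' Y,
        ringKrullDim ↑(CInt.fiberStalk (pullback.snd f g) y'.1) := by
    refine le_iInf fun y' => (iInf_le _ (⟨(pullback.fst f g) y'.1, y'.2⟩ : Y)).trans ?_
    obtain ⟨h, hflat, hh⟩ := exists_fiber_map f g ((pullback.snd f g) y'.1)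
    haveI := hflat
    set a := (pullback.snd f g).asFiber y'.1
    haveI := isNoetherianRing_fiber_stalk (pullback.snd f g) _ a
    haveI := isNoetherianRing_fiber_stalk f _ (h a)
    have h1 := dim_le_of_flat h a
    have e1 := dim_stalk_fiber f _ (h a)
    have e2 := dim_stalk_fiber (pullback.snd f g) _ a
    have e3 : f.fiberι _ (h a) = (pullback.fst f g) y'.1 := by
      rw [← Scheme.Hom.comp_apply, hh, Scheme.Hom.comp_apply, Scheme.Hom.fiberι_asFiber]
    have e4 : (pullback.snd f g).fiberι _ a = y'.1 := Scheme.Hom.fiberι_asFiber _ _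
    exact ((congrArg (fun z => ringKrullDim ↑(CInt.fiberStalk f z)) e3).symm.trans e1.symm).trans_le
      (h1.trans_eq (e2.trans (congrArg (fun z => ringKrullDim ↑(CInt.fiberStalk (pullback.snd f g) z)) e4)))
  refine ⟨part1, fun hsub => le_antisymm (le_iInf fun y => ?_) part1⟩
  obtain ⟨y₀', hy₀⟩ := hsub y.2
  obtain ⟨h, hflat, hh⟩ := exists_fiber_map f g ((pullback.snd f g) y₀')
  obtain ⟨a, ha, hmax⟩ := exists_maximal_point h ((pullback.snd f g).asFiber y₀')
  have hy : (pullback.fst f g) ((pullback.snd f g).fiberι _ a) = y.1 := by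
    rw [← Scheme.Hom.comp_apply, ← hh, Scheme.Hom.comp_apply, ha, ← Scheme.Hom.comp_apply, hh,
      Scheme.Hom.comp_apply, Scheme.Hom.fiberι_asFiber]
    exact hy₀
  refine (iInf_le _ (⟨(pullback.snd f g).fiberι _ a, show (pullback.fst f g) _ ∈ Y by rw [hy]; exact y.2⟩ :
    ↥((fun x' => (pullback.fst f g) x') ⁻¹' Y))).trans ?_
  haveI := isNoetherianRing_fiber_stalk (pullback.snd f g) _ a
  haveI := isNoetherianRing_fiber_stalk f _ (h a)
  have h1 := dim_le_of_maximal h a fun z hz he => hmax z hz (he.trans ha)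
  have e3 : f.fiberι _ (h a) = y.1 := by rw [← Scheme.Hom.comp_apply, hh, Scheme.Hom.comp_apply]; exact hy
  exact (dim_stalk_fiber (pullback.snd f g) _ a).symm.trans_le (h1.trans_eq ((dim_stalk_fiber f _ (h a)).trans
    (congrArg (fun z => ringKrullDim ↑(CInt.fiberStalk f z)) e3)))

end Groth.Agent.S14105
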