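import Groth.Statements.S14106
import Groth.Agent.SmoothSubLib.Main
import Groth.Agent.Unram17Lib.SmoothStalk
import Groth.Agent.PurBirLib.Main

set_option autoImplicit false
universe u
open CategoryTheory CategoryTheory.Limits AlgebraicGeometry Opposite TopologicalSpace
open CInt

namespace Groth.Agent.S14106

/-- Let S be a locally Noetherian scheme, f : X → S a smooth morphism and i : Y → X a closed immersion
whose composite with f is smooth. Then the codimension of the image of i relative to f (the infimum
over its points y of the Krull dimension of the local ring at y of the fibre of f through y) equals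
its codimension in X (the infimum over the same points of the Krull dimension of O_{X,y}). -/
theorem result {X Y S : Scheme.{u}} [IsLocallyNoetherian X]
    [IsLocallyNoetherian S] (f : X ⟶ S) [Smooth f] (i : Y ⟶ X) [IsClosedImmersion i] [Smooth (i ≫ f)] :
    (⨅ y : Set.range i.base, ringKrullDim ↑(CInt.fiberStalk f y.1)) =
      ⨅ y : Set.range i.base, ringKrullDim ↑(X.presheaf.stalk y.1) := by
  haveI : IsLocallyNoetherian Y := LocallyOfFiniteType.isLocallyNoetherian i
  refine le_antisymm (iInf_mono fun y => ?_) (le_iInf fun y => ?_)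
  · obtain ⟨x, hx⟩ := y
    letI := (f.stalkMap x).hom.toAlgebra
    obtain ⟨e⟩ := CMFlatLib.nonempty_fibre_equiv f x
    exact (ringKrullDim_eq_of_ringEquiv e).le.trans (ringKrullDim_quotient_le _)
  · obtain ⟨_, z, rfl⟩ := y
    obtain ⟨hnA, hnB, hflB, hlocB, hfsB⟩ := Unram17Lib.stalk_facts f (x := i z)
      ⟨⊤, trivial, inferInstance⟩
    obtain ⟨-, hnC, hflC, hlocC, hfsC⟩ := Unram17Lib.stalk_facts (i ≫ f) (x := z)
      ⟨⊤, trivial, inferInstance⟩
    letI algB := (f.stalkMap (i z)).hom.toAlgebra
    haveI := hnA; haveI := hnB; haveI := hflB; haveI := hlocB; haveI := hfsB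
    letI algC : Algebra (S.presheaf.stalk (f (i z))) (Y.presheaf.stalk z) :=
      ((i ≫ f).stalkMap z).hom.toAlgebra
    haveI : IsNoetherianRing (Y.presheaf.stalk z) := hnC
    haveI : Module.Flat (S.presheaf.stalk (f (i z))) (Y.presheaf.stalk z) := hflC
    haveI : IsLocalHom (algebraMap (S.presheaf.stalk (f (i z))) (Y.presheaf.stalk z)) := hlocC
    haveI : Algebra.FormallySmooth (S.presheaf.stalk (f (i z))) (Y.presheaf.stalk z) := hfsC
    haveI := Unram17Lib.regularLocalRing_fib (A := S.presheaf.stalk (f (i z))) (B := X.presheaf.stalk (i z))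
    haveI := Unram17Lib.regularLocalRing_fib (A := S.presheaf.stalk (f (i z))) (B := Y.presheaf.stalk z)
    let π : X.presheaf.stalk (i z) →ₐ[S.presheaf.stalk (f (i z))] Y.presheaf.stalk z :=
      { (i.stalkMap z).hom with
        commutes' := fun a => by
          change (i.stalkMap z) ((f.stalkMap (i z)) a) = ((i ≫ f).stalkMap z) a
          rw [Scheme.Hom.stalkMap_comp]
          rfl }
    have hπ : Function.Surjective π := i.stalkMap_surjective z
    obtain ⟨P, hP⟩ := Ideal.nonempty_minimalPrimes (I := RingHom.ker π)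
      (by intro h; exact one_ne_zero (α := Y.presheaf.stalk z) (by
        rw [← map_one π]; exact RingHom.mem_ker.1 (h ▸ Submodule.mem_top)))
    haveI := hP.1.1
    have hle := SmoothSubLib.height_le_dim_fib π hπ P hP
    let Q : Ideal (Y.presheaf.stalk z) := P.map π.toRingHom
    have hQ : Q.IsPrime := Ideal.map_isPrime_of_surjective hπ hP.1.2
    have hQP : Q.comap π.toRingHom = P := by
      rw [Ideal.comap_map_of_surjective π.toRingHom hπ, sup_eq_left]
      exact hP.1.2
    let w : Y := Y.fromSpecStalk z ⟨Q, hQ⟩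
    refine iInf_le_of_le ⟨i w, w, rfl⟩ ?_
    have hw : i w = X.fromSpecStalk (i z) ⟨P, inferInstance⟩ := by
      change (Y.fromSpecStalk z ≫ i) ⟨Q, hQ⟩ = _
      rw [← Scheme.SpecMap_stalkMap_fromSpecStalk, Scheme.Hom.comp_apply]
      congr 1
      exact PrimeSpectrum.ext hQP
    obtain ⟨e⟩ := CMFlatLib.nonempty_fibre_equiv f (i z)
    change ringKrullDim (X.presheaf.stalk (i w)) ≤ ringKrullDim (CInt.fiberStalk f (i z))
    rw [hw, PurBirLib.dim_fromSpecStalk]
    exact hle.trans (ringKrullDim_eq_of_ringEquiv e).ge

end Groth.Agent.S14106
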