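import Groth.Statements.S14108
import Groth.Agent.CMFlatLib.FibreDepth
import Groth.Agent.CommAlgDim.DepthBounds
import Mathlib

set_option autoImplicit false
universe u
open CategoryTheory CategoryTheory.Limits AlgebraicGeometry Opposite TopologicalSpace
open CInt

namespace Groth.Agent.S14108

/-- Let f : X → S be a Cohen–Macaulay morphism of locally Noetherian schemes (flat, every local ring of
every fibre Cohen–Macaulay) and Y a closed subset of X whose codimension relative to f (the infimum
over y ∈ Y of the Krull dimension of the local ring at y of the fibre of f through y) equals its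
codimension in X (the infimum over y ∈ Y of the Krull dimension of O_{X,y}). Then the depth of O_X
along Y, the infimum over y ∈ Y of the depth of O_{X,y}, equals the codimension of Y in X. -/
theorem result {X S : Scheme.{u}} [IsLocallyNoetherian X]
    [IsLocallyNoetherian S] (f : X ⟶ S) [Flat f]
    (hCM : ∀ x : ↥X, LocCoh.IsCohenMacaulayLocalRing ↑(CInt.fiberStalk f x))
    (Y : Set ↥X) (hY : IsClosed Y)
    (hcodim : (⨅ y : Y, ringKrullDim ↑(CInt.fiberStalk f y.1)) = ⨅ y : Y, ringKrullDim ↑(X.presheaf.stalk y.1)) :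
    (⨅ y : Y, ((LocCoh.depth ↑(X.presheaf.stalk y.1) ↑(X.presheaf.stalk y.1) : ℕ∞) : WithBot ℕ∞)) =
      ⨅ y : Y, ringKrullDim ↑(X.presheaf.stalk y.1) := by
  have hle : ∀ y : X, ((LocCoh.depth ↑(X.presheaf.stalk y) ↑(X.presheaf.stalk y) : ℕ∞) : WithBot ℕ∞) ≤ ringKrullDim ↑(X.presheaf.stalk y) := by
    intro y
    obtain ⟨P, hP⟩ := associatedPrimes.nonempty (X.presheaf.stalk y) (X.presheaf.stalk y)
    refine le_trans ?_ (ringKrullDim_quotient_le P)
    have hb : ∀ n : ℕ, (n : ℕ∞) ≤ LocCoh.depth (X.presheaf.stalk y) (X.presheaf.stalk y) →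
        (n : WithBot ℕ∞) ≤ ringKrullDim (X.presheaf.stalk y ⧸ P) := fun n hn =>
      CommAlgDim.depth_le_ringKrullDim_quotient hP ((CommAlgDim.le_depth_iff n).1 hn)
    revert hb
    generalize LocCoh.depth (X.presheaf.stalk y) (X.presheaf.stalk y) = d
    intro hb
    induction d using ENat.recTopCoe with
    | coe n => exact hb n le_rfl
    | top =>
      have hne : ringKrullDim (X.presheaf.stalk y ⧸ P) ≠ ⊥ := by
        haveI := hP.isPrime
        exact ringKrullDim_ne_bot
      obtain ⟨e, he⟩ := WithBot.ne_bot_iff_exists.1 hne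
      rw [← he]
      refine WithBot.coe_le_coe.2 (top_le_iff.2 (ENat.eq_top_iff_forall_ge.2 fun n => ?_))
      exact WithBot.coe_le_coe.1 (he.symm ▸ hb n le_top)
  have hge : ∀ y : X, ringKrullDim ↑(CInt.fiberStalk f y) ≤ ((LocCoh.depth ↑(X.presheaf.stalk y) ↑(X.presheaf.stalk y) : ℕ∞) : WithBot ℕ∞) := by
    intro y
    haveI := hCM y
    rw [← Module.supportDim_self_eq_ringKrullDim, LocCoh.IsCohenMacaulayLocalRing.supportDim_eq_depth, WithBot.coe_le_coe]
    refine ENat.forall_natCast_le_iff_le.1 fun d hd => ?_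
    obtain ⟨e⟩ := CMFlatLib.nonempty_fibre_equiv f y
    letI := (f.stalkMap y).hom.toAlgebra
    haveI : IsLocalHom (algebraMap (S.presheaf.stalk (f y)) (X.presheaf.stalk y)) := f.toLRSHom.prop y
    haveI : Module.Flat (S.presheaf.stalk (f y)) (X.presheaf.stalk y) := Flat.stalkMap f y
    haveI : IsLocalRing (GorLib.Fib (S.presheaf.stalk (f y)) (X.presheaf.stalk y)) := RingEquiv.isLocalRing e
    exact CMFlatLib.le_depth_of_fib _ _ (CMFlatLib.le_depth_congr e hd)
  refine le_antisymm (iInf_mono fun y => hle y.1) ?_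
  rw [← hcodim]
  exact iInf_mono fun y => hge y.1

end Groth.Agent.S14108
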