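import Groth.Statements.S14110
import Groth.Agent.CMFlatLib.FibreDepth
import Groth.Agent.CatLib.CplStrict
import Mathlib

set_option autoImplicit false
universe u
open CategoryTheory CategoryTheory.Limits AlgebraicGeometry Opposite TopologicalSpace
open CInt

namespace Groth.Agent.S14110
open AlgebraicGeometry CategoryTheory in
theorem dim_fiberStalk_ge {X' X S : Scheme.{u}} [IsLocallyNoetherian X] [IsLocallyNoetherian X'] (f : X ⟶ S) (g : X' ⟶ X) [Flat g]
    (y' : X') : ringKrullDim ↑(CInt.fiberStalk f (g y')) ≤ ringKrullDim ↑(CInt.fiberStalk (g ≫ f) y') := by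
  obtain ⟨e⟩ := CMFlatLib.nonempty_fibre_equiv (g ≫ f) y'
  obtain ⟨e'⟩ := CMFlatLib.nonempty_fibre_equiv f (g y')
  rw [ringKrullDim_eq_of_ringEquiv e, ringKrullDim_eq_of_ringEquiv e']
  show ringKrullDim (_ ⧸ (IsLocalRing.maximalIdeal _).map (f.stalkMap (g y')).hom) ≤
    ringKrullDim (_ ⧸ (IsLocalRing.maximalIdeal _).map ((g ≫ f).stalkMap y').hom)
  letI := (g.stalkMap y').hom.toAlgebra
  haveI : IsLocalHom (algebraMap (X.presheaf.stalk (g y')) (X'.presheaf.stalk y')) := g.toLRSHom.prop y'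
  haveI : Module.Flat (X.presheaf.stalk (g y')) (X'.presheaf.stalk y') := Flat.stalkMap g y'
  haveI : IsLocalHom (f.stalkMap (g y')).hom := f.toLRSHom.prop (g y')
  set I := (IsLocalRing.maximalIdeal _).map (f.stalkMap (g y')).hom with hI
  rw [ringKrullDim_eq_of_ringEquiv (Ideal.quotEquivOfEq (show (IsLocalRing.maximalIdeal _).map ((g ≫ f).stalkMap y').hom =
      I.map (algebraMap (X.presheaf.stalk (g y')) (X'.presheaf.stalk y')) by
    rw [hI, Ideal.map_map, Scheme.Hom.stalkMap_comp]; rfl))]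
  have hIm : I ≤ IsLocalRing.maximalIdeal _ := IsLocalRing.map_maximalIdeal_le _
  haveI : Nontrivial (X.presheaf.stalk (g y') ⧸ I) := Ideal.Quotient.nontrivial_iff.2 (ne_top_of_le_ne_top (IsLocalRing.maximalIdeal.isMaximal _).ne_top hIm)
  haveI : Nontrivial (X'.presheaf.stalk y' ⧸ I.map (algebraMap (X.presheaf.stalk (g y')) (X'.presheaf.stalk y'))) := Ideal.Quotient.nontrivial_iff.2
    (ne_top_of_le_ne_top (IsLocalRing.maximalIdeal.isMaximal _).ne_top ((Ideal.map_mono hIm).trans (IsLocalRing.map_maximalIdeal_le _)))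
  haveI : IsLocalRing (X.presheaf.stalk (g y') ⧸ I) := IsLocalRing.of_surjective' _ Ideal.Quotient.mk_surjective
  haveI : IsLocalRing (X'.presheaf.stalk y' ⧸ I.map (algebraMap (X.presheaf.stalk (g y')) (X'.presheaf.stalk y'))) := IsLocalRing.of_surjective' _ Ideal.Quotient.mk_surjective
  haveI : Module.Flat (X.presheaf.stalk (g y') ⧸ I) (X'.presheaf.stalk y' ⧸ I.map (algebraMap (X.presheaf.stalk (g y')) (X'.presheaf.stalk y'))) := CatLib.flat_quotient I
  haveI : IsLocalHom (algebraMap (X.presheaf.stalk (g y') ⧸ I) (X'.presheaf.stalk y' ⧸ I.map (algebraMap (X.presheaf.stalk (g y')) (X'.presheaf.stalk y')))) := ⟨fun z hz => by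
    obtain ⟨a, rfl⟩ := Ideal.Quotient.mk_surjective z
    by_contra hn
    have ha : a ∈ IsLocalRing.maximalIdeal _ := fun hu => hn (hu.map _)
    have h2 : algebraMap (X.presheaf.stalk (g y')) (X'.presheaf.stalk y') a ∈ IsLocalRing.maximalIdeal _ := map_nonunit _ a ha
    exact (IsLocalRing.map_maximalIdeal_of_surjective (Ideal.Quotient.mk (I.map (algebraMap (X.presheaf.stalk (g y')) (X'.presheaf.stalk y')))) Ideal.Quotient.mk_surjective ▸ Ideal.mem_map_of_mem _ h2 : _ ∈ IsLocalRing.maximalIdeal _) hz⟩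
  rw [CatLib.ringKrullDim_eq_add_of_flat (A := X.presheaf.stalk (g y') ⧸ I) (B := X'.presheaf.stalk y' ⧸ I.map (algebraMap (X.presheaf.stalk (g y')) (X'.presheaf.stalk y')))]
  haveI : Nontrivial ((X'.presheaf.stalk y' ⧸ I.map (algebraMap (X.presheaf.stalk (g y')) (X'.presheaf.stalk y'))) ⧸
      (IsLocalRing.maximalIdeal (X.presheaf.stalk (g y') ⧸ I)).map (algebraMap _ (X'.presheaf.stalk y' ⧸ I.map (algebraMap (X.presheaf.stalk (g y')) (X'.presheaf.stalk y'))))) :=
    Ideal.Quotient.nontrivial_iff.2 (ne_top_of_le_ne_top (IsLocalRing.maximalIdeal.isMaximal _).ne_top (IsLocalRing.map_maximalIdeal_le _))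
  exact le_add_of_nonneg_right ringKrullDim_nonneg_of_nontrivial

/-- Let f : X → S and g : X' → X be morphisms of locally Noetherian schemes with f a Cohen–Macaulay
morphism (flat, every local ring of every fibre a Cohen–Macaulay local ring) and g flat, Y a closed
subset of X and Y' its preimage under g. Then the codimension of Y relative to f (the infimum over y
∈ Y of the Krull dimension of the local ring at y of the fibre of f through y) is at most the
codimension of Y' relative to the composite X' → S. -/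
theorem result {X X' S : Scheme.{u}} [IsLocallyNoetherian X]
    [IsLocallyNoetherian X'] [IsLocallyNoetherian S] (f : X ⟶ S) [Flat f]
    (hCM : ∀ x : ↥X, LocCoh.IsCohenMacaulayLocalRing ↑(CInt.fiberStalk f x)) (g : X' ⟶ X) [Flat g]
    (Y : Set ↥X) (hY : IsClosed Y) :
    (⨅ y : Y, ringKrullDim ↑(CInt.fiberStalk f y.1)) ≤
      ⨅ y' : (fun x' => g x') ⁻¹' Y, ringKrullDim ↑(CInt.fiberStalk (g ≫ f) y'.1) := by
  refine le_iInf fun y' => (iInf_le _ (⟨g y'.1, y'.2⟩ : Y)).trans ?_
  exact dim_fiberStalk_ge f g y'.1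

end Groth.Agent.S14110
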