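import Groth.Statements.S14111
import Groth.Agent.CxOXLib.Bound
import Groth.Agent.CxOXLib.Sect
import Groth.Agent.LocSuppLib.LocFree
import Groth.Agent.DCohRestrLib.Scheme

set_option autoImplicit false
set_option backward.isDefEq.respectTransparency false
set_option backward.isDefEq.respectTransparency.types false
universe u
open CategoryTheory CategoryTheory.Limits AlgebraicGeometry Opposite TopologicalSpace
attribute [local instance] HasDerivedCategory.standard
open CxOX

namespace Groth.Agent.S14111

/-- Let X be a locally Noetherian scheme, j : U → X an open immersion with closed complement Y, and d a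
natural number such that the depth of O_X along Y is at least d (every local ring O_{X,y} with y ∈ Y
has depth at least d). Let K be a cochain complex of O_X-modules whose terms are finite locally free
and vanish in degrees below d. Then H^n_Y(X, K) = 0 for every n < 2d, where H^n_Y(X, K) is the n-th
cohomology of RΓ_Y(X, K) (the unbounded right derived functor of global sections with support in Y,
applied to the image of K in D(O_X)). (The published proposition asserts a natural isomorphism,
linear over the given sheaf of rings, from the global sections of the degree-2d local cohomology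
sheaf of K with support in Y to H^{2d}_Y(X, K), and adds that U ↦ H^{2d}_{Y∩U}(U, K|_U), U ⊆ X open,
is a sheaf; this row states only the vanishing below 2d obtained in the course of the published
proof, which shows that the local cohomology sheaves of K with support in Y vanish in degrees below
2d and then applies the local-to-global spectral sequence. The published statement lets K be a
complex of modules over an arbitrary sheaf of rings on X whose terms are vector bundles on X, such
as a truncated de Rham complex with its non-O_X-linear differentials, and has X smooth over a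
locally Noetherian base; this row takes K a cochain complex of O_X-modules and any locally
Noetherian X.) -/
theorem result {U X : Scheme.{u}} [IsLocallyNoetherian X]
    (j : U ⟶ X) [IsOpenImmersion j] [CxOX.HasRsectZ j] (d : ℕ)
    (hdepth : ∀ y : ↥X, y ∉ Set.range j.base →
      (d : ℕ∞) ≤ LocCoh.depth ↑(X.presheaf.stalk y) ↑(X.presheaf.stalk y))
    (K : CochainComplex X.Modules ℤ) (hK : ∀ i : ℤ, i < (d : ℤ) → IsZero (K.X i))
    (hKlf : ∀ i : ℤ, FlatMod.IsFinLocFree (K.X i)) (n : ℤ) (hn : n < 2 * (d : ℤ)) :
    IsZero ((DerivedCategory.homologyFunctor AddCommGrpCat.{u} n).obj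
      ((CxOX.RsectZ j).obj (DCoh.toD X K))) := by
  haveI : EnoughInjectives X.Modules := inferInstance
  refine CxOXLib.isZero_RF_of_forall_single (CxOX.sectZAb j) (CxOX.RsectZ j)
    ((CxOX.sectZKh j).totalRightDerivedUnit DerivedCategory.Qh (HomotopyCategory.quasiIso _ _))
    KFlatLib.enoughKInj_modules d (n + 1 - d).toNat K (d : ℤ) n (by omega) hK (by omega) fun i R p hp => ?_
  obtain ⟨e⟩ := CxOXLib.nonempty_homology_sectZ_iso j ⊤ (K.X i) R p
  haveI : Subsingleton (LocCohZ.HZ (X := X.carrier) (Coh.toAb (K.X i)) p
      (inf_le_right : j.opensRange ⊓ ⊤ ≤ ⊤)) :=
    LocSuppLib.subsingleton_HZ_of_isZero (X := X.carrier) j.opensRange (Coh.toAb (K.X i)) d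
      ((LocSuppLib.isZero_HZsh_below_iff j.opensRange (LocSuppLib.isCoh_of_isFinLocFree (hKlf i)) d).2
        fun x hx => LocSuppLib.le_depth_stalk (hKlf i) x (hdepth x hx)) p hp ⊤
  exact (AddCommGrpCat.isZero_of_subsingleton _).of_iso e

end Groth.Agent.S14111
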