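import Groth.Statements.S14113
import Groth.Agent.Dual3Lib.AffQh

set_option autoImplicit false
set_option backward.isDefEq.respectTransparency false
set_option backward.isDefEq.respectTransparency.types false
universe u
open CategoryTheory CategoryTheory.Limits AlgebraicGeometry Opposite TopologicalSpace
attribute [local instance] HasDerivedCategory.standard
open DCoh

namespace Groth.Agent.S14113

/-- Let X be an affine scheme and E a bounded above cochain complex of finite locally free O_X-modules
(a strictly pseudo-coherent complex). Then E is acyclic if and only if the identity of E is null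
homotopic. -/
theorem result {X : Scheme.{u}} [IsAffine X]
    (E : CochainComplex X.Modules ℤ) (b : ℤ) (hEb : ∀ i : ℤ, b < i → IsZero (E.X i))
    (hE : ∀ i : ℤ, FlatMod.IsFinLocFree (E.X i)) :
    E.Acyclic ↔ Nonempty (Homotopy (𝟙 E) 0) := by
  let q := HomotopyCategory.quotient X.Modules (ComplexShape.up ℤ)
  constructor
  · intro h
    have hz : Limits.IsZero (DerivedCategory.Q.obj E) := by
      rw [DCohRestrLib.isZero_iff_HD]
      exact fun i => (((h i).isZero_homology)).of_iso ((DerivedCategory.homologyFunctorFactors _ i).app E)
    have hz' : Limits.IsZero (DerivedCategory.Qh.obj (q.obj E)) :=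
      hz.of_iso ((DerivedCategory.quotientCompQhIso _).app E)
    have h1 : q.map (𝟙 E) = q.map 0 := (Groth.Agent.Dual3Lib.bijective_Qh_of_locFree E E b hEb hE
      fun i => FinLFAnn.isQCoh_of_isFinLocFree (hE i)).1 (hz'.eq_of_src _ _)
    exact ⟨HomotopyCategory.homotopyOfEq _ _ h1⟩
  · rintro ⟨H⟩ i
    rw [HomologicalComplex.exactAt_iff_isZero_homology, Limits.IsZero.iff_id_eq_zero]
    rw [← HomologicalComplex.homologyMap_id, H.homologyMap_eq i, HomologicalComplex.homologyMap_zero]

end Groth.Agent.S14113
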