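import Groth.Statements.S14115
import Mathlib


-- import your own Groth.Agent.* helpers here

set_option autoImplicit false
universe u v
open SuperComm

namespace Groth.Agent.S14115

/-- Let S be an associative unital algebra over a commutative ring R, x an element and y_0, …, y_n
elements such that the anticommutator x y_i + y_i x equals r_i · 1 for scalars r_i ∈ R. Then the
graded commutator of x with the ordered product y_0 ⋯ y_n, namely x (y_0 ⋯ y_n) + (-1)^n (y_0 ⋯ y_n)
x, equals the sum over p of (-1)^p r_p times the ordered product of the y_q with q ≠ p. (The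
published statement takes x homogeneous of degree 1 and the y_i homogeneous of degree -1 in a graded
algebra with unit in degree 0, the signs being those of the supercommutator; this row states the
identity for arbitrary elements satisfying the anticommutation relations, which is what the
computation proves.) -/
theorem result {R : Type u} {S : Type v} [CommRing R] [Ring S]
    [Algebra R S] (n : ℕ) (x : S) (y : Fin (n + 1) → S) (r : Fin (n + 1) → R)
    (h : ∀ i : Fin (n + 1), x * y i + y i * x = algebraMap R S (r i)) :
    x * (List.ofFn y).prod + (-1 : S) ^ n * ((List.ofFn y).prod * x) =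
      ∑ p : Fin (n + 1), (-1 : S) ^ (p : ℕ) * (r p • (List.ofFn (fun q : Fin n => y (p.succAbove q))).prod) := by
  induction n with
  | zero => simpa [Fin.sum_univ_one, Algebra.smul_def] using h 0
  | succ n ih =>
    have IH := ih (fun i => y i.succ) (fun i => r i.succ) (fun i => h i.succ)
    rw [List.ofFn_succ, List.prod_cons, Fin.sum_univ_succ]
    set P := (List.ofFn fun i : Fin (n + 1) => y i.succ).prod with hP
    simp only [Fin.val_zero, pow_zero, one_mul, Fin.succAbove_zero]
    have e : ∀ p : Fin (n + 1), (-1 : S) ^ (p.succ : ℕ) * (r p.succ • (List.ofFn (fun q : Fin (n + 1) => y (p.succ.succAbove q))).prod) =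
        -(y 0 * ((-1 : S) ^ (p : ℕ) * (r p.succ • (List.ofFn (fun q : Fin n => y (p.succAbove q).succ)).prod))) := by
      intro p
      rw [List.ofFn_succ, List.prod_cons, Fin.succ_succAbove_zero, Fin.val_succ, pow_succ]
      simp only [Fin.succ_succAbove_succ]
      rw [← mul_assoc (y 0), ← ((Commute.neg_one_left (y 0)).pow_left (p : ℕ)).eq, mul_assoc ((-1 : S) ^ (p : ℕ)) (y 0), mul_smul_comm (r p.succ) (y 0)]
      simp [mul_assoc]
    rw [Finset.sum_congr rfl (fun p _ => e p), Finset.sum_neg_distrib, ← Finset.mul_sum, ← IH]
    have h0 : x * y 0 = algebraMap R S (r 0) - y 0 * x := eq_sub_of_add_eq (h 0)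
    rw [← mul_assoc x, h0, sub_mul, mul_add, Algebra.smul_def, pow_succ, ← mul_assoc (y 0) ((-1 : S) ^ n), ← ((Commute.neg_one_left (y 0)).pow_left n).eq]
    noncomm_ring

end Groth.Agent.S14115
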