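import Groth.Statements.S14119
import Groth.Agent.CurvLib.Divisor
import Groth.Agent.EquidimLib.DimEquidim
import Groth.Agent.CatLib.Basic
-- import your own Groth.Agent.* helpers here

set_option autoImplicit false
universe u
open CategoryTheory CategoryTheory.Limits AlgebraicGeometry Opposite TopologicalSpace
open BlowUp

namespace Groth.Agent.S14119

/-- Let X be a locally Noetherian scheme, Y an effective Cartier divisor on X (a quasi-coherent ideal
sheaf which, near every point, is generated on some affine open by one nonzerodivisor; Y is its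
support) and Z a closed integral subscheme (a closed immersion i from an integral scheme with
generic point ξ). Assume X irreducible with all local rings catenary (the first of the two printed
sufficient conditions), and assume that the inverse image ideal sheaf of Y on Z is the ideal of an
effective Cartier divisor on Z. Then Y and Z intersect properly: every point ζ of Y ∩ Z that is
maximal under generization inside Y ∩ Z satisfies dim O_{X,ζ} = codim(Y,X) + codim(Z,X), where
codim(Y,X) is the infimum over y ∈ Y of dim O_{X,y} and codim(Z,X) = dim O_{X,i(ξ)}. (The published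
statement also has a second sufficient condition, X biequidimensional, and a fourth equivalent
condition, vanishing of the higher Tor sheaves of O_Y against O_Z; neither is included in this row.) -/
theorem result {X Z : Scheme.{u}}
    [IsLocallyNoetherian X] [IrreducibleSpace ↥X] (hcat : ∀ x : ↥X, CAlg.IsCatenary ↑(X.presheaf.stalk x))
    (𝓘 : X.IdealSheafData) (hY : BlowUp.IsEffCartierIdeal 𝓘)
    (i : Z ⟶ X) [IsClosedImmersion i] [IsIntegral Z] (hc : BlowUp.IsEffCartierIdeal (𝓘.comap i)) :
    (∀ ζ : ↥X, ζ ∈ (𝓘.support : Set ↥X) ∩ Set.range i.base →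
        (∀ ζ' : ↥X, ζ' ∈ (𝓘.support : Set ↥X) ∩ Set.range i.base → ζ' ⤳ ζ → ζ' = ζ) →
        ringKrullDim ↑(X.presheaf.stalk ζ) =
          (⨅ y : (𝓘.support : Set ↥X), ringKrullDim ↑(X.presheaf.stalk y.1)) +
            ringKrullDim ↑(X.presheaf.stalk (i (genericPoint ↥Z)))) := by
  classical
  intro ζ hζ hmin
  haveI : Nonempty ↥X := ⟨ζ⟩
  obtain ⟨hζY, hζZ⟩ := hζ
  obtain ⟨U, hζU, f, hf, hI⟩ := hY ζ
  let A := X.presheaf.stalk ζ
  let a : A := X.presheaf.germ U.1 ζ hζU f
  let j : PrimeSpectrum A → ↥X := EquidimLib.stalkPt ζ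
  -- the divisor near `ζ`
  have hjU : ∀ p, j p ∈ U.1 := fun p => (EquidimLib.stalkPt_specializes ζ p).mem_open U.1.2 hζU
  have hmemY : ∀ p, j p ∈ (𝓘.support : Set ↥X) ↔ a ∈ p.asIdeal := by
    intro p
    rw [SetLike.mem_coe, 𝓘.mem_support_iff_of_mem (hjU p), hI, Scheme.zeroLocus_span,
      Scheme.mem_zeroLocus_iff]
    have : j p ∈ X.basicOpen f ↔ a ∉ p.asIdeal := by
      have e : X.fromSpecStalk ζ = Spec.map (X.presheaf.germ U.1 ζ hζU) ≫ U.2.fromSpec :=
        (U.2.fromSpecStalk_eq_fromSpecStalk hζU).symm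
      show (X.fromSpecStalk ζ) p ∈ X.basicOpen f ↔ _
      rw [e, Scheme.Hom.comp_apply]
      change (Spec.map (X.presheaf.germ U.1 ζ hζU)) p ∈ U.2.fromSpec ⁻¹ᵁ X.basicOpen f ↔ _
      rw [U.2.fromSpec_preimage_basicOpen]
      rfl
    constructor
    · intro h
      by_contra h'
      exact h f rfl (this.2 h')
    · rintro h b rfl
      exact fun hb => this.1 hb h
  have hdim : ∀ p, ringKrullDim (X.presheaf.stalk (j p)) = ((Order.height p : ℕ∞) : WithBot ℕ∞) := by
    intro p
    rw [← PrimeSpectrum.height_eq_orderHeight, EquidimLib.height_eq_of_inducing (EquidimLib.isInducing_stalkPt ζ) p,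
      EquidimLib.stalk_dim_eq]
    rw [show {v : X | v ⤳ j p} = {v | v ∈ Set.range (EquidimLib.stalkPt ζ) ∧ v ⤳ j p} from Set.ext fun v ↦
      ⟨fun hv ↦ ⟨EquidimLib.exists_stalkPt ((hv : v ⤳ j p).trans (EquidimLib.stalkPt_specializes ζ p)), hv⟩,
        fun h ↦ h.2⟩]
  let m : PrimeSpectrum A := IsLocalRing.closedPoint A
  have hjm : j m = ζ := Scheme.fromSpecStalk_closedPoint
  have hlem : ∀ p : PrimeSpectrum A, p ≤ m := fun p => IsLocalRing.le_maximalIdeal p.isPrime.ne_top
  have ham : a ∈ m.asIdeal := (hmemY m).1 (hjm.symm ▸ hζY)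
  -- the generic point of `Z`
  have hη_gen : ∀ x ∈ Set.range i.base, i (genericPoint ↥Z) ⤳ x := by
    rintro _ ⟨z, rfl⟩
    exact ((genericPoint_spec Z).specializes trivial).map i.continuous
  obtain ⟨P, hP⟩ := EquidimLib.exists_stalkPt (hη_gen ζ hζZ)
  have haP : a ∉ P.asIdeal := by
    intro h
    have hηY : i (genericPoint ↥Z) ∈ (𝓘.support : Set ↥X) := hP ▸ (hmemY P).2 h
    have hg : genericPoint ↥Z ∈ ((𝓘.comap i).support : Set ↥Z) := by
      rw [Scheme.IdealSheafData.support_comap]
      exact hηY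
    obtain ⟨ω, hω, hne⟩ := CurvLib.exists_generization_of_mem hc hg
    exact hne ((hω.antisymm ((genericPoint_spec Z).specializes trivial)).eq)
  have hcov : P ⋖ m := by
    refine ⟨lt_of_le_of_ne (hlem P) fun e => haP (e ▸ ham), fun Q hPQ hQm => ?_⟩
    have haQ : a ∉ Q.asIdeal := fun h => by
      have hr : IsClosed (Set.range i.base) := i.isClosedEmbedding.isClosed_range
      have hQZ : j Q ∈ Set.range i.base :=
        (hP ▸ EquidimLib.specializes_stalkPt hPQ.le : i (genericPoint ↥Z) ⤳ j Q).mem_closed hr ⟨_, rfl⟩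
      have := hmin (j Q) ⟨(hmemY Q).2 h, hQZ⟩ (EquidimLib.stalkPt_specializes ζ Q)
      exact hQm.ne (EquidimLib.stalkPt_injective ζ (this.trans hjm.symm))
    -- `m / P` is minimal over a principal ideal
    let mk := Ideal.Quotient.mk P.asIdeal
    have hm' : (m.asIdeal.map mk).IsPrime :=
      Ideal.map_isPrime_of_surjective Ideal.Quotient.mk_surjective (by rw [Ideal.mk_ker]; exact hlem P)
    have hcomap : ∀ q : PrimeSpectrum A, P ≤ q → (q.asIdeal.map mk).comap mk = q.asIdeal := fun q hq => by
      rw [Ideal.comap_map_of_surjective _ Ideal.Quotient.mk_surjective, ← RingHom.ker_eq_comap_bot, Ideal.mk_ker]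
      exact sup_eq_left.2 hq
    have hminimal : m.asIdeal.map mk ∈ (Ideal.span {mk a}).minimalPrimes := by
      refine ⟨⟨hm', (Ideal.span_singleton_le_iff_mem _).2 (Ideal.mem_map_of_mem _ ham)⟩, fun q hq hle => ?_⟩
      haveI := hq.1
      let q' : PrimeSpectrum A := ⟨q.comap mk, Ideal.comap_isPrime mk q⟩
      have hPq : P ≤ q' := fun x hx => by
        show mk x ∈ q
        rw [show mk x = 0 from Ideal.Quotient.eq_zero_iff_mem.2 hx]
        exact q.zero_mem
      have haq : a ∈ q'.asIdeal := hq.2 (Ideal.mem_span_singleton_self _)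
      have hq'm : q' = m := by
        apply EquidimLib.stalkPt_injective ζ
        refine (hmin (j q') ⟨(hmemY q').2 haq, ?_⟩ (EquidimLib.stalkPt_specializes ζ q')).trans hjm.symm
        exact (hP ▸ EquidimLib.specializes_stalkPt hPq : i (genericPoint ↥Z) ⤳ j q').mem_closed
          i.isClosedEmbedding.isClosed_range ⟨_, rfl⟩
      rw [show m.asIdeal = q.comap mk from (congrArg PrimeSpectrum.asIdeal hq'm).symm]
      exact (Ideal.map_comap_of_surjective _ Ideal.Quotient.mk_surjective q).le
    haveI : (Ideal.span {mk a}).IsPrincipal := ⟨⟨mk a, rfl⟩⟩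
    have hh := Ideal.height_le_one_of_isPrincipal_of_mem_minimalPrimes _ _ hminimal
    haveI : (Q.asIdeal.map mk).IsPrime :=
      Ideal.map_isPrime_of_surjective Ideal.Quotient.mk_surjective (by rw [Ideal.mk_ker]; exact hPQ.le)
    haveI : (P.asIdeal.map mk).IsPrime :=
      Ideal.map_isPrime_of_surjective Ideal.Quotient.mk_surjective (by rw [Ideal.mk_ker])
    let sP : PrimeSpectrum (A ⧸ P.asIdeal) := ⟨P.asIdeal.map mk, inferInstance⟩
    let sQ : PrimeSpectrum (A ⧸ P.asIdeal) := ⟨Q.asIdeal.map mk, inferInstance⟩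
    let sm : PrimeSpectrum (A ⧸ P.asIdeal) := ⟨m.asIdeal.map mk, hm'⟩
    have hlt : ∀ {q r : PrimeSpectrum A}, P ≤ q → q < r → q.asIdeal.map mk < r.asIdeal.map mk := fun {q r} hq hqr =>
      lt_of_le_of_ne (Ideal.map_mono hqr.le) fun e => hqr.ne (PrimeSpectrum.ext (by
        rw [← hcomap q hq, e, hcomap r (hq.trans hqr.le)]))
    have h1 : Order.height sP + 1 ≤ Order.height sQ := Order.height_add_one_le (hlt le_rfl hPQ)
    have h2 : Order.height sQ + 1 ≤ Order.height sm := Order.height_add_one_le (hlt hPQ.le hQm)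
    rw [PrimeSpectrum.height_eq_orderHeight sm] at hh
    have h3 : (1 : ℕ∞) ≤ Order.height sQ := le_trans le_add_self h1
    have h4 : Order.height sQ + 1 ≤ 1 := h2.trans hh
    have h5 : (1 : ℕ∞) + 1 ≤ 1 := (add_le_add h3 le_rfl).trans h4
    exact absurd h5 (by norm_num)
  -- heights in the catenary local ring
  obtain ⟨P₀, hP₀⟩ := EquidimLib.exists_stalkPt (genericPoint_specializes ζ)
  letI : OrderBot (PrimeSpectrum A) :=
    { bot := P₀, bot_le := fun q => EquidimLib.le_of_stalkPt (hP₀ ▸ genericPoint_specializes _) }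
  haveI : IsNoetherianRing A := inferInstance
  have hht : Order.height m = Order.height P + 1 :=
    (CatLib.isCatenary_iff.1 (hcat ζ)).height_covBy CatLib.height_ne_top hcov
  -- the codimension of the divisor
  have hone : (⨅ y : (𝓘.support : Set ↥X), ringKrullDim ↑(X.presheaf.stalk y.1)) = 1 := by
    obtain ⟨q, hq, hqm⟩ := Ideal.exists_minimalPrimes_le (I := Ideal.span {a}) (J := m.asIdeal)
      ((Ideal.span_singleton_le_iff_mem _).2 ham)
    haveI := hq.1.1
    haveI : (Ideal.span {a}).IsPrincipal := ⟨⟨a, rfl⟩⟩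
    have hq1 := Ideal.height_le_one_of_isPrincipal_of_mem_minimalPrimes _ _ hq
    let q' : PrimeSpectrum A := ⟨q, hq.1.1⟩
    refine le_antisymm ?_ (le_iInf fun y => ?_)
    · refine (iInf_le _ (⟨j q', (hmemY q').2 (hq.1.2 (Ideal.mem_span_singleton_self _))⟩ :
        (𝓘.support : Set ↥X))).trans ?_
      rw [hdim, ← PrimeSpectrum.height_eq_orderHeight]
      exact WithBot.coe_le_coe.2 hq1
    · obtain ⟨ω, hω, hne⟩ := CurvLib.exists_generization_of_mem hY y.2
      obtain ⟨Q, hQ⟩ := EquidimLib.exists_stalkPt hω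
      have hlt : Q < IsLocalRing.closedPoint (X.presheaf.stalk y.1) := by
        refine lt_of_le_of_ne (IsLocalRing.le_maximalIdeal Q.isPrime.ne_top) fun e => hne ?_
        rw [← hQ, e]
        exact Scheme.fromSpecStalk_closedPoint
      have hpos : (0 : WithBot ℕ∞) < ringKrullDim (X.presheaf.stalk y.1) := Order.krullDim_pos_iff.2 ⟨Q, _, hlt⟩
      revert hpos
      generalize ringKrullDim (X.presheaf.stalk y.1) = d
      intro hpos
      cases d with
      | bot => exact absurd hpos (not_lt_bot)
      | coe d => exact WithBot.coe_le_coe.2 (Order.one_le_iff_pos.2 (WithBot.coe_lt_coe.1 hpos))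
  rw [hone, (congrArg (fun x => ringKrullDim ↑(X.presheaf.stalk x)) hP).symm.trans (hdim P),
    (congrArg (fun x => ringKrullDim ↑(X.presheaf.stalk x)) hjm).symm.trans (hdim m), hht,
    add_comm (1 : WithBot ℕ∞)]
  norm_cast

end Groth.Agent.S14119
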