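import Groth.Statements.S14122
import Mathlib

set_option autoImplicit false
universe u
open ValCrit

namespace Groth.Agent.S14122

theorem exists_conj {R : Type u} [CommRing R] [IsDomain R] [IsPrincipalIdealRing R] {K : Type u} [Field K] [Algebra R K]
    [IsFractionRing R K] {N : ℕ} (g : GL (Fin N) K) (hg : IsOfFinOrder g) :
    ∃ (h : GL (Fin N) K) (g' : GL (Fin N) R), h * g * h⁻¹ = Matrix.GeneralLinearGroup.map (algebraMap R K) g' := by
  classical
  let S : Set (Fin N → K) := (fun p : GL (Fin N) K × Fin N => (p.1 : Matrix (Fin N) (Fin N) K).mulVec (Pi.single p.2 1)) ''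
    ((Submonoid.powers g : Set (GL (Fin N) K)) ×ˢ Set.univ)
  let L := Submodule.span R S
  have hfin : S.Finite := (hg.finite_powers.prod Set.finite_univ).image _
  haveI : Submodule.IsLattice K L := by
    refine ⟨Submodule.fg_span hfin, top_le_iff.1 fun v _ => ?_⟩
    rw [pi_eq_sum_univ' v]
    refine sum_mem fun j _ => Submodule.smul_mem _ _ (Submodule.subset_span (Submodule.subset_span ⟨(1, j), ⟨one_mem _, trivial⟩, ?_⟩))
    show ((1 : GL (Fin N) K) : Matrix (Fin N) (Fin N) K).mulVec _ = _
    rw [Units.val_one, Matrix.one_mulVec]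
  haveI : Module.IsTorsionFree R K := inferInstance
  let bL := Module.Free.chooseBasis R L
  let b₀ := bL.extendOfIsLattice K
  let b : Module.Basis (Fin N) K (Fin N → K) := b₀.reindex (b₀.indexEquiv (Pi.basisFun K (Fin N)))
  let bR : Module.Basis (Fin N) R L := bL.reindex (b₀.indexEquiv (Pi.basisFun K (Fin N)))
  have hb : ∀ i, b i = (bR i : Fin N → K) := fun i => by
    simp [b, bR, b₀, Module.Basis.extendOfIsLattice_apply]
  have key : ∀ x ∈ Submonoid.powers g, ∃ A : Matrix (Fin N) (Fin N) R,
      (x : Matrix (Fin N) (Fin N) K) * (Pi.basisFun K (Fin N)).toMatrix b =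
        (Pi.basisFun K (Fin N)).toMatrix b * A.map (algebraMap R K) := by
    intro x hx
    have hmem : ∀ v ∈ L, (x : Matrix (Fin N) (Fin N) K).mulVec v ∈ L := by
      intro v hv
      induction hv using Submodule.span_induction with
      | mem v hv =>
        obtain ⟨⟨y, j⟩, ⟨hy, -⟩, rfl⟩ := hv
        refine Submodule.subset_span ⟨(x * y, j), ⟨mul_mem hx hy, trivial⟩, ?_⟩
        show ((x * y : GL (Fin N) K) : Matrix (Fin N) (Fin N) K).mulVec _ = _
        rw [Units.val_mul, ← Matrix.mulVec_mulVec]
      | zero => simp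
      | add _ _ _ _ ha hb => rw [Matrix.mulVec_add]; exact add_mem ha hb
      | smul r _ _ ha => rw [Matrix.mulVec_smul]; exact Submodule.smul_mem _ r ha
    refine ⟨Matrix.of fun i j => bR.repr ⟨_, hmem _ (bR j).2⟩ i, ?_⟩
    ext k j
    have h1 : (x : Matrix (Fin N) (Fin N) K).mulVec (bR j : Fin N → K) =
        ∑ i, bR.repr ⟨_, hmem _ (bR j).2⟩ i • (bR i : Fin N → K) := by
      have h0 := congrArg (fun z : L => (z : Fin N → K)) (bR.sum_repr ⟨_, hmem _ (bR j).2⟩)
      simp only [Submodule.coe_sum, Submodule.coe_smul] at h0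
      exact h0.symm
    have h2 := congrFun h1 k
    simp only [Matrix.mul_apply, Module.Basis.toMatrix_apply, Pi.basisFun_repr, hb, Matrix.map_apply, Matrix.of_apply]
    refine Eq.trans h2 ?_
    simp [Algebra.smul_def, mul_comm]
  obtain ⟨A, hA⟩ := key g (Submonoid.mem_powers g)
  obtain ⟨B, hB⟩ := key g⁻¹ (by
    obtain ⟨n, hn, hgn⟩ := isOfFinOrder_iff_pow_eq_one.1 hg
    exact ⟨n - 1, eq_inv_of_mul_eq_one_left (by rw [← pow_succ, Nat.sub_add_cancel hn, hgn])⟩)
  haveI := (Pi.basisFun K (Fin N)).invertibleToMatrix b
  let P : GL (Fin N) K := unitOfInvertible ((Pi.basisFun K (Fin N)).toMatrix b)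
  have hAg : (A.map (algebraMap R K)) = ((P⁻¹ * g * P : GL (Fin N) K) : Matrix (Fin N) (Fin N) K) := by
    rw [Units.val_mul, Units.val_mul, mul_assoc, show ((g : GL (Fin N) K) : Matrix (Fin N) (Fin N) K) * (P : Matrix (Fin N) (Fin N) K) = (P : Matrix (Fin N) (Fin N) K) * A.map (algebraMap R K) from hA,
      ← mul_assoc, Units.inv_mul, one_mul]
  have hBg : (B.map (algebraMap R K)) = ((P⁻¹ * g⁻¹ * P : GL (Fin N) K) : Matrix (Fin N) (Fin N) K) := by
    rw [Units.val_mul, Units.val_mul, mul_assoc, show ((g⁻¹ : GL (Fin N) K) : Matrix (Fin N) (Fin N) K) * (P : Matrix (Fin N) (Fin N) K) = (P : Matrix (Fin N) (Fin N) K) * B.map (algebraMap R K) from hB,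
      ← mul_assoc, Units.inv_mul, one_mul]
  have hinj : Function.Injective (fun M : Matrix (Fin N) (Fin N) R => M.map (algebraMap R K)) :=
    Matrix.map_injective (IsFractionRing.injective R K)
  have hAB : A * B = 1 := hinj (by
    show (A * B).map (algebraMap R K) = (1 : Matrix (Fin N) (Fin N) R).map (algebraMap R K)
    rw [Matrix.map_mul, hAg, hBg, ← Units.val_mul, Matrix.map_one _ (map_zero _) (map_one _)]
    simp [mul_assoc])
  refine ⟨P⁻¹, ⟨A, B, hAB, mul_eq_one_comm.1 hAB⟩, Units.ext ?_⟩
  rw [inv_inv]
  exact hAg.symm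


/-- Let `R` be a discrete valuation ring with fraction field `K` and `g ∈ GL_N(K)` an element of finite
order. Then after passing to a finite extension `K'` of `K` and a discrete valuation ring `R'` of
`K'` dominating `R`, the element `g` becomes conjugate in `GL_N(K')` to an element of `GL_N(R')`.
(The published statement is that the classifying stack of `GL_N` over the integers satisfies a
valuative condition, for discrete valuation rings essentially of finite type over the integers, on
extending finite-order generic automorphisms along nearby modifications; since vector bundles over a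
discrete valuation ring are trivial, that condition is this conjugacy statement for such rings, and
this row states it for every discrete valuation ring, as the printed argument gives.) -/
theorem result
    (R : Type u) [CommRing R] [IsDomain R] [IsDiscreteValuationRing R]
    (K : Type u) [Field K] [Algebra R K] [IsFractionRing R K]
    (N : ℕ) (g : GL (Fin N) K) (hg : IsOfFinOrder g) :
    ∃ (R' : Type u) (_ : CommRing R') (_ : IsDomain R') (_ : IsDiscreteValuationRing R')
      (K' : Type u) (_ : Field K') (_ : Algebra R' K') (_ : IsFractionRing R' K')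
      (_ : Algebra R R') (_ : Algebra K K') (_ : Algebra R K')
      (_ : IsScalarTower R R' K') (_ : IsScalarTower R K K')
      (_ : Module.Finite K K') (_ : IsLocalHom (algebraMap R R'))
      (h : GL (Fin N) K') (g' : GL (Fin N) R'),
      h * Matrix.GeneralLinearGroup.map (algebraMap K K') g * h⁻¹ =
        Matrix.GeneralLinearGroup.map (algebraMap R' K') g' := by
  obtain ⟨h, g', e⟩ := exists_conj (R := R) g hg
  refine ⟨R, inferInstance, inferInstance, inferInstance, K, inferInstance, inferInstance, inferInstance,
    Algebra.id R, Algebra.id K, inferInstance, IsScalarTower.left R, IsScalarTower.right, inferInstance, ⟨fun a h => h⟩, h, g', ?_⟩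
  rw [← e]
  congr 2

end Groth.Agent.S14122
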