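import Groth.Statements.S1987
import Mathlib.RingTheory.AdjoinRoot
import Mathlib.RingTheory.DiscreteValuationRing.TFAE
import Mathlib.RingTheory.Polynomial.Eisenstein.Basic
import Mathlib.RingTheory.Valuation.LocalSubring

set_option autoImplicit false
universe u
open Polynomial
open EtAlg

namespace Groth.Agent.S1987

/-- Let A be a discrete valuation ring with uniformizer π and n ≥ 2, and let A' = A[x]/(x^n - π). Then
x^n - π is irreducible over A, A' is an integrally closed discrete valuation ring (so it is the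
integral closure of A in its fraction field K₁ = K(π^{1/n}), of degree n over K), the maximal ideal
of A generates the n-th power of the maximal ideal of A' (ramification index n), and K₁ is totally
ramified with respect to A. -/
theorem result (A : Type u) [CommRing A] [IsDomain A] [IsDiscreteValuationRing A] (π : A)
    (hπ : Irreducible π) (n : ℕ) (hn : 2 ≤ n) :
    Irreducible (X ^ n - C π : A[X]) ∧
    ∃ (_ : IsDomain (AdjoinRoot (X ^ n - C π : A[X]))) (_ : IsDiscreteValuationRing (AdjoinRoot (X ^ n - C π : A[X]))),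
      IsIntegrallyClosed (AdjoinRoot (X ^ n - C π : A[X])) ∧
      (IsLocalRing.maximalIdeal A).map (algebraMap A (AdjoinRoot (X ^ n - C π : A[X]))) = IsLocalRing.maximalIdeal (AdjoinRoot (X ^ n - C π : A[X])) ^ n ∧
      ∀ (K₁ : Type u) [Field K₁] [Algebra (AdjoinRoot (X ^ n - C π : A[X])) K₁] [IsFractionRing (AdjoinRoot (X ^ n - C π : A[X])) K₁],
        EtRam.IsTotallyRamified A ((algebraMap (AdjoinRoot (X ^ n - C π : A[X])) K₁).comp (algebraMap A (AdjoinRoot (X ^ n - C π : A[X])))) := by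
  classical
  have hm : (X ^ n - C π : A[X]).Monic := monic_X_pow_sub_C _ (by omega)
  have hmax : IsLocalRing.maximalIdeal A = Ideal.span {π} := (IsDiscreteValuationRing.irreducible_iff_uniformizer π).1 hπ
  have hπ0 : π ≠ 0 := hπ.ne_zero
  have hdeg : (X ^ n - C π : A[X]).natDegree = n := natDegree_X_pow_sub_C
  have hcoeff : ∀ i, i < n → (X ^ n - C π : A[X]).coeff i = if i = 0 then -π else 0 := fun i hi => by
    simp only [coeff_sub, coeff_X_pow, coeff_C, if_neg hi.ne]
    split_ifs <;> simp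
  have hirr : Irreducible (X ^ n - C π : A[X]) := by
    refine IsEisensteinAt.irreducible (𝓟 := IsLocalRing.maximalIdeal A) ?_ inferInstance hm.isPrimitive (by omega)
    refine ⟨?_, fun {i} hi => ?_, ?_⟩
    · rw [hm.leadingCoeff]; exact fun h => (IsLocalRing.maximalIdeal.isMaximal A).ne_top ((Ideal.eq_top_iff_one _).2 h)
    · rw [hcoeff i (hdeg ▸ hi)]
      split_ifs
      · exact neg_mem (hmax ▸ Ideal.mem_span_singleton_self π)
      · exact zero_mem _
    · rw [hcoeff 0 (by omega), if_pos rfl, hmax, Ideal.span_singleton_pow, Ideal.mem_span_singleton, dvd_neg]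
      rintro ⟨c, hc⟩
      refine hπ.not_isUnit (IsUnit.of_mul_eq_one c ?_)
      exact mul_left_cancel₀ hπ0 (by rw [mul_one, ← mul_assoc, ← sq]; exact hc.symm)
  refine ⟨hirr, ?_⟩
  haveI hdom : IsDomain (AdjoinRoot (X ^ n - C π : A[X])) := AdjoinRoot.isDomain_of_prime hirr.prime
  haveI : Module.Finite A (AdjoinRoot (X ^ n - C π : A[X])) := hm.finite_adjoinRoot
  haveI : Algebra.IsIntegral A (AdjoinRoot (X ^ n - C π : A[X])) := Algebra.IsIntegral.of_finite _ _
  haveI : IsNoetherianRing (AdjoinRoot (X ^ n - C π : A[X])) := IsNoetherianRing.of_finite A _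
  let x : AdjoinRoot (X ^ n - C π : A[X]) := AdjoinRoot.root _
  let ι := algebraMap A (AdjoinRoot (X ^ n - C π : A[X]))
  have hxn : x ^ n = ι π := by
    have h := AdjoinRoot.eval₂_root (X ^ n - C π : A[X])
    rw [eval₂_sub, eval₂_pow, eval₂_X, eval₂_C, sub_eq_zero] at h
    exact h
  have hinj : Function.Injective ι := AdjoinRoot.of.injective_of_degree_ne_zero (by
    rw [degree_eq_natDegree hm.ne_zero, hdeg]; exact_mod_cast (show n ≠ 0 by omega))
  have hx0 : x ≠ 0 := fun h => hπ0 (hinj (by rw [← hxn, h, zero_pow (by omega), map_zero]))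
  have hdec : ∀ z, ∃ (a : A) (c : AdjoinRoot (X ^ n - C π : A[X])), z = ι a + x * c := fun z => by
    obtain ⟨p, rfl⟩ := AdjoinRoot.mk_surjective z
    refine ⟨p.coeff 0, AdjoinRoot.mk _ p.divX, ?_⟩
    conv_lhs => rw [← p.X_mul_divX_add]
    rw [map_add, map_mul, AdjoinRoot.mk_X, add_comm]
    rfl
  have hM : ∀ M : Ideal (AdjoinRoot (X ^ n - C π : A[X])), M.IsMaximal → M = Ideal.span {x} ∧ M.comap ι = IsLocalRing.maximalIdeal A := by
    intro M hM
    haveI : (M.comap ι).IsMaximal := Ideal.isMaximal_comap_of_isIntegral_of_isMaximal M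
    have h1 : M.comap ι = IsLocalRing.maximalIdeal A := IsLocalRing.eq_maximalIdeal inferInstance
    have hx : x ∈ M := hM.isPrime.mem_of_pow_mem n (by
      rw [hxn]; exact Ideal.mem_comap.1 (h1 ▸ hmax ▸ Ideal.mem_span_singleton_self π))
    refine ⟨le_antisymm (fun z hz => ?_) ((Ideal.span_singleton_le_iff_mem _).2 hx), h1⟩
    obtain ⟨a, c, rfl⟩ := hdec z
    have ha : a ∈ IsLocalRing.maximalIdeal A := by
      rw [← h1, Ideal.mem_comap]
      simpa using sub_mem hz (M.mul_mem_right c hx)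
    obtain ⟨b, rfl⟩ := Ideal.mem_span_singleton'.1 (hmax ▸ ha)
    refine add_mem ?_ (Ideal.mul_mem_right _ _ (Ideal.mem_span_singleton_self x))
    rw [map_mul, ← hxn]
    exact Ideal.mul_mem_left _ _ (Ideal.pow_mem_of_mem _ (Ideal.mem_span_singleton_self x) n (by omega))
  haveI : IsLocalRing (AdjoinRoot (X ^ n - C π : A[X])) := by
    obtain ⟨M, hMx⟩ := Ideal.exists_maximal (AdjoinRoot (X ^ n - C π : A[X]))
    exact IsLocalRing.of_unique_max_ideal ⟨M, hMx, fun M' h' => ((hM M' h').1.trans (hM M hMx).1.symm)⟩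
  have hmx : IsLocalRing.maximalIdeal (AdjoinRoot (X ^ n - C π : A[X])) = Ideal.span {x} := (hM _ inferInstance).1
  have hnf : ¬ IsField (AdjoinRoot (X ^ n - C π : A[X])) := fun h => by
    have := IsLocalRing.isField_iff_maximalIdeal_eq.1 h
    rw [hmx, Ideal.span_singleton_eq_bot] at this
    exact hx0 this
  haveI hdvr : IsDiscreteValuationRing (AdjoinRoot (X ^ n - C π : A[X])) :=
    ((IsDiscreteValuationRing.TFAE _ hnf).out 4 0).1 (⟨x, hmx⟩ : (IsLocalRing.maximalIdeal (AdjoinRoot (X ^ n - C π : A[X]))).IsPrincipal)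
  refine ⟨hdom, hdvr, inferInstance, ?_, ?_⟩
  · rw [hmx, hmax, Ideal.map_span, Set.image_singleton, Ideal.span_singleton_pow, hxn]
  intro K₁ _ _ _
  let g := algebraMap (AdjoinRoot (X ^ n - C π : A[X])) K₁
  haveI : ValuationRing (AdjoinRoot (X ^ n - C π : A[X])) := inferInstance
  let W : ValuationSubring K₁ :=
    { g.range with
      mem_or_inv_mem' := fun z => by
        rcases ValuationRing.isInteger_or_isInteger (AdjoinRoot (X ^ n - C π : A[X])) z with h | h
        · exact Or.inl h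
        · exact Or.inr h }
  have hWmem : ∀ z, z ∈ W ↔ ∃ y, g y = z := fun z => Iff.rfl
  have hnu : ∀ (V : ValuationSubring K₁), EtRam.Dominates A (g.comp ι) V →
      (∀ y, g y ∈ V) ∧ (∀ y ∈ IsLocalRing.maximalIdeal (AdjoinRoot (X ^ n - C π : A[X])), V.valuation (g y) < 1) := by
    intro V hV
    have hall : ∀ y, g y ∈ V := fun y => by
      obtain ⟨p, hp, hp'⟩ := (Algebra.IsIntegral.isIntegral (R := A) y)
      have h1 : IsIntegral V (g y) := by
        refine ⟨p.map (RingHom.codRestrict (g.comp ι) V hV.1), hp.map _, ?_⟩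
        rw [Polynomial.eval₂_map]
        show p.eval₂ (g.comp ι) (g y) = 0
        rw [← Polynomial.hom_eval₂, hp', map_zero]
      obtain ⟨v, hv⟩ := IsIntegrallyClosed.isIntegral_iff.1 h1
      exact hv ▸ v.2
    refine ⟨hall, fun y hy => ?_⟩
    rw [hmx] at hy
    obtain ⟨c, rfl⟩ := Ideal.mem_span_singleton'.1 hy
    have hxlt : V.valuation (g x) < 1 := by
      by_contra hcon
      refine absurd (hV.2 π (hmax ▸ Ideal.mem_span_singleton_self π)) (not_lt.2 ?_)
      rw [RingHom.comp_apply, ← hxn, map_pow, map_pow]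
      exact one_le_pow₀ (not_lt.1 hcon)
    rw [map_mul, map_mul]
    calc _ ≤ 1 * V.valuation (g x) := mul_le_mul_left ((V.valuation_le_one_iff _).2 (hall c)) _
      _ < 1 := by rwa [one_mul]
  have huniq : ∀ V, EtRam.Dominates A (g.comp ι) V → V = W := fun V hV => by
    obtain ⟨hall, hlt⟩ := hnu V hV
    ext z
    refine ⟨fun hz => ?_, fun ⟨y, hy⟩ => hy ▸ hall y⟩
    by_contra hzW
    rcases ValuationRing.isInteger_or_isInteger (AdjoinRoot (X ^ n - C π : A[X])) z with h | ⟨y, hy⟩
    · exact hzW h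
    · by_cases hu : IsUnit y
      · obtain ⟨u, rfl⟩ := hu
        exact hzW ⟨(↑u⁻¹ : AdjoinRoot (X ^ n - C π : A[X])), by
          rw [← inv_inv z, ← hy, map_units_inv]⟩
      · exfalso
        rcases eq_or_ne z 0 with rfl | hz0
        · exact hzW ⟨0, map_zero g⟩
        · have h1 : V.valuation z * V.valuation z⁻¹ = 1 := by rw [← map_mul, mul_inv_cancel₀ hz0, map_one]
          have h2 : V.valuation z⁻¹ < 1 := hy ▸ hlt y (by simpa using hu)
          have h3 := mul_le_mul_left ((V.valuation_le_one_iff _).2 hz) (V.valuation z⁻¹)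
          rw [h1, one_mul] at h3
          exact absurd h3 (not_le.2 h2)
  refine ⟨⟨W, fun a => ⟨ι a, rfl⟩, fun a ha => ?_⟩, fun V V' h h' => (huniq V h).trans (huniq V' h').symm, ?_⟩
  · rw [lt_iff_le_and_ne]
    refine ⟨(W.valuation_le_one_iff _).2 ⟨ι a, rfl⟩, fun heq => ?_⟩
    obtain ⟨u, hu⟩ := (W.valuation_eq_one_iff ⟨g (ι a), ι a, rfl⟩).2 heq
    obtain ⟨y, hy⟩ := ((u⁻¹ : Wˣ) : W).2
    have h1 : g (ι a * y) = g 1 := by
      rw [map_mul, hy, map_one]
      exact congrArg Subtype.val (hu ▸ u.mul_inv)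
    have h2 : IsUnit (ι a) := IsUnit.of_mul_eq_one y (IsFractionRing.injective _ K₁ h1)
    have h3 : ι a ∈ IsLocalRing.maximalIdeal (AdjoinRoot (X ^ n - C π : A[X])) :=
      Ideal.mem_comap.1 ((hM _ (IsLocalRing.maximalIdeal.isMaximal _)).2.symm ▸ ha)
    exact h3 h2
  intro V hV
  obtain ⟨hall, hlt⟩ := hnu V hV
  intro r
  obtain ⟨v, rfl⟩ := IsLocalRing.residue_surjective r
  have hv : (v : K₁) ∈ W := (huniq V hV) ▸ v.2
  obtain ⟨z, hz⟩ := hv
  obtain ⟨a, c, rfl⟩ := hdec z
  refine ⟨a, (Ideal.Quotient.eq).2 ?_⟩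
  refine (V.valuation_lt_one_iff _).2 ?_
  show V.valuation (g (ι a) - (v : K₁)) < 1
  rw [← hz, map_add, ← Valuation.map_neg]
  rw [neg_sub, add_sub_cancel_left]
  exact hlt _ (hmx ▸ Ideal.mul_mem_right _ _ (Ideal.mem_span_singleton_self x))

end Groth.Agent.S1987
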