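import Groth.Statements.S14123
import Mathlib
import Groth.Agent.S1987
-- import your own Groth.Agent.* helpers here

set_option autoImplicit false
set_option maxHeartbeats 2000000
set_option backward.isDefEq.respectTransparency false
universe u v
open GmQuot

namespace Groth.Agent.S14123

/-- Let `A = ⊕_{d ∈ ℤ} A_d` be a graded commutative ring whose ideal `I₊` generated by the homogeneous
elements of positive degree is finitely generated, `R` a discrete valuation ring with fraction field
`K`, and `φ : A → R` a ring map with `φ(I₊) ≠ 0` and `φ(I₊)` inside the maximal ideal. Then after a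
finite extension `K'/K` and a discrete valuation ring `R'` of `K'` dominating `R` there are a
nonzero non-unit `ϖ ∈ R'` and a ring map `g : A → R'` with `g(a) ϖ^d = φ(a)` for every homogeneous
`a` of degree `d` (so `g` is `φ` rescaled through the grading by `ϖ`), such that `g(I₊) R' = R'`.
(The published statement is phrased for the quotient stack of `Spec A` by the multiplicative group
and its closed substack cut out by `I₊`, in a setting where `A` is Noetherian, being of finite type
over a Noetherian base: an `R`-point whose closed point lies in that substack and whose generic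
point does not admits, after a finite extension, an elementary modification avoiding the substack;
this row is the graded-ring statement the printed argument proves, assuming only that `I₊` is
finitely generated, which is all that argument uses, and with `ϖ` not required to be a uniformizer.) -/
theorem result
    {A : Type u} [CommRing A] (𝒜 : ℤ → AddSubgroup A) [GradedRing 𝒜]
    (hfg : (Ideal.span {a : A | ∃ d : ℤ, 0 < d ∧ a ∈ 𝒜 d}).FG)
    (R : Type v) [CommRing R] [IsDomain R] [IsDiscreteValuationRing R]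
    (K : Type v) [Field K] [Algebra R K] [IsFractionRing R K]
    (φ : A →+* R)
    (hle : Ideal.map φ (Ideal.span {a : A | ∃ d : ℤ, 0 < d ∧ a ∈ 𝒜 d}) ≤ IsLocalRing.maximalIdeal R)
    (hne : Ideal.map φ (Ideal.span {a : A | ∃ d : ℤ, 0 < d ∧ a ∈ 𝒜 d}) ≠ ⊥) :
    ∃ (R' : Type v) (_ : CommRing R') (_ : IsDomain R') (_ : IsDiscreteValuationRing R')
      (K' : Type v) (_ : Field K') (_ : Algebra R' K') (_ : IsFractionRing R' K')
      (_ : Algebra R R') (_ : Algebra K K') (_ : Algebra R K')
      (_ : IsScalarTower R R' K') (_ : IsScalarTower R K K')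
      (_ : Module.Finite K K') (_ : IsLocalHom (algebraMap R R'))
      (ϖ : R') (g : A →+* R'),
      ϖ ≠ 0 ∧ ϖ ∈ IsLocalRing.maximalIdeal R' ∧
      (∀ (d : ℤ) (a : A), a ∈ 𝒜 d →
        algebraMap R' K' (g a) * algebraMap R' K' ϖ ^ d = algebraMap R K' (φ a)) ∧
      Ideal.map g (Ideal.span {a : A | ∃ d : ℤ, 0 < d ∧ a ∈ 𝒜 d}) = ⊤ := by
  classical
  obtain ⟨s, hs, hspan⟩ := (Submodule.fg_span_iff_fg_span_finset_subset _).1 hfg
  change Ideal.span _ = Ideal.span _ at hspan
  choose deg hdeg hmem using fun f : s => hs f.2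
  obtain ⟨π, hπ⟩ := IsDiscreteValuationRing.exists_irreducible R
  have hmax : IsLocalRing.maximalIdeal R = Ideal.span {π} :=
    (IsDiscreteValuationRing.irreducible_iff_uniformizer π).1 hπ
  have hex : ∃ f : s, φ f ≠ 0 := by
    by_contra h
    push Not at h
    refine hne ?_
    rw [hspan, Ideal.map_span, Ideal.span_eq_bot]
    rintro - ⟨a, ha, rfl⟩
    exact h ⟨a, ha⟩
  have hval : ∀ f : s, φ f ≠ 0 → ∃ (m : ℕ) (u : Rˣ), φ f = u * π ^ m := fun f hf =>
    IsDiscreteValuationRing.eq_unit_mul_pow_irreducible hf hπ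
  choose m u hu using hval
  haveI : Nonempty {f : s // φ f ≠ 0} := let ⟨f, hf⟩ := hex; ⟨⟨f, hf⟩⟩
  obtain ⟨f₀, hf₀⟩ := Finite.exists_min (fun f : {f : s // φ f ≠ 0} => (m f.1 f.2 : ℚ) / (deg f.1 : ℚ))
  let m₀ := m f₀.1 f₀.2
  obtain ⟨d₀, hd₀⟩ : ∃ d₀ : ℕ, deg f₀.1 = d₀ := ⟨(deg f₀.1).toNat, by have := hdeg f₀.1; omega⟩
  have hd₀pos : 0 < d₀ := by have := hdeg f₀.1; omega
  have hmin : ∀ (f : s) (hf : φ f ≠ 0), (m₀ : ℤ) * deg f ≤ d₀ * m f hf := fun f hf => by
    have h := hf₀ ⟨f, hf⟩
    rw [div_le_div_iff₀ (by exact_mod_cast hdeg f₀.1) (by exact_mod_cast hdeg f)] at h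
    have h2 : (m₀ : ℤ) * deg f ≤ (m f hf : ℤ) * deg f₀.1 := by exact_mod_cast h
    rw [hd₀] at h2
    linarith
  have hm₀ : 0 < m₀ := by
    rcases Nat.eq_zero_or_pos m₀ with h | h
    · have h1 : φ f₀.1 ∈ IsLocalRing.maximalIdeal R :=
        hle (Ideal.mem_map_of_mem φ (Ideal.subset_span ⟨deg f₀.1, hdeg _, hmem _⟩))
      rw [hu f₀.1 f₀.2, show m f₀.1 f₀.2 = 0 from h, pow_zero, mul_one] at h1
      exact absurd (u f₀.1 f₀.2).isUnit h1
    · exact h
  obtain ⟨hirr, hdom, hdvr, -, hmaxmap, -⟩ :=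
    Groth.Agent.S1987.result R π hπ (2 * d₀) (by omega)
  let P : Polynomial R := Polynomial.X ^ (2 * d₀) - Polynomial.C π
  let R' := AdjoinRoot P
  let x : R' := AdjoinRoot.root P
  have hxn : x ^ (2 * d₀) = algebraMap R R' π := by
    have h := AdjoinRoot.eval₂_root P
    rw [Polynomial.eval₂_sub, Polynomial.eval₂_pow, Polynomial.eval₂_X, Polynomial.eval₂_C,
      sub_eq_zero] at h
    exact h
  have hmon : P.Monic := Polynomial.monic_X_pow_sub_C _ (by omega)
  haveI : Module.Finite R R' := hmon.finite_adjoinRoot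
  haveI : Algebra.IsIntegral R R' := Algebra.IsIntegral.of_finite _ _
  have hinj : Function.Injective (algebraMap R R') := AdjoinRoot.of.injective_of_degree_ne_zero (by
    rw [Polynomial.degree_eq_natDegree hmon.ne_zero, Polynomial.natDegree_X_pow_sub_C]
    exact_mod_cast (show 2 * d₀ ≠ 0 by omega))
  have hx0 : x ≠ 0 := fun h => hπ.ne_zero (hinj (by rw [← hxn, h, zero_pow (by omega), map_zero]))
  have hxmax : x ∈ IsLocalRing.maximalIdeal R' := by
    refine (IsLocalRing.maximalIdeal.isMaximal R').isPrime.mem_of_pow_mem (2 * d₀) ?_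
    rw [hxn]
    refine Ideal.pow_le_self (show 2 * d₀ ≠ 0 by omega) (hmaxmap ▸ Ideal.mem_map_of_mem _ ?_)
    rw [hmax]
    exact Ideal.mem_span_singleton_self π
  let K' := FractionRing R'
  haveI : IsScalarTower R R' K' := inferInstance
  let ι : R →+* K' := algebraMap R K'
  have hι : Function.Injective ι := by
    show Function.Injective (algebraMap R K')
    rw [IsScalarTower.algebraMap_eq R R' K']
    exact (IsFractionRing.injective R' K').comp hinj
  letI : Algebra K K' := (IsFractionRing.lift hι : K →+* K').toAlgebra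
  haveI : IsScalarTower R K K' :=
    IsScalarTower.of_algebraMap_eq fun r => (IsFractionRing.lift_algebraMap hι r).symm
  haveI : IsLocalHom (algebraMap R R') := ⟨fun r hr => by
    by_contra h
    have h1 : algebraMap R R' r ∈ IsLocalRing.maximalIdeal R' :=
      Ideal.pow_le_self (show 2 * d₀ ≠ 0 by omega) (hmaxmap ▸ Ideal.mem_map_of_mem _ h)
    exact h1 hr⟩
  let xK : K' := algebraMap R' K' x
  have hxK : IsIntegral K xK := by
    have h1 : IsIntegral R xK := (Algebra.IsIntegral.isIntegral (R := R) x).map (IsScalarTower.toAlgHom R R' K')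
    exact h1.tower_top
  haveI : Module.Finite K K' := by
    haveI := IntermediateField.adjoin.finiteDimensional hxK
    have hmemR : ∀ r : R', algebraMap R' K' r ∈ IntermediateField.adjoin K {xK} := fun r => by
      obtain ⟨q, rfl⟩ := AdjoinRoot.mk_surjective r
      induction q using Polynomial.induction_on' with
      | add a b ha hb => rw [map_add, map_add]; exact add_mem ha hb
      | monomial i c =>
        rw [← Polynomial.C_mul_X_pow_eq_monomial, map_mul, map_pow, AdjoinRoot.mk_C, AdjoinRoot.mk_X,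
          map_mul, map_pow]
        refine mul_mem ?_ (pow_mem (IntermediateField.mem_adjoin_simple_self K xK) i)
        show algebraMap R K' c ∈ _
        rw [IsScalarTower.algebraMap_apply R K K']
        exact (IntermediateField.adjoin K {xK}).algebraMap_mem _
    have htop : IntermediateField.adjoin K {xK} = ⊤ := eq_top_iff.2 fun z _ => by
      obtain ⟨a, b, -, rfl⟩ := IsFractionRing.div_surjective (A := R') z
      exact div_mem (hmemR a) (hmemR b)
    exact Module.Finite.equiv ((IntermediateField.equivOfEq htop).trans IntermediateField.topEquiv).toLinearEquiv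
  let ψ : A →+* R' := (algebraMap R R').comp φ
  have key : ∀ (d : ℕ) (a : A), a ∈ 𝒜 d → x ^ (2 * m₀ * d) ∣ ψ a := by
    intro d
    induction d using Nat.strong_induction_on with
    | _ d ih =>
    intro a ha
    rcases Nat.eq_zero_or_pos d with rfl | hd
    · simp
    have ha' : a ∈ Ideal.span (s : Set A) := hspan ▸ Ideal.subset_span ⟨d, by exact_mod_cast hd, ha⟩
    obtain ⟨n, c, f, hf⟩ := Submodule.mem_span_set'.1 ha'
    let fs : Fin n → s := fun i => ⟨(f i).1, (f i).2⟩
    have ha2 : a = ∑ i, (DirectSum.decompose 𝒜 (c i) ((d : ℤ) - deg (fs i)) : A) * (f i).1 := by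
      have h0 := congrArg (GradedRing.proj 𝒜 (d : ℤ)) hf
      rw [map_sum] at h0
      simp only [GradedRing.proj_apply, smul_eq_mul] at h0
      rw [DirectSum.decompose_of_mem_same 𝒜 ha] at h0
      rw [← h0]
      refine Finset.sum_congr rfl fun i _ => ?_
      conv_lhs => rw [show (d : ℤ) = ((d : ℤ) - deg (fs i)) + deg (fs i) by ring]
      exact DirectSum.coe_decompose_mul_add_of_right_mem 𝒜 (hmem (fs i))
    rw [ha2, map_sum]
    refine Finset.dvd_sum fun i _ => ?_
    rw [map_mul]
    show _ ∣ _ * algebraMap R R' (φ (fs i))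
    by_cases hφ : φ (fs i) = 0
    · simp [hφ]
    rw [hu _ hφ, map_mul, map_pow, ← hxn, ← pow_mul]
    obtain ⟨e, he⟩ : ∃ e : ℕ, deg (fs i) = e := ⟨(deg (fs i)).toNat, by have := hdeg (fs i); omega⟩
    have hm : m₀ * e ≤ d₀ * m _ hφ := by
      have := hmin _ hφ
      rw [he] at this
      exact_mod_cast this
    have he0 : 0 < e := by have := hdeg (fs i); omega
    by_cases hle' : e ≤ d
    · have hc := ih (d - e) (by omega) _ (Subtype.prop (DirectSum.decompose 𝒜 (c i) ((d - e : ℕ) : ℤ)))
      rw [he, show (d : ℤ) - (e : ℤ) = ((d - e : ℕ) : ℤ) by omega]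
      refine dvd_trans (pow_dvd_pow x (show 2 * m₀ * d ≤ 2 * m₀ * (d - e) + 2 * d₀ * m _ hφ by
        have : 2 * m₀ * d = 2 * m₀ * (d - e) + 2 * (m₀ * e) := by
          rw [← mul_assoc, ← mul_add, Nat.sub_add_cancel hle']
        have h2 : 2 * d₀ * m _ hφ = 2 * (d₀ * m _ hφ) := mul_assoc _ _ _
        omega)) ?_
      rw [pow_add]
      exact mul_dvd_mul hc (dvd_mul_left _ _)
    · refine dvd_trans (pow_dvd_pow x (show 2 * m₀ * d ≤ 2 * d₀ * m _ hφ by
        rw [mul_assoc, mul_assoc]
        exact Nat.mul_le_mul_left 2 ((Nat.mul_le_mul_left m₀ (by omega : d ≤ e)).trans hm))) ?_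
      exact dvd_mul_of_dvd_right (dvd_mul_left _ _) _
  let ϖ : R' := x ^ (2 * m₀)
  let w : K' := algebraMap R' K' ϖ
  have hw : w ≠ 0 := (map_ne_zero_iff _ (IsFractionRing.injective R' K')).2 (pow_ne_zero _ hx0)
  let G₀ : ∀ d : ℤ, 𝒜 d →+ K' := fun d =>
    (AddMonoidHom.mulRight (w ^ (-d))).comp ((ι.comp φ).toAddMonoidHom.comp (𝒜 d).subtype)
  have hone : G₀ 0 (GradedMonoid.GOne.one (A := fun i => 𝒜 i)) = 1 := by
    show ι (φ 1) * w ^ (-(0 : ℤ)) = 1
    simp
  have hmul : ∀ {i j : ℤ} (ai : 𝒜 i) (aj : 𝒜 j),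
      G₀ (i + j) (GradedMonoid.GMul.mul (A := fun i => 𝒜 i) ai aj) = G₀ _ ai * G₀ _ aj := fun {i j} ai aj => by
    show ι (φ (ai.1 * aj.1)) * w ^ (-(i + j)) = ι (φ ai.1) * w ^ (-i) * (ι (φ aj.1) * w ^ (-j))
    rw [map_mul, map_mul, neg_add, zpow_add₀ hw]
    ring
  let G : A →+* K' :=
    (DirectSum.toSemiring G₀ hone hmul).comp (DirectSum.decomposeRingEquiv 𝒜).toRingHom
  have hG : ∀ (d : ℤ) (a : A), a ∈ 𝒜 d → G a = ι (φ a) * w ^ (-d) := fun d a ha => by
    show DirectSum.toSemiring G₀ hone hmul (DirectSum.decompose 𝒜 a) = _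
    rw [DirectSum.decompose_of_mem 𝒜 ha, DirectSum.toSemiring_of]
    rfl
  have hψ : ∀ z, ι (φ z) = algebraMap R' K' (ψ z) := fun z =>
    IsScalarTower.algebraMap_apply R R' K' (φ z)
  have hrange : ∀ a, G a ∈ (algebraMap R' K').range := fun a => by
    rw [← DirectSum.sum_support_decompose 𝒜 a, map_sum]
    refine sum_mem fun d _ => ?_
    rw [hG d _ (Subtype.prop _)]
    rcases le_or_gt 0 d with hd | hd
    · obtain ⟨n, rfl⟩ : ∃ n : ℕ, d = n := ⟨d.toNat, by omega⟩
      obtain ⟨q, hq⟩ := key n _ (Subtype.prop (DirectSum.decompose 𝒜 a (n : ℤ)))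
      refine ⟨q, ?_⟩
      rw [hψ, hq, map_mul, zpow_neg, zpow_natCast, pow_mul, map_pow, mul_comm (w ^ n), mul_assoc,
        mul_inv_cancel₀ (pow_ne_zero _ hw), mul_one]
    · obtain ⟨n, rfl⟩ : ∃ n : ℕ, d = -(n : ℤ) := ⟨(-d).toNat, by omega⟩
      exact ⟨ψ _ * ϖ ^ n, by rw [neg_neg, zpow_natCast, hψ, map_mul, map_pow (algebraMap R' K') ϖ n]⟩
  choose g₀ hg₀ using hrange
  let g : A →+* R' :=
    { toFun := g₀
      map_one' := IsFractionRing.injective R' K' (by rw [hg₀, map_one, map_one])
      map_zero' := IsFractionRing.injective R' K' (by rw [hg₀, map_zero, map_zero])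
      map_add' := fun a b => IsFractionRing.injective R' K' (by rw [hg₀, map_add, map_add, hg₀, hg₀])
      map_mul' := fun a b => IsFractionRing.injective R' K' (by rw [hg₀, map_mul, map_mul, hg₀, hg₀]) }
  refine ⟨R', inferInstance, hdom, hdvr, K', inferInstance, inferInstance, inferInstance, inferInstance,
    inferInstance, inferInstance, inferInstance, inferInstance, inferInstance, inferInstance, ϖ, g,
    pow_ne_zero _ hx0, Ideal.pow_mem_of_mem _ hxmax _ (by omega), fun d a ha => ?_, ?_⟩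
  · show algebraMap R' K' (g₀ a) * w ^ d = algebraMap R K' (φ a)
    rw [hg₀, hG d a ha, mul_assoc, ← zpow_add₀ hw, neg_add_cancel, zpow_zero, mul_one]
  · refine Ideal.eq_top_of_isUnit_mem _
      (Ideal.mem_map_of_mem g (Ideal.subset_span ⟨deg f₀.1, hdeg _, hmem _⟩)) ?_
    have h : g₀ (f₀.1 : A) = algebraMap R R' (u f₀.1 f₀.2 : R) := IsFractionRing.injective R' K' (by
      rw [hg₀, hG _ _ (hmem _), hd₀, zpow_neg, zpow_natCast, hψ, RingHom.comp_apply, hu _ f₀.2, map_mul,
        map_pow, ← hxn, map_mul, map_pow, map_pow, ← pow_mul]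
      show _ * _ * ((algebraMap R' K' (x ^ (2 * m₀))) ^ d₀)⁻¹ = _
      rw [map_pow, ← pow_mul, mul_assoc]
      rw [show 2 * d₀ * m f₀.1 f₀.2 = 2 * m₀ * d₀ from mul_right_comm _ _ _]
      rw [mul_inv_cancel₀ (pow_ne_zero _ ((map_ne_zero_iff _ (IsFractionRing.injective R' K')).2 hx0)),
        mul_one])
    show IsUnit (g₀ (f₀.1 : A))
    rw [h]
    exact (u f₀.1 f₀.2).isUnit.map _

end Groth.Agent.S14123
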