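import Groth.Statements.S14128
import Mathlib.RingTheory.Nakayama
import Mathlib.Algebra.Homology.ShortComplex.ModuleCat
import Groth.Agent.CommAlgDim.CM
import Groth.Agent.AcyclicTorLib


-- import your own Groth.Agent.* helpers here

set_option autoImplicit false
universe u
open CategoryTheory CategoryTheory.Limits
open LocAlg

namespace Groth.Agent.S14128

/-- Let R be a regular local ring of Krull dimension g and M = (M^0 → M^1 → ⋯ → M^g) a perfect complex
over R, here a cochain complex of finitely generated free R-modules indexed by ℕ with M^i = 0 for i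
> g, such that every cohomology module H^i(M) has finite length. Then H^i(M) = 0 for all i < g, so
that M has cohomology at most in degree g. -/
theorem result (R : Type u) [CommRing R]
    [IsRegularLocalRing R] (g : ℕ) (hg : ringKrullDim R = g) (M : CochainComplex (ModuleCat.{u} R) ℕ)
    (hbd : ∀ i, g < i → IsZero (M.X i)) (hfree : ∀ i, Module.Free R (M.X i) ∧ Module.Finite R (M.X i))
    (hfl : ∀ i, IsFiniteLength R (M.homology i)) (i : ℕ) (hi : i < g) :
    IsZero (M.homology i) := by
  classical
  let X : ℕ → Type u := fun j => M.X j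
  let d : ∀ j, X j →ₗ[R] X (j + 1) := fun j => (M.d j (j + 1)).hom
  have hdd : ∀ j x, d (j + 1) (d j x) = 0 := fun j x => by
    show (M.d (j + 1) (j + 1 + 1)).hom ((M.d j (j + 1)).hom x) = 0
    rw [← ModuleCat.comp_apply, M.d_comp_d]; rfl
  have hprev : ∀ j, (ComplexShape.up ℕ).prev j = j - 1 := fun j => by
    cases j with
    | zero => exact CochainComplex.prev_nat_zero
    | succ l => exact CochainComplex.prev_nat_succ l
  have himg : ∀ j, LinearMap.range (M.d (j - 1) j).hom = AcyclicTorLib.img d j := fun j => by
    cases j with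
    | zero =>
      show LinearMap.range (M.d 0 0).hom = ⊥
      rw [M.shape 0 0 (by simp)]; simp
    | succ l => rfl
  -- homology classes are killed by powers of elements of the maximal ideal
  have htor : ∀ j y, d j y = 0 → ∀ a ∈ IsLocalRing.maximalIdeal R,
      ∃ N : ℕ, a ^ N • y ∈ AcyclicTorLib.img d j := by
    intro j y hy a ha
    let S := M.sc' (j - 1) j (j + 1)
    let e : M.homology j ≅ S.moduleCatLeftHomologyData.H :=
      M.homologyIsoSc' (j - 1) j (j + 1) (hprev j) (CochainComplex.next ℕ j) ≪≫ S.moduleCatHomologyIso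
    let H := LinearMap.ker S.g.hom ⧸ LinearMap.range S.moduleCatToCycles
    have hH : IsFiniteLength R H := (hfl j).of_surjective (f := e.toLinearEquiv.toLinearMap) e.toLinearEquiv.surjective
    obtain ⟨hN, hA⟩ := isFiniteLength_iff_isNoetherian_isArtinian.1 hH
    obtain ⟨N, hN'⟩ := IsArtinian.monotone_stabilizes (R := R) (M := H)
      ⟨fun k => OrderDual.toDual ((Ideal.span {a} ^ k) • (⊤ : Submodule R H)),
        fun k l hkl => Submodule.smul_mono_left (Ideal.pow_le_pow_right hkl)⟩
    have h0 : (Ideal.span {a} ^ N) • (⊤ : Submodule R H) = ⊥ := by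
      refine Submodule.eq_bot_of_le_smul_of_le_jacobson_bot (Ideal.span {a}) _ (IsNoetherian.noetherian _) ?_ ?_
      · rw [← Submodule.mul_smul, ← pow_succ']
        exact le_of_eq (congrArg OrderDual.ofDual (hN' (N + 1) (Nat.le_succ N)))
      · exact ((Ideal.span_singleton_le_iff_mem _).2 ha).trans (IsLocalRing.maximalIdeal_le_jacobson _)
    refine ⟨N, ?_⟩
    have h1 : a ^ N • (Submodule.Quotient.mk (⟨y, hy⟩ : LinearMap.ker S.g.hom) : H) = 0 := by
      rw [← Submodule.mem_bot R, ← h0]
      exact Submodule.smul_mem_smul (Ideal.pow_mem_pow (Ideal.mem_span_singleton_self a) N) Submodule.mem_top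
    rw [← Submodule.Quotient.mk_smul, Submodule.Quotient.mk_eq_zero] at h1
    obtain ⟨w, hw⟩ := h1
    rw [← himg]
    exact ⟨w, congrArg Subtype.val hw⟩
  -- a regular sequence on every term
  obtain ⟨rs, hrs, hlen⟩ := CommAlgDim.isCM_of_isRegularLocalRing R
  have hlg : rs.length = g := by rw [hg] at hlen; exact_mod_cast hlen.symm
  have hreg : ∀ j, RingTheory.Sequence.IsWeaklyRegular (X j) rs := fun j => by
    have := (hfree j).1
    have := (hfree j).2
    let b := Module.finBasis R (M.X j)
    exact (b.equivFun.isWeaklyRegular_congr rs).2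
      (AcyclicTorLib.isWeaklyRegular_pi rs R hrs.toIsWeaklyRegular)
  have hex := AcyclicTorLib.mem_img_of_torsion rs (IsLocalRing.maximalIdeal R)
    (IsLocalRing.maximalIdeal_le_jacobson _) (CommAlgDim.mem_maximalIdeal_of_isRegular hrs) X d hdd hreg
    (fun j _ y hy a ha => htor j y hy a ha) i (hlg ▸ hi)
  rw [← HomologicalComplex.exactAt_iff_isZero_homology,
    M.exactAt_iff' (i - 1) i (i + 1) (hprev i) (CochainComplex.next ℕ i), CategoryTheory.ShortComplex.moduleCat_exact_iff]
  intro y hy
  have := hex y hy
  rw [← himg] at this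
  exact this

end Groth.Agent.S14128
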