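import Groth.Statements.S14139
import Mathlib
import Groth.Agent.CurveVBLib.Line
import Groth.Agent.CurveVBLib.Integral
-- import your own Groth.Agent.* helpers here

set_option autoImplicit false
universe u
open CategoryTheory CategoryTheory.Limits AlgebraicGeometry
open VBCurve

namespace Groth.Agent.S14139

/-- Let C be a smooth proper geometrically connected curve over a field k (proper, smooth and
geometrically connected over k, of dimension one), and 0 → E₁ → E → E₂ → 0 a short exact sequence of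
finite locally free O_C-modules of ranks r₁, r, r₂ ≥ 1 whose slopes are all equal: deg E₁ · r = deg
E · r₁ and deg E₂ · r = deg E · r₂, the degree of a rank-n locally free module being χ − n·χ(O_C).
Then E is semistable (deg G · r ≤ deg E · r' for every finite locally free submodule G of E of rank
r' ≥ 1) if and only if both E₁ and E₂ are semistable in the same sense. -/
theorem result (k : Type u) [Field k] (X : Scheme.{u}) [X.Over (Spec (CommRingCat.of k))]
    [IsProper (X ↘ Spec (CommRingCat.of k))] [Smooth (X ↘ Spec (CommRingCat.of k))]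
    [GeometricallyConnected (X ↘ Spec (CommRingCat.of k))] (hdim : topologicalKrullDim ↥X = 1)
    (T : ShortComplex X.Modules) (hT : T.ShortExact)
    (r₁ r r₂ : ℕ) (hr₁ : 0 < r₁) (hr : 0 < r) (hr₂ : 0 < r₂)
    (hE₁ : FlatMod.IsFinLocFreeOfRank r₁ T.X₁) (hE : FlatMod.IsFinLocFreeOfRank r T.X₂) (hE₂ : FlatMod.IsFinLocFreeOfRank r₂ T.X₃)
    (hμ₁ : Curv2.deg k X T.X₁ r₁ * (r : ℤ) = Curv2.deg k X T.X₂ r * (r₁ : ℤ))
    (hμ₂ : Curv2.deg k X T.X₃ r₂ * (r : ℤ) = Curv2.deg k X T.X₂ r * (r₂ : ℤ)) :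
    (∀ (G : X.Modules) (r' : ℕ) (i : G ⟶ T.X₂), Mono i → 0 < r' → FlatMod.IsFinLocFreeOfRank r' G →
      Curv2.deg k X G r' * (r : ℤ) ≤ Curv2.deg k X T.X₂ r * (r' : ℤ)) ↔
      ((∀ (G : X.Modules) (r' : ℕ) (i : G ⟶ T.X₁), Mono i → 0 < r' → FlatMod.IsFinLocFreeOfRank r' G →
      Curv2.deg k X G r' * (r₁ : ℤ) ≤ Curv2.deg k X T.X₁ r₁ * (r' : ℤ)) ∧
       (∀ (G : X.Modules) (r' : ℕ) (i : G ⟶ T.X₃), Mono i → 0 < r' → FlatMod.IsFinLocFreeOfRank r' G →
      Curv2.deg k X G r' * (r₂ : ℤ) ≤ Curv2.deg k X T.X₃ r₂ * (r' : ℤ))) := by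
  haveI := CurveVBLib.isIntegral_of_smooth_geomConnected (X := X) k
  haveI := CurvLib.isNoetherian k (X := X)
  haveI := hT.mono_f
  haveI := hT.epi_g
  have h1c := CurvLib.isCoh_of_locFree hE₁
  have h2c := CurvLib.isCoh_of_locFree hE
  have h3c := CurvLib.isCoh_of_locFree hE₂
  simp only [CurveVBLib.deg_eq_dg hE, CurveVBLib.deg_eq_dg hE₁, CurveVBLib.deg_eq_dg hE₂] at hμ₁ hμ₂ ⊢
  have hrsum : CurvLib.genRank T.X₂ = CurvLib.genRank T.X₁ + CurvLib.genRank T.X₃ := CurvLib.genRank_add hT h1c h2c h3c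
  have hdsum : CurveVBLib.dg k T.X₂ = CurveVBLib.dg k T.X₁ + CurveVBLib.dg k T.X₃ := CurveVBLib.dg_add (k := k) hT h1c h2c h3c
  rw [CurveVBLib.genRank_eq hE, CurveVBLib.genRank_eq hE₁, CurveVBLib.genRank_eq hE₂] at hrsum
  have hrZ : (0 : ℤ) < r := by exact_mod_cast hr
  have hr1Z : (0 : ℤ) < r₁ := by exact_mod_cast hr₁
  have hr2Z : (0 : ℤ) < r₂ := by exact_mod_cast hr₂
  constructor
  · intro h
    refine ⟨fun G r' i hi h0 hG => ?_, fun G r' i hi h0 hG => ?_⟩
    · haveI := hi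
      have := h G r' (i ≫ T.f) inferInstance h0 hG
      refine le_of_mul_le_mul_right ?_ hrZ
      nlinarith [mul_le_mul_of_nonneg_right this hr1Z.le, congrArg (fun t : ℤ => t * (r' : ℤ)) hμ₁]
    · haveI := hi
      let eC : T.X₃ ≅ cokernel T.f := IsColimit.coconePointUniqueUpToIso hT.gIsCokernel (colimit.isColimit _)
      obtain ⟨J, a, ha, hJ, hrJ, hdJ⟩ := CurveVBLib.preimage_data (k := k) hE T.f h1c (i ≫ eC.hom) (CurvLib.isCoh_of_locFree hG)
      rw [CurveVBLib.genRank_eq hE₁, CurveVBLib.genRank_eq hG] at hrJ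
      have hJr := (CurveVBLib.sub_data (k := k) hdim hE a hJ).1
      have := h J _ a ha (by omega) hJr
      rw [CurveVBLib.deg_eq_dg hJr, hdJ, hrJ] at this
      rw [CurveVBLib.deg_eq_dg hG]
      push_cast at this
      refine le_of_mul_le_mul_right ?_ hrZ
      nlinarith [mul_le_mul_of_nonneg_right this hr2Z.le, congrArg (fun t : ℤ => t * (r' : ℤ)) hμ₂,
        congrArg (fun t : ℤ => t * (r₂ : ℤ)) hμ₁]
  · intro h G r' i hi h0 hG
    haveI := hi
    have hGc := CurvLib.isCoh_of_locFree hG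
    obtain ⟨hK, hI, hrk, hdg⟩ := CurveVBLib.ker_im_data (k := k) hGc h3c (i ≫ T.g)
    rw [CurveVBLib.genRank_eq hG] at hrk
    let l := hT.exact.lift (kernel.ι (i ≫ T.g) ≫ i) (by rw [Category.assoc, kernel.condition])
    haveI : Mono (l ≫ T.f) := by rw [hT.exact.lift_f]; infer_instance
    haveI : Mono l := mono_of_mono l T.f
    have a1 := CurveVBLib.sub_le (k := k) hdim hE₁ (fun G r' i hi h0 hG => by
      rw [CurveVBLib.deg_eq_dg hE₁]; exact h.1 G r' i hi h0 hG) l hK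
    have a2 := CurveVBLib.sub_le (k := k) hdim hE₂ (fun G r' i hi h0 hG => by
      rw [CurveVBLib.deg_eq_dg hE₂]; exact h.2 G r' i hi h0 hG) (Abelian.image.ι (i ≫ T.g)) hI
    rw [CurveVBLib.deg_eq_dg hG, hdg, hrk]
    push_cast
    have b1 : CurveVBLib.dg k (kernel (i ≫ T.g)) * (r : ℤ) ≤ CurveVBLib.dg k T.X₂ * (CurvLib.genRank (kernel (i ≫ T.g)) : ℤ) := by
      refine le_of_mul_le_mul_right ?_ hr1Z
      nlinarith [mul_le_mul_of_nonneg_right a1 hrZ.le, congrArg (fun t : ℤ => t * (CurvLib.genRank (kernel (i ≫ T.g)) : ℤ)) hμ₁]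
    have b2 : CurveVBLib.dg k (Abelian.image (i ≫ T.g)) * (r : ℤ) ≤ CurveVBLib.dg k T.X₂ * (CurvLib.genRank (Abelian.image (i ≫ T.g)) : ℤ) := by
      refine le_of_mul_le_mul_right ?_ hr2Z
      nlinarith [mul_le_mul_of_nonneg_right a2 hrZ.le, congrArg (fun t : ℤ => t * (CurvLib.genRank (Abelian.image (i ≫ T.g)) : ℤ)) hμ₂]
    linarith

end Groth.Agent.S14139
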