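import Groth.Statements.S1414
import Mathlib
-- import your own Groth.Agent.* helpers here

set_option autoImplicit false
universe u
open FlatMor

namespace Groth.Agent.S1414

open CategoryTheory CategoryTheory.Limits AlgebraicGeometry

open AlgebraicGeometry CategoryTheory Limits in
/-- Let f : X → Y and g : Y → Z with f ≫ g smooth and g étale. Then f is smooth. -/
theorem result {X Y Z : Scheme.{u}} (f : X ⟶ Y) (g : Y ⟶ Z) [Smooth (f ≫ g)] [Etale g] : Smooth f := by
  have hd : Smooth (pullback.diagonal g) := inferInstance
  let Γf : X ⟶ pullback (f ≫ g) g := pullback.lift (𝟙 X) f (by simp)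
  haveI : Smooth Γf :=
    MorphismProperty.of_isPullback (pullback_lift_diagonal_isPullback f g) hd
  rw [show f = Γf ≫ pullback.snd _ _ from (pullback.lift_snd _ _ _).symm]
  infer_instance

end Groth.Agent.S1414
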