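import Groth.Statements.S14140
import Groth.Agent.AVVanishLib.PhiSurj
import Groth.Agent.AVAmpleLib.KLPoints
import Groth.Agent.CubeConsLib.Transpose
set_option backward.isDefEq.respectTransparency false
set_option linter.style.haveILetI false

set_option autoImplicit false
universe u
open CategoryTheory CategoryTheory.Limits MonoidalCategory CartesianMonoidalCategory MonObj GrpObj AlgebraicGeometry
open AbVar

namespace Groth.Agent.S14140

/-- Let k be an algebraically closed field, A an abelian variety over k (a proper smooth k-group scheme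
with geometrically connected fibres), L an ample invertible O_A-module with an inverse L' (L ⊗ L' ≅
O_A), and M an invertible O_A-module in Pic⁰(A), meaning that t_x^*M ≅ M for every k-rational point
x of A, where t_x : A → A is the translation by x (the product of the identity and the constant map
x in the group Hom(A, A)). Then there is a k-rational point x of A with M ≅ t_x^*L ⊗ L'. -/
theorem result (k : Type u) [Field k] [IsAlgClosed k]
    (A : Over (Spec (CommRingCat.of k))) [GrpObj A] [IsProper A.hom] [Smooth A.hom] [GeometricallyConnected A.hom]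
    (L L' : A.left.Modules) (hLa : CohB1.IsAmple L) (hLL' : Nonempty (CohB1.tensorMod L L' ≅ Coh.structureModule A.left))
    (M : A.left.Modules) (hM : PicF.IsInvertible M)
    (hM0 : ∀ x : 𝟙_ (Over (Spec (CommRingCat.of k))) ⟶ A, Nonempty ((Scheme.Modules.pullback (𝟙 A * (toUnit A ≫ x)).left).obj M ≅ M)) :
    ∃ x : 𝟙_ (Over (Spec (CommRingCat.of k))) ⟶ A,
      Nonempty (M ≅ CohB1.tensorMod ((Scheme.Modules.pullback (𝟙 A * (toUnit A ≫ x)).left).obj L) L') := by
  haveI := CubeConsLib.geometricallyIntegral_of_smooth_group A
  have hL : PicF.IsInvertible L := hLa.1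
  have hL'i : PicF.IsInvertible L' := CohCmpLib.isInvertible_of_inverse' hL hLL'.some
  have hadd : CubeConsLib.IsAdditive hM := CubeConsLib.isAdditive_of_translationInvariant hM fun a => by
    rw [CubeConsLib.P_eq hM, CubeConsLib.P_id, CubeConsLib.clA_eq_iff]
    exact hM0 a
  obtain ⟨a, ha⟩ := AVVanishLib.exists_phi_eq hadd (AVAmpleLib.finite_translationFixing hL hLa)
  refine ⟨a, (CubeConsLib.clA_eq_iff hM
    (HilbPolyLib.isInvertible_tensor (AmpleDevLib.isInvertible_pb _ hL) hL'i)).1 ?_⟩
  have e := (CubeConsLib.clA_eq_iff (HilbPolyLib.isInvertible_tensor hL hL'i)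
    (CubeConsLib.isInvertible_one _)).2 hLL'
  rw [CubeConsLib.clA_tensor hL hL'i, CubeConsLib.clA_one, add_eq_zero_iff_neg_eq] at e
  rw [CubeConsLib.clA_tensor (AmpleDevLib.isInvertible_pb _ hL) hL'i, ha, ← e, sub_eq_add_neg, CubeConsLib.P_eq hL]

end Groth.Agent.S14140
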