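import Groth.Statements.S14141
import Groth.Agent.H0Lib.Apply

set_option autoImplicit false
universe u
open CategoryTheory CategoryTheory.Limits AlgebraicGeometry
open AbSch

namespace Groth.Agent.S14141

/-- Let S be a connected Noetherian scheme, f : X → S a proper flat morphism such that for every point s
of S the natural map κ(s) → H^0(X_s, O_{X_s}) on global sections of the fibre is bijective, g : Y →
S a separated morphism and π : X → Y a morphism over S. If for some point s of S the restriction of
π to the fibre X_s is constant, i.e. factors through the projection X_s → Spec κ(s), then π is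
constant over all of S: it factors as f followed by a section S → Y of g. (The published statement
is for arbitrary Noetherian S with the conclusion over the connected component of s; this row
assumes S connected, the reduction made in the first line of the printed proof.) -/
theorem result {X Y S : Scheme.{u}} [IsNoetherian S] [ConnectedSpace ↥S]
    (f : X ⟶ S) [IsProper f] [Flat f]
    (hfib : ∀ s : ↥S, Function.Bijective (algebraMap (S.residueField s) Γ(f.fiber s, ⊤)))
    (g : Y ⟶ S) [IsSeparated g] (π : X ⟶ Y) (hπ : π ≫ g = f) (s : ↥S)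
    (hs : ∃ y : Spec (S.residueField s) ⟶ Y, f.fiberι s ≫ π = f.fiberToSpecResidueField s ≫ y) :
    ∃ σ : S ⟶ Y, σ ≫ g = 𝟙 S ∧ π = f ≫ σ := by
  have hF := H0Lib.H0Fib.of_fiber f hfib
  haveI := H0Lib.surjective_of_h0Fib f hF
  have hb := H0Lib.bijective_app f hF
  have hcl := H0Lib.isClosed_collapse f π (𝟙 S) g (by rw [Category.comp_id]; exact hπ) hb
  have hop := H0Lib.isOpen_collapse f π hb
  have hmem : s ∈ H0Lib.collapse f π := by
    obtain ⟨y, hy⟩ := hs
    refine ⟨y.base (IsLocalRing.closedPoint _), fun x hx => ?_⟩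
    have hr : x ∈ Set.range (f.fiberι s).base := by rw [f.range_fiberι]; exact hx
    obtain ⟨z, rfl⟩ := hr
    refine (congrArg (fun m : f.fiber s ⟶ Y => m.base z) hy).trans ?_
    exact congrArg y.base (Subsingleton.elim (α := PrimeSpectrum (S.residueField s)) _ _)
  have hu : (⊤ : S.Opens) ≤ ⟨_, hop⟩ := fun t _ => by
    show t ∈ H0Lib.collapse f π
    rw [(IsClopen.eq_univ ⟨hcl, hop⟩ ⟨s, hmem⟩ : H0Lib.collapse f π = Set.univ)]
    trivial
  obtain ⟨k, hk⟩ := H0Lib.exists_factor_on f π hb ⊤ hu
  haveI : IsIso (f ⁻¹ᵁ ⊤).ι := inferInstanceAs (IsIso (Scheme.topIso X).hom)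
  refine ⟨(Scheme.topIso S).inv ≫ k, ?_, ?_⟩
  · refine H0Lib.hom_ext_of_bijective f hb _ _ ?_
    rw [← cancel_epi (f ⁻¹ᵁ ⊤).ι, ← morphismRestrict_ι_assoc, ← morphismRestrict_ι_assoc, Category.comp_id]
    have : (⊤ : S.Opens).ι ≫ (Scheme.topIso S).inv = 𝟙 _ := (Scheme.topIso S).hom_inv_id
    rw [Category.assoc, reassoc_of% this, ← reassoc_of% hk, hπ, morphismRestrict_ι]
  · rw [← cancel_epi (f ⁻¹ᵁ ⊤).ι, hk, ← morphismRestrict_ι_assoc]
    have : (⊤ : S.Opens).ι ≫ (Scheme.topIso S).inv = 𝟙 _ := (Scheme.topIso S).hom_inv_id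
    rw [reassoc_of% this]

end Groth.Agent.S14141
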