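import Groth.Statements.S1415
import Groth.Agent.WeightLib.Stratum

set_option autoImplicit false
universe u
open FlatMor

namespace Groth.Agent.S1415

open AlgebraicGeometry CategoryTheory Limits in
/-- Let f : X → Y be locally quasi-finite. Then (1) for every y the number of irreducible components and
the number of connected components of the geometric fibre over y agree, and (2) if X is
quasi-compact these numbers are bounded by some natural number. -/
theorem result {X Y : Scheme.{u}} (f : X ⟶ Y) [LocallyQuasiFinite f] [LocallyOfFiniteType f] :
    (∀ y : Y, MoreMor.nGeomIrredComp f y = MoreMor.nGeomConnComp f y) ∧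
      (CompactSpace ↑X → ∃ d : ℕ, ∀ y : Y, MoreMor.nGeomConnComp f y ≤ d) := by
  classical
  let κs := fun y : Y => SeparableClosure (Y.residueField y)
  let s := fun y : Y => Spec.map (CommRingCat.ofHom
    (algebraMap (Y.residueField y) (SeparableClosure (Y.residueField y))))
  have hlqf : ∀ y : Y, LocallyQuasiFinite (pullback.snd (f.fiberToSpecResidueField y) (s y)) :=
    fun y => MorphismProperty.pullback_snd _ _ (MorphismProperty.pullback_snd _ _ ‹_›)
  haveI hd : ∀ y : Y, DiscreteTopology ↥(MoreMor.geomFiber f y) := fun y => by
    haveI := hlqf y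
    haveI : IsLocallyArtinian (pullback (f.fiberToSpecResidueField y) (s y)) :=
      .of_locallyQuasiFinite (pullback.snd (f.fiberToSpecResidueField y) (s y))
    exact (inferInstance : DiscreteTopology ↥(pullback (f.fiberToSpecResidueField y) (s y)))
  have hconn : ∀ y : Y, MoreMor.nGeomConnComp f y = ENat.card ↥(MoreMor.geomFiber f y) := fun y =>
    ENat.card_congr (Equiv.ofBijective (fun x : ↥(MoreMor.geomFiber f y) => ConnectedComponents.mk x)
      ⟨fun a b h => by
        rw [ConnectedComponents.coe_eq_coe] at h
        have : a ∈ connectedComponent b := h ▸ mem_connectedComponent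
        rwa [connectedComponent_eq_singleton, Set.mem_singleton_iff] at this,
      ConnectedComponents.surjective_coe⟩).symm
  refine ⟨fun y => ?_, fun hX => ?_⟩
  · rw [hconn, MoreMor.nGeomIrredComp]
    have : irreducibleComponents ↥(MoreMor.geomFiber f y) =
        Set.range fun x : ↥(MoreMor.geomFiber f y) => ({x} : Set _) := by
      ext S
      refine ⟨fun hS => ?_, ?_⟩
      · obtain ⟨x, hx⟩ := hS.1.nonempty
        refine ⟨x, (Set.eq_singleton_iff_unique_mem.mpr ⟨hx, fun z hz => ?_⟩).symm⟩
        exact (hS.1.isPreirreducible.subsingleton) hz hx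
      · rintro ⟨x, rfl⟩
        exact ⟨isIrreducible_singleton, fun T hT hle z hz =>
          hT.isPreirreducible.subsingleton hz (hle rfl)⟩
    rw [this, ← Set.image_univ, Set.InjOn.encard_image (fun a _ b _ h => by simpa using h),
      Set.encard_univ]
  · haveI := hX
    obtain ⟨d, hd'⟩ := WeightLib.exists_gpts_bound f
    refine ⟨d, fun y => ?_⟩
    rw [hconn]
    haveI := hlqf y
    let P := pullback (f.fiberToSpecResidueField y) (s y)
    let π : P ⟶ _ := pullback.snd (f.fiberToSpecResidueField y) (s y)
    have hc : IsPullback (pullback.fst (f.fiberToSpecResidueField y) (s y) ≫ f.fiberι y) π f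
        (s y ≫ Y.fromSpecResidueField y) :=
      (IsPullback.of_hasPullback _ _).paste_horiz (IsPullback.of_hasPullback _ _)
    let pt : Spec (.of (SeparableClosure (Y.residueField y))) :=
      IsLocalRing.closedPoint (SeparableClosure (Y.residueField y))
    let pv := WeightLib.gpt (V := Spec (.of (SeparableClosure (Y.residueField y)))) pt
    obtain ⟨hfin, hle⟩ := hd' _ (pv ≫ s y ≫ Y.fromSpecResidueField y)
    let e := WeightLib.gptsPullbackEquiv hc pv
    have hex : ∀ p : P, ∃ q : WeightLib.GPts π pv, WeightLib.img q.1 = p := fun p =>
      WeightLib.exists_gpt π p pv (Subsingleton.elim _ _)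
    choose q hq using hex
    have hinj : Function.Injective fun p => e (q p) := fun a b h => by
      rw [← hq a, ← hq b, e.injective h]
    haveI : Finite P := Finite.of_injective _ hinj
    change ENat.card P ≤ d
    rw [ENat.card_eq_coe_natCard]
    exact_mod_cast (Nat.card_le_card_of_injective _ hinj).trans hle

end Groth.Agent.S1415
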