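import Groth.Statements.S14151
import Mathlib
import Groth.Agent.CurveVBLib.Line
import Groth.Agent.CurveVBLib.Integral
-- import your own Groth.Agent.* helpers here

set_option autoImplicit false
universe u
open CategoryTheory CategoryTheory.Limits AlgebraicGeometry
open VBCurve

namespace Groth.Agent.S14151

/-- Let C be a smooth proper geometrically connected curve over a field k (proper, smooth and
geometrically connected over k, of dimension one) and E a finite locally free O_C-module of rank r ≥
1; degrees of rank-n locally free modules are χ − n·χ(O_C) and slopes are compared by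
cross-multiplication. Then: E is semistable in the sense of quotients (μ(E) ≤ μ(F) for every locally
free quotient E ↠ F of rank s ≥ 1) if and only if μ(G) ≤ μ(E) for every finite locally free
submodule G of E of rank r' ≥ 1; and E is stable in the sense of quotients (μ(E) < μ(F) for every
such quotient map which is not an isomorphism) if and only if μ(G) < μ(E) for every such submodule
whose inclusion is not an isomorphism. (The printed lemma says every nonzero subsheaf; for the
strict inequalities the subsheaf and the quotient must be proper, as its proof uses.) -/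
theorem result (k : Type u) [Field k] (X : Scheme.{u}) [X.Over (Spec (CommRingCat.of k))]
    [IsProper (X ↘ Spec (CommRingCat.of k))] [Smooth (X ↘ Spec (CommRingCat.of k))]
    [GeometricallyConnected (X ↘ Spec (CommRingCat.of k))] (hdim : topologicalKrullDim ↥X = 1)
    (r : ℕ) (hr : 0 < r) (E : X.Modules) (hE : FlatMod.IsFinLocFreeOfRank r E) :
    ((∀ (F : X.Modules) (s : ℕ) (p : E ⟶ F), Epi p → 0 < s → FlatMod.IsFinLocFreeOfRank s F →
      Curv2.deg k X E r * (s : ℤ) ≤ Curv2.deg k X F s * (r : ℤ)) ↔
      (∀ (G : X.Modules) (r' : ℕ) (i : G ⟶ E), Mono i → 0 < r' → FlatMod.IsFinLocFreeOfRank r' G →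
      Curv2.deg k X G r' * (r : ℤ) ≤ Curv2.deg k X E r * (r' : ℤ))) ∧
    ((∀ (F : X.Modules) (s : ℕ) (p : E ⟶ F), Epi p → 0 < s → FlatMod.IsFinLocFreeOfRank s F → (¬ IsIso p) →
      Curv2.deg k X E r * (s : ℤ) < Curv2.deg k X F s * (r : ℤ)) ↔
      (∀ (G : X.Modules) (r' : ℕ) (i : G ⟶ E), Mono i → 0 < r' → FlatMod.IsFinLocFreeOfRank r' G → (¬ IsIso i) →
      Curv2.deg k X G r' * (r : ℤ) < Curv2.deg k X E r * (r' : ℤ))) := by
  haveI := CurveVBLib.isIntegral_of_smooth_geomConnected (X := X) k
  haveI := CurvLib.isNoetherian k (X := X)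
  have hEc := CurvLib.isCoh_of_locFree hE
  have hrZ : (0 : ℤ) < r := by exact_mod_cast hr
  have q2s : ∀ {F : X.Modules} {s : ℕ} (p : E ⟶ F) [Epi p], FlatMod.IsFinLocFreeOfRank s F →
      ∃ (G : X.Modules) (i : G ⟶ E), Mono i ∧ FlatMod.IsFinLocFreeOfRank (CurvLib.genRank G) G ∧ r = CurvLib.genRank G + s ∧
        CurveVBLib.dg k E = CurveVBLib.dg k G + CurveVBLib.dg k F ∧ (IsIso i → s = 0) ∧ (CurvLib.genRank G = 0 → IsIso p) := by
    intro F s p _ hF
    obtain ⟨hK, hrk, hdg⟩ := CurveVBLib.epi_data (k := k) hEc (CurvLib.isCoh_of_locFree hF) p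
    rw [CurveVBLib.genRank_eq hE, CurveVBLib.genRank_eq hF] at hrk
    obtain ⟨hKr, -, hsum, -, hz⟩ := CurveVBLib.sub_data (k := k) hdim hE (kernel.ι p) hK
    refine ⟨_, kernel.ι p, inferInstance, hKr, hrk, hdg, fun hi => ?_, fun h0 => ?_⟩
    · haveI := hi
      have : CurvLib.genRank (cokernel (kernel.ι p)) = 0 := CurveVBLib.genRank_of_isZero (isZero_cokernel_of_epi _)
      omega
    · haveI : Mono p := Preadditive.mono_of_cancel_zero _ fun g hg => by
        rw [← kernel.lift_ι p g hg, (hz h0).eq_of_tgt (kernel.lift p g hg) 0, zero_comp]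
      exact isIso_of_mono_of_epi p
  constructor
  · constructor
    · intro h G r' i hi h0 hG
      haveI := hi
      obtain ⟨Q, p, hp, hQ, hrQ, hdQ⟩ := CurveVBLib.exists_saturation (k := k) hdim hE i (CurvLib.isCoh_of_locFree hG)
      rw [CurveVBLib.genRank_eq hG] at hrQ
      rw [CurveVBLib.deg_eq_dg hG, CurveVBLib.deg_eq_dg hE]
      rcases Nat.eq_zero_or_pos (CurvLib.genRank Q) with h1 | h1
      · have hle := (CurveVBLib.dg_le_of_mono (k := k) hdim (CurvLib.isCoh_of_locFree hG) (CurveVBLib.genRank_eq hG) (show FlatMod.IsFinLocFreeOfRank r' E by rwa [show r' = r by omega]) i).1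
        rw [show r' = r by omega]
        exact mul_le_mul_of_nonneg_right hle hrZ.le
      · have := h Q _ p hp h1 hQ
        rw [CurveVBLib.deg_eq_dg hE, CurveVBLib.deg_eq_dg hQ] at this
        have e : (r : ℤ) = r' + CurvLib.genRank Q := by exact_mod_cast hrQ
        have e' := congrArg (fun t : ℤ => CurveVBLib.dg k E * t) e
        simp only [mul_add] at e'
        linarith [mul_le_mul_of_nonneg_right hdQ hrZ.le]
    · intro h F s p hp hs hF
      haveI := hp
      obtain ⟨G, i, hi, hG, hrG, hdG, -, -⟩ := q2s p hF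
      rw [CurveVBLib.deg_eq_dg hE, CurveVBLib.deg_eq_dg hF]
      have e : (r : ℤ) = CurvLib.genRank G + s := by exact_mod_cast hrG
      rcases Nat.eq_zero_or_pos (CurvLib.genRank G) with h1 | h1
      · obtain ⟨-, -, -, -, hz⟩ := CurveVBLib.sub_data (k := k) hdim hE i (CurvLib.isCoh_of_locFree hG)
        rw [hdG, CurveVBLib.dg_of_isZero (hz h1), zero_add, show s = r by omega]
      · have := h G _ i hi h1 hG
        rw [CurveVBLib.deg_eq_dg hE, CurveVBLib.deg_eq_dg hG] at this
        have e' := congrArg (fun t : ℤ => CurveVBLib.dg k E * t) e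
        simp only [mul_add] at e'
        linarith [congrArg (fun t : ℤ => t * (r : ℤ)) hdG]
  · constructor
    · intro h G r' i hi h0 hG hni
      haveI := hi
      obtain ⟨Q, p, hp, hQ, hrQ, hdQ⟩ := CurveVBLib.exists_saturation (k := k) hdim hE i (CurvLib.isCoh_of_locFree hG)
      rw [CurveVBLib.genRank_eq hG] at hrQ
      rw [CurveVBLib.deg_eq_dg hG, CurveVBLib.deg_eq_dg hE]
      rcases Nat.eq_zero_or_pos (CurvLib.genRank Q) with h1 | h1
      · obtain ⟨hle, heq⟩ := CurveVBLib.dg_le_of_mono (k := k) hdim (CurvLib.isCoh_of_locFree hG) (CurveVBLib.genRank_eq hG) (show FlatMod.IsFinLocFreeOfRank r' E by rwa [show r' = r by omega]) i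
        rw [show r' = r by omega]
        exact mul_lt_mul_of_pos_right (lt_of_le_of_ne hle fun he => hni (heq he)) hrZ
      · have hnp : ¬ IsIso p := fun hpi => by
          haveI := hpi
          obtain ⟨hK, hrk, -⟩ := CurveVBLib.epi_data (k := k) hEc (CurvLib.isCoh_of_locFree hQ) p
          have : CurvLib.genRank (kernel p) = 0 := CurveVBLib.genRank_of_isZero (isZero_kernel_of_mono p)
          rw [CurveVBLib.genRank_eq hE] at hrk
          omega
        have := h Q _ p hp h1 hQ hnp
        rw [CurveVBLib.deg_eq_dg hE, CurveVBLib.deg_eq_dg hQ] at this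
        have e : (r : ℤ) = r' + CurvLib.genRank Q := by exact_mod_cast hrQ
        have e' := congrArg (fun t : ℤ => CurveVBLib.dg k E * t) e
        simp only [mul_add] at e'
        linarith [mul_le_mul_of_nonneg_right hdQ hrZ.le]
    · intro h F s p hp hs hF hnp
      haveI := hp
      obtain ⟨G, i, hi, hG, hrG, hdG, hiz, hpi⟩ := q2s p hF
      rw [CurveVBLib.deg_eq_dg hE, CurveVBLib.deg_eq_dg hF]
      have e : (r : ℤ) = CurvLib.genRank G + s := by exact_mod_cast hrG
      have h1 : 0 < CurvLib.genRank G := Nat.pos_of_ne_zero fun h0 => hnp (hpi h0)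
      have := h G _ i hi h1 hG fun hii => by have := hiz hii; omega
      rw [CurveVBLib.deg_eq_dg hE, CurveVBLib.deg_eq_dg hG] at this
      have e' := congrArg (fun t : ℤ => CurveVBLib.dg k E * t) e
      simp only [mul_add] at e'
      linarith [congrArg (fun t : ℤ => t * (r : ℤ)) hdG]

end Groth.Agent.S14151
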