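import Groth.Statements.S1523
import Groth.Agent.GenusZeroLib.PointDown
import Groth.Agent.SerreVanLib.CurveAmple
import Groth.Agent.RRVanLib.GG

set_option autoImplicit false
universe u
open CategoryTheory CategoryTheory.Limits AlgebraicGeometry
open Variety

namespace Groth.Agent.S1523

/-- On a proper curve over an algebraically closed field there is an invertible module whose H^0 is
one-dimensional and whose H^1 vanishes, and an invertible module whose H^0 and H^1 both vanish. -/
theorem result (k : Type u) [Field k] [IsAlgClosed k] (X : Scheme.{u}) [X.Over (Spec (CommRingCat.of k))]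
    [IsIntegral X] [IsProper (X ↘ (Spec (CommRingCat.of k)))] (hdim : topologicalKrullDim X = 1) :
    (∃ L : X.Modules, PicF.IsInvertible L ∧ Module.finrank k (Coh.HH X L 0) = 1 ∧ Subsingleton (Coh.HH X L 1)) ∧
    (∃ N : X.Modules, PicF.IsInvertible N ∧ Subsingleton (Coh.HH X N 0) ∧ Subsingleton (Coh.HH X N 1)) := by
  classical
  have step : ∀ (m : ℕ) (L : X.Modules), PicF.IsInvertible L → Module.finrank k (Coh.HH X L 0) = m + 1 →
      Module.finrank k (Coh.HH X L 1) = 0 → ∃ L' : X.Modules, PicF.IsInvertible L' ∧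
        Module.finrank k (Coh.HH X L' 0) = m ∧ Module.finrank k (Coh.HH X L' 1) = 0 := by
    intro m L hL h h1
    letI := GenusZeroLib.kmod k L
    haveI : Nontrivial Γ(L, ⊤) := by
      apply Module.nontrivial_of_finrank_pos (R := k)
      rw [← (GenusZeroLib.e0k k L).finrank_eq]
      omega
    obtain ⟨σ, hσ⟩ := exists_ne (0 : Γ(L, ⊤))
    obtain ⟨x, hxV, hx, hdvr, hr⟩ := GenusZeroLib.exists_good_point (k := k) hdim (TwistLib.genSet hL σ)
      ⟨_, GenusZeroLib.genericPoint_mem_genSet hL hσ⟩
    obtain ⟨L', hL', hd, -, -, -, hgen, -⟩ := GenusZeroLib.exists_down_rational (k := k) hdim hx hr hL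
    have h0 := hgen ⟨σ, hxV⟩
    have e1 := CurvLib.euler_curve (k := k) hdim L
    have e2 := CurvLib.euler_curve (k := k) hdim L'
    simp only [Curv2.deg] at hd
    refine ⟨L', hL', ?_, ?_⟩ <;> omega
  have iter : ∀ (m : ℕ) (L : X.Modules), PicF.IsInvertible L → Module.finrank k (Coh.HH X L 0) = m + 1 →
      Module.finrank k (Coh.HH X L 1) = 0 → ∃ L' : X.Modules, PicF.IsInvertible L' ∧
        Module.finrank k (Coh.HH X L' 0) = 1 ∧ Module.finrank k (Coh.HH X L' 1) = 0 := by
    intro m
    induction m with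
    | zero => exact fun L hL h h1 => ⟨L, hL, h, h1⟩
    | succ m ih =>
      intro L hL h h1
      obtain ⟨L', hL', h', h1'⟩ := step (m + 1) L hL h h1
      exact ih L' hL' h' h1'
  -- a big bundle
  haveI := CurvLib.isNoetherian k (X := X)
  obtain ⟨x, -, hx, hdvr, hr⟩ := GenusZeroLib.exists_good_point (k := k) hdim ⊤ ⟨genericPoint X, trivial⟩
  obtain ⟨M, hM, s, hMd, -, -⟩ := GenusZeroLib.exists_point_bundle (k := k) hdim hx
  rw [hr] at hMd
  have hA : CohB1.IsAmple M := SerreVanLib.isAmple_of_deg_pos (k := k) hdim hM (by rw [hMd]; norm_num)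
  obtain ⟨n₀, hn₀⟩ := SerreVanLib.exists_vanishing (X ↘ Spec (CommRingCat.of k)) hM hA (Coh.structureModule X)
    (CurvLib.isCoh_of_isInvertible CurvLib.isInvertible_structureModule)
  let n := n₀ + Curv2.genus k X
  have hP := AmpleThLib.tensorPow_isInvertible hM n
  have h1n : Module.finrank k (Coh.HH X (CohB1.tensorPow M n) 1) = 0 := by
    have h := SerreVanLib.subsingleton_HH_of_iso (KFlatLib.tensUnitIso (CohB1.tensorPow M n)).symm 1
      (hn₀ n (Nat.le_add_right _ _) 1 one_pos)
    haveI : Subsingleton (Coh.HH X (CohB1.tensorPow M n) 1) := h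
    exact Module.finrank_zero_of_subsingleton
  have hdn := SerreVanLib.deg_pow (k := k) hdim hM n
  rw [hMd, Nat.cast_one, mul_one] at hdn
  have h0 := RRVanLib.finrank_h0_structure (k := k) (X := X)
  have hd := CurvLib.deg_curve (k := k) hdim (CohB1.tensorPow M n) h0
  simp only [Curv2.deg] at hd
  obtain ⟨L, hL, hL0, hL1⟩ := iter (Module.finrank k (Coh.HH X (CohB1.tensorPow M n) 0) - 1) _ hP
    (by omega) h1n
  obtain ⟨N, hN, hN0, hN1⟩ := step 0 L hL hL0 hL1
  haveI := CurvLib.finite_HH (k := k) (CurvLib.isCoh_of_isInvertible hL) 1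
  haveI := CurvLib.finite_HH (k := k) (CurvLib.isCoh_of_isInvertible hN) 0
  haveI := CurvLib.finite_HH (k := k) (CurvLib.isCoh_of_isInvertible hN) 1
  exact ⟨⟨L, hL, hL0, Module.finrank_zero_iff.mp hL1⟩,
    ⟨N, hN, Module.finrank_zero_iff.mp hN0, Module.finrank_zero_iff.mp hN1⟩⟩

end Groth.Agent.S1523
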