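import Groth.Statements.S14152
import Groth.Agent.GenusZeroLib.PointDown
import Groth.Agent.RRVanLib.GG
import Groth.Agent.S1523
import Groth.Agent.CurvLib.EulerTensor

set_option autoImplicit false
universe u
open CategoryTheory CategoryTheory.Limits AlgebraicGeometry
open Curves

namespace Groth.Agent.S14152

/-- Let k be an algebraically closed field and C a smooth proper integral curve over k (proper and
smooth over k, integral, of dimension one) of genus g ≥ 1, where g = dim_k H^1(C, O_C). Then for
every natural number r ≤ g there is an invertible O_C-module L of degree r, the degree being χ(L) −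
χ(O_C), with dim_k H^0(C, L) = 1. (The published statement gives a non-empty open set of r-tuples of
points (x_i) with h^0(O(Σ x_i)) = 1 and is placed in a chapter working in characteristic 0; the
existence of one such divisor, stated here, is what the row records, and the printed argument does
not use the characteristic.) -/
theorem result (k : Type u) [Field k] [IsAlgClosed k]
    (X : Scheme.{u}) [X.Over (Spec (CommRingCat.of k))] [IsIntegral X]
    [IsProper (X ↘ Spec (CommRingCat.of k))] [Smooth (X ↘ Spec (CommRingCat.of k))]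
    (hdim : topologicalKrullDim ↥X = 1) (g : ℕ) (hg : Curv2.genus k X = g) (hg1 : 1 ≤ g)
    (r : ℕ) (hr : r ≤ g) :
    ∃ L : X.Modules, PicF.IsInvertible L ∧ Curv2.deg k X L 1 = (r : ℤ) ∧
      Module.finrank k (Coh.HH X L 0) = 1 := by
  classical
  have h0 := RRVanLib.finrank_h0_structure (k := k) (X := X)
  haveI := CurvLib.isNoetherian k (X := X)
  have hn : ∀ x : X, IsIntegrallyClosed (X.presheaf.stalk x) := fun x =>
    (GenusZeroLib.isIntegrallyClosed_of_mem_smoothLocus (k := k) (x := x)
      (by rw [Scheme.Hom.smoothLocus_eq_top]; trivial)).2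
  suffices H : ∀ j : ℕ, j ≤ g → ∃ L : X.Modules, PicF.IsInvertible L ∧ Curv2.deg k X L 1 = ((g - j : ℕ) : ℤ) ∧
      Module.finrank k (Coh.HH X L 0) = 1 by
    have := H (g - r) (Nat.sub_le _ _)
    rwa [Nat.sub_sub_self hr] at this
  intro j
  induction j with
  | zero =>
    intro _
    obtain ⟨⟨L, hL, hL0, hL1⟩, -⟩ := Groth.Agent.S1523.result k X hdim
    refine ⟨L, hL, ?_, hL0⟩
    haveI := hL1
    have hd := CurvLib.deg_curve (k := k) hdim L h0
    rw [Module.finrank_zero_of_subsingleton (R := k) (M := Coh.HH X L 1), hL0, hg] at hd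
    rw [hd]
    simp
  | succ j ih =>
    intro hj
    obtain ⟨L, hL, hLd, hL0⟩ := ih (Nat.le_of_succ_le hj)
    letI := GenusZeroLib.kmod k L
    haveI : Nontrivial Γ(L, ⊤) := by
      apply Module.nontrivial_of_finrank_pos (R := k)
      rw [← (GenusZeroLib.e0k k L).finrank_eq, hL0]
      exact one_pos
    obtain ⟨σ, hσ⟩ := exists_ne (0 : Γ(L, ⊤))
    obtain ⟨x, hx⟩ : ∃ x, x ∉ TwistLib.genSet hL σ := by
      by_contra hne
      push Not at hne
      have hgen : AmpleLib.GenOn L σ := TwistLib.genOn_of_genAt fun x _ => hne x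
      haveI := AmpleLib.isIso_unitHom σ hgen
      have he := CurvLib.euler_congr (k := k) (asIso (QCohLib.unitHom L σ))
      simp only [Curv2.deg] at hLd
      push_cast [Nat.cast_sub (Nat.le_of_succ_le hj)] at hLd
      omega
    obtain ⟨-, hcl⟩ := GenusZeroLib.finite_compl_genSet k hdim hL hσ
    obtain ⟨hdvr, hr1⟩ := GenusZeroLib.closed_point_data (k := k) hdim (hcl x hx) (hn x)
    obtain ⟨L', q, hL', hq, hd', hrange⟩ := GenusZeroLib.exists_twist_down (k := k) hdim (hcl x hx) hL
    rw [hr1, hLd] at hd'
    refine ⟨L', hL', ?_, le_antisymm ?_ ?_⟩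
    · rw [hd']
      omega
    · haveI := CurvLib.finite_HH (k := k) (CurvLib.isCoh_of_isInvertible hL) 0
      haveI := CurvLib.mono_of_ne_zero hL' hL hq
      letI := GenusZeroLib.kmod k L'
      haveI : Module.Finite k Γ(L, ⊤) := Module.Finite.equiv (GenusZeroLib.e0k k L)
      let f : Γ(L', ⊤) →ₗ[k] Γ(L, ⊤) :=
        { toFun := fun t => q.app ⊤ t
          map_add' := fun a c => map_add (q.app ⊤).hom a c
          map_smul' := fun c t => Scheme.Modules.Hom.app_smul q (GenusZeroLib.ρ k (X := X) c) t }
      have hle := LinearMap.finrank_le_finrank_of_injective (f := f) (QCohLib.app_injective_of_mono q ⊤)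
      rw [← (GenusZeroLib.e0k k L').finrank_eq, ← (GenusZeroLib.e0k k L).finrank_eq, hL0] at hle
      exact hle
    · obtain ⟨t, ht⟩ := (hrange ⊤ σ).mpr fun _ => hx
      have hne : t ≠ 0 := fun h => hσ (by rw [← ht, h]; exact map_zero _)
      letI := GenusZeroLib.kmod k L'
      haveI := CurvLib.finite_HH (k := k) (CurvLib.isCoh_of_isInvertible hL') 0
      haveI : Module.Finite k Γ(L', ⊤) := Module.Finite.equiv (GenusZeroLib.e0k k L')
      haveI : Nontrivial Γ(L', ⊤) := ⟨⟨t, 0, hne⟩⟩
      rw [(GenusZeroLib.e0k k L').finrank_eq]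
      exact Module.finrank_pos

end Groth.Agent.S14152
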