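import Groth.Statements.S14153
import Groth.Agent.ThetaRedLib.Power
import Groth.Agent.AVIndexLib.MumfordMain
import Groth.Agent.AVRRLib.RR
import Groth.Agent.CubeConsLib.Transpose
import Groth.Agent.MiscFlat6.NormalLowDim
import Groth.Agent.CurveVBLib.Basic
import Groth.Agent.AVAmpleLib.TateLattice
-- import your own Groth.Agent.* helpers here

set_option autoImplicit false
universe u
open CategoryTheory CategoryTheory.Limits MonoidalCategory CartesianMonoidalCategory MonObj GrpObj AlgebraicGeometry
open AbVar

namespace Groth.Agent.S14153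

/-- Let k be an algebraically closed field of characteristic 0, A an abelian variety over k (a proper
smooth k-group scheme with geometrically connected fibres), (A^t, φ) a given dual abelian variety
for the fppf topology with A^t an abelian variety, L an ample invertible O_A-module with an inverse
L', and Λ a module on A ×_k A isomorphic to the Mumford module m^*L ⊗ pr_1^*L' ⊗ pr_2^*L', whose
class is assumed algebraically trivial on every geometric fibre of the second projection. Assume
that φ_L = φ(Λ) : A → A^t is an isomorphism, i.e. L defines a principal polarization, and let s be a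
nonzero global section of L with zero scheme Θ ⊆ A (the theta divisor). If Θ is irreducible then Θ
is reduced. -/
theorem result (k : Type u) [Field k] [IsAlgClosed k] [CharZero k]
    (A At : Over (Spec (CommRingCat.of k))) [GrpObj A] [IsProper A.hom] [Smooth A.hom] [GeometricallyConnected A.hom]
    [GrpObj At] [IsProper At.hom] [Smooth At.hom] [GeometricallyConnected At.hom]
    (φ : ∀ T : Over (Spec (CommRingCat.of k)), PicF.Cl (PicF.XT A.hom T) → (T ⟶ At))
    (hφ : AbDual.IsDualAV Scheme.fppfPrecoverage A At φ)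
    (L : A.left.Modules) (hLa : CohB1.IsAmple L) (L' : A.left.Modules) (hL' : Nonempty (CohB1.tensorMod L L' ≅ Coh.structureModule A.left))
    (Λ : (PicF.XT A.hom A).Modules)
    (hΛ : Nonempty (Λ ≅ CohB1.tensorMod (CohB1.tensorMod ((Scheme.Modules.pullback μ[A].left).obj L)
      ((Scheme.Modules.pullback (fst A A).left).obj L')) ((Scheme.Modules.pullback (snd A A).left).obj L')))
    (hΛ0 : AbDual.IsPicZeroCl A.hom A (PicF.cl Λ))
    [IsIso (φ A (PicF.cl Λ))]
    (s : Coh.structureModule A.left ⟶ L) (hs : s ≠ 0)
    [IrreducibleSpace ↥(PicF2.zeroScheme L s).subscheme] :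
    IsReduced (PicF2.zeroScheme L s).subscheme := by
  haveI := CubeConsLib.geometricallyIntegral_of_smooth_group A
  haveI := CubeConsLib.geometricallyIntegral_of_smooth_group At
  haveI : IsIntegral A.left := GeometricallyIntegral.isIntegral_of_subsingleton A.hom
  haveI : IsLocallyNoetherian A.left := LocallyOfFiniteType.isLocallyNoetherian A.hom
  letI : A.left.Over (Spec (CommRingCat.of k)) := ⟨A.hom⟩
  haveI : Smooth (A.left ↘ Spec (CommRingCat.of k)) := inferInstanceAs (Smooth A.hom)
  have hL := hLa.1
  obtain ⟨z, hz, K, hK, m, hm, hiso, hred⟩ := ThetaRedLib.exists_power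
    (fun x => CurveVBLib.regular_stalk (k := k) x) hL s hs
  apply hred
  obtain ⟨g, hg⟩ := AVAmpleLib.exists_dim_field A
  have hg1 : 0 < g := by
    have h := (MiscFlat6.ringKrullDim_stalk_le A.left z).trans hg.le
    rw [hz] at h
    exact_mod_cast h
  let ψ := φ A (PicF.cl Λ)
  haveI : IsIso ψ.left := inferInstanceAs (IsIso ((Over.forget _).map ψ))
  obtain ⟨i, -, -, hsq⟩ := AVIndexLib.mumford_main hφ hg hL hL' hΛ hΛ0 (d := 1)
    (fun y => by rw [Scheme.Hom.finrank_eq_one_of_isIso]; rfl)
  have hp : ∀ (n : ℕ) (h : PicF.IsInvertible (CohB1.tensorPow K n)),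
      CubeConsLib.clA h = n • CubeConsLib.clA hK := by
    intro n
    induction n with
    | zero => intro h; rw [zero_nsmul, ← CubeConsLib.clA_one]; rfl
    | succ n ih =>
      intro h
      rw [succ_nsmul, ← ih (AmpleThLib.tensorPow_isInvertible hK n),
        ← CubeConsLib.clA_tensor (AmpleThLib.tensorPow_isInvertible hK n) hK]
      rfl
  have hKm := AmpleThLib.tensorPow_isInvertible hK m
  have hc : CubeConsLib.clA hL = (-(m : ℤ)) • CubeConsLib.clA hK := by
    have h := (CubeConsLib.clA_eq_iff (HilbPolyLib.isInvertible_tensor hL hKm) (CubeConsLib.isInvertible_one _)).2 hiso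
    rw [CubeConsLib.clA_tensor hL hKm, CubeConsLib.clA_one, hp m hKm] at h
    rw [neg_smul, natCast_zsmul]
    exact eq_neg_of_add_eq_zero_left h
  have hchi := AVRRLib.chi_zsmul hg hK (-(m : ℤ))
  rw [← hc, AVAmpleLib.chi_clA A hL] at hchi
  have h1 : ((AVAmpleLib.chi A (CubeConsLib.clA hK) : ℤ) * (-(m : ℤ)) ^ g) ^ 2 = 1 := by
    have hq : (AVAmpleLib.chiMod A L : ℤ) = AVAmpleLib.chi A (CubeConsLib.clA hK) * (-(m : ℤ)) ^ g := by
      have : (AVAmpleLib.chiMod A L : ℚ) = ((AVAmpleLib.chi A (CubeConsLib.clA hK) * (-(m : ℤ)) ^ g : ℤ) : ℚ) := by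
        rw [hchi]; push_cast; ring
      exact_mod_cast this
    rw [← hq]
    exact hsq
  have h2 : IsUnit ((-(m : ℤ)) ^ g) := by
    refine isUnit_of_dvd_one ?_
    rw [← h1]
    exact (dvd_mul_left _ _).trans (dvd_pow_self _ two_ne_zero)
  rw [isUnit_pow_iff hg1.ne', Int.isUnit_iff] at h2
  omega

end Groth.Agent.S14153
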