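import Groth.Statements.S14155
import Mathlib
import Groth.Agent.GenusOneSSLib.Stable
import Groth.Agent.HomSplitLib.Split
import Groth.Agent.AlbLib.AlgClosed
import Groth.Agent.H0Lib.Apply
-- import your own Groth.Agent.* helpers here

set_option autoImplicit false
universe u
open CategoryTheory CategoryTheory.Limits AlgebraicGeometry
open VBCurve

namespace Groth.Agent.S14155

/-- Let k be an algebraically closed field, X a smooth proper integral curve over k (proper and smooth
over k, integral, of dimension one) of genus one, i.e. dim_k H^1(X, O_X) = 1 (an elliptic curve once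
a base point is chosen), and F a finite locally free O_X-module of rank r ≥ 1 which is
indecomposable (nonzero, and in any decomposition F ≅ F₁ ⊕ F₂ one summand is zero), of degree d =
χ(F) − r·χ(O_X). Then F is stable — deg G · r < d · r' for every finite locally free submodule G of
F of rank r' ≥ 1 whose inclusion is not an isomorphism — if and only if gcd(d, r) = 1. (The
published corollary also identifies stability with simplicity in two senses; those equivalences are
not restated.) -/
theorem result (k : Type u) [Field k] [IsAlgClosed k]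
    (X : Scheme.{u}) [X.Over (Spec (CommRingCat.of k))] [IsIntegral X]
    [IsProper (X ↘ Spec (CommRingCat.of k))] [Smooth (X ↘ Spec (CommRingCat.of k))]
    (hdim : topologicalKrullDim ↥X = 1) (hg : Curv2.genus k X = 1)
    (r : ℕ) (hr : 0 < r) (F : X.Modules) (hF : FlatMod.IsFinLocFreeOfRank r F)
    (hind : ¬ IsZero F ∧ ∀ (F₁ F₂ : X.Modules), Nonempty (F ≅ F₁ ⊞ F₂) → IsZero F₁ ∨ IsZero F₂) :
    (∀ (G : X.Modules) (r' : ℕ) (i : G ⟶ F), Mono i → 0 < r' → FlatMod.IsFinLocFreeOfRank r' G → (¬ IsIso i) →
      Curv2.deg k X G r' * (r : ℤ) < Curv2.deg k X F r * (r' : ℤ)) ↔ Int.gcd (Curv2.deg k X F r) (r : ℤ) = 1 := by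
  haveI : LocallyOfFiniteType (Over.mk (X ↘ Spec (CommRingCat.of k))).hom :=
    inferInstanceAs (LocallyOfFiniteType (X ↘ Spec (CommRingCat.of k)))
  haveI : IsIntegral (Over.mk (X ↘ Spec (CommRingCat.of k))).left := inferInstanceAs (IsIntegral X)
  haveI : GeometricallyIntegral (X ↘ Spec (CommRingCat.of k)) :=
    AlbLib.geometricallyIntegral_of_isIntegral (Over.mk (X ↘ Spec (CommRingCat.of k)))
  haveI := H0Lib.geometricallyConnected_of_integral (X ↘ Spec (CommRingCat.of k))
  haveI := CurvLib.isNoetherian k (X := X)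
  constructor
  · intro hst
    refine GenusOneSSLib.gcd_eq_one (k := k) hdim hg r hr F hF fun G r' i hi hr' hlt hG => hst G r' i hi hr' hG fun hiso => ?_
    have hC : CurvLib.genRank (cokernel i) = 0 := CurveVBLib.genRank_of_isZero (isZero_cokernel_of_epi i)
    have h := CurveVBLib.genRank_mono i (CurvLib.isCoh_of_locFree hG) (CurvLib.isCoh_of_locFree hF)
    rw [CurveVBLib.genRank_eq hF, CurveVBLib.genRank_eq hG, hC] at h
    omega
  · intro hgcd G r' i hi hr' hG hiso
    have hss := HomSplitLib.semistable_of_indecomposable (k := k) hdim hg hr hF hind.2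
    obtain ⟨-, hC, hrk, hdg, -⟩ := CurveVBLib.sub_data (k := k) hdim hF i (CurvLib.isCoh_of_locFree hG)
    rw [CurveVBLib.genRank_eq hG] at hrk
    rw [← CurveVBLib.deg_eq_dg hG, ← CurveVBLib.deg_eq_dg hF] at hdg
    refine lt_of_le_of_ne (hss G r' i hi hr' hG) fun heq => hiso ?_
    have hdvd : (r : ℤ) ∣ (r' : ℤ) := Int.dvd_of_dvd_mul_right_of_gcd_one
      (Dvd.intro_left _ heq) (by rw [Int.gcd_comm]; exact hgcd)
    have hle := Nat.le_of_dvd hr' (Int.natCast_dvd_natCast.1 hdvd)
    have hC0 : CurvLib.genRank (cokernel i) = 0 := by omega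
    obtain ⟨-, hz⟩ := CurveVBLib.dg_nonneg_of_rank_zero (k := k) hdim hC hC0
    obtain rfl : r' = r := by omega
    have hG' := mul_right_cancel₀ (show (r' : ℤ) ≠ 0 by omega) heq
    haveI : Epi i := Preadditive.epi_of_cancel_zero _ fun g hg0 => by
      rw [← cokernel.π_desc _ g hg0, (hz (by omega)).eq_of_src (cokernel.desc _ g hg0) 0, comp_zero]
    exact isIso_of_mono_of_epi i

end Groth.Agent.S14155
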