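import Groth.Statements.S14160
import Groth.Agent.AVBiextLib.Lambda
import Groth.Agent.AVAmpleLib.RelMul

set_option backward.isDefEq.respectTransparency false
set_option maxHeartbeats 1000000

set_option autoImplicit false
universe u
open CategoryTheory CategoryTheory.Limits MonoidalCategory CartesianMonoidalCategory MonObj AlgebraicGeometry
open AgPol

namespace Groth.Agent.S14160

open CubeConsLib AVBiextLib AVIndexLib

/-- Let S be a locally Noetherian scheme, A a projective abelian scheme over S of relative dimension g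
with commutative group law, (At, φ) a commutative group scheme with data presenting it as the dual
of A for the fppf topology, ξ a Poincaré class on A ×_S At, and k ≥ 1. If lam₁, lam₂ : A ⟶ At are
polarisations such that ξ pulls back to the same class on A along the graphs of lam₁ ^ k and of lam₂
^ k (powers in the group of A-valued points of At), then lam₁ = lam₂. (The published statement
claims uniqueness among all homomorphisms into the dual; on the square E × E of an elliptic curve
with its product principal polarisation lam₀, the homomorphism α(x, y) = lam₀(y, −x) has lam₀ + α ≠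
lam₀ while the graphs of k·lam₀ and k·(lam₀ + α) pull the Poincaré class back to isomorphic sheaves,
so this row asks lam₁, lam₂ to be polarisations, which is the case the printed argument covers; k =
0 is excluded since both pull backs are then along the unit section.) -/
theorem result (S : Scheme.{u}) [IsLocallyNoetherian S] (A At : Over S) [GrpObj A] [IsCommMonObj A]
    [GrpObj At] [IsCommMonObj At] (g : ℕ) (hA : AgPol.IsAbSch A g) (hproj : RelProj.IsProjective A.hom)
    (φ : AgPol.DualMap A At) (hdual : AbDual.IsDualAV Scheme.fppfPrecoverage A At φ)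
    (ξ : PicF.Cl (PicF.XT A.hom At)) (hξ : AbDual.IsPoincareCl A At φ ξ) (k : ℕ) (hk : 1 ≤ k)
    (lam₁ lam₂ : A ⟶ At) (h₁ : AgPol.IsPolarization A At φ lam₁) (h₂ : AgPol.IsPolarization A At φ lam₂)
    (heq : PicF.pullCl (pullback.lift (𝟙 A.left) (lam₁ ^ k).left ((Category.id_comp A.hom).trans (Over.w (lam₁ ^ k)).symm)) ξ = PicF.pullCl (pullback.lift (𝟙 A.left) (lam₂ ^ k).left ((Category.id_comp A.hom).trans (Over.w (lam₂ ^ k)).symm)) ξ) :
    lam₁ = lam₂ := by
  haveI := hA.smooth
  haveI := hA.proper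
  haveI := hA.geomConnected
  haveI := AbSchLib.geometricallyReduced_of_smooth A.hom
  haveI := CubeConsLib.geometricallyIntegral_of_group A
  obtain ⟨P, rfl, hP, -⟩ := hξ.1
  haveI := h₁.1
  haveI := h₂.1
  let g₁ : A.left ⟶ PicF.XT A.hom At :=
    Limits.pullback.lift (𝟙 A.left) (lam₁ ^ k).left ((Category.id_comp A.hom).trans (Over.w (lam₁ ^ k)).symm)
  let L : A.left.Modules := (Scheme.Modules.pullback g₁).obj P
  obtain ⟨hL₁, c₁⟩ := graph_class hP lam₁ k (L := L) rfl
  obtain ⟨hL₂, c₂⟩ := graph_class hP lam₂ k (L := L) heq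
  obtain ⟨N₁, hN₁, -, e₁, n₁⟩ := exists_lambda hdual hP hξ lam₁ h₁ k hL₁ c₁
  obtain ⟨N₂, hN₂, -, e₂, n₂⟩ := exists_lambda hdual hP hξ lam₂ h₂ k hL₂ c₂
  obtain ⟨i⟩ := (clA_eq_iff hN₁ hN₂).1 (n₁.trans n₂.symm)
  have e : lam₁ ^ (2 * k) = lam₂ ^ (2 * k) := by
    rw [← e₁, ← e₂]
    exact congrArg (φ A) (Quot.sound ⟨i⟩)
  rw [show lam₁ ^ (2 * k) = (𝟙 A ^ (2 * k)) ≫ lam₁ by rw [monHom_pow, Category.id_comp],
    show lam₂ ^ (2 * k) = (𝟙 A ^ (2 * k)) ≫ lam₂ by rw [monHom_pow, Category.id_comp],
    ← zpow_natCast (𝟙 A) (2 * k)] at e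
  obtain ⟨-, hf, hs, -⟩ := AVAmpleLib.zpow_rel A (n := ((2 * k : ℕ) : ℤ)) (by omega)
  haveI := Flat.epi_of_flat_of_surjective (𝟙 A ^ ((2 * k : ℕ) : ℤ)).left
  ext1
  exact (cancel_epi (𝟙 A ^ ((2 * k : ℕ) : ℤ)).left).1 (congrArg Over.Hom.left e)

end Groth.Agent.S14160
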