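import Groth.Statements.S14161
import Groth.Agent.DualLftLib.Degree
import Groth.Agent.Unram17Lib.EtaleRank

set_option autoImplicit false
set_option linter.style.haveILetI false
set_option backward.isDefEq.respectTransparency false
set_option backward.isDefEq.respectTransparency.types false

set_option autoImplicit false
universe u
open CategoryTheory CategoryTheory.Limits MonoidalCategory CartesianMonoidalCategory MonObj AlgebraicGeometry
open AgPol

namespace Groth.Agent.S14161

/-- Let S be a locally Noetherian scheme, A a projective abelian scheme over S of relative dimension g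
with commutative group law and structure morphism π, (At, φ) a commutative group scheme with data
presenting it as the dual of A for the fppf topology, L an invertible module on A which is ample
relative to π, and lam : A ⟶ At the homomorphism attached to L through φ. If π_*L is finite locally
free of rank r, then lam is finite, flat and locally of finite presentation, of rank r ^ 2 at every
point of At: the degree of lam is the square of the rank of π_*L. -/
theorem result (S : Scheme.{u}) [IsLocallyNoetherian S] (A At : Over S) [GrpObj A] [IsCommMonObj A]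
    [GrpObj At] [IsCommMonObj At] (g : ℕ) (hA : AgPol.IsAbSch A g) (hproj : RelProj.IsProjective A.hom)
    (φ : AgPol.DualMap A At) (hdual : AbDual.IsDualAV Scheme.fppfPrecoverage A At φ)
    (L : A.left.Modules) (hL : PicF.IsInvertible L) (hample : RelAmple.IsRelAmple A.hom L)
    (lam : A ⟶ At) (hlam : AgPol.IsLambda A At φ L lam) (r : ℕ)
    (hr : FlatMod.IsFinLocFreeOfRank r ((Coh.push A.hom).obj L)) :
    AgPol.HasDegSq lam r := by
  haveI := hA.smooth
  haveI := hA.proper
  haveI := hA.geomConnected
  haveI := AbSchLib.geometricallyReduced_of_smooth A.hom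
  haveI := CubeConsLib.geometricallyIntegral_of_group A
  haveI : LocallyOfFiniteType At.hom := DualLftLib.locallyOfFiniteType hdual.relPic
  haveI : IsSeparated At.hom := DualLftLib.isSeparated_of_isRelPicZeroK A.hom hdual.relPic
  haveI hpr : IsProper lam.left := by
    haveI : IsProper (lam.left ≫ At.hom) := by rw [Over.w]; infer_instance
    exact IsProper.of_comp lam.left At.hom
  haveI : LocallyOfFinitePresentation (lam.left ≫ At.hom) := by rw [Over.w]; infer_instance
  haveI : LocallyOfFinitePresentation lam.left := Unram17Lib.lfp_of_comp_lft lam.left At.hom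
  have hgeo := DualLftLib.geometric_fibre A At φ hdual L hL hample lam hlam
  haveI hfl : Flat lam.left := AbSchLib.flat_of_geometric_fibres lam fun Ω _ _ ξ => (hgeo Ω ξ).2.2
  have key : ∀ y : At.left, ∃ (Ω : Type u) (_ : Field Ω) (_ : IsAlgClosed Ω) (ξ : Spec (CommRingCat.of Ω) ⟶ S)
      (y' : (Red.bc ξ At).left), pullback.fst At.hom ξ y' = y := fun y => by
    let Ω := AlgebraicClosure (At.left.residueField y)
    let σ : Spec (CommRingCat.of Ω) ⟶ At.left :=
      Spec.map (CommRingCat.ofHom (algebraMap (At.left.residueField y) Ω)) ≫ At.left.fromSpecResidueField y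
    let σ' : Spec (CommRingCat.of Ω) ⟶ (Red.bc (σ ≫ At.hom) At).left :=
      pullback.lift σ (𝟙 _) (Category.id_comp _).symm
    refine ⟨Ω, inferInstance, inferInstance, σ ≫ At.hom, σ' (IsLocalRing.closedPoint Ω), ?_⟩
    show (σ' ≫ pullback.fst At.hom (σ ≫ At.hom)) (IsLocalRing.closedPoint Ω) = y
    rw [show σ' ≫ pullback.fst At.hom (σ ≫ At.hom) = σ from pullback.lift_fst _ _ _, Scheme.Hom.comp_apply]
    exact Scheme.fromSpecResidueField_apply _ _
  have hsq : ∀ {Ω : Type u} [Field Ω] (ξ : Spec (CommRingCat.of Ω) ⟶ S),
      IsPullback (pullback.fst A.hom ξ) ((Over.pullback ξ).map lam).left lam.left (pullback.fst At.hom ξ) :=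
    fun ξ => DualLftLib.isPullback_map lam ξ
  haveI hlq : LocallyQuasiFinite lam.left := LocallyQuasiFinite.of_finite_preimage_singleton _ fun y => by
    obtain ⟨Ω, _, _, ξ, y', hy⟩ := key y
    haveI := (hgeo Ω ξ).1
    refine ((((Over.pullback ξ).map lam).left.finite_preimage_singleton y').image (pullback.fst A.hom ξ).base).subset
      fun x hx => ?_
    obtain ⟨x', h1, h2⟩ := Scheme.exists_preimage_of_isPullback (hsq ξ) x y' (hx.trans hy.symm)
    exact ⟨x', h2, h1⟩
  haveI : IsFinite lam.left := IsFinite.of_isProper_of_locallyQuasiFinite _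
  refine ⟨inferInstance, hfl, inferInstance, fun y => ?_⟩
  obtain ⟨Ω, _, _, ξ, y', rfl⟩ := key y
  refine (Scheme.Hom.finrank_of_isPullback _ _ _ _ (hsq ξ) y').symm.trans ?_
  exact DualLftLib.finrank_fibre A At φ hdual L hL hample lam hlam r hr ξ y'

end Groth.Agent.S14161
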