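import Groth.Statements.S14163
import Groth.Agent.DivLocusLib.Seesaw
import Groth.Agent.DivLocusLib.Div

set_option autoImplicit false
set_option linter.style.haveILetI false
set_option backward.isDefEq.respectTransparency false
set_option backward.isDefEq.respectTransparency.types false

set_option autoImplicit false
universe u
open CategoryTheory CategoryTheory.Limits MonoidalCategory CartesianMonoidalCategory MonObj AlgebraicGeometry
open AgPol

namespace Groth.Agent.S14163

open CubeConsLib AVBiextLib AVIndexLib DivLocusLib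

/-- Let S be a locally Noetherian scheme, A a projective abelian scheme over S of relative dimension g
with commutative group law, structure morphism π and unit section ε, (At, φ) a commutative group
scheme with data presenting it as the dual of A for the fppf topology, ξ a Poincaré class on A ×_S
At, L an invertible module on A which is ample relative to π and whose pull back along ε is trivial,
and k ≥ 1. Then there is a closed subscheme S₀ of S such that a locally Noetherian S-scheme T
factors through S₀ if and only if there is a homomorphism lam : A_T ⟶ At_T of T-group schemes such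
that lam ^ (2k) is the homomorphism attached to the pulled-back module L_T through the base-changed
dual data and the class of L_T is the pull back of ξ (moved to A_T ×_T At_T) along the graph of lam
^ k. (The published statement asks only for a homomorphism lam with L_T isomorphic to the pull back
along the graph of lam ^ k; the closed subscheme the printed argument constructs represents that
condition together with the clause on lam ^ (2k), which holds automatically for a polarisation lam
and can fail for other homomorphisms — on the square of an elliptic curve with its product principal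
polarisation lam₀ and α(x, y) = lam₀(y, 0), the pull back along the graph of lam₀ + α is ample and
normalised while its attached homomorphism is not divisible by 2 — so the clause is kept here.) -/
theorem result (S : Scheme.{u}) [IsLocallyNoetherian S] (A At : Over S) [GrpObj A] [IsCommMonObj A]
    [GrpObj At] [IsCommMonObj At] (g : ℕ) (hA : AgPol.IsAbSch A g) (hproj : RelProj.IsProjective A.hom)
    (φ : AgPol.DualMap A At) (hdual : AbDual.IsDualAV Scheme.fppfPrecoverage A At φ)
    (ξ : PicF.Cl (PicF.XT A.hom At)) (hξ : AbDual.IsPoincareCl A At φ ξ)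
    (L : A.left.Modules) (hL : PicF.IsInvertible L) (hample : RelAmple.IsRelAmple A.hom L)
    (hrig : PicF.IsTrivialCl (PicF.cl ((Scheme.Modules.pullback η[A].left).obj L))) (k : ℕ) (hk : 1 ≤ k) :
    ∃ (S₀ : Scheme.{u}) (i₀ : S₀ ⟶ S), IsClosedImmersion i₀ ∧
      ∀ T : Over S, IsLocallyNoetherian T.left →
        ((∃ h : T.left ⟶ S₀, h ≫ i₀ = T.hom) ↔
          ∃ lam : Red.bc T.hom A ⟶ Red.bc T.hom At, IsMonHom lam ∧
            AgPol.IsLambda (Red.bc T.hom A) (Red.bc T.hom At) (AgPol.bcDual T.hom A At φ) ((Scheme.Modules.pullback (pullback.fst A.hom T.hom)).obj L) (lam ^ (2 * k)) ∧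
            PicF.cl ((Scheme.Modules.pullback (pullback.fst A.hom T.hom)).obj L) =
              PicF.pullCl (pullback.lift (𝟙 (Red.bc T.hom A).left) (lam ^ k).left
                ((Category.id_comp (Red.bc T.hom A).hom).trans (Over.w (lam ^ k)).symm))
              (PicF.pullCl ((AgPol.bcXTIso T.hom A (Red.bc T.hom At)).hom ≫
                PicF.XTmap A.hom (Over.homMk (pullback.fst At.hom T.hom) pullback.condition)) ξ)) := by
  haveI := hA.smooth
  haveI := hA.proper
  haveI := hA.geomConnected
  haveI := AbSchLib.geometricallyReduced_of_smooth A.hom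
  haveI := CubeConsLib.geometricallyIntegral_of_group A
  obtain ⟨P, rfl, hP, -⟩ := hξ.1
  haveI : IsSeparated At.hom := DualLftLib.isSeparated_of_isRelPicZeroK A.hom hdual.relPic
  have hrig' : pullA η[A].left (clA hL) = 0 := clA_zero_of_trivialCl _ hL hrig
  obtain ⟨N, hN⟩ := exists_isMumford hL
  let f := phiL φ N
  haveI : IsMonHom f := isMonHom_phiL hdual hL hN hrig'
  have hn : 2 * k ≠ 0 := by omega
  obtain ⟨S₁, i₁, hi₁, hS₁⟩ := exists_kills_locus f (2 * k) hn
  haveI := hi₁
  obtain ⟨lam₁, hlam₁, hpow₁⟩ := exists_root f (2 * k) hn i₁ ((hS₁ S₁ i₁).1 ⟨𝟙 _, Category.id_comp _⟩)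
  haveI := hlam₁
  let B := Red.bc i₁ A
  let pr : {T : Scheme.{u}} → (t : T ⟶ S) → (Red.bc t A ⟶ Red.bc t At) → (dn t (Red.bc t A) ⟶ A ⊗ At) :=
    fun t l => lift (prDn t A) (toDn t (l ^ k))
  have hD1 := AmpleDevLib.isInvertible_pb (pullback.fst A.hom i₁) hL
  have hD2 := AmpleDevLib.isInvertible_pb (pr i₁ lam₁).left (show PicF.IsInvertible (show (A ⊗ At).left.Modules from P) from hP)
  obtain ⟨D, hD, cD⟩ := exists_sub' hD1 hD2
  rw [← pullA_clA _ hL, ← pullA_clA _ (show PicF.IsInvertible (show (A ⊗ At).left.Modules from P) from hP)] at cD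
  haveI : IsLocallyNoetherian S₁ := LocallyOfFiniteType.isLocallyNoetherian i₁
  haveI : IsProper B.hom := inferInstanceAs (IsProper (pullback.snd A.hom i₁))
  haveI : Flat B.hom := inferInstanceAs (Flat (pullback.snd A.hom i₁))
  haveI : LocallyOfFinitePresentation B.hom := inferInstanceAs (LocallyOfFinitePresentation (pullback.snd A.hom i₁))
  haveI : GeometricallyIntegral B.hom := inferInstanceAs (GeometricallyIntegral (pullback.snd A.hom i₁))
  let σ : S₁ ⟶ B.left := (η[B] : 𝟙_ (Over S₁) ⟶ B).left
  have hσ : σ ≫ B.hom = 𝟙 S₁ := Over.w η[B]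
  have hzero : pullA σ (clA hD) = 0 := by
    let e := dnMap i₁ (η[B] : 𝟙_ (Over S₁) ⟶ B)
    have eA : e ≫ prDn i₁ A = 1 := by
      rw [← toDn_id, ← toDn_comp, Category.comp_id, show (η[B] : 𝟙_ (Over S₁) ⟶ B) = 1 by
        rw [Hom.one_def, toUnit_unique (toUnit _) (𝟙 _), Category.id_comp], toDn_one]
    have eL : e ≫ toDn i₁ (lam₁ ^ k) = 1 := by
      rw [← toDn_comp, show (η[B] : 𝟙_ (Over S₁) ⟶ B) = 1 by
        rw [Hom.one_def, toUnit_unique (toUnit _) (𝟙 _), Category.id_comp], MonObj.comp_pow, MonObj.one_comp,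
        one_pow, toDn_one]
    have e1 : σ ≫ pullback.fst A.hom i₁ = (1 : dn i₁ (𝟙_ (Over S₁)) ⟶ A).left := congrArg Over.Hom.left eA
    have e2 : σ ≫ (pr i₁ lam₁).left = (lift (1 : dn i₁ (𝟙_ (Over S₁)) ⟶ A) (1 : dn i₁ (𝟙_ (Over S₁)) ⟶ At)).left := by
      refine Eq.trans ?_ (congrArg Over.Hom.left (show e ≫ pr i₁ lam₁ = lift 1 1 by rw [comp_lift, eA, eL]))
      rfl
    rw [cD, map_sub]
    erw [pullA_comp, pullA_comp]
    rw [e1, e2]
    have h1 : pullA (1 : dn i₁ (𝟙_ (Over S₁)) ⟶ A).left (clA hL) = 0 := by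
      rw [Hom.one_def, Over.comp_left, ← pullA_comp, hrig', map_zero]
    have h2 : (lift (1 : dn i₁ (𝟙_ (Over S₁)) ⟶ A) (1 : dn i₁ (𝟙_ (Over S₁)) ⟶ At)).left =
        (1 : dn i₁ (𝟙_ (Over S₁)) ⟶ At).left ≫ PicF.secT A.hom η[A].left (Over.w η[A]) At := by
      apply Limits.pullback.hom_ext
      · refine (congrArg Over.Hom.left (lift_fst (1 : dn i₁ (𝟙_ (Over S₁)) ⟶ A) 1)).trans ?_
        rw [Category.assoc, PicF.secT, Limits.pullback.lift_fst, ← Category.assoc, Over.w, Hom.one_def,
          Over.comp_left]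
        rfl
      · refine (congrArg Over.Hom.left (lift_snd (1 : dn i₁ (𝟙_ (Over S₁)) ⟶ A) 1)).trans ?_
        rw [Category.assoc, PicF.secT, Limits.pullback.lift_snd]
        exact (Category.comp_id _).symm
    erw [h1, h2, ← pullA_comp]
    show 0 - pullA _ (pullA (PicF.secT A.hom η[A].left (Over.w η[A]) At) (clA hP)) = 0
    rw [clA_zero_of_trivialCl _ hP hξ.2.2, map_zero, sub_zero]
  obtain ⟨Z, j, hj, hZ⟩ := DivLocusLib.exists_trivial_locus B.hom σ hσ hD hzero
  haveI := hj
  refine ⟨Z, j ≫ i₁, inferInstance, fun T _ => ?_⟩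
  obtain ⟨T, rfl⟩ : ∃ T' : Over S, T' = T := ⟨T, rfl⟩
  let t := T.hom
  -- the graph condition as an equation of classes
  have hgraph : ∀ l : Red.bc t A ⟶ Red.bc t At,
      PicF.cl ((Scheme.Modules.pullback (pullback.fst A.hom t)).obj L) =
          PicF.pullCl (pullback.lift (𝟙 (Red.bc t A).left) (l ^ k).left
              ((Category.id_comp (Red.bc t A).hom).trans (Over.w (l ^ k)).symm))
            (PicF.pullCl ((AgPol.bcXTIso t A (Red.bc t At)).hom ≫
              PicF.XTmap A.hom (Over.homMk (pullback.fst At.hom t) pullback.condition)) (PicF.cl P)) ↔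
        pullA (pullback.fst A.hom t) (clA hL) = pullA (pr t l).left (clA hP) := fun l => by
    have em : pullback.lift (𝟙 (Red.bc t A).left) (l ^ k).left
        ((Category.id_comp (Red.bc t A).hom).trans (Over.w (l ^ k)).symm) ≫ (AgPol.bcXTIso t A (Red.bc t At)).hom ≫
          PicF.XTmap A.hom (prDn t At) = (pr t l).left := by
      apply Limits.pullback.hom_ext
      · refine Eq.trans ?_ (congrArg Over.Hom.left (lift_fst (prDn t A) (toDn t (l ^ k)))).symm
        rw [Category.assoc, Category.assoc, XTmap_fst]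
        refine (congrArg (_ ≫ ·) (pullbackLeftPullbackSndIso_hom_fst _ _ _)).trans ?_
        rw [← Category.assoc]
        exact (congrArg (· ≫ pullback.fst A.hom t) (Limits.pullback.lift_fst _ _ _)).trans (Category.id_comp _)
      · refine Eq.trans ?_ (congrArg Over.Hom.left (lift_snd (prDn t A) (toDn t (l ^ k)))).symm
        rw [Category.assoc, Category.assoc, XTmap_snd]
        refine (congrArg (_ ≫ ·) ((Category.assoc _ _ _).symm.trans
          (congrArg (· ≫ _) (hom_bcXTIso_snd t (Red.bc t At))))).trans ?_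
        rw [← Category.assoc]
        exact congrArg (· ≫ pullback.fst At.hom t) (Limits.pullback.lift_snd _ _ _)
    rw [pullCl_pullCl, em, pullA_clA _ hL]
    erw [pullA_clA _ hP]
    rw [clA_eq_iff]
    exact ⟨fun h => cl_eq_iff.1 (congrArg toI h), fun ⟨i⟩ => Quot.sound ⟨i⟩⟩
  -- the comparison over `S₁`
  have hcomp : ∀ (h : T.left ⟶ S₁), h ≫ i₁ = t → ∀ (l : Red.bc t A ⟶ Red.bc t At), IsMonHom l →
      l ^ (2 * k) = (Over.pullback t).map f →
        ((∃ u : T.left ⟶ Z, u ≫ j = h) ↔ pullA (pullback.fst A.hom t) (clA hL) = pullA (pr t l).left (clA hP)) := by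
    intro h hh l _ hl
    let q₀ : (Red.bc t A).left ⟶ B.left := Limits.pullback.lift (pullback.fst A.hom t) (pullback.snd A.hom t ≫ h) (by
      rw [Category.assoc, hh]; exact Limits.pullback.condition)
    let q : dn t (Red.bc t A) ⟶ dn i₁ B := Over.homMk q₀ (by
      show q₀ ≫ pullback.snd A.hom i₁ ≫ i₁ = pullback.snd A.hom t ≫ t
      rw [Limits.pullback.lift_snd_assoc, Category.assoc, hh])
    have hq : q ≫ prDn i₁ A = prDn t A := Over.OverMorphism.ext (Limits.pullback.lift_fst _ _ _)
    have hqn : dnMap t (𝟙 (Red.bc t A) ^ (2 * k)) ≫ q = q ≫ dnMap i₁ (𝟙 B ^ (2 * k)) := by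
      have key : (dnMap t (𝟙 (Red.bc t A) ^ (2 * k)) ≫ q) ≫ prDn i₁ A =
          (q ≫ dnMap i₁ (𝟙 B ^ (2 * k))) ≫ prDn i₁ A := by
        rw [Category.assoc, hq, Category.assoc, ← toDn_id t A, ← toDn_comp, Category.comp_id, toDn_pow, toDn_id,
          ← toDn_id i₁ A, ← toDn_comp, Category.comp_id, toDn_pow, toDn_id, MonObj.comp_pow, hq]
      ext1
      refine Limits.pullback.hom_ext (congrArg Over.Hom.left key) ?_
      show ((𝟙 (Red.bc t A) ^ (2 * k)).left ≫ q₀) ≫ pullback.snd A.hom i₁ =
        (q₀ ≫ (𝟙 B ^ (2 * k)).left) ≫ pullback.snd A.hom i₁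
      rw [Category.assoc, Category.assoc, Limits.pullback.lift_snd,
        show (𝟙 B ^ (2 * k)).left ≫ pullback.snd A.hom i₁ = pullback.snd A.hom i₁ from Over.w (𝟙 B ^ (2 * k)),
        Limits.pullback.lift_snd, ← Category.assoc,
        show (𝟙 (Red.bc t A) ^ (2 * k)).left ≫ pullback.snd A.hom t = pullback.snd A.hom t from
          Over.w (𝟙 (Red.bc t A) ^ (2 * k))]
    have hroot : q ≫ toDn i₁ lam₁ = toDn t l := by
      obtain ⟨h1, h2, h3⟩ := mulN_bc (A := A) (2 * k) hn t
      haveI : Flat (dnMap t (𝟙 (Red.bc t A) ^ (2 * k))).left := h1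
      haveI : Surjective (dnMap t (𝟙 (Red.bc t A) ^ (2 * k))).left := h2
      haveI : LocallyOfFinitePresentation (dnMap t (𝟙 (Red.bc t A) ^ (2 * k))).left := h3
      haveI : Epi (dnMap t (𝟙 (Red.bc t A) ^ (2 * k))) := Groth.Agent.MonoQuot.epi_over _
      rw [← cancel_epi (dnMap t (𝟙 (Red.bc t A) ^ (2 * k))), ← Category.assoc, hqn, Category.assoc,
        ← toDn_comp, ← toDn_comp, monHom_pow, Category.id_comp, monHom_pow, Category.id_comp, hpow₁, hl,
        toDn_bc_map, toDn_bc_map, ← Category.assoc, hq]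
    have hpr : q₀ ≫ (pr i₁ lam₁).left = (pr t l).left := by
      refine Eq.trans ?_ (congrArg Over.Hom.left (show q ≫ pr i₁ lam₁ = pr t l by
        rw [comp_lift, hq, toDn_pow, MonObj.comp_pow, hroot, ← toDn_pow]))
      rfl
    have hfac : ∀ c : PicA B.left, pullA (pullback.fst B.hom h) c = 0 ↔ pullA q₀ c = 0 := fun c => by
      let χ : pullback B.hom h ⟶ (Red.bc t A).left := Limits.pullback.lift
        (pullback.fst B.hom h ≫ pullback.fst A.hom i₁) (pullback.snd B.hom h) (by
          rw [Category.assoc, Limits.pullback.condition, ← Category.assoc]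
          exact (congrArg (· ≫ i₁) (Limits.pullback.condition (f := B.hom) (g := h))).trans
            ((Category.assoc _ _ _).trans (congrArg (_ ≫ ·) hh)))
      let ψ : (Red.bc t A).left ⟶ pullback B.hom h := Limits.pullback.lift q₀ (pullback.snd A.hom t)
        (Limits.pullback.lift_snd _ _ _)
      have hχ : χ ≫ q₀ = pullback.fst B.hom h := by
        apply Limits.pullback.hom_ext
        · rw [Category.assoc, Limits.pullback.lift_fst]
          exact Limits.pullback.lift_fst _ _ _
        · rw [Category.assoc, Limits.pullback.lift_snd, ← Category.assoc, Limits.pullback.lift_snd]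
          exact (Limits.pullback.condition (f := B.hom) (g := h)).symm
      have hψ : ψ ≫ pullback.fst B.hom h = q₀ := Limits.pullback.lift_fst _ _ _
      constructor
      · intro e; rw [← hψ, ← pullA_comp, e, map_zero]
      · intro e; rw [← hχ, ← pullA_comp, e, map_zero]
    rw [hZ, hfac, cD, map_sub]
    erw [pullA_comp, pullA_comp]
    rw [hpr, sub_eq_zero, Limits.pullback.lift_fst]
    exact Iff.rfl
  constructor
  · rintro ⟨u, hu⟩
    have hh : (u ≫ j) ≫ i₁ = t := (Category.assoc _ _ _).trans hu
    obtain ⟨l, hl, hlp⟩ := exists_root f (2 * k) hn t ((hS₁ _ t).1 ⟨u ≫ j, hh⟩)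
    exact ⟨l, hl, (isLambda_iff hdual hL hN t _).2 hlp, (hgraph l).2 ((hcomp _ hh l hl hlp).1 ⟨u, rfl⟩)⟩
  · rintro ⟨l, hl, hlam, hcl⟩
    haveI := hl
    have hlp := (isLambda_iff hdual hL hN t _).1 hlam
    obtain ⟨h, hh⟩ := (hS₁ _ t).2 (kills_of_root f (2 * k) t l hlp)
    obtain ⟨u, hu⟩ := (hcomp h hh l hl hlp).2 ((hgraph l).1 hcl)
    exact ⟨u, by rw [← Category.assoc, hu]; exact hh⟩

end Groth.Agent.S14163
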