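import Groth.Statements.S14168
import Groth.Agent.PtBoundLib.Final
-- import your own Groth.Agent.* helpers here

set_option autoImplicit false
universe u
open CategoryTheory CategoryTheory.Limits MonoidalCategory CartesianMonoidalCategory MonObj AlgebraicGeometry
open GIT

namespace Groth.Agent.S14168

/-- Let k be an algebraically closed field, A an abelian variety over k of dimension g with commutative
group law, and φ : A ⟶ P^m_k a closed immersion over k whose image lies in no hyperplane. Let r be
the degree of φ(A) in P^m_k, that is the g-fold self-intersection number of φ^*O(1) (written with an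
inverse L' of φ^*O(1) as the alternating sum of Euler characteristics), and let n be non-zero in k
with n ^ 2 > (m + 1)·r. Then every hyperplane of P^m_k contains the images of fewer than
n^(2g)/(m+1) of the n-torsion k-points of A: for every non-zero c : Fin (m+1) → k, (m + 1) times the
number of k-points x of A with x ^ n = 1 at which the linear form Σ c_i T_i vanishes is less than n
^ (2g). (The published statement concludes that the n-torsion points, in any order, form a stable
point of (P^m)^(n^(2g)); this row states the hyperplane count from which the printed argument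
derives it.) -/
theorem result (k : Type u) [Field k] [IsAlgClosed k] (A : Scheme.{u})
    [A.Over (Spec (CommRingCat.of k))] [GrpObj (A.asOver (Spec (CommRingCat.of k)))] [IsCommMonObj (A.asOver (Spec (CommRingCat.of k)))]
    (g : ℕ) (hA : AgPol.IsAbSch (A.asOver (Spec (CommRingCat.of k))) g) (m : ℕ) (φ : A ⟶ CohB1.ProjSpace m k)
    (hφ : IsClosedImmersion φ) (hφk : φ ≫ CohB1.ProjSpace.toSpec m k = A ↘ Spec (CommRingCat.of k))
    (hspan : ∀ c : Fin (m + 1) → k, c ≠ 0 →
      ∃ x : 𝟙_ (Over (Spec (CommRingCat.of k))) ⟶ A.asOver (Spec (CommRingCat.of k)), c ∉ ProjUP.secKernel m k (x.left ≫ φ))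
    (L' : A.Modules) (hL' : ClSub.IsInverseOf L' ((Scheme.Modules.pullback φ).obj (Twist.twistProjSpace m k 1)))
    (r : ℕ) (hr : FGA.intNum k A g (fun _ : Fin g => L') (Coh.structureModule A) = r)
    (n : ℕ) (hn : (n : k) ≠ 0) (hnr : (m + 1) * r < n ^ 2) (c : Fin (m + 1) → k) (hc : c ≠ 0) :
    (m + 1) * Nat.card {x : 𝟙_ (Over (Spec (CommRingCat.of k))) ⟶ A.asOver (Spec (CommRingCat.of k)) //
        x ^ n = 1 ∧ c ∈ ProjUP.secKernel m k (x.left ≫ φ)} < n ^ (2 * g) := by
  haveI := hφ
  obtain ⟨x₀, hx₀⟩ := hspan c hc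
  have hform : (ProjDegLib.form m k c).IsHomogeneous 1 :=
    MvPolynomial.IsHomogeneous.sum _ _ _ fun i _ => MvPolynomial.isHomogeneous_C_mul_X _ _
  have hn1 : 1 ≤ n := Nat.one_le_iff_ne_zero.2 fun h => hn (by rw [h, Nat.cast_zero])
  obtain ⟨hle, hzero⟩ := PtBoundLib.main hA φ hL' hr (ProjDegLib.form m k c) hform
    ⟨x₀, not_not.1 fun h => hx₀ (((PtBoundLib.rel_iff hA φ hφk x₀).1 c).2 h)⟩ n hn1
  have hcard : Nat.card {x : 𝟙_ (Over (Spec (CommRingCat.of k))) ⟶ A.asOver (Spec (CommRingCat.of k)) //
      x ^ n = 1 ∧ c ∈ ProjUP.secKernel m k (x.left ≫ φ)} =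
    Nat.card {x : 𝟙_ (Over (Spec (CommRingCat.of k))) ⟶ A.asOver (Spec (CommRingCat.of k)) //
      x ^ n = 1 ∧ φ (AVAmpleLib.pt x) ∉ Proj.basicOpen (CohB1.polyGrading m k) (ProjDegLib.form m k c)} :=
    Nat.card_congr (Equiv.subtypeEquivRight fun x => and_congr_right fun _ => (PtBoundLib.rel_iff hA φ hφk x).1 c)
  rw [hcard]
  rcases Nat.eq_zero_or_pos g with h0 | hpos
  · rw [hzero h0, Nat.mul_zero]
    positivity
  rw [show 2 * g = (2 * g - 2) + 2 by omega, pow_add]
  calc _ ≤ (m + 1) * (n ^ (2 * g - 2) * 1 * r) := Nat.mul_le_mul_left _ hle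
    _ = n ^ (2 * g - 2) * ((m + 1) * r) := by ring
    _ < _ := mul_lt_mul_of_pos_left hnr (pow_pos (by omega) _)

end Groth.Agent.S14168
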