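import Groth.Statements.S14170
import Groth.Agent.PtBumpLib.Main
import Groth.Agent.FormalCohLib.ProjAmple

set_option autoImplicit false
set_option backward.isDefEq.respectTransparency false
set_option backward.isDefEq.respectTransparency.types false
set_option maxRecDepth 8000
set_option maxHeartbeats 1000000
universe u
open CategoryTheory CategoryTheory.Limits AlgebraicGeometry
open Variety

namespace Groth.Agent.S14170

/-- Let k be an algebraically closed field of characteristic zero (the published statement is over the
complex numbers; this row allows any algebraically closed field of characteristic zero), N ≥ 0, and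
i : X → P^N_k a closed immersion with X finite as a set, say with t points (a zero-dimensional
closed subscheme supported at t distinct points). Suppose μ : X → ℕ is such that for every point x
the maximal ideal of the local ring O_{X,x} satisfies m_x^(μ(x)+1) = 0 (so μ(x) bounds the largest
exponent with a nonzero power). Then H^1(P^N_k, I_X(j)) = 0 for every integer j ≥ Σ_x μ(x) + t - 1,
where I_X is the ideal sheaf of i viewed as an O-module; and I_X is (Σ_x μ(x) + t)-regular. -/
theorem result (k : Type u) [Field k] [IsAlgClosed k] [CharZero k]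
    (N : ℕ) (X : Scheme.{u}) (i : X ⟶ CohB1.ProjSpace N k) [IsClosedImmersion i] [Finite X]
    (μ : X → ℕ) (hμ : ∀ x : X, IsLocalRing.maximalIdeal (X.presheaf.stalk x) ^ (μ x + 1) = ⊥) :
    (∀ j : ℤ, (∑ᶠ x : X, (μ x : ℤ)) + (Nat.card X : ℤ) - 1 ≤ j →
      Subsingleton (Coh.HH (CohB1.ProjSpace N k)
        (CohB1.tensorMod (ClSub.idealMod i.ker) (Twist.twistProjSpace N k j)) 1)) ∧
    Curv2.IsMRegular k N (ClSub.idealMod i.ker) ((∑ᶠ x : X, (μ x : ℤ)) + (Nat.card X : ℤ)) := by
  haveI : JacobsonSpace (CohB1.ProjSpace N k) := by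
    haveI : IsProper (CohB1.ProjSpace.toSpec N k) := FormalCohLib.isProper_projToSpec N k
    exact LocallyOfFiniteType.jacobsonSpace (CohB1.ProjSpace.toSpec N k)
  haveI : JacobsonSpace X := LocallyOfFiniteType.jacobsonSpace i
  let e : X ≅ i.ker.subscheme := @asIso _ _ _ _ i.toImage inferInstance
  let h : X ≃ₜ i.ker.subscheme := Scheme.homeoOfIso e
  haveI : DiscreteTopology i.ker.subscheme := h.symm.isEmbedding.discreteTopology
  haveI : Finite i.ker.subscheme := Finite.of_equiv X h.toEquiv
  letI := Fintype.ofFinite i.ker.subscheme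
  have hν : ∀ x : i.ker.subscheme,
      IsLocalRing.maximalIdeal (i.ker.subscheme.presheaf.stalk x) ^ (μ (e.inv.base x) + 1) = ⊥ := by
    intro x
    let r := (asIso (e.inv.stalkMap x)).commRingCatIsoToRingEquiv
    have hm : (IsLocalRing.maximalIdeal (X.presheaf.stalk (e.inv.base x))).map r.toRingHom =
        IsLocalRing.maximalIdeal (i.ker.subscheme.presheaf.stalk x) := by
      refine IsLocalRing.eq_maximalIdeal ?_
      exact Ideal.map_isMaximal_of_equiv r
    rw [← hm, ← Ideal.map_pow, hμ, Ideal.map_bot]
  have hsum : ((∑ w : i.ker.subscheme, (μ (e.inv.base w) + 1) : ℕ) : ℤ) =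
      (∑ᶠ x : X, (μ x : ℤ)) + (Nat.card X : ℤ) := by
    rw [Finset.sum_add_distrib, Finset.sum_const, smul_eq_mul, mul_one, Finset.card_univ, Nat.cast_add, Nat.cast_sum,
      Nat.card_congr h.toEquiv, Nat.card_eq_fintype_card, ← finsum_eq_sum_of_fintype]
    exact congrArg (· + _) (finsum_comp_equiv (f := fun x : X => (μ x : ℤ)) h.symm.toEquiv)
  refine ⟨fun j hj => PtBumpLib.subsingleton_H1_twist i.ker hν j (by omega), ?_⟩
  rw [← hsum]
  exact PtBumpLib.isMRegular i.ker hν

end Groth.Agent.S14170
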