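import Groth.Statements.S14173
import Mathlib
import Groth.Agent.PnCohLib.HypSec
-- import your own Groth.Agent.* helpers here

set_option autoImplicit false
universe u
open CategoryTheory CategoryTheory.Limits AlgebraicGeometry
open Variety

namespace Groth.Agent.S14173

/-- Let k be an algebraically closed field of characteristic zero (the published statement is over the
complex numbers; this row allows any algebraically closed field of characteristic zero) and 0 → F₁ →
F₂ → F₃ → 0 a short exact sequence of coherent modules on P^n_k. If F₁ and F₃ are m-regular then so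
is F₂; equivalently reg F₂ ≤ max(reg F₁, reg F₃). -/
theorem result (k : Type u) [Field k] [IsAlgClosed k] [CharZero k]
    (n : ℕ) (S : ShortComplex (CohB1.ProjSpace n k).Modules) (hS : S.ShortExact)
    (h₁ : Coh.IsCoh S.X₁) (h₂ : Coh.IsCoh S.X₂) (h₃ : Coh.IsCoh S.X₃) (m : ℤ)
    (hreg₁ : Curv2.IsMRegular k n S.X₁ m) (hreg₃ : Curv2.IsMRegular k n S.X₃ m) :
    Curv2.IsMRegular k n S.X₂ m := by
  intro i hi hin
  have hT : (S.map (CurvLib.tensorLeft' (Twist.twistProjSpace n k (m - i)))).ShortExact :=
    HilbPolyLib.shortExact_tensor (PicPnLib.twist_inv n k _) hS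
  have e : ∀ F : (CohB1.ProjSpace n k).Modules, Nonempty ((CurvLib.tensorLeft' (Twist.twistProjSpace n k (m - i))).obj F ≅
      CohB1.tensorMod F (Twist.twistProjSpace n k (m - i))) := fun F => ⟨HilbPolyLib.swapIso _ F⟩
  have h1 := hreg₁ i hi hin
  have h3 := hreg₃ i hi hin
  haveI : Subsingleton (Coh.HH _ (S.map (CurvLib.tensorLeft' (Twist.twistProjSpace n k (m - i)))).X₁ i) :=
    PnTildeLib.subsingleton_HH_of_iso (e S.X₁).some i h1
  haveI : Subsingleton (Coh.HH _ (S.map (CurvLib.tensorLeft' (Twist.twistProjSpace n k (m - i)))).X₃ i) :=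
    PnTildeLib.subsingleton_HH_of_iso (e S.X₃).some i h3
  refine PnTildeLib.subsingleton_HH_of_iso (e S.X₂).some.symm i (subsingleton_of_forall_eq 0 fun y => ?_)
  obtain ⟨x, rfl⟩ := PnCohLib.surjective_of_X₃ (k := k) hT (p := i) inferInstance y
  exact (congrArg _ (Subsingleton.elim x 0)).trans (map_zero _)

end Groth.Agent.S14173
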