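import Groth.Statements.S14175
import Groth.Agent.GrpCohLib.Card

set_option autoImplicit false
universe u v w
open GalCoh

namespace Groth.Agent.S14175

/-- Let G be a finite cyclic group generated by t, let m be a natural number dividing the order of G,
and let ρ be a linear representation of G on a module V over a commutative ring k such that m·V = 0
and every element of G whose m-th power is the identity acts trivially on V. Then evaluating a
crossed homomorphism at t induces a bijection from the first cohomology of G with values in V
(crossed homomorphisms f, i.e. f(gh) = ρ(g)f(h) + f(g), modulo the principal ones g ↦ ρ(g)x − x)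
onto the coinvariants V_G (the quotient of V by the span of all ρ(g)v − v): the class of f(t) in V_G
vanishes exactly when f is principal, and every class of V_G is the class of f(t) for some crossed
homomorphism f. The bijection depends on the choice of the generator t. -/
theorem result
    {k : Type u} {G : Type v} {V : Type w} [CommRing k] [Group G] [Finite G]
    [AddCommGroup V] [Module k V] (ρ : Representation k G V)
    (t : G) (ht : ∀ g : G, g ∈ Subgroup.zpowers t)
    (m : ℕ) (hm : m ∣ Nat.card G) (htors : ∀ v : V, m • v = 0)
    (htriv : ∀ g : G, g ^ m = 1 → ∀ v : V, ρ g v = v) :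
    (∀ f : G → V, (∀ g h : G, f (g * h) = ρ g (f h) + f g) →
        (Representation.Coinvariants.mk ρ (f t) = 0 ↔ ∃ x : V, ∀ g : G, f g = ρ g x - x)) ∧
    (∀ v : V, ∃ f : G → V, (∀ g h : G, f (g * h) = ρ g (f h) + f g) ∧
        Representation.Coinvariants.mk ρ (f t) = Representation.Coinvariants.mk ρ v) := by
  classical
  obtain ⟨N, hN⟩ : ∃ N, orderOf t = N := ⟨_, rfl⟩
  have hcard : Nat.card G = N := by rw [← hN, orderOf_eq_card_of_forall_mem_zpowers ht]
  have hN0 : 0 < N := hcard ▸ Nat.card_pos
  let T : Module.End k V := ρ t
  have hTpow : ∀ j : ℕ, ρ (t ^ j) = T ^ j := fun j => map_pow ρ t j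
  let S : ℕ → V → V := fun j v => ∑ i ∈ Finset.range j, (T ^ i) v
  have hSadd : ∀ a b v, S (a + b) v = S a v + (T ^ a) (S b v) := fun a b v => by
    simp only [S, Finset.sum_range_add, map_sum, pow_add, Module.End.mul_apply]
  obtain ⟨d, hd⟩ := hm
  rw [hcard] at hd
  have hTd : ∀ v, (T ^ d) v = v := fun v => by
    rw [← hTpow]
    exact htriv _ (by rw [← pow_mul, mul_comm, ← hd, ← hN, pow_orderOf_eq_one]) v
  have hSd : ∀ q v, S (d * q) v = q • S d v := fun q v => by
    induction q with
    | zero => simp [S]
    | succ q ih =>
      have hq : (T ^ (d * q)) (S d v) = S d v := by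
        clear ih
        induction q with
        | zero => simp
        | succ q ih => rw [Nat.mul_succ, pow_add, Module.End.mul_apply, hTd, ih]
      rw [Nat.mul_succ, hSadd, ih, hq, succ_nsmul]
  have hSN : ∀ v, S N v = 0 := fun v => by rw [hd, mul_comm m d, hSd, htors]
  have hTN : ∀ (q : ℕ) v, (T ^ (N * q)) v = v := fun q v => by
    rw [← hTpow, pow_mul, ← hN, pow_orderOf_eq_one, one_pow, map_one]; rfl
  have hSmod : ∀ j v, S j v = S (j % N) v := fun j v => by
    have hq : ∀ q, S (N * q) v = 0 := fun q => by
      induction q with
      | zero => simp [S]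
      | succ q ih => rw [Nat.mul_succ, hSadd, ih, hSN, map_zero, add_zero]
    conv_lhs => rw [← Nat.div_add_mod j N, hSadd, hq, hTN, zero_add]
  have hlog : ∀ g : G, ∃ j : ℕ, t ^ j = g := fun g =>
    (IsOfFinOrder.mem_powers_iff_mem_zpowers (isOfFinOrder_of_finite t)).2 (ht g)
  choose l hl using hlog
  refine ⟨fun f hf => ?_, fun v => ?_⟩
  · have hf1 : f 1 = 0 := by
      have := hf 1 1
      rw [mul_one, map_one, Module.End.one_apply] at this
      simpa using this
    have hpow : ∀ j : ℕ, f (t ^ j) = S j (f t) := fun j => by
      induction j with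
      | zero => simpa [S] using hf1
      | succ j ih =>
        rw [pow_succ, hf, ih, hTpow, hSadd, add_comm]
        simp [S]
    constructor
    · intro h
      rw [Representation.Coinvariants.mk_eq_zero] at h
      obtain ⟨x, hx⟩ : ∃ x : V, f t = ρ t x - x := by
        have hle : Representation.Coinvariants.ker ρ ≤ LinearMap.range (T - 1) := by
          refine Submodule.span_le.2 ?_
          rintro _ ⟨⟨g, x⟩, rfl⟩
          refine ⟨S (l g) x, ?_⟩
          change (T - 1) (S (l g) x) = ρ g x - x
          conv_rhs => rw [← hl g, hTpow]
          generalize l g = j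
          induction j with
          | zero => simp [S]
          | succ j ih =>
            rw [hSadd, map_add, ih, LinearMap.sub_apply, Module.End.one_apply,
              show S 1 x = x from by simp [S], pow_succ', Module.End.mul_apply]
            abel
        obtain ⟨x, hx⟩ := hle h
        exact ⟨x, hx.symm⟩
      refine ⟨x, fun g => ?_⟩
      rw [← hl g]
      generalize l g = j
      induction j with
      | zero => simpa using hf1
      | succ j ih =>
        rw [pow_succ, hf, ih, hx, map_sub, map_mul, Module.End.mul_apply]
        abel
    · rintro ⟨x, hx⟩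
      rw [hx t, Representation.Coinvariants.mk_eq_zero]
      exact Submodule.subset_span ⟨(t, x), rfl⟩
  · refine ⟨fun g => S (l g) v, fun g h => ?_, ?_⟩
    · change S (l (g * h)) v = ρ g (S (l h) v) + S (l g) v
      have hmod : l (g * h) % N = (l g + l h) % N := by
        have : t ^ l (g * h) = t ^ (l g + l h) := by rw [pow_add, hl, hl, hl]
        rw [← hN]
        exact pow_inj_mod.1 this
      rw [hSmod, hmod, ← hSmod, hSadd, add_comm]
      congr 1
      rw [← hTpow, hl]
    · have h1 : S (l t) v = v := by
        have : t ^ l t = t ^ 1 := by rw [hl, pow_one]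
        rw [hSmod, ← hN, pow_inj_mod.1 this, hN, ← hSmod]
        simp [S]
      exact congrArg _ h1

end Groth.Agent.S14175
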