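import Groth.Statements.S14176
import Groth.Agent.ZModDual.Basic

set_option autoImplicit false
universe u
open Pi1

namespace Groth.Agent.S14176

open W4c1etcurveeff2 in
/-- Let G be a topological group in which some finite subset generates a dense subgroup, let n ≥ 1, and
let S be the closure of the subgroup generated by all n-th powers and all commutators. Write D for
the group of continuous homomorphisms from G to the discrete cyclic group ℤ/n, that is,
homomorphisms with open kernel (the first cohomology of G with coefficients in the trivial module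
ℤ/n), and D^∨ for its ℤ/n-dual, the group of homomorphisms D → ℤ/n. Then: S is carried onto itself
by every group automorphism of G that is a homeomorphism; an element g of G lies in S exactly when
every element of D kills g, and every element of D^∨ is evaluation at some element of G, so that
evaluation identifies G/S with D^∨; and S is the only closed normal subgroup H of G with G/H
isomorphic to D^∨. (The published statement is for a topologically finitely generated group, calls S
characteristic and does not restrict the competing subgroups H; this row asks the automorphisms to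
be homeomorphisms and H to be closed, which is what the argument uses: for the integers with the
p-adic topology times a cyclic group of prime order q ≠ p, the subgroup qℤ × ℤ/q is normal, not
closed, and has quotient isomorphic to D^∨ ≅ ℤ/q, while S = ℤ × 0.) -/
theorem result
    {G : Type u} [Group G] [TopologicalSpace G] [IsTopologicalGroup G]
    (s : Finset G) (hs : Dense ((Subgroup.closure (s : Set G) : Subgroup G) : Set G))
    (n : ℕ) [NeZero n] (S : Subgroup G) (hS : S = powCommClosure G n) :
    (∀ φ : G ≃* G, Continuous φ → Continuous φ.symm → S.map φ.toMonoidHom = S) ∧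
    (∀ g : G, g ∈ S ↔
        ∀ χ : G →* Multiplicative (ZMod n), IsOpen ((χ.ker : Subgroup G) : Set G) → χ g = 1) ∧
    (∀ F : ContChar G n →* Multiplicative (ZMod n), ∃ g : G,
        ∀ χ : ContChar G n, F χ = (χ.1 : G →* Multiplicative (ZMod n)) g) ∧
    (∀ (H : Subgroup G) [H.Normal], IsClosed (H : Set G) →
        Nonempty (G ⧸ H ≃* (ContChar G n →* Multiplicative (ZMod n))) → H = S) := by
  classical
  set P : Subgroup G := Subgroup.closure (Set.range fun g : G => g ^ n) ⊔ commutator G with hP
  have hPS : P ≤ S := hS ▸ Subgroup.le_topologicalClosure _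
  have hpow : ∀ g : G, g ^ n ∈ S := fun g => hPS (Subgroup.mem_sup_left (Subgroup.subset_closure ⟨g, rfl⟩))
  have hclosed : IsClosed (S : Set G) := hS ▸ Subgroup.isClosed_topologicalClosure _
  have hcomm : commutator G ≤ S := le_sup_right.trans hPS
  haveI : S.Normal := ⟨fun h hh g => by
    have : g * h * g⁻¹ * h⁻¹ ∈ S := hcomm (Subgroup.commutator_mem_commutator (Subgroup.mem_top g) (Subgroup.mem_top h))
    simpa using S.mul_mem this hh⟩
  letI : CommGroup (G ⧸ S) :=
    { (inferInstance : Group (G ⧸ S)) with
      mul_comm := fun a b => by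
        induction a using QuotientGroup.induction_on with
        | _ x =>
          induction b using QuotientGroup.induction_on with
          | _ y =>
            rw [← QuotientGroup.mk_mul, ← QuotientGroup.mk_mul, QuotientGroup.eq]
            have := hcomm (Subgroup.commutator_mem_commutator (Subgroup.mem_top y⁻¹) (Subgroup.mem_top x⁻¹))
            simpa [commutatorElement_def, mul_assoc] using this }
  haveI : IsClosed (S : Set G) := hclosed
  have hexp : ∀ a : G ⧸ S, a ^ n = 1 := fun a => by
    induction a using QuotientGroup.induction_on with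
    | _ x => rw [← QuotientGroup.mk_pow, QuotientGroup.eq_one_iff]; exact hpow x
  haveI : Finite (G ⧸ S) := by
    let K : Subgroup (G ⧸ S) := (Subgroup.closure (s : Set G)).map (QuotientGroup.mk' S)
    haveI : Group.FG K := by
      rw [Group.fg_iff_subgroup_fg]
      exact ⟨s.image (QuotientGroup.mk' S), by rw [Finset.coe_image, ← MonoidHom.map_closure]⟩
    haveI : Finite K := CommGroup.finite_of_fg_torsion _ fun a =>
      isOfFinOrder_iff_pow_eq_one.2 ⟨n, NeZero.pos n, Subtype.ext (hexp _)⟩
    have hd : Dense (K : Set (G ⧸ S)) := by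
      show Dense (QuotientGroup.mk '' (Subgroup.closure (s : Set G) : Set G))
      exact (QuotientGroup.mk_surjective.denseRange).dense_image continuous_quot_mk hs
    have hK : (K : Set (G ⧸ S)) = Set.univ := by
      rw [← hd.closure_eq, IsClosed.closure_eq (Set.toFinite (K : Set (G ⧸ S))).isClosed]
    exact Set.finite_univ_iff.1 (hK ▸ Set.toFinite (K : Set (G ⧸ S)))
  haveI : S.FiniteIndex := Subgroup.finiteIndex_of_finite_quotient
  have hSopen : IsOpen (S : Set G) := S.isOpen_of_isClosed_of_finiteIndex hclosed
  have hone : ∀ z : Multiplicative (ZMod n), z ^ n = 1 := fun z =>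
    Multiplicative.toAdd.injective (by rw [toAdd_pow, toAdd_one, nsmul_eq_mul, ZMod.natCast_self, zero_mul])
  have hSle : ∀ χ : G →* Multiplicative (ZMod n), IsOpen ((χ.ker : Subgroup G) : Set G) → S ≤ χ.ker := by
    intro χ hχ
    rw [hS]
    refine Subgroup.topologicalClosure_minimal _ (sup_le ?_ (Abelianization.commutator_subset_ker χ))
      (Subgroup.isClosed_of_isOpen _ hχ)
    rw [Subgroup.closure_le]
    rintro _ ⟨x, rfl⟩
    rw [SetLike.mem_coe, MonoidHom.mem_ker, map_pow, hone]
  letI : Module (ZMod n) (Additive (G ⧸ S)) := AddCommGroup.zmodModule (n := n) (G := Additive (G ⧸ S)) fun a => congrArg Additive.ofMul (hexp a.toMul)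
  let toChar : ((Additive (G ⧸ S)) →ₗ[ZMod n] ZMod n) → ContChar G n := fun φ =>
    ⟨(AddMonoidHom.toMultiplicativeRight φ.toAddMonoidHom).comp (QuotientGroup.mk' S), by
      refine Subgroup.isOpen_mono (fun x hx => ?_) hSopen
      rw [MonoidHom.mem_ker, MonoidHom.comp_apply, QuotientGroup.mk'_apply, (QuotientGroup.eq_one_iff x).2 hx,
        map_one]⟩
  have toChar_apply : ∀ (φ : ((Additive (G ⧸ S)) →ₗ[ZMod n] ZMod n)) (x : G),
      (toChar φ).1 x = Multiplicative.ofAdd (φ (Additive.ofMul (x : G ⧸ S))) := fun φ x => rfl
  have h2 : ∀ g : G, g ∈ S ↔ ∀ χ : G →* Multiplicative (ZMod n), IsOpen ((χ.ker : Subgroup G) : Set G) → χ g = 1 := by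
    refine fun g => ⟨fun hg χ hχ => hSle χ hχ hg, fun h => ?_⟩
    by_contra hg
    obtain ⟨φ, hφ⟩ := ZModDualLib.exists_dual_ne_zero n (v := (Additive.ofMul (g : G ⧸ S) : (Additive (G ⧸ S)))) fun h0 =>
      hg ((QuotientGroup.eq_one_iff g).1 (Additive.ofMul.injective h0))
    have := h (toChar φ).1 (toChar φ).2
    rw [toChar_apply] at this
    exact hφ (Multiplicative.ofAdd.injective this)
  have h3 : ∀ F : ContChar G n →* Multiplicative (ZMod n),
      ∃ g : G, ∀ χ : ContChar G n, F χ = (χ.1 : G →* Multiplicative (ZMod n)) g := by
    intro F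
    have hadd : ∀ φ ψ, toChar (φ + ψ) = toChar φ * toChar ψ := fun φ ψ =>
      Subtype.ext (MonoidHom.ext fun x => rfl)
    have hzero : toChar 0 = 1 := Subtype.ext (MonoidHom.ext fun x => rfl)
    let F₀ : ((Additive (G ⧸ S)) →ₗ[ZMod n] ZMod n) →+ ZMod n :=
      { toFun := fun φ => Multiplicative.toAdd (F (toChar φ))
        map_zero' := by rw [hzero, map_one, toAdd_one]
        map_add' := fun φ ψ => by rw [hadd, map_mul, toAdd_mul] }
    obtain ⟨a, ha⟩ := ZModDualLib.eval_surjective n (M := Additive (G ⧸ S)) (F₀.toZModLinearMap n)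
    obtain ⟨g, hg⟩ := QuotientGroup.mk_surjective a.toMul
    refine ⟨g, fun χ => ?_⟩
    let φ : ((Additive (G ⧸ S)) →ₗ[ZMod n] ZMod n) :=
      AddMonoidHom.toZModLinearMap n
        (MonoidHom.toAdditiveLeft (QuotientGroup.lift S (χ.1 : G →* Multiplicative (ZMod n)) (hSle χ.1 χ.2)))
    have hφ : toChar φ = χ := Subtype.ext (MonoidHom.ext fun x => rfl)
    have h5 := LinearMap.congr_fun ha φ
    have h6 : φ a = Multiplicative.toAdd (F (toChar φ)) := h5
    rw [hφ] at h6
    apply Multiplicative.toAdd.injective
    rw [← h6]
    show Multiplicative.toAdd (QuotientGroup.lift S χ.1 _ a.toMul) = _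
    rw [← hg]
    rfl
  refine ⟨fun φ hφ hφ' => ?_, h2, h3, ?_⟩
  · let φh : G ≃ₜ G := { φ.toEquiv with continuous_toFun := hφ, continuous_invFun := hφ' }
    have hPmap : P.map φ.toMonoidHom = P := by
      rw [hP, Subgroup.map_sup, MonoidHom.map_closure, commutator_def, Subgroup.map_commutator,
        Subgroup.map_top_of_surjective _ φ.surjective]
      congr 2
      rw [← Set.range_comp]
      exact (funext fun g => map_pow φ g n : (φ ∘ fun g : G => g ^ n) = (fun g => g ^ n) ∘ φ) ▸
        φ.surjective.range_comp _
    rw [hS]
    apply SetLike.coe_injective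
    show φh '' closure (P : Set G) = closure (P : Set G)
    rw [φh.image_closure]
    exact congrArg (fun K : Subgroup G => closure (K : Set G)) hPmap
  · intro H hH hHc ⟨e⟩
    let ev : G →* (ContChar G n →* Multiplicative (ZMod n)) :=
      { toFun := fun g => ⟨⟨fun χ => (χ.1 : G →* Multiplicative (ZMod n)) g, rfl⟩, fun _ _ => rfl⟩
        map_one' := MonoidHom.ext fun χ => map_one χ.1
        map_mul' := fun a b => MonoidHom.ext fun χ => map_mul χ.1 a b }
    have hker : ev.ker = S := by
      ext g
      rw [h2 g, MonoidHom.mem_ker]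
      exact ⟨fun h χ hχ => DFunLike.congr_fun h (⟨χ, hχ⟩ : ContChar G n), fun h => MonoidHom.ext fun χ => h χ.1 χ.2⟩
    have hev : Function.Surjective ev := fun F => by
      obtain ⟨g, hg⟩ := h3 F
      exact ⟨g, MonoidHom.ext fun χ => (hg χ).symm⟩
    have e' : G ⧸ S ≃* (ContChar G n →* Multiplicative (ZMod n)) :=
      (QuotientGroup.quotientMulEquivOfEq hker.symm).trans (QuotientGroup.quotientKerEquivOfSurjective ev hev)
    have hle : S ≤ H := by
      rw [hS]
      refine Subgroup.topologicalClosure_minimal _ (sup_le ?_ ?_) hHc
      · rw [Subgroup.closure_le]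
        rintro _ ⟨x, rfl⟩
        rw [SetLike.mem_coe, ← QuotientGroup.eq_one_iff]
        apply e.injective
        rw [QuotientGroup.mk_pow, map_pow, map_one]
        exact MonoidHom.ext fun χ => hone _
      · rw [commutator_def, Subgroup.commutator_le]
        intro x _ y _
        rw [← QuotientGroup.eq_one_iff]
        apply e.injective
        rw [commutatorElement_def, QuotientGroup.mk_mul, QuotientGroup.mk_mul, QuotientGroup.mk_mul,
          QuotientGroup.mk_inv, QuotientGroup.mk_inv, map_mul, map_mul, map_mul, map_inv, map_inv, map_one]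
        rw [mul_comm (e (x : G ⧸ H)), mul_inv_cancel_right, mul_inv_cancel]
    have hidx : H.index = S.index := by
      rw [Subgroup.index_eq_card, Subgroup.index_eq_card]
      exact Nat.card_congr (e.trans e'.symm).toEquiv
    have hmul := Subgroup.relIndex_mul_index hle
    rw [hidx] at hmul
    exact le_antisymm (Subgroup.relIndex_eq_one.1
      ((Nat.mul_eq_right (Subgroup.FiniteIndex.index_ne_zero)).1 hmul)) hle

end Groth.Agent.S14176
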