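import Groth.Statements.S14177
import Mathlib
-- import your own Groth.Agent.* helpers here

set_option autoImplicit false
universe u v w
open scoped nonZeroDivisors
open EtAlg

namespace Groth.Agent.S14177

/-- Let A be a Dedekind domain with fraction field K, let n be a natural number invertible in A, let f
be a nonzero element of K whose principal fractional ideal is the n-th power of a fractional ideal I
(the divisor of f is n times a divisor), and let L = K(α) be a field extension of K generated by a
single element α with α^n = f. Then the integral closure of A in L is finite and étale over A. (The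
published statement is for the normalisation of an integral smooth curve over a perfect field in
such an extension of its function field; this row states the same for any Dedekind domain, the case
the local argument covers.) -/
theorem result
    {A : Type u} {K : Type v} {L : Type w} [CommRing A] [IsDedekindDomain A]
    [Field K] [Algebra A K] [IsFractionRing A K]
    [Field L] [Algebra K L] [Algebra A L] [IsScalarTower A K L]
    (n : ℕ) (hn : IsUnit (n : A)) (f : K) (hf : f ≠ 0)
    (I : FractionalIdeal A⁰ K) (hI : FractionalIdeal.spanSingleton A⁰ f = I ^ n)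
    (α : L) (hα : α ^ n = algebraMap K L f) (hgen : IntermediateField.adjoin K {α} = ⊤) :
    Algebra.Etale A (integralClosure A L) ∧ Module.Finite A (integralClosure A L) := by
  classical
  have hn0 : n ≠ 0 := fun h => by subst h; simp at hn
  haveI : Nontrivial A := inferInstance
  have hnK : (n : K) ≠ 0 := by
    have := (hn.map (algebraMap A K)).ne_zero
    rwa [map_natCast] at this
  have hαint : IsIntegral K α := IsIntegral.of_pow (Nat.pos_of_ne_zero hn0) (hα ▸ isIntegral_algebraMap)
  have hαsep : IsSeparable K α := by
    refine (Polynomial.Separable.of_dvd (Polynomial.separable_X_pow_sub_C f hnK hf) (minpoly.dvd K α ?_))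
    simp [hα]
  haveI hfd : FiniteDimensional K L := by
    have := IntermediateField.adjoin.finiteDimensional hαint
    rw [hgen] at this
    exact Module.Finite.equiv (IntermediateField.topEquiv (F := K) (E := L)).toLinearEquiv
  haveI : Algebra.IsSeparable K L := by
    have := (IntermediateField.isSeparable_adjoin_simple_iff_isSeparable K L).2 hαsep
    rw [hgen] at this
    exact Algebra.IsSeparable.of_algHom K (↥(⊤ : IntermediateField K L)) (IntermediateField.topEquiv (F := K) (E := L)).symm.toAlgHom
  haveI hfin : Module.Finite A (integralClosure A L) := IsIntegralClosure.finite A K L (integralClosure A L)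
  haveI : IsDedekindDomain (integralClosure A L) := IsIntegralClosure.isDedekindDomain A K L (integralClosure A L)
  haveI : IsFractionRing (integralClosure A L) L := integralClosure.isFractionRing_of_finite_extension K L
  haveI hinjAL : FaithfulSMul A L := by
    rw [faithfulSMul_iff_algebraMap_injective, IsScalarTower.algebraMap_eq A K L]
    exact (algebraMap K L).injective.comp (IsFractionRing.injective A K)
  haveI : Module.IsTorsionFree A (integralClosure A L) := by
    haveI : FaithfulSMul A (integralClosure A L) := (faithfulSMul_iff_algebraMap_injective _ _).2 fun a b h =>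
      FaithfulSMul.algebraMap_injective A L (congrArg Subtype.val h)
    infer_instance
  letI := FractionRing.liftAlgebra A (FractionRing (integralClosure A L))
  haveI : IsScalarTower A (FractionRing A) (FractionRing (integralClosure A L)) :=
    FractionRing.isScalarTower_liftAlgebra A (FractionRing (integralClosure A L))
  haveI : Algebra.IsSeparable (FractionRing A) (FractionRing (integralClosure A L)) :=
    Algebra.IsSeparable.of_equiv_equiv (FractionRing.algEquiv A K).symm.toRingEquiv
      (FractionRing.algEquiv (integralClosure A L) L).symm.toRingEquiv (by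
        refine IsFractionRing.ringHom_ext (A := A) fun r => ?_
        simp only [RingHom.comp_apply, RingEquiv.toRingHom_eq_coe, RingHom.coe_coe, AlgEquiv.toRingEquiv_eq_coe,
          AlgEquiv.coe_ringEquiv, AlgEquiv.commutes]
        rw [← IsScalarTower.algebraMap_apply A K L, IsScalarTower.algebraMap_apply A (integralClosure A L) L,
          AlgEquiv.commutes, ← IsScalarTower.algebraMap_apply A (FractionRing A) (FractionRing (integralClosure A L)),
          ← IsScalarTower.algebraMap_apply A (integralClosure A L) (FractionRing (integralClosure A L))])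
  -- write `I` as an integral ideal over a denominator
  obtain ⟨d, J0, hd, hIJ⟩ := FractionalIdeal.exists_eq_spanSingleton_mul I
  have hdK : algebraMap A K d ≠ 0 := (map_ne_zero_iff _ (IsFractionRing.injective A K)).2 hd
  set c : K := f * algebraMap A K d ^ n with hc
  have hc0 : c ≠ 0 := mul_ne_zero hf (pow_ne_zero _ hdK)
  have hJn : ((J0 : Ideal A) : FractionalIdeal A⁰ K) ^ n = FractionalIdeal.spanSingleton A⁰ c := by
    have h1 : FractionalIdeal.spanSingleton A⁰ (algebraMap A K d) * I = (J0 : FractionalIdeal A⁰ K) := by
      rw [hIJ, ← mul_assoc, FractionalIdeal.spanSingleton_mul_spanSingleton, mul_inv_cancel₀ hdK,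
        FractionalIdeal.spanSingleton_one, one_mul]
    rw [← h1, mul_pow, ← hI, FractionalIdeal.spanSingleton_pow, FractionalIdeal.spanSingleton_mul_spanSingleton,
      hc, mul_comm f]
  have hJ0 : J0 ≠ ⊥ := by
    intro h
    rw [h, FractionalIdeal.coeIdeal_bot, zero_pow hn0, eq_comm, FractionalIdeal.spanSingleton_eq_zero_iff] at hJn
    exact hc0 hJn
  suffices hunr : Algebra.FormallyUnramified A (integralClosure A L) by
    haveI : Algebra.FinitePresentation A (integralClosure A L) :=
      Algebra.FinitePresentation.of_finiteType.1 inferInstance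
    exact ⟨Algebra.Etale.of_formallyUnramified_of_flat, hfin⟩
  rw [Algebra.formallyUnramified_iff_forall]
  intro P
  rw [← not_dvd_differentIdeal_iff]
  set p : Ideal A := P.asIdeal.comap (algebraMap A (integralClosure A L)) with hp
  haveI : p.IsPrime := Ideal.IsPrime.comap _
  obtain ⟨a, haJ, hap⟩ : ∃ a ∈ J0, a ∉ J0 * p := by
    by_contra h
    push Not at h
    have h1 : J0 * p = J0 * 1 := by
      rw [mul_one]; exact le_antisymm Ideal.mul_le_left h
    have := mul_left_cancel₀ hJ0 h1
    rw [Ideal.one_eq_top] at this
    exact Ideal.IsPrime.ne_top inferInstance this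
  have ha0 : a ≠ 0 := fun h => hap (h ▸ zero_mem _)
  obtain ⟨J1, hJ1⟩ : J0 ∣ Ideal.span {a} := Ideal.dvd_iff_le.2 ((Ideal.span_singleton_le_iff_mem _).2 haJ)
  have hJ1p : ¬ J1 ≤ p := fun h => hap (Ideal.mul_mono_right h (hJ1 ▸ Ideal.mem_span_singleton_self a))
  have hfrac : FractionalIdeal.spanSingleton A⁰ (algebraMap A K (a ^ n)) =
      FractionalIdeal.spanSingleton A⁰ c * ((J1 ^ n : Ideal A) : FractionalIdeal A⁰ K) := by
    rw [← hJn, ← FractionalIdeal.coeIdeal_span_singleton, ← Ideal.span_singleton_pow, hJ1, mul_pow,
      FractionalIdeal.coeIdeal_mul, FractionalIdeal.coeIdeal_pow, FractionalIdeal.coeIdeal_pow]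
  obtain ⟨y, hy, hya⟩ := FractionalIdeal.mem_singleton_mul.1
    (hfrac ▸ FractionalIdeal.mem_spanSingleton_self A⁰ (algebraMap A K (a ^ n)))
  obtain ⟨s, hs, rfl⟩ := (FractionalIdeal.mem_coeIdeal _).1 hy
  have hsp : s ∉ p := by
    intro h
    have h1 : ((Ideal.span {s} : Ideal A) : FractionalIdeal A⁰ K) = ((J1 ^ n : Ideal A) : FractionalIdeal A⁰ K) := by
      refine mul_left_cancel₀ (show FractionalIdeal.spanSingleton A⁰ c ≠ 0 by
        rwa [ne_eq, FractionalIdeal.spanSingleton_eq_zero_iff]) ?_
      rw [← hfrac, FractionalIdeal.coeIdeal_span_singleton, FractionalIdeal.spanSingleton_mul_spanSingleton, hya]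
    have h2 := FractionalIdeal.coeIdeal_injective h1
    have h3 : J1 ^ n ≤ p := h2 ▸ (Ideal.span_singleton_le_iff_mem _).2 h
    exact hJ1p (Ideal.IsPrime.le_of_pow_le h3)
  have hs0 : algebraMap A K s ≠ 0 := (map_ne_zero_iff _ (IsFractionRing.injective A K)).2 fun h => hsp (h ▸ zero_mem _)
  have haK : algebraMap A K a ≠ 0 := (map_ne_zero_iff _ (IsFractionRing.injective A K)).2 ha0
  -- the generator
  set κ : K := algebraMap A K s * (algebraMap A K d / algebraMap A K a) with hκ
  have hκ0 : κ ≠ 0 := mul_ne_zero hs0 (div_ne_zero hdK haK)
  set v : A := s ^ (n - 1) with hv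
  set xL : L := algebraMap K L κ * α with hxL
  have hxn : xL ^ n = algebraMap A L v := by
    rw [hxL, mul_pow, hα, ← map_pow, ← map_mul, IsScalarTower.algebraMap_apply A K L, hv]
    congr 1
    rw [hκ, mul_pow, div_pow, map_pow]
    rw [map_pow] at hya
    rw [hc] at hya
    field_simp
    rw [← Nat.sub_add_cancel (Nat.pos_of_ne_zero hn0), pow_succ] at hya ⊢
    simp only [Nat.add_sub_cancel]
    linear_combination -(algebraMap A K s ^ (n - 1)) * hya
  have hxint : IsIntegral A xL :=
    IsIntegral.of_pow (Nat.pos_of_ne_zero hn0) (hxn ▸ isIntegral_algebraMap)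
  let x : integralClosure A L := ⟨xL, hxint⟩
  have hxnB : x ^ n = algebraMap A (integralClosure A L) v := Subtype.ext hxn
  have hadj : Algebra.adjoin K {algebraMap (integralClosure A L) L x} = ⊤ := by
    rw [← IntermediateField.adjoin_simple_toSubalgebra_of_isAlgebraic (Algebra.IsAlgebraic.isAlgebraic _),
      show IntermediateField.adjoin K {algebraMap (integralClosure A L) L x} = ⊤ from ?_,
      IntermediateField.top_toSubalgebra]
    rw [eq_top_iff, ← hgen, IntermediateField.adjoin_simple_le_iff]
    have hmem : xL ∈ IntermediateField.adjoin K {xL} := IntermediateField.mem_adjoin_simple_self K xL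
    have : α = algebraMap K L κ⁻¹ * xL := by
      rw [hxL, ← mul_assoc, ← map_mul, inv_mul_cancel₀ hκ0, map_one, one_mul]
    rw [this]
    exact mul_mem (IntermediateField.algebraMap_mem _ _) hmem
  have hD := aeval_derivative_mem_differentIdeal A K L x hadj
  intro hdvd
  have hq : Polynomial.aeval x (Polynomial.derivative (minpoly A x)) ∈ P.asIdeal := Ideal.le_of_dvd hdvd hD
  obtain ⟨r, hr⟩ : minpoly A x ∣ Polynomial.X ^ n - Polynomial.C v :=
    minpoly.isIntegrallyClosed_dvd (Algebra.IsIntegral.isIntegral x) (by simp [hxnB])
  have h1 := congrArg (fun g => Polynomial.aeval x (Polynomial.derivative g)) hr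
  simp only [Polynomial.derivative_mul, map_add, map_mul, minpoly.aeval, zero_mul, add_zero,
    Polynomial.derivative_sub, Polynomial.derivative_X_pow, Polynomial.derivative_C, sub_zero,
    Polynomial.aeval_C, map_pow, Polynomial.aeval_X, map_natCast] at h1
  have h2 : (n : integralClosure A L) * x ^ (n - 1) ∈ P.asIdeal := h1 ▸ Ideal.mul_mem_right _ _ hq
  rcases P.isPrime.mem_or_mem h2 with h | h
  · exact P.isPrime.ne_top (Ideal.eq_top_of_isUnit_mem _ h (map_natCast (algebraMap A (integralClosure A L)) n ▸ hn.map _))
  · apply hsp
    have h3 : x ^ n ∈ P.asIdeal := Ideal.pow_mem_of_mem _ (P.isPrime.mem_of_pow_mem _ h) n (Nat.pos_of_ne_zero hn0)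
    rw [hxnB] at h3
    exact (inferInstance : p.IsPrime).mem_of_pow_mem (n - 1) h3

end Groth.Agent.S14177
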