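import Groth.Statements.S14178
import Mathlib
-- import your own Groth.Agent.* helpers here

set_option autoImplicit false
universe u v w
open scoped nonZeroDivisors
open EtAlg

namespace Groth.Agent.S14178

/-- Let A be a Dedekind domain with fraction field K, let n be a natural number invertible in A such
that K contains a primitive n-th root of unity, let f be a nonzero element of K and I an invertible
fractional ideal of A with (f) = I^n whose class in the ideal class group of A has order exactly n
(the divisor of f is n times a divisor whose class has order n), and let L = K(α) be a field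
extension of K generated by a single element α with α^n = f. Then L is Galois over K of degree n
with cyclic Galois group. (The published statement is for an integral smooth curve over a perfect
field containing a primitive n-th root of unity, with the Picard group of the curve in place of the
class group; this row states it for any Dedekind domain.) -/
theorem result
    {A : Type u} {K : Type v} {L : Type w} [CommRing A] [IsDedekindDomain A]
    [Field K] [Algebra A K] [IsFractionRing A K]
    [Field L] [Algebra K L]
    (n : ℕ) (hn : IsUnit (n : A)) (ζ : K) (hζ : IsPrimitiveRoot ζ n) (f : K) (hf : f ≠ 0)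
    (I : (FractionalIdeal A⁰ K)ˣ) (hI : FractionalIdeal.spanSingleton A⁰ f = (I : FractionalIdeal A⁰ K) ^ n)
    (hord : orderOf (ClassGroup.mk K I) = n)
    (α : L) (hα : α ^ n = algebraMap K L f) (hgen : IntermediateField.adjoin K {α} = ⊤) :
    IsGalois K L ∧ IsCyclic (L ≃ₐ[K] L) ∧ Module.finrank K L = n := by
  classical
  have hK : (n : K) ≠ 0 := by
    rw [← map_natCast (algebraMap A K)]
    exact fun h => hn.ne_zero ((map_eq_zero_iff _ (IsFractionRing.injective A K)).1 h)
  have hn0 : 0 < n := Nat.pos_of_ne_zero fun h => hK (by rw [h, Nat.cast_zero])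
  have hint : IsIntegral K α :=
    ⟨Polynomial.X ^ n - Polynomial.C f, Polynomial.monic_X_pow_sub_C f hn0.ne', by simp [hα]⟩
  haveI : FiniteDimensional K L := by
    have := IntermediateField.adjoin.finiteDimensional hint
    rw [hgen] at this
    exact IntermediateField.topEquiv.toLinearEquiv.finiteDimensional
  set g := minpoly K α with hg
  have hrank : Module.finrank K L = g.natDegree := by
    rw [← IntermediateField.adjoin.finrank hint, hgen, IntermediateField.finrank_top']
  have hdvd : g ∣ Polynomial.X ^ n - Polynomial.C f := minpoly.dvd K α (by simp [hα])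
  have hdle : g.natDegree ≤ n := by
    have h := Polynomial.natDegree_le_of_dvd hdvd (Polynomial.X_pow_sub_C_ne_zero hn0 f)
    rwa [Polynomial.natDegree_X_pow_sub_C] at h
  have hd0 : 0 < g.natDegree := minpoly.natDegree_pos hint
  have hα0 : α ≠ 0 := fun h => hf ((map_eq_zero (algebraMap K L)).1 (by rw [← hα, h, zero_pow hn0.ne']))
  have hζL := hζ.map_of_injective (algebraMap K L).injective
  obtain ⟨c, hc⟩ : ∃ c : K, algebraMap K L c = α ^ g.natDegree := by
    have hs : (g.map (algebraMap K L)).Splits := by
      refine (X_pow_sub_C_splits_of_isPrimitiveRoot hζL hα).of_dvd ?_ ?_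
      · exact Polynomial.X_pow_sub_C_ne_zero hn0 _
      · have := Polynomial.map_dvd (algebraMap K L) hdvd
        simpa using this
    have hprod := hs.coeff_zero_eq_prod_roots_of_monic ((minpoly.monic hint).map _)
    have hroots : ∀ r ∈ (g.map (algebraMap K L)).roots, ∃ z : K, r = algebraMap K L z * α := by
      intro r hr
      have h1 := Polynomial.eval_eq_zero_of_dvd_of_eval_eq_zero (Polynomial.map_dvd (algebraMap K L) hdvd)
        (Polynomial.mem_roots'.1 hr).2
      have h2 : (r / α) ^ n = 1 := by
        rw [div_pow, hα]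
        simp [sub_eq_zero] at h1
        rw [h1, div_self ((map_ne_zero _).2 hf)]
      haveI : NeZero n := ⟨hn0.ne'⟩
      obtain ⟨i, -, hi⟩ := hζL.eq_pow_of_pow_eq_one h2
      exact ⟨ζ ^ i, by rw [map_pow, hi, div_mul_cancel₀ _ hα0]⟩
    obtain ⟨z, hz⟩ : ∃ z : K, (g.map (algebraMap K L)).roots.prod = algebraMap K L z * α ^ (g.map (algebraMap K L)).roots.card := by
      generalize (g.map (algebraMap K L)).roots = m at hroots ⊢
      induction m using Multiset.induction with
      | empty => exact ⟨1, by simp⟩
      | cons a s ih =>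
        obtain ⟨z₁, hz₁⟩ := hroots a (Multiset.mem_cons_self a s)
        obtain ⟨z, hz⟩ := ih fun r hr => hroots r (Multiset.mem_cons_of_mem hr)
        exact ⟨z₁ * z, by rw [Multiset.prod_cons, Multiset.card_cons, hz, hz₁, map_mul, pow_succ]; ring⟩
    rw [hs.natDegree_eq_card_roots.symm, Polynomial.natDegree_map] at hz
    rw [hz, Polynomial.coeff_map, Polynomial.natDegree_map] at hprod
    have hc0 : g.coeff 0 ≠ 0 := fun h => by
      have := minpoly.coeff_zero_eq_zero hint
      exact hα0 (this.1 h)
    have hz0 : z ≠ 0 := fun h => hc0 ((map_eq_zero (algebraMap K L)).1 (by rw [hprod, h]; simp))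
    refine ⟨g.coeff 0 / ((-1) ^ g.natDegree * z), ?_⟩
    rw [map_div₀, hprod, map_mul, map_pow, map_neg, map_one, ← mul_assoc, mul_div_cancel_left₀]
    exact mul_ne_zero (pow_ne_zero _ (neg_ne_zero.2 one_ne_zero)) ((map_ne_zero _).2 hz0)
  have hcn : c ^ n = f ^ g.natDegree := (algebraMap K L).injective (by
    rw [map_pow, map_pow, hc, ← hα, ← pow_mul, ← pow_mul, mul_comm])
  have hcI : FractionalIdeal.spanSingleton A⁰ c = (I : FractionalIdeal A⁰ K) ^ g.natDegree := by
    have hpow : FractionalIdeal.spanSingleton A⁰ c ^ n = ((I : FractionalIdeal A⁰ K) ^ g.natDegree) ^ n := by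
      rw [FractionalIdeal.spanSingleton_pow, hcn, ← FractionalIdeal.spanSingleton_pow, hI, ← pow_mul, ← pow_mul, mul_comm]
    obtain ⟨a, J, ha, hJ⟩ := FractionalIdeal.exists_eq_spanSingleton_mul (FractionalIdeal.spanSingleton A⁰ c)
    obtain ⟨a', J', ha', hJ'⟩ := FractionalIdeal.exists_eq_spanSingleton_mul ((I : FractionalIdeal A⁰ K) ^ g.natDegree)
    have hak : ∀ b : A, b ≠ 0 → algebraMap A K b ≠ 0 := fun b hb => (map_ne_zero_iff _ (IsFractionRing.injective A K)).2 hb
    have key : ∀ (b b' : A) (M : Ideal A), b ≠ 0 → ∀ x : FractionalIdeal A⁰ K,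
        x = FractionalIdeal.spanSingleton A⁰ (algebraMap A K b)⁻¹ * (M : FractionalIdeal A⁰ K) →
        ((Ideal.span {b'} * M : Ideal A) : FractionalIdeal A⁰ K) =
          FractionalIdeal.spanSingleton A⁰ (algebraMap A K (b * b')) * x := by
      intro b b' M hb x hx
      rw [hx, FractionalIdeal.coeIdeal_mul, FractionalIdeal.coeIdeal_span_singleton, ← mul_assoc,
        FractionalIdeal.spanSingleton_mul_spanSingleton, map_mul]
      congr 2
      field_simp [hak b hb]
    have h1 := key a a' J ha _ hJ
    have h2 := key a' a J' ha' _ hJ'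
    have h3 : (Ideal.span {a'} * J) ^ n = (Ideal.span {a} * J') ^ n :=
      FractionalIdeal.coeIdeal_injective (K := K) (by
        show ((_ : Ideal A) : FractionalIdeal A⁰ K) = ((_ : Ideal A) : FractionalIdeal A⁰ K)
        rw [FractionalIdeal.coeIdeal_pow, FractionalIdeal.coeIdeal_pow, h1, h2, mul_pow, mul_pow, hpow, mul_comm a a'])
    have h4 : Ideal.span {a'} * J = Ideal.span {a} * J' := dvd_antisymm
      ((UniqueFactorizationMonoid.pow_dvd_pow_iff_dvd hn0.ne').1 h3.dvd) ((UniqueFactorizationMonoid.pow_dvd_pow_iff_dvd hn0.ne').1 h3.symm.dvd)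
    rw [h4, h2, mul_comm a' a] at h1
    exact (mul_left_cancel₀ (FractionalIdeal.spanSingleton_ne_zero_iff.2 (hak _ (mul_ne_zero ha ha'))) h1).symm
  have hd : g.natDegree = n := by
    refine le_antisymm hdle (Nat.le_of_dvd hd0 ?_)
    rw [← hord, orderOf_dvd_iff_pow_eq_one, ← map_pow]
    refine ClassGroup.mk_eq_one_iff.2 ⟨c, ?_⟩
    rw [Units.val_pow_eq_pow_val, ← hcI]
    exact FractionalIdeal.coe_spanSingleton _ _
  have hr : Module.finrank K L = n := hrank.trans hd
  have hirr : Irreducible (Polynomial.X ^ (Module.finrank K L) - Polynomial.C f) :=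
    irreducible_X_pow_sub_C_of_root_adjoin_eq_top (by rw [hr]; exact hα) hgen
  have hprim : (primitiveRoots (Module.finrank K L) K).Nonempty := ⟨ζ, by rw [hr, mem_primitiveRoots hn0]; exact hζ⟩
  haveI := isSplittingField_X_pow_sub_C_of_root_adjoin_eq_top (K := K) (L := L) hprim (a := f) (α := α) (by rw [hr]; exact hα) hgen
  haveI : NeZero (Module.finrank K L) := ⟨by rw [hr]; exact hn0.ne'⟩
  exact ⟨isGalois_of_isSplittingField_X_pow_sub_C hprim hirr L, isCyclic_of_isSplittingField_X_pow_sub_C hprim hirr L, hr⟩


end Groth.Agent.S14178
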