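import Groth.Statements.S14180
import Groth.Agent.NodeCohLib.Main
import Groth.Agent.EtAcycLib.Range
import Groth.Agent.CurveH2Lib.Main

set_option autoImplicit false
set_option backward.isDefEq.respectTransparency false
set_option backward.isDefEq.respectTransparency.types false
set_option maxHeartbeats 1000000
set_option synthInstance.maxHeartbeats 400000
universe u
open CategoryTheory CategoryTheory.Limits AlgebraicGeometry
open EtCore

namespace Groth.Agent.S14180

attribute [local instance] EtSliceLib.pullExact

theorem transfer {Y X : Scheme.{u}} (ν : Y ⟶ X) [PreservesFiniteLimits (EtCoh.pull ν)] {A B : EtCoh.Ab X}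
    (e : A ≅ B) (n : ℕ)
    (h : Function.Surjective (EtCore.Hpull ν B 1) ∧ Nat.card (EtCore.Hpull ν B 1).ker = n) :
    Function.Surjective (EtCore.Hpull ν A 1) ∧ Nat.card (EtCore.Hpull ν A 1).ker = n := by
  have ha := EtAcycLib.bijective_mk₀_iso_postcomp (Z := EtCoh.const X ℤ) e 1
  have hb := EtAcycLib.bijective_mk₀_iso_postcomp (Z := EtCoh.const Y ℤ) ((EtCoh.pull ν).mapIso e) 1
  have hc := fun x : EtCoh.H X A 1 => EtAcycLib.Hpull_postcomp ν e.hom 1 x
  refine ⟨fun y => ?_, ?_⟩
  · obtain ⟨b, hb'⟩ := h.1 (y.comp (CategoryTheory.Abelian.Ext.mk₀ ((EtCoh.pull ν).map e.hom)) (add_zero 1))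
    obtain ⟨a, rfl⟩ := ha.2 b
    exact ⟨a, hb.1 ((hc a).symm.trans hb')⟩
  · rw [← h.2]
    refine Nat.card_congr ((Equiv.ofBijective _ ha).subtypeEquiv fun x => ?_)
    show EtCore.Hpull ν A 1 x = 0 ↔ EtCore.Hpull ν B 1 _ = 0
    rw [show EtCore.Hpull ν B 1 ((Equiv.ofBijective _ ha) x) = _ from hc x]
    exact ⟨fun h => by rw [h, CategoryTheory.Abelian.Ext.zero_comp],
      fun h => hb.1 (h.trans (by simp))⟩



/-- Let k be an algebraically closed field and n ≥ 1 an integer invertible in k; let X be an integral
proper curve over k (separated and of finite type, of dimension one) whose closed points are all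
smooth points or nodes, with exactly one node, and let ν : X^ν ⟶ X be its normalization. Then the
pullback map H¹(X, μ_n) → H¹(X^ν, ν⁻¹μ_n) on étale cohomology is surjective and its kernel has
exactly n elements (it is the image of (μ_n(k) × μ_n(k))/μ_n(k)). (The published statement is for
the base change to an algebraic closure of a projective nodal curve with one node over a perfect
field and records the Galois-module structure of the short exact sequence; this row keeps the part
over the algebraically closed field. Exactness of pullback and the quasi-compactness and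
quasi-separatedness of Spec K(X) ⟶ X always hold; the binders only serve to form the map and the
normalization.) -/
theorem result
    (k : Type u) [Field k] [IsAlgClosed k] (X : Scheme.{u}) [X.Over (Spec (CommRingCat.of k))]
    [IsProper (X ↘ Spec (CommRingCat.of k))] [IsIntegral X]
    (hdim : topologicalKrullDim X = 1)
    (hnodal : Curv2.AtWorstNodal k X) (hone : Nat.card {x : X // Curv2.IsNode k X x} = 1)
    [QuasiCompact (X.fromSpecStalk (genericPoint X))] [QuasiSeparated (X.fromSpecStalk (genericPoint X))]
    [PreservesFiniteLimits (EtCoh.pull (Curv2.normalizationι X))]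
    (n : ℕ) (hn : 1 ≤ n) (hnk : (n : k) ≠ 0) :
    Function.Surjective (EtCore.Hpull (Curv2.normalizationι X) (EtCoh.mu X n) 1) ∧
    Nat.card (EtCore.Hpull (Curv2.normalizationι X) (EtCoh.mu X n) 1).ker = n := by
  obtain ⟨e⟩ := CurveH2Lib.mu_iso_const k (X ↘ Spec (CommRingCat.of k)) n hnk
  exact transfer (Curv2.normalizationι X) e n (NodeCohLib.main_const X hdim hnodal hone n hn)

end Groth.Agent.S14180
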