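import Groth.Statements.S14181
import Groth.Agent.GrpCohLib.Card

set_option autoImplicit false
universe u
open CategoryTheory
open GalCoh

namespace Groth.Agent.S14181

/-- Let G be a group with a finite normal subgroup P, k a commutative ring and A a k-linear
representation of G such that multiplication by the order of P is a bijection of A. Then the
inflation map on 1-cocycles (crossed homomorphisms) Z¹(G/P, A^P) → Z¹(G, A) has a k-linear left
inverse. (The published statement is for the inertia group of a Galois cover of smooth curves at a
point, its normal Sylow p-subgroup P and a module of n-torsion with n prime to p; the argument uses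
only that the order of P acts invertibly, which is the hypothesis taken here.) -/
theorem result
    {k G : Type u} [CommRing k] [Group G] (A : Rep.{u} k G) (P : Subgroup G) [P.Normal] [Finite P]
    (hP : Function.Bijective fun a : A => (Nat.card P : k) • a) :
    ∃ r : ModuleCat.of k (groupCohomology.cocycles₁ A) ⟶
        ModuleCat.of k (groupCohomology.cocycles₁ (A.quotientToInvariants P)),
      (groupCohomology.mapCocycles₁ (QuotientGroup.mk' P) (Rep.ofHom (A.ρ.quotientToInvariants_lift P)) :
          ModuleCat.of k (groupCohomology.cocycles₁ (A.quotientToInvariants P)) ⟶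
            ModuleCat.of k (groupCohomology.cocycles₁ A)) ≫ r = 𝟙 _ := by
  classical
  have := Fintype.ofFinite P
  let E : A ≃ₗ[k] A := LinearEquiv.ofBijective ((Nat.card P : k) • LinearMap.id) hP
  have hE : ∀ (g : G) (a : A), E.symm (A.ρ g a) = A.ρ g (E.symm a) := fun g a => by
    apply E.injective
    rw [E.apply_symm_apply]
    change _ = (Nat.card P : k) • A.ρ g (E.symm a)
    rw [← map_smul]
    exact congrArg _ (E.apply_symm_apply a).symm
  let Sig : groupCohomology.cocycles₁ A →ₗ[k] A :=
    { toFun := fun f => ∑ q : P, f (q : G)
      map_add' := fun f f' => by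
        change ∑ q : P, (f (q : G) + f' (q : G)) = _
        rw [Finset.sum_add_distrib]
      map_smul' := fun c f => by
        change ∑ q : P, c • f (q : G) = _
        rw [← Finset.smul_sum]; rfl }
  let u : groupCohomology.cocycles₁ A →ₗ[k] A := E.symm.toLinearMap.comp Sig
  let F : groupCohomology.cocycles₁ A → G → A := fun f g => f g - (u f - A.ρ g (u f))
  have hc : ∀ (f : groupCohomology.cocycles₁ A) (g h : G), f (g * h) = A.ρ g (f h) + f g :=
    fun f => (groupCohomology.mem_cocycles₁_iff f.1).1 f.2
  have hP0 : ∀ (f : groupCohomology.cocycles₁ A) (p : P), F f p = 0 := by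
    intro f p
    have h1 : Sig f = A.ρ (p : G) (Sig f) + (Nat.card P : k) • f (p : G) := by
      have h2 : ∑ q : P, f ((p : G) * (q : G)) = Sig f :=
        Fintype.sum_equiv (Equiv.mulLeft p) _ (fun q : P => f (q : G)) fun q => rfl
      simp only [hc, Finset.sum_add_distrib, ← map_sum, Finset.sum_const, Finset.card_univ] at h2
      rw [Nat.card_eq_fintype_card, Nat.cast_smul_eq_nsmul]
      exact h2.symm
    have h3 := congrArg E.symm h1
    rw [map_add, hE, show (Nat.card P : k) • f (p : G) = E (f (p : G)) from rfl, E.symm_apply_apply] at h3
    change f (p : G) - (u f - A.ρ (p : G) (u f)) = 0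
    rw [sub_eq_zero]
    exact (sub_eq_of_eq_add' h3).symm
  have hFc : ∀ f g h, F f (g * h) = A.ρ g (F f h) + F f g := fun f g h => by
    change f (g * h) - (u f - A.ρ (g * h) (u f)) =
      A.ρ g (f h - (u f - A.ρ h (u f))) + (f g - (u f - A.ρ g (u f)))
    rw [hc, map_mul, Module.End.mul_apply, map_sub, map_sub]
    abel
  have hright : ∀ f (g : G) (p : P), F f (g * p) = F f g := fun f g p => by
    rw [hFc, hP0, map_zero, zero_add]
  have hinv : ∀ f (g : G) (p : P), A.ρ (p : G) (F f g) = F f g := fun f g p => by
    have h1 := hFc f p g
    rw [hP0, add_zero] at h1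
    have h2 : g⁻¹ * (p : G) * g ∈ P := Subgroup.Normal.conj_mem' ‹P.Normal› _ p.2 g
    rw [← h1, ← hright f g ⟨_, h2⟩]
    congr 1
    change (p : G) * g = g * (g⁻¹ * (p : G) * g)
    group
  let R : groupCohomology.cocycles₁ A → (G ⧸ P) → A.quotientToInvariants P := fun f q =>
    Quotient.liftOn' q (fun g => ⟨F f g, fun p => hinv f g p⟩) fun g h hgh => by
      refine Subtype.ext ?_
      have := hright f g ⟨g⁻¹ * h, QuotientGroup.leftRel_apply.1 hgh⟩
      rw [mul_inv_cancel_left] at this
      exact this.symm
  have hR : ∀ f, R f ∈ groupCohomology.cocycles₁ (A.quotientToInvariants P) := fun f => by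
    rw [groupCohomology.mem_cocycles₁_iff]
    intro g h
    induction g using QuotientGroup.induction_on with | @H g =>
    induction h using QuotientGroup.induction_on with | @H h =>
    exact Subtype.ext (hFc f g h)
  refine ⟨ModuleCat.ofHom
    { toFun := fun f => ⟨R f, hR f⟩
      map_add' := fun f f' => groupCohomology.cocycles₁_ext fun q => by
        induction q using QuotientGroup.induction_on with | @H g =>
        refine Subtype.ext ?_
        change f g + f' g - (u (f + f') - A.ρ g (u (f + f'))) = F f g + F f' g
        rw [map_add, map_add]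
        simp only [F]
        abel
      map_smul' := fun c f => groupCohomology.cocycles₁_ext fun q => by
        induction q using QuotientGroup.induction_on with | @H g =>
        refine Subtype.ext ?_
        change c • f g - (u (c • f) - A.ρ g (u (c • f))) = c • F f g
        rw [map_smul, map_smul]
        simp only [F, smul_sub] }, ?_⟩
  refine ModuleCat.hom_ext (LinearMap.ext fun z => groupCohomology.cocycles₁_ext fun q => ?_)
  induction q using QuotientGroup.induction_on with | @H g =>
  refine Subtype.ext ?_
  have hu : u ((groupCohomology.mapCocycles₁ (QuotientGroup.mk' P)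
      (Rep.ofHom (A.ρ.quotientToInvariants_lift P))).hom z) = 0 := by
    refine (map_eq_zero_iff _ E.symm.injective).2 (Finset.sum_eq_zero fun p _ => ?_)
    change ((z ((QuotientGroup.mk' P) (p : G)) : A.quotientToInvariants P) : A) = 0
    rw [(QuotientGroup.eq_one_iff (p : G)).2 p.2 |> fun h => (show (QuotientGroup.mk' P) (p : G) = 1 from h),
      groupCohomology.cocycles₁_map_one]
    rfl
  have hF : ∀ x, u x = 0 → F x g = x g := fun x hx => by simp [F, hx]
  exact (hF _ hu).trans rfl

end Groth.Agent.S14181
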