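import Groth.Statements.S14182
import Groth.Agent.WeilRecLib.PicMod

set_option autoImplicit false
universe u
open CategoryTheory AlgebraicGeometry
open LocSym

namespace Groth.Agent.S14182

open W4c1etcurveeff2 in
/-- Let k be an algebraically closed field and X a smooth proper integral curve over k (structure
morphism c, dimension one); divisors are finitely supported integer-valued functions on the k-points
and ord_x is the valuation at x. Let m be a reduced modulus (every multiplicity at most 1) with
support S, Pic the group of divisors modulo divisors of nonzero rational functions, and Pic_m the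
group of divisors vanishing on S modulo divisors of nonzero rational functions congruent to 1 modulo
m. Then: the natural map Pic_m → Pic is surjective; a class of Pic_m maps to zero exactly when it is
the class of the divisor of a nonzero rational function having a nonzero value at every point of S;
and for every family of nonzero scalars (v_x) there is a nonzero rational function g with value v_x
at each x ∈ S, the class of whose divisor in Pic_m vanishes exactly when the v_x for x ∈ S are all
equal. (So the kernel is (kˣ)^S modulo the diagonal kˣ, the short exact sequence 0 → (kˣ)^S/kˣ →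
Pic_m → Pic → 0; the same then holds for the degree-zero parts.) -/
theorem result
    (k : Type u) [Field k] [IsAlgClosed k] (X : Scheme.{u}) [IsIntegral X]
    (c : X ⟶ Spec (CommRingCat.of k)) [IsProper c] [Smooth c] (hdim : topologicalKrullDim X = 1)
    (m : LocSym.Pt c →₀ ℕ) (hm : ∀ x : LocSym.Pt c, m x ≤ 1) :
    Function.Surjective (picModToPic c m) ∧
    (∀ y : PicMod c m, picModToPic c m y = 0 ↔
      ∃ (g : X.functionField) (D : divAway c m) (v : LocSym.Pt c → kˣ),
        IsDivOf c (D : LocSym.Pt c →₀ ℤ) g ∧ (∀ x ∈ m.support, LocSym.HasValueAt x g (v x : k)) ∧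
        y = (QuotientAddGroup.mk D : PicMod c m)) ∧
    (∀ v : LocSym.Pt c → kˣ, ∃ (g : X.functionField) (D : divAway c m),
        IsDivOf c (D : LocSym.Pt c →₀ ℤ) g ∧ (∀ x ∈ m.support, LocSym.HasValueAt x g (v x : k)) ∧
        ((QuotientAddGroup.mk D : PicMod c m) = 0 ↔ ∃ a : kˣ, ∀ x ∈ m.support, v x = a)) := by
  refine ⟨fun y => ?_, fun y => ⟨fun hy => ?_, ?_⟩, fun v => ?_⟩
  · obtain ⟨D, hD⟩ := WeilRecLib.exists_rep (m := m) hdim y
    exact ⟨_, hD⟩
  · obtain ⟨D, rfl⟩ := QuotientAddGroup.mk_surjective y
    obtain ⟨g, hg⟩ := (WeilRecLib.picModToPic_eq_zero_iff hdim D).1 hy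
    exact ⟨g, D, fun x => WeilRecLib.val x g, hg,
      fun x hx => WeilRecLib.val_spec hdim x hg.1 ((hg.2 x).symm.trans (D.2 x hx)), rfl⟩
  · rintro ⟨g, D, v, hg, -, rfl⟩
    exact (WeilRecLib.picModToPic_eq_zero_iff hdim D).2 ⟨g, hg⟩
  · obtain ⟨g, D, hg, hv⟩ := WeilRecLib.exists_away (m := m) (c := c) hdim v
    refine ⟨g, D, hg, fun x hx => (hv x hx).2, ?_⟩
    rw [WeilRecLib.mk_eq_zero_iff hdim hm hg]
    refine exists_congr fun a => forall₂_congr fun x hx => ?_
    rw [(hv x hx).1]

end Groth.Agent.S14182
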