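import Groth.Statements.S14184
import Groth.Agent.WeilRecLib.Tame

set_option autoImplicit false
universe u
open CategoryTheory AlgebraicGeometry
open LocSym

namespace Groth.Agent.S14184

/-- Let k be an algebraically closed field and X a smooth proper integral curve over k (structure
morphism c, dimension one); points are k-points and ord_x is the valuation at x. Let n ≥ 1, let Z be
a finite set of points, let f₁, f₂ be nonzero rational functions and D₁, D₁′, D₂ divisors (finitely
supported integer-valued functions on points) with n·D₁ = div(f₁) + D₁′, D₁′ supported on Z, n·D₂ =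
div(f₂), f₂ taking the value 1 at every point of Z, and div(f₁) and D₂ with disjoint supports. Let
v₁(x) ∈ kˣ be the value of f₁ at each point of the support of D₂ and v₂(x) ∈ kˣ the value of f₂ at
each point of the support of D₁. Then the quotient of ∏_x v₁(x)^{D₂(x)} by ∏_x v₂(x)^{D₁(x)} is an
n-th root of unity: its n-th power is 1. (This quotient f₁(D₂)/f₂(D₁) is the generalised Weil
pairing of the classes of (D₁, D₁′, f₁) and D₂; the published statement also normalises f₁, f₂ at a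
base point, which is not needed for this assertion.) -/
theorem result
    (k : Type u) [Field k] [IsAlgClosed k] (X : Scheme.{u}) [IsIntegral X]
    (c : X ⟶ Spec (CommRingCat.of k)) [IsProper c] [Smooth c] (hdim : topologicalKrullDim X = 1)
    (n : ℕ) (hn : 1 ≤ n) (Z : Finset (LocSym.Pt c))
    (f₁ f₂ : X.functionField) (hf₁ : f₁ ≠ 0) (hf₂ : f₂ ≠ 0)
    (D₁ D₁' D₂ : LocSym.Pt c →₀ ℤ)
    (hD₁ : ∀ x : LocSym.Pt c, (n : ℤ) * D₁ x = x.ord f₁ + D₁' x) (hD₁' : D₁'.support ⊆ Z)
    (hD₂ : ∀ x : LocSym.Pt c, (n : ℤ) * D₂ x = x.ord f₂)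
    (hf₂Z : ∀ x ∈ Z, LocSym.HasValueAt x f₂ 1)
    (hdisj : ∀ x : LocSym.Pt c, x.ord f₁ = 0 ∨ D₂ x = 0)
    (v₁ v₂ : LocSym.Pt c → kˣ)
    (hv₁ : ∀ x ∈ D₂.support, LocSym.HasValueAt x f₁ (v₁ x : k))
    (hv₂ : ∀ x ∈ D₁.support, LocSym.HasValueAt x f₂ (v₂ x : k)) :
    ((D₂.prod fun x e => v₁ x ^ e) / (D₁.prod fun x e => v₂ x ^ e)) ^ n = 1 := by
  classical
  have hn0 : (n : ℤ) ≠ 0 := by exact_mod_cast (by omega : n ≠ 0)
  have h2 : ∀ x : LocSym.Pt c, x ∈ D₂.support ↔ x.ord f₂ ≠ 0 := fun x => by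
    rw [Finsupp.mem_support_iff, ← hD₂ x, mul_ne_zero_iff]
    exact ⟨fun h => ⟨hn0, h⟩, fun h => h.2⟩
  have hone : ∀ x ∈ Z, WeilRecLib.val x f₂ = 1 := fun x hx =>
    WeilRecLib.val_eq hdim (by rw [Units.val_one]; exact hf₂Z x hx)
  have hA : (D₂.prod fun x e => v₁ x ^ e) ^ n = ∏ᶠ x : LocSym.Pt c, WeilRecLib.val x f₁ ^ x.ord f₂ := by
    rw [Finsupp.prod, ← Finset.prod_pow, finprod_eq_prod_of_mulSupport_subset (s := D₂.support) _ (fun x hx => by
      by_contra h
      rw [Finset.mem_coe, h2, not_not] at h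
      exact hx (by simp only [h, zpow_zero]))]
    refine Finset.prod_congr rfl fun x hx => ?_
    rw [WeilRecLib.val_eq hdim (hv₁ x hx), ← hD₂ x, mul_comm, zpow_mul, zpow_natCast]
  let S := (LocSymLib.finite_ord_ne (c := c) hdim hf₁).toFinset ∪ D₁.support
  have hB : (D₁.prod fun x e => v₂ x ^ e) ^ n = ∏ᶠ x : LocSym.Pt c, WeilRecLib.val x f₂ ^ x.ord f₁ := by
    rw [Finsupp.prod, ← Finset.prod_pow, finprod_eq_prod_of_mulSupport_subset (s := S) _ (fun x hx => by
      by_contra h
      simp only [S, Finset.mem_coe, Finset.mem_union, Set.Finite.mem_toFinset, Set.mem_setOf_eq, not_or, not_not] at h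
      exact hx (by simp only [h.1, zpow_zero])),
      ← Finset.prod_subset (s₁ := D₁.support) (s₂ := S) Finset.subset_union_right (fun x _ hx => ?_)]
    · refine Finset.prod_congr rfl fun x hx => ?_
      rw [← WeilRecLib.val_eq hdim (hv₂ x hx), ← zpow_natCast, ← zpow_mul, mul_comm, hD₁ x]
      by_cases hz : D₁' x = 0
      · rw [hz, add_zero]
      · rw [hone x (hD₁' (Finsupp.mem_support_iff.2 hz)), one_zpow, one_zpow]
    · rw [Finsupp.notMem_support_iff] at hx
      have := hD₁ x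
      rw [hx, mul_zero] at this
      by_cases hz : D₁' x = 0
      · rw [show x.ord f₁ = 0 by omega, zpow_zero]
      · rw [hone x (hD₁' (Finsupp.mem_support_iff.2 hz)), one_zpow]
  have hdisj' : ∀ x : LocSym.Pt c, x.ord f₁ = 0 ∨ x.ord f₂ = 0 := fun x =>
    (hdisj x).imp id fun h => by rw [← hD₂ x, h, mul_zero]
  rw [div_pow, hA, hB, WeilRecLib.weil hdim f₁ f₂ hf₁ hf₂ hdisj' _ _
    (fun x h => WeilRecLib.val_spec hdim x hf₁ h) (fun x h => WeilRecLib.val_spec hdim x hf₂ h), div_self']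

end Groth.Agent.S14184
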