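import Groth.Statements.S14188
import Groth.Agent.S4667
import Mathlib
-- import your own Groth.Agent.* helpers here

set_option autoImplicit false
universe u
open CategoryTheory CategoryTheory.Limits AlgebraicGeometry
open FlatMor

namespace Groth.Agent.S14188


theorem ker_genericFibre {T W : Scheme.{u}} [IsIntegral T] (pW : W ⟶ T) [Flat pW] :
    (pullback.fst pW (T.fromSpecStalk (genericPoint T))).ker = ⊥ := by
  let ξ := T.fromSpecStalk (genericPoint T)
  haveI : QuasiCompact ξ := ⟨fun U _ _ => (Set.toFinite _).isCompact⟩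
  have hsurj : Surjective ξ.ker.subschemeι := by
    refine ⟨fun t => ?_⟩
    have : t ∈ (ξ.ker.support : Set T) := by
      rw [Scheme.Hom.support_ker]
      refine closure_mono ?_ ((genericPoint_spec T).symm ▸ (Set.mem_univ t) : t ∈ closure {genericPoint T})
      rintro _ rfl
      exact ⟨_, Scheme.fromSpecStalk_closedPoint⟩
    rwa [← Scheme.IdealSheafData.range_subschemeι] at this
  haveI : IsIso ξ.ker.subschemeι := isIso_of_isClosedImmersion_of_surjective _
  have hξ : ξ.ker = ⊥ := by
    rw [← Scheme.IdealSheafData.ker_subschemeι ξ.ker, Scheme.Hom.ker_eq_bot_of_isIso]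
  rw [← pullbackSymmetry_hom_comp_snd, Scheme.Hom.ker_comp_of_isIso, Groth.Agent.S4667.result ξ pW, hξ]
  show (pullback.fst pW (⊥ : T.IdealSheafData).subschemeι).ker = ⊥
  haveI : IsIso (⊥ : T.IdealSheafData).subschemeι :=
    IsClosedImmersion.isIso_iff_ker_eq_bot.mpr (Scheme.IdealSheafData.ker_subschemeι _)
  exact Scheme.Hom.ker_eq_bot_of_isIso _

/-- Let T be an integral scheme with generic point η, let Y and Z be schemes flat over T with Z
separated over T, and let ψ : Y_η → Z be a T-morphism from the generic fibre Y_η = Y ×_T Spec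
O_{T,η} (equivalently, an η-morphism Y_η → Z_η). Let gr : Y_η → Y ×_T Z be the graph of ψ, the
morphism whose components are the projection Y_η → Y and ψ, and let Γ ⊆ Y ×_T Z be the
scheme-theoretic image of gr (the schematic closure of the graph). Then ψ extends to a T-morphism φ
: Y → Z, meaning that the composite Y_η → Y → Z is ψ, if and only if the composite of the inclusion
Γ → Y ×_T Z with the first projection is an isomorphism Γ ≅ Y. -/
theorem result (T Y Z : Scheme.{u}) [IsIntegral T]
    (pY : Y ⟶ T) (pZ : Z ⟶ T) [Flat pY] [Flat pZ] [IsSeparated pZ]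
    (ψ : pullback pY (T.fromSpecStalk (genericPoint T)) ⟶ Z)
    (hψ : ψ ≫ pZ = pullback.fst pY (T.fromSpecStalk (genericPoint T)) ≫ pY)
    (gr : pullback pY (T.fromSpecStalk (genericPoint T)) ⟶ pullback pY pZ)
    (hgr₁ : gr ≫ pullback.fst pY pZ = pullback.fst pY (T.fromSpecStalk (genericPoint T)))
    (hgr₂ : gr ≫ pullback.snd pY pZ = ψ) :
    (∃ φ : Y ⟶ Z, φ ≫ pZ = pY ∧ pullback.fst pY (T.fromSpecStalk (genericPoint T)) ≫ φ = ψ) ↔
      IsIso (gr.imageι ≫ pullback.fst pY pZ) := by
  constructor
  · rintro ⟨φ, hφ, hφψ⟩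
    let Γ : Y ⟶ pullback pY pZ := pullback.lift (𝟙 Y) φ (by rw [Category.id_comp, hφ])
    haveI : IsClosedImmersion Γ := by
      haveI : IsSeparated (pullback.fst pY pZ) := MorphismProperty.pullback_fst _ _ ‹IsSeparated pZ›
      refine MorphismProperty.of_postcomp (W := @IsClosedImmersion) (W' := @IsSeparated) Γ
        (pullback.fst pY pZ) inferInstance ?_
      rw [pullback.lift_fst]
      infer_instance
    have hgr : gr = pullback.fst pY (T.fromSpecStalk (genericPoint T)) ≫ Γ := by
      apply pullback.hom_ext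
      · rw [hgr₁, Category.assoc, pullback.lift_fst, Category.comp_id]
      · rw [hgr₂, Category.assoc, pullback.lift_snd, hφψ]
    have hk : gr.ker = Γ.ker := by
      rw [hgr, ← Scheme.IdealSheafData.map_ker, ker_genericFibre, Scheme.IdealSheafData.map_bot]
    show IsIso (gr.ker.subschemeι ≫ pullback.fst pY pZ)
    rw [hk]
    have h2 : Γ.toImage ≫ Γ.ker.subschemeι ≫ pullback.fst pY pZ = 𝟙 Y := by
      have := Γ.toImage_imageι =≫ pullback.fst pY pZ
      rw [Category.assoc, pullback.lift_fst] at this
      exact this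
    haveI : IsIso (Γ.toImage ≫ Γ.ker.subschemeι ≫ pullback.fst pY pZ) := h2 ▸ inferInstance
    exact IsIso.of_isIso_comp_left Γ.toImage _
  · intro h
    haveI := h
    let φ := inv (gr.imageι ≫ pullback.fst pY pZ) ≫ gr.imageι ≫ pullback.snd pY pZ
    refine ⟨φ, ?_, ?_⟩
    · simp only [φ, Category.assoc, IsIso.inv_comp_eq, pullback.condition]
    · have h1 : pullback.fst pY (T.fromSpecStalk (genericPoint T)) =
          gr.toImage ≫ (gr.imageι ≫ pullback.fst pY pZ) := by
        rw [Scheme.Hom.toImage_imageι_assoc, hgr₁]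
      rw [h1, Category.assoc, IsIso.hom_inv_id_assoc, Scheme.Hom.toImage_imageι_assoc, hgr₂]

end Groth.Agent.S14188
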