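import Groth.Statements.S14189
import Groth.Agent.S4667
import Mathlib
-- import your own Groth.Agent.* helpers here

set_option autoImplicit false
universe u
open CategoryTheory CategoryTheory.Limits AlgebraicGeometry
open FlatMor

namespace Groth.Agent.S14189


theorem ext_genericFibre {T W Z : Scheme.{u}} [IsIntegral T] (pW : W ⟶ T) [Flat pW] (pZ : Z ⟶ T)
    [IsSeparated pZ] (a b : W ⟶ Z) (hab : a ≫ pZ = b ≫ pZ)
    (h : pullback.fst pW (T.fromSpecStalk (genericPoint T)) ≫ a =
      pullback.fst pW (T.fromSpecStalk (genericPoint T)) ≫ b) : a = b := by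
  let ξ := T.fromSpecStalk (genericPoint T)
  haveI : QuasiCompact ξ := ⟨fun U _ _ => (Set.toFinite _).isCompact⟩
  have hsurj : Surjective ξ.ker.subschemeι := by
    refine ⟨fun t => ?_⟩
    have : t ∈ (ξ.ker.support : Set T) := by
      rw [Scheme.Hom.support_ker]
      refine closure_mono ?_ ((genericPoint_spec T).symm ▸ (Set.mem_univ t) : t ∈ closure {genericPoint T})
      rintro _ rfl
      exact ⟨_, Scheme.fromSpecStalk_closedPoint⟩
    rwa [← Scheme.IdealSheafData.range_subschemeι] at this
  haveI : IsIso ξ.ker.subschemeι := isIso_of_isClosedImmersion_of_surjective _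
  have hξ : ξ.ker = ⊥ := by
    rw [← Scheme.IdealSheafData.ker_subschemeι ξ.ker, Scheme.Hom.ker_eq_bot_of_isIso]
  have hj : (pullback.fst pW ξ).ker = ⊥ := by
    rw [← pullbackSymmetry_hom_comp_snd, Scheme.Hom.ker_comp_of_isIso, Groth.Agent.S4667.result ξ pW, hξ]
    show (pullback.fst pW (⊥ : T.IdealSheafData).subschemeι).ker = ⊥
    haveI : IsIso (⊥ : T.IdealSheafData).subschemeι :=
      IsClosedImmersion.isIso_iff_ker_eq_bot.mpr (Scheme.IdealSheafData.ker_subschemeι _)
    exact Scheme.Hom.ker_eq_bot_of_isIso _
  let c := pullback.fst (pullback.lift a b hab) (pullback.diagonal pZ)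
  haveI : IsClosedImmersion c := MorphismProperty.pullback_fst _ _ inferInstance
  have hfac : ∃ k, k ≫ c = pullback.fst pW ξ := ⟨pullback.lift (pullback.fst pW ξ)
    (pullback.fst pW ξ ≫ a) (by
      apply pullback.hom_ext
      · rw [Category.assoc, Category.assoc, pullback.lift_fst, pullback.diagonal_fst, Category.comp_id]
      · rw [Category.assoc, Category.assoc, pullback.lift_snd, pullback.diagonal_snd, Category.comp_id]
        exact h.symm), pullback.lift_fst _ _ _⟩
  obtain ⟨k, hk⟩ := hfac
  haveI : IsIso c := IsClosedImmersion.isIso_iff_ker_eq_bot.mpr (eq_bot_iff.mpr (hj ▸ hk ▸ Scheme.Hom.le_ker_comp k c))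
  have h1 := pullback.condition (f := pullback.lift a b hab) (g := pullback.diagonal pZ) =≫
    pullback.fst pZ pZ
  have h2 := pullback.condition (f := pullback.lift a b hab) (g := pullback.diagonal pZ) =≫
    pullback.snd pZ pZ
  simp only [Category.assoc, pullback.lift_fst, pullback.lift_snd, pullback.diagonal_fst,
    pullback.diagonal_snd, Category.comp_id] at h1 h2
  exact (cancel_epi c).mp (h1.trans h2.symm)

/-- Let T be an integral scheme with generic point η, let Y and Z be schemes flat over T with Z
separated over T, and let ψ : Y_η → Z be a T-morphism from the generic fibre Y_η = Y ×_T Spec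
O_{T,η}. Let g : T' → T be flat, surjective and quasi-compact, and let φ' : Y_{T'} → Z_{T'} be a
T'-morphism which agrees with ψ over T' ×_T η, in the sense that on Y_{T'} ×_Y Y_η = Y ×_T T' ×_T
Spec O_{T,η} the composite of the first projection with φ' and with Z_{T'} → Z equals the composite
of the second projection with ψ. Then ψ extends to a T-morphism φ : Y → Z, one whose composite with
Y_η → Y is ψ. (The published statement is an equivalence and also records that an extension, when it
exists, is unique; the converse direction, that an extension over T base-changes to such a φ' over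
any such T', is immediate, and this row states the existence direction only.) -/
theorem result (T Y Z T' : Scheme.{u}) [IsIntegral T]
    (pY : Y ⟶ T) (pZ : Z ⟶ T) [Flat pY] [Flat pZ] [IsSeparated pZ]
    (ψ : pullback pY (T.fromSpecStalk (genericPoint T)) ⟶ Z)
    (hψ : ψ ≫ pZ = pullback.fst pY (T.fromSpecStalk (genericPoint T)) ≫ pY)
    (g : T' ⟶ T) [Flat g] [Surjective g] [QuasiCompact g]
    (φ' : pullback pY g ⟶ pullback pZ g) (hφ' : φ' ≫ pullback.snd pZ g = pullback.snd pY g)
    (hagree : pullback.fst (pullback.fst pY g) (pullback.fst pY (T.fromSpecStalk (genericPoint T))) ≫ φ' ≫ pullback.fst pZ g =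
      pullback.snd (pullback.fst pY g) (pullback.fst pY (T.fromSpecStalk (genericPoint T))) ≫ ψ) :
    ∃ φ : Y ⟶ Z, φ ≫ pZ = pY ∧ pullback.fst pY (T.fromSpecStalk (genericPoint T)) ≫ φ = ψ := by
  let ξ := T.fromSpecStalk (genericPoint T)
  let q := pullback.fst pY g
  haveI : Flat q := MorphismProperty.pullback_fst _ _ ‹Flat g›
  haveI : Surjective q := MorphismProperty.pullback_fst _ _ ‹Surjective g›
  haveI : QuasiCompact q := MorphismProperty.pullback_fst _ _ ‹QuasiCompact g›
  let a := φ' ≫ pullback.fst pZ g
  have ha : a ≫ pZ = q ≫ pY := by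
    simp only [a, q, Category.assoc, pullback.condition]
    rw [← Category.assoc, hφ']
  have hkp : pullback.fst q q ≫ a = pullback.snd q q ≫ a := by
    haveI : Flat (pullback.fst q q) := MorphismProperty.pullback_fst _ _ ‹Flat q›
    let pW := pullback.fst q q ≫ q ≫ pY
    refine ext_genericFibre pW pZ _ _ ?_ ?_
    · calc (pullback.fst q q ≫ a) ≫ pZ = pullback.fst q q ≫ q ≫ pY := by rw [Category.assoc, ha]
        _ = pullback.snd q q ≫ q ≫ pY := by rw [← Category.assoc, pullback.condition, Category.assoc]
        _ = (pullback.snd q q ≫ a) ≫ pZ := by rw [Category.assoc, ha]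
    · let j := pullback.fst pW ξ
      let r : pullback pW ξ ⟶ pullback pY ξ := pullback.lift (j ≫ pullback.fst q q ≫ q)
        (pullback.snd pW ξ) (by rw [Category.assoc, Category.assoc]; exact pullback.condition)
      have h1 := pullback.lift (j ≫ pullback.fst q q) r
        (by rw [Category.assoc]; exact (pullback.lift_fst _ _ _).symm) ≫= hagree
      have h2 := pullback.lift (j ≫ pullback.snd q q) r
        (by rw [Category.assoc, ← pullback.condition]; exact (pullback.lift_fst _ _ _).symm) ≫= hagree
      simp only [pullback.lift_fst_assoc, pullback.lift_snd_assoc, Category.assoc] at h1 h2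
      exact h1.trans h2.symm
  have hdesc : ∀ {W : Scheme.{u}} (g₁ g₂ : W ⟶ pullback pY g), g₁ ≫ q = g₂ ≫ q → g₁ ≫ a = g₂ ≫ a :=
    fun g₁ g₂ hg => by
      have := pullback.lift g₁ g₂ hg ≫= hkp
      simpa only [pullback.lift_fst_assoc, pullback.lift_snd_assoc] using this
  refine ⟨EffectiveEpi.desc q a hdesc, ?_, ?_⟩
  · rw [← cancel_epi q, EffectiveEpi.fac_assoc, ha]
  · haveI : Flat (pullback.snd q (pullback.fst pY ξ)) := MorphismProperty.pullback_snd _ _ ‹Flat q›
    haveI : Surjective (pullback.snd q (pullback.fst pY ξ)) :=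
      MorphismProperty.pullback_snd _ _ ‹Surjective q›
    haveI : QuasiCompact (pullback.snd q (pullback.fst pY ξ)) :=
      MorphismProperty.pullback_snd _ _ ‹QuasiCompact q›
    rw [← cancel_epi (pullback.snd q (pullback.fst pY ξ)), ← pullback.condition_assoc,
      EffectiveEpi.fac]
    exact hagree

end Groth.Agent.S14189
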