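import Groth.Statements.S14190
import Groth.Agent.Dual3Lib.ExtHH
import Groth.Agent.CurvLib.SupportVanish
import Groth.Agent.AVVanishLib.Family
import Groth.Agent.QCohLib.QcqsSections
import Groth.Agent.QCohLib.QCoh
import Groth.Agent.QCohLib.Push
import Groth.Agent.PerfDualLib.Props

set_option autoImplicit false
set_option backward.isDefEq.respectTransparency false
set_option backward.isDefEq.respectTransparency.types false
set_option maxHeartbeats 1000000
set_option synthInstance.maxHeartbeats 200000
set_option linter.style.haveILetI false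
universe u
open CategoryTheory CategoryTheory.Limits AlgebraicGeometry Opposite
open Models

namespace Groth.Agent.S14190

/-- Let R be a discrete valuation ring with fraction field K, let C be a proper K-curve which is smooth
of relative dimension 1 and geometrically connected over K, and let X be a model of C over R (flat
and of finite type over R with generic fibre C) which is proper over R and normal; so X is a proper
relative curve over R, integral of dimension 2. Let (ω, tr) be a 1-dualizing pair for X over R: ω is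
a quasi-coherent O_X-module and tr : H¹(X, ω) → R an R-linear map such that φ ↦ tr ∘ H¹(φ) is a
bijection from Hom(F, ω) onto Hom_R(H¹(X, F), R) for every quasi-coherent F (such a pair is a
relative dualizing sheaf of X over R with its trace, and is unique up to isomorphism). Let U ⊆ X be
an open subscheme whose complement is a finite set of closed points of X (these lie in the closed
fibre and have codimension 2). Then the canonical map from ω to the direct image of its restriction
to U is an isomorphism: for every open V ⊆ X the restriction map ω(V) → ω(V ∩ U) is bijective. (The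
published statement is for a relative curve which need not be proper and for the relative dualizing
sheaf of duality theory; this row takes X proper over R, where a 1-dualizing pair in the above
global-sections sense determines that sheaf up to isomorphism.) -/
theorem result (R : Type u) [CommRing R] [IsDomain R] [IsDiscreteValuationRing R]
    (X C : Scheme.{u}) [X.Over (Spec (CommRingCat.of R))]
    (f : C ⟶ Spec (CommRingCat.of (FractionRing R)))
    [SmoothOfRelativeDimension 1 f] [IsProper f] [GeometricallyConnected f]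
    (hX : Models.IsModel R X (X ↘ Spec (CommRingCat.of R)) C f)
    [IsProper (X ↘ Spec (CommRingCat.of R))] (hn : Pi1.IsNormalScheme X)
    (ω : X.Modules) (tr : Coh.HH X ω 1 →ₗ[R] R) (hω : Canon.IsRDualOver R X 1 ω tr)
    (U : X.Opens) (hfin : ((U : Set X)ᶜ).Finite) (hcl : ∀ x : X, x ∉ U → IsClosed ({x} : Set X))
    (V : X.Opens) :
    Function.Bijective (ω.presheaf.map (homOfLE (inf_le_left : V ⊓ U ≤ V)).op).hom := by
  haveI : EnoughInjectives X.Modules := IsGrothendieckAbelian.enoughInjectives.{u}
  haveI : HasExt.{u} X.Modules := hasExt_of_enoughInjectives.{u} X.Modules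
  let p := X ↘ Spec (CommRingCat.of R)
  haveI : IsLocallyNoetherian X := LocallyOfFiniteType.isLocallyNoetherian p
  haveI : CompactSpace X := QuasiCompact.compactSpace_of_compactSpace p
  haveI : AlgebraicGeometry.IsNoetherian X := ⟨⟩
  haveI : QuasiCompact U.ι := inferInstance
  haveI : QuasiSeparated U.ι := inferInstance
  haveI := hω.1
  let radj := Scheme.Modules.restrictAdjunction U.ι
  let E : X.Modules := (Scheme.Modules.pushforward U.ι).obj (ω.restrict U.ι)
  let η : ω ⟶ E := radj.unit.app ω
  haveI hEq : Coh.IsQCoh E := by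
    haveI : Coh.IsQCoh (ω.restrict U.ι) := PerfDualLib.isQCoh_restrict ω U
    exact QCohLib.isQCoh_pushforward U.ι _
  haveI hKq : Coh.IsQCoh (kernel η) := QCohLib.isQCoh_kernel η
  haveI hQq : Coh.IsQCoh (cokernel η) := QCohLib.isQCoh_cokernel η
  haveI : IsIso ((Scheme.Modules.restrictFunctor U.ι).map η) := by
    have h := radj.left_triangle_components ω
    exact IsIso.of_isIso_fac_right h
  have hrK : IsZero ((Scheme.Modules.restrictFunctor U.ι).obj (kernel η)) :=
    (isZero_kernel_of_mono ((Scheme.Modules.restrictFunctor U.ι).map η)).of_iso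
      (PreservesKernel.iso (Scheme.Modules.restrictFunctor U.ι) η)
  have hrQ : IsZero ((Scheme.Modules.restrictFunctor U.ι).obj (cokernel η)) :=
    (isZero_cokernel_of_epi ((Scheme.Modules.restrictFunctor U.ι).map η)).of_iso
      (PreservesCokernel.iso (Scheme.Modules.restrictFunctor U.ι) η)
  have hsupp : ∀ M : X.Modules, IsZero ((Scheme.Modules.restrictFunctor U.ι).obj M) →
      CohB1.support M ⊆ ((U : Set X)ᶜ) := fun M hM =>
    AVVanishLib.support_subset_of_isZero_nhds M fun x hx => ⟨U, not_not.1 hx, hM⟩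
  have hT0 : topologicalKrullDim ↥((U : Set X)ᶜ) ≤ ((0 : ℕ) : WithBot ℕ∞) :=
    AVVanishLib.topologicalKrullDim_le_zero_of_finite hfin fun x hx => hcl x hx
  have hH1 : ∀ M : X.Modules, IsZero ((Scheme.Modules.restrictFunctor U.ι).obj M) → Subsingleton (Coh.HH X M 1) :=
    fun M hM => CurvLib.subsingleton_HH_of_support M U.isOpen.isClosed_compl (hsupp M hM) hT0 1 one_pos
  -- injectivity
  have hK : IsZero (kernel η) := by
    haveI := hH1 _ hrK
    have hs : ∀ φ : kernel η ⟶ ω, φ = 0 := fun φ => (hω.2 _ hKq).1 <| LinearMap.ext fun x => by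
      rw [Subsingleton.elim x 0, map_zero, map_zero]
    rw [IsZero.iff_id_eq_zero, ← cancel_mono (kernel.ι η)]
    exact (hs _).trans (hs _).symm
  haveI : Mono η := Preadditive.mono_of_isZero_kernel η hK
  let S := ShortComplex.mk η (cokernel.π η) (cokernel.condition η)
  have hS : S.ShortExact :=
    { exact := ShortComplex.exact_of_g_is_cokernel _ (cokernelIsCokernel η)
      mono_f := inferInstanceAs (Mono η)
      epi_g := inferInstanceAs (Epi (cokernel.π η)) }
  -- the trace descends
  haveI := hH1 _ hrQ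
  have hsurj : Function.Surjective (Canon.HHlin R η 1) := fun y => by
    obtain ⟨x, rfl⟩ := (Dual3Lib.bijective_extHH E 1).2 y
    haveI : Subsingleton (Abelian.Ext (Coh.structureModule X) S.X₃ 1) :=
      (Dual3Lib.extHHEquiv (cokernel η) 1).toEquiv.subsingleton
    obtain ⟨w, hw⟩ := Abelian.Ext.covariant_sequence_exact₂ (Coh.structureModule X) hS (n := 1) x
      (Subsingleton.elim _ _)
    refine ⟨Dual3Lib.extHH ω 1 w, ?_⟩
    rw [← hw]
    exact (Dual3Lib.extHH_natural η 1 w).symm
  obtain ⟨ϖ, hϖ⟩ := IsDiscreteValuationRing.exists_irreducible R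
  have hker : LinearMap.ker (Canon.HHlin R η 1) ≤ LinearMap.ker tr := fun y hy => by
    obtain ⟨x, rfl⟩ := (Dual3Lib.bijective_extHH ω 1).2 y
    have hx0 : x.comp (Abelian.Ext.mk₀ S.f) (add_zero 1) = 0 := (Dual3Lib.bijective_extHH E 1).1 <| by
      rw [map_zero]
      exact (Dual3Lib.extHH_natural η 1 x).trans hy
    obtain ⟨z, hz⟩ := Abelian.Ext.covariant_sequence_exact₁ (Coh.structureModule X) hS x hx0 (n₀ := 0) rfl
    obtain ⟨g, rfl⟩ := (Abelian.Ext.mk₀_bijective _ _).2 z
    -- a power of the uniformiser kills the section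
    let s : Γ(X, ⊤) := Coh.toGlobal p ϖ
    have hsU : X.basicOpen s ≤ U := fun x hx => by
      by_contra hxU
      have hc : IsClosed ({p x} : Set (Spec (CommRingCat.of R))) := by
        simpa using p.isClosedMap _ (hcl x hxU)
      have hm : (p x).asIdeal.IsMaximal := (PrimeSpectrum.isClosed_singleton_iff_isMaximal (p x)).1 hc
      have hmem : ϖ ∈ (p x).asIdeal := by
        rw [IsLocalRing.eq_maximalIdeal hm]
        exact (IsLocalRing.mem_maximalIdeal _).2 hϖ.not_isUnit
      have h2 : p x ∈ (Spec (CommRingCat.of R)).basicOpen ((Scheme.ΓSpecIso (CommRingCat.of R)).inv.hom ϖ) := by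
        have h3 : x ∈ p ⁻¹ᵁ (Spec (CommRingCat.of R)).basicOpen ((Scheme.ΓSpecIso (CommRingCat.of R)).inv.hom ϖ) := by
          rw [Scheme.preimage_basicOpen]
          exact hx
        exact h3
      rw [basicOpen_eq_of_affine] at h2
      have h4 : p x ∈ PrimeSpectrum.basicOpen ϖ := by simpa using h2
      exact h4 hmem
    let t : Γ(cokernel η, ⊤) := g.app ⊤ (1 : Γ(X, ⊤))
    have hsub : Subsingleton Γ(cokernel η, ⊤ ⊓ X.basicOpen s) := by
      haveI := AVVanishLib.subsingleton_sec_of_isZero hrQ (U.ι ⁻¹ᵁ (⊤ ⊓ X.basicOpen s))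
      have he : U.ι ''ᵁ (U.ι ⁻¹ᵁ (⊤ ⊓ X.basicOpen s)) = ⊤ ⊓ X.basicOpen s := by
        rw [Scheme.Hom.image_preimage_eq_opensRange_inf, Scheme.Opens.opensRange_ι]
        exact inf_eq_right.2 (inf_le_right.trans hsU)
      exact he ▸ ‹Subsingleton _›
    obtain ⟨n, hn⟩ := QCohLib.exists_pow_smul_eq_zero (M := cokernel η) s ⊤ isCompact_univ le_rfl t
      (Subsingleton.elim _ _)
    let a : Γ(X, ⊤) := Coh.toGlobal p (ϖ ^ n)
    have ha : (X.presheaf.map (homOfLE (le_refl (⊤ : X.Opens))).op s) ^ n • t = a • t := by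
      rw [show X.presheaf.map (homOfLE (le_refl (⊤ : X.Opens))).op s = s from
        congrArg (fun φ => φ s) (X.presheaf.map_id _)]
      exact congrArg (· • t) (map_pow (Coh.toGlobal p) ϖ n).symm
    have hat : a • t = 0 := ha ▸ hn
    have hg : g ≫ Dual3Lib.sMod (cokernel η) a = 0 := by
      refine Scheme.Modules.hom_ext _ _ fun W => ?_
      ext r
      let r' : Γ(X, W) := r
      let aW : Γ(X, W) := X.presheaf.map (homOfLE (le_top : W ≤ ⊤)).op a
      show aW • g.app W r' = 0
      have h1 : g.app W r' = r' • g.app W (1 : Γ(X, W)) := by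
        rw [← Scheme.Modules.Hom.app_smul]
        exact congrArg _ (mul_one r').symm
      have h2 : g.app W (1 : Γ(X, W)) = (cokernel η).presheaf.map (homOfLE (le_top : W ≤ ⊤)).op t := by
        refine Eq.trans ?_ (QCohLib.app_map g (homOfLE (le_top : W ≤ ⊤)) (1 : Γ(X, ⊤)))
        exact congrArg _ (map_one (X.presheaf.map (homOfLE (le_top : W ≤ ⊤)).op).hom).symm
      rw [h1, h2, smul_comm, ← Scheme.Modules.map_smul, hat, map_zero, smul_zero]
    let μ : S ⟶ S :=
      { τ₁ := Dual3Lib.sMod _ a
        τ₂ := Dual3Lib.sMod _ a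
        τ₃ := Dual3Lib.sMod _ a
        comm₁₂ := Dual3Lib.sMod_natural _ a
        comm₂₃ := Dual3Lib.sMod_natural _ a }
    have hx : x.comp (Abelian.Ext.mk₀ μ.τ₁) (add_zero 1) = 0 := by
      rw [← hz, Abelian.Ext.comp_assoc _ _ _ (zero_add 1) (add_zero 1) (by omega),
        ShortComplex.ShortExact.extClass_naturality hS hS μ,
        ← Abelian.Ext.comp_assoc _ _ _ (add_zero 0) (zero_add 1) (by omega), Abelian.Ext.mk₀_comp_mk₀]
      show (Abelian.Ext.mk₀ (g ≫ Dual3Lib.sMod (cokernel η) a)).comp _ _ = 0
      rw [hg, Abelian.Ext.mk₀_zero, Abelian.Ext.zero_comp]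
    have h0 : (ϖ ^ n) • Dual3Lib.extHH ω 1 x = 0 := by
      have := Dual3Lib.extHH_natural (Dual3Lib.sMod ω a) 1 x
      rw [show x.comp (Abelian.Ext.mk₀ (Dual3Lib.sMod ω a)) (add_zero 1) = 0 from hx, map_zero] at this
      exact this.symm
    rw [LinearMap.mem_ker]
    have h1 := congrArg tr h0
    rw [map_smul, map_zero, smul_eq_mul] at h1
    exact (mul_eq_zero.1 h1).resolve_left (pow_ne_zero _ hϖ.ne_zero)
  -- the splitting
  let ψ : Coh.HH X E 1 →ₗ[R] R := (Submodule.liftQ _ tr hker).comp
    (LinearMap.quotKerEquivOfSurjective _ hsurj).symm.toLinearMap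
  have hψ : ∀ y, ψ (Canon.HHlin R η 1 y) = tr y := fun y => by
    show Submodule.liftQ _ tr hker ((LinearMap.quotKerEquivOfSurjective _ hsurj).symm _) = _
    rw [show (LinearMap.quotKerEquivOfSurjective _ hsurj).symm (Canon.HHlin R η 1 y) = Submodule.Quotient.mk y
      from (LinearEquiv.symm_apply_eq _).2 (LinearMap.quotKerEquivOfSurjective_apply_mk _ hsurj y).symm]
    exact Submodule.liftQ_apply _ _ _
  obtain ⟨φ, hφ⟩ := (hω.2 E hEq).2 ψ
  have hid : η ≫ φ = 𝟙 ω := (hω.2 ω hω.1).1 <| LinearMap.ext fun y => by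
    have h1 : Canon.HHlin R (η ≫ φ) 1 y = Canon.HHlin R φ 1 (Canon.HHlin R η 1 y) := by
      show Sheaf.H.map ((SheafOfModules.toSheaf X.ringCatSheaf).map (η ≫ φ)) 1 y = _
      rw [Functor.map_comp, Sheaf.H.map_comp_apply]
      rfl
    show tr (Canon.HHlin R (η ≫ φ) 1 y) = tr (Canon.HHlin R (𝟙 ω) 1 y)
    rw [h1, show tr (Canon.HHlin R φ 1 (Canon.HHlin R η 1 y)) = ψ (Canon.HHlin R η 1 y) from
      LinearMap.congr_fun hφ _, hψ]
    show tr y = tr (Sheaf.H.map ((SheafOfModules.toSheaf X.ringCatSheaf).map (𝟙 ω)) 1 y)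
    rw [CategoryTheory.Functor.map_id, Sheaf.H.map_id_apply]
  let d : cokernel η ⟶ E := cokernel.desc η (𝟙 E - φ ≫ η) (by
    rw [Preadditive.comp_sub, ← Category.assoc, hid]; simp)
  have hd : d = 0 := (radj.homEquiv _ _).symm.injective (hrQ.eq_of_src _ _)
  have hφη : φ ≫ η = 𝟙 E := by
    have := cokernel.π_desc η (𝟙 E - φ ≫ η) (by rw [Preadditive.comp_sub, ← Category.assoc, hid]; simp)
    rw [show cokernel.desc η _ _ = d from rfl, hd, comp_zero] at this
    exact (sub_eq_zero.1 this.symm).symm
  haveI : IsIso η := ⟨φ, hid, hφη⟩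
  have hbij : Function.Bijective (ω.presheaf.map (homOfLE (U.ι.image_preimage_le V)).op).hom := by
    have : IsIso (((Scheme.Modules.toPresheaf X) ⋙ (CategoryTheory.evaluation _ AddCommGrpCat).obj (Opposite.op V)).map η) :=
      inferInstance
    exact ConcreteCategory.bijective_of_isIso
      (((Scheme.Modules.toPresheaf X) ⋙ (CategoryTheory.evaluation _ AddCommGrpCat).obj (Opposite.op V)).map η)
  have he : V ⊓ U = U.ι ''ᵁ (U.ι ⁻¹ᵁ V) := by
    rw [Scheme.Hom.image_preimage_eq_opensRange_inf, Scheme.Opens.opensRange_ι, inf_comm]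
  have : ω.presheaf.map (homOfLE (inf_le_left : V ⊓ U ≤ V)).op =
      ω.presheaf.map (homOfLE (U.ι.image_preimage_le V)).op ≫ ω.presheaf.map (eqToHom he).op := by
    rw [← Functor.map_comp]; rfl
  rw [this]
  exact (ConcreteCategory.bijective_of_isIso (ω.presheaf.map (eqToHom he).op)).comp hbij

end Groth.Agent.S14190
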