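import Groth.Statements.S14191
import Groth.Agent.RelCurveDualLib.Basic
import Groth.Agent.QuotSchLib.DvrExt
import Groth.Agent.SplitSubLib.Normal
import Groth.Agent.AlgSpLib.RelDim
import Groth.Agent.FibDimLib.Smooth
import Groth.Agent.QCohLib.SerreCrit
import Groth.Agent.RpushLib.AffBaseBC
import Groth.Agent.CurvLib.Divisor
import Groth.Agent.PerfDualLib.Props
import Groth.Agent.CurvLib.SupportVanish
import Groth.Agent.PnTildeLib.Main

set_option autoImplicit false
set_option backward.isDefEq.respectTransparency false
set_option backward.isDefEq.respectTransparency.types false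
set_option maxHeartbeats 2000000
set_option synthInstance.maxHeartbeats 200000
set_option linter.style.haveILetI false
universe u
open CategoryTheory CategoryTheory.Limits AlgebraicGeometry Opposite
open Models

namespace Groth.Agent.S14191

theorem exists_ne_zero_of_free {R M : Type u} [CommRing R] [AddCommGroup M] [Module R M] [Module.Free R M] {x : M}
    (hx : x ≠ 0) : ∃ φ : M →ₗ[R] R, φ x ≠ 0 := by
  let b := Module.Free.chooseBasis R M
  obtain ⟨i, hi⟩ := Finsupp.ne_iff.1 (fun h => hx (b.repr.map_eq_zero_iff.1 h) : b.repr x ≠ 0)
  exact ⟨b.coord i, by simpa using hi⟩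

/-- Let R be a discrete valuation ring with fraction field K, let C be a proper K-curve which is smooth
of relative dimension 1 and geometrically connected over K, and let X be a model of C over R (flat
and of finite type over R with generic fibre C) which is proper over R and normal; so X is a proper
relative curve over R. Let (ω, tr) be a 1-dualizing pair for X over R: ω is a quasi-coherent
O_X-module and tr : H¹(X, ω) → R an R-linear map such that φ ↦ tr ∘ H¹(φ) is a bijection from Hom(F,
ω) onto Hom_R(H¹(X, F), R) for every quasi-coherent F. Suppose that H¹(X, O_X) is a free R-module,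
which for such X says that X → Spec R is cohomologically flat in dimension 0. Then H¹(X, ω) is a
free R-module and its rank equals the rank of the free R-module H⁰(X, O_X); that is, H¹(X, ω) is
R-dual to H⁰(X, O_X) up to isomorphism. (The published statement is phrased for the relative
dualizing sheaf of duality theory and its higher direct image R¹f_*; over the affine base Spec R a
1-dualizing pair in the above global-sections sense determines that sheaf up to isomorphism, and
local freeness of R¹f_* is freeness of H¹.) -/
theorem result (R : Type u) [CommRing R] [IsDomain R] [IsDiscreteValuationRing R]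
    (X C : Scheme.{u}) [X.Over (Spec (CommRingCat.of R))]
    (f : C ⟶ Spec (CommRingCat.of (FractionRing R)))
    [SmoothOfRelativeDimension 1 f] [IsProper f] [GeometricallyConnected f]
    (hX : Models.IsModel R X (X ↘ Spec (CommRingCat.of R)) C f)
    [IsProper (X ↘ Spec (CommRingCat.of R))] (hn : Pi1.IsNormalScheme X)
    (ω : X.Modules) (tr : Coh.HH X ω 1 →ₗ[R] R) (hω : Canon.IsRDualOver R X 1 ω tr)
    (hcf : Module.Free R (Coh.HH X (Coh.structureModule X) 1)) :
    Module.Free R (Coh.HH X ω 1) ∧
      Module.finrank R (Coh.HH X ω 1) = Module.finrank R (Coh.HH X (Coh.structureModule X) 0) := by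
  obtain ⟨hflat, hlft, hqc, g, hg⟩ := hX
  let p := X ↘ Spec (CommRingCat.of R)
  haveI := hflat
  haveI : IsLocallyNoetherian X := LocallyOfFiniteType.isLocallyNoetherian p
  haveI : CompactSpace X := QuasiCompact.compactSpace_of_compactSpace p
  haveI : QuasiSeparatedSpace X := quasiSeparatedSpace_of_quasiSeparated p
  haveI : AlgebraicGeometry.IsNoetherian X := ⟨⟩
  haveI : IsOpenImmersion g := MorphismProperty.of_isPullback hg.flip inferInstance
  haveI : IsAffineHom g := MorphismProperty.of_isPullback hg.flip inferInstance
  -- the generic fibre is connected, dense and of dimension one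
  haveI : Subsingleton ↥(Spec (CommRingCat.of (FractionRing R))) :=
    inferInstanceAs (Subsingleton (PrimeSpectrum (FractionRing R)))
  haveI : Nonempty ↥(Spec (CommRingCat.of (FractionRing R))) :=
    inferInstanceAs (Nonempty (PrimeSpectrum (FractionRing R)))
  haveI : ConnectedSpace C := GeometricallyConnected.connectedSpace_of_subsingleton f
  haveI : LocallyOfFinitePresentation p := LocallyOfFinitePresentation.iff_locallyOfFiniteType.2 inferInstance
  have hopen : IsOpenMap p := isOpenMap_of_generalizingMap p (Flat.generalizingMap p)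
  have hdense : DenseRange g := by
    refine dense_iff_inter_open.2 fun U hU hne => ?_
    obtain ⟨x, hx⟩ := hne
    have hgen : genericPoint (Spec (CommRingCat.of R)) ∈ p '' U :=
      ((genericPoint_spec (Spec (CommRingCat.of R))).mem_open_set_iff (hopen U hU)).2
        ⟨p x, trivial, x, hx, rfl⟩
    obtain ⟨y, hyU, hy⟩ := hgen
    suffices h : p y = Spec.map (CommRingCat.ofHom (algebraMap R (FractionRing R))) (Classical.arbitrary _) by
      obtain ⟨z, hz, -⟩ := Scheme.exists_preimage_of_isPullback hg y _ h
      exact ⟨y, hyU, z, hz⟩
    symm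
    show Spec.map (CommRingCat.ofHom (algebraMap R (FractionRing R))) _ = p y
    rw [hy, genericPoint_eq_bot_of_affine]
    refine PrimeSpectrum.ext ?_
    show Ideal.comap (algebraMap R (FractionRing R)) _ = ⊥
    rw [Ideal.eq_bot_of_prime (Classical.arbitrary (PrimeSpectrum (FractionRing R))).asIdeal]
    exact Ideal.comap_bot_of_injective _ (IsFractionRing.injective R (FractionRing R))
  haveI : ConnectedSpace X := by
    haveI : PreconnectedSpace X := ⟨by
      rw [← hdense.closure_range]
      exact (isPreconnected_range g.continuous).closure⟩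
    exact ⟨⟨g (Classical.arbitrary C)⟩⟩
  haveI : IsIntegral X := Groth.Agent.SplitSub.isIntegral_of_connected_normal hn
  haveI : Nonempty (⊤ : X.Opens) := ⟨⟨genericPoint X, trivial⟩⟩
  haveI : IsDomain Γ(X, ⊤) := IsIntegral.component_integral ⊤
  have hinj : Function.Injective (Coh.toGlobal p) := by
    refine (injective_iff_map_eq_zero _).2 fun r hr => by_contra fun hr0 => ?_
    obtain ⟨y, hy⟩ : ∃ y : C, True := ⟨Classical.arbitrary C, trivial⟩
    have h1 : g y ∉ X.basicOpen (show Γ(X, ⊤) from Coh.toGlobal p r) := by
      rw [hr]
      exact fun h => by simp at h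
    refine h1 ?_
    show g y ∈ X.basicOpen (p.appTop.hom ((Scheme.ΓSpecIso (CommRingCat.of R)).inv.hom r))
    rw [← Scheme.preimage_basicOpen_top, basicOpen_eq_of_affine]
    simp only [Iso.inv_hom_id_apply]
    show p (g y) ∈ PrimeSpectrum.basicOpen r
    rw [show p (g y) = Spec.map (CommRingCat.ofHom (algebraMap R (FractionRing R))) (f y) from
      congrArg (fun φ => φ.base y) hg.w]
    show algebraMap R (FractionRing R) r ∉ (f y).asIdeal
    intro hmem
    exact (f y).isPrime.ne_top (Ideal.eq_top_of_isUnit_mem _ hmem
      (isUnit_iff_ne_zero.2 fun h => hr0 ((IsFractionRing.injective R (FractionRing R)).eq_iff' (map_zero _) |>.1 h)))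
  -- the first cohomology of `ω` is not zero
  haveI := hω.1
  have hne : Nontrivial (Coh.HH X ω 1) := by
    by_contra hnt
    haveI := not_nontrivial_iff_subsingleton.1 hnt
    have hz : IsZero ω := by
      rw [IsZero.iff_id_eq_zero]
      exact (hω.2 ω hω.1).1 (LinearMap.ext fun x => by rw [Subsingleton.elim x 0, map_zero, map_zero])
    letI : C.Over (Spec (CommRingCat.of (FractionRing R))) := ⟨f⟩
    letI : Module.Flat R (FractionRing R) := IsLocalization.flat _ (nonZeroDivisors R)
    haveI : CompactSpace C := QuasiCompact.compactSpace_of_compactSpace f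
    haveI : IsAffine C := QCohLib.isAffine_of_subAcyclic ⟨QCohLib.isQCoh_unit, fun N i hi hN => ?_⟩
    · haveI : IsAffineHom f := inferInstance
      haveI : IsFinite f := IsFinite.iff_isProper_and_isAffineHom.2 ⟨inferInstance, inferInstance⟩
      let c : C := Classical.arbitrary C
      haveI : DiscreteTopology ↥(f.fiber (f c)) := inferInstance
      have h0 := (AlgSpLib.fibreDimAt_eq_zero_iff f c).2 (isOpen_discrete _)
      rw [FibDimLib.fibreDimAt_smoothOfRelativeDimension 1 f c] at h0
      exact absurd h0 (by simp)
    haveI := hN
    haveI := hi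
    haveI : Coh.IsQCoh (cokernel i) := @QCohLib.isQCoh_cokernel _ _ _ i hN QCohLib.isQCoh_unit
    let radj := Scheme.Modules.restrictAdjunction g
    let eO : (Scheme.Modules.restrictFunctor g).obj (Coh.structureModule X) ≅ Coh.structureModule C :=
      (Scheme.Modules.restrictFunctorIsoPullback g).app _ ≪≫ KFlatLib.pullUnitIso g
    let u := radj.homEquiv _ _ (eO.hom ≫ cokernel.π i)
    haveI : Coh.IsQCoh ((Scheme.Modules.pushforward g).obj (cokernel i)) := QCohLib.isQCoh_pushforward g _
    let I := kernel u
    have hI : Coh.IsCoh I := by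
      haveI : Coh.IsQCoh (Coh.structureModule X) := QCohLib.isQCoh_unit
      haveI : Coh.IsQCoh I := QCohLib.isQCoh_kernel u
      exact QCohLib.isCoh_of_mono (kernel.ι u) (DevissLib.isCoh_structureModule X) inferInstance
    haveI := hI.1
    -- `I` restricts to `N`
    have hmap : (Scheme.Modules.restrictFunctor g).map u ≫ radj.counit.app (cokernel i) = eO.hom ≫ cokernel.π i :=
      (radj.homEquiv_counit _ _ _).symm.trans (Equiv.symm_apply_apply _ _)
    let eI : (Scheme.Modules.pullback g).obj I ≅ N :=
      ((Scheme.Modules.restrictFunctorIsoPullback g).app I).symm ≪≫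
        PreservesKernel.iso (Scheme.Modules.restrictFunctor g) u ≪≫
        kernel.mapIso _ (cokernel.π i) eO (asIso (radj.counit.app (cokernel i))) hmap ≪≫
        ((Abelian.monoIsKernelOfCokernel _ (cokernelIsCokernel i)).conePointUniqueUpToIso
          (kernelIsKernel (cokernel.π i))).symm
    -- and has torsion first cohomology
    haveI : Module.Finite R (Coh.HH X I 1) := FormalLib.finite_HH I hI 1
    obtain ⟨b⟩ := RpushLib.nonempty_affBase_bc (f := p) (f' := C ↘ Spec (CommRingCat.of (FractionRing R))) hg I 1
    have hfun : ∀ ψ : Coh.HH X I 1 →ₗ[R] R, ψ = 0 := fun ψ => by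
      obtain ⟨φ, rfl⟩ := (hω.2 I hI.1).2 ψ
      rw [hz.eq_of_tgt φ 0]
      refine LinearMap.ext fun x => ?_
      show tr (Sheaf.H.map ((SheafOfModules.toSheaf X.ringCatSheaf).map (0 : I ⟶ ω)) 1 x) = 0
      rw [Subsingleton.elim (Sheaf.H.map ((SheafOfModules.toSheaf X.ringCatSheaf).map (0 : I ⟶ ω)) 1 x) 0, map_zero]
    haveI : Subsingleton (TensorProduct R (FractionRing R) (Coh.HH X I 1)) := by
      refine subsingleton_of_forall_eq 0 fun z => ?_
      induction z using TensorProduct.induction_on with
      | zero => rfl
      | add a c ha hc => rw [ha, hc, add_zero]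
      | tmul s x =>
        obtain ⟨r, hr, hrx⟩ : ∃ r : R, r ≠ 0 ∧ r • x = 0 := by
          by_contra hno
          push Not at hno
          have hx : x ∉ Submodule.torsion R (Coh.HH X I 1) := fun h => by
            obtain ⟨⟨r, hr⟩, hrx⟩ := h
            exact hno r (nonZeroDivisors.ne_zero hr) hrx
          haveI : Module.Free R (Coh.HH X I 1 ⧸ Submodule.torsion R (Coh.HH X I 1)) :=
            Module.free_of_finite_type_torsion_free'
          obtain ⟨φ, hφ⟩ := exists_ne_zero_of_free (R := R) (x := Submodule.Quotient.mk x)
            (fun h => hx ((Submodule.Quotient.mk_eq_zero _).1 h))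
          exact hφ (LinearMap.congr_fun (hfun (φ.comp (Submodule.mkQ _))) x)
        have hr' : algebraMap R (FractionRing R) r ≠ 0 := fun h =>
          hr ((IsFractionRing.injective R (FractionRing R)).eq_iff' (map_zero _) |>.1 h)
        rw [show s = r • (s * (algebraMap R (FractionRing R) r)⁻¹) by
          rw [Algebra.smul_def]; field_simp, TensorProduct.smul_tmul, hrx, TensorProduct.tmul_zero]
    haveI : Subsingleton (Coh.HH C ((Scheme.Modules.pullback g).obj I) 1) := b.symm.toEquiv.subsingleton
    have hN1 : Subsingleton (Coh.HH C N 1) :=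
      PnTildeLib.subsingleton_HH_of_iso eI.symm 1 inferInstance
    exact (QCohLib.subsingleton_H_iff _ 1).1 hN1
  exact RelCurveDualLib.free_finrank hω hinj hcf hne

end Groth.Agent.S14191
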