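import Groth.Statements.S14192
import Mathlib
import Mathlib
-- import your own Groth.Agent.* helpers here

set_option autoImplicit false
open PowerSeries
open StackCount

namespace Groth.Agent.S14192

/-- Let R = Σ_n r_n X^n be a Laurent polynomial with integer coefficients and q > 1 an integer. In the
ring of formal power series in t over ℚ, the exponential of Σ_{v ≥ 1} R(q^v) t^v / v equals the
finite product Π_n (1 - q^n t)^(-r_n). Stated here with denominators cleared: the exponential series
multiplied by Π_{n : r_n > 0} (1 - q^n t)^(r_n) equals Π_{n : r_n < 0} (1 - q^n t)^(-r_n) (each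
factor 1 - q^n t is a unit, so this is equivalent). -/
theorem result (R : LaurentPolynomial ℤ) (q : ℤ) (hq : 1 < q) :
    (PowerSeries.exp ℚ).subst
        (PowerSeries.mk fun v : ℕ => if v = 0 then (0 : ℚ)
          else (R.coeff.sum fun (n : ℤ) (r : ℤ) => (r : ℚ) * (q : ℚ) ^ (n * (v : ℤ))) / (v : ℚ))
      * ∏ n ∈ R.coeff.support, (1 - PowerSeries.C ((q : ℚ) ^ n) * PowerSeries.X) ^ (R.coeff n).toNat
    = ∏ n ∈ R.coeff.support, (1 - PowerSeries.C ((q : ℚ) ^ n) * PowerSeries.X) ^ (-(R.coeff n)).toNat := by
  classical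
  have solve : ∀ (G F H : PowerSeries ℚ), PowerSeries.derivative ℚ F = F * G → PowerSeries.derivative ℚ H = H * G →
      PowerSeries.constantCoeff F = PowerSeries.constantCoeff H → F = H := by
    intro G F H hF hH h0
    refine PowerSeries.ext fun n => ?_
    induction n using Nat.strong_induction_on with
    | _ n ih =>
      cases n with
      | zero => simpa using h0
      | succ n =>
        have h1 := congrArg (PowerSeries.coeff n) hF
        have h2 := congrArg (PowerSeries.coeff n) hH
        rw [PowerSeries.coeff_derivative, PowerSeries.coeff_mul] at h1 h2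
        refine mul_right_cancel₀ (show ((n : ℚ) + 1) ≠ 0 by positivity) ?_
        rw [h1, h2]
        refine Finset.sum_congr rfl fun x hx => ?_
        rw [Finset.HasAntidiagonal.mem_antidiagonal] at hx
        rw [ih x.1 (by omega)]
  have good_mul : ∀ F G F' G', PowerSeries.derivative ℚ F = F * G → PowerSeries.derivative ℚ F' = F' * G' →
      PowerSeries.derivative ℚ (F * F') = F * F' * (G + G') := fun F G F' G' h h' => by
    rw [Derivation.leibniz, h, h', smul_eq_mul, smul_eq_mul]; ring
  have good_prod : ∀ (s : Finset ℤ) (F G : ℤ → PowerSeries ℚ), (∀ n, PowerSeries.derivative ℚ (F n) = F n * G n) →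
      PowerSeries.derivative ℚ (∏ n ∈ s, F n) = (∏ n ∈ s, F n) * ∑ n ∈ s, G n := by
    intro s F G hFG
    induction s using Finset.induction_on with
    | empty => simp
    | insert a s ha ih => rw [Finset.prod_insert ha, Finset.sum_insert ha]; exact good_mul _ _ _ _ (hFG a) ih
  set g : ℤ → PowerSeries ℚ := fun n => PowerSeries.mk fun k : ℕ => -((q : ℚ) ^ n) ^ (k + 1) with hg
  have hfac : ∀ (n : ℤ) (e : ℕ), PowerSeries.derivative ℚ ((1 - PowerSeries.C ((q : ℚ) ^ n) * PowerSeries.X) ^ e) =
      (1 - PowerSeries.C ((q : ℚ) ^ n) * PowerSeries.X) ^ e * ((e : PowerSeries ℚ) * g n) := by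
    intro n e
    have hone : PowerSeries.derivative ℚ (1 - PowerSeries.C ((q : ℚ) ^ n) * PowerSeries.X) =
        (1 - PowerSeries.C ((q : ℚ) ^ n) * PowerSeries.X) * g n := by
      refine PowerSeries.ext fun k => ?_
      rw [PowerSeries.coeff_derivative, sub_mul, one_mul, map_sub, map_sub, mul_assoc (PowerSeries.C _), PowerSeries.coeff_C_mul,
        PowerSeries.coeff_C_mul, PowerSeries.coeff_one, if_neg (Nat.succ_ne_zero k), PowerSeries.coeff_X]
      cases k with
      | zero => simp [g, PowerSeries.coeff_zero_X_mul]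
      | succ k => rw [if_neg (by omega), PowerSeries.coeff_succ_X_mul]; simp [g, pow_succ]; ring
    induction e with
    | zero => simp
    | succ e ih => rw [pow_succ, good_mul _ _ _ _ ih hone]; push_cast; ring
  set L : PowerSeries ℚ := PowerSeries.mk fun v : ℕ => if v = 0 then (0 : ℚ)
          else (R.coeff.sum fun (n : ℤ) (r : ℤ) => (r : ℚ) * (q : ℚ) ^ (n * (v : ℤ))) / (v : ℚ) with hL
  have hs : PowerSeries.HasSubst L := PowerSeries.HasSubst.of_constantCoeff_zero' (by
    rw [← PowerSeries.coeff_zero_eq_constantCoeff_apply]; simp [L])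
  have hE : PowerSeries.derivative ℚ ((PowerSeries.exp ℚ).subst L) = (PowerSeries.exp ℚ).subst L * PowerSeries.derivative ℚ L := by
    rw [PowerSeries.derivative_subst hs, PowerSeries.derivative_exp]
  refine solve (∑ n ∈ R.coeff.support, ((-(R.coeff n)).toNat : PowerSeries ℚ) * g n) _ _ ?_ ?_ ?_
  · rw [good_mul _ _ _ _ hE (good_prod _ _ _ fun n => hfac n _)]
    congr 1
    rw [← eq_sub_iff_add_eq, ← Finset.sum_sub_distrib]
    refine PowerSeries.ext fun k => ?_
    rw [PowerSeries.coeff_derivative, map_sum, PowerSeries.coeff_mk, if_neg (Nat.succ_ne_zero k)]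
    push_cast
    rw [div_mul_cancel₀ _ (by positivity), Finsupp.sum]
    refine Finset.sum_congr rfl fun n _ => ?_
    rw [← sub_mul, ← map_natCast (PowerSeries.C (R := ℚ)), ← map_natCast (PowerSeries.C (R := ℚ)), ← map_sub,
      PowerSeries.coeff_C_mul, PowerSeries.coeff_mk]
    have hr : ((R.coeff n : ℤ) : ℚ) = ((R.coeff n).toNat : ℚ) - ((-(R.coeff n)).toNat : ℚ) := by
      exact_mod_cast (Int.toNat_sub_toNat_neg (R.coeff n)).symm
    rw [hr, zpow_mul, ← Nat.cast_add_one, zpow_natCast]
    ring
  · exact good_prod _ _ _ fun n => hfac n _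
  · rw [map_mul, map_prod, map_prod]
    simp only [map_pow, map_sub, map_one, map_mul, PowerSeries.constantCoeff_X, mul_zero, sub_zero, one_pow, Finset.prod_const_one, mul_one]
    rw [← PowerSeries.coeff_zero_eq_constantCoeff_apply, PowerSeries.coeff_subst' hs, finsum_eq_single _ 0]
    · simp
    · intro d hd
      rw [PowerSeries.coeff_zero_eq_constantCoeff_apply, map_pow, ← PowerSeries.coeff_zero_eq_constantCoeff_apply]
      simp [L, zero_pow hd]

end Groth.Agent.S14192
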