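import Groth.Statements.S14193
import Mathlib
-- import your own Groth.Agent.* helpers here

set_option autoImplicit false
open PowerSeries
open StackCount

namespace Groth.Agent.S14193

/-- Let q > 1 be an integer and let F be an element of the subring of the rational function field ℚ(X)
generated by X, X^(-1) and the fractions 1/(X^n - 1) for n ≥ 1 (so F(q^v) is defined for every v ≥
1). If the formal power series exp(Σ_{v ≥ 1} F(q^v) t^v / v) in ℚ⟦t⟧ is the expansion of a rational
function, i.e. its product with some non-zero polynomial in t is a polynomial, then F is a Laurent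
polynomial with integer coefficients: F · X^a is the image of a polynomial with integer coefficients
for some a. (The published statement also assumes that the series defines a meromorphic function on
the complex plane; that is implied by rationality and is omitted here.) -/
theorem result (q : ℤ) (hq : 1 < q) (F : RatFunc ℚ)
    (hF : F ∈ Subring.closure
      (({RatFunc.X, (RatFunc.X : RatFunc ℚ)⁻¹} : Set (RatFunc ℚ)) ∪
        Set.range fun n : ℕ => ((RatFunc.X : RatFunc ℚ) ^ (n + 1) - 1)⁻¹))
    (hrat : ∃ P Q : Polynomial ℚ, Q ≠ 0 ∧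
      (PowerSeries.exp ℚ).subst
          (PowerSeries.mk fun v : ℕ => if v = 0 then (0 : ℚ)
            else F.eval (RingHom.id ℚ) ((q : ℚ) ^ v) / (v : ℚ))
        * (Q : PowerSeries ℚ) = (P : PowerSeries ℚ)) :
    ∃ (P : Polynomial ℤ) (a : ℕ),
      F * RatFunc.X ^ a = algebraMap (Polynomial ℚ) (RatFunc ℚ) (P.map (Int.castRingHom ℚ)) := by
  classical
  set φ : Polynomial ℤ →+* RatFunc ℚ :=
    (algebraMap (Polynomial ℚ) (RatFunc ℚ)).comp (Polynomial.mapRingHom (Int.castRingHom ℚ)) with hφ
  set Dset : Submonoid (Polynomial ℤ) := Submonoid.closure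
    ({Polynomial.X} ∪ Set.range fun n : ℕ => Polynomial.X ^ (n + 1) - 1) with hDset
  have hDmonic : ∀ D ∈ Dset, D.Monic := by
    intro D hD
    induction hD using Submonoid.closure_induction with
    | mem x hx =>
      rcases hx with rfl | ⟨m, rfl⟩
      · exact Polynomial.monic_X
      · simpa using Polynomial.monic_X_pow_sub_C (1 : ℤ) (Nat.succ_ne_zero m)
    | one => exact Polynomial.monic_one
    | mul x y _ _ hx hy => exact hx.mul hy
  have hφD : ∀ D ∈ Dset, φ D ≠ 0 := fun D hD h => by
    have h' := (map_eq_zero_iff φ ((RatFunc.algebraMap_injective ℚ).comp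
      (Polynomial.map_injective _ Int.cast_injective))).1 h
    exact (hDmonic D hD).ne_zero h'
  have hrep : ∃ N D : Polynomial ℤ, D ∈ Dset ∧ F * φ D = φ N := by
    clear hrat
    induction hF using Subring.closure_induction with
    | mem x hx =>
      rcases hx with (rfl | rfl) | ⟨m, rfl⟩
      · exact ⟨Polynomial.X, 1, Dset.one_mem, by simp [φ]⟩
      · refine ⟨1, Polynomial.X, Submonoid.subset_closure (Or.inl rfl), ?_⟩
        simp [φ, inv_mul_cancel₀ (RatFunc.X_ne_zero (K := ℚ))]
      · have hmem : (Polynomial.X ^ (m + 1) - 1 : Polynomial ℤ) ∈ Dset :=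
          Submonoid.subset_closure (Or.inr ⟨m, rfl⟩)
        refine ⟨1, _, hmem, ?_⟩
        have h := hφD _ hmem
        simp only [φ, RingHom.comp_apply, map_sub, map_pow, map_one, Polynomial.coe_mapRingHom,
          Polynomial.map_X, RatFunc.algebraMap_X] at h ⊢
        exact inv_mul_cancel₀ h
    | zero => exact ⟨0, 1, Dset.one_mem, by simp⟩
    | one => exact ⟨1, 1, Dset.one_mem, by simp⟩
    | add x y _ _ hx hy =>
      obtain ⟨N, D, hD, h⟩ := hx
      obtain ⟨N', D', hD', h'⟩ := hy
      refine ⟨N * D' + N' * D, D * D', Dset.mul_mem hD hD', ?_⟩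
      simp only [map_add, map_mul]
      linear_combination (φ D') * h + (φ D) * h'
    | neg x _ hx =>
      obtain ⟨N, D, hD, h⟩ := hx
      exact ⟨-N, D, hD, by rw [map_neg, neg_mul, h]⟩
    | mul x y _ _ hx hy =>
      obtain ⟨N, D, hD, h⟩ := hx
      obtain ⟨N', D', hD', h'⟩ := hy
      refine ⟨N * N', D * D', Dset.mul_mem hD hD', ?_⟩
      simp only [map_mul]
      rw [← h, ← h']
      ring
  obtain ⟨N, D, hD, hND⟩ := hrep
  set NQ := N.map (Int.castRingHom ℚ) with hNQ
  set DQ := D.map (Int.castRingHom ℚ) with hDQ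
  have hDQ0 : DQ ≠ 0 := ((hDmonic D hD).map _).ne_zero
  have hFeq : F = algebraMap _ _ NQ / algebraMap _ _ DQ := by
    rw [eq_div_iff (RatFunc.algebraMap_ne_zero hDQ0)]
    exact hND
  have hcross : F.num * DQ = NQ * F.denom := (RatFunc.num_mul_eq_mul_denom_iff hDQ0).2 hFeq
  have hdvd : F.denom ∣ DQ := by rw [hFeq]; exact RatFunc.denom_div_dvd _ _
  -- the roots of the denominators in ℂ
  have hroots : ∀ D ∈ Dset, ∀ z : ℂ, Polynomial.aeval z D = 0 → z = 0 ∨ ‖z‖ = 1 := by
    intro D hD
    induction hD using Submonoid.closure_induction with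
    | mem x hx =>
      intro z hz
      rcases hx with rfl | ⟨m, rfl⟩
      · left; simpa using hz
      · right
        simp only [map_sub, map_pow, Polynomial.aeval_X, map_one, sub_eq_zero] at hz
        exact Complex.norm_eq_one_of_pow_eq_one hz (Nat.succ_ne_zero m)
    | one => intro z hz; simp at hz
    | mul x y _ _ hx hy =>
      intro z hz
      rw [map_mul] at hz
      rcases mul_eq_zero.1 hz with h | h
      · exact hx z h
      · exact hy z h
  have hroots' : ∀ z : ℂ, Polynomial.aeval z F.denom = 0 → z = 0 ∨ ‖z‖ = 1 := by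
    intro z hz
    obtain ⟨w, hw⟩ := hdvd
    refine hroots D hD z ?_
    rw [← Polynomial.aeval_map_algebraMap ℚ, show D.map (algebraMap ℤ ℚ) = DQ from rfl, hw, map_mul, hz, zero_mul]
  -- evaluation at powers of q
  have hqR : (1 : ℝ) < (q : ℝ) := by exact_mod_cast hq
  have hne : ∀ v : ℕ, 1 ≤ v → F.denom.eval ((q : ℚ) ^ v) ≠ 0 := by
    intro v hv h
    have hz : Polynomial.aeval ((((q : ℚ) ^ v : ℚ)) : ℂ) F.denom = 0 := by
      rw [show ((((q : ℚ) ^ v : ℚ)) : ℂ) = algebraMap ℚ ℂ ((q : ℚ) ^ v) from rfl,
        Polynomial.aeval_algebraMap_apply, Polynomial.coe_aeval_eq_eval, h, map_zero]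
    rcases hroots' _ hz with h' | h'
    · have : ((q : ℚ) ^ v) = 0 := by exact_mod_cast h'
      have hq0 : (q : ℚ) ≠ 0 := by exact_mod_cast (by omega : q ≠ 0)
      exact pow_ne_zero v hq0 this
    · rw [show ((((q : ℚ) ^ v : ℚ)) : ℂ) = ((((q : ℝ)) ^ v : ℝ) : ℂ) by push_cast; rfl,
        Complex.norm_real, Real.norm_eq_abs, abs_of_pos (by positivity)] at h'
      exact (ne_of_gt (one_lt_pow₀ hqR (by omega : v ≠ 0))) h'
  -- the linear recurrence
  obtain ⟨P, Q, hQ, hE⟩ := hrat
  set G : PowerSeries ℚ := PowerSeries.mk fun v : ℕ => if v = 0 then (0 : ℚ)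
    else F.eval (RingHom.id ℚ) ((q : ℚ) ^ v) / (v : ℚ) with hG
  have hG0 : PowerSeries.constantCoeff G = 0 := by
    rw [← PowerSeries.coeff_zero_eq_constantCoeff_apply]; simp [G]
  have hGs : PowerSeries.HasSubst G := PowerSeries.HasSubst.of_constantCoeff_zero' hG0
  set E : PowerSeries ℚ := (PowerSeries.exp ℚ).subst G with hEdef
  have hEd : PowerSeries.derivative ℚ E = E * PowerSeries.derivative ℚ G := by
    rw [hEdef, PowerSeries.derivative_subst hGs, PowerSeries.derivative_exp]
  have hE1 : E ≠ 0 := by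
    intro h
    have h1 := PowerSeries.constantCoeff_subst_eq_zero (a := G) hG0 (PowerSeries.exp ℚ - 1) (by simp)
    rw [PowerSeries.subst_sub hGs, ← hEdef, h, show (1 : PowerSeries ℚ) = PowerSeries.C 1 by simp] at h1
    erw [PowerSeries.subst_C] at h1
    simp at h1
  have hrec : PowerSeries.derivative ℚ G * ((P * Q : Polynomial ℚ) : PowerSeries ℚ) =
      ((Polynomial.derivative P * Q - P * Polynomial.derivative Q : Polynomial ℚ) : PowerSeries ℚ) := by
    have h1 := congrArg (PowerSeries.derivative ℚ) hE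
    rw [Derivation.leibniz, hEd, PowerSeries.derivative_coe, PowerSeries.derivative_coe] at h1
    simp only [smul_eq_mul] at h1
    push_cast
    linear_combination (Q : PowerSeries ℚ) * h1 +
      (-(PowerSeries.derivative ℚ G) * (Q : PowerSeries ℚ) - (Polynomial.derivative Q : PowerSeries ℚ)) * hE
  have hP : P ≠ 0 := by
    intro h
    rw [h, Polynomial.coe_zero] at hE
    exact mul_ne_zero hE1 (by simpa using hQ) hE
  set c := P * Q with hc
  have hc0 : c ≠ 0 := mul_ne_zero hP hQ
  set d := c.natDegree with hd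
  -- the polynomial identity
  set T : Polynomial ℚ := ∑ i ∈ Finset.range (d + 1), Polynomial.C (c.coeff i) *
    (F.num.comp (Polynomial.C ((q : ℚ) ^ (d - i)) * Polynomial.X)) *
    ∏ l ∈ (Finset.range (d + 1)).erase i, F.denom.comp (Polynomial.C ((q : ℚ) ^ (d - l)) * Polynomial.X)
    with hT
  set S := Polynomial.derivative P * Q - P * Polynomial.derivative Q with hS
  have hTval : ∀ m : ℕ, 1 ≤ m → S.natDegree + 1 < m → T.eval ((q : ℚ) ^ m) = 0 := by
    intro m hm1 hm
    have h1 := congrArg (PowerSeries.coeff (m + d - 1)) hrec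
    rw [Polynomial.coeff_coe, Polynomial.coeff_eq_zero_of_natDegree_lt (by omega), mul_comm,
      PowerSeries.coeff_mul, Finset.Nat.sum_antidiagonal_eq_sum_range_succ_mk] at h1
    rw [← Finset.sum_subset (s₁ := Finset.range (d + 1))
      (by intro i hi; rw [Finset.mem_range] at hi ⊢; omega)
      (fun i _ hi => by
        rw [Finset.mem_range] at hi
        rw [Polynomial.coeff_coe, Polynomial.coeff_eq_zero_of_natDegree_lt (by omega), zero_mul])] at h1
    have h2 : ∑ i ∈ Finset.range (d + 1), c.coeff i *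
        (F.num.eval ((q : ℚ) ^ (m + (d - i))) / F.denom.eval ((q : ℚ) ^ (m + (d - i)))) = 0 := by
      rw [← h1]
      refine Finset.sum_congr rfl fun i hi => ?_
      rw [Finset.mem_range] at hi
      rw [Polynomial.coeff_coe, PowerSeries.coeff_derivative, show m + d - 1 - i + 1 = m + (d - i) by omega]
      simp only [G, PowerSeries.coeff_mk, if_neg (show m + (d - i) ≠ 0 by omega), RatFunc.eval,
        Polynomial.eval₂_id]
      rw [show ((m + d - 1 - i : ℕ) : ℚ) + 1 = ((m + (d - i) : ℕ) : ℚ) by norm_cast; omega]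
      rw [div_mul_cancel₀ _ (by exact_mod_cast (show m + (d - i) ≠ 0 by omega))]
    rw [hT, Polynomial.eval_finsetSum]
    set Pm := ∏ l ∈ Finset.range (d + 1), F.denom.eval ((q : ℚ) ^ (m + (d - l))) with hPi
    have h3 : Pm * ∑ i ∈ Finset.range (d + 1), c.coeff i *
        (F.num.eval ((q : ℚ) ^ (m + (d - i))) / F.denom.eval ((q : ℚ) ^ (m + (d - i)))) = 0 := by
      rw [h2, mul_zero]
    rw [Finset.mul_sum] at h3
    rw [← h3]
    refine Finset.sum_congr rfl fun i hi => ?_
    rw [hPi, ← Finset.mul_prod_erase _ _ hi]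
    simp only [Polynomial.eval_mul, Polynomial.eval_C, Polynomial.eval_comp, Polynomial.eval_prod,
      Polynomial.eval_X, ← pow_add, add_comm (d - _) m]
    field_simp [hne (m + (d - i)) (by omega)]
  have hT0 : T = 0 := by
    refine Polynomial.eq_zero_of_infinite_isRoot T (Set.Infinite.mono ?_
      (Set.infinite_range_of_injective (f := fun m : ℕ => (q : ℚ) ^ (m + S.natDegree + 2)) ?_))
    · rintro _ ⟨m, rfl⟩
      exact hTval _ (by omega) (by omega)
    · intro a b hab
      have := pow_right_injective₀ (show (0 : ℚ) < q by exact_mod_cast (by omega : (0 : ℤ) < q))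
        (show (q : ℚ) ≠ 1 by exact_mod_cast (by omega : q ≠ 1)) hab
      omega
  -- the denominator has no non-zero root
  have hnoroot : ∀ z : ℂ, Polynomial.aeval z F.denom = 0 → z = 0 := by
    intro z hz
    by_contra hz0
    have hz1 : ‖z‖ = 1 := (hroots' z hz).resolve_left hz0
    set i0 := d
    have hi0 : i0 ∈ Finset.range (d + 1) := by simp [i0]
    have h1 := congrArg (Polynomial.aeval z) hT0
    rw [map_zero, hT, map_sum, Finset.sum_eq_single i0 (fun i hi hii => by
        rw [map_mul, map_prod, Finset.prod_eq_zero (Finset.mem_erase.2 ⟨Ne.symm hii, hi0⟩)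
          (by simp [i0, hz]), mul_zero])
      (fun h => absurd hi0 h)] at h1
    simp only [map_mul, map_prod, Polynomial.aeval_C, i0, Nat.sub_self, pow_zero, map_one, one_mul,
      Polynomial.comp_X] at h1
    have hcd : (algebraMap ℚ ℂ) (c.coeff d) ≠ 0 := by
      rw [ne_eq, map_eq_zero_iff _ (algebraMap ℚ ℂ).injective]
      exact Polynomial.leadingCoeff_ne_zero.2 hc0
    rcases mul_eq_zero.1 h1 with h | h
    · obtain ⟨a, b, hab⟩ := RatFunc.isCoprime_num_denom F
      have := congrArg (Polynomial.aeval z) hab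
      rw [map_add, map_mul, map_mul, (mul_eq_zero.1 h).resolve_left hcd, hz, mul_zero, mul_zero,
        add_zero, map_one] at this
      exact zero_ne_one this
    · obtain ⟨l, hl, hl0⟩ := Finset.prod_eq_zero_iff.1 h
      rw [Finset.mem_erase, Finset.mem_range] at hl
      rw [Polynomial.aeval_comp, map_mul, Polynomial.aeval_C, Polynomial.aeval_X, map_pow, map_intCast] at hl0
      rcases hroots' _ hl0 with h' | h'
      · rcases mul_eq_zero.1 h' with h'' | h''
        · exact pow_ne_zero _ (show (q : ℂ) ≠ 0 by exact_mod_cast (by omega : q ≠ 0)) h''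
        · exact hz0 h''
      · rw [norm_mul, norm_pow, hz1, mul_one, Complex.norm_intCast, abs_of_pos (by linarith)] at h'
        exact (ne_of_gt (one_lt_pow₀ hqR (by omega : d - l ≠ 0))) h'
  have hden : ∃ a : ℕ, F.denom = Polynomial.X ^ a := by
    refine ⟨F.denom.natDegree, ?_⟩
    apply Polynomial.map_injective (algebraMap ℚ ℂ) (algebraMap ℚ ℂ).injective
    rw [Polynomial.map_pow, Polynomial.map_X]
    set g := F.denom.map (algebraMap ℚ ℂ) with hg
    have hgm : g.Monic := (RatFunc.monic_denom F).map _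
    have hdeg : g.natDegree = F.denom.natDegree := Polynomial.natDegree_map _
    rw [← hdeg]
    have hr : g.roots = Multiset.replicate g.natDegree 0 := by
      refine Multiset.eq_replicate.2 ⟨IsAlgClosed.card_roots_eq_natDegree, fun z hz => hnoroot z ?_⟩
      have := Polynomial.isRoot_of_mem_roots hz
      rwa [Polynomial.IsRoot, hg, Polynomial.eval_map_algebraMap] at this
    conv_lhs => rw [← Polynomial.prod_multiset_X_sub_C_of_monic_of_roots_card_eq hgm
      IsAlgClosed.card_roots_eq_natDegree, hr]
    simp [Multiset.map_replicate, Multiset.prod_replicate]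
  obtain ⟨a, ha⟩ := hden
  refine ⟨(N * Polynomial.X ^ a) /ₘ D, a, ?_⟩
  rw [Polynomial.map_divByMonic _ (hDmonic D hD), Polynomial.map_mul, Polynomial.map_pow,
    Polynomial.map_X, ← hNQ, ← hDQ]
  have hmon : DQ.Monic := (hDmonic D hD).map _
  rw [show NQ * Polynomial.X ^ a = DQ * F.num by rw [mul_comm DQ, hcross, ha],
    Polynomial.mul_divByMonic_cancel_left _ hmon]
  conv_lhs => rw [← RatFunc.num_div_denom F, ha, map_pow, RatFunc.algebraMap_X]
  rw [div_mul_cancel₀ _ (pow_ne_zero _ RatFunc.X_ne_zero)]

end Groth.Agent.S14193
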