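import Groth.Statements.S14195
import Mathlib
import Mathlib
-- import your own Groth.Agent.* helpers here

set_option autoImplicit false
universe u v
open StackCount

namespace Groth.Agent.S14195

/-- Let k be a finite field, k̄ an algebraic closure, Γ = Aut(k̄/k) with the Krull topology and π ∈ Γ
the Frobenius x ↦ x^(#k). Let A be a group on which Γ acts by group automorphisms, with open
stabilisers, such that every element of A lies in a finite Γ-stable subgroup. Then z ↦ z(π) is a
bijection from the locally constant 1-cocycles Γ → A (the continuous cocycles for discrete A) onto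
A, and two such cocycles z, z' are cohomologous if and only if z'(π) = g · z(π) · (π g)^(-1) for
some g in A; hence it induces a bijection of the continuous first cohomology set with the quotient
of A by the twisted conjugation g · x = g x (π g)^(-1). (The published statement takes A to be the
group of k̄-points of a smooth algebraic group over k with its Galois action; this row assumes only
the two properties of that action which the proof uses.) -/
theorem result (k : Type u) [Field k] [Finite k]
    (π : AlgebraicClosure k ≃ₐ[k] AlgebraicClosure k)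
    (hπ : ∀ x : AlgebraicClosure k, π x = x ^ Nat.card k)
    (A : Type v) [Group A] [MulDistribMulAction (AlgebraicClosure k ≃ₐ[k] AlgebraicClosure k) A]
    (hcont : ∀ a : A, IsOpen {σ : AlgebraicClosure k ≃ₐ[k] AlgebraicClosure k | σ • a = a})
    (hfin : ∀ a : A, ∃ H : Subgroup A, (H : Set A).Finite ∧ a ∈ H ∧
      ∀ (σ : AlgebraicClosure k ≃ₐ[k] AlgebraicClosure k) (x : A), x ∈ H → σ • x ∈ H) :
    Function.Bijective
        (fun z : GpH1.OneCocycleLC (AlgebraicClosure k ≃ₐ[k] AlgebraicClosure k) A => z.1 π) ∧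
      ∀ z z' : GpH1.OneCocycleLC (AlgebraicClosure k ≃ₐ[k] AlgebraicClosure k) A,
        z.cl = z'.cl ↔ ∃ g : A, z'.1 π = g * z.1 π * (π • g)⁻¹ := by
  classical
  haveI : Fintype k := Fintype.ofFinite k
  let G := AlgebraicClosure k ≃ₐ[k] AlgebraicClosure k
  have hq : 1 < Nat.card k := Finite.one_lt_card
  have hπn : ∀ (j : ℕ) (x : AlgebraicClosure k), (π ^ j) x = x ^ (Nat.card k ^ j) := by
    intro j
    induction j with
    | zero => intro x; simp
    | succ j ih => intro x; rw [pow_succ', AlgEquiv.mul_apply, ih, hπ, ← pow_mul, pow_succ]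
  -- powers of Frobenius are dense
  have dens : ∀ (U : Subgroup G), IsOpen (U : Set G) → ∀ σ : G, ∃ j : ℕ, (π ^ j)⁻¹ * σ ∈ U := by
    intro U hU σ
    obtain ⟨L, hL, hnor, hLU⟩ := (krullTopology_mem_nhds_one_iff_of_normal k (AlgebraicClosure k) _).1
      (hU.mem_nhds U.one_mem)
    haveI := hL
    haveI := hnor
    haveI : Finite L := Module.finite_of_finite k
    obtain ⟨⟨j, hjlt⟩, hj⟩ := (FiniteField.bijective_frobeniusAlgEquivOfAlgebraic_pow k L).2 (σ.restrictNormal L)
    refine ⟨j, hLU ?_⟩
    rw [SetLike.mem_coe, IntermediateField.mem_fixingSubgroup_iff]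
    intro x hx
    have h1 : σ x = (π ^ j) x := by
      have h2 := AlgEquiv.restrictNormal_commutes σ L ⟨x, hx⟩
      rw [← hj] at h2
      simp only [AlgEquiv.coe_pow, FiniteField.coe_frobeniusAlgEquivOfAlgebraic_iterate] at h2
      rw [hπn, Nat.card_eq_fintype_card]
      exact h2.symm
    rw [AlgEquiv.mul_apply, h1, ← AlgEquiv.mul_apply, inv_mul_cancel, AlgEquiv.one_apply]
  have hcomm : ∀ σ τ : G, σ * τ = τ * σ := by
    intro σ τ
    refine AlgEquiv.ext fun x => ?_
    let U : Subgroup G := MulAction.stabilizer G x ⊓ MulAction.stabilizer G (σ x) ⊓ MulAction.stabilizer G (τ x)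
    have hU : IsOpen (U : Set G) := ((stabilizer_isOpen_of_isIntegral _).inter
      (stabilizer_isOpen_of_isIntegral _)).inter (stabilizer_isOpen_of_isIntegral _)
    obtain ⟨i, hi⟩ := dens U hU σ
    obtain ⟨j, hj⟩ := dens U hU τ
    have e1 : ∀ y, y = x ∨ y = τ x → σ y = (π ^ i) y := by
      intro y hy
      have : ((π ^ i)⁻¹ * σ) y = y := by
        rcases hy with rfl | rfl
        · exact hi.1.1
        · exact hi.2
      conv_rhs => rw [← this, AlgEquiv.mul_apply, ← AlgEquiv.mul_apply, mul_inv_cancel, AlgEquiv.one_apply]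
    have e2 : ∀ y, y = x ∨ y = σ x → τ y = (π ^ j) y := by
      intro y hy
      have : ((π ^ j)⁻¹ * τ) y = y := by
        rcases hy with rfl | rfl
        · exact hj.1.1
        · exact hj.1.2
      conv_rhs => rw [← this, AlgEquiv.mul_apply, ← AlgEquiv.mul_apply, mul_inv_cancel, AlgEquiv.one_apply]
    rw [AlgEquiv.mul_apply, AlgEquiv.mul_apply, e1 (τ x) (Or.inr rfl), e2 x (Or.inl rfl),
      e2 (σ x) (Or.inr rfl), e1 x (Or.inl rfl), ← AlgEquiv.mul_apply, ← AlgEquiv.mul_apply,
      ← pow_add, ← pow_add, add_comm]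
  -- a stabilizer subgroup is open
  have hstab : ∀ x : A, IsOpen ((MulAction.stabilizer G x : Subgroup G) : Set G) := fun x => hcont x
  have hext : ∀ z z' : GpH1.OneCocycleLC G A, z.1 π = z'.1 π → z = z' := by
    intro z z' h
    have h1 : z.1.1 1 = 1 ∧ z'.1.1 1 = 1 := by
      refine ⟨?_, ?_⟩
      · have := z.1.2 1 1
        rwa [one_smul, one_mul, left_eq_mul] at this
      · have := z'.1.2 1 1
        rwa [one_smul, one_mul, left_eq_mul] at this
    have hp : ∀ j : ℕ, z.1.1 (π ^ j) = z'.1.1 (π ^ j) := by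
      intro j
      induction j with
      | zero => rw [pow_zero, h1.1, h1.2]
      | succ j ih => rw [pow_succ', z.1.2, z'.1.2, ih, h]
    refine Subtype.ext (GpH1.OneCocycle.ext fun σ => ?_)
    have hopen : IsOpen {g : G | z.1.1 g = 1 ∧ z'.1.1 g = 1} :=
      (z.2.isOpen_fiber 1).inter (z'.2.isOpen_fiber 1)
    obtain ⟨L, hL, hLsub⟩ := (krullTopology_mem_nhds_one_iff k (AlgebraicClosure k) _).1 (hopen.mem_nhds h1)
    haveI := hL
    obtain ⟨j, hj⟩ := dens L.fixingSubgroup (IntermediateField.fixingSubgroup_isOpen L) σ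
    obtain ⟨ha, hb⟩ := hLsub hj
    have e := z.1.2 (π ^ j) ((π ^ j)⁻¹ * σ)
    have e' := z'.1.2 (π ^ j) ((π ^ j)⁻¹ * σ)
    rw [mul_inv_cancel_left] at e e'
    show z.1.1 σ = z'.1.1 σ
    rw [e, e', ha, hb, hp]
  refine ⟨⟨fun z z' h => hext z z' h, fun a => ?_⟩, fun z z' => ?_⟩
  · obtain ⟨H, hHfin, haH, hHst⟩ := hfin a
    -- the norm sequence
    let c : ℕ → A := fun j => Nat.rec 1 (fun _ x => a * π • x) j
    have hc0 : c 0 = 1 := rfl
    have hcs : ∀ j, c (j + 1) = a * π • c j := fun _ => rfl
    have hcH : ∀ j, c j ∈ H := by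
      intro j
      induction j with
      | zero => rw [hc0]; exact H.one_mem
      | succ j ih => rw [hcs]; exact H.mul_mem haH (hHst π _ ih)
    have hcadd : ∀ i j, c (i + j) = c i * π ^ i • c j := by
      intro i j
      induction i with
      | zero => rw [zero_add, hc0, one_mul, pow_zero, one_smul]
      | succ i ih => rw [Nat.succ_add, hcs, ih, hcs, smul_mul', mul_assoc, ← mul_smul, ← pow_succ']
    haveI : Fintype H := hHfin.fintype
    obtain ⟨i, j, hij, hst⟩ : ∃ i j : ℕ, i < j ∧ (c i, fun h : H => π ^ i • (h : A)) = (c j, fun h : H => π ^ j • (h : A)) := by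
      let F : ℕ → H × (H → H) := fun i => (⟨c i, hcH i⟩, fun h => ⟨π ^ i • (h : A), hHst _ _ h.2⟩)
      obtain ⟨i, j, hne, he⟩ := Finite.exists_ne_map_eq_of_infinite F
      have he' : ∀ {i j}, F i = F j →
          (c i, fun h : H => π ^ i • (h : A)) = (c j, fun h : H => π ^ j • (h : A)) := fun {i j} he =>
        Prod.ext (congrArg (fun p : H × (H → H) => (p.1 : A)) he)
          (funext fun h => congrArg (fun p : H × (H → H) => (p.2 h : A)) he)
      rcases lt_or_gt_of_ne hne with hlt | hlt
      · exact ⟨i, j, hlt, he' he⟩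
      · exact ⟨j, i, hlt, (he' he).symm⟩
    obtain ⟨n, rfl⟩ := Nat.exists_eq_add_of_lt hij
    have hc' := congrArg Prod.fst hst
    have hp' := fun h : H => congrFun (congrArg Prod.snd hst) h
    simp only at hc' hp'
    have hfix : ∀ h : A, h ∈ H → π ^ (n + 1) • h = h := by
      intro h hh
      have := hp' ⟨h, hh⟩
      simp only [add_assoc, pow_add π i, mul_smul] at this
      exact (MulAction.injective (π ^ i) this).symm
    have hcn : c (n + 1) = 1 := by
      rw [add_assoc, hcadd, left_eq_mul] at hc'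
      exact MulAction.injective (π ^ i) (hc'.trans (smul_one _).symm)
    have hper : ∀ t j, c (j + t * (n + 1)) = c j := by
      intro t
      induction t with
      | zero => simp
      | succ t ih =>
        intro j
        rw [Nat.succ_mul, ← add_assoc, add_comm _ (n + 1), hcadd, hcn, one_mul, hfix _ (hcH _), ih]
    -- the open subgroup
    obtain ⟨U, hU, hUH, hUn⟩ : ∃ U : Subgroup G, IsOpen (U : Set G) ∧ (∀ u ∈ U, ∀ h ∈ H, u • h = h) ∧
        ∀ j, π ^ j ∈ U → n + 1 ∣ j := by
      let f : Polynomial (AlgebraicClosure k) := Polynomial.X ^ (Nat.card k ^ (n + 1)) - Polynomial.X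
      have h1N : 1 < Nat.card k ^ (n + 1) := Nat.one_lt_pow (Nat.succ_ne_zero n) hq
      haveI : Finite (↥f.roots.toFinset) := inferInstance
      let L := IntermediateField.adjoin k (f.roots.toFinset : Set (AlgebraicClosure k))
      haveI : FiniteDimensional k L :=
        IntermediateField.finiteDimensional_adjoin fun x _ => Algebra.IsIntegral.isIntegral x
      refine ⟨L.fixingSubgroup ⊓ ⨅ h : H, MulAction.stabilizer G (h : A), ?_, ?_, ?_⟩
      · rw [Subgroup.coe_inf, Subgroup.coe_iInf]
        exact (IntermediateField.fixingSubgroup_isOpen L).inter (isOpen_iInter_of_finite fun h => hstab h)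
      · intro u hu h hh
        exact (Subgroup.mem_iInf.1 hu.2) ⟨h, hh⟩
      · intro j hj
        by_contra hndvd
        have hjfix := (IntermediateField.mem_fixingSubgroup_iff _ _).1 hj.1
        have hroot : ∀ x : AlgebraicClosure k, x ^ (Nat.card k ^ (n + 1)) = x → x ^ (Nat.card k ^ j) = x := by
          intro x hx
          rw [← hπn]
          refine hjfix x (IntermediateField.subset_adjoin _ _ ?_)
          rw [Finset.mem_coe, Multiset.mem_toFinset, Polynomial.mem_roots (FiniteField.X_pow_card_sub_X_ne_zero _ h1N),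
            Polynomial.IsRoot, Polynomial.eval_sub, Polynomial.eval_pow, Polynomial.eval_X, hx, sub_self]
        let r := j % (n + 1)
        have hr : 0 < r := Nat.pos_of_ne_zero fun h => hndvd (Nat.dvd_of_mod_eq_zero h)
        have hroot' : ∀ x ∈ f.roots, x ∈ (Polynomial.X ^ (Nat.card k ^ r) - Polynomial.X : Polynomial (AlgebraicClosure k)).roots := by
          intro x hx
          obtain ⟨hf0, hx⟩ := Polynomial.mem_roots'.1 hx
          simp only [f, Polynomial.IsRoot, Polynomial.eval_sub, Polynomial.eval_pow, Polynomial.eval_X, sub_eq_zero] at hx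
          have hpp : ∀ t, x ^ (Nat.card k ^ (t * (n + 1))) = x := by
            intro t
            induction t with
            | zero => simp
            | succ t ih => rw [Nat.succ_mul, pow_add, pow_mul, ih, hx]
          refine (Polynomial.mem_roots (FiniteField.X_pow_card_sub_X_ne_zero _ (Nat.one_lt_pow hr.ne' hq))).2 ?_
          simp only [Polynomial.IsRoot, Polynomial.eval_sub, Polynomial.eval_pow, Polynomial.eval_X, sub_eq_zero]
          have h3 := hroot x hx
          rwa [← Nat.div_add_mod j (n + 1), mul_comm (n + 1), pow_add, pow_mul, hpp] at h3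
        haveI : CharP (AlgebraicClosure k) (ringChar k) := charP_of_injective_algebraMap' k (ringChar k)
        have hsep : f.Separable := by
          obtain ⟨m, hp, hm⟩ := FiniteField.card k (ringChar k)
          refine galois_poly_separable (ringChar k) _ ?_
          rw [Nat.card_eq_fintype_card, hm, ← pow_mul]
          exact dvd_pow_self _ (Nat.mul_ne_zero m.pos.ne' (Nat.succ_ne_zero n))
        have hcard : f.roots.card = Nat.card k ^ (n + 1) :=
          (IsAlgClosed.card_roots_eq_natDegree (p := f)).trans (FiniteField.X_pow_card_sub_X_natDegree_eq _ h1N)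
        have hle := Multiset.card_le_card ((Multiset.le_iff_subset (Polynomial.nodup_roots hsep)).2 hroot')
        rw [hcard] at hle
        have := hle.trans ((Polynomial.card_roots' _).trans (FiniteField.X_pow_card_sub_X_natDegree_eq _ (Nat.one_lt_pow hr.ne' hq)).le)
        exact absurd ((Nat.pow_le_pow_iff_right hq).1 this) (not_le.2 (Nat.mod_lt _ n.succ_pos))
    choose e he using dens U hU
    have hwd : ∀ σ j, (π ^ j)⁻¹ * σ ∈ U → c (e σ) = c j := by
      intro σ j hj
      have h1 : (π ^ e σ)⁻¹ * π ^ j ∈ U := by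
        have := U.mul_mem (he σ) (U.inv_mem hj)
        rwa [show (π ^ e σ)⁻¹ * σ * ((π ^ j)⁻¹ * σ)⁻¹ = (π ^ e σ)⁻¹ * π ^ j by group] at this
      rcases le_total (e σ) j with hle | hle
      · obtain ⟨d, rfl⟩ := Nat.exists_eq_add_of_le hle
        rw [pow_add, inv_mul_cancel_left] at h1
        obtain ⟨t, rfl⟩ := hUn d h1
        rw [mul_comm (n + 1), hper]
      · obtain ⟨d, hd⟩ := Nat.exists_eq_add_of_le hle
        rw [hd, pow_add, mul_inv_rev, mul_assoc, inv_mul_cancel, mul_one] at h1
        obtain ⟨t, rfl⟩ := hUn d (U.inv_mem_iff.1 h1)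
        rw [hd, mul_comm (n + 1), hper]
    have hcoc : GpH1.IsOneCocycle (fun σ : G => c (e σ)) := by
      intro σ τ
      show c (e (σ * τ)) = c (e σ) * σ • c (e τ)
      have h1 : (π ^ (e σ + e τ))⁻¹ * (σ * τ) ∈ U := by
        have := U.mul_mem (he σ) (he τ)
        rwa [show (π ^ (e σ + e τ))⁻¹ * (σ * τ) = (π ^ e σ)⁻¹ * σ * ((π ^ e τ)⁻¹ * τ) by
          rw [pow_add, mul_inv_rev, hcomm ((π ^ e τ)⁻¹) ((π ^ e σ)⁻¹), mul_assoc, mul_assoc, ← mul_assoc _ σ τ,
            hcomm _ σ, mul_assoc]]
      rw [hwd _ _ h1, hcadd]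
      congr 1
      conv_rhs => rw [← mul_inv_cancel_left (π ^ e σ) σ, mul_smul, hUH _ (he σ) _ (hcH _)]
    have hlc : IsLocallyConstant (fun σ : G => c (e σ)) := by
      refine (IsLocallyConstant.iff_exists_open _).2 fun σ =>
        ⟨(fun g => σ⁻¹ * g) ⁻¹' (U : Set G), hU.preimage (continuous_const_mul _),
          by simpa using U.one_mem, fun g hg => ?_⟩
      refine hwd g (e σ) ?_
      rw [show (π ^ e σ)⁻¹ * g = (π ^ e σ)⁻¹ * σ * (σ⁻¹ * g) by group]
      exact U.mul_mem (he σ) hg
    refine ⟨⟨⟨_, hcoc⟩, hlc⟩, ?_⟩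
    show c (e π) = a
    rw [hwd π 1 (by simpa using U.one_mem), show (1 : ℕ) = 0 + 1 from rfl, hcs, hc0, smul_one, mul_one]
  · rw [GpH1.OneCocycleLC.cl_eq_cl_iff]
    constructor
    · rintro ⟨g, hg⟩
      refine ⟨g, ?_⟩
      rw [hg π]
      group
    · rintro ⟨g, hg⟩
      refine ⟨g, fun σ => ?_⟩
      -- both sides are locally constant cocycles agreeing at Frobenius
      let z'' : GpH1.OneCocycleLC G A := ⟨⟨fun τ => g⁻¹ * z'.1.1 τ * τ • g, fun σ τ => by
        show g⁻¹ * z'.1.1 (σ * τ) * (σ * τ) • g = _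
        rw [z'.1.2, smul_mul', smul_mul', smul_inv', mul_smul]
        group⟩, by
          refine (IsLocallyConstant.iff_exists_open _).2 fun τ => ?_
          obtain ⟨V, hV, hτ, hc⟩ := (IsLocallyConstant.iff_exists_open _).1 z'.2 τ
          refine ⟨V ∩ (fun s => τ⁻¹ * s) ⁻¹' {s : G | s • g = g}, hV.inter ((hcont g).preimage (continuous_const_mul _)),
            ⟨hτ, by simp⟩, fun s hs => ?_⟩
          show g⁻¹ * z'.1.1 s * s • g = g⁻¹ * z'.1.1 τ * τ • g
          rw [show z'.1.1 s = z'.1.1 τ from hc s hs.1]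
          congr 1
          conv_lhs => rw [← mul_inv_cancel_left τ s, mul_smul, show (τ⁻¹ * s) • g = g from hs.2]⟩
      have : z = z'' := hext z z'' (by
        show z.1.1 π = g⁻¹ * z'.1.1 π * π • g
        rw [hg]; group)
      exact congrArg (fun w : GpH1.OneCocycleLC G A => w.1.1 σ) this

end Groth.Agent.S14195
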