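import Groth.Statements.S14196
import Groth.Agent.StackCountLib.Orbit
import Groth.Agent.StackCountLib.EtaleTorsor

set_option linter.all false
set_option backward.isDefEq.respectTransparency false
set_option backward.isDefEq.respectTransparency.types false

set_option autoImplicit false
universe u
open CategoryTheory MonoidalCategory CartesianMonoidalCategory AlgebraicGeometry
open StackCount

open scoped MonObj
namespace Groth.Agent.S14196

/-- Let k be a finite field with algebraic closure k̄, G a smooth affine algebraic group over k acting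
on a variety X over k (reduced, of finite type), and [X/G] the quotient stack whose objects over a
k-scheme T are G-torsors P → T, locally trivial for the étale topology and taken to be schemes, with
a G-equivariant morphism P → X. Write T̄ = Spec k̄ over Spec k. Then: every object of the fibre
category of [X/G] over T̄ admits a section T̄ → P of its torsor; for objects A, B over T̄ with
chosen sections t_A, t_B, A and B are isomorphic in the fibre over T̄ if and only if the k̄-points
t_B φ_B and t_A φ_A of X lie in one G(k̄)-orbit (there is g ∈ G(T̄) with g · (t_A φ_A) = t_B φ_B);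
and every k̄-point of X is of the form t φ_A. Hence the isomorphism classes of [X/G](k̄) correspond
bijectively to the G(k̄)-orbits in X(k̄). (The published statement allows any smooth algebraic group
G; this row takes G affine, so that every torsor is a scheme.) -/
theorem result (k : Type u) [Field k] [Finite k]
    (G : Over (Spec (CommRingCat.of k))) [GrpObj G] [Smooth G.hom] [IsAffineHom G.hom]
    (X : Over (Spec (CommRingCat.of k))) [LocallyOfFiniteType X.hom] [QuasiCompact X.hom]
    [IsReduced X.left] (aX : AlgGrp.Action G X) :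
    (∀ A : (AlgSt.QuotObj.forget Scheme.etalePrecoverage G aX).Fiber (Over.mk (Spec.map (CommRingCat.ofHom (algebraMap k (AlgebraicClosure k)))) : Over (Spec (CommRingCat.of k))),
        ∃ t : (Over.mk (Spec.map (CommRingCat.ofHom (algebraMap k (AlgebraicClosure k)))) : Over (Spec (CommRingCat.of k))) ⟶ A.1.P, t ≫ A.1.π = eqToHom A.2.symm) ∧
    (∀ (A B : (AlgSt.QuotObj.forget Scheme.etalePrecoverage G aX).Fiber (Over.mk (Spec.map (CommRingCat.ofHom (algebraMap k (AlgebraicClosure k)))) : Over (Spec (CommRingCat.of k))))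
        (tA : (Over.mk (Spec.map (CommRingCat.ofHom (algebraMap k (AlgebraicClosure k)))) : Over (Spec (CommRingCat.of k))) ⟶ A.1.P) (tB : (Over.mk (Spec.map (CommRingCat.ofHom (algebraMap k (AlgebraicClosure k)))) : Over (Spec (CommRingCat.of k))) ⟶ B.1.P),
        tA ≫ A.1.π = eqToHom A.2.symm → tB ≫ B.1.π = eqToHom B.2.symm →
        (Nonempty (A ≅ B) ↔
          ∃ g : (Over.mk (Spec.map (CommRingCat.ofHom (algebraMap k (AlgebraicClosure k)))) : Over (Spec (CommRingCat.of k))) ⟶ G,
            CartesianMonoidalCategory.lift g (tA ≫ A.1.φ) ≫ aX.act = tB ≫ B.1.φ)) ∧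
    (∀ x : (Over.mk (Spec.map (CommRingCat.ofHom (algebraMap k (AlgebraicClosure k)))) : Over (Spec (CommRingCat.of k))) ⟶ X,
        ∃ (A : (AlgSt.QuotObj.forget Scheme.etalePrecoverage G aX).Fiber (Over.mk (Spec.map (CommRingCat.ofHom (algebraMap k (AlgebraicClosure k)))) : Over (Spec (CommRingCat.of k)))) (t : (Over.mk (Spec.map (CommRingCat.ofHom (algebraMap k (AlgebraicClosure k)))) : Over (Spec (CommRingCat.of k))) ⟶ A.1.P),
          t ≫ A.1.π = eqToHom A.2.symm ∧ t ≫ A.1.φ = x) := by
  refine ⟨fun ⟨A, hA⟩ => ?_, fun A B tA tB hA hB => ?_, fun x => ⟨StackCountLib.tf aX Scheme.etalePrecoverage x,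
    CartesianMonoidalCategory.lift 1 (𝟙 _), ?_, ?_⟩⟩
  · obtain ⟨s, hs⟩ := QuotStLib.exists_section_of_isAlgClosed (StackCountLib.toFppf A) (Ω := AlgebraicClosure k) hA.symm
    exact ⟨s, hs⟩
  · obtain ⟨iA⟩ := StackCountLib.exists_iso_tf (aX := aX) (K := Scheme.etalePrecoverage) A tA hA
    obtain ⟨iB⟩ := StackCountLib.exists_iso_tf (aX := aX) (K := Scheme.etalePrecoverage) B tB hB
    refine Iff.trans ?_ ((StackCountLib.nonempty_iso_iff (aX := aX) (K := Scheme.etalePrecoverage) (tB ≫ B.1.φ) (tA ≫ A.1.φ)))
    exact ⟨fun ⟨i⟩ => ⟨(iB.symm ≪≫ i.symm ≪≫ iA)⟩, fun ⟨i⟩ => ⟨iA ≪≫ i.symm ≪≫ iB.symm⟩⟩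
  · exact (CartesianMonoidalCategory.lift_snd _ _).trans (eqToHom_refl _ rfl).symm
  · show CartesianMonoidalCategory.lift _ _ ≫ MonoidalCategoryStruct.whiskerLeft G x ≫ aX.act = x
    rw [← Category.assoc, QuotStLib.lift_whisker, Category.id_comp, QuotStLib.act_one]

end Groth.Agent.S14196
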