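import Groth.Statements.S1420
import Groth.Agent.WeightLib.Ineq

set_option autoImplicit false
universe u
open FlatMor

namespace Groth.Agent.S1420

open AlgebraicGeometry CategoryTheory Limits in
/-- A locally quasi-finite morphism with a weighting taking only positive values is universally open. -/
theorem result {X Y : Scheme.{u}} (f : X ⟶ Y) [LocallyQuasiFinite f] [LocallyOfFiniteType f] (w : ↑X → ℤ) (hw : MoreMor.IsWeighting f w) (hpos : ∀ x, 0 < w x) :
    UniversallyOpen f := by
  refine ⟨MorphismProperty.universally_mk' _ _ fun {T} g _ => ?_⟩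
  intro O hO
  rw [isOpen_iff_forall_mem_open]
  rintro y ⟨x, hxO, rfl⟩
  let f' := pullback.fst g f
  let a := pullback.snd g f
  let w' : ↥(pullback g f) → ℤ := fun p => w (a p)
  haveI : LocallyQuasiFinite f' := MorphismProperty.pullback_fst _ _ ‹_›
  haveI : LocallyOfFiniteType f' := MorphismProperty.pullback_fst _ _ ‹_›
  have hP : IsPullback a f' f g := (IsPullback.of_hasPullback g f).flip
  obtain ⟨V, k, _, v, hv, n, W, hW, hs, -, hc⟩ :=
    WeightLib.exists_split f' (f' x) {x} (Set.finite_singleton x)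
  obtain ⟨z, hz₁, hz₂⟩ := Scheme.Pullback.exists_preimage_pullback (f := f') (g := k) x v hv.symm
  obtain ⟨i, hzi⟩ := hc z hz₂ hz₁
  haveI := hW i
  let b := pullback.fst f' k ≫ a
  have hP' : IsPullback b (pullback.snd f' k) f (k ≫ g) :=
    (IsPullback.of_hasPullback f' k).paste_horiz hP
  have hlc := WeightLib.isLocallyConstant_fibreIntegral hw hP' (W i)
  obtain ⟨N, hvN, hN⟩ := WeightLib.IsLocallyConstant.exists_opens_eq hlc v
  obtain ⟨N', hvN', hN'⟩ := WeightLib.exists_nhd_subset (pullback.snd f' k) (W i)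
    (pullback.fst f' k ⁻¹ᵁ ⟨O, hO⟩) v (fun p hp hpW => by
      have : (⟨p, hpW⟩ : (W i).toScheme) = ⟨z, hzi⟩ := (hs i).eq hp hz₂
      obtain rfl : p = z := congrArg Subtype.val this
      change pullback.fst f' k p ∈ O
      rw [hz₁]
      exact hxO)
  refine ⟨k '' ((N : Set V) ∩ N'), ?_, k.isOpenMap _ (N.isOpen.inter N'.isOpen),
    ⟨v, ⟨hvN, hvN'⟩, hv⟩⟩
  rintro _ ⟨q, ⟨hq, hq'⟩, rfl⟩
  have hne : MoreMor.fibreIntegral ((W i).ι ≫ pullback.snd f' k)
      (fun u => w (b ((W i).ι u))) q ≠ 0 := by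
    rw [hN q hq, (hs i).fibreIntegral_eq _ (u := ⟨z, hzi⟩) hz₂]
    exact (hpos _).ne'
  obtain ⟨u, hu⟩ := WeightLib.exists_of_fibreIntegral_ne_zero _ _ hne
  refine ⟨pullback.fst f' k u.1, hN' u.1 ?_ u.2, ?_⟩
  · change pullback.snd f' k u.1 ∈ N'
    rw [show pullback.snd f' k u.1 = q from hu]
    exact hq'
  · change f' (pullback.fst f' k u.1) = k q
    rw [← Scheme.Hom.comp_apply, pullback.condition, Scheme.Hom.comp_apply]
    exact congrArg k hu

end Groth.Agent.S1420
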