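import Groth.Statements.S14211
import Groth.Agent.CSALib.Quat

set_option autoImplicit false
universe u v
open scoped TensorProduct
open Brauer

namespace Groth.Agent.S14211

/-- Let k be a field in which 2 ≠ 0 and A a finite-dimensional central simple k-algebra. Then A has
period 2 and index 2 (its Severi–Brauer variety has type (2, 2, 2m)) if and only if A is isomorphic
over k to a matrix algebra M_m(Q), m ≥ 1, over a quaternion algebra Q = (a, b)_k (the k-algebra with
basis 1, i, j, ij, i² = a, j² = b, ij = −ji) which is a division ring; moreover such a quaternion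
algebra is unique up to k-isomorphism. -/
theorem result (k : Type u) [Field k] (h2 : (2 : k) ≠ 0)
    (A : Type v) [Ring A] [Algebra k A] [Algebra.IsCentral k A] [IsSimpleRing A]
    [FiniteDimensional k A] :
    ((CSAGal.IsPeriod k A 2 ∧ CSAGal.IsIndex k A 2) ↔
      ∃ (a b : k) (m : ℕ), 0 < m ∧ (∀ x : QuaternionAlgebra k a 0 b, x ≠ 0 → IsUnit x) ∧
        Nonempty (A ≃ₐ[k] Matrix (Fin m) (Fin m) (QuaternionAlgebra k a 0 b))) ∧
    (∀ (a b a' b' : k) (m m' : ℕ),
      (∀ x : QuaternionAlgebra k a 0 b, x ≠ 0 → IsUnit x) →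
      (∀ x : QuaternionAlgebra k a' 0 b', x ≠ 0 → IsUnit x) →
      Nonempty (A ≃ₐ[k] Matrix (Fin m) (Fin m) (QuaternionAlgebra k a 0 b)) →
      Nonempty (A ≃ₐ[k] Matrix (Fin m') (Fin m') (QuaternionAlgebra k a' 0 b')) →
      Nonempty (QuaternionAlgebra k a 0 b ≃ₐ[k] QuaternionAlgebra k a' 0 b')) := by
  constructor
  · constructor
    · rintro ⟨hp, hi⟩
      obtain ⟨-, m, D, _, _, hm, hD, ⟨e⟩⟩ := hi
      obtain ⟨_, _⟩ := CSALib.division_data hm e
      obtain ⟨a, b, ⟨f⟩⟩ := CSALib.exists_algEquiv_quaternion h2 (D := D) (hD.trans (by norm_num))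
      refine ⟨a, b, m, hm, fun x hx => ?_, ⟨e.trans f.symm.mapMatrix⟩⟩
      have := (isUnit_iff_ne_zero (a := f x)).2 ((map_ne_zero_iff f f.injective).2 hx)
      simpa using this.map f.symm
    · rintro ⟨a, b, m, -, hH, ⟨e⟩⟩
      obtain ⟨h1, h3⟩ := CSALib.quaternion_class hH e
      have hne : CSALib.cl k A ≠ 1 := fun h => by
        rw [CSALib.ind_eq_one_iff.2 h] at h1
        exact absurd h1 (by norm_num)
      exact ⟨(CSALib.isPeriod_iff 2).2 (orderOf_eq_prime h3 hne), (CSALib.isIndex_iff 2).2 h1⟩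
  · rintro a b a' b' m m' hH hH' ⟨e⟩ ⟨e'⟩
    have hm : 0 < m := Nat.pos_of_ne_zero fun h => by
      subst h
      have : Subsingleton A := e.toEquiv.subsingleton
      exact false_of_nontrivial_of_subsingleton A
    have hm' : 0 < m' := Nat.pos_of_ne_zero fun h => by
      subst h
      have : Subsingleton A := e'.toEquiv.subsingleton
      exact false_of_nontrivial_of_subsingleton A
    let := CSALib.divisionOfIsUnit hH
    let := CSALib.divisionOfIsUnit hH'
    obtain ⟨_, _⟩ := CSALib.division_data hm e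
    obtain ⟨_, _⟩ := CSALib.division_data hm' e'
    exact CSALib.nonempty_algEquiv_of_brEq ((CSALib.BrEq.of_matrix hm.ne' e).symm.trans
      (CSALib.BrEq.of_matrix hm'.ne' e'))
      (by rw [QuaternionAlgebra.finrank_eq_four, QuaternionAlgebra.finrank_eq_four])

end Groth.Agent.S14211
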