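import Groth.Statements.S1423
import Groth.Agent.WeightLib.Stratum

set_option autoImplicit false
universe u
open FlatMor

namespace Groth.Agent.S1423

open AlgebraicGeometry CategoryTheory Limits in
/-- Let f be locally quasi-finite and w a weighting of f. Then every level set of w is locally
constructible in X. -/
theorem result {X Y : Scheme.{u}} (f : X ⟶ Y) [LocallyQuasiFinite f] [LocallyOfFiniteType f] (w : ↑X → ℤ) (hw : MoreMor.IsWeighting f w) (n : ℤ) :
    Topology.IsLocallyConstructible {x : ↑X | w x = n} := by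
  intro x
  obtain ⟨_, ⟨V₀, hV, rfl⟩, hxV, -⟩ := Y.isBasis_affineOpens.exists_subset_of_mem_open
    (Set.mem_univ (f x)) isOpen_univ
  obtain ⟨_, ⟨U₀, hU, rfl⟩, hxU, hUV⟩ :=
    X.isBasis_affineOpens.exists_subset_of_mem_open (show x ∈ f ⁻¹ᵁ V₀ from hxV) (f ⁻¹ᵁ V₀).2
  let U : X.Opens := U₀
  let V : Y.Opens := V₀
  haveI : IsAffine U.toScheme := hU
  haveI : IsAffine V.toScheme := hV
  let f' : U.toScheme ⟶ V.toScheme := f.resLE V U hUV
  have hf' : U.ι ≫ f = f' ≫ V.ι := (Scheme.Hom.resLE_comp_ι ..).symm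
  have hw' := WeightLib.isWeighting_of_open hw U.ι V.ι f' hf'
  refine ⟨(U : Set X), U.2.mem_nhds hxU, U.2, ?_⟩
  exact (WeightLib.finite_range_of_forall (fun u : U.toScheme => w (U.ι u))
    (WeightLib.exists_constructible_weight_eq hw')).2 n

end Groth.Agent.S1423
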