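import Groth.Statements.S14230
import Groth.Agent.RootChLib.Facet
-- import your own Groth.Agent.* helpers here

set_option autoImplicit false
universe u v w x
open RootCh RootCh.Facet

namespace Groth.Agent.S14230

/-- For a finite reduced crystallographic root system over a linearly ordered field and a facet F, the
vectors of F are exactly the linear combinations of the corners of F in which every corner of F
occurs with a strictly positive coefficient (written with a finitely supported coefficient function
supported inside the set of corners). -/
theorem result {ι : Type u} {R : Type v} {M : Type w} {N : Type x}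
    [Field R] [LinearOrder R] [IsStrictOrderedRing R]
    [AddCommGroup M] [Module R M] [AddCommGroup N] [Module R N] [Finite ι]
    (P : RootPairing ι R M N) [P.IsRootSystem] [P.IsCrystallographic] [P.IsReduced] (F : RootCh.Facet P) :
    F.carrier = {ξ : M | ∃ c : M →₀ R, (c.support : Set M) ⊆ F.corners ∧
      (∀ m ∈ F.corners, 0 < c m) ∧ c.sum (fun m r => r • m) = ξ} := by
  have := Fintype.ofFinite ι
  classical
  obtain ⟨b, hb⟩ := RootChLib.cham_nonempty F
  have hinj := RootChLib.fundWeight_injective b
  ext ξ
  constructor
  · intro hξ
    obtain ⟨h1, h2, h3⟩ := RootChLib.carrier_expansion hb hξ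
    refine ⟨Finsupp.mapDomain (RootCh.fundWeight b)
      (Finsupp.equivFunOnFinite.symm fun j : b.support => P.coroot' j ξ), ?_, ?_, ?_⟩
    · intro m hm
      obtain ⟨j, hj, rfl⟩ := Finset.mem_image.1 (Finsupp.mapDomain_support hm)
      refine (RootChLib.fundWeight_mem_corners_iff hb j).2 fun h => ?_
      simp only [Finsupp.mem_support_iff, Finsupp.coe_equivFunOnFinite_symm] at hj
      exact hj (h2 j h)
    · intro m hm
      rw [RootChLib.corners_eq hb] at hm
      obtain ⟨j, hj, rfl⟩ := hm
      rw [Finsupp.mapDomain_apply hinj]
      simpa using h3 j hj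
    · rw [Finsupp.sum_mapDomain_index_inj hinj, Finsupp.sum_fintype _ _ (by simp)]
      simpa using h1.symm
  · rintro ⟨c, hc1, hc2, rfl⟩
    have hrange : (↑c.support : Set M) ⊆ Set.range (RootCh.fundWeight b) :=
      hc1.trans (by rw [RootChLib.corners_eq hb]; exact Set.image_subset_range _ _)
    have he : c.sum (fun m r => r • m) =
        ∑ j : b.support, c (RootCh.fundWeight b j) • RootCh.fundWeight b j := by
      rw [Finsupp.sum_of_support_subset c (s := Finset.univ.image (RootCh.fundWeight b))]
      · rw [Finset.sum_image fun x _ y _ h => hinj h]
      · intro m hm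
        obtain ⟨j, rfl⟩ := hrange hm
        exact Finset.mem_image_of_mem _ (Finset.mem_univ j)
      · simp
    rw [he]
    refine RootChLib.mem_carrier_weight_sum hb _ (fun j hj => ?_) (fun j hj =>
      hc2 _ ((RootChLib.fundWeight_mem_corners_iff hb j).2 hj))
    by_contra h
    exact (RootChLib.fundWeight_mem_corners_iff hb j).1 (hc1 (Finsupp.mem_support_iff.2 h)) hj

end Groth.Agent.S14230
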