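import Groth.Statements.S1424
import Groth.Agent.WeightLib.Stratum

set_option autoImplicit false
universe u
open FlatMor

namespace Groth.Agent.S1424

open AlgebraicGeometry CategoryTheory Limits in
/-- Let f be locally quasi-finite and of finite presentation and w a weighting of f. Then every level
set of the fibre integral of w along f is locally constructible in Y. -/
theorem result {X Y : Scheme.{u}} (f : X ⟶ Y) [LocallyQuasiFinite f] [LocallyOfFinitePresentation f] [QuasiCompact f] [QuasiSeparated f]
    (w : ↑X → ℤ) (hw : MoreMor.IsWeighting f w) (n : ℤ) :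
    Topology.IsLocallyConstructible {y : ↑Y | MoreMor.fibreIntegral f w y = n} := by
  intro y
  obtain ⟨_, ⟨V₀, hV, rfl⟩, hyV, -⟩ := Y.isBasis_affineOpens.exists_subset_of_mem_open
    (Set.mem_univ y) isOpen_univ
  let V : Y.Opens := V₀
  haveI : IsAffine V.toScheme := hV
  have hw' := WeightLib.isWeighting_of_open hw (f ⁻¹ᵁ V).ι V.ι (f ∣_ V)
    (morphismRestrict_ι f V).symm
  have hval : ∀ v : V.toScheme, MoreMor.fibreIntegral (f ∣_ V) (fun u => w ((f ⁻¹ᵁ V).ι u)) v =
      MoreMor.fibreIntegral f w (V.ι v) := fun v =>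
    WeightLib.fibreIntegral_baseChange (isPullback_morphismRestrict f V).flip w v
      (f.finite_preimage_singleton _)
  refine ⟨(V : Set Y), V.2.mem_nhds hyV, V.2, ?_⟩
  have h := (WeightLib.finite_range_of_forall _
    (WeightLib.exists_constructible_fibreIntegral_eq hw')).2 n
  have hset : ((fun v => MoreMor.fibreIntegral (f ∣_ V) (fun u => w ((f ⁻¹ᵁ V).ι u)) v) ⁻¹' {n}) =
      V.ι ⁻¹' {y : ↑Y | MoreMor.fibreIntegral f w y = n} := Set.ext fun v => by
    simp only [Set.mem_preimage, Set.mem_singleton_iff, Set.mem_ofPred_eq, hval v]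
  exact hset ▸ h

end Groth.Agent.S1424
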