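import Groth.Statements.S1425
import Groth.Agent.WeightLib.Ineq

set_option autoImplicit false
universe u
open FlatMor

namespace Groth.Agent.S1425

open AlgebraicGeometry CategoryTheory Limits in
/-- A weighting of a locally quasi-finite morphism taking positive values is upper semicontinuous on X. -/
theorem result {X Y : Scheme.{u}} (f : X ⟶ Y) [LocallyQuasiFinite f] [LocallyOfFiniteType f] (w : ↑X → ℤ) (hw : MoreMor.IsWeighting f w) (hpos : ∀ x, 0 < w x) :
    UpperSemicontinuous w := by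
  intro x c hc'
  change w x < c at hc'
  obtain ⟨V, g, _, v, hv, n, W, hW, hs, -, hc⟩ :=
    WeightLib.exists_split f (f x) {x} (Set.finite_singleton x)
  obtain ⟨z, hz₁, hz₂⟩ := Scheme.Pullback.exists_preimage_pullback (f := f) (g := g) x v hv.symm
  obtain ⟨i, hzi⟩ := hc z hz₂ hz₁
  haveI := hW i
  obtain ⟨N, hvN, hN⟩ := WeightLib.IsLocallyConstant.exists_opens_eq (hw V g (W i) (hW i)) v
  have hmem : pullback.fst f g '' ((W i : Set ↥(pullback f g)) ∩ pullback.snd f g ⁻¹' N) ∈ nhds x :=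
    ((pullback.fst f g).isOpenMap _
      ((W i).isOpen.inter (N.isOpen.preimage (pullback.snd f g).continuous))).mem_nhds
      ⟨z, ⟨hzi, by rw [Set.mem_preimage, hz₂]; exact hvN⟩, hz₁⟩
  filter_upwards [hmem]
  rintro _ ⟨p, ⟨hpW, hpN⟩, rfl⟩
  refine lt_of_le_of_lt ?_ hc'
  have hle := WeightLib.le_fibreIntegral ((W i).ι ≫ pullback.snd f g)
    (fun u => w (pullback.fst f g ((W i).ι u))) (fun u => (hpos _).le) ⟨p, hpW⟩
    (Scheme.Hom.finite_preimage_singleton _ _)
  refine hle.trans (le_of_eq ?_)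
  refine (hN _ hpN).trans ?_
  rw [(hs i).fibreIntegral_eq _ (u := ⟨z, hzi⟩) hz₂]
  exact congrArg w hz₁

end Groth.Agent.S1425
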