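import Groth.Statements.S14254
import Groth.Agent.PerfectionLib.Apps
import Groth.Agent.AWNLib.Basic

set_option autoImplicit false
universe u
open CategoryTheory AlgebraicGeometry
open FrobAlg

namespace Groth.Agent.S14254

/-- Let p be a prime, φ : A → B a map of commutative rings of characteristic p, i : A → A' and j : B →
B' perfect closures (A' and B' are perfect rings of characteristic p, every element of A' resp. B'
has a p^n-th power in the image of i resp. j, and the kernels of i and j consist of nilpotent
elements), and φ' : A' → B' the induced map, φ' ∘ i = j ∘ φ. Then Spec φ : Spec B ⟶ Spec A is a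
universal homeomorphism if and only if φ' is bijective. (The published statement is for an arbitrary
morphism of schemes over the prime field and its perfection; this row is the case of affine schemes,
the perfection of Spec A being Spec of the perfect closure of A.) -/
theorem result (p : ℕ) [Fact p.Prime]
    {A B A' B' : Type u} [CommRing A] [CommRing B] [CommRing A'] [CommRing B']
    [CharP A p] [CharP B p] [CharP A' p] [CharP B' p] [PerfectRing A' p] [PerfectRing B' p]
    (φ : A →+* B) (i : A →+* A') (j : B →+* B') [IsPerfectClosure i p] [IsPerfectClosure j p]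
    (φ' : A' →+* B') (hφ : φ'.comp i = j.comp φ) :
    FlatMor.IsUnivHomeo (Spec.map (CommRingCat.ofHom φ)) ↔ Function.Bijective φ' := by
  have hp : p.Prime := Fact.out
  haveI : IsReduced A' := nilradical_eq_bot_iff.1 <| by
    rw [← pNilradical_prime hp]
    exact PerfectRing.pNilradical_eq_bot A' p
  constructor
  · intro h
    obtain ⟨-, hs, -⟩ := (AWNLib.univHomeo_iff φ).1 h
    refine ⟨(injective_iff_map_eq_zero φ').2 fun a' ha => ?_, fun b' => ?_⟩
    · obtain ⟨n, a, hn⟩ := IsPRadical.pow_mem i p a'
      have h1 : IsNilpotent (φ a) := pNilradical_le_nilradical <| IsPRadical.ker_le j p (show j (φ a) = 0 by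
        rw [← RingHom.comp_apply, ← hφ, RingHom.comp_apply, hn, map_pow, ha, zero_pow (pow_ne_zero n hp.ne_zero)])
      obtain ⟨m, hm⟩ := h1
      have h2 : IsNilpotent (a ^ m) := AWNLib.isNilpotent_of_surjective_comap φ hs (by rw [map_pow, hm])
      have h3 : IsNilpotent a' := by
        obtain ⟨k, hk⟩ := h2
        exact ⟨p ^ n * (m * k), by rw [pow_mul, ← hn, ← map_pow, pow_mul, hk, map_zero]⟩
      exact h3.eq_zero
    · obtain ⟨n, b, hn⟩ := IsPRadical.pow_mem j p b'
      obtain ⟨m, a, ha⟩ := Groth.Agent.PerfectionLib.exists_pow_mem_range φ h (CharP.cast_eq_zero B p) b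
      refine ⟨(iterateFrobeniusEquiv A' p (n + m)).symm (i a), ?_⟩
      refine (iterateFrobeniusEquiv B' p (n + m)).injective ?_
      rw [iterateFrobeniusEquiv_apply, iterateFrobenius_def, ← map_pow, ← iterateFrobenius_def,
        ← iterateFrobeniusEquiv_apply, RingEquiv.apply_symm_apply, iterateFrobeniusEquiv_apply, iterateFrobenius_def,
        ← RingHom.comp_apply, hφ, RingHom.comp_apply, ha, map_pow, hn, ← pow_mul, ← pow_add]
  · rintro ⟨hinj, hsurj⟩
    have key : ∀ b : B, ∃ (n : ℕ) (a : A), φ a = b ^ p ^ n := fun b => by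
      obtain ⟨a', ha'⟩ := hsurj (j b)
      obtain ⟨n, a, hn⟩ := IsPRadical.pow_mem i p a'
      have h0 : j (φ a - b ^ p ^ n) = 0 := by
        rw [map_sub, ← RingHom.comp_apply, ← hφ, RingHom.comp_apply, hn, map_pow, ha', map_pow, sub_self]
      obtain ⟨m, hm⟩ := pNilradical_le_nilradical <| IsPRadical.ker_le j p h0
      obtain ⟨k, hk⟩ : ∃ k, m ≤ p ^ k := ⟨m, (Nat.lt_pow_self hp.one_lt).le⟩
      refine ⟨n + k, a ^ p ^ k, ?_⟩
      rw [map_pow, pow_add, pow_mul, ← sub_eq_zero, ← sub_pow_char_pow]
      exact pow_eq_zero_of_le hk hm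
    have hker : RingHom.ker φ ≤ nilradical A := fun a ha => by
      have : i a = 0 := hinj (by rw [map_zero, ← RingHom.comp_apply, hφ, RingHom.comp_apply, RingHom.mem_ker.1 ha, map_zero])
      exact pNilradical_le_nilradical <| IsPRadical.ker_le i p this
    letI := φ.toAlgebra
    have hint : Algebra.IsIntegral A B := ⟨fun b => by
      obtain ⟨n, a, ha⟩ := key b
      exact IsIntegral.of_pow (pow_pos hp.pos n) (ha ▸ isIntegral_algebraMap)⟩
    refine (AWNLib.univHomeo_iff φ).2 ⟨hint.isIntegral, fun q => ?_, fun K _ g₁ g₂ hg => RingHom.ext fun b => ?_⟩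
    · haveI := hint
      obtain ⟨Q, -, hQ, hQq⟩ := Ideal.exists_ideal_over_prime_of_isIntegral q.asIdeal (⊥ : Ideal B)
        (by rw [← RingHom.ker_eq_comap_bot]; exact hker.trans (nilradical_le_prime q.asIdeal))
      exact ⟨⟨Q, hQ⟩, PrimeSpectrum.ext hQq⟩
    · obtain ⟨n, a, ha⟩ := key b
      have heq := RingHom.congr_fun hg a
      rw [RingHom.comp_apply, RingHom.comp_apply, ha, map_pow, map_pow] at heq
      haveI : CharP K p := (CharP.charP_iff_prime_eq_zero hp).2 (by
        have := congrArg g₁ (CharP.cast_eq_zero B p)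
        rwa [map_natCast, map_zero] at this)
      exact iterateFrobenius_inj K p n heq

end Groth.Agent.S14254
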