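import Groth.Statements.S14256
import Mathlib
import Mathlib
-- import your own Groth.Agent.* helpers here

set_option autoImplicit false
universe u
open FrobAlg

namespace Groth.Agent.S14256

/-- Let p be a prime, φ : A → B a map of commutative rings of characteristic p, i : A → A' and j : B →
B' perfect closures (A', B' perfect rings of characteristic p, every element of A' resp. B' has a
p^n-th power in the image of i resp. j, the kernels of i and j consist of nilpotent elements), and
φ' : A' → B' the induced map, φ' ∘ i = j ∘ φ. Then φ is integral if and only if φ' is integral. (The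
published statement is that a morphism of schemes over the prime field is integral exactly when its
perfection is; this row is its affine case, to which the published proof reduces.) -/
theorem result (p : ℕ) [Fact p.Prime]
    {A B A' B' : Type u} [CommRing A] [CommRing B] [CommRing A'] [CommRing B']
    [CharP A p] [CharP B p] [CharP A' p] [CharP B' p] [PerfectRing A' p] [PerfectRing B' p]
    (φ : A →+* B) (i : A →+* A') (j : B →+* B') [IsPerfectClosure i p] [IsPerfectClosure j p]
    (φ' : A' →+* B') (hφ : φ'.comp i = j.comp φ) : φ.IsIntegral ↔ φ'.IsIntegral := by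
  classical
  haveI : Nontrivial A := CharP.nontrivial_of_char_ne_one (Fact.out : p.Prime).ne_one
  haveI : Nontrivial A' := CharP.nontrivial_of_char_ne_one (Fact.out : p.Prime).ne_one
  constructor
  · intro h y
    obtain ⟨n, b, hb⟩ := IsPRadical.pow_mem j p y
    obtain ⟨P, hm, hP⟩ := h b
    refine ⟨(P.map i).comp (Polynomial.X ^ p ^ n), (hm.map i).comp (Polynomial.monic_X_pow _) (by
      rw [Polynomial.natDegree_X_pow]; exact pow_ne_zero _ (Fact.out : p.Prime).ne_zero), ?_⟩
    rw [← Polynomial.eval_map, Polynomial.map_comp, Polynomial.eval_comp, Polynomial.map_map, hφ, ← Polynomial.map_map,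
      Polynomial.map_pow, Polynomial.map_X, Polynomial.eval_pow, Polynomial.eval_X, ← hb, Polynomial.eval_map_apply,
      Polynomial.eval_map, hP, map_zero]
  · intro h b
    obtain ⟨q, hm, hq⟩ := h (j b)
    have hex : ∀ l, ∃ n, ∀ N, n ≤ N → ∃ a, i a = q.coeff l ^ p ^ N := fun l => by
      obtain ⟨n, a, ha⟩ := IsPRadical.pow_mem i p (q.coeff l)
      refine ⟨n, fun N hN => ⟨a ^ p ^ (N - n), ?_⟩⟩
      rw [map_pow, ha, ← pow_mul, ← pow_add, Nat.add_sub_cancel' hN]
    choose n hn using hex
    set N := (Finset.range (q.natDegree + 1)).sup n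
    choose a ha using fun (l : ℕ) (hl : l ∈ Finset.range (q.natDegree + 1)) => hn l N (Finset.le_sup hl)
    let P : Polynomial A := Polynomial.X ^ q.natDegree + ∑ l ∈ (Finset.range q.natDegree).attach,
      Polynomial.C (a l.1 (Finset.mem_range.2 (Nat.lt_succ_of_lt (Finset.mem_range.1 l.2)))) * Polynomial.X ^ (l.1 : ℕ)
    have hdeg : (∑ l ∈ (Finset.range q.natDegree).attach,
      Polynomial.C (a l.1 (Finset.mem_range.2 (Nat.lt_succ_of_lt (Finset.mem_range.1 l.2)))) * Polynomial.X ^ (l.1 : ℕ)).degree < (q.natDegree : WithBot ℕ) := by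
      refine lt_of_le_of_lt (Polynomial.degree_sum_le _ _) ((Finset.sup_lt_iff (WithBot.bot_lt_coe _)).2 fun l _ => ?_)
      refine lt_of_le_of_lt (Polynomial.degree_C_mul_X_pow_le _ _) ?_
      exact_mod_cast Finset.mem_range.1 l.2
    have hPm : P.Monic := Polynomial.monic_X_pow_add hdeg
    have hj : j (P.eval₂ φ (b ^ p ^ N)) = 0 := by
      simp only [P, Polynomial.eval₂_add, Polynomial.eval₂_pow, Polynomial.eval₂_X, Polynomial.eval₂_finsetSum,
        Polynomial.eval₂_mul, Polynomial.eval₂_C, map_add, map_pow, map_sum, map_mul]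
      have hji : ∀ x, j (φ x) = φ' (i x) := fun x => (RingHom.congr_fun hφ x).symm
      simp only [hji, ha]
      rw [Finset.sum_attach (Finset.range q.natDegree) (fun l => φ' (q.coeff l ^ p ^ N) * ((j b) ^ p ^ N) ^ l)]
      have e := congrArg (fun z => z ^ p ^ N) hq
      rw [Polynomial.eval₂_eq_sum_range, Finset.sum_range_succ, hm.coeff_natDegree, map_one, one_mul,
        zero_pow (pow_ne_zero _ (Fact.out : p.Prime).ne_zero), add_pow_char_pow, sum_pow_char_pow] at e
      simp only [mul_pow, ← pow_mul, ← map_pow] at e ⊢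
      rw [add_comm, mul_comm (p ^ N)]
      simpa only [mul_comm (p ^ N)] using e
    obtain ⟨M, hM⟩ := (mem_pNilradical).1 (IsPRadical.ker_le j p hj)
    refine ⟨(P ^ p ^ M).comp (Polynomial.X ^ p ^ N), (hPm.pow _).comp (Polynomial.monic_X_pow _) (by
      rw [Polynomial.natDegree_X_pow]; exact pow_ne_zero _ (Fact.out : p.Prime).ne_zero), ?_⟩
    rw [Polynomial.eval₂_comp, Polynomial.eval₂_pow, Polynomial.eval₂_pow, Polynomial.eval₂_X]
    exact hM

end Groth.Agent.S14256
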