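import Groth.Statements.S14257
import Groth.Agent.FrobEtaleLib.Basic
import Mathlib.RingTheory.Etale.Basic

set_option autoImplicit false
universe u
open TensorProduct
open FrobAlg

namespace Groth.Agent.S14257

open scoped TensorProduct

theorem bijective_pow (p : ℕ) [Fact p.Prime] (A' : Type u) [CommRing A'] [CharP A' p] [PerfectRing A' p]
    (T : Type u) [CommRing T] [Algebra A' T] [Algebra.Etale A' T] [CharP T p] :
    Function.Bijective fun t : T => t ^ p := by
  let e : T →+* FrobAlg.BaseChange p A' T := Algebra.TensorProduct.includeLeftRingHom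
  let r : A' → A' := fun a => (frobeniusEquiv A' p).symm a
  let back : FrobAlg.BaseChange p A' T →+ T := TensorProduct.liftAddHom
    (AddMonoidHom.mk' (fun t => AddMonoidHom.mk' (fun a => r ((FrobAlg.toTwist p A').symm a) • t)
      (fun a b => by simp [r, add_smul])) fun t t' => AddMonoidHom.ext fun a => smul_add _ _ _)
    fun c t a => by
      change r ((FrobAlg.toTwist p A').symm a) • c • t = r (c ^ p * (FrobAlg.toTwist p A').symm a) • t
      rw [smul_smul, show r (c ^ p * (FrobAlg.toTwist p A').symm a) = r (c ^ p) * r ((FrobAlg.toTwist p A').symm a) from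
        map_mul _ _ _, show r (c ^ p) = c from (frobeniusEquiv A' p).symm_apply_apply c, mul_comm]
  have h1 : ∀ t, back (e t) = t := fun t => by
    change r ((FrobAlg.toTwist p A').symm 1) • t = t
    rw [map_one, show r 1 = 1 from map_one _, one_smul]
  have h2 : ∀ z, e (back z) = z := fun z => by
    induction z using TensorProduct.induction_on with
    | zero => simp
    | tmul t a =>
      change (r ((FrobAlg.toTwist p A').symm a) • t) ⊗ₜ[A'] (1 : FrobAlg.Twist p A') = t ⊗ₜ[A'] a
      rw [TensorProduct.smul_tmul, ← Algebra.algebraMap_eq_smul_one, FrobAlg.algebraMap_twist,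
        ← frobenius_def, show frobenius A' p (r ((FrobAlg.toTwist p A').symm a)) = (FrobAlg.toTwist p A').symm a from
          (frobeniusEquiv A' p).apply_symm_apply _, RingEquiv.apply_symm_apply]
    | add z w hz hw => rw [map_add, map_add, hz, hw]
  have he : (fun t : T => t ^ p) = FrobAlg.relFrob p A' T ∘ e := funext fun t =>
    ((FrobEtaleLib.relFrob_tmul p A' T t 1).trans (by rw [map_one, map_one, mul_one])).symm
  rw [he]
  exact (FrobEtaleLib.bijective_of_etale p A' T).comp ⟨Function.LeftInverse.injective h1, Function.RightInverse.surjective h2⟩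

/-- Let p be a prime, A a commutative ring of characteristic p, B an etale A-algebra of characteristic
p, A → A' and B → B' perfect closures (A', B' perfect rings of characteristic p, every element of A'
resp. B' has a p^n-th power in the image of A resp. B, and the structure maps have kernels
consisting of nilpotent elements), B' viewed as an A-algebra through B, and φ' : A' → B' a map of
A-algebras. Then the natural map A' ⊗_A B → B', a ⊗ b ↦ φ'(a) b, is bijective. (The published
statement is for an etale morphism X → Y of schemes over the prime field, where X_perf → X ×_Y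
Y_perf is an isomorphism; this row is the affine case.) -/
theorem result (p : ℕ) [Fact p.Prime]
    (A B A' B' : Type u) [CommRing A] [CommRing B] [CommRing A'] [CommRing B']
    [CharP A p] [CharP B p] [CharP A' p] [CharP B' p] [PerfectRing A' p] [PerfectRing B' p]
    [Algebra A B] [Algebra.Etale A B] [Algebra A A'] [Algebra B B'] [Algebra A B'] [IsScalarTower A B B']
    [IsPerfectClosure (algebraMap A A') p] [IsPerfectClosure (algebraMap B B') p]
    (φ' : A' →ₐ[A] B') :
    Function.Bijective (Algebra.TensorProduct.lift φ' (IsScalarTower.toAlgHom A B B')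
      (fun a b => Commute.all (φ' a) (IsScalarTower.toAlgHom A B B' b))) := by
  set L := Algebra.TensorProduct.lift φ' (IsScalarTower.toAlgHom A B B')
    (fun a b => Commute.all (φ' a) (IsScalarTower.toAlgHom A B B' b))
  haveI : Algebra.Etale A' (A' ⊗[A] B) := inferInstance
  rcases subsingleton_or_nontrivial (A' ⊗[A] B) with hT | hT
  · haveI : Subsingleton B' := subsingleton_of_zero_eq_one
      (by rw [← map_zero L, ← map_one L, Subsingleton.elim (0 : A' ⊗[A] B) 1])
    exact ⟨fun a b _ => Subsingleton.elim _ _, fun b => ⟨0, Subsingleton.elim _ _⟩⟩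
  haveI : CharP (A' ⊗[A] B) p := (CharP.charP_iff_prime_eq_zero Fact.out).mpr
    (by rw [← map_natCast (algebraMap A' (A' ⊗[A] B)) p, CharP.cast_eq_zero, map_zero])
  haveI : PerfectRing (A' ⊗[A] B) p := ⟨bijective_pow p A' _⟩
  let ι : B →ₐ[A] A' ⊗[A] B := Algebra.TensorProduct.includeRight
  have hι : ∀ b, L (ι b) = algebraMap B B' b := fun b => by
    change φ' 1 * algebraMap B B' b = _
    rw [map_one, one_mul]
  have hpow : ∀ t : A' ⊗[A] B, ∃ n b, ι b = t ^ p ^ n := fun t => by
    induction t using TensorProduct.induction_on with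
    | zero => exact ⟨0, 0, by simp⟩
    | tmul a b =>
      obtain ⟨n, a₀, ha⟩ := IsPRadical.pow_mem (algebraMap A A') p a
      refine ⟨n, algebraMap A B a₀ * b ^ p ^ n, ?_⟩
      rw [Algebra.TensorProduct.tmul_pow, ← ha, ← Algebra.smul_def]
      change (1 : A') ⊗ₜ[A] (a₀ • b ^ p ^ n) = _
      rw [TensorProduct.tmul_smul, TensorProduct.smul_tmul', ← Algebra.algebraMap_eq_smul_one]
    | add t s ht hs =>
      obtain ⟨n, b, hb⟩ := ht
      obtain ⟨m, c, hc⟩ := hs
      refine ⟨n + m, b ^ p ^ m + c ^ p ^ n, ?_⟩
      rw [map_add, map_pow, map_pow, hb, hc, ← pow_mul, ← pow_mul, add_pow_char_pow, ← pow_add, ← pow_add, add_comm m n]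
  refine ⟨(injective_iff_map_eq_zero L).mpr fun t ht => ?_, fun y => ?_⟩
  · obtain ⟨n, b, hb⟩ := hpow t
    have hb0 : b ∈ RingHom.ker (algebraMap B B') := by
      rw [RingHom.mem_ker, ← hι, hb, map_pow, ht, zero_pow (pow_ne_zero _ (Fact.out : p.Prime).pos.ne')]
    obtain ⟨m, hm⟩ := mem_pNilradical.mp (IsPRadical.ker_le (algebraMap B B') p hb0)
    refine (bijective_iterateFrobenius (A' ⊗[A] B) p (n + m)).1 ?_
    rw [iterateFrobenius_def, map_zero, pow_add, pow_mul, ← hb, ← map_pow, hm, map_zero]
  · obtain ⟨n, b, hb⟩ := IsPRadical.pow_mem (algebraMap B B') p y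
    obtain ⟨t, ht⟩ := (bijective_iterateFrobenius (A' ⊗[A] B) p n).2 (ι b)
    refine ⟨t, (bijective_iterateFrobenius B' p n).1 ?_⟩
    rw [iterateFrobenius_def, iterateFrobenius_def, ← map_pow, ← hb, ← hι]
    exact congrArg L ht

end Groth.Agent.S14257
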