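import Groth.Statements.S14258
import Groth.Agent.RzLib.Square

set_option autoImplicit false
universe u
open HTop

namespace Groth.Agent.S14258

open CategoryTheory CategoryTheory.Limits AlgebraicGeometry Opposite in
/-- Let S be a scheme and F a sheaf of sets on the big h site of S. Let Y be an affine scheme over S, f
: X ⟶ Y a proper surjective morphism of finite presentation over S which is an isomorphism over the
open complement U of a closed subscheme i : Z ⟶ Y of finite presentation, and E = X ×_Y Z with its
projections e : E ⟶ X and π : E ⟶ Z. Then the square of sets of sections F(Y) → F(X), F(Z) → F(E) is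
cartesian: a section over Z and a section over X with the same restriction to E come from exactly
one section over Y. (The published statement is for quasi-compact quasi-separated schemes of finite
presentation over a quasi-compact quasi-separated S and sheaves on those; this row works on all
S-schemes; with Y affine and f proper the four schemes are quasi-compact and quasi-separated.) -/
theorem result (S : Scheme.{u}) (F : HTop.ShH S)
    {E Z X Y : Over S} (e : E ⟶ X) (π : E ⟶ Z) (f : X ⟶ Y) (i : Z ⟶ Y) [IsAffine Y.left]
    [IsProper f.left] [Surjective f.left] [LocallyOfFinitePresentation f.left]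
    [IsClosedImmersion i.left] [LocallyOfFinitePresentation i.left]
    (hsq : IsPullback e.left π.left f.left i.left)
    (U : Y.left.Opens) (hU : (U : Set Y.left) = (Set.range i.left.base)ᶜ) (hiso : IsIso (f.left ∣_ U))
    (t : F.obj.obj (op Z)) (s' : F.obj.obj (op X)) (hts : F.obj.map π.op t = F.obj.map e.op s') :
    ∃! s : F.obj.obj (op Y), F.obj.map i.op s = t ∧ F.obj.map f.op s = s' := by
  refine RzLib.OSh.existsUnique_square (RzLib.OSh.pairSheaf_h ((isSheaf_iff_isSheaf_of_type _ _).1 F.property))
    e π f i hsq (show LocallyOfFinitePresentation i.left from inferInstance)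
    (show LocallyOfFinitePresentation f.left from inferInstance) (fun _ _ _ _ hl => hl) (fun W p q hpq hav => ?_)
    (fun x => Or.inr (f.left.surjective x)) t s' hts
  haveI := hiso
  have hq : ∀ w, f.left (q w) ∉ Set.range i.left := fun w => by
    rw [← Scheme.Hom.comp_apply, ← hpq, Scheme.Hom.comp_apply]; exact hav w
  have hmem : ∀ (r : W ⟶ X.left), (∀ w, f.left (r w) ∉ Set.range i.left) → Set.range r ⊆ Set.range (f.left ⁻¹ᵁ U).ι := by
    rintro r hr _ ⟨w, rfl⟩
    rw [Scheme.Opens.range_ι]
    show f.left (r w) ∈ (U : Set Y.left)
    rw [hU]
    exact hr w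
  have e1 := IsOpenImmersion.lift_fac (f.left ⁻¹ᵁ U).ι p (hmem p hav)
  have e2 := IsOpenImmersion.lift_fac (f.left ⁻¹ᵁ U).ι q (hmem q hq)
  have key : IsOpenImmersion.lift (f.left ⁻¹ᵁ U).ι p (hmem p hav) = IsOpenImmersion.lift (f.left ⁻¹ᵁ U).ι q (hmem q hq) := by
    rw [← cancel_mono (f.left ∣_ U), ← cancel_mono U.ι, Category.assoc, Category.assoc, morphismRestrict_ι,
      ← Category.assoc, ← Category.assoc, e1, e2, hpq]
  rw [← e1, ← e2, key]

end Groth.Agent.S14258
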