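import Groth.Statements.S14262
import Mathlib


-- import your own Groth.Agent.* helpers here

set_option autoImplicit false
universe u
open FrobAlg

namespace Groth.Agent.S14262

/-- Let p be a prime, A a perfect ring of characteristic p and f ∈ A. The radical of the principal ideal
(f) — equivalently the ideal generated by all p^n-th roots of f, n ≥ 0 — is a flat A-module. -/
theorem result (p : ℕ) [Fact p.Prime] (A : Type u) [CommRing A]
    [CharP A p] [PerfectRing A p] (f : A) :
    Module.Flat A ((Ideal.span {f}).radical) := by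
  classical
  rw [Module.Flat.iff_rTensor_injective']
  intro J
  rw [injective_iff_map_eq_zero]
  intro x hx
  haveI : IsReduced A := by
    refine ⟨fun z ⟨m, hm⟩ => ?_⟩
    have hz : z ^ p ^ m = 0 :=
      pow_eq_zero_of_le (Nat.lt_pow_self (Fact.out : p.Prime).one_lt).le hm
    apply (iterateFrobeniusEquiv A p m).injective
    rw [iterateFrobeniusEquiv_def, hz, map_zero]
  have hp := (Fact.out : p.Prime)
  set e : ℕ → A := fun n => (iterateFrobeniusEquiv A p n).symm f with he
  have hpow : ∀ n, e n ^ p ^ n = f := fun n => by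
    rw [he, ← iterateFrobeniusEquiv_def A p n]
    exact RingEquiv.apply_symm_apply _ _
  have hmem : ∀ n, e n ∈ (Ideal.span {f}).radical := fun n =>
    ⟨p ^ n, by rw [hpow]; exact Ideal.mem_span_singleton_self f⟩
  have hinj : ∀ n, Function.Injective (fun z : A => z ^ p ^ n) := fun n a b h => by
    have := (iterateFrobeniusEquiv A p n).injective (a₁ := a) (a₂ := b)
    rw [iterateFrobeniusEquiv_def, iterateFrobeniusEquiv_def] at this
    exact this h
  have hstep : ∀ n, e (n + 1) ^ p = e n := fun n => by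
    apply hinj n
    simp only [← pow_mul]
    rw [hpow n, ← pow_succ', hpow (n + 1)]
  have hdiv : ∀ a ∈ (Ideal.span {f}).radical, ∃ N, ∀ n, N ≤ n → e n ∣ a := by
    rintro a ⟨m, hm⟩
    refine ⟨m, fun n hn => ?_⟩
    obtain ⟨c, hc⟩ := Ideal.mem_span_singleton.1
      ((Ideal.span {f}).pow_mem_of_pow_mem hm
        (show m ≤ p ^ n from le_trans hn (Nat.lt_pow_self hp.one_lt).le))
    refine ⟨(iterateFrobeniusEquiv A p n).symm c, ?_⟩
    rw [he, ← map_mul, ← hc, ← iterateFrobeniusEquiv_def A p n, RingEquiv.symm_apply_apply]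
  have key : ∃ N, ∀ n, N ≤ n → ∃ y : J, x = y ⊗ₜ[A] (⟨e n, hmem n⟩ : (Ideal.span {f}).radical) := by
    clear hx
    induction x using TensorProduct.induction_on with
    | zero => exact ⟨0, fun n _ => ⟨0, by rw [TensorProduct.zero_tmul]⟩⟩
    | tmul j a =>
      obtain ⟨N, hN⟩ := hdiv a a.2
      refine ⟨N, fun n hn => ?_⟩
      obtain ⟨b, hb⟩ := hN n hn
      refine ⟨b • j, ?_⟩
      rw [TensorProduct.smul_tmul]
      congr 1
      ext
      simp [hb, mul_comm]
    | add u v hu hv =>
      obtain ⟨N, hN⟩ := hu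
      obtain ⟨M, hM⟩ := hv
      refine ⟨max N M, fun n hn => ?_⟩
      obtain ⟨y, hy⟩ := hN n (le_trans (le_max_left _ _) hn)
      obtain ⟨z, hz⟩ := hM n (le_trans (le_max_right _ _) hn)
      exact ⟨y + z, by rw [hy, hz, TensorProduct.add_tmul]⟩
  obtain ⟨N, hN⟩ := key
  obtain ⟨y, rfl⟩ := hN N le_rfl
  have h0 : (y : A) * e N = 0 := by
    have := congrArg (fun z => ((TensorProduct.lid A _ z : (Ideal.span {f}).radical) : A)) hx
    simpa using this
  have h1 : (y : A) * e (N + 1) ^ (p - 1) = 0 := by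
    apply IsReduced.eq_zero
    refine ⟨p, ?_⟩
    have h2 : 2 ≤ p := hp.two_le
    rw [mul_pow, ← pow_mul, mul_comm (p - 1), pow_mul, hstep]
    rw [show p = (p - 2) + 1 + 1 by omega, pow_succ, show p - 2 + 1 + 1 - 1 = p - 2 + 1 by omega,
      pow_succ (e N), mul_mul_mul_comm, h0, mul_zero]
  have h3 : (⟨e N, hmem N⟩ : (Ideal.span {f}).radical)
      = (e (N + 1) ^ (p - 1)) • ⟨e (N + 1), hmem (N + 1)⟩ := by
    ext
    rw [SetLike.val_smul, smul_eq_mul, ← pow_succ, Nat.sub_add_cancel hp.one_le, hstep]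
  rw [h3, ← TensorProduct.smul_tmul]
  have h4 : (e (N + 1) ^ (p - 1)) • y = 0 := by
    ext
    rw [SetLike.val_smul, smul_eq_mul, mul_comm, h1]
    rfl
  rw [h4, TensorProduct.zero_tmul]

end Groth.Agent.S14262
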