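import Groth.Statements.S1427
import Groth.Agent.WeightLib.Stratum

set_option autoImplicit false
universe u
open FlatMor

namespace Groth.Agent.S1427

open AlgebraicGeometry CategoryTheory Limits in
/-- Let f : X → Y be locally quasi-finite with X quasi-compact and w a weighting of f. Then the fibre
integral of w along f is bounded above and, if Y is nonempty, attains its maximum. -/
theorem result {X Y : Scheme.{u}} (f : X ⟶ Y) [LocallyQuasiFinite f] [LocallyOfFiniteType f] [CompactSpace ↑X] (w : ↑X → ℤ) (hw : MoreMor.IsWeighting f w) [Nonempty ↑Y] :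
    ∃ y₀ : Y, ∀ y : Y, MoreMor.fibreIntegral f w y ≤ MoreMor.fibreIntegral f w y₀ := by
  classical
  obtain ⟨d, hd⟩ := WeightLib.exists_gpts_bound f
  -- the weighting takes finitely many values
  have hloc : ∀ x : X, ∃ U : X.Opens, x ∈ U ∧ (Set.range fun u : U.toScheme => w (U.ι u)).Finite := by
    intro x
    obtain ⟨_, ⟨V₀, hV, rfl⟩, hxV, -⟩ := Y.isBasis_affineOpens.exists_subset_of_mem_open
      (Set.mem_univ (f x)) isOpen_univ
    obtain ⟨_, ⟨U₀, hU, rfl⟩, hxU, hUV⟩ :=
      X.isBasis_affineOpens.exists_subset_of_mem_open (show x ∈ f ⁻¹ᵁ V₀ from hxV) (f ⁻¹ᵁ V₀).2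
    let U : X.Opens := U₀
    let V : Y.Opens := V₀
    haveI : IsAffine U.toScheme := hU
    haveI : IsAffine V.toScheme := hV
    have hw' := WeightLib.isWeighting_of_open hw U.ι V.ι (f.resLE V U hUV)
      (Scheme.Hom.resLE_comp_ι ..).symm
    exact ⟨U, hxU, (WeightLib.finite_range_of_forall (fun u : U.toScheme => w (U.ι u))
      (WeightLib.exists_constructible_weight_eq hw')).1⟩
  choose U hxU hUfin using hloc
  obtain ⟨t, ht⟩ := isCompact_univ.elim_finite_subcover (fun x => (U x : Set X))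
    (fun x => (U x).isOpen) fun x _ => Set.mem_iUnion.mpr ⟨x, hxU x⟩
  have hwfin : (Set.range w).Finite := by
    refine ((Set.Finite.biUnion t.finite_toSet fun x _ => hUfin x)).subset ?_
    rintro _ ⟨x, rfl⟩
    obtain ⟨i, hi, hxi⟩ := Set.mem_iUnion₂.mp (ht (Set.mem_univ x))
    exact Set.mem_iUnion₂.mpr ⟨i, hi, ⟨x, hxi⟩, rfl⟩
  obtain ⟨M, hM⟩ := hwfin.bddAbove
  have hbd : ∀ y, MoreMor.fibreIntegral f w y ≤ d * max M 0 := by
    intro y
    obtain ⟨hfin, hle⟩ := hd _ (WeightLib.gpt y)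
    haveI := hfin
    letI := Fintype.ofFinite (WeightLib.GPts f (WeightLib.gpt y))
    rw [WeightLib.fibreIntegral_eq f w y (WeightLib.finite_fibre_of_compactSpace f y) _
      (WeightLib.img_gpt y), finsum_eq_sum_of_fintype]
    refine (Finset.sum_le_card_nsmul _ _ (max M 0) fun p _ =>
      (hM ⟨_, rfl⟩).trans (le_max_left _ _)).trans ?_
    rw [nsmul_eq_mul, Finset.card_univ, ← Nat.card_eq_fintype_card]
    exact mul_le_mul_of_nonneg_right (by exact_mod_cast hle) (le_max_right _ _)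
  obtain ⟨m, ⟨y₀, rfl⟩, hm⟩ := Int.exists_greatest_of_bdd
    (P := fun z => ∃ y, MoreMor.fibreIntegral f w y = z)
    ⟨d * max M 0, by rintro _ ⟨y, rfl⟩; exact hbd y⟩
    ⟨_, Classical.arbitrary Y, rfl⟩
  exact ⟨y₀, fun y => hm _ ⟨y, rfl⟩⟩

end Groth.Agent.S1427
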