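import Groth.Statements.S14270
import Groth.Agent.S14269
import Groth.Agent.VDimLib.Purity

set_option autoImplicit false
set_option backward.isDefEq.respectTransparency false
set_option backward.isDefEq.respectTransparency.types false
set_option maxRecDepth 8000
set_option maxHeartbeats 1000000
universe u
open Pi1

namespace Groth.Agent.S14270

open AlgebraicGeometry CategoryTheory CategoryTheory.Limits in
/-- Let A be a Noetherian local ring of virtual dimension at least 3, expressed through a presentation
of the adic completion of A as a quotient S/I of a complete regular local ring S of Krull dimension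
d by an ideal I generated by a finite set of at most d - 3 elements. Then restriction from finite
etale covers of Spec A to finite etale covers of the punctured spectrum is an equivalence of
categories (Zariski-Nagata purity for rings of virtual dimension at least 3). (The published
statement also records the isomorphism of etale fundamental groups, which is the usual reformulation
of the equivalence and is not restated here.) -/
theorem result (A : Type u) [CommRing A] [IsNoetherianRing A] [IsLocalRing A]
    (S : Type u) [CommRing S] [IsRegularLocalRing S] [IsAdicComplete (IsLocalRing.maximalIdeal S) S]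
    (d : ℕ) (hd : ringKrullDim S = d) (s : Finset S) (hs : s.card + 3 ≤ d)
    (e : AdicCompletion (IsLocalRing.maximalIdeal A) A ≃+* S ⧸ Ideal.span (s : Set S)) :
    (FEt.restrict (FEt.puncturedSpec A).ι).IsEquivalence := by
  obtain ⟨⟨hfull, hfaith⟩, -⟩ := Groth.Agent.S14269.result A S d hd s (by omega) e
  haveI := CIRingLib.isNoetherianRing_cpl A
  have hlist : Ideal.ofList s.toList = Ideal.span (s : Set S) := by
    rw [Ideal.ofList]; exact congrArg Ideal.span (by ext; simp)
  let e' : AdicCompletion (IsLocalRing.maximalIdeal A) A ≃+* S ⧸ Ideal.ofList s.toList :=
    e.trans (Ideal.quotEquivOfEq hlist.symm)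
  haveI : IsLocalRing (S ⧸ Ideal.ofList s.toList) := e'.isLocalRing
  have hne : Ideal.ofList s.toList ≠ ⊤ := Ideal.Quotient.nontrivial_iff.1 inferInstance
  haveI : (FEt.restrict (FEt.puncturedSpec A).ι).EssSurj :=
    PurityCILib.purityHolds_descend A (PurityGlueLib.purityHolds_of_ringEquiv e'.symm
      (VDimLib.purityHolds_vdim s.toList.length S d hd s.toList rfl
        (fun x hx => IsLocalRing.le_maximalIdeal hne (Ideal.subset_span hx))
        (by rw [Finset.length_toList]; omega)))
  exact { faithful := hfaith, full := hfull, essSurj := inferInstance }

end Groth.Agent.S14270
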