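import Groth.Statements.S14271


set_option autoImplicit false
universe u
open FlatPur

namespace Groth.Agent.S14271

open AlgebraicGeometry CategoryTheory in
theorem app_eq_zero {A B C : Scheme.{u}} {l : A ⟶ B} {e : B ⟶ C} {g : A ⟶ C} (h : l ≫ e = g) (V : C.Opens)
    (s : Γ(C, V)) (hs : e.app V s = 0) : g.app V s = 0 := by
  subst h
  change l.app (e ⁻¹ᵁ V) (e.app V s) = 0
  rw [hs, map_zero]

open AlgebraicGeometry CategoryTheory in
theorem germ_eq_zero_of_ι {X : Scheme.{u}} (U : X.Opens) (V : X.Opens) (s : Γ(X, V)) (hs : U.ι.app V s = 0)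
    (x : X) (hxU : x ∈ U) (hx : x ∈ V) : X.presheaf.germ V x hx s = 0 := by
  refine (ConcreteCategory.bijective_of_isIso (U.ι.stalkMap ⟨x, hxU⟩)).injective ?_
  refine (Scheme.Hom.germ_stalkMap_apply U.ι V ⟨x, hxU⟩ hx s).trans ?_
  rw [hs, map_zero]
  exact (map_zero (U.ι.stalkMap ⟨x, hxU⟩).hom).symm

open AlgebraicGeometry CategoryTheory in
theorem eq_zero_of_vanish {X : Scheme.{u}} (U : X.Opens)
    (hZ : ∀ z : X, z ∉ U → ∃ a ∈ IsLocalRing.maximalIdeal (X.presheaf.stalk z), IsSMulRegular (X.presheaf.stalk z) a)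
    {V : X.Opens} (hV : IsAffineOpen V) (s : Γ(X, V))
    (hs : ∀ (x : X) (hx : x ∈ V), x ∈ U → X.presheaf.germ V x hx s = 0) : s = 0 := by
  by_contra hs0
  let J : Ideal Γ(X, V) := (Ideal.span {s}).annihilator
  have hmem : ∀ c : Γ(X, V), c ∈ J ↔ c * s = 0 := fun c => by
    simp [J, Submodule.mem_annihilator_span_singleton]
  have hJ : J ≠ ⊤ := fun h => hs0 (by simpa using (hmem 1).mp (by rw [h]; trivial))
  obtain ⟨m, hm, hJm⟩ := Ideal.exists_le_maximal J hJ
  have := hm.isPrime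
  obtain ⟨p, hp, -⟩ := Ideal.exists_minimalPrimes_le hJm
  have := hp.1.1
  let z : X := hV.fromSpec ⟨p, hp.1.1⟩
  have hzV : z ∈ V := hV.range_fromSpec.le (Set.mem_range_self _)
  let := TopCat.Presheaf.algebra_section_stalk X.presheaf (⟨z, hzV⟩ : V)
  have hloc0 := hV.isLocalization_stalk ⟨z, hzV⟩
  have hq : hV.primeIdealOf ⟨z, hzV⟩ = ⟨p, hp.1.1⟩ :=
    hV.fromSpec.isOpenEmbedding.injective (hV.fromSpec_primeIdealOf _)
  have hloc : IsLocalization.AtPrime (X.presheaf.stalk z) p := by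
    simp only [hq] at hloc0
    exact hloc0
  have hne : X.presheaf.germ V z hzV s ≠ 0 := by
    intro h0
    obtain ⟨⟨c, hc⟩, hcs⟩ := (IsLocalization.map_eq_zero_iff p.primeCompl (X.presheaf.stalk z) s).mp h0
    exact hc (hp.1.2 ((hmem c).mpr hcs))
  have hzU : z ∉ U := fun h => hne (hs z hzV h)
  obtain ⟨a, ham, hreg⟩ := hZ z hzU
  rw [← IsLocalization.AtPrime.map_eq_maximalIdeal p (X.presheaf.stalk z),
    ← IsLocalization.AtPrime.radical_map_of_mem_minimalPrimes (X.presheaf.stalk z) p J hp] at ham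
  obtain ⟨n, hn⟩ := ham
  refine hne ((hreg.pow n) ?_)
  simp only [smul_eq_mul, mul_zero]
  refine Submodule.span_induction (p := fun y _ => y * X.presheaf.germ V z hzV s = 0) ?_ ?_ ?_ ?_ hn
  · rintro _ ⟨c, hc, rfl⟩
    refine (map_mul (X.presheaf.germ V z hzV).hom c s).symm.trans ?_
    rw [(hmem c).mp hc, map_zero]
  · simp
  · intro x y _ _ hx hy
    rw [add_mul, hx, hy, add_zero]
  · intro c x _ hx
    rw [smul_eq_mul, mul_assoc, hx, mul_zero]


open AlgebraicGeometry CategoryTheory CategoryTheory.Limits in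
/-- Let X be a scheme and U an open subscheme whose inclusion is quasi-compact, such that for every
point z of X outside U the maximal ideal of O_{X,z} contains an element that is regular (a
nonzerodivisor) on that local ring. Then for every separated X-scheme Y the restriction map from
X-sections of Y to U-sections of Y is injective: two sections of Y -> X that agree on U are equal. -/
theorem result (X : Scheme.{u}) (U : X.Opens) [QuasiCompact U.ι]
    (hZ : ∀ z : X, z ∉ U → ∃ a ∈ IsLocalRing.maximalIdeal (X.presheaf.stalk z), IsSMulRegular (X.presheaf.stalk z) a)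
    (Y : Scheme.{u}) (f : Y ⟶ X) [IsSeparated f] (s₁ s₂ : X ⟶ Y) (h₁ : s₁ ≫ f = 𝟙 X) (h₂ : s₂ ≫ f = 𝟙 X)
    (hU : U.ι ≫ s₁ = U.ι ≫ s₂) : s₁ = s₂ := by
  let X' : CategoryTheory.Over X := CategoryTheory.Over.mk (𝟙 X)
  let Y' : CategoryTheory.Over X := CategoryTheory.Over.mk f
  let g₁ : X' ⟶ Y' := CategoryTheory.Over.homMk s₁ h₁
  let g₂ : X' ⟶ Y' := CategoryTheory.Over.homMk s₂ h₂
  have : IsSeparated Y'.hom := ‹_›
  let e := (CategoryTheory.Limits.equalizer.ι g₁ g₂).left
  have : IsClosedImmersion e := inferInstance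
  obtain ⟨l, hl⟩ : ∃ l : (U : Scheme.{u}) ⟶ _, l ≫ e = U.ι := by
    let U' : CategoryTheory.Over X := CategoryTheory.Over.mk U.ι
    let j : U' ⟶ X' := CategoryTheory.Over.homMk U.ι (by simp [U', X'])
    have hj : j ≫ g₁ = j ≫ g₂ := by ext1; exact hU
    exact ⟨(CategoryTheory.Limits.equalizer.lift j hj).left,
      congr($(CategoryTheory.Limits.equalizer.lift_ι j hj).left)⟩
  have hker : e.ker = ⊥ := by
    refine Scheme.IdealSheafData.ext (funext fun V => le_antisymm (fun s hs => ?_) bot_le)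
    rw [Scheme.Hom.ker_apply, RingHom.mem_ker] at hs
    refine (eq_zero_of_vanish U hZ V.2 s fun x hx hxU => ?_)
    exact germ_eq_zero_of_ι U V.1 s (app_eq_zero hl V.1 s hs) x hxU hx
  have := IsClosedImmersion.isIso_iff_ker_eq_bot.mpr hker
  rw [← cancel_epi e]
  exact congr($(CategoryTheory.Limits.equalizer.condition g₁ g₂).left)
end Groth.Agent.S14271
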