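import Groth.Statements.S14272
import Groth.Agent.FlatPurLib.Ext
import Groth.Agent.S14271

set_option autoImplicit false
universe u
open FlatPur

namespace Groth.Agent.S14272

open AlgebraicGeometry CategoryTheory in
theorem quasiCompact_preimage_ι {A X : Scheme.{u}} (a : A ⟶ X) (U : X.Opens) [QuasiCompact U.ι] :
    QuasiCompact (a ⁻¹ᵁ U).ι :=
  MorphismProperty.of_isPullback (isPullback_morphismRestrict a U) ‹_›

open AlgebraicGeometry CategoryTheory in
theorem unique_over {A X Y : Scheme.{u}} (a : A ⟶ X) [IsOpenImmersion a] (U : X.Opens) [QuasiCompact U.ι]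
    (hZ : ∀ z : X, z ∉ U → ∃ c ∈ IsLocalRing.maximalIdeal (X.presheaf.stalk z), IsSMulRegular (X.presheaf.stalk z) c)
    (f : Y ⟶ X) [IsSeparated f] (m m' : A ⟶ Y) (hm : m ≫ f = a) (hm' : m' ≫ f = a)
    (h : (a ⁻¹ᵁ U).ι ≫ m = (a ⁻¹ᵁ U).ι ≫ m') : m = m' := by
  have := quasiCompact_preimage_ι a U
  have hZ' : ∀ z : A, z ∉ a ⁻¹ᵁ U → ∃ c ∈ IsLocalRing.maximalIdeal (A.presheaf.stalk z),
      IsSMulRegular (A.presheaf.stalk z) c := by
    intro z hz
    obtain ⟨c, hc, hreg⟩ := hZ (a z) hz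
    let e := (asIso (a.stalkMap z)).commRingCatIsoToRingEquiv
    refine ⟨e c, ?_, fun x y hxy => e.symm.injective (hreg ?_)⟩
    · rw [IsLocalRing.mem_maximalIdeal, mem_nonunits_iff]
      intro hu
      exact hc ((isUnit_map_iff e c).mp hu)
    · simp only [smul_eq_mul] at hxy ⊢
      have := congrArg e.symm hxy
      simpa using this
  have := Groth.Agent.S14271.result A (a ⁻¹ᵁ U) hZ' (Limits.pullback a f) (Limits.pullback.fst a f)
    (Limits.pullback.lift (𝟙 A) m (by rw [Category.id_comp, hm]))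
    (Limits.pullback.lift (𝟙 A) m' (by rw [Category.id_comp, hm']))
    (Limits.pullback.lift_fst _ _ _) (Limits.pullback.lift_fst _ _ _)
    (by
      apply Limits.pullback.hom_ext
      · rw [Category.assoc, Category.assoc, Limits.pullback.lift_fst, Limits.pullback.lift_fst]
      · rw [Category.assoc, Category.assoc, Limits.pullback.lift_snd, Limits.pullback.lift_snd]
        exact h)
  have := congrArg (· ≫ Limits.pullback.snd a f) this
  simp only [Limits.pullback.lift_snd] at this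
  exact this

open AlgebraicGeometry CategoryTheory in
theorem exists_ext_affine {W V Z : Scheme.{u}} [IsAffine Z] (j : W ⟶ V) [IsIso j.appTop] (t : W ⟶ Z) :
    ∃ s : V ⟶ Z, j ≫ s = t := by
  refine ⟨V.toSpecΓ ≫ Spec.map (t.appTop ≫ inv j.appTop) ≫ Z.isoSpec.inv, ?_⟩
  rw [Scheme.toSpecΓ_naturality_assoc, ← Category.assoc (Spec.map j.appTop), ← Spec.map_comp,
    Category.assoc, IsIso.inv_hom_id, Category.comp_id, ← Scheme.toSpecΓ_naturality_assoc]
  simp [Scheme.isoSpec]

open AlgebraicGeometry CategoryTheory in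
theorem hom_ext_affine {W V Z : Scheme.{u}} [IsAffine Z] (j : W ⟶ V) [IsIso j.appTop] (s s' : V ⟶ Z)
    (h : j ≫ s = j ≫ s') : s = s' := by
  apply ext_of_isAffine
  have := congrArg Scheme.Hom.appTop h
  simp only [Scheme.Hom.comp_appTop] at this
  exact (cancel_mono j.appTop).mp this

open AlgebraicGeometry CategoryTheory in
theorem exists_local {X Y : Scheme.{u}} (U : X.Opens) [QuasiCompact U.ι]
    (hZ : ∀ z : X, z ∉ U → ∃ a b : X.presheaf.stalk z, a ∈ IsLocalRing.maximalIdeal (X.presheaf.stalk z) ∧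
      b ∈ IsLocalRing.maximalIdeal (X.presheaf.stalk z) ∧ RingTheory.Sequence.IsWeaklyRegular (X.presheaf.stalk z) [a, b])
    (f : Y ⟶ X) [IsAffineHom f] (t : (U : Scheme.{u}) ⟶ Y) (ht : t ≫ f = U.ι)
    (V : X.Opens) (hV : IsAffineOpen V) :
    ∃ s : (V : Scheme.{u}) ⟶ Y, s ≫ f = V.ι ∧
      X.homOfLE (inf_le_right : U ⊓ V ≤ V) ≫ s = X.homOfLE (inf_le_left : U ⊓ V ≤ U) ≫ t := by
  let j := X.homOfLE (inf_le_right : U ⊓ V ≤ V)
  have hb : Function.Bijective (FlatPurLib.rho U V) :=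
    ⟨(injective_iff_map_eq_zero _).mpr (FlatPurLib.eq_zero_of_vanish U hV fun z hz =>
      let ⟨a, _, ha, _, hr⟩ := hZ z hz
      ⟨a, ha, (FlatPurLib.dvd_of_weaklyRegular hr).1⟩), FlatPurLib.rho_surjective U hV hZ⟩
  have key : ∀ {A B : X.Opens} (_ : A = U ⊓ V) (_ : B = V) (hle : A ≤ B),
      Function.Bijective (X.presheaf.map (homOfLE hle).op) := by
    rintro A B rfl rfl hle
    exact hb
  have : IsIso j.appTop := by
    rw [Scheme.homOfLE_appTop]
    exact (ConcreteCategory.isIso_iff_bijective _).mpr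
      (key (U ⊓ V).ι_image_top V.ι_image_top _)
  have : IsAffine (f ⁻¹ᵁ V : Scheme.{u}) := hV.preimage f
  have : IsAffine (V : Scheme.{u}) := hV
  let u := X.homOfLE (inf_le_left : U ⊓ V ≤ U) ≫ t
  have hu : Set.range u ⊆ Set.range (f ⁻¹ᵁ V).ι := by
    rintro _ ⟨x, rfl⟩
    rw [Scheme.Opens.range_ι]
    change f (u x) ∈ V
    have : u ≫ f = (U ⊓ V).ι := by rw [Category.assoc, ht, Scheme.homOfLE_ι]
    rw [← Scheme.Hom.comp_apply, this]
    exact x.2.2
  let t' := IsOpenImmersion.lift (f ⁻¹ᵁ V).ι u hu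
  obtain ⟨s, hs⟩ := exists_ext_affine j t'
  refine ⟨s ≫ (f ⁻¹ᵁ V).ι, ?_, ?_⟩
  · have h1 : s ≫ (f ∣_ V) = 𝟙 _ := by
      refine hom_ext_affine j _ _ ?_
      rw [← Category.assoc, hs, Category.comp_id, ← cancel_mono V.ι, Category.assoc, morphismRestrict_ι,
        ← Category.assoc, IsOpenImmersion.lift_fac, Category.assoc, ht, Scheme.homOfLE_ι, Scheme.homOfLE_ι]
    rw [Category.assoc, ← morphismRestrict_ι, ← Category.assoc, h1, Category.id_comp]
  · rw [← Category.assoc, hs, IsOpenImmersion.lift_fac]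


open AlgebraicGeometry CategoryTheory CategoryTheory.Limits in
/-- Let X be a scheme and U an open subscheme whose inclusion is quasi-compact, such that for every
point z of X outside U the maximal ideal of O_{X,z} contains two elements forming a weakly regular
sequence on that local ring. Then for every X-scheme Y that is affine and of finite presentation
over X, the restriction map from X-sections of Y to U-sections of Y is bijective: every morphism U
-> Y over X extends uniquely to a section X -> Y. -/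
theorem result (X : Scheme.{u}) (U : X.Opens) [QuasiCompact U.ι]
    (hZ : ∀ z : X, z ∉ U → ∃ a b : X.presheaf.stalk z, a ∈ IsLocalRing.maximalIdeal (X.presheaf.stalk z) ∧
      b ∈ IsLocalRing.maximalIdeal (X.presheaf.stalk z) ∧ RingTheory.Sequence.IsWeaklyRegular (X.presheaf.stalk z) [a, b])
    (Y : Scheme.{u}) (f : Y ⟶ X) [IsAffineHom f] [LocallyOfFinitePresentation f]
    (t : (U : Scheme.{u}) ⟶ Y) (ht : t ≫ f = U.ι) :
    ∃! s : X ⟶ Y, s ≫ f = 𝟙 X ∧ U.ι ≫ s = t := by
  have hZ1 : ∀ z : X, z ∉ U → ∃ a ∈ IsLocalRing.maximalIdeal (X.presheaf.stalk z),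
      IsSMulRegular (X.presheaf.stalk z) a := fun z hz =>
    let ⟨a, _, ha, _, hr⟩ := hZ z hz
    ⟨a, ha, (FlatPurLib.dvd_of_weaklyRegular hr).1⟩
  choose s hsf hsU using fun V : X.affineOpens => exists_local U hZ f t ht V.1 V.2
  let 𝒰 : X.OpenCover := X.openCoverOfIsOpenCover (fun V : X.affineOpens => (V : X.Opens)) (iSup_affineOpens_eq_top X)
  have agree : ∀ {A : Scheme.{u}} (V : X.affineOpens) (b : A ⟶ (V.1 : Scheme.{u})) (c : A ⟶ (U : Scheme.{u})),
      b ≫ V.1.ι = c ≫ U.ι → b ≫ s V = c ≫ t := by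
    intro A V b c hbc
    have hr : Set.range b ⊆ Set.range (X.homOfLE (inf_le_right : U ⊓ V.1 ≤ V.1)) := by
      rintro _ ⟨x, rfl⟩
      have h2 : (b x).1 = (c x).1 := congr($(hbc).base x)
      exact ⟨⟨(b x).1, h2 ▸ (c x).2, (b x).2⟩, Subtype.ext (Scheme.homOfLE_apply _ _)⟩
    let l := IsOpenImmersion.lift _ b hr
    rw [← IsOpenImmersion.lift_fac _ b hr, CategoryTheory.Category.assoc, hsU V, ← CategoryTheory.Category.assoc]
    congr 1
    rw [← CategoryTheory.cancel_mono U.ι, CategoryTheory.Category.assoc, Scheme.homOfLE_ι, ← hbc,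
      ← Scheme.homOfLE_ι X (inf_le_right : U ⊓ V.1 ≤ V.1), ← CategoryTheory.Category.assoc, IsOpenImmersion.lift_fac]
  have compat : ∀ V V' : X.affineOpens, CategoryTheory.Limits.pullback.fst V.1.ι V'.1.ι ≫ s V =
      CategoryTheory.Limits.pullback.snd V.1.ι V'.1.ι ≫ s V' := by
    intro V V'
    refine unique_over (CategoryTheory.Limits.pullback.fst V.1.ι V'.1.ι ≫ V.1.ι) U hZ1 f _ _
      (by rw [CategoryTheory.Category.assoc, hsf]) (by rw [CategoryTheory.Category.assoc, hsf, CategoryTheory.Limits.pullback.condition]) ?_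
    let a := CategoryTheory.Limits.pullback.fst V.1.ι V'.1.ι ≫ V.1.ι
    let c := a ∣_ U
    have hc : c ≫ U.ι = (a ⁻¹ᵁ U).ι ≫ a := morphismRestrict_ι a U
    rw [← CategoryTheory.Category.assoc, ← CategoryTheory.Category.assoc,
      agree V _ c (by rw [hc, CategoryTheory.Category.assoc]),
      agree V' _ c (by rw [hc, CategoryTheory.Category.assoc]; exact congrArg _ CategoryTheory.Limits.pullback.condition.symm)]
  refine ⟨𝒰.glueMorphisms s compat, ⟨?_, ?_⟩, ?_⟩
  · refine 𝒰.hom_ext _ _ fun (V : X.affineOpens) => ?_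
    refine (CategoryTheory.Category.assoc _ _ _).symm.trans ((congrArg (· ≫ f) (𝒰.ι_glueMorphisms s compat V)).trans ?_)
    exact (hsf V).trans (CategoryTheory.Category.comp_id _).symm
  · refine ((U : Scheme.{u}).openCoverOfIsOpenCover (fun V : X.affineOpens => U.ι ⁻¹ᵁ V.1) ?_).hom_ext _ _ fun V => ?_
    · change ⨆ V : X.affineOpens, U.ι ⁻¹ᵁ V.1 = ⊤
      rw [← Scheme.Hom.preimage_iSup, iSup_affineOpens_eq_top, Scheme.Hom.preimage_top]
    · revert V; intro (V : X.affineOpens)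
      change (U.ι ⁻¹ᵁ V.1).ι ≫ U.ι ≫ _ = (U.ι ⁻¹ᵁ V.1).ι ≫ t
      rw [← CategoryTheory.Category.assoc, ← morphismRestrict_ι U.ι V.1, CategoryTheory.Category.assoc]
      refine (congrArg ((U.ι ∣_ V.1) ≫ ·) (𝒰.ι_glueMorphisms s compat V)).trans ?_
      exact agree V _ _ (morphismRestrict_ι U.ι V.1)
  · rintro s' ⟨h1, h2⟩
    refine 𝒰.hom_ext _ _ fun (V : X.affineOpens) => ?_
    refine Eq.trans ?_ (𝒰.ι_glueMorphisms s compat V).symm
    change V.1.ι ≫ s' = s V
    refine unique_over V.1.ι U hZ1 f _ _ (by rw [CategoryTheory.Category.assoc, h1, CategoryTheory.Category.comp_id]) (hsf V) ?_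
    change (V.1.ι ⁻¹ᵁ U).ι ≫ V.1.ι ≫ s' = _
    rw [← CategoryTheory.Category.assoc, ← morphismRestrict_ι V.1.ι U, CategoryTheory.Category.assoc, h2]
    exact (agree V _ _ (morphismRestrict_ι V.1.ι U).symm).symm
end Groth.Agent.S14272
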