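import Groth.Statements.S14274
import Groth.Agent.TorsHartogsLib.Scheme
import Groth.Agent.TorsFpqcLib.Basic
import Groth.Agent.AlgSpLib.AffineFpqc
import Groth.Agent.AlgSpLib.Fpqc

set_option autoImplicit false
set_option backward.isDefEq.respectTransparency false
set_option linter.style.haveILetI false
universe u
open scoped CategoryTheory.Obj
open NonAbH1

namespace Groth.Agent.S14274

open AlgebraicGeometry CategoryTheory CategoryTheory.Limits MonoidalCategory in
/-- Let X be a scheme, G a finite locally free X-group scheme (finite, flat and locally of finite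
presentation over X, not necessarily commutative), and U an open subscheme of X whose inclusion is
quasi-compact, such that for every point z of X outside U the local ring of X at z is regular of
Krull dimension at least 2. Let Q₁ and Q₂ be fppf G-torsors over X. Then every U-morphism between
their base changes to U that is equivariant for the base-changed group is the base change of a
unique G-equivariant X-morphism Q₁ -> Q₂. (With the essential-surjectivity row this is the statement
that pullback is an equivalence from G-torsors over X to torsors over U under the base change of G.) -/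
theorem result {X : Scheme.{u}} (G : Over X) [GrpObj G]
    [IsFinite G.hom] [Flat G.hom] [LocallyOfFinitePresentation G.hom]
    (U : X.Opens) [QuasiCompact U.ι]
    (hZ : ∀ z : X, z ∉ U → IsRegularLocalRing (X.presheaf.stalk z) ∧ (2 : WithBot ℕ∞) ≤ ringKrullDim (X.presheaf.stalk z))
    (Q₁ Q₂ : Over X) (a₁ : AlgGrp.Action G Q₁) (a₂ : AlgGrp.Action G Q₂)
    (h₁ : NonAbH1.IsTorsorFor Scheme.fppfPrecoverage a₁) (h₂ : NonAbH1.IsTorsorFor Scheme.fppfPrecoverage a₂)
    (h' : (Over.pullback U.ι).obj Q₁ ⟶ (Over.pullback U.ι).obj Q₂)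
    (hh' : (Functor.LaxMonoidal.μ (Over.pullback U.ι) G Q₁ ≫ (Over.pullback U.ι).map a₁.act) ≫ h' =
      ((Over.pullback U.ι).obj G ◁ h') ≫ (Functor.LaxMonoidal.μ (Over.pullback U.ι) G Q₂ ≫ (Over.pullback U.ι).map a₂.act)) :
    ∃! h : Q₁ ⟶ Q₂, a₁.act ≫ h = (G ◁ h) ≫ a₂.act ∧ (Over.pullback U.ι).map h = h' := by
  have fpqc : ∀ {Q : Over X} (a : AlgGrp.Action G Q), NonAbH1.IsTorsorFor Scheme.fppfPrecoverage a →
      NonAbH1.IsTorsorFor Scheme.fpqcPrecoverage a := fun {Q} a h =>
    ⟨h.1, h.2.choose, Scheme.fppfPrecoverage_le_fpqcPrecoverage _ h.2.choose_spec.1, h.2.choose_spec.2⟩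
  haveI : IsFinite Q₁.hom := TorsFpqc.property_of_torsor @IsFinite a₁ (fpqc a₁ h₁) inferInstance
  haveI : Flat Q₁.hom := TorsFpqc.property_of_torsor @Flat a₁ (fpqc a₁ h₁) inferInstance
  haveI : LocallyOfFinitePresentation Q₁.hom :=
    TorsFpqc.property_of_torsor @LocallyOfFinitePresentation a₁ (fpqc a₁ h₁) inferInstance
  haveI : IsFinite Q₂.hom := TorsFpqc.property_of_torsor @IsFinite a₂ (fpqc a₂ h₂) inferInstance
  haveI : IsFinite (G ⊗ Q₁).hom :=
    MorphismProperty.comp_mem _ _ _ (MorphismProperty.pullback_fst G.hom Q₁.hom ‹IsFinite Q₁.hom›) ‹IsFinite G.hom›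
  haveI : Flat (G ⊗ Q₁).hom :=
    MorphismProperty.comp_mem _ _ _ (MorphismProperty.pullback_fst G.hom Q₁.hom ‹Flat Q₁.hom›) ‹Flat G.hom›
  haveI : LocallyOfFinitePresentation (G ⊗ Q₁).hom :=
    MorphismProperty.comp_mem _ _ _ (MorphismProperty.pullback_fst G.hom Q₁.hom ‹LocallyOfFinitePresentation Q₁.hom›)
      ‹LocallyOfFinitePresentation G.hom›
  -- morphisms out of finite locally free schemes are determined over `U`
  have key : ∀ {Q : Over X} [IsFinite Q.hom] [Flat Q.hom] [LocallyOfFinitePresentation Q.hom] (f g : Q ⟶ Q₂),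
      (Over.pullback U.ι).map f = (Over.pullback U.ι).map g → f = g := by
    intro Q _ _ _ f g h
    refine Over.OverMorphism.ext (TorsHartogs.hom_ext hZ Q.hom (Over.w f) (Over.w g) ?_)
    have e := congrArg (fun m => m.left ≫ Limits.pullback.fst Q₂.hom U.ι) h
    simp only [Over.pullback_map_left, Limits.pullback.lift_fst] at e
    rw [← pullbackRestrictIsoRestrict_inv_fst, Category.assoc, Category.assoc, e]
  -- existence
  let f' : (Q₁.hom ⁻¹ᵁ U : Scheme.{u}) ⟶ Q₂.left :=
    (pullbackRestrictIsoRestrict Q₁.hom U).inv ≫ h'.left ≫ Limits.pullback.fst Q₂.hom U.ι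
  have hf' : f' ≫ Q₂.hom = (Q₁.hom ⁻¹ᵁ U).ι ≫ Q₁.hom := by
    have hw : h'.left ≫ Limits.pullback.snd Q₂.hom U.ι = Limits.pullback.snd Q₁.hom U.ι := Over.w h'
    simp only [f', Category.assoc, Limits.pullback.condition]
    rw [reassoc_of% hw, ← Limits.pullback.condition, pullbackRestrictIsoRestrict_inv_fst_assoc]
  obtain ⟨f, hf, hfU⟩ := TorsHartogs.exists_extension hZ Q₁.hom f' hf'
  let h : Q₁ ⟶ Q₂ := Over.homMk f hf
  have hmap : (Over.pullback U.ι).map h = h' := by
    refine Over.OverMorphism.ext (Limits.pullback.hom_ext ?_ ?_)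
    · simp only [Over.pullback_map_left, Limits.pullback.lift_fst]
      show Limits.pullback.fst Q₁.hom U.ι ≫ f = h'.left ≫ Limits.pullback.fst Q₂.hom U.ι
      rw [← pullbackRestrictIsoRestrict_hom_ι Q₁.hom U, Category.assoc, hfU]
      simp [f']
    · simp only [Over.pullback_map_left, Limits.pullback.lift_snd]
      exact (Over.w h').symm
  refine ⟨h, ⟨key _ _ ?_, hmap⟩, fun g hg => key g h (hg.2.trans hmap.symm)⟩
  rw [Functor.map_comp, Functor.map_comp, ← cancel_epi (Functor.LaxMonoidal.μ (Over.pullback U.ι) G Q₁),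
    ← Category.assoc, ← Category.assoc (Functor.LaxMonoidal.μ (Over.pullback U.ι) G Q₁),
    ← Functor.LaxMonoidal.μ_natural_right, hmap, Category.assoc (_ ◁ h')]
  exact hh'

end Groth.Agent.S14274
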