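import Groth.Statements.S14275
import Groth.Agent.AdicExactLib.Basic
import Mathlib.RingTheory.Regular.RegularSequence
-- import your own Groth.Agent.* helpers here

set_option autoImplicit false
universe u
open CAlg

namespace Groth.Agent.S14275

section
open RingTheory.Sequence
variable {A : Type u} [CommRing A]

theorem map_eq_smul (J : Ideal A) {M : Type u} [AddCommGroup M] [Module A M] (x : A) (z : AdicCompletion J M) :
    AdicCompletion.map J (LinearMap.lsmul A M x) z = algebraMap A (AdicCompletion J A) x • z := by
  rw [algebraMap_smul]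
  ext n
  rw [AdicCompletion.map_val_apply, AdicCompletion.val_smul_apply]
  obtain ⟨m, hm⟩ := Submodule.Quotient.mk_surjective _ (z.val n)
  rw [← hm]
  rfl

theorem main (a : A) : ∀ rs : List A, IsWeaklyRegular A rs →
    (∀ i ≤ rs.length, ∃ N : ℕ, ∀ x : A ⧸ Ideal.ofList (rs.take i), (∃ m : ℕ, a ^ m • x = 0) → a ^ N • x = 0) →
    IsWeaklyRegular (AdicCompletion (Ideal.span {a}) A)
        (rs.map (algebraMap A (AdicCompletion (Ideal.span {a}) A))) ∧
      Function.Surjective (AdicCompletion.map (Ideal.span {a}) (Ideal.ofList rs).mkQ) ∧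
      LinearMap.ker (AdicCompletion.map (Ideal.span {a}) (Ideal.ofList rs).mkQ) =
        (Ideal.ofList rs).map (algebraMap A (AdicCompletion (Ideal.span {a}) A)) := by
  intro rs
  induction rs using List.reverseRecOn with
  | nil =>
    intro _ _
    refine ⟨IsWeaklyRegular.nil _ _, AdicCompletion.map_surjective _ (Submodule.mkQ_surjective _), ?_⟩
    rw [Ideal.ofList_nil]
    refine (LinearMap.ker_eq_bot.2 ?_).trans Ideal.map_bot.symm
    refine Groth.Agent.AdicExactLib.map_injective_of_shift _ _ 0 fun n m hm => ?_
    rw [add_zero] at hm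
    have h := Submodule.mem_map_of_mem (f := (Submodule.quotEquivOfEqBot (⊥ : Ideal A) rfl).toLinearMap) hm
    rw [Submodule.map_smul'', Submodule.map_top, LinearEquiv.range] at h
    exact h
  | append_singleton rs x ih =>
    intro hreg hbd
    rw [isWeaklyRegular_append_iff, isWeaklyRegular_singleton_iff] at hreg
    obtain ⟨hreg, hx⟩ := hreg
    have hx' : IsSMulRegular (A ⧸ Ideal.ofList rs) x :=
      ((Submodule.quotEquivOfEq _ _ (by rw [smul_eq_mul, Ideal.mul_top])).isSMulRegular_congr x).1 hx
    obtain ⟨h1, h2, h3⟩ := ih hreg fun i hi => by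
      obtain ⟨N, hN⟩ := hbd i (by rw [List.length_append]; omega)
      rw [List.take_append_of_le_length hi] at hN
      exact ⟨N, hN⟩
    obtain ⟨N, hN⟩ := hbd (rs ++ [x]).length le_rfl
    rw [List.take_length] at hN
    have hle : Ideal.ofList rs ≤ Ideal.ofList (rs ++ [x]) := by
      rw [Ideal.ofList_append]; exact le_sup_left
    let i : (A ⧸ Ideal.ofList rs) →ₗ[A] A ⧸ Ideal.ofList rs := LinearMap.lsmul A _ x
    let g : (A ⧸ Ideal.ofList rs) →ₗ[A] A ⧸ Ideal.ofList (rs ++ [x]) := Submodule.factor hle
    have hg : Function.Surjective g := Submodule.factor_surjective hle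
    have hex : Function.Exact i g := by
      intro z
      obtain ⟨z, rfl⟩ := Submodule.Quotient.mk_surjective _ z
      constructor
      · intro hz
        have hz' : z ∈ Ideal.ofList (rs ++ [x]) := (Submodule.Quotient.mk_eq_zero _).1 hz
        rw [Ideal.ofList_append, Ideal.ofList_singleton, Submodule.mem_sup] at hz'
        obtain ⟨u, hu, v, hv, rfl⟩ := hz'
        obtain ⟨w, rfl⟩ := Ideal.mem_span_singleton'.1 hv
        refine ⟨Submodule.Quotient.mk w, ?_⟩
        show x • (Submodule.Quotient.mk w : A ⧸ Ideal.ofList rs) = Submodule.Quotient.mk (u + w * x)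
        rw [← Submodule.Quotient.mk_smul, Submodule.Quotient.eq, smul_eq_mul]
        have : x * w - (u + w * x) = -u := by ring
        rw [this]
        exact Submodule.neg_mem _ hu
      · rintro ⟨w, hw⟩
        obtain ⟨w, rfl⟩ := Submodule.Quotient.mk_surjective _ w
        rw [← hw]
        show g (x • Submodule.Quotient.mk w) = 0
        rw [← Submodule.Quotient.mk_smul]
        exact (Submodule.Quotient.mk_eq_zero _).2 (by
          rw [Ideal.ofList_append, Ideal.ofList_singleton]
          exact Ideal.mem_sup_right (Ideal.mem_span_singleton'.2 ⟨w, mul_comm _ _⟩))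
    have hshift : ∀ n (m : A ⧸ Ideal.ofList rs), i m ∈ ((Ideal.span {a}) ^ (n + N) • ⊤ : Submodule A _) →
        m ∈ ((Ideal.span {a}) ^ n • ⊤ : Submodule A _) := by
      intro n m hm
      rw [Ideal.span_singleton_pow, Submodule.ideal_span_singleton_smul,
        Submodule.mem_smul_pointwise_iff_exists] at hm ⊢
      obtain ⟨y, -, hy⟩ := hm
      have h4 : a ^ N • g y = 0 := hN (g y) ⟨n + N, by
        rw [← map_smul, hy]
        exact hex.apply_apply_eq_zero m⟩
      rw [← map_smul] at h4
      obtain ⟨z, hz⟩ := (hex _).1 h4
      refine ⟨z, trivial, hx' ?_⟩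
      show x • a ^ n • z = x • m
      have hz' : x • z = a ^ N • y := hz
      have hy' : a ^ (n + N) • y = x • m := hy
      rw [smul_comm, hz', ← mul_smul, ← pow_add, hy']
    have hinj : Function.Injective (AdicCompletion.map (Ideal.span {a}) i) :=
      Groth.Agent.AdicExactLib.map_injective_of_shift _ i N hshift
    have hexc := Groth.Agent.AdicExactLib.map_exact_of_shift (Ideal.span {a}) i g hg hex N hshift
    let q := AdicCompletion.map (Ideal.span {a}) (Ideal.ofList rs).mkQ
    have hcomp : AdicCompletion.map (Ideal.span {a}) (Ideal.ofList (rs ++ [x])).mkQ =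
        (AdicCompletion.map (Ideal.span {a}) g) ∘ₗ q := by
      rw [AdicCompletion.map_comp]
      rfl
    refine ⟨?_, AdicCompletion.map_surjective _ (Submodule.mkQ_surjective _), ?_⟩
    · rw [List.map_append, List.map_singleton, isWeaklyRegular_append_iff, isWeaklyRegular_singleton_iff]
      refine ⟨h1, ?_⟩
      have hker : (Ideal.ofList (rs.map (algebraMap A (AdicCompletion (Ideal.span {a}) A))) •
          (⊤ : Submodule (AdicCompletion (Ideal.span {a}) A) (AdicCompletion (Ideal.span {a}) A))) = LinearMap.ker q := by
        rw [h3, Ideal.map_ofList, smul_eq_mul, Ideal.mul_top]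
      intro u v huv
      obtain ⟨u, rfl⟩ := Submodule.Quotient.mk_surjective _ u
      obtain ⟨v, rfl⟩ := Submodule.Quotient.mk_surjective _ v
      simp only [← Submodule.Quotient.mk_smul, Submodule.Quotient.eq] at huv
      rw [Submodule.Quotient.eq, hker]
      rw [hker, ← smul_sub] at huv
      have h4 : q (algebraMap A (AdicCompletion (Ideal.span {a}) A) x • (u - v)) = 0 := huv
      rw [map_smul, ← map_eq_smul] at h4
      exact (hinj (h4.trans (map_zero _).symm) : q (u - v) = 0)
    · rw [hcomp]
      ext z
      refine LinearMap.mem_ker.trans ((hexc (q z)).trans ?_)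
      rw [Ideal.ofList_append, Ideal.ofList_singleton, Ideal.map_sup,
        show (Ideal.span {x}).map (algebraMap A (AdicCompletion (Ideal.span {a}) A)) =
          Ideal.span {algebraMap A (AdicCompletion (Ideal.span {a}) A) x} by rw [Ideal.map_span, Set.image_singleton],
        Submodule.mem_sup]
      constructor
      · rintro ⟨w, hw⟩
        obtain ⟨w, rfl⟩ := h2 w
        rw [map_eq_smul, ← map_smul] at hw
        refine ⟨z - algebraMap A (AdicCompletion (Ideal.span {a}) A) x • w, h3 ▸ (LinearMap.mem_ker.2 ?_),
          algebraMap A (AdicCompletion (Ideal.span {a}) A) x • w, Ideal.mem_span_singleton'.2 ⟨w, mul_comm _ _⟩, sub_add_cancel _ _⟩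
        rw [map_sub, hw, sub_self]
      · rintro ⟨u, hu, v, hv, rfl⟩
        obtain ⟨w, rfl⟩ := Ideal.mem_span_singleton'.1 hv
        rw [← h3] at hu
        replace hu : q u = 0 := hu
        refine ⟨q w, ?_⟩
        rw [map_eq_smul, ← map_smul, map_add, hu, zero_add, smul_eq_mul, mul_comm]

end

open RingTheory.Sequence in
/-- Let A be a commutative ring, a an element of A with a-adic completion A^, and a_1, ..., a_n a weakly
regular sequence on A such that for each i = 0, ..., n the quotient A/(a_1, ..., a_i) has bounded
a-power torsion (some fixed power of a kills every element killed by a power of a). Then the images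
of a_1, ..., a_n form a weakly regular sequence on A^, and the canonical map from A^ to the a-adic
completion of A/(a_1, ..., a_n) is surjective with kernel the ideal generated by the images of a_1,
..., a_n. -/
theorem result (A : Type u) [CommRing A] (a : A) (rs : List A)
    (hreg : IsWeaklyRegular A rs)
    (hbd : ∀ i ≤ rs.length, ∃ N : ℕ, ∀ x : A ⧸ Ideal.ofList (rs.take i), (∃ m : ℕ, a ^ m • x = 0) → a ^ N • x = 0) :
    IsWeaklyRegular (AdicCompletion (Ideal.span {a}) A)
        (rs.map (algebraMap A (AdicCompletion (Ideal.span {a}) A))) ∧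
      Function.Surjective (AdicCompletion.map (Ideal.span {a}) (Ideal.ofList rs).mkQ) ∧
      LinearMap.ker (AdicCompletion.map (Ideal.span {a}) (Ideal.ofList rs).mkQ) =
        (Ideal.ofList rs).map (algebraMap A (AdicCompletion (Ideal.span {a}) A)) := by
  exact main a rs hreg hbd

end Groth.Agent.S14275
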