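import Groth.Statements.S14276
import Mathlib
import Groth.Agent.TorsFpqcLib.Basic
import Groth.Agent.EtSectLib.Main
-- import your own Groth.Agent.* helpers here

set_option autoImplicit false
set_option backward.isDefEq.respectTransparency false
universe u
open CategoryTheory AlgebraicGeometry
open NonAbH1

namespace Groth.Agent.S14276

/-- A locally trivial scheme surjects to the base. -/
theorem surjective_of_trivial {S : Scheme.{u}} {X : Over S}
    (h : NonAbH1.IsLocallyTrivialFor Scheme.fpqcPrecoverage X) : Surjective X.hom := by
  refine ⟨fun s => ?_⟩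
  obtain ⟨U, hU, hsU, -⟩ := exists_isAffineOpen_mem_and_subset (X := S) (x := s) (U := ⊤) trivial
  obtain ⟨W, c, -, hcs, -, ⟨p⟩⟩ := Groth.Agent.TorsFpqc.exists_local_section h hU
  obtain ⟨w, hw⟩ := hcs.surj ⟨s, hsU⟩
  refine ⟨p.left w, ?_⟩
  rw [← Scheme.Hom.comp_apply, Over.w p]
  show U.ι (c w) = s
  rw [hw]
  rfl

/-- Let X be a scheme and G a group scheme over X which is smooth over X. Then every G-torsor for the
fppf topology is locally trivial for the étale topology on X. Here a torsor is an X-scheme with an
action of G which is a pseudo-torsor and acquires sections on the members of some fppf covering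
family of X, and the conclusion says that it acquires sections on the members of some étale covering
family of X. (The published statement is about torsors in the sense of fppf sheaves; this row states
it for torsors that are schemes.) -/
theorem result {X : Scheme.{u}}
    (G : Over X) [GrpObj G] [Smooth G.hom] (P : Over X) (a : AlgGrp.Action G P)
    (h : NonAbH1.IsTorsorFor Scheme.fppfPrecoverage a) :
    NonAbH1.IsLocallyTrivialFor Scheme.etalePrecoverage P := by
  obtain ⟨hp, R, hR, hsec⟩ := h
  have h' : NonAbH1.IsTorsorFor Scheme.fpqcPrecoverage a :=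
    ⟨hp, R, Scheme.fppfPrecoverage_le_fpqcPrecoverage _ hR, hsec⟩
  haveI : Smooth P.hom := Groth.Agent.TorsFpqc.property_of_torsor @Smooth a h' ‹_›
  haveI := surjective_of_trivial h'.2
  choose X' g x' hg hgx t ht using fun s : X => EtSectLib.exists_section P.hom s (Set.range_eq_univ.2 P.hom.surjective ▸ Set.mem_univ s)
  refine ⟨Presieve.ofArrows X' g, (Scheme.ofArrows_mem_precoverage_iff _).mpr
    ⟨fun s => ⟨s, x' s, hgx s⟩, hg⟩, ?_⟩
  rintro S' f ⟨s⟩
  exact ⟨t s, ht s⟩

end Groth.Agent.S14276
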