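import Groth.Statements.S14277
import Groth.Agent.StackCountLib.BGFinite
import Groth.Agent.StackCountLib.EtaleTorsor
import Groth.Agent.StackCountLib.H1Sch

set_option linter.all false
set_option backward.isDefEq.respectTransparency false
set_option backward.isDefEq.respectTransparency.types false

set_option autoImplicit false
universe u
open CategoryTheory AlgebraicGeometry
open NonAbH1

namespace Groth.Agent.S14277

/-- Let k be a finite field and G a group scheme finite and étale over Spec k. Then the set of
isomorphism classes of G-torsors over Spec k is finite, and the sum over these classes ξ of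
1/#Aut(ξ) equals 1, where Aut(ξ) is the (finite) group of G-equivariant automorphisms over k of a
torsor in the class ξ. A torsor is a k-scheme with an action of G which is a pseudo-torsor and
acquires sections on the members of some fppf covering family of Spec k; for such G these are the
nonempty finite étale pseudo-torsors, and the étale topology gives the same classes. The term of a
class whose automorphism group were infinite would count as 0 by the convention Nat.card = 0. -/
theorem result
    (k : Type u) [Field k] [Finite k]
    (G : Over (Spec (CommRingCat.of k))) [GrpObj G] [IsFinite G.hom] [Etale G.hom] :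
    Finite (NonAbH1.H1Sch G Scheme.fppfPrecoverage) ∧
      ∑ᶠ ξ : NonAbH1.H1Sch G Scheme.fppfPrecoverage,
        ((Nat.card (NonAbH1.EquivIso (Quot.out ξ).act (Quot.out ξ).act) : ℚ))⁻¹ = 1 := by
  obtain ⟨h₁, h₂, h₃⟩ := StackCountLib.mass_BG G (K' := Scheme.fppfPrecoverage)
    StackCountLib.etalePrecoverage_le_fppf le_rfl
  let f : NonAbH1.H1Sch G Scheme.fppfPrecoverage → Quotient (isIsomorphicSetoid
      (StackCountLib.Fib (AlgSt.trivAction G) Scheme.fppfPrecoverage (MonoidalCategoryStruct.tensorUnit (Over (Spec (CommRingCat.of k)))))) :=
    Quot.lift (fun P => Quotient.mk _ (StackCountLib.ofTorsor G _ P)) fun P Q ⟨e⟩ =>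
      Quotient.sound ⟨(StackCountLib.isoEquiv P Q).symm e⟩
  have hf : Function.Bijective f := by
    refine ⟨?_, ?_⟩
    · rintro ⟨P⟩ ⟨Q⟩ h
      exact Quot.sound ⟨StackCountLib.isoEquiv P Q (Quotient.exact h).some⟩
    · intro c
      induction c using Quotient.ind with
      | _ ξ =>
        obtain ⟨P, ⟨e⟩⟩ := StackCountLib.exists_iso_ofTorsor ξ
        exact ⟨Quot.mk _ P, Quotient.sound ⟨e⟩⟩
  refine ⟨Finite.of_equiv _ (Equiv.ofBijective f hf).symm, Eq.trans ?_ h₃⟩
  refine finsum_eq_of_bijective f hf fun c => ?_
  have h : Quotient.mk _ (StackCountLib.ofTorsor G Scheme.fppfPrecoverage (Quot.out c)) = f c :=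
    congrArg f (Quot.out_eq c)
  obtain ⟨e⟩ : Nonempty ((f c).out ≅ StackCountLib.ofTorsor G Scheme.fppfPrecoverage (Quot.out c)) :=
    Quotient.exact ((Quotient.out_eq (f c)).trans h.symm)
  rw [Nat.card_congr (e.conjAut.toEquiv.trans (StackCountLib.isoEquiv _ _))]

end Groth.Agent.S14277
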