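import Groth.Statements.S1428
import Groth.Agent.WeightLib.Separated
import Mathlib.Topology.Semicontinuity.Basic

set_option autoImplicit false
universe u
open FlatMor

namespace Groth.Agent.S1428

open AlgebraicGeometry CategoryTheory Limits in
/-- Let f : X → Y be separated, locally of finite type and locally quasi-finite with finite fibres, w a
positive weighting of f, and suppose the fibre integral of w is at most d at every point of Y and
equals d at some point. Then the set Y_d of points where the integral equals d is open and the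
restriction of f over Y_d is finite. (Finiteness of the fibres, which makes the fibre integral a
finite sum, is carried here as an explicit hypothesis.) -/
theorem result {X Y : Scheme.{u}} (f : X ⟶ Y) [LocallyQuasiFinite f] [LocallyOfFiniteType f] [IsSeparated f] (hfin : ∀ y : Y, (f ⁻¹' {y}).Finite)
    (w : ↑X → ℤ) (hw : MoreMor.IsWeighting f w) (hpos : ∀ x, 0 < w x) (d : ℤ)
    (hmax : ∀ y : Y, MoreMor.fibreIntegral f w y ≤ d) (hatt : ∃ y : Y, MoreMor.fibreIntegral f w y = d) :
    ∃ hYd : IsOpen {y : ↑Y | MoreMor.fibreIntegral f w y = d}, IsFinite (f ∣_ ⟨{y : ↑Y | MoreMor.fibreIntegral f w y = d}, hYd⟩) := by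
  have hset : {y : ↑Y | MoreMor.fibreIntegral f w y = d} =
      MoreMor.fibreIntegral f w ⁻¹' Set.Ioi (d - 1) := by
    ext y
    have := hmax y
    simp only [Set.mem_ofPred_eq, Set.mem_preimage, Set.mem_Ioi]
    omega
  have hYd : IsOpen {y : ↑Y | MoreMor.fibreIntegral f w y = d} := by
    rw [hset]
    exact LowerSemicontinuous.isOpen_preimage (WeightLib.lowerSemicontinuous_fibreIntegral hfin hw hpos) _
  refine ⟨hYd, ?_⟩
  let U : Y.Opens := ⟨_, hYd⟩
  change IsFinite (f ∣_ U)
  have hsq : IsPullback (f ⁻¹ᵁ U).ι (f ∣_ U) f U.ι := (isPullback_morphismRestrict f U).flip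
  have hfinU : ∀ y : U, ((f ∣_ U) ⁻¹' {y}).Finite := fun y =>
    WeightLib.finite_preimage_baseChange hsq y (hfin _)
  refine WeightLib.isFinite_of_fibreIntegral_const (w := fun x => w ((f ⁻¹ᵁ U).ι x)) hfinU ?_
    (fun x => hpos _) d fun y => ?_
  · intro V g _ O hO
    have := hO
    exact WeightLib.isLocallyConstant_fibreIntegral hw
      ((IsPullback.of_hasPullback (f ∣_ U) g).paste_horiz hsq) O
  · rw [WeightLib.fibreIntegral_baseChange hsq w y (hfin _)]
    exact y.2

end Groth.Agent.S1428
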