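import Groth.Statements.S14280
import Mathlib
import Mathlib
-- import your own Groth.Agent.* helpers here

set_option autoImplicit false
universe u
open SpSeq

namespace Groth.Agent.S14280

/-- Let E^{p,q} (p, q ≥ 0) be finite-dimensional complex vector spaces each carrying an endomorphism Φ,
and suppose that for a natural number N and functions a, c ≥ 0 (real) and b, d (natural numbers) one
has E^{p,q} = 0 for q > N, |μ| ≤ a(q)c(p) for every eigenvalue μ of Φ on E^{p,q}, and dim E^{p,q} ≤
b(q)d(p). If Σ_p c(p)d(p) converges then the family of traces tr(Φ | E^{p,q}) is absolutely summable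
over all pairs (p, q). (The published statement takes a and b defined on {0, …, N} only; here they
are functions on all natural numbers, which changes nothing since E^{p,q} = 0 for q > N.) -/
theorem result
    (E : ℕ → ℕ → Type u) [∀ p q, AddCommGroup (E p q)] [∀ p q, Module ℂ (E p q)]
    [∀ p q, FiniteDimensional ℂ (E p q)] (Φ : ∀ p q, E p q →ₗ[ℂ] E p q)
    (N : ℕ) (a c : ℕ → ℝ) (b d : ℕ → ℕ) (ha : ∀ q, 0 ≤ a q) (hc : ∀ p, 0 ≤ c p)
    (h1 : ∀ p q, N < q → Subsingleton (E p q))
    (h2 : ∀ p q (μ : ℂ), Module.End.HasEigenvalue (Φ p q) μ → ‖μ‖ ≤ a q * c p)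
    (h3 : ∀ p q, Module.finrank ℂ (E p q) ≤ b q * d p)
    (hsum : Summable fun p : ℕ => c p * (d p : ℝ)) :
    Summable fun pq : ℕ × ℕ => ‖LinearMap.trace ℂ (E pq.1 pq.2) (Φ pq.1 pq.2)‖ := by
  classical
  have hb : ∀ p q, ‖LinearMap.trace ℂ (E p q) (Φ p q)‖ ≤ (b q * d p : ℕ) * (a q * c p) := by
    intro p q
    rw [Module.End.trace_eq_sum_roots_charpoly_of_splits (IsAlgClosed.splits _)]
    refine (norm_multiset_sum_le _).trans ?_
    have hc' : Multiset.card (Φ p q).charpoly.roots ≤ Module.finrank ℂ (E p q) :=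
      (Polynomial.card_roots' _).trans_eq (LinearMap.charpoly_natDegree _)
    calc ((Φ p q).charpoly.roots.map (‖·‖)).sum ≤ Multiset.card ((Φ p q).charpoly.roots.map (‖·‖)) • (a q * c p) := by
          refine Multiset.sum_le_card_nsmul _ _ fun x hx => ?_
          obtain ⟨μ, hμ, rfl⟩ := Multiset.mem_map.1 hx
          exact h2 p q μ ((Module.End.hasEigenvalue_iff_isRoot_charpoly (f := Φ p q) μ).2 (Polynomial.mem_roots'.1 hμ).2)
      _ ≤ _ := by
          rw [Multiset.card_map, nsmul_eq_mul]
          exact mul_le_mul_of_nonneg_right (by exact_mod_cast hc'.trans (h3 p q)) (mul_nonneg (ha q) (hc p))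
  have hfin : Summable fun q : ℕ => if q ≤ N then (b q : ℝ) * a q else 0 :=
    summable_of_ne_finset_zero (s := Finset.range (N + 1)) fun q hq => if_neg (by simpa [Nat.lt_succ_iff] using hq)
  have hprod := Summable.mul_of_nonneg (hsum) hfin (fun p => mul_nonneg (hc p) (Nat.cast_nonneg _))
    (fun q => by show 0 ≤ if q ≤ N then (b q : ℝ) * a q else 0; split_ifs <;> [exact mul_nonneg (Nat.cast_nonneg _) (ha q); exact le_rfl])
  refine Summable.of_nonneg_of_le (fun _ => norm_nonneg _) (fun pq => ?_) hprod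
  rcases Nat.lt_or_ge N pq.2 with h | h
  · haveI := h1 pq.1 pq.2 h
    rw [show Φ pq.1 pq.2 = 0 from Subsingleton.elim _ _, map_zero, norm_zero, if_neg (by omega), mul_zero]
  · rw [if_pos h]
    refine (hb pq.1 pq.2).trans_eq ?_
    push_cast; ring

end Groth.Agent.S14280
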