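import Groth.Statements.S14285
import Groth.Agent.H0Lib.Local

set_option autoImplicit false
universe u
open CategoryTheory AlgebraicGeometry
open EllLift

namespace Groth.Agent.S14285

/-- Let R be a complete Noetherian local ring with maximal ideal m and residue field k = R/m, g : X →
Spec R a proper and flat morphism, and i : X₀ → X the fibre of g over the closed point, i.e. a
pullback of g along Spec k → Spec R, with structure map f₀ : X₀ → Spec k. If the induced ring map k
→ Γ(X₀, O_{X₀}) is bijective, then so is R → Γ(X, O_X). -/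
theorem result (R : Type u) [CommRing R]
    [IsLocalRing R] [IsNoetherianRing R] [IsAdicComplete (IsLocalRing.maximalIdeal R) R]
    (X X₀ : Scheme.{u}) (g : X ⟶ Spec (CommRingCat.of R)) [IsProper g] [Flat g]
    (i : X₀ ⟶ X) (f₀ : X₀ ⟶ Spec (CommRingCat.of (R ⧸ IsLocalRing.maximalIdeal R)))
    (hsq : IsPullback i f₀ g
      (Spec.map (CommRingCat.ofHom (Ideal.Quotient.mk (IsLocalRing.maximalIdeal R)))))
    (h0 : Function.Bijective ((Scheme.ΓSpecIso (CommRingCat.of (R ⧸ IsLocalRing.maximalIdeal R))).inv ≫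
      f₀.appTop)) :
    Function.Bijective ((Scheme.ΓSpecIso (CommRingCat.of R)).inv ≫ g.appTop) := by
  letI : Field (R ⧸ IsLocalRing.maximalIdeal R) := Ideal.Quotient.field _
  let φ : CommRingCat.of R ⟶ CommRingCat.of (R ⧸ IsLocalRing.maximalIdeal R) :=
    CommRingCat.ofHom (Ideal.Quotient.mk (IsLocalRing.maximalIdeal R))
  haveI : IsLocalRing (CommRingCat.of R : CommRingCat.{u}) := inferInstanceAs (IsLocalRing R)
  haveI : IsNoetherianRing (CommRingCat.of R : CommRingCat.{u}) := inferInstanceAs (IsNoetherianRing R)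
  haveI : IsAdicComplete (IsLocalRing.maximalIdeal (CommRingCat.of R : CommRingCat.{u})) (CommRingCat.of R : CommRingCat.{u}) :=
    inferInstanceAs (IsAdicComplete (IsLocalRing.maximalIdeal R) R)
  haveI : IsIso f₀.appTop := by
    haveI : IsIso ((Scheme.ΓSpecIso (CommRingCat.of (R ⧸ IsLocalRing.maximalIdeal R))).inv ≫ f₀.appTop) :=
      (ConcreteCategory.isIso_iff_bijective _).2 h0
    exact IsIso.of_isIso_comp_left (Scheme.ΓSpecIso (CommRingCat.of (R ⧸ IsLocalRing.maximalIdeal R))).inv _
  have h1 : IsIso (Limits.pullback.snd g (Spec.map φ)).appTop :=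
    H0Lib.isIso_appTop_of_iso hsq.isoPullback.inv hsq.isoPullback_inv_snd
  haveI := H0Lib.isIso_appTop_of_complete g (H0Lib.ClosedH0.of_one g φ Ideal.mk_ker h1)
  exact ConcreteCategory.bijective_of_isIso _

end Groth.Agent.S14285
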