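import Groth.Statements.S1429
import Groth.Agent.WeightLib.MaxLocus
-- import your own Groth.Agent.* helpers here

set_option autoImplicit false
universe u
open FlatMor

namespace Groth.Agent.S1429

open AlgebraicGeometry CategoryTheory Limits in
/-- For affine X and Y, a quasi-finite morphism f : X → Y of finite presentation and a positive
weighting w of f whose fibre integral has maximum value d: the open Y_d on which the integral equals
d is affine. -/
theorem result {X Y : Scheme.{u}} (f : X ⟶ Y) [LocallyQuasiFinite f] [QuasiCompact f] [LocallyOfFinitePresentation f] [IsAffine X] [IsAffine Y]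
    (w : ↑X → ℤ) (hw : MoreMor.IsWeighting f w) (hpos : ∀ x, 0 < w x) (d : ℤ)
    (hmax : ∀ y : Y, MoreMor.fibreIntegral f w y ≤ d) (hatt : ∃ y : Y, MoreMor.fibreIntegral f w y = d) :
    ∃ hYd : IsOpen {y : ↑Y | MoreMor.fibreIntegral f w y = d}, IsAffineOpen (⟨{y : ↑Y | MoreMor.fibreIntegral f w y = d}, hYd⟩ : Y.Opens) := by
  haveI : IsAffineHom f := ChevLib.isAffineHom_of_isSeparated f
  have hfin := WeightLib.finite_fibre_of_compactSpace f
  have hset : {y : ↑Y | MoreMor.fibreIntegral f w y = d} =
      MoreMor.fibreIntegral f w ⁻¹' Set.Ioi (d - 1) := by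
    ext y
    have := hmax y
    simp only [Set.mem_ofPred_eq, Set.mem_preimage, Set.mem_Ioi]
    omega
  have hopen : IsOpen {y : ↑Y | MoreMor.fibreIntegral f w y = d} := by
    rw [hset]
    exact LowerSemicontinuous.isOpen_preimage
      (WeightLib.lowerSemicontinuous_fibreIntegral hfin hw hpos) _
  refine ⟨hopen, ?_⟩
  obtain ⟨y₀, hy₀⟩ := hatt
  have hd : 0 ≤ d := hy₀ ▸ WeightLib.fibreIntegral_nonneg f w (fun x ↦ (hpos x).le) y₀
  obtain rfl | hd' := hd.eq_or_lt
  · have htop : ∀ y : Y, MoreMor.fibreIntegral f w y = 0 := fun y ↦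
      le_antisymm (hmax y) (WeightLib.fibreIntegral_nonneg f w (fun x ↦ (hpos x).le) y)
    convert isAffineOpen_top Y
    ext y
    simpa using htop y
  · obtain ⟨n, rfl⟩ : ∃ n : ℕ, d = (n + 1 : ℕ) := ⟨(d - 1).toNat, by omega⟩
    exact WeightLib.isAffineOpen_max_locus f hw hpos n hmax _ (fun y ↦ Iff.rfl)

end Groth.Agent.S1429
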