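import Groth.Statements.S14291
import Mathlib
import Groth.Agent.EllTorsLib.Normal
-- import your own Groth.Agent.* helpers here

set_option autoImplicit false
universe u
open EllLift

namespace Groth.Agent.S14291

/-- Let R be a Henselian discrete valuation ring with algebraically closed residue field k and fraction
field K, and W an elliptic curve over K (a Weierstrass cubic with unit discriminant) given by an
equation which is minimal with respect to R. If W has a K-rational point of exact order n for some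
integer n > 4 whose image in k is non-zero, then W has good or multiplicative (that is, semistable)
reduction. (The published statement takes R to be the Henselisation of the local ring of a smooth
curve over an algebraically closed field at a closed point, and asks that the n-torsion of the
elliptic curve over R contain the constant group Z/nZ; this row allows any Henselian discrete
valuation ring with algebraically closed residue field and asks for a K-rational point of exact
order n, which over such R is the same condition.) -/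
theorem result (R : Type u) [CommRing R] [IsDomain R]
    [IsDiscreteValuationRing R] [HenselianLocalRing R] [IsAlgClosed (IsLocalRing.ResidueField R)]
    (K : Type u) [Field K] [DecidableEq K] [Algebra R K] [IsFractionRing R K]
    (W : WeierstrassCurve K) [W.IsElliptic] [WeierstrassCurve.IsMinimal R W]
    (n : ℕ) (hn : 4 < n) (hk : (n : IsLocalRing.ResidueField R) ≠ 0)
    (P : W.toAffine.Point) (hP : addOrderOf P = n) :
    W.HasGoodReduction R ∨ W.HasMultiplicativeReduction R := by
  by_contra hneg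
  rw [not_or] at hneg
  haveI hadd : W.HasAdditiveReduction R :=
    ((WeierstrassCurve.hasGoodReduction_or_hasMultiplicativeReduction_or_hasAdditiveReduction R).resolve_left
      hneg.1).resolve_left hneg.2
  let I := W.integralModel R
  let W₀ := I.map (IsLocalRing.residue R)
  have hval : ∀ a : R, IsDedekindDomain.HeightOneSpectrum.valuation K (IsDiscreteValuationRing.maximalIdeal R)
      (algebraMap R K a) < 1 → a ∈ IsLocalRing.maximalIdeal R := fun a h =>
    (IsDedekindDomain.HeightOneSpectrum.valuation_lt_one_iff_mem _ _).1 h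
  have hΔ₀ : W₀.Δ = 0 := by
    rw [WeierstrassCurve.map_Δ, IsLocalRing.residue_eq_zero_iff]
    refine hval _ ?_
    rw [WeierstrassCurve.integralModel_Δ_eq]; exact hadd.badReduction
  have hc₀ : W₀.c₄ = 0 := by
    rw [WeierstrassCurve.map_c₄, IsLocalRing.residue_eq_zero_iff]
    refine hval _ ?_
    rw [WeierstrassCurve.integralModel_c₄_eq]; exact hadd.additiveReduction
  obtain ⟨r₀, s₀, t₀, q₁, q₂, q₃, q₄, q₆⟩ := EllTorsLib.exists_change W₀ hΔ₀ hc₀
  obtain ⟨r, rfl⟩ := IsLocalRing.residue_surjective r₀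
  obtain ⟨s, rfl⟩ := IsLocalRing.residue_surjective s₀
  obtain ⟨t, rfl⟩ := IsLocalRing.residue_surjective t₀
  let J : WeierstrassCurve R := WeierstrassCurve.VariableChange.mk 1 r s t • I
  have hJ : J.map (IsLocalRing.residue R) = WeierstrassCurve.VariableChange.mk 1 (IsLocalRing.residue R r)
      (IsLocalRing.residue R s) (IsLocalRing.residue R t) • W₀ := by
    rw [← WeierstrassCurve.map_variableChange]
    simp [W₀, WeierstrassCurve.VariableChange.map]
  have hS : EllTorsLib.Sing J := by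
    rw [← hJ] at q₁ q₂ q₃ q₄ q₆
    simp only [WeierstrassCurve.map_a₁, WeierstrassCurve.map_a₂, WeierstrassCurve.map_a₃, WeierstrassCurve.map_a₄,
      WeierstrassCurve.map_a₆, IsLocalRing.residue_eq_zero_iff] at q₁ q₂ q₃ q₄ q₆
    exact ⟨q₁, q₂, q₃, q₄, q₆⟩
  have hWI : W = I.map (algebraMap R K) := (WeierstrassCurve.baseChange_integralModel_eq R W).symm
  have hJK : J.map (algebraMap R K) = WeierstrassCurve.VariableChange.mk 1 (algebraMap R K r)
      (algebraMap R K s) (algebraMap R K t) • W := by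
    conv_rhs => rw [hWI]
    rw [← WeierstrassCurve.map_variableChange]
    simp [WeierstrassCurve.VariableChange.map]
  -- minimality
  obtain ⟨ϖ, hϖ⟩ := IsDiscreteValuationRing.exists_irreducible R
  have hϖm : ∀ (a : R) (n : ℕ), a ∈ IsLocalRing.maximalIdeal R ^ n → ∃ b, a = ϖ ^ n * b := fun a n h => by
    rw [hϖ.maximalIdeal_eq, Ideal.span_singleton_pow, Ideal.mem_span_singleton] at h
    exact h
  have hΔW : W.Δ ≠ 0 := ((WeierstrassCurve.isElliptic_iff W).1 inferInstance).ne_zero
  -- the point and its multiples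
  set E' := J.map (algebraMap R K) with hE'
  haveI hell : E'.IsElliptic := by
    rw [hJK]; infer_instance
  obtain ⟨Φ, hΦ⟩ : ∃ Φ : W.toAffine.Point →+ E'.toAffine.Point, Function.Injective Φ := by
    rw [hJK]
    exact ⟨EllTorsLib.shiftHom W _ _ _, EllTorsLib.shiftHom_injective W _ _ _⟩
  let P' := Φ P
  have hord : addOrderOf P' = n := by rw [addOrderOf_injective Φ hΦ, hP]
  have hnu : IsUnit (n : R) := by
    by_contra h
    refine hk ?_
    rw [← map_natCast (IsLocalRing.residue R), IsLocalRing.residue_eq_zero_iff]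
    exact (IsLocalRing.mem_maximalIdeal _).2 h
  have hcoord : ∀ m : ℕ, 0 < m → m ≤ 4 → ∃ (X Y : R) (h : E'.toAffine.Nonsingular
      (algebraMap R K X) (algebraMap R K Y)), X ∈ IsLocalRing.maximalIdeal R ∧ Y ∈ IsLocalRing.maximalIdeal R ∧
      m • P' = .some _ _ h := by
    intro m hm hm4
    have hne : m • P' ≠ 0 := fun h => by
      have := Nat.le_of_dvd hm (addOrderOf_dvd_of_nsmul_eq_zero h)
      omega
    have htor : n • m • P' = 0 := by
      rw [smul_comm, ← hord, addOrderOf_nsmul_eq_zero, smul_zero]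
    obtain ⟨x, y, h, he⟩ : ∃ x y h, m • P' = WeierstrassCurve.Affine.Point.some x y h := by
      cases hQ : m • P' with
      | zero => exact absurd hQ hne
      | some x y h => exact ⟨x, y, h, rfl⟩
    rw [he] at hne htor
    obtain ⟨X, Y, hX, hY, rfl, rfl⟩ | ⟨t, s, hpar⟩ := EllTorsLib.mem_or_par hS h
    · exact ⟨X, Y, h, hX, hY, he⟩
    · exact absurd (EllTorsLib.eq_zero_of_nsmul_eq_zero hS hpar hnu htor) hne
  obtain ⟨X₁, Y₁, n₁, hX₁, hY₁, e₁⟩ := hcoord 1 one_pos (by norm_num)
  -- move P' to the origin with horizontal tangent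
  have eq₁ := n₁.1
  rw [WeierstrassCurve.Affine.equation_iff] at eq₁
  have hy₁ : algebraMap R K Y₁ ≠ E'.toAffine.negY (algebraMap R K X₁) (algebraMap R K Y₁) := fun h => by
    have h2 : 2 • P' = 0 := by
      rw [show (2 : ℕ) = 1 + 1 from rfl, add_nsmul, e₁]
      exact WeierstrassCurve.Affine.Point.add_of_Y_eq rfl h
    have := Nat.le_of_dvd two_pos (addOrderOf_dvd_of_nsmul_eq_zero h2)
    omega
  obtain ⟨X₂, Y₂, n₂, hX₂, -, e₂⟩ := hcoord 2 two_pos (by norm_num)
  have h12 : 2 • P' = (1 • P') + (1 • P') := by rw [one_nsmul, two_nsmul]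
  rw [e₁, e₂, WeierstrassCurve.Affine.Point.add_of_Y_ne hy₁, WeierstrassCurve.Affine.Point.some.injEq] at h12
  set ℓ := E'.toAffine.slope (algebraMap R K X₁) (algebraMap R K X₁) (algebraMap R K Y₁) (algebraMap R K Y₁) with hℓdef
  obtain ⟨L, hL⟩ : ∃ L, algebraMap R K L = ℓ := by
    refine IsIntegrallyClosed.isIntegral_iff.1 (⟨Polynomial.X ^ 2 + Polynomial.C J.a₁ * Polynomial.X -
      Polynomial.C (J.a₂ + 2 * X₁ + X₂), by monicity!, ?_⟩ : IsIntegral R ℓ)
    have h := h12.1
    simp only [WeierstrassCurve.Affine.addX, hE', WeierstrassCurve.map_a₁, WeierstrassCurve.map_a₂] at h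
    simp only [Polynomial.eval₂_sub, Polynomial.eval₂_add, Polynomial.eval₂_pow, Polynomial.eval₂_X,
      Polynomial.eval₂_mul, Polynomial.eval₂_C, Polynomial.eval₂_ofNat, map_add, map_mul, map_ofNat]
    linear_combination -h
  let J' : WeierstrassCurve R := WeierstrassCurve.VariableChange.mk 1 X₁ L Y₁ • J
  have hJ'K : J'.map (algebraMap R K) = WeierstrassCurve.VariableChange.mk 1 (algebraMap R K X₁)
      ℓ (algebraMap R K Y₁) • E' := by
    rw [← hL, hE', ← WeierstrassCurve.map_variableChange]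
    simp [WeierstrassCurve.VariableChange.map]
  set F := J'.map (algebraMap R K) with hF
  obtain ⟨Ψ, hΨ, hΨP⟩ : ∃ Ψ : E'.toAffine.Point →+ F.toAffine.Point, Function.Injective Ψ ∧
      ∀ (X Y : R) (h : E'.toAffine.Nonsingular (algebraMap R K X) (algebraMap R K Y)),
        ∃ h', Ψ (.some _ _ h) = .some (algebraMap R K (X - X₁)) (algebraMap R K (Y - L * (X - X₁) - Y₁)) h' := by
    rw [hJ'K]
    refine ⟨EllTorsLib.shiftHom E' _ _ _, EllTorsLib.shiftHom_injective E' _ _ _, fun X Y h => ?_⟩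
    have e : algebraMap R K (X - X₁) = algebraMap R K X - algebraMap R K X₁ ∧
        algebraMap R K (Y - L * (X - X₁) - Y₁) =
          algebraMap R K Y - ℓ * (algebraMap R K X - algebraMap R K X₁) - algebraMap R K Y₁ := by
      simp [hL]
    rw [e.1, e.2]
    exact ⟨_, rfl⟩
  -- coefficients of J'
  have q := hS
  have hL' : J.a₄ + 2 * X₁ * J.a₂ - Y₁ * J.a₁ + 3 * X₁ ^ 2 = L * (J.a₃ + X₁ * J.a₁ + 2 * Y₁) := by
    refine IsFractionRing.injective R K ?_
    have h := hℓdef
    rw [WeierstrassCurve.Affine.slope_of_Y_ne rfl hy₁, eq_div_iff (sub_ne_zero.2 hy₁)] at h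
    simp only [WeierstrassCurve.Affine.negY, hE', WeierstrassCurve.map_a₁, WeierstrassCurve.map_a₂,
      WeierstrassCurve.map_a₃, WeierstrassCurve.map_a₄] at h
    simp only [map_add, map_sub, map_mul, map_pow, map_ofNat, hL]
    linear_combination -h
  have h6 : J.a₆ + X₁ * J.a₄ + X₁ ^ 2 * J.a₂ + X₁ ^ 3 - Y₁ * J.a₃ - Y₁ ^ 2 - X₁ * Y₁ * J.a₁ = 0 := by
    refine IsFractionRing.injective R K ?_
    simp only [hE', WeierstrassCurve.map_a₁, WeierstrassCurve.map_a₂, WeierstrassCurve.map_a₃,
      WeierstrassCurve.map_a₄, WeierstrassCurve.map_a₆] at eq₁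
    simp only [map_add, map_sub, map_mul, map_pow, map_zero]
    linear_combination -eq₁
  have ha4 : J'.a₄ = 0 := by
    simp only [J', WeierstrassCurve.variableChange_a₄, inv_one, Units.val_one, one_mul, one_pow]
    linear_combination hL'
  have ha6 : J'.a₆ = 0 := by
    simp only [J', WeierstrassCurve.variableChange_a₆, inv_one, Units.val_one, one_mul, one_pow]
    linear_combination h6
  have h3m : J'.a₃ ∈ IsLocalRing.maximalIdeal R := by
    simp only [J', WeierstrassCurve.variableChange_a₃, inv_one, Units.val_one, one_mul, one_pow]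
    exact add_mem (add_mem q.h₃ (Ideal.mul_mem_left _ _ q.h₁)) (Ideal.mul_mem_left _ _ hY₁)
  have e12 : J'.a₂ = -(X₂ - X₁) := by
    refine IsFractionRing.injective R K ?_
    have h := h12.1
    simp only [WeierstrassCurve.Affine.addX, hE', WeierstrassCurve.map_a₁, WeierstrassCurve.map_a₂] at h
    simp only [J', WeierstrassCurve.variableChange_a₂, inv_one, Units.val_one, one_mul, one_pow, map_add, map_sub,
      map_neg, map_mul, map_pow, map_ofNat, hL]
    linear_combination h
  have h2m : J'.a₂ ∈ IsLocalRing.maximalIdeal R := by rw [e12]; exact neg_mem (sub_mem hX₂ hX₁)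
  have h1m : J'.a₁ ∈ IsLocalRing.maximalIdeal R := by
    -- `b₂ = a₁ ^ 2 + 4 a₂` is unchanged modulo the maximal ideal
    refine Ideal.IsPrime.mem_of_pow_mem inferInstance 2 ?_
    have : J'.a₁ ^ 2 = (J.a₁ ^ 2 + 4 * J.a₂ + 12 * X₁) - 4 * J'.a₂ := by
      simp only [J', WeierstrassCurve.variableChange_a₁, WeierstrassCurve.variableChange_a₂, inv_one, Units.val_one,
        one_mul, one_pow]
      ring
    rw [this]
    exact sub_mem (add_mem (add_mem (Ideal.pow_mem_of_mem _ q.h₁ 2 two_pos) (Ideal.mul_mem_left _ _ q.h₂))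
      (Ideal.mul_mem_left _ _ hX₁)) (Ideal.mul_mem_left _ _ h2m)
  -- the multiples of the origin on J'
  let Q := Ψ P'
  have hordQ : addOrderOf Q = n := by rw [addOrderOf_injective Ψ hΨ, hord]
  have hmult : ∀ m : ℕ, 0 < m → m ≤ 4 → ∃ (X Y : R) (h : F.toAffine.Nonsingular
      (algebraMap R K X) (algebraMap R K Y)), X ∈ IsLocalRing.maximalIdeal R ∧ m • Q = .some _ _ h := by
    intro m hm hm4
    obtain ⟨X, Y, h, hX, -, he⟩ := hcoord m hm hm4
    obtain ⟨h', he'⟩ := hΨP X Y h
    exact ⟨_, _, h', sub_mem hX hX₁, by rw [← map_nsmul, he, he']⟩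
  let a₁ := algebraMap R K J'.a₁
  let a₂ := algebraMap R K J'.a₂
  let a₃ := algebraMap R K J'.a₃
  have f₁ : F.a₁ = a₁ := rfl
  have f₂ : F.a₂ = a₂ := rfl
  have f₃ : F.a₃ = a₃ := rfl
  have f₄ : F.a₄ = 0 := by simp [hF, ha4]
  have hQ : ∃ h : F.toAffine.Nonsingular 0 0, Q = .some 0 0 h := by
    obtain ⟨h', he'⟩ := hΨP X₁ Y₁ n₁
    rw [← e₁, one_nsmul] at he'
    simp only [sub_self, mul_zero, sub_zero, map_zero] at he'
    exact ⟨_, he'⟩
  obtain ⟨h0, hQ⟩ := hQ
  have ne_small : ∀ m : ℕ, 0 < m → m ≤ 4 → m • Q ≠ 0 := fun m hm hm4 h => by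
    have := Nat.le_of_dvd hm (addOrderOf_dvd_of_nsmul_eq_zero h)
    omega
  have ha3ne : a₃ ≠ 0 := fun h => ne_small 2 two_pos (by norm_num) (by
    rw [two_nsmul, hQ]
    exact WeierstrassCurve.Affine.Point.add_of_Y_eq rfl (by simp [WeierstrassCurve.Affine.negY, f₃, h]))
  have hQ2 : ∃ h, 2 • Q = WeierstrassCurve.Affine.Point.some (-a₂) (a₁ * a₂ - a₃) (h : F.toAffine.Nonsingular _ _) := by
    have hy : (0 : K) ≠ F.toAffine.negY 0 0 := by simp [WeierstrassCurve.Affine.negY, f₃, ha3ne]
    have hs : F.toAffine.slope 0 0 0 0 = 0 := by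
      rw [WeierstrassCurve.Affine.slope_of_Y_ne rfl hy]; simp [f₄]
    rw [two_nsmul, hQ, WeierstrassCurve.Affine.Point.add_of_Y_ne hy]
    simp only [hs]
    have e : F.toAffine.addX 0 0 0 = -a₂ ∧ F.toAffine.addY 0 0 0 0 = a₁ * a₂ - a₃ := by
      constructor <;>
        simp [WeierstrassCurve.Affine.addX, WeierstrassCurve.Affine.addY, WeierstrassCurve.Affine.negY,
          WeierstrassCurve.Affine.negAddY, f₁, f₂, f₃]
    have hn := WeierstrassCurve.Affine.nonsingular_add h0 h0 (fun hh => hy hh.2)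
    simp only [hs, e.1, e.2] at hn ⊢
    exact ⟨hn, trivial⟩
  obtain ⟨h2n, hQ2⟩ := hQ2
  have ha2ne : a₂ ≠ 0 := fun h => by
    have heq := h2n.1
    have : 2 • Q = Q ∨ 2 • Q = -Q := by
      rw [hQ, ← hQ, hQ2, hQ, WeierstrassCurve.Affine.Point.neg_some]
      simp only [WeierstrassCurve.Affine.Point.some.injEq, h, neg_zero, mul_zero, zero_sub, true_and,
        WeierstrassCurve.Affine.negY, f₁, f₃]
      right
      simp
    rcases this with e | e
    · exact ne_small 1 one_pos (by norm_num) (by rw [two_nsmul, add_eq_left] at e; rw [one_nsmul, e])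
    · exact ne_small 3 (by norm_num) (by norm_num) (by rw [succ_nsmul, e, neg_add_cancel])
  obtain ⟨X₃, Y₃, n₃, hX₃, hQ3⟩ := hmult 3 (by norm_num) (by norm_num)
  obtain ⟨X₄, Y₄, n₄, hX₄, hQ4⟩ := hmult 4 (by norm_num) (by norm_num)
  have hx20 : (-a₂ : K) ≠ 0 := neg_ne_zero.2 ha2ne
  have h3' := hQ3
  rw [succ_nsmul, hQ2, hQ, WeierstrassCurve.Affine.Point.add_of_X_ne hx20,
    WeierstrassCurve.Affine.Point.some.injEq, WeierstrassCurve.Affine.slope_of_X_ne hx20] at h3'
  obtain ⟨hx3, hy3⟩ := h3'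
  simp only [WeierstrassCurve.Affine.addX, WeierstrassCurve.Affine.addY, WeierstrassCurve.Affine.negY,
    WeierstrassCurve.Affine.negAddY, f₁, f₂, f₃] at hx3 hy3
  rw [hx3] at hy3
  field_simp at hx3 hy3
  have g3 : algebraMap R K X₃ * a₂ ^ 2 = a₃ * (a₃ - a₁ * a₂) := by linear_combination -hx3
  have hene : a₃ - a₁ * a₂ ≠ 0 := fun he => by
    have hX0 : algebraMap R K X₃ = 0 := (mul_eq_zero.1 (g3.trans (by rw [he, mul_zero]))).resolve_right
      (pow_ne_zero 2 ha2ne)
    -- then `3 • Q = ± Q`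
    have hy := n₃.1
    rw [WeierstrassCurve.Affine.equation_iff, hX0] at hy
    simp only [hF, WeierstrassCurve.map_a₁, WeierstrassCurve.map_a₂, WeierstrassCurve.map_a₃,
      WeierstrassCurve.map_a₄, WeierstrassCurve.map_a₆, ha4, ha6, map_zero] at hy
    rcases mul_eq_zero.1 (show algebraMap R K Y₃ * (algebraMap R K Y₃ + a₃) = 0 by linear_combination hy) with e | e
    · have : 3 • Q = Q := by rw [hQ3, hQ]; simp only [WeierstrassCurve.Affine.Point.some.injEq]; exact ⟨hX0, e⟩
      exact ne_small 2 two_pos (by norm_num) (by rw [succ_nsmul, add_eq_right] at this; exact this)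
    · have : 3 • Q = -Q := by
        rw [hQ3, hQ, WeierstrassCurve.Affine.Point.neg_some]
        simp only [WeierstrassCurve.Affine.Point.some.injEq, WeierstrassCurve.Affine.negY, f₁, f₃]
        exact ⟨hX0, by linear_combination e⟩
      exact ne_small 4 (by norm_num) le_rfl (by rw [succ_nsmul, this, neg_add_cancel])
  have hx30 : algebraMap R K X₃ ≠ 0 := fun h => by
    rw [h, zero_mul] at g3
    exact mul_ne_zero ha3ne hene g3.symm
  have gy3 : algebraMap R K Y₃ * a₂ = -(a₃ * algebraMap R K X₃) - a₃ * a₂ := by linear_combination hy3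
  have h4' := hQ4
  rw [succ_nsmul, hQ3, hQ, WeierstrassCurve.Affine.Point.add_of_X_ne hx30,
    WeierstrassCurve.Affine.Point.some.injEq, WeierstrassCurve.Affine.slope_of_X_ne hx30] at h4'
  obtain ⟨hx4, -⟩ := h4'
  simp only [WeierstrassCurve.Affine.addX, f₁, f₂, sub_zero] at hx4
  have hx3v : algebraMap R K X₃ = a₃ * (a₃ - a₁ * a₂) / a₂ ^ 2 := by rw [eq_div_iff (pow_ne_zero 2 ha2ne), g3]
  have hy3v : algebraMap R K Y₃ = (-(a₃ * algebraMap R K X₃) - a₃ * a₂) / a₂ := by rw [eq_div_iff ha2ne, gy3]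
  rw [hy3v, hx3v] at hx4
  field_simp at hx4
  have g4 : algebraMap R K X₄ * (a₃ - a₁ * a₂) ^ 2 = a₂ * (a₃ * (a₃ - a₁ * a₂) + a₂ ^ 3) := by
    refine mul_left_cancel₀ (pow_ne_zero 2 ha2ne) ?_
    linear_combination -hx4
  have hmin' : J'.a₂ ∈ IsLocalRing.maximalIdeal R ^ 2 → J'.a₃ ∈ IsLocalRing.maximalIdeal R ^ 3 → False := by
    intro h2 h3
    have h4 : J'.a₄ ∈ IsLocalRing.maximalIdeal R ^ 4 := by rw [ha4]; exact zero_mem _
    have h6 : J'.a₆ ∈ IsLocalRing.maximalIdeal R ^ 6 := by rw [ha6]; exact zero_mem _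
    obtain ⟨b₁, hb₁⟩ := hϖm _ 1 (by simpa using h1m)
    obtain ⟨b₂, hb₂⟩ := hϖm _ _ h2
    obtain ⟨b₃, hb₃⟩ := hϖm _ _ h3
    obtain ⟨b₄, hb₄⟩ := hϖm _ _ h4
    obtain ⟨b₆, hb₆⟩ := hϖm _ _ h6
    have hπ : algebraMap R K ϖ ≠ 0 := (map_ne_zero_iff _ (IsFractionRing.injective R K)).2 hϖ.ne_zero
    let C₂ : WeierstrassCurve.VariableChange K := ⟨Units.mk0 _ hπ, 0, 0, 0⟩ * (WeierstrassCurve.VariableChange.mk 1
      (algebraMap R K X₁) ℓ (algebraMap R K Y₁) * WeierstrassCurve.VariableChange.mk 1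
      (algebraMap R K r) (algebraMap R K s) (algebraMap R K t))
    have hC₂ : C₂ • W = (WeierstrassCurve.mk b₁ b₂ b₃ b₄ b₆).map (algebraMap R K) := by
      show (_ * _) • W = _
      rw [mul_smul, mul_smul, ← hJK, ← hJ'K, hF]
      ext <;>
        simp only [WeierstrassCurve.variableChange_a₁, WeierstrassCurve.variableChange_a₂,
          WeierstrassCurve.variableChange_a₃, WeierstrassCurve.variableChange_a₄, WeierstrassCurve.variableChange_a₆,
          WeierstrassCurve.map_a₁, WeierstrassCurve.map_a₂, WeierstrassCurve.map_a₃, WeierstrassCurve.map_a₄,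
          WeierstrassCurve.map_a₆, hb₁, hb₂, hb₃, hb₄, hb₆, map_mul, map_pow, Units.val_inv_eq_inv_val,
          Units.val_mk0] <;>
        field_simp <;> ring
    have hint : WeierstrassCurve.IsIntegral R (C₂ • W) := ⟨⟨_, hC₂⟩⟩
    have hmax := (WeierstrassCurve.IsMinimal.val_Δ_maximal (R := R) (W := W)).2 (j := C₂) hint
    have hu : (C₂.u : K) = algebraMap R K ϖ := by simp [C₂, WeierstrassCurve.VariableChange.mul_def]
    have hΔ2 : (algebraMap R K ϖ) ^ 12 * (C₂ • W).Δ = W.Δ := by
      rw [WeierstrassCurve.variableChange_Δ, Units.val_inv_eq_inv_val, hu, ← mul_assoc, ← mul_pow,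
        mul_inv_cancel₀ hπ, one_pow, one_mul]
    haveI := hint
    haveI : WeierstrassCurve.IsIntegral R ((1 : WeierstrassCurve.VariableChange K) • W) := by
      rw [one_smul]; infer_instance
    set v := IsDedekindDomain.HeightOneSpectrum.valuation K (IsDiscreteValuationRing.maximalIdeal R) with hv
    have hlt : v W.Δ < v (C₂ • W).Δ := by
      rw [← hΔ2, map_mul, map_pow]
      have hne : v (C₂ • W).Δ ≠ 0 := (Valuation.ne_zero_iff v).2 fun h => hΔW (by rw [← hΔ2, h, mul_zero])
      have h1 : v (algebraMap R K ϖ) < 1 :=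
        (IsDedekindDomain.HeightOneSpectrum.valuation_lt_one_iff_mem _ _).2
          ((IsLocalRing.mem_maximalIdeal ϖ).2 hϖ.not_isUnit)
      calc v (algebraMap R K ϖ) ^ 12 * v (C₂ • W).Δ < 1 * v (C₂ • W).Δ :=
            mul_lt_mul_of_pos_right (pow_lt_one₀ zero_le h1 (by norm_num)) (zero_lt_iff.2 hne)
        _ = _ := one_mul _
    have e1 : (WeierstrassCurve.valuation_Δ_aux R ((1 : WeierstrassCurve.VariableChange K) • W)).1 = v W.Δ := by
      rw [WeierstrassCurve.valuation_Δ_aux_eq_of_isIntegral, one_smul]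
    have e2 : (WeierstrassCurve.valuation_Δ_aux R (C₂ • W)).1 = v (C₂ • W).Δ :=
      WeierstrassCurve.valuation_Δ_aux_eq_of_isIntegral R _
    have := hmax (Subtype.mk_le_mk.2 (le_of_lt (by rw [← e1, ← e2] at hlt; exact hlt)))
    exact absurd (show v (C₂ • W).Δ ≤ v W.Δ by rw [← e1, ← e2]; exact this) (not_le.2 hlt)
  refine EllTorsLib.false_of_coords h1m h2m h3m ?_ hX₃ hX₄ ?_ ?_
  · rintro ⟨h2, h3⟩
    exact False.elim (hmin' h2 h3)
  · exact IsFractionRing.injective R K (by simpa using g3)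
  · exact IsFractionRing.injective R K (by simpa using g4)

end Groth.Agent.S14291
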