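import Groth.Statements.S14294
import Groth.Agent.LangQLib.Field

set_option autoImplicit false
universe u v
open PtDeg

namespace Groth.Agent.S14294

/-- Let A and G be abelian groups, written additively, and f : A → G a map which is pointed of degree 2,
that is f(x+y+z) + f(x) + f(y) + f(z) = f(x+y) + f(x+z) + f(y+z) for all x, y, z in A. If an integer
n satisfies n·x = 0 for every x in A, then 2n·f(x) = 0 for every x in A, and if moreover n is odd
then n·f(x) = 0 for every x in A. -/
theorem result {A : Type u} {G : Type v} [AddCommGroup A] [AddCommGroup G]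
    (f : A → G) (hf : ∀ x y z : A, f (x + y + z) + f x + f y + f z = f (x + y) + f (x + z) + f (y + z))
    (n : ℤ) (hn : ∀ x : A, n • x = 0) :
    (∀ x : A, (2 * n) • f x = 0) ∧ (Odd n → ∀ x : A, n • f x = 0) := by
  have h0 : f 0 = 0 := by
    have := hf 0 0 0
    simp only [add_zero] at this
    simpa using this
  let B : A → A → G := fun x y => f (x + y) - f x - f y
  have hB : ∀ x y z, B (x + y) z = B x z + B y z := fun x y z => by
    have := hf x y z
    simp only [B]
    rw [← sub_eq_zero] at this ⊢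
    exact Eq.trans (by abel) this
  have hB0 : ∀ y, B 0 y = 0 := fun y => by simp [B, h0]
  let Bl : A → A →+ G := fun z => { toFun := fun x => B x z, map_zero' := hB0 z, map_add' := fun x y => hB x y z }
  have hBz : ∀ (m : ℤ) x, B (m • x) x = m • B x x := fun m x => map_zsmul (Bl x) m x
  have hsucc : ∀ (m : ℤ) x, f ((m + 1) • x) = f (m • x) + f x + m • B x x := fun m x => by
    rw [← hBz, add_zsmul, one_zsmul]
    simp only [B]
    abel
  have hform : ∀ (m : ℤ) x, f (m • x) = m • f x + (m * (m - 1) / 2) • B x x := by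
    intro m x
    induction m using Int.induction_on with
    | zero => simp [h0]
    | succ i ih =>
      rw [hsucc, ih, show ((i : ℤ) + 1) * ((i : ℤ) + 1 - 1) / 2 = (i : ℤ) * ((i : ℤ) - 1) / 2 + i by
        rw [show ((i : ℤ) + 1) * ((i : ℤ) + 1 - 1) = (i : ℤ) * ((i : ℤ) - 1) + 2 * i by ring,
          Int.add_mul_ediv_left _ _ two_ne_zero]]
      simp only [add_zsmul, one_zsmul]
      abel
    | pred i ih =>
      have h := hsucc (-(i : ℤ) - 1) x
      rw [show (-(i : ℤ) - 1 + 1) = -(i : ℤ) by ring, ih,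
        show (-(i : ℤ)) * (-(i : ℤ) - 1) / 2 = (-(i : ℤ) - 1) * (-(i : ℤ) - 1 - 1) / 2 + (-(i : ℤ) - 1) by
          rw [show (-(i : ℤ)) * (-(i : ℤ) - 1) = (-(i : ℤ) - 1) * (-(i : ℤ) - 1 - 1) + 2 * (-(i : ℤ) - 1) by ring,
            Int.add_mul_ediv_left _ _ two_ne_zero], add_zsmul] at h
      generalize hw : f ((-(i : ℤ) - 1) • x) = w at h ⊢
      generalize (((-(i : ℤ) - 1) * (-(i : ℤ) - 1 - 1) / 2) • B x x) = t at h ⊢
      generalize ((-(i : ℤ) - 1) • B x x) = z at h
      rw [sub_zsmul, one_zsmul]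
      rw [← sub_eq_zero] at h ⊢
      refine Eq.trans ?_ (neg_eq_zero.2 h)
      abel
  have hnb : ∀ x, n • B x x = 0 := fun x => by rw [← hBz, hn, hB0]
  have hT : ∀ m : ℤ, 2 * (m * (m - 1) / 2) = m * (m - 1) := fun m =>
    Int.mul_ediv_cancel' (by
      rcases Int.even_or_odd m with ⟨j, rfl⟩ | ⟨j, rfl⟩
      · exact Dvd.dvd.mul_right ⟨j, by ring⟩ _
      · exact Dvd.dvd.mul_left ⟨j, by ring⟩ _)
  refine ⟨fun x => ?_, fun ⟨j, hj⟩ x => ?_⟩
  · have h := congrArg (fun z => (2 : ℤ) • z) (hform n x)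
    simp only [hn, h0, smul_zero, smul_add, smul_smul, hT] at h
    rw [mul_comm n (n - 1), mul_smul (n - 1) n (B x x), hnb, smul_zero, add_zero] at h
    exact h.symm
  · have h := hform n x
    rw [hn, h0, show n * (n - 1) / 2 = j * n by
      rw [hj, show (2 * j + 1) * (2 * j + 1 - 1) = 2 * (j * (2 * j + 1)) by ring, Int.mul_ediv_cancel_left _ two_ne_zero],
      mul_zsmul, hnb, smul_zero, add_zero] at h
    exact h.symm

end Groth.Agent.S14294
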