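import Groth.Statements.S14295
import Mathlib.Algebra.Module.Basic
import Mathlib.Tactic.Abel
import Mathlib.Tactic.Module
import Mathlib.Tactic.Ring
import Mathlib.Tactic.Linarith
import Mathlib.Algebra.Order.Ring.Int
import Mathlib.Algebra.Ring.Parity

set_option autoImplicit false
universe u v
open PtDeg

namespace Groth.Agent.S14295

/-- Let A and G be abelian groups, written additively, and f : A → G a map which is pointed of degree 2,
that is f(x+y+z) + f(x) + f(y) + f(z) = f(x+y) + f(x+z) + f(y+z) for all x, y, z in A. Then for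
every integer n and every x in A one has f(n·x) = (n(n+1)/2)·f(x) + (n(n−1)/2)·f(−x) (the two
coefficients are the integers n(n+1)/2 and n(n−1)/2). -/
theorem result {A : Type u} {G : Type v} [AddCommGroup A] [AddCommGroup G]
    (f : A → G) (hf : ∀ x y z : A, f (x + y + z) + f x + f y + f z = f (x + y) + f (x + z) + f (y + z))
    (n : ℤ) (x : A) :
    f (n • x) = (n * (n + 1) / 2) • f x + (n * (n - 1) / 2) • f (-x) := by
  have h0 : f 0 = 0 := by
    have := hf 0 0 0
    simp only [add_zero] at this
    exact add_left_cancel (a := f 0 + f 0 + f 0) (by rw [add_zero]; exact this)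
  have hrec : ∀ n : ℤ, f ((n + 1) • x) + f ((n - 1) • x) = f (n • x) + f (n • x) + f x + f (-x) := fun n => by
    have := hf (n • x) x (-x)
    rw [add_neg_cancel_right, add_neg_cancel, h0, add_zero,
      show n • x + x = (n + 1) • x by rw [add_zsmul, one_zsmul],
      show n • x + -x = (n - 1) • x by rw [sub_zsmul, one_zsmul]] at this
    exact this.symm
  let F : ℤ → G := fun n => (n * (n + 1) / 2) • f x + (n * (n - 1) / 2) • f (-x)
  have h2 : ∀ m : ℤ, 2 ∣ m * (m + 1) := fun m => Int.even_mul_succ_self m |>.two_dvd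
  have hF : ∀ n : ℤ, F (n + 1) + F (n - 1) = F n + F n + f x + f (-x) := fun n => by
    obtain ⟨a, ha⟩ := h2 n
    obtain ⟨b, hb⟩ := h2 (n + 1)
    obtain ⟨c, hc⟩ := h2 (n - 1)
    obtain ⟨e, he⟩ := h2 (n - 2)
    simp only [F]
    rw [show (n + 1) * (n + 1 + 1) = 2 * b from hb, show (n + 1) * (n + 1 - 1) = 2 * a by linarith,
      show (n - 1) * (n - 1 + 1) = 2 * c from hc, show (n - 1) * (n - 1 - 1) = 2 * e by linarith,
      show n * (n + 1) = 2 * a from ha, show n * (n - 1) = 2 * c by linarith,
      Int.mul_ediv_cancel_left _ two_ne_zero, Int.mul_ediv_cancel_left _ two_ne_zero,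
      Int.mul_ediv_cancel_left _ two_ne_zero, Int.mul_ediv_cancel_left _ two_ne_zero]
    have h1 : b + c = a + a + 1 := by linarith
    have h3 : a + e = c + c + 1 := by linarith
    calc b • f x + a • f (-x) + (c • f x + e • f (-x)) = (b + c) • f x + (a + e) • f (-x) := by module
      _ = (a + a + 1) • f x + (c + c + 1) • f (-x) := by rw [h1, h3]
      _ = _ := by module
  suffices H : ∀ n : ℤ, f (n • x) = F n ∧ f ((n + 1) • x) = F (n + 1) from (H n).1
  intro n
  induction n using Int.induction_on with
  | zero => simp [F, h0]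
  | succ i ih =>
    refine ⟨ih.2, ?_⟩
    have a := hrec ((i : ℤ) + 1)
    have b := hF ((i : ℤ) + 1)
    rw [add_sub_cancel_right, ih.1, ih.2] at a
    rw [add_sub_cancel_right] at b
    exact add_right_cancel (a.trans b.symm)
  | pred i ih =>
    refine ⟨?_, by rw [sub_add_cancel]; exact ih.1⟩
    have a := hrec (-(i : ℤ))
    rw [ih.1, ih.2] at a
    exact add_left_cancel (a.trans (hF (-(i : ℤ))).symm)

end Groth.Agent.S14295
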