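import Groth.Statements.S14296
import Mathlib


-- import your own Groth.Agent.* helpers here

set_option autoImplicit false
universe u v
open PtDeg

namespace Groth.Agent.S14296

/-- Let G and H be abelian groups, written additively, n an integer such that 2n²·x = 0 for every x in
G, and d : G → H a quadratic map, meaning that d is pointed of degree 2 (d(x+y+z) + d(x) + d(y) +
d(z) = d(x+y) + d(x+z) + d(y+z) for all x, y, z) and even (d(−x) = d(x) for all x). Then d(2n·x) = 0
for every x in G. -/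
theorem result {G : Type u} {H : Type v} [AddCommGroup G] [AddCommGroup H]
    (n : ℤ) (hn : ∀ x : G, (2 * n ^ 2) • x = 0)
    (d : G → H) (hd : ∀ x y z : G, d (x + y + z) + d x + d y + d z = d (x + y) + d (x + z) + d (y + z))
    (heven : ∀ x : G, d (-x) = d x) (x : G) :
    d ((2 * n) • x) = 0 := by
  have h0 : d 0 = 0 := by
    have h := hd 0 0 0
    simp only [add_zero] at h
    exact add_eq_left.1 h
  have hs : ∀ m : ℤ, d ((m + 2) • x) - d ((m + 1) • x) = d ((m + 1) • x) - d (m • x) + (d ((2:ℤ) • x) - 2 • d x) := by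
    intro m
    have h := hd (m • x) x x
    rw [show m • x + x + x = (m + 2) • x by rw [add_smul, two_zsmul, add_assoc],
      show m • x + x = (m + 1) • x by rw [add_smul, one_zsmul], show x + x = (2:ℤ) • x from (two_zsmul x).symm] at h
    have h' : d ((m + 2) • x) = d ((m + 1) • x) + d ((m + 1) • x) + d ((2 : ℤ) • x) - d (m • x) - d x - d x := by
      rw [← h]; abel
    rw [h', two_nsmul]; abel
  have h2 : d ((2 : ℤ) • x) = (4 : ℤ) • d x := by
    have h := hd x x (-x)
    rw [add_neg_cancel_right, add_neg_cancel, heven, h0, show x + x = (2:ℤ) • x from (two_zsmul x).symm] at h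
    simp only [add_zero] at h
    rw [← h]
    abel
  have hsq : ∀ m : ℕ, d ((m : ℤ) • x) = ((m : ℤ) * m) • d x ∧ d (((m + 1 : ℕ) : ℤ) • x) = (((m + 1 : ℕ) : ℤ) * (m + 1 : ℕ)) • d x := by
    intro m
    induction m with
    | zero => simp [h0]
    | succ m ih =>
      refine ⟨ih.2, ?_⟩
      have h := hs (m : ℤ)
      have e1 : ((m + 1 : ℕ) : ℤ) = (m : ℤ) + 1 := by push_cast; ring
      have e2 : ((m + 1 + 1 : ℕ) : ℤ) = (m : ℤ) + 2 := by push_cast; ring
      rw [e1] at ih
      rw [e2]
      rw [ih.1, ih.2, h2, sub_eq_iff_eq_add] at h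
      rw [h, two_nsmul]
      module
  have hint : ∀ m : ℤ, d (m • x) = (m * m) • d x := by
    intro m
    obtain ⟨k, rfl | rfl⟩ := Int.eq_nat_or_neg m
    · exact (hsq k).1
    · rw [neg_smul, heven, (hsq k).1, neg_mul_neg]
  have hzero : (2 * n ^ 2 * (2 * n ^ 2)) • d x = 0 := by rw [← hint, hn, h0]
  have hone : ((2 * n ^ 2 + 1) * (2 * n ^ 2 + 1)) • d x = d x := by
    rw [← hint, add_smul, hn, zero_add, one_smul]
  rw [hint]
  have h3 : (2 * n ^ 2 * (2 * n ^ 2) + (2 * n * (2 * n)) + 1) • d x = d x := by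
    rw [show 2 * n ^ 2 * (2 * n ^ 2) + (2 * n * (2 * n)) + 1 = (2 * n ^ 2 + 1) * (2 * n ^ 2 + 1) by ring, hone]
  rwa [add_smul, add_smul, hzero, zero_add, one_smul, add_eq_right] at h3

end Groth.Agent.S14296
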