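import Groth.Statements.S17021
import Groth.Agent.ParaFDescLib.Main
import Groth.Agent.PunctFEtLib.Sections
import Groth.Agent.RefHullLib.BigOpen
import Groth.Agent.DepthBasicLib.Sk
import Groth.Agent.CurvLib.Line
import Groth.Agent.DepthLib.SkStalk
import Groth.Agent.KFlatLib.QCohPull

set_option autoImplicit false
universe u
open CategoryTheory CategoryTheory.Limits AlgebraicGeometry
open PicF

namespace Groth.Agent.S17021

open TopologicalSpace

/-- Invertible modules have the depth of the local rings. -/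
theorem two_le_depth_invertible {V : Scheme.{u}} [IsLocallyNoetherian V] {M : V.Modules} (hM : PicF.IsInvertible M)
    (v : V) (h : (2 : ℕ∞) ≤ LocCoh.depth (V.presheaf.stalk v) (V.presheaf.stalk v)) :
    (2 : ℕ∞) ≤ LocCoh.depth (V.presheaf.stalk v) (M.presheaf.stalk v) := by
  obtain ⟨O, σ, hv, hσ⟩ := TwistLib.exists_genOn hM v
  let e : V.presheaf.stalk v ≃ₗ[V.presheaf.stalk v] M.presheaf.stalk v :=
    LinearEquiv.ofBijective (LinearMap.toSpanSingleton _ _ (M.presheaf.germ O v hv σ)) (hσ.genAt hv)
  rwa [← CommAlgDim.depth_congr e]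

/-- Invertibility is local. -/
theorem invertible_of_cover {X : Scheme.{u}} (N : X.Modules)
    (h : ∀ x : X, ∃ W : X.Opens, x ∈ W ∧ PicF.IsInvertible ((Scheme.Modules.pullback W.ι).obj N)) :
    PicF.IsInvertible N := by
  choose W hxW hW using h
  choose O σ hxO hσ using fun x => TwistLib.exists_genOn
    (ParaFDescLib.isInvertible_congr ((Scheme.Modules.restrictFunctorIsoPullback (W x).ι).app N).symm (hW x))
    (⟨x, hxW x⟩ : (W x : Scheme.{u}))
  refine TwistLib.isInvertible_of_genOn (fun x => (W x).ι ''ᵁ O x) (fun x => ⟨x, ⟨x, hxW x⟩, hxO x, rfl⟩) _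
    fun x => Ref1Lib.genOn_of_restrict (hσ x)

/-- `(S₂)` gives depth two at a point of dimension two. -/
theorem two_le_depth_local {A : Type u} [CommRing A] [IsLocalRing A] [IsNoetherianRing A]
    (hS : LocCoh.HasSk 2 A A) (hd : ringKrullDim A = 2) : (2 : ℕ∞) ≤ LocCoh.depth A A := by
  have hq : ((2 : ℕ) : ℕ∞) ≤ (IsLocalRing.maximalIdeal A).height := by
    refine WithBot.coe_le_coe.1 ?_
    rw [IsLocalRing.maximalIdeal_height_eq_ringKrullDim, hd]
    exact le_rfl
  have h := DepthBasic.le_depth_of_hasSk hS (IsLocalRing.maximalIdeal A) hq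
  have e : A ≃+* Localization.AtPrime (IsLocalRing.maximalIdeal A) :=
    (IsLocalization.atUnits A (IsLocalRing.maximalIdeal A).primeCompl
      fun x hx => not_not.1 hx).toRingEquiv
  rw [DepthLib.depth_congr_ringEquiv e]
  exact h

/-- The pullback of the direct image from the open is the extension upstairs. -/
theorem nonempty_pullback_push_iso {X V : Scheme.{u}} [IsLocallyNoetherian X] [IsLocallyNoetherian V] (j : V ⟶ X) [Flat j]
    (U : X.Opens) (hd : ∀ v : V, v ∉ j ⁻¹ᵁ U → (2 : ℕ∞) ≤ LocCoh.depth (V.presheaf.stalk v) (V.presheaf.stalk v))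
    (L : (U : Scheme.{u}).Modules) (hL : PicF.IsInvertible L) (M : V.Modules) (hM : PicF.IsInvertible M)
    (e : (Scheme.Modules.pullback (j ⁻¹ᵁ U).ι).obj M ≅ (Scheme.Modules.pullback (j ∣_ U)).obj L) :
    Nonempty ((Scheme.Modules.pullback j).obj ((Scheme.Modules.pushforward U.ι).obj L) ≅ M) := by
  haveI : Coh.IsQCoh L := TwistLib.isQCoh_of_isInvertible hL
  haveI := Groth.Agent.S11133.result U.ι j (j ∣_ U) (j ⁻¹ᵁ U).ι (isPullback_morphismRestrict j U) L
  haveI := RefHullLib.isIso_unit_of_depth (j ⁻¹ᵁ U) (CurvLib.isCoh_of_isInvertible hM)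
    fun v hv => two_le_depth_invertible hM v (hd v hv)
  exact ⟨@asIso _ _ _ _ _ ‹IsIso (_ ≫ _ ≫ _)› ≪≫
    (Scheme.Modules.pushforward (j ⁻¹ᵁ U).ι).mapIso
      (e.symm ≪≫ ((Scheme.Modules.restrictFunctorIsoPullback (j ⁻¹ᵁ U).ι).app M).symm) ≪≫
    (asIso ((Scheme.Modules.restrictAdjunction (j ⁻¹ᵁ U).ι).unit.app M)).symm⟩


/-- Let X be a locally Noetherian scheme all of whose local rings satisfy Serre's condition (S₂), p a
closed point of X whose local ring has Krull dimension 2, U the open complement of p and L an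
invertible O_U-module. Suppose L extends to an invertible module over an étale neighbourhood of p:
there are an étale morphism j : V → X, a point q of V with j(q) = p and an invertible O_V-module M
whose pullback to j⁻¹(U) is isomorphic to the pullback of L along j⁻¹(U) → U. Then L extends to X:
some invertible O_X-module has pullback to U isomorphic to L. (Stated for schemes; the published
statement is for a Deligne–Mumford stack of dimension 2 satisfying (S₂) and its proof passes to a
scheme on an étale chart. Dimension 2 is imposed here on the local ring at p. The published setting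
takes everything essentially of finite type over a field of characteristic zero; here X is only
assumed locally Noetherian.) -/
theorem result {X : Scheme.{u}} [IsLocallyNoetherian X]
    (hS2 : ∀ x : X, LocCoh.HasSk 2 (X.presheaf.stalk x) (X.presheaf.stalk x))
    (p : X) (hp : IsClosed ({p} : Set X)) (hdim : ringKrullDim (X.presheaf.stalk p) = 2)
    (U : X.Opens) (hU : (U : Set X) = {p}ᶜ)
    (L : (U : Scheme.{u}).Modules) (hL : PicF.IsInvertible L)
    {V : Scheme.{u}} (j : V ⟶ X) [Etale j] (q : V) (hq : j.base q = p)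
    (M : V.Modules) (hM : PicF.IsInvertible M)
    (e : (Scheme.Modules.pullback (j ⁻¹ᵁ U).ι).obj M ≅ (Scheme.Modules.pullback (j ∣_ U)).obj L) :
    ∃ N : X.Modules, PicF.IsInvertible N ∧ Nonempty ((Scheme.Modules.pullback U.ι).obj N ≅ L) := by
  haveI : Coh.IsQCoh L := TwistLib.isQCoh_of_isInvertible hL
  haveI : IsLocallyNoetherian V := LocallyOfFiniteType.isLocallyNoetherian j
  haveI : QuasiCompact U.ι := inferInstance
  let N := (Scheme.Modules.pushforward U.ι).obj L
  haveI : Coh.IsQCoh N := QCohLib.isQCoh_pushforward _ L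
  let eU : (Scheme.Modules.pullback U.ι).obj N ≅ L :=
    ((Scheme.Modules.restrictFunctorIsoPullback U.ι).app N).symm ≪≫
      asIso ((Scheme.Modules.restrictAdjunction U.ι).counit.app L)
  refine ⟨N, ?_, ⟨eU⟩⟩
  have hd : ∀ v : V, v ∉ j ⁻¹ᵁ U → (2 : ℕ∞) ≤ LocCoh.depth (V.presheaf.stalk v) (V.presheaf.stalk v) := by
    intro v hv
    have hvp : j.base v = p := by
      by_contra h
      exact hv (show j.base v ∈ (U : Set X) by rw [hU]; exact h)
    rw [PunctFEtLib.depth_stalk_etale j v, show j v = p from hvp]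
    exact two_le_depth_local (hS2 p) hdim
  obtain ⟨eV⟩ := nonempty_pullback_push_iso j U hd L hL M hM e
  -- an affine neighbourhood of `q` and its image
  obtain ⟨V₀, hV₀, hqV₀, -⟩ := exists_isAffineOpen_mem_and_subset (x := q) (U := ⊤) trivial
  haveI : CompactSpace (V₀ : Scheme.{u}) := isCompact_iff_compactSpace.1 hV₀.isCompact
  let g : (V₀ : Scheme.{u}) ⟶ X := V₀.ι ≫ j
  haveI : Etale g := inferInstance
  let W : X.Opens := ⟨Set.range g.base, g.isOpenMap.isOpen_range⟩
  let f : (V₀ : Scheme.{u}) ⟶ W := IsOpenImmersion.lift W.ι g (by rw [Scheme.Opens.range_ι]; rfl)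
  have hf : f ≫ W.ι = g := IsOpenImmersion.lift_fac _ _ _
  haveI : Surjective f := ⟨fun ⟨x, hx⟩ => by
    obtain ⟨v, hv⟩ := hx
    refine ⟨v, Subtype.ext ?_⟩
    show (W.ι).base (f.base v) = x
    rw [← Scheme.Hom.comp_apply, hf]
    exact hv⟩
  have sq : IsPullback (𝟙 (V₀ : Scheme.{u})) f g W.ι :=
    IsPullback.of_isLimit' ⟨by rw [Category.id_comp, hf]⟩
      (PullbackCone.IsLimit.mk _ (fun s => s.fst) (fun s => Category.comp_id _)
        (fun s => by rw [← cancel_mono W.ι, Category.assoc, hf]; exact s.condition)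
        (fun s m h1 _ => by rw [← h1]; exact (Category.comp_id m).symm))
  haveI : Flat f := MorphismProperty.of_isPullback sq (inferInstanceAs (Flat g))
  haveI : QuasiCompact f := inferInstance
  haveI : Coh.IsQCoh ((Scheme.Modules.pullback W.ι).obj N) := KFlatLib.isQCoh_pullback W.ι N
  have hW : PicF.IsInvertible ((Scheme.Modules.pullback W.ι).obj N) := by
    refine ParaFDescLib.isInvertible_of_pullback f _ ?_
    refine ParaFDescLib.isInvertible_congr ?_ (AmpleDevLib.isInvertible_pb V₀.ι hM)
    exact (Scheme.Modules.pullback V₀.ι).mapIso eV.symm ≪≫ (Scheme.Modules.pullbackComp V₀.ι j).app N ≪≫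
      (Scheme.Modules.pullbackCongr hf).symm.app N ≪≫ ((Scheme.Modules.pullbackComp f W.ι).app N).symm
  refine invertible_of_cover N fun x => ?_
  by_cases hx : x ∈ U
  · exact ⟨U, hx, ParaFDescLib.isInvertible_congr (eU ≪≫ (Iso.refl L)).symm hL⟩
  · refine ⟨W, ?_, hW⟩
    have hxp : x = p := by
      by_contra h
      exact hx (show x ∈ (U : Set X) by rw [hU]; exact h)
    exact ⟨⟨q, hqV₀⟩, hq.trans hxp.symm⟩

end Groth.Agent.S17021
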