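import Groth.Statements.S14298
import Groth.Agent.DescAppLib.GenDesc
import Groth.Agent.ParaFDescLib.Main
import Groth.Agent.PunctFEtLib.Sections
import Groth.Agent.DepthLib.FlatDepth
import Groth.Agent.FFDescLib.Closure
import Groth.Agent.Ref1Lib.Gen
import Groth.Agent.S17021

set_option autoImplicit false
universe u
open CategoryTheory CategoryTheory.Limits AlgebraicGeometry
open PicF

namespace Groth.Agent.S14298

open TopologicalSpace AmpleLib KFlatLib

/-- The depth does not drop along flat local homomorphisms. -/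
theorem depth_mono {A B : Type u} [CommRing A] [IsLocalRing A] [IsNoetherianRing A]
    [CommRing B] [IsLocalRing B] [IsNoetherianRing B] [Algebra A B] [IsLocalHom (algebraMap A B)] [Module.Flat A B]
    (h : (2 : ℕ∞) ≤ LocCoh.depth A A) : (2 : ℕ∞) ≤ LocCoh.depth B B := by
  haveI : Nontrivial (B ⧸ (IsLocalRing.maximalIdeal A).map (algebraMap A B)) :=
    Ideal.Quotient.nontrivial_iff.2 (ne_top_of_le_ne_top (IsLocalRing.maximalIdeal.isMaximal B).ne_top
      (IsLocalRing.map_maximalIdeal_le (algebraMap A B)))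
  haveI : IsLocalRing (B ⧸ (IsLocalRing.maximalIdeal A).map (algebraMap A B)) :=
    IsLocalRing.of_surjective' _ Ideal.Quotient.mk_surjective
  exact DepthLib.add_le_depth A B (a := 2) (b := 0) h bot_le

/-- Generators exist near the points of an open where a module is invertible. -/
theorem exists_genOn_open {X : Scheme.{u}} {N : X.Modules} {V : X.Opens}
    (hN : PicF.IsInvertible (N.restrict V.ι)) {x : X} (hx : x ∈ V) :
    ∃ (O : X.Opens) (σ : Γ(N, O)), x ∈ O ∧ GenOn N σ := by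
  obtain ⟨O, σ, hO, hσ⟩ := TwistLib.exists_genOn hN (⟨x, hx⟩ : (V : Scheme.{u}))
  exact ⟨V.ι ''ᵁ O, σ, ⟨⟨x, hx⟩, hO, rfl⟩, Ref1Lib.genOn_of_restrict hσ⟩

/-- The locus where a section generates is open where generators exist. -/
theorem exists_nhd_genAt {X : Scheme.{u}} {N : X.Modules} {W : X.Opens} (s : Γ(N, W)) {x : X}
    (hx : x ∈ W) (hs : GenAt N s hx) (hloc : ∃ (O : X.Opens) (σ : Γ(N, O)), x ∈ O ∧ GenOn N σ) :
    ∃ O : X.Opens, x ∈ O ∧ ∃ hO : O ≤ W, ∀ y (hy : y ∈ O), GenAt N s (hO hy) := by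
  obtain ⟨O, σ, hxO, hσ⟩ := hloc
  obtain ⟨c, hc⟩ := (hσ (O ⊓ W) inf_le_left).2 (AmpleLib.res N inf_le_right s)
  have hxT : x ∈ O ⊓ W := ⟨hxO, hx⟩
  have key : ∀ y (hy : y ∈ O ⊓ W), GenAt N s hy.2 ↔ y ∈ X.basicOpen c := fun y hy => by
    rw [← AmpleLib.genAt_res (inf_le_right : O ⊓ W ≤ W) s hy, ← hc]
    exact AmpleLib.genAt_smul_iff c _ hy ((hσ.res inf_le_left).genAt hy)
  exact ⟨X.basicOpen c, (key x hxT).1 hs, (X.basicOpen_le c).trans inf_le_right,
    fun y hy => (key y (X.basicOpen_le c hy)).2 hy⟩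

/-- Restricting sections of a direct image to the open is bijective. -/
theorem bijective_push_res {X : Scheme.{u}} (V : X.Opens) (L : (V : Scheme.{u}).Modules) (T : X.Opens) :
    Function.Bijective (AmpleLib.res ((Scheme.Modules.pushforward V.ι).obj L) (inf_le_left : T ⊓ V ≤ T)) := by
  have e : V.ι ⁻¹ᵁ (T ⊓ V) = V.ι ⁻¹ᵁ T := Opens.ext (Set.ext fun z => ⟨fun h => h.1, fun h => ⟨h, z.2⟩⟩)
  let i : V.ι ⁻¹ᵁ (T ⊓ V) ⟶ V.ι ⁻¹ᵁ T := homOfLE e.le
  haveI : IsIso i.op := ⟨(homOfLE e.ge).op, Subsingleton.elim _ _, Subsingleton.elim _ _⟩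
  exact ConcreteCategory.bijective_of_isIso (L.presheaf.map i.op)

/-- A section generates the direct image near a point, if it generates at all generalisations. -/
theorem exists_genOn_push {X : Scheme.{u}} [IsLocallyNoetherian X] (V : X.Opens) (hinv : PunctFEtLib.Invisible V)
    (L : (V : Scheme.{u}).Modules) (hL : PicF.IsInvertible L) {W : X.Opens}
    (s : Γ((Scheme.Modules.pushforward V.ι).obj L, W)) {x : X} (hx : x ∈ W)
    (hs : ∀ y (hy : y ∈ W), y ⤳ x → GenAt ((Scheme.Modules.pushforward V.ι).obj L) s hy) :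
    ∃ (O : X.Opens) (σ : Γ((Scheme.Modules.pushforward V.ι).obj L, O)),
      x ∈ O ∧ GenOn ((Scheme.Modules.pushforward V.ι).obj L) σ := by
  let N := (Scheme.Modules.pushforward V.ι).obj L
  have hN : PicF.IsInvertible (N.restrict V.ι) :=
    ParaFDescLib.isInvertible_congr (asIso ((Scheme.Modules.restrictAdjunction V.ι).counit.app L)).symm hL
  let U₁ : Set X := {y | ∃ hy : y ∈ W, y ∈ V ∧ GenAt N s hy}
  have hopen : IsOpen U₁ := by
    refine isOpen_iff_forall_mem_open.2 fun y ⟨hy, hyV, hg⟩ => ?_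
    obtain ⟨O, hyO, hO, hgen⟩ := exists_nhd_genAt s hy hg (exists_genOn_open hN hyV)
    exact ⟨((O ⊓ V : X.Opens) : Set X), fun z hz => ⟨hO hz.1, hz.2, hgen z hz.1⟩, (O ⊓ V).isOpen, hyO, hyV⟩
  let U : X.Opens := W ⊓ V
  haveI : QuasiCompact U.ι := inferInstance
  let Z : Set (U : Scheme.{u}) := U.ι.base ⁻¹' U₁ᶜ
  have hx' : x ∉ closure (U.ι.base '' Z) := by
    intro hcl
    obtain ⟨z, hz, hzx⟩ := FFDescLib.exists_specializes_of_mem_closure_image U.ι
      (hopen.isClosed_compl.preimage U.ι.continuous) hcl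
    exact hz ⟨z.2.1, z.2.2, hs z.1 z.2.1 hzx⟩
  let O : X.Opens := W ⊓ ⟨(closure (U.ι.base '' Z))ᶜ, isClosed_closure.isOpen_compl⟩
  refine ⟨O, AmpleLib.res N inf_le_left s, ⟨hx, hx'⟩, fun T hT => ?_⟩
  have hgen : GenOn N (AmpleLib.res N ((inf_le_left : T ⊓ V ≤ T).trans (hT.trans inf_le_left)) s) :=
    TwistLib.genOn_of_genAt fun y hy => by
      rw [AmpleLib.genAt_res]
      have hy' : y ∈ U₁ := by
        by_contra h
        exact (hT hy.1).2 (subset_closure ⟨⟨y, (hT hy.1).1, hy.2⟩, h, rfl⟩)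
      exact hy'.2.2
  have h1 := hgen (T ⊓ V) le_rfl
  have e : AmpleLib.res N (inf_le_left : T ⊓ V ≤ T) ∘
      (fun r : Γ(X, T) => r • AmpleLib.res N hT (AmpleLib.res N inf_le_left s)) =
      (fun r : Γ(X, T ⊓ V) => r • AmpleLib.res N le_rfl
        (AmpleLib.res N ((inf_le_left : T ⊓ V ≤ T).trans (hT.trans inf_le_left)) s)) ∘
        X.presheaf.map (homOfLE (inf_le_left : T ⊓ V ≤ T)).op := funext fun r => by
    simp only [Function.comp_apply, AmpleLib.res_smul, AmpleLib.res_res]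
  refine (Function.Bijective.of_comp_iff' (bijective_push_res V L T) _).1 ?_
  exact e ▸ h1.comp (hinv T)

/-- Let φ : X′ → X be a flat and surjective morphism of locally Noetherian schemes, V ⊆ X an open
subscheme which is big, in the sense that the local ring of X at every point outside V has depth at
least 2, and L an invertible O_V-module. Then L extends to an invertible O_X-module (there is an
invertible M on X whose restriction to V is isomorphic to L) if and only if the pullback of L to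
φ⁻¹(V) extends to an invertible O_{X′}-module. -/
theorem result {X X' : Scheme.{u}}
    [IsLocallyNoetherian X] [IsLocallyNoetherian X'] (φ : X' ⟶ X) [Flat φ] [Surjective φ]
    (V : X.Opens) (hV : ∀ x : X, x ∉ V → 2 ≤ LocCoh.depth (X.presheaf.stalk x) (X.presheaf.stalk x))
    (L : (V : Scheme.{u}).Modules) (hL : PicF.IsInvertible L) :
    (∃ M : X.Modules, PicF.IsInvertible M ∧ Nonempty ((Scheme.Modules.pullback V.ι).obj M ≅ L)) ↔
      (∃ M' : X'.Modules, PicF.IsInvertible M' ∧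
        Nonempty ((Scheme.Modules.pullback (φ ⁻¹ᵁ V).ι).obj M' ≅ (Scheme.Modules.pullback (φ ∣_ V)).obj L)) := by
  constructor
  · rintro ⟨M, hM, ⟨e⟩⟩
    exact ⟨(Scheme.Modules.pullback φ).obj M, AmpleDevLib.isInvertible_pb φ hM,
      ⟨(Scheme.Modules.pullbackComp (φ ⁻¹ᵁ V).ι φ).app M ≪≫
        (Scheme.Modules.pullbackCongr (morphismRestrict_ι φ V).symm).app M ≪≫
        ((Scheme.Modules.pullbackComp (φ ∣_ V) V.ι).app M).symm ≪≫
        (Scheme.Modules.pullback (φ ∣_ V)).mapIso e⟩⟩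
  · rintro ⟨M', hM', ⟨e⟩⟩
    let N := (Scheme.Modules.pushforward V.ι).obj L
    have hd : ∀ x' : X', x' ∉ φ ⁻¹ᵁ V → (2 : ℕ∞) ≤ LocCoh.depth (X'.presheaf.stalk x') (X'.presheaf.stalk x') := by
      intro x' hx'
      letI := (φ.stalkMap x').hom.toAlgebra
      haveI : Module.Flat (X.presheaf.stalk (φ x')) (X'.presheaf.stalk x') := Flat.stalkMap φ x'
      haveI : IsLocalHom (algebraMap (X.presheaf.stalk (φ x')) (X'.presheaf.stalk x')) :=
        inferInstanceAs (IsLocalHom (φ.stalkMap x').hom)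
      exact depth_mono (hV (φ x') hx')
    obtain ⟨eφ⟩ := Groth.Agent.S17021.nonempty_pullback_push_iso φ V hd L hL M' hM' e
    have hN' : PicF.IsInvertible (pb φ N) := ParaFDescLib.isInvertible_congr eφ.symm hM'
    let eU : (Scheme.Modules.pullback V.ι).obj N ≅ L :=
      ((Scheme.Modules.restrictFunctorIsoPullback V.ι).app N).symm ≪≫
        asIso ((Scheme.Modules.restrictAdjunction V.ι).counit.app L)
    refine ⟨N, ?_, ⟨eU⟩⟩
    have hex : ∀ x : X, ∃ (O : X.Opens) (σ : Γ(N, O)), x ∈ O ∧ GenOn N σ := by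
      intro x
      obtain ⟨x', rfl⟩ := φ.surjective x
      obtain ⟨O', τ, hxO', hτ⟩ := TwistLib.exists_genOn hN' x'
      obtain ⟨W, s, hxW, -, hs⟩ := DescAppLib.exists_genAt_puSec φ hxO' (hτ.genAt hxO') ⊤ trivial
      obtain ⟨O₁, hxO₁, hO₁, hgen⟩ := exists_nhd_genAt (puSec φ s) (show x' ∈ φ ⁻¹ᵁ W from hxW) hs
        ⟨O', τ, hxO', hτ⟩
      refine exists_genOn_push V (PunctFEtLib.invisible_of_depth V hV) L hL s hxW fun y hy hyx => ?_
      obtain ⟨y', hy', rfl⟩ := (Flat.generalizingMap φ) hyx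
      exact DescAppLib.genAt_of_puSec φ hy (hgen y' (hy'.mem_open O₁.isOpen hxO₁))
    choose D σ hxD hσ using hex
    exact TwistLib.isInvertible_of_genOn D (fun x => ⟨x, hxD x⟩) σ hσ

end Groth.Agent.S14298
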