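import Groth.Statements.S14305
import Mathlib.Data.Fin.Tuple.Basic
import Mathlib.Tactic.Abel
import Mathlib.Algebra.BigOperators.Group.Finset.Powerset
import Mathlib.Tactic.Ring
import Mathlib.Algebra.BigOperators.Ring.Finset
import Mathlib.Algebra.Module.Basic
-- import your own Groth.Agent.* helpers here

set_option autoImplicit false
universe u v
open PtDeg

namespace Groth.Agent.S14305

variable {A : Type u} {G : Type v} [AddCommGroup A] [AddCommGroup G] (f : A → G)

/-- The iterated difference of `f` at `t`, over a finite set of increments. -/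
def G0 {ι : Type} (s : Finset ι) (x : ι → A) (t : A) : G :=
  ∑ I ∈ s.powerset, ((-1 : ℤ) ^ (s.card + I.card)) • f (t + ∑ i ∈ I, x i)

theorem G0_congr {ι : Type} (s : Finset ι) (x x' : ι → A) (h : ∀ i ∈ s, x i = x' i) {t : A} : G0 f s x t = G0 f s x' t :=
  Finset.sum_congr rfl fun I hI => by rw [Finset.sum_congr rfl fun i hi => h i (Finset.mem_powerset.1 hI hi)]

theorem G0_insert {ι : Type} [DecidableEq ι] (i : ι) (s : Finset ι) (x : ι → A) (hi : i ∉ s) {t : A} :
    G0 f (insert i s) x t = G0 f s x (t + x i) - G0 f s x t := by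
  rw [G0, Finset.sum_powerset_insert hi, Finset.card_insert_of_notMem hi, G0, G0, sub_eq_add_neg, ← Finset.sum_neg_distrib, add_comm]
  congr 1
  · refine Finset.sum_congr rfl fun I hI => ?_
    have hiI : i ∉ I := fun h => hi (Finset.mem_powerset.1 hI h)
    rw [Finset.card_insert_of_notMem hiI, Finset.sum_insert hiI, add_assoc t (x i)]
    congr 1
    ring
  · refine Finset.sum_congr rfl fun I _ => ?_
    rw [← neg_smul]
    congr 1
    ring

theorem G0_map {ι κ : Type} [DecidableEq ι] [DecidableEq κ] (e : ι ↪ κ) (x : κ → A) (s : Finset ι) :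
    ∀ {t : A}, G0 f (s.map e) x t = G0 f s (x ∘ e) t := by
  induction s using Finset.induction_on with
  | empty => intro t; simp [G0]
  | insert i s hi ih => intro t; rw [Finset.map_insert, G0_insert f _ _ _ (by simpa using hi), G0_insert f _ _ _ hi, ih, ih]; rfl


/-- Let A and G be abelian groups, written additively, f : A → G a map and n ≥ 1. For k ≥ 0 the k-th
deviation of f is the map A^k → G, (y_1, …, y_k) ↦ Σ_{∅ ≠ I ⊆ {1,…,k}} (−1)^{k+|I|} f(Σ_{i ∈ I}
y_i). Then f is pointed of degree n, meaning that its (n+1)-st deviation vanishes identically, if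
and only if its n-th deviation is additive in each variable separately (with the other variables
fixed). -/
theorem result {A : Type u} {G : Type v} [AddCommGroup A] [AddCommGroup G]
    (f : A → G) (n : ℕ) (hn : 1 ≤ n) :
    (∀ x : Fin (n + 1) → A, ∑ I ∈ ((Finset.univ : Finset (Fin (n + 1))).powerset.erase ∅), ((-1 : ℤ) ^ (n + 1 + I.card)) • f (∑ i ∈ I, x i) = 0) ↔
      (∀ (j : Fin n) (y : Fin n → A) (a b : A),
        ∑ I ∈ ((Finset.univ : Finset (Fin n)).powerset.erase ∅), ((-1 : ℤ) ^ (n + I.card)) • f (∑ i ∈ I, (Function.update y j (a + b)) i) =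
          ∑ I ∈ ((Finset.univ : Finset (Fin n)).powerset.erase ∅), ((-1 : ℤ) ^ (n + I.card)) • f (∑ i ∈ I, (Function.update y j a) i) + ∑ I ∈ ((Finset.univ : Finset (Fin n)).powerset.erase ∅), ((-1 : ℤ) ^ (n + I.card)) • f (∑ i ∈ I, (Function.update y j b) i)) := by
  classical
  let e : Fin n ↪ Fin (n + 1) := ⟨Fin.succ, Fin.succ_injective n⟩
  have hcard : ∀ (m : ℕ) (z : Fin m → A), G0 f Finset.univ z 0 =
      ∑ I ∈ ((Finset.univ : Finset (Fin m)).powerset.erase ∅), ((-1 : ℤ) ^ (m + I.card)) • f (∑ i ∈ I, z i) +
        ((-1 : ℤ) ^ m) • f 0 := fun m z => by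
    rw [G0, ← Finset.add_sum_erase _ _ (Finset.empty_mem_powerset _), add_comm]
    simp
  have hsplit : ∀ (j : Fin n) (y : Fin n → A) (a b : A),
      G0 f Finset.univ (Fin.cons a (Function.update y j b)) 0 =
        G0 f Finset.univ (Function.update y j (a + b)) 0 - G0 f Finset.univ (Function.update y j a) 0 -
          G0 f Finset.univ (Function.update y j b) 0 := by
    intro j y a b
    have hu : (Finset.univ : Finset (Fin (n + 1))) = insert 0 (Finset.univ.map e) := by
      ext i; cases i using Fin.cases <;> simp [e]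
    have hs : ∀ (c t : A), G0 f Finset.univ (Function.update y j c) t =
        G0 f (Finset.univ.erase j) y (t + c) - G0 f (Finset.univ.erase j) y t := fun c t => by
      conv_lhs => rw [← Finset.insert_erase (Finset.mem_univ j)]
      rw [G0_insert f _ _ _ (Finset.notMem_erase _ _), Function.update_self,
        G0_congr f (Finset.univ.erase j) (Function.update y j c) y (t := t + c) (fun i hi => Function.update_of_ne (Finset.ne_of_mem_erase hi) _ _),
        G0_congr f (Finset.univ.erase j) (Function.update y j c) y (t := t) (fun i hi => Function.update_of_ne (Finset.ne_of_mem_erase hi) _ _)]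
    rw [hu, G0_insert f _ _ _ (by simp [e, Fin.succ_ne_zero]), G0_map, G0_map, Fin.cons_zero, zero_add,
      show (Fin.cons a (Function.update y j b) : Fin (n + 1) → A) ∘ e = Function.update y j b from
        funext fun i => Fin.cons_succ _ _ _,
      hs, hs, hs, hs, zero_add, zero_add, zero_add]
    abel
  have key : ∀ (j : Fin n) (y : Fin n → A) (a b : A),
      ∑ I ∈ ((Finset.univ : Finset (Fin (n + 1))).powerset.erase ∅), ((-1 : ℤ) ^ (n + 1 + I.card)) • f (∑ i ∈ I, (Fin.cons a (Function.update y j b) : Fin (n + 1) → A) i) =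
      ∑ I ∈ ((Finset.univ : Finset (Fin n)).powerset.erase ∅), ((-1 : ℤ) ^ (n + I.card)) • f (∑ i ∈ I, (Function.update y j (a + b)) i) -
        ∑ I ∈ ((Finset.univ : Finset (Fin n)).powerset.erase ∅), ((-1 : ℤ) ^ (n + I.card)) • f (∑ i ∈ I, (Function.update y j a) i) -
        ∑ I ∈ ((Finset.univ : Finset (Fin n)).powerset.erase ∅), ((-1 : ℤ) ^ (n + I.card)) • f (∑ i ∈ I, (Function.update y j b) i) := fun j y a b => by
    have h := hsplit j y a b
    rw [hcard, hcard, hcard, hcard, pow_succ, mul_neg_one, neg_smul] at h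
    rw [eq_sub_of_add_eq h]
    abel
  constructor
  · intro h j y a b
    have := key j y a b
    rw [h] at this
    rw [eq_comm, sub_sub, sub_eq_zero] at this
    exact this
  · intro h x
    let j : Fin n := ⟨0, hn⟩
    have := key j (Fin.tail x) (x 0) (Fin.tail x j)
    rw [h j (Fin.tail x) (x 0) (Fin.tail x j)] at this
    simp only [Function.update_eq_self, Fin.cons_self_tail] at this
    rw [this]
    abel

end Groth.Agent.S14305
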