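import Groth.Statements.S1431
import Groth.Agent.SeesawLib.Main
import Groth.Agent.MiscFlat6.LRSConn

set_option autoImplicit false
universe u
open FlatMor

namespace Groth.Agent.S1431

open AlgebraicGeometry CategoryTheory Limits in
/-- Let f : X → S be flat, proper and of finite presentation such that for every base change p : X_T → T
the map O_T → p_* O_{X_T} is an isomorphism, and let E be a finite locally free O_X-module. Then
some immersion j : Z → S of finite presentation has the property that a morphism g : T → S factors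
through j exactly when the pullback of E to X_T is isomorphic to the pullback along p of some finite
locally free O_T-module. -/
theorem result {X S : Scheme.{u}} (f : X ⟶ S) [Flat f] [IsProper f] [LocallyOfFinitePresentation f]
    (hO : ∀ (T : Scheme.{u}) (g : T ⟶ S) (U : T.Opens), IsIso ((pullback.snd f g).app U))
    (E : X.Modules) (hE : FlatMod.IsFinLocFree E) :
    ∃ (Z : Scheme.{u}) (j : Z ⟶ S), IsImmersion j ∧ LocallyOfFinitePresentation j ∧
      ∀ (T : Scheme.{u}) (g : T ⟶ S), (∃ g' : T ⟶ Z, g' ≫ j = g) ↔
        ∃ N : T.Modules, FlatMod.IsFinLocFree N ∧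
          Nonempty ((Scheme.Modules.pullback (pullback.snd f g)).obj N ≅ (Scheme.Modules.pullback (pullback.fst f g)).obj E) := by
  have huniv : CubeLib.UnivO f := CubeLib.univO_of_app hO
  -- functions on a fibre form the residue field
  have key : ∀ s : S, Function.Bijective ((f.fiberToSpecResidueField s).appTop.hom) := fun s => by
    haveI : IsIso (f.fiberToSpecResidueField s).appTop := hO _ (S.fromSpecResidueField s) ⊤
    exact ConcreteCategory.bijective_of_isIso _
  haveI : Surjective f := ⟨fun s => by
    have hne : Nonempty ↥(f.fiber s) := by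
      by_contra h
      haveI : IsEmpty ↥(f.fiber s) := not_nonempty_iff.mp h
      haveI : Subsingleton Γ(f.fiber s, ⊤) := ⟨fun a b => TopCat.Presheaf.section_ext (f.fiber s).sheaf ⊤ a b fun x _ => isEmptyElim x⟩
      exact not_subsingleton Γ(Spec (S.residueField s), ⊤) ((key s).1.subsingleton)
    obtain ⟨x⟩ := hne
    exact ⟨(f.fiberι s).base x, by
      have := Scheme.Hom.range_fiberι f s
      have hx : (f.fiberι s).base x ∈ Set.range (f.fiberι s).base := ⟨x, rfl⟩
      rw [this] at hx
      exact hx⟩⟩
  have hconn : ∀ s, PreconnectedSpace (f.fiber s) := fun s => by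
    refine (MiscFlat6.preconnectedSpace_iff_idempotent (f.fiber s).toLocallyRingedSpace).mpr fun e he => ?_
    obtain ⟨a, ha⟩ := (key s).2 e
    let ι := (Scheme.ΓSpecIso (S.residueField s)).hom.hom
    have hae : IsIdempotentElem a := (key s).1 (by rw [map_mul, ha]; exact he)
    rcases IsIdempotentElem.iff_eq_zero_or_one.mp (hae.map ι) with h0 | h1
    · left
      have : a = 0 := (ConcreteCategory.bijective_of_isIso (Scheme.ΓSpecIso (S.residueField s)).hom).1
        (h0.trans (map_zero ι).symm)
      rw [← ha, this, map_zero]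
    · right
      have : a = 1 := (ConcreteCategory.bijective_of_isIso (Scheme.ΓSpecIso (S.residueField s)).hom).1
        (h1.trans (map_one ι).symm)
      rw [← ha, this, map_one]
  obtain ⟨Z, ι, h1, h2, -, h4, -⟩ := SeesawLib.exists_seesaw huniv hconn hE
  exact ⟨Z, ι, h1, h2, fun T g => (h4 T g).trans
    ⟨fun ⟨M, hM, ⟨e⟩⟩ => ⟨M, hM, ⟨e.symm⟩⟩, fun ⟨M, hM, ⟨e⟩⟩ => ⟨M, hM, ⟨e.symm⟩⟩⟩⟩

end Groth.Agent.S1431
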