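import Groth.Statements.S14310
import Groth.Agent.ArSingLib.Double

set_option autoImplicit false
universe u
open ArSing

namespace Groth.Agent.S14310

/-- Let k be an algebraically closed field, f a polynomial in two variables x = X_0, y = X_1 over k, and
a a point of k². The quotient of the power series ring k[[x,y]] by the polynomial f recentred at a
(which is the completed local ring at a of the plane curve f = 0) is isomorphic as a k-algebra to
k[[x,y]]/(y^2) if and only if f = g^2 h for polynomials g and h with h(a) ≠ 0, g(a) = 0 and some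
first partial derivative of g non-zero at a. (The published statement asks for the component through
a to be the square of a smooth plane curve; only smoothness at a matters and is what is stated here
— for the square of a nodal cubic the completed local ring at a smooth point of the cubic is still
k[[x,y]]/(y^2). No hypothesis on the characteristic of k is imposed; the published setting assumes a
characteristic different from 2, 3, 5 and 7, which the argument does not use.) -/
theorem result
    {k : Type u} [Field k] [IsAlgClosed k] (f : MvPolynomial (Fin 2) k) (a : Fin 2 → k) :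
    Nonempty ((MvPowerSeries (Fin 2) k ⧸ Ideal.span
        ({(MvPolynomial.aeval (fun i : Fin 2 => MvPolynomial.X i + MvPolynomial.C (a i)) f).toMvPowerSeries} :
          Set (MvPowerSeries (Fin 2) k))) ≃ₐ[k]
      (MvPowerSeries (Fin 2) k ⧸ Ideal.span ({MvPowerSeries.X 1 ^ 2} : Set (MvPowerSeries (Fin 2) k)))) ↔
    ∃ g h : MvPolynomial (Fin 2) k, f = g ^ 2 * h ∧ MvPolynomial.eval a h ≠ 0 ∧ MvPolynomial.eval a g = 0 ∧
      ∃ i : Fin 2, MvPolynomial.eval a (MvPolynomial.pderiv i g) ≠ 0 := by
  classical
  change Nonempty ((MvPowerSeries (Fin 2) k ⧸ Ideal.span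
      ({ArSingLib.toPS (ArSingLib.shift a f)} : Set (MvPowerSeries (Fin 2) k))) ≃ₐ[k]
      (MvPowerSeries (Fin 2) k ⧸ Ideal.span ({MvPowerSeries.X 1 ^ 2} : Set (MvPowerSeries (Fin 2) k)))) ↔ _
  have hinv : ∀ p, ArSingLib.shift a (ArSingLib.shift (fun i => -a i) p) = p := fun p => by
    have : (ArSingLib.shift a).comp (ArSingLib.shift fun i => -a i) = AlgHom.id k _ :=
      MvPolynomial.algHom_ext fun i => by simp [ArSingLib.shift]
    exact AlgHom.congr_fun this p
  have hinj : Function.Injective (ArSingLib.shift a) := by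
    refine Function.LeftInverse.injective (g := ArSingLib.shift fun i => -a i) fun p => ?_
    have : (ArSingLib.shift fun i => -a i).comp (ArSingLib.shift a) = AlgHom.id k _ :=
      MvPolynomial.algHom_ext fun i => by simp [ArSingLib.shift]
    exact AlgHom.congr_fun this p
  have hev : ∀ p, MvPowerSeries.constantCoeff (ArSingLib.toPS (ArSingLib.shift a p)) = MvPolynomial.eval a p :=
    fun p => by rw [ArSingLib.constantCoeff_toPS, ArSingLib.constantCoeff_shift]
  have hd1 : ∀ (i : Fin 2) (p : MvPolynomial (Fin 2) k),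
      MvPolynomial.eval a (MvPolynomial.pderiv i p) =
        MvPowerSeries.coeff (Finsupp.single i 1) (ArSingLib.toPS (ArSingLib.shift a p)) := by
    intro i p
    rw [← ArSingLib.constantCoeff_shift, ← ArSingLib.pderiv_shift, MvPolynomial.constantCoeff_eq,
      MvPolynomial.coeff_pderiv]
    simp [ArSingLib.toPS]
  constructor
  · rintro ⟨e⟩
    obtain ⟨E, hE⟩ := ArSingLib.rel_of_equiv ArSingLib.X1sq_low e
    set F0 := ArSingLib.shift a f
    set S := E.symm (MvPowerSeries.X 1) with hS_def
    have hS : Prime S := by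
      rw [hS_def]
      exact (MulEquiv.prime_iff E.symm.toMulEquiv).2 ArSingLib.prime_X1
    have : IsDomain (MvPowerSeries (Fin 2) k) := NoZeroDivisors.to_isDomain _
    obtain ⟨U, hU⟩ := Ideal.span_singleton_eq_span_singleton.1 hE.symm
    have hFS : ArSingLib.toPS F0 = S ^ 2 * E.symm (U : MvPowerSeries (Fin 2) k) := by
      have := congrArg E.symm hU
      rw [AlgEquiv.symm_apply_apply, map_mul, map_pow] at this
      exact this.symm
    have hUu : IsUnit (E.symm (U : MvPowerSeries (Fin 2) k)) := U.isUnit.map E.symm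
    have hF0 : F0 ≠ 0 := fun h => by
      rw [h, map_zero] at hFS
      exact mul_ne_zero (pow_ne_zero 2 hS.ne_zero) hUu.ne_zero hFS.symm
    obtain ⟨π, hπ, hQ⟩ := ArSingLib.comap_span_eq hS hF0 ⟨S * E.symm (U : MvPowerSeries (Fin 2) k), by rw [hFS]; ring⟩
    have hmem : ∀ p, S ∣ ArSingLib.toPS p ↔ π ∣ p := fun p => by
      rw [← Ideal.mem_span_singleton, ← Ideal.mem_comap, hQ, Ideal.mem_span_singleton]
    obtain ⟨T, hT⟩ := (hmem π).2 dvd_rfl
    have hST : ¬ S ∣ T := by
      rintro ⟨T', rfl⟩
      refine ArSingLib.not_prime_of_pderiv (fun i => ArSingLib.pderiv_eq_zero_of_dvd ((hmem _).1 ?_)) hπ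
      have : ArSingLib.toPS (MvPolynomial.pderiv i π) = MvPowerSeries.pderiv k i (ArSingLib.toPS π) :=
        (MvPowerSeries.pderiv_coe π).symm
      rw [this, hT, Derivation.leibniz, Derivation.leibniz, smul_eq_mul, smul_eq_mul, smul_eq_mul, smul_eq_mul]
      exact dvd_add (dvd_mul_right _ _) (dvd_mul_of_dvd_left (dvd_mul_right _ _) _)
    obtain ⟨m, h, hnd, hF0eq⟩ := WfDvdMonoid.max_power_factor hF0 hπ.irreducible
    have hSh : ¬ S ∣ ArSingLib.toPS h := fun hh => hnd ((hmem h).1 hh)
    have hm : m = 2 := by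
      have heq := congrArg ArSingLib.toPS hF0eq
      rw [map_mul, map_pow, hT, mul_pow, hFS] at heq
      by_contra hm
      rcases (show m = 0 ∨ m = 1 ∨ 3 ≤ m by omega) with rfl | rfl | hm3
      · exact hSh ⟨S * E.symm (U : MvPowerSeries (Fin 2) k), by
          rw [pow_zero, pow_zero, one_mul, one_mul] at heq
          rw [← heq]; ring⟩
      · have : T * ArSingLib.toPS h = S * E.symm (U : MvPowerSeries (Fin 2) k) :=
          mul_left_cancel₀ hS.ne_zero (by rw [pow_one, pow_one] at heq; linear_combination -heq)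
        rcases hS.dvd_or_dvd (Dvd.intro _ this.symm) with h1 | h1
        exacts [hST h1, hSh h1]
      · obtain ⟨m', rfl⟩ := Nat.exists_eq_add_of_le hm3
        have : E.symm (U : MvPowerSeries (Fin 2) k) = S * (S ^ m' * T ^ (3 + m') * ArSingLib.toPS h) :=
          mul_left_cancel₀ (pow_ne_zero 2 hS.ne_zero) (by rw [heq]; ring)
        exact hS.not_isUnit (isUnit_of_dvd_unit (Dvd.intro _ this.symm) hUu)
    subst hm
    have hU2 : E.symm (U : MvPowerSeries (Fin 2) k) = T * (T * ArSingLib.toPS h) := by
      have heq := congrArg ArSingLib.toPS hF0eq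
      rw [map_mul, map_pow, hT, hFS] at heq
      exact mul_left_cancel₀ (pow_ne_zero 2 hS.ne_zero) (by rw [heq]; ring)
    rw [hU2] at hUu
    have hTu : IsUnit T := isUnit_of_mul_isUnit_left hUu
    have hhu : IsUnit (ArSingLib.toPS h) := isUnit_of_mul_isUnit_right (isUnit_of_mul_isUnit_right hUu)
    have hS0 : MvPowerSeries.constantCoeff S = 0 := by
      by_contra hh
      exact hS.not_isUnit (MvPowerSeries.isUnit_iff_constantCoeff.2 (isUnit_iff_ne_zero.2 hh))
    refine ⟨ArSingLib.shift (fun i => -a i) π, ArSingLib.shift (fun i => -a i) h, hinj ?_, ?_, ?_, ?_⟩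
    · rw [map_mul, map_pow, hinv, hinv]; exact hF0eq
    · rw [← hev, hinv]
      rw [MvPowerSeries.isUnit_iff_constantCoeff, isUnit_iff_ne_zero] at hhu
      exact hhu
    · rw [← hev, hinv, hT, map_mul, hS0, zero_mul]
    · by_contra hh
      push Not at hh
      have hlow : ArSingLib.toPS π ∈ MorseLib.Low (n := 2) (⊥ : Ideal k) 2 := by
        refine ArSingLib.low_two_iff.2 ⟨by rw [hT, map_mul, hS0, zero_mul], ?_, ?_⟩
        · rw [← hinv π, ← hd1]; exact hh 0
        · rw [← hinv π, ← hd1]; exact hh 1
      obtain ⟨Ti, hTi⟩ := hTu.exists_right_inv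
      have hSlow : S ∈ MorseLib.Low (n := 2) (⊥ : Ideal k) 2 := by
        rw [show S = ArSingLib.toPS π * Ti by rw [hT, mul_assoc, hTi, mul_one]]
        exact Ideal.mul_mem_right _ _ hlow
      have hrel : ArSingLib.Rel S (MvPowerSeries.X 1 : MvPowerSeries (Fin 2) k) :=
        ⟨E, by rw [hS_def, AlgEquiv.apply_symm_apply]⟩
      have := (ArSingLib.low_two_iff.1 (hrel.low hSlow)).2.2
      simp [MvPowerSeries.coeff_X] at this
  · rintro ⟨g, h, rfl, hh, hg, i, hi⟩
    set G := ArSingLib.toPS (ArSingLib.shift a g)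
    have hG0 : MvPowerSeries.constantCoeff G = 0 := by rw [hev]; exact hg
    have hG2 : G ∉ MorseLib.Low (n := 2) (⊥ : Ideal k) 2 := fun hl => by
      refine hi ?_
      rw [hd1]
      exact MorseLib.mem_Low_bot.1 hl _ (by simp)
    have hX : (MvPowerSeries.X 1 : MvPowerSeries (Fin 2) k) ∉ MorseLib.Low (n := 2) (⊥ : Ideal k) 2 := fun hl => by
      have := (ArSingLib.low_two_iff.1 hl).2.2
      simp [MvPowerSeries.coeff_X] at this
    obtain ⟨E, hE⟩ := (ArSingLib.rel_smooth hG0 hG2).symm.trans
      (ArSingLib.rel_smooth (MvPowerSeries.constantCoeff_X 1) hX)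
    refine ArSingLib.Rel.nonempty_equiv ⟨E, ?_⟩
    have hu : IsUnit (E (ArSingLib.toPS (ArSingLib.shift a h))) := by
      refine IsUnit.map E ?_
      rw [MvPowerSeries.isUnit_iff_constantCoeff, isUnit_iff_ne_zero, hev]
      exact hh
    rw [map_mul (ArSingLib.shift a), map_pow (ArSingLib.shift a), map_mul ArSingLib.toPS, map_pow ArSingLib.toPS,
      map_mul E, map_pow E, Ideal.span_singleton_mul_right_unit hu, ← Ideal.span_singleton_pow, hE,
      Ideal.span_singleton_pow]

end Groth.Agent.S14310
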