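import Groth.Statements.S14311
import Groth.Agent.ArSingLib.Classify

set_option autoImplicit false
universe u
open ArSing

namespace Groth.Agent.S14311

/-- Let k be an algebraically closed field in which 2 ≠ 0, f a polynomial in x = X_0, y = X_1 over k and
a a zero of f in k². Then the gradient and all second partial derivatives of f vanish at a if and
only if the completed local ring k[[x,y]]/(f recentred at a) of the plane curve f = 0 at a is
isomorphic as a k-algebra neither to k[[x,y]]/(y^2 - x^(n+1)) for any natural number n nor to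
k[[x,y]]/(y^2). (Here n = 0, a smooth point, is allowed; with n ≥ 1 only, as in the published
definition of an A-singularity, the equivalence fails at smooth points of the curve. Only 2 ≠ 0 is
assumed of the characteristic; the published setting assumes a characteristic different from 2, 3, 5
and 7.) -/
theorem result
    {k : Type u} [Field k] [IsAlgClosed k] (h2 : (2 : k) ≠ 0) (f : MvPolynomial (Fin 2) k) (a : Fin 2 → k)
    (hfa : MvPolynomial.eval a f = 0) :
    ((∀ i : Fin 2, MvPolynomial.eval a (MvPolynomial.pderiv i f) = 0) ∧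
      ∀ i j : Fin 2, MvPolynomial.eval a (MvPolynomial.pderiv i (MvPolynomial.pderiv j f)) = 0) ↔
    ¬ ((∃ n : ℕ, Nonempty ((MvPowerSeries (Fin 2) k ⧸ Ideal.span
        ({(MvPolynomial.aeval (fun i : Fin 2 => MvPolynomial.X i + MvPolynomial.C (a i)) f).toMvPowerSeries} :
          Set (MvPowerSeries (Fin 2) k))) ≃ₐ[k] ArSing.ring k n)) ∨
        Nonempty ((MvPowerSeries (Fin 2) k ⧸ Ideal.span
        ({(MvPolynomial.aeval (fun i : Fin 2 => MvPolynomial.X i + MvPolynomial.C (a i)) f).toMvPowerSeries} :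
          Set (MvPowerSeries (Fin 2) k))) ≃ₐ[k]
          (MvPowerSeries (Fin 2) k ⧸ Ideal.span ({MvPowerSeries.X 1 ^ 2} : Set (MvPowerSeries (Fin 2) k))))) := by
  classical
  change _ ↔ ¬ ((∃ n : ℕ, Nonempty ((MvPowerSeries (Fin 2) k ⧸ Ideal.span
      ({((ArSingLib.shift a f : MvPolynomial (Fin 2) k) : MvPowerSeries (Fin 2) k)} : Set _)) ≃ₐ[k] ArSing.ring k n)) ∨
      Nonempty ((MvPowerSeries (Fin 2) k ⧸ Ideal.span
      ({((ArSingLib.shift a f : MvPolynomial (Fin 2) k) : MvPowerSeries (Fin 2) k)} : Set _)) ≃ₐ[k]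
        (MvPowerSeries (Fin 2) k ⧸ Ideal.span ({MvPowerSeries.X 1 ^ 2} : Set (MvPowerSeries (Fin 2) k)))))
  set F : MvPowerSeries (Fin 2) k := ((ArSingLib.shift a f : MvPolynomial (Fin 2) k) : MvPowerSeries (Fin 2) k) with hF
  have h0 : MvPowerSeries.constantCoeff F = 0 := by
    rw [hF, ← MvPowerSeries.coeff_zero_eq_constantCoeff_apply, MvPolynomial.coeff_coe,
      ← MvPolynomial.constantCoeff_eq, ArSingLib.constantCoeff_shift, hfa]
  have hd1 : ∀ (i : Fin 2) (p : MvPolynomial (Fin 2) k),
      MvPolynomial.eval a (MvPolynomial.pderiv i p) = MvPolynomial.coeff (Finsupp.single i 1) (ArSingLib.shift a p) := by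
    intro i p
    rw [← ArSingLib.constantCoeff_shift, ← ArSingLib.pderiv_shift, MvPolynomial.constantCoeff_eq,
      MvPolynomial.coeff_pderiv]
    simp
  have hd2 : ∀ (i j : Fin 2), MvPolynomial.eval a (MvPolynomial.pderiv i (MvPolynomial.pderiv j f)) =
      MvPolynomial.coeff (Finsupp.single i 1 + Finsupp.single j 1) (ArSingLib.shift a f) *
        (((Finsupp.single i 1 : Fin 2 →₀ ℕ) j : k) + 1) := by
    intro i j
    rw [hd1, ← ArSingLib.pderiv_shift, MvPolynomial.coeff_pderiv]
  have e00 : Finsupp.single (0 : Fin 2) 1 + Finsupp.single 0 1 = ArSingLib.ex 2 0 := by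
    ext i; fin_cases i <;> simp [ArSingLib.ex]
  have e01 : Finsupp.single (0 : Fin 2) 1 + Finsupp.single 1 1 = ArSingLib.ex 1 1 := by
    ext i; fin_cases i <;> simp [ArSingLib.ex]
  have e11 : Finsupp.single (1 : Fin 2) 1 + Finsupp.single 1 1 = ArSingLib.ex 0 2 := by
    ext i; fin_cases i <;> simp [ArSingLib.ex]
  have key : ((∀ i : Fin 2, MvPolynomial.eval a (MvPolynomial.pderiv i f) = 0) ∧
      ∀ i j : Fin 2, MvPolynomial.eval a (MvPolynomial.pderiv i (MvPolynomial.pderiv j f)) = 0) ↔
      F ∈ MorseLib.Low (n := 2) (⊥ : Ideal k) 3 := by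
    rw [ArSingLib.low_three_iff, ArSingLib.low_two_iff]
    simp only [hF, MvPolynomial.coeff_coe] at h0 ⊢
    constructor
    · rintro ⟨h1, h3⟩
      have a00 := h3 0 0
      have a01 := h3 0 1
      have a11 := h3 1 1
      simp [hd2, e00, e01, e11, one_add_one_eq_two, h2] at a00 a01 a11
      exact ⟨⟨h0, by rw [← hd1]; exact h1 0, by rw [← hd1]; exact h1 1⟩, a00, a01, a11⟩
    · rintro ⟨⟨-, h1, h1'⟩, a00, a01, a11⟩
      refine ⟨fun i => ?_, fun i j => ?_⟩
      · rw [hd1]
        fin_cases i
        exacts [h1, h1']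
      · rw [hd2]
        fin_cases i <;> fin_cases j <;>
          simp [e00, e01, e11, add_comm (Finsupp.single (1 : Fin 2) 1) (Finsupp.single 0 1), a00, a01, a11]
  rw [key]
  constructor
  · intro hF3 h
    rcases h with ⟨n, ⟨e⟩⟩ | e
    · have := ((ArSingLib.rel_of_equiv (MorseLib.Low_anti (by omega) hF3) e.symm).symm.low hF3)
      have h' := (ArSingLib.low_three_iff.1 this).2.2.2
      exact ArSingLib.eqn2 (r := n) (by rwa [show (ArSingLib.ex 0 2) = Finsupp.single (1 : Fin 2) 2 by simp [ArSingLib.ex]] at h')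
    · obtain ⟨e⟩ := e
      have := ((ArSingLib.rel_of_equiv (MorseLib.Low_anti (by omega) hF3) e.symm).symm.low hF3)
      have h' := (ArSingLib.low_three_iff.1 this).2.2.2
      rw [show (ArSingLib.ex 0 2) = Finsupp.single (1 : Fin 2) 2 by simp [ArSingLib.ex], MvPowerSeries.coeff_X_pow,
        if_pos rfl] at h'
      exact one_ne_zero h'
  · intro h
    by_contra hF3
    rcases ArSingLib.classify h2 h0 hF3 with ⟨n, hn⟩ | hy
    · exact h (Or.inl ⟨n, hn.nonempty_equiv⟩)
    · exact h (Or.inr hy.nonempty_equiv)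

end Groth.Agent.S14311
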