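import Groth.Statements.S14313
import Mathlib
import Groth.Agent.SurfAmpleLib.QNef
import Groth.Agent.S2122
-- import your own Groth.Agent.* helpers here

set_option autoImplicit false
universe u
open CategoryTheory CategoryTheory.Limits AlgebraicGeometry TopologicalSpace
open Surf

namespace Groth.Agent.S14313

/-- Let k be an algebraically closed field, S a smooth projective surface over k (integral, proper and
smooth over k, of dimension 2), f : S → C a surjective k-morphism onto a smooth projective curve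
(integral, proper and smooth over k, of dimension 1) and F = f⁻¹(p) the fibre over a closed point p,
with O_S(F) a tensor inverse of its ideal sheaf. Let D be a divisor (L = O_S(D) an invertible
module), Z_1 ≥ Z_2 ≥ ⋯ ≥ Z_n ≥ Z_{n+1} = 0 effective Cartier divisors (ideal sheaves I_1 ⊆ I_2 ⊆ ⋯ ⊆
I_{n+1} = O_S) and μ_1 > μ_2 > ⋯ > μ_n > μ_{n+1} = 0 rational numbers such that every N_i = D − Z_i
− μ_i F (1 ≤ i ≤ n + 1) is a nef ℚ-divisor: (D·Γ) − (Z_i·Γ) − μ_i (F·Γ) ≥ 0 for every integral curve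
Γ ⊆ S, where (L·Γ) = χ(O_Γ ⊗ L) − χ(O_Γ) and (Z_i·Γ) = −(I_i·Γ). Put d_i = N_i·F = (D·F) − (Z_i·F) −
μ_i (F·F). Then D² ≥ Σ_{i=1}^{n} (d_i + d_{i+1})(μ_i − μ_{i+1}); here (L·M) = χ(O_S) − χ(L) − χ(M) +
χ(L ⊗ M) for invertible L, M, packaged as FGA.intNum. (Indices run over Fin (n+1), position i
standing for i + 1.) (The published statement is for the chapter's fibration, with connected fibres,
semi-stable and relatively minimal, over an algebraically closed field of positive characteristic;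
this row asks only that f be surjective and allows any algebraically closed field.) -/
theorem result (k : Type u) [Field k] [IsAlgClosed k]
    (S : Scheme.{u}) [S.Over (Spec (CommRingCat.of k))] [IsProper (S ↘ (Spec (CommRingCat.of k)))]
    [Smooth (S ↘ (Spec (CommRingCat.of k)))] [IsIntegral S] (hdim : topologicalKrullDim S = 2)
    (C : Scheme.{u}) [C.Over (Spec (CommRingCat.of k))] [IsProper (C ↘ (Spec (CommRingCat.of k)))]
    [Smooth (C ↘ (Spec (CommRingCat.of k)))] [IsIntegral C] (hdimC : topologicalKrullDim C = 1)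
    (f : S ⟶ C) [f.IsOver (Spec (CommRingCat.of k))] [Surjective f]
    (p : C) (hp : IsClosed ({p} : Set C))
    (LF : S.Modules) (hLF : ClSub.IsInverseOf LF (ClSub.idealMod (f.fiberι p).ker))
    (L : S.Modules) (hL : PicF.IsInvertible L)
    (n : ℕ) (Z : Fin (n + 1) → S.IdealSheafData) (hZ : ∀ i, FGA.IsEffCartier (Z i))
    (hZmono : Monotone Z) (hZlast : Z (Fin.last n) = ⊤)
    (μ : Fin (n + 1) → ℚ) (hμ : StrictAnti μ) (hμlast : μ (Fin.last n) = 0)
    (hnef : ∀ (i : Fin (n + 1)) (Γ : S.IdealSheafData), IsIntegral Γ.subscheme →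
      topologicalKrullDim (Γ.support : Set S) = 1 →
      (0 : ℚ) ≤ ((Curv2.euler k S (CohB1.tensorMod (ClSub.quotMod Γ) L) - Curv2.euler k S (ClSub.quotMod Γ)) : ℚ) + ((Curv2.euler k S (CohB1.tensorMod (ClSub.quotMod Γ) (ClSub.idealMod (Z i))) - Curv2.euler k S (ClSub.quotMod Γ)) : ℚ)
        - μ i * ((Curv2.euler k S (CohB1.tensorMod (ClSub.quotMod Γ) LF) - Curv2.euler k S (ClSub.quotMod Γ)) : ℚ)) :
    (Finset.univ.sum fun i : Fin n =>
        (((FGA.intNum k S 2 ![L, LF] (Coh.structureModule S) : ℚ) + (FGA.intNum k S 2 ![ClSub.idealMod (Z i.castSucc), LF] (Coh.structureModule S) : ℚ) - μ i.castSucc * (FGA.intNum k S 2 ![LF, LF] (Coh.structureModule S) : ℚ))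
          + ((FGA.intNum k S 2 ![L, LF] (Coh.structureModule S) : ℚ) + (FGA.intNum k S 2 ![ClSub.idealMod (Z i.succ), LF] (Coh.structureModule S) : ℚ) - μ i.succ * (FGA.intNum k S 2 ![LF, LF] (Coh.structureModule S) : ℚ)))
        * (μ i.castSucc - μ i.succ)) ≤ (FGA.intNum k S 2 ![L, L] (Coh.structureModule S) : ℚ) := by
  have hX : topologicalKrullDim S = ((2 : ℕ) : WithBot ℕ∞) := hdim
  haveI := CurvLib.isNoetherian k (X := S)
  let IF := ClSub.idealMod (f.fiberι p).ker
  obtain ⟨eF⟩ := hLF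
  have hLFi : PicF.IsInvertible LF := Groth.Agent.S2122.result LF IF eF
  have hIFi : PicF.IsInvertible IF := Groth.Agent.S2122.result IF LF (HilbPolyLib.swapIso IF LF ≪≫ eF)
  let I := fun i => ClSub.idealMod (Z i)
  have hI : ∀ i, PicF.IsInvertible (I i) := fun i => IntMultLib.isInvertible_idealMod (Z i) (hZ i)
  have hμ0 : ∀ i, 0 ≤ μ i := fun i => hμlast ▸ hμ.antitone (Fin.le_last i)
  simp only [SurfNumLib.intNum_eq_pr hX.le]
  let T : Fin (n + 1) → Fin 3 → S.Modules := fun i => ![L, I i, LF]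
  let cf : Fin (n + 1) → Fin 3 → ℚ := fun i => ![1, 1, -μ i]
  have hT : ∀ i j, PicF.IsInvertible (T i j) := fun i j => by
    fin_cases j
    · exact hL
    · exact hI i
    · exact hLFi
  have hcurve : ∀ (i : Fin (n + 1)) (x : S), topologicalKrullDim (closure ({x} : Set S)) = ((1 : ℕ) : WithBot ℕ∞) →
      0 ≤ (IntFunLib.N k [L] (IntFunLib.Fpt x) : ℚ) + (IntFunLib.N k [I i] (IntFunLib.Fpt x) : ℚ) -
        μ i * (IntFunLib.N k [LF] (IntFunLib.Fpt x) : ℚ) := fun i x hx => by
    haveI := IntMultLib.isIntegral_ptIdeal x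
    have h := hnef i (IntMultLib.ptIdeal x) inferInstance (by rw [IntFunLib.dim_ptIdeal, hx, Nat.cast_one])
    have hN : ∀ M : S.Modules, (IntFunLib.N k [M] (IntFunLib.Fpt x) : ℚ) =
        (Curv2.euler k S (CohB1.tensorMod (ClSub.quotMod (IntMultLib.ptIdeal x)) M) : ℚ) -
          (Curv2.euler k S (ClSub.quotMod (IntMultLib.ptIdeal x)) : ℚ) := fun M => by
      rw [IntFunLib.N, IntFunLib.N, IntFunLib.N, CurvLib.euler_congr (HilbPolyLib.swapIso (ClSub.quotMod (IntMultLib.ptIdeal x)) M)]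
      push_cast
      rfl
    rw [hN, hN, hN]
    exact h
  let Q : Fin (n + 1) → ℚ := fun i => (HodgeIdxLib.pr k L L : ℚ) + 2 * (HodgeIdxLib.pr k L (I i) : ℚ) + (HodgeIdxLib.pr k (I i) (I i) : ℚ)
    - 2 * μ i * ((HodgeIdxLib.pr k L LF : ℚ) + (HodgeIdxLib.pr k (I i) LF : ℚ)) + μ i ^ 2 * (HodgeIdxLib.pr k LF LF : ℚ)
  let d : Fin (n + 1) → ℚ := fun i => (HodgeIdxLib.pr k L LF : ℚ) + (HodgeIdxLib.pr k (I i) LF : ℚ) - μ i * (HodgeIdxLib.pr k LF LF : ℚ)
  have hstep : ∀ i : Fin n, (d i.castSucc + d i.succ) * (μ i.castSucc - μ i.succ) ≤ Q i.succ - Q i.castSucc := fun i => by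
    obtain ⟨R, hR, hRe⟩ := SurfAmpleLib.exists_eq_mul (hZ i.castSucc) (hZ i.succ) (hZmono Fin.castSucc_lt_succ.le)
    have hadd : ∀ M : S.Modules, PicF.IsInvertible M → (HodgeIdxLib.pr k (I i.castSucc) M : ℚ) =
        (HodgeIdxLib.pr k (I i.succ) M : ℚ) + (HodgeIdxLib.pr k (ClSub.idealMod R) M : ℚ) := fun M hM => by
      have h1 := SurfAmpleLib.N_mul (k := k) (hZ i.succ) hR (l := [M]) (by simpa using hM) (DevissLib.isCoh_structureModule S)
        ((topologicalKrullDim_subspace_le _ _).trans hX.le)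
      rw [hRe] at h1
      exact_mod_cast h1
    have hg : ∀ j : Fin (n + 1), (HodgeIdxLib.pr k (ClSub.idealMod R) L : ℚ) + (HodgeIdxLib.pr k (ClSub.idealMod R) (I j) : ℚ)
        - μ j * (HodgeIdxLib.pr k (ClSub.idealMod R) LF : ℚ) ≤ 0 := fun j => by
      have h1 := SurfAmpleLib.lin_pr_nonpos (k := k) hX (hT j) (cf j) (fun x hx => by
        simp only [Fin.sum_univ_three, T, cf, Matrix.cons_val_zero, Matrix.cons_val_one, Matrix.cons_val_two, Matrix.head_cons, Matrix.tail_cons]
        have := hcurve j x hx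
        linarith) hR
      simp only [Fin.sum_univ_three, T, cf, Matrix.cons_val_zero, Matrix.cons_val_one, Matrix.cons_val_two, Matrix.head_cons, Matrix.tail_cons] at h1
      linarith
    have ha := hg i.castSucc
    have hb := hg i.succ
    have hRi := IntMultLib.isInvertible_idealMod R hR
    have e1 := hadd L hL
    have e2 := hadd LF hLFi
    have e3 := hadd (I i.castSucc) (hI _)
    have e4 := hadd (I i.succ) (hI _)
    rw [HodgeIdxLib.pr_comm (I i.castSucc) L, HodgeIdxLib.pr_comm (I i.succ) L] at e1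
    rw [HodgeIdxLib.pr_comm (I i.succ) (I i.castSucc)] at e3
    dsimp only [Q, d]
    linear_combination ha + hb + 2 * e1 + e3 + e4 - (μ i.castSucc + μ i.succ) * e2
  have hQ0 : 0 ≤ Q 0 := by
    have h := SurfAmpleLib.sq_nef_nonneg (k := k) hX (P := CohB1.tensorMod L (I 0)) (HilbPolyLib.isInvertible_tensor hL (hI 0))
      hLFi hIFi eF (μ 0) (hμ0 0) (fun x hx => by
        rw [IntFunLib.N_tensor (k := k) (l := []) (by simp) hL (hI 0) (CurvLib.isCoh_quotMod _)
          (by rw [SurfNumLib.support_quotMod_eq, IntFunLib.dim_ptIdeal, hx]; simp)]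
        push_cast
        exact hcurve 0 x hx)
    have hP : ∀ M : S.Modules, PicF.IsInvertible M → HodgeIdxLib.pr k (CohB1.tensorMod L (I 0)) M =
        HodgeIdxLib.pr k L M + HodgeIdxLib.pr k (I 0) M := fun M hM => HodgeIdxLib.pr_tensor hX.le hL (hI 0) hM
    rw [hP _ (HilbPolyLib.isInvertible_tensor hL (hI 0)), HodgeIdxLib.pr_comm L (CohB1.tensorMod L (I 0)),
      HodgeIdxLib.pr_comm (I 0) (CohB1.tensorMod L (I 0)), hP L hL, hP (I 0) (hI 0), hP LF hLFi,
      HodgeIdxLib.pr_comm (I 0) L] at h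
    dsimp only [Q]
    push_cast at h
    linarith
  have hQn : Q (Fin.last n) = (HodgeIdxLib.pr k L L : ℚ) := by
    have hz : ∀ M : S.Modules, PicF.IsInvertible M → HodgeIdxLib.pr k (I (Fin.last n)) M = 0 := fun M hM => by
      change IntFunLib.N k [ClSub.idealMod (Z (Fin.last n)), M] (Coh.structureModule S) = 0
      rw [hZlast]
      exact SurfAmpleLib.N_one (k := k) (l := [M]) (by simpa using hM) (DevissLib.isCoh_structureModule S)
        ((topologicalKrullDim_subspace_le _ _).trans hX.le)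
    dsimp only [Q]
    rw [HodgeIdxLib.pr_comm L (I (Fin.last n)), hz L hL, hz _ (hI _), hz LF hLFi, hμlast]
    push_cast
    ring
  calc _ ≤ ∑ i : Fin n, (Q i.succ - Q i.castSucc) := Finset.sum_le_sum fun i _ => hstep i
    _ = Q (Fin.last n) - Q 0 := SurfAmpleLib.sum_succ_sub Q
    _ ≤ _ := by linarith

end Groth.Agent.S14313
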