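import Groth.Statements.S14314
import Mathlib
import Groth.Agent.SurfAmpleLib.Fib
import Groth.Agent.SurfAmpleLib.Prod
import Groth.Agent.SurfNumLib.Meet
-- import your own Groth.Agent.* helpers here

set_option autoImplicit false
universe u
open CategoryTheory CategoryTheory.Limits AlgebraicGeometry TopologicalSpace
open Surf

namespace Groth.Agent.S14314

/-- Let k be an algebraically closed field, S a smooth projective surface over k (integral, proper and
smooth over k, of dimension 2), f : S → C a surjective k-morphism onto a smooth projective curve and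
F = f⁻¹(p) the fibre over a closed point p, with O_S(F) a tensor inverse of its ideal sheaf. Let
D_1, D_2 be numerically equivalent divisors (invertible modules L_1, L_2 with (L_1·Γ) = (L_2·Γ) for
every integral curve Γ ⊆ S, where (L·Γ) = χ(O_Γ ⊗ L) − χ(O_Γ)), μ_1 ≥ μ_2 rational numbers and Z_1,
Z_2 effective Cartier divisors with common part Z, that is Z_i = Z + Y_i with Z, Y_1, Y_2 effective
Cartier divisors and Y_1, Y_2 without common component (Y_1 ∩ Y_2 finite); in terms of ideal sheaves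
I_{Z_i} = I_Z · I_{Y_i}. If N_i = D_i − Z_i − μ_i F is nef for i = 1, 2, that is (D_i·Γ) +
(I_{Z_i}·Γ) − μ_i (F·Γ) ≥ 0 for every integral curve Γ, then N = D_2 − Z − μ_2 F is nef. (The
published statement is for the chapter's fibration over an algebraically closed field of positive
characteristic; this row asks only that f be surjective and allows any algebraically closed field.) -/
theorem result (k : Type u) [Field k] [IsAlgClosed k]
    (S : Scheme.{u}) [S.Over (Spec (CommRingCat.of k))] [IsProper (S ↘ (Spec (CommRingCat.of k)))]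
    [Smooth (S ↘ (Spec (CommRingCat.of k)))] [IsIntegral S] (hdim : topologicalKrullDim S = 2)
    (C : Scheme.{u}) [C.Over (Spec (CommRingCat.of k))] [IsProper (C ↘ (Spec (CommRingCat.of k)))]
    [Smooth (C ↘ (Spec (CommRingCat.of k)))] [IsIntegral C] (hdimC : topologicalKrullDim C = 1)
    (f : S ⟶ C) [f.IsOver (Spec (CommRingCat.of k))] [Surjective f]
    (p : C) (hp : IsClosed ({p} : Set C))
    (LF : S.Modules) (hLF : ClSub.IsInverseOf LF (ClSub.idealMod (f.fiberι p).ker))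
    (L₁ L₂ : S.Modules) (hL₁ : PicF.IsInvertible L₁) (hL₂ : PicF.IsInvertible L₂)
    (hnum : ∀ Γ : S.IdealSheafData, IsIntegral Γ.subscheme → topologicalKrullDim (Γ.support : Set S) = 1 →
      (Curv2.euler k S (CohB1.tensorMod (ClSub.quotMod Γ) L₁) - Curv2.euler k S (ClSub.quotMod Γ)) = (Curv2.euler k S (CohB1.tensorMod (ClSub.quotMod Γ) L₂) - Curv2.euler k S (ClSub.quotMod Γ)))
    (μ₁ μ₂ : ℚ) (hμ : μ₂ ≤ μ₁)
    (Z Y₁ Y₂ Z₁ Z₂ : S.IdealSheafData) (hZ : FGA.IsEffCartier Z) (hY₁ : FGA.IsEffCartier Y₁) (hY₂ : FGA.IsEffCartier Y₂)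
    (hZ₁ : Z₁ = Z * Y₁) (hZ₂ : Z₂ = Z * Y₂) (hY : ((Y₁ ⊔ Y₂).support : Set S).Finite)
    (hnef₁ : (∀ Γ : S.IdealSheafData, IsIntegral Γ.subscheme → topologicalKrullDim (Γ.support : Set S) = 1 →
      (0 : ℚ) ≤ ((Curv2.euler k S (CohB1.tensorMod (ClSub.quotMod Γ) L₁) - Curv2.euler k S (ClSub.quotMod Γ)) : ℚ) + ((Curv2.euler k S (CohB1.tensorMod (ClSub.quotMod Γ) (ClSub.idealMod Z₁)) - Curv2.euler k S (ClSub.quotMod Γ)) : ℚ)
        - μ₁ * ((Curv2.euler k S (CohB1.tensorMod (ClSub.quotMod Γ) LF) - Curv2.euler k S (ClSub.quotMod Γ)) : ℚ)))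
    (hnef₂ : (∀ Γ : S.IdealSheafData, IsIntegral Γ.subscheme → topologicalKrullDim (Γ.support : Set S) = 1 →
      (0 : ℚ) ≤ ((Curv2.euler k S (CohB1.tensorMod (ClSub.quotMod Γ) L₂) - Curv2.euler k S (ClSub.quotMod Γ)) : ℚ) + ((Curv2.euler k S (CohB1.tensorMod (ClSub.quotMod Γ) (ClSub.idealMod Z₂)) - Curv2.euler k S (ClSub.quotMod Γ)) : ℚ)
        - μ₂ * ((Curv2.euler k S (CohB1.tensorMod (ClSub.quotMod Γ) LF) - Curv2.euler k S (ClSub.quotMod Γ)) : ℚ))) :
    (∀ Γ : S.IdealSheafData, IsIntegral Γ.subscheme → topologicalKrullDim (Γ.support : Set S) = 1 →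
      (0 : ℚ) ≤ ((Curv2.euler k S (CohB1.tensorMod (ClSub.quotMod Γ) L₂) - Curv2.euler k S (ClSub.quotMod Γ)) : ℚ) + ((Curv2.euler k S (CohB1.tensorMod (ClSub.quotMod Γ) (ClSub.idealMod Z)) - Curv2.euler k S (ClSub.quotMod Γ)) : ℚ)
        - μ₂ * ((Curv2.euler k S (CohB1.tensorMod (ClSub.quotMod Γ) LF) - Curv2.euler k S (ClSub.quotMod Γ)) : ℚ)) := by
  have hX : topologicalKrullDim S = ((2 : ℕ) : WithBot ℕ∞) := hdim
  haveI := CurvLib.isNoetherian k (X := S)
  intro Γ hΓ hΓd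
  haveI := hΓ
  let c : S := Γ.subschemeι (genericPoint ↥Γ.subscheme)
  have hp' : Γ = IntMultLib.ptIdeal c := IntFunLib.eq_ptIdeal Γ
  have hcd : topologicalKrullDim (closure ({c} : Set S)) = ((1 : ℕ) : WithBot ℕ∞) := by
    rw [IntFunLib.dim_generic_of_support, hΓd, Nat.cast_one]
  have hN : ∀ M : S.Modules, ((Curv2.euler k S (CohB1.tensorMod (ClSub.quotMod Γ) M) : ℚ) - (Curv2.euler k S (ClSub.quotMod Γ) : ℚ)) =
      (IntFunLib.N k [M] (ClSub.quotMod Γ) : ℚ) := fun M => by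
    rw [IntFunLib.N, IntFunLib.N, IntFunLib.N, CurvLib.euler_congr (HilbPolyLib.swapIso (ClSub.quotMod Γ) M)]
    push_cast
    rfl
  have hF : 0 ≤ IntFunLib.N k [LF] (ClSub.quotMod Γ) := by
    rw [hp']
    exact (SurfAmpleLib.N_fibre_nonneg (k := k) hdimC f hp hLF hcd).1
  have hdΓ : topologicalKrullDim (CohB1.support (ClSub.quotMod Γ)) ≤ ((([] : List S.Modules).length + 1 : ℕ) : WithBot ℕ∞) := by
    rw [SurfNumLib.support_quotMod_eq, hΓd]; simp
  have hmul : ∀ Y : S.IdealSheafData, FGA.IsEffCartier Y → IntFunLib.N k [ClSub.idealMod (Z * Y)] (ClSub.quotMod Γ) =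
      IntFunLib.N k [ClSub.idealMod Z] (ClSub.quotMod Γ) + IntFunLib.N k [ClSub.idealMod Y] (ClSub.quotMod Γ) := fun Y hY' =>
    SurfAmpleLib.N_mul (k := k) hZ hY' (l := []) (by simp) (CurvLib.isCoh_quotMod Γ) hdΓ
  have h1 := hnef₁ Γ hΓ hΓd
  have h2 := hnef₂ Γ hΓ hΓd
  have hnum' := hnum Γ hΓ hΓd
  have hL12 : (IntFunLib.N k [L₁] (ClSub.quotMod Γ) : ℚ) = (IntFunLib.N k [L₂] (ClSub.quotMod Γ) : ℚ) := by
    rw [← hN, ← hN]
    exact_mod_cast hnum'
  simp only [hN] at h1 h2 ⊢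
  rw [hZ₁, hmul Y₁ hY₁] at h1
  rw [hZ₂, hmul Y₂ hY₂] at h2
  push_cast at h1 h2
  by_cases hs₂ : (Γ.support : Set S) ⊆ (Y₂.support : Set S)
  · have hs₁ : ¬ (Γ.support : Set S) ⊆ (Y₁.support : Set S) := fun hs₁ => by
      have hfin : ((Y₁.support : Set S) ∩ (Y₂.support : Set S)).Finite := by
        rw [Scheme.IdealSheafData.support_sup] at hY
        exact hY
      have hc : c ∈ (Γ.support : Set S) := by
        rw [← Γ.range_subschemeι]
        exact ⟨_, rfl⟩
      have hcl := SurfNumLib.isClosed_of_finite k (Γ.support.isClosed) (hfin.subset fun x hx => ⟨hs₁ hx, hs₂ hx⟩) hc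
      rw [hcl.closure_eq] at hcd
      haveI : Subsingleton ↥({c} : Set S) := Set.subsingleton_coe _ |>.mpr Set.subsingleton_singleton
      have h0 := topologicalKrullDim_zero_of_discreteTopology ↥({c} : Set S)
      rw [hcd, Nat.cast_one] at h0
      exact absurd h0 (by simp)
    have h3 := SurfNumLib.N_effCartier_nonpos (k := k) hY₁ Γ hΓd hs₁
    have h3' : (IntFunLib.N k [ClSub.idealMod Y₁] (ClSub.quotMod Γ) : ℚ) ≤ 0 := by exact_mod_cast h3
    have hF' : (0 : ℚ) ≤ (IntFunLib.N k [LF] (ClSub.quotMod Γ) : ℚ) := by exact_mod_cast hF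
    nlinarith [mul_le_mul_of_nonneg_right hμ hF']
  · have h3 := SurfNumLib.N_effCartier_nonpos (k := k) hY₂ Γ hΓd hs₂
    have h3' : (IntFunLib.N k [ClSub.idealMod Y₂] (ClSub.quotMod Γ) : ℚ) ≤ 0 := by exact_mod_cast h3
    linarith

end Groth.Agent.S14314
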