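import Groth.Statements.S14315
import Mathlib
import Groth.Agent.UOpenLib.DimOne
import Groth.Agent.KleimanLib.GenSmooth
import Groth.Agent.MiscFlat6.NormalLowDim
import Groth.Agent.AVAmpleLib.DegDet
import Groth.Agent.Unram17LimLib.Basic
import Groth.Agent.S12442
import Groth.Agent.CurvLib.Euler
-- import your own Groth.Agent.* helpers here

set_option autoImplicit false
universe u
open CategoryTheory CategoryTheory.Limits AlgebraicGeometry TopologicalSpace
open Surf

namespace Groth.Agent.S14315

/-- Let k be an algebraically closed field, S a smooth projective surface over k (integral, proper and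
smooth over k, of dimension 2), f : S → C a surjective k-morphism onto a smooth projective curve C
(integral, proper and smooth over k, of dimension 1), and ψ : C' → C a finite k-morphism from
another smooth projective curve C' which is unramified at every point of C' lying over a point of C
whose fibre of f is not smooth. Then S ×_C C' is smooth over k. (The published statement takes ψ
separable and f the chapter's generically smooth semi-stable fibration with connected fibres over an
algebraically closed field of positive characteristic; this row assumes only f surjective and ψ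
finite, over any algebraically closed field.) -/
theorem result (k : Type u) [Field k] [IsAlgClosed k]
    (S : Scheme.{u}) [S.Over (Spec (CommRingCat.of k))] [IsProper (S ↘ (Spec (CommRingCat.of k)))]
    [Smooth (S ↘ (Spec (CommRingCat.of k)))] [IsIntegral S] (hdim : topologicalKrullDim S = 2)
    (C : Scheme.{u}) [C.Over (Spec (CommRingCat.of k))] [IsProper (C ↘ (Spec (CommRingCat.of k)))]
    [Smooth (C ↘ (Spec (CommRingCat.of k)))] [IsIntegral C] (hdimC : topologicalKrullDim C = 1)
    (f : S ⟶ C) [f.IsOver (Spec (CommRingCat.of k))] [Surjective f]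
    (C' : Scheme.{u}) [C'.Over (Spec (CommRingCat.of k))] [IsProper (C' ↘ (Spec (CommRingCat.of k)))]
    [Smooth (C' ↘ (Spec (CommRingCat.of k)))] [IsIntegral C'] (hdimC' : topologicalKrullDim C' = 1)
    (ψ : C' ⟶ C) [ψ.IsOver (Spec (CommRingCat.of k))] [IsFinite ψ]
    (hψ : ∀ c : C', ¬ Smooth (f.fiberToSpecResidueField (ψ.base c)) →
      ∃ U : C'.Opens, c ∈ U ∧ FormallyUnramified (U.ι ≫ ψ)) :
    Smooth (pullback.snd f ψ ≫ (C' ↘ (Spec (CommRingCat.of k)))) := by
  haveI := CurvLib.isNoetherian k (X := C)
  have hreg : ∀ y : C, IsRegularLocalRing (C.presheaf.stalk y) ∧ ringKrullDim (C.presheaf.stalk y) ≤ 1 :=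
    fun y => ⟨KleimanLib.regular_of_smooth (C ↘ Spec (CommRingCat.of k)) y,
      (MiscFlat6.ringKrullDim_stalk_le C y).trans (le_of_eq hdimC)⟩
  haveI hf : Flat f := UOpenLib.flat_of_dominant_regular_dim_one f hreg f.surjective.denseRange
  haveI hψs : Surjective ψ := AVAmpleLib.surjective_of_finite_dim (g := 1) ψ (by rw [hdimC']; rfl)
    (by rw [hdimC]; rfl)
  haveI hψf : Flat ψ := UOpenLib.flat_of_dominant_regular_dim_one ψ hreg ψ.surjective.denseRange
  haveI : LocallyOfFinitePresentation f := by
    haveI : LocallyOfFinitePresentation (f ≫ (C ↘ Spec (CommRingCat.of k))) := by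
      rw [comp_over]; infer_instance
    exact Groth.Agent.S12442.lfp_of_comp_lft f (C ↘ Spec (CommRingCat.of k))
  haveI : LocallyOfFinitePresentation ψ := by
    haveI : LocallyOfFinitePresentation (ψ ≫ (C ↘ Spec (CommRingCat.of k))) := by
      rw [comp_over]; infer_instance
    exact Groth.Agent.S12442.lfp_of_comp_lft ψ (C ↘ Spec (CommRingCat.of k))
  have hcomp : pullback.snd f ψ ≫ (C' ↘ Spec (CommRingCat.of k)) =
      pullback.fst f ψ ≫ (S ↘ Spec (CommRingCat.of k)) := by
    rw [← comp_over ψ (Spec (CommRingCat.of k)), ← pullback.condition_assoc, comp_over]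
  have key : ∀ t : ↥(pullback f ψ), ∃ V : (pullback f ψ).Opens, t ∈ V ∧
      Smooth (V.ι ≫ pullback.snd f ψ ≫ (C' ↘ Spec (CommRingCat.of k))) := by
    intro t
    by_cases hs : Smooth (f.fiberToSpecResidueField (ψ (pullback.snd f ψ t)))
    · have hft : f (pullback.fst f ψ t) = ψ (pullback.snd f ψ t) := by
        rw [← Scheme.Hom.comp_apply, pullback.condition, Scheme.Hom.comp_apply]
      obtain ⟨x', hx'⟩ : pullback.fst f ψ t ∈ Set.range (f.fiberι (ψ (pullback.snd f ψ t))) := by
        rw [Scheme.Hom.range_fiberι]; exact hft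
      obtain ⟨O, hO, hOs⟩ : pullback.fst f ψ t ∈ Unram17LimLib.locus @Smooth f := by
        rw [← hx']
        refine Unram17LimLib.mem_locus_smooth_of_flatAt
          (IsPullback.of_hasPullback f (C.fromSpecResidueField (ψ (pullback.snd f ψ t)))) ?_
          ⟨⊤, trivial, (haveI : Smooth (pullback.snd f (C.fromSpecResidueField (ψ (pullback.snd f ψ t)))) := hs; inferInstance)⟩
        exact Flat.iff_flat_stalkMap f |>.1 hf _
      refine ⟨pullback.fst f ψ ⁻¹ᵁ O, hO, ?_⟩
      haveI : Smooth ((pullback.fst f ψ ⁻¹ᵁ O).ι ≫ pullback.snd f ψ) :=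
        MorphismProperty.of_isPullback (P := @Smooth)
          ((isPullback_morphismRestrict (pullback.fst f ψ) O).paste_vert
            (IsPullback.of_hasPullback f ψ)).flip.flip hOs
      rw [← Category.assoc]
      infer_instance
    · obtain ⟨U, hU, hUu⟩ := hψ _ hs
      haveI : FormallyUnramified (U.ι ≫ ψ) := hUu
      haveI : Etale (U.ι ≫ ψ) := Etale.of_formallyUnramified_of_flat _
      refine ⟨pullback.snd f ψ ⁻¹ᵁ U, hU, ?_⟩
      haveI : Etale ((pullback.snd f ψ ⁻¹ᵁ U).ι ≫ pullback.fst f ψ) :=
        MorphismProperty.of_isPullback (P := @Etale)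
          ((isPullback_morphismRestrict (pullback.snd f ψ) U).paste_vert
            (IsPullback.of_hasPullback f ψ).flip) ‹Etale (U.ι ≫ ψ)›
      rw [hcomp, ← Category.assoc]
      infer_instance
  choose V hV hVs using key
  exact IsZariskiLocalAtSource.of_iSup_eq_top (P := @Smooth) V
    (top_le_iff.1 fun t _ => Opens.mem_iSup.2 ⟨t, hV t⟩) hVs

end Groth.Agent.S14315
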