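import Groth.Statements.S1432
import Mathlib

-- import your own Groth.Agent.* helpers here

set_option autoImplicit false
universe u
open FlatMor

namespace Groth.Agent.S1432

open AlgebraicGeometry CategoryTheory Limits

def HasLift {X Y : Scheme.{u}} (f : X ⟶ Y) : Prop :=
  ∀ (A B : Type u) [CommRing A] [CommRing B] (φ : A →+* B), Function.Injective φ →
      ∀ (a : Spec (CommRingCat.of B) ⟶ X) (b : Spec (CommRingCat.of A) ⟶ Y), Spec.map (CommRingCat.ofHom φ) ≫ b = a ≫ f →
        ∃ l : Spec (CommRingCat.of A) ⟶ X, Spec.map (CommRingCat.ofHom φ) ≫ l = a ∧ l ≫ f = b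

theorem hasLift_of_isClosedImmersion {X Y : Scheme.{u}} (f : X ⟶ Y) [IsClosedImmersion f] : HasLift f := by
  intro A B _ _ φ hφ a b h
  let p := pullback.snd f b
  let t : Spec (CommRingCat.of B) ⟶ pullback f b := pullback.lift a (Spec.map (CommRingCat.ofHom φ)) h.symm
  haveI : IsAffine (pullback f b) := isAffine_of_isAffineHom p
  have hφ' : Function.Injective (Spec.map (CommRingCat.ofHom φ)).appTop := by
    intro x y e
    refine (Scheme.ΓSpecIso (CommRingCat.of A)).commRingCatIsoToRingEquiv.injective (hφ ?_)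
    have e' := congrArg (Scheme.ΓSpecIso (CommRingCat.of B)).hom e
    rw [← CommRingCat.comp_apply, ← CommRingCat.comp_apply, Scheme.ΓSpecIso_naturality] at e'
    exact e'
  have hp : Function.Injective p.appTop := by
    intro x y e
    refine hφ' ?_
    rw [← show t ≫ p = Spec.map (CommRingCat.ofHom φ) from pullback.lift_snd _ _ _, Scheme.Hom.comp_appTop,
      CommRingCat.comp_apply, CommRingCat.comp_apply, e]
  haveI : IsClosedImmersion p := inferInstance
  haveI : IsIso p.appTop :=
    (ConcreteCategory.isIso_iff_bijective _).2 ⟨hp, p.app_surjective ⊤ (isAffineOpen_top _)⟩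
  haveI : IsIso (Spec.map p.appTop) := inferInstance
  haveI : IsIso p := by
    have e : p = (pullback f b).isoSpec.hom ≫ Spec.map p.appTop ≫ (Spec (CommRingCat.of A)).isoSpec.inv := by
      rw [Scheme.isoSpec_inv_naturality, Iso.hom_inv_id_assoc]
    rw [e]; infer_instance
  refine ⟨inv p ≫ pullback.fst f b, ?_, ?_⟩
  · rw [← show t ≫ p = Spec.map (CommRingCat.ofHom φ) from pullback.lift_snd _ _ _, Category.assoc,
      IsIso.hom_inv_id_assoc, pullback.lift_fst]
  · rw [Category.assoc, pullback.condition, IsIso.inv_hom_id_assoc]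

theorem isClosedImmersion_of_hasLift_affine {X Y : Scheme.{u}} (g : X ⟶ Y) [CompactSpace X] [IsAffine Y]
    (h : HasLift g) : IsClosedImmersion g := by
  let 𝒱 := X.affineCover.finiteSubcover
  haveI : ∀ i, IsAffine (𝒱.X i) := fun i => isAffine_Spec _
  let W := ∐ 𝒱.X
  let π : W ⟶ X := Sigma.desc 𝒱.f
  let e : W ⟶ Spec Γ(W, ⊤) := W.isoSpec.hom
  let ψ : Γ(Y, ⊤) →+* Γ(W, ⊤) := (π ≫ g).appTop.hom
  let mk := Ideal.Quotient.mk (RingHom.ker ψ)
  let b : Spec (CommRingCat.of (Γ(Y, ⊤) ⧸ RingHom.ker ψ)) ⟶ Y := Spec.map (CommRingCat.ofHom mk) ≫ Y.isoSpec.inv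
  haveI : IsClosedImmersion (Spec.map (CommRingCat.ofHom mk)) := IsClosedImmersion.spec_of_surjective _ Ideal.Quotient.mk_surjective
  haveI : IsClosedImmersion b := inferInstance
  let φ := RingHom.kerLift ψ
  have hφ : Function.Injective φ := RingHom.kerLift_injective ψ
  have hsq : Spec.map (CommRingCat.ofHom φ) ≫ b = (W.isoSpec.inv ≫ π) ≫ g := by
    rw [Category.assoc, ← Scheme.isoSpec_inv_naturality (π ≫ g), ← Category.assoc, ← Spec.map_comp]
    rfl
  obtain ⟨l, hl1, hl2⟩ := h _ _ φ hφ (W.isoSpec.inv ≫ π) b hsq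
  have hπ : Function.Injective π.appTop := by
    intro x y e
    refine 𝒱.ext_elem x y fun i => ?_
    have := congrArg (fun z => (Sigma.ι 𝒱.X i).appTop z) e
    simp only at this
    rw [← CommRingCat.comp_apply, ← CommRingCat.comp_apply, ← Scheme.Hom.comp_appTop, Sigma.ι_desc] at this
    exact this
  have hker : RingHom.ker ψ ≤ RingHom.ker g.appTop.hom := fun r hr => hπ (by rw [map_zero]; exact hr)
  let χ : Γ(Y, ⊤) ⧸ RingHom.ker ψ →+* Γ(X, ⊤) := Ideal.Quotient.lift _ g.appTop.hom fun r hr => hker hr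
  let k : X ⟶ Spec (CommRingCat.of (Γ(Y, ⊤) ⧸ RingHom.ker ψ)) := X.toSpecΓ ≫ Spec.map (CommRingCat.ofHom χ)
  have hk : k ≫ b = g := by
    show (X.toSpecΓ ≫ Spec.map _) ≫ Spec.map _ ≫ Y.isoSpec.inv = g
    rw [Category.assoc, ← Category.assoc (Spec.map _), ← Spec.map_comp,
      show CommRingCat.ofHom mk ≫ CommRingCat.ofHom χ = g.appTop from CommRingCat.hom_ext (RingHom.ext fun r => rfl),
      ← Category.assoc, ← Scheme.toSpecΓ_naturality]
    simp [← Scheme.isoSpec_hom]
  have h1 : k ≫ l = 𝟙 X := by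
    refine Scheme.Cover.hom_ext 𝒱 _ _ fun i => ?_
    have h3 : π ≫ k = W.isoSpec.hom ≫ Spec.map (CommRingCat.ofHom φ) := by
      rw [← cancel_mono b, Category.assoc, hk, Category.assoc, hsq, Category.assoc, Iso.hom_inv_id_assoc]
    have h4 : π ≫ k ≫ l = π := by rw [← Category.assoc, h3, Category.assoc, hl1, Iso.hom_inv_id_assoc]
    have := congrArg (fun m => Sigma.ι 𝒱.X i ≫ m) h4
    simpa [π, Sigma.ι_desc_assoc] using this
  haveI : IsIso k := ⟨l, h1, by rw [← cancel_mono b, Category.assoc, hk, hl2, Category.id_comp]⟩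
  rw [← hk]; infer_instance


open AlgebraicGeometry CategoryTheory Limits in
/-- For a quasi-compact morphism f : X → Y, being a closed immersion is equivalent to the following
lifting property: for each injective ring map A → B and each commutative square with Spec B → X on
top and Spec A → Y at the bottom there is a lift Spec A → X making both triangles commute. -/
theorem result {X Y : Scheme.{u}} (f : X ⟶ Y) [QuasiCompact f] :
    IsClosedImmersion f ↔ ∀ (A B : Type u) [CommRing A] [CommRing B] (φ : A →+* B), Function.Injective φ →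
      ∀ (a : Spec (CommRingCat.of B) ⟶ X) (b : Spec (CommRingCat.of A) ⟶ Y), Spec.map (CommRingCat.ofHom φ) ≫ b = a ≫ f →
        ∃ l : Spec (CommRingCat.of A) ⟶ X, Spec.map (CommRingCat.ofHom φ) ≫ l = a ∧ l ≫ f = b := by
  refine ⟨fun _ => hasLift_of_isClosedImmersion f, fun h => ?_⟩
  rw [IsZariskiLocalAtTarget.iff_of_openCover (P := @IsClosedImmersion) Y.affineCover]
  intro i
  let p := pullback.snd f (Y.affineCover.f i)
  haveI : CompactSpace ↑(pullback f (Y.affineCover.f i)) := QuasiCompact.compactSpace_of_compactSpace p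
  refine isClosedImmersion_of_hasLift_affine p fun A B _ _ φ hφ a b hab => ?_
  obtain ⟨l, hl1, hl2⟩ := h A B φ hφ (a ≫ pullback.fst _ _) (b ≫ Y.affineCover.f i) (by
    rw [← Category.assoc, hab, Category.assoc, Category.assoc, pullback.condition])
  refine ⟨pullback.lift l b hl2, ?_, pullback.lift_snd _ _ _⟩
  apply pullback.hom_ext
  · rw [Category.assoc, pullback.lift_fst, hl1]
  · rw [Category.assoc, pullback.lift_snd, hab]

end Groth.Agent.S1432
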