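import Groth.Statements.S14326
import Groth.Agent.PtBoundLib.Final
-- import your own Groth.Agent.* helpers here

set_option autoImplicit false
universe u
open CategoryTheory CategoryTheory.Limits MonoidalCategory CartesianMonoidalCategory MonObj AlgebraicGeometry
open AbVar

namespace Groth.Agent.S14326

/-- Let k be an algebraically closed field, A an abelian variety over k of dimension g (commutative
group law, smooth and proper, geometrically connected of dimension g), and φ : A → P^m_k a closed
immersion over k given by a complete linear system: the image lies in no hyperplane and m + 1 is the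
dimension of the space of global sections of φ^*O(1). Let r be the degree of φ(A) in P^m_k, that is
the g-fold self-intersection number of φ^*O(1) (written with an inverse L′ of φ^*O(1) as an
alternating sum of Euler characteristics), let F be a homogeneous form of degree s ≥ 1 in the m + 1
coordinates whose hypersurface does not contain φ(A) (some k-point of A maps outside it), and let N
≥ 1. Then the number of k-points x of A with x^N = 1 whose image lies on the hypersurface F = 0 is
at most N^{2g−2}·s·r. Here a k-point y of P^m_k lies on F = 0 when F vanishes at a non-zero vector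
of homogeneous coordinates of y, that is at a non-zero vector whose orthogonal is the space of
linear relations among the coordinates pulled back along y. (The published statement bounds by the
same quantity the length of the scheme-theoretic intersection of the hypersurface with the N-torsion
subgroup scheme; the number of k-rational N-torsion points on the hypersurface is at most that
length, so this row states the weaker count.) -/
theorem result (k : Type u) [Field k] [IsAlgClosed k] (A : Scheme.{u})
    [A.Over (Spec (CommRingCat.of k))] [GrpObj (A.asOver (Spec (CommRingCat.of k)))] [IsCommMonObj (A.asOver (Spec (CommRingCat.of k)))]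
    (g : ℕ) (hA : AgPol.IsAbSch (A.asOver (Spec (CommRingCat.of k))) g) (m : ℕ) (φ : A ⟶ CohB1.ProjSpace m k)
    (hφ : IsClosedImmersion φ) (hφk : φ ≫ CohB1.ProjSpace.toSpec m k = A ↘ (Spec (CommRingCat.of k)))
    (hspan : ∀ c : Fin (m + 1) → k, c ≠ 0 → ∃ x : (𝟙_ (Over (Spec (CommRingCat.of k))) ⟶ A.asOver (Spec (CommRingCat.of k))), c ∉ ProjUP.secKernel m k (x.left ≫ φ))
    (hcomplete : Module.finrank k (Coh.HH A ((Scheme.Modules.pullback φ).obj (Twist.twistProjSpace m k 1)) 0) = m + 1)
    (L' : A.Modules) (hL' : ClSub.IsInverseOf L' ((Scheme.Modules.pullback φ).obj (Twist.twistProjSpace m k 1)))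
    (r : ℕ) (hr : FGA.intNum k A g (fun _ : Fin g => L') (Coh.structureModule A) = r)
    (s : ℕ) (hs : 1 ≤ s) (F : MvPolynomial (Fin (m + 1)) k) (hF : F.IsHomogeneous s)
    (hnot : ∃ x : (𝟙_ (Over (Spec (CommRingCat.of k))) ⟶ A.asOver (Spec (CommRingCat.of k))), ¬ (∃ v : Fin (m + 1) → k, v ≠ 0 ∧
          (∀ c : Fin (m + 1) → k, c ∈ ProjUP.secKernel m k (x.left ≫ φ) ↔ ∑ i, c i * v i = 0) ∧
          MvPolynomial.eval v F = 0))
    (N : ℕ) (hN : 1 ≤ N) :
    Nat.card {x : (𝟙_ (Over (Spec (CommRingCat.of k))) ⟶ A.asOver (Spec (CommRingCat.of k))) // x ^ N = 1 ∧ (∃ v : Fin (m + 1) → k, v ≠ 0 ∧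
          (∀ c : Fin (m + 1) → k, c ∈ ProjUP.secKernel m k (x.left ≫ φ) ↔ ∑ i, c i * v i = 0) ∧
          MvPolynomial.eval v F = 0)} ≤ N ^ (2 * g - 2) * s * r := by
  haveI := hφ
  obtain ⟨x₀, hx₀⟩ := hnot
  obtain ⟨hle, -⟩ := PtBoundLib.main hA φ hL' hr F hF
    ⟨x₀, not_not.1 fun h => hx₀ (((PtBoundLib.rel_iff hA φ hφk x₀).2 s F hs hF).2 h)⟩ N hN
  refine le_of_eq_of_le ?_ hle
  exact Nat.card_congr (Equiv.subtypeEquivRight fun x => and_congr_right fun _ =>
    (PtBoundLib.rel_iff hA φ hφk x).2 s F hs hF)

end Groth.Agent.S14326
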