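import Groth.Statements.S1433
import Mathlib
import Groth.Agent.RichLib.LimTop

set_option autoImplicit false
universe u
open FlatMor

namespace Groth.Agent.S1433

open AlgebraicGeometry CategoryTheory Limits in
/-- If the canonical morphism X → Spec Γ(X, O_X) has a retraction, then X is affine. -/
theorem result (X : Scheme.{u}) (r : Spec Γ(X, ⊤) ⟶ X) (h : X.toSpecΓ ≫ r = 𝟙 X) : IsAffine X := by
  haveI : IsIso X.toSpecΓ.appTop := by rw [Scheme.toSpecΓ_appTop]; infer_instance
  haveI : IsIso X.toSpecΓ := ⟨r, h, ext_of_isAffine (by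
    rw [Scheme.Hom.comp_appTop, Scheme.Hom.id_appTop]
    have h2 := congrArg Scheme.Hom.appTop h
    rw [Scheme.Hom.comp_appTop, Scheme.Hom.id_appTop] at h2
    rw [← cancel_mono X.toSpecΓ.appTop, Category.assoc, h2, Category.comp_id, Category.id_comp])⟩
  exact .of_isIso X.toSpecΓ

end Groth.Agent.S1433
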