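import Groth.Statements.S14330
import Groth.Agent.ZClosLib.Criterion
import Groth.Agent.ZClosLib.Depth
import Groth.Agent.AssPointLib.Dense
import Groth.Agent.FiltSectLib.Stalks
import Groth.Agent.CurvLib.Line
import Groth.Agent.CurvLib.EulerTensor
import Groth.Agent.CurvLib.StalkSum

set_option autoImplicit false
universe u
open CategoryTheory CategoryTheory.Limits AlgebraicGeometry Opposite
open GrpSch

namespace Groth.Agent.S14330

open ZClosLib IsLocalRing RingTheory.Sequence

local notation "St" => DerSch.stalkFunctor _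

theorem depth_pullback_le {S A : Scheme.{u}} [IsLocallyNoetherian S] [IsLocallyNoetherian A]
    (f : A ⟶ S) [Flat f] (a : A) (n : ℕ)
    (h : (n : ℕ∞) ≤ LocCoh.depth (S.presheaf.stalk (f.base a)) (S.presheaf.stalk (f.base a))) :
    (n : ℕ∞) ≤ LocCoh.depth (A.presheaf.stalk a) (A.presheaf.stalk a) := by
  letI := (f.stalkMap a).hom.toAlgebra
  haveI : Module.Flat (S.presheaf.stalk (f.base a)) (A.presheaf.stalk a) := Flat.stalkMap f a
  obtain ⟨rs, hl, hm, hr⟩ := (CommAlgDim.le_depth_iff n).mp h
  refine (CommAlgDim.le_depth_iff n).mpr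
    ⟨rs.map (algebraMap _ (A.presheaf.stalk a)), by simp [hl], ?_, hr.of_flat⟩
  intro r hr'
  obtain ⟨s, hs, rfl⟩ := List.mem_map.mp hr'
  exact map_nonunit (f.stalkMap a).hom s (hm s hs)

theorem depth_line {A : Scheme.{u}} [IsLocallyNoetherian A] {L : A.Modules} (hL : PicF.IsInvertible L)
    (a : A) (n : ℕ) (h : (n : ℕ∞) ≤ LocCoh.depth (A.presheaf.stalk a) (A.presheaf.stalk a)) :
    (n : ℕ∞) ≤ LocCoh.depth (A.presheaf.stalk a) (L.presheaf.stalk a) := by
  obtain ⟨e⟩ := CurvLib.nonempty_stalk_pi_of_locFree (CurvLib.locFree_of_isInvertible hL) a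
  haveI := ZClosLib.finite_stalk (CurvLib.isCoh_of_isInvertible hL) a
  exact (CommAlgDim.le_depth_iff n).mpr (((CommAlgDim.le_depth_iff n).mp h).congr
    (e.trans (LinearEquiv.funUnique (Fin 1) _ _)).symm)

theorem mono_of_stalks {X : Scheme.{u}} {M N : X.Modules} (φ : M ⟶ N)
    (h : ∀ x : X, Mono ((DerSch.stalkFunctor X x).map φ)) : Mono φ := by
  rw [Preadditive.mono_iff_isZero_kernel, KFlatLib.isZero_iff_forall_stalk]
  intro x
  have := h x
  exact (isZero_kernel_of_mono _).of_iso (PreservesKernel.iso (DerSch.stalkFunctor X x) φ)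

/-- Let S be a locally Noetherian scheme, f : A → S a smooth morphism, L an invertible O_A-module and V
an open subscheme of S; for an open W of S consider the restriction of sections of L from f⁻¹(W) to
f⁻¹(W) ∩ f⁻¹(V), that is the component over W of the natural map f_*L → j_*j^*(f_*L), j : V → S the
inclusion. If V is schematically dense in S, all these restrictions are injective. If V is a big
open of S, meaning that the local ring of S at every point outside V has depth at least 2, all these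
restrictions are bijective. (The published statement is for a semi-stable group scheme A; its proof
uses only the smoothness of A over S and the local freeness of L, which are the hypotheses kept
here.) -/
theorem result {S A : Scheme.{u}} [IsLocallyNoetherian S]
    (f : A ⟶ S) [Smooth f] (L : A.Modules) (hL : PicF.IsInvertible L) (V : S.Opens) :
    (CInt.IsSchematicallyDense V →
      ∀ W : S.Opens, Function.Injective (L.val.map (homOfLE (inf_le_left : f ⁻¹ᵁ W ⊓ f ⁻¹ᵁ V ≤ f ⁻¹ᵁ W)).op)) ∧
    ((∀ x : S, x ∉ V → 2 ≤ LocCoh.depth (S.presheaf.stalk x) (S.presheaf.stalk x)) →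
      ∀ W : S.Opens, Function.Bijective (L.val.map (homOfLE (inf_le_left : f ⁻¹ᵁ W ⊓ f ⁻¹ᵁ V ≤ f ⁻¹ᵁ W)).op)) := by
  haveI : IsLocallyNoetherian A := LocallyOfFiniteType.isLocallyNoetherian f
  have hF := CurvLib.isCoh_of_isInvertible hL
  let Z : Set A := ((f ⁻¹ᵁ V : A.Opens) : Set A)ᶜ
  have hZ : StableUnderSpecialization Z :=
    (IsClosed.stableUnderSpecialization (f ⁻¹ᵁ V).isOpen.isClosed_compl)
  have hdiff : ∀ W : S.Opens, ((f ⁻¹ᵁ W : A.Opens) : Set A) \ (f ⁻¹ᵁ W ⊓ f ⁻¹ᵁ V : A.Opens) ⊆ Z :=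
    fun W x hx hV => hx.2 ⟨hx.1, hV⟩
  refine ⟨fun hV W => ?_, fun hV W => ?_⟩
  · have hp : ∀ x : A, ZClos.IsZPureAt Z L x := fun x => (isZPureAt_iff hZ hF x).mpr fun y _ hy =>
      depth_line hL y 1 (depth_pullback_le f y 1 (depth_ge_one_iff.mpr fun hass =>
        hy ((AssPointLib.isSchematicallyDense_iff V).mp hV _ hass)))
    have hpure : ZClos.IsZPure Z L := mono_of_stalks _ fun x =>
      (ModuleCat.mono_iff_injective _).mpr ((rhoStalk_injective_iff x).mp (hp x))
    exact (isZPure_iff hZ).mp hpure _ (hdiff W)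
  · have hc : ∀ x : A, ZClos.IsZClosedAt Z L x := fun x => (isZClosedAt_iff hZ hF x).mpr fun y _ hy =>
      depth_line hL y 2 (depth_pullback_le f y 2 (hV (f.base y) hy))
    have hclosed : ZClos.IsZClosed Z L := FiltSectLib.isIso_of_stalks _ fun x =>
      (ConcreteCategory.isIso_iff_bijective _).mpr
        ⟨(rhoStalk_injective_iff x).mp (hc x).1, (rhoStalk_surjective_iff x).mp (hc x).2⟩
    obtain ⟨hi, he⟩ := (isZClosed_iff hZ).mp hclosed
    exact ⟨hi _ (hdiff W), he _ (hdiff W)⟩

end Groth.Agent.S14330
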