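import Groth.Statements.S14338
import Groth.Agent.SemiRankLib.Reduced
import Mathlib.RingTheory.Flat.EquationalCriterion
import Mathlib.Algebra.Module.Projective
-- import your own Groth.Agent.* helpers here

set_option autoImplicit false
universe u
open CAlg

namespace Groth.Agent.S14338

/-- Let B be a Noetherian ring, K and K' finitely generated flat B-modules and φ : K → K' a B-linear
map; for a prime y of B write κ(y) for its residue field and φ_y for the base change κ(y) ⊗ K → κ(y)
⊗ K'. Assume B is reduced and the number dim_{κ(y)} Im(φ_y) is the same for all primes y of B. Then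
the cokernel K'/Im φ and the image Im φ are projective (locally free) B-modules. -/
theorem result (B : Type u) [CommRing B] [IsNoetherianRing B] (K K' : Type u) [AddCommGroup K] [Module B K] [Module.Finite B K] [Module.Flat B K] [AddCommGroup K'] [Module B K'] [Module.Finite B K'] [Module.Flat B K'] (φ : K →ₗ[B] K') [IsReduced B] (hconst : ∃ c : ℕ, ∀ y : PrimeSpectrum B, Module.finrank y.asIdeal.ResidueField ↥(LinearMap.range (φ.baseChange y.asIdeal.ResidueField)) = c) : Module.Projective B (K' ⧸ LinearMap.range φ) ∧ Module.Projective B ↥(LinearMap.range φ) := by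
  obtain ⟨c, hc⟩ := hconst
  have hK' := Module.finitePresentation_of_finite B K'
  have := Module.finitePresentation_of_finite B (K' ⧸ LinearMap.range φ)
  have hQ : Module.Projective B (K' ⧸ LinearMap.range φ) := by
    refine SemiRankLib.projective_of_fibreRank_le_const _ fun p q hpq => ?_
    have hp := SemiRankLib.finrank_range_add_fibreRank_coker φ p
    have hq := SemiRankLib.finrank_range_add_fibreRank_coker φ q
    have hr : Module.rankAtStalk (R := B) K' p = Module.rankAtStalk (R := B) K' q := Module.rankAtStalk_eq_of_le_of_finite_of_flat (M := K') hpq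
    rw [hc, SemiRankLib.fibreRank_eq_rankAtStalk K'] at hp hq
    omega
  refine ⟨hQ, ?_⟩
  obtain ⟨σ, hσ⟩ := Module.projective_lifting_property (LinearMap.range φ).mkQ LinearMap.id (Submodule.mkQ_surjective _)
  haveI : Module.Projective B K' := Module.Flat.projective_of_finitePresentation
  refine Module.Projective.of_split (LinearMap.range φ).subtype (LinearMap.codRestrict _ (LinearMap.id - σ ∘ₗ (LinearMap.range φ).mkQ) fun x => ?_) ?_
  · rw [← Submodule.Quotient.mk_eq_zero, LinearMap.sub_apply, Submodule.Quotient.mk_sub, sub_eq_zero]
    exact (LinearMap.congr_fun hσ (Submodule.Quotient.mk x)).symm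
  · refine LinearMap.ext fun x => Subtype.ext ?_
    have hx : (LinearMap.range φ).mkQ (x : K') = 0 := (Submodule.Quotient.mk_eq_zero _).mpr x.2
    simp [hx]

end Groth.Agent.S14338
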