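import Groth.Statements.S1434
import Mathlib
import Mathlib
-- import your own Groth.Agent.* helpers here

set_option autoImplicit false
universe u
open FlatMor

namespace Groth.Agent.S1434

open AlgebraicGeometry CategoryTheory Limits in
/-- Part (1), for a closed subscheme: let Z ⊂ X be the closed subscheme cut out by an ideal sheaf I and
Z' the one cut out by I², its first order infinitesimal neighbourhood. Given a first order
thickening T → T', a morphism a : T → Z and a morphism b : T' → X compatible with them, there is a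
unique morphism T' → Z' through which b factors (compatibility with a is then automatic). -/
theorem result {X T T' : Scheme.{u}} (I : X.IdealSheafData) (t : T ⟶ T') (ht : MoreMor.IsFirstOrderThickening t)
    (a : T ⟶ I.subscheme) (b : T' ⟶ X) (w : a ≫ I.subschemeι = t ≫ b) :
    ∃! a' : T' ⟶ (I ^ 2).subscheme, a' ≫ (I ^ 2).subschemeι = b := by
  obtain ⟨⟨hcl, -⟩, hsq⟩ := ht
  haveI := hcl
  have key : I ^ 2 ≤ b.ker := by
    refine Scheme.IdealSheafData.le_ofIdeals_iff.2 fun U s hs => ?_
    rw [Scheme.IdealSheafData.ideal_pow, Pi.pow_apply, pow_two] at hs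
    rw [RingHom.mem_ker]
    refine Submodule.mul_induction_on hs (fun x hx y hy => ?_) fun x y hx hy => by rw [map_add, hx, hy, add_zero]
    show (b.app U.1).hom (x * y) = 0
    refine TopCat.Presheaf.section_ext T'.sheaf _ _ _ fun z hz => ?_
    obtain ⟨W, hW, hzW, hWU⟩ := exists_isAffineOpen_mem_and_subset (X := T') (x := z) (U := b ⁻¹ᵁ U.1) hz
    have hmem : ∀ x ∈ I.ideal U, b.appLE U.1 W hWU x ∈ t.ker.ideal ⟨W, hW⟩ := fun x hx => by
      rw [Scheme.Hom.ker_apply, RingHom.mem_ker]
      have h0 : I.subschemeι.app U.1 x = 0 := by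
        rw [← RingHom.mem_ker, ← Scheme.Hom.ker_apply, Scheme.IdealSheafData.ker_subschemeι]
        exact hx
      show (t.app W).hom ((b.appLE U.1 W hWU).hom x) = 0
      have hle : t ⁻¹ᵁ W ≤ (a ≫ I.subschemeι) ⁻¹ᵁ U.1 := fun p hp => by rw [w]; exact hWU hp
      have h1 : (t ≫ b).appLE U.1 (t ⁻¹ᵁ W) (w ▸ hle) x = 0 := by
        have h2 : (a ≫ I.subschemeι).appLE U.1 (t ⁻¹ᵁ W) hle x = 0 := by
          simp [Scheme.Hom.appLE, Scheme.Hom.comp_app, h0]
        have aux : ∀ (g g' : T ⟶ X) (_ : g = g') (q : t ⁻¹ᵁ W ≤ g ⁻¹ᵁ U.1) (q' : t ⁻¹ᵁ W ≤ g' ⁻¹ᵁ U.1),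
            g.appLE U.1 (t ⁻¹ᵁ W) q x = 0 → g'.appLE U.1 (t ⁻¹ᵁ W) q' x = 0 := by
          rintro g _ rfl q q' h
          exact h
        exact aux _ _ w _ _ h2
      rw [← h1, ← Scheme.Hom.appLE_comp_appLE t b U.1 W (t ⁻¹ᵁ W) hWU le_rfl, Scheme.Hom.appLE_eq_app]
      rfl
    have hprod : b.appLE U.1 W hWU (x * y) = 0 := by
      rw [map_mul]
      have := Ideal.mul_mem_mul (hmem x hx) (hmem y hy)
      rw [← Pi.mul_apply, ← Scheme.IdealSheafData.ideal_mul, hsq] at this
      simpa using this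
    have e := congrArg (T'.presheaf.germ W z hzW) hprod
    rw [map_zero, Scheme.Hom.appLE, CommRingCat.comp_apply, TopCat.Presheaf.germ_res_apply] at e
    exact e.trans (map_zero _).symm
  refine ⟨IsClosedImmersion.lift (I ^ 2).subschemeι b (by rwa [Scheme.IdealSheafData.ker_subschemeι]), ?_, ?_⟩
  · exact IsClosedImmersion.lift_fac _ _ _
  · intro a' ha'
    rw [← cancel_mono (I ^ 2).subschemeι, ha', IsClosedImmersion.lift_fac]

end Groth.Agent.S1434
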