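import Groth.Statements.S14341
import Groth.Agent.EllLawLib.Field

set_option autoImplicit false
universe u
open CategoryTheory CategoryTheory.Limits AlgebraicGeometry
open Curves

namespace Groth.Agent.S14341

/-- Let k be a field and X a smooth proper geometrically connected curve over k (of dimension one) of
genus dim_k H^1(X, O_X) = 1, with a k-rational point O (a closed point with residue field k); for a
k-rational point P write I_P for the ideal sheaf of the reduced point P, an invertible ideal with
inverse O_X(P). Then for every invertible O_X-module L of degree 0 there is exactly one k-rational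
point P with L ⊗ I_P ≅ I_O, that is L ≅ O_X(P − O): the map P ↦ O_X(P − O) is a bijection from X(k)
onto the isomorphism classes of invertible modules of degree zero. -/
theorem result (k : Type u) [Field k] (X : Scheme.{u}) [X.Over (Spec (CommRingCat.of k))] [IsProper (X ↘ Spec (CommRingCat.of k))] [Smooth (X ↘ Spec (CommRingCat.of k))] [GeometricallyConnected (X ↘ Spec (CommRingCat.of k))] (hX : topologicalKrullDim X = 1) (hg : Curv2.genus k X = 1) (O : X) (hOc : IsClosed ({O} : Set X)) (hO : Function.Bijective (Curv2.resMap k X O)) (L : X.Modules) (hL : PicF.IsInvertible L) (hdeg : Curv2.deg k X L 1 = 0) : ∃! P : {x : X // IsClosed ({x} : Set X) ∧ Function.Bijective (Curv2.resMap k X x)}, Nonempty (CohB1.tensorMod L (ClSub.idealMod (Scheme.IdealSheafData.vanishingIdeal ⟨{P.1}, P.2.1⟩)) ≅ ClSub.idealMod (Scheme.IdealSheafData.vanishingIdeal ⟨{O}, hOc⟩)) := by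
  haveI := FibVALib.geometricallyIntegral_of_geometricallyConnected (X ↘ Spec (CommRingCat.of k))
  haveI : IsIntegral X := GeometricallyIntegral.isIntegral_of_subsingleton (X ↘ Spec (CommRingCat.of k))
  have hf : EllLawLib.IsCurveFam (X ↘ Spec (CommRingCat.of k)) :=
    ⟨inferInstance, inferInstance, inferInstance, fun s => (EllLawLib.dim_fiber_spec _ s).trans hX,
      fun s => (EllLawLib.fiberRank_spec _ 1 s).trans hg⟩
  have hrat : ∀ (P : X), Function.Bijective (Curv2.resMap k X P) →
      ∃ w : Spec (CommRingCat.of k) ⟶ X, w ≫ (X ↘ Spec (CommRingCat.of k)) = 𝟙 _ ∧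
        w (IsLocalRing.closedPoint k) = P := fun P hP => by
    refine EllLawLib.exists_rational_of_finrank_one ?_
    letI : Algebra k (X.residueField P) := Curv2.resAlgebra k X P
    exact ((LinearEquiv.ofBijective (Algebra.linearMap k (X.residueField P)) hP).finrank_eq).symm.trans
      (Module.finrank_self k)
  have hker : ∀ (w : Spec (CommRingCat.of k) ⟶ X), w ≫ (X ↘ Spec (CommRingCat.of k)) = 𝟙 _ →
      ∀ (P : X) (hPc : IsClosed ({P} : Set X)), w (IsLocalRing.closedPoint k) = P →
        Scheme.IdealSheafData.vanishingIdeal ⟨{P}, hPc⟩ = w.ker := fun w hw P hPc hwP => by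
    subst hwP
    exact (SecDivLib.ker_rational w hw).symm
  obtain ⟨o, ho, hoO⟩ := hrat O hO
  rw [hker o ho O hOc hoO]
  have hI := IntMultLib.isInvertible_idealMod _ (hf.isEffCartier o ho)
  obtain ⟨J, hJ, hIJ⟩ := EllLawLib.exists_inv_rep hI
  have hd : Curv2.deg k X (CohB1.tensorMod L J) 1 = 1 := by
    obtain ⟨e⟩ := CubeConsLib.cl_eq_one_iff.1 ((CubeConsLib.cl_tensor _ _).trans hIJ)
    have h1 := GenusZeroLib.deg_tensor k hX hI hJ
    rw [CurvLib.deg_congr (k := k) e 1] at h1
    haveI : IsDiscreteValuationRing (X.presheaf.stalk (o (IsLocalRing.closedPoint k))) :=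
      HurwitzLib.dvr_stalk_closed (k := k) hX (GenusZeroLib.isClosed_rational o ho _)
    obtain ⟨N, ⟨eN⟩, -, hNd⟩ := GenusZeroLib.exists_idealMod_iso (k := k)
      (GenusZeroLib.isClosed_rational o ho (IsLocalRing.closedPoint k)) hX
    rw [GenusZeroLib.finrank_residueField_rational o ho,
      CurvLib.deg_congr (k := k) (eN ≪≫ eqToIso (by rw [SecDivLib.ker_rational o ho]) : N ≅ ClSub.idealMod o.ker) 1] at hNd
    have h2 := GenusZeroLib.deg_tensor k hX hL hJ
    rw [hdeg] at h2
    simp only [Curv2.deg] at h1 hNd h2 ⊢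
    omega
  obtain ⟨x, hx, hxc⟩ := EllLawLib.exists_point_field _ hf (HilbPolyLib.isInvertible_tensor hL hJ) hd
  have hcx : CubeConsLib.cl L * EllLawLib.idCls x.ker = EllLawLib.idCls o.ker := by
    rw [CubeConsLib.cl_tensor] at hxc
    calc CubeConsLib.cl L * EllLawLib.idCls x.ker
        = (CubeConsLib.cl L * EllLawLib.idCls x.ker) * (EllLawLib.idCls o.ker * CubeConsLib.cl J) := by
          rw [show EllLawLib.idCls o.ker * CubeConsLib.cl J = 1 from hIJ, _root_.mul_one]
      _ = EllLawLib.idCls o.ker * (EllLawLib.idCls x.ker * (CubeConsLib.cl L * CubeConsLib.cl J)) := by ac_rfl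
      _ = EllLawLib.idCls o.ker := by rw [hxc, _root_.mul_one]
  have hres : Function.Bijective (Curv2.resMap k X (x (IsLocalRing.closedPoint k))) := by
    letI : Algebra k (X.residueField (x (IsLocalRing.closedPoint k))) := Curv2.resAlgebra k X _
    refine ⟨RingHom.injective _, fun z => ?_⟩
    obtain ⟨c, hc⟩ := (finrank_eq_one_iff_of_nonzero' (1 : X.residueField (x (IsLocalRing.closedPoint k))) one_ne_zero).1
      (GenusZeroLib.finrank_residueField_rational x hx _) z
    exact ⟨c, ((_root_.mul_one _).symm.trans ((Algebra.smul_def c (1 : X.residueField (x (IsLocalRing.closedPoint k)))).symm.trans hc))⟩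
  refine ⟨⟨x (IsLocalRing.closedPoint k), GenusZeroLib.isClosed_rational x hx _, hres⟩, ?_, ?_⟩
  · show Nonempty (_ ≅ _)
    rw [hker x hx _ _ rfl]
    exact CubeConsLib.cl_eq_iff.1 hcx
  · rintro ⟨P, hPc, hPb⟩ hP
    obtain ⟨w, hw, hwP⟩ := hrat P hPb
    simp only at hP
    rw [hker w hw P hPc hwP] at hP
    have hcw : CubeConsLib.cl L * EllLawLib.idCls w.ker = EllLawLib.idCls o.ker := CubeConsLib.cl_eq_iff.2 hP
    have := EllLawLib.point_unique_field _ hf hw hx
      ((EllLawLib.isUnit_cl hL).mul_right_injective (hcw.trans hcx.symm))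
    subst this
    exact Subtype.ext hwP.symm


end Groth.Agent.S14341
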