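import Groth.Statements.S14345
import Groth.Agent.FittLib.LocFree
import Mathlib


-- import your own Groth.Agent.* helpers here

set_option autoImplicit false
universe u v
open TensorProduct
open QuotLF

namespace Groth.Agent.S14345

/-- Let R be a commutative ring, M a finitely generated R-module and k ≥ 0. If for an R-algebra A the
module A ⊗_R M admits a quotient that is finite projective of constant rank k (an A-valued point of
the Quot scheme of rank-k locally free quotients of M), then every Fitting ideal Fit_j(M) with j < k
extends to the zero ideal of A; that is, the structure map of the Quot scheme of rank-k locally free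
quotients factors through the closed subscheme cut out by Fit_{k-1}(M). -/
theorem result (R : Type u) [CommRing R]
    (M : Type v) [AddCommGroup M] [Module R M] [Module.Finite R M] (k : ℕ)
    (A : Type u) [CommRing A] [Algebra R A] (N : Module.Grassmannian A (A ⊗[R] M) k)
    (j : ℕ) (hj : j < k) :
    (Fitt.ideal R M j).map (algebraMap R A) = ⊥ := by
  classical
  haveI := N.finite_quotient
  haveI := N.projective_quotient
  set P := (A ⊗[R] M) ⧸ N.toSubmodule
  have hP : Fitt.ideal A P j = ⊥ := by
    refine eq_bot_iff.mpr fun a ha => ?_
    rw [Ideal.mem_bot]
    refine Module.eq_zero_of_localization_maximal (R := A) (fun P _ => Localization.AtPrime P)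
      (fun P _ => Algebra.linearMap A (Localization.AtPrime P)) a fun m hm => ?_
    show algebraMap A (Localization.AtPrime m) a = 0
    haveI : Module.Free (Localization.AtPrime m) (LocalizedModule m.primeCompl P) :=
      Module.free_of_flat_of_isLocalRing
    have hr : Module.finrank (Localization.AtPrime m) (LocalizedModule m.primeCompl P) = k :=
      N.rankAtStalk_eq ⟨m, hm.isPrime⟩
    have h := FittLib.ideal_localized (R := A) (M := P) m.primeCompl j
    rw [FittLib.ideal_of_basis (Module.finBasisOfFinrankEq _ _ hr) j, Fintype.card_fin,
      if_neg (by omega)] at h
    have h2 := Ideal.mem_map_of_mem (algebraMap A (Localization.AtPrime m)) ha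
    rw [show (algebraMap A (Localization.AtPrime m)) = algebraMap A (Localization m.primeCompl) from rfl,
      ← h, Ideal.mem_bot] at h2
    exact h2
  rw [eq_bot_iff, ← FittLib.ideal_tensor (S := A)]
  exact (FittLib.ideal_le_of_surjective N.toSubmodule.mkQ (Submodule.mkQ_surjective _) j).trans hP.le

end Groth.Agent.S14345
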