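import Groth.Statements.S14346
import Mathlib
import Mathlib
-- import your own Groth.Agent.* helpers here

set_option autoImplicit false
universe u v
open TensorProduct
open QuotLF

namespace Groth.Agent.S14346

/-- Let R be a commutative ring, M an R-module, k ≥ 0, and A an R-algebra for which A ⊗_R M is finite
projective of constant rank k, i.e. Spec A → Spec R factors through the locally closed stratum where
M is locally free of rank k. Then A ⊗_R M has exactly one rank-k locally free quotient: the zero
submodule has finite projective quotient of constant rank k, and every submodule with such a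
quotient is zero. In other words the Quot scheme of rank-k locally free quotients of M restricted to
that stratum maps isomorphically onto it. -/
theorem result (R : Type u) [CommRing R]
    (M : Type v) [AddCommGroup M] [Module R M] (k : ℕ)
    (A : Type u) [CommRing A] [Algebra R A] [Module.Finite A (A ⊗[R] M)] [Module.Projective A (A ⊗[R] M)]
    (hk : ∀ p : PrimeSpectrum A, Module.rankAtStalk (R := A) (A ⊗[R] M) p = k) :
    (∃ N : Module.Grassmannian A (A ⊗[R] M) k, N.toSubmodule = ⊥) ∧
      ∀ N : Module.Grassmannian A (A ⊗[R] M) k, N.toSubmodule = ⊥ := by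
  classical
  have hex : ∀ p, Module.rankAtStalk (R := A) ((A ⊗[R] M) ⧸ (⊥ : Submodule A (A ⊗[R] M))) p = k := fun p => by
    rw [Module.rankAtStalk_eq_of_equiv (Submodule.quotEquivOfEqBot _ rfl)]; exact hk p
  refine ⟨⟨{ toSubmodule := ⊥
             finite_quotient := Module.Finite.equiv (Submodule.quotEquivOfEqBot _ rfl).symm
             projective_quotient := Module.Projective.of_equiv (Submodule.quotEquivOfEqBot _ rfl).symm
             rankAtStalk_eq := hex }, rfl⟩, fun N => ?_⟩
  have := N.projective_quotient
  obtain ⟨s, hs⟩ := Module.projective_lifting_property N.toSubmodule.mkQ LinearMap.id N.toSubmodule.mkQ_surjective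
  let q : (A ⊗[R] M) →ₗ[A] N.toSubmodule :=
    (LinearMap.id - s.comp N.toSubmodule.mkQ).codRestrict N.toSubmodule fun x => by
      rw [← Submodule.Quotient.mk_eq_zero]
      have := LinearMap.congr_fun hs (N.toSubmodule.mkQ x)
      simp only [LinearMap.sub_apply, LinearMap.id_apply, LinearMap.comp_apply, Submodule.Quotient.mk_sub] at this ⊢
      exact sub_eq_zero.2 this.symm
  have hs' : ∀ x, N.toSubmodule.mkQ (s x) = x := fun x => LinearMap.congr_fun hs x
  have hq : ∀ n : N.toSubmodule, q n = n := fun n => Subtype.ext (by
    show (n : A ⊗[R] M) - s (N.toSubmodule.mkQ n) = n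
    rw [Submodule.mkQ_apply, (Submodule.Quotient.mk_eq_zero _).2 n.2, map_zero, sub_zero])
  let e : (A ⊗[R] M) ≃ₗ[A] N.toSubmodule × ((A ⊗[R] M) ⧸ N.toSubmodule) :=
    { q.prod N.toSubmodule.mkQ with
      invFun := fun y => (y.1 : A ⊗[R] M) + s y.2
      left_inv := fun x => by
        show (x - s (N.toSubmodule.mkQ x)) + s (N.toSubmodule.mkQ x) = x
        simp
      right_inv := fun y => by
        obtain ⟨n, x⟩ := y
        have h1 : N.toSubmodule.mkQ ((n : A ⊗[R] M) + s x) = x := by
          rw [map_add, hs', Submodule.mkQ_apply, (Submodule.Quotient.mk_eq_zero _).2 n.2, zero_add]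
        refine Prod.ext (Subtype.ext ?_) h1
        show (n : A ⊗[R] M) + s x - s (N.toSubmodule.mkQ ((n : A ⊗[R] M) + s x)) = n
        rw [h1, add_sub_cancel_right] }
  haveI : Module.Finite A N.toSubmodule := Module.Finite.of_surjective q fun n => ⟨n, hq n⟩
  haveI : Module.Projective A N.toSubmodule := Module.Projective.of_split N.toSubmodule.subtype q (LinearMap.ext hq)
  have h2 := Module.rankAtStalk_eq_of_equiv (R := A) (M := A ⊗[R] M) (N := N.toSubmodule × ((A ⊗[R] M) ⧸ N.toSubmodule)) e
  rw [Module.rankAtStalk_prod] at h2
  have h3 : Subsingleton N.toSubmodule := Module.rankAtStalk_eq_zero_iff_subsingleton.1 (funext fun p => by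
    have h := congrFun h2 p
    rw [Pi.add_apply, hk, N.rankAtStalk_eq] at h
    show _ = 0
    omega)
  exact Submodule.subsingleton_iff_eq_bot.1 h3

end Groth.Agent.S14346
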