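import Groth.Statements.S14351
import Mathlib.RingTheory.Flat.FaithfullyFlat.Basic
import Mathlib.LinearAlgebra.TensorProduct.Tower
import Mathlib.RingTheory.Flat.Basic
-- import your own Groth.Agent.* helpers here

set_option autoImplicit false
universe u
open CAlg
open scoped TensorProduct

namespace Groth.Agent.S14351

/-- For ring maps A → B → C with C faithfully flat over B and C faithfully flat over A, the ring B is
faithfully flat over A. -/
theorem result (A B C : Type u) [CommRing A] [CommRing B]
    [CommRing C] [Algebra A B] [Algebra B C] [Algebra A C] [IsScalarTower A B C]
    [Module.FaithfullyFlat B C] [Module.FaithfullyFlat A C] : Module.FaithfullyFlat A B := by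
  rw [Module.FaithfullyFlat.iff_flat_and_lTensor_reflects_triviality]
  refine ⟨?_, ?_⟩
  · rw [Module.Flat.iff_lTensor_preserves_injective_linearMap]
    intro N P _ _ _ _ f hf
    let g : B ⊗[A] N →ₗ[B] B ⊗[A] P := f.baseChange B
    have hg : Function.Injective (g.lTensor C) := by
      have hcomm : ∀ z : C ⊗[B] (B ⊗[A] N),
          TensorProduct.AlgebraTensorModule.cancelBaseChange A B B C P (g.lTensor C z) =
            f.lTensor C (TensorProduct.AlgebraTensorModule.cancelBaseChange A B B C N z) := by
        intro z
        induction z using TensorProduct.induction_on with
        | zero => simp
        | add x y hx hy => simp only [map_add, hx, hy]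
        | tmul c w =>
          induction w using TensorProduct.induction_on with
          | zero => simp
          | add x y hx hy => simp only [TensorProduct.tmul_add, map_add, hx, hy]
          | tmul b n => simp [g]
      intro x y hxy
      have h1 := hcomm x
      rw [hxy, hcomm y] at h1
      exact (TensorProduct.AlgebraTensorModule.cancelBaseChange A B B C N).injective
        (Module.Flat.lTensor_preserves_injective_linearMap f hf h1).symm
    have := (Module.FaithfullyFlat.lTensor_injective_iff_injective B C g).mp hg
    exact fun x y h => this h
  · intro N _ _ hN
    have : Subsingleton (C ⊗[A] N) :=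
      (TensorProduct.AlgebraTensorModule.cancelBaseChange A B B C N).symm.toEquiv.subsingleton
    exact Module.FaithfullyFlat.lTensor_reflects_triviality A C N

end Groth.Agent.S14351
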