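import Groth.Statements.S14354
import Groth.Agent.RlimQcohLib.Main
import Groth.Agent.MittagLeffler.Seq
import Groth.Agent.DevissLib.Basic
import Groth.Agent.DevissLib.Stalk
import Groth.Agent.QCohLib.AffineFinite

open TopologicalSpace

set_option autoImplicit false
set_option backward.isDefEq.respectTransparency false
set_option backward.isDefEq.respectTransparency.types false
universe u
open CategoryTheory CategoryTheory.Limits AlgebraicGeometry Opposite
open Coh

namespace Groth.Agent.S14354

section Helpers

variable {X : Scheme.{u}} (G : ℕᵒᵖ ⥤ X.Modules)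

theorem surj_affine {M N : X.Modules} (φ : M ⟶ N) [Epi φ] (hM : Coh.IsQCoh M) (hN : Coh.IsQCoh N)
    {U : X.Opens} (hU : IsAffineOpen U) : Function.Surjective (φ.app U) := by
  haveI := hM
  haveI := hN
  let S : ShortComplex X.Modules := ShortComplex.mk (kernel.ι φ) φ (kernel.condition _)
  have hS : S.ShortExact :=
    { exact := ShortComplex.exact_of_f_is_kernel _ (kernelIsKernel _)
      mono_f := inferInstanceAs (Mono (kernel.ι φ))
      epi_g := inferInstanceAs (Epi φ) }
  haveI : Coh.IsQCoh S.X₁ := QCohLib.isQCoh_kernel φ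
  exact QCohLib.app_surjective_of_affine hS hU

theorem app_comp_apply {A B C : X.Modules} (f : A ⟶ B) (g : B ⟶ C) (U : X.Opens) (x : Γ(A, U)) :
    (f ≫ g).app U x = g.app U (f.app U x) := rfl

variable (hQ : ∀ n : ℕ, Coh.IsQCoh (G.obj (op n)))
include hQ

theorem range_eq {V : X.Opens} (hV : IsAffineOpen V) {e d : ℕ} {hd : e ≤ d}
    (hst : ∀ (d' : ℕ) (hd' : d ≤ d'), imageSubobject (G.map (homOfLE (hd.trans hd')).op) =
      imageSubobject (G.map (homOfLE hd).op)) (d' : ℕ) (hd' : d ≤ d') :
    Set.range ((G.map (homOfLE hd).op).app V) = Set.range ((G.map (homOfLE (hd.trans hd')).op).app V) := by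
  haveI := hQ e
  haveI := hQ d'
  have hr : ∀ (c : ℕ) (hc : e ≤ c), Set.range ((G.map (homOfLE hc).op).app V) =
      Set.range ((imageSubobject (G.map (homOfLE hc).op)).arrow.app V) := by
    intro c hc
    haveI := hQ c
    haveI := QCohLib.isQCoh_image (G.map (homOfLE hc).op)
    have hI : Coh.IsQCoh (imageSubobject (G.map (homOfLE hc).op) : X.Modules) :=
      QCohLib.isQCoh_of_iso (M := Abelian.image (G.map (homOfLE hc).op))
        (Abelian.imageIsoImage _ ≪≫ (imageSubobjectIso _).symm)
    have hf := imageSubobject_arrow_comp (G.map (homOfLE hc).op)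
    apply Set.Subset.antisymm
    · rintro _ ⟨y, rfl⟩
      exact ⟨(factorThruImageSubobject (G.map (homOfLE hc).op)).app V y, by rw [← app_comp_apply, hf]⟩
    · rintro _ ⟨y, rfl⟩
      obtain ⟨x, rfl⟩ := surj_affine (factorThruImageSubobject (G.map (homOfLE hc).op)) (hQ c) hI hV y
      exact ⟨x, by rw [← app_comp_apply, hf]⟩
  have key : ∀ (P Q : Subobject (G.obj (op e))), P = Q →
      Set.range (P.arrow.app V) = Set.range (Q.arrow.app V) := by
    rintro P Q rfl
    rfl
  rw [hr d hd, hr d' (hd.trans hd')]
  exact key _ _ (hst d' hd').symm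

theorem exists_lim (hML : ∀ e : ℕ, ∃ (d : ℕ) (hd : e ≤ d), ∀ (d' : ℕ) (hd' : d ≤ d'),
      imageSubobject (G.map (homOfLE (hd.trans hd')).op) = imageSubobject (G.map (homOfLE hd).op))
    {V : X.Opens} (hV : IsAffineOpen V) {e : ℕ} (x : Γ(G.obj (op e), V))
    (hx : ∀ k (hk : e ≤ k), ∃ y, (G.map (homOfLE hk).op).app V y = x) :
    ∃ z : Γ(limit G, V), (limit.π G (op e)).app V z = x := by
  let F : ℕᵒᵖ ⥤ Type u := (G ⋙ FormalLimVanishLib.secM V) ⋙ forget AddCommGrpCat
  have h : F.IsMittagLeffler := by
    intro j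
    obtain ⟨d, hd, hst⟩ := hML j.unop
    refine ⟨op d, (homOfLE hd).op, fun k g => ?_⟩
    obtain ⟨k⟩ := k
    intro y hy
    have h1 : y ∈ Set.range ((G.map (homOfLE (hd.trans (le_max_right k d))).op).app V) :=
      range_eq G hQ hV hst _ (le_max_right k d) ▸ hy
    obtain ⟨w, hw⟩ := h1
    refine ⟨(G.map (homOfLE (le_max_left k d)).op).app V w, ?_⟩
    rw [← hw]
    refine Eq.trans ?_ (congrArg (fun ψ => (G.map ψ).app V w)
      (Subsingleton.elim ((homOfLE (le_max_left k d)).op ≫ g) _))
    exact (ConcreteCategory.congr_hom (congrArg (fun φ => Scheme.Modules.Hom.app φ V)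
      (G.map_comp (homOfLE (le_max_left k d)).op g)) w).symm
  obtain ⟨s, hs⟩ := MittagLefflerLib.exists_section h (p := e) x (MittagLefflerLib.mem_eventualRange_iff.2 hx)
  obtain ⟨z, hz⟩ := FormalLimVanishLib.exists_limit_section G V (fun n => s.1 (op n))
    (fun n => s.2 (homOfLE (Nat.le_succ n)).op)
  exact ⟨z, (hz e).trans hs⟩

end Helpers


/-- Let X be a locally Noetherian scheme and (G_e)_{e ∈ ℕ} an inverse system of coherent O_X-modules
satisfying the Mittag-Leffler condition, in the sense that for every e the image subobject of G_d ⟶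
G_e is the same for all sufficiently large d. Then for every e the support of the image of the
canonical map lim_d G_d ⟶ G_e is closed in X. (The published statement is the case where G_e is the
i-th cohomology sheaf of the Fourier–Mukai transform of the e-th member of a Mittag-Leffler inverse
system of coherent modules on an abelian variety; the argument uses only the coherence of the G_e
and their Mittag-Leffler condition, which is the form stated here.) -/
theorem result (X : Scheme.{u}) [IsLocallyNoetherian X]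
    (G : ℕᵒᵖ ⥤ X.Modules) (hG : ∀ n : ℕᵒᵖ, Coh.IsCoh (G.obj n))
    (hML : ∀ e : ℕ, ∃ (d : ℕ) (hd : e ≤ d), ∀ (d' : ℕ) (hd' : d ≤ d'),
      imageSubobject (G.map (homOfLE (hd.trans hd')).op) = imageSubobject (G.map (homOfLE hd).op))
    (e : ℕ) : IsClosed (CohB1.support (image (limit.π G (op e)))) := by
  obtain ⟨d, hd, hst⟩ := hML e
  let a := G.map (homOfLE hd).op
  have hQ : ∀ n : ℕ, Coh.IsQCoh (G.obj (op n)) := fun n => (hG (op n)).1
  have hJ : Coh.IsCoh (Abelian.image a) := DevissLib.isCoh_image a (hG _) (hG _)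
  haveI := hJ.1
  let u : limit G ⟶ Abelian.image a := limit.π G (op d) ≫ Abelian.factorThruImage a
  have hu : u ≫ Abelian.image.ι a = limit.π G (op e) := by
    show (limit.π G (op d) ≫ Abelian.factorThruImage a) ≫ Abelian.image.ι a = _
    rw [Category.assoc, Abelian.image.fac]
    exact limit.w G _
  haveI : Epi u := by
    refine QCohLib.epi_of_surjective_on_affines u fun V s p hp => ?_
    obtain ⟨V', hV', hp', hle⟩ := Opens.isBasis_iff_nbhd.mp X.isBasis_affineOpens hp
    refine ⟨V', hle, hp', ?_⟩
    obtain ⟨y, hy⟩ := surj_affine (Abelian.factorThruImage a) (hQ d) hJ.1 hV'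
      ((Abelian.image a).presheaf.map (homOfLE hle).op s)
    obtain ⟨z, hz⟩ := exists_lim G hQ hML hV' (e := e) (a.app V' y) fun k hk => by
      have hk' : a.app V' y ∈ Set.range ((G.map (homOfLE (hd.trans (le_max_left d k))).op).app V') := by
        rw [← range_eq G hQ hV' hst (max d k) (le_max_left _ _)]
        exact ⟨y, rfl⟩
      obtain ⟨w, hw⟩ := hk'
      refine ⟨(G.map (homOfLE (le_max_right d k)).op).app V' w, ?_⟩
      rw [← hw]
      exact (ConcreteCategory.congr_hom (congrArg (fun φ => Scheme.Modules.Hom.app φ V')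
        (G.map_comp (homOfLE (le_max_right d k)).op (homOfLE hk).op)) w).symm
    refine ⟨z, QCohLib.app_injective_of_mono (Abelian.image.ι a) V' ?_⟩
    refine ((ConcreteCategory.congr_hom (congrArg (fun φ => Scheme.Modules.Hom.app φ V') hu) z).trans hz).trans ?_
    rw [← hy]
    exact (ConcreteCategory.congr_hom (congrArg (fun φ => Scheme.Modules.Hom.app φ V')
      (Abelian.image.fac a)) y).symm
  haveI := strongEpi_of_epi u
  rw [← DevissLib.support_iso (image.isoStrongEpiMono u (Abelian.image.ι a) hu)]
  exact QCohLib.isClosed_support _ hJ.2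

end Groth.Agent.S14354
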