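import Groth.Statements.S14355
import Mathlib

set_option autoImplicit false
universe v u
open CategoryTheory CategoryTheory.Limits
open SpSeqMor

namespace Groth.Agent.S14355

variable {C : Type u} [Category.{v} C] [Abelian C] {E E' : E₂CohomologicalSpectralSequence C}

lemma isZero_page_of_two (pq : ℤ × ℤ) (h : IsZero ((E.page 2 le_rfl).X pq)) :
    ∀ (r : ℤ) (hr : 2 ≤ r), IsZero ((E.page r hr).X pq) := by
  intro r hr
  induction r, hr using Int.le_induction with
  | base => exact h
  | succ r hr ih =>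
    refine IsZero.of_iso ?_ (E.iso r (r+1) pq rfl hr).symm
    exact (HomologicalComplex.exactAt_iff_isZero_homology _ _).1
      (ShortComplex.exact_of_isZero_X₂ _ ih)

lemma hom_f_eq_zero_of_two (φ : E ⟶ E') (pq : ℤ × ℤ) (h : (φ.hom 2 le_rfl).f pq = 0) :
    ∀ (r : ℤ) (hr : 2 ≤ r), (φ.hom r hr).f pq = 0 := by
  intro r hr
  induction r, hr using Int.le_induction with
  | base => exact h
  | succ r hr ih =>
    rw [← cancel_epi (E.iso r (r+1) pq rfl hr).hom, ← φ.comm r (r+1) pq rfl hr, comp_zero]
    have : HomologicalComplex.homologyMap (φ.hom r hr) pq = 0 := by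
      rw [← cancel_epi ((E.page r hr).homologyπ pq), HomologicalComplex.homologyπ_naturality, comp_zero]
      have hc : HomologicalComplex.cyclesMap (φ.hom r hr) pq = 0 := by
        rw [← cancel_mono ((E'.page r hr).iCycles pq), HomologicalComplex.cyclesMap_i, ih, comp_zero, zero_comp]
      rw [hc, zero_comp]
    rw [this, zero_comp]

lemma eq_of_isZero_grPiece {X : C} (F : ℤ → Subobject X) (hF : Antitone F) (p : ℤ)
    (h : IsZero (SpSeq.grPiece F hF p)) : F (p + 1) = F p := by
  have hle := hF (Int.le_add_one (le_refl p))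
  haveI : Epi ((F (p + 1)).ofLE (F p) hle) :=
    Abelian.epi_of_cokernel_π_eq_zero _ (h.eq_of_tgt _ _)
  haveI : IsIso ((F (p + 1)).ofLE (F p) hle) := isIso_of_mono_of_epi _
  exact le_antisymm hle (Subobject.le_of_comm (inv ((F (p + 1)).ofLE (F p) hle))
    ((IsIso.inv_comp_eq _).2 (Subobject.ofLE_arrow hle).symm))

lemma isZero_grPiece {H : ℤ → C} (a : SpSeq.Abutment E H) (p l : ℤ)
    (h : IsZero ((E.page 2 le_rfl).X (p, l - p))) :
    IsZero (SpSeq.grPiece (a.fil l) (a.anti l) p) := by
  have hl : (p, l - p).1 + (p, l - p).2 = l := by simp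
  have := (isZero_page_of_two _ h _ (a.stat (p, l - p)).1).of_iso (a.β (p, l - p)).symm
  revert this
  generalize (p, l - p).1 + (p, l - p).2 = m at hl
  subst hl
  exact id



/-- Let φ : E ⟶ E' be a morphism of E_2-cohomological spectral sequences in an abelian category, with
abutments H and H' whose filtrations are finite in each degree, and f a morphism of abutment data
over φ. Fix integers l and a₀. If E_2^{i, l-i} = 0 for i < a₀, E'_2^{i, l-i} = 0 for i > a₀ and
φ_2^{a₀, l-a₀} = 0, then f^l : H^l ⟶ H'^l is zero. (The published statement prints the two vanishing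
hypotheses at positions (i, l); the argument works on the line of total degree l, at positions (i, l
- i), which is the form stated here.) -/
theorem result (C : Type u) [Category.{v} C] [Abelian C]
    (E E' : E₂CohomologicalSpectralSequence C) (φ : E ⟶ E') (H H' : ℤ → C)
    (a : SpSeq.Abutment E H) (a' : SpSeq.Abutment E' H')
    (ha : ∀ n : ℤ, a.IsFinite n) (ha' : ∀ n : ℤ, a'.IsFinite n)
    (f : SpSeqMor.AbutHom φ a a') (l a₀ : ℤ)
    (hE : ∀ i : ℤ, i < a₀ → IsZero ((E.page 2 le_rfl).X (i, l - i)))
    (hE' : ∀ i : ℤ, a₀ < i → IsZero ((E'.page 2 le_rfl).X (i, l - i)))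
    (hφ : (φ.hom 2 le_rfl).f (a₀, l - a₀) = 0) :
    f.hom l = 0 := by
  have eF : ∀ i, i < a₀ → a.fil l (i + 1) = a.fil l i := fun i hi =>
    eq_of_isZero_grPiece _ (a.anti l) i (isZero_grPiece a i l (hE i hi))
  have eF' : ∀ i, a₀ < i → a'.fil l (i + 1) = a'.fil l i := fun i hi =>
    eq_of_isZero_grPiece _ (a'.anti l) i (isZero_grPiece a' i l (hE' i hi))
  have htop : a.fil l a₀ = ⊤ := by
    obtain ⟨⟨b, hb : a.fil l b = ⊤⟩, -⟩ := ha l
    rcases le_total a₀ b with h | h
    · exact top_unique (hb ▸ a.anti l h)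
    · have key : ∀ i, b ≤ i → i ≤ a₀ → a.fil l i = ⊤ := by
        intro i hi
        induction i, hi using Int.le_induction with
        | base => exact fun _ => hb
        | succ i hi ih => exact fun hh => by rw [eF i (by omega)]; exact ih (by omega)
      exact key a₀ h le_rfl
  have hbot : a'.fil l (a₀ + 1) = ⊥ := by
    obtain ⟨-, ⟨b, hb : a'.fil l b = ⊥⟩⟩ := ha' l
    rcases le_total b (a₀ + 1) with h | h
    · exact bot_unique (hb ▸ a'.anti l h)
    · have key : ∀ i, a₀ + 1 ≤ i → a'.fil l i = a'.fil l (a₀ + 1) := by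
        intro i hi
        induction i, hi using Int.le_induction with
        | base => rfl
        | succ i hi ih => rw [eF' i (by omega), ih]
      rw [← key b h, hb]
  have hgr : (f.fil l).gr a₀ = 0 := by
    have hl : (a₀, l - a₀).1 + (a₀, l - a₀).2 = l := by simp
    have e : (f.fil ((a₀, l - a₀).1 + (a₀, l - a₀).2)).gr (a₀, l - a₀).1 = 0 := by
      apply (cancel_epi (a.β (a₀, l - a₀)).hom).1
      refine (f.comm (a₀, l - a₀) (a'.rk (a₀, l - a₀) - a.rk (a₀, l - a₀)).toNat
          (a.rk (a₀, l - a₀) - a'.rk (a₀, l - a₀)).toNat (by omega)).trans ?_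
      simp [hom_f_eq_zero_of_two φ _ hφ]
      exact comp_zero.symm
    revert e
    generalize (a₀, l - a₀).1 + (a₀, l - a₀).2 = m at hl
    subst hl
    exact id
  have hz : IsZero ((a'.filObj l).step (a₀ + 1)) := by
    show IsZero ((a'.fil l (a₀ + 1) : Subobject (H' l)) : C)
    rw [hbot]
    exact (isZero_zero C).of_iso Subobject.botCoeIsoZero
  haveI : Mono (cokernel.π ((a'.filObj l).stepLE (Int.le_add_one (le_refl a₀)))) := by
    have : (a'.filObj l).stepLE (Int.le_add_one (le_refl a₀)) = 0 := hz.eq_of_src _ _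
    haveI : IsIso (cokernel.π ((a'.filObj l).stepLE (Int.le_add_one (le_refl a₀)))) := by
      exact cokernel.π_of_zero this
    infer_instance
  have hlift : (f.fil l).lift a₀ = 0 := by
    rw [← cancel_mono (cokernel.π ((a'.filObj l).stepLE (Int.le_add_one (le_refl a₀)))), zero_comp]
    have := cokernel.π_desc (f := (a.filObj l).stepLE (Int.le_add_one (le_refl a₀)))
      ((f.fil l).lift a₀ ≫ cokernel.π ((a'.filObj l).stepLE (Int.le_add_one (le_refl a₀))))
    rw [← this (by rw [FilLift.stepLE_lift_assoc, cokernel.condition, comp_zero])]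
    show cokernel.π _ ≫ (f.fil l).gr a₀ = 0
    rw [hgr]
    exact comp_zero
  haveI : IsIso ((a.filObj l).fil a₀).arrow := (Subobject.isIso_arrow_iff_eq_top _).2 htop
  have h := (f.fil l).lift_arrow a₀
  rw [hlift, zero_comp] at h
  exact (cancel_epi ((a.filObj l).fil a₀).arrow).1 (h.symm.trans comp_zero.symm)

end Groth.Agent.S14355
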