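import Groth.Statements.S14357
import Mathlib
import Groth.Agent.RelProjLib.ProjProper


-- import your own Groth.Agent.* helpers here

set_option autoImplicit false
universe u
open AlgebraicGeometry
open Proj

namespace Groth.Agent.S14357

/-- For a field k the projective line over k is not an affine scheme. (The projective line is taken here
as Proj of the polynomial ring in two variables over k with its standard grading; the book builds it
by gluing two affine lines and identifies the two constructions later.) -/
theorem result (k : Type u) [Field k] :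
    ¬ IsAffine (CohB1.ProjSpace 1 k) := by
  intro hA
  let f := CohB1.ProjSpace.toSpec 1 k
  haveI : IsProper f := RelProjLib.isProper_polyToSpec (1 + 1) k
  haveI : IsFinite f := IsFinite.iff_isProper_and_isAffineHom.mpr ⟨inferInstance, inferInstance⟩
  haveI : DiscreteTopology (CohB1.ProjSpace 1 k) := by
    have h := f.isDiscrete_preimage_singleton (Classical.arbitrary (Spec (CommRingCat.of k)))
    have e : f ⁻¹' {Classical.arbitrary (Spec (CommRingCat.of k))} = Set.univ :=
      Set.eq_univ_of_forall fun x => Subsingleton.elim (α := Spec (CommRingCat.of k)) _ _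
    rw [e] at h
    exact isDiscrete_univ_iff.mp h
  let g : ProjectiveSpectrum (CohB1.polyGrading 1 k) :=
    ⟨⊥, Ideal.isPrime_bot, fun h => by
      have h1 : (MvPolynomial.X 0 : MvPolynomial (Fin (1 + 1)) k) ∈ (⊥ : HomogeneousIdeal (CohB1.polyGrading 1 k)) :=
        h (by
          rw [HomogeneousIdeal.mem_irrelevant_iff]
          exact DirectSum.decompose_of_mem_ne (ℳ := CohB1.polyGrading 1 k) (MvPolynomial.isHomogeneous_X k (0 : Fin (1 + 1))) one_ne_zero)
      exact MvPolynomial.X_ne_zero (0 : Fin (1 + 1)) ((Submodule.mem_bot _).1 h1)⟩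
  have hspan : (Ideal.span {(MvPolynomial.X 0 : MvPolynomial (Fin (1 + 1)) k)}).IsHomogeneous (CohB1.polyGrading 1 k) :=
    Ideal.homogeneous_span _ _ (by
      rintro _ rfl
      exact ⟨1, MvPolynomial.isHomogeneous_X k (0 : Fin (1 + 1))⟩)
  let q : ProjectiveSpectrum (CohB1.polyGrading 1 k) :=
    ⟨⟨_, hspan⟩, (Ideal.span_singleton_prime (MvPolynomial.X_ne_zero _)).2 (MvPolynomial.X_prime ..), fun h => by
      have h1 : (MvPolynomial.X 1 : MvPolynomial (Fin (1 + 1)) k) ∈ Ideal.span {(MvPolynomial.X 0 : MvPolynomial (Fin (1 + 1)) k)} :=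
        h (by
          rw [HomogeneousIdeal.mem_irrelevant_iff]
          exact DirectSum.decompose_of_mem_ne (ℳ := CohB1.polyGrading 1 k) (MvPolynomial.isHomogeneous_X k (1 : Fin (1 + 1))) one_ne_zero)
      rw [Ideal.mem_span_singleton] at h1
      obtain ⟨c, hc⟩ := h1
      have := congrArg (MvPolynomial.eval (![0, 1] : Fin (1 + 1) → k)) hc
      simp at this⟩
  have hcl : q ∈ closure ({g} : Set (ProjectiveSpectrum (CohB1.polyGrading 1 k))) :=
    (ProjectiveSpectrum.le_iff_mem_closure _ _ _).1 (fun z hz => by
      have h0 : z = (0 : MvPolynomial (Fin (1 + 1)) k) := (Submodule.mem_bot _).1 hz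
      exact h0 ▸ zero_mem q.asHomogeneousIdeal.toIdeal)
  haveI : DiscreteTopology (ProjectiveSpectrum (CohB1.polyGrading 1 k)) := ‹DiscreteTopology (CohB1.ProjSpace 1 k)›
  rw [closure_discrete, Set.mem_singleton_iff] at hcl
  have h2 : (MvPolynomial.X 0 : MvPolynomial (Fin (1 + 1)) k) ∈ g.asHomogeneousIdeal.toIdeal := by
    rw [← hcl]
    exact Ideal.mem_span_singleton_self _
  exact MvPolynomial.X_ne_zero (0 : Fin (1 + 1)) ((Submodule.mem_bot _).1 h2)

end Groth.Agent.S14357
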