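import Groth.Statements.S14358
import Mathlib.RingTheory.Ideal.AssociatedPrime.Basic
import Mathlib.RingTheory.Localization.FractionRing
import Mathlib.RingTheory.Ideal.Quotient.Operations
-- import your own Groth.Agent.* helpers here

set_option autoImplicit false
universe u
open CAlg

namespace Groth.Agent.S14358

/-- Let A be a Noetherian integral domain with fraction field K and let r ∈ K. Then r belongs to A if
and only if, for every nonzero g ∈ A and every associated prime p of the A-module A/(g), the element
r belongs to the local ring A_p inside K, i.e. s r = a in K for some a ∈ A and some s ∈ A outside p. -/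
theorem result (A K : Type u)
    [CommRing A] [IsDomain A] [IsNoetherianRing A] [Field K] [Algebra A K] [IsFractionRing A K]
    (r : K) :
    r ∈ Set.range (algebraMap A K) ↔
      ∀ g : A, g ≠ 0 → ∀ p ∈ associatedPrimes A (A ⧸ Ideal.span {g}),
        ∃ a s : A, s ∉ p ∧ algebraMap A K s * r = algebraMap A K a := by
  constructor
  · rintro ⟨a, rfl⟩ g hg p hp
    exact ⟨a, 1, fun h => hp.isPrime.ne_top (p.eq_top_iff_one.mpr h), by simp⟩
  · intro h
    obtain ⟨a, b, hb, rfl⟩ := IsFractionRing.div_surjective A r
    have hb0 : b ≠ 0 := nonZeroDivisors.ne_zero hb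
    by_cases ha : a ∈ Ideal.span {b}
    · obtain ⟨c, rfl⟩ := Ideal.mem_span_singleton.mp ha
      refine ⟨c, ?_⟩
      rw [map_mul, mul_div_cancel_left₀]
      exact fun hh => hb0 ((IsFractionRing.injective A K) (by rw [hh, map_zero]))
    · exfalso
      have hx : Ideal.Quotient.mk (Ideal.span {b}) a ≠ 0 :=
        fun hh => ha (Ideal.Quotient.eq_zero_iff_mem.mp hh)
      obtain ⟨P, hP, hle⟩ := exists_le_isAssociatedPrime_of_isNoetherianRing A _ hx
      obtain ⟨a', s, hs, he⟩ := h b hb0 P hP
      refine hs (hle ?_)
      rw [Submodule.mem_colon_singleton, Submodule.mem_bot, Algebra.smul_def, Ideal.Quotient.algebraMap_eq,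
        ← map_mul, Ideal.Quotient.eq_zero_iff_mem, Ideal.mem_span_singleton]
      refine ⟨a', IsFractionRing.injective A K ?_⟩
      have hbK : algebraMap A K b ≠ 0 := fun hh => hb0 ((IsFractionRing.injective A K) (by rw [hh, map_zero]))
      rw [map_mul, map_mul, ← he, mul_left_comm, mul_div_cancel₀ _ hbK]

end Groth.Agent.S14358
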