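import Groth.Statements.S14360
import Mathlib
-- import your own Groth.Agent.* helpers here

set_option autoImplicit false
universe u
open AlgebraicGeometry CategoryTheory
open Variety

namespace Groth.Agent.S14360
set_option linter.all false
set_option backward.isDefEq.respectTransparency false
section
open AlgebraicGeometry CategoryTheory
variable {X Y : Scheme.{u}}

theorem comp_fac (U : X.Opens) (f : (U : Scheme.{u}) ⟶ Y) (V : Y.Opens) (W : X.Opens)
    (h : W ≤ U.ι ''ᵁ (f ⁻¹ᵁ V)) (hU : W ≤ U) :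
    (X.homOfLE h ≫ (U.ι.isoImage (f ⁻¹ᵁ V)).inv ≫ f ∣_ V) ≫ V.ι = X.homOfLE hU ≫ f := by
  simp only [Category.assoc, morphismRestrict_ι]
  rw [← Category.assoc (U.ι.isoImage _).inv, ← Category.assoc (X.homOfLE h)]
  congr 1
  rw [← cancel_mono U.ι, Category.assoc, Category.assoc, Scheme.Hom.isoImage_inv_ι,
    Scheme.homOfLE_ι, Scheme.homOfLE_ι]

theorem equiv_id_of_comp [PreirreducibleSpace X] [Nonempty Y]
    (f : X.PartialMap Y) [IsDominant f.hom] (g : Y.PartialMap X)
    (h : (f.comp g).equiv (Scheme.PartialMap.id X)) :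
    ∃ (W : X.Opens), Dense (W : Set X) ∧ ∃ (hW : W ≤ f.domain) (b : (W : Scheme.{u}) ⟶ g.domain),
      b ≫ g.domain.ι = X.homOfLE hW ≫ f.hom ∧ b ≫ g.hom = W.ι := by
  obtain ⟨W, hWd, hW1, hW2, e⟩ := h
  refine ⟨W, hWd, hW1.trans ((f.domain.ι.image_le_opensRange _).trans f.domain.opensRange_ι.le),
    X.homOfLE hW1 ≫ (f.domain.ι.isoImage _).inv ≫ f.hom ∣_ g.domain, ?_, ?_⟩
  · exact comp_fac f.domain f.hom g.domain W hW1 _
  · have e' : (X.homOfLE hW1 ≫ (f.comp g).hom) = X.homOfLE hW2 ≫ (Scheme.PartialMap.id X).hom := by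
      simpa using e
    rw [show (Scheme.PartialMap.id X).hom = (⊤ : X.Opens).ι from
      Category.comp_id _] at e'
    erw [Scheme.homOfLE_ι] at e'
    rw [← e', Scheme.PartialMap.comp_hom]
    simp only [Category.assoc]

theorem comp_symm_equiv [PreirreducibleSpace X] [Nonempty Y] (P : X.PartialIso Y)
    [IsDominant P.toPartialMap.hom] :
    (P.toPartialMap.comp P.symm.toPartialMap).equiv (Scheme.PartialMap.id X) := by
  have hle : P.source ≤ (P.toPartialMap.comp P.symm.toPartialMap).domain := by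
    intro x hx
    exact ⟨⟨x, hx⟩, (P.iso.hom.base ⟨x, hx⟩).2, rfl⟩
  refine ⟨P.source, P.dense_source, hle, le_top, ?_⟩
  have hb : (X.homOfLE hle ≫ (P.source.ι.isoImage ((P.iso.hom ≫ P.target.ι) ⁻¹ᵁ P.target)).inv ≫
      (P.iso.hom ≫ P.target.ι) ∣_ P.target) = P.iso.hom := by
    rw [← cancel_mono P.target.ι, comp_fac P.source (P.iso.hom ≫ P.target.ι) P.target P.source hle le_rfl,
      Scheme.homOfLE_rfl, Category.id_comp]
  show X.homOfLE hle ≫ (P.source.ι.isoImage ((P.iso.hom ≫ P.target.ι) ⁻¹ᵁ P.target)).inv ≫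
      ((P.iso.hom ≫ P.target.ι) ∣_ P.target) ≫ (P.iso.inv ≫ P.source.ι) =
    X.homOfLE le_top ≫ ((⊤ : X.Opens).ι ≫ 𝟙 X)
  rw [← Category.assoc (Scheme.Hom.isoImage _ _).inv, ← Category.assoc (X.homOfLE hle), hb,
    Iso.hom_inv_id_assoc, Category.comp_id, Scheme.homOfLE_ι]

end


/-- Let X and Y be integral schemes. Then X and Y have isomorphic dense open subschemes if and only if
they are birational in the sense of rational maps, i.e. there exist dominant rational maps f : X ⤏ Y
and g : Y ⤏ X such that the composites g ∘ f and f ∘ g are the identity rational maps of X and of Y. -/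
theorem result (X Y : Scheme.{u})
    [IsIntegral X] [IsIntegral Y] :
    Scheme.Birational X Y ↔
      ∃ (f : X ⤏ Y) (g : Y ⤏ X) (_ : f.IsDominant) (_ : g.IsDominant),
        f.comp g = Scheme.RationalMap.id X ∧ g.comp f = Scheme.RationalMap.id Y := by
  constructor
  · rintro ⟨P⟩
    haveI := AlgebraicGeometry.Opens.isDominant_ι (X := _) P.dense_target
    haveI := AlgebraicGeometry.Opens.isDominant_ι (X := _) P.dense_source
    haveI : IsDominant P.toPartialMap.hom := inferInstanceAs (IsDominant (P.iso.hom ≫ P.target.ι))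
    haveI : IsDominant P.symm.toPartialMap.hom :=
      inferInstanceAs (IsDominant (P.iso.inv ≫ P.source.ι))
    refine ⟨P.toRationalMap, P.symm.toRationalMap, inferInstance, inferInstance, ?_, ?_⟩
    · rw [Scheme.RationalMap.toRationalMap_comp, Scheme.RationalMap.id,
        Scheme.PartialMap.toRationalMap_eq_iff]
      exact comp_symm_equiv P
    · rw [Scheme.RationalMap.toRationalMap_comp, Scheme.RationalMap.id,
        Scheme.PartialMap.toRationalMap_eq_iff]
      haveI : IsDominant P.symm.symm.toPartialMap.hom :=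
        inferInstanceAs (IsDominant (P.iso.hom ≫ P.target.ι))
      exact comp_symm_equiv P.symm
  · rintro ⟨f, g, hf, hg, hfg, hgf⟩
    haveI := hf
    haveI := hg
    rw [← g.toRationalMap_representative, Scheme.RationalMap.comp_def, Scheme.RationalMap.id,
      Scheme.PartialMap.toRationalMap_eq_iff] at hfg
    rw [← f.toRationalMap_representative, Scheme.RationalMap.comp_def, Scheme.RationalMap.id,
      Scheme.PartialMap.toRationalMap_eq_iff] at hgf
    obtain ⟨U, hUd, hU, b, hb1, hb2⟩ := equiv_id_of_comp f.representative g.representative hfg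
    obtain ⟨V, hVd, hV, a, ha1, ha2⟩ := equiv_id_of_comp g.representative f.representative hgf
    let p : (U : Scheme.{u}) ⟶ Y := X.homOfLE hU ≫ f.representative.hom
    let q : (V : Scheme.{u}) ⟶ X := Y.homOfLE hV ≫ g.representative.hom
    let A : X.Opens := U.ι ''ᵁ (p ⁻¹ᵁ V)
    let B : Y.Opens := V.ι ''ᵁ (q ⁻¹ᵁ U)
    have key : ∀ {X Y : Scheme.{u}} (U : X.Opens) (V : Y.Opens) (f : X.PartialMap Y) (g : Y.PartialMap X)
        (hU : U ≤ f.domain) (hV : V ≤ g.domain) (b : (U : Scheme.{u}) ⟶ g.domain),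
        b ≫ g.domain.ι = X.homOfLE hU ≫ f.hom → b ≫ g.hom = U.ι →
        ∀ (T : Scheme.{u}) (t : T ⟶ (U : Scheme.{u})) (v : T ⟶ (V : Scheme.{u})),
          t ≫ X.homOfLE hU ≫ f.hom = v ≫ V.ι → v ≫ Y.homOfLE hV ≫ g.hom = t ≫ U.ι := by
      intro X Y U V f g hU hV b h1 h2 T t v e
      have : t ≫ b = v ≫ Y.homOfLE hV := by
        rw [← cancel_mono g.domain.ι, Category.assoc, Category.assoc, h1, Scheme.homOfLE_ι]
        exact e
      rw [← h2, ← Category.assoc v, ← this, Category.assoc]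
    let φ : (A : Scheme.{u}) ⟶ (V : Scheme.{u}) := (U.ι.isoImage (p ⁻¹ᵁ V)).inv ≫ (p ∣_ V)
    have hφ : φ ≫ Y.homOfLE hV ≫ g.representative.hom = A.ι := by
      have := key U V f.representative g.representative hU hV b hb1 hb2 A
        ((U.ι.isoImage (p ⁻¹ᵁ V)).inv ≫ (p ⁻¹ᵁ V).ι) φ
        (by simp only [φ, Category.assoc, morphismRestrict_ι]; rfl)
      rw [this, Category.assoc, Scheme.Hom.isoImage_inv_ι]
    let ψ : (B : Scheme.{u}) ⟶ (U : Scheme.{u}) := (V.ι.isoImage (q ⁻¹ᵁ U)).inv ≫ (q ∣_ U)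
    have hψ : ψ ≫ X.homOfLE hU ≫ f.representative.hom = B.ι := by
      have := key V U g.representative f.representative hV hU a ha1 ha2 B
        ((V.ι.isoImage (q ⁻¹ᵁ U)).inv ≫ (q ⁻¹ᵁ U).ι) ψ
        (by simp only [ψ, Category.assoc, morphismRestrict_ι]; rfl)
      rw [this, Category.assoc, Scheme.Hom.isoImage_inv_ι]
    let φ' : (A : Scheme.{u}) ⟶ (B : Scheme.{u}) := IsOpenImmersion.lift B.ι (φ ≫ V.ι) (by
      rintro _ ⟨x, rfl⟩
      rw [Scheme.Opens.range_ι]
      refine ⟨φ.base x, ?_, rfl⟩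
      show q.base (φ.base x) ∈ U
      rw [show q.base (φ.base x) = A.ι.base x from by rw [← hφ]; rfl]
      obtain ⟨w, -, hw⟩ := x.2
      rw [show A.ι.base x = x.1 from rfl, ← hw]
      exact w.2)
    let ψ' : (B : Scheme.{u}) ⟶ (A : Scheme.{u}) := IsOpenImmersion.lift A.ι (ψ ≫ U.ι) (by
      rintro _ ⟨x, rfl⟩
      rw [Scheme.Opens.range_ι]
      refine ⟨ψ.base x, ?_, rfl⟩
      show p.base (ψ.base x) ∈ V
      rw [show p.base (ψ.base x) = B.ι.base x from by rw [← hψ]; rfl]
      obtain ⟨w, -, hw⟩ := x.2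
      rw [show B.ι.base x = x.1 from rfl, ← hw]
      exact w.2)
    have hAne : (A : Set X).Nonempty := by
      haveI : IsDominant p := by
        haveI := AlgebraicGeometry.Opens.isDominant_homOfLE hUd hU
        infer_instance
      obtain ⟨x, hx⟩ := p.denseRange.exists_mem_open V.2 hVd.nonempty
      exact ⟨_, x, hx, rfl⟩
    have hBne : (B : Set Y).Nonempty := by
      haveI : IsDominant q := by
        haveI := AlgebraicGeometry.Opens.isDominant_homOfLE hVd hV
        infer_instance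
      obtain ⟨x, hx⟩ := q.denseRange.exists_mem_open U.2 hUd.nonempty
      exact ⟨_, x, hx, rfl⟩
    refine ⟨⟨A, A.2.dense hAne, B, B.2.dense hBne, ⟨φ', ψ', ?_, ?_⟩⟩⟩
    · rw [← cancel_mono A.ι, Category.assoc, IsOpenImmersion.lift_fac, Category.id_comp, ← hφ]
      have h1 : φ' ≫ ψ ≫ X.homOfLE hU ≫ f.representative.hom = φ ≫ V.ι := by
        rw [hψ, IsOpenImmersion.lift_fac]
      have := key U V f.representative g.representative hU hV b hb1 hb2 A (φ' ≫ ψ) φ (by
        rw [Category.assoc]; exact h1)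
      rw [this]; simp only [ψ, φ, Category.assoc]
    · rw [← cancel_mono B.ι, Category.assoc, IsOpenImmersion.lift_fac, Category.id_comp, ← hψ]
      have h1 : ψ' ≫ φ ≫ Y.homOfLE hV ≫ g.representative.hom = ψ ≫ U.ι := by
        rw [hφ, IsOpenImmersion.lift_fac]
      have := key V U g.representative f.representative hV hU a ha1 ha2 B (ψ' ≫ φ) ψ (by
        rw [Category.assoc]; exact h1)
      rw [this]; simp only [ψ, φ, Category.assoc]

end Groth.Agent.S14360
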