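import Groth.Statements.S14363
import Mathlib.RingTheory.Ideal.AssociatedPrime.Basic
import Mathlib.RingTheory.Support
-- import your own Groth.Agent.* helpers here

set_option autoImplicit false
universe u
open CAlg

namespace Groth.Agent.S14363

/-- Let A be a Noetherian ring and 0 → M' → M → M'' → 0 a short exact sequence of A-modules. If a prime
p of A is an associated prime of M'' and is not in the support of M', then p is an associated prime
of M. -/
theorem result (A : Type u) [CommRing A] [IsNoetherianRing A]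
    (M' M M'' : Type u) [AddCommGroup M'] [Module A M'] [AddCommGroup M] [Module A M]
    [AddCommGroup M''] [Module A M'']
    (f : M' →ₗ[A] M) (g : M →ₗ[A] M'') (hf : Function.Injective f) (hg : Function.Surjective g)
    (hfg : Function.Exact f g)
    (p : PrimeSpectrum A) (hp : p.asIdeal ∈ associatedPrimes A M'') (hsupp : p ∉ Module.support A M') :
    p.asIdeal ∈ associatedPrimes A M := by
  classical
  obtain ⟨hpp, x'', hx''⟩ := isAssociatedPrime_iff.mp hp
  obtain ⟨x, rfl⟩ := hg x''
  obtain ⟨F, hF⟩ := IsNoetherian.noetherian p.asIdeal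
  have hpre : ∀ a : F, ∃ t, t ∉ p.asIdeal ∧ t • (a.1 • x) = 0 := fun a => by
    have ha : a.1 ∈ p.asIdeal := hF ▸ Ideal.subset_span a.2
    rw [hx'', Submodule.mem_colon_singleton, Submodule.mem_bot, ← map_smul] at ha
    obtain ⟨y, hy⟩ := (hfg _).mp ha
    obtain ⟨t, ht, hty⟩ := Module.notMem_support_iff'.mp hsupp y
    exact ⟨t, ht, by rw [← hy, ← map_smul, hty, map_zero]⟩
  choose t ht htx using hpre
  have hT : (∏ a : F, t a) ∉ p.asIdeal := fun h => by
    obtain ⟨a, -, ha⟩ := Ideal.IsPrime.prod_mem_iff.mp h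
    exact ht a ha
  refine isAssociatedPrime_iff.mpr ⟨hpp, (∏ a : F, t a) • x, le_antisymm ?_ fun c hc => ?_⟩
  · refine hF.symm.trans_le (Ideal.span_le.mpr fun a ha => ?_)
    simp only [SetLike.mem_coe, Submodule.mem_colon_singleton, Submodule.mem_bot]
    obtain ⟨d, hd⟩ := Finset.dvd_prod_of_mem t (Finset.mem_univ (⟨a, ha⟩ : F))
    rw [hd, smul_smul, show a * (t ⟨a, ha⟩ * d) = d * (t ⟨a, ha⟩ * a) by ring, mul_smul, mul_smul, htx ⟨a, ha⟩, smul_zero]
  · rw [Submodule.mem_colon_singleton, Submodule.mem_bot, smul_smul] at hc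
    have : c * (∏ a : F, t a) ∈ p.asIdeal := by
      rw [hx'', Submodule.mem_colon_singleton, Submodule.mem_bot, ← map_smul, hc, map_zero]
    exact (hpp.mem_or_mem this).resolve_right hT

end Groth.Agent.S14363
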