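import Groth.Statements.S14366
import Groth.Agent.CxOXLib.Open

set_option autoImplicit false
set_option backward.isDefEq.respectTransparency false
set_option backward.isDefEq.respectTransparency.types false
universe u
open CategoryTheory CategoryTheory.Limits AlgebraicGeometry
attribute [local instance] HasDerivedCategory.standard
open CxOX

namespace Groth.Agent.S14366

/-- Let j : X ⟶ X̄ be an open immersion of Noetherian schemes, U ⊆ X an open subscheme with closed
complement Z, U' ⊆ X̄ the open complement of the closure Z̄ of j(Z) in X̄, and T = U' ∪ j(X), the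
open complement of the closed subset Z̄ ∖ j(X). Let Rj_* exist and preserve complexes with
quasi-coherent cohomology, and let an adjunction j^* ⊣ Rj_* between D(O_X̄) and D(O_X) be given.
Then Rj_* and j^* are inverse equivalences between the objects of D_qc(O_X) whose cohomology sheaves
are supported on Z and the objects of D_qc(O_X̄) whose cohomology sheaves are supported on Z̄ and on
which RΓ_{Z̄ ∖ j(X)} vanishes: for F in the first class, Rj_* F has cohomology supported on Z̄ and
RΓ_{Z̄ ∖ j(X)}(Rj_* F) is zero; the counit j^* Rj_* F ⟶ F is an isomorphism for every F; and for G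
in the second class the unit G ⟶ Rj_* j^* G is an isomorphism and j^* G is in the first class.
(Throughout, RΓ with support is the total right derived functor of the sheaf of sections supported
in the closed subset. The published statement derives instead the functor of sections killed by some
power of a defining ideal; on complexes with quasi-coherent cohomology sheaves over a Noetherian
scheme the two derived functors agree.) -/
theorem result {X Xbar : Scheme.{u}} [IsNoetherian Xbar] [IsNoetherian X]
    (j : X ⟶ Xbar) [IsOpenImmersion j] (U : X.Opens) (U' T : Xbar.Opens)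
    (hU' : (U' : Set Xbar) = (closure (j.base '' ((U : Set X)ᶜ)))ᶜ)
    (hT : (T : Set Xbar) = (U' : Set Xbar) ∪ Set.range j.base)
    [DCoh.HasRpush j] [CxOX.HasRgammaZ T.ι] (hj : DCoh.RpushPreservesQCoh j)
    (adj : DCoh.restrictD j ⊣ DCoh.Rpush j) :
    (∀ F : DCoh.D X, DCoh.IsQCohD F → CxOX.IsSuppD U.ι F →
        CxOX.IsSuppD U'.ι ((DCoh.Rpush j).obj F) ∧ IsZero ((CxOX.RgammaZ T.ι).obj ((DCoh.Rpush j).obj F))) ∧
    (∀ F : DCoh.D X, IsIso (adj.counit.app F)) ∧
    (∀ G : DCoh.D Xbar, DCoh.IsQCohD G → CxOX.IsSuppD U'.ι G → IsZero ((CxOX.RgammaZ T.ι).obj G) →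
        IsIso (adj.unit.app G) ∧ DCoh.IsQCohD ((DCoh.restrictD j).obj G) ∧ CxOX.IsSuppD U.ι ((DCoh.restrictD j).obj G)) := by
  have hj' : Topology.IsOpenEmbedding j.base := j.isOpenEmbedding
  have hpre : ((j ⁻¹ᵁ U' : X.Opens) : Set X) ⊆ (U : Set X) := fun x hx => by
    by_contra hxU
    exact (hU'.subset (show j.base x ∈ (U' : Set Xbar) from hx)) (subset_closure ⟨x, hxU, rfl⟩)
  have hpre' : ∀ x : X, x ∈ U → j.base x ∈ U' := fun x hx => by
    show j.base x ∈ (U' : Set Xbar)
    rw [hU']
    intro hcl
    obtain ⟨_, ⟨x', hx', rfl⟩, ⟨x'', hx'', hxx⟩⟩ :=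
      mem_closure_iff.1 hcl _ (hj'.isOpenMap _ U.isOpen) ⟨x, hx, rfl⟩
    exact hx'' (hj'.injective hxx ▸ hx')
  have hjT : Set.range j.base ⊆ Set.range T.ι.base := by
    rw [Scheme.Opens.range_ι, hT]
    exact Set.subset_union_right
  have first : ∀ F : DCoh.D X, CxOX.IsSuppD U.ι F → CxOX.IsSuppD U'.ι ((DCoh.Rpush j).obj F) :=
    fun F hF => CxOXLib.isSuppD_Rpush_of_preimage j U' (by rwa [Scheme.Opens.range_ι]) hF
  refine ⟨fun F _ hF => ⟨first F hF, CxOXLib.isZero_RgammaZ_of_orth T (CxOXLib.orth_Rpush_adj j adj hjT F)⟩,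
    CxOXLib.isIso_counit j adj, fun G hG hs hz => ?_⟩
  have hsr : CxOX.IsSuppD U.ι ((DCoh.restrictD j).obj G) :=
    CxOXLib.isSuppD_restrictD j (fun x hx => by
      rw [Scheme.Opens.range_ι] at hx ⊢
      exact hpre' x hx) hs
  refine ⟨CxOXLib.isIso_unit_of_isSuppD j adj hs (first _ hsr) fun C hjC hkC c => ?_,
    CxOXLib.isQCohD_restrict j hG, hsr⟩
  exact (CxOXLib.orth_of_isZero_RgammaZ T hz).shift 1 C
    (CxOXLib.isSuppD_union (by rw [Scheme.Opens.range_ι, Scheme.Opens.range_ι, hT]) hkC hjC) c
end Groth.Agent.S14366
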