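import Groth.Statements.S14369
import Groth.Agent.FibIrrLib.Basic
-- import your own Groth.Agent.* helpers here

set_option autoImplicit false
set_option backward.isDefEq.respectTransparency false
set_option linter.all false
universe u
open CategoryTheory CategoryTheory.Limits AlgebraicGeometry
open Variety

namespace Groth.Agent.S14369

/-- Let k be an algebraically closed field, X and Y schemes of finite type over k with Y irreducible,
and f : X → Y a k-morphism whose underlying continuous map is closed. Suppose that for some natural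
number d the fibre of f over every closed point y of Y (the subspace of points mapping to y) is
irreducible of dimension d. Then X is irreducible and dim X = d + dim Y. (The published statement is
for varieties, i.e. reduced separated schemes; this row assumes neither.) -/
theorem result (k : Type u) [Field k] [IsAlgClosed k]
    {X Y : Scheme.{u}} (qX : X ⟶ Spec (CommRingCat.of k)) (qY : Y ⟶ Spec (CommRingCat.of k))
    [LocallyOfFiniteType qX] [QuasiCompact qX] [LocallyOfFiniteType qY] [QuasiCompact qY]
    (f : X ⟶ Y) (hf : f ≫ qY = qX) [IrreducibleSpace ↥Y] (hcl : IsClosedMap f.base) (d : ℕ)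
    (hirr : ∀ y : ↥Y, IsClosed ({y} : Set ↥Y) → IsIrreducible (f.base ⁻¹' {y}))
    (hdim : ∀ y : ↥Y, IsClosed ({y} : Set ↥Y) → topologicalKrullDim ↥(f.base ⁻¹' {y}) = d) :
    IrreducibleSpace ↥X ∧ topologicalKrullDim ↥X = d + topologicalKrullDim ↥Y := by
  obtain ⟨Z, ⟨hZ, hZd⟩, -⟩ := FibIrrLib.existsUnique_dominant qX qY f hf d hirr hdim
  obtain ⟨h1, h2⟩ := FibIrrLib.comp_whole qX qY f hf d hirr hdim Z hZ
  haveI : LocallyOfFiniteType f := by subst hf; exact locallyOfFiniteType_of_comp f qY
  haveI : JacobsonSpace X := LocallyOfFiniteType.jacobsonSpace qX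
  haveI : JacobsonSpace Y := LocallyOfFiniteType.jacobsonSpace qY
  have hZc := isClosed_of_mem_irreducibleComponents Z hZ
  have him : f.base '' Z = Set.univ := (hcl Z hZc).closure_eq.symm.trans hZd.closure_eq
  have hu : Z = Set.univ := by
    refine Set.univ_subset_iff.1 ?_
    rw [← closure_closedPoints (X := X)]
    refine hZc.closure_subset_iff.2 fun x hx => ?_
    have hy : IsClosed ({f.base x} : Set Y) := f.closePoints_subset_preimage_closedPoints hx
    obtain ⟨z, hzZ, hz⟩ := (Set.ext_iff.1 him (f.base x)).2 trivial
    exact h1 _ hy ⟨z, hz, hzZ⟩ rfl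
  subst hu
  refine ⟨(irreducibleSpace_def _).2 hZ.1, ?_⟩
  rw [← IsHomeomorph.topologicalKrullDim_eq _ (Homeomorph.Set.univ ↥X).isHomeomorph, h2, him, closure_univ,
    IsHomeomorph.topologicalKrullDim_eq _ (Homeomorph.Set.univ ↥Y).isHomeomorph]


end Groth.Agent.S14369
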