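import Groth.Statements.S14370
import Groth.Agent.FibIrrLib.Basic
-- import your own Groth.Agent.* helpers here

set_option autoImplicit false
set_option backward.isDefEq.respectTransparency false
set_option linter.all false
universe u
open CategoryTheory CategoryTheory.Limits AlgebraicGeometry
open Variety

namespace Groth.Agent.S14370

/-- Let k be an algebraically closed field, X and Y schemes of finite type over k with Y irreducible,
and f : X → Y a k-morphism. Suppose that X is pure-dimensional (every irreducible component of X has
dimension dim X) and that for some natural number d the fibre of f over every closed point y of Y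
(the subspace of points mapping to y) is irreducible of dimension d. Then X is irreducible and dim X
= d + dim Y. (The published statement is for varieties, i.e. reduced separated schemes; this row
assumes neither.) -/
theorem result (k : Type u) [Field k] [IsAlgClosed k]
    {X Y : Scheme.{u}} (qX : X ⟶ Spec (CommRingCat.of k)) (qY : Y ⟶ Spec (CommRingCat.of k))
    [LocallyOfFiniteType qX] [QuasiCompact qX] [LocallyOfFiniteType qY] [QuasiCompact qY]
    (f : X ⟶ Y) (hf : f ≫ qY = qX) [IrreducibleSpace ↥Y]
    (hpure : ∀ Z ∈ irreducibleComponents (↥X), topologicalKrullDim ↥Z = topologicalKrullDim ↥X) (d : ℕ)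
    (hirr : ∀ y : ↥Y, IsClosed ({y} : Set ↥Y) → IsIrreducible (f.base ⁻¹' {y}))
    (hdim : ∀ y : ↥Y, IsClosed ({y} : Set ↥Y) → topologicalKrullDim ↥(f.base ⁻¹' {y}) = d) :
    IrreducibleSpace ↥X ∧ topologicalKrullDim ↥X = d + topologicalKrullDim ↥Y := by
  obtain ⟨Z₀, ⟨hZ₀, hZd⟩, huniq⟩ := FibIrrLib.existsUnique_dominant qX qY f hf d hirr hdim
  have h2 := (FibIrrLib.comp_whole qX qY f hf d hirr hdim Z₀ hZ₀).2
  rw [hZd.closure_eq, IsHomeomorph.topologicalKrullDim_eq _ (Homeomorph.Set.univ ↥Y).isHomeomorph,
    hpure Z₀ hZ₀] at h2
  obtain ⟨e, he⟩ := FibIrrLib.exists_dim_eq qY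
  have hall : ∀ Z ∈ irreducibleComponents ↥X, Z = Z₀ := by
    intro Z hZ
    refine huniq Z ⟨hZ, fun y => ?_⟩
    by_contra hy
    have h3 := (FibIrrLib.comp_whole qX qY f hf d hirr hdim Z hZ).2
    rw [hpure Z hZ, h2] at h3
    have hη : genericPoint ↥Y ∉ closure (f.base '' Z) := fun h => hy (by
      refine isClosed_closure.closure_subset_iff.2 (Set.singleton_subset_iff.2 h) ?_
      rw [genericPoint_closure]; trivial)
    have hlt := HilbPolyLib.dim_lt_of_notMem (η := genericPoint ↥Y) isClosed_closure
      (by rw [genericPoint_closure]; exact Set.subset_univ _) hη (Y := Set.univ) (Set.subset_univ _) (d := e) (by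
        rw [IsHomeomorph.topologicalKrullDim_eq _ (Homeomorph.Set.univ ↥Y).isHomeomorph, he]
        exact_mod_cast Nat.lt_succ_self e)
    rw [he] at h3
    revert hlt h3
    generalize topologicalKrullDim ↥(closure (f.base '' Z)) = a
    intro h3 hlt
    cases a with
    | bot => exact absurd h3 (by rw [WithBot.add_bot]; exact WithBot.coe_ne_bot)
    | coe a =>
      cases a with
      | top => exact absurd hlt (by exact not_lt.2 (WithBot.coe_le_coe.2 le_top))
      | coe a =>
        have h4 : d + e = d + a := by exact_mod_cast h3
        have h5 : a < e := by exact_mod_cast hlt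
        omega
  have hu : Z₀ = Set.univ := Set.eq_univ_of_forall fun x =>
    hall _ (irreducibleComponent_mem_irreducibleComponents x) ▸ mem_irreducibleComponent
  exact ⟨(irreducibleSpace_def _).2 (by rw [← Set.top_eq_univ] at hu; rw [← hu]; exact hZ₀.1), h2⟩


end Groth.Agent.S14370
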