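import Groth.Statements.S14371
import Groth.Agent.CommAlgDim.Regular
import Mathlib.RingTheory.RegularLocalRing.Defs


-- import your own Groth.Agent.* helpers here

set_option autoImplicit false
universe u
open CAlg

namespace Groth.Agent.S14371

/-- Let R be a regular local ring of dimension n with maximal ideal m and residue field κ, and I, J
ideals of R such that R/I and R/J are regular local rings of dimensions a and b (two subvarieties
smooth at the point). Suppose the quotient R/(I + J) is local with cotangent space m/(m² + I + J) of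
dimension a + b − n over κ (the tangent spaces of the two subvarieties meet in the expected
dimension, i.e. they intersect transversally at the point). Then R/(I + J) is a regular local ring
of dimension a + b − n; in particular I + J is a prime ideal. (The published statement is about the
local rings of a smooth variety over an algebraically closed field at a point where two smooth
closed subvarieties meet transversally, and also states the resulting equalities of tangent spaces
and of ideals; this row is the local-ring form, for an arbitrary regular local ring.) -/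
theorem result {R : Type u} [CommRing R] [IsRegularLocalRing R]
    (I J : Ideal R) [IsRegularLocalRing (R ⧸ I)] [IsRegularLocalRing (R ⧸ J)] [IsLocalRing (R ⧸ (I ⊔ J))]
    (n a b : ℕ) (hn : ringKrullDim R = n) (ha : ringKrullDim (R ⧸ I) = a) (hb : ringKrullDim (R ⧸ J) = b)
    (ht : Module.finrank (IsLocalRing.ResidueField (R ⧸ (I ⊔ J))) (IsLocalRing.CotangentSpace (R ⧸ (I ⊔ J))) + n = a + b) :
    IsRegularLocalRing (R ⧸ (I ⊔ J)) ∧ ringKrullDim (R ⧸ (I ⊔ J)) = ((a + b - n : ℕ) : WithBot ℕ∞) := by
  haveI : IsNoetherianRing (R ⧸ (I ⊔ J)) := inferInstance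
  have hI := CommAlgDim.ringKrullDim_quotient_add_of_regular_quotient (R := R) (J := I)
  rw [ha, hn] at hI
  have hI' : a + I.spanFinrank = n := by exact_mod_cast hI
  have hIm : I ≤ IsLocalRing.maximalIdeal R := IsLocalRing.le_maximalIdeal fun h =>
    not_subsingleton (R ⧸ I) (Ideal.Quotient.subsingleton_iff.2 h)
  let K := I.map (Ideal.Quotient.mk J)
  have hKm : K ≤ IsLocalRing.maximalIdeal (R ⧸ J) := by
    rw [← IsLocalRing.map_maximalIdeal_of_surjective _ (Ideal.Quotient.mk_surjective (I := J))]
    exact Ideal.map_mono hIm
  have hK : K.spanFinrank ≤ I.spanFinrank := CommAlgDim.spanFinrank_map_le _ (IsNoetherian.noetherian I)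
  have hlow := ringKrullDim_le_ringKrullDim_quotient_add_spanFinrank K
    (hKm.trans (IsLocalRing.ringJacobson_eq_maximalIdeal (R ⧸ J)).ge)
  rw [hb, ringKrullDim_eq_of_ringEquiv ((DoubleQuot.quotQuotEquivQuotSup J I).trans (Ideal.quotEquivOfEq (sup_comm J I)))] at hlow
  have hup := ringKrullDim_le_spanFinrank_maximalIdeal (R ⧸ (I ⊔ J))
  obtain ⟨d, hd⟩ := CommAlgDim.exists_ringKrullDim_eq (R := R ⧸ (I ⊔ J))
  rw [hd] at hlow hup
  rw [IsLocalRing.spanFinrank_maximalIdeal_eq_finrank_cotangentSpace] at hup
  have hlow' : b ≤ d + K.spanFinrank := by exact_mod_cast hlow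
  have hup' : d ≤ Module.finrank (IsLocalRing.ResidueField (R ⧸ (I ⊔ J))) (IsLocalRing.CotangentSpace (R ⧸ (I ⊔ J))) := by
    exact_mod_cast hup
  have hd2 : d = a + b - n := by omega
  refine ⟨(IsRegularLocalRing.iff_finrank_cotangentSpace _).2 ?_, hd2 ▸ hd⟩
  rw [hd, show Module.finrank (IsLocalRing.ResidueField (R ⧸ (I ⊔ J))) (IsLocalRing.CotangentSpace (R ⧸ (I ⊔ J))) = d by omega]

end Groth.Agent.S14371
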