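import Groth.Statements.S14375
import Groth.Agent.GeomIrrLib.Basic

set_option autoImplicit false
universe u
open CategoryTheory CategoryTheory.Limits AlgebraicGeometry
open Variety

namespace Groth.Agent.S14375

/-- Let k be an algebraically closed field, F an irreducible scheme of finite type over k, and f : X → Y
a k-morphism of schemes of finite type over k with Y irreducible which is locally trivial with fibre
F: every point of Y has an open neighbourhood V such that f⁻¹(V) is isomorphic over V to V ×_k F.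
Then X is irreducible. (The published statement is for varieties, i.e. reduced separated schemes;
this row assumes neither.) -/
theorem result (k : Type u) [Field k] [IsAlgClosed k]
    {X Y F : Scheme.{u}} (qX : X ⟶ Spec (CommRingCat.of k)) (qY : Y ⟶ Spec (CommRingCat.of k))
    (qF : F ⟶ Spec (CommRingCat.of k))
    [LocallyOfFiniteType qX] [QuasiCompact qX] [LocallyOfFiniteType qY] [QuasiCompact qY]
    [LocallyOfFiniteType qF] [QuasiCompact qF] [IrreducibleSpace ↥F] [IrreducibleSpace ↥Y]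
    (f : X ⟶ Y) (hf : f ≫ qY = qX)
    (htriv : ∀ y : ↥Y, ∃ V : Y.Opens, y ∈ V ∧
      ∃ e : (↑(f ⁻¹ᵁ V) : Scheme.{u}) ≅ pullback (V.ι ≫ qY) qF, e.hom ≫ pullback.fst (V.ι ≫ qY) qF = f ∣_ V) :
    IrreducibleSpace ↥X := by
  haveI hF' : GeometricallyIrreducible qF := by
    haveI : IsIso (Spec.map (CommRingCat.ofHom (algebraMap k k))) := by
      show IsIso (Spec.map (𝟙 _)); rw [Spec.map_id]; infer_instance
    haveI : IrreducibleSpace ↥(ConnBC.BC qF k) :=
      (Scheme.Hom.homeomorph (pullback.fst qF (Spec.map (CommRingCat.ofHom (algebraMap k k))))).irreducibleSpace_iff.mpr inferInstance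
    exact GeomIrrLib.gi_of_irreducible_bc qF k
  choose V hyV e he using htriv
  obtain ⟨y₀⟩ : Nonempty ↥Y := inferInstance
  haveI : Nonempty ↥Y := ⟨y₀⟩
  have hirr : ∀ y, IsIrreducible (f ⁻¹ᵁ V y : Set X) := fun y => by
    haveI : IrreducibleSpace ↥(V y : Scheme.{u}) := by
      haveI : Nonempty ↥(V y : Scheme.{u}) := ⟨⟨y, hyV y⟩⟩
      haveI : PreirreducibleSpace ↥(V y : Scheme.{u}) := (V y).isOpen.isOpenEmbedding_subtypeVal.preirreducibleSpace
      exact { toNonempty := inferInstance }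
    haveI : IrreducibleSpace ↥(f ⁻¹ᵁ V y : Scheme.{u}) :=
      (Scheme.Hom.homeomorph (e y).hom).irreducibleSpace_iff.mpr inferInstance
    have := (IrreducibleSpace.isIrreducible_univ ↥(f ⁻¹ᵁ V y : Scheme.{u})).image _ (f ⁻¹ᵁ V y).ι.continuous.continuousOn
    rw [Set.image_univ, Scheme.Opens.range_ι] at this
    exact this
  refine GeomIrrLib.irreducibleSpace_of_cover (fun y => (f ⁻¹ᵁ V y : Set X)) (fun y => (f ⁻¹ᵁ V y).isOpen)
    (fun x => ⟨f x, hyV (f x)⟩) hirr fun a b => ?_
  obtain ⟨y, hya, hyb⟩ := nonempty_preirreducible_inter (V a).isOpen (V b).isOpen ⟨a, hyV a⟩ ⟨b, hyV b⟩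
  obtain ⟨p, hp⟩ := (pullback.fst ((V a).ι ≫ qY) qF).surjective ⟨y, hya⟩
  refine ⟨((e a).inv p : ↥(f ⁻¹ᵁ V a : Scheme.{u})).1, ((e a).inv p).2, ?_⟩
  have h1 : (f ∣_ V a) ((e a).inv p) = ⟨y, hya⟩ := by
    rw [← he a, ← hp, ← Scheme.Hom.comp_apply, Iso.inv_hom_id_assoc]
  have h2 : f ((e a).inv p).1 = y := by
    have := congrArg Subtype.val h1
    exact (morphismRestrict_base_coe f (V a) _).symm.trans this
  show f ((e a).inv p).1 ∈ V b
  rw [h2]; exact hyb

end Groth.Agent.S14375
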