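import Groth.Statements.S14376
import Groth.Agent.LefPenLib.Disc
import Groth.Agent.HomogFactorLib.Basic


set_option autoImplicit false
set_option backward.isDefEq.respectTransparency false
set_option maxHeartbeats 1000000
universe u
open Fano

namespace Groth.Agent.S14376

open MvPolynomial CIGen LefPenLib

section

variable {k : Type u} [Field k] {n d : ℕ}

theorem exists_homogeneous_sq {F : MvPolynomial (Fin (n + 1)) k} (hF : F.IsHomogeneous d) (hF0 : F ≠ 0)
    (hsq : ¬ Squarefree F) : ∃ e : ℕ, 1 ≤ e ∧ 2 * e ≤ d ∧ ∃ G H : MvPolynomial (Fin (n + 1)) k,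
      G.IsHomogeneous e ∧ H.IsHomogeneous (d - 2 * e) ∧ G ≠ 0 ∧ F = G * G * H := by
  unfold Squarefree at hsq
  push Not at hsq
  obtain ⟨G, ⟨H, hH⟩, hu⟩ := hsq
  have hG : G ≠ 0 := fun h => hF0 (by rw [hH, h]; ring)
  have hH0 : H ≠ 0 := fun h => hF0 (by rw [hH, h]; ring)
  have hhom : (G * (G * H)).IsHomogeneous d := by rw [← mul_assoc, ← hH]; exact hF
  obtain ⟨e, he⟩ := HomogFactorLib.exists_isHomogeneous_of_mul hG (mul_ne_zero hG hH0) hhom
  obtain ⟨e', he'⟩ := HomogFactorLib.exists_isHomogeneous_of_mul hH0 (mul_ne_zero hG hG)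
    (show (H * (G * G)).IsHomogeneous d by rw [mul_comm H, ← hH]; exact hF)
  have hdeg : d = e + e + e' := (hH ▸ hF).inj_right ((he.mul he).mul he') (hH ▸ hF0)
  refine ⟨e, ?_, by omega, G, H, he, ?_, hG, hH⟩
  · by_contra h
    have : e = 0 := by omega
    subst this
    have hC : G = C (coeff 0 G) := totalDegree_eq_zero_iff_eq_C.1 (by have := he.totalDegree hG; omega)
    refine hu (hC ▸ (IsUnit.map C (Ne.isUnit ?_)))
    intro h0
    exact hG (by rw [hC, h0, map_zero])
  · rw [show d - 2 * e = e' by omega]; exact he'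

theorem map_sum_monomial {R : Type*} [CommSemiring R] (φ : R →+* k) {D : ℕ} (v : Exp n D → R) :
    MvPolynomial.map φ (∑ s, monomial s.1 (v s)) = form1 (fun s => φ (v s)) := by
  simp [form1, map_sum]

/-- The locus of forms with a repeated factor of degree `e` is closed. -/
theorem closed_stratum [IsAlgClosed k] (n d e : ℕ) (he : 2 * e ≤ d) :
    PolyClosed {c : Exp n d → k | ∃ g : Exp n e → k, g ≠ 0 ∧ form1 g * form1 g ∣ form1 c} := by
  classical
  let b := d - 2 * e
  haveI : Nonempty (Exp n e) := ⟨⟨Finsupp.single 0 e, by simp⟩⟩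
  obtain ⟨M, hM⟩ : ∃ M, Fintype.card (Exp n e) = M + 1 := ⟨_, (Nat.succ_pred_eq_of_pos Fintype.card_pos).symm⟩
  obtain ⟨L, hL⟩ : ∃ L, Fintype.card (Option (Exp n b)) = L + 1 :=
    ⟨_, (Nat.succ_pred_eq_of_pos Fintype.card_pos).symm⟩
  let eM := Fintype.equivFinOfCardEq hM
  let eL := Fintype.equivFinOfCardEq hL
  let A := MvPolynomial ((Exp n d ⊕ Fin (M + 1)) ⊕ Fin (L + 1)) k
  let cv : Exp n d → A := fun s => X (Sum.inl (Sum.inl s))
  let gv : Exp n e → A := fun s => X (Sum.inl (Sum.inr (eM s)))
  let hv : Exp n b → A := fun s => X (Sum.inr (eL (some s)))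
  let P : MvPolynomial (Fin (n + 1)) A :=
    (∑ s, monomial s.1 (gv s)) * (∑ s, monomial s.1 (gv s)) * (∑ s, monomial s.1 (hv s)) -
      C (X (Sum.inr (eL none))) * ∑ s, monomial s.1 (cv s)
  have hev : ∀ (c : Exp n d → k) (g : Fin (M + 1) → k) (h : Fin (L + 1) → k),
      Sum.elim (Sum.elim c g) h ∈ {p | ∀ l, eval p (coeff l P) = 0} ↔
        form1 (fun s => g (eM s)) * form1 (fun s => g (eM s)) * form1 (fun s => h (eL (some s))) =
          C (h (eL none)) * form1 c := by
    intro c g h
    have hm : MvPolynomial.map (eval (Sum.elim (Sum.elim c g) h)) P =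
        form1 (fun s => g (eM s)) * form1 (fun s => g (eM s)) * form1 (fun s => h (eL (some s))) -
          C (h (eL none)) * form1 c := by
      have e1 : ∀ {D : ℕ} (v : Exp n D → A) (w : Exp n D → k),
          (∀ x, eval (Sum.elim (Sum.elim c g) h) (v x) = w x) →
          MvPolynomial.map (eval (Sum.elim (Sum.elim c g) h)) (∑ x, monomial x.1 (v x)) = form1 w :=
        fun v w hvw => (map_sum_monomial _ v).trans (congrArg form1 (funext hvw))
      show MvPolynomial.map _ (_ * _ * _ - _ * _) = _
      rw [map_sub, map_mul, map_mul, map_mul, MvPolynomial.map_C]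
      refine congrArg₂ (· - ·) (congrArg₂ (· * ·) (congrArg₂ (· * ·) (e1 gv _ fun x => eval_X _)
        (e1 gv _ fun x => eval_X _)) (e1 hv _ fun x => eval_X _))
        (congrArg₂ (· * ·) (congrArg C (eval_X _)) (e1 cv _ fun x => eval_X _))
    rw [← sub_eq_zero, ← hm]
    constructor
    · intro H
      ext l
      rw [coeff_map, H l, coeff_zero]
    · intro H l
      show eval _ (coeff l P) = 0
      rw [← coeff_map, H, coeff_zero]
  have hlin : ∀ (a : k) {D : ℕ} (c : Exp n D → k), form1 (fun s => a * c s) = C a * form1 c := by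
    intro a D c
    simp [form1, Finset.mul_sum, C_mul_monomial]
  have h1 := (polyClosed_zeros (fun l => coeff l P)).proj (fun cg h a _ H => by
    obtain ⟨c, g, rfl⟩ : ∃ c g, cg = Sum.elim c g :=
      ⟨cg ∘ Sum.inl, cg ∘ Sum.inr, (Sum.elim_comp_inl_inr cg).symm⟩
    refine (hev c g _).2 ?_
    rw [hlin, map_mul]
    linear_combination (C a) * ((hev c g h).1 H))
  have h2 := h1.proj (fun c g a ha H => by
    obtain ⟨h, hne, H⟩ := H
    refine ⟨fun q => if q = eL none then a * a * h q else h q, fun e0 => hne (funext fun q => ?_), ?_⟩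
    · have := congrFun e0 q
      simp only [Pi.zero_apply] at this ⊢
      by_cases hq : q = eL none
      · rw [if_pos hq] at this; exact (mul_eq_zero.1 this).resolve_left (mul_ne_zero ha ha)
      · rwa [if_neg hq] at this
    · refine (hev c _ _).2 ?_
      simp only [EmbeddingLike.apply_eq_iff_eq, reduceCtorEq, if_false, if_true, hlin, map_mul]
      linear_combination (C a * C a) * ((hev c g h).1 H))
  convert h2 using 1
  ext c
  constructor
  · rintro ⟨g, hg, H, hH⟩
    have hg' : (fun s => g (eM.symm s)) ≠ 0 := fun h0 => hg (funext fun s => by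
      simpa using congrFun h0 (eM s))
    by_cases hc : form1 c = 0
    · refine ⟨_, hg', fun q => if q = eL none then 1 else 0, fun h0 => ?_, (hev c _ _).2 ?_⟩
      · simpa using congrFun h0 (eL none)
      · rw [hc]; simp [form1]
    have hgg : form1 g * form1 g ≠ 0 := fun h0 => hc (by rw [hH, h0, zero_mul])
    have hH0 : H ≠ 0 := fun h0 => hc (by rw [hH, h0, mul_zero])
    obtain ⟨e', he'⟩ := HomogFactorLib.exists_isHomogeneous_of_mul hH0 hgg
      (show (H * (form1 g * form1 g)).IsHomogeneous d by rw [mul_comm, ← hH]; exact isHomogeneous_form1 c)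
    have hdeg : d = e + e + e' := (hH ▸ isHomogeneous_form1 c).inj_right
      (((isHomogeneous_form1 g).mul (isHomogeneous_form1 g)).mul he') (hH ▸ hc)
    have hHb : H ∈ CohB1.polyGrading n k b :=
      (mem_homogeneousSubmodule b H).2 (by rw [show b = e' by omega]; exact he')
    refine ⟨_, hg', fun q => (eL.symm q).elim 1 (coords ⟨H, hHb⟩), fun h0 => ?_, (hev c _ _).2 ?_⟩
    · simpa using congrFun h0 (eL none)
    · simp only [Equiv.symm_apply_apply, Option.elim_none, Option.elim_some]
      rw [form1_coords, map_one, one_mul, hH]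
  · rintro ⟨g, hg, h, hh, H⟩
    have H' := (hev c g h).1 H
    have hg0 : (fun s => g (eM s)) ≠ 0 := fun h0 => hg (funext fun q => by
      simpa using congrFun h0 (eM.symm q))
    have hG0 : form1 (fun s => g (eM s)) ≠ 0 := fun h0 => hg0 (funext fun s => by
      rw [← coeff_form1 (fun s => g (eM s)) s, h0, coeff_zero]; rfl)
    have ht : h (eL none) ≠ 0 := by
      intro ht
      rw [ht, map_zero, zero_mul, mul_eq_zero, or_iff_right (mul_ne_zero hG0 hG0)] at H'
      refine hh (funext fun q => ?_)
      obtain ⟨_ | s, rfl⟩ := eL.surjective q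
      · exact ht
      · rw [← coeff_form1 (fun s => h (eL (some s))) s, H', coeff_zero]; rfl
    refine ⟨_, hg0, C (h (eL none))⁻¹ * form1 (fun s => h (eL (some s))), ?_⟩
    rw [mul_left_comm, H', ← mul_assoc, ← map_mul, inv_mul_cancel₀ ht, map_one, one_mul]

theorem squarefree_prod_lines [Infinite k] (hn : 1 ≤ n) (d : ℕ) :
    ∃ F : MvPolynomial (Fin (n + 1)) k, F.IsHomogeneous d ∧ Squarefree F := by
  classical
  let a : Fin d → k := fun i => Infinite.natEmbedding k i
  have ha : Function.Injective a := fun i j h => Fin.ext ((Infinite.natEmbedding k).injective h)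
  let i0 : Fin (n + 1) := 0
  let i1 : Fin (n + 1) := ⟨1, by omega⟩
  let F : MvPolynomial (Fin (n + 1)) k := ∏ i : Fin d, (X i0 - C (a i) * X i1)
  have hF : F.IsHomogeneous d := by
    have := IsHomogeneous.prod (Finset.univ : Finset (Fin d)) (fun i => X i0 - C (a i) * X i1) (fun _ => 1)
      fun i _ => (isHomogeneous_X k i0).sub ((isHomogeneous_C _ (a i)).mul (isHomogeneous_X k i1))
    simpa using this
  let f : Fin (n + 1) → Polynomial k :=
    fun j => if j = i0 then Polynomial.X else if j = i1 then 1 else 0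
  have hf : ∀ j, (f j).natDegree ≤ 1 := by
    intro j; simp only [f]; split_ifs <;> simp
  have hne : i1 ≠ i0 := fun h => by simp [i0, i1, Fin.ext_iff] at h
  have hev : aeval f F = ∏ i : Fin d, (Polynomial.X - Polynomial.C (a i)) := by
    simp [F, f, hne, map_prod]
  have hsep : (∏ i : Fin d, (Polynomial.X - Polynomial.C (a i))).Separable :=
    Polynomial.separable_prod_X_sub_C_iff.2 ha
  have hdeg : (∏ i : Fin d, (Polynomial.X - Polynomial.C (a i))).natDegree = d := by
    rw [Polynomial.natDegree_prod _ _ fun i _ => Polynomial.X_sub_C_ne_zero _]; simp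
  have hF0 : F ≠ 0 := fun h0 => by
    rw [h0, map_zero] at hev
    exact hsep.ne_zero hev.symm
  refine ⟨F, hF, by_contra fun hsq => ?_⟩
  obtain ⟨e, he, hed, G, H, hG, hH, -, hFGH⟩ := exists_homogeneous_sq hF hF0 hsq
  have hu : IsUnit (aeval f G) := hsep.squarefree _ ⟨aeval f H, by rw [← hev, hFGH, map_mul, map_mul]⟩
  have h1 : (aeval f G).natDegree = 0 := Polynomial.natDegree_eq_zero_of_isUnit hu
  have h2 : (aeval f H).natDegree ≤ d - 2 * e := by
    simpa using aeval_natDegree_le H hH.totalDegree_le f hf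
  have h3 : d ≤ d - 2 * e := by
    rw [← hdeg, ← hev, hFGH, map_mul, map_mul]
    refine (Polynomial.natDegree_mul_le.trans (add_le_add Polynomial.natDegree_mul_le le_rfl)).trans ?_
    rw [← map_mul, ← map_mul, ← hFGH, hev, hdeg, h1]
    simpa using h2
  omega

theorem polyClosed_union {σ : Type*} {Z Z' : Set (σ → k)} (hZ : PolyClosed Z) (hZ' : PolyClosed Z') :
    PolyClosed (Z ∪ Z') := fun p hp => by
  obtain ⟨Φ, h1, h2⟩ := hZ p fun h => hp (Or.inl h)
  obtain ⟨Ψ, h3, h4⟩ := hZ' p fun h => hp (Or.inr h)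
  refine ⟨Φ * Ψ, by rw [map_mul]; exact mul_ne_zero h1 h3, ?_⟩
  rintro q (hq | hq)
  · rw [map_mul, h2 q hq, zero_mul]
  · rw [map_mul, h4 q hq, mul_zero]

theorem polyClosed_iUnion {σ ι : Type*} (s : Finset ι) {Z : ι → Set (σ → k)} (hZ : ∀ i ∈ s, PolyClosed (Z i)) :
    PolyClosed (⋃ i ∈ s, Z i) := by
  classical
  induction s using Finset.induction with
  | empty => exact fun p _ => ⟨1, by simp, fun q hq => by simp at hq⟩
  | insert i s hi ih =>
    rw [Finset.set_biUnion_insert]
    exact polyClosed_union (hZ i (Finset.mem_insert_self i s)) (ih fun j hj => hZ j (Finset.mem_insert_of_mem hj))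

end

/-- Over an algebraically closed field k, let n ≥ 1 and d ≥ 1. In the vector space of degree-d forms in
n + 1 variables, the forms F that are squarefree (equivalently, nonzero with (F) a radical ideal:
the reduced hypersurfaces of degree d in P^n) form a Zariski-open subset, and this subset is
nonempty. (The published statement allows projective space of every dimension n; for n = 0 and d ≥ 2
there is no squarefree form of degree d, so this row assumes n ≥ 1.) -/
theorem result (k : Type u) [Field k] [IsAlgClosed k]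
    (n d : ℕ) (hn : 1 ≤ n) (hd : 1 ≤ d) :
    LefPen.IsZOpen k {F : LefPen.Form n k d | Squarefree F.1} ∧
      ({F : LefPen.Form n k d | Squarefree F.1}).Nonempty := by
  classical
  refine ⟨fun F hF => ?_, ?_⟩
  · have hclosed := polyClosed_union (k := k)
      (polyClosed_zeros (σ := Exp n d) fun s => MvPolynomial.X s)
      (polyClosed_iUnion ((Finset.range (d + 1)).filter fun e => 1 ≤ e ∧ 2 * e ≤ d)
        (fun e he => closed_stratum (k := k) n d e (Finset.mem_filter.1 he).2.2))
    obtain ⟨Φ, hΦ, hvan⟩ := hclosed (coords F) fun h => by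
      rcases h with h | h
      · refine (Squarefree.ne_zero hF) ?_
        rw [← form1_coords F]
        simp only [Set.mem_setOf_eq, eval_X] at h
        simp [form1, h]
      · obtain ⟨e, he, g, hg, hdvd⟩ := Set.mem_iUnion₂.1 h
        rw [form1_coords] at hdvd
        obtain ⟨c, hc, hgc⟩ := MvPolynomial.isUnit_iff_eq_C_of_isReduced.1 (hF _ hdvd)
        have hne : form1 g ≠ 0 := by
          rw [hgc]
          simpa using hc.ne_zero
        have h0 := (isHomogeneous_form1 g).totalDegree hne
        rw [hgc, totalDegree_C] at h0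
        have := (Finset.mem_filter.1 he).2.1
        omega
    refine ⟨_, isPolyFun_eval Φ, hΦ, fun G hG => by_contra fun hsq => hG (hvan _ ?_)⟩
    by_cases hG0 : G.1 = 0
    · exact Or.inl fun s => by simp [coords, hG0]
    · obtain ⟨e, he, hed, P, Q, hP, -, hP0, hPQ⟩ :=
        exists_homogeneous_sq ((mem_homogeneousSubmodule d G.1).1 G.2) hG0 hsq
      refine Or.inr (Set.mem_iUnion₂.2 ⟨e, Finset.mem_filter.2 ⟨Finset.mem_range.2 (by omega), he, hed⟩,
        coords ⟨P, (mem_homogeneousSubmodule e P).2 hP⟩, fun h0 => hP0 ?_, ?_⟩)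
      · have h1 := form1_coords (⟨P, (mem_homogeneousSubmodule e P).2 hP⟩ : LefPen.Form n k e)
        rw [h0] at h1
        simpa [form1] using h1.symm
      · rw [form1_coords, form1_coords]
        exact ⟨Q, hPQ⟩
  · obtain ⟨F, hF, hsq⟩ := squarefree_prod_lines (k := k) hn d
    exact ⟨⟨F, (mem_homogeneousSubmodule d F).2 hF⟩, hsq⟩

end Groth.Agent.S14376
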