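import Groth.Statements.S14379
import Groth.Agent.PerturbFinLib.Basic
import Groth.Agent.MilnorFibLib.Main
-- import your own Groth.Agent.* helpers here

set_option autoImplicit false
open scoped TensorProduct
universe u
open CAlg

namespace Groth.Agent.S14379

/-- Let V be a discrete valuation ring with residue field k and fraction field K, let R be a flat
V-algebra of finite type such that both fibre rings k ⊗_V R and K ⊗_V R have Krull dimension at most
d, let x_1, …, x_d be elements of R and let N ≥ 1 be an integer. Then there are elements y_1, …, y_d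
of the subring of R generated by the N-th powers of elements of R such that, setting f_i = x_i +
y_i, the fibre ring k ⊗_V R is finite over the polynomial ring k[T_1, …, T_d] via T_i ↦ 1 ⊗ f_i and
K ⊗_V R is finite over K[T_1, …, T_d] via T_i ↦ 1 ⊗ f_i; in other words the morphism (f_1, …, f_d)
to affine d-space over V is finite on both fibres. -/
theorem result (V : Type u) [CommRing V] [IsDomain V]
    [IsDiscreteValuationRing V] (R : Type u) [CommRing R] [Algebra V R] [Module.Flat V R]
    [Algebra.FiniteType V R] (d : ℕ)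
    (hs : ringKrullDim (IsLocalRing.ResidueField V ⊗[V] R) ≤ d)
    (hη : ringKrullDim (FractionRing V ⊗[V] R) ≤ d)
    (x : Fin d → R) (N : ℕ) (hN : 1 ≤ N) :
    ∃ y : Fin d → R, (∀ i, y i ∈ Subring.closure (Set.range fun r : R => r ^ N)) ∧
      (MvPolynomial.aeval (fun i => (1 : IsLocalRing.ResidueField V) ⊗ₜ[V] (x i + y i)) :
          MvPolynomial (Fin d) (IsLocalRing.ResidueField V) →ₐ[IsLocalRing.ResidueField V]
            IsLocalRing.ResidueField V ⊗[V] R).toRingHom.Finite ∧
      (MvPolynomial.aeval (fun i => (1 : FractionRing V) ⊗ₜ[V] (x i + y i)) :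
          MvPolynomial (Fin d) (FractionRing V) →ₐ[FractionRing V] FractionRing V ⊗[V] R).toRingHom.Finite := by
  classical
  let k := IsLocalRing.ResidueField V
  let K := FractionRing V
  obtain ⟨π, hπ⟩ := IsDiscreteValuationRing.exists_irreducible V
  have hπ0 : algebraMap V K π ≠ 0 := fun h0 =>
    hπ.ne_zero (IsFractionRing.injective V K (h0.trans (map_zero _).symm))
  let ιk : R →ₐ[V] k ⊗[V] R := Algebra.TensorProduct.includeRight
  let ιK : R →ₐ[V] K ⊗[V] R := Algebra.TensorProduct.includeRight
  obtain ⟨uk, huk⟩ := PerturbFinLib.exists_finite_aeval k (k ⊗[V] R) d hs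
  obtain ⟨uK, huK⟩ := PerturbFinLib.exists_finite_aeval K (K ⊗[V] R) d hη
  have hsur : Function.Surjective ιk := fun z => by
    induction z using TensorProduct.induction_on with
    | zero => exact ⟨0, map_zero _⟩
    | add p q hp hq =>
      obtain ⟨a, rfl⟩ := hp; obtain ⟨b, rfl⟩ := hq
      exact ⟨a + b, map_add _ _ _⟩
    | tmul c r =>
      obtain ⟨v, rfl⟩ := IsLocalRing.residue_surjective c
      refine ⟨v • r, ?_⟩
      show (1 : k) ⊗ₜ[V] (v • r) = _
      rw [← TensorProduct.smul_tmul, ← Algebra.algebraMap_eq_smul_one, IsLocalRing.ResidueField.algebraMap_eq]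
  choose a ha using fun i => hsur (uk i)
  choose v hv b hb using fun i => MilnorFibLib.exists_smul_eq_tmul V K R (uK i)
  have hbfin : (MvPolynomial.aeval fun i => ιK (b i) :
      MvPolynomial (Fin d) K →ₐ[K] K ⊗[V] R).toRingHom.Finite := by
    have h := PerturbFinLib.finite_smul uK (fun i => algebraMap V K (v i))
      (fun i => (IsLocalization.map_units K (⟨v i, hv i⟩ : nonZeroDivisors V)).ne_zero) huK
    have he : (fun i => ιK (b i)) = fun i => algebraMap V K (v i) • uK i := funext fun i => by
      show (1 : K) ⊗ₜ[V] b i = _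
      rw [← hb]
      exact (Algebra.smul_def (R := K) (A := K ⊗[V] R) (algebraMap V K (v i)) (uK i)).symm
    rwa [he]
  obtain ⟨M₁, hM₁⟩ := PerturbFinLib.exists_finite_add_pow (fun i => ιK (a i)) (fun i => ιK (b i)) hbfin
  let u : Fin d → R := fun i => a i + π • b i ^ (M₁ + 1)
  have huKfin : (MvPolynomial.aeval fun i => ιK (u i) :
      MvPolynomial (Fin d) K →ₐ[K] K ⊗[V] R).toRingHom.Finite := by
    have h := hM₁ (M₁ + 1) (Nat.le_succ _) _ hπ0
    have he : (fun i => ιK (u i)) = fun i => ιK (a i) + algebraMap V K π • ιK (b i) ^ (M₁ + 1) := funext fun i => by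
      rw [map_add, map_smul, map_pow, algebraMap_smul]
    rwa [he]
  have hukfin : (MvPolynomial.aeval fun i => ιk (u i) :
      MvPolynomial (Fin d) k →ₐ[k] k ⊗[V] R).toRingHom.Finite := by
    have he : (fun i => ιk (u i)) = uk := funext fun i => by
      rw [map_add, map_smul, ← algebraMap_smul k π, IsLocalRing.ResidueField.algebraMap_eq,
        show IsLocalRing.residue V π = 0 from (IsLocalRing.residue_eq_zero_iff π).mpr hπ.not_isUnit,
        zero_smul, add_zero, ha]
    rwa [he]
  obtain ⟨Mk, hMk⟩ := PerturbFinLib.exists_finite_add_pow (fun i => ιk (x i)) (fun i => ιk (u i)) hukfin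
  obtain ⟨MK, hMK⟩ := PerturbFinLib.exists_finite_add_pow (fun i => ιK (x i)) (fun i => ιK (u i)) huKfin
  have hle : Mk + MK ≤ (Mk + MK) * N := Nat.le_mul_of_pos_right _ hN
  refine ⟨fun i => (u i ^ (Mk + MK)) ^ N, fun i => Subring.subset_closure ⟨u i ^ (Mk + MK), rfl⟩, ?_, ?_⟩
  · have h := hMk ((Mk + MK) * N) (le_trans (Nat.le_add_right _ _) hle) 1 one_ne_zero
    have he : (fun i => (1 : k) ⊗ₜ[V] (x i + (u i ^ (Mk + MK)) ^ N)) =
        fun i => ιk (x i) + (1 : k) • ιk (u i) ^ ((Mk + MK) * N) := funext fun i => by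
      rw [one_smul, ← map_pow, ← map_add, pow_mul]
      rfl
    rwa [he]
  · have h := hMK ((Mk + MK) * N) (le_trans (Nat.le_add_left _ _) hle) 1 one_ne_zero
    have he : (fun i => (1 : K) ⊗ₜ[V] (x i + (u i ^ (Mk + MK)) ^ N)) =
        fun i => ιK (x i) + (1 : K) • ιK (u i) ^ ((Mk + MK) * N) := funext fun i => by
      rw [one_smul, ← map_pow, ← map_add, pow_mul]
      rfl
    rwa [he]

end Groth.Agent.S14379
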