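import Groth.Statements.S14382
import Groth.Agent.CovDevLib.Base
import Groth.Agent.S0106
import Groth.Agent.S6642
import Groth.Agent.EtBcKilledLib.Killed
-- import your own Groth.Agent.* helpers here

set_option autoImplicit false
set_option backward.isDefEq.respectTransparency false
set_option backward.isDefEq.respectTransparency.types false
open CategoryTheory CategoryTheory.Limits AlgebraicGeometry Opposite
universe u
open EtCoh CategoryTheory.Abelian

namespace Groth.Agent.S14382
open CategoryTheory.Limits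
theorem finite_cc {α β : Type*} [TopologicalSpace α] [TopologicalSpace β] (f : α → β) (ho : IsOpenMap f) (hc : IsClosedMap f)
    (hf : ∀ y, (f ⁻¹' {y}).Finite) [Finite (ConnectedComponents β)] : Finite (ConnectedComponents α) := by
  classical
  let pt : ConnectedComponents β → β := fun c => (ConnectedComponents.surjective_coe c).choose
  have hpt : ∀ c, (pt c : ConnectedComponents β) = c := fun c => (ConnectedComponents.surjective_coe c).choose_spec
  let S : Set α := ⋃ c, f ⁻¹' {pt c}
  have hS : S.Finite := Set.finite_iUnion fun c => hf _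
  have hne : ∀ Z : Set α, IsClopen Z → Z.Nonempty → (Z ∩ S).Nonempty := fun Z hZ ⟨z, hz⟩ => by
    have h1 : IsClopen (f '' Z) := ⟨hc _ hZ.1, ho _ hZ.2⟩
    have h2 := h1.connectedComponent_subset ⟨z, hz, rfl⟩
    have h3 : pt (f z : ConnectedComponents β) ∈ connectedComponent (f z) :=
      ConnectedComponents.coe_eq_coe'.1 (hpt _)
    obtain ⟨w, hw, e⟩ := h2 h3
    exact ⟨w, hw, Set.mem_iUnion.2 ⟨_, e⟩⟩
  haveI := hS.to_subtype
  refine Finite.of_surjective (fun s : S => (s.1 : ConnectedComponents α)) fun q => ?_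
  obtain ⟨x, rfl⟩ := ConnectedComponents.surjective_coe q
  have hex : ∃ n : ℕ, ∃ Z : Set α, IsClopen Z ∧ x ∈ Z ∧ (Z ∩ S).ncard = n :=
    ⟨_, Set.univ, isClopen_univ, trivial, rfl⟩
  obtain ⟨Z, hZ, hxZ, hn⟩ := Nat.find_spec hex
  have hmin : ∀ A : Set α, IsClopen A → A ⊆ Z → x ∈ A → A = Z := fun A hA hAZ hxA => by
    refine hAZ.antisymm fun z hz => ?_
    by_contra hzA
    obtain ⟨w, ⟨hwZ, hwA⟩, hwS⟩ := hne (Z \ A) (hZ.diff hA) ⟨z, hz, hzA⟩
    have hlt : (A ∩ S).ncard < (Z ∩ S).ncard :=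
      Set.ncard_lt_ncard (Set.ssubset_iff_of_subset (Set.inter_subset_inter_left _ hAZ) |>.2
        ⟨w, ⟨hwZ, hwS⟩, fun h => hwA h.1⟩) (hS.subset Set.inter_subset_right)
    exact Nat.find_min hex (hn ▸ hlt) ⟨A, hA, hxA, rfl⟩
  have hpre : IsPreconnected Z := by
    refine isPreconnected_iff_preconnectedSpace.2 (preconnectedSpace_iff_clopen.2 fun A hA => ?_)
    have hA' : ∀ B : Set Z, IsClopen B → IsClopen (Subtype.val '' B) := fun B hB =>
      ⟨hZ.1.isClosedEmbedding_subtypeVal.isClosedMap _ hB.1, hZ.2.isOpenEmbedding_subtypeVal.isOpenMap _ hB.2⟩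
    have hsub : ∀ B : Set Z, Subtype.val '' B ⊆ Z := fun B => by rintro _ ⟨b, -, rfl⟩; exact b.2
    by_cases hx : (⟨x, hxZ⟩ : Z) ∈ A
    · right
      have := hmin _ (hA' A hA) (hsub A) ⟨_, hx, rfl⟩
      refine Set.eq_univ_of_forall fun z => ?_
      obtain ⟨a, ha, e⟩ := this.ge z.2
      exact Subtype.ext e ▸ ha
    · left
      have := hmin _ (hA' _ hA.compl) (hsub Aᶜ) ⟨_, hx, rfl⟩
      refine Set.eq_empty_of_forall_notMem fun z hz => ?_
      obtain ⟨a, ha, e⟩ := this.ge z.2
      exact ha (Subtype.ext e ▸ hz)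
  obtain ⟨w, hwZ, hwS⟩ := hne Z hZ ⟨x, hxZ⟩
  exact ⟨⟨w, hwS⟩, ConnectedComponents.coe_eq_coe'.2 (hpre.subset_connectedComponent hxZ hwZ)⟩


/-- Let P be a set of prime numbers and f : X → Y a finite étale surjective morphism of schemes, where Y
is quasi-compact and quasi-separated with finitely many connected components. Then X is
quasi-compact and quasi-separated with finitely many connected components, and Y is a K(π,1) for
P-torsion coefficients if and only if X is; here a scheme Z is called a K(π,1) for P-torsion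
coefficients when for every finite locally constant abelian sheaf F on the small étale site of Z
killed by some n ≥ 1 all of whose prime factors lie in P, every q > 0 and every class ζ in H^q(Z_ét,
F) there is a finite étale surjective g : Z' → Z with g^*ζ = 0. (Exactness of pullback of abelian
sheaves, which always holds, is carried as an instance hypothesis.) -/
theorem result (P : Set ℕ) {X Y : Scheme.{u}} (f : X ⟶ Y)
    [IsFinite f] [Etale f] [Surjective f] [CompactSpace ↥Y] [QuasiSeparatedSpace ↥Y]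
    (hconn : Finite (_root_.ConnectedComponents ↥Y)) :
    (CompactSpace ↥X ∧ QuasiSeparatedSpace ↥X ∧ Finite (_root_.ConnectedComponents ↥X)) ∧
    ((∀ (F : EtCoh.Ab Y), EtCoh.IsFiniteLocallyConstant F →
        (∃ n : ℕ, 0 < n ∧ (∀ p : ℕ, p.Prime → p ∣ n → p ∈ P) ∧ EtCoh.KilledBy n F) →
        ∀ q : ℕ, 0 < q → ∀ ζ : EtCoh.H Y F q,
          ∃ (Y' : Scheme.{u}) (g : Y' ⟶ Y), IsFinite g ∧ Etale g ∧ Surjective g ∧
            ∀ [PreservesFiniteLimits (EtCoh.pull g)], EtCore.Hpull g F q ζ = 0) ↔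
     (∀ (F : EtCoh.Ab X), EtCoh.IsFiniteLocallyConstant F →
        (∃ n : ℕ, 0 < n ∧ (∀ p : ℕ, p.Prime → p ∣ n → p ∈ P) ∧ EtCoh.KilledBy n F) →
        ∀ q : ℕ, 0 < q → ∀ ζ : EtCoh.H X F q,
          ∃ (X' : Scheme.{u}) (g : X' ⟶ X), IsFinite g ∧ Etale g ∧ Surjective g ∧
            ∀ [PreservesFiniteLimits (EtCoh.pull g)], EtCore.Hpull g F q ζ = 0)) := by
  classical
  refine ⟨⟨?_, ?_, ?_⟩, ⟨fun hY F hF hn q hq ζ => ?_, fun hX F hF hn q hq ζ => ?_⟩⟩
  · exact QuasiCompact.compactSpace_of_compactSpace f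
  · exact quasiSeparatedSpace_of_quasiSeparated f
  · exact finite_cc f.base f.isOpenMap f.isClosedMap (fun y => f.finite_preimage_singleton y)
  · obtain ⟨n, n0, hp, hkill⟩ := hn
    obtain ⟨x, rfl⟩ := (CovDevLib.bijective_mu (p := f) F q).2 ζ
    obtain ⟨Y', g, hgf, hge, hgs, h0⟩ := hY ((EtCoh.push f).obj F) (Groth.Agent.S0106.result f F hF)
      ⟨n, n0, hp, fun U s => hkill _ s⟩ q hq x
    refine ⟨_, pullback.fst f g, inferInstance, inferInstance, inferInstance, fun {_} => ?_⟩
    haveI := EtSliceLib.pullExact g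
    rw [CovDevLib.mu_natural (IsPullback.of_hasPullback f g) F q x, h0]
    simp [CovDevLib.mu]
  · obtain ⟨n, n0, hp, hkill⟩ := hn
    haveI := EtSliceLib.pullExact f
    haveI : (EtCoh.pull f).Additive := { }
    obtain ⟨X', g, hgf, hge, hgs, h0⟩ := hX ((EtCoh.pull f).obj F) ((Groth.Agent.S6642.result f).2.1 F hF)
      ⟨n, n0, hp, (EtBcKilledLib.killed_iff _).2 (by
        rw [← CategoryTheory.Functor.map_id, ← Functor.map_nsmul, (EtBcKilledLib.killed_iff F).1 hkill, Functor.map_zero])⟩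
      q hq (EtCore.Hpull f F q ζ)
    refine ⟨X', g ≫ f, inferInstance, inferInstance, inferInstance, fun {_} => ?_⟩
    haveI := EtSliceLib.pullExact g
    rw [← CovDevLib.Hpull_comp g f (g ≫ f) rfl F q ζ, h0, Ext.zero_comp]


end Groth.Agent.S14382
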