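import Groth.Statements.S14383
import Groth.Agent.EtaEtLib.Basic
import Mathlib.RingTheory.Finiteness.Nakayama
-- import your own Groth.Agent.* helpers here

set_option autoImplicit false
open scoped TensorProduct
open AlgebraicGeometry
universe u
open CAlg

namespace Groth.Agent.S14383

/-- Let V be a discrete valuation ring of characteristic zero with uniformizer ϖ, whose residue field k
is perfect of characteristic p > 0, and let A → R be a homomorphism of V-algebras of finite type,
viewed as a morphism f : Spec R → Spec A of schemes of finite type over Spec V. Say f is η-étale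
when there is an open neighbourhood of the closed fibre of Spec R on whose generic fibre f is étale;
for affine Spec R this means: some a ∈ R with (a) + (ϖ) = R has R[1/(aϖ)] étale over A. First: if f
is η-étale then for some n ≥ 0 the submodule p^n Ω_{R/A} of the module of differentials is contained
in ϖ p^n Ω_{R/A} (that is, p^n Ω_{R/A} vanishes along the closed fibre). Conversely: if the generic
fibres Spec(K ⊗_V A) and Spec(K ⊗_V R) are both smooth over K of the same relative dimension d, K
the fraction field of V, then such an n forces f to be η-étale. (The published statement is for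
arbitrary schemes X → Y of finite type over V and also lists an intermediate equivalent condition,
that the restriction of p^n Ω_{X/Y} to the closed fibre as an abelian sheaf vanishes for some n;
this row is the case of affine schemes and states the other two conditions.) -/
theorem result (V : Type u) [CommRing V] [IsDomain V] [IsDiscreteValuationRing V] [CharZero V]
    (ϖ : V) (hϖ : Irreducible ϖ) (p : ℕ) [Fact p.Prime] [CharP (IsLocalRing.ResidueField V) p]
    [PerfectField (IsLocalRing.ResidueField V)]
    (A : Type u) [CommRing A] [Algebra V A] [Algebra.FiniteType V A]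
    (R : Type u) [CommRing R] [Algebra V R] [Algebra.FiniteType V R] [Algebra A R] [IsScalarTower V A R] :
    ((∃ a : R, Ideal.span {a} ⊔ Ideal.span {algebraMap V R ϖ} = ⊤ ∧
        ((algebraMap R (Localization.Away (a * algebraMap V R ϖ))).comp (algebraMap A R)).Etale) →
      ∃ n : ℕ, Ideal.span {((p : R)) ^ n} • (⊤ : Submodule R (Ω[R⁄A])) ≤
        Ideal.span {algebraMap V R ϖ * (p : R) ^ n} • (⊤ : Submodule R (Ω[R⁄A]))) ∧
    (∀ d : ℕ, SmoothOfRelativeDimension d
        (Spec.map (CommRingCat.ofHom (algebraMap (FractionRing V) (FractionRing V ⊗[V] A)))) →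
      SmoothOfRelativeDimension d
        (Spec.map (CommRingCat.ofHom (algebraMap (FractionRing V) (FractionRing V ⊗[V] R)))) →
      (∃ n : ℕ, Ideal.span {((p : R)) ^ n} • (⊤ : Submodule R (Ω[R⁄A])) ≤
        Ideal.span {algebraMap V R ϖ * (p : R) ^ n} • (⊤ : Submodule R (Ω[R⁄A]))) →
      ∃ a : R, Ideal.span {a} ⊔ Ideal.span {algebraMap V R ϖ} = ⊤ ∧
        ((algebraMap R (Localization.Away (a * algebraMap V R ϖ))).comp (algebraMap A R)).Etale) := by
  classical
  haveI : Algebra.FiniteType A R := Algebra.FiniteType.of_restrictScalars_finiteType V A R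
  have hp0 : (p : V) ≠ 0 := Nat.cast_ne_zero.mpr (Fact.out : p.Prime).ne_zero
  obtain ⟨c, hc⟩ : ∃ c : V, (p : V) = ϖ * c := by
    have h : (p : V) ∈ IsLocalRing.maximalIdeal V := by
      rw [← IsLocalRing.residue_eq_zero_iff, map_natCast, CharP.cast_eq_zero]
    rw [hϖ.maximalIdeal_eq] at h
    exact Ideal.mem_span_singleton.mp h
  have hcR : (p : R) = algebraMap V R ϖ * algebraMap V R c := by rw [← map_mul, ← hc, map_natCast]
  have hmem : ∀ (r : R) (m : Ω[R⁄A]), r • m ∈ Ideal.span {r} • (⊤ : Submodule R (Ω[R⁄A])) := fun r m =>
    Submodule.smul_mem_smul (Ideal.mem_span_singleton_self r) trivial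
  refine ⟨?_, fun d h1 h2 => ?_⟩
  · rintro ⟨a, ha, het⟩
    rw [← IsScalarTower.algebraMap_eq, RingHom.etale_algebraMap] at het
    obtain ⟨k, hk⟩ := (EtaEtLib.formallyUnramified_away_iff A R _).mp
      (inferInstance : Algebra.FormallyUnramified A (Localization.Away (a * algebraMap V R ϖ)))
    refine ⟨k, Submodule.smul_le.mpr fun r hr m _ => ?_⟩
    obtain ⟨s, rfl⟩ := Ideal.mem_span_singleton'.mp hr
    rw [mul_smul]
    refine Submodule.smul_mem _ _ ?_
    have hco : IsCoprime a (algebraMap V R ϖ) := Ideal.isCoprime_span_singleton_iff a _ |>.mp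
      (Ideal.isCoprime_iff_sup_eq.mpr ha)
    obtain ⟨u, v, huv⟩ := hco.pow_left (m := k)
    have h0 : (u * a ^ k) • (p : R) ^ k • m = 0 := by
      have := congrArg ((u * algebraMap V R c ^ k) • ·) (hk m)
      rw [smul_zero, smul_smul] at this
      rw [smul_smul, hcR, ← this]
      congr 1
      ring
    rw [← one_smul R ((p : R) ^ k • m), ← huv, add_smul, h0, zero_add, smul_smul, mul_assoc, mul_smul]
    exact Submodule.smul_mem _ _ (hmem _ m)
  · rintro ⟨n, hn⟩
    let N := Ideal.span {(p : R) ^ n} • (⊤ : Submodule R (Ω[R⁄A]))
    have hN : N ≤ Ideal.span {algebraMap V R ϖ} • N := hn.trans_eq (by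
      simp only [N]
      rw [← Submodule.smul_assoc, smul_eq_mul, Ideal.span_singleton_mul_span_singleton])
    obtain ⟨b, hb, hb0⟩ := Submodule.exists_sub_one_mem_and_smul_eq_zero_of_fg_of_le_smul _ N
      (Submodule.FG.smul (Submodule.fg_span_singleton _) Module.Finite.fg_top) hN
    refine ⟨b, eq_top_iff.mpr fun z _ => ?_, ?_⟩
    · have h1 : (1 : R) ∈ Ideal.span {b} ⊔ Ideal.span {algebraMap V R ϖ} := by
        rw [show (1 : R) = b - (b - 1) by ring]
        exact sub_mem (Submodule.mem_sup_left (Ideal.mem_span_singleton_self b)) (Submodule.mem_sup_right hb)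
      simpa using Ideal.mul_mem_left _ z h1
    · rw [← IsScalarTower.algebraMap_eq, RingHom.etale_algebraMap]
      set C := Localization.Away (b * algebraMap V R ϖ)
      have hu := IsLocalization.Away.algebraMap_isUnit (S := C) (b * algebraMap V R ϖ)
      rw [map_mul] at hu
      have hϖu : IsUnit (algebraMap V C ϖ) := by
        rw [IsScalarTower.algebraMap_apply V R C]
        exact isUnit_of_mul_isUnit_right hu
      have hunit : ∀ v : V, v ≠ 0 → IsUnit (algebraMap V C v) := fun v hv => by
        obtain ⟨k, w, rfl⟩ := IsDiscreteValuationRing.eq_unit_mul_pow_irreducible hv hϖ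
        rw [map_mul, map_pow]
        exact (w.isUnit.map _).mul (hϖu.pow k)
      haveI : Algebra.FormallyEtale R C := Algebra.FormallyEtale.of_isLocalization (Submonoid.powers (b * algebraMap V R ϖ))
      haveI : Algebra.FormallyUnramified A C := by
        rw [Algebra.formallyUnramified_iff,
          ← (KaehlerDifferential.tensorKaehlerEquivOfFormallyEtale A R C).toEquiv.subsingleton_congr]
        refine subsingleton_of_forall_eq 0 fun z => ?_
        induction z using TensorProduct.induction_on with
        | zero => rfl
        | add x y hx hy => rw [hx, hy, add_zero]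
        | tmul x m =>
          have hu2 : IsUnit (algebraMap R C (b * (p : R) ^ n)) := by
            rw [map_mul, map_pow, map_natCast, ← map_natCast (algebraMap V C)]
            exact (isUnit_of_mul_isUnit_left hu).mul ((hunit _ hp0).pow n)
          obtain ⟨y, hy⟩ := hu2.dvd (a := x)
          rw [hy, ← Algebra.smul_def, TensorProduct.smul_tmul, mul_smul, hb0 _ (hmem _ m), TensorProduct.tmul_zero]
      exact EtaEtLib.etale_away_of_formallyUnramified V A R _ hunit d

end Groth.Agent.S14383
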