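import Groth.Statements.S14384
-- import your own Groth.Agent.* helpers here

set_option autoImplicit false
universe u
open CAlg

namespace Groth.Agent.S14384

/-- Let V be a discrete valuation ring of characteristic zero with uniformizer ϖ, whose residue field is
perfect of characteristic p > 0, let R be a V-algebra of finite type, x'_1, …, x'_d elements of R
defining a morphism f' from Spec R to affine d-space over V, and n ≥ 0 such that p^n Ω_{f'} vanishes
along the closed fibre, written inside Ω_{R/V} as p^n Ω_{R/V} ⊆ ϖ p^n Ω_{R/V} + Σ_i R dx'_i. If y_1,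
…, y_d lie in the subring of R generated by the p^(n+1)-th powers of elements of R, then the
morphism f = f' + (y_1, …, y_d) has the same property: p^n Ω_{R/V} ⊆ ϖ p^n Ω_{R/V} + Σ_i R d(x'_i +
y_i). -/
theorem result (V : Type u) [CommRing V] [IsDomain V] [IsDiscreteValuationRing V] [CharZero V]
    (ϖ : V) (hϖ : Irreducible ϖ) (p : ℕ) [Fact p.Prime] [CharP (IsLocalRing.ResidueField V) p]
    [PerfectField (IsLocalRing.ResidueField V)]
    (R : Type u) [CommRing R] [Algebra V R] [Algebra.FiniteType V R] (d n : ℕ) (x' : Fin d → R)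
    (hx' : Ideal.span {((p : R)) ^ n} • (⊤ : Submodule R (Ω[R⁄V])) ≤
      Ideal.span {algebraMap V R ϖ * (p : R) ^ n} • (⊤ : Submodule R (Ω[R⁄V])) ⊔
        Submodule.span R (Set.range fun i => KaehlerDifferential.D V R (x' i)))
    (y : Fin d → R) (hy : ∀ i, y i ∈ Subring.closure (Set.range fun r : R => r ^ (p ^ (n + 1)))) :
    Ideal.span {((p : R)) ^ n} • (⊤ : Submodule R (Ω[R⁄V])) ≤
      Ideal.span {algebraMap V R ϖ * (p : R) ^ n} • (⊤ : Submodule R (Ω[R⁄V])) ⊔
        Submodule.span R (Set.range fun i => KaehlerDifferential.D V R (x' i + y i)) := by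
  classical
  set M := Ideal.span {algebraMap V R ϖ * (p : R) ^ n} • (⊤ : Submodule R (Ω[R⁄V]))
  obtain ⟨c, hc⟩ : ∃ c : R, (p : R) = algebraMap V R ϖ * c := by
    have h : (p : V) ∈ IsLocalRing.maximalIdeal V := by
      rw [← IsLocalRing.residue_eq_zero_iff, map_natCast, CharP.cast_eq_zero]
    rw [hϖ.maximalIdeal_eq] at h
    obtain ⟨c, hc⟩ := Ideal.mem_span_singleton.mp h
    exact ⟨algebraMap V R c, by rw [← map_mul, ← hc, map_natCast]⟩
  have hM : ∀ m : Ω[R⁄V], (algebraMap V R ϖ * (p : R) ^ n) • m ∈ M := fun m =>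
    Submodule.smul_mem_smul (Ideal.mem_span_singleton_self _) trivial
  have hyD : ∀ i, KaehlerDifferential.D V R (y i) ∈ M := fun i => by
    suffices h : ∀ z ∈ Subring.closure (Set.range fun r : R => r ^ (p ^ (n + 1))), KaehlerDifferential.D V R z ∈ M from
      h _ (hy i)
    intro z hz
    induction hz using Subring.closure_induction with
    | mem r hr =>
      obtain ⟨r, rfl⟩ := hr
      dsimp only
      rw [Derivation.leibniz_pow, ← Nat.cast_smul_eq_nsmul R, Nat.cast_pow, pow_succ, hc]
      have := hM ((c * r ^ (p ^ (n + 1) - 1)) • KaehlerDifferential.D V R r)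
      rw [smul_smul] at this
      rw [smul_smul]
      convert this using 2
      rw [← hc, hc]
      ring
    | zero => simp
    | one => simp
    | add a b _ _ ha hb => rw [map_add]; exact add_mem ha hb
    | neg a _ ha => rw [map_neg]; exact neg_mem ha
    | mul a b _ _ ha hb =>
      rw [Derivation.leibniz]
      exact add_mem (Submodule.smul_mem _ _ hb) (Submodule.smul_mem _ _ ha)
  refine hx'.trans (sup_le le_sup_left (Submodule.span_le.mpr ?_))
  rintro _ ⟨i, rfl⟩
  dsimp only
  rw [show x' i = x' i + y i - y i by ring, map_sub]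
  exact sub_mem (Submodule.mem_sup_right (Submodule.subset_span ⟨i, rfl⟩)) (Submodule.mem_sup_left (hyD i))

end Groth.Agent.S14384
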