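import Groth.Statements.S14386
import Groth.Agent.NodeEtaLib.Main
-- import your own Groth.Agent.* helpers here

set_option autoImplicit false
universe u
open CAlg

namespace Groth.Agent.S14386

/-- Let V be a discrete valuation ring of characteristic zero with uniformizer ϖ and perfect residue
field k, let Q = V[x, y]/(xy − ϖ) be the coordinate ring of the standard semistable node over V and
P its closed point x = y = 0 of the closed fibre, let h ∈ Q with h ∉ (x, y), so that B = Q[1/h] is
the ring of an open neighbourhood of P, and let f ∈ B define a morphism to the affine line over V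
which is étale on the generic fibre: B[1/ϖ] is étale over V[T] via T ↦ f. Then df vanishes
identically on one of the two components x = 0, y = 0 of the closed fibre of Spec B: the
differential of the image of f in Ω_{(B/xB)/V} is zero or the differential of the image of f in
Ω_{(B/yB)/V} is zero. If moreover k has characteristic zero, then f contracts that component and the
morphism is not quasi-finite: V[T] → B, T ↦ f, is not a quasi-finite ring map. -/
theorem result (V : Type u) [CommRing V] [IsDomain V] [IsDiscreteValuationRing V] [CharZero V]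
    [PerfectField (IsLocalRing.ResidueField V)] (ϖ : V) (hϖ : Irreducible ϖ)
    (h : (MvPolynomial (Fin 2) V ⧸ Ideal.span {(MvPolynomial.X 0 * MvPolynomial.X 1 - MvPolynomial.C ϖ : MvPolynomial (Fin 2) V)}))
    (hh : h ∉ Ideal.span ({(Ideal.Quotient.mk (Ideal.span {(MvPolynomial.X 0 * MvPolynomial.X 1 - MvPolynomial.C ϖ : MvPolynomial (Fin 2) V)}) (MvPolynomial.X 0 : MvPolynomial (Fin 2) V)), (Ideal.Quotient.mk (Ideal.span {(MvPolynomial.X 0 * MvPolynomial.X 1 - MvPolynomial.C ϖ : MvPolynomial (Fin 2) V)}) (MvPolynomial.X 1 : MvPolynomial (Fin 2) V))} : Set (MvPolynomial (Fin 2) V ⧸ Ideal.span {(MvPolynomial.X 0 * MvPolynomial.X 1 - MvPolynomial.C ϖ : MvPolynomial (Fin 2) V)})))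
    (f : Localization.Away h)
    (hf : ((algebraMap (Localization.Away h)
        (Localization.Away (algebraMap V (Localization.Away h) ϖ))).comp
          (Polynomial.aeval f : Polynomial V →ₐ[V] Localization.Away h).toRingHom).Etale) :
    (KaehlerDifferential.D V (Localization.Away h ⧸ Ideal.span
        ({algebraMap (MvPolynomial (Fin 2) V ⧸ Ideal.span {(MvPolynomial.X 0 * MvPolynomial.X 1 - MvPolynomial.C ϖ : MvPolynomial (Fin 2) V)}) (Localization.Away h) (Ideal.Quotient.mk (Ideal.span {(MvPolynomial.X 0 * MvPolynomial.X 1 - MvPolynomial.C ϖ : MvPolynomial (Fin 2) V)}) (MvPolynomial.X 0 : MvPolynomial (Fin 2) V))} : Set (Localization.Away h)))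
        (Ideal.Quotient.mk _ f) = 0 ∨
     KaehlerDifferential.D V (Localization.Away h ⧸ Ideal.span
        ({algebraMap (MvPolynomial (Fin 2) V ⧸ Ideal.span {(MvPolynomial.X 0 * MvPolynomial.X 1 - MvPolynomial.C ϖ : MvPolynomial (Fin 2) V)}) (Localization.Away h) (Ideal.Quotient.mk (Ideal.span {(MvPolynomial.X 0 * MvPolynomial.X 1 - MvPolynomial.C ϖ : MvPolynomial (Fin 2) V)}) (MvPolynomial.X 1 : MvPolynomial (Fin 2) V))} : Set (Localization.Away h)))
        (Ideal.Quotient.mk _ f) = 0) ∧
    (CharZero (IsLocalRing.ResidueField V) →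
      ¬ (Polynomial.aeval f : Polynomial V →ₐ[V] Localization.Away h).toRingHom.QuasiFinite) := by
  obtain ⟨θ, hθ⟩ := NodeEtaLib.exists_derivation ϖ h (Localization.Away h)
    (fun n => if n = 0 then NodeEtaLib.bgen ϖ h 0 else -NodeEtaLib.bgen ϖ h 1) (by
      simp only [Algebra.algebraMap_self, RingHom.id_apply, one_ne_zero, if_false, if_true]
      ring)
  have hθ0 : θ (NodeEtaLib.bgen ϖ h 0) = NodeEtaLib.bgen ϖ h 0 := by rw [hθ, if_pos rfl]
  have hθ1 : θ (NodeEtaLib.bgen ϖ h 1) = -NodeEtaLib.bgen ϖ h 1 := by rw [hθ, if_neg one_ne_zero]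
  have hθd : ∀ n, NodeEtaLib.bgen ϖ h n ∣ θ (NodeEtaLib.bgen ϖ h n) := fun n => by
    rcases (by omega : n = 0 ∨ n = 1) with rfl | rfl
    · rw [hθ0]
    · rw [hθ1]; exact dvd_neg.mpr dvd_rfl
  rcases NodeEtaLib.exists_dvd ϖ hϖ h hh θ hθd hθ0 f hf with hd | hd
  · have hres := NodeEtaLib.vanishing_on_component ϖ hϖ h (i := 0) (j := 1) (by decide)
      (NodeEtaLib.not_dvd_of_not_mem ϖ h hϖ hh 0) θ (-1) isUnit_one.neg (hθd 0) (by rw [hθ1, neg_one_mul]) f hd
    exact ⟨Or.inl hres.1, hres.2⟩
  · have hres := NodeEtaLib.vanishing_on_component ϖ hϖ h (i := 1) (j := 0) (by decide)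
      (NodeEtaLib.not_dvd_of_not_mem ϖ h hϖ hh 1) θ 1 isUnit_one (hθd 1) (by rw [hθ0, one_mul]) f hd
    exact ⟨Or.inr hres.1, hres.2⟩

end Groth.Agent.S14386
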