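import Groth.Statements.S14388
import Groth.Agent.DerLib.Ghost

set_option autoImplicit false
open CategoryTheory CategoryTheory.Limits
universe w v u
open CohDer

namespace Groth.Agent.S14388

/-- Let A be an abelian category, D(A) its derived category with the canonical t-structure and
truncation functors τ_{≥a}, τ_{<b}, and write τ_[a,b] = τ_{≥a} ∘ τ_{<b+1}, so that τ_[q,q] K is
H^q(K) placed in degree q. Let f : K → K' be a morphism in D(A) and q an integer such that the
induced maps H^(q-1)(K) → H^(q-1)(K') and H^q(K) → H^q(K') are both zero. Then there is a unique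
morphism L : τ_[q,q] K → τ_[q-1,q-1] K' such that τ_[q-1,q](f) : τ_[q-1,q] K → τ_[q-1,q] K' is the
composite of the canonical projection τ_[q-1,q] K → τ_[q,q] K, the morphism L, and the canonical
inclusion τ_[q-1,q-1] K' → τ_[q-1,q] K'. (Under τ_[n,n] ≅ H^n(−)[−n] the morphism L corresponds to a
morphism L_f[−q] : H^q(K)[−q] → H^(q-1)(K')[1−q].) -/
theorem result {C : Type u} [Category.{v} C] [Abelian C]
    [HasDerivedCategory.{w} C] {K K' : DerivedCategory C} (f : K ⟶ K') (q : ℤ)
    (h₁ : (DerivedCategory.homologyFunctor C (q - 1)).map f = 0)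
    (h₂ : (DerivedCategory.homologyFunctor C q).map f = 0) :
    ∃! L : ((DerivedCategory.TStructure.t (C := C)).truncGELT q (q + 1)).obj K ⟶
        ((DerivedCategory.TStructure.t (C := C)).truncGELT (q - 1) q).obj K',
      ((DerivedCategory.TStructure.t (C := C)).truncGELT (q - 1) (q + 1)).map f =
        ((DerivedCategory.TStructure.t (C := C)).natTransTruncGEOfLE (q - 1) q (sub_one_lt q).le).app
            (((DerivedCategory.TStructure.t (C := C)).truncLT (q + 1)).obj K) ≫ L ≫
          ((DerivedCategory.TStructure.t (C := C)).truncGE (q - 1)).map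
            (((DerivedCategory.TStructure.t (C := C)).natTransTruncLTOfLE q (q + 1) (lt_add_one q).le).app K') := by
  let t := DerivedCategory.TStructure.t (C := C)
  change ∃! L, _
  -- source and target middle objects
  set M := (t.truncGELT (q - 1) (q + 1)).obj K with hM
  set M' := (t.truncGELT (q - 1) (q + 1)).obj K' with hM'
  set F : M ⟶ M' := (t.truncGELT (q - 1) (q + 1)).map f with hF
  set P := (t.truncGELT q (q + 1)).obj K with hP
  set N := (t.truncGELT (q - 1) q).obj K' with hN
  set π : M ⟶ P := (t.natTransTruncGEOfLE (q - 1) q (sub_one_lt q).le).app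
    ((t.truncLT (q + 1)).obj K) with hπdef
  set ι : N ⟶ M' := (t.truncGE (q - 1)).map
    ((t.natTransTruncLTOfLE q (q + 1) (lt_add_one q).le).app K') with hιdef
  have hLEK : ((t.truncLT (q + 1)).obj K).IsLE q := t.isLE_truncLT_obj K (q + 1) q (by lia)
  have hLEK' : ((t.truncLT (q + 1)).obj K').IsLE q := t.isLE_truncLT_obj K' (q + 1) q (by lia)
  have hLEN0 : ((t.truncLT q).obj K').IsLE (q - 1) := t.isLE_truncLT_obj K' q (q - 1) (by lia)
  have hMle : M.IsLE q := inferInstanceAs (t.IsLE ((t.truncGE (q - 1)).obj _) q)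
  have hMge : M.IsGE (q - 1) := t.isGE_truncGE_obj _ (q - 1) (q - 1) (by lia)
  have hM'ge : M'.IsGE (q - 1) := t.isGE_truncGE_obj _ (q - 1) (q - 1) (by lia)
  have hM'le : M'.IsLE q := inferInstanceAs (t.IsLE ((t.truncGE (q - 1)).obj _) q)
  have hPge : P.IsGE q := t.isGE_truncGE_obj _ q q (by lia)
  have hPle : P.IsLE q := inferInstanceAs (t.IsLE ((t.truncGE q).obj _) q)
  have hNge : N.IsGE (q - 1) := t.isGE_truncGE_obj _ (q - 1) (q - 1) (by lia)
  have hNle : N.IsLE (q - 1) := inferInstanceAs (t.IsLE ((t.truncGE (q - 1)).obj _) (q - 1))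
  have hπ : IsIso ((DerivedCategory.homologyFunctor C q).map π) := by
    have h := congrArg (DerivedCategory.homologyFunctor C q).map
      (t.π_natTransTruncGEOfLE_app (q - 1) q (sub_one_lt q).le ((t.truncLT (q + 1)).obj K))
    rw [Functor.map_comp] at h
    have := Groth.Agent.DerLib.Ghost.isIso_homologyMap_truncGEπ
      ((t.truncLT (q + 1)).obj K) (q - 1) q (by lia)
    have := Groth.Agent.DerLib.Ghost.isIso_homologyMap_truncGEπ
      ((t.truncLT (q + 1)).obj K) q q le_rfl
    exact IsIso.of_isIso_fac_left h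
  have hι : IsIso ((DerivedCategory.homologyFunctor C (q - 1)).map ι) := by
    have h₀ : IsIso ((DerivedCategory.homologyFunctor C (q - 1)).map
        ((t.natTransTruncLTOfLE q (q + 1) (lt_add_one q).le).app K')) := by
      have h := congrArg (DerivedCategory.homologyFunctor C (q - 1)).map
        (t.natTransTruncLTOfLE_ι_app q (q + 1) (lt_add_one q).le K')
      rw [Functor.map_comp] at h
      have := Groth.Agent.DerLib.Ghost.isIso_homologyMap_truncLTι K' (q + 1) (q - 1) (by lia)
      have := Groth.Agent.DerLib.Ghost.isIso_homologyMap_truncLTι K' q (q - 1) (by lia)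
      exact IsIso.of_isIso_fac_right h
    have h := congrArg (DerivedCategory.homologyFunctor C (q - 1)).map
      (t.truncGEπ_naturality (q - 1)
        ((t.natTransTruncLTOfLE q (q + 1) (lt_add_one q).le).app K'))
    rw [Functor.map_comp, Functor.map_comp] at h
    have := Groth.Agent.DerLib.Ghost.isIso_homologyMap_truncGEπ
      ((t.truncLT (q + 1)).obj K') (q - 1) (q - 1) le_rfl
    have := Groth.Agent.DerLib.Ghost.isIso_homologyMap_truncGEπ
      ((t.truncLT q).obj K') (q - 1) (q - 1) le_rfl
    exact IsIso.of_isIso_fac_left h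
  have hF₀ : ∀ i, i = q - 1 ∨ i = q → (DerivedCategory.homologyFunctor C i).map F = 0 := by
    intro i hi
    have hK : ∀ (X : DerivedCategory C), IsIso ((DerivedCategory.homologyFunctor C i).map
        ((t.truncGEπ (q - 1)).app ((t.truncLT (q + 1)).obj X))) ∧
        IsIso ((DerivedCategory.homologyFunctor C i).map ((t.truncLTι (q + 1)).app X)) := fun X =>
      ⟨Groth.Agent.DerLib.Ghost.isIso_homologyMap_truncGEπ _ _ _ (by rcases hi with h | h <;> lia),
        Groth.Agent.DerLib.Ghost.isIso_homologyMap_truncLTι _ _ _ (by rcases hi with h | h <;> lia)⟩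
    have hf : (DerivedCategory.homologyFunctor C i).map f = 0 := by
      rcases hi with rfl | rfl
      exacts [h₁, h₂]
    have hlt : (DerivedCategory.homologyFunctor C i).map ((t.truncLT (q + 1)).map f) = 0 := by
      have h := congrArg (DerivedCategory.homologyFunctor C i).map
        ((t.truncLTι (q + 1)).naturality f)
      have := (hK K').2
      have h' : (DerivedCategory.homologyFunctor C i).map ((t.truncLT (q + 1)).map f) ≫
          (DerivedCategory.homologyFunctor C i).map ((t.truncLTι (q + 1)).app K') = 0 := by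
        rw [← Functor.map_comp]
        refine h.trans ?_
        rw [Functor.map_comp]
        exact (congrArg ((DerivedCategory.homologyFunctor C i).map ((t.truncLTι (q + 1)).app K) ≫ ·)
          hf).trans comp_zero
      exact (cancel_mono _).1 (h'.trans zero_comp.symm)
    have h := congrArg (DerivedCategory.homologyFunctor C i).map
      (t.truncGEπ_naturality (q - 1) ((t.truncLT (q + 1)).map f))
    rw [Functor.map_comp, Functor.map_comp, hlt, zero_comp] at h
    have := (hK K).1
    exact (cancel_epi ((DerivedCategory.homologyFunctor C i).map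
      ((t.truncGEπ (q - 1)).app ((t.truncLT (q + 1)).obj K)))).1 (h.trans comp_zero.symm)
  -- the kernel of `π`
  obtain ⟨W, w, w', memW⟩ := Pretriangulated.distinguished_cocone_triangle₁ π
  have hWle : W.IsLE (q - 1) := by
    rw [DerivedCategory.isLE_iff]
    intro i hi
    refine Groth.Agent.DerLib.Ghost.isZero_homology_obj₁ _ memW (i - 1) i (by lia) ?_ ?_
    · obtain rfl | hlt : i = q ∨ q < i := by lia
      · exact inferInstanceAs (Mono ((DerivedCategory.homologyFunctor C i).map π))
      · exact ⟨fun {Z} a c _ => (DerivedCategory.isZero_of_isLE M q i hlt).eq_of_tgt a c⟩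
    · obtain hlt | hlt | hlt : i - 1 < q ∨ i - 1 = q ∨ q < i - 1 := by lia
      · exact ⟨fun {Z} a c _ => (DerivedCategory.isZero_of_isGE P q (i - 1) hlt).eq_of_src a c⟩
      · rw [hlt]; exact inferInstanceAs (Epi ((DerivedCategory.homologyFunctor C q).map π))
      · exact ⟨fun {Z} a c _ => (DerivedCategory.isZero_of_isLE P q (i - 1) hlt).eq_of_src a c⟩
  -- the cokernel of `ι`
  obtain ⟨V, v, v', memV⟩ := Pretriangulated.distinguished_cocone_triangle ι
  have hVge : V.IsGE q := by
    rw [DerivedCategory.isGE_iff]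
    intro i hi
    refine Groth.Agent.DerLib.Ghost.isZero_homology_obj₃ _ memV i (i + 1) rfl ?_ ?_
    · obtain rfl | hlt : i = q - 1 ∨ i < q - 1 := by lia
      · exact inferInstanceAs (Epi ((DerivedCategory.homologyFunctor C (q - 1)).map ι))
      · exact ⟨fun {Z} a c _ => (DerivedCategory.isZero_of_isGE M' (q - 1) i hlt).eq_of_src a c⟩
    · obtain hlt | hlt | hlt : q - 1 < i + 1 ∨ i + 1 = q - 1 ∨ i + 1 < q - 1 := by lia
      · exact ⟨fun {Z} a c _ => (DerivedCategory.isZero_of_isLE N (q - 1) _ hlt).eq_of_tgt a c⟩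
      · rw [hlt]; exact inferInstanceAs (Mono ((DerivedCategory.homologyFunctor C (q - 1)).map ι))
      · exact ⟨fun {Z} a c _ => (DerivedCategory.isZero_of_isGE N (q - 1) _ hlt).eq_of_tgt a c⟩
  obtain ⟨L₀, hL₀⟩ : ∃ L₀ : P ⟶ M', F = π ≫ L₀ := Pretriangulated.Triangle.yoneda_exact₂ _ memW F
    (Groth.Agent.DerLib.Ghost.eq_zero_of_homologyMap_eq_zero (q - 1) (w ≫ F)
      (by rw [Functor.map_comp, hF₀ _ (Or.inl rfl), comp_zero]))
  have hL₀v : L₀ ≫ v = 0 := by
    refine Groth.Agent.DerLib.Ghost.eq_zero_of_homologyMap_eq_zero (A := P) (Z := V) q (L₀ ≫ v) ?_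
    have h : (DerivedCategory.homologyFunctor C q).map π ≫
        (DerivedCategory.homologyFunctor C q).map L₀ = 0 := by
      rw [← Functor.map_comp]
      exact (congrArg _ hL₀.symm).trans (hF₀ _ (Or.inr rfl))
    rw [Functor.map_comp, (cancel_epi ((DerivedCategory.homologyFunctor C q).map π)).1
      (h.trans comp_zero.symm)]
    exact zero_comp
  obtain ⟨L, hL⟩ : ∃ L : P ⟶ N, L₀ = L ≫ ι := Pretriangulated.Triangle.coyoneda_exact₂ _ memV L₀ hL₀v
  refine ⟨L, ?_, ?_⟩
  · change F = π ≫ L ≫ ι
    rw [hL₀]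
    exact congrArg (π ≫ ·) hL
  · intro L' hL'
    have hL'' : π ≫ L' ≫ ι = F := hL'.symm
    have hd : π ≫ (L' - L) ≫ ι = 0 := by
      have hL3 : π ≫ L ≫ ι = F := (congrArg (π ≫ ·) hL.symm).trans hL₀.symm
      rw [Preadditive.sub_comp, Preadditive.comp_sub, hL'', hL3, sub_self]
    obtain ⟨a, ha⟩ := Pretriangulated.Triangle.yoneda_exact₃ _ memW ((L' - L) ≫ ι) hd
    have hW1 : (W⟦(1 : ℤ)⟧).IsLE (q - 2) := t.isLE_shift W (q - 1) 1 (q - 2) (by lia)
    have ha0 : a = 0 := t.zero_of_isLE_of_isGE a (q - 2) (q - 1) (by lia) hW1 hM'ge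
    have hd2 : (L' - L) ≫ ι = 0 := ha.trans (by rw [ha0]; exact comp_zero)
    obtain ⟨b, hb⟩ := Pretriangulated.Triangle.coyoneda_exact₁ _ memV ((L' - L)⟦(1 : ℤ)⟧') (by
      rw [← Functor.map_comp]
      exact (congrArg _ hd2).trans (Functor.map_zero _ _ _))
    have hP1 : (P⟦(1 : ℤ)⟧).IsLE (q - 1) := t.isLE_shift P q 1 (q - 1) (by lia)
    have hb0 : b = 0 := t.zero_of_isLE_of_isGE b (q - 1) q (by lia) hP1 hVge
    rw [hb0, zero_comp, Functor.map_eq_zero_iff] at hb
    exact sub_eq_zero.1 hb

end Groth.Agent.S14388
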