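import Groth.Statements.S1439
import Groth.Agent.WeightLib.Strata
-- import your own Groth.Agent.* helpers here

set_option autoImplicit false
universe u
open FlatMor

namespace Groth.Agent.S1439

open AlgebraicGeometry CategoryTheory Limits in
/-- Let f : X → Y be surjective and quasi-finite with X affine and Y separated and nonempty, and let w
be a positive weighting of f. If the fibre integral of w along f takes exactly k distinct values,
then Y has an affine stratification with index set {0, …, k − 1} (its affine stratification number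
is at most k − 1). -/
theorem result {X Y : Scheme.{u}} (f : X ⟶ Y) [Surjective f] [LocallyQuasiFinite f] [LocallyOfFiniteType f] [QuasiCompact f]
    [IsAffine X] [Y.IsSeparated] [Nonempty ↑Y] (w : ↑X → ℤ) (hw : MoreMor.IsWeighting f w) (hpos : ∀ x, 0 < w x)
    (k : ℕ) (hk : (Set.range (MoreMor.fibreIntegral f w)).ncard = k) (hkfin : (Set.range (MoreMor.fibreIntegral f w)).Finite) :
    MoreMor.HasAffineStratification Y (k - 1) := by
  classical
  let S := hkfin.toFinset
  have hS : ∀ y, MoreMor.fibreIntegral f w y ∈ S := fun y ↦ hkfin.mem_toFinset.mpr ⟨y, rfl⟩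
  have hk1 : S.card = k - 1 + 1 := by
    have hc : S.card = k := by rw [← hk, Set.ncard_eq_toFinset_card _ hkfin]
    have : 0 < S.card := Finset.card_pos.mpr ⟨_, hS (Classical.arbitrary _)⟩
    omega
  let φ := S.orderIsoOfFin hk1
  refine ⟨fun y ↦ φ.symm ⟨_, hS y⟩, fun i ↦ ?_, fun i ↦ ?_⟩
  · convert WeightLib.isClosed_fibreIntegral_le f hw hpos (φ i : ℤ) using 1
    ext y
    simp only [Set.mem_ofPred_eq, OrderIso.symm_apply_le]
    exact Iff.rfl
  · obtain ⟨Z, ι, h1, h2, h3, h4⟩ := WeightLib.exists_affine_stratum f hw hpos (φ i : ℤ)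
    refine ⟨Z, ι, h1, h2, h3, h4.trans ?_⟩
    ext y
    simp only [Set.mem_ofPred_eq, OrderIso.symm_apply_eq, Subtype.ext_iff]

end Groth.Agent.S1439
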