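import Groth.Statements.S14390
-- import your own Groth.Agent.* helpers here

set_option autoImplicit false
open CategoryTheory CategoryTheory.Limits AlgebraicGeometry Opposite
universe u
open CAlg

namespace Groth.Agent.S14390

/-- Let V be a discrete valuation ring of characteristic zero with uniformizer ϖ, whose residue field is
perfect of characteristic p > 0, and let f : X → Y be a morphism of schemes of finite type over S =
Spec V (structure morphisms p_X = f ≫ p_Y) whose underlying continuous map is closed. Write X_η =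
p_X⁻¹(D(ϖ)) and Y_η = p_Y⁻¹(D(ϖ)) for the generic fibres, open subschemes whose complements are the
closed fibres. Suppose f is η-étale: there is an open U of X containing the closed fibre (U ∪ X_η =
X) such that the restriction of f to U ∩ X_η is étale. Then there is an open W of Y containing the
closed fibre of Y (W ∪ Y_η = Y) such that the restriction of f to f⁻¹(W) ∩ X_η is étale, i.e.
f⁻¹(W)_η → W_η is étale. -/
theorem result (V : Type u) [CommRing V] [IsDomain V]
    [IsDiscreteValuationRing V] [CharZero V] (ϖ : V) (hϖ : Irreducible ϖ) (p : ℕ) [Fact p.Prime]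
    [CharP (IsLocalRing.ResidueField V) p] [PerfectField (IsLocalRing.ResidueField V)]
    {X Y : Scheme.{u}} (pX : X ⟶ Spec (CommRingCat.of V)) (pY : Y ⟶ Spec (CommRingCat.of V))
    [LocallyOfFiniteType pX] [QuasiCompact pX] [LocallyOfFiniteType pY] [QuasiCompact pY]
    (f : X ⟶ Y) (w : f ≫ pY = pX) (hcl : IsClosedMap f.base)
    (hη : ∃ U : X.Opens, U ⊔ pX ⁻¹ᵁ (PrimeSpectrum.basicOpen ϖ : (Spec (CommRingCat.of V)).Opens) = ⊤ ∧
      Etale ((U ⊓ pX ⁻¹ᵁ (PrimeSpectrum.basicOpen ϖ : (Spec (CommRingCat.of V)).Opens)).ι ≫ f)) :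
    ∃ W : Y.Opens, W ⊔ pY ⁻¹ᵁ (PrimeSpectrum.basicOpen ϖ : (Spec (CommRingCat.of V)).Opens) = ⊤ ∧
      Etale ((f ⁻¹ᵁ W ⊓ pX ⁻¹ᵁ (PrimeSpectrum.basicOpen ϖ : (Spec (CommRingCat.of V)).Opens)).ι ≫ f) := by
  obtain ⟨U, hU, het⟩ := hη
  haveI := het
  let Dη : (Spec (CommRingCat.of V)).Opens := PrimeSpectrum.basicOpen ϖ
  have hZc : IsClosed (f.base '' (U : Set X)ᶜ) := hcl _ U.isOpen.isClosed_compl
  let W : Y.Opens := ⟨(f.base '' (U : Set X)ᶜ)ᶜ, hZc.isOpen_compl⟩
  have hWU : f ⁻¹ᵁ W ≤ U := fun x hx => by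
    by_contra h
    exact hx ⟨x, h, rfl⟩
  refine ⟨W, eq_top_iff.2 fun y _ => ?_, ?_⟩
  · by_cases hy : y ∈ f.base '' (U : Set X)ᶜ
    · obtain ⟨x, hx, rfl⟩ := hy
      refine Or.inr ?_
      have h1 : x ∈ (U ⊔ pX ⁻¹ᵁ Dη : X.Opens) := by rw [hU]; trivial
      rcases h1 with h1 | h1
      · exact absurd h1 hx
      · subst w
        exact h1
    · exact Or.inl hy
  · rw [← X.homOfLE_ι (inf_le_inf_right (pX ⁻¹ᵁ Dη) hWU), Category.assoc]
    infer_instance

end Groth.Agent.S14390
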