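import Groth.Statements.S14392
import Groth.Agent.LcRepLib.Kill
import Groth.Agent.LcRepLib.Torsion
import Groth.Agent.S6645
import Groth.Agent.EtBcKilledLib.Killed
import Groth.Agent.AsCohLib.Basic
import Groth.Agent.EtShLib.GaAffine
import Groth.Agent.EtAcycLib.Range
-- import your own Groth.Agent.* helpers here

set_option autoImplicit false
set_option backward.isDefEq.respectTransparency false
set_option backward.isDefEq.respectTransparency.types false
set_option maxHeartbeats 1000000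
open CategoryTheory CategoryTheory.Limits AlgebraicGeometry Opposite
universe u
open EtCoh CategoryTheory.Abelian

namespace Groth.Agent.S14392
open CategoryTheory.Limits
attribute [local instance] EtSliceLib.pullExact

/-- After a finite étale surjective pullback, degrees `≥ 2` vanish on every affine scheme above. -/
def Good {X : Scheme.{u}} (F : EtCoh.Ab X) : Prop :=
  ∃ (X' : Scheme.{u}) (g : X' ⟶ X), IsFinite g ∧ Etale g ∧ Surjective g ∧
    ∀ (W : Scheme.{u}) [IsAffine W] (a : W ⟶ X), (∃ h, h ≫ g = a) → ∀ q, 2 ≤ q →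
      Subsingleton (EtCoh.H W ((EtCoh.pull a).obj F) q)

theorem sub_of_iso {W : Scheme.{u}} {A B : EtCoh.Ab W} (e : A ≅ B) {q : ℕ} (hB : Subsingleton (EtCoh.H W B q)) :
    Subsingleton (EtCoh.H W A q) :=
  (EtAcycLib.bijective_mk₀_iso_postcomp (Z := EtCoh.const W ℤ) e q).injective.subsingleton

theorem sub_of_isZero {W : Scheme.{u}} {A : EtCoh.Ab W} (h : IsZero A) (q : ℕ) : Subsingleton (EtCoh.H W A q) :=
  subsingleton_of_forall_eq 0 fun (x : Ext.{u + 1} _ _ q) => by
    rw [← Ext.comp_mk₀_id x, h.eq_of_src (𝟙 A) 0, Ext.mk₀_zero, Ext.comp_zero]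

theorem sub_mid {W : Scheme.{u}} {T : ShortComplex (EtCoh.Ab W)} (hT : T.ShortExact) {q : ℕ}
    (h1 : Subsingleton (EtCoh.H W T.X₁ q)) (h3 : Subsingleton (EtCoh.H W T.X₃ q)) :
    Subsingleton (EtCoh.H W T.X₂ q) := subsingleton_of_forall_eq 0 fun (x : Ext.{u + 1} _ _ q) => by
  obtain ⟨y, hy⟩ := Ext.covariant_sequence_exact₂ _ hT x
    (h3.elim (Ext.comp x (Ext.mk₀ T.g) (add_zero q) : EtCoh.H W T.X₃ q) 0)
  rw [← hy, h1.elim (y : EtCoh.H W T.X₁ q) 0, Ext.zero_comp]

theorem sub_filt {W T : Scheme.{u}} [IsAffine W] (p : ℕ) [Fact p.Prime] (h0 : (p : Γ(W, ⊤)) = 0) (b : W ⟶ T) :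
    ∀ {n : ℕ} {G : EtCoh.Ab T}, LcRepLib.Filt (EtCoh.const T (ZMod p)) n G → ∀ q, 2 ≤ q →
      Subsingleton (EtCoh.H W ((EtCoh.pull b).obj G) q)
  | 0, G, hG, q, _ => by
    haveI : (EtCoh.pull b).Additive := { }
    exact sub_of_isZero ((EtCoh.pull b).map_isZero hG) q
  | n + 1, G, ⟨G', j, hj, ⟨e⟩, hG'⟩, q, hq => by
    haveI := hj
    have hS : (ShortComplex.mk j (cokernel.π j) (cokernel.condition j)).ShortExact :=
      { exact := ShortComplex.exact_of_g_is_cokernel _ (cokernelIsCokernel _) }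
    refine sub_mid (EtRpushStalkLib.shortExact_pull b hS) (sub_filt p h0 b hG' q hq)
      (sub_of_iso ((EtCoh.pull b).mapIso e ≪≫ EtCore.pullConst b (ZMod p)) ?_)
    obtain ⟨r, rfl⟩ : ∃ r, q = r + 1 := ⟨q - 1, by omega⟩
    exact AsCohLib.subsingleton_const p h0 r (Groth.Agent.EtShLib.subsingleton_H_Ga _ (by omega))
      (Groth.Agent.EtShLib.subsingleton_H_Ga _ (by omega))

theorem good_zero {X : Scheme.{u}} {F : EtCoh.Ab X} (h : IsZero F) : Good F :=
  ⟨X, 𝟙 X, inferInstance, inferInstance, inferInstance, fun W _ a _ q _ => by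
    haveI : (EtCoh.pull a).Additive := { }
    exact sub_of_isZero ((EtCoh.pull a).map_isZero h) q⟩

theorem good_mid {X : Scheme.{u}} {T : ShortComplex (EtCoh.Ab X)} (hT : T.ShortExact) (h1 : Good T.X₁)
    (h3 : Good T.X₃) : Good T.X₂ := by
  obtain ⟨X₁, g₁, _, _, _, v1⟩ := h1
  obtain ⟨X₃, g₃, _, _, _, v3⟩ := h3
  refine ⟨pullback g₁ g₃, pullback.fst g₁ g₃ ≫ g₁, inferInstance, inferInstance, inferInstance,
    fun W _ a ⟨h, ha⟩ q hq => sub_mid (EtRpushStalkLib.shortExact_pull a hT) (v1 W a ⟨h ≫ pullback.fst g₁ g₃, ?_⟩ q hq)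
      (v3 W a ⟨h ≫ pullback.snd g₁ g₃, ?_⟩ q hq)⟩
  · rw [Category.assoc, ha]
  · rw [Category.assoc, ← pullback.condition, ha]

theorem natCast_of_hom {X W : Scheme.{u}} (a : W ⟶ X) {p : ℕ} (h0 : (p : Γ(X, ⊤)) = 0) : (p : Γ(W, ⊤)) = 0 := by
  rw [← map_natCast a.appTop.hom p, h0, map_zero]

theorem good_killed {X : Scheme.{u}} [ConnectedSpace X] (p : ℕ) [hp : Fact p.Prime] (h0 : (p : Γ(X, ⊤)) = 0)
    (F : EtCoh.Ab X) (hF : EtCoh.IsFiniteLocallyConstant F) (hk : EtCoh.KilledBy p F) : Good F := by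
  have hlc := (Groth.Agent.EtShLib.isFLC_iff _).1 hF
  obtain ⟨r, hr⟩ := LcRepLib.exists_rank (ℓ := p) F hlc hk
  obtain ⟨T, f, hf, hfe, d, hd, hcount, hfilt⟩ := LcRepLib.exists_filt (ℓ := p) r F hlc hk hr
  haveI := hf
  haveI := hfe
  have hd0 : d ≠ 0 := fun e => hp.out.one_lt.ne' (by simpa [e, Nat.coprime_zero_right] using hd)
  refine ⟨T, f, hf, hfe, ⟨fun x => ?_⟩, fun W _ a ⟨b, hb⟩ q hq => ?_⟩
  · obtain ⟨Ω, _, _, ξ, hξ⟩ := Groth.Agent.EtShLib.exists_geometric_pt x
    have h1 : Nat.card {t : Spec (CommRingCat.of Ω) ⟶ T // t ≫ f = ξ} ≠ 0 := by rw [hcount Ω ξ]; exact hd0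
    obtain ⟨⟨t, ht⟩⟩ := (Nat.card_ne_zero.1 h1).1
    exact ⟨t.base default, (congrArg (fun z : Spec (CommRingCat.of Ω) ⟶ X => z.base default) ht).trans hξ⟩
  · subst hb
    exact sub_of_iso ((EtCore.pullComp b f).app F) (sub_filt p (natCast_of_hom (b ≫ f) h0) b hfilt q hq)

theorem good_pow {X : Scheme.{u}} [ConnectedSpace X] (p : ℕ) [Fact p.Prime] (h0 : (p : Γ(X, ⊤)) = 0) :
    ∀ (n : ℕ) (F : EtCoh.Ab X), EtCoh.IsFiniteLocallyConstant F → EtCoh.KilledBy (p ^ n) F → Good F
  | 0, F, _, hk => good_zero ((IsZero.iff_id_eq_zero F).2 (by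
      simpa using (EtBcKilledLib.killed_iff F).1 hk))
  | n + 1, F, hF, hk => by
    let φ : F ⟶ F := p • 𝟙 F
    have hK := ((Groth.Agent.S6645.result X).1 F F φ hF hF).1
    have hC := ((Groth.Agent.S6645.result X).1 (kernel φ) F (kernel.ι φ) hK hF).2
    have hS : (ShortComplex.mk (kernel.ι φ) (cokernel.π (kernel.ι φ)) (cokernel.condition _)).ShortExact :=
      { exact := ShortComplex.exact_of_g_is_cokernel _ (cokernelIsCokernel _) }
    have hkK : EtCoh.KilledBy p (kernel φ) := (EtBcKilledLib.killed_iff _).2 (by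
      rw [← cancel_mono (kernel.ι φ), zero_comp, Preadditive.nsmul_comp, Category.id_comp]
      have := kernel.condition φ
      rwa [Preadditive.comp_nsmul, Category.comp_id] at this)
    have hkC : EtCoh.KilledBy (p ^ n) (cokernel (kernel.ι φ)) := (EtBcKilledLib.killed_iff _).2 (by
      have h1 : ((p ^ n) • 𝟙 F) ≫ φ = 0 := by
        rw [Preadditive.comp_nsmul, Category.comp_id, ← mul_nsmul, ← pow_succ]
        exact (EtBcKilledLib.killed_iff F).1 hk
      rw [← cancel_epi (cokernel.π (kernel.ι φ)), comp_zero, Preadditive.comp_nsmul, Category.comp_id]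
      have h2 : ((p ^ n) • 𝟙 F) ≫ cokernel.π (kernel.ι φ) = 0 := by
        rw [← kernel.lift_ι φ _ h1, Category.assoc, cokernel.condition, comp_zero]
      rwa [Preadditive.nsmul_comp, Category.id_comp] at h2)
    exact good_mid hS (good_killed p h0 _ hK hkK) (good_pow p h0 n _ hC hkC)


/-- Let p be a prime number and X a connected affine scheme of characteristic p (p = 0 in the ring of
global sections). Then X is a K(π,1) for p-torsion coefficients: for every finite locally constant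
abelian sheaf F on the small étale site of X killed by some power p^h (h ≥ 0, equivalently by an
integer n ≥ 1 whose only prime factor is p), every q > 0 and every class ζ ∈ H^q(X_ét, F), there is
a finite étale surjective morphism g : X' → X such that g^*ζ = 0 in H^q(X'_ét, g⁻¹F). (Exactness of
pullback of abelian sheaves, which always holds, is carried as an instance hypothesis.) -/
theorem result (p : ℕ) [Fact p.Prime] (X : Scheme.{u}) [IsAffine X]
    [ConnectedSpace ↥X] [CharP Γ(X, ⊤) p] (F : EtCoh.Ab X) (hF : EtCoh.IsFiniteLocallyConstant F)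
    (htor : ∃ h : ℕ, EtCoh.KilledBy (p ^ h) F) (q : ℕ) (hq : 0 < q) (ζ : EtCoh.H X F q) :
    ∃ (X' : Scheme.{u}) (g : X' ⟶ X), IsFinite g ∧ Etale g ∧ Surjective g ∧
      ∀ [PreservesFiniteLimits (EtCoh.pull g)], EtCore.Hpull g F q ζ = 0 := by
  classical
  obtain ⟨n, hn⟩ := htor
  rcases Nat.lt_or_ge q 2 with hq1 | hq2
  · obtain rfl : q = 1 := by omega
    exact LcRepLib.exists_finite_etale_killing F ((Groth.Agent.EtShLib.isFLC_iff _).1 hF) ζ
  · obtain ⟨X', g, hg, hge, hgs, hv⟩ := good_pow p (CharP.cast_eq_zero _ p) n F hF hn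
    haveI : IsAffine X' := isAffine_of_isAffineHom g
    exact ⟨X', g, hg, hge, hgs, fun {_} => (hv X' g ⟨𝟙 X', Category.id_comp g⟩ q hq2).elim _ _⟩


end Groth.Agent.S14392
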