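import Groth.Statements.S14399
import Groth.Agent.NodalTrivLib.Main
import Groth.Agent.NodalLib.Geom
import Groth.Agent.GorDualExtLib.Fibre
import Groth.Agent.UOpenLib.Basic
-- import your own Groth.Agent.* helpers here

set_option autoImplicit false
set_option backward.isDefEq.respectTransparency.types false
universe u
open CategoryTheory AlgebraicGeometry
open SemiFact
open Limits (pullback)

namespace Groth.Agent.S14399

/-- Let R be a discrete valuation ring with perfect fraction field K and residue field k, and f : X →
Spec R a nodal curve (proper, flat, locally of finite presentation, geometric fibres connected with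
one-dimensional irreducible components and at most ordinary double points) whose special fibre X_k
has split singularities: every closed point of X_k either has an open neighbourhood smooth over k or
has completed local ring isomorphic over k to k[[u,v]]/(uv). Let L be an invertible O_X-module whose
pullback to the generic fibre X_K is isomorphic to the structure sheaf. If the degree over k of the
restriction of L to every irreducible component of X_k — each taken with its reduced structure, as
an integral curve over k closed-immersed in X over Spec R — is zero, then L is isomorphic to O_X.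
(The published lemma states that the multidegree of generically trivial invertible modules is
computed by the multidegree operator on Cartier vertex labellings of the labelled dual graph, and
its proof records that this multidegree map on generically trivial invertible modules is injective;
this row is that injectivity.) -/
theorem result
    (R : Type u) [CommRing R] [IsDomain R] [IsDiscreteValuationRing R]
    [PerfectField (FractionRing R)]
    {X : Scheme.{u}} (f : X ⟶ Spec (CommRingCat.of R)) [IsProper f]
    (hf : Curv2.IsNodalFamily f)
    (hconn : ∀ (L : Type u) [Field L] (t : Spec (CommRingCat.of L) ⟶ Spec (CommRingCat.of R)),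
      ConnectedSpace ↑(Limits.pullback f t))
    (hsplit : ∀ y : ↥(f.fiber (IsLocalRing.closedPoint R)), IsClosed ({y} : Set ↥(f.fiber (IsLocalRing.closedPoint R))) →
        (∃ W : (f.fiber (IsLocalRing.closedPoint R)).Opens, y ∈ W ∧ Smooth (W.ι ≫ f.fiberToSpecResidueField (IsLocalRing.closedPoint R))) ∨
        @Curv2.IsOrdDoublePt ((Spec (CommRingCat.of R)).residueField (IsLocalRing.closedPoint R)) _ ((f.fiber (IsLocalRing.closedPoint R)).presheaf.stalk y) _ (@Curv2.stalkAlgebra ((Spec (CommRingCat.of R)).residueField (IsLocalRing.closedPoint R)) _ (f.fiber (IsLocalRing.closedPoint R)) ⟨f.fiberToSpecResidueField (IsLocalRing.closedPoint R)⟩ y) _)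
    (L : X.Modules) (hL : PicF.IsInvertible L)
    (hgen : Nonempty ((Scheme.Modules.pullback (Limits.pullback.fst f (Neron.genPt R))).obj L ≅
      Coh.structureModule (Limits.pullback f (Neron.genPt R))))
    (hdeg : ∀ Γ : ArSurf.VertComp R (Over.mk f), ArSurf.inter R (Over.mk f) L Γ = 0) :
    Nonempty (L ≅ Coh.structureModule X) := by
  obtain ⟨hflat, -, hfib⟩ := hf
  obtain ⟨hdim, hnod⟩ := hfib (IsLocalRing.closedPoint R)
  letI : (f.fiber (IsLocalRing.closedPoint R)).Over
      (Spec ((Spec (CommRingCat.of R)).residueField (IsLocalRing.closedPoint R))) :=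
    ⟨f.fiberToSpecResidueField (IsLocalRing.closedPoint R)⟩
  haveI : LocallyOfFiniteType (f.fiber (IsLocalRing.closedPoint R) ↘
      Spec (CommRingCat.of ((Spec (CommRingCat.of R)).residueField (IsLocalRing.closedPoint R)))) :=
    UOpenLib.lft_fiberToSpec f (IsLocalRing.closedPoint R)
  haveI hred : AlgebraicGeometry.IsReduced (f.fiber (IsLocalRing.closedPoint R)) :=
    NodalLib.isReduced ((Spec (CommRingCat.of R)).residueField (IsLocalRing.closedPoint R)) hnod
  have hv : NodalTrivLib.vR R (IsLocalRing.closedPoint (IsLocalRing.ResidueField R)) =
      IsLocalRing.closedPoint R := IsLocalRing.comap_closedPoint (IsLocalRing.residue R)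
  haveI : IsClosedImmersion (NodalTrivLib.vR R) :=
    IsClosedImmersion.spec_of_surjective _ IsLocalRing.residue_surjective
  obtain ⟨e⟩ := GorDualExtLib.nonempty_fiber_iso (IsPullback.of_hasPullback f (NodalTrivLib.vR R))
  have e' : pullback f (NodalTrivLib.vR R) ≅ f.fiber (IsLocalRing.closedPoint R) :=
    e.symm ≪≫ eqToIso (congrArg (fun s => f.fiber s) hv)
  haveI : IsProper (Over.mk f).hom := ‹IsProper f›
  haveI : Flat (Over.mk f).hom := hflat
  haveI : AlgebraicGeometry.IsReduced (pullback (Over.mk f).hom (NodalTrivLib.vR R)) :=
    isReduced_of_isOpenImmersion e'.hom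
  haveI : ConnectedSpace ↥(pullback (Over.mk f).hom (NodalTrivLib.vR R)) :=
    hconn (IsLocalRing.ResidueField R) (NodalTrivLib.vR R)
  refine NodalTrivLib.nonempty_trivial (X := Over.mk f) (fun C hC => ?_) hL hgen fun Γ => (hdeg Γ).le
  let h := e'.hom.homeomorph
  have hC' : h '' C ∈ irreducibleComponents ↥(f.fiber (IsLocalRing.closedPoint R)) := by
    refine ⟨hC.1.image h h.continuous.continuousOn, fun S hS hle => ?_⟩
    have h1 : C ⊆ h.symm '' S := fun x hx => ⟨h x, hle ⟨x, hx, rfl⟩, h.symm_apply_apply x⟩
    intro y hy
    exact ⟨h.symm y, hC.2 (hS.image h.symm h.symm.continuous.continuousOn) h1 ⟨y, hy, rfl⟩, h.apply_symm_apply y⟩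
  rw [← hdim _ hC']
  exact (h.isEmbedding.homeomorphImage C).isHomeomorph.topologicalKrullDim_eq

end Groth.Agent.S14399
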