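import Groth.Statements.S14400
import Groth.Agent.GalTwLib.Forms
import Groth.Agent.GalTwLib.Points

set_option autoImplicit false
universe u
open CategoryTheory CategoryTheory.Limits AlgebraicGeometry
open Desc

namespace Groth.Agent.S14400

/-- Let K/k be a finite Galois extension of fields, X and Y schemes over k with base changes X_K and
Y_K, and g : X_K ⟶ Y_K a morphism over Spec K. Then g is the base change of a k-morphism f : X ⟶ Y
(that is, g followed by the projection Y_K ⟶ Y is the projection X_K ⟶ X followed by f) if and only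
if g commutes with the action of every k-automorphism σ of K on X_K and on Y_K (the identity on X,
resp. Y, and Spec σ on the factor Spec K). In other words the image of the k-morphisms X ⟶ Y among
the K-morphisms X_K ⟶ Y_K is exactly the set of Galois-invariant ones. -/
theorem result (k : Type u) [Field k] (K : Type u) [Field K]
    [Algebra k K] [FiniteDimensional k K] [IsGalois k K]
    (X Y : Scheme.{u}) [X.Over (Spec (CommRingCat.of k))] [Y.Over (Spec (CommRingCat.of k))]
    (g : Curv2.bc k X K ⟶ Curv2.bc k Y K) (hg : g ≫ Curv2.bcSnd k Y K = Curv2.bcSnd k X K) :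
    (∃ f : X ⟶ Y, f ≫ (Y ↘ Spec (CommRingCat.of k)) = X ↘ Spec (CommRingCat.of k) ∧
        g ≫ Curv2.bcFst k Y K = Curv2.bcFst k X K ≫ f) ↔
      ∀ σ : K ≃ₐ[k] K, Curv2.galAct k X K σ ≫ g = g ≫ Curv2.galAct k Y K σ := by
  let sX := X ↘ Spec (CommRingCat.of k)
  let sY := Y ↘ Spec (CommRingCat.of k)
  have hact : ∀ (Z : Scheme.{u}) [Z.Over (Spec (CommRingCat.of k))] (σ : K ≃ₐ[k] K),
      GalTw.galMap K σ (Over.mk (Z ↘ Spec (CommRingCat.of k))) = Curv2.galAct k Z K σ := fun Z _ σ => by
    rw [GalTwLib.galAct_eq_act]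
    apply pullback.hom_ext
    · exact (GalTw.galMap_fst K σ _).trans (GalTwLib.act_fst _ σ).symm
    · exact (GalTw.galMap_snd K σ _).trans (GalTwLib.act_snd _ σ).symm
  constructor
  · rintro ⟨f, -, hf⟩ σ
    rw [GalTwLib.galAct_eq_act, GalTwLib.galAct_eq_act]
    have hg' : g ≫ pullback.snd sY _ = pullback.snd sX _ := hg
    apply pullback.hom_ext
    · rw [Category.assoc, Category.assoc, GalTwLib.act_fst, show g ≫ pullback.fst sY _ = _ from hf,
        GalTwLib.act_fst_assoc]
    · rw [Category.assoc, Category.assoc, GalTwLib.act_snd, hg', GalTwLib.act_snd, reassoc_of% hg']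
  · intro h
    obtain ⟨f, hf⟩ := GalTwLib.exists_desc_bc (Y := Over.mk sX) (g ≫ Curv2.bcFst k Y K) fun σ => by
      rw [hact X σ, ← Category.assoc, h σ, Category.assoc, GalTwLib.galAct_eq_act]
      exact congrArg (g ≫ ·) (GalTwLib.act_fst _ σ)
    haveI := GalTwLib.epi_fst (K := K) (Over.mk sX)
    refine ⟨f, ?_, hf.symm⟩
    refine (cancel_epi (pullback.fst (Over.mk sX).hom (GalTwLib.ptK k K))).mp ?_
    calc pullback.fst (Over.mk sX).hom (GalTwLib.ptK k K) ≫ f ≫ sY
        = (g ≫ Curv2.bcFst k Y K) ≫ sY := by rw [← Category.assoc, hf]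
      _ = g ≫ Curv2.bcSnd k Y K ≫ Spec.map (CommRingCat.ofHom (algebraMap k K)) := by
          rw [Category.assoc]; exact congrArg (g ≫ ·) pullback.condition
      _ = _ := by rw [← Category.assoc, hg]; exact pullback.condition.symm

end Groth.Agent.S14400
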