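import Groth.Statements.S14402
import Groth.Agent.CohTopLib.Basic
import Mathlib.CategoryTheory.Abelian.Exact

set_option autoImplicit false
universe u
open CategoryTheory CategoryTheory.Limits
open CohTop

namespace Groth.Agent.S14402

/-- If a continuous map f : X → Y is a closed embedding (a homeomorphism onto a closed subset), then for
every abelian sheaf F on X and every q ≥ 0 the higher direct image R^{q+1} f_* F is zero. (The
published statement is for modules over a sheaf of rings on X along a morphism of ringed spaces;
this row is the case of abelian sheaves, the sheaf of rings being the constant sheaf ℤ.) -/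
theorem result {X Y : TopCat.{u}} (f : X ⟶ Y)
    (hf : Topology.IsClosedEmbedding f) (F : CohTop.Ab X) (q : ℕ) :
    IsZero ((CohTop.Rpush f (q + 1)).obj F) := by
  let T := CohTop.push f
  haveI : T.IsRightAdjoint := (TopCat.Sheaf.pullbackPushforwardAdjunction AddCommGrpCat.{u} f).isRightAdjoint
  haveI : PreservesFiniteLimits T := inferInstance
  haveI : T.PreservesEpimorphisms := ⟨fun {A B} g _ => by
    let S : ShortComplex (CohTop.Ab X) := ShortComplex.mk (kernel.ι g) g (kernel.condition g)
    exact CohTopLib.pf_epi_of_isClosedEmbedding f hf (S := S)
      { exact := S.exact_of_f_is_kernel (kernelIsKernel g) }⟩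
  haveI := Functor.preservesHomology_of_preservesEpis_and_kernels T
  let R := injectiveResolution F
  refine IsZero.of_iso ?_ (R.isoRightDerivedObj T (q + 1))
  refine (HomologicalComplex.exactAt_iff_isZero_homology _ _).1 ?_
  exact (R.cocomplex_exactAt_succ q).map T

end Groth.Agent.S14402
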