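import Groth.Statements.S14403
import Mathlib
import Groth.Agent.FibDimLib.Apps
-- import your own Groth.Agent.* helpers here

set_option autoImplicit false
universe u
open CategoryTheory AlgebraicGeometry
open FlatMor

namespace Groth.Agent.S14403

/-- Let k be a field, X and Y schemes of finite type over k, f : X ⟶ Y a flat k-morphism, and d, n
natural numbers such that every irreducible component of Y has dimension d (Y equidimensional of
dimension d). Then every irreducible component of X has dimension d + n if and only if for every
point y of Y, closed or not, every irreducible component of the scheme-theoretic fibre of f over y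
has dimension n (empty fibres impose no condition). -/
theorem result (k : Type u) [Field k]
    {X Y : Scheme.{u}} (qX : X ⟶ Spec (CommRingCat.of k)) (qY : Y ⟶ Spec (CommRingCat.of k))
    [LocallyOfFiniteType qX] [QuasiCompact qX] [LocallyOfFiniteType qY] [QuasiCompact qY]
    (f : X ⟶ Y) (hf : f ≫ qY = qX) [Flat f] (d n : ℕ)
    (hY : ∀ Z ∈ irreducibleComponents (Y : Type u), topologicalKrullDim Z = (d : WithBot ℕ∞)) :
    (∀ Z ∈ irreducibleComponents (X : Type u), topologicalKrullDim Z = ((d + n : ℕ) : WithBot ℕ∞)) ↔
      ∀ (y : Y), ∀ Z ∈ irreducibleComponents (f.fiber y : Type u),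
        topologicalKrullDim Z = (n : WithBot ℕ∞) := by
  haveI : LocallyOfFiniteType (f ≫ qY) := hf ▸ inferInstance
  haveI : LocallyOfFiniteType f := locallyOfFiniteType_of_comp f qY
  have hd : ∀ y : Y, FlatMor.localDim Y y = (d : WithBot ℕ∞) := fun y => by
    obtain ⟨g, hg, -, hd⟩ := FibDimLib.exists_generic_localDim qY y
    exact hd.trans (hY _ hg)
  have key : ∀ x : X, FlatMor.localDim X x = (d : WithBot ℕ∞) + FlatMor.fibreDimAt f x := fun x => by
    rw [← hd (f.base x)]
    exact FibDimLib.localDim_eq_add_fibreDimAt qY f x
  refine ⟨fun h y Z hZ => ?_, fun h Z hZ => ?_⟩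
  · obtain ⟨x, -, hx⟩ := FibDimLib.exists_point_of_fibre_component f y hZ
    obtain ⟨g, hg, -, hgd⟩ := FibDimLib.exists_generic_localDim qX x
    have e := (key x).symm.trans (hgd.trans (h _ hg))
    rw [Nat.cast_add] at e
    rw [hx]
    exact FibDimLib.add_cancel_nat e
  · obtain ⟨z, -, hzd⟩ := FibDimLib.exists_generic_of_component qX hZ
    obtain ⟨T, hT, hTd⟩ := FibDimLib.exists_fibre_component f z
    rw [← hzd, key z, hTd, h _ T hT, Nat.cast_add]

end Groth.Agent.S14403
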