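import Groth.Statements.S14404
import Groth.Agent.FibDimLib.Apps

set_option autoImplicit false
universe u
open CategoryTheory AlgebraicGeometry
open FlatMor

namespace Groth.Agent.S14404

/-- Let k be a field, X and Y irreducible schemes of finite type over k and f : X ⟶ Y a flat k-morphism.
Then dim Y ≤ dim X, and for every point y of Y every irreducible component Z of the scheme-theoretic
fibre of f over y has dim Z + dim Y = dim X; that is, every non-empty fibre has all its irreducible
components of dimension dim X − dim Y. -/
theorem result (k : Type u) [Field k]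
    {X Y : Scheme.{u}} (qX : X ⟶ Spec (CommRingCat.of k)) (qY : Y ⟶ Spec (CommRingCat.of k))
    [LocallyOfFiniteType qX] [QuasiCompact qX] [LocallyOfFiniteType qY] [QuasiCompact qY]
    [IrreducibleSpace X] [IrreducibleSpace Y] (f : X ⟶ Y) (hf : f ≫ qY = qX) [Flat f] :
    topologicalKrullDim Y ≤ topologicalKrullDim X ∧
      ∀ (y : Y), ∀ Z ∈ irreducibleComponents (f.fiber y : Type u),
        topologicalKrullDim Z + topologicalKrullDim Y = topologicalKrullDim X := by
  haveI : LocallyOfFiniteType (f ≫ qY) := hf ▸ inferInstance
  haveI : LocallyOfFiniteType f := locallyOfFiniteType_of_comp f qY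
  have key : ∀ x : X, topologicalKrullDim X = topologicalKrullDim Y + FlatMor.fibreDimAt f x := fun x => by
    rw [← FibDimLib.localDim_of_irreducible qX x, ← FibDimLib.localDim_of_irreducible qY (f.base x)]
    exact FibDimLib.localDim_eq_add_fibreDimAt qY f x
  refine ⟨?_, fun y Z hZ => ?_⟩
  · rw [key (genericPoint X)]
    exact le_add_of_nonneg_right (FibDimLib.localDim_nonneg _)
  · obtain ⟨x, -, hx⟩ := FibDimLib.exists_point_of_fibre_component f y hZ
    rw [hx, key x, add_comm]


end Groth.Agent.S14404
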