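import Groth.Statements.S14405
import Mathlib.NumberTheory.BernoulliPolynomials

set_option autoImplicit false
open Polynomial
open HilbNum

namespace Groth.Agent.S14405

/-- Let φ be a function from the integers to the rationals and Q a nonzero polynomial with rational
coefficients of degree d such that φ(m) - φ(m-1) = Q(m) for every integer m. Then there is a
polynomial P with rational coefficients, of degree d + 1, such that φ(m) = P(m) for every integer m.
(The explicit form of P in the binomial basis is not part of this statement.) -/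
theorem result (φ : ℤ → ℚ) (d : ℕ) (Q : ℚ[X]) (hQ : Q ≠ 0)
    (hd : Q.natDegree = d) (h : ∀ m : ℤ, φ m - φ (m - 1) = Q.eval (m : ℚ)) :
    ∃ P : ℚ[X], P.natDegree = d + 1 ∧ ∀ m : ℤ, φ m = P.eval (m : ℚ) := by
  open Polynomial in
  let P₀ : ℚ[X] := ∑ k ∈ Finset.range (d + 1),
    C (Q.coeff k / (k + 1)) * (Polynomial.bernoulli (k + 1)).comp (X + 1)
  have hΔ : ∀ x : ℚ, P₀.eval x - P₀.eval (x - 1) = Q.eval x := fun x => by
    simp only [P₀, eval_finsetSum, eval_mul, eval_C, eval_comp, eval_add, eval_X, eval_one,
      sub_add_cancel, ← Finset.sum_sub_distrib, ← mul_sub]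
    rw [Q.eval_eq_sum_range' (n := d + 1) (by omega)]
    refine Finset.sum_congr rfl fun k _ => ?_
    rw [add_comm x 1, Polynomial.bernoulli_eval_one_add, add_sub_cancel_left, Nat.add_sub_cancel]
    push_cast
    field_simp
  have hb : ∀ k, (Polynomial.bernoulli (k + 1)).natDegree = k + 1 := fun k => by
    refine natDegree_eq_of_le_of_coeff_ne_zero ?_ ?_
    · refine natDegree_le_iff_coeff_eq_zero.mpr fun i hi => ?_
      rw [Polynomial.coeff_bernoulli, if_neg (by omega)]
    · simp [Polynomial.coeff_bernoulli]
  have hc : ∀ k, ((Polynomial.bernoulli (k + 1)).comp (X + 1)).natDegree = k + 1 := fun k => by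
    rw [natDegree_comp, hb, ← C_1, natDegree_X_add_C, mul_one]
  have hdeg : P₀.natDegree = d + 1 := by
    simp only [P₀, Finset.sum_range_succ _ d]
    have hQd : Q.coeff d / ((d : ℚ) + 1) ≠ 0 :=
      div_ne_zero (by rw [← hd]; exact leadingCoeff_ne_zero.mpr hQ) (by positivity)
    rw [natDegree_add_eq_right_of_natDegree_lt, natDegree_C_mul hQd, hc]
    rw [natDegree_C_mul hQd, hc]
    refine Nat.lt_succ_of_le (natDegree_sum_le_of_forall_le _ _ fun k hk => ?_)
    refine (natDegree_C_mul_le _ _).trans ?_
    rw [hc]
    exact Finset.mem_range.mp hk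
  refine ⟨P₀ + C (φ 0 - P₀.eval 0), by rw [natDegree_add_C, hdeg], fun m => ?_⟩
  have key : ∀ m : ℤ, φ m - P₀.eval (m : ℚ) = φ 0 - P₀.eval 0 := fun m => by
    induction m using Int.induction_on with
    | zero => simp
    | succ i ih =>
      have h1 := h (i + 1)
      have h2 := hΔ ((i : ℚ) + 1)
      simp only [add_sub_cancel_right] at h1 h2
      push_cast at h1 ih ⊢
      linarith
    | pred i ih =>
      have h1 := h (-i)
      have h2 := hΔ (-(i : ℚ))
      push_cast at h1 ih ⊢
      linarith
  rw [eval_add, eval_C, ← key m]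
  ring

end Groth.Agent.S14405
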