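import Groth.Statements.S14408
import Groth.Agent.HatSlopeLib.Main

set_option autoImplicit false
universe u
open CategoryTheory CategoryTheory.Limits AlgebraicGeometry
open HilbNum

namespace Groth.Agent.S14408

/-- Let k be an algebraically closed field, n a positive integer, F a nonzero coherent O-module on
projective n-space P over k (quasi-coherent of finite type), and P_F a polynomial with rational
coefficients such that P_F(m) = χ(F(m)) = Σ_{j ≤ n} (-1)^j dim_k H^j(P, F ⊗ O(m)) for every integer
m. Then the degree of P_F equals the dimension of the support of F (the closed set of points where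
the stalk of F is nonzero, with the subspace topology). The existence of such a polynomial is not
part of this statement; it enters through the hypothesis on P_F. -/
theorem result (k : Type u) [Field k] [IsAlgClosed k] (n : ℕ) (hn : 0 < n)
    (F : (CohB1.ProjSpace n k).Modules) (hF : Coh.IsCoh F) (hF0 : ¬ IsZero F) (P : Polynomial ℚ)
    (hP : ∀ m : ℤ,
      ((Finset.range (n + 1)).sum fun j => (-1 : ℚ) ^ j *
        (Module.finrank k (Coh.HH (CohB1.ProjSpace n k) (CohB1.tensorMod F (Twist.twistProjSpace n k m)) j) : ℚ)) =
      P.eval (m : ℚ)) :
    topologicalKrullDim ↥(CohB1.support F) = (P.natDegree : WithBot ℕ∞) := by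
  have hR : HatSlopeLib.IsPoly k F P := fun t => by
    rw [← hP t, MumfordLib.chi, FGA.eulerCharLE]
    push_cast
    rfl
  have hne : (CohB1.support F).Nonempty := by
    by_contra h
    exact hF0 (DevissLib.isZero_of_support_empty (Set.not_nonempty_iff_eq_empty.mp h))
  have hle := HatSlopeLib.dim_support_le k hF hR le_rfl
  haveI : Nonempty ↥(CohB1.support F) := hne.to_subtype
  obtain ⟨D, hD⟩ : ∃ D : ℕ, topologicalKrullDim (CohB1.support F) = (D : ℕ) := by
    haveI : Nonempty (TopologicalSpace.IrreducibleCloseds ↥(CohB1.support F)) :=
      ⟨⟨closure {Classical.arbitrary _}, isIrreducible_singleton.closure, isClosed_closure⟩⟩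
    have h0 : (0 : WithBot ℕ∞) ≤ topologicalKrullDim (CohB1.support F) := Order.krullDim_nonneg
    revert h0 hle
    generalize topologicalKrullDim (CohB1.support F) = x
    intro h h0
    induction x with
    | bot => exact absurd h0 (not_le.mpr (WithBot.bot_lt_coe _))
    | coe a =>
      induction a with
      | top => exact absurd (WithBot.coe_le_coe.mp h) (not_le.mpr (ENat.natCast_lt_top _))
      | coe a => exact ⟨a, rfl⟩
  have h2 := HatSlopeLib.natDegree_le k hF hR hD.le
  rw [hD] at hle ⊢
  have h3 : D ≤ P.natDegree := by exact_mod_cast hle
  rw [le_antisymm h2 h3]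

end Groth.Agent.S14408
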