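import Groth.Statements.S1441
import Groth.Agent.FibFlatConsLib.Locus
import Groth.Agent.S1391
import Groth.Agent.S4863
import Groth.Agent.RichLib.ModFlatLimit

set_option autoImplicit false
universe u
open FlatMor

namespace Groth.Agent.S1441

open AlgebraicGeometry CategoryTheory Limits in
/-- Let f : X → Y be a morphism over S with X locally of finite presentation and Y locally of finite
type over S, and F a finitely presented quasi-coherent O_X-module flat over S. Then the set U of
points where F is flat over Y is open in X, and for any base change S' → S (with X', Y', F' the base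
changes) the corresponding set for F' over Y' is the preimage of U. -/
theorem result {X Y S : Scheme.{u}} (f : X ⟶ Y) (g : Y ⟶ S) [LocallyOfFinitePresentation (f ≫ g)] [LocallyOfFiniteType g]
    (F : X.Modules) (hq : Coh.IsQCoh F) (hfp : CohB1.IsFP F) (hfl : FlatMod.IsFlatOver (f ≫ g) F) :
    IsOpen {x : ↑X | FlatMod.IsFlatOverAt f F x} ∧
      ∀ {X' Y' S' : Scheme.{u}} (h : S' ⟶ S) (gY : Y' ⟶ Y) (g' : Y' ⟶ S') (hY : IsPullback gY g' g h)
        (gX : X' ⟶ X) (f' : X' ⟶ Y') (hX : IsPullback gX (f' ≫ g') (f ≫ g) h) (w : gX ≫ f = f' ≫ gY),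
        {x' : ↑X' | FlatMod.IsFlatOverAt f' ((Scheme.Modules.pullback gX).obj F) x'} = gX ⁻¹' {x : ↑X | FlatMod.IsFlatOverAt f F x} := by
  haveI := hq
  have hf : LocallyOfFinitePresentation f := AlgSpLib.lfp_of_comp_lft f g
  refine ⟨Groth.Agent.S4863.result f F hfp, ?_⟩
  intro X' Y' S' h gY g' hY gX f' hX w
  have hX' : IsPullback gX f' f gY := IsPullback.of_bot hX w hY
  haveI : LocallyOfFinitePresentation (f' ≫ g') :=
    MorphismProperty.of_isPullback (P := @LocallyOfFinitePresentation) hX inferInstance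
  haveI : LocallyOfFiniteType g' := MorphismProperty.of_isPullback (P := @LocallyOfFiniteType) hY inferInstance
  haveI : Coh.IsQCoh ((Scheme.Modules.pullback gX).obj F) := KFlatLib.isQCoh_pullback gX F
  ext x'
  simp only [Set.mem_setOf_eq, Set.mem_preimage]
  rw [FibFlatConsLib.isFlatOverAt_iff_fibFlatAt f' g' _ (RichLib.ModFlat.isFP_pullback gX hfp) x'
      (Groth.Agent.S1391.result (f ≫ g) (f' ≫ g') gX h hX F hq x' (hfl _)),
    FibFlatConsLib.isFlatOverAt_iff_fibFlatAt f g F hfp _ (hfl _)]
  have sqY := FlatLib.isPullback_fiber g' (g' (f' x'))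
  have sqX := FlatLib.isPullback_fiberMap f' g' (g' (f' x'))
  obtain ⟨z, hz⟩ : x' ∈ Set.range ((f' ≫ g').fiberι (g' (f' x'))) := by
    rw [Scheme.Hom.range_fiberι]; rfl
  have hK : IsField (S'.residueField (g' (f' x'))) := Field.toIsField _
  have h1 := FibFlatConsLib.fibFlatAt_iff_square f' g' ((Scheme.Modules.pullback gX).obj F) hK sqY sqX z
  have h2 := FibFlatConsLib.fibFlatAt_iff_square f g F hK (sqY.paste_horiz hY) (sqX.paste_horiz hX') z
  rw [Scheme.Hom.comp_apply, hz] at h2
  rw [hz] at h1
  rw [h1, h2]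
  exact RichLib.ModFlat.isFlatOverAt_iso _
    ((Scheme.Modules.pullbackComp ((f' ≫ g').fiberι (g' (f' x'))) gX).app F) z

end Groth.Agent.S1441
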