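import Groth.Statements.S14412
import Mathlib

set_option autoImplicit false
set_option maxHeartbeats 1000000
set_option backward.isDefEq.respectTransparency false
universe u
open CategoryTheory
open CAlg

namespace Groth.Agent.S14412

open CategoryTheory Abelian in
/-- Localisation is linear over the ring. -/
theorem map_smul_id {R : Type u} [CommRing R] (S : Submonoid R) (M : ModuleCat.{u} R) (r : R) :
    (ModuleCat.localizedModuleFunctor.{u} S).map (r • 𝟙 M) =
      algebraMap R (Localization S) r • 𝟙 ((ModuleCat.localizedModuleFunctor.{u} S).obj M) := by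
  show ModuleCat.localizedModuleMap S (r • 𝟙 M) = algebraMap R (Localization S) r • 𝟙 (M.localizedModule S)
  refine ModuleCat.hom_ext ?_
  refine LinearMap.restrictScalars_injective R
    (IsLocalizedModule.ext S (M.localizedModuleMkLinearMap S)
      (IsLocalizedModule.map_units (M.localizedModuleMkLinearMap S)) (LinearMap.ext fun m => ?_))
  show IsLocalizedModule.mapExtendScalars S (M.localizedModuleMkLinearMap S) (M.localizedModuleMkLinearMap S)
      (Localization S) (r • LinearMap.id) (M.localizedModuleMkLinearMap S m) =
    algebraMap R (Localization S) r • M.localizedModuleMkLinearMap S m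
  rw [IsLocalizedModule.mapExtendScalars_apply_apply, IsLocalizedModule.map_apply, algebraMap_smul,
    LinearMap.smul_apply, LinearMap.id_apply, map_smul]

open CategoryTheory Abelian in
/-- The map on extensions is linear over the ring. -/
theorem mapExt_smul {R : Type u} [CommRing R] (S : Submonoid R) (M N : ModuleCat.{u} R) (i : ℕ) (r : R)
    (e : Abelian.Ext M N i) :
    (ModuleCat.localizedModuleFunctor.{u} S).mapExtAddHom M N i (r • e) =
      algebraMap R (Localization S) r • (ModuleCat.localizedModuleFunctor.{u} S).mapExtAddHom M N i e := by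
  simp only [Functor.mapExtAddHom_apply]
  rw [Ext.smul_eq_comp_mk₀, Ext.mapExactFunctor_comp, Ext.mapExactFunctor_mk₀, map_smul_id,
    ← Ext.smul_eq_comp_mk₀]

open CategoryTheory Abelian in
/-- The induction. -/
theorem exhibits (R : Type u) [CommRing R] [IsNoetherianRing R] (S : Submonoid R) (N : ModuleCat.{u} R) (i : ℕ) :
    ∀ (M : ModuleCat.{u} R) [Module.Finite R M],
    (∀ y : Abelian.Ext ((ModuleCat.localizedModuleFunctor.{u} S).obj M) ((ModuleCat.localizedModuleFunctor.{u} S).obj N) i,
        ∃ (e : Abelian.Ext M N i) (s : S),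
          algebraMap R (Localization S) (s : R) • y = (ModuleCat.localizedModuleFunctor.{u} S).mapExtAddHom M N i e) ∧
      (∀ e : Abelian.Ext M N i,
        (ModuleCat.localizedModuleFunctor.{u} S).mapExtAddHom M N i e = 0 → ∃ s : S, (s : R) • e = 0) := by
  induction i with
  | zero =>
    intro M _
    haveI : Module.FinitePresentation R M := Module.finitePresentation_of_finite R M
    haveI := Module.FinitePresentation.isLocalizedModule_mapExtendScalars S (M.localizedModuleMkLinearMap S)
      (N.localizedModuleMkLinearMap S) (Localization S)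
    constructor
    · intro y
      obtain ⟨g, hg⟩ : ∃ g : M.localizedModule S ⟶ N.localizedModule S, Ext.mk₀ g = y :=
        Ext.addEquiv₀.symm.surjective y
      subst hg
      obtain ⟨⟨h, s⟩, hs⟩ := IsLocalizedModule.surj S (IsLocalizedModule.mapExtendScalars S
        (M.localizedModuleMkLinearMap S) (N.localizedModuleMkLinearMap S) (Localization S)) g.hom
      refine ⟨Ext.mk₀ (ModuleCat.ofHom h), s, ?_⟩
      simp only [Functor.mapExtAddHom_apply, Ext.mapExactFunctor_mk₀]
      show algebraMap R (Localization S) (s : R) • Ext.mk₀ g = _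
      rw [← Ext.mk₀_smul]
      congr 1
      refine ModuleCat.hom_ext ?_
      show algebraMap R (Localization S) (s : R) • g.hom = IsLocalizedModule.mapExtendScalars S
        (M.localizedModuleMkLinearMap S) (N.localizedModuleMkLinearMap S) (Localization S) h
      rw [algebraMap_smul, ← hs]
      rfl
    · intro e he
      obtain ⟨g, rfl⟩ := Ext.addEquiv₀.symm.surjective e
      have he' : (ModuleCat.localizedModuleFunctor.{u} S).map g = 0 := by
        have h1 : Ext.mk₀ ((ModuleCat.localizedModuleFunctor.{u} S).map g) = 0 := by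
          rw [← Ext.mapExactFunctor_mk₀]; exact he
        exact Ext.addEquiv₀.symm.injective (h1.trans (map_zero _).symm)
      have h2 : IsLocalizedModule.mapExtendScalars S (M.localizedModuleMkLinearMap S)
          (N.localizedModuleMkLinearMap S) (Localization S) g.hom = 0 := congrArg ModuleCat.Hom.hom he'
      obtain ⟨s, hs⟩ := (IsLocalizedModule.eq_zero_iff S _).1 h2
      refine ⟨s, ?_⟩
      show (s : R) • Ext.mk₀ g = 0
      rw [← Ext.mk₀_smul, show (s : R) • g = 0 from ModuleCat.hom_ext hs, Ext.mk₀_zero]
  | succ n ih =>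
    intro M _
    obtain ⟨m, π, hπ⟩ := Module.Finite.exists_fin' R M
    let P := ModuleCat.of R (Fin m → R)
    let T : ShortComplex (ModuleCat.{u} R) := ShortComplex.mk (X₁ := ModuleCat.of R (LinearMap.ker π)) (X₂ := P)
      (ModuleCat.ofHom (LinearMap.ker π).subtype) (ModuleCat.ofHom π)
      (ModuleCat.hom_ext (LinearMap.ext fun x => x.2))
    have hT : T.ShortExact :=
      { exact := (ShortComplex.ShortExact.moduleCat_exact_iff_function_exact T).2 (LinearMap.exact_subtype_ker_map π)
        mono_f := (ModuleCat.mono_iff_injective _).2 Subtype.coe_injective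
        epi_g := (ModuleCat.epi_iff_surjective _).2 hπ }
    haveI : Projective T.X₂ := (IsProjective.iff_projective (R := R) (Fin m → R)).1 inferInstance
    let F := ModuleCat.localizedModuleFunctor.{u} S
    have hTF : (T.map F).ShortExact := hT.map_of_exact F
    haveI : Projective (T.map F).X₂ := F.projective_obj T.X₂
    haveI : Module.Finite R T.X₁ := inferInstanceAs (Module.Finite R (LinearMap.ker π))
    haveI : Module.Finite R T.X₂ := inferInstanceAs (Module.Finite R (Fin m → R))
    obtain ⟨ih1, ih1'⟩ := ih T.X₁
    obtain ⟨ih2, -⟩ := ih T.X₂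
    have hδ : ∀ x : Ext T.X₁ N n, F.mapExtAddHom M N (n + 1) (hT.extClass.comp x (add_comm 1 n)) =
        hTF.extClass.comp (F.mapExtAddHom T.X₁ N n x) (add_comm 1 n) := fun x => by
      simp only [Functor.mapExtAddHom_apply, Ext.mapExactFunctor_comp, Ext.mapExactFunctor_extClass]
    constructor
    · intro y
      obtain ⟨z, rfl⟩ := Ext.contravariant_sequence_exact₃ hTF (F.obj N) y (Ext.eq_zero_of_projective _) (add_comm 1 n)
      obtain ⟨e, s, hs⟩ := ih1 z
      refine ⟨hT.extClass.comp e (add_comm 1 n), s, ?_⟩
      rw [hδ, ← hs, Ext.comp_smul]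
    · intro e he
      obtain ⟨x, rfl⟩ := Ext.contravariant_sequence_exact₃ hT N e (Ext.eq_zero_of_projective _) (add_comm 1 n)
      rw [hδ] at he
      obtain ⟨w, hw⟩ := Ext.contravariant_sequence_exact₁ hTF (F.obj N) _ (add_comm 1 n) he
      obtain ⟨p, s, hs⟩ := ih2 w
      have h1 : F.mapExtAddHom T.X₁ N n ((s : R) • x - (Ext.mk₀ T.f).comp p (zero_add n)) = 0 := by
        rw [map_sub, mapExt_smul]
        simp only [Functor.mapExtAddHom_apply, Ext.mapExactFunctor_comp, Ext.mapExactFunctor_mk₀]
        rw [show p.mapExactFunctor F = F.mapExtAddHom T.X₂ N n p from rfl, ← hs, Ext.comp_smul,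
          show x.mapExactFunctor F = F.mapExtAddHom T.X₁ N n x from rfl, ← hw]
        exact sub_self _
      obtain ⟨t, ht⟩ := ih1' _ h1
      refine ⟨t * s, ?_⟩
      rw [smul_sub, sub_eq_zero] at ht
      rw [Submonoid.coe_mul, mul_smul, ← Ext.comp_smul, ← Ext.comp_smul, ht, Ext.comp_smul,
        hT.extClass_comp_assoc, smul_zero]

/-- Let R be a Noetherian commutative ring, S a multiplicative subset of R, and M, N finitely generated
R-modules. For i ≥ 0 consider the map Ext^i_R(M, N) → Ext^i_{S⁻¹R}(S⁻¹M, S⁻¹N) induced on Ext groups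
(computed in the categories of modules) by the exact localization functor M ↦ S⁻¹M. Then this map
exhibits its target as the localization S⁻¹ Ext^i_R(M, N): every element of the target, after
multiplication by some s ∈ S, is the image of an element of Ext^i_R(M, N), and an element of
Ext^i_R(M, N) maps to zero if and only if it is annihilated by some element of S. (Equivalently, the
induced map identifies S⁻¹Ext^i_R(M, N) with Ext^i_{S⁻¹R}(S⁻¹M, S⁻¹N).) -/
theorem result (R : Type u) [CommRing R] [IsNoetherianRing R]
    (S : Submonoid R) (M N : ModuleCat.{u} R) [Module.Finite R M] [Module.Finite R N] (i : ℕ) :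
    (∀ y : Abelian.Ext ((ModuleCat.localizedModuleFunctor.{u} S).obj M) ((ModuleCat.localizedModuleFunctor.{u} S).obj N) i,
        ∃ (e : Abelian.Ext M N i) (s : S),
          algebraMap R (Localization S) (s : R) • y = (ModuleCat.localizedModuleFunctor.{u} S).mapExtAddHom M N i e) ∧
      (∀ e : Abelian.Ext M N i,
        (ModuleCat.localizedModuleFunctor.{u} S).mapExtAddHom M N i e = 0 ↔ ∃ s : S, (s : R) • e = 0) := by
  obtain ⟨h1, h2⟩ := exhibits R S N i M
  refine ⟨h1, fun e => ⟨h2 e, ?_⟩⟩
  rintro ⟨s, hs⟩
  have h3 := congrArg ((ModuleCat.localizedModuleFunctor.{u} S).mapExtAddHom M N i) hs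
  rw [mapExt_smul, map_zero] at h3
  exact (IsLocalization.map_units (Localization S) s).smul_eq_zero.1 h3

end Groth.Agent.S14412
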