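import Groth.Statements.S14413
import Mathlib.Algebra.Homology.Augment
import Mathlib.CategoryTheory.Abelian.Projective.Resolution
import Mathlib.Algebra.Category.ModuleCat.EnoughInjectives
import Mathlib.Algebra.Category.ModuleCat.Projective
import Mathlib.CategoryTheory.Abelian.Projective.Dimension
import Mathlib.CategoryTheory.Abelian.Projective.Ext


-- import your own Groth.Agent.* helpers here

set_option autoImplicit false
universe u
open CategoryTheory CategoryTheory.Limits
open CAlg

namespace Groth.Agent.S14413

/-- Let R be a commutative ring, M an R-module and d ≥ 0. Then M has projective dimension at most d in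
the sense that Ext^i_R(M, N) = 0 for every i > d and every R-module N (Mathlib's Ext-vanishing
definition) if and only if M has a projective resolution of length at most d, i.e. a projective
resolution P whose terms P_i are zero for all i > d (the definition of pd_R(M) ≤ d by resolutions). -/
theorem result (R : Type u) [CommRing R]
    (M : ModuleCat.{u} R) (d : ℕ) :
    HasProjectiveDimensionLE M d ↔
      ∃ P : ProjectiveResolution M, ∀ i : ℕ, d < i → IsZero (P.complex.X i) := by
  constructor
  · intro h
    induction d generalizing M with
    | zero =>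
      have : Projective M := (projective_iff_hasProjectiveDimensionLE_zero M).2 h
      exact ⟨ProjectiveResolution.self M, fun i hi =>
        HomologicalComplex.isZero_single_obj_X _ _ _ _ (by omega)⟩
    | succ d ih =>
      let S : ShortComplex (ModuleCat.{u} R) := ShortComplex.mk _ _ (kernel.condition (Projective.π M))
      have hS : S.ShortExact :=
        { exact := ShortComplex.exact_of_f_is_kernel _ (kernelIsKernel _)
          mono_f := inferInstanceAs (Mono (kernel.ι _))
          epi_g := inferInstanceAs (Epi (Projective.π M)) }
      have hKd : HasProjectiveDimensionLE S.X₁ d :=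
        (hS.hasProjectiveDimensionLT_X₃_iff d (inferInstanceAs (Projective (Projective.over M)))).1 h
      obtain ⟨Q, hQ⟩ := ih S.X₁ hKd
      let q : Q.complex.X 0 ⟶ S.X₁ := Q.π.f 0
      have hq : Q.complex.d 1 0 ≫ q = 0 := Q.complex_d_comp_π_f_zero
      have hqe : Epi q := inferInstanceAs (Epi (Q.π.f 0))
      have hw : Q.complex.d 1 0 ≫ q ≫ S.f = 0 := by
        rw [← Category.assoc, hq, zero_comp]
      let C' := ChainComplex.augment Q.complex (q ≫ S.f) hw
      have hw0 : C'.d 1 0 ≫ Projective.π M = 0 := by
        show (q ≫ S.f) ≫ S.g = 0
        rw [Category.assoc, S.zero, comp_zero]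
      have hex0 : (ShortComplex.mk (q ≫ S.f) S.g (by rw [Category.assoc, S.zero, comp_zero])).Exact := by
        let φ : ShortComplex.mk (q ≫ S.f) S.g (by rw [Category.assoc, S.zero, comp_zero]) ⟶ S :=
          { τ₁ := q, τ₂ := 𝟙 _, τ₃ := 𝟙 _, comm₁₂ := by simp, comm₂₃ := by simp }
        have : Epi φ.τ₁ := hqe
        have : IsIso φ.τ₂ := inferInstanceAs (IsIso (𝟙 _))
        have : Mono φ.τ₃ := inferInstanceAs (Mono (𝟙 _))
        exact (ShortComplex.exact_iff_of_epi_of_isIso_of_mono φ).2 hS.exact
      have hex1 : (ShortComplex.mk (Q.complex.d 1 0) (q ≫ S.f) hw).Exact := by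
        let φ : ShortComplex.mk (Q.complex.d 1 0) (q) hq ⟶
            ShortComplex.mk (Q.complex.d 1 0) (q ≫ S.f) hw :=
          { τ₁ := 𝟙 _, τ₂ := 𝟙 _, τ₃ := S.f, comm₁₂ := by simp, comm₂₃ := by simp }
        have : Epi φ.τ₁ := inferInstanceAs (Epi (𝟙 _))
        have : IsIso φ.τ₂ := inferInstanceAs (IsIso (𝟙 _))
        have : Mono φ.τ₃ := hS.mono_f
        exact (ShortComplex.exact_iff_of_epi_of_isIso_of_mono φ).1
          (ShortComplex.exact_of_g_is_cokernel (ShortComplex.mk (Q.complex.d 1 0) q hq) Q.isColimitCokernelCofork)
      refine ⟨{ complex := C'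
                projective := fun n => ?_
                π := (C'.toSingle₀Equiv M).symm ⟨Projective.π M, hw0⟩
                quasiIso := ⟨fun n => ?_⟩ }, fun i hi => ?_⟩
      · cases n
        · exact inferInstanceAs (Projective (Projective.over M))
        · exact Q.projective _
      · cases n
        · rw [ChainComplex.quasiIsoAt₀_iff, ShortComplex.quasiIso_iff_of_zeros']
          · refine (ShortComplex.exact_and_epi_g_iff_of_iso ?_).2
              (⟨hex0, inferInstanceAs (Epi (Projective.π M))⟩ :
                (ShortComplex.mk (q ≫ S.f) S.g (by rw [Category.assoc, S.zero, comp_zero])).Exact ∧ Epi S.g)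
            exact ShortComplex.isoMk (Iso.refl _) (Iso.refl _) (Iso.refl _)
              ((Category.id_comp _).trans (Category.comp_id _).symm) ((Category.id_comp _).trans (Category.comp_id _).symm)
          all_goals first | rfl | (simp; rfl)
        · rename_i n
          rw [quasiIsoAt_iff_exactAt']
          · rw [HomologicalComplex.exactAt_iff' _ (n + 2) (n + 1) n (by simp only [ChainComplex.prev]; rfl) (by simp)]
            rcases n with _ | n
            · exact hex1
            · exact Q.exact_succ n
          · apply ChainComplex.exactAt_succ_single_obj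
      · obtain ⟨j, rfl⟩ := Nat.exists_eq_succ_of_ne_zero (by omega : i ≠ 0)
        exact hQ j (by omega)
  · rintro ⟨P, hP⟩
    rw [HasProjectiveDimensionLE, hasProjectiveDimensionLT_iff]
    intro i hi N α
    obtain ⟨f, hf, rfl⟩ := P.extMk_surjective α (i + 1) rfl
    simp only [(hP i (by omega)).eq_of_src f 0, ProjectiveResolution.extMk_zero]

end Groth.Agent.S14413
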