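import Groth.Statements.S14414
import Groth.Agent.TorDimLib.Basic
import Mathlib.Algebra.Module.CharacterModule
import Mathlib.CategoryTheory.Abelian.Projective.Ext
import Mathlib.CategoryTheory.Abelian.Projective.Dimension
-- import your own Groth.Agent.* helpers here

set_option autoImplicit false
universe u
open CategoryTheory CategoryTheory.Limits
open scoped TensorProduct
open CategoryTheory.Limits
open CAlg

namespace Groth.Agent.S14414

/-- Let R be a commutative ring and N an R-module of projective dimension at most q, in the sense that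
Ext^i_R(N, N′) = 0 for all i > q and all N′ (equivalently, N has a projective resolution of length
at most q). Then for every R-module M and every i > q, Tor_i^R(M, N) — the value at N of the i-th
left derived functor of M ⊗_R (-) — is zero. -/
theorem result (R : Type u) [CommRing R]
    (M N : ModuleCat.{u} R) (q : ℕ) [HasProjectiveDimensionLE N q] (i : ℕ) (hi : q < i) :
    IsZero (((CategoryTheory.Tor (ModuleCat.{u} R) i).obj M).obj N) := by
  obtain ⟨j, rfl⟩ : ∃ j, i = j + 1 := ⟨i - 1, by omega⟩
  haveI := HasExt.standard (ModuleCat.{u} R)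
  let P := CategoryTheory.projectiveResolution N
  let F := (MonoidalCategory.tensoringLeft (ModuleCat.{u} R)).obj M
  let K := (F.mapHomologicalComplex (ComplexShape.down ℕ)).obj P.complex
  refine IsZero.of_iso ?_ (P.isoLeftDerivedObj F (j + 1))
  show IsZero (K.homology (j + 1))
  rw [← K.exactAt_iff_isZero_homology, K.exactAt_iff' (j + 2) (j + 1) j (by simp only [ChainComplex.prev]; rfl) (by simp)]
  refine (ShortComplex.ShortExact.moduleCat_exact_iff_function_exact _).2 ?_
  show Function.Exact ((P.complex.d (j + 2) (j + 1)).hom.lTensor M) ((P.complex.d (j + 1) j).hom.lTensor M)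
  intro z
  refine ⟨fun hz => ?_, fun ⟨y, hy⟩ => hy ▸ TorDimLib.d_d P M _ _ _ y⟩
  show z ∈ LinearMap.range ((P.complex.d (j + 2) (j + 1)).hom.lTensor M)
  rw [← Submodule.Quotient.mk_eq_zero]
  refine CharacterModule.eq_zero_of_character_apply fun ψ => ?_
  let φ : CharacterModule (M ⊗[R] P.complex.X (j + 1)) := CharacterModule.dual (Submodule.mkQ _) ψ
  let f : P.complex.X (j + 1) →ₗ[R] CharacterModule M :=
    CharacterModule.curry (CharacterModule.dual (TensorProduct.comm R (P.complex.X (j + 1)) M).toLinearMap φ)
  have hf : P.complex.d (j + 2) (j + 1) ≫ ModuleCat.ofHom (Y := CharacterModule M) f = 0 := by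
    refine ModuleCat.hom_ext (LinearMap.ext fun x => DFunLike.ext _ _ fun m => ?_)
    show ψ (Submodule.Quotient.mk (m ⊗ₜ[R] (P.complex.d (j + 2) (j + 1)).hom x)) = 0
    rw [(Submodule.Quotient.mk_eq_zero (LinearMap.range ((P.complex.d (j + 2) (j + 1)).hom.lTensor M))).2
      (LinearMap.mem_range.2 ⟨m ⊗ₜ[R] x, LinearMap.lTensor_tmul M _ _ _⟩), map_zero]
  haveI : HasProjectiveDimensionLT N (j + 1) := hasProjectiveDimensionLT_of_ge N (q + 1) (j + 1) (by omega)
  haveI := HasProjectiveDimensionLT.subsingleton N (j + 1) (j + 1) le_rfl (ModuleCat.of R (CharacterModule M))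
  obtain ⟨g, hg⟩ := (P.extMk_eq_zero_iff (ModuleCat.ofHom (Y := CharacterModule M) f) (j + 2) rfl hf j rfl).1
    (Subsingleton.elim _ _)
  let χ : CharacterModule (M ⊗[R] P.complex.X j) :=
    CharacterModule.dual (TensorProduct.comm R M (P.complex.X j)).toLinearMap (CharacterModule.uncurry g.hom)
  have key : ∀ w, φ w = χ ((P.complex.d (j + 1) j).hom.lTensor M w) := fun w => by
    induction w using TensorProduct.induction_on with
    | zero => simp only [map_zero]
    | tmul m x =>
      have := congrArg (fun t : P.complex.X (j + 1) ⟶ ModuleCat.of R (CharacterModule M) => t.hom x m) hg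
      exact this.symm
    | add a b ha hb => simp only [map_add, ha, hb]
  exact (key z).trans (by rw [hz, map_zero])

end Groth.Agent.S14414
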