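import Groth.Statements.S14416
import Mathlib.RingTheory.LocalRing.Module
import Mathlib.LinearAlgebra.TensorProduct.RightExactness
import Mathlib.RingTheory.Support
import Mathlib.LinearAlgebra.FiniteDimensional.Basic
-- import your own Groth.Agent.* helpers here

set_option autoImplicit false
universe u
open scoped TensorProduct
open CAlg

namespace Groth.Agent.S14416

/-- Let B → A be a ring map with A a finitely generated B-module such that for every prime ideal p of B
the fibre κ(p) ⊗_B A has dimension at most one over the residue field κ(p). Then B → A is
surjective. In scheme language: a finite morphism whose degree at every point of the target is 0 or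
1 is a closed immersion. (The published statement assumes the two schemes Noetherian; that
hypothesis plays no role and is dropped here.) -/
theorem result
    (B A : Type u) [CommRing B] [CommRing A] [Algebra B A] [Module.Finite B A]
    (h : ∀ p : PrimeSpectrum B,
      Module.finrank p.asIdeal.ResidueField (p.asIdeal.ResidueField ⊗[B] A) ≤ 1) :
    Function.Surjective (algebraMap B A) := by
  let f : B →ₗ[B] A := Algebra.linearMap B A
  suffices LinearMap.range f = ⊤ from LinearMap.range_eq_top.mp this
  rw [← Submodule.Quotient.subsingleton_iff, ← Module.support_eq_empty_iff (R := B)]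
  rw [Set.eq_empty_iff_forall_notMem]
  intro p hp
  rw [Module.mem_support_iff_nontrivial_residueField_tensorProduct] at hp
  have hex := lTensor_exact p.asIdeal.ResidueField
    (LinearMap.exact_map_mkQ_range f) (Submodule.mkQ_surjective _)
  have hsurj : Function.Surjective (f.lTensor p.asIdeal.ResidueField) := by
    have hbc : ∀ z, f.baseChange p.asIdeal.ResidueField z = f.lTensor p.asIdeal.ResidueField z := fun _ => rfl
    set κ := p.asIdeal.ResidueField
    by_cases h0 : Subsingleton (κ ⊗[B] A)
    · exact Function.surjective_to_subsingleton _
    have hne : Nontrivial (κ ⊗[B] A) := not_subsingleton_iff_nontrivial.mp h0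
    have h1 : (1 : κ) ⊗ₜ[B] (1 : A) ≠ 0 := by
      intro hz
      exact one_ne_zero (α := κ ⊗[B] A) (by rw [Algebra.TensorProduct.one_def]; exact hz)
    have htop := finrank_eq_one_iff_of_nonzero' _ h1 |>.mp
      (le_antisymm (h p) Module.finrank_pos)
    intro w
    obtain ⟨c, hc⟩ := htop w
    exact ⟨c ⊗ₜ 1, by rw [← hc, TensorProduct.smul_tmul', smul_eq_mul, mul_one]; simp [f]⟩
  have : Subsingleton (p.asIdeal.ResidueField ⊗[B] (A ⧸ LinearMap.range f)) := by
    refine subsingleton_of_forall_eq 0 fun w => ?_
    obtain ⟨v, rfl⟩ := LinearMap.lTensor_surjective _ (Submodule.mkQ_surjective (LinearMap.range f)) w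
    exact (hex v).mpr (hsurj v)
  exact not_nontrivial _ hp

end Groth.Agent.S14416
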