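import Groth.Statements.S14417
import Groth.Agent.GeomRedFieldLib.CharZero
import Groth.Agent.CurvOpenLib.Smooth

set_option autoImplicit false
universe u
open CategoryTheory AlgebraicGeometry
open Variety

set_option maxHeartbeats 1600000
set_option linter.style.haveILetI false

namespace Groth.Agent.S14417

/-- Generic smoothness on the source: let π : X → Y be a dominant morphism of finite type between
integral Noetherian schemes, sending the generic point of X to that of Y, such that the function
field K(Y) (equivalently K(X)) has characteristic zero, and let n be the transcendence degree of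
K(X) over K(Y). Then there is a nonempty (equivalently dense) open subscheme U of X on which π
restricts to a smooth morphism U → Y of relative dimension n. -/
theorem result
    (X Y : Scheme.{u}) [IsIntegral X] [IsIntegral Y] [IsNoetherian X] [IsNoetherian Y]
    (π : X ⟶ Y) [LocallyOfFiniteType π] [QuasiCompact π]
    (hdom : π.base (genericPoint X) = genericPoint Y) [CharZero Y.functionField]
    (n : ℕ) (hn : @Algebra.trdeg (Y.presheaf.stalk (π.base (genericPoint X))) X.functionField _ _
      (π.stalkMap (genericPoint X)).hom.toAlgebra = n) :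
    ∃ U : X.Opens, (U : Set X).Nonempty ∧ SmoothOfRelativeDimension n (U.ι ≫ π) := by
  classical
  haveI : LocallyOfFinitePresentation π := inferInstance
  haveI : IsDominant π := ⟨by
    rw [denseRange_iff_closure_range, Set.eq_univ_iff_forall]
    intro y
    have hsub : ({genericPoint Y} : Set Y) ⊆ Set.range π.base := Set.singleton_subset_iff.mpr ⟨genericPoint X, hdom⟩
    refine closure_mono hsub ?_
    show y ∈ closure ({genericPoint Y} : Set Y)
    rw [genericPoint_closure]; trivial⟩
  haveI : PerfectField Y.functionField := PerfectField.ofCharZero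
  have hgen := GeomRedFieldLib.genericPoint_mem_smoothLocus_of_perfect π
  let W : X.Opens := π.smoothLocus
  haveI : Smooth (W.ι ≫ π) := by
    rw [← Scheme.Hom.smoothLocus_eq_top_iff, ← Scheme.Hom.preimage_smoothLocus_eq W.ι π, eq_top_iff]
    exact fun z _ => z.2
  obtain ⟨U, hU, V, hV, hξV, e, hss⟩ := Smooth.exists_isStandardSmooth (W.ι ≫ π) ⟨genericPoint X, hgen⟩
  let V' : X.Opens := W.ι ''ᵁ V
  have hV' : IsAffineOpen V' := hV.image_of_isOpenImmersion W.ι
  have hξ : genericPoint X ∈ V' := ⟨_, hξV, rfl⟩
  have e' : V' ≤ π ⁻¹ᵁ U := by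
    rintro _ ⟨z, hz, rfl⟩
    exact e hz
  have hss' : (π.appLE U V' e').hom.IsStandardSmooth := by
    have heq : (W.ι ≫ π).appLE U V e = π.appLE U V' e' ≫ (W.ι.appIso V).hom := by
      rw [Scheme.Hom.appIso_hom', Scheme.Hom.appLE_comp_appLE]
    have heq' : π.appLE U V' e' = (W.ι ≫ π).appLE U V e ≫ (W.ι.appIso V).inv := by
      rw [heq, Category.assoc, Iso.hom_inv_id, Category.comp_id]
    rw [heq', CommRingCat.hom_comp]
    exact RingHom.isStandardSmooth_respectsIso.1 _ (W.ι.appIso V).symm.commRingCatIsoToRingEquiv hss
  have hss'' := hss'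
  unfold RingHom.IsStandardSmooth at hss''
  letI alg0 := (π.appLE U V' e').hom.toAlgebra
  obtain ⟨ι, σ, hσ, hι, ⟨P⟩⟩ := hss''.out
  haveI := hσ
  haveI := hι
  have h2 : (π.appLE U V' e').hom.IsStandardSmoothOfRelativeDimension P.dimension :=
    Algebra.SubmersivePresentation.isStandardSmoothOfRelativeDimension P rfl
  obtain ⟨g, hg, het⟩ := h2.exists_etale_mvPolynomial
  have hyU : π.base (genericPoint X) ∈ U := e' hξ
  haveI : Nonempty V'.toScheme := ⟨⟨_, hξ⟩⟩
  haveI : Nonempty U.toScheme := ⟨⟨_, hyU⟩⟩
  have hn' : n = P.dimension := by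
    letI : Algebra (Y.presheaf.stalk (π.base (genericPoint X))) X.functionField :=
      (π.stalkMap (genericPoint X)).hom.toAlgebra
    letI : Algebra Γ(Y, U) (Y.presheaf.stalk (π.base (genericPoint X))) :=
      (Y.presheaf.germ U _ hyU).hom.toAlgebra
    letI algAK : Algebra Γ(Y, U) X.functionField :=
      ((algebraMap Γ(X, V') X.functionField).comp (π.appLE U V' e').hom).toAlgebra
    haveI : IsScalarTower Γ(Y, U) (Y.presheaf.stalk (π.base (genericPoint X))) X.functionField := by
      refine IsScalarTower.of_algebraMap_eq fun a => ?_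
      show (X.presheaf.germ V' (genericPoint X) _) ((π.appLE U V' e') a) = _
      refine Eq.trans ?_ (Scheme.Hom.germ_stalkMap_apply π U (genericPoint X) hyU a).symm
      rw [Scheme.Hom.appLE]
      exact TopCat.Presheaf.germ_res_apply X.presheaf (homOfLE e') _ hξ _
    have halgSt : ∀ (y : Y) (hy : y = genericPoint Y) (hyU : y ∈ U),
        @Algebra.IsAlgebraic Γ(Y, U) (Y.presheaf.stalk y) _ _ (Y.presheaf.germ U y hyU).hom.toAlgebra := by
      rintro y rfl hyU
      haveI := functionField_isFractionRing_of_isAffineOpen Y U hU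
      exact IsLocalization.isAlgebraic Y.functionField (nonZeroDivisors Γ(Y, U))
    haveI : Algebra.IsAlgebraic Γ(Y, U) (Y.presheaf.stalk (π.base (genericPoint X))) := halgSt _ hdom hyU
    haveI : IsFractionRing Γ(X, V') X.functionField := functionField_isFractionRing_of_isAffineOpen X V' hV'
    letI := g.toAlgebra
    haveI : Algebra.Etale (MvPolynomial (Fin P.dimension) Γ(Y, U)) Γ(X, V') := het
    haveI : IsScalarTower Γ(Y, U) (MvPolynomial (Fin P.dimension) Γ(Y, U)) Γ(X, V') :=
      IsScalarTower.of_algebraMap_eq fun a => (DFunLike.congr_fun hg a).symm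
    letI algPK : Algebra (MvPolynomial (Fin P.dimension) Γ(Y, U)) X.functionField :=
      ((algebraMap Γ(X, V') X.functionField).comp g).toAlgebra
    haveI : IsScalarTower (MvPolynomial (Fin P.dimension) Γ(Y, U)) Γ(X, V') X.functionField :=
      IsScalarTower.of_algebraMap_eq fun _ => rfl
    haveI : IsScalarTower Γ(Y, U) (MvPolynomial (Fin P.dimension) Γ(Y, U)) X.functionField :=
      IsScalarTower.of_algebraMap_eq fun a =>
        congrArg (algebraMap Γ(X, V') X.functionField) (DFunLike.congr_fun hg a).symm
    have hinjg : Function.Injective g := by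
      refine (injective_iff_map_eq_zero _).mpr fun p hp => ?_
      by_contra hp0
      have h := (Module.Flat.isSMulRegular_of_nonZeroDivisors (M := Γ(X, V'))
        (mem_nonZeroDivisors_of_ne_zero hp0)) (a₁ := 1) (a₂ := 0) (by
          show p • (1 : Γ(X, V')) = p • 0
          rw [smul_zero, Algebra.smul_def, mul_one]
          exact hp)
      exact one_ne_zero h
    haveI : FaithfulSMul (MvPolynomial (Fin P.dimension) Γ(Y, U)) X.functionField :=
      (faithfulSMul_iff_algebraMap_injective _ _).mpr
        ((IsFractionRing.injective Γ(X, V') X.functionField).comp hinjg)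
    haveI : FaithfulSMul (MvPolynomial (Fin P.dimension) Γ(Y, U)) Γ(X, V') :=
      (faithfulSMul_iff_algebraMap_injective _ _).mpr hinjg
    let Q := FractionRing (MvPolynomial (Fin P.dimension) Γ(Y, U))
    letI : Algebra Q X.functionField := FractionRing.liftAlgebra _ _
    haveI : IsScalarTower (MvPolynomial (Fin P.dimension) Γ(Y, U)) Q X.functionField :=
      FractionRing.isScalarTower_liftAlgebra _ _
    haveI : Algebra.FormallyUnramified Γ(X, V') X.functionField :=
      Algebra.FormallyUnramified.of_isLocalization (nonZeroDivisors Γ(X, V'))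
    haveI : Algebra.FormallyUnramified (MvPolynomial (Fin P.dimension) Γ(Y, U)) X.functionField :=
      Algebra.FormallyUnramified.comp _ Γ(X, V') _
    haveI : Algebra.FormallyUnramified Q X.functionField :=
      Algebra.FormallyUnramified.of_restrictScalars (MvPolynomial (Fin P.dimension) Γ(Y, U)) Q _
    haveI : Algebra.EssFiniteType Γ(X, V') X.functionField :=
      Algebra.EssFiniteType.of_isLocalization _ (nonZeroDivisors Γ(X, V'))
    haveI : Algebra.EssFiniteType (MvPolynomial (Fin P.dimension) Γ(Y, U)) X.functionField :=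
      Algebra.EssFiniteType.comp _ Γ(X, V') _
    haveI : Algebra.EssFiniteType Q X.functionField :=
      Algebra.EssFiniteType.of_comp (MvPolynomial (Fin P.dimension) Γ(Y, U)) Q _
    haveI : Algebra.IsSeparable Q X.functionField := Algebra.FormallyUnramified.isSeparable _ _
    haveI : Algebra.IsAlgebraic Q X.functionField := inferInstance
    haveI : Algebra.IsAlgebraic (MvPolynomial (Fin P.dimension) Γ(Y, U)) Q :=
      IsLocalization.isAlgebraic Q (nonZeroDivisors (MvPolynomial (Fin P.dimension) Γ(Y, U)))
    haveI : FaithfulSMul Γ(Y, U) X.functionField :=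
      (faithfulSMul_iff_algebraMap_injective _ _).mpr (by
        rw [IsScalarTower.algebraMap_eq Γ(Y, U) (MvPolynomial (Fin P.dimension) Γ(Y, U)) X.functionField]
        rw [RingHom.coe_comp]
        refine (FaithfulSMul.algebraMap_injective (MvPolynomial (Fin P.dimension) Γ(Y, U)) X.functionField).comp ?_
        rw [MvPolynomial.algebraMap_eq]
        exact MvPolynomial.C_injective _ _)
    haveI : FaithfulSMul Γ(Y, U) (Y.presheaf.stalk (π.base (genericPoint X))) :=
      (faithfulSMul_iff_algebraMap_injective _ _).mpr (fun a b hab =>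
        FaithfulSMul.algebraMap_injective Γ(Y, U) X.functionField (by
          rw [IsScalarTower.algebraMap_apply Γ(Y, U) (Y.presheaf.stalk (π.base (genericPoint X))), hab,
            ← IsScalarTower.algebraMap_apply]))
    haveI : FaithfulSMul (Y.presheaf.stalk (π.base (genericPoint X))) X.functionField := by
      refine (faithfulSMul_iff_algebraMap_injective _ _).mpr ?_
      letI := (GeomRedFieldLib.isField_stalk_generic hdom).toField
      exact (algebraMap (Y.presheaf.stalk (π.base (genericPoint X))) X.functionField).injective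
    have hPQ : Algebra.trdeg (MvPolynomial (Fin P.dimension) Γ(Y, U)) X.functionField = 0 := by
      rw [← trdeg_add_eq (MvPolynomial (Fin P.dimension) Γ(Y, U)) Q (A := X.functionField),
        trdeg_eq_zero, trdeg_eq_zero, add_zero]
    have h1 : Algebra.trdeg Γ(Y, U) X.functionField = P.dimension := by
      rw [← trdeg_add_eq Γ(Y, U) (MvPolynomial (Fin P.dimension) Γ(Y, U)) (A := X.functionField), hPQ,
        MvPolynomial.trdeg_of_isDomain]
      simp
    have h2 : Algebra.trdeg Γ(Y, U) X.functionField = n := by
      rw [← trdeg_add_eq Γ(Y, U) (Y.presheaf.stalk (π.base (genericPoint X))) (A := X.functionField),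
        trdeg_eq_zero, zero_add]
      exact hn
    exact_mod_cast h2.symm.trans h1
  subst hn'
  refine ⟨V', ⟨_, hξ⟩, (CurvOpenLib.smoothOfRelativeDimension_iff_forall _ _).mpr ⟨?_, fun z => ?_⟩⟩
  · have hVW : V' ≤ W := by
      rintro _ ⟨z, -, rfl⟩
      exact z.2
    rw [← Scheme.Hom.smoothLocus_eq_top_iff, ← Scheme.Hom.preimage_smoothLocus_eq V'.ι π, eq_top_iff]
    exact fun z _ => hVW z.2
  · rw [FibDimLib.fibreDimAt_comp_isOpenImmersion]
    exact FibDimLib.fibreDimAt_chart π hU hV' e' g hg het _ z.2

end Groth.Agent.S14417
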