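import Groth.Statements.S14418
import Mathlib.RingTheory.Ideal.AssociatedPrime.Finiteness
import Mathlib.RingTheory.Nakayama
import Mathlib.Algebra.Homology.ShortComplex.ModuleCat
import Mathlib.Algebra.Category.ModuleCat.Abelian
import Mathlib.RingTheory.LocalRing.MaximalIdeal.Basic
import Mathlib.RingTheory.Noetherian.Basic
import Mathlib.CategoryTheory.Preadditive.AdditiveFunctor
-- import your own Groth.Agent.* helpers here

set_option autoImplicit false
universe u
open CategoryTheory
open CAlg

namespace Groth.Agent.S14418

/-- Let B → A be a local homomorphism of Noetherian local rings, n the maximal ideal of B, and T an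
additive functor from B-modules to A-modules which is B-linear (T applied to multiplication by b ∈ B
is multiplication by the image of b in A), carries finitely generated B-modules to finitely
generated A-modules, and is half-exact on finitely generated modules (every short exact sequence of
finitely generated B-modules goes to a sequence exact at its middle term). If T(B/n) = 0 then T(N) =
0 for every finitely generated B-module N. (The published statement takes T defined on finitely
generated modules only; here T is defined on all B-modules while every hypothesis and the conclusion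
concern finitely generated modules.) -/
theorem result {B A : Type u} [CommRing B] [CommRing A]
    [IsNoetherianRing B] [IsLocalRing B] [IsNoetherianRing A] [IsLocalRing A] [Algebra B A]
    [IsLocalHom (algebraMap B A)] (T : ModuleCat.{u} B ⥤ ModuleCat.{u} A) [T.Additive]
    (hlin : ∀ (N : ModuleCat.{u} B) (b : B),
      T.map (ModuleCat.ofHom (b • (LinearMap.id : N →ₗ[B] N))) =
        ModuleCat.ofHom (algebraMap B A b • (LinearMap.id : T.obj N →ₗ[A] T.obj N)))
    (hfin : ∀ N : ModuleCat.{u} B, Module.Finite B N → Module.Finite A (T.obj N))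
    (hex : ∀ S : ShortComplex (ModuleCat.{u} B), S.ShortExact → Module.Finite B S.X₁ →
      Module.Finite B S.X₂ → Module.Finite B S.X₃ → (S.map T).Exact)
    (h0 : Limits.IsZero (T.obj (ModuleCat.of B (B ⧸ IsLocalRing.maximalIdeal B))))
    (N : ModuleCat.{u} B) [Module.Finite B N] : Limits.IsZero (T.obj N) := by
  suffices H : ∀ (J : Ideal B) (M : ModuleCat.{u} B), Module.Finite B M → (∀ j ∈ J, ∀ x : M, j • x = 0) →
      Limits.IsZero (T.obj M) from
    H ⊥ N inferInstance (fun j hj x => by rw [(Submodule.mem_bot B).1 hj, zero_smul])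
  intro J
  induction J using IsNoetherian.induction with
  | _ J ihJ =>
    intro M hM hJ
    have hiso : ∀ {X Y : ModuleCat.{u} B} (_ : X ≅ Y), Limits.IsZero (T.obj Y) → Limits.IsZero (T.obj X) :=
      fun e h => h.of_iso (T.mapIso e)
    suffices key : (∀ j ∈ J, ∀ x : M, j • x = 0) → Limits.IsZero (T.obj (ModuleCat.of B M)) from key hJ
    refine IsNoetherianRing.induction_on_isQuotientEquivQuotientPrime (A := B) hM
      (motive := fun N _ _ _ => (∀ j ∈ J, ∀ x : N, j • x = 0) → Limits.IsZero (T.obj (ModuleCat.of B N))) ?_ ?_ ?_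
    · intro N _ _ _ _ _
      exact T.map_isZero (ModuleCat.isZero_of_subsingleton _)
    · intro N _ _ _ p e hN
      refine hiso e.toModuleIso ?_
      have hp : J ≤ p.asIdeal := fun j hj => by
        have h := congrArg e (hN j hj (e.symm (Ideal.Quotient.mk p.asIdeal 1)))
        rw [map_smul, e.apply_symm_apply, map_zero, Algebra.smul_def, map_one, mul_one] at h
        exact Ideal.Quotient.eq_zero_iff_mem.1 h
      rcases hp.lt_or_eq with hlt | heq
      · refine ihJ _ hlt (ModuleCat.of B (B ⧸ p.asIdeal)) (inferInstanceAs (Module.Finite B (B ⧸ p.asIdeal))) fun j hj x => ?_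
        obtain ⟨b, rfl⟩ := Ideal.Quotient.mk_surjective x
        show Ideal.Quotient.mk p.asIdeal (j • b) = 0
        exact Ideal.Quotient.eq_zero_iff_mem.2 (p.asIdeal.mul_mem_right _ hj)
      by_cases hmax : p.asIdeal = IsLocalRing.maximalIdeal B
      · rw [hmax]; exact h0
      have hle : p.asIdeal ≤ IsLocalRing.maximalIdeal B := IsLocalRing.le_maximalIdeal p.isPrime.ne_top
      obtain ⟨x, hx, hxp⟩ := SetLike.exists_of_lt (lt_of_le_of_ne hle hmax)
      let mx : (B ⧸ p.asIdeal) →ₗ[B] (B ⧸ p.asIdeal) := x • LinearMap.id
      let Q := (B ⧸ p.asIdeal) ⧸ LinearMap.range mx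
      let S : ShortComplex (ModuleCat.{u} B) := ShortComplex.mk (ModuleCat.ofHom mx) (ModuleCat.ofHom (LinearMap.range mx).mkQ)
        (ModuleCat.hom_ext (LinearMap.exact_map_mkQ_range mx).linearMap_comp_eq_zero)
      have hinj : Function.Injective mx := (injective_iff_map_eq_zero mx).2 fun y hy => by
        obtain ⟨b, rfl⟩ := Ideal.Quotient.mk_surjective y
        have : Ideal.Quotient.mk p.asIdeal (x * b) = 0 := hy
        exact Ideal.Quotient.eq_zero_iff_mem.2 ((p.isPrime.mem_or_mem (Ideal.Quotient.eq_zero_iff_mem.1 this)).resolve_left hxp)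
      have hS : S.ShortExact :=
        { exact := (ShortComplex.ShortExact.moduleCat_exact_iff_function_exact _).2 (LinearMap.exact_map_mkQ_range mx)
          mono_f := (ModuleCat.mono_iff_injective _).2 hinj
          epi_g := (ModuleCat.epi_iff_surjective _).2 (Submodule.mkQ_surjective _) }
      have hfp : Module.Finite B (B ⧸ p.asIdeal) := inferInstance
      have hzero : Limits.IsZero (T.obj S.X₃) := by
        refine ihJ (J ⊔ Ideal.span {x}) (lt_of_le_of_ne le_sup_left fun h => hxp (heq ▸ h ▸ Ideal.mem_sup_right (Ideal.mem_span_singleton_self x)))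
          _ (inferInstanceAs (Module.Finite B Q)) fun j hj y => ?_
        obtain ⟨y, rfl⟩ := Submodule.mkQ_surjective (LinearMap.range mx) y
        obtain ⟨b, rfl⟩ := Ideal.Quotient.mk_surjective y
        obtain ⟨a, ha, c, hc, rfl⟩ := Submodule.mem_sup.1 hj
        obtain ⟨d, rfl⟩ := Ideal.mem_span_singleton'.1 hc
        show Submodule.Quotient.mk ((a + d * x) • Ideal.Quotient.mk p.asIdeal b) = 0
        rw [Submodule.Quotient.mk_eq_zero]
        refine ⟨d • Ideal.Quotient.mk p.asIdeal b, ?_⟩
        show x • d • Ideal.Quotient.mk p.asIdeal b = _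
        rw [add_smul, smul_smul, mul_comm x d,
          show a • Ideal.Quotient.mk p.asIdeal b = 0 from Ideal.Quotient.eq_zero_iff_mem.2 (p.asIdeal.mul_mem_right _ (hp ha)), zero_add]
      have hT := hex S hS hfp hfp (inferInstanceAs (Module.Finite B Q))
      haveI hepi : Epi (S.map T).f := hT.epi_f (hzero.eq_of_tgt _ _)
      have hsurj := (ModuleCat.epi_iff_surjective _).1 hepi
      haveI hTfin : Module.Finite A (T.obj (ModuleCat.of B (B ⧸ p.asIdeal))) := hfin _ hfp
      have hsub : Subsingleton (T.obj (ModuleCat.of B (B ⧸ p.asIdeal))) := by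
        have hmem : algebraMap B A x ∈ IsLocalRing.maximalIdeal A :=
          (IsLocalRing.mem_maximalIdeal _).2 fun hu => hx (isUnit_of_map_unit (algebraMap B A) x hu)
        have h' : (⊤ : Submodule A (T.obj (ModuleCat.of B (B ⧸ p.asIdeal)))) ≤ IsLocalRing.maximalIdeal A • ⊤ := fun y _ => by
          obtain ⟨z, rfl⟩ := hsurj y
          rw [show (S.map T).f = T.map (ModuleCat.ofHom mx) from rfl, hlin (ModuleCat.of B (B ⧸ p.asIdeal)) x]
          exact Submodule.smul_mem_smul hmem Submodule.mem_top
        have := Submodule.eq_bot_of_le_smul_of_le_jacobson_bot _ _ Module.Finite.fg_top h'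
          (IsLocalRing.maximalIdeal_le_jacobson _)
        exact Submodule.subsingleton_iff A |>.1 (subsingleton_of_bot_eq_top this.symm)
      exact ModuleCat.isZero_of_subsingleton _
    · intro N₁ _ _ _ N₂ _ _ _ N₃ _ _ _ f g hf hg he ih₁ ih₃ hN
      let S : ShortComplex (ModuleCat.{u} B) := ShortComplex.mk (ModuleCat.ofHom f) (ModuleCat.ofHom g) (ModuleCat.hom_ext he.linearMap_comp_eq_zero)
      have hS : S.ShortExact :=
        { exact := (ShortComplex.ShortExact.moduleCat_exact_iff_function_exact _).2 he
          mono_f := (ModuleCat.mono_iff_injective _).2 hf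
          epi_g := (ModuleCat.epi_iff_surjective _).2 hg }
      have hT := hex S hS (inferInstanceAs (Module.Finite B N₁)) (inferInstanceAs (Module.Finite B N₂)) (inferInstanceAs (Module.Finite B N₃))
      have h1 := ih₁ fun j hj x => hf (by rw [map_smul, hN j hj, map_zero])
      have h3 := ih₃ fun j hj x => by obtain ⟨y, rfl⟩ := hg x; rw [← map_smul, hN j hj, map_zero]
      exact hT.isZero_X₂ (h1.eq_of_src _ _) (h3.eq_of_tgt _ _)

end Groth.Agent.S14418
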