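import Groth.Statements.S14420
import Groth.Agent.CommAlgDim.Depth
import Mathlib.Algebra.Category.ModuleCat.Ext.Finite

set_option autoImplicit false
universe u
open CategoryTheory
open LocCoh

namespace Groth.Agent.S14420

open IsLocalRing RingTheory.Sequence Abelian Pointwise

variable {A : Type u} [CommRing A] [IsLocalRing A] [IsNoetherianRing A]

omit [IsLocalRing A] [IsNoetherianRing A] in
theorem mk₀_smul_id_comp (x : A) {X Y : ModuleCat.{u} A} {i : ℕ} (y : Ext X Y i) :
    (Ext.mk₀ (x • 𝟙 X)).comp y (zero_add i) = x • y := by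
  rw [Ext.mk₀_smul, Ext.smul_comp, Ext.mk₀_id_comp]

theorem ext_vanish (M : Type u) [AddCommGroup M] [Module A M] [Module.Finite A M]
    [Nontrivial M] {d : ℕ} (hd : CommAlgDim.HasSeqIn (maximalIdeal A) M d) :
    ∀ (r : ℕ) (N : Type u) [AddCommGroup N] [Module A N] [Module.Finite A N],
      Module.supportDim A N ≤ r → ∀ i, i + r < d →
      Subsingleton (Abelian.Ext (ModuleCat.of A N) (ModuleCat.of A M) i) := by
  intro r
  induction r with
  | zero =>
    intro N _ _ _ hN i hi
    obtain ⟨rs, rfl, hm, hr⟩ := hd
    refine ModuleCat.subsingleton_ext_of_exists_isRegular (maximalIdeal A) (ModuleCat.of A N) ?_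
      (ModuleCat.of A M) (lt_top_iff_ne_top.2 (Ne.symm
        (Submodule.top_ne_ideal_smul_of_le_jacobson_annihilator (maximalIdeal_le_jacobson _))))
      rs hm (IsRegular.of_isWeaklyRegular_of_mem_maximalIdeal M hm hr) i (by omega)
    intro q hq
    have hmax : q.asIdeal.IsMaximal := by
      by_contra hq'
      have hlt : q < IsLocalRing.closedPoint A := lt_of_le_of_ne (le_maximalIdeal q.2.ne_top :)
        fun h => hq' (h ▸ maximalIdeal.isMaximal A)
      have hcm : IsLocalRing.closedPoint A ∈ Module.support A N :=
        Module.mem_support_mono hlt.le hq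
      let l : LTSeries (Module.support A N) :=
        (RelSeries.singleton _ ⟨q, hq⟩).snoc ⟨_, hcm⟩ (by simpa using hlt)
      have := (Order.LTSeries.length_le_krullDim l).trans hN
      norm_num [l] at this
    simp [IsLocalRing.eq_maximalIdeal hmax]
  | succ r ih =>
    intro N _ _ _ hN
    revert hN
    induction ‹Module.Finite A N› using IsNoetherianRing.induction_on_isQuotientEquivQuotientPrime A with
    | subsingleton N =>
      intro _ i _
      have : Limits.IsZero (ModuleCat.of A N) := ModuleCat.isZero_of_subsingleton _
      exact ⟨fun a b => by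
        rw [← Ext.mk₀_id_comp a, ← Ext.mk₀_id_comp b, this.eq_of_src (𝟙 (ModuleCat.of A N)) 0, Ext.mk₀_zero, Ext.zero_comp, Ext.zero_comp]⟩
    | quotient N p e =>
      intro hN i hi
      by_cases hr' : Module.supportDim A N ≤ r
      · exact ih N hr' i (by omega)
      have hpm : p.asIdeal ≠ maximalIdeal A := fun hpm => hr' (by
        rw [Module.supportDim_eq_of_equiv e, Module.supportDim_quotient_eq_ringKrullDim, hpm]
        show ringKrullDim (ResidueField A) ≤ _
        rw [ringKrullDim_eq_zero_of_field]
        exact_mod_cast Nat.zero_le r)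
      obtain ⟨x, hxm, hxp⟩ := SetLike.exists_of_lt
        (lt_of_le_of_ne (le_maximalIdeal p.2.ne_top) hpm)
      have hx : IsSMulRegular N x := by
        refine (e.isSMulRegular_congr x).2 (isSMulRegular_iff_right_eq_zero_of_smul.2 fun z hz => ?_)
        obtain ⟨a, rfl⟩ := Ideal.Quotient.mk_surjective z
        rw [Algebra.smul_def, Ideal.Quotient.algebraMap_eq, ← map_mul,
          Ideal.Quotient.eq_zero_iff_mem] at hz
        exact Ideal.Quotient.eq_zero_iff_mem.2 ((p.2.mem_or_mem hz).resolve_left hxp)
      have hdim : Module.supportDim A (QuotSMulTop x N) ≤ r := by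
        have h1 := Module.supportDim_quotSMulTop_succ_eq_supportDim_mem_jacobson hx
          (maximalIdeal_le_jacobson (Module.annihilator A N) hxm)
        rw [← h1, Nat.cast_succ] at hN
        exact ENat.WithBot.add_le_add_one_right_iff.1 hN
      have hseq := IsSMulRegular.smulShortComplex_shortExact (M := ModuleCat.of A N) hx
      have hsub : Subsingleton (Ext (ModuleCat.of A (QuotSMulTop x N)) (ModuleCat.of A M) (i + 1)) :=
        ih _ hdim (i + 1) (by omega)
      refine (Submodule.subsingleton_iff A).1 (subsingleton_of_bot_eq_top (Eq.symm ?_))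
      refine Submodule.eq_bot_of_le_smul_of_le_jacobson_bot (Ideal.span {x}) ⊤ Module.Finite.fg_top ?_
        ((Ideal.span_singleton_le_iff_mem _).2 ((jacobson_eq_maximalIdeal (⊥ : Ideal A) bot_ne_top).ge hxm))
      intro z _
      obtain ⟨y, hy⟩ := Ext.contravariant_sequence_exact₁ hseq (ModuleCat.of A M) z
        (show 1 + i = i + 1 by omega) (Subsingleton.elim (α := Ext (ModuleCat.of A (QuotSMulTop x N)) (ModuleCat.of A M) (i + 1)) _ _)
      rw [← hy]
      have : (Ext.mk₀ (ModuleCat.smulShortComplex (ModuleCat.of A N) x).f).comp y (zero_add i) = x • y := by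
        exact mk₀_smul_id_comp x (X := ModuleCat.of A N) y
      rw [this]
      exact Submodule.smul_mem_smul (Ideal.mem_span_singleton_self x) trivial
    | exact N₁ N₂ N₃ f g hf hg hfg h1 h3 =>
      intro hN i hi
      have e1 := h1 ((Module.supportDim_le_of_injective f hf).trans hN) i hi
      have e3 := h3 ((Module.supportDim_le_of_surjective g hg).trans hN) i hi
      have hS : (ModuleCat.shortComplexOfCompEqZero f g hfg.linearMap_comp_eq_zero).ShortExact :=
        { exact := ModuleCat.shortComplex_exact _ hfg
          mono_f := (ModuleCat.mono_iff_injective _).2 hf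
          epi_g := (ModuleCat.epi_iff_surjective _).2 hg }
      refine ⟨fun a b => sub_eq_zero.1 ?_⟩
      obtain ⟨c, hc⟩ := Ext.contravariant_sequence_exact₂ hS (ModuleCat.of A M) (a - b)
        (Subsingleton.elim (α := Ext (ModuleCat.of A N₁) (ModuleCat.of A M) i) _ _)
      rw [← hc, Subsingleton.elim (α := Ext (ModuleCat.of A N₃) (ModuleCat.of A M) i) c 0]
      simp only [Ext.comp_zero]

/-- Let A be a Noetherian local ring and M, N nonzero finitely generated A-modules. Then Ext^i_A(N, M) =
0 for all i < depth M − dim Supp N. Here depth M = d and the Krull dimension of the support of N = r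
are given as natural numbers and the conclusion is stated for every i with i + r < d. -/
theorem result (A : Type u) [CommRing A] [IsNoetherianRing A]
    [IsLocalRing A] (M N : Type u) [AddCommGroup M] [Module A M] [AddCommGroup N] [Module A N]
    [Module.Finite A M] [Module.Finite A N] [Nontrivial M] [Nontrivial N]
    (d r i : ℕ) (hd : LocCoh.depth A M = d) (hr : Module.supportDim A N = r) (hi : i + r < d) :
    Subsingleton (Abelian.Ext (ModuleCat.of A N) (ModuleCat.of A M) i) := by
  exact ext_vanish M ((CommAlgDim.le_depth_iff d).1 hd.ge) r N (by rw [hr]) i hi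

end Groth.Agent.S14420
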