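import Groth.Statements.S14421
-- import your own Groth.Agent.* helpers here

set_option autoImplicit false
set_option linter.style.haveILetI false
universe u v
open CategoryTheory
open HomAlg

namespace Groth.Agent.S14421

/-- Let φ : K → J be a morphism of cochain complexes of modules over a ring which is surjective in
degree p − 1. Then the map induced on cohomology in degree p is surjective if and only if the map
induced on cocycles in degree p is surjective. (Stated for cochain complexes indexed by the
integers; the published statement is for three-term complexes in degrees p − 1, p, p + 1, which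
embed as such complexes.) -/
theorem result {R : Type u} [Ring R]
    (K J : CochainComplex (ModuleCat.{v} R) ℤ) (φ : K ⟶ J) (p : ℤ) [Epi (φ.f (p - 1))] :
    Epi (HomologicalComplex.homologyMap φ p) ↔ Epi (HomologicalComplex.cyclesMap φ p) := by
  constructor
  · intro hH
    refine Preadditive.epi_of_cancel_zero _ fun {T} h hh => ?_
    have h0 : J.toCycles (p - 1) p ≫ h = 0 := by
      rw [← cancel_epi (φ.f (p - 1)), Limits.comp_zero, ← Category.assoc,
        show φ.f (p - 1) ≫ J.toCycles (p - 1) p = K.toCycles (p - 1) p ≫ HomologicalComplex.cyclesMap φ p by
            rw [← cancel_mono (J.iCycles p)]; simp,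
        Category.assoc, hh, Limits.comp_zero]
    obtain ⟨h', hh'⟩ := Limits.CokernelCofork.IsColimit.desc'
      (J.homologyIsCokernel (p - 1) p (by simp)) h h0
    dsimp at hh'
    have h1 : h' = 0 := by
      rw [← cancel_epi (HomologicalComplex.homologyMap φ p), Limits.comp_zero,
        ← cancel_epi (K.homologyπ p), Limits.comp_zero, HomologicalComplex.homologyπ_naturality_assoc,
        hh', hh]
    rw [← hh', h1, Limits.comp_zero]
  · intro hZ
    haveI : Epi (HomologicalComplex.homologyπ K p ≫ HomologicalComplex.homologyMap φ p) := by
      rw [HomologicalComplex.homologyπ_naturality]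
      infer_instance
    exact epi_of_epi (HomologicalComplex.homologyπ K p) _

end Groth.Agent.S14421
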