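import Groth.Statements.S14423
import Groth.Agent.GrFreeLib.Basic
import Groth.Agent.TorShiftLib.Basic
import Mathlib.RingTheory.MvPolynomial.Ideal
import Mathlib.LinearAlgebra.TensorProduct.Quotient

set_option autoImplicit false
universe u
open CategoryTheory
open CAlg

namespace Groth.Agent.S14423

/-- Graded freeness criterion: let k be a field, S = k[x_0, …, x_n] with its standard grading by degree,
and M a finitely generated graded S-module. If Tor_1^S(M, k) = 0, where k = S/S_+ (S modulo the
ideal of polynomials with zero constant term) and Tor_1^S(M, ·) is the first left derived functor of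
M ⊗_S ·, then M is free with a basis of homogeneous elements, i.e. M is isomorphic as a graded
module to a finite direct sum of shifted copies S(−d_i). (Here the module is graded in non-negative
degrees; the published statement allows any integer degrees.) -/
theorem result (k : Type u) [Field k] (n : ℕ)
    (M : Type u) [AddCommGroup M] [Module (MvPolynomial (Fin (n + 1)) k) M]
    [Module.Finite (MvPolynomial (Fin (n + 1)) k) M]
    (ℳ : ℕ → AddSubgroup M)
    [SetLike.GradedSMul (MvPolynomial.homogeneousSubmodule (Fin (n + 1)) k) ℳ]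
    [DirectSum.Decomposition ℳ]
    (h : Limits.IsZero (((Tor (ModuleCat.{u} (MvPolynomial (Fin (n + 1)) k)) 1).obj
      (ModuleCat.of (MvPolynomial (Fin (n + 1)) k) M)).obj
      (ModuleCat.of (MvPolynomial (Fin (n + 1)) k)
        (MvPolynomial (Fin (n + 1)) k ⧸
          RingHom.ker (MvPolynomial.constantCoeff : MvPolynomial (Fin (n + 1)) k →+* k))))) :
    ∃ (ι : Type u) (b : Module.Basis ι (MvPolynomial (Fin (n + 1)) k) M),
      ∀ i, SetLike.IsHomogeneousElem ℳ (b i) := by
  classical
  letI := MvPolynomial.gradedAlgebra (σ := Fin (n + 1)) (R := k)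
  let w : ℕ →+ ℤ := Nat.castAddMonoidHom ℤ
  have hnn : ∀ e, w e < 0 → ∀ a ∈ MvPolynomial.homogeneousSubmodule (Fin (n + 1)) k e, a = 0 :=
    fun e he => absurd he (not_lt.2 (Int.natCast_nonneg e))
  have hJ : ∀ a ∈ RingHom.ker (MvPolynomial.constantCoeff : MvPolynomial (Fin (n + 1)) k →+* k), ∀ e, w e ≤ 0 →
      (DirectSum.decompose (MvPolynomial.homogeneousSubmodule (Fin (n + 1)) k) a e : MvPolynomial (Fin (n + 1)) k) = 0 := by
    intro a ha e he
    obtain rfl : e = 0 := Int.natCast_eq_zero.1 (le_antisymm he (Int.natCast_nonneg e))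
    rw [← DirectSum.Decomposition.decompose'_eq, MvPolynomial.decomposition.decompose'_apply a 0, MvPolynomial.homogeneousComponent_zero,
      ← MvPolynomial.constantCoeff_eq, RingHom.mem_ker.1 ha, map_zero]
  set J := RingHom.ker (MvPolynomial.constantCoeff : MvPolynomial (Fin (n + 1)) k →+* k) with hJdef
  haveI : J.IsPrime := RingHom.ker_isPrime _
  have hdec : ∀ u, u - MvPolynomial.C (MvPolynomial.constantCoeff u) ∈ J := fun u => by simp [hJdef]
  have hC : ∀ c : k, (MvPolynomial.C c : MvPolynomial (Fin (n + 1)) k) ∈ MvPolynomial.homogeneousSubmodule (Fin (n + 1)) k 0 :=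
    fun c => MvPolynomial.isHomogeneous_C _ c
  obtain ⟨B, hB⟩ := GrFreeLib.exists_bound (MvPolynomial.homogeneousSubmodule (Fin (n + 1)) k) ℳ w hnn
  obtain ⟨m, f, hf, hli, d, hd, hgen⟩ := GrFreeLib.exists_fibre_basis ℳ J
  have hd0 : MvPolynomial.constantCoeff d ≠ 0 := fun h0 => hd (RingHom.mem_ker.2 h0)
  have hspan : ∀ x : M, ∃ j : ℕ, (MvPolynomial.C (MvPolynomial.constantCoeff d) : MvPolynomial (Fin (n + 1)) k) ^ j • x ∈ Submodule.span (MvPolynomial (Fin (n + 1)) k) (Set.range f) := by
    refine GrFreeLib.exists_pow_smul_mem _ ℳ w J hJ B hB _ (hC _) _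
      (GrFreeLib.decompose_mem_span (MvPolynomial.homogeneousSubmodule (Fin (n + 1)) k) ℳ f hf) fun x => ?_
    rw [show MvPolynomial.C (MvPolynomial.constantCoeff d) • x =
      (MvPolynomial.C (MvPolynomial.constantCoeff d) - d) • x + d • x by rw [sub_smul, sub_add_cancel]]
    exact Submodule.add_mem_sup (Submodule.smul_mem_smul (by simpa using J.neg_mem (hdec d)) Submodule.mem_top) (hgen x)
  have htop : ⊤ ≤ Submodule.span (MvPolynomial (Fin (n + 1)) k) (Set.range f) := fun x _ => by
    obtain ⟨j, hj⟩ := hspan x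
    exact (Submodule.smul_mem_iff_of_isUnit _ (((isUnit_iff_ne_zero.2 hd0).map MvPolynomial.C).pow j)).1 hj
  let φ : (Fin m → MvPolynomial (Fin (n + 1)) k) →ₗ[MvPolynomial (Fin (n + 1)) k] M := Fintype.linearCombination _ f
  have hsurj : Function.Surjective φ := by
    rw [← LinearMap.range_eq_top, Fintype.range_linearCombination]
    exact eq_top_iff.2 htop
  obtain ⟨e⟩ := TorShiftLib.nonempty_shift_one (LinearMap.ker φ).subtype φ (Submodule.subtype_injective _) hsurj
    (LinearMap.exact_subtype_ker_map φ) (MvPolynomial (Fin (n + 1)) k ⧸ J)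
  have hinj : Function.Injective ((LinearMap.ker φ).subtype.rTensor (MvPolynomial (Fin (n + 1)) k ⧸ J)) := by
    haveI := ModuleCat.subsingleton_of_isZero h
    exact (injective_iff_map_eq_zero _).2 fun x hx =>
      congrArg Subtype.val ((@Subsingleton.elim _ e.symm.toEquiv.subsingleton ⟨x, LinearMap.mem_ker.2 hx⟩ 0))
  have hNle : LinearMap.ker φ ≤ J • LinearMap.ker φ := by
    intro x hx
    have h1 : (LinearMap.ker φ).subtype.rTensor (MvPolynomial (Fin (n + 1)) k ⧸ J)
        ((⟨x, hx⟩ : LinearMap.ker φ) ⊗ₜ[MvPolynomial (Fin (n + 1)) k] (1 : MvPolynomial (Fin (n + 1)) k ⧸ J)) = 0 := by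
      rw [LinearMap.rTensor_tmul]
      apply (TensorProduct.tensorQuotEquivQuotSMul (Fin m → MvPolynomial (Fin (n + 1)) k) J).injective
      rw [map_zero, ← map_one (Ideal.Quotient.mk J), TensorProduct.tensorQuotEquivQuotSMul_tmul_mk, one_smul,
        Submodule.Quotient.mk_eq_zero, Submodule.subtype_apply]
      have hxi : ∀ i, x i ∈ J := GrFreeLib.mem_of_sum_eq_zero J hli ((Fintype.linearCombination_apply _ f x).symm.trans hx)
      show x ∈ J • (⊤ : Submodule _ (Fin m → MvPolynomial (Fin (n + 1)) k))
      rw [← Finset.univ_sum_single x]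
      refine Submodule.sum_mem _ fun i _ => ?_
      rw [show Pi.single i (x i) = x i • (Pi.single i (1 : MvPolynomial (Fin (n + 1)) k) : Fin m → _) by
        rw [← Pi.single_smul', smul_eq_mul, mul_one]]
      exact Submodule.smul_mem_smul (hxi i) Submodule.mem_top
    have h2 := congrArg (TensorProduct.tensorQuotEquivQuotSMul (LinearMap.ker φ) J)
      ((injective_iff_map_eq_zero _).1 hinj _ h1)
    rw [map_zero, ← map_one (Ideal.Quotient.mk J), TensorProduct.tensorQuotEquivQuotSMul_tmul_mk, one_smul,
      Submodule.Quotient.mk_eq_zero] at h2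
    have h3 := Submodule.mem_map_of_mem (f := (LinearMap.ker φ).subtype) h2
    rwa [Submodule.map_smul'', Submodule.map_top, Submodule.range_subtype] at h3
  obtain ⟨r, hrJ, hr⟩ := Submodule.exists_mem_and_smul_eq_self_of_fg_of_le_smul J _ (IsNoetherian.noetherian _) hNle
  have hind : LinearIndependent (MvPolynomial (Fin (n + 1)) k) f := by
    rw [Fintype.linearIndependent_iff]
    intro c hc i
    have hrc := congrFun (hr c ((Fintype.linearCombination_apply _ f c).trans hc)) i
    obtain ⟨j, hj⟩ := GrFreeLib.exists_pow_smul_eq_zero (MvPolynomial.homogeneousSubmodule (Fin (n + 1)) k)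
      (MvPolynomial.homogeneousSubmodule (Fin (n + 1)) k) w J hJ 0 hnn 1 SetLike.GradedOne.one_mem r hrJ (c i)
      (by rw [one_smul]; exact hrc.symm)
    rwa [one_pow, one_smul] at hj
  exact ⟨ULift.{u} (Fin m), (Module.Basis.mk hind htop).reindex Equiv.ulift.symm, fun i => by simpa using hf i.down⟩

end Groth.Agent.S14423
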