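import Groth.Statements.S14426
import Groth.Agent.KoszLib.Top

set_option autoImplicit false
universe u
open Koszul3

namespace Groth.Agent.S14426

open CategoryTheory CategoryTheory.Limits in
/-- Let (R, m) be a Noetherian local ring, M a nonzero finitely generated R-module and x_1, …, x_n
elements of m generating the ideal a. Then depth(a, M) ≤ n; the Koszul cohomology H^p(x; M) vanishes
for every p < depth(a, M); and H^r(x; M) is nonzero for r = depth(a, M). (Cohomological indexing
with H^n(x; M) = M/(x)M; in homological indexing this reads H_i = 0 for i > n − r and H_{n−r} ≠ 0.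
Koszul complex realised by iterated mapping cones, as in the prelude.) -/
theorem result {R : Type u} [CommRing R] [IsNoetherianRing R] [IsLocalRing R]
    (M : Type u) [AddCommGroup M] [Module R M] [Module.Finite R M] [Nontrivial M]
    (xs : List R) (hxs : ∀ x ∈ xs, x ∈ IsLocalRing.maximalIdeal R) :
    LocCoh.idealDepth (Ideal.span {x | x ∈ xs}) M ≤ xs.length ∧
      (∀ p : ℕ, (p : ℕ∞) < LocCoh.idealDepth (Ideal.span {x | x ∈ xs}) M → IsZero (CohIII.koszulH xs (ModuleCat.of R M) p)) ∧
      (∀ r : ℕ, LocCoh.idealDepth (Ideal.span {x | x ∈ xs}) M = r → ¬ IsZero (CohIII.koszulH xs (ModuleCat.of R M) r)) := by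
  open CommAlgDim in
  classical
  have hset : Set.range xs.get = {x | x ∈ xs} := by
    ext a
    exact List.mem_iff_get.symm
  have hI : Ideal.span (Set.range xs.get) ≤ IsLocalRing.maximalIdeal R := by
    rw [hset, Ideal.span_le]
    exact hxs
  have htop : ¬ KoszLib.Van M xs.get xs.length := fun hv => by
    have hz := (KoszLib.isZero_koszulH_iff (ModuleCat.of R M) xs xs.length).mpr hv
    obtain ⟨e⟩ := KoszLib.nonempty_koszulH_top (ModuleCat.of R M) xs
    have := ModuleCat.subsingleton_of_isZero hz
    have h2 := e.symm.toEquiv.subsingleton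
    rw [Submodule.Quotient.subsingleton_iff] at h2
    exact Submodule.top_ne_ideal_smul_of_le_jacobson_annihilator
      ((Ideal.span_le.mpr fun a ha => hxs a ha).trans (IsLocalRing.maximalIdeal_le_jacobson _)) h2.symm
  have hle : LocCoh.idealDepth (Ideal.span {x | x ∈ xs}) M ≤ xs.length := by
    refine ENat.forall_natCast_le_iff_le.mp fun m hm => ?_
    rw [Nat.cast_le]
    by_contra hc
    obtain ⟨rs, hl, hmem, hr⟩ := (le_idealDepth_iff _ m).mp hm
    refine htop (KoszLib.van_of_isWeaklyRegular xs.get rs M hr (fun a ha => ?_) _ (by omega))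
    rw [hset]
    exact hmem a ha
  refine ⟨hle, fun p hp => ?_, fun r hr hz => ?_⟩
  · obtain ⟨rs, hl, hmem, hr⟩ := (le_idealDepth_iff _ (p + 1)).mp
      (by exact_mod_cast ENat.add_one_le_iff (ENat.coe_ne_top p) |>.mpr hp)
    rw [KoszLib.isZero_koszulH_iff]
    refine KoszLib.van_of_isWeaklyRegular xs.get rs M hr (fun a ha => ?_) _ (by omega)
    rw [hset]
    exact hmem a ha
  · refine KoszLib.not_van_of_depth_eq xs.get hI r M (fun h => ?_) ?_
      ((KoszLib.isZero_koszulH_iff (ModuleCat.of R M) xs r).mp hz)
    · rw [hset] at h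
      have := (le_idealDepth_iff _ (r + 1)).mpr h
      rw [hr] at this
      exact absurd (ENat.natCast_le_natCast.mp this) (by omega)
    · rw [hset]
      exact (le_idealDepth_iff _ r).mp hr.ge

end Groth.Agent.S14426
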