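import Groth.Statements.S14427
import Groth.Agent.ProjPtsLib.Basic
-- import your own Groth.Agent.* helpers here

set_option autoImplicit false
universe u
open CAlgX

namespace Groth.Agent.S14427

/-- Let k be a field and Λ a set of n ≥ 3 nonzero vectors of k^3 which are pairwise linearly
independent, i.e. n distinct k-rational points of the projective plane. Then the space of
homogeneous forms of degree n − 1 in k[x_0, x_1, x_2] vanishing at every point of Λ — the global
sections of I_Λ(n − 1) — has dimension C(n+1, 2) − n over k, the same for all such Λ. (The published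
statement is over an algebraically closed field; this row allows any field and k-rational points,
which is all its argument uses.) -/
theorem result (k : Type u) [Field k] (n : ℕ) (hn : 3 ≤ n)
    (Λ : Finset (Fin 3 → k)) (hcard : Λ.card = n) (h0 : ∀ v ∈ Λ, v ≠ 0)
    (hdist : ∀ v ∈ Λ, ∀ w ∈ Λ, v ≠ w → LinearIndependent k ![v, w]) :
    Module.finrank k ↥(MvPolynomial.homogeneousSubmodule (Fin 3) k (n - 1) ⊓ ⨅ v ∈ Λ, LinearMap.ker (MvPolynomial.aeval v).toLinearMap) = Nat.choose (n + 1) 2 - n := by
  classical
  let ev : MvPolynomial.homogeneousSubmodule (Fin 3) k (n - 1) →ₗ[k] (↥Λ → k) :=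
    (LinearMap.pi fun v : ↥Λ => (MvPolynomial.aeval (v : Fin 3 → k)).toLinearMap).comp (Submodule.subtype _)
  have hsurj : Function.Surjective ev := by
    intro g
    have hx : ∀ v : ↥Λ, ∃ F : MvPolynomial.homogeneousSubmodule (Fin 3) k (n - 1), ev F = Pi.single v 1 := fun v => by
      obtain ⟨F, hF, hFv, hFT⟩ := Groth.Agent.ProjPtsLib.exists_form (Λ.erase v.1) (n - 1)
        (by rw [Finset.card_erase_of_mem v.2, hcard]) v.1 (h0 _ v.2) (fun w hw c =>
          Groth.Agent.ProjPtsLib.ne_smul_of_indep (hdist _ v.2 w (Finset.mem_erase.mp hw).2 (Finset.mem_erase.mp hw).1.symm) c)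
      refine ⟨(MvPolynomial.eval v.1 F)⁻¹ • ⟨F, hF⟩, funext fun w => ?_⟩
      by_cases hwv : w = v
      · subst hwv
        simp [ev, MvPolynomial.aeval_eq_eval, hFv]
      · simp [ev, MvPolynomial.aeval_eq_eval, hFT w.1 (Finset.mem_erase.mpr ⟨fun h => hwv (Subtype.ext h), w.2⟩), Pi.single_eq_of_ne hwv]
    choose F hF using hx
    exact ⟨∑ v, g v • F v, by rw [map_sum]; simp only [map_smul, hF]; exact (pi_eq_sum_univ' g).symm⟩
  have hker : LinearMap.ker ev = Submodule.comap (MvPolynomial.homogeneousSubmodule (Fin 3) k (n - 1)).subtype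
      (MvPolynomial.homogeneousSubmodule (Fin 3) k (n - 1) ⊓ ⨅ v ∈ Λ, LinearMap.ker (MvPolynomial.aeval v).toLinearMap) := by
    ext F
    simp [ev, funext_iff, Submodule.mem_iInf]
  haveI : Module.Finite k (MvPolynomial.homogeneousSubmodule (Fin 3) k (n - 1)) :=
    Module.Finite.iff_fg.2 (MvPolynomial.homogeneousSubmodule_fg (Fin 3) k (n - 1))
  have h1 := LinearMap.finrank_range_add_finrank_ker ev
  rw [LinearMap.range_eq_top.mpr hsurj, finrank_top, Module.finrank_pi, Fintype.card_coe, hcard, hker,
    Groth.Agent.ProjPtsLib.finrank_homogeneous,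
    (Submodule.comapSubtypeEquivOfLe inf_le_left).finrank_eq, show 3 + (n - 1) - 1 = n + 1 by omega] at h1
  have h2 : Nat.choose (n + 1) (n - 1) = Nat.choose (n + 1) 2 := Nat.choose_symm_of_eq_add (by omega)
  omega

end Groth.Agent.S14427
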