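import Groth.Statements.S3746
import Groth.Agent.VBResLib.Hyp
import Groth.Agent.S3200
-- import your own Groth.Agent.* helpers here

set_option autoImplicit false
universe v u
open CategoryTheory CategoryTheory.Limits AlgebraicGeometry
attribute [local instance] HasDerivedCategory.standard
open KRR

namespace Groth.Agent.S3746

/-- Let X be a Noetherian scheme all of whose local rings are regular, on which every coherent module is
a quotient of a finite locally free module (the source assumes an ample invertible module, which it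
uses only through this property). Then the homomorphism δ : K₀(finite locally free O_X-modules) ⟶
K₀(coherent O_X-modules) induced by the inclusion (recorded by the argument h) is bijective. -/
theorem result (X : Scheme.{u}) [IsNoetherian X]
    (hreg : ∀ x : X, IsRegularLocalRing (X.presheaf.stalk x)) (hX : KRR.HasEnoughLocFree X)
    (h : ∀ M : X.Modules, FlatMod.IsFinLocFree M → Coh.IsCoh M) :
    Function.Bijective (SGA6.mapSub (𝟭 X.Modules) (KRR.vbP X) (fun M : X.Modules => Coh.IsCoh M) h) := by
  let P₁ : ObjectProperty X.Modules := fun M => Coh.IsCoh M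
  have : P₁.IsClosedUnderIsomorphisms := ⟨fun e h' => QCohLib.isCoh_of_iso e h'⟩
  have hext₁ : ∀ S : ShortComplex X.Modules, S.ShortExact → P₁ S.X₁ → P₁ S.X₃ → P₁ S.X₂ :=
    fun S hS h₁ h₃ => Groth.Agent.KHeartLib.isCoh_of_shortExact hS h₁ h₃
  have h1₁ : ∀ S : ShortComplex X.Modules, S.ShortExact → P₁ S.X₂ → P₁ S.X₃ → P₁ S.X₁ :=
    fun S hS h₂ h₃ => VBResLib.isCoh_X₁ hS h₂ h₃
  have H := VBResLib.hyp_of_class hX P₁ h (fun M hM => hM) hext₁ h1₁
  refine Groth.Agent.S3200.result (KRR.vbP X) P₁ h H.hext₀ hext₁ H.h1₀ h1₁ H.h2 fun A hA => ?_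
  obtain ⟨d, hd⟩ := VBResLib.exists_pd_of_regular hX hreg hA
  exact ⟨d, fun L hL hex ⟨e⟩ => VBResLib.vb_cycles hd L hL hex e⟩

end Groth.Agent.S3746
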