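import Groth.Statements.S14430
import Groth.Agent.S3746
import Groth.Agent.S1108
import Groth.Agent.S1535
import Groth.Agent.TwistLib.Ample
import Groth.Agent.MiscFlat6.QARelAmple
import Groth.Agent.RichLib.QuasiAffineMor
import Groth.Agent.ProjDegLib.Criterion
-- import your own Groth.Agent.* helpers here

set_option autoImplicit false
universe u
open CategoryTheory CategoryTheory.Limits AlgebraicGeometry
open KZero

namespace Groth.Agent.S14430

/-- Let k be an algebraically closed field and X a smooth quasi-projective variety over k — here a
k-scheme smooth over k admitting an immersion into some P^N_k over k. Write K^0(X) for the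
Grothendieck group of finite locally free O_X-modules and K_0(X) for that of coherent O_X-modules
(K_0 of the corresponding full subcategories of O_X-modules, with relations from short exact
sequences all of whose terms lie in the subcategory). Then there is a homomorphism K^0(X) → K_0(X)
sending the class of each finite locally free E to its class as a coherent module (the canonical
one, determined by this), and it is bijective. (The published statement is for smooth
quasi-projective varieties; this row takes a k-scheme smooth over k with an immersion into some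
P^N_k, reduced since smooth; irreducibility is not assumed.) -/
theorem result (k : Type u) [Field k] [IsAlgClosed k] (N : ℕ)
    (X : Scheme.{u}) [X.Over (Spec (CommRingCat.of k))] [Smooth (X ↘ Spec (CommRingCat.of k))]
    (ι : X ⟶ CohB1.ProjSpace N k) [IsImmersion ι] (hι : ι ≫ CohB1.ProjSpace.toSpec N k = X ↘ Spec (CommRingCat.of k)) :
    ∃ α : KZero.K0sub (fun M : X.Modules => FlatMod.IsFinLocFree M) →+ KZero.K0sub (fun M : X.Modules => Coh.IsCoh M),
      (∀ E : X.Modules, FlatMod.IsFinLocFree E →
        α (KZero.clSub (fun M : X.Modules => FlatMod.IsFinLocFree M) E) = KZero.clSub (fun M : X.Modules => Coh.IsCoh M) E) ∧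
      Function.Bijective α := by
  classical
  let 𝒜 := CohB1.polyGrading N k
  have hA : CohB1.IsAmple (Twist.twist 𝒜 1) := TwistLib.twist_one_isAmple 𝒜
    (Finset.univ.image (MvPolynomial.X : Fin (N + 1) → MvPolynomial (Fin (N + 1)) k))
    (fun f hf => by obtain ⟨i, -, rfl⟩ := Finset.mem_image.mp hf; exact MvPolynomial.isHomogeneous_X k i)
    (fun a ha => by
      rw [Finset.coe_image, Finset.coe_univ, MvPolynomial.mem_ideal_span_X_image]
      intro e he
      by_contra h0
      push Not at h0
      obtain rfl : e = 0 := Finsupp.ext fun i => h0 i (Set.mem_univ i)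
      refine (MvPolynomial.mem_support_iff.mp he) ?_
      rw [← DirectSum.sum_support_decompose 𝒜 a, MvPolynomial.coeff_sum]
      refine Finset.sum_eq_zero fun j _ => ?_
      by_contra hne
      obtain rfl : j = 0 := by
        simpa using ((DirectSum.decompose 𝒜 a j).2 hne).symm
      have h00 : ((DirectSum.decompose 𝒜 a 0 : 𝒜 0) : MvPolynomial (Fin (N + 1)) k) = 0 := by
        have := (HomogeneousIdeal.mem_irrelevant_iff 𝒜 a).mp ha
        rwa [GradedRing.proj_apply] at this
      rw [h00, MvPolynomial.coeff_zero] at hne
      exact hne rfl)
  have : IsProper (CohB1.ProjSpace.toSpec N k) := ProjDegLib.toSpec_isProper k N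
  have : IsLocallyNoetherian (CohB1.ProjSpace N k) :=
    LocallyOfFiniteType.isLocallyNoetherian (CohB1.ProjSpace.toSpec N k)
  have : CompactSpace (CohB1.ProjSpace N k) := hA.2.1
  have : AlgebraicGeometry.IsNoetherian (CohB1.ProjSpace N k) := {}
  have : TopologicalSpace.NoetherianSpace X := ι.isEmbedding.isInducing.noetherianSpace
  have : QuasiCompact ι := ⟨fun U _ _ => TopologicalSpace.NoetherianSpace.isCompact _⟩
  have : IsLocallyNoetherian X := LocallyOfFiniteType.isLocallyNoetherian ι
  have : AlgebraicGeometry.IsNoetherian X := {}
  have hX : KRR.HasEnoughLocFree X := fun F hF =>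
    Groth.Agent.S1108.result X _ (MiscFlat6.isAmple_pb_of_isQuasiAffine ι
      (RichLib.QA.of_isImmersion ι) hA) F hF.1 hF.2
  have h : ∀ M : X.Modules, FlatMod.IsFinLocFree M → Coh.IsCoh M := fun M hM => VBResLib.isCoh_of_vb hM
  refine ⟨SGA6.mapSub (𝟭 X.Modules) (KRR.vbP X) (fun M : X.Modules => Coh.IsCoh M) h, fun E hE => ?_,
    Groth.Agent.S3746.result X (fun x => Groth.Agent.S1535.result k X x) hX h⟩
  rw [Groth.Agent.KHeartLib.clSub_of _ hE, Groth.Agent.KHeartLib.clSub_of _ (h E hE)]
  simp [SGA6.mapSub, SGA6.objMap, FreeAbelianGroup.map_of_apply]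

end Groth.Agent.S14430
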