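import Groth.Statements.S14434
import Mathlib.Algebra.Category.ModuleCat.EpiMono
import Mathlib.Algebra.Homology.Augment
import Groth.Agent.TorDimLib.FlatVanish


-- import your own Groth.Agent.* helpers here

set_option autoImplicit false
universe u
open CAlg

open CategoryTheory CategoryTheory.Limits TensorProduct
namespace Groth.Agent.S14434

/-- Let R be a commutative ring, M an R-module and x ∈ R a non-zero-divisor on R and on M. Then
Tor_i^R(M, R/(x)) = 0 for all i ≥ 1 (Tor computed as the left derived functors of the tensor product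
on R-modules). -/
theorem result {R : Type u} [CommRing R] (M : Type u) [AddCommGroup M] [Module R M]
    (x : R) (hxR : IsSMulRegular R x) (hxM : IsSMulRegular M x) (i : ℕ) (hi : 1 ≤ i) :
    Subsingleton (DRing.Tor R i M (R ⧸ Ideal.span {x})) := by
  obtain ⟨p, rfl⟩ : ∃ p, i = p + 1 := ⟨i - 1, by omega⟩
  let A : ModuleCat.{u} R := ModuleCat.of R R
  have : Projective A := (IsProjective.iff_projective _).1 inferInstance
  let μ : A ⟶ A := ModuleCat.ofHom (LinearMap.lsmul R R x)
  let π' : A ⟶ ModuleCat.of R (R ⧸ Ideal.span {x}) := ModuleCat.ofHom (Submodule.mkQ (Ideal.span {x}))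
  let μ' : ((ChainComplex.single₀ (ModuleCat.{u} R)).obj A).X 0 ⟶ A := μ
  have hw : ((ChainComplex.single₀ (ModuleCat.{u} R)).obj A).d 1 0 ≫ μ' = 0 := by
    simp only [HomologicalComplex.single_obj_d]
    exact zero_comp
  let C' := ChainComplex.augment ((ChainComplex.single₀ (ModuleCat.{u} R)).obj A) μ' hw
  have hμπ : μ ≫ π' = 0 := by
    refine ModuleCat.hom_ext (LinearMap.ext fun r => ?_)
    exact (Submodule.Quotient.mk_eq_zero _).2 (Ideal.mem_span_singleton.2 ⟨r, rfl⟩)
  have hex0 : (ShortComplex.mk μ π' hμπ).Exact := by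
    refine (ShortComplex.ShortExact.moduleCat_exact_iff_function_exact _).2 fun r => ?_
    show Submodule.Quotient.mk r = (0 : R ⧸ Ideal.span {x}) ↔ r ∈ Set.range (fun s : R => x * s)
    rw [Submodule.Quotient.mk_eq_zero, Ideal.mem_span_singleton]
    exact ⟨fun ⟨s, hs⟩ => ⟨s, hs.symm⟩, fun ⟨s, hs⟩ => ⟨s, hs.symm⟩⟩
  have hepi : Epi π' := (ModuleCat.epi_iff_surjective _).2 (Submodule.mkQ_surjective _)
  have hmono : Mono μ := (ModuleCat.mono_iff_injective _).2 hxR
  let P : ProjectiveResolution (ModuleCat.of R (R ⧸ Ideal.span {x})) :=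
    { complex := C'
      projective := fun n => by
        match n with
        | 0 => exact inferInstanceAs (Projective A)
        | 1 => exact inferInstanceAs (Projective A)
        | n + 2 => exact (HomologicalComplex.isZero_single_obj_X (ComplexShape.down ℕ) 0 A (n + 1) (Nat.succ_ne_zero n)).projective
      π := (C'.toSingle₀Equiv _).symm ⟨π', hμπ⟩
      quasiIso := ⟨fun n => by
        cases n
        · rw [ChainComplex.quasiIsoAt₀_iff, ShortComplex.quasiIso_iff_of_zeros']
          · refine (ShortComplex.exact_and_epi_g_iff_of_iso ?_).2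
              (⟨hex0, hepi⟩ : (ShortComplex.mk μ π' hμπ).Exact ∧ Epi π')
            exact ShortComplex.isoMk (Iso.refl _) (Iso.refl _) (Iso.refl _)
              ((Category.id_comp _).trans (Category.comp_id _).symm) ((Category.id_comp _).trans (Category.comp_id _).symm)
          all_goals first | rfl | (simp; rfl)
        · rename_i n
          rw [quasiIsoAt_iff_exactAt']
          · rw [HomologicalComplex.exactAt_iff' _ (n + 2) (n + 1) n (by simp only [ChainComplex.prev]; rfl) (by simp)]
            rcases n with _ | n
            · refine (ShortComplex.exact_iff_mono _ ?_).2 hmono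
              exact (HomologicalComplex.isZero_single_obj_X (ComplexShape.down ℕ) 0 A 1 (Nat.succ_ne_zero 0)).eq_of_src _ _
            · exact ShortComplex.exact_of_isZero_X₂ _ (HomologicalComplex.isZero_single_obj_X (ComplexShape.down ℕ) 0 A (n + 1) (Nat.succ_ne_zero n))
          · apply ChainComplex.exactAt_succ_single_obj⟩ }
  refine TorDimLib.subsingleton_tor_of_exactAtSucc P p ?_
  rcases p with _ | p
  · intro z
    have hinj : Function.Injective ((LinearMap.lsmul R R x).lTensor M) := by
      have h1 : (LinearMap.lsmul R R x).lTensor M =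
          (TensorProduct.rid R M).symm.toLinearMap ∘ₗ (LinearMap.lsmul R M x) ∘ₗ (TensorProduct.rid R M).toLinearMap := by
        refine TensorProduct.ext' fun m r => ?_
        simp [smul_smul, TensorProduct.smul_tmul, mul_comm]
        rw [← TensorProduct.tmul_smul, smul_eq_mul, mul_one]
      rw [h1]
      exact (TensorProduct.rid R M).symm.injective.comp (hxM.comp (TensorProduct.rid R M).injective)
    refine ⟨fun hz => ⟨0, ?_⟩, fun ⟨w, hw'⟩ => ?_⟩
    · rw [map_zero]; exact (hinj (hz.trans (map_zero _).symm)).symm
    · rw [← hw']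
      exact TorDimLib.d_d P M 2 1 0 w
  · intro z
    have hs : Subsingleton (P.complex.X (p + 2)) :=
      ModuleCat.subsingleton_of_isZero (HomologicalComplex.isZero_single_obj_X (ComplexShape.down ℕ) 0 A (p + 1) (Nat.succ_ne_zero p))
    have : Subsingleton (M ⊗[R] P.complex.X (p + 1 + 1)) := inferInstance
    exact ⟨fun _ => ⟨0, by rw [map_zero]; exact Subsingleton.elim _ _⟩, fun _ => by rw [Subsingleton.elim z 0, map_zero]⟩

end Groth.Agent.S14434
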