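import Groth.Statements.S14436
import Mathlib.RingTheory.Etale.Kaehler
import Mathlib.RingTheory.Etale.Field
import Mathlib.RingTheory.Kaehler.Polynomial
import Mathlib.RingTheory.AlgebraicIndependent.Adjoin
import Mathlib.RingTheory.AlgebraicIndependent.TranscendenceBasis
import Mathlib.LinearAlgebra.Dimension.Constructions
import Mathlib.FieldTheory.IntermediateField.Adjoin.Basic

set_option autoImplicit false
universe u
open CAlg

namespace Groth.Agent.S14436

/-- Let L/K be a finitely generated field extension which is separable in the sense that it has a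
transcendence basis a_1, …, a_n over which L is a (finite) separable extension of K(a_1, …, a_n).
Then dim_L Ω_{L/K} = n, the transcendence degree of L over K. -/
theorem result (K L : Type u) [Field K] [Field L] [Algebra K L]
    (hfg : ∃ s : Finset L, IntermediateField.adjoin K (s : Set L) = ⊤)
    (n : ℕ) (a : Fin n → L) (ha : IsTranscendenceBasis K a)
    (hsep : Algebra.IsSeparable ↥(IntermediateField.adjoin K (Set.range a)) L) :
    Module.finrank L (Ω[L⁄K]) = n := by
  open scoped IntermediateField.algebraAdjoinAdjoin in
  let R0 := MvPolynomial (Fin n) K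
  let R1 := Algebra.adjoin K (Set.range a)
  let E := IntermediateField.adjoin K (Set.range a)
  letI : Algebra R0 R1 := ha.1.aevalEquiv.toAlgHom.toRingHom.toAlgebra
  letI : Algebra R0 L := (MvPolynomial.aeval a).toRingHom.toAlgebra
  haveI : IsScalarTower R0 R1 L := IsScalarTower.of_algebraMap_eq fun p => (ha.1.algebraMap_aevalEquiv p).symm
  haveI : IsScalarTower K R0 L := IsScalarTower.of_algebraMap_eq fun r => (MvPolynomial.aeval_C a r).symm
  haveI : Algebra.FormallyEtale R0 R1 :=
    Algebra.FormallyEtale.of_equiv (AlgEquiv.ofBijective (Algebra.ofId R0 R1) ha.1.aevalEquiv.bijective)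
  haveI : Algebra.FormallyEtale R1 E := Algebra.FormallyEtale.of_isLocalization (nonZeroDivisors _)
  haveI : Algebra.FormallyEtale E L := Algebra.FormallyEtale.of_isSeparable _ L
  haveI : Algebra.FormallyEtale R1 L := Algebra.FormallyEtale.comp _ E _
  haveI : Algebra.FormallyEtale R0 L := Algebra.FormallyEtale.comp _ R1 _
  haveI : Module.Free R0 Ω[R0⁄K] := Module.Free.of_basis (KaehlerDifferential.mvPolynomialBasis K (Fin n))
  rw [← (KaehlerDifferential.tensorKaehlerEquivOfFormallyEtale K R0 L).finrank_eq, Module.finrank_baseChange,
    Module.finrank_eq_card_basis (KaehlerDifferential.mvPolynomialBasis K (Fin n)), Fintype.card_fin]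

end Groth.Agent.S14436
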