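import Groth.Statements.S14437
import Mathlib


set_option autoImplicit false
universe u
open CAlg TensorProduct

namespace Groth.Agent.S14437

/-- Let k be a field and A → B a local homomorphism of Noetherian local k-algebras with residue fields k
(k → A/m_A and k → B/m_B bijective) — for instance the local rings at a closed point x and at its
image y under a morphism of schemes of finite type over an algebraically closed k. Then dim_k
(Ω_{B/A} ⊗_B B/m_B) + rank(m_A/m_A² → m_B/m_B²) = dim_k (m_B/m_B²): the fibre at x of the sheaf of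
relative differentials is dual to the kernel of the tangent map T_x X → T_y Y. (The published
statement is the canonical isomorphism (Ω_{X/Y})_(x)^∨ ≅ ker(df_x); stated here as the resulting
equality of dimensions. Its second assertion, dim (Ω_{X/Y})_(x) ≥ r when the fibre has an
r-dimensional component through x, is not included.) -/
theorem result (k : Type u) [Field k]
    (A B : Type u) [CommRing A] [CommRing B] [IsLocalRing A] [IsLocalRing B] [IsNoetherianRing A] [IsNoetherianRing B]
    [Algebra k A] [Algebra k B] [Algebra A B] [IsScalarTower k A B]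
    (hle : IsLocalRing.maximalIdeal A ≤ Ideal.comap (IsScalarTower.toAlgHom k A B) (IsLocalRing.maximalIdeal B))
    (hA : Function.Bijective (algebraMap k (IsLocalRing.ResidueField A)))
    (hB : Function.Bijective (algebraMap k (IsLocalRing.ResidueField B))) :
    Module.finrank (IsLocalRing.ResidueField B) (TensorProduct B (IsLocalRing.ResidueField B) (Ω[B⁄A])) +
      Module.finrank k ↥(LinearMap.range (Ideal.mapCotangent (IsLocalRing.maximalIdeal A) (IsLocalRing.maximalIdeal B)
        (IsScalarTower.toAlgHom k A B) hle)) =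
      Module.finrank k (IsLocalRing.CotangentSpace B) := by
  let mA := IsLocalRing.maximalIdeal A
  let mB := IsLocalRing.maximalIdeal B
  let κ := IsLocalRing.ResidueField B
  let η := Ideal.mapCotangent mA mB (IsScalarTower.toAlgHom k A B) hle
  let ek : k ≃+* κ := RingEquiv.ofBijective (algebraMap k κ) hB
  let c : B →+* k := ek.symm.toRingHom.comp (IsLocalRing.residue B)
  have hc : ∀ b : B, b - algebraMap k B (c b) ∈ mB := fun b => by
    rw [← IsLocalRing.residue_eq_zero_iff, map_sub, sub_eq_zero]
    exact (ek.apply_symm_apply (IsLocalRing.residue B b)).symm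
  have hck : ∀ r : k, c (algebraMap k B r) = r := fun r => ek.symm_apply_apply r
  have hsmul : ∀ (b : B) (x : IsLocalRing.CotangentSpace B), b • x = c b • x := fun b x => by
    conv_lhs => rw [← sub_add_cancel b (algebraMap k B (c b)), add_smul,
      Ideal.Cotangent.smul_eq_zero_of_mem (hc b), zero_add, algebraMap_smul]
  let N : Submodule B (IsLocalRing.CotangentSpace B) :=
    { (LinearMap.range η).toAddSubmonoid with
      smul_mem' := fun b x hx => by rw [hsmul]; exact Submodule.smul_mem _ _ hx }
  let Q := IsLocalRing.CotangentSpace B ⧸ N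
  have hQ : ∀ (b : B) (x : Q), b • x = c b • x := fun b x => by
    obtain ⟨x, rfl⟩ := N.mkQ_surjective x
    rw [← map_smul, hsmul, LinearMap.map_smul_of_tower]
  let δ : B → Q := fun b => N.mkQ (mB.toCotangent ⟨b - algebraMap k B (c b), hc b⟩)
  have δadd : ∀ a b, δ (a + b) = δ a + δ b := fun a b => by
    simp only [δ, ← map_add]
    congr 2
    ext
    simp only [Submodule.coe_add, map_add]
    ring
  have δmul : ∀ a b, δ (a * b) = a • δ b + b • δ a := fun a b => by
    simp only [δ, ← map_smul, ← map_add]
    refine congrArg _ (mB.toCotangent_eq.2 ?_)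
    have : a * b - algebraMap k B (c (a * b)) - ((a • (b - algebraMap k B (c b))) +
        b • (a - algebraMap k B (c a))) = -((a - algebraMap k B (c a)) * (b - algebraMap k B (c b))) := by
      simp only [map_mul, smul_eq_mul]
      ring
    show a * b - algebraMap k B (c (a * b)) - ((a • (b - algebraMap k B (c b))) +
        b • (a - algebraMap k B (c a))) ∈ mB ^ 2
    rw [this, pow_two]
    exact neg_mem (Ideal.mul_mem_mul (hc a) (hc b))
  have δA : ∀ a : A, δ (algebraMap A B a) = 0 := fun a => by
    refine (Submodule.Quotient.mk_eq_zero N).2 ?_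
    obtain ⟨r, hr⟩ := hA.2 (IsLocalRing.residue A a)
    have ha : a - algebraMap k A r ∈ mA := by
      rw [← IsLocalRing.residue_eq_zero_iff, map_sub, sub_eq_zero]
      exact hr.symm
    have hca : c (algebraMap A B a) = r := by
      rw [← sub_add_cancel a (algebraMap k A r), map_add, map_add,
        ← IsScalarTower.algebraMap_apply, hck]
      have : IsLocalRing.residue B (algebraMap A B (a - algebraMap k A r)) = 0 :=
        (IsLocalRing.residue_eq_zero_iff _).2 (hle ha)
      show ek.symm (IsLocalRing.residue B (algebraMap A B (a - algebraMap k A r))) + r = r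
      rw [this, map_zero, zero_add]
    refine ⟨mA.toCotangent ⟨_, ha⟩, (mB.toCotangent_eq (x := ⟨_, hle ha⟩)).2 ?_⟩
    show algebraMap A B (a - algebraMap k A r) -
      (algebraMap A B a - algebraMap k B (c (algebraMap A B a))) ∈ mB ^ 2
    rw [hca, map_sub, ← IsScalarTower.algebraMap_apply, sub_self]
    exact zero_mem _
  let D : Derivation A B Q :=
    Derivation.mk'
      { toFun := δ
        map_add' := δadd
        map_smul' := fun a b => by
          rw [RingHom.id_apply, Algebra.smul_def, δmul, δA, smul_zero, add_zero, algebraMap_smul] }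
      δmul
  let Φ₀ : Ω[B⁄A] →ₗ[B] Q := D.liftKaehlerDifferential
  have hκ : ∀ (r : k) (z : κ ⊗[B] Ω[B⁄A]), algebraMap k B r • z = algebraMap k κ r • z :=
    fun r z => by rw [← algebraMap_smul κ (algebraMap k B r) z, ← IsScalarTower.algebraMap_apply]
  let Φ : κ ⊗[B] Ω[B⁄A] →+ Q := TensorProduct.liftAddHom
    { toFun := fun x => (DistribSMul.toAddMonoidHom Q (ek.symm x)).comp Φ₀.toAddMonoidHom
      map_zero' := by ext; simp
      map_add' := fun x y => by ext; simp [add_smul] }
    (fun b x ω => by
      show ek.symm (b • x) • Φ₀ ω = ek.symm x • Φ₀ (b • ω)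
      rw [Φ₀.map_smul, hQ, smul_smul, Algebra.smul_def, map_mul, mul_comm]
      rfl)
  let ψ₀ : mB →ₗ[B] κ ⊗[B] Ω[B⁄A] :=
    { toFun := fun x => (1 : κ) ⊗ₜ[B] KaehlerDifferential.D A B x
      map_add' := fun x y => by simp [TensorProduct.tmul_add]
      map_smul' := fun b x => by
        have hx : (x : B) • (1 : κ) = 0 := by
          rw [Algebra.smul_def, mul_one]
          exact (IsLocalRing.residue_eq_zero_iff _).2 x.2
        simp only [Submodule.coe_smul, smul_eq_mul, Derivation.leibniz, TensorProduct.tmul_add,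
          RingHom.id_apply]
        rw [← TensorProduct.smul_tmul (x : B) (1 : κ), hx, TensorProduct.zero_tmul, add_zero,
          TensorProduct.tmul_smul] }
  have hψ₀ : (mB • ⊤ : Submodule B mB) ≤ LinearMap.ker ψ₀ := by
    rw [Submodule.smul_le]
    intro b hb x _
    rw [LinearMap.mem_ker, map_smul]
    show b • ((1 : κ) ⊗ₜ[B] _) = 0
    rw [TensorProduct.smul_tmul', Algebra.smul_def, mul_one,
      show algebraMap B κ b = 0 from (IsLocalRing.residue_eq_zero_iff _).2 hb, TensorProduct.zero_tmul]
  let ψ₁ : IsLocalRing.CotangentSpace B →ₗ[B] κ ⊗[B] Ω[B⁄A] := Submodule.liftQ _ ψ₀ hψ₀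
  have hN : N ≤ LinearMap.ker ψ₁ := by
    rintro _ ⟨y, rfl⟩
    obtain ⟨⟨a, ha⟩, rfl⟩ := mA.toCotangent_surjective y
    show (1 : κ) ⊗ₜ[B] KaehlerDifferential.D A B (algebraMap A B a) = 0
    rw [Derivation.map_algebraMap, TensorProduct.tmul_zero]
  let Ψ : Q →ₗ[B] κ ⊗[B] Ω[B⁄A] := Submodule.liftQ N ψ₁ hN
  have hΦsmul : ∀ (x : κ) (z : κ ⊗[B] Ω[B⁄A]), Φ (x • z) = ek.symm x • Φ z := fun x z => by
    induction z using TensorProduct.induction_on with
    | zero => simp
    | add u v hu hv => rw [smul_add, map_add, hu, hv, map_add, smul_add]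
    | tmul y ω =>
      show ek.symm (x * y) • Φ₀ ω = ek.symm x • ek.symm y • Φ₀ ω
      rw [map_mul, mul_smul]
  have hΦΨ : ∀ q, Φ (Ψ q) = q := fun q => by
    obtain ⟨x, rfl⟩ := N.mkQ_surjective q
    obtain ⟨⟨b, hb⟩, rfl⟩ := mB.toCotangent_surjective x
    show ek.symm 1 • Φ₀ (KaehlerDifferential.D A B b) = _
    rw [map_one, one_smul, Derivation.liftKaehlerDifferential_comp_D]
    refine congrArg N.mkQ (mB.toCotangent_eq.2 ?_)
    show b - algebraMap k B (c b) - b ∈ mB ^ 2
    rw [show c b = 0 by show ek.symm _ = 0; rw [(IsLocalRing.residue_eq_zero_iff b).2 hb, map_zero],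
      map_zero, sub_zero, sub_self]
    exact zero_mem _
  have hΨD : ∀ b, Ψ (δ b) = (1 : κ) ⊗ₜ[B] KaehlerDifferential.D A B b := fun b => by
    show (1 : κ) ⊗ₜ[B] KaehlerDifferential.D A B (b - algebraMap k B (c b)) = _
    rw [map_sub, IsScalarTower.algebraMap_apply k A B, Derivation.map_algebraMap, sub_zero]
  have hsurj : Function.Surjective Ψ := by
    intro z
    induction z using TensorProduct.induction_on with
    | zero => exact ⟨0, map_zero _⟩
    | add u v hu hv =>
      obtain ⟨a, rfl⟩ := hu
      obtain ⟨b, rfl⟩ := hv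
      exact ⟨a + b, map_add _ _ _⟩
    | tmul y ω =>
      obtain ⟨b₀, rfl⟩ := IsLocalRing.residue_surjective y
      have hω : ω ∈ Submodule.span B (Set.range (KaehlerDifferential.D A B)) :=
        (KaehlerDifferential.span_range_derivation A B).symm ▸ Submodule.mem_top
      refine (LinearMap.mem_range (f := Ψ)).1 ?_
      rw [show (IsLocalRing.residue B b₀ : κ) ⊗ₜ[B] ω = b₀ • ((1 : κ) ⊗ₜ[B] ω) by
        rw [TensorProduct.smul_tmul', Algebra.smul_def, mul_one]; rfl]
      refine Submodule.smul_mem _ _ ?_
      induction hω using Submodule.span_induction with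
      | mem _ h => obtain ⟨b, rfl⟩ := h; exact ⟨δ b, hΨD b⟩
      | zero => rw [TensorProduct.tmul_zero]; exact zero_mem _
      | add _ _ _ _ h₁ h₂ => rw [TensorProduct.tmul_add]; exact add_mem h₁ h₂
      | smul b _ _ h => rw [TensorProduct.tmul_smul]; exact Submodule.smul_mem _ _ h
  have hfin : Module.finrank κ (κ ⊗[B] Ω[B⁄A]) = Module.finrank k Q :=
    congrArg Cardinal.toNat (rank_eq_of_equiv_equiv (R := κ) (R' := k) ek.symm
      (AddEquiv.ofBijective Φ ⟨fun u v h => by
        obtain ⟨a, rfl⟩ := hsurj u
        obtain ⟨b, rfl⟩ := hsurj v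
        rw [hΦΨ, hΦΨ] at h
        rw [h], fun q => ⟨Ψ q, hΦΨ q⟩⟩) ek.symm.bijective hΦsmul)
  haveI : Module.Finite k (IsLocalRing.CotangentSpace B) := by
    haveI : Module.Finite k κ := Module.Finite.of_surjective (Algebra.linearMap k κ) hB.2
    haveI : IsScalarTower k κ (IsLocalRing.CotangentSpace B) := IsScalarTower.of_algebraMap_smul
      fun r x => algebraMap_smul B r x
    exact Module.Finite.trans κ _
  rw [hfin]
  rw [← LinearEquiv.finrank_eq (Submodule.Quotient.restrictScalarsEquiv k N)]
  exact (N.restrictScalars k).finrank_quotient_add_finrank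

end Groth.Agent.S14437
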