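import Groth.Statements.S6320
import Mathlib.RingTheory.Length
import Mathlib.RingTheory.FiniteLength
import Mathlib.RingTheory.SimpleModule.Basic
import Mathlib.RingTheory.LocalRing.Module
import Mathlib.RingTheory.Localization.AtPrime.Basic
import Mathlib.Algebra.Module.LocalizedModule.Exact
import Mathlib.RingTheory.Ideal.Over
import Mathlib.Algebra.BigOperators.Finprod
-- import your own Groth.Agent.* helpers here

set_option autoImplicit false
universe u
open CAlg

namespace Groth.Agent.S6320

/-- Let A be a local ring with maximal ideal m, B a semi-local ring with maximal ideals m₁, …, mₙ and A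
→ B a ring map such that each mᵢ lies over m with [κ(mᵢ) : κ(m)] finite. Then for every B-module M
of finite length, length_A(M) = Σᵢ [κ(mᵢ) : κ(m)] · length_{B_{mᵢ}}(M_{mᵢ}); in particular
length_A(M) is finite. -/
theorem result {A B : Type u} [CommRing A] [IsLocalRing A] [CommRing B] [Algebra A B] [Finite (MaximalSpectrum B)] (hover : ∀ n : MaximalSpectrum B, n.asIdeal.comap (algebraMap A B) = IsLocalRing.maximalIdeal A) (hfin : ∀ n : MaximalSpectrum B, Module.Finite (A ⧸ n.asIdeal.comap (algebraMap A B)) (B ⧸ n.asIdeal)) (M : Type u) [AddCommGroup M] [Module B M] [Module A M] [IsScalarTower A B M] (hM : IsFiniteLength B M) : Module.length A M = ∑ᶠ n : MaximalSpectrum B, (Module.finrank (A ⧸ n.asIdeal.comap (algebraMap A B)) (B ⧸ n.asIdeal) : ℕ∞) * Module.length (Localization.AtPrime n.asIdeal) (LocalizedModule n.asIdeal.primeCompl M) := by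
  classical
  haveI := Fintype.ofFinite (MaximalSpectrum B)
  rw [finsum_eq_sum_of_fintype]
  suffices H : ∀ (M : Type u) [AddCommGroup M] [Module B M], IsFiniteLength B M → ∀ [Module A M] [IsScalarTower A B M],
      Module.length A M = ∑ n : MaximalSpectrum B, (Module.finrank (A ⧸ n.asIdeal.comap (algebraMap A B)) (B ⧸ n.asIdeal) : ℕ∞) *
        Module.length (Localization.AtPrime n.asIdeal) (LocalizedModule n.asIdeal.primeCompl M) from H M hM
  intro M _ _ hM
  induction hM with
  | @of_subsingleton M _ _ _ =>
    intro _ _
    rw [Module.length_eq_zero, Finset.sum_eq_zero]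
    intro n _
    haveI : Subsingleton (LocalizedModule n.asIdeal.primeCompl M) :=
      LocalizedModule.subsingleton_iff.2 fun m => ⟨1, one_mem _, Subsingleton.elim _ _⟩
    rw [Module.length_eq_zero, mul_zero]
  | @of_simple_quotient M _ _ N hsimp hN ih =>
    intro _ _
    have h1 := @ih inferInstance inferInstance
    have hA : Module.length A M = Module.length A N + Module.length A (M ⧸ N) :=
      Module.length_eq_add_of_exact (N.subtype.restrictScalars A) (N.mkQ.restrictScalars A)
        Subtype.val_injective N.mkQ_surjective (LinearMap.exact_subtype_mkQ N)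
    have hB : ∀ n : MaximalSpectrum B, Module.length (Localization.AtPrime n.asIdeal) (LocalizedModule n.asIdeal.primeCompl M) =
        Module.length (Localization.AtPrime n.asIdeal) (LocalizedModule n.asIdeal.primeCompl N) +
        Module.length (Localization.AtPrime n.asIdeal) (LocalizedModule n.asIdeal.primeCompl (M ⧸ N)) := fun n =>
      Module.length_eq_add_of_exact (LocalizedModule.map n.asIdeal.primeCompl N.subtype) (LocalizedModule.map n.asIdeal.primeCompl N.mkQ)
        (LocalizedModule.map_injective _ _ Subtype.val_injective) (LocalizedModule.map_surjective _ _ N.mkQ_surjective)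
        (LocalizedModule.map_exact _ _ _ (LinearMap.exact_subtype_mkQ N))
    simp_rw [hB, mul_add, Finset.sum_add_distrib]
    rw [hA, h1]
    congr 1
    obtain ⟨P, hP, ⟨e⟩⟩ := isSimpleModule_iff_quot_maximal.1 hsimp
    let n₀ : MaximalSpectrum B := ⟨P, hP⟩
    rw [(e.restrictScalars A).length_eq, Finset.sum_eq_single n₀]
    · haveI hcm : (P.comap (algebraMap A B)).IsMaximal := by
        rw [hover n₀]; infer_instance
      letI := Ideal.Quotient.field (P.comap (algebraMap A B))
      have hone : Module.length (Localization.AtPrime P) (LocalizedModule P.primeCompl (M ⧸ N)) = 1 := by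
        have hle : Module.length B (LocalizedModule P.primeCompl (M ⧸ N)) ≤ 1 := by
          letI := Ideal.Quotient.field P
          haveI : IsSimpleModule B (M ⧸ N) := hsimp
          refine (Module.length_le_of_surjective (LocalizedModule.mkLinearMap P.primeCompl (M ⧸ N)) fun x => ?_).trans (le_of_eq (Module.length_eq_one B _))
          induction x using LocalizedModule.induction_on with
          | h a s =>
            obtain ⟨t, ht⟩ := Ideal.Quotient.mk_surjective (Ideal.Quotient.mk P s)⁻¹
            refine ⟨t • a, ?_⟩
            rw [LocalizedModule.mkLinearMap_apply, LocalizedModule.mk_eq]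
            refine ⟨1, ?_⟩
            rw [one_smul, one_smul, one_smul, Submonoid.smul_def, smul_smul]
            refine e.injective ?_
            obtain ⟨b, hb⟩ := Ideal.Quotient.mk_surjective (e a)
            rw [map_smul, ← hb, Algebra.smul_def]
            show Ideal.Quotient.mk P _ * Ideal.Quotient.mk P b = _
            rw [map_mul, ht, mul_inv_cancel₀ (fun h => s.2 (Ideal.Quotient.eq_zero_iff_mem.1 h)), one_mul]
        refine le_antisymm ?_ (Order.one_le_iff_pos.2 ?_)
        · rw [← Module.length_top]
          refine (Submodule.length_le_length_restrictScalars B ⊤).trans ?_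
          rw [Submodule.restrictScalars_top, Module.length_top]
          exact hle
        · rw [Module.length_pos_iff]
          refine not_subsingleton_iff_nontrivial.1 fun hsub => ?_
          obtain ⟨r, hr, hr0⟩ := LocalizedModule.subsingleton_iff.1 hsub (e.symm (Ideal.Quotient.mk P 1))
          apply hr
          have := congrArg e hr0
          rw [map_smul, LinearEquiv.apply_symm_apply, map_zero] at this
          show r ∈ P
          rw [← Ideal.Quotient.eq_zero_iff_mem, ← this, Algebra.smul_def, map_one, mul_one]; rfl
      rw [hone, mul_one]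
      haveI := hfin n₀
      rw [Module.length_eq_of_surjective (S := A) (R := A ⧸ P.comap (algebraMap A B)) (M := B ⧸ P) Ideal.Quotient.mk_surjective,
        Module.length_eq_finrank]
    · intro n _ hn
      haveI : Subsingleton (LocalizedModule n.asIdeal.primeCompl (M ⧸ N)) := by
        refine LocalizedModule.subsingleton_iff.2 fun m => ?_
        obtain ⟨r, hr, hr'⟩ : ∃ r ∈ P, r ∉ n.asIdeal := by
          by_contra hc
          push_neg at hc
          exact hn (MaximalSpectrum.ext (hP.eq_of_le n.isMaximal.ne_top hc).symm)
        refine ⟨r, hr', e.injective ?_⟩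
        obtain ⟨b, hb⟩ := Ideal.Quotient.mk_surjective (e m)
        rw [map_smul, map_zero, ← hb, Algebra.smul_def]
        show Ideal.Quotient.mk P r * Ideal.Quotient.mk P b = 0
        rw [← map_mul]
        exact Ideal.Quotient.eq_zero_iff_mem.2 (P.mul_mem_right _ hr)
      rw [Module.length_eq_zero, mul_zero]
    · intro h; exact absurd (Finset.mem_univ _) h

end Groth.Agent.S6320
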