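import Groth.Statements.S14438
import Groth.Agent.S6320
import Mathlib.RingTheory.Artinian.Module
import Mathlib.RingTheory.IntegralClosure.IntegrallyClosed
import Mathlib.RingTheory.Ideal.GoingUp
import Mathlib.LinearAlgebra.TensorProduct.Quotient
import Mathlib.LinearAlgebra.Dimension.Constructions
-- import your own Groth.Agent.* helpers here

set_option autoImplicit false
universe u
open CAlg
open scoped TensorProduct

namespace Groth.Agent.S14438

/-- Let (A, m) be a local ring, B a commutative A-algebra which is free of finite rank d as an A-module,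
and assume that for every maximal ideal n of B containing mB the induced map of residue fields A/m →
B/n is bijective (as for the points of a fibre of a finite flat morphism of varieties over an
algebraically closed field). Then the multiplicities of the points of the fibre add up to the
degree: the sum over all such n of the length of the B_n-module (B/mB)_n equals d. -/
theorem result (A B : Type u) [CommRing A] [IsLocalRing A] [CommRing B] [Algebra A B]
    [Module.Free A B] [Module.Finite A B] (d : ℕ) (hd : Module.finrank A B = d)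
    (hres : ∀ (n : Ideal B) [n.IsMaximal] (h : Ideal.map (algebraMap A B) (IsLocalRing.maximalIdeal A) ≤ n),
      Function.Bijective (Ideal.quotientMap n (algebraMap A B) (Ideal.map_le_iff_le_comap.mp h))) :
    finsum (fun n : {n : MaximalSpectrum B // Ideal.map (algebraMap A B) (IsLocalRing.maximalIdeal A) ≤ n.asIdeal} =>
      Module.length (Localization.AtPrime n.1.asIdeal)
        (LocalizedModule n.1.asIdeal.primeCompl (B ⧸ Ideal.map (algebraMap A B) (IsLocalRing.maximalIdeal A)))) = (d : ℕ∞) := by
  classical
  haveI : Algebra.IsIntegral A B := Algebra.IsIntegral.of_finite A B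
  have hcom : ∀ n : MaximalSpectrum B, n.asIdeal.comap (algebraMap A B) = IsLocalRing.maximalIdeal A := fun n =>
    IsLocalRing.eq_maximalIdeal (Ideal.isMaximal_comap_of_isIntegral_of_isMaximal n.asIdeal)
  have hall : ∀ n : MaximalSpectrum B, Ideal.map (algebraMap A B) (IsLocalRing.maximalIdeal A) ≤ n.asIdeal := fun n =>
    Ideal.map_le_iff_le_comap.2 (hcom n).ge
  let I := Ideal.map (algebraMap A B) (IsLocalRing.maximalIdeal A)
  have hlen : Module.length A (B ⧸ I) = d := by
    let e : ((A ⧸ IsLocalRing.maximalIdeal A) ⊗[A] B) ≃ₗ[A] B ⧸ I :=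
      (TensorProduct.quotTensorEquivQuotSMul B (IsLocalRing.maximalIdeal A)) ≪≫ₗ
        Submodule.quotEquivOfEq _ _ (Ideal.smul_top_eq_map _) ≪≫ₗ Submodule.Quotient.restrictScalarsEquiv A I
    letI := Ideal.Quotient.field (IsLocalRing.maximalIdeal A)
    rw [← e.length_eq, Module.length_eq_of_surjective (S := A) (R := A ⧸ IsLocalRing.maximalIdeal A)
      Ideal.Quotient.mk_surjective, Module.length_eq_finrank, Module.finrank_baseChange, hd]
  have hfl : IsFiniteLength B (B ⧸ I) := by
    rw [← Module.length_ne_top_iff]
    refine ne_top_of_le_ne_top (b := Module.length A (B ⧸ I)) (by rw [hlen]; exact ENat.coe_ne_top d) ?_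
    rw [← Module.length_top]
    refine (Submodule.length_le_length_restrictScalars A ⊤).trans ?_
    rw [Submodule.restrictScalars_top, Module.length_top]
  haveI : IsArtinianRing (B ⧸ I) := by
    have := (isFiniteLength_iff_isNoetherian_isArtinian.1 hfl).2
    exact isArtinian_of_tower B this
  haveI : Finite (MaximalSpectrum B) := by
    refine Finite.of_injective (fun n : MaximalSpectrum B => (⟨n.asIdeal.map (Ideal.Quotient.mk I),
      Ideal.IsMaximal.map_of_surjective_of_ker_le Ideal.Quotient.mk_surjective (by rw [Ideal.mk_ker]; exact hall n)⟩ : MaximalSpectrum (B ⧸ I))) fun n₁ n₂ h => ?_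
    have h' := congrArg (fun x : MaximalSpectrum (B ⧸ I) => x.asIdeal.comap (Ideal.Quotient.mk I)) h
    simp only [Ideal.comap_map_of_surjective' _ Ideal.Quotient.mk_surjective, Ideal.mk_ker] at h'
    rw [sup_eq_left.2 (hall n₁), sup_eq_left.2 (hall n₂)] at h'
    exact MaximalSpectrum.ext h'
  have hfin : ∀ n : MaximalSpectrum B, Module.Finite (A ⧸ n.asIdeal.comap (algebraMap A B)) (B ⧸ n.asIdeal) := fun n =>
    Module.Finite.of_restrictScalars_finite A _ _
  have h6 := Groth.Agent.S6320.result hcom hfin (B ⧸ I) hfl
  rw [hlen] at h6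
  rw [h6]
  refine (finsum_eq_of_bijective Subtype.val ⟨Subtype.val_injective, fun n => ⟨⟨n, hall n⟩, rfl⟩⟩ fun n => ?_)
  have h1 : Module.finrank (A ⧸ n.1.asIdeal.comap (algebraMap A B)) (B ⧸ n.1.asIdeal) = 1 := by
    haveI : (n.1.asIdeal.comap (algebraMap A B)).IsMaximal := Ideal.isMaximal_comap_of_isIntegral_of_isMaximal n.1.asIdeal
    have hb := hres n.1.asIdeal n.2
    have hb' : Function.Bijective (Algebra.linearMap (A ⧸ n.1.asIdeal.comap (algebraMap A B)) (B ⧸ n.1.asIdeal)) := by
      refine ⟨(injective_iff_map_eq_zero _).2 fun x hx => ?_, fun y => ?_⟩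
      · obtain ⟨a, rfl⟩ := Ideal.Quotient.mk_surjective x
        exact Ideal.Quotient.eq_zero_iff_mem.2 (show a ∈ n.1.asIdeal.comap (algebraMap A B) from (Ideal.Quotient.eq_zero_iff_mem (I := n.1.asIdeal)).1 hx)
      · obtain ⟨x, hx⟩ := hb.2 y
        obtain ⟨a, rfl⟩ := Ideal.Quotient.mk_surjective x
        exact ⟨Ideal.Quotient.mk _ a, hx⟩
    rw [← (LinearEquiv.ofBijective _ hb').finrank_eq, Module.finrank_self]
  rw [h1, Nat.cast_one, one_mul]

end Groth.Agent.S14438
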