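import Groth.Statements.S14440
import Groth.Agent.GradedHilbLib.CI

set_option autoImplicit false
universe u
open ProjDeg

namespace Groth.Agent.S14440

/-- Let k be an algebraically closed field and H_1, …, H_n hypersurfaces in P^n given by homogeneous
polynomials f_1, …, f_n of degrees d_1, …, d_n ≥ 1 in S = k[x_0, …, x_n], meeting in finitely many
points, i.e. S/(f_1, …, f_n) has Krull dimension one. Then the intersection multiplicities of the
H_i at the points of H_1 ∩ ⋯ ∩ H_n add up to d_1 ⋯ d_n; stated here in the form established in the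
proof: the Hilbert function of S/(f_1, …, f_n) is eventually the constant Π d_i, i.e. for all large
m, dim_k S_m − dim_k ((f_1, …, f_n) ∩ S_m) = Π d_i (this constant is the degree of O_{H_1} ⊗ ⋯ ⊗
O_{H_n}, the sum of the lengths of its stalks). -/
theorem result (k : Type u) [Field k] [IsAlgClosed k] (n : ℕ)
    (f : Fin n → MvPolynomial (Fin (n + 1)) k) (d : Fin n → ℕ) (hd : ∀ i, 1 ≤ d i)
    (hf : ∀ i, (f i).IsHomogeneous (d i))
    (hdim : ringKrullDim (MvPolynomial (Fin (n + 1)) k ⧸ Ideal.span (Set.range f)) = 1) :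
    ∃ m₀ : ℕ, ∀ m : ℕ, m₀ ≤ m →
      Module.finrank k ↥(MvPolynomial.homogeneousSubmodule (Fin (n + 1)) k m) -
        Module.finrank k ↥((Ideal.span (Set.range f)).restrictScalars k ⊓ MvPolynomial.homogeneousSubmodule (Fin (n + 1)) k m) =
      ∏ i : Fin n, d i := by
  open GradedHilbLib in
  have hh : (Ideal.span (Set.range f)).IsHomogeneous (CohB1.polyGrading n k) :=
    Ideal.homogeneous_span _ _ (by rintro _ ⟨j, rfl⟩; exact ⟨d j, hf j⟩)
  obtain ⟨N, hN⟩ := Filter.eventually_atTop.1 (isHP_hilb hh)
  refine ⟨N, fun m hm => ?_⟩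
  have h := hN m hm
  rw [hilb_complete_intersection (fun i => hd i) hf hdim.le, Polynomial.eval_C, GradedHilbLib.hf, sub_eq_iff_eq_add] at h
  have h' : Module.finrank k ↥(CohB1.polyGrading n k m) = (∏ i, d i) +
      Module.finrank k ↥(Submodule.restrictScalars k (Ideal.span (Set.range f)) ⊓ CohB1.polyGrading n k m) := by
    exact_mod_cast h
  exact Nat.sub_eq_of_eq_add h'

end Groth.Agent.S14440
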