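import Groth.Statements.S14442


set_option autoImplicit false
universe u
open GrNak

namespace Groth.Agent.S14442

/-- Let R be a commutative ℕ-graded ring with irrelevant ideal R_+ = ⊕_{i>0} R_i, M an ℕ-graded R-module
and N a graded submodule of M (closed under taking homogeneous components). If M = R_+ M + N then N
= M. (The published statement is for finitely generated ℤ-graded modules over a graded quotient of a
polynomial ring, whose degrees are then bounded below; stated here for non-negatively graded modules
over any ℕ-graded commutative ring, where the same lowest-degree argument applies without finite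
generation.) -/
theorem result {R : Type u} [CommRing R] {σ : Type u} [SetLike σ R] [AddSubmonoidClass σ R]
    (𝒜 : ℕ → σ) [GradedRing 𝒜]
    {M : Type u} [AddCommGroup M] [Module R M] {τ : Type u} [SetLike τ M] [AddSubmonoidClass τ M]
    (ℳ : ℕ → τ) [DirectSum.Decomposition ℳ] [SetLike.GradedSMul 𝒜 ℳ]
    (N : Submodule R M) (hN : ∀ x ∈ N, ∀ i : ℕ, (DirectSum.decompose ℳ x i : M) ∈ N)
    (h : (HomogeneousIdeal.irrelevant 𝒜).toIdeal • (⊤ : Submodule R M) ⊔ N = ⊤) :
    N = ⊤ := by
  classical
  suffices key : ∀ i, ∀ x ∈ ℳ i, x ∈ N by
    refine Submodule.eq_top_iff'.2 fun x => ?_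
    rw [← DirectSum.sum_support_decompose ℳ x]
    exact Submodule.sum_mem _ fun i _ => key i _ (SetLike.coe_mem _)
  intro i
  induction i using Nat.strong_induction_on with
  | _ i ih =>
    intro x hx
    have main : ∀ y ∈ (HomogeneousIdeal.irrelevant 𝒜).toIdeal • (⊤ : Submodule R M) ⊔ N,
        ((DirectSum.decompose ℳ y i : M)) ∈ N := by
      intro y hy
      obtain ⟨u, hu, v, hv, rfl⟩ := Submodule.mem_sup.1 hy
      rw [DirectSum.decompose_add, DirectSum.add_apply, AddMemClass.coe_add]
      refine N.add_mem ?_ (hN v hv i)
      refine Submodule.smul_induction_on (p := fun u => (DirectSum.decompose ℳ u i : M) ∈ N) hu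
        (fun a ha m _ => ?_) (fun a b ha hb => ?_)
      rotate_left
      · rw [DirectSum.decompose_add, DirectSum.add_apply, AddMemClass.coe_add]
        exact N.add_mem ha hb
      ·
        rw [← DirectSum.sum_support_decompose 𝒜 a, ← DirectSum.sum_support_decompose ℳ m,
          Finset.sum_smul, DirectSum.decompose_sum, DFinsupp.finset_sum_apply,
          AddSubmonoidClass.coe_finsetSum]
        refine Submodule.sum_mem _ fun j hj => ?_
        rw [Finset.smul_sum, DirectSum.decompose_sum, DFinsupp.finset_sum_apply,
          AddSubmonoidClass.coe_finsetSum]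
        refine Submodule.sum_mem _ fun b _ => ?_
        have hj0 : j ≠ 0 := by
          rintro rfl
          rw [DFinsupp.mem_support_iff] at hj
          exact hj (Subtype.ext ((HomogeneousIdeal.mem_irrelevant_iff 𝒜 a).1 ha))
        have hmem : (DirectSum.decompose 𝒜 a j : R) • (DirectSum.decompose ℳ m b : M) ∈ ℳ (j + b) :=
          SetLike.GradedSMul.smul_mem (A := 𝒜) (B := ℳ) (DirectSum.decompose 𝒜 a j).2
            (DirectSum.decompose ℳ m b).2
        by_cases hji : j + b = i
        · rw [hji] at hmem
          rw [DirectSum.decompose_of_mem_same ℳ hmem]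
          exact N.smul_mem _ (ih b (by omega) _ (SetLike.coe_mem _))
        · rw [DirectSum.decompose_of_mem_ne ℳ hmem hji]
          exact N.zero_mem
    have := main x (by rw [h]; exact Submodule.mem_top)
    rwa [DirectSum.decompose_of_mem_same ℳ hx] at this

end Groth.Agent.S14442
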