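import Groth.Statements.S14443
import Groth.Agent.SmoothPtLib.Scheme
import Groth.Agent.FlatLib.QStalk
import Groth.Agent.FibDimLib.Formula
import Groth.Agent.FibDimLib.ClosureDim
import Groth.Agent.OmegaAffLib.Consequences

set_option autoImplicit false
universe u
open CategoryTheory CategoryTheory.Limits AlgebraicGeometry
attribute [local instance] FixPt.fiberModule
open Variety

namespace Groth.Agent.S14443

open Curv2

open IsLocalRing in
/-- Upper bound for the embedding dimension by any module mapping onto the cotangent space. -/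
theorem ringKrullDim_le_finrank (k B E : Type u) [Field k] [CommRing B] [IsLocalRing B] [IsNoetherianRing B] [Algebra k B]
    [AddCommGroup E] [Module k E] [Module.Finite k E]
    (hres : Function.Bijective (algebraMap k (ResidueField B)))
    (φ : E →ₗ[k] CotangentSpace B) (hφ : Function.Surjective φ) :
    ringKrullDim B ≤ Module.finrank k E := by
  refine (ringKrullDim_le_spanFinrank_maximalIdeal B).trans ?_
  rw [spanFinrank_maximalIdeal_eq_finrank_cotangentSpace]
  have h1 : Module.finrank k (ResidueField B) = 1 :=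
    ((AlgEquiv.ofBijective (Algebra.ofId k (ResidueField B)) hres).toLinearEquiv).finrank_eq.symm.trans
      (Module.finrank_self k)
  haveI : IsScalarTower k (ResidueField B) (CotangentSpace B) := IsScalarTower.of_algebraMap_smul fun c v =>
    (show algebraMap k (ResidueField B) c • v = algebraMap k B c • v from rfl).trans (algebraMap_smul B c v)
  have h2 := Module.finrank_mul_finrank k (ResidueField B) (CotangentSpace B)
  rw [h1, one_mul] at h2
  rw [h2]
  exact_mod_cast LinearMap.finrank_le_finrank_of_surjective hφ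

open IsLocalRing in
/-- The derivation to the cotangent space at a rational point. -/
theorem exists_der (k B : Type u) [Field k] [CommRing B] [IsLocalRing B] [Algebra k B]
    (hres : Function.Bijective (algebraMap k (ResidueField B))) :
    ∃ D : Derivation k B (CotangentSpace B), ∀ m : maximalIdeal B, D m = (maximalIdeal B).toCotangent m := by
  let m := maximalIdeal B
  let E := AlgEquiv.ofBijective (Algebra.ofId k (ResidueField B)) hres
  let π : B →ₐ[k] k := E.symm.toAlgHom.comp (IsScalarTower.toAlgHom k B (ResidueField B))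
  have hπ : ∀ b : B, b - algebraMap k B (π b) ∈ m := fun b => by
    rw [← residue_eq_zero_iff, map_sub, sub_eq_zero]
    show residue B b = residue B (algebraMap k B (π b))
    rw [show residue B (algebraMap k B (π b)) = algebraMap k (ResidueField B) (π b) from
      (IsScalarTower.algebraMap_apply k B (ResidueField B) (π b)).symm]
    exact (E.apply_symm_apply (residue B b)).symm
  let c : B → m.Cotangent := fun b => m.toCotangent ⟨b - algebraMap k B (π b), hπ b⟩
  let Dl : B →ₗ[k] m.Cotangent :=
    { toFun := c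
      map_add' := fun a b => by
        simp only [c, ← map_add]
        congr 1
        ext
        simp only [map_add, Submodule.coe_add]
        ring
      map_smul' := fun r b => by
        rw [RingHom.id_apply, ← algebraMap_smul B r (c b)]
        simp only [c, ← map_smul]
        congr 1
        ext
        simp only [map_smul, SetLike.val_smul, smul_eq_mul, Algebra.smul_def, map_mul, AlgHom.commutes]
        simp only [Algebra.algebraMap_self, RingHom.id_apply]
        ring }
  refine ⟨Derivation.mk' Dl fun a b => ?_, fun x => ?_⟩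
  · show c (a * b) = a • c b + b • c a
    simp only [c, ← map_smul, ← map_add]
    rw [Ideal.toCotangent_eq]
    simp only [map_mul, Submodule.coe_add, SetLike.val_smul, smul_eq_mul]
    rw [show a * b - algebraMap k B (π a) * algebraMap k B (π b) -
      (a * (b - algebraMap k B (π b)) + b * (a - algebraMap k B (π a))) =
      -((a - algebraMap k B (π a)) * (b - algebraMap k B (π b))) by ring, pow_two]
    exact neg_mem (Ideal.mul_mem_mul (hπ a) (hπ b))
  · show m.toCotangent _ = _
    congr 1
    ext
    show (x : B) - algebraMap k B (π x) = x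
    have : π (x : B) = 0 := by
      show E.symm (residue B (x : B)) = 0
      rw [(residue_eq_zero_iff (x : B)).mpr x.2, map_zero]
    rw [this, map_zero, sub_zero]

theorem stalkMap_tower {k : Type u} [Field k] {X Y : Scheme.{u}} [X.Over (Spec (CommRingCat.of k))]
    [Y.Over (Spec (CommRingCat.of k))] (f : X ⟶ Y)
    (hf : f ≫ (Y ↘ Spec (CommRingCat.of k)) = X ↘ Spec (CommRingCat.of k)) (x : X) (c : k) :
    (f.stalkMap x).hom (Curv2.stalkMap k Y (f x) c) = Curv2.stalkMap k X x c := by
  show f.stalkMap x (Y.presheaf.germ ⊤ (f x) trivial _) = X.presheaf.germ ⊤ x trivial _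
  refine (Scheme.Hom.germ_stalkMap_apply f ⊤ x (trivial : f x ∈ (⊤ : Y.Opens)) _).trans ?_
  have : (X ↘ Spec (CommRingCat.of k)).appTop = (Y ↘ Spec (CommRingCat.of k)).appTop ≫ f.appTop := by
    rw [← Scheme.Hom.comp_appTop, hf]
  refine congrArg _ ?_
  show f.appTop _ = (X ↘ Spec (CommRingCat.of k)).appTop _
  rw [this]
  rfl

theorem mem_maximal_map {A B : Type u} [CommRing A] [CommRing B] [IsLocalRing A] [IsLocalRing B] (f : A →+* B)
    [IsLocalHom f] {a : A} (ha : a ∈ IsLocalRing.maximalIdeal A) : f a ∈ IsLocalRing.maximalIdeal B :=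
  fun h => ha (isUnit_of_map_unit f a h)

theorem mem_primeIdealOf_iff {X : Scheme.{u}} {U : X.Opens} (hU : IsAffineOpen U) {z : X} (hz : z ∈ U) (s : Γ(X, U)) :
    s ∈ (hU.primeIdealOf ⟨z, hz⟩).asIdeal ↔ X.residue z (X.presheaf.germ U z hz s) = 0 := by
  letI : Algebra Γ(X, U) (X.presheaf.stalk z) := (X.presheaf.germ U z hz).hom.toAlgebra
  haveI : IsLocalization.AtPrime (X.presheaf.stalk z) (hU.primeIdealOf ⟨z, hz⟩).asIdeal :=
    hU.isLocalization_stalk ⟨z, hz⟩
  exact (IsLocalization.AtPrime.to_map_mem_maximal_iff (X.presheaf.stalk z) _ s).symm.trans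
    (IsLocalRing.residue_eq_zero_iff _).symm

/-- Let k be an algebraically closed field, f : X → Y a morphism of k-schemes of finite type, x a closed
point of X and Z an irreducible closed subset of the fibre f⁻¹(f(x)) passing through x, of dimension
r. Then dim_k (Ω_{X/Y})_(x) ≥ r, where (Ω_{X/Y})_(x) = Ω_{X/Y,x} ⊗ k(x) is the fibre of the sheaf of
relative differentials at x, a vector space over k(x) = k (x is closed and k algebraically closed),
regarded as a k-module through k → O_{X,x}. (The published statement is for varieties, i.e. X and Y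
reduced and separated; this row assumes neither. Since X is locally of finite type over a field it
is locally Noetherian, so f is quasi-separated; the argument, T_x Z ⊆ ker(df_x) and dim T_x Z ≥ dim
Z, uses neither reducedness nor separatedness.) -/
theorem result (k : Type u) [Field k] [IsAlgClosed k]
    {X Y : Scheme.{u}} [X.Over (Spec (CommRingCat.of k))] [Y.Over (Spec (CommRingCat.of k))]
    [LocallyOfFiniteType (X ↘ Spec (CommRingCat.of k))] [QuasiCompact (X ↘ Spec (CommRingCat.of k))]
    [LocallyOfFiniteType (Y ↘ Spec (CommRingCat.of k))] [QuasiCompact (Y ↘ Spec (CommRingCat.of k))]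
    (f : X ⟶ Y) (hf : f ≫ (Y ↘ Spec (CommRingCat.of k)) = X ↘ Spec (CommRingCat.of k))
    (x : X) (hx : IsClosed ({x} : Set X)) (Z : Set X) (hZ : IsIrreducible Z) (hZc : IsClosed Z) (hxZ : x ∈ Z)
    (hZf : Z ⊆ f.base ⁻¹' {f.base x}) (r : ℕ) (hr : topologicalKrullDim ↥Z = (r : WithBot ℕ∞)) :
    r ≤ Module.finrank k (FixPt.fiber (Omega.sheaf f) x) := by
  classical
  let m := IsLocalRing.maximalIdeal (X.presheaf.stalk x)
  letI := FixPt.fiberModule k X (Omega.sheaf f) x
  haveI : LocallyOfFiniteType (f ≫ (Y ↘ Spec (CommRingCat.of k))) := by rw [hf]; infer_instance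
  haveI : LocallyOfFiniteType f := locallyOfFiniteType_of_comp f (Y ↘ Spec (CommRingCat.of k))
  haveI : IsLocallyNoetherian X := LocallyOfFiniteType.isLocallyNoetherian (X ↘ Spec (CommRingCat.of k))
  haveI : JacobsonSpace Y := LocallyOfFiniteType.jacobsonSpace (Y ↘ Spec (CommRingCat.of k))
  have hy : IsClosed ({f x} : Set Y) := f.closePoints_subset_preimage_closedPoints hx
  let hd := OmegaAffLib.isUniversal_dOmega (f := f)
  haveI : Coh.IsQCoh (Omega.sheaf f) := OmegaAffLib.isQCoh_of_isUniversal hd
  obtain ⟨V, hV, hxV, -⟩ := exists_isAffineOpen_mem_and_subset (show f x ∈ (⊤ : Y.Opens) from trivial)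
  obtain ⟨U, hU, hxU, hUV⟩ := exists_isAffineOpen_mem_and_subset (show x ∈ f ⁻¹ᵁ V from hxV)
  have e₁ : U ≤ f ⁻¹ᵁ V := hUV
  let R := Γ(Y, V)
  let S := Γ(X, U)
  let A := X.presheaf.stalk x
  let M := Omega.sheaf f
  letI : Algebra R S := (f.appLE V U e₁).hom.toAlgebra
  letI : Algebra S A := (X.presheaf.germ U x hxU).hom.toAlgebra
  haveI hlocA : IsLocalization.AtPrime A (hU.primeIdealOf ⟨x, hxU⟩).asIdeal := hU.isLocalization_stalk ⟨x, hxU⟩
  letI : Algebra k A := Curv2.stalkAlgebra k X x
  let I : Ideal A := (IsLocalRing.maximalIdeal (Y.presheaf.stalk (f x))).map (f.stalkMap x).hom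
  have hIm : I ≤ IsLocalRing.maximalIdeal A := Ideal.map_le_iff_le_comap.mpr fun b hb =>
    mem_maximal_map (f.stalkMap x).hom hb
  let B := A ⧸ I
  haveI : Nontrivial B := Ideal.Quotient.nontrivial_iff.mpr
    fun h => IsLocalRing.maximalIdeal.isMaximal A |>.ne_top (top_le_iff.mp (h ▸ hIm))
  haveI : IsLocalRing B := IsLocalRing.of_surjective' (Ideal.Quotient.mk I) Ideal.Quotient.mk_surjective
  haveI : IsLocalHom (Ideal.Quotient.mk I) := IsLocalHom.of_surjective _ Ideal.Quotient.mk_surjective
  have hresA : Function.Bijective (algebraMap k (IsLocalRing.ResidueField A)) := SmoothPtLib.bijective_residue hx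
  have hresB : Function.Bijective (algebraMap k (IsLocalRing.ResidueField B)) := by
    refine ⟨(algebraMap k _).injective, fun z => ?_⟩
    obtain ⟨b, rfl⟩ := IsLocalRing.residue_surjective z
    obtain ⟨a, rfl⟩ := Ideal.Quotient.mk_surjective b
    obtain ⟨c, hc⟩ := hresA.2 (IsLocalRing.residue A a)
    refine ⟨c, ?_⟩
    have h : a - algebraMap k A c ∈ IsLocalRing.maximalIdeal A := by
      rw [← IsLocalRing.residue_eq_zero_iff, map_sub, sub_eq_zero]
      exact hc.symm
    show IsLocalRing.residue B (Ideal.Quotient.mk I (algebraMap k A c)) = IsLocalRing.residue B (Ideal.Quotient.mk I a)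
    rw [← sub_eq_zero, ← map_sub, IsLocalRing.residue_eq_zero_iff, ← map_sub]
    refine mem_maximal_map (Ideal.Quotient.mk I) ?_
    rw [← neg_sub]
    exact neg_mem h
  obtain ⟨D, hD⟩ := exists_der k B hresB
  let C := IsLocalRing.CotangentSpace B
  letI : Algebra R A := ((algebraMap S A).comp (algebraMap R S)).toAlgebra
  haveI : IsScalarTower R S A := IsScalarTower.of_algebraMap_eq fun _ => rfl
  haveI : IsScalarTower S A C := IsScalarTower.of_algebraMap_smul fun a v =>
    ((algebraMap_smul B (algebraMap S A a) v).symm.trans (algebraMap_smul B a v) :)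
  haveI : IsScalarTower R S C := IsScalarTower.of_algebraMap_smul fun a v =>
    ((algebraMap_smul B (algebraMap R S a) v).symm.trans (algebraMap_smul B a v) :)
  let J : S →+* B := (Ideal.Quotient.mk I).comp (algebraMap S A)
  have hconst : ∀ a : R, D (J (algebraMap R S a)) = 0 := by
    intro a
    obtain ⟨c, hc⟩ := (SmoothPtLib.bijective_residue (k := k) (X := Y) hy).2
      (IsLocalRing.residue (Y.presheaf.stalk (f x)) (Y.presheaf.germ V (f x) hxV a))
    have h1 : Y.presheaf.germ V (f x) hxV a - Curv2.stalkMap k Y (f x) c ∈ IsLocalRing.maximalIdeal _ := by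
      rw [← IsLocalRing.residue_eq_zero_iff, map_sub, sub_eq_zero]
      exact hc.symm
    have h2 := Ideal.mem_map_of_mem (f.stalkMap x).hom h1
    rw [map_sub, stalkMap_tower f hf x c] at h2
    have h3 : J (algebraMap R S a) = algebraMap k B c := by
      show Ideal.Quotient.mk I (X.presheaf.germ U x hxU (f.appLE V U e₁ a)) = Ideal.Quotient.mk I (algebraMap k A c)
      rw [Ideal.Quotient.mk_eq_mk_iff_sub_mem]
      have : X.presheaf.germ U x hxU (f.appLE V U e₁ a) = (f.stalkMap x).hom (Y.presheaf.germ V (f x) hxV a) :=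
        (X.presheaf.germ_res_apply (homOfLE e₁) x hxU _).trans (Scheme.Hom.germ_stalkMap_apply f V x hxV a).symm
      rw [this]
      exact h2
    rw [h3]
    exact D.map_algebraMap c
  let δ : Derivation R S C := Derivation.mk'
    { toFun := fun s => D (J s)
      map_add' := fun a b => by rw [map_add, map_add]
      map_smul' := fun a s => by
        show D (J (a • s)) = J (algebraMap R S a) • D (J s)
        rw [Algebra.smul_def, map_mul, D.leibniz, hconst, smul_zero, add_zero] }
    fun a b => by
      show D (J (a * b)) = J a • D (J b) + J b • D (J a)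
      rw [map_mul, D.leibniz]
  obtain ⟨e, he⟩ := OmegaAffLib.exists_equiv hd hV hU e₁
  letI : Module S (M.presheaf.stalk x) := Module.compHom _ (X.presheaf.germ U x hxU).hom
  haveI : IsScalarTower S A (M.presheaf.stalk x) := IsScalarTower.of_algebraMap_smul fun _ _ => rfl
  haveI hlocM := FlatLib.isLocalizedModule_germLin M hU hxU
  let L : Γ(M, U) →ₗ[S] C := δ.liftKaehlerDifferential ∘ₗ e.symm.toLinearMap
  have hunit : ∀ t : (hU.primeIdealOf ⟨x, hxU⟩).asIdeal.primeCompl,
      IsUnit (algebraMap S (Module.End S C) t) := fun t => by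
    obtain ⟨v, hv⟩ := (IsLocalization.map_units A t).map (Ideal.Quotient.mk I)
    refine (Module.End.isUnit_iff _).mpr ⟨fun a b h => ?_, fun a => ⟨(↑v⁻¹ : B) • a, ?_⟩⟩
    · replace h : Ideal.Quotient.mk I (algebraMap S A t) • a = Ideal.Quotient.mk I (algebraMap S A t) • b := h
      rw [← hv] at h
      exact (v.isUnit.smul_left_cancel).mp h
    · show Ideal.Quotient.mk I (algebraMap S A t) • (↑v⁻¹ : B) • a = a
      rw [← hv, ← mul_smul, Units.mul_inv, one_smul]
  let ψS := IsLocalizedModule.lift (hU.primeIdealOf ⟨x, hxU⟩).asIdeal.primeCompl (FlatLib.germLin M hxU) L hunit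
  let ψ : M.presheaf.stalk x →ₗ[A] C :=
    ψS.extendScalarsOfIsLocalization (hU.primeIdealOf ⟨x, hxU⟩).asIdeal.primeCompl A
  have hψg : ∀ w : Γ(M, U), ψ (M.presheaf.germ U x hxU w) = L w := fun w =>
    IsLocalizedModule.lift_apply _ (FlatLib.germLin M hxU) L hunit w
  have hkill : ∀ a ∈ IsLocalRing.maximalIdeal A, ∀ v : C, a • v = 0 := fun a ha v => by
    have hb : Ideal.Quotient.mk I a ∈ IsLocalRing.maximalIdeal B := mem_maximal_map _ ha
    obtain ⟨y, rfl⟩ := Ideal.toCotangent_surjective _ v
    show Ideal.Quotient.mk I a • (IsLocalRing.maximalIdeal B).toCotangent y = 0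
    rw [← map_smul, Ideal.toCotangent_eq_zero, SetLike.val_smul, smul_eq_mul, pow_two]
    exact Ideal.mul_mem_mul hb y.2
  let ψ₁ : FixPt.fiber M x →ₗ[A] C := Submodule.liftQ _ ψ (Submodule.smul_le.mpr fun a ha w _ => by
    rw [LinearMap.mem_ker, map_smul]
    exact hkill a ha _)
  let φ : FixPt.fiber M x →ₗ[k] C :=
    { toFun := ψ₁
      map_add' := map_add _
      map_smul' := fun c v => by
        show ψ₁ (Curv2.stalkMap k X x c • v) = c • ψ₁ v
        rw [map_smul, ← algebraMap_smul B c (ψ₁ v)]
        rfl }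
  have hφ : Function.Surjective φ := fun v => by
    obtain ⟨⟨b, hb⟩, rfl⟩ := Ideal.toCotangent_surjective _ v
    obtain ⟨a, rfl⟩ := Ideal.Quotient.mk_surjective b
    obtain ⟨⟨s, t⟩, hst⟩ := IsLocalization.surj (hU.primeIdealOf ⟨x, hxU⟩).asIdeal.primeCompl a
    obtain ⟨u, hu⟩ := IsLocalization.map_units A t
    have hs : J s ∈ IsLocalRing.maximalIdeal B := by
      show Ideal.Quotient.mk I (algebraMap S A s) ∈ _
      rw [← hst, map_mul]
      exact Ideal.mul_mem_right _ _ hb
    refine ⟨(↑u⁻¹ : A) • Submodule.Quotient.mk (M.presheaf.germ U x hxU (e (KaehlerDifferential.D R S s))), ?_⟩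
    show ψ₁ ((↑u⁻¹ : A) • Submodule.Quotient.mk _) = _
    rw [map_smul, show ψ₁ (Submodule.Quotient.mk (M.presheaf.germ U x hxU (e (KaehlerDifferential.D R S s)))) =
        ψ (M.presheaf.germ U x hxU (e (KaehlerDifferential.D R S s))) from rfl, hψg,
      show L (e (KaehlerDifferential.D R S s)) = δ.liftKaehlerDifferential (e.symm (e (KaehlerDifferential.D R S s))) from rfl,
      LinearEquiv.symm_apply_apply, Derivation.liftKaehlerDifferential_comp_D,
      show δ s = D (J s) from rfl, show D (J s) = (IsLocalRing.maximalIdeal B).toCotangent ⟨J s, hs⟩ from hD ⟨J s, hs⟩]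
    show Ideal.Quotient.mk I (↑u⁻¹ : A) • (IsLocalRing.maximalIdeal B).toCotangent ⟨J s, hs⟩ = _
    rw [← map_smul]
    congr 1
    ext
    show Ideal.Quotient.mk I (↑u⁻¹ : A) * Ideal.Quotient.mk I (algebraMap S A s) = Ideal.Quotient.mk I a
    rw [← map_mul, ← hst, ← hu, mul_left_comm, Units.inv_mul, mul_one]
  haveI : Algebra.FiniteType R S := f.finiteType_appLE hV hU e₁
  haveI : Module.Finite S Γ(M, U) := Module.Finite.equiv e
  haveI hfin : Module.Finite k (FixPt.fiber M x) := by
    obtain ⟨G, hG⟩ := Module.finite_def.mp ‹Module.Finite S Γ(M, U)›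
    let g : ↥(G : Set Γ(M, U)) → FixPt.fiber M x := fun w => Submodule.Quotient.mk (M.presheaf.germ U x hxU w.1)
    suffices h : Submodule.span k (Set.range g) = ⊤ by
      refine Module.finite_def.mpr ?_
      rw [← h]
      exact Submodule.fg_span (Set.finite_range g)
    refine eq_top_iff.mpr fun v _ => ?_
    let P := Submodule.span k (Set.range g)
    have hsm : ∀ (a : A), ∀ v ∈ P, a • v ∈ P := by
      intro a v hv
      obtain ⟨c, hc⟩ := hresA.2 (IsLocalRing.residue A a)
      have h : a - algebraMap k A c ∈ IsLocalRing.maximalIdeal A := by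
        rw [← IsLocalRing.residue_eq_zero_iff, map_sub, sub_eq_zero]
        exact hc.symm
      have h0 : (a - algebraMap k A c) • v = 0 := by
        obtain ⟨w, rfl⟩ := Submodule.Quotient.mk_surjective _ v
        rw [← Submodule.Quotient.mk_smul, Submodule.Quotient.mk_eq_zero]
        exact Submodule.smul_mem_smul h trivial
      rw [sub_smul, sub_eq_zero] at h0
      rw [h0]
      exact P.smul_mem c hv
    have hgerm : ∀ w : Γ(M, U), (Submodule.Quotient.mk (M.presheaf.germ U x hxU w) : FixPt.fiber M x) ∈ P := by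
      intro w
      have hw : w ∈ Submodule.span S (G : Set Γ(M, U)) := by rw [hG]; trivial
      induction hw using Submodule.span_induction with
      | mem y hy => exact Submodule.subset_span ⟨⟨y, hy⟩, rfl⟩
      | zero => rw [map_zero]; exact P.zero_mem
      | add y z _ _ hy hz => rw [map_add]; exact P.add_mem hy hz
      | smul a y _ hy =>
        rw [FlatLib.germ_smul_mod, Submodule.Quotient.mk_smul]
        exact hsm _ _ hy
    obtain ⟨w, rfl⟩ := Submodule.Quotient.mk_surjective _ v
    obtain ⟨⟨w', t⟩, hw⟩ := hlocM.surj w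
    obtain ⟨u, hu⟩ := IsLocalization.map_units A t
    have hw2 : w = (↑u⁻¹ : A) • M.presheaf.germ U x hxU w' := by
      rw [show M.presheaf.germ U x hxU w' = algebraMap S A t • w from hw.symm, ← hu, ← mul_smul, Units.inv_mul, one_smul]
    rw [hw2, Submodule.Quotient.mk_smul]
    exact hsm _ _ (hgerm w')
  -- the dimension of the fibre at the point
  obtain ⟨ζ, hζ⟩ := QuasiSober.sober hZ hZc
  have hζx : ζ ⤳ x := hζ.specializes hxZ
  have hζU : ζ ∈ U := hζx.mem_open U.2 hxU
  have hfζ : f ζ = f x := hZf hζ.mem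
  letI : Algebra k S := ((Scheme.ΓSpecIso (CommRingCat.of k)).inv ≫
    (X ↘ Spec (CommRingCat.of k)).appLE ⊤ U le_top).hom.toAlgebra
  haveI : Algebra.FiniteType k S :=
    RingHom.FiniteType.comp ((X ↘ Spec (CommRingCat.of k)).finiteType_appLE (isAffineOpen_top _) hU le_top)
      (RingHom.FiniteType.of_surjective _
        (ConcreteCategory.bijective_of_isIso (Scheme.ΓSpecIso (CommRingCat.of k)).inv).2)
  let P := (hU.primeIdealOf ⟨ζ, hζU⟩).asIdeal
  let p := (hU.primeIdealOf ⟨x, hxU⟩).asIdeal
  have hPp : P ≤ p := (UOpenLib.primeIdealOf_le_iff hU hζU hxU).mpr hζx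
  haveI hpq : (p.map (Ideal.Quotient.mk P)).IsPrime :=
    Ideal.map_isPrime_of_surjective Ideal.Quotient.mk_surjective (by rw [Ideal.mk_ker]; exact hPp)
  let pb := p.map (Ideal.Quotient.mk P)
  have hcm : pb.comap (Ideal.Quotient.mk P) = p := by
    rw [Ideal.comap_map_of_surjective' _ Ideal.Quotient.mk_surjective, Ideal.mk_ker, sup_eq_left]; exact hPp
  have hdimx : ringKrullDim (S ⧸ p) = 0 := by
    rw [← FibDimLib.topologicalKrullDim_closure_eq_affine (X ↘ Spec (CommRingCat.of k)) hU hxU, hx.closure_eq]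
    haveI : Nonempty (TopologicalSpace.IrreducibleCloseds ({x} : Set X)) :=
      ⟨⟨Set.univ, ⟨⟨⟨x, rfl⟩, trivial⟩, fun a b _ _ ⟨p, _, hp⟩ ⟨q, _, hq⟩ =>
        ⟨p, trivial, hp, Subsingleton.elim q p ▸ hq⟩⟩, isClosed_univ⟩⟩
    exact le_antisymm (topologicalKrullDim_zero_of_discreteTopology _) Order.krullDim_nonneg
  have hr' : ringKrullDim (S ⧸ P) = (r : WithBot ℕ∞) := by
    rw [← FibDimLib.topologicalKrullDim_closure_eq_affine (X ↘ Spec (CommRingCat.of k)) hU hζU, hζ.def, hr]
  have hht : (pb.height : WithBot ℕ∞) = r := by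
    have h := FibDimLib.ringKrullDim_quotient_add_height_affine k (S ⧸ P) pb
    rw [CatLib.ringKrullDim_quotient_quotient_map hPp, hdimx, zero_add, hr'] at h
    exact h
  let Loc := Localization.AtPrime pb
  have hgu : ∀ t : p.primeCompl, IsUnit (((algebraMap (S ⧸ P) Loc).comp (Ideal.Quotient.mk P)) t) := fun t =>
    IsLocalization.map_units (M := pb.primeCompl) Loc
      ⟨Ideal.Quotient.mk P t, fun h => t.2 (hcm.le (Ideal.mem_comap.mpr h))⟩
  let g : A →+* Loc := IsLocalization.lift (M := p.primeCompl) hgu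
  have hgg : ∀ s, g (algebraMap S A s) = algebraMap (S ⧸ P) Loc (Ideal.Quotient.mk P s) :=
    fun s => IsLocalization.lift_eq (M := p.primeCompl) hgu s
  have hgs : Function.Surjective g := fun z => by
    obtain ⟨⟨a, t⟩, h⟩ := IsLocalization.surj pb.primeCompl z
    obtain ⟨a', rfl⟩ := Ideal.Quotient.mk_surjective a
    obtain ⟨t', ht'⟩ := Ideal.Quotient.mk_surjective t.1
    have ht : t' ∈ p.primeCompl := fun hm => t.2 (ht' ▸ Ideal.mem_map_of_mem _ hm)
    obtain ⟨u, hu⟩ := IsLocalization.map_units A (⟨t', ht⟩ : p.primeCompl)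
    have h' : z * algebraMap (S ⧸ P) Loc t = algebraMap (S ⧸ P) Loc (Ideal.Quotient.mk P a') := h
    have htg : g (u : A) = algebraMap (S ⧸ P) Loc t := by
      rw [hu]
      exact (hgg t').trans (congrArg _ ht')
    refine ⟨algebraMap S A a' * ↑u⁻¹, ?_⟩
    rw [map_mul, hgg, ← h', ← htg, mul_assoc, ← map_mul, Units.mul_inv, map_one, mul_one]
  let ε : A →+* X.residueField ζ := (X.presheaf.stalkSpecializes hζx ≫ X.residue ζ).hom
  have hIε : ∀ a ∈ I, ε a = 0 := by
    intro a ha
    refine (Ideal.map_le_iff_le_comap (K := RingHom.ker ε)).mpr (fun b hb => ?_) ha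
    show X.residue ζ (X.presheaf.stalkSpecializes hζx (f.stalkMap x b)) = 0
    rw [show X.presheaf.stalkSpecializes hζx (f.stalkMap x b) =
        f.stalkMap ζ (Y.presheaf.stalkSpecializes (hζx.map f.continuous) b) from
      (congr($(Scheme.Hom.stalkSpecializes_stalkMap f ζ x hζx) b)).symm]
    refine (IsLocalRing.residue_eq_zero_iff _).mpr (mem_maximal_map (f.stalkMap ζ).hom ?_)
    intro hu
    have h2 := hu.map (Y.presheaf.stalkSpecializes (specializes_of_eq hfζ.symm)).hom
    rw [← CommRingCat.comp_apply, TopCat.Presheaf.stalkSpecializes_comp, TopCat.Presheaf.stalkSpecializes_refl] at h2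
    exact hb h2
  have hIg : ∀ a ∈ I, g a = 0 := by
    intro a ha
    obtain ⟨⟨s, t⟩, hst⟩ := IsLocalization.surj p.primeCompl a
    have hs : s ∈ P := by
      rw [mem_primeIdealOf_iff hU hζU]
      have h : ε (algebraMap S A s) = 0 := by rw [← hst, map_mul, hIε a ha, zero_mul]
      have h' : X.residue ζ (X.presheaf.stalkSpecializes hζx (X.presheaf.germ U x hxU s)) = 0 := h
      rwa [TopCat.Presheaf.germ_stalkSpecializes_apply] at h'
    have h := congrArg g hst
    rw [map_mul, hgg, hgg, Ideal.Quotient.eq_zero_iff_mem.mpr hs, map_zero] at h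
    exact ((IsLocalization.map_units (M := pb.primeCompl) Loc
      ⟨Ideal.Quotient.mk P t, fun h => t.2 (hcm.le (Ideal.mem_comap.mpr h))⟩).mul_left_eq_zero).mp h
  have hdim : (r : WithBot ℕ∞) ≤ ringKrullDim B := by
    rw [← hht, ← IsLocalization.AtPrime.ringKrullDim_eq_height pb Loc]
    exact ringKrullDim_le_of_surjective (Ideal.Quotient.lift I g hIg)
      (Ideal.Quotient.lift_surjective_of_surjective I hIg hgs)
  exact_mod_cast hdim.trans (ringKrullDim_le_finrank k B (FixPt.fiber M x) hresB φ hφ)

end Groth.Agent.S14443
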