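import Groth.Statements.S14445
import Mathlib
import Groth.Agent.TorsFpqcLib.Criterion
-- import your own Groth.Agent.* helpers here

set_option autoImplicit false
set_option backward.isDefEq.respectTransparency false
universe u
open NonAbH1

namespace Groth.Agent.S14445

open CategoryTheory MonoidalCategory CartesianMonoidalCategory AlgebraicGeometry in
/-- Let S be a scheme, G a group scheme over S and X an S-scheme with an action of G. Then X is a
G-torsor for the fpqc topology — the morphism G ×_S X → X ×_S X, (g, x) ↦ (gx, x), is an isomorphism
and X → S acquires sections over the members of some fpqc covering family of S — if and only if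
there are an fpqc covering family of S and, for each member S' → S, an S-morphism s : S' → X for
which the G-equivariant S'-morphism G ×_S S' → X ×_S S', (g, t) ↦ (g·s(t), t), is an isomorphism; in
words, X becomes equivariantly isomorphic to the trivial torsor over each member of the covering.
(The published statement is set in any subcanonical site with fibre products, for an invariant arrow
X → Y; this row is its instance for schemes over S with the fpqc topology and Y = S.) -/
theorem result {S : Scheme.{u}} {G X : Over S} [GrpObj G]
    (a : AlgGrp.Action G X) :
    NonAbH1.IsTorsorFor Scheme.fpqcPrecoverage a ↔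
      ∃ R ∈ Scheme.fpqcPrecoverage S, ∀ ⦃S' : Scheme.{u}⦄ (f : S' ⟶ S), R f →
        ∃ s : Over.mk f ⟶ X, IsIso (lift ((G ◁ s) ≫ a.act) (snd G (Over.mk f))) := by
  refine ⟨fun h => ?_, fun ⟨R, hR, hh⟩ => Groth.Agent.TorsFpqc.isTorsorFor_of_trivialised a hR hh⟩
  obtain ⟨R, hR, hsec⟩ := h.2
  refine ⟨R, hR, fun S' f hf => ?_⟩
  obtain ⟨t, ht⟩ := hsec f hf
  exact ⟨Over.homMk t ht, TorsExtLib.isIso_orb a h.1 _⟩

end Groth.Agent.S14445
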