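import Groth.Statements.S14447
import Mathlib
-- import your own Groth.Agent.* helpers here

set_option autoImplicit false
universe w v u
open AlgGrp

namespace Groth.Agent.S14447

open CategoryTheory CategoryTheory.Limits in
/-- Let C be a category with finite products and with all coproducts indexed by sets, and assume that
for every set I and every object U the canonical arrow ∐_{i∈I} U → (∐_{i∈I} pt) × U, whose i-th
component pairs U → pt → ∐_{i∈I} pt (i-th coprojection) with the identity of U, is an isomorphism.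
Then the discrete-object functor from sets to C, I ↦ ∐_{i∈I} pt, preserves finite products. (Sets
are the types of one fixed universe, the one indexing the coproducts. The published statement asks
only for the coproducts of copies of one object; this row assumes that C has all coproducts indexed
by sets, which Mathlib's discrete-object functor sigmaConst requires.) -/
theorem result {C : Type u} [Category.{v} C]
    [HasFiniteProducts C] [HasCoproducts.{w} C]
    (h : ∀ (I : Type w) (U : C), IsIso (Sigma.desc fun i : I =>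
      prod.lift (terminal.from U ≫ Sigma.ι (fun _ : I => ⊤_ C) i) (𝟙 U))) :
    PreservesFiniteProducts (sigmaConst.{w}.obj (⊤_ C)) := by
  classical
  let F := sigmaConst.{w}.obj (⊤_ C)
  have hterm : PreservesLimit (Functor.empty.{0} (Type w)) F := by
    refine preservesLimit_of_preserves_limit_cone Types.isTerminalPUnit ?_
    refine (isLimitMapConeEmptyConeEquiv F PUnit).symm ?_
    refine IsTerminal.ofIso (terminalIsTerminal (C := C)) ?_
    exact ⟨Sigma.ι (fun _ : PUnit.{w+1} => ⊤_ C) PUnit.unit, Sigma.desc fun _ => 𝟙 _, Sigma.ι_desc _ _,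
      Sigma.hom_ext _ _ fun b => by cases b; simp [F, sigmaConst]⟩
  have hpair : ∀ I J : Type w, PreservesLimit (pair I J) F := fun I J => by
    refine preservesLimit_of_preserves_limit_cone (Types.binaryProductLimit I J) ?_
    refine (isLimitMapConeBinaryFanEquiv F _ _).symm ?_
    let Ψ : (∐ fun _ : I => F.obj J) ⟶ F.obj (I × J) :=
      Sigma.desc fun i => Sigma.desc fun j => Sigma.ι (fun _ : I × J => ⊤_ C) (i, j)
    let Ψ' : F.obj (I × J) ⟶ ∐ fun _ : I => F.obj J :=
      Sigma.desc fun p => Sigma.ι (fun _ : J => ⊤_ C) p.2 ≫ Sigma.ι (fun _ : I => F.obj J) p.1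
    haveI : IsIso Ψ' := ⟨Ψ, Sigma.hom_ext _ _ fun p => by simp [Ψ, Ψ']; exact (Category.comp_id _).symm,
      Sigma.hom_ext _ _ fun i => Sigma.hom_ext _ _ fun j => by simp [Ψ, Ψ']⟩
    haveI := h I (F.obj J)
    let θ : F.obj (I × J) ⟶ F.obj I ⨯ F.obj J := Ψ' ≫ Sigma.desc fun i : I =>
      prod.lift (terminal.from (F.obj J) ≫ Sigma.ι (fun _ : I => ⊤_ C) i) (𝟙 (F.obj J))
    haveI : IsIso θ := inferInstanceAs (IsIso (Ψ' ≫ _))
    refine IsLimit.ofIsoLimit (prodIsProd (F.obj I) (F.obj J)) (BinaryFan.ext (asIso θ).symm ?_ ?_)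
    · show prod.fst = inv θ ≫ F.map (↾_root_.Prod.fst : (I × J : Type w) ⟶ I)
      rw [IsIso.eq_inv_comp]
      refine Sigma.hom_ext _ _ fun p => ?_
      simp [θ, Ψ', F, sigmaConst]
      rw [prod.lift_fst, ← Category.assoc, Subsingleton.elim (Sigma.ι (fun _ : J => ⊤_ C) p.2 ≫ terminal.from _) (𝟙 (⊤_ C)),
        Category.id_comp]
    · show prod.snd = inv θ ≫ F.map (↾_root_.Prod.snd : (I × J : Type w) ⟶ J)
      rw [IsIso.eq_inv_comp]
      refine Sigma.hom_ext _ _ fun p => ?_
      simp [θ, Ψ', F, sigmaConst]
      rw [prod.lift_snd, Category.comp_id]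
  haveI : PreservesLimitsOfShape (Discrete WalkingPair) F :=
    ⟨fun {K} => @preservesLimit_of_iso_diagram _ _ _ _ _ _ _ _ F (diagramIsoPair K).symm (hpair _ _)⟩
  haveI : PreservesLimitsOfShape (Discrete.{0} PEmpty) F :=
    ⟨fun {K} => @preservesLimit_of_iso_diagram _ _ _ _ _ _ _ _ F (Functor.uniqueFromEmpty K).symm hterm⟩
  exact PreservesFiniteProducts.of_preserves_binary_and_terminal F

end Groth.Agent.S14447
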