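import Groth.Statements.S14452
import Groth.Agent.EtSliceLib.MV
import Groth.Agent.NoethApproxLib.Glue

set_option maxHeartbeats 1000000
set_option linter.unusedSectionVars false
set_option backward.isDefEq.respectTransparency false
set_option backward.isDefEq.respectTransparency.types false

set_option autoImplicit false
universe u
open CategoryTheory CategoryTheory.Limits AlgebraicGeometry Opposite
open EtCore

namespace Groth.Agent.S14452

/-- Let X be a scheme and F an abelian sheaf on the small étale site of X such that H^q(W, F|_W) = 0 for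
every étale X-scheme W and every q > 0 (F|_W the pullback of F along the structure morphism of W).
Then for every morphism g : V ⟶ U of étale X-schemes which is an open immersion, the restriction map
F(U) → F(V) is surjective. -/
theorem result {X : Scheme.{u}}
    (F : EtCoh.Ab X)
    (hF : ∀ (W : X.Etale) (q : ℕ), 0 < q → Subsingleton (EtCoh.H W.left ((EtCoh.pull W.hom).obj F) q))
    {U V : X.Etale} (g : V ⟶ U) [IsOpenImmersion g.left] :
    Function.Surjective (F.obj.map g.op).hom := by
  haveI : AlgebraicGeometry.Etale U.hom := U.prop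
  let p : pushout g.left g.left ⟶ X := pushout.desc U.hom U.hom rfl
  haveI : IsOpenImmersion (pushout.inl g.left g.left) := NoethApproxLib.isOpenImmersion_inl _ _
  haveI : IsOpenImmersion (pushout.inr g.left g.left) := NoethApproxLib.isOpenImmersion_inr _ _
  haveI : AlgebraicGeometry.Etale p := by
    let 𝒰 : (pushout g.left g.left).OpenCover := Scheme.Cover.mkOfCovers (ULift.{u} Bool) (fun _ => U.left)
      (fun k => cond k.down (pushout.inl g.left g.left) (pushout.inr g.left g.left))
      (fun x => by
        rcases NoethApproxLib.glue_cases g.left g.left x with ⟨y, hy⟩ | ⟨y, hy⟩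
        · exact ⟨⟨true⟩, y, hy⟩
        · exact ⟨⟨false⟩, y, hy⟩)
      (fun k => by
        rcases k with ⟨_ | _⟩
        · exact NoethApproxLib.isOpenImmersion_inr _ _
        · exact NoethApproxLib.isOpenImmersion_inl _ _)
    refine IsZariskiLocalAtSource.of_openCover (P := @AlgebraicGeometry.Etale) 𝒰 fun k => ?_
    rcases k with ⟨_ | _⟩
    · show AlgebraicGeometry.Etale (pushout.inr g.left g.left ≫ p)
      rw [pushout.inr_desc]; infer_instance
    · show AlgebraicGeometry.Etale (pushout.inl g.left g.left ≫ p)
      rw [pushout.inl_desc]; infer_instance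
  let Y : X.Etale := Scheme.Etale.mk p
  let a : U ⟶ Y := MorphismProperty.Over.homMk (pushout.inl g.left g.left) (pushout.inl_desc _ _ _)
  let b : U ⟶ Y := MorphismProperty.Over.homMk (pushout.inr g.left g.left) (pushout.inr_desc _ _ _)
  haveI : IsOpenImmersion a.left := NoethApproxLib.isOpenImmersion_inl _ _
  haveI : IsOpenImmersion b.left := NoethApproxLib.isOpenImmersion_inr _ _
  have w : g ≫ a = g ≫ b := MorphismProperty.Over.Hom.ext pushout.condition
  have hS := EtSliceLib.mvFree_shortExact g g a b w
    (Set.eq_univ_of_forall fun x => NoethApproxLib.glue_cases g.left g.left x) (by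
      rintro _ ⟨⟨x, rfl⟩, y, hy⟩
      obtain ⟨v, hv, -⟩ := (NoethApproxLib.inl_eq_inr_iff g.left g.left x y).1 hy.symm
      exact ⟨v, congrArg a.left hv⟩)
  intro t
  have h0 : hS.extClass.comp (Abelian.Ext.mk₀ (EtSliceLib.desc V t)) (add_zero 1) = 0 := by
    haveI := hF Y 1 one_pos
    exact (EtSliceLib.psi_bijective Y 1 F).1 (Subsingleton.elim _ _)
  obtain ⟨y, hy⟩ := Abelian.Ext.contravariant_sequence_exact₁ hS F _ (add_zero 1) h0
  obtain ⟨m, rfl⟩ := (Abelian.Ext.mk₀_bijective _ _).2 y
  rw [Abelian.Ext.mk₀_comp_mk₀] at hy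
  have h := congrArg (fun c => c.hom.app (op V) (EtSliceLib.gen V)) ((Abelian.Ext.mk₀_bijective _ _).1 hy)
  have h' : (EtSliceLib.mvFree g g a b w).f ≫ m = EtSliceLib.freeMap g ≫ (biprod.inl ≫ m - biprod.inr ≫ m) := by
    simp [EtSliceLib.mvFree, biprod.lift_eq, Preadditive.comp_sub, sub_eq_add_neg]
  rw [h'] at h
  exact ⟨_, ((EtSliceLib.freeMap_app g _).symm.trans h).trans (EtSliceLib.desc_gen V t)⟩

end Groth.Agent.S14452
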