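import Groth.Statements.S14453
import Mathlib
import Groth.Agent.EtSheafLib.Basic
-- import your own Groth.Agent.* helpers here

set_option autoImplicit false
universe w u
open CategoryTheory AlgebraicGeometry
open EtCore

namespace Groth.Agent.S14453

/-- Let X be a scheme and F a presheaf of sets on the small étale site of X. Then F is an étale sheaf if
and only if F is a sheaf for the Zariski topology on the same category (coverings are jointly
surjective families of open immersions between étale X-schemes) and, for every morphism f : V ⟶ U of
étale X-schemes with U and V affine and f surjective, F satisfies the sheaf condition for the single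
arrow f. -/
theorem result (X : Scheme.{u})
    (F : X.Etaleᵒᵖ ⥤ Type w) :
    Presieve.IsSheaf X.smallEtaleTopology F ↔
      Presieve.IsSheaf (X.smallGrothendieckTopology (P := @IsOpenImmersion)) F ∧
        ∀ (U V : X.Etale) [IsAffine U.left] [IsAffine V.left] (f : V ⟶ U) [Surjective f.left],
          Presieve.IsSheafFor F (Presieve.singleton f) := by
  constructor
  · intro h
    refine ⟨Presieve.isSheaf_of_le F (fun Z R hR => (EtSheafLib.mem_et_iff Z R).2 fun x => ?_) h, fun U V _ _ f _ => ?_⟩
    · obtain ⟨Y, f, y, h1, h2, h3⟩ := (EtSheafLib.mem_zar_iff Z R).1 hR x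
      exact ⟨Y, f, y, h1, EtSheafLib.etale_left f, h3⟩
    · rw [Presieve.isSheafFor_iff_generate]
      refine h _ ((EtSheafLib.mem_et_iff _ _).2 fun x => ?_)
      obtain ⟨y, hy⟩ := f.left.surjective x
      exact ⟨V, f, y, Sieve.le_generate _ _ _ (Presieve.singleton_self f), EtSheafLib.etale_left f, hy⟩
  · rintro ⟨hz, hs⟩ Z R hR
    have := EtSheafLib.mem_finest F hz hs R hR Z (𝟙 Z)
    rwa [Sieve.pullback_id] at this

end Groth.Agent.S14453
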