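import Groth.Statements.S14455
import Groth.Agent.ZetaPtsLib.Basic
import Groth.Agent.ZetaPtsLib.Ext
import Groth.Agent.ZetaFormalLib.Basic
import Mathlib.AlgebraicGeometry.AffineSpace

set_option autoImplicit false
set_option backward.isDefEq.respectTransparency false
set_option backward.isDefEq.respectTransparency.types false
universe u
open CategoryTheory AlgebraicGeometry
open Zeta

namespace Groth.Agent.S14455

/-- For a scheme X of finite type over a finite field k with q elements, the zeta function of the affine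
line over X (a k-scheme through X) is obtained from that of X by the substitution t ↦ qt, that is
Z(𝔸¹_X, t) = Z(X, qt) in ℚ⟦t⟧. (The published statement is the equality ζ(𝔸¹_X, s) = ζ(X, s − 1) of
zeta functions in the variable s; under the substitution t = q^(−s), which turns ζ(Y, s) into Z(Y,
t) for every Y of finite type over k, it is the identity stated here.) -/
theorem result {k : Type u} [Field k] [Finite k] {X : Scheme.{u}}
    (f : X ⟶ Spec (CommRingCat.of k)) [LocallyOfFiniteType f] [QuasiCompact f] :
    Zeta.zetaFun ((𝔸(PUnit.{u + 1}; X) ↘ X) ≫ f) =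
      PowerSeries.rescale (Nat.card k : ℚ) (Zeta.zetaFun f) := by
  haveI : LocallyOfFiniteType ((𝔸(PUnit.{u + 1}; X) ↘ X) ≫ f) := inferInstance
  haveI : QuasiCompact ((𝔸(PUnit.{u + 1}; X) ↘ X) ≫ f) := inferInstance
  have hN : ∀ m ≠ 0, Zeta.nPts ((𝔸(PUnit.{u + 1}; X) ↘ X) ≫ f) m = Nat.card k ^ m * Zeta.nPts f m := by
    intro m hm
    obtain ⟨K, _, _, _, hK⟩ := ZetaPtsLib.exists_ext k hm
    rw [← hK, ← ZetaPtsLib.pointCount_eq, ← ZetaPtsLib.pointCount_eq, SgaExt.pointCount, SgaExt.pointCount,
      ← Module.natCard_eq_pow_finrank (K := k) (V := K), mul_comm, ← Nat.card_prod]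
    let c : K ≃ (PUnit.{u + 1} → Γ(Spec (CommRingCat.of K), ⊤)) :=
      (Scheme.ΓSpecIso (CommRingCat.of K)).commRingCatIsoToRingEquiv.toEquiv.symm.trans
        (Equiv.funUnique PUnit.{u + 1} _).symm
    refine Nat.card_congr
      { toFun := fun g => (⟨g.1 ≫ (𝔸(PUnit.{u + 1}; X) ↘ X), by rw [Category.assoc]; exact g.2⟩,
          c.symm fun i => g.1.appTop (AffineSpace.coord X i))
        invFun := fun p => ⟨AffineSpace.homOfVector p.1.1 (c p.2), by
          rw [AffineSpace.homOfVector_over_assoc]; exact p.1.2⟩
        left_inv := fun g => Subtype.ext ?_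
        right_inv := fun p => Prod.ext (Subtype.ext ?_) ?_ }
    · refine AffineSpace.hom_ext ?_ fun i => ?_
      · rw [AffineSpace.homOfVector_over]
      · rw [AffineSpace.homOfVector_appTop_coord, Equiv.apply_symm_apply]
    · exact AffineSpace.homOfVector_over _ _
    · show c.symm (fun i => (AffineSpace.homOfVector p.1.1 (c p.2)).appTop (AffineSpace.coord X i)) = p.2
      simp only [AffineSpace.homOfVector_appTop_coord]
      exact c.symm_apply_apply p.2
  refine WeilLib.eq_of_X_mul_derivative ?_ (WeilLib.X_mul_derivative_zetaFun _) ?_ ?_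
  · simp [Zeta.nPts]
  · have h1 : PowerSeries.rescale (Nat.card k : ℚ) (PowerSeries.mk fun m => (Zeta.nPts f m : ℚ)) =
        PowerSeries.mk fun m => (Zeta.nPts ((𝔸(PUnit.{u + 1}; X) ↘ X) ≫ f) m : ℚ) := by
      ext m
      rw [PowerSeries.coeff_rescale, PowerSeries.coeff_mk, PowerSeries.coeff_mk]
      rcases eq_or_ne m 0 with rfl | hm
      · simp [Zeta.nPts]
      · rw [hN m hm]
        push_cast
        rfl
    rw [← h1, ← map_mul, ← WeilLib.X_mul_derivative_zetaFun]
    ext m
    rcases m with _ | m
    · simp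
    · simp only [PowerSeries.coeff_succ_X_mul, PowerSeries.coeff_derivative, PowerSeries.coeff_rescale]
      ring
  · rw [← PowerSeries.coeff_zero_eq_constantCoeff_apply, ← PowerSeries.coeff_zero_eq_constantCoeff_apply,
      PowerSeries.coeff_rescale, pow_zero, one_mul, PowerSeries.coeff_zero_eq_constantCoeff_apply,
      PowerSeries.coeff_zero_eq_constantCoeff_apply, WeilLib.constantCoeff_zetaFun, WeilLib.constantCoeff_zetaFun]

end Groth.Agent.S14455
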