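import Groth.Statements.S14456
import Groth.Agent.FlatCrit.Basic
import Mathlib.RingTheory.Flat.Tensor

set_option autoImplicit false
universe u
open CAlg

namespace Groth.Agent.S14456

/-- Take a local homomorphism A → B between Noetherian local rings, M a finitely generated B-module and
f an element of the maximal ideal of B. If M/f^(n+1)M is flat over A for every n ≥ 0, then M is flat
over A. -/
theorem result {A B : Type u} [CommRing A] [CommRing B]
    [IsNoetherianRing A] [IsNoetherianRing B] [IsLocalRing A] [IsLocalRing B] [Algebra A B]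
    [IsLocalHom (algebraMap A B)] (M : Type u) [AddCommGroup M] [Module B M] [Module A M]
    [IsScalarTower A B M] [Module.Finite B M] (f : B) (hf : f ∈ IsLocalRing.maximalIdeal B)
    (hflat : ∀ n : ℕ, Module.Flat A (M ⧸ (Ideal.span {f ^ (n + 1)} • (⊤ : Submodule B M)))) :
    Module.Flat A M := by
  refine Module.Flat.iff_lTensor_injective.mpr fun a ha => ?_
  rw [← LinearMap.ker_eq_bot, eq_bot_iff]
  intro t ht
  haveI : Module.Finite A a := Module.Finite.iff_fg.mpr ha
  haveI : Module.Finite B (TensorProduct A M a) := FlatCrit.finite_tensor_fg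
  have hhaus := Ideal.iInf_pow_smul_eq_bot_of_le_jacobson (M := TensorProduct A M a) (Ideal.span {f})
    ((Ideal.span_singleton_le_iff_mem _).mpr (IsLocalRing.maximalIdeal_le_jacobson _ hf))
  rw [Submodule.mem_bot, ← Submodule.mem_bot B, ← hhaus, Submodule.mem_iInf]
  intro n
  refine Submodule.smul_mono_left (Ideal.pow_le_pow_right (Nat.le_succ n)) ?_
  rw [Ideal.span_singleton_pow]
  let N : Submodule B M := Ideal.span {f ^ (n + 1)} • ⊤
  let q : M →ₗ[A] M ⧸ N := N.mkQ.restrictScalars A
  have hq0 : LinearMap.rTensor a q t = 0 := by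
    refine Module.Flat.lTensor_preserves_injective_linearMap (M := M ⧸ N) a.subtype
      a.injective_subtype ?_
    rw [map_zero, ← LinearMap.comp_apply, LinearMap.lTensor_comp_rTensor,
      ← LinearMap.rTensor_comp_lTensor, LinearMap.comp_apply, LinearMap.mem_ker.mp ht, map_zero]
  have hex : Function.Exact ((N.restrictScalars A).subtype) q := by
    rw [LinearMap.exact_iff, Submodule.range_subtype]
    ext x
    simp [q]
  obtain ⟨u, rfl⟩ := (rTensor_exact (a : Type u) hex (Submodule.mkQ_surjective N) t).mp hq0
  clear ht hq0
  induction u using TensorProduct.induction_on with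
  | zero => rw [map_zero]; exact zero_mem _
  | add p q hp hq => rw [map_add]; exact add_mem hp hq
  | tmul x y =>
    rw [LinearMap.rTensor_tmul]
    show (x : M) ⊗ₜ[A] y ∈ _
    generalize hz : (x : M) = z
    have hzN : z ∈ N := hz ▸ x.2
    clear hz x
    refine Submodule.smul_induction_on hzN (fun c hc m _ => ?_) (fun p q hp hq => ?_)
    · rw [← TensorProduct.smul_tmul']
      exact Submodule.smul_mem_smul hc Submodule.mem_top
    · rw [TensorProduct.add_tmul]; exact add_mem hp hq

end Groth.Agent.S14456
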