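import Groth.Statements.S14457
import Mathlib.RingTheory.Etale.StandardEtale
import Mathlib.RingTheory.Unramified.Basic
import Mathlib.FieldTheory.IsAlgClosed.AlgebraicClosure
import Mathlib.Algebra.DualNumber
import Mathlib.RingTheory.AdjoinRoot
-- import your own Groth.Agent.* helpers here

set_option autoImplicit false
universe u
open CAlg

namespace Groth.Agent.S14457

open Polynomial in
/-- Let A be a commutative ring, a an element of A and n ≥ 1 an integer. The A-algebra A[T]/(T^n − a) is
etale exactly when either n = 1 or the product n·a is a unit of A. (The exponent n is a positive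
integer here; for n = 0 the quotient is (A/(1 − a))[T] and the equivalence fails.) -/
theorem result (A : Type u) [CommRing A] (a : A) (n : ℕ) (hn : 1 ≤ n) :
    Algebra.Etale A (AdjoinRoot ((X : A[X]) ^ n - C a)) ↔ n = 1 ∨ IsUnit ((n : A) * a) := by
  classical
  set f : A[X] := X ^ n - C a with hf
  have hmon : f.Monic := monic_X_pow_sub_C a (by omega)
  have hder : derivative f = C (n : A) * X ^ (n - 1) := by rw [hf, derivative_sub, derivative_C, sub_zero, derivative_X_pow]
  constructor
  · intro hE
    by_contra hc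
    push Not at hc
    obtain ⟨hn1, hu⟩ := hc
    obtain ⟨m, hm, hmem⟩ := exists_max_ideal_of_mem_nonunits (mem_nonunits_iff.mpr hu)
    haveI := hm
    letI : Field (A ⧸ m) := Ideal.Quotient.field m
    let k := AlgebraicClosure (A ⧸ m)
    let φ : A →+* k := (algebraMap (A ⧸ m) k).comp (Ideal.Quotient.mk m)
    letI : Algebra A k := φ.toAlgebra
    have h0 : φ (n : A) * φ a = 0 := by
      rw [← map_mul, RingHom.comp_apply, Ideal.Quotient.eq_zero_iff_mem.mpr hmem, map_zero]
    obtain ⟨α, hα⟩ := IsAlgClosed.exists_pow_nat_eq (φ a) (show 0 < n by omega)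
    have hd : (n : k) * α ^ (n - 1) = 0 := by
      rcases mul_eq_zero.mp h0 with h | h
      · rw [map_natCast] at h; rw [h, zero_mul]
      · rw [h] at hα
        rw [eq_zero_of_pow_eq_zero hα, zero_pow (by omega), mul_zero]
    letI : Algebra A (DualNumber k) := ((algebraMap k (DualNumber k)).comp φ).toAlgebra
    have hroot : ∀ t : k, aeval (TrivSqZeroExt.inl α + TrivSqZeroExt.inr t : DualNumber k) f = 0 := fun t => by
      rw [hf, map_sub, map_pow, aeval_X, aeval_C]
      have e : (TrivSqZeroExt.inl α + TrivSqZeroExt.inr t : DualNumber k) ^ n = TrivSqZeroExt.inl (α ^ n) := by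
        refine TrivSqZeroExt.ext (by simp) ?_
        rw [TrivSqZeroExt.snd_pow]
        simp only [TrivSqZeroExt.fst_add, TrivSqZeroExt.fst_inl, TrivSqZeroExt.fst_inr, add_zero,
          TrivSqZeroExt.snd_add, TrivSqZeroExt.snd_inl, TrivSqZeroExt.snd_inr, zero_add]
        rw [smul_eq_mul, Nat.pred_eq_sub_one, nsmul_eq_mul, ← mul_assoc, hd, zero_mul]
      rw [e, hα, sub_eq_zero]
      rfl
    let g (t : k) : AdjoinRoot f →ₐ[A] DualNumber k := AdjoinRoot.liftAlgHom f (Algebra.ofId A _) _ (hroot t)
    haveI : Algebra.FormallyUnramified A (AdjoinRoot f) := inferInstance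
    have heq : g 0 = g 1 := by
      refine Algebra.FormallyUnramified.lift_unique_of_ringHom (TrivSqZeroExt.fstHom k k k).toRingHom
        ⟨2, ?_⟩ _ _ ?_
      · rw [pow_two, Submodule.zero_eq_bot, eq_bot_iff, Ideal.mul_le]
        intro r hr s hs
        have hr' : r.fst = 0 := hr
        have hs' : s.fst = 0 := hs
        rw [Ideal.mem_bot]
        exact TrivSqZeroExt.ext (by simp [hr']) (by simp [hr', hs'])
      · refine RingHom.ext fun z => ?_
        obtain ⟨P, rfl⟩ := AdjoinRoot.mk_surjective z
        induction P using Polynomial.induction_on' with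
        | add p q hp hq => simp only [map_add] at hp hq ⊢; rw [hp, hq]
        | monomial i c => simp [g, ← C_mul_X_pow_eq_monomial]
    have := congrArg (fun ψ : AdjoinRoot f →ₐ[A] DualNumber k => (ψ (AdjoinRoot.root f)).snd) heq
    simp [g] at this
    exact zero_ne_one (α := k) this
  · intro h
    have hu : IsUnit (AdjoinRoot.mk f (derivative f)) := by
      rw [hder, map_mul, map_pow, AdjoinRoot.mk_C, AdjoinRoot.mk_X]
      rcases h with rfl | h
      · simp
      · refine ((isUnit_of_mul_isUnit_left h).map (AdjoinRoot.of f)).mul (IsUnit.pow _ ?_)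
        refine (isUnit_pow_iff (n := n) (by omega)).mp ?_
        have : AdjoinRoot.root f ^ n = AdjoinRoot.of f a := by
          rw [← AdjoinRoot.mk_X, ← map_pow, ← AdjoinRoot.mk_C, AdjoinRoot.mk_eq_mk]
        rw [this]
        exact (isUnit_of_mul_isUnit_right h).map _
    obtain ⟨u, hu'⟩ := hu.exists_right_inv
    obtain ⟨p, rfl⟩ := AdjoinRoot.mk_surjective u
    rw [← map_mul, ← map_one (AdjoinRoot.mk f), AdjoinRoot.mk_eq_mk] at hu'
    obtain ⟨q, hq⟩ := hu'
    let P : StandardEtalePair A :=
      { f := f, monic_f := hmon, g := 1, cond := ⟨p, -q, 0, by linear_combination hq⟩ }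
    have h1 : IsUnit (AdjoinRoot.mk f (1 : A[X])) := by rw [map_one]; exact isUnit_one
    haveI : IsLocalization.Away (AdjoinRoot.mk f (1 : A[X])) (AdjoinRoot f) :=
      IsLocalization.away_of_isUnit_of_bijective _ h1 Function.bijective_id
    let e : Localization.Away (AdjoinRoot.mk f (1 : A[X])) ≃ₐ[A] AdjoinRoot f :=
      (IsLocalization.algEquiv (Submonoid.powers (AdjoinRoot.mk f (1 : A[X]))) _ _).restrictScalars A
    exact Algebra.Etale.of_equiv ((P.equivAwayAdjoinRoot).trans e)

end Groth.Agent.S14457
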