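import Groth.Statements.S1446
import Groth.Agent.CompSetLib.AssSpread
-- import your own Groth.Agent.* helpers here

set_option autoImplicit false
set_option backward.isDefEq.respectTransparency false
set_option linter.all false
universe u
open FlatMor

namespace Groth.Agent.S1446

open AlgebraicGeometry CategoryTheory Limits in
/-- Let f : X → S be locally of finite type, F a quasi-coherent O_X-module of finite type, and ξ a point
of the relative assassin of F with closure Z. Then there is a nonempty subset V of Z, open in Z,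
such that for every point x of V, if x is a generic point of an irreducible component of the fibre
of V through x then x lies in the relative assassin of F. -/
theorem result {X S : Scheme.{u}} (f : X ⟶ S) [LocallyOfFiniteType f]
    (F : X.Modules) (hF : Coh.IsCoh F) (ξ : X) (hξ : ξ ∈ MoreMor.relAss f F) :
    ∃ V : Set ↑X, V ⊆ closure {ξ} ∧ IsOpen (Subtype.val ⁻¹' V : Set ↑(closure ({ξ} : Set ↑X))) ∧ V.Nonempty ∧
      ∀ (x : X) (hx : x ∈ V), (∃ C ∈ irreducibleComponents ↑(V ∩ f ⁻¹' {f x}), IsGenericPoint (⟨x, hx, rfl⟩ : ↑(V ∩ f ⁻¹' {f x})) C) →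
        x ∈ MoreMor.relAss f F := by
  haveI : Coh.IsQCoh F := hF.1
  obtain ⟨O, hξO, hO⟩ := CompSetLib.exists_open_relAss f F hF.2 ξ hξ
  refine ⟨closure {ξ} ∩ O, Set.inter_subset_left, ?_, ⟨ξ, subset_closure rfl, hξO⟩, fun x hx ⟨C, hC, hg⟩ => ?_⟩
  · rw [Subtype.preimage_coe_self_inter]
    exact O.2.preimage continuous_subtype_val
  · refine hO x hx.2 (specializes_iff_mem_closure.2 hx.1) fun v hfv hξv hvx => ?_
    let v' : ↥((closure {ξ} ∩ (O : Set X)) ∩ f ⁻¹' {f x}) :=
      ⟨v, ⟨specializes_iff_mem_closure.1 hξv, hvx.mem_open O.2 hx.2⟩, hfv⟩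
    have h1 : v' ⤳ ⟨x, hx, rfl⟩ := (subtype_specializes_iff _ _).2 hvx
    have h2 : closure ({v'} : Set _) ⊆ C :=
      hC.2 isIrreducible_singleton.closure (hg.def.symm.le.trans h1.closure_subset)
    have h3 := hg.specializes (h2 (subset_closure rfl))
    exact congrArg Subtype.val (h1.antisymm h3).eq

end Groth.Agent.S1446
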