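import Groth.Statements.S14460
import Groth.Agent.FEtColimLib.Galois
import Mathlib.AlgebraicGeometry.LimitsOver

set_option autoImplicit false
universe u
open CategoryTheory CategoryTheory.Limits AlgebraicGeometry
open Pi1

namespace Groth.Agent.S14460

open FEtColim

variable {X : Scheme.{u}} {Y : FEt.Cat X} {G : Type u} [Group G] (ρ : G →* Aut Y)

/-- The translation by a group element, as a map of schemes. -/
abbrev tr (g : G) : Y.left ⟶ Y.left := (ρ g).hom.left

/-- The comparison map on the copy indexed by `g`. -/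
noncomputable abbrev graph (g : G) : Y.left ⟶ pullback Y.hom Y.hom :=
  pullback.lift (𝟙 Y.left) (ρ g).hom.left ((Category.id_comp Y.hom).trans (Over.w (ρ g).hom.hom).symm)

theorem tr_one : tr ρ 1 = 𝟙 Y.left := by rw [tr, map_one]; rfl

theorem tr_mul (a b : G) : tr ρ (a * b) = tr ρ b ≫ tr ρ a := by rw [tr, map_mul]; rfl

theorem inj_orbit (hfree : ∀ g : G, g ≠ 1 → ∀ (K : Type u) [Field K] (y : Spec (CommRingCat.of K) ⟶ Y.left),
    y ≫ (ρ g).hom.left ≠ y) {Ω : Type u} [Field Ω] (s : Spec (CommRingCat.of Ω) ⟶ Y.left) :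
    Function.Injective fun g : G => s ≫ tr ρ g := by
  intro g h e
  by_contra hne
  refine hfree (h⁻¹ * g) (fun e1 => hne ?_) Ω s ?_
  · exact (eq_of_inv_mul_eq_one e1).symm
  · show s ≫ tr ρ (h⁻¹ * g) = s
    rw [tr_mul, ← Category.assoc, show s ≫ tr ρ g = s ≫ tr ρ h from e, Category.assoc, ← tr_mul,
      inv_mul_cancel, tr_one, Category.comp_id]

/-- The orbit map of a point into the fibre. -/
noncomputable def orbit {Ω : Type u} [Field Ω] (s : Spec (CommRingCat.of Ω) ⟶ Y.left) (g : G) :
    FEt.fiberObj (s ≫ str Y) Y :=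
  ⟨s ≫ tr ρ g, (Category.assoc s (tr ρ g) (str Y)).trans (congrArg (s ≫ ·) (str_comp (ρ g).hom))⟩

theorem exists_factor {Ω : Type u} [Field Ω] (p : Spec (CommRingCat.of Ω) ⟶ ∐ fun _ : G => Y.left) :
    ∃ (g : G) (s : Spec (CommRingCat.of Ω) ⟶ Y.left), s ≫ Limits.Sigma.ι (fun _ : G => Y.left) g = p := by
  obtain ⟨g, x, hx⟩ := (sigmaOpenCover fun _ : G => Y.left).exists_eq (p (IsLocalRing.closedPoint Ω))
  haveI : IsOpenImmersion (Limits.Sigma.ι (fun _ : G => Y.left) g) :=
    (sigmaOpenCover fun _ : G => Y.left).map_prop g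
  have hr : Set.range p ⊆ Set.range (Limits.Sigma.ι (fun _ : G => Y.left) g) := by
    rw [range_point, Set.singleton_subset_iff]; exact ⟨x, hx⟩
  exact ⟨g, IsOpenImmersion.lift _ p hr, IsOpenImmersion.lift_fac _ _ _⟩

theorem comp_graph_fst (g : G) : graph ρ g ≫ pullback.fst Y.hom Y.hom = 𝟙 _ := pullback.lift_fst _ _ _

theorem comp_graph_snd (g : G) : graph ρ g ≫ pullback.snd Y.hom Y.hom = tr ρ g := pullback.lift_snd _ _ _


/-- Let Y → X be finite étale with Y nonempty and all geometric fibres of the same cardinality n, and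
let a finite group G act on Y over X without fixed points (no point of Y with values in a field is
fixed by a non-identity element). Then G has at most n elements, and it has exactly n elements if
and only if the morphism from the disjoint union of copies of Y indexed by G to Y ×_X Y, given on
the copy indexed by g by the identity and g, is an isomorphism. (For Y empty the bound fails, since
every finite group acts without fixed points on the empty cover, whose fibres have cardinality 0;
this row assumes Y nonempty.) -/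
theorem result {X : Scheme.{u}} (Y : FEt.Cat X)
    [Nonempty ↥Y.left] (n : ℕ)
    (hn : ∀ (Ω : Type u) [Field Ω] [IsSepClosed Ω] (ξ : Spec (CommRingCat.of Ω) ⟶ X), Nat.card (FEt.fiberObj ξ Y) = n)
    (G : Type u) [Group G] [Finite G] (ρ : G →* Aut Y)
    (hfree : ∀ g : G, g ≠ 1 → ∀ (K : Type u) [Field K] (y : Spec (CommRingCat.of K) ⟶ Y.left),
      y ≫ (ρ g).hom.left ≠ y) :
    Nat.card G ≤ n ∧
      (Nat.card G = n ↔ IsIso (Limits.Sigma.desc fun g : G =>
        pullback.lift (𝟙 Y.left) (ρ g).hom.left
          ((Category.id_comp Y.hom).trans (Over.w (ρ g).hom.hom).symm) : (∐ fun _ : G => Y.left) ⟶ pullback Y.hom Y.hom)) := by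
  haveI := etale_hom Y
  obtain ⟨Ω₀, _, _, s₀, hs₀⟩ := exists_geomPt Y.left (Classical.arbitrary _)
  have hle : Nat.card G ≤ n := by
    rw [← hn Ω₀ (s₀ ≫ str Y)]
    exact Nat.card_le_card_of_injective (orbit ρ s₀)
      fun g h e => inj_orbit ρ hfree s₀ (congrArg Subtype.val e)
  refine ⟨hle, ?_⟩
  let D : (∐ fun _ : G => Y.left) ⟶ pullback Y.hom Y.hom := Limits.Sigma.desc (graph ρ)
  show Nat.card G = n ↔ IsIso D
  have hD : ∀ g, Limits.Sigma.ι (fun _ : G => Y.left) g ≫ D = graph ρ g := fun g => Limits.Sigma.ι_desc _ g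
  constructor
  · intro hcard
    haveI : Etale (pullback.fst Y.hom Y.hom) := MorphismProperty.pullback_fst _ _ (etale_hom Y)
    haveI : Etale (D ≫ pullback.fst Y.hom Y.hom) := by
      have : D ≫ pullback.fst Y.hom Y.hom = Limits.Sigma.desc fun _ : G => 𝟙 Y.left := by
        refine Limits.Sigma.hom_ext _ _ fun g => ?_
        rw [← Category.assoc, hD, Limits.Sigma.ι_desc, comp_graph_fst]
      rw [this]
      exact IsZariskiLocalAtSource.sigmaDesc (P := @Etale) fun _ => inferInstance
    haveI : Etale D := Etale.of_comp D (pullback.fst Y.hom Y.hom)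
    haveI : Mono D := by
      refine ⟨fun {T} f g hfg => ext_of_geomPt D f g hfg fun Ω _ _ t => ?_⟩
      obtain ⟨a, s, hs⟩ := exists_factor (t ≫ f)
      obtain ⟨b, s', hs'⟩ := exists_factor (t ≫ g)
      have e : s ≫ graph ρ a = s' ≫ graph ρ b := by
        rw [← hD, ← hD, ← Category.assoc, ← Category.assoc, hs, hs', Category.assoc, Category.assoc, hfg]
      have e1 : s = s' := by
        have := congrArg (· ≫ pullback.fst Y.hom Y.hom) e
        simpa only [Category.assoc, comp_graph_fst, Category.comp_id] using this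
      have e2 : a = b := by
        have := congrArg (· ≫ pullback.snd Y.hom Y.hom) e
        simp only [Category.assoc, comp_graph_snd, ← e1] at this
        exact inj_orbit ρ hfree s this
      rw [← hs, ← hs', e1, e2]
    haveI : IsOpenImmersion D := IsOpenImmersion.of_flat_of_mono D
    haveI : Surjective D := by
      refine ⟨fun z => ?_⟩
      obtain ⟨Ω, _, _, t, ht⟩ := exists_geomPt _ z
      let s : Spec (CommRingCat.of Ω) ⟶ Y.left := t ≫ pullback.fst Y.hom Y.hom
      let q : FEt.fiberObj (s ≫ str Y) Y := ⟨t ≫ pullback.snd Y.hom Y.hom,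
        (Category.assoc t (pullback.snd Y.hom Y.hom) Y.hom).trans
          ((congrArg (t ≫ ·) pullback.condition.symm).trans
            (Category.assoc t (pullback.fst Y.hom Y.hom) Y.hom).symm)⟩
      haveI := finite_fiberObj (s ≫ str Y) Y
      obtain ⟨g, hg⟩ := ((Nat.bijective_iff_injective_and_card (orbit ρ s)).mpr
        ⟨fun g h e => inj_orbit ρ hfree s (congrArg Subtype.val e), by rw [hcard, hn Ω (s ≫ str Y)]⟩).2 q
      refine ⟨(s ≫ Limits.Sigma.ι (fun _ : G => Y.left) g) (IsLocalRing.closedPoint Ω), ?_⟩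
      rw [← Scheme.Hom.comp_apply, Category.assoc, hD,
        show s ≫ graph ρ g = t from pullback.hom_ext (by rw [Category.assoc, comp_graph_fst, Category.comp_id])
          (by rw [Category.assoc, comp_graph_snd]; exact congrArg Subtype.val hg)]
      exact ht _
    exact (isIso_iff_isOpenImmersion_and_surjective D).mpr ⟨inferInstance, inferInstance⟩
  · intro hiso
    refine le_antisymm hle ?_
    rw [← hn Ω₀ (s₀ ≫ str Y)]
    refine Nat.card_le_card_of_surjective (orbit ρ s₀) fun q => ?_
    let t : Spec (CommRingCat.of Ω₀) ⟶ pullback Y.hom Y.hom := pullback.lift s₀ q.1 q.2.symm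
    obtain ⟨g, s, hs⟩ := exists_factor (t ≫ inv D)
    have e : s ≫ graph ρ g = t := by
      rw [← hD, ← Category.assoc, hs, Category.assoc, IsIso.inv_hom_id, Category.comp_id]
    have e1 : s = s₀ := by
      have := congrArg (· ≫ pullback.fst Y.hom Y.hom) e
      simpa only [t, Category.assoc, comp_graph_fst, Category.comp_id, pullback.lift_fst] using this
    refine ⟨g, Subtype.ext ?_⟩
    have := congrArg (· ≫ pullback.snd Y.hom Y.hom) e
    simp only [t, Category.assoc, comp_graph_snd, pullback.lift_snd, e1] at this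
    exact this

end Groth.Agent.S14460
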