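import Groth.Statements.S14462
import Groth.Agent.EtCodim2Lib.Basic
import Groth.Agent.UnramGULib.Scheme

set_option autoImplicit false
universe u
open CategoryTheory AlgebraicGeometry
open Unram

namespace Groth.Agent.S14462

/-- Let f : X → Y be finite and flat with Y locally Noetherian, and let U ⊆ Y be open with every point
of the complement having a local ring of Krull dimension at least 2. If f is étale over U, then f is
étale. -/
theorem result {X Y : Scheme.{u}} [IsLocallyNoetherian Y]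
    (f : X ⟶ Y) [IsFinite f] [Flat f] (U : Y.Opens)
    (hU : ∀ y : Y, y ∉ U → (2 : WithBot ℕ∞) ≤ ringKrullDim (Y.presheaf.stalk y))
    [Etale (f ∣_ U)] : Etale f := by
  refine IsZariskiLocalAtTarget.of_iSup_eq_top (fun V : Y.affineOpens => V.1) (iSup_affineOpens_eq_top Y) fun V => ?_
  have hpre : IsAffineOpen (f ⁻¹ᵁ V.1) := V.2.preimage f
  rw [← Scheme.Hom.resLE_eq_morphismRestrict]
  refine UnramGULib.resLE_of_appLE (P := @Etale) f V.1 V.2 _ hpre le_rfl ?_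
  rw [Scheme.Hom.appLE_eq_app]
  haveI : IsNoetherianRing Γ(Y, V.1) := IsLocallyNoetherian.component_noetherian V
  have hfin : (f.app V.1).hom.Finite := IsFinite.finite_app f V.1 V.2
  have hfl : (f.app V.1).hom.Flat := by
    rw [← Scheme.Hom.appLE_eq_app]
    exact HasRingHomProperty.appLE @Flat f ‹_› V ⟨_, hpre⟩ le_rfl
  letI := (f.app V.1).hom.toAlgebra
  haveI : Module.Finite Γ(Y, V.1) Γ(X, f ⁻¹ᵁ V.1) := hfin
  haveI : Module.Flat Γ(Y, V.1) Γ(X, f ⁻¹ᵁ V.1) := hfl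
  haveI : Module.FinitePresentation Γ(Y, V.1) Γ(X, f ⁻¹ᵁ V.1) := Module.finitePresentation_of_finite _ _
  haveI : Algebra.FinitePresentation Γ(Y, V.1) Γ(X, f ⁻¹ᵁ V.1) := inferInstance
  suffices Algebra.Etale Γ(Y, V.1) Γ(X, f ⁻¹ᵁ V.1) from RingHom.etale_algebraMap.2 this
  refine EtCodim2Lib.etale_of_codim_one fun Q hQ hht => ?_
  haveI := hQ
  let x : X := hpre.fromSpec ⟨Q, hQ⟩
  have hx : x ∈ f ⁻¹ᵁ V.1 := hpre.range_fromSpec.le ⟨_, rfl⟩
  have hxQ : hpre.primeIdealOf ⟨x, hx⟩ = ⟨Q, hQ⟩ :=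
    hpre.fromSpec.isOpenEmbedding.injective (hpre.fromSpec_primeIdealOf ⟨x, hx⟩)
  have hyp : (V.2.primeIdealOf ⟨f x, hx⟩).asIdeal = Q.comap (algebraMap Γ(Y, V.1) Γ(X, f ⁻¹ᵁ V.1)) := by
    have h1 := congrArg PrimeSpectrum.asIdeal (IsAffineOpen.comap_primeIdealOf_appLE (f := f) V.1 V.2 (f ⁻¹ᵁ V.1) hpre le_rfl hx)
    rw [hxQ] at h1
    simp only [Scheme.Hom.appLE_eq_app] at h1
    exact h1.symm
  have hxU : f x ∈ U := by
    by_contra hne
    have h2 := hU _ hne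
    letI := TopCat.Presheaf.algebra_section_stalk Y.presheaf (⟨f x, hx⟩ : V.1)
    haveI := V.2.isLocalization_stalk ⟨f x, hx⟩
    rw [IsLocalization.AtPrime.ringKrullDim_eq_height (V.2.primeIdealOf ⟨f x, hx⟩).asIdeal, hyp] at h2
    have h3 : (2 : ℕ∞) ≤ (Q.comap (algebraMap Γ(Y, V.1) Γ(X, f ⁻¹ᵁ V.1))).height := WithBot.coe_le_coe.1 h2
    exact absurd (h3.trans hht) (by norm_num)
  obtain ⟨g, hgle, hxg⟩ := hpre.exists_basicOpen_le (V := f ⁻¹ᵁ U) ⟨x, hxU⟩ hx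
  set D := X.basicOpen g
  have hD : IsAffineOpen D := hpre.basicOpen g
  have hle : D ≤ f ⁻¹ᵁ V.1 := X.basicOpen_le g
  haveI : Etale (f.resLE V.1 D hle) := by
    haveI : Etale (f.resLE V.1 D hle ≫ V.1.ι) := by
      rw [Scheme.Hom.resLE_comp_ι, ← X.homOfLE_ι hgle, Category.assoc, ← morphismRestrict_ι]
      infer_instance
    exact Etale.of_comp _ V.1.ι
  have het := UnramGULib.appLE_of_ι (P := @Etale) f V.1 V.2 D hD hle ‹_›
  letI : Algebra Γ(X, f ⁻¹ᵁ V.1) Γ(X, D) := (X.presheaf.map (homOfLE hle).op).hom.toAlgebra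
  letI : Algebra Γ(Y, V.1) Γ(X, D) := (f.appLE V.1 D hle).hom.toAlgebra
  haveI : IsScalarTower Γ(Y, V.1) Γ(X, f ⁻¹ᵁ V.1) Γ(X, D) := IsScalarTower.of_algebraMap_eq' rfl
  haveI : Algebra.Etale Γ(Y, V.1) Γ(X, D) := het
  haveI : IsLocalization.Away g Γ(X, D) := hpre.isLocalization_basicOpen g
  haveI : Algebra.Etale Γ(Y, V.1) (Localization.Away g) :=
    Algebra.Etale.of_equiv ((IsLocalization.algEquiv (Submonoid.powers g) Γ(X, D) (Localization.Away g)).restrictScalars Γ(Y, V.1))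
  exact Algebra.basicOpen_subset_etaleLocus_iff_etale.2 this (show (⟨Q, hQ⟩ : PrimeSpectrum Γ(X, f ⁻¹ᵁ V.1)) ∈ PrimeSpectrum.basicOpen g from by
    rw [← hxQ]
    have := hpre.fromSpec_preimage_basicOpen g
    rw [← this]
    show hpre.fromSpec (hpre.primeIdealOf ⟨x, hx⟩) ∈ D
    rw [hpre.fromSpec_primeIdealOf]
    exact hxg)

end Groth.Agent.S14462
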