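import Groth.Statements.S14464
import Groth.Agent.S9675
import Groth.Agent.S0627
import Groth.Agent.S14622
import Groth.Agent.NormalizNormalLib.Main
import Groth.Agent.ModifLib.Norm
import Groth.Agent.FinPushConsLib.Main
import Groth.Agent.EtShLib.NoethCons
import Groth.Agent.EtShLib.Constructible
import Groth.Agent.S0144
import Groth.Agent.EtCdPhiLib.Main
-- import your own Groth.Agent.* helpers here

set_option autoImplicit false
universe u
open CategoryTheory CategoryTheory.Limits AlgebraicGeometry Opposite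
open EtPBC

namespace Groth.Agent.S14464
open CategoryTheory.Limits

open Groth.Agent.EtShLib

attribute [local instance] EtSliceLib.pullExact

variable {X : Scheme.{u}} [IsNoetherian X]

/-- A universally Japanese Noetherian scheme is Nagata. -/
theorem isNagata_affineOpens (hX : ∀ U : X.Opens, IsAffineOpen U → CAlg.IsUniversallyJapanese Γ(X, U))
    (U : X.affineOpens) : CAlg.IsNagata Γ(X, U.1) :=
  ⟨IsLocallyNoetherian.component_noetherian U, fun p _ => hX U.1 U.2 (Γ(X, U.1) ⧸ p)
    (Algebra.FiniteType.of_surjective (Ideal.Quotient.mkₐ _ p) Ideal.Quotient.mk_surjective)⟩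

/-- The direct image of a constant sheaf on a normal affine scheme quasi-finite over the base. -/
theorem isCons_push_const_normal (hN : ∀ U : X.affineOpens, CAlg.IsNagata Γ(X, U.1))
    (R : CommRingCat.{u}) [IsDomain R] [IsIntegrallyClosed R] (g : Spec R ⟶ X) [LocallyQuasiFinite g]
    [LocallyOfFiniteType g] [QuasiCompact g] (M : Type) [AddCommGroup M] [Finite M] :
    IsCons (A := AddCommGrpCat.{u + 1}) FinP ((EtCoh.push g).obj (EtCoh.const (Spec R) M)) := by
  haveI : IsSeparated g := IsSeparated.of_comp g (terminal.from X)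
  have hnorm : Pi1.IsNormalScheme (Spec R) := fun x => by
    let e := (Spec.stalkIso R x).commRingCatIsoToRingEquiv
    refine ⟨inferInstance, ?_⟩
    haveI : IsIntegrallyClosed (Localization.AtPrime (x : PrimeSpectrum R).asIdeal) :=
      isIntegrallyClosed_of_isLocalization _ _ (x : PrimeSpectrum R).asIdeal.primeCompl_le_nonZeroDivisors
    exact IsIntegrallyClosed.of_equiv e.symm
  haveI : IsLocallyNoetherian (Spec R) := LocallyOfFiniteType.isLocallyNoetherian g
  haveI : IsNoetherian (Spec R) := { }
  let N := g.normalization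
  let j : Spec R ⟶ N := g.toNormalization
  haveI : IsFinite g.fromNormalization := Groth.Agent.S9675.result g hN
  haveI : LocallyOfFinitePresentation g.fromNormalization := inferInstance
  haveI : IsLocallyNoetherian N := LocallyOfFiniteType.isLocallyNoetherian g.fromNormalization
  haveI : CompactSpace N := QuasiCompact.compactSpace_of_compactSpace g.fromNormalization
  haveI : IsNoetherian N := { }
  haveI : Finite ↥(irreducibleComponents ↥(Spec R)) :=
    TopologicalSpace.NoetherianSpace.finite_irreducibleComponents.to_subtype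
  have hNn : ∀ x : N, IsIntegrallyClosed (N.presheaf.stalk x) := fun x =>
    ((NormalizNormalLib.normalization_isNormal g hnorm (locallyFinite_of_finite _)) x).2
  haveI := Groth.Agent.S0627.result N hNn j.opensRange (Set.range_nonempty _) M
  let U := j.opensRange
  let c : (EtCoh.push U.ι).obj ((EtCoh.pull U.ι).obj (EtCoh.const N M)) ≅ EtCoh.const N M :=
    (asIso ((EtCoh.pullPushAdj U.ι).unit.app (EtCoh.const N M))).symm
  have hj : IsCons (A := AddCommGrpCat.{u + 1}) FinP ((EtCoh.push j).obj (EtCoh.const (Spec R) M)) := by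
    let e := j.isoOpensRange
    have he : e.hom ≫ U.ι = j := j.isoOpensRange_hom_ι
    let A := AddCommGrpCat.of (ULift.{u + 1} M)
    let c1 : (EtCoh.pull e.inv).obj (EtCoh.const (Spec R) M) ≅ EtCoh.const U M := (EtCore.pullConstIso e.inv).app A
    let c2 : (EtCoh.pull U.ι).obj (EtCoh.const N M) ≅ EtCoh.const U M := (EtCore.pullConstIso U.ι).app A
    haveI : Mono ((EtCoh.pullPushAdj e.inv).unit.app (EtCoh.const (Spec R) M)) := Groth.Agent.S14622.result e.inv _
    let m : (EtCoh.push j).obj (EtCoh.const (Spec R) M) ⟶ (EtCoh.push (e.inv ≫ j)).obj (EtCoh.const U M) :=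
      (EtCoh.push j).map ((EtCoh.pullPushAdj e.inv).unit.app (EtCoh.const (Spec R) M) ≫ (EtCoh.push e.inv).map c1.hom) ≫
        ((pushCompA AddCommGrpCat.{u + 1} e.inv j).app _).hom
    haveI : PreservesLimitsOfSize.{0, 0} (EtCoh.push j) := (EtCoh.pullPushAdj j).rightAdjoint_preservesLimits
    haveI : PreservesFiniteLimits (EtCoh.push j) := PreservesLimitsOfSize.preservesFiniteLimits _
    haveI : Mono m := mono_comp _ _
    have heq : e.inv ≫ j = U.ι := (Iso.inv_comp_eq e).2 he.symm
    refine cons_of_mono (m ≫ eqToHom (by rw [heq]) ≫ (EtCoh.push U.ι).map c2.inv ≫ c.hom)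
      (isCons_const (AddCommGrpCat.of (ULift.{u + 1} M)))
  refine (FinPushConsLib.isCons_push_finite g.fromNormalization hj).of_hom
    (((pushCompA AddCommGrpCat.{u + 1} j g.fromNormalization).app _) ≪≫
      eqToIso (by rw [g.toNormalization_fromNormalization])).hom

/-- Descent of constructibility of direct images along a finite surjective family. -/
theorem isCons_push_const_of_family {T : Scheme.{u}} (g : T ⟶ X) {n : ℕ} (T' : Fin n → Scheme.{u})
    (h : ∀ i, T' i ⟶ T) (hsurj : ∀ t : T, ∃ i, t ∈ Set.range (h i).base) (M : Type) [AddCommGroup M]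
    (hc : ∀ i, IsCons (A := AddCommGrpCat.{u + 1}) FinP ((EtCoh.push (h i ≫ g)).obj (EtCoh.const (T' i) M))) :
    IsCons (A := AddCommGrpCat.{u + 1}) FinP ((EtCoh.push g).obj (EtCoh.const T M)) := by
  let A := AddCommGrpCat.of (ULift.{u + 1} M)
  let p : ∀ i, EtCoh.const T M ⟶ (EtCoh.push (h i)).obj (EtCoh.const (T' i) M) := fun i =>
    (EtCoh.pullPushAdj (h i)).unit.app (EtCoh.const T M) ≫ (EtCoh.push (h i)).map ((EtCore.pullConstIso (h i)).app A).hom
  haveI : Mono (biproduct.lift p) := by
    let K := kernel (biproduct.lift p)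
    have hK : ∀ i, IsZero ((EtCoh.pull (h i)).obj K) := fun i => by
      haveI : (EtCoh.pull (h i)).Additive := (EtCoh.pullPushAdj (h i)).left_adjoint_additive
      haveI := EtSliceLib.pullExact (h i)
      let P := EtCoh.pull (h i)
      haveI : Mono (𝟙 (P.obj (EtCoh.const T M))) := ⟨fun a b hab => by simpa using hab⟩
      haveI : Mono (P.map ((EtCoh.pullPushAdj (h i)).unit.app (EtCoh.const T M))) :=
        mono_of_mono_fac (h := 𝟙 (P.obj (EtCoh.const T M))) ((EtCoh.pullPushAdj (h i)).left_triangle_components (EtCoh.const T M))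
      haveI : Mono (P.map (biproduct.lift p) ≫ P.map (biproduct.π _ i)) := by
        rw [← P.map_comp, biproduct.lift_π]
        show Mono (P.map (_ ≫ _))
        rw [P.map_comp]
        exact mono_comp _ _
      haveI : Mono (P.map (biproduct.lift p)) := mono_of_mono (P.map (biproduct.lift p)) (P.map (biproduct.π _ i))
      refine (IsZero.iff_id_eq_zero _).2 ?_
      rw [← cancel_mono (P.map (kernel.ι (biproduct.lift p))), ← cancel_mono (P.map (biproduct.lift p))]
      simp only [Category.id_comp, zero_comp, ← P.map_comp, kernel.condition, P.map_zero]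
    have hz : IsZero K := by
      rw [IsZero.iff_id_eq_zero]
      haveI : IsIso (0 : K ⟶ K) := isIso_of_stalks (A := AddCommGrpCat.{u + 1}) _ fun Ω _ _ ξ => by
        obtain ⟨i, t, ht⟩ := hsurj (ξ.base default)
        obtain ⟨Ω', _, _, ζ, hζ⟩ := EtShLib.exists_geometric_pt t
        have h0 : IsZero ((stk (A := AddCommGrpCat.{u + 1}) (ζ ≫ h i)).obj K) :=
          ((stk (A := AddCommGrpCat.{u + 1}) ζ).map_isZero (hK i)).of_iso ((stalkPull (h i) ζ AddCommGrpCat.{u + 1}).app K)
        haveI := EtPBCProperLib.subsingleton_stk_of_base (ζ ≫ h i) (AddCommGrpCat.subsingleton_of_isZero h0) ξ (by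
          rw [Scheme.Hom.comp_apply, hζ]; exact ht.symm)
        have h1 := AddCommGrpCat.isZero_of_subsingleton ((stk (A := AddCommGrpCat.{u + 1}) ξ).obj K)
        exact ⟨0, h1.eq_of_src _ _, h1.eq_of_src _ _⟩
      rw [← cancel_mono (0 : K ⟶ K)]
      simp
    exact Preadditive.mono_of_kernel_zero (hz.eq_of_src _ _)
  haveI : PreservesLimitsOfSize.{0, 0} (EtCoh.push g) := (EtCoh.pullPushAdj g).rightAdjoint_preservesLimits
  haveI : PreservesFiniteLimits (EtCoh.push g) := PreservesLimitsOfSize.preservesFiniteLimits _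
  haveI : (EtCoh.push g).Additive := { }
  haveI : PreservesFiniteBiproducts (EtCoh.push g) := inferInstance
  exact cons_of_mono ((EtCoh.push g).map (biproduct.lift p) ≫ ((EtCoh.push g).mapBiproduct _).hom ≫
    biproduct.map fun i => ((pushCompA AddCommGrpCat.{u + 1} (h i) g).app _).hom)
    (isCons_biproduct _ hc)

/-- The direct image of a constant sheaf along a quasi-finite morphism. -/
theorem isCons_push_const (hN : ∀ U : X.affineOpens, CAlg.IsNagata Γ(X, U.1)) {T : Scheme.{u}} (g : T ⟶ X)
    [LocallyQuasiFinite g] [LocallyOfFiniteType g] [QuasiCompact g] (M : Type) [AddCommGroup M] [Finite M] :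
    IsCons (A := AddCommGrpCat.{u + 1}) FinP ((EtCoh.push g).obj (EtCoh.const T M)) := by
  classical
  haveI : IsLocallyNoetherian T := LocallyOfFiniteType.isLocallyNoetherian g
  haveI : CompactSpace T := QuasiCompact.compactSpace_of_compactSpace g
  obtain ⟨s, hsc⟩ := isCompact_univ.elim_finite_subcover
    (fun W : T.affineOpens => ((W.1 : T.Opens) : Set T)) (fun W => W.1.2) fun t _ => by
      obtain ⟨W, hW, htW, -⟩ := exists_isAffineOpen_mem_and_subset (x := t) (U := (⊤ : T.Opens)) trivial
      exact Set.mem_iUnion.2 ⟨⟨W, hW⟩, htW⟩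
  haveI : ∀ W : T.affineOpens, IsNoetherianRing Γ(T, W.1) := fun W => IsLocallyNoetherian.component_noetherian W
  let ι := Σ W : s, minimalPrimes Γ(T, W.1.1)
  haveI : ∀ W : s, Finite (minimalPrimes Γ(T, W.1.1)) := fun W => (minimalPrimes.finite_of_isNoetherianRing _).to_subtype
  haveI : Finite ι := inferInstance
  let e : Fin (Nat.card ι) ≃ ι := (Finite.equivFin ι).symm
  have hp : ∀ i : ι, (i.2.1).IsPrime := fun i => i.2.2.1.1
  let C : ι → CommRingCat.{u} := fun i =>
    haveI := hp i
    CommRingCat.of ↥(integralClosure (Γ(T, i.1.1.1) ⧸ i.2.1) (FractionRing (Γ(T, i.1.1.1) ⧸ i.2.1)))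
  let q : ∀ i : ι, Γ(T, i.1.1.1) ⟶ C i := fun i =>
    haveI := hp i
    CommRingCat.ofHom ((algebraMap (Γ(T, i.1.1.1) ⧸ i.2.1) _).comp (Ideal.Quotient.mk i.2.1))
  let h : ∀ i : ι, Spec (C i) ⟶ T := fun i => Spec.map (q i) ≫ i.1.1.2.fromSpec
  refine isCons_push_const_of_family g (fun a => Spec (C (e a))) (fun a => h (e a)) (fun t => ?_) M fun a => ?_
  · obtain ⟨W, hW, htW⟩ := Set.mem_iUnion₂.1 (hsc (a := t) (Set.mem_univ t))
    let P := (W.2.primeIdealOf ⟨t, htW⟩)
    obtain ⟨p, hpm, hpP⟩ := Ideal.exists_minimalPrimes_le (I := ⊥) (J := P.asIdeal) bot_le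
    haveI : p.IsPrime := hpm.1.1
    let i : ι := ⟨⟨W, hW⟩, ⟨p, hpm⟩⟩
    obtain ⟨a, ha⟩ := e.surjective i
    refine ⟨a, ?_⟩
    rw [ha]
    let S := Γ(T, W.1) ⧸ p
    let K := FractionRing S
    haveI : (P.asIdeal.map (Ideal.Quotient.mk p)).IsPrime :=
      Ideal.map_isPrime_of_surjective Ideal.Quotient.mk_surjective (by rw [Ideal.mk_ker]; exact hpP)
    have hinj : Function.Injective (algebraMap S ↥(integralClosure S K)) := fun a b hab =>
      IsFractionRing.injective S K (congrArg Subtype.val hab)
    obtain ⟨Q, -, hQp, hQ⟩ := Ideal.exists_ideal_over_prime_of_isIntegral (R := S) (S := ↥(integralClosure S K))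
      (P.asIdeal.map (Ideal.Quotient.mk p)) ⊥ (by rw [← RingHom.ker_eq_comap_bot, (RingHom.injective_iff_ker_eq_bot _).1 hinj]; exact bot_le)
    refine ⟨(⟨Q, hQp⟩ : PrimeSpectrum ↥(integralClosure S K)), ?_⟩
    show W.2.fromSpec.base ((Spec.map (q i)).base (⟨Q, hQp⟩ : PrimeSpectrum ↥(integralClosure S K))) = t
    rw [show (Spec.map (q i)).base (⟨Q, hQp⟩ : PrimeSpectrum ↥(integralClosure S K)) = P from PrimeSpectrum.ext (by
      show Q.comap (q i).hom = P.asIdeal
      show Q.comap ((algebraMap S ↥(integralClosure S K)).comp (Ideal.Quotient.mk p)) = _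
      rw [← Ideal.comap_comap, hQ, Ideal.comap_map_of_surjective _ Ideal.Quotient.mk_surjective,
        ← RingHom.ker_eq_comap_bot, Ideal.mk_ker, sup_eq_left.mpr hpP])]
    exact W.2.fromSpec_primeIdealOf ⟨t, htW⟩
  · haveI := hp (e a)
    let W := (e a).1.1
    let S := Γ(T, W.1) ⧸ (e a).2.1
    let K := FractionRing S
    have hfin : Module.Finite S ↥(integralClosure S K) :=
      (ModifLib.isNagata_affineOpens g hN W).2 (e a).2.1 K inferInstance
    haveI : IsIntegrallyClosed ↥(integralClosure S K) := integralClosure.isIntegrallyClosedOfFiniteExtension K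
    haveI : IsFinite (Spec.map (q (e a))) := by
      rw [IsFinite.SpecMap_iff]
      exact (RingHom.finite_algebraMap.2 hfin).comp (RingHom.Finite.of_surjective _ Ideal.Quotient.mk_surjective)
    haveI : LocallyQuasiFinite (h (e a) ≫ g) := inferInstance
    haveI : LocallyOfFiniteType (h (e a) ≫ g) := inferInstance
    haveI : IsNoetherian (Spec Γ(T, W.1)) := inferInstance
    haveI : QuasiCompact (h (e a) ≫ g) := quasiCompact_of_compactSpace _
    haveI : IsDomain (C (e a)) := inferInstanceAs (IsDomain ↥(integralClosure S K))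
    haveI : IsIntegrallyClosed (C (e a)) := ‹IsIntegrallyClosed ↥(integralClosure S K)›
    exact isCons_push_const_normal hN (C (e a)) (h (e a) ≫ g) M



/-- Let X be a Noetherian scheme whose affine opens have universally Japanese coordinate rings, q : Y →
X a quasi-compact quasi-finite morphism locally of finite type, and F a constructible abelian étale
sheaf on Y. Then q_* F is constructible. -/
theorem result {X Y : Scheme.{u}} [IsNoetherian X]
    (hX : ∀ U : X.Opens, IsAffineOpen U → CAlg.IsUniversallyJapanese Γ(X, U))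
    (q : Y ⟶ X) [LocallyQuasiFinite q] [LocallyOfFiniteType q] [QuasiCompact q]
    (F : EtCoh.Ab Y) (hF : EtPBC.IsConstructible F) :
    EtPBC.IsConstructible ((EtCoh.push q).obj F) := by
  rw [Groth.Agent.EtShLib.isConstructible_iff]
  haveI : IsLocallyNoetherian Y := LocallyOfFiniteType.isLocallyNoetherian q
  haveI : CompactSpace Y := QuasiCompact.compactSpace_of_compactSpace q
  haveI : IsNoetherian Y := { }
  obtain ⟨n, T, f, hfin, hfp, M, iM, fM, ι, hι⟩ := ConsEmbedLib.exists_embed hF
  haveI := hι
  haveI : PreservesLimitsOfSize.{0, 0} (EtCoh.push q) := (EtCoh.pullPushAdj q).rightAdjoint_preservesLimits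
  haveI : PreservesFiniteLimits (EtCoh.push q) := PreservesLimitsOfSize.preservesFiniteLimits _
  haveI : (EtCoh.push q).Additive := { }
  refine EtShLib.cons_of_mono ((EtCoh.push q).map ι ≫ ((EtCoh.push q).mapBiproduct _).hom ≫
    biproduct.map fun i => ((EtShLib.pushCompA AddCommGrpCat.{u + 1} (f i) q).app _).hom)
    (EtShLib.isCons_biproduct _ fun i => ?_)
  haveI := hfin i
  haveI := hfp i
  haveI := fM i
  exact isCons_push_const (isNagata_affineOpens hX) (f i ≫ q) (M i)


end Groth.Agent.S14464
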