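import Groth.Statements.S14466
import Groth.Agent.CdAffineCurveLib.Main
import Groth.Agent.CdAffineCurveLib.ResZar
import Groth.Agent.EtTransferLib.Torsion
import Groth.Agent.EtExtLib.SepClosed
import Groth.Agent.FibDimLib.Formula

set_option maxHeartbeats 400000
set_option linter.style.haveILetI false
set_option backward.isDefEq.respectTransparency false
set_option backward.isDefEq.respectTransparency.types false

set_option autoImplicit false
universe u
open CategoryTheory CategoryTheory.Limits AlgebraicGeometry Opposite
open EtZar

namespace Groth.Agent.S14466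

/-- Let k be a separably closed field, C a scheme of finite type over k of dimension at most one, and F
a torsion abelian étale sheaf on C. Then R^i ζ_* F = 0 for all i > 1, where ζ_* restricts étale
sheaves to the Zariski site of C. (The published statement is for curves, i.e. dimension exactly
one; dimension at most one is allowed here.) -/
theorem result (k : Type u) [Field k] [IsSepClosed k]
    (C : Scheme.{u}) (f : C ⟶ Spec (CommRingCat.of k)) [LocallyOfFiniteType f] [QuasiCompact f]
    (hdim : topologicalKrullDim C ≤ 1) [EtZar.ZarCont C] [(EtZar.resZar C).Additive]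
    (F : EtCoh.Ab C) (hF : EtCoh.IsTorsion F) (i : ℕ) (hi : 1 < i) :
    IsZero (((EtZar.resZar C).rightDerived i).obj F) := by
  obtain ⟨j, rfl⟩ : ∃ j, i = j + 1 := ⟨i - 1, by omega⟩
  refine CdAffineCurveLib.isZero_rightDerived_resZar F j fun U x hx => ?_
  obtain ⟨V, hV, hxV, hVU⟩ := exists_isAffineOpen_mem_and_subset (x := x) (U := U) hx
  refine ⟨V, hVU, hxV, ?_⟩
  let W := (EtZar.zarToEt C).obj V
  refine @Function.Injective.subsingleton _ _ _ (EtSliceLib.psi_bijective W (j + 1) F).1 ?_
  haveI : IsAffine W.left := hV
  let g : W.left ⟶ Spec (CommRingCat.of k) := V.ι ≫ f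
  haveI : IsAffine (V : Scheme.{u}) := hV
  let a := pullback.fst (V.ι ≫ f) (FEtProper.spR k (AlgebraicClosure k))
  obtain ⟨i₁, i₂, i₃⟩ := EtExtLib.universalHomeo_spR k (AlgebraicClosure k)
  haveI : IsIntegralHom a := MorphismProperty.pullback_fst _ _ i₁
  haveI : UniversallyInjective a := MorphismProperty.pullback_fst _ _ i₂
  haveI : Surjective a := MorphismProperty.pullback_fst _ _ i₃
  haveI : IsAffine (pullback (V.ι ≫ f) (FEtProper.spR k (AlgebraicClosure k))) := isAffine_of_isAffineHom a
  have hd : topologicalKrullDim ↥(pullback (V.ι ≫ f) (FEtProper.spR k (AlgebraicClosure k))) ≤ 1 :=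
    (FibDimLib.topologicalKrullDim_pullback_field k (AlgebraicClosure k) (V.ι ≫ f)).trans_le
      ((V.ι.isOpenEmbedding.isInducing.topologicalKrullDim_le).trans hdim)
  exact CdAffineCurveLib.cohDimLE_of_homeo a (CdAffineCurveLib.cohDimLE_one (AlgebraicClosure k) (pullback.snd _ _) hd)
    _ (EtTransferLib.isTorsion_pull W hF) (j + 1) hi

end Groth.Agent.S14466
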