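import Groth.Statements.S14473
import Groth.Agent.EllLawLib.Law
import Groth.Agent.EllLawLib.Field
import Groth.Agent.SweepSix.GeomConn
import Groth.Agent.GenusZeroLib.PointDown

set_option autoImplicit false
universe u
open CategoryTheory CategoryTheory.Limits AlgebraicGeometry
open Curves MonObj CartesianMonoidalCategory MonoidalCategory

namespace Groth.Agent.S14473

/-- Let k be an algebraically closed field and C a smooth proper connected curve over k (proper and
smooth over k, integral, of dimension one) of genus 1, the genus being the dimension of H¹(C, O_C).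
Then the group of k-automorphisms of C is infinite: there are infinitely many automorphisms of the
scheme C over Spec k. -/
theorem result (k : Type u) [Field k] [IsAlgClosed k]
    (C : Scheme.{u}) [C.Over (Spec (CommRingCat.of k))] (hC : Curve.IsSmoothProperCurve k C (C ↘ (Spec (CommRingCat.of k))))
    (hg : Curv2.genus k C = 1) :
    Infinite {e : C ≅ C // e.hom ≫ (C ↘ (Spec (CommRingCat.of k))) = C ↘ (Spec (CommRingCat.of k))} := by
  obtain ⟨hp, hs, hi, hdim⟩ := hC
  haveI := hi
  obtain ⟨p, hpdef⟩ : ∃ p : C ⟶ Spec (CommRingCat.of k), p = C ↘ Spec (CommRingCat.of k) := ⟨_, rfl⟩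
  subst hpdef
  haveI := SweepSix.GeomConn.gc_of_isAlgClosed (C ↘ Spec (CommRingCat.of k))
  have hf : EllLawLib.IsCurveFam (C ↘ Spec (CommRingCat.of k)) := ⟨hp, hs, inferInstance,
    fun s => (EllLawLib.dim_fiber_spec _ s).trans hdim, fun s => (EllLawLib.fiberRank_spec _ 1 s).trans hg⟩
  obtain ⟨o, ho⟩ := GenusZeroLib.exists_rational_point_of_smooth (C ↘ Spec (CommRingCat.of k))
  letI := EllLawLib.grpObj hf o ho
  let X : Over (Spec (CommRingCat.of k)) := Over.mk (C ↘ Spec (CommRingCat.of k))
  let T : Over (Spec (CommRingCat.of k)) := 𝟙_ (Over (Spec (CommRingCat.of k)))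
  let tr : (T ⟶ X) → (X ⟶ X) := fun u => 𝟙 X * (toUnit X ≫ u)
  have htr : ∀ u v : T ⟶ X, tr u ≫ tr v = 𝟙 X * (toUnit X ≫ (u * v)) := fun u v => by
    simp only [tr]
    rw [MonObj.comp_mul, Category.comp_id, ← Category.assoc, Subsingleton.elim ((𝟙 X * (toUnit X ≫ u)) ≫ toUnit X) (toUnit X),
      MonObj.comp_mul, _root_.mul_assoc]
  have htr1 : 𝟙 X * (toUnit X ≫ (1 : T ⟶ X)) = 𝟙 X := by rw [MonObj.comp_one, _root_.mul_one]
  let e : (T ⟶ X) → {e : C ≅ C // e.hom ≫ (C ↘ Spec (CommRingCat.of k)) = C ↘ Spec (CommRingCat.of k)} := fun u =>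
    ⟨⟨(tr u).left, (tr u⁻¹).left, by rw [← Over.comp_left, htr, mul_inv_cancel, htr1]; rfl,
      by rw [← Over.comp_left, htr, inv_mul_cancel, htr1]; rfl⟩, Over.w (tr u)⟩
  have hinj : Function.Injective e := fun u v huv => by
    have h1 : tr u = tr v := Over.OverMorphism.ext (congrArg (fun z => z.1.hom) huv)
    have h2 := congrArg (fun z => (1 : T ⟶ X) ≫ z) h1
    simp only [tr, MonObj.comp_mul, Category.comp_id, ← Category.assoc, _root_.one_mul,
      Subsingleton.elim ((1 : T ⟶ X) ≫ toUnit X) (𝟙 T), Category.id_comp] at h2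
    exact h2
  haveI : Infinite (T ⟶ X) := by
    by_contra hfin
    rw [not_infinite_iff_finite] at hfin
    let pt : (T ⟶ X) → C := fun u => u.left (IsLocalRing.closedPoint k)
    have hcl : IsClosed (⋃ u ∈ {u : T ⟶ X | IsClosed ({pt u} : Set C)}, ({pt u} : Set C)) :=
      (Set.toFinite _).isClosed_biUnion fun u hu => hu
    obtain ⟨x, hxV, hxc, -, -⟩ := GenusZeroLib.exists_good_point (k := k) hdim ⟨_, hcl.isOpen_compl⟩
      ⟨genericPoint C, by
        simp only [TopologicalSpace.Opens.coe_mk, Set.mem_compl_iff, Set.mem_iUnion, Set.mem_singleton_iff, not_exists]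
        intro u hu heq
        exact GenusZeroLib.ne_genericPoint_of_isClosed hdim hu heq.symm⟩
    refine hxV (Set.mem_biUnion (x := Over.homMk (pointOfClosedPoint (C ↘ Spec (CommRingCat.of k)) x hxc)
      (pointOfClosedPoint_comp _ x hxc)) ?_ (Set.mem_singleton_iff.2 ?_))
    · show IsClosed ({(pointOfClosedPoint (C ↘ Spec (CommRingCat.of k)) x hxc) (IsLocalRing.closedPoint k)} : Set C)
      rw [pointOfClosedPoint_apply]
      exact hxc
    · exact (pointOfClosedPoint_apply _ x hxc _).symm
  exact Infinite.of_injective e hinj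

end Groth.Agent.S14473
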