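import Groth.Statements.S14474
import Groth.Agent.NodalLib.OpenNodal

set_option autoImplicit false
set_option backward.isDefEq.respectTransparency false
set_option backward.isDefEq.respectTransparency.types false
universe u
open CategoryTheory CategoryTheory.Limits AlgebraicGeometry
open Curves

namespace Groth.Agent.S14474

/-- Let π : C → S be a proper, flat morphism of finite presentation all of whose fibres have every
irreducible component of dimension one (every geometric fibre is a curve). Then the set of points s
of S such that the fibre C_s, as a scheme over κ(s), has at-worst-nodal singularities (each closed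
point has a smooth open neighbourhood or is a node) is open in S. -/
theorem result {C S : Scheme.{u}} (π : C ⟶ S)
    [IsProper π] [Flat π] [LocallyOfFinitePresentation π]
    (hfib : ∀ s : S, ∀ Z ∈ irreducibleComponents (↥(π.fiber s) : Type u), topologicalKrullDim Z = 1) :
    IsOpen {s : S | letI : (π.fiber s).Over (Spec (S.residueField s)) := ⟨π.fiberToSpecResidueField s⟩
      Curv2.AtWorstNodal (S.residueField s) (π.fiber s)} := by
  have hW := NodalLib.isOpen_smoothOrNode π hfib
  have hc := π.isClosedMap _ hW.isClosed_compl
  convert hc.isOpen_compl using 1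
  ext s
  letI : (π.fiber s).Over (Spec (CommRingCat.of (S.residueField s))) := ⟨π.fiberToSpecResidueField s⟩
  haveI : LocallyOfFiniteType (π.fiber s ↘ Spec (CommRingCat.of (S.residueField s))) :=
    NodalLib.locallyOfFiniteType_fiberTo π s
  show Curv2.AtWorstNodal (S.residueField s) (π.fiber s) ↔ _
  refine ⟨fun h => ?_, fun h => NodalLib.atWorstNodal_of_forall (S.residueField s) fun z => ?_⟩
  · rintro ⟨p, hp, rfl⟩
    exact hp (NodalLib.forall_of_atWorstNodal (S.residueField (π p))
      (NodalLib.topologicalKrullDim_le_one_of_curveDims (hfib (π p))) h (π.asFiber p))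
  · obtain ⟨p, hp, hz⟩ : ∃ p, ∃ hp : π p = s, hp ▸ π.asFiber p = z := by
      have hp : π (π.fiberι s z) = s := (π.range_fiberι s).subset ⟨z, rfl⟩
      refine ⟨π.fiberι s z, hp, ?_⟩
      generalize hy : π.fiberι s z = x at hp ⊢
      subst hp
      exact (π.fiberι (π x)).isEmbedding.injective ((π.fiberι_asFiber x).trans hy.symm)
    subst hp
    simp only at hz
    subst hz
    by_contra hb
    exact h ⟨p, hb, rfl⟩

end Groth.Agent.S14474
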