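import Groth.Statements.S14477
import Mathlib
import Groth.Agent.TorHyperLib.Annih
import Groth.Agent.Unram17Lib.HyperSing
-- import your own Groth.Agent.* helpers here

set_option autoImplicit false
set_option maxHeartbeats 2000000
set_option backward.isDefEq.respectTransparency false
universe u
open KaehlerDifferential
open LocInt

namespace Groth.Agent.S14477

/-- Let A → B be a smooth ring map with Ω_{B/A} of rank n at every prime of B, g ∈ B a nonzerodivisor
and R = B/gB, a hypersurface of virtual relative dimension n - 1 over A; let J ⊆ R be the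
annihilator of the n-th exterior power of Ω_{R/A} and Z = Spec R/J. Then J is the ideal of R
generated by the classes of the elements φ(dg), φ ranging over the B-linear forms on Ω_{B/A}; where
Ω_{B/A} is free on dt_1, …, dt_n this says that Z is cut out by the partial derivatives ∂g/∂t_1, …,
∂g/∂t_n. In particular every φ(dg) vanishes in R/J; since Ω_{B/A} is finite projective this says
that dg ⊗ 1 = 0 in Ω_{B/A} ⊗_B R/J, i.e. the map from the conormal module gB/g²B ⊗ R/J to Ω_{B/A}
⊗_B R/J induced by d vanishes, and with the cotangent complex of R over A represented by the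
two-term complex (gB/g²B → Ω_{B/A} ⊗_B R) this is the statement that the canonical map from L_Z =
L_1 i^* L_{R/A} to the conormal module restricted to Z is an isomorphism. (The published statement
also asserts that, for a regular immersion of any codimension into a smooth scheme, this map from
L_Z is a locally split injection; that part is not stated here. The published statement is the
isomorphism alone, which amounts to the inclusion of the ideal generated by the φ(dg) in J; this row
states the equality, whose other inclusion is the local description of Z by the partial derivatives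
given with the definition of Z.) -/
theorem result (A B R : Type u) [CommRing A] [CommRing B] [CommRing R]
    [Algebra A B] [Algebra B R] [Algebra A R] [IsScalarTower A B R] [Algebra.Smooth A B] (n : ℕ)
    (hn : ∀ p : PrimeSpectrum B, Module.rankAtStalk (Ω[B⁄A]) p = n)
    (g : B) (hg : IsSMulRegular B g) (hsurj : Function.Surjective (algebraMap B R))
    (hker : RingHom.ker (algebraMap B R) = Ideal.span {g}) :
    (⋀[R]^n (Ω[R⁄A])).annihilator =
      Ideal.span (Set.range fun φ : Ω[B⁄A] →ₗ[B] B => algebraMap B R (φ (KaehlerDifferential.D A B g))) := by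
  refine le_antisymm (TorHyperLib.annihilator_le_jacIdeal A g n hn hsurj hker) (Ideal.span_le.2 ?_)
  rintro _ ⟨φ, rfl⟩
  rw [SetLike.mem_coe, Module.mem_annihilator]
  let μ : Ω[B⁄A] →ₗ[B] Ω[R⁄A] := KaehlerDifferential.map A A B R
  have hμ : Function.Surjective μ := fun y => by
    obtain ⟨z, rfl⟩ := KaehlerDifferential.mapBaseChange_surjective A B R hsurj y
    obtain ⟨x, rfl⟩ := TorHyperLib.exists_one_tmul hsurj z
    exact ⟨x, by simp [μ]⟩
  have hμg : μ (KaehlerDifferential.D A B g) = 0 := by
    simp only [μ, KaehlerDifferential.map_D, TorHyperLib.algebraMap_g g hker, map_zero]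
  have htop : (⋀[B]^(n + 1) (Ω[B⁄A])).annihilator = ⊤ := by
    by_contra h
    obtain ⟨m, hm, hle⟩ := Ideal.exists_le_maximal _ h
    have h1 := (Unram17Lib.annihilator_exteriorPower_le_iff (n + 1) m).1 hle
    have h2 := Module.rankAtStalk_eq (R := B) (M := Ω[B⁄A]) ⟨m, hm.isPrime⟩
    rw [hn] at h2
    change n = Module.finrank m.ResidueField (TensorProduct B m.ResidueField Ω[B⁄A]) at h2
    omega
  let h : Ω[B⁄A] →ₗ[B] ExteriorAlgebra R Ω[R⁄A] := ((ExteriorAlgebra.ι R).restrictScalars B).comp μ
  let Φ : ExteriorAlgebra B Ω[B⁄A] →ₐ[B] ExteriorAlgebra R Ω[R⁄A] :=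
    ExteriorAlgebra.lift B ⟨h, fun x => ExteriorAlgebra.ι_sq_zero (μ x)⟩
  have hΦι : ∀ x, Φ (ExteriorAlgebra.ι B x) = ExteriorAlgebra.ι R (μ x) := fun x => by
    simp only [Φ, ExteriorAlgebra.lift_ι_apply]
    rfl
  have key : ∀ v : Fin n → Ω[B⁄A],
      algebraMap B R (φ (KaehlerDifferential.D A B g)) • exteriorPower.ιMulti R n (fun i => μ (v i)) = 0 := by
    intro v
    apply Subtype.ext
    rw [Submodule.coe_smul, exteriorPower.ιMulti_apply_coe, IsScalarTower.algebraMap_smul]
    have h0 : ExteriorAlgebra.ι B (KaehlerDifferential.D A B g) * ExteriorAlgebra.ιMulti B n v = 0 := by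
      have h1 : exteriorPower.ιMulti B (n + 1) (Matrix.vecCons (KaehlerDifferential.D A B g) v) = 0 := by
        rw [← one_smul B (exteriorPower.ιMulti B (n + 1) (Matrix.vecCons (KaehlerDifferential.D A B g) v))]
        have h3 : (1 : B) ∈ (⋀[B]^(n + 1) (Ω[B⁄A])).annihilator := htop ▸ trivial
        exact Subtype.ext (Submodule.mem_annihilator.1 h3 _ (exteriorPower.ιMulti B (n + 1) _).2)
      have h2 := congrArg Subtype.val h1
      rw [exteriorPower.ιMulti_apply_coe, ExteriorAlgebra.ιMulti_succ_apply] at h2
      simpa using h2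
    have h3 := congrArg (CliffordAlgebra.contractLeft (Q := (0 : QuadraticForm B Ω[B⁄A])) φ) h0
    rw [map_zero, show ExteriorAlgebra.ι B (M := Ω[B⁄A]) = CliffordAlgebra.ι (0 : QuadraticForm B Ω[B⁄A]) from rfl,
      CliffordAlgebra.contractLeft_ι_mul, sub_eq_zero] at h3
    have h4 := congrArg Φ h3
    rw [map_smul, map_mul, show CliffordAlgebra.ι (0 : QuadraticForm B Ω[B⁄A]) (KaehlerDifferential.D A B g) =
      ExteriorAlgebra.ι B (KaehlerDifferential.D A B g) from rfl, hΦι, hμg, map_zero, zero_mul] at h4
    have h5 : Φ (ExteriorAlgebra.ιMulti B n v) = ExteriorAlgebra.ιMulti R n (fun i => μ (v i)) := by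
      rw [ExteriorAlgebra.ιMulti_apply, ExteriorAlgebra.ιMulti_apply, map_list_prod, List.map_ofFn]
      congr 1
      exact congrArg List.ofFn (funext fun i => hΦι (v i))
    rw [← h5]
    simpa using h4
  intro z
  have hz : z ∈ Submodule.span R (Set.range (exteriorPower.ιMulti R n (M := Ω[R⁄A]))) :=
    (exteriorPower.ιMulti_span R n Ω[R⁄A]).ge Submodule.mem_top
  induction hz using Submodule.span_induction with
  | mem z hz =>
    obtain ⟨v, rfl⟩ := hz
    choose w hw using fun i => hμ (v i)
    rw [show v = fun i => μ (w i) from funext fun i => (hw i).symm]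
    exact key w
  | zero => exact smul_zero _
  | add a b _ _ ha hb => rw [smul_add, ha, hb, add_zero]
  | smul c a _ ha => rw [smul_comm, ha, smul_zero]

end Groth.Agent.S14477
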