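import Groth.Statements.S14478
import Groth.Agent.Sweep9Lib.CommonCompl

set_option autoImplicit false
universe u
open CharCyc

namespace Groth.Agent.S14478

/-- Let V be a finite-dimensional vector space over a field k, let W = V × V^∨ with V^∨ the dual space,
and let T ⊆ W be a subspace with dim T = dim V; put V₁ = V ∩ T, where V sits in W as V × 0. Then
there is a complement V₂ of V₁ in V with the following property: for every injective linear map A₁ :
V₁ → V₁^∨, the map A : V → V^∨ extending A₁ by zero along the decompositions V = V₁ ⊕ V₂ and V^∨ =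
V₁^∨ ⊕ V₂^∨ (so A v = A₁(p v) ∘ p, with p : V → V₁ the projection along V₂) has graph Γ ⊆ W with Γ ∩
T = 0. -/
theorem result (k V : Type u) [Field k] [AddCommGroup V] [Module k V]
    [FiniteDimensional k V] (T : Submodule k (V × Module.Dual k V))
    (hT : Module.finrank k T = Module.finrank k V) :
    ∃ (V₂ : Submodule k V) (h : IsCompl (T.comap (LinearMap.inl k V (Module.Dual k V))) V₂),
      ∀ A₁ : T.comap (LinearMap.inl k V (Module.Dual k V)) →ₗ[k]
          Module.Dual k (T.comap (LinearMap.inl k V (Module.Dual k V))),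
        Function.Injective A₁ →
          LinearMap.graph ((Submodule.projectionOnto _ V₂ h).dualMap ∘ₗ A₁ ∘ₗ
              Submodule.projectionOnto _ V₂ h) ⊓ T = ⊥ := by
  let W : Submodule k (Module.Dual k V) := T.map (LinearMap.snd k V (Module.Dual k V))
  let V₁ : Submodule k V := T.comap (LinearMap.inl k V (Module.Dual k V))
  have hn := LinearMap.finrank_range_add_finrank_ker (K := k) (V := T) (V₂ := Module.Dual k V) ((LinearMap.snd k V (Module.Dual k V)).comp T.subtype)
  have hr : LinearMap.range ((LinearMap.snd k V (Module.Dual k V)).comp T.subtype) = W := by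
    rw [LinearMap.range_comp, Submodule.range_subtype]
  let e : LinearMap.ker ((LinearMap.snd k V (Module.Dual k V)).comp T.subtype) ≃ₗ[k] V₁ :=
    { toFun := fun t => ⟨t.1.1.1, by
        change ((t.1.1.1, 0) : V × Module.Dual k V) ∈ T
        have h2 : t.1.1.2 = 0 := t.2
        rw [← h2]; exact t.1.2⟩
      invFun := fun v => ⟨⟨(v.1, 0), v.2⟩, rfl⟩
      map_add' := fun a b => rfl
      map_smul' := fun c a => rfl
      left_inv := fun t => Subtype.ext (Subtype.ext (Prod.ext rfl t.2.symm))
      right_inv := fun v => rfl }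
  rw [hr, e.finrank_eq, hT] at hn
  have hc := Subspace.finrank_add_finrank_dualCoannihilator_eq W
  obtain ⟨C, hC₁, hC₂⟩ := Sweep9Lib.exists_common_isCompl (Module.finrank k W) V₁ W.dualCoannihilator
    (by omega) (by omega)
  refine ⟨C, hC₁, fun A₁ hA => eq_bot_iff.2 ?_⟩
  rintro ⟨v, φ⟩ ⟨hg, hmem⟩
  simp only [SetLike.mem_coe, LinearMap.mem_graph_iff, LinearMap.comp_apply] at hg
  have hφ : φ = 0 := by
    refine LinearMap.ext fun x => ?_
    obtain ⟨a, ha, b, hb, rfl⟩ := Submodule.mem_sup.1 (hC₂.sup_eq_top.symm ▸ (Submodule.mem_top : x ∈ ⊤))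
    have h1 : φ a = 0 := (Submodule.mem_dualCoannihilator a).1 ha φ ⟨(v, φ), hmem, rfl⟩
    have h2 : φ b = 0 := by
      rw [hg, LinearMap.dualMap_apply, (Submodule.projectionOnto_apply_eq_zero_iff hC₁).2 hb, map_zero]
    rw [map_add, h1, h2, add_zero, LinearMap.zero_apply]
  subst hφ
  have hv₁ : v ∈ V₁ := hmem
  have h3 : Submodule.projectionOnto V₁ C hC₁ v = 0 := by
    apply hA
    rw [map_zero]
    refine LinearMap.ext fun w => ?_
    have := LinearMap.congr_fun hg.symm w.1
    rw [LinearMap.dualMap_apply, Submodule.projectionOnto_apply_left hC₁ w] at this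
    exact this
  have hvC : v ∈ C := (Submodule.projectionOnto_apply_eq_zero_iff hC₁).1 h3
  have h0 : v = 0 := Submodule.disjoint_def.1 hC₁.disjoint v hv₁ hvC
  rw [Submodule.mem_bot, h0]
  rfl

end Groth.Agent.S14478
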