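import Groth.Statements.S14479
import Mathlib

set_option autoImplicit false
universe u
open CharCyc

namespace Groth.Agent.S14479

/-- Let V be a finite-dimensional vector space over a field k. If dim V is even or the characteristic of
k is different from 2, there is a bilinear form B on V such that the bilinear form (v, w) ↦ B(v, w)
+ B(w, v) (B plus its transpose, as a map V → V^∨) is nondegenerate. -/
theorem result (k V : Type u) [Field k] [AddCommGroup V] [Module k V]
    [FiniteDimensional k V] (h : Even (Module.finrank k V) ∨ ringChar k ≠ 2) :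
    ∃ B : LinearMap.BilinForm k V, (B + B.flip).Nondegenerate := by
  classical
  rcases h with h | h
  · obtain ⟨m, hm⟩ := h
    let e : Module.Basis (Fin m ⊕ Fin m) k V :=
      (Module.finBasisOfFinrankEq k V hm).reindex finSumFinEquiv.symm
    let M : Matrix (Fin m ⊕ Fin m) (Fin m ⊕ Fin m) k := Matrix.fromBlocks 0 1 0 0
    refine ⟨Matrix.toBilin e M, ?_⟩
    rw [← LinearMap.BilinForm.nondegenerate_toMatrix_iff e, map_add]
    have : LinearMap.BilinForm.toMatrix e (Matrix.toBilin e M).flip = M.transpose := by
      ext i j; simp [LinearMap.BilinForm.toMatrix_apply, Matrix.toBilin_apply, Finsupp.single_apply]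
    rw [this, LinearMap.BilinForm.toMatrix_toBilin]
    apply Matrix.nondegenerate_of_det_ne_zero
    have h2 : (M + M.transpose) * (M + M.transpose) = 1 := by
      simp [M, Matrix.fromBlocks_transpose, Matrix.fromBlocks_add, Matrix.fromBlocks_multiply]
    intro h0
    simpa [h0] using congrArg Matrix.det h2
  · let e := Module.finBasis k V
    refine ⟨Matrix.toBilin e 1, ?_⟩
    rw [← LinearMap.BilinForm.nondegenerate_toMatrix_iff e, map_add]
    have : LinearMap.BilinForm.toMatrix e (Matrix.toBilin e 1).flip = 1 := by
      ext i j; simp [LinearMap.BilinForm.toMatrix_apply, Matrix.toBilin_apply, Finsupp.single_apply, Matrix.one_apply, eq_comm]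
    rw [this, LinearMap.BilinForm.toMatrix_toBilin]
    apply Matrix.nondegenerate_of_det_ne_zero
    rw [← two_smul k (1 : Matrix _ _ k), Matrix.det_smul, Matrix.det_one, mul_one]
    exact pow_ne_zero _ (Ring.two_ne_zero h)

end Groth.Agent.S14479
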