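import Groth.Statements.S1448
import Groth.Agent.FibDegLib.Strata
-- import your own Groth.Agent.* helpers here

set_option autoImplicit false
universe u
open FlatMor

open CategoryTheory CategoryTheory.Limits AlgebraicGeometry
set_option backward.isDefEq.respectTransparency false
set_option backward.isDefEq.respectTransparency.types false
set_option linter.style.haveILetI false
namespace Groth.Agent.S1448

open AlgebraicGeometry CategoryTheory Limits in
/-- Consider a separated, flat, quasi-compact and locally quasi-finite morphism f : X → S which is
locally of finite presentation. Then there is a function deg : S → ℕ with every sublevel set {deg ≤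
r} closed and every level set retrocompact, such that for every morphism g : T → S and every r, deg
∘ g is constant with value r exactly when the base change of f along g is finite locally free of
degree r. -/
theorem result {X S : Scheme.{u}} (f : X ⟶ S) [Flat f] [LocallyOfFinitePresentation f] [IsSeparated f] [LocallyQuasiFinite f] [QuasiCompact f] :
    ∃ deg : ↑S → ℕ, (∀ r : ℕ, IsClosed {s : ↑S | deg s ≤ r}) ∧ (∀ r : ℕ, IsRetrocompact {s : ↑S | deg s = r}) ∧
      ∀ (T : Scheme.{u}) (g : T ⟶ S) (r : ℕ), Mor2.IsFinLocFreeOfDeg r (pullback.snd f g) ↔ ∀ t : T, deg (g t) = r := by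
  choose deg hdeg using fun s => FibDegLib.exists_natCast_eq_rk f (f.finite_preimage_singleton s)
  refine ⟨deg, fun r => ?_, fun r => ?_, fun T g r => FibDegLib.isFinLocFreeOfDeg_snd_iff f deg hdeg g r⟩
  · rw [← isOpen_compl_iff]
    convert FibDegLib.isOpen_setOf_le_rk f (r + 1) using 1
    ext s
    simp only [Set.mem_compl_iff, Set.mem_setOf_eq, hdeg s, Nat.cast_le]
    omega
  · convert FibDegLib.isRetrocompact_setOf_rk_eq f r using 2
    ext s
    simp only [Set.mem_setOf_eq, hdeg s, Nat.cast_inj]

end Groth.Agent.S1448
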