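import Groth.Statements.S14483
import Groth.Agent.FibIrrLib.Basic
import Mathlib.AlgebraicGeometry.Morphisms.UniversallyInjective
-- import your own Groth.Agent.* helpers here

set_option autoImplicit false
set_option backward.isDefEq.respectTransparency false
set_option linter.all false
universe u
open CategoryTheory CategoryTheory.Limits AlgebraicGeometry
open CharCyc

namespace Groth.Agent.S14483

open TopologicalSpace

/-- Let k be a field and let f : X → S be a morphism between separated k-schemes of finite type. Two
closed subsets Y, Z of X are said to well intersect with respect to f when dim(Y ×_S Z ∖ Y ×_X Z) ≤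
dim Y + dim Z − dim S; here Y ×_S Z ∖ Y ×_X Z is taken as the subspace of X ×_S X of points whose
two projections lie in Y and in Z and which are not in the image of the diagonal, and the inequality
is written additively as dim(Y ×_S Z ∖ Y ×_X Z) + dim S ≤ dim Y + dim Z (topological Krull
dimensions, the empty space having dimension ⊥). Let Y ⊆ X be closed and irreducible with dim Y <
dim S, and suppose that the pair Y, Y well intersects with respect to f. Then Y → S is generically
radicial onto its image: there is an open subset V of X meeting Y such that f is injective on V ∩ Y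
and, at every point of V ∩ Y, the residue field extension induced by f is purely inseparable. -/
theorem result (k : Type u) [Field k] (X S : Scheme.{u})
    (q : S ⟶ Spec (CommRingCat.of k)) (f : X ⟶ S)
    [LocallyOfFiniteType q] [CompactSpace S] [IsSeparated q] [LocallyOfFiniteType f] [CompactSpace X] [IsSeparated f]
    (Y : Set X) (hYc : IsClosed Y) (hYi : IsIrreducible Y)
    (hWI : topologicalKrullDim {p : ↥(pullback f f) | pullback.fst f f p ∈ Y ∧ pullback.snd f f p ∈ Y ∧ p ∉ Set.range (pullback.diagonal f)} + topologicalKrullDim S ≤ topologicalKrullDim Y + topologicalKrullDim Y)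
    (hYS : topologicalKrullDim Y < topologicalKrullDim S) :
    ∃ V : Set X, IsOpen V ∧ (V ∩ Y).Nonempty ∧ Set.InjOn f.base (V ∩ Y) ∧
      ∀ x ∈ V ∩ Y, (f.residueFieldMap x).hom.IsPurelyInseparable := by
  classical
  obtain ⟨η, hη⟩ := QuasiSober.sober hYi hYc
  have hηY : η ∈ Y := hη.def ▸ subset_closure rfl
  haveI : IsLocallyNoetherian S := LocallyOfFiniteType.isLocallyNoetherian q
  let qX : X ⟶ Spec (CommRingCat.of k) := f ≫ q
  haveI : QuasiCompact q := inferInstance
  haveI : IsLocallyNoetherian X := LocallyOfFiniteType.isLocallyNoetherian f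
  haveI : AlgebraicGeometry.IsNoetherian X := {}
  haveI : QuasiCompact qX := inferInstance
  haveI : QuasiCompact f := QuasiCompact.of_comp f q
  haveI : IsLocallyNoetherian (pullback f f) := LocallyOfFiniteType.isLocallyNoetherian (pullback.fst f f ≫ qX)
  haveI : CompactSpace ↥(pullback f f) := QuasiCompact.compactSpace_of_compactSpace (pullback.fst f f)
  haveI : AlgebraicGeometry.IsNoetherian (pullback f f) := {}
  let U : (pullback f f).Opens := ⟨(Set.range (pullback.diagonal f).base)ᶜ, (pullback.diagonal f).isClosedEmbedding.isClosed_range.isOpen_compl⟩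
  let a : (U : Scheme.{u}) ⟶ X := U.ι ≫ pullback.fst f f
  let b : (U : Scheme.{u}) ⟶ X := U.ι ≫ pullback.snd f f
  let P : Set ↥(pullback f f) := {p : ↥(pullback f f) | pullback.fst f f p ∈ Y ∧ pullback.snd f f p ∈ Y ∧ p ∉ Set.range (pullback.diagonal f)}
  let T : Set ↥(U : Scheme.{u}) := a.base ⁻¹' Y ∩ b.base ⁻¹' Y
  have hTc : IsClosed T := (hYc.preimage a.continuous).inter (hYc.preimage b.continuous)
  -- no point off the diagonal lies over the generic point
  have hT : ∀ w ∈ T, a w ≠ η := by
    intro w hw hwη
    obtain ⟨n, hdimQ, -, -⟩ := FibIrrLib.comp_dims (a ≫ qX) qX a rfl (closure {w})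
      isClosed_closure isIrreducible_singleton.closure
    have himg : Y ⊆ closure (a.base '' closure {w}) := by
      rw [← hη.def]
      exact closure_mono (Set.singleton_subset_iff.2 ⟨w, subset_closure rfl, hwη⟩)
    have hmem : ∀ v : ↥(closure ({w} : Set ↥(U : Scheme.{u}))), U.ι v.1 ∈ P := by
      rintro ⟨v, hv⟩
      have hvT : v ∈ T := hTc.stableUnderSpecialization (specializes_iff_mem_closure.2 hv) hw
      exact ⟨hvT.1, hvT.2, v.2⟩
    have hYP : topologicalKrullDim ↥Y ≤ topologicalKrullDim ↥P := by
      refine ((Topology.IsEmbedding.inclusion himg).isInducing.topologicalKrullDim_le).trans ?_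
      refine le_trans (le_trans (le_add_of_nonneg_right (by positivity)) hdimQ.ge) ?_
      exact ((U.ι.isEmbedding.comp .subtypeVal).codRestrict P hmem).isInducing.topologicalKrullDim_le
    have hY0 : 0 ≤ topologicalKrullDim ↥Y := by
      haveI : Nonempty (IrreducibleCloseds ↥Y) := ⟨⟨closure {⟨η, hηY⟩}, isIrreducible_singleton.closure, isClosed_closure⟩⟩
      exact Order.krullDim_nonneg
    revert hWI hYS hYP hY0
    generalize topologicalKrullDim ↥Y = y
    generalize topologicalKrullDim ↥S = s
    show ∀ (_ : topologicalKrullDim ↥P + s ≤ y + y), _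
    generalize topologicalKrullDim ↥P = c
    intro hcd hlt hac ha
    induction y using WithBot.recBotCoe with
    | bot => simp at ha
    | coe y =>
      induction c using WithBot.recBotCoe with
      | bot => simp at hac
      | coe c =>
        induction s using WithBot.recBotCoe with
        | bot => simp at hlt
        | coe s =>
          rw [← WithBot.coe_add, ← WithBot.coe_add, WithBot.coe_le_coe] at hcd
          rw [WithBot.coe_lt_coe] at hlt
          rw [WithBot.coe_le_coe] at hac
          exact absurd (((ENat.add_lt_add_iff_left (ne_top_of_lt hlt)).2 hlt).trans_le ((add_le_add hac le_rfl).trans hcd)) (lt_irrefl _)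
  haveI : NoetherianSpace ↥(U : Scheme.{u}) := U.ι.isEmbedding.isInducing.noetherianSpace
  obtain ⟨𝒯, hfin, hcl, hirr, hTeq⟩ := NoetherianSpace.exists_finite_set_isClosed_irreducible hTc
  let V : Set X := (closure (a.base '' T))ᶜ
  have hηV : η ∉ closure (a.base '' T) := by
    rw [hTeq, Set.image_sUnion, Set.sUnion_image]
    intro h2
    obtain ⟨C, hC, h3⟩ := Set.mem_iUnion₂.1 ((Set.Finite.closure_biUnion hfin (fun C => a.base '' C)).le h2)
    obtain ⟨z, hzg⟩ := QuasiSober.sober (hirr C hC) (hcl C hC)
    have hzT : z ∈ T := by rw [hTeq]; exact ⟨C, hC, hzg.def ▸ subset_closure rfl⟩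
    refine hT z hzT ?_
    have h4 : a z ⤳ η := by
      rw [specializes_iff_mem_closure]
      refine closure_minimal ?_ isClosed_closure h3
      rintro _ ⟨w, hw, rfl⟩
      exact specializes_iff_mem_closure.1 ((hzg.specializes hw).map a.continuous)
    exact (h4.antisymm (hη.specializes hzT.1)).eq
  have hdiag : ∀ y ∈ V ∩ Y, ∀ y' ∈ Y, ∀ p : ↥(pullback f f), pullback.fst f f p = y → pullback.snd f f p = y' →
      p ∈ Set.range (pullback.diagonal f) := by
    intro y hy y' hy' p h1 h2
    by_contra hp
    exact hy.1 (subset_closure ⟨(⟨p, hp⟩ : U), ⟨show pullback.fst f f p ∈ Y from h1 ▸ hy.2, show pullback.snd f f p ∈ Y from h2 ▸ hy'⟩, h1⟩)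
  refine ⟨V, isClosed_closure.isOpen_compl, ⟨η, hηV, hηY⟩, ?_, ?_⟩
  · intro y hy y' hy' he
    obtain ⟨p, hp1, hp2⟩ := Scheme.Pullback.exists_preimage_pullback (f := f) (g := f) y y' he
    obtain ⟨w, rfl⟩ := hdiag y hy y' hy'.2 p hp1 hp2
    rw [← Scheme.Hom.comp_apply, pullback.diagonal_fst] at hp1
    rw [← Scheme.Hom.comp_apply, pullback.diagonal_snd] at hp2
    exact hp1.symm.trans hp2
  · intro y hy
    let e := X.fromSpecResidueField y
    have hinj : Function.Injective (fun g : Spec (CommRingCat.of (AlgebraicClosure (X.residueField y))) ⟶ Spec (X.residueField y) => g ≫ e ≫ f) := by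
      intro g₁ g₂ hg
      let c : IsLocalRing.closedPoint (AlgebraicClosure (X.residueField y)) = IsLocalRing.closedPoint (AlgebraicClosure (X.residueField y)) := rfl
      let r := pullback.lift (g₁ ≫ e) (g₂ ≫ e) (by simpa only [Category.assoc] using hg) (f := f) (g := f)
      haveI : Subsingleton ↥(Spec (CommRingCat.of (AlgebraicClosure (X.residueField y)))) := inferInstance
      have hfac : Set.range r ⊆ Set.range (pullback.diagonal f) := by
        rintro _ ⟨s, rfl⟩
        refine hdiag y hy y hy.2 _ ?_ ?_
        · rw [← Scheme.Hom.comp_apply, pullback.lift_fst, Scheme.Hom.comp_apply, Scheme.fromSpecResidueField_apply]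
        · rw [← Scheme.Hom.comp_apply, pullback.lift_snd, Scheme.Hom.comp_apply, Scheme.fromSpecResidueField_apply]
      haveI : Surjective (pullback.fst r (pullback.diagonal f)) := ⟨fun s => by
        obtain ⟨w, hw⟩ := hfac ⟨s, rfl⟩
        obtain ⟨p, hp1, -⟩ := Scheme.Pullback.exists_preimage_pullback (f := r) (g := pullback.diagonal f) s w hw.symm
        exact ⟨p, hp1⟩⟩
      haveI : IsClosedImmersion (pullback.fst r (pullback.diagonal f)) := MorphismProperty.pullback_fst _ _ inferInstance
      haveI : IsIso (pullback.fst r (pullback.diagonal f)) := isIso_of_isClosedImmersion_of_surjective _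
      let l := inv (pullback.fst r (pullback.diagonal f)) ≫ pullback.snd r (pullback.diagonal f)
      have hl : l ≫ pullback.diagonal f = r := by
        rw [Category.assoc, ← pullback.condition, IsIso.inv_hom_id_assoc]
      have e1 : g₁ ≫ e = l := by rw [← pullback.lift_fst (f := f) (g := f) (g₁ ≫ e) (g₂ ≫ e) (by simpa only [Category.assoc] using hg), show pullback.lift _ _ _ = r from rfl, ← hl, Category.assoc, pullback.diagonal_fst, Category.comp_id]
      have e2 : g₂ ≫ e = l := by rw [← pullback.lift_snd (f := f) (g := f) (g₁ ≫ e) (g₂ ≫ e) (by simpa only [Category.assoc] using hg), show pullback.lift _ _ _ = r from rfl, ← hl, Category.assoc, pullback.diagonal_snd, Category.comp_id]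
      exact (cancel_mono e).1 (e1.trans e2.symm)
    algebraize [(f.residueFieldMap y).hom]
    rw [RingHom.IsPurelyInseparable]
    haveI : Nonempty (X.residueField y →+* AlgebraicClosure (X.residueField y)) := ⟨algebraMap _ _⟩
    refine IsPurelyInseparable.of_injective_comp_algebraMap (S.residueField (f y)) (X.residueField y) (AlgebraicClosure (X.residueField y)) fun σ τ hστ => ?_
    have h5 : Spec.map (CommRingCat.ofHom σ) = Spec.map (CommRingCat.ofHom τ) := hinj (by
      show Spec.map _ ≫ e ≫ f = Spec.map _ ≫ e ≫ f
      rw [← Scheme.Hom.SpecMap_residueFieldMap_fromSpecResidueField, ← Spec.map_comp_assoc, ← Spec.map_comp_assoc]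
      congr 2
      exact CommRingCat.hom_ext hστ)
    exact congrArg CommRingCat.Hom.hom (Spec.map_injective h5)


end Groth.Agent.S14483
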