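import Groth.Statements.S14484
import Groth.Agent.FibIrrLib.Basic
-- import your own Groth.Agent.* helpers here

set_option autoImplicit false
set_option backward.isDefEq.respectTransparency false
set_option linter.all false
universe u
open CategoryTheory CategoryTheory.Limits AlgebraicGeometry
open CharCyc

namespace Groth.Agent.S14484

open TopologicalSpace

/-- Let k be a field and let f : X → S be a morphism between separated k-schemes of finite type. Two
closed subsets Y, Z of X are said to well intersect with respect to f when dim(Y ×_S Z ∖ Y ×_X Z) ≤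
dim Y + dim Z − dim S; here Y ×_S Z ∖ Y ×_X Z is taken as the subspace of X ×_S X of points whose
two projections lie in Y and in Z and which are not in the image of the diagonal, and the inequality
is written additively as dim(Y ×_S Z ∖ Y ×_X Z) + dim S ≤ dim Y + dim Z (topological Krull
dimensions, the empty space having dimension ⊥). Let Y, Z ⊆ X be closed irreducible subsets that
well intersect with respect to f, with dim Y < dim S and dim Z < dim S, and assume Y ⊄ Z. Then f(Y)
is not contained in the closure of f(Y) ∩ f(Z); in particular f(Y) ⊄ f(Z). -/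
theorem result (k : Type u) [Field k] (X S : Scheme.{u})
    (q : S ⟶ Spec (CommRingCat.of k)) (f : X ⟶ S)
    [LocallyOfFiniteType q] [CompactSpace S] [IsSeparated q] [LocallyOfFiniteType f] [CompactSpace X] [IsSeparated f]
    (Y Z : Set X) (hYc : IsClosed Y) (hYi : IsIrreducible Y) (hZc : IsClosed Z) (hZi : IsIrreducible Z)
    (hWI : topologicalKrullDim {p : ↥(pullback f f) | pullback.fst f f p ∈ Y ∧ pullback.snd f f p ∈ Z ∧ p ∉ Set.range (pullback.diagonal f)} + topologicalKrullDim S ≤ topologicalKrullDim Y + topologicalKrullDim Z)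
    (hYS : topologicalKrullDim Y < topologicalKrullDim S) (hZS : topologicalKrullDim Z < topologicalKrullDim S)
    (hYZ : ¬ Y ⊆ Z) :
    ¬ (f.base '' Y ⊆ closure (f.base '' Y ∩ f.base '' Z)) ∧ ¬ (f.base '' Y ⊆ f.base '' Z) := by
  classical
  suffices h1 : ¬ (f.base '' Y ⊆ closure (f.base '' Y ∩ f.base '' Z)) by
    exact ⟨h1, fun h => h1 (by rw [Set.inter_eq_left.2 h]; exact subset_closure)⟩
  intro hsub
  obtain ⟨η, hη⟩ := QuasiSober.sober hYi hYc
  have hηY : η ∈ Y := hη.def ▸ subset_closure rfl
  have hηZ : η ∉ Z := fun h => hYZ (hη.def ▸ hZc.closure_subset_iff.2 (Set.singleton_subset_iff.2 h))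
  haveI : IsLocallyNoetherian S := LocallyOfFiniteType.isLocallyNoetherian q
  haveI : IsLocallyNoetherian X := LocallyOfFiniteType.isLocallyNoetherian f
  haveI : AlgebraicGeometry.IsNoetherian X := {}
  -- a point of `Z` over the image of the generic point
  obtain ⟨z, hzZ, hz⟩ : ∃ z ∈ Z, f z = f η := by
    let T : Set X := Z ∩ f.base ⁻¹' closure {f.base η}
    have hT : IsClosed T := hZc.inter (isClosed_closure.preimage f.continuous)
    obtain ⟨𝒯, hfin, hcl, hirr, hTeq⟩ := NoetherianSpace.exists_finite_set_isClosed_irreducible hT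
    have hYsub : f.base '' Y ⊆ closure {f.base η} := by
      rintro _ ⟨y, hy, rfl⟩
      exact specializes_iff_mem_closure.1 ((hη.specializes hy).map f.continuous)
    have h1 : f.base '' Y ∩ f.base '' Z ⊆ f.base '' T := by
      rintro _ ⟨hy, z, hz, rfl⟩
      exact ⟨z, ⟨hz, hYsub hy⟩, rfl⟩
    have h2 := closure_mono h1 (hsub ⟨η, hηY, rfl⟩)
    rw [hTeq, Set.image_sUnion, Set.sUnion_image, hfin.closure_biUnion, Set.mem_iUnion₂] at h2
    obtain ⟨C, hC, h3⟩ := h2
    obtain ⟨z, hzg⟩ := QuasiSober.sober (hirr C hC) (hcl C hC)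
    have hzT : z ∈ T := by rw [hTeq]; exact ⟨C, hC, hzg.def ▸ subset_closure rfl⟩
    refine ⟨z, hzT.1, ?_⟩
    have h4 : f z ⤳ f η := by
      rw [specializes_iff_mem_closure]
      refine closure_minimal ?_ isClosed_closure h3
      rintro _ ⟨w, hw, rfl⟩
      exact specializes_iff_mem_closure.1 ((hzg.specializes hw).map f.continuous)
    exact (h4.antisymm (specializes_iff_mem_closure.2 hzT.2)).eq
  obtain ⟨p, hp1, hp2⟩ := Scheme.Pullback.exists_preimage_pullback (f := f) (g := f) η z hz.symm
  haveI : IsClosedImmersion (pullback.diagonal f) := inferInstance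
  let U : (pullback f f).Opens := ⟨(Set.range (pullback.diagonal f).base)ᶜ, (pullback.diagonal f).isClosedEmbedding.isClosed_range.isOpen_compl⟩
  have hpU : p ∈ U := by
    rintro ⟨w, hw⟩
    have e1 := congrArg (pullback.fst f f).base hw
    have e2 := congrArg (pullback.snd f f).base hw
    rw [← Scheme.Hom.comp_apply, pullback.diagonal_fst] at e1
    rw [← Scheme.Hom.comp_apply, pullback.diagonal_snd] at e2
    exact hηZ (((hp1.symm.trans (e1.symm.trans e2)).trans hp2) ▸ hzZ)
  let a : (U : Scheme.{u}) ⟶ X := U.ι ≫ pullback.fst f f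
  let qX : X ⟶ Spec (CommRingCat.of k) := f ≫ q
  haveI : QuasiCompact q := inferInstance
  haveI : QuasiCompact qX := inferInstance
  haveI : IsLocallyNoetherian (pullback f f) := LocallyOfFiniteType.isLocallyNoetherian (pullback.fst f f ≫ qX)
  haveI : QuasiCompact f := QuasiCompact.of_comp f q
  haveI : CompactSpace ↥(pullback f f) := QuasiCompact.compactSpace_of_compactSpace (pullback.fst f f)
  haveI : AlgebraicGeometry.IsNoetherian (pullback f f) := {}
  haveI : QuasiCompact U.ι := inferInstance
  obtain ⟨n, hdimQ, -, -⟩ := FibIrrLib.comp_dims (a ≫ qX) qX a rfl (closure {(⟨p, hpU⟩ : U)})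
    isClosed_closure isIrreducible_singleton.closure
  have himg : Y ⊆ closure (a.base '' closure {(⟨p, hpU⟩ : U)}) := by
    rw [← hη.def]
    refine closure_mono (Set.singleton_subset_iff.2 ⟨⟨p, hpU⟩, subset_closure rfl, ?_⟩)
    exact hp1
  let P : Set ↥(pullback f f) := {p : ↥(pullback f f) | pullback.fst f f p ∈ Y ∧ pullback.snd f f p ∈ Z ∧ p ∉ Set.range (pullback.diagonal f)}
  have hmem : ∀ w : ↥(closure {(⟨p, hpU⟩ : U)}), U.ι w.1 ∈ P := by
    rintro ⟨w, hw⟩
    have hsp : p ⤳ U.ι w := (specializes_iff_mem_closure.2 hw).map U.ι.continuous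
    refine ⟨?_, ?_, w.2⟩
    · exact hYc.stableUnderSpecialization (hsp.map (pullback.fst f f).continuous) (hp1.symm ▸ hηY)
    · exact hZc.stableUnderSpecialization (hsp.map (pullback.snd f f).continuous) (hp2.symm ▸ hzZ)
  have hYP : topologicalKrullDim ↥Y ≤ topologicalKrullDim ↥P := by
    refine ((Topology.IsEmbedding.inclusion himg).isInducing.topologicalKrullDim_le).trans ?_
    refine le_trans (le_trans (le_add_of_nonneg_right (by positivity)) hdimQ.ge) ?_
    exact ((U.ι.isEmbedding.comp .subtypeVal).codRestrict P hmem).isInducing.topologicalKrullDim_le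
  have key : ∀ (a b c d : WithBot ℕ∞), a ≠ ⊥ → a < d → b < d → a ≤ c → c + d ≤ a + b → False := by
    intro a b c d ha had hbd hac hcd
    induction a using WithBot.recBotCoe with
    | bot => exact ha rfl
    | coe a =>
      induction b using WithBot.recBotCoe with
      | bot =>
        rw [WithBot.add_bot, le_bot_iff, WithBot.add_eq_bot] at hcd
        rcases hcd with h | h
        · exact absurd (h ▸ hac) (by simp)
        · exact absurd (h ▸ had) (by simp)
      | coe b =>
        induction c using WithBot.recBotCoe with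
        | bot => simp at hac
        | coe c =>
          induction d using WithBot.recBotCoe with
          | bot => simp at had
          | coe d =>
            rw [← WithBot.coe_add, ← WithBot.coe_add, WithBot.coe_le_coe] at hcd
            rw [WithBot.coe_lt_coe] at had hbd
            rw [WithBot.coe_le_coe] at hac
            have ha' : a ≠ ⊤ := ne_top_of_lt had
            exact absurd (((ENat.add_lt_add_iff_left ha').2 hbd).trans_le ((add_le_add hac le_rfl).trans hcd)) (lt_irrefl _)
  refine key _ _ _ _ ?_ hYS hZS hYP hWI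
  intro h
  haveI : Nonempty (IrreducibleCloseds ↥Y) := ⟨⟨closure {⟨η, hηY⟩}, isIrreducible_singleton.closure, isClosed_closure⟩⟩
  have h0 : 0 ≤ topologicalKrullDim ↥Y := Order.krullDim_nonneg
  rw [h] at h0
  exact absurd (le_bot_iff.1 h0) (by simp)


end Groth.Agent.S14484
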