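import Groth.Statements.S14486
import Mathlib
import Groth.Agent.SurfNumLib.RRApps
import Groth.Agent.SurfNumLib.K3
import Groth.Agent.SurfNumLib.Config
import Groth.Agent.SurfNumLib.Eff
import Groth.Agent.SurfNumLib.Deg
import Groth.Agent.IntFunLib.Kleiman
import Groth.Agent.S1536
import Groth.Agent.S1537
import Groth.Agent.GrpdFieldLib.ClosedSub
import Groth.Agent.CurveH0Lib.Smooth
-- import your own Groth.Agent.* helpers here

set_option autoImplicit false
universe u
open CategoryTheory CategoryTheory.Limits AlgebraicGeometry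
open Surf

namespace Groth.Agent.S14486

/-- Let k be an algebraically closed field and X a projective K3 surface over k: an integral scheme of
dimension two with all local rings regular, admitting a closed immersion into some P^n_k over k,
whose structure sheaf O_X is a second exterior power of Ω_{X/k} (the canonical sheaf is trivial) and
with H^1(X, O_X) = 0. Let C be a nonsingular curve of genus g on X: an integral closed subscheme of
dimension one with all local rings regular, with ideal sheaf I ⊆ O_X and g = dim_k H^1(C, O_C); let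
M be an inverse of I for the tensor product (M = O_X(C)). Then C² = 2g - 2 and h^0(X, O_X(C)) = g +
1. Writing (L·L') for the intersection number χ(O_X) - χ(L) - χ(L') + χ(L ⊗ L') of two invertible
modules (packaged as FGA.intNum), C² = (I·I), so the assertion reads (I·I) = 2g - 2 and dim_k H^0(X,
M) = g + 1. (A K3 surface is only required to be proper; this row assumes the projective embedding.) -/
theorem result (k : Type u) [Field k] [IsAlgClosed k] (X : Scheme.{u})
    [X.Over (Spec (CommRingCat.of k))] [IsIntegral X] (hdim : topologicalKrullDim X = 2)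
    (hreg : ∀ x : X, IsRegularLocalRing (X.presheaf.stalk x))
    (hproj : ∃ (n : ℕ) (ι : X ⟶ CohB1.ProjSpace n k), IsClosedImmersion ι ∧
      ι ≫ CohB1.ProjSpace.toSpec n k = (X ↘ (Spec (CommRingCat.of k))))
    (hK : ExtPow.IsExtPow 2 (Omega.sheaf (X ↘ (Spec (CommRingCat.of k)))) (Coh.structureModule X))
    (hH1 : Subsingleton (Coh.HH X (Coh.structureModule X) 1))
    (C : Scheme.{u}) (i : C ⟶ X) [IsClosedImmersion i] [IsIntegral C] (hC : topologicalKrullDim C = 1)
    (hCreg : ∀ c : C, IsRegularLocalRing (C.presheaf.stalk c))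
    (M : X.Modules) (hM : ClSub.IsInverseOf M (ClSub.idealMod i.ker)) :
    letI : C.Over (Spec (CommRingCat.of k)) := ⟨i ≫ (X ↘ (Spec (CommRingCat.of k)))⟩
    FGA.intNum k X 2 ![ClSub.idealMod i.ker, ClSub.idealMod i.ker] (Coh.structureModule X) =
        2 * (Curv2.genus k C : ℤ) - 2 ∧
      Module.finrank k (Coh.HH X M 0) = Curv2.genus k C + 1 := by
  letI : C.Over (Spec (CommRingCat.of k)) := ⟨i ≫ (X ↘ (Spec (CommRingCat.of k)))⟩
  have hX : topologicalKrullDim X = ((2 : ℕ) : WithBot ℕ∞) := hdim
  obtain ⟨n, ι, hι, hιc⟩ := hproj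
  haveI := SurfNumLib.isProper_of_embedding (k := k) ι hιc
  haveI := CurvLib.isNoetherian k (X := X)
  haveI : Smooth (X ↘ Spec (CommRingCat.of k)) := CurveH0Lib.smooth_of_regular k _ hreg
  haveI := SurfNumLib.smoothRel_of_dim (k := k) hX
  haveI : IsProper (C ↘ Spec (CommRingCat.of k)) :=
    inferInstanceAs (IsProper (i ≫ (X ↘ (Spec (CommRingCat.of k)))))
  haveI : IsIntegral i.ker.subscheme := IsIntegral.of_isIso i.toImage
  have hd : topologicalKrullDim (i.ker.support : Set X) = 1 := by
    rw [Scheme.Hom.support_ker, i.isClosedEmbedding.isClosed_range.closure_eq, ← hC]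
    exact (i.isEmbedding.toHomeomorph.isHomeomorph.topologicalKrullDim_eq).symm
  have hJ := SurfNumLib.isEffCartier_curve k hX hreg i.ker hd
  have hI := IntMultLib.isInvertible_idealMod _ hJ
  obtain ⟨e'⟩ := hM
  let e : CohB1.tensorMod (ClSub.idealMod i.ker) M ≅ Coh.structureModule X := HilbPolyLib.swapIso _ _ ≪≫ e'
  have hO := CurvLib.isInvertible_structureModule (X := X)
  have hA : CohB1.IsAmple ((Scheme.Modules.pullback ι).obj (Twist.twistProjSpace n k 1)) :=
    SurfNumLib.isAmple_embedding ι
  have hrr := SurfNumLib.riemann_roch hX ι hιc hK hI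
  have hadd := CurvLib.euler_add_of_isCoh (k := k) (S := CurvLib.idealSeq i.ker) (CurvLib.idealSeq_shortExact _)
    (CurvLib.isCoh_of_isInvertible hI) (DevissLib.isCoh_structureModule X) (CurvLib.isCoh_quotMod _)
  change Curv2.euler k X (Coh.structureModule X) =
    Curv2.euler k X (ClSub.idealMod i.ker) + Curv2.euler k X (ClSub.quotMod i.ker) at hadd
  have hles := SurfNumLib.hh_les (k := k) (S := CurvLib.idealSeq i.ker) (CurvLib.idealSeq_shortExact _)
    (CurvLib.isCoh_of_isInvertible hI) (DevissLib.isCoh_structureModule X) (CurvLib.isCoh_quotMod _)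
  change HodgeIdxLib.hh k (ClSub.idealMod i.ker) 1 + HodgeIdxLib.hh k (Coh.structureModule X) 0 ≤
      HodgeIdxLib.hh k (ClSub.idealMod i.ker) 0 + HodgeIdxLib.hh k (ClSub.quotMod i.ker) 0 +
        HodgeIdxLib.hh k (Coh.structureModule X) 1 at hles
  have hq0 : HodgeIdxLib.hh k (Coh.structureModule X) 1 = 0 := Module.finrank_zero_of_subsingleton
  have h0I := SurfNumLib.h0_ideal_zero (k := k) hX hJ (SurfNumLib.ne_top_of_dim hd) hA
  have hq1 : HodgeIdxLib.hh k (ClSub.quotMod i.ker) 1 = Curv2.genus k C := by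
    haveI : Coh.IsQCoh (Coh.structureModule C) := QCohLib.isQCoh_unit
    exact (HodgeIdxLib.hh_congr (k := k) (SurfNumLib.quotMod_ker_iso i).some 1).trans
      ((PushLinLib.euler_push k i rfl _).1 1).symm
  have hd1 : topologicalKrullDim (CohB1.support (ClSub.quotMod i.ker)) ≤ ((1 : ℕ) : WithBot ℕ∞) := by
    rw [SurfNumLib.support_quotMod_eq, hd, Nat.cast_one]
  have h2I := SurfNumLib.hh_dual ι hιc hK hI e 2 le_rfl
  rw [Nat.sub_self, HodgeIdxLib.hh_congr (k := k) (HilbPolyLib.swapIso _ _ ≪≫ HilbPolyLib.unitLeft M) 0] at h2I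
  have h2O := SurfNumLib.hh_dual ι hιc hK hO (HilbPolyLib.unitLeft (Coh.structureModule X)) 2 le_rfl
  rw [Nat.sub_self, HodgeIdxLib.hh_congr (k := k) (HilbPolyLib.unitLeft (Coh.structureModule X)) 0,
    SurfNumLib.h0_structure k] at h2O
  rw [SurfNumLib.h0_quot i.ker, SurfNumLib.h0_structure k, hq0, h0I] at hles
  rw [HodgeIdxLib.euler_eq_of_dim_one (CurvLib.isCoh_quotMod _) hd1, SurfNumLib.h0_quot, hq1,
    SurfNumLib.euler_eq_three hX.le, SurfNumLib.euler_eq_three hX.le, SurfNumLib.h0_structure k, hq0, h2O, h0I] at hadd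
  rw [HodgeIdxLib.pr_comm (ClSub.idealMod i.ker) (Coh.structureModule X), HodgeIdxLib.pr_unit,
    SurfNumLib.euler_eq_three hX.le, SurfNumLib.euler_eq_three hX.le, SurfNumLib.h0_structure k, hq0, h2O, h0I] at hrr
  rw [SurfNumLib.intNum_eq_pr hX.le]
  simp only [HodgeIdxLib.hh] at *
  omega

end Groth.Agent.S14486
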