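import Groth.Statements.S1449
import Groth.Agent.FibDegLib.Strata
-- import your own Groth.Agent.* helpers here

set_option autoImplicit false
universe u
open FlatMor

open CategoryTheory CategoryTheory.Limits AlgebraicGeometry
set_option backward.isDefEq.respectTransparency false
set_option backward.isDefEq.respectTransparency.types false
set_option linter.style.haveILetI false
namespace Groth.Agent.S1449

open AlgebraicGeometry CategoryTheory Limits in
/-- Consider a separated, flat, locally quasi-finite morphism f : X → S which is locally of finite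
presentation. Then there are opens S = U_0 ⊇ U_1 ⊇ U_2 ⊇ ... of S with the property that a morphism
from the spectrum of a field to S lands in U_d exactly when the base change of X to that field has
rank (of its ring of global functions over the field) at least d. -/
theorem result {X S : Scheme.{u}} (f : X ⟶ S) [Flat f] [LocallyOfFinitePresentation f] [IsSeparated f] [LocallyQuasiFinite f] :
    ∃ U : ℕ → S.Opens, Antitone U ∧ U 0 = ⊤ ∧ ∀ (K : Type u) [Field K] (g : Spec (CommRingCat.of K) ⟶ S) (d : ℕ),
      Set.range ⇑g ⊆ (U d : Set ↑S) ↔ (d : Cardinal.{u}) ≤ (letI := ((Scheme.ΓSpecIso (CommRingCat.of K)).inv ≫ (pullback.snd f g).appTop).hom.toAlgebra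
        Module.rank K (Γ(pullback f g, ⊤) : Type u)) := by
  refine ⟨fun d => ⟨{s | (d : Cardinal.{u}) ≤ FibDegLib.rk f s}, FibDegLib.isOpen_setOf_le_rk f d⟩,
    fun a b h s hs => show (a : Cardinal.{u}) ≤ FibDegLib.rk f s from
      (Nat.cast_le.2 h).trans (show (b : Cardinal.{u}) ≤ FibDegLib.rk f s from hs), ?_, fun K _ g d => ?_⟩
  · ext s
    simp
  · show Set.range ⇑g ⊆ {s | (d : Cardinal.{u}) ≤ FibDegLib.rk f s} ↔
      (d : Cardinal.{u}) ≤ FibDegLib.gRank (pullback.snd f g)
    rw [FibDegLib.le_gRank_snd_iff f g rfl d]
    refine ⟨fun h => h ⟨_, rfl⟩, fun h => ?_⟩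
    rintro _ ⟨x, rfl⟩
    rw [show x = IsLocalRing.closedPoint K from Subsingleton.elim x _]
    exact h

end Groth.Agent.S1449
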