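import Groth.Statements.S14495
import Mathlib
import Groth.Agent.CofiniteIndLib.Divisible
-- import your own Groth.Agent.* helpers here

set_option autoImplicit false
universe v
open IndCof

namespace Groth.Agent.S14495
open CategoryTheory.Limits Groth.Agent.CofiniteIndLib

open CategoryTheory CategoryTheory.Limits in
/-- Let C be a small abelian category all of whose objects are Artinian and killed by some power of a
prime p. The abelian category of ind-objects of C of cofinite type (those A with every A[p^n]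
isomorphic to an object of C) is Artinian: for A of cofinite type, every decreasing chain of
sub-objects of A in Ind C whose underlying objects are of cofinite type is eventually constant.
(Sub-objects of A in the full subcategory of cofinite-type objects are exactly such sub-objects,
since that subcategory is stable under kernels in Ind C.) -/
theorem result {C : Type v} [SmallCategory C] [Abelian C]
    (hart : ∀ X : C, IsArtinianObject X) (p : ℕ) (hp : p.Prime)
    (htor : ∀ X : C, ∃ n : ℕ, (p ^ n) • 𝟙 X = 0)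
    (A : Ind C) (hA : ∀ n : ℕ, (Ind.yoneda (C := C)).essImage (kernel ((p ^ n) • 𝟙 A))) (S : ℕ → Subobject A) (hS : Antitone S)
    (hcof : ∀ m n : ℕ, (Ind.yoneda (C := C)).essImage
      (kernel ((p ^ n) • 𝟙 ((S m : Subobject A) : Ind C)))) :
    ∃ N : ℕ, ∀ m : ℕ, N ≤ m → S m = S N := by
  have hA' := cof_of_pow hp htor hA
  let Z : ℕ × ℕ → Ind C := fun i => kernel ((p ^ (i.2 + 1)) • 𝟙 ((S i.1 : Subobject A) : Ind C))
  let φ : ∀ i, Z i ⟶ kernel (p • 𝟙 A) := fun i =>
    tl p ((p ^ i.2 • kernel.ι _) ≫ (S i.1).arrow) (by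
      rw [← Preadditive.nsmul_comp, ← mul_smul, ← pow_succ', ti_kill, zero_comp])
  have hfac : ∀ (m m' k k' : ℕ), m ≤ m' → k ≤ k' →
      ∃ a : Z (m', k') ⟶ Z (m, k), a ≫ φ (m, k) = φ (m', k') := by
    intro m m' k k' hm hk
    obtain ⟨d, rfl⟩ := Nat.exists_eq_add_of_le hk
    refine ⟨tl _ ((p ^ d • kernel.ι _) ≫ Subobject.ofLE _ _ (hS hm)) ?_, ?_⟩
    · rw [← Preadditive.nsmul_comp, ← mul_smul, ← pow_add, show k + 1 + d = k + d + 1 by omega,
        ti_kill, zero_comp]
    · rw [← cancel_mono (kernel.ι (p • 𝟙 A))]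
      simp [φ, Z, Preadditive.nsmul_comp, Preadditive.comp_nsmul, ← mul_smul, ← pow_add]
  obtain ⟨⟨m₀, k₀⟩, h₀⟩ := exists_min_image hart (hA' p hp.pos) Z (fun i => hcof _ _) φ
    (fun i j => ⟨(max i.1 j.1, max i.2 j.2), hfac _ _ _ _ (le_max_left _ _) (le_max_left _ _),
      hfac _ _ _ _ (le_max_right _ _) (le_max_right _ _)⟩)
  choose m hm using fun k : ℕ => exists_min_image hart (hA' p hp.pos) (fun m => Z (m, k))
    (fun i => hcof _ _) (fun m => φ (m, k))
    (fun i j => ⟨max i j, hfac _ _ _ _ (le_max_left _ _) le_rfl, hfac _ _ _ _ (le_max_right _ _) le_rfl⟩)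
  let N := max m₀ ((Finset.range k₀).sup m)
  refine ⟨N, fun M hM => le_antisymm (hS hM) ?_⟩
  -- every element of `S N` killed by a power of `p` lies in `S M`
  have lift : ∀ (k : ℕ) (T : Ind C) (x : T ⟶ Z (N, k)), ∃ (T' : Ind C) (π : T' ⟶ T) (_ : Epi π)
      (y : T' ⟶ Z (M, k)), π ≫ x ≫ φ (N, k) = y ≫ φ (M, k) := by
    intro k T x
    by_cases hk : k < k₀
    · obtain ⟨a, ha⟩ := hfac (m k) N k k
        ((Finset.le_sup (f := m) (Finset.mem_range.2 hk)).trans (le_max_right _ _)) le_rfl
      obtain ⟨T', π, hπ, y, hy⟩ := hm k M T (x ≫ a)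
      exact ⟨T', π, hπ, y, by rw [← hy, Category.assoc, ha]⟩
    · obtain ⟨a, ha⟩ := hfac m₀ N k₀ k (le_max_left _ _) (not_lt.1 hk)
      obtain ⟨T', π, hπ, y, hy⟩ := h₀ (M, k) T (x ≫ a)
      exact ⟨T', π, hπ, y, by rw [← hy, Category.assoc, ha]⟩
  have key : ∀ (j : ℕ) (T : Ind C) (x : T ⟶ ((S N : Subobject A) : Ind C)), p ^ j • x = 0 →
      (x ≫ (S N).arrow) ≫ cokernel.π (S M).arrow = 0 := by
    intro j
    induction j with
    | zero => intro T x hx; rw [pow_zero, one_smul] at hx; simp [hx]
    | succ j ih =>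
      intro T x hx
      obtain ⟨T', π, _, y, hy⟩ := lift j T (tl _ x hx)
      have hy' := hy =≫ kernel.ι (p • 𝟙 A)
      simp only [φ, Category.assoc, tl_ι, Preadditive.nsmul_comp, Preadditive.comp_nsmul,
        tl_ι_assoc] at hy'
      have h0 := ih T' (π ≫ x - y ≫ kernel.ι _ ≫ Subobject.ofLE _ _ (hS hM)) (by
        rw [← cancel_mono (S N).arrow]
        simpa [smul_sub, sub_eq_zero, Preadditive.nsmul_comp] using hy')
      simp only [Preadditive.sub_comp, Category.assoc, Subobject.ofLE_arrow_assoc,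
        cokernel.condition, comp_zero, sub_zero] at h0
      simpa using zero_of_epi_comp π h0
  have hz : (S N).arrow ≫ cokernel.π (S M).arrow = 0 := eq_zero_of_yoneda _ fun X x => by
    obtain ⟨j, hj⟩ := htor X
    rw [← Category.assoc]
    refine key j _ x ?_
    rw [← mul_comp, ← (Ind.yoneda (C := C)).map_id, ← Functor.map_nsmul, hj, Functor.map_zero,
      zero_comp]
  exact Subobject.le_of_comm (Abelian.monoLift (S M).arrow _ hz) (Abelian.monoLift_comp _ _ _)

end Groth.Agent.S14495
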