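import Groth.Statements.S14496
import Mathlib
import Groth.Agent.CofiniteIndLib.Divisible
-- import your own Groth.Agent.* helpers here

set_option autoImplicit false
universe v
open IndCof

namespace Groth.Agent.S14496
open CategoryTheory.Limits Groth.Agent.CofiniteIndLib

open CategoryTheory CategoryTheory.Limits in
/-- Let C be a small abelian category all of whose objects are Artinian and killed by some power of a
prime p, and A an ind-object of C of cofinite type. Let N be such that p^n A = p^N A for all n ≥ N,
so that the divisible part A_div = ⋂ p^n A equals p^N A. Then A_div is of cofinite type and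
divisible (multiplication by p on it is an epimorphism; integers prime to p act invertibly on every
ind-object here, so this is divisibility by all positive integers); it is the largest divisible
sub-object of A; and A / A_div is the largest quotient of A lying in C: every epimorphism from A
onto an object isomorphic to an object of C vanishes on A_div. (The row takes the stabilization
index N as a hypothesis instead of forming the intersection; that A / A_div itself lies in C is the
statement about A / p^N A and is not repeated here.) -/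
theorem result {C : Type v} [SmallCategory C] [Abelian C]
    (hart : ∀ X : C, IsArtinianObject X) (p : ℕ) (hp : p.Prime)
    (htor : ∀ X : C, ∃ n : ℕ, (p ^ n) • 𝟙 X = 0)
    (A : Ind C) (hA : ∀ n : ℕ, (Ind.yoneda (C := C)).essImage (kernel ((p ^ n) • 𝟙 A))) (N : ℕ)
    (hN : ∀ n : ℕ, N ≤ n → imageSubobject ((p ^ n) • 𝟙 A) = imageSubobject ((p ^ N) • 𝟙 A)) :
    (∀ n : ℕ, (Ind.yoneda (C := C)).essImage
        (kernel ((p ^ n) • 𝟙 ((imageSubobject ((p ^ N) • 𝟙 A) : Subobject A) : Ind C)))) ∧
      Epi (p • 𝟙 ((imageSubobject ((p ^ N) • 𝟙 A) : Subobject A) : Ind C)) ∧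
      (∀ D : Subobject A, Epi (p • 𝟙 (D : Ind C)) → D ≤ imageSubobject ((p ^ N) • 𝟙 A)) ∧
      (∀ (Q : Ind C) (q : A ⟶ Q), Epi q → (Ind.yoneda (C := C)).essImage Q →
        (imageSubobject ((p ^ N) • 𝟙 A)).arrow ≫ q = 0) := by
  have hA' := cof_of_pow hp htor hA
  have hcof := Cof.image hart (htor_of_pow hp htor) hA' hA' ((p ^ N) • 𝟙 A)
  have hle : ∀ k, imageSubobject ((p ^ N) • 𝟙 A) ≤ imageSubobject ((p ^ k) • 𝟙 A) := fun k => by
    rcases le_total k N with h | h
    · obtain ⟨d, rfl⟩ := Nat.exists_eq_add_of_le h
      simp only [pow_add]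
      exact image_mul_mul_le A _ _
    · exact (hN k h).ge
  refine ⟨fun n => hcof _ (Nat.pow_pos hp.pos), ?_, fun D hD => ?_, fun Q q _ hQ => ?_⟩
  · refine epi_mul_image _ _ ?_
    simp only [← pow_succ]
    exact hle _
  · have : ∀ j : ℕ, Epi ((p ^ j) • 𝟙 (D : Ind C)) := fun j => by
      induction j with
      | zero => rw [pow_zero, one_smul]; infer_instance
      | succ j ih =>
        haveI := ih; haveI := hD
        have e : (p ^ (j + 1)) • 𝟙 (D : Ind C) = ((p ^ j) • 𝟙 (D : Ind C)) ≫ (p • 𝟙 (D : Ind C)) := by
          rw [comp_mul, ← mul_smul, pow_succ']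
        rw [e]; infer_instance
    haveI := this N
    exact le_image_of_epi D _
  · obtain ⟨X, ⟨e⟩⟩ := hQ
    obtain ⟨k, hk⟩ := htor X
    have hq : p ^ k • q = 0 := by
      have h0 : p ^ k • 𝟙 ((Ind.yoneda (C := C)).obj X) = 0 := by
        rw [← (Ind.yoneda (C := C)).map_id, ← Functor.map_nsmul, hk, Functor.map_zero]
      have : p ^ k • q = q ≫ e.inv ≫ (p ^ k • 𝟙 _) ≫ e.hom := by
        simp [Preadditive.comp_nsmul]
      rw [this, h0, zero_comp, comp_zero, comp_zero]
    rw [← Subobject.ofLE_arrow (hle k), Category.assoc]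
    suffices (imageSubobject (p ^ k • 𝟙 A)).arrow ≫ q = 0 by rw [this, comp_zero]
    rw [← cancel_epi (factorThruImageSubobject (p ^ k • 𝟙 A)), imageSubobject_arrow_comp_assoc,
      mul_comp, hq, comp_zero]

end Groth.Agent.S14496
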