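import Groth.Statements.S14498
import Mathlib.CategoryTheory.Abelian.Refinements
-- import your own Groth.Agent.* helpers here

set_option autoImplicit false
set_option linter.style.haveILetI false
universe v u
open AbDiag

namespace Groth.Agent.S14498

open CategoryTheory CategoryTheory.Limits in
/-- In an abelian category, let 0 → F → W → E' → 0 (maps a, b) and 0 → E → W → F' → G → G' → 0 (maps c,
d, e, g) be exact sequences such that the composite F → W → F' is a monomorphism. Then the composite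
E → W → E' is a monomorphism, and there is a short exact sequence 0 → Coker(E → E') → Coker(F → F')
→ Ker(G → G') → 0 whose first map is induced by d (through the quotient map b) and whose second map
is induced by e. -/
theorem result
    {V : Type u} [Category.{v} V] [Abelian V] {F W E' E F' G G' : V}
    (a : F ⟶ W) (b : W ⟶ E') (c : E ⟶ W) (d : W ⟶ F') (e : F' ⟶ G) (g : G ⟶ G')
    [Mono a] [Epi b] (wab : a ≫ b = 0) (hab : (ShortComplex.mk a b wab).Exact)
    [Mono c] (wcd : c ≫ d = 0) (hcd : (ShortComplex.mk c d wcd).Exact)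
    (wde : d ≫ e = 0) (hde : (ShortComplex.mk d e wde).Exact)
    (weg : e ≫ g = 0) (heg : (ShortComplex.mk e g weg).Exact) [Epi g]
    (hmono : Mono (a ≫ d)) :
    Mono (c ≫ b) ∧
      ∃ (φ : cokernel (c ≫ b) ⟶ cokernel (a ≫ d)) (ψ : cokernel (a ≫ d) ⟶ kernel g)
        (w : φ ≫ ψ = 0),
        b ≫ cokernel.π (c ≫ b) ≫ φ = d ≫ cokernel.π (a ≫ d) ∧
        cokernel.π (a ≫ d) ≫ ψ ≫ kernel.ι g = e ∧
        (ShortComplex.mk φ ψ w).ShortExact := by
  haveI := hmono
  have hcb : Mono (c ≫ b) := by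
    refine Preadditive.mono_of_cancel_zero _ fun {T} t ht => ?_
    rw [← Category.assoc] at ht
    let f : T ⟶ F := hab.lift (t ≫ c) ht
    have hf : f ≫ a = t ≫ c := hab.lift_f _ _
    have : f ≫ a ≫ d = 0 := by rw [reassoc_of% hf, wcd, comp_zero]
    have hf0 : f = 0 := zero_of_comp_mono _ this
    rw [hf0, zero_comp] at hf
    exact zero_of_comp_mono c hf.symm
  have hcokb : IsColimit (CokernelCofork.ofπ b wab) := hab.gIsCokernel
  let β : E' ⟶ cokernel (a ≫ d) := hab.desc (d ≫ cokernel.π (a ≫ d)) (by rw [← Category.assoc, cokernel.condition])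
  have hβ : b ≫ β = d ≫ cokernel.π (a ≫ d) := hab.g_desc _ _
  let φ : cokernel (c ≫ b) ⟶ cokernel (a ≫ d) := cokernel.desc _ β (by rw [Category.assoc, hβ, reassoc_of% wcd, zero_comp])
  let ψ : cokernel (a ≫ d) ⟶ kernel g := cokernel.desc _ (kernel.lift g e weg) (by
    rw [← cancel_mono (kernel.ι g)]
    simp [wde])
  have h1 : b ≫ cokernel.π (c ≫ b) ≫ φ = d ≫ cokernel.π (a ≫ d) := by simp [φ, hβ]
  have h2 : cokernel.π (a ≫ d) ≫ ψ ≫ kernel.ι g = e := by simp [ψ]
  have w : φ ≫ ψ = 0 := by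
    rw [← cancel_epi (cokernel.π (c ≫ b)), ← cancel_epi b, reassoc_of% h1, ← cancel_mono (kernel.ι g)]
    simp [h2, wde]
  refine ⟨hcb, φ, ψ, w, h1, h2, @ShortComplex.ShortExact.mk _ _ _ _ ?_ ?_ ?_⟩
  · rw [ShortComplex.exact_iff_exact_up_to_refinements]
    intro T y hy
    obtain ⟨T₁, π₁, hπ₁, y₁, hy₁⟩ := surjective_up_to_refinements_of_epi (cokernel.π (a ≫ d)) y
    have hy0 : y₁ ≫ e = 0 := by
      rw [← h2, ← reassoc_of% hy₁, reassoc_of% hy, zero_comp, comp_zero]
    obtain ⟨T₂, π₂, hπ₂, x, hx⟩ := hde.exact_up_to_refinements y₁ hy0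
    refine ⟨T₂, π₂ ≫ π₁, inferInstance, x ≫ b ≫ cokernel.π (c ≫ b), ?_⟩
    dsimp at hx ⊢
    rw [Category.assoc, hy₁, reassoc_of% hx]
    simp [h1]
  · refine Preadditive.mono_of_cancel_zero _ fun {T} x hx => ?_
    dsimp at x hx
    obtain ⟨T₁, π₁, hπ₁, x₁, hx₁⟩ := surjective_up_to_refinements_of_epi (b ≫ cokernel.π (c ≫ b)) x
    have h0 : (x₁ ≫ d) ≫ cokernel.π (a ≫ d) = 0 := by
      rw [Category.assoc, ← h1]
      have := congrArg (fun t => t ≫ φ) hx₁
      simp only [Category.assoc, hx, comp_zero] at this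
      exact this.symm
    obtain ⟨T₂, π₂, hπ₂, z, hz⟩ := (ShortComplex.exact_of_g_is_cokernel (ShortComplex.mk (a ≫ d) _ (cokernel.condition _)) (cokernelIsCokernel (a ≫ d))).exact_up_to_refinements (x₁ ≫ d) h0
    dsimp at hz
    have h3 : (π₂ ≫ x₁ - z ≫ a) ≫ d = 0 := by
      rw [Preadditive.sub_comp, Category.assoc, Category.assoc, hz, sub_self]
    have h4 : (hcd.lift _ h3) ≫ c = π₂ ≫ x₁ - z ≫ a := hcd.lift_f _ _
    rw [← cancel_epi π₁, comp_zero, hx₁, ← cancel_epi π₂, comp_zero]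
    have h5 : π₂ ≫ x₁ = hcd.lift _ h3 ≫ c + z ≫ a := by rw [h4, sub_add_cancel]
    rw [reassoc_of% h5]
    have h6 : c ≫ b ≫ cokernel.π (c ≫ b) = 0 := by rw [← Category.assoc, cokernel.condition]
    simp [reassoc_of% wab, h6]
  · haveI : Epi (kernel.lift g e weg) := (ShortComplex.exact_iff_epi_kernel_lift _).1 heg
    haveI : Epi (cokernel.π (a ≫ d) ≫ ψ) := by
      simp only [ψ, cokernel.π_desc]
      infer_instance
    exact epi_of_epi (cokernel.π (a ≫ d)) _

end Groth.Agent.S14498
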