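import Groth.Statements.S14502
import Groth.Agent.LengthDetLib.Global
import Groth.Agent.S0612
-- import your own Groth.Agent.* helpers here

set_option autoImplicit false
universe u
open IntTh

namespace Groth.Agent.S14502

/-- Length of the quotient of nested submodules. -/
noncomputable abbrev qlen {A V : Type u} [CommRing A] [AddCommGroup V] [Module A V] (P L : Submodule A V) : ℕ∞ :=
  Module.length A (↥P ⧸ L.submoduleOf P)

theorem qlen_add {A V : Type u} [CommRing A] [AddCommGroup V] [Module A V] {L N P : Submodule A V}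
    (h₁ : L ≤ N) (h₂ : N ≤ P) : qlen P L = qlen N L + qlen P N := by
  have hle : L.submoduleOf N ≤ (L.submoduleOf P).comap (Submodule.inclusion h₂) := fun x hx => hx
  refine Module.length_eq_add_of_exact (Submodule.mapQ _ _ (Submodule.inclusion h₂) hle)
    (Submodule.factor (show L.submoduleOf P ≤ N.submoduleOf P from fun x hx => h₁ hx)) ?_
    (Submodule.factor_surjective _) ?_
  · rw [injective_iff_map_eq_zero]
    intro q
    obtain ⟨v, rfl⟩ := Submodule.Quotient.mk_surjective _ q
    intro hv
    rw [Submodule.mapQ_apply, Submodule.Quotient.mk_eq_zero] at hv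
    exact (Submodule.Quotient.mk_eq_zero _).mpr hv
  · intro q
    obtain ⟨v, rfl⟩ := Submodule.Quotient.mk_surjective _ q
    constructor
    · intro hv
      have hvN : (v : V) ∈ N := (Submodule.Quotient.mk_eq_zero (N.submoduleOf P)).mp hv
      exact ⟨Submodule.Quotient.mk ⟨v, hvN⟩, by rw [Submodule.mapQ_apply]; rfl⟩
    · rintro ⟨p, hp⟩
      obtain ⟨w, rfl⟩ := Submodule.Quotient.mk_surjective _ p
      rw [← hp]
      exact (Submodule.Quotient.mk_eq_zero _).mpr w.2

theorem qlen_map {A V : Type u} [CommRing A] [AddCommGroup V] [Module A V] (g : V ≃ₗ[A] V)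
    (P L : Submodule A V) : qlen (P.map g.toLinearMap) (L.map g.toLinearMap) = qlen P L := by
  refine (Submodule.Quotient.equiv (L.submoduleOf P) ((L.map g.toLinearMap).submoduleOf (P.map g.toLinearMap))
    (g.submoduleMap P) ?_).length_eq.symm
  ext x
  constructor
  · rintro ⟨y, hy, rfl⟩
    exact ⟨y.1, hy, rfl⟩
  · rintro ⟨y, hy, hyx⟩
    obtain ⟨z, hz, hzx⟩ := x.2
    have hzy : z = y := g.injective (hzx.trans hyx.symm)
    subst hzy
    exact ⟨⟨z, hz⟩, hy, Subtype.ext hzx⟩

/-- Quotients of lattices have finite length. -/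
theorem qlen_ne_top {A : Type u} [CommRing A] [IsDomain A] [IsNoetherianRing A] [Ring.KrullDimLE 1 A]
    (K : Type u) [Field K] [Algebra A K] [IsFractionRing A K] {V : Type u} [AddCommGroup V] [Module K V]
    [Module A V] [IsScalarTower A K V] {P L : Submodule A V} (hP : P.FG)
    (hL : Submodule.span K (L : Set V) = ⊤) : qlen P L ≠ ⊤ := by
  have hden : ∀ x : V, ∃ a : A, a ≠ 0 ∧ a • x ∈ L := by
    intro x
    have hx : x ∈ Submodule.span K (L : Set V) := hL ▸ trivial
    induction hx using Submodule.span_induction with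
    | mem y hy => exact ⟨1, one_ne_zero, by rwa [one_smul]⟩
    | zero => exact ⟨1, one_ne_zero, by rw [smul_zero]; exact L.zero_mem⟩
    | add y z _ _ hy hz =>
      obtain ⟨a, ha, hay⟩ := hy
      obtain ⟨b, hb, hbz⟩ := hz
      refine ⟨a * b, mul_ne_zero ha hb, ?_⟩
      rw [smul_add]
      exact L.add_mem (by rw [mul_comm, mul_smul]; exact L.smul_mem b hay)
        (by rw [mul_smul]; exact L.smul_mem a hbz)
    | smul c y _ hy =>
      obtain ⟨a, ha, hay⟩ := hy
      obtain ⟨p, q, hq, rfl⟩ := IsFractionRing.div_surjective (A := A) c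
      refine ⟨q * a, mul_ne_zero (nonZeroDivisors.ne_zero hq) ha, ?_⟩
      have hq' : algebraMap A K q ≠ 0 := IsFractionRing.to_map_ne_zero_of_mem_nonZeroDivisors hq
      have : (q * a) • (algebraMap A K p / algebraMap A K q) • y = p • a • y := by
        rw [mul_comm q a, mul_smul, ← algebraMap_smul K q, smul_smul, mul_div_cancel₀ _ hq', algebraMap_smul,
          smul_comm]
      rw [this]
      exact L.smul_mem p hay
  obtain ⟨s, hs⟩ := hP
  classical
  choose a ha has using hden
  let d := ∏ x ∈ s, a x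
  have hd : d ≠ 0 := Finset.prod_ne_zero_iff.mpr fun x _ => ha x
  have hkill : ∀ x ∈ P, d • x ∈ L := by
    have : P ≤ L.comap (LinearMap.lsmul A V d) := by
      rw [← hs, Submodule.span_le]
      intro x hx
      obtain ⟨q, hq⟩ : a x ∣ d := Finset.dvd_prod_of_mem a hx
      change d • x ∈ L
      rw [hq, mul_comm, mul_smul]
      exact L.smul_mem q (has x)
    exact fun x hx => this hx
  haveI : Module.Finite A P := Module.Finite.iff_fg.mpr ⟨s, hs⟩
  let Q := ↥P ⧸ L.submoduleOf P
  have htor : Module.IsTorsionBySet A Q (Ideal.span ({d} : Set A) : Set A) := by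
    rintro q ⟨r, hr⟩
    obtain ⟨v, rfl⟩ := Submodule.Quotient.mk_surjective _ q
    obtain ⟨w, rfl⟩ := Ideal.mem_span_singleton'.mp hr
    exact (Submodule.Quotient.mk_eq_zero _).mpr (by
      change (w * d) • (v : V) ∈ L
      rw [mul_smul]; exact L.smul_mem w (hkill _ v.2))
  letI := htor.module
  haveI : IsScalarTower A (A ⧸ Ideal.span {d}) Q := htor.isScalarTower
  haveI : IsArtinianRing (A ⧸ Ideal.span {d}) :=
    (LengthDetLib.ord_ne_top_iff d).mp (Module.length_ne_top_iff.mpr
      (isFiniteLength_quotient_span_singleton A (mem_nonZeroDivisors_of_ne_zero hd)))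
  haveI : Module.Finite (A ⧸ Ideal.span {d}) Q := Module.Finite.of_restrictScalars_finite A _ Q
  rw [qlen, Module.length_eq_of_surjective (R := A ⧸ Ideal.span {d}) (S := A) Ideal.Quotient.mk_surjective,
    Module.length_ne_top_iff, isFiniteLength_iff_isNoetherian_isArtinian]
  exact ⟨inferInstance, inferInstance⟩


/-- Let A be a Noetherian local domain of Krull dimension one with fraction field K, V a
finite-dimensional K-vector space, M a lattice in V (a finitely generated A-submodule spanning V
over K) and φ a K-linear automorphism of V. Then φ(M) is a lattice, the A-modules M/(M ∩ φ(M)) and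
φ(M)/(M ∩ φ(M)) have finite length, and the distance length_A(M/(M ∩ φ(M))) − length_A(φ(M)/(M ∩
φ(M))) equals the order of det φ at the closed point, i.e. length_A(A/(a)) − length_A(A/(b)) for det
φ = a/b. -/
theorem result (A : Type u) [CommRing A] [IsDomain A] [IsNoetherianRing A]
    [IsLocalRing A] (hA : ringKrullDim A = 1) (K : Type u) [Field K] [Algebra A K]
    [IsFractionRing A K] (V : Type u) [AddCommGroup V] [Module K V] [Module A V]
    [IsScalarTower A K V] [FiniteDimensional K V]
    (M : Submodule A V) [Submodule.IsLattice K M] (φ : V ≃ₗ[K] V) :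
    Submodule.IsLattice K (M.map (φ.toLinearMap.restrictScalars A)) ∧
      Module.length A (↥M ⧸ (M ⊓ M.map (φ.toLinearMap.restrictScalars A)).submoduleOf M) < ⊤ ∧
      Module.length A (↥(M.map (φ.toLinearMap.restrictScalars A)) ⧸
          (M ⊓ M.map (φ.toLinearMap.restrictScalars A)).submoduleOf
            (M.map (φ.toLinearMap.restrictScalars A))) < ⊤ ∧
      ((Module.length A (↥M ⧸ (M ⊓ M.map (φ.toLinearMap.restrictScalars A)).submoduleOf M)).toNat : ℤ) -
          ((Module.length A (↥(M.map (φ.toLinearMap.restrictScalars A)) ⧸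
            (M ⊓ M.map (φ.toLinearMap.restrictScalars A)).submoduleOf
              (M.map (φ.toLinearMap.restrictScalars A)))).toNat : ℤ) =
        CycAlg.ordFrac A K (LinearMap.det φ.toLinearMap) := by
  haveI : Ring.KrullDimLE 1 A := Ring.krullDimLE_iff.mpr (le_of_eq hA)
  classical
  let g : V ≃ₗ[A] V := φ.restrictScalars A
  change Submodule.IsLattice K (M.map g.toLinearMap) ∧ qlen M (M ⊓ M.map g.toLinearMap) < ⊤ ∧
    qlen (M.map g.toLinearMap) (M ⊓ M.map g.toLinearMap) < ⊤ ∧
    ((qlen M (M ⊓ M.map g.toLinearMap)).toNat : ℤ) -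
      ((qlen (M.map g.toLinearMap) (M ⊓ M.map g.toLinearMap)).toNat : ℤ) =
      CycAlg.ordFrac A K (LinearMap.det φ.toLinearMap)
  set N := M.map g.toLinearMap with hN
  have hMfg : M.FG := Submodule.IsLattice.fg
  have hNfg : N.FG := hMfg.map _
  have hMs : Submodule.span K (M : Set V) = ⊤ := Submodule.IsLattice.span_eq_top
  have hNs : Submodule.span K (N : Set V) = ⊤ := by
    rw [hN, Submodule.map_coe, show (g.toLinearMap : V → V) = φ.toLinearMap from rfl,
      ← Submodule.map_span, hMs, Submodule.map_top, LinearEquiv.range]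
  -- a basis inside M
  obtain ⟨b0, hb0M, hb0⟩ : ∃ b : Module.Basis (Fin (Module.finrank K V)) K V, (∀ i, b i ∈ M) ∧ True := by
    let B := Module.Basis.ofSpan hMs.ge
    have hB : ∀ i, B i ∈ M := fun i => Module.Basis.ofSpan_subset hMs.ge ⟨i, rfl⟩
    haveI : Fintype _ := FiniteDimensional.fintypeBasisIndex B
    exact ⟨B.reindex (Fintype.equivFinOfCardEq (Module.finrank_eq_card_basis B).symm),
      fun i => by rw [Module.Basis.reindex_apply]; exact hB _, trivial⟩
  let n := Module.finrank K V
  let ι : (Fin n → A) →ₗ[A] V := Fintype.linearCombination A b0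
  have hι : Function.Injective ι := by
    refine (injective_iff_map_eq_zero _).mpr fun c hc => funext fun i => IsFractionRing.injective A K ?_
    have h1 : ∑ j, algebraMap A K (c j) • b0 j = 0 := by
      refine Eq.trans ?_ hc
      simp [ι, Fintype.linearCombination_apply, algebraMap_smul]
    have := Fintype.linearIndependent_iff.mp b0.linearIndependent _ h1 i
    simpa using this
  -- clear denominators
  obtain ⟨c, hc⟩ := IsLocalization.exist_integer_multiples_of_finite (nonZeroDivisors A)
    (fun p : Fin n × Fin n => b0.repr (φ (b0 p.2)) p.1)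
  choose G hG using hc
  let Gm : Matrix (Fin n) (Fin n) A := Matrix.of fun i j => G (i, j)
  have hG' : ∀ i j, algebraMap A K (Gm i j) = algebraMap A K (c : A) * b0.repr (φ (b0 j)) i :=
    fun i j => (hG (i, j)).trans (Algebra.smul_def _ _)
  let D : (Fin n → A) →ₗ[A] (Fin n → A) := (c : A) • LinearMap.id
  let ψ : (Fin n → A) →ₗ[A] V := g.toLinearMap.comp ι
  have hψ : Function.Injective ψ := g.injective.comp hι
  have hrel : ι.comp Gm.mulVecLin = ψ.comp D := by
    apply LinearMap.ext
    intro v
    change ι (Gm.mulVec v) = φ (ι ((c : A) • v))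
    simp only [ι, Fintype.linearCombination_apply, Pi.smul_apply, map_sum]
    simp only [← algebraMap_smul K (_ : A) (_ : V), map_smul, smul_eq_mul, map_mul, Matrix.mulVec, dotProduct,
      map_sum, hG', Finset.sum_smul]
    rw [Finset.sum_comm]
    refine Finset.sum_congr rfl fun j _ => ?_
    conv_rhs => rw [← b0.sum_repr (φ (b0 j))]
    rw [Finset.smul_sum]
    exact Finset.sum_congr rfl fun i _ => by rw [smul_smul]; congr 1; ring
  set L := LinearMap.range (ι.comp Gm.mulVecLin) with hL
  set F := LinearMap.range ι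
  set F' := LinearMap.range ψ
  have hFM : F ≤ M := by
    rintro _ ⟨v, rfl⟩
    rw [Fintype.linearCombination_apply]
    exact M.sum_mem fun i _ => M.smul_mem _ (hb0M i)
  have hF'N : F' ≤ N := by
    rintro _ ⟨v, rfl⟩
    exact ⟨ι v, hFM ⟨v, rfl⟩, rfl⟩
  have hLF : L ≤ F := LinearMap.range_comp_le_range _ _
  have hLF' : L ≤ F' := by rw [hL, hrel]; exact LinearMap.range_comp_le_range _ _
  have hLI : L ≤ M ⊓ N := le_inf (hLF.trans hFM) (hLF'.trans hF'N)
  have hcK : algebraMap A K (c : A) ≠ 0 := IsFractionRing.to_map_ne_zero_of_mem_nonZeroDivisors c.2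
  have hdet : algebraMap A K Gm.det = algebraMap A K (c : A) ^ n * LinearMap.det φ.toLinearMap := by
    rw [RingHom.map_det, RingHom.mapMatrix_apply, ← LinearMap.det_toMatrix b0]
    have : Gm.map (algebraMap A K) = algebraMap A K (c : A) • LinearMap.toMatrix b0 b0 φ.toLinearMap := by
      ext i j
      rw [Matrix.map_apply, hG', Matrix.smul_apply, LinearMap.toMatrix_apply, smul_eq_mul]
      rfl
    rw [this, Matrix.det_smul, Fintype.card_fin]
  have hd0 : LinearMap.det φ.toLinearMap ≠ 0 := (LinearEquiv.isUnit_det' φ).ne_zero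
  have hGd : Gm.det ≠ 0 := fun h => by
    rw [h, map_zero] at hdet
    exact mul_ne_zero (pow_ne_zero _ hcK) hd0 hdet.symm
  have hLs : Submodule.span K (L : Set V) = ⊤ := by
    rw [eq_top_iff, ← hNs]
    refine Submodule.span_le.mpr ?_
    rintro _ ⟨m, -, rfl⟩
    have hm : φ m ∈ Submodule.span K (Set.range (φ ∘ b0)) := by
      have h1 : Submodule.span K (Set.range (φ ∘ b0)) = ⊤ := (b0.map φ).span_eq
      rw [h1]; trivial
    refine Submodule.span_le.mpr ?_ hm
    rintro _ ⟨j, rfl⟩
    have h2 : ψ (D (Pi.single j 1)) ∈ L := by rw [hL, hrel]; exact ⟨_, rfl⟩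
    have h3 := Submodule.smul_mem _ (algebraMap A K (c : A))⁻¹ (Submodule.subset_span (R := K) h2)
    have h4 : ψ (D (Pi.single j 1)) = algebraMap A K (c : A) • φ (b0 j) := by
      change φ (ι ((c : A) • Pi.single j 1)) = _
      rw [map_smul, ← algebraMap_smul K (c : A), map_smul]
      congr 2
      simp [ι, Fintype.linearCombination_apply_single]
    rw [h4, smul_smul, inv_mul_cancel₀ hcK, one_smul] at h3
    exact h3
  have hqi : ∀ {P : Submodule A V} (ξ : (Fin n → A) →ₗ[A] V), Function.Injective ξ →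
      ∀ (H : (Fin n → A) →ₗ[A] (Fin n → A)), P = LinearMap.range ξ →
      qlen P (LinearMap.range (ξ.comp H)) = Module.length A ((Fin n → A) ⧸ LinearMap.range H) := by
    intro P ξ hξ H hP
    subst hP
    refine (Submodule.Quotient.equiv (LinearMap.range H) ((LinearMap.range (ξ.comp H)).submoduleOf
      (LinearMap.range ξ)) (LinearEquiv.ofInjective ξ hξ) ?_).length_eq.symm
    ext x
    constructor
    · rintro ⟨_, ⟨w, rfl⟩, rfl⟩
      exact ⟨w, rfl⟩
    · rintro ⟨w, hw⟩
      exact ⟨H w, ⟨w, rfl⟩, Subtype.ext hw⟩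
  have hfF : qlen F L = Ring.ord A Gm.det := by
    have hd : LinearMap.det Gm.mulVecLin = Gm.det := by rw [← Matrix.toLin'_apply', LinearMap.det_toLin']
    rw [hqi ι hι _ rfl, Groth.Agent.S0612.result _ (hd.symm ▸ mem_nonZeroDivisors_of_ne_zero hGd), hd]
  have hfF' : qlen F' L = Ring.ord A ((c : A) ^ n) := by
    have hd : LinearMap.det D = (c : A) ^ n := by
      simp only [D, LinearMap.det_smul, Module.finrank_fin_fun, LinearMap.det_id, mul_one]
    rw [hL, hrel, hqi ψ hψ _ rfl, Groth.Agent.S0612.result _ (hd.symm ▸ pow_mem c.2 n), hd]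
  have hMF : qlen N F' = qlen M F := by
    have : F' = F.map g.toLinearMap := LinearMap.range_comp _ _
    rw [this, hN, qlen_map]
  have hIs : Submodule.span K ((M ⊓ N : Submodule A V) : Set V) = ⊤ :=
    top_le_iff.mp (hLs ▸ Submodule.span_mono hLI)
  have fI : qlen M (M ⊓ N) ≠ ⊤ := qlen_ne_top K hMfg hIs
  have fI' : qlen N (M ⊓ N) ≠ ⊤ := qlen_ne_top K hNfg hIs
  refine ⟨⟨hNfg, hNs⟩, fI.lt_top, fI'.lt_top, ?_⟩
  have e1 := qlen_add hLI (inf_le_left : M ⊓ N ≤ M)
  have e2 := qlen_add hLI (inf_le_right : M ⊓ N ≤ N)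
  rw [qlen_add hLF hFM, hfF] at e1
  rw [qlen_add hLF' hF'N, hfF', hMF] at e2
  have fG : Ring.ord A Gm.det ≠ ⊤ := Module.length_ne_top_iff.mpr
    (isFiniteLength_quotient_span_singleton A (mem_nonZeroDivisors_of_ne_zero hGd))
  have fc : Ring.ord A ((c : A) ^ n) ≠ ⊤ := Module.length_ne_top_iff.mpr
    (isFiniteLength_quotient_span_singleton A (pow_mem c.2 n))
  have hFs : Submodule.span K (F : Set V) = ⊤ := top_le_iff.mp (hLs ▸ Submodule.span_mono hLF)
  have fMF : qlen M F ≠ ⊤ := qlen_ne_top K hMfg hFs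
  have fIL : qlen (M ⊓ N) L ≠ ⊤ := by
    intro h
    rw [h, top_add] at e1
    exact WithTop.add_ne_top.mpr ⟨fG, fMF⟩ e1
  have n1 := congrArg ENat.toNat e1
  have n2 := congrArg ENat.toNat e2
  rw [ENat.toNat_add fG fMF, ENat.toNat_add fIL fI] at n1
  rw [ENat.toNat_add fc fMF, ENat.toNat_add fIL fI'] at n2
  have hφd : LinearMap.det φ.toLinearMap = algebraMap A K Gm.det / algebraMap A K ((c : A) ^ n) := by
    rw [hdet, map_pow, mul_div_cancel_left₀ _ (pow_ne_zero _ hcK)]
  have hord : CycAlg.ordFrac A K (LinearMap.det φ.toLinearMap) =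
      ((Ring.ord A Gm.det).toNat : ℤ) - (Ring.ord A ((c : A) ^ n)).toNat := by
    have hmon : ∀ a : A, a ≠ 0 → Ring.ordMonoidWithZeroHom A a =
        ((Multiplicative.ofAdd ((Ring.ord A a).toNat : ℤ) : Multiplicative ℤ) : WithZero (Multiplicative ℤ)) := by
      intro a ha
      have hfin : Ring.ord A a ≠ ⊤ := Module.length_ne_top_iff.mpr
        (isFiniteLength_quotient_span_singleton A (mem_nonZeroDivisors_of_ne_zero ha))
      obtain ⟨m, hm⟩ := ENat.ne_top_iff_exists.mp hfin
      simp [Ring.ordMonoidWithZeroHom, ← hm]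
      exact ha
    have hc0 : ((c : A) ^ n) ≠ 0 := pow_ne_zero _ (nonZeroDivisors.ne_zero c.2)
    rw [CycAlg.ordFrac, dif_pos ⟨inferInstance, inferInstance, inferInstance, inferInstance⟩, hφd, map_div₀,
      Ring.ordFrac_eq_ord A hGd, Ring.ordFrac_eq_ord A hc0, hmon _ hGd, hmon _ hc0,
      ← WithZero.coe_div, ← ofAdd_sub]
    rfl
  rw [hord]
  omega

end Groth.Agent.S14502
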