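import Groth.Statements.S14506
import Mathlib


-- import your own Groth.Agent.* helpers here

set_option autoImplicit false
open IntTh

namespace Groth.Agent.S14506

/-- A formal power series f(t) ∈ ℚ⟦t⟧ satisfies, for every n ≥ 0, that the coefficient of t^n in
f(t)^(n+1) is 1, if and only if f(t)·(e^t − 1) = t·e^t, that is f(t) = t/(1 − e^(−t)) = 1 + t/2 +
t²/12 − ⋯. (The published statement is the existence and uniqueness of the Todd class of vector
bundles normalised by multiplicativity, td(O) = 1 and the Riemann–Roch identity for the structure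
sheaf of every projective space; this row is the power-series fact its proof establishes: the
normalisation forces exactly these coefficient conditions on the one-variable series.) -/
theorem result (f : PowerSeries ℚ) :
    (∀ n : ℕ, PowerSeries.coeff n (f ^ (n + 1)) = 1) ↔
      f * (PowerSeries.exp ℚ - 1) = PowerSeries.X * PowerSeries.exp ℚ := by
  classical
  have hexp : PowerSeries.constantCoeff (PowerSeries.exp ℚ) = 1 := by simp
  have hene : (PowerSeries.exp ℚ) ≠ 0 := fun h => by simp [h] at hexp
  have hback : ∀ g : PowerSeries ℚ, g * (PowerSeries.exp ℚ - 1) = PowerSeries.X * PowerSeries.exp ℚ →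
      PowerSeries.constantCoeff g = 1 ∧ ∀ n : ℕ, PowerSeries.coeff n (g ^ (n + 1)) = 1 := by
    intro g hg
    have h0 : PowerSeries.constantCoeff g = 1 := by
      have h1 := congrArg (PowerSeries.coeff 1) hg
      rw [PowerSeries.coeff_mul, Finset.Nat.sum_antidiagonal_eq_sum_range_succ_mk, Finset.sum_range_succ, Finset.sum_range_one] at h1
      simpa [PowerSeries.coeff_exp] using h1
    have hd := congrArg (PowerSeries.derivative ℚ) hg
    rw [Derivation.leibniz, Derivation.leibniz, map_sub, PowerSeries.derivative_exp, Derivation.map_one_eq_zero, sub_zero,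
      PowerSeries.derivative_X, smul_eq_mul, smul_eq_mul, smul_eq_mul, smul_eq_mul, mul_one] at hd
    have hrec : PowerSeries.X * PowerSeries.derivative ℚ g = g + PowerSeries.X * g - g * g := by
      apply mul_right_cancel₀ hene
      linear_combination g * hd - (PowerSeries.derivative ℚ g) * hg
    refine ⟨h0, fun n => ?_⟩
    induction n with
    | zero => simpa using h0
    | succ n ih =>
      have hp : PowerSeries.X * PowerSeries.derivative ℚ (g ^ (n + 1)) =
          ((n + 1 : ℕ) : PowerSeries ℚ) * (g ^ (n + 1) + PowerSeries.X * g ^ (n + 1) - g ^ (n + 1 + 1)) := by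
        rw [Derivation.leibniz_pow, Nat.add_sub_cancel, nsmul_eq_mul, smul_eq_mul]
        linear_combination ((n + 1 : ℕ) : PowerSeries ℚ) * g ^ n * hrec
      have h1 := congrArg (PowerSeries.coeff (n + 1)) hp
      rw [PowerSeries.coeff_succ_X_mul, PowerSeries.coeff_derivative, ← map_natCast PowerSeries.C, PowerSeries.coeff_C_mul,
        map_sub, map_add, PowerSeries.coeff_succ_X_mul, ih] at h1
      have hne : ((n + 1 : ℕ) : ℚ) ≠ 0 := by positivity
      push_cast at h1 hne
      apply mul_left_cancel₀ hne
      linarith
  refine ⟨fun h => ?_, fun h => (hback f h).2⟩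
  let U : PowerSeries ℚ := PowerSeries.mk fun n => PowerSeries.coeff (n + 1) (PowerSeries.exp ℚ)
  have hU : PowerSeries.exp ℚ - 1 = PowerSeries.X * U := by
    ext n
    rcases n with _ | n
    · simp
    · rw [PowerSeries.coeff_succ_X_mul]; simp [U]
  have hU0 : PowerSeries.constantCoeff U ≠ 0 := by
    simp [U, ← PowerSeries.coeff_zero_eq_constantCoeff_apply]
  set T : PowerSeries ℚ := PowerSeries.exp ℚ * U⁻¹
  have hTeq : T * (PowerSeries.exp ℚ - 1) = PowerSeries.X * PowerSeries.exp ℚ := by
    rw [hU]; simp only [T]
    calc PowerSeries.exp ℚ * U⁻¹ * (PowerSeries.X * U) = PowerSeries.X * PowerSeries.exp ℚ * (U⁻¹ * U) := by ring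
      _ = _ := by rw [PowerSeries.inv_mul_cancel U hU0, mul_one]
  obtain ⟨hT0, hT⟩ := hback T hTeq
  have hf0 : PowerSeries.constantCoeff f = 1 := by simpa using h 0
  suffices hfT : f = T by rw [hfT]; exact hTeq
  ext n
  induction n using Nat.strong_induction_on with
  | _ n ih =>
    obtain ⟨c, hc⟩ : PowerSeries.X ^ n ∣ f - T := PowerSeries.X_pow_dvd_iff.2 fun m hm => by rw [map_sub, ih m hm, sub_self]
    have h1 := congrArg (PowerSeries.coeff n) (geom_sum₂_mul f T (n + 1))
    rw [map_sub, h n, hT n, sub_self, hc, mul_left_comm, PowerSeries.coeff_X_pow_mul', if_pos le_rfl, Nat.sub_self,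
      PowerSeries.coeff_zero_eq_constantCoeff_apply, map_mul, map_sum] at h1
    simp only [map_mul, map_pow, hf0, hT0, one_pow, mul_one, Finset.sum_const, Finset.card_range, nsmul_eq_mul] at h1
    have hc0 : PowerSeries.constantCoeff c = 0 := (mul_eq_zero.1 h1).resolve_left (by positivity)
    have h2 := congrArg (PowerSeries.coeff n) hc
    rw [map_sub, PowerSeries.coeff_X_pow_mul', if_pos le_rfl, Nat.sub_self, PowerSeries.coeff_zero_eq_constantCoeff_apply, hc0] at h2
    exact sub_eq_zero.1 h2

end Groth.Agent.S14506
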