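import Groth.Statements.S14509
import Mathlib


-- import your own Groth.Agent.* helpers here

set_option autoImplicit false
open IntTh

namespace Groth.Agent.S14509

/-- Let f(t) ∈ ℚ⟦t⟧ be the Todd series, characterised by f(t)·(e^t − 1) = t·e^t, i.e. f(t) = t/(1 −
e^(−t)). Then for every m ∈ ℤ and n ∈ ℕ the coefficient of t^n in e^(mt)·f(t)^(n+1) is the binomial
coefficient C(m+n, n), understood as the polynomial (m+n)(m+n−1)⋯(m+1)/n! in m (so for all integers
m). (The published statement is the Hirzebruch–Riemann–Roch formula χ(E) = ∫ ch(E)·td for vector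
bundles on projective n-space; this row is the identity of formal power series to which its proof
reduces it for E = O(m): the degree-n part of ch(O(m))·td(P^n) = e^(mζ)(ζ/(1 − e^(−ζ)))^(n+1)
against χ(P^n, O(m)) = C(m+n, n).) -/
theorem result (f : PowerSeries ℚ)
    (hf : f * (PowerSeries.exp ℚ - 1) = PowerSeries.X * PowerSeries.exp ℚ) (m : ℤ) (n : ℕ) :
    PowerSeries.coeff n (PowerSeries.rescale (m : ℚ) (PowerSeries.exp ℚ) * f ^ (n + 1)) =
      ((Ring.choose (m + n : ℤ) n : ℤ) : ℚ) := by
  classical
  set E : PowerSeries ℚ := PowerSeries.rescale (-1 : ℚ) (PowerSeries.exp ℚ) with hEdef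
  have hEexp : PowerSeries.exp ℚ * E = 1 := by
    have h := PowerSeries.exp_mul_exp_eq_exp_add (1 : ℚ) (-1)
    simpa [PowerSeries.rescale_one, hEdef] using h
  have hfE : f * (1 - E) = PowerSeries.X := by
    linear_combination E * hf + (PowerSeries.X - f) * hEexp
  have hdE : PowerSeries.derivative ℚ E = -E := by
    ext k
    simp only [hEdef, PowerSeries.coeff_derivative, map_neg, PowerSeries.coeff_rescale, PowerSeries.coeff_exp,
      Algebra.algebraMap_self, RingHom.id_apply, Nat.factorial_succ]
    push_cast
    field_simp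
    ring
  have hd := congrArg (PowerSeries.derivative ℚ) hfE
  rw [Derivation.leibniz, map_sub, Derivation.map_one_eq_zero, hdE, PowerSeries.derivative_X] at hd
  simp only [smul_eq_mul, zero_sub, neg_neg] at hd
  have hkey : E * f ^ 2 = f - PowerSeries.X * PowerSeries.derivative ℚ f := by
    linear_combination f * hd - PowerSeries.derivative ℚ f * hfE
  let a : ℕ → ℤ → ℚ := fun k l => PowerSeries.coeff k (PowerSeries.rescale (l : ℚ) (PowerSeries.exp ℚ) * f ^ (k + 1))
  show a n m = _
  have hXd : ∀ (g : PowerSeries ℚ) (k : ℕ),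
      PowerSeries.coeff k (PowerSeries.X * PowerSeries.derivative ℚ g) = (k : ℚ) * PowerSeries.coeff k g := by
    intro g k
    cases k with
    | zero => simp
    | succ k => rw [PowerSeries.coeff_succ_X_mul, PowerSeries.coeff_derivative]; push_cast; ring
  have hbase : ∀ k : ℕ, a (k + 1) (-1) = 0 := by
    intro k
    have h1 : E * f ^ (k + 1 + 1) = f ^ (k + 1) -
        PowerSeries.X * (f ^ k * PowerSeries.derivative ℚ f) := by
      calc E * f ^ (k + 1 + 1) = f ^ k * (E * f ^ 2) := by ring
        _ = _ := by rw [hkey]; ring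
    have h2 := hXd (f ^ (k + 1)) (k + 1)
    rw [Derivation.leibniz_pow, Nat.add_sub_cancel, smul_eq_mul,
      mul_smul_comm, map_nsmul, nsmul_eq_mul] at h2
    have hk : ((k + 1 : ℕ) : ℚ) ≠ 0 := by positivity
    have h3 := mul_left_cancel₀ hk h2
    show PowerSeries.coeff (k+1) (PowerSeries.rescale ((-1 : ℤ) : ℚ) (PowerSeries.exp ℚ) * f ^ (k + 1 + 1)) = 0
    push_cast
    rw [← hEdef, h1, map_sub, h3, sub_self]
  have hstep : ∀ (k : ℕ) (l : ℤ), a (k + 1) l - a (k + 1) (l - 1) = a k l := by
    intro k l
    show PowerSeries.coeff (k+1) _ - PowerSeries.coeff (k+1) _ = PowerSeries.coeff k _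
    have h : PowerSeries.rescale ((l - 1 : ℤ) : ℚ) (PowerSeries.exp ℚ) =
        PowerSeries.rescale (l : ℚ) (PowerSeries.exp ℚ) * E := by
      rw [hEdef, PowerSeries.exp_mul_exp_eq_exp_add]; push_cast; rw [sub_eq_add_neg]
    rw [h, ← map_sub, ← PowerSeries.coeff_succ_X_mul k]
    congr 1
    linear_combination (PowerSeries.rescale (l : ℚ) (PowerSeries.exp ℚ) * f ^ (k + 1)) * hfE
  induction n generalizing m with
  | zero =>
    have hf0 : PowerSeries.constantCoeff f = 1 := by
      have hE0 : PowerSeries.constantCoeff E = 1 := by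
        rw [← PowerSeries.coeff_zero_eq_constantCoeff_apply, hEdef, PowerSeries.coeff_rescale]
        simp
      have hE1 : PowerSeries.coeff 1 E = -1 := by
        rw [hEdef, PowerSeries.coeff_rescale]
        simp
      have h1 := congrArg (PowerSeries.coeff 1) hfE
      rw [PowerSeries.coeff_mul, Finset.Nat.sum_antidiagonal_succ, Finset.Nat.antidiagonal_zero] at h1
      simpa [hE0, hE1] using h1
    simp [a, hf0]
    rw [← PowerSeries.coeff_zero_eq_constantCoeff_apply, PowerSeries.coeff_rescale]; simp
  | succ k ih =>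
    induction m using Int.inductionOn' (b := -1) with
    | zero =>
      rw [hbase k]
      push_cast
      rw [show (-1 : ℤ) + (k + 1) = (k : ℤ) by ring, Ring.choose_natCast, Nat.choose_succ_self]
      simp
    | succ j _ hj =>
      have h := hstep k (j + 1)
      rw [add_sub_cancel_right, ih, hj] at h
      push_cast at h ⊢
      rw [show j + 1 + ((k:ℤ) + 1) = (j + 1 + k) + 1 by ring, Ring.choose_succ_succ]
      rw [show j + ((k:ℤ) + 1) = j + 1 + k by ring] at h
      push_cast
      linarith
    | pred j _ hj =>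
      have h := hstep k j
      rw [ih, hj] at h
      push_cast at h ⊢
      rw [show j + ((k:ℤ) + 1) = (j - 1 + (k + 1)) + 1 by ring, Ring.choose_succ_succ] at h
      rw [show j + (k:ℤ) = (j - 1 + (k + 1)) by ring] at h
      push_cast at h
      linarith

end Groth.Agent.S14509
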