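import Groth.Statements.S14510
import Mathlib.RingTheory.Nullstellensatz
import Mathlib.RingTheory.Ideal.KrullsHeightTheorem
import Mathlib.LinearAlgebra.Dimension.Finrank
import Mathlib.LinearAlgebra.FiniteDimensional.Basic
import Mathlib.LinearAlgebra.Dimension.Free
import Mathlib.RingTheory.Polynomial.Basic
import Mathlib.RingTheory.Ideal.Quotient.Operations
-- import your own Groth.Agent.* helpers here

set_option autoImplicit false
universe u v
open CAlgX

namespace Groth.Agent.S14510

/-- Let k be an algebraically closed field, U, V, W finite-dimensional k-vector spaces with U and V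
nonzero, and φ : U ⊗ V → W a linear map which is 1-generic, i.e. φ(u ⊗ v) ≠ 0 for all nonzero u and
v (φ is given here as a bilinear map). Then dim W ≥ dim U + dim V − 1. (Algebraic closedness
matters: complex multiplication ℂ ⊗ ℂ → ℂ over the reals is 1-generic with 2 + 2 − 1 > 2.) -/
theorem result (k : Type u) [Field k] [IsAlgClosed k]
    (U V W : Type v) [AddCommGroup U] [Module k U] [AddCommGroup V] [Module k V] [AddCommGroup W] [Module k W]
    [Module.Finite k U] [Module.Finite k V] [Module.Finite k W] [Nontrivial U] [Nontrivial V]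
    (φ : U →ₗ[k] V →ₗ[k] W) (hφ : ∀ (a : U) (b : V), a ≠ 0 → b ≠ 0 → φ a b ≠ 0) :
    Module.finrank k U + Module.finrank k V ≤ Module.finrank k W + 1 := by
  classical
  obtain ⟨a, ha⟩ : ∃ a, Module.finrank k U = a + 1 := ⟨_, (Nat.succ_pred_eq_of_pos Module.finrank_pos).symm⟩
  obtain ⟨b, hb⟩ : ∃ b, Module.finrank k V = b + 1 := ⟨_, (Nat.succ_pred_eq_of_pos Module.finrank_pos).symm⟩
  let bU := Module.finBasisOfFinrankEq k U ha
  let bV := Module.finBasisOfFinrankEq k V hb
  let bW := Module.finBasis k W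
  set n := Module.finrank k W with hn
  let ψ : (MvPolynomial (Fin (a + 1) × Fin (b + 1)) k) →ₐ[k] (MvPolynomial (Fin (a + 1) ⊕ Fin (b + 1)) k) := MvPolynomial.aeval fun p => MvPolynomial.X (Sum.inl p.1) * MvPolynomial.X (Sum.inr p.2)
  -- setting the first coordinates to zero
  let ev : ℕ → ((MvPolynomial (Fin (a + 1) ⊕ Fin (b + 1)) k) →ₐ[k] (MvPolynomial (Fin (a + 1) ⊕ Fin (b + 1)) k)) := fun r => MvPolynomial.aeval fun s => Sum.elim
    (fun i : Fin (a + 1) => if (i : ℕ) < min r a then 0 else MvPolynomial.X (Sum.inl i))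
    (fun j : Fin (b + 1) => if (j : ℕ) < r - a then 0 else MvPolynomial.X (Sum.inr j)) s
  let P : ℕ → Ideal (MvPolynomial (Fin (a + 1) × Fin (b + 1)) k) := fun r => RingHom.ker ((ev r).comp ψ)
  have hPmono : ∀ r, P r ≤ P (r + 1) := fun r x hx => by
    have hcomp : (ev (r + 1)).comp (ev r) = ev (r + 1) := MvPolynomial.algHom_ext fun s => by
      rcases s with i | j
      · by_cases h : (i : ℕ) < min r a
        · simp only [ev, AlgHom.comp_apply, MvPolynomial.aeval_X, Sum.elim_inl, if_pos h, map_zero, if_pos (show i.val < min (r + 1) a by omega)]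
        · simp only [ev, AlgHom.comp_apply, MvPolynomial.aeval_X, Sum.elim_inl, if_neg h]
      · by_cases h : (j : ℕ) < r - a
        · simp [ev, h, show j.val < r + 1 - a by omega]
        · simp [ev, h]
    show (ev (r + 1)).comp ψ x = 0
    rw [← hcomp, AlgHom.comp_assoc, AlgHom.comp_apply, show (ev r).comp ψ x = 0 from hx, map_zero]
  have hPne : ∀ r, r < a + (b + 1) → P r ≠ P (r + 1) := fun r hr h => by
    let i : Fin (a + 1) := ⟨min r a, by omega⟩
    let j : Fin (b + 1) := ⟨r - a, by omega⟩
    have hmem : (MvPolynomial.X (i, j) : (MvPolynomial (Fin (a + 1) × Fin (b + 1)) k)) ∈ P (r + 1) := by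
      show (ev (r + 1)).comp ψ (MvPolynomial.X (i, j)) = 0
      simp only [ψ, ev, i, j, AlgHom.comp_apply, MvPolynomial.aeval_X, map_mul, Sum.elim_inl, Sum.elim_inr]
      rcases Nat.lt_or_ge r a with h' | h'
      · rw [if_pos (show min r a < min (r + 1) a by omega), zero_mul]
      · rw [if_pos (show r - a < r + 1 - a by omega), mul_zero]
    rw [← h] at hmem
    have hmem' : (ev r).comp ψ (MvPolynomial.X (i, j)) = 0 := hmem
    simp only [ψ, ev, i, j, AlgHom.comp_apply, MvPolynomial.aeval_X, map_mul, Sum.elim_inl, Sum.elim_inr, lt_irrefl, if_false] at hmem'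
    exact mul_ne_zero (MvPolynomial.X_ne_zero _) (MvPolynomial.X_ne_zero _) hmem'
  let K : Ideal (MvPolynomial (Fin (a + 1) × Fin (b + 1)) k) := RingHom.ker ψ
  have hK : ∀ r, K ≤ P r := fun r x hx => by
    show ev r (ψ x) = 0
    rw [show ψ x = 0 from hx, map_zero]
  haveI hPprime : ∀ r, (P r).IsPrime := fun r => RingHom.ker_isPrime _
  let π := Ideal.Quotient.mk K
  let p : ℕ → PrimeSpectrum ((MvPolynomial (Fin (a + 1) × Fin (b + 1)) k) ⧸ K) := fun r =>
    ⟨(P r).map π, Ideal.map_isPrime_of_surjective Ideal.Quotient.mk_surjective (by rw [Ideal.mk_ker]; exact hK r)⟩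
  have hcm : ∀ r, ((P r).map π).comap π = P r := fun r => by
    rw [Ideal.comap_map_of_surjective' π Ideal.Quotient.mk_surjective, Ideal.mk_ker, sup_eq_left]
    exact hK r
  let c : LTSeries (PrimeSpectrum ((MvPolynomial (Fin (a + 1) × Fin (b + 1)) k) ⧸ K)) :=
    { length := a + (b + 1)
      toFun := fun r => p r
      step := fun r => by
        refine lt_of_le_of_ne (Ideal.map_mono (hPmono r)) fun he => hPne r r.2 ?_
        have := congrArg (Ideal.comap π) he
        simp only [Fin.val_castSucc, Fin.val_succ, p, hcm] at this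
        exact this }
  -- the forms cut out only the origin
  let L : Fin n → (MvPolynomial (Fin (a + 1) × Fin (b + 1)) k) := fun w => ∑ i, ∑ j, MvPolynomial.C (bW.repr (φ (bU i) (bV j)) w) * MvPolynomial.X (i, j)
  have hzero : ∀ z ∈ MvPolynomial.zeroLocus k (K ⊔ Ideal.span (Set.range L)), z = 0 := by
    intro z hz
    have hminor : ∀ i j i' j', z (i, j) * z (i', j') = z (i, j') * z (i', j) := fun i j i' j' => by
      have hK' : (MvPolynomial.X (i, j) * MvPolynomial.X (i', j') - MvPolynomial.X (i, j') * MvPolynomial.X (i', j) : (MvPolynomial (Fin (a + 1) × Fin (b + 1)) k)) ∈ K := by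
        show ψ _ = 0
        simp [ψ]
        ring
      simpa [sub_eq_zero] using hz _ (Ideal.mem_sup_left hK')
    by_contra hne
    obtain ⟨⟨i₀, j₀⟩, h00⟩ := Function.ne_iff.mp hne
    let x : U := ∑ i, z (i, j₀) • bU i
    let y : V := ∑ j, (z (i₀, j) / z (i₀, j₀)) • bV j
    have hx : x ≠ 0 := fun h => h00 <| by
      simpa [x, map_sum, Finsupp.single_apply] using congrArg (fun v => bU.repr v i₀) h
    have hy : y ≠ 0 := fun h => by
      have := congrArg (fun v => bV.repr v j₀) h
      simp [y, map_sum, Finsupp.single_apply, div_self h00] at this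
    refine hφ x y hx hy (bW.repr.injective (Finsupp.ext fun w => ?_))
    have hL := hz _ (Ideal.mem_sup_right (Ideal.subset_span ⟨w, rfl⟩))
    simp only [L, map_sum, map_mul, MvPolynomial.aeval_C, MvPolynomial.aeval_X, Algebra.algebraMap_self, RingHom.id_apply] at hL
    simp only [x, y, map_sum, map_smul, LinearMap.sum_apply, LinearMap.smul_apply, Finsupp.coe_finsetSum, Finset.sum_apply,
      Finsupp.smul_apply, smul_eq_mul, map_zero, Finsupp.coe_zero, Pi.zero_apply, Finset.mul_sum]
    rw [Finset.sum_comm]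
    refine Eq.trans (Finset.sum_congr rfl fun i _ => Finset.sum_congr rfl fun j _ => ?_) hL
    rw [← mul_assoc, show z (i₀, j) / z (i₀, j₀) * z (i, j₀) = z (i, j) by rw [div_mul_eq_mul_div, div_eq_iff h00, mul_comm, hminor i j₀ i₀ j], mul_comm]
  have hMX : ∀ q : Fin (a + 1) × Fin (b + 1), (MvPolynomial.X q : (MvPolynomial (Fin (a + 1) × Fin (b + 1)) k)) ∈ (K ⊔ Ideal.span (Set.range L)).radical := fun q => by
    rw [← MvPolynomial.vanishingIdeal_zeroLocus_eq_radical (K := k)]
    intro z hz
    simp [hzero z hz]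
  have hPtop : ∀ x : (MvPolynomial (Fin (a + 1) × Fin (b + 1)) k), x ∈ P (a + (b + 1)) → x ∈ (K ⊔ Ideal.span (Set.range L)).radical := by
    intro x hx
    have hsub : ∀ x : (MvPolynomial (Fin (a + 1) × Fin (b + 1)) k), x - MvPolynomial.C (MvPolynomial.constantCoeff x) ∈ (K ⊔ Ideal.span (Set.range L)).radical := fun x => by
      induction x using MvPolynomial.induction_on with
      | C a => simp
      | add u v hu hv => simpa [add_sub_add_comm] using Ideal.add_mem _ hu hv
      | mul_X u i hu => simpa using Ideal.mul_mem_left _ u (hMX i)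
    have hc0 : MvPolynomial.constantCoeff x = 0 := by
      have h0 := congrArg MvPolynomial.constantCoeff (show (ev (a + (b + 1))).comp ψ x = 0 from hx)
      have hcomp : (MvPolynomial.constantCoeff : (MvPolynomial (Fin (a + 1) ⊕ Fin (b + 1)) k) →+* k).comp ((ev (a + (b + 1))).comp ψ).toRingHom = MvPolynomial.constantCoeff := by
        refine MvPolynomial.ringHom_ext (fun r => by simp [ψ, ev]) fun q => ?_
        have : (q.2 : ℕ) ≤ b := Nat.lt_succ_iff.mp q.2.2
        simp [ψ, ev, this]
      have := RingHom.congr_fun hcomp x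
      simp only [RingHom.comp_apply] at this
      rw [← this]
      simpa using h0
    simpa [hc0] using hsub x
  have hmin : (p (a + (b + 1))).asIdeal ∈ (Ideal.span (Set.range (π ∘ L))).minimalPrimes := by
    refine ⟨⟨(p _).2, Ideal.span_le.mpr ?_⟩, fun Q hQ _ => ?_⟩
    · rintro _ ⟨w, rfl⟩
      refine Ideal.mem_map_of_mem π ?_
      show (ev (a + (b + 1))).comp ψ (L w) = 0
      simp [L, ψ, ev, show ∀ j : Fin (b + 1), (j : ℕ) ≤ b from fun j => Nat.lt_succ_iff.mp j.2]
    · haveI := hQ.1
      rintro x hx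
      obtain ⟨x, hx', rfl⟩ := (Ideal.mem_map_iff_of_surjective π Ideal.Quotient.mk_surjective).mp hx
      refine Ideal.mem_comap.mp ((Ideal.IsPrime.isRadical (Ideal.comap_isPrime π Q)) (Ideal.radical_mono ?_ (hPtop x hx')))
      refine sup_le (fun y hy => by simp [Ideal.mem_comap, π, Ideal.Quotient.eq_zero_iff_mem.mpr hy]) (Ideal.span_le.mpr ?_)
      rintro _ ⟨w, rfl⟩
      exact hQ.2 (Ideal.subset_span ⟨w, rfl⟩)
  have hup := Ideal.height_le_card_of_mem_minimalPrimes_span (Set.finite_range _) hmin
  have hlow : ((a + (b + 1) : ℕ) : ℕ∞) ≤ (p (a + (b + 1))).asIdeal.height := by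
    rw [PrimeSpectrum.height_eq_orderHeight]
    exact Order.length_le_height (p := c) le_rfl
  have hle : a + (b + 1) ≤ (Set.range (π ∘ L)).ncard := by exact_mod_cast hlow.trans hup
  have hcard : (Set.range (π ∘ L)).ncard ≤ n := by
    rw [← Set.image_univ]
    exact (Set.ncard_image_le Set.finite_univ).trans (by simp)
  omega

end Groth.Agent.S14510
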