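import Groth.Statements.S14511
import Mathlib


-- import your own Groth.Agent.* helpers here

set_option autoImplicit false
universe u
open CAlgX

namespace Groth.Agent.S14511

/-- Let R be a commutative ring and P ∈ R[x_1, …, x_r] a polynomial of total degree at most r. Then the
coefficient of the monomial x_1 ⋯ x_r in P equals Σ_J (−1)^{|J|} P(δ_J), the sum over all subsets J
⊆ {1, …, r} (the empty one included), where δ_J is the point with coordinate −1 at the indices in J
and 0 at the others. -/
theorem result (R : Type u) [CommRing R] (r : ℕ)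
    (P : MvPolynomial (Fin r) R) (hP : P.totalDegree ≤ r) :
    MvPolynomial.coeff (∑ i : Fin r, Finsupp.single i 1) P =
      ∑ J : Finset (Fin r), (-1 : R) ^ J.card * MvPolynomial.eval (fun j => if j ∈ J then (-1 : R) else 0) P := by
  classical
  conv_rhs => enter [2, J]; rw [MvPolynomial.eval_eq, Finset.mul_sum]
  rw [Finset.sum_comm]
  set one : Fin r →₀ ℕ := ∑ i : Fin r, Finsupp.single i 1 with hone
  have hone' : ∀ i, one i = 1 := fun i => by
    simp [one, Finsupp.finsetSum_apply, Finsupp.single_apply]
  have key : ∀ d ∈ P.support, ∑ J : Finset (Fin r), (-1 : R) ^ J.card * (MvPolynomial.coeff d P *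
      ∏ i ∈ d.support, (if i ∈ J then (-1 : R) else 0) ^ d i) =
      if d = one then MvPolynomial.coeff d P else 0 := by
    intro d hd
    have h0 : ∀ J : Finset (Fin r), (-1 : R) ^ J.card * (MvPolynomial.coeff d P *
        ∏ i ∈ d.support, (if i ∈ J then (-1 : R) else 0) ^ d i) = MvPolynomial.coeff d P *
        ((∏ i ∈ J, (-1 : R) ^ (d i + 1)) * ∏ i ∈ Finset.univ \ J, (0 : R) ^ d i) := by
      intro J
      have e1 : ∏ i ∈ d.support, (if i ∈ J then (-1 : R) else 0) ^ d i =
          (∏ i ∈ J, (-1 : R) ^ d i) * ∏ i ∈ Finset.univ \ J, (0 : R) ^ d i := by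
        rw [Finset.prod_subset (Finset.subset_univ _) (fun i _ hi => by
          rw [Finsupp.notMem_support_iff.1 hi, pow_zero]),
          ← Finset.prod_sdiff (Finset.subset_univ J), mul_comm]
        congr 1
        · exact Finset.prod_congr rfl fun i hi => by rw [if_pos hi]
        · exact Finset.prod_congr rfl fun i hi => by rw [if_neg (Finset.mem_sdiff.1 hi).2]
      have e2 : (-1 : R) ^ J.card = ∏ i ∈ J, (-1 : R) := (Finset.prod_const _).symm
      rw [e1, e2]
      simp only [pow_succ, Finset.prod_mul_distrib]
      ring
    simp only [h0, ← Finset.mul_sum]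
    rw [← Finset.powerset_univ, ← Finset.prod_add]
    split_ifs with h
    · rw [h, Finset.prod_eq_one (fun i _ => by simp [hone']), mul_one]
    · obtain ⟨i, hi⟩ : ∃ i, d i = 0 := by
        by_contra hne
        push_neg at hne
        apply h
        have hle : d.sum (fun _ e => e) ≤ r := (MvPolynomial.le_totalDegree hd).trans hP
        rw [Finsupp.sum_fintype _ _ (fun _ => rfl)] at hle
        ext i
        rw [hone']
        have hall : ∀ j ∈ Finset.univ, (1 : ℕ) = d j := by
          rw [← Finset.sum_eq_sum_iff_of_le (fun j _ => Nat.one_le_iff_ne_zero.2 (hne j))]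
          refine le_antisymm (Finset.sum_le_sum fun j _ => Nat.one_le_iff_ne_zero.2 (hne j)) ?_
          simpa using hle
        exact (hall i (Finset.mem_univ _)).symm
      rw [Finset.prod_eq_zero (Finset.mem_univ i) (by simp [hi]), mul_zero]
  rw [Finset.sum_congr rfl key, Finset.sum_ite_eq']
  split_ifs with h
  · rfl
  · exact MvPolynomial.notMem_support_iff.1 h

end Groth.Agent.S14511
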