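import Groth.Statements.S14513
import Groth.Agent.HurwitzLib.Iso
import Groth.Agent.PushLinLib.HH
import Groth.Agent.RRVanLib.GG
import Groth.Agent.CurvLib.RRBasic
import Groth.Agent.NormalLib.Regular
-- import your own Groth.Agent.* helpers here

set_option autoImplicit false
universe u
open CategoryTheory CategoryTheory.Limits AlgebraicGeometry
open Curves

namespace Groth.Agent.S14513

/-- Let k be an algebraically closed field and f : X → Y a finite, separable morphism of smooth
projective curves over k (X, Y integral, proper and smooth over k, of dimension one; f sends the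
generic point to the generic point and the extension K(X)/K(Y) is separable). If X and Y have the
same genus g = dim_k H^1(O) and g ≥ 2, then f is an isomorphism. (The published statement also
asserts g(X) ≥ g(Y) and that equality holds exactly when f is an isomorphism, both curves are
projective lines, or both have genus one; this row states the equality case for genus at least two.) -/
theorem result (k : Type u) [Field k] [IsAlgClosed k]
    (X : Scheme.{u}) [X.Over (Spec (CommRingCat.of k))] [IsIntegral X] [IsProper (X ↘ (Spec (CommRingCat.of k)))] [Smooth (X ↘ (Spec (CommRingCat.of k)))] (hdimX : topologicalKrullDim X = 1)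
    (Y : Scheme.{u}) [Y.Over (Spec (CommRingCat.of k))] [IsIntegral Y] [IsProper (Y ↘ (Spec (CommRingCat.of k)))] [Smooth (Y ↘ (Spec (CommRingCat.of k)))] (hdimY : topologicalKrullDim Y = 1)
    (f : X ⟶ Y) [IsFinite f] (hf : f ≫ (Y ↘ (Spec (CommRingCat.of k))) = (X ↘ (Spec (CommRingCat.of k))))
    (e : f (genericPoint X) = genericPoint Y)
    (hg : Curv2.genus k X = Curv2.genus k Y) (h2 : 2 ≤ Curv2.genus k Y) :
    letI := ((Y.presheaf.stalkSpecializes (specializes_of_eq e) ≫ f.stalkMap (genericPoint X)).hom).toAlgebra
    Algebra.IsSeparable Y.functionField X.functionField → IsIso f := by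
  intro hsep
  have hn : Pi1.IsNormalScheme Y := fun y => by
    haveI := CurveVBLib.regular_stalk (k := k) y
    exact ⟨inferInstance, NormalLib.isIntegrallyClosed_of_isRegularLocalRing _⟩
  haveI : Coh.IsQCoh (Coh.structureModule X) := QCohLib.isQCoh_unit
  obtain ⟨n, hn0, hM, hle⟩ := HurwitzLib.deg_push_nonpos (k := k) e hdimY.le hn hsep
  rw [← (PushLinLib.euler_push k f hf (Coh.structureModule X)).2, CurvLib.euler_curve (k := k) hdimX,
    CurvLib.euler_curve (k := k) hdimY, RRVanLib.finrank_h0_structure, RRVanLib.finrank_h0_structure] at hle
  unfold Curv2.genus at hg h2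
  rw [hg] at hle
  generalize Module.finrank k (Coh.HH Y (Coh.structureModule Y) 1) = g at hle h2
  have : n = 1 := by
    by_contra h1
    have h3 : (2 : ℤ) ≤ n := by exact_mod_cast (by omega : 2 ≤ n)
    have h4 : (2 : ℤ) ≤ g := by exact_mod_cast h2
    push_cast at hle
    nlinarith
  subst this
  exact HurwitzLib.isIso_of_locFree_one (k := k) e hM

end Groth.Agent.S14513
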