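import Groth.Statements.S14514
import Groth.Agent.AlgSpLib.CodimZero
import Groth.Agent.FibDimLib.ClosureDim
import Groth.Agent.VarDimLib.Basic

set_option autoImplicit false
universe u
open CategoryTheory CategoryTheory.Limits AlgebraicGeometry
open Variety

namespace Groth.Agent.S14514

/-- Let k be an algebraically closed field and f : X → Y a morphism of algebraic varieties over k (X, Y
reduced, separated and of finite type over k) such that Y is irreducible and the image f(X) is dense
in Y. Then X contains an irreducible closed subset Z with dim Z = dim Y such that f(Z) is dense in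
Y. -/
theorem result (k : Type u) [Field k] [IsAlgClosed k]
    (X Y : Scheme.{u}) [X.Over (Spec (CommRingCat.of k))] [Y.Over (Spec (CommRingCat.of k))]
    [IsReduced X] [IsSeparated (X ↘ (Spec (CommRingCat.of k)))] [LocallyOfFiniteType (X ↘ (Spec (CommRingCat.of k)))] [QuasiCompact (X ↘ (Spec (CommRingCat.of k)))]
    [IsReduced Y] [IsSeparated (Y ↘ (Spec (CommRingCat.of k)))] [LocallyOfFiniteType (Y ↘ (Spec (CommRingCat.of k)))] [QuasiCompact (Y ↘ (Spec (CommRingCat.of k)))] [IrreducibleSpace Y]
    (f : X ⟶ Y) (hf : f ≫ (Y ↘ (Spec (CommRingCat.of k))) = (X ↘ (Spec (CommRingCat.of k)))) [IsDominant f] :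
    ∃ Z : Set X, IsClosed Z ∧ IsIrreducible Z ∧ topologicalKrullDim ↥Z = topologicalKrullDim Y ∧
      Dense (f '' Z) := by
  haveI : IsLocallyNoetherian Y := LocallyOfFiniteType.isLocallyNoetherian (Y ↘ Spec (CommRingCat.of k))
  haveI : IsLocallyNoetherian X := LocallyOfFiniteType.isLocallyNoetherian (X ↘ Spec (CommRingCat.of k))
  haveI : CompactSpace X := QuasiCompact.compactSpace_of_compactSpace (X ↘ Spec (CommRingCat.of k))
  haveI : LocallyOfFiniteType (f ≫ (Y ↘ Spec (CommRingCat.of k))) := by rw [hf]; infer_instance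
  haveI : QuasiCompact (f ≫ (Y ↘ Spec (CommRingCat.of k))) := by rw [hf]; infer_instance
  haveI : LocallyOfFiniteType f := locallyOfFiniteType_of_comp f (Y ↘ Spec (CommRingCat.of k))
  haveI : QuasiCompact f := QuasiCompact.of_comp f (Y ↘ Spec (CommRingCat.of k))
  haveI : IsNoetherian X := { }
  -- the generic point of `Y` is in the image
  have hη : ∃ x : X, f.base x = genericPoint Y := by
    have hfin := TopologicalSpace.NoetherianSpace.finite_irreducibleComponents (α := X)
    have hsub : Set.range f.base ⊆ ⋃ Z ∈ irreducibleComponents X, closure (f.base '' Z) := by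
      rintro _ ⟨x, rfl⟩
      exact Set.mem_iUnion₂.2 ⟨_, irreducibleComponent_mem_irreducibleComponents x,
        subset_closure ⟨x, mem_irreducibleComponent, rfl⟩⟩
    have hu : genericPoint Y ∈ ⋃ Z ∈ irreducibleComponents X, closure (f.base '' Z) :=
      closure_minimal hsub (hfin.isClosed_biUnion fun _ _ => isClosed_closure) (f.denseRange _)
    obtain ⟨Z, hZ, hmem⟩ := Set.mem_iUnion₂.1 hu
    refine ⟨hZ.1.genericPoint, ?_⟩
    have h1 : IsGenericPoint (f.base hZ.1.genericPoint) (closure (f.base '' Z)) := by
      have := hZ.1.isGenericPoint_genericPoint (isClosed_of_mem_irreducibleComponents Z hZ) |>.image f.continuous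
      exact this
    exact ((h1.specializes hmem).antisymm ((genericPoint_spec Y).specializes (by simp))).eq
  obtain ⟨x₀, hx₀⟩ := hη
  -- a closed point of the generic fibre
  obtain ⟨w₀, -, hw₀⟩ := IsClosed.exists_closed_singleton (X := f.fiber (genericPoint Y)) isClosed_univ
    ⟨(f.fiberHomeo (genericPoint Y)).symm ⟨x₀, hx₀⟩, trivial⟩
  let z := (f.fiberι (genericPoint Y)).base w₀
  have hz : f.base z = genericPoint Y := by
    have : z ∈ Set.range (f.fiberι (genericPoint Y)).base := ⟨w₀, rfl⟩
    rwa [f.range_fiberι] at this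
  have hle : UOpenLib.fibreClosureDim f z ≤ 0 := by
    refine AlgSpLib.fibreClosureDim_le_zero_of_closed f z fun w hw hs => ?_
    obtain ⟨w', rfl⟩ : w ∈ Set.range (f.fiberι (genericPoint Y)).base := by
      rw [f.range_fiberι]; exact hw.trans hz
    have := (f.fiberι (genericPoint Y)).isEmbedding.isInducing.specializes_iff.1 hs
    rw [show w' = w₀ from Set.mem_singleton_iff.1 (hw₀.closure_eq ▸ specializes_iff_mem_closure.1 this)]
  have hge : 0 ≤ UOpenLib.fibreClosureDim f z := by
    rw [UOpenLib.fibreClosureDim_eq_inter]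
    let z' : ↥(closure ({z} : Set X) ∩ f.base ⁻¹' {f.base z}) := ⟨z, subset_closure rfl, rfl⟩
    haveI : Nonempty (TopologicalSpace.IrreducibleCloseds ↥(closure ({z} : Set X) ∩ f.base ⁻¹' {f.base z})) :=
      ⟨⟨closure {z'}, isIrreducible_singleton.closure, isClosed_closure⟩⟩
    exact Order.krullDim_nonneg
  refine ⟨closure {z}, isClosed_closure, isIrreducible_singleton.closure, ?_, ?_⟩
  · rw [FibDimLib.topologicalKrullDim_closure_eq_add (Y ↘ Spec (CommRingCat.of k)) f z, le_antisymm hle hge,
      add_zero, hz, ← VarDimLib.dim_eq_closure_generic]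
  · refine Dense.mono (s₁ := {genericPoint Y}) ?_ ?_
    · rw [Set.singleton_subset_iff]
      exact ⟨z, subset_closure rfl, hz⟩
    · exact dense_iff_closure_eq.2 (genericPoint_spec Y).def
end Groth.Agent.S14514
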