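import Groth.Statements.S14515
import Groth.Agent.VdWPurityLib.Main
import Groth.Agent.WeilExtLib.Smooth
import Groth.Agent.S2821
import Groth.Agent.IntMultRegLib.Geom
-- import your own Groth.Agent.* helpers here

set_option autoImplicit false
set_option maxHeartbeats 2000000
set_option backward.isDefEq.respectTransparency false
universe u
open CategoryTheory CategoryTheory.Limits AlgebraicGeometry
open Variety

namespace Groth.Agent.S14515

/-- Let k be an algebraically closed field and f : X → Y a proper, birational morphism over k between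
smooth, irreducible varieties (X, Y integral, separated, of finite type and smooth over k; f
restricts to an isomorphism over some nonempty open subset of Y). Let Exc(f) ⊆ X be the exceptional
locus: the points x such that f restricts to an isomorphism over no open neighbourhood of f(x). Then
Exc(f) has pure codimension one: every irreducible component of Exc(f) has dimension dim X − 1. -/
theorem result (k : Type u) [Field k] [IsAlgClosed k]
    (X Y : Scheme.{u}) [X.Over (Spec (CommRingCat.of k))] [Y.Over (Spec (CommRingCat.of k))]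
    [IsIntegral X] [IsSeparated (X ↘ (Spec (CommRingCat.of k)))] [LocallyOfFiniteType (X ↘ (Spec (CommRingCat.of k)))] [QuasiCompact (X ↘ (Spec (CommRingCat.of k)))] [Smooth (X ↘ (Spec (CommRingCat.of k)))]
    [IsIntegral Y] [IsSeparated (Y ↘ (Spec (CommRingCat.of k)))] [LocallyOfFiniteType (Y ↘ (Spec (CommRingCat.of k)))] [QuasiCompact (Y ↘ (Spec (CommRingCat.of k)))] [Smooth (Y ↘ (Spec (CommRingCat.of k)))]
    (f : X ⟶ Y) (hf : f ≫ (Y ↘ (Spec (CommRingCat.of k))) = (X ↘ (Spec (CommRingCat.of k)))) [IsProper f]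
    (hbir : ∃ V : Y.Opens, (V : Set Y).Nonempty ∧ IsIso (f ∣_ V)) :
    ∀ Z ∈ irreducibleComponents ↥{x : X | ∀ V : Y.Opens, f x ∈ V → ¬ IsIso (f ∣_ V)},
      topologicalKrullDim ↥Z + 1 = topologicalKrullDim X := by
  obtain ⟨V₀, hV₀, hiso⟩ := hbir
  intro Z hZ
  haveI : IsLocallyNoetherian X := LocallyOfFiniteType.isLocallyNoetherian (X ↘ (Spec (CommRingCat.of k)))
  have hufd : ∀ y : Y, UniqueFactorizationMonoid (Y.presheaf.stalk y) := fun y => by
    haveI := WeilExtLib.isRegular_stalk_smooth (Y ↘ (Spec (CommRingCat.of k))) y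
    exact (Groth.Agent.S2821.result (Y.presheaf.stalk y)).2
  have hE : IsClosed (VdWPurityLib.exc f) := VdWPurityLib.isClosed_exc f
  change Set ↥(VdWPurityLib.exc f) at Z
  change topologicalKrullDim ↥Z + 1 = _
  have hZc : IsClosed Z := isClosed_of_mem_irreducibleComponents Z hZ
  have hZ' : IsClosed (Subtype.val '' Z) := hE.isClosedEmbedding_subtypeVal.isClosedMap _ hZc
  have hirr : IsIrreducible (Subtype.val '' Z) := hZ.1.image _ continuous_subtype_val.continuousOn
  obtain ⟨z, hz⟩ := QuasiSober.sober hirr hZ'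
  have hzZ : z ∈ Subtype.val '' Z := hz.mem
  obtain ⟨⟨z, hzE⟩, hzZ, rfl⟩ := hzZ
  obtain ⟨w, hwz, hwE, hw1⟩ := VdWPurityLib.exists_codim_one f hV₀ hufd hzE
  have hwz' : w = z := by
    have hsub : Z ⊆ closure ({⟨w, hwE⟩} : Set ↥(VdWPurityLib.exc f)) := fun v hv => by
      rw [Topology.IsInducing.subtypeVal.closure_eq_preimage_closure_image, Set.image_singleton]
      exact (hwz.trans (hz.specializes ⟨v, hv, rfl⟩)).mem_closure
    have hle := hZ.2 isIrreducible_singleton.closure hsub
    have : w ∈ Subtype.val '' Z := ⟨⟨w, hwE⟩, hle (subset_closure rfl), rfl⟩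
    exact (hwz.antisymm (hz.specializes this)).eq
  rw [hwz'] at hw1
  have hdim := IntMultRegLib.dim_eq (X ↘ (Spec (CommRingCat.of k))) z
  rw [IntMultRegLib.fibreClosureDim_eq, hw1, hz.def] at hdim
  rw [hdim]
  congr 1
  exact IsHomeomorph.topologicalKrullDim_eq _
    ((Topology.IsEmbedding.subtypeVal.homeomorphImage Z).isHomeomorph)

end Groth.Agent.S14515
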