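import Groth.Statements.S14517
import Groth.Agent.GlobalContrLib.Neg
import Groth.Agent.GlobalContrLib.Dedekind
import Groth.Agent.BlowPtLib.Plane
import Groth.Agent.S13459
import Groth.Agent.SurfNumLib.Config
import Groth.Agent.VarDimLib.Basic
import Groth.Agent.LichtLib.ProjOver
-- import your own Groth.Agent.* helpers here

set_option autoImplicit false
universe u
open CategoryTheory CategoryTheory.Limits AlgebraicGeometry
open Surf

namespace Groth.Agent.S14517

/-- Let k be an algebraically closed field, X a smooth projective surface over k (integral, smooth over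
k, of dimension two, with a closed immersion over k into some projective space) and C ⊆ X a curve,
given by a closed immersion i : C → X, with C isomorphic to P^1_k over k and (C·C) = −n for some n >
0, the self-intersection being the alternating Euler-characteristic sum computed in the ideal I_C =
O_X(−C) (the prelude's FGA.intNum). Then there are a projective surface Y over k (integral, of
dimension two, with a closed immersion over k into some projective space), a morphism g : X → Y over
k and a closed point P of Y such that g^{-1}(P) = C as sets and g restricts to an isomorphism over Y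
∖ {P}. (The published statement also identifies the completed local ring of Y at P with that of the
vertex of the affine cone over a rational normal curve of degree n; this row omits that clause.) -/
theorem result (k : Type u) [Field k] [IsAlgClosed k]
    (X : Scheme.{u}) [X.Over (Spec (CommRingCat.of k))] [IsIntegral X] [Smooth (X ↘ (Spec (CommRingCat.of k)))] (hdim : topologicalKrullDim X = 2)
    (hprojX : ∃ (N : ℕ) (ι : X ⟶ CohB1.ProjSpace N k), IsClosedImmersion ι ∧ ι ≫ CohB1.ProjSpace.toSpec N k = (X ↘ (Spec (CommRingCat.of k))))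
    (C : Scheme.{u}) (i : C ⟶ X) [IsClosedImmersion i]
    (e : C ≅ CohB1.ProjSpace 1 k) (he : e.hom ≫ CohB1.ProjSpace.toSpec 1 k = i ≫ (X ↘ (Spec (CommRingCat.of k))))
    (n : ℕ) (hn : 0 < n)
    (hCC : FGA.intNum k X 2 ![ClSub.idealMod i.ker, ClSub.idealMod i.ker] (Coh.structureModule X) = -(n : ℤ)) :
    ∃ (Y : Scheme.{u}) (q : Y ⟶ Spec (CommRingCat.of k)) (g : X ⟶ Y) (P : Y) (hP : IsClosed ({P} : Set Y)),
      g ≫ q = (X ↘ (Spec (CommRingCat.of k))) ∧ IsIntegral Y ∧ topologicalKrullDim Y = 2 ∧
      (∃ (N : ℕ) (ι : Y ⟶ CohB1.ProjSpace N k), IsClosedImmersion ι ∧ ι ≫ CohB1.ProjSpace.toSpec N k = q) ∧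
      (∀ x : X, g x = P ↔ x ∈ Set.range i) ∧
      IsIso (g ∣_ (⟨({P} : Set Y)ᶜ, hP.isOpen_compl⟩ : Y.Opens)) := by
  classical
  obtain ⟨N, ι, hι, hιk⟩ := hprojX
  haveI := hι
  haveI := SurfNumLib.isProper_of_embedding ι hιk
  haveI := CurvLib.isNoetherian k (X := X)
  have hreg : ∀ x : X, IsRegularLocalRing (X.presheaf.stalk x) := fun x =>
    RegConLib.regular_stalk_over (X ↘ Spec (CommRingCat.of k)) x
  haveI : IsIntegral (CohB1.ProjSpace 1 k) := GenusZeroLib.isIntegral_projSpace k 1
  haveI : Nonempty ↥C := ⟨e.inv (genericPoint _)⟩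
  haveI : IsIntegral C := isIntegral_of_isOpenImmersion e.hom
  have hC1 : topologicalKrullDim C = 1 := by
    rw [e.hom.homeomorph.isHomeomorph.topologicalKrullDim_eq]
    exact_mod_cast VBP1Lib.dim_line k
  have hCreg : ∀ c : C, IsRegularLocalRing (C.presheaf.stalk c) := fun c => by
    haveI : IsRegularLocalRing ((CohB1.ProjSpace 1 k).presheaf.stalk (e.hom c)) := by
      haveI := GenusZeroLib.smooth_toSpec 1 k
      exact RegConLib.regular_stalk_over (CohB1.ProjSpace.toSpec 1 k) _
    exact IsRegularLocalRing.of_ringEquiv (asIso (e.hom.stalkMap c)).commRingCatIsoToRingEquiv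
  let j : CohB1.ProjSpace 1 k ⟶ X := e.inv ≫ i
  haveI : IsClosedImmersion j := inferInstanceAs (IsClosedImmersion (e.inv ≫ i))
  have hker : j.ker = i.ker := Scheme.Hom.ker_comp_of_isIso e.inv i
  have hI : BlowUp.IsEffCartierIdeal i.ker := by
    haveI : IsIso i.toImage := inferInstance
    haveI : Nonempty ↥i.ker.subscheme := ⟨i.toImage (genericPoint C)⟩
    haveI : IsIntegral i.ker.subscheme := isIntegral_of_isOpenImmersion (inv i.toImage)
    refine SurfNumLib.isEffCartier_curve (k := k) (by exact_mod_cast hdim) hreg i.ker ?_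
    rw [Scheme.Hom.support_ker, i.isClosedEmbedding.isClosed_range.closure_eq,
      ← i.isEmbedding.toHomeomorph.isHomeomorph.topologicalKrullDim_eq, hC1]
  have hK := IntMultLib.isInvertible_idealMod _ hI
  obtain ⟨LE, hLE⟩ := VertIntLib.exists_inverse hK
  have hLEi : PicF.IsInvertible LE := VertIntLib.isInvertible_inverse hI hLE
  have hdeg := Groth.Agent.S13459.result k X hdim ⟨N, ι, inferInstance, hιk⟩ C i hC1 hCreg LE
    (ClSub.idealMod i.ker) hLEi hLE
  rw [hCC] at hdeg
  letI : C.Over (Spec (CommRingCat.of k)) := ⟨i ≫ (X ↘ Spec (CommRingCat.of k))⟩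
  have hdj : Curv2.deg k (CohB1.ProjSpace 1 k) ((Scheme.Modules.pullback j).obj LE) 1 = -(n : ℤ) := by
    refine Eq.trans ?_ hdeg.symm
    have hpb : ∀ {M : X.Modules}, PicF.IsInvertible M →
        Curv2.euler k (CohB1.ProjSpace 1 k) ((Scheme.Modules.pullback j).obj M) =
          Curv2.euler k C ((Scheme.Modules.pullback i).obj M) := fun {M} hM => by
      have hi := AmpleDevLib.isInvertible_pb e.inv (AmpleDevLib.isInvertible_pb i hM)
      haveI := (CurvLib.isCoh_of_isInvertible (AmpleDevLib.isInvertible_pb i hM)).1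
      rw [CurvLib.euler_congr (k := k) ((Scheme.Modules.pullbackComp e.inv i).app M).symm]
      exact BlowPtLib.euler_pb_iso (k := k) e.inv (by
        show e.inv ≫ i ≫ _ = CohB1.ProjSpace.toSpec 1 k
        rw [← he, Iso.inv_hom_id_assoc]) _
    have hO := hpb (CurvLib.isInvertible_structureModule (X := X))
    rw [CurvLib.euler_congr (k := k) (KFlatLib.pullUnitIso j), CurvLib.euler_congr (k := k) (KFlatLib.pullUnitIso i)] at hO
    rw [Curv2.deg, Curv2.deg, hpb hLEi, hO]
  have hjrange : Set.range j = Set.range i := by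
    show Set.range (i ∘ e.inv) = _
    exact Function.Surjective.range_comp e.inv.homeomorph.surjective _
  obtain ⟨H, hH, hHA⟩ := GlobalContrLib.exists_ample (R := k) (X := Over.mk (X ↘ Spec (CommRingCat.of k))) (by
    obtain ⟨θ, hθ⟩ := LichtLib.exists_iso_over N k
    exact ⟨N, ι ≫ θ.hom, inferInstance, by rw [Category.assoc, hθ]; exact hιk⟩)
  obtain ⟨Y, q, g, P, hP, hgq, hYi, hq, hg, hgs, hYp, hYn, hpre, hiso⟩ :=
    GlobalContrLib.Neg.exists_contraction (X ↘ Spec (CommRingCat.of k)) hreg hH hHA j (hker ▸ hI)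
      (LE := LE) (by rw [hker]; exact hLE) hn hdj
  haveI := hYi
  haveI := hq
  refine ⟨Y, q, g, P, hP, hgq, hYi, ?_, ?_, fun x => ?_, hiso⟩
  · obtain ⟨V, hV⟩ : ∃ V : Y.Opens, V = ⟨({P} : Set Y)ᶜ, hP.isOpen_compl⟩ := ⟨_, rfl⟩
    obtain ⟨x, hx⟩ : ∃ x : X, x ∉ Set.range i := by
      by_contra! hall
      have h1 := i.isEmbedding.toHomeomorph.isHomeomorph.topologicalKrullDim_eq
      rw [hC1, show Set.range i = Set.univ from Set.eq_univ_of_forall hall,
        (Homeomorph.Set.univ X).isHomeomorph.topologicalKrullDim_eq, hdim] at h1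
      exact absurd h1 (by decide)
    haveI : IsIso (g ∣_ V) := hV ▸ hiso
    have hxV : x ∈ g ⁻¹ᵁ V := by
      rw [hV]
      intro hxP
      exact hx (hjrange.le (hpre.le hxP))
    rw [← VarDimLib.dim_open_eq q V ⟨_, hxV⟩, ← (g ∣_ V).homeomorph.isHomeomorph.topologicalKrullDim_eq]
    exact (VarDimLib.dim_open_eq (X ↘ Spec (CommRingCat.of k)) (g ⁻¹ᵁ V) ⟨_, hxV⟩).trans hdim
  · obtain ⟨M, σ, hσ, hσq⟩ := hYp
    obtain ⟨θ, hθ⟩ := LichtLib.exists_iso_over M k
    haveI := hσ
    exact ⟨M, σ ≫ θ.inv, inferInstance, by rw [← hθ, Category.assoc, Iso.inv_hom_id_assoc]; exact hσq⟩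
  · exact ⟨fun h => hjrange.le (hpre.le h), fun h => hpre.ge (hjrange.ge h)⟩

end Groth.Agent.S14517
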