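import Groth.Statements.S14519
import Groth.Agent.FinPicLib.Topo
import Groth.Agent.PurBirLib.Apps
import Groth.Agent.NormalLib.Regular
import Groth.Agent.S1535
-- import your own Groth.Agent.* helpers here

set_option autoImplicit false
universe u
open CategoryTheory CategoryTheory.Limits AlgebraicGeometry
open Curves

namespace Groth.Agent.S14519

/-- Let k be an algebraically closed field and f : X → Y a birational morphism over k between smooth
curves (X, Y integral, separated, of finite type and smooth over k, of dimension one; f sends the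
generic point of X to that of Y and the induced map of function fields K(Y) → K(X) is bijective).
Then f is an open immersion. -/
theorem result (k : Type u) [Field k] [IsAlgClosed k]
    (X Y : Scheme.{u}) [X.Over (Spec (CommRingCat.of k))] [Y.Over (Spec (CommRingCat.of k))]
    [IsIntegral X] [IsSeparated (X ↘ (Spec (CommRingCat.of k)))] [LocallyOfFiniteType (X ↘ (Spec (CommRingCat.of k)))] [QuasiCompact (X ↘ (Spec (CommRingCat.of k)))] [Smooth (X ↘ (Spec (CommRingCat.of k)))] (hdimX : topologicalKrullDim X = 1)
    [IsIntegral Y] [IsSeparated (Y ↘ (Spec (CommRingCat.of k)))] [LocallyOfFiniteType (Y ↘ (Spec (CommRingCat.of k)))] [QuasiCompact (Y ↘ (Spec (CommRingCat.of k)))] [Smooth (Y ↘ (Spec (CommRingCat.of k)))] (hdimY : topologicalKrullDim Y = 1)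
    (f : X ⟶ Y) (hf : f ≫ (Y ↘ (Spec (CommRingCat.of k))) = (X ↘ (Spec (CommRingCat.of k))))
    (e : f (genericPoint X) = genericPoint Y)
    (hbir : Function.Bijective (Y.presheaf.stalkSpecializes (specializes_of_eq e) ≫ f.stalkMap (genericPoint X)).hom) :
    IsOpenImmersion f := by
  let S := Spec (CommRingCat.of k)
  let g := X ↘ S
  let h := Y ↘ S
  have hf' : f ≫ h = g := hf
  haveI : IsNoetherianRing (CommRingCat.of k) := inferInstanceAs (IsNoetherianRing k)
  haveI : IsLocallyNoetherian X := LocallyOfFiniteType.isLocallyNoetherian g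
  haveI : IsLocallyNoetherian Y := LocallyOfFiniteType.isLocallyNoetherian h
  haveI : CompactSpace X := QuasiCompact.compactSpace_of_compactSpace g
  haveI : CompactSpace Y := QuasiCompact.compactSpace_of_compactSpace h
  haveI : IsNoetherian X := {}
  haveI : LocallyOfFiniteType (f ≫ h) := hf'.symm ▸ ‹LocallyOfFiniteType g›
  haveI : LocallyOfFiniteType f := locallyOfFiniteType_of_comp f h
  haveI : IsSeparated (f ≫ h) := hf'.symm ▸ ‹IsSeparated g›
  haveI : IsSeparated f := IsSeparated.of_comp f h
  haveI : QuasiCompact (f ≫ h) := hf'.symm ▸ ‹QuasiCompact g›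
  haveI : QuasiCompact f := QuasiCompact.of_comp f h
  have hY : ∀ y : Y, IsIntegrallyClosed (Y.presheaf.stalk y) := fun y => by
    haveI := Groth.Agent.S1535.result k Y y
    exact NormalLib.isIntegrallyClosed_of_isRegularLocalRing _
  have hb : IsIso (f.stalkMap (genericPoint X)) := by
    haveI : IsIso (Y.presheaf.stalkSpecializes (specializes_of_eq e) ≫ f.stalkMap (genericPoint X)) :=
      (ConcreteCategory.isIso_iff_bijective _).mpr hbir
    haveI : IsIso (Y.presheaf.stalkSpecializes (specializes_of_eq e)) := by
      refine ⟨Y.presheaf.stalkSpecializes (specializes_of_eq e.symm), ?_, ?_⟩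
      · rw [TopCat.Presheaf.stalkSpecializes_comp]; exact TopCat.Presheaf.stalkSpecializes_refl ..
      · rw [TopCat.Presheaf.stalkSpecializes_comp]; exact TopCat.Presheaf.stalkSpecializes_refl ..
    exact IsIso.of_isIso_comp_left (Y.presheaf.stalkSpecializes (specializes_of_eq e)) _
  have hgen : ∀ x : X, FinPicLib.IsGen x → x = genericPoint X := fun x hx =>
    (hx _ ((genericPoint_spec X).specializes trivial)).symm
  have hcl : ∀ x : X, x ≠ genericPoint X → IsClosed ({x} : Set X) := fun x hx => by
    have : closure ({x} : Set X) = {x} := Set.Subset.antisymm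
      (fun w hw => (FinPicLib.eq_of_specializes_of_not_isGen hdimX.le (fun hg => hx (hgen x hg))
        (specializes_iff_mem_closure.mpr hw)).symm) subset_closure
    rw [← this]
    exact isClosed_closure
  have hYgen : ¬ IsClosed ({genericPoint Y} : Set Y) := by
    intro hc
    have htop : ∀ y : Y, y = genericPoint Y := fun y => by
      have := ((genericPoint_spec Y).specializes trivial : genericPoint Y ⤳ y).mem_closed hc (Set.mem_singleton _)
      exact this
    haveI : Subsingleton Y := ⟨fun a b => (htop a).trans (htop b).symm⟩
    haveI : Subsingleton (TopologicalSpace.IrreducibleCloseds Y) := ⟨fun a b => TopologicalSpace.IrreducibleCloseds.ext (by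
      obtain ⟨x, hx⟩ := a.isIrreducible.nonempty
      obtain ⟨z, hz⟩ := b.isIrreducible.nonempty
      ext w
      exact ⟨fun _ => (Subsingleton.elim w z) ▸ hz, fun _ => (Subsingleton.elim w x) ▸ hx⟩)⟩
    have : topologicalKrullDim Y ≤ 0 := Order.krullDim_nonpos_of_subsingleton
    rw [hdimY] at this
    exact absurd this (by norm_num)
  haveI : JacobsonSpace Y := LocallyOfFiniteType.jacobsonSpace h
  have hfin : ∀ y : Y, (f ⁻¹' {y}).Finite := by
    intro y
    by_cases hy : y = genericPoint Y
    · subst hy
      refine Set.Finite.subset (Set.finite_singleton (genericPoint X)) fun x hx => ?_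
      by_contra hne
      have h2 : f x ∈ closedPoints Y := f.closePoints_subset_preimage_closedPoints (hcl x hne)
      exact hYgen (by rw [← (hx : f x = genericPoint Y)]; exact h2)
    · refine Set.Finite.subset (FinPicLib.finite_of_closed hdimX.le (C := f ⁻¹' (closure {y}))
        (isClosed_closure.preimage f.continuous) fun x hx hg => ?_) (Set.preimage_mono subset_closure)
      refine hy ?_
      have h1 : f (genericPoint X) ∈ closure ({y} : Set Y) := hgen x hg ▸ hx
      rw [e] at h1
      exact ((specializes_iff_mem_closure.mpr h1).antisymm ((genericPoint_spec Y).specializes trivial)).eq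
  haveI : LocallyQuasiFinite f := (locallyQuasiFinite_iff_finite_preimage_singleton).2 hfin
  exact PurBirLib.isOpenImmersion_of_quasiFinite f ⟨e, hb⟩ hY fun x => f.quasiFiniteAt x

end Groth.Agent.S14519
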