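import Groth.Statements.S14520
import Groth.Agent.StrictCurveLib.Genus
-- import your own Groth.Agent.* helpers here

set_option autoImplicit false
universe u
open CategoryTheory CategoryTheory.Limits AlgebraicGeometry
open Surf

namespace Groth.Agent.S14520

/-- Let k be an algebraically closed field, X a smooth projective surface over k (integral, smooth over
k, of dimension two, with a closed immersion over k into some projective space), P a closed point of
X with ideal m_P, f : X' → X the blow-up of X at P (universal property), and C ⊆ X a curve (an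
integral closed subscheme of dimension one, closed immersion j) of multiplicity m = ord_P(C) at P:
the ideal of C is contained in m_P^m and not in m_P^{m+1}. Let C' ⊆ X' be the strict transform of C:
an integral closed subscheme of dimension one (closed immersion j') whose generic point is mapped by
f to the generic point of C. Then p_a(C') = p_a(C) − m(m−1)/2, written 2 p_a(C') + m(m−1) = 2 p_a(C)
with p_a = dim_k H^1(O). -/
theorem result (k : Type u) [Field k] [IsAlgClosed k]
    (X : Scheme.{u}) [X.Over (Spec (CommRingCat.of k))] [IsIntegral X] [Smooth (X ↘ (Spec (CommRingCat.of k)))] (hdim : topologicalKrullDim X = 2)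
    (hprojX : ∃ (N : ℕ) (ι : X ⟶ CohB1.ProjSpace N k), IsClosedImmersion ι ∧ ι ≫ CohB1.ProjSpace.toSpec N k = (X ↘ (Spec (CommRingCat.of k))))
    (P : X) (hP : IsClosed ({P} : Set X))
    (X' : Scheme.{u}) (f : X' ⟶ X) (hf : BlowUp.IsBlowUp f (Scheme.IdealSheafData.vanishingIdeal ⟨{P}, hP⟩))
    (C : Scheme.{u}) [C.Over (Spec (CommRingCat.of k))] [IsIntegral C] (hdimC : topologicalKrullDim C = 1)
    (j : C ⟶ X) [IsClosedImmersion j] (hj : j ≫ (X ↘ (Spec (CommRingCat.of k))) = (C ↘ (Spec (CommRingCat.of k))))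
    (m : ℕ) (hm : j.ker ≤ Scheme.IdealSheafData.vanishingIdeal ⟨{P}, hP⟩ ^ m)
    (hm' : ¬ j.ker ≤ Scheme.IdealSheafData.vanishingIdeal ⟨{P}, hP⟩ ^ (m + 1))
    (C' : Scheme.{u}) [C'.Over (Spec (CommRingCat.of k))] [IsIntegral C'] (hdimC' : topologicalKrullDim C' = 1)
    (j' : C' ⟶ X') [IsClosedImmersion j'] (hj' : j' ≫ f ≫ (X ↘ (Spec (CommRingCat.of k))) = (C' ↘ (Spec (CommRingCat.of k))))
    (hgen : f (j' (genericPoint C')) = j (genericPoint C)) :
    2 * Curv2.genus k C' + m * (m - 1) = 2 * Curv2.genus k C := by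
  obtain ⟨N, ι, hι, hιc⟩ := hprojX
  haveI := hι
  haveI : IsProper (X ↘ Spec (CommRingCat.of k)) := SurfNumLib.isProper_of_embedding ι hιc
  haveI := CurvLib.isNoetherian k (X := X)
  have hreg := fun y : X => WeilExtLib.isRegular_stalk_smooth (X ↘ Spec (CommRingCat.of k)) y
  haveI := hreg P
  have hd2 : ringKrullDim (X.presheaf.stalk P) = ((2 : ℕ) : WithBot ℕ∞) :=
    PnDualLib.dim_stalk_closed (k := k) hreg (d := 2) hdim P hP
  obtain ⟨hint, hdim', hprop', hsm'⟩ := StrictCurveLib.blowUp_facts (k := k) hdim P hP f hf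
  haveI := hint
  letI : X'.Over (Spec (CommRingCat.of k)) := ⟨f ≫ (X ↘ (Spec (CommRingCat.of k)))⟩
  haveI : IsProper (X' ↘ Spec (CommRingCat.of k)) := hprop'
  haveI : Smooth (X' ↘ Spec (CommRingCat.of k)) := hsm'
  obtain ⟨W, hW⟩ := StrictCurveLib.exists_canonical (k := k) (X := X)
  obtain ⟨W', hW'⟩ := StrictCurveLib.exists_canonical (k := k) (X := X')
  obtain ⟨hCi, hCd, hCg⟩ := StrictCurveLib.image_facts j hdimC
  obtain ⟨hC'i, hC'd, hC'g⟩ := StrictCurveLib.image_facts j' hdimC'
  haveI := hCi
  haveI := hC'i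
  have hcom := StrictCurveLib.comap_eq (k := k) hdim hdim' f rfl P hP hd2 hf j.ker hCd m hm hm' j'.ker hC'd
    (by rw [hC'g, hCg]; exact hgen)
  have h1 := StrictCurveLib.genus_adjunction (k := k) hdim hW hdimC j _ hj
  have h2 := StrictCurveLib.genus_adjunction (k := k) hdim' hW' hdimC' j' _ hj'
  have h3 := StrictCurveLib.pr_strict (k := k) hdim hdim' f rfl P hP hd2 hf hW hW' j.ker hCd j'.ker hC'd m hcom
  have key : 2 * (Curv2.genus k C' : ℤ) + (m : ℤ) * ((m : ℤ) - 1) = 2 * Curv2.genus k C := by linear_combination h2 - h1 + h3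
  cases m with
  | zero => simp only [Nat.cast_zero, zero_mul, add_zero] at key; simp only [zero_mul, add_zero]; omega
  | succ n =>
    rw [Nat.add_sub_cancel]
    push_cast at key
    zify
    linear_combination key

end Groth.Agent.S14520
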