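import Groth.Statements.S14521
import Groth.Agent.IntMultLib.Components

set_option autoImplicit false
universe u
open CategoryTheory CategoryTheory.Limits AlgebraicGeometry
open Variety

namespace Groth.Agent.S14521

/-- Let k be an algebraically closed field, X a complete variety over k (reduced and proper over k) of
dimension at most d, L_1, …, L_r line bundles with tensor inverses M_1, …, M_r, and F a coherent
O_X-module whose support has dimension at most r. Let Y_1, …, Y_s be the r-dimensional irreducible
components of Supp F, with generic points ξ_1, …, ξ_s (given as a finite set s of points: ξ ∈ s iff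
ξ ∈ Supp F and the closure of ξ has dimension r), each Y_i with its reduced structure. Then
(L_1⋯L_r; F) = Σ_i length_{O_{X,ξ_i}}(F_{ξ_i}) · (L_1⋯L_r · Y_i), where all intersection numbers are
the alternating Euler-characteristic sums in the M_i (the prelude's FGA.intNum). -/
theorem result (k : Type u) [Field k] [IsAlgClosed k]
    (X : Scheme.{u}) [X.Over (Spec (CommRingCat.of k))] [IsReduced X] [IsProper (X ↘ (Spec (CommRingCat.of k)))] (d : ℕ) (hd : topologicalKrullDim X ≤ d)
    {r : ℕ} (M : Fin r → X.Modules) (hM : ∀ i, PicF.IsInvertible (M i))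
    (F : X.Modules) (hF : Coh.IsCoh F) (hsupp : topologicalKrullDim ↥(CohB1.support F) ≤ r)
    (s : Finset X) (hs : ∀ ξ : X, ξ ∈ s ↔ ξ ∈ CohB1.support F ∧ topologicalKrullDim ↥(closure ({ξ} : Set X)) = r) :
    FGA.intNum k X d M F =
      ∑ ξ ∈ s, ((Module.length (X.presheaf.stalk ξ) (F.presheaf.stalk ξ)).toNat : ℤ) *
        FGA.intNum k X d M (ClSub.quotMod (Scheme.IdealSheafData.vanishingIdeal ⟨closure ({ξ} : Set X), isClosed_closure⟩)) := by
  rcases (CohB1.support F).eq_empty_or_nonempty with hemp | hne
  · have hs0 : s = ∅ := Finset.eq_empty_of_forall_notMem fun ξ hξ =>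
      absurd ((hs ξ).mp hξ).1 (hemp ▸ Set.notMem_empty ξ)
    have hz := HilbPolyLib.intNum_eq_zero (k := k) hd M hM F hF (by
      rw [hemp]
      haveI : IsEmpty (TopologicalSpace.IrreducibleCloseds (∅ : Set X)) := ⟨fun Z => Z.isIrreducible.1.some.2⟩
      simp [topologicalKrullDim, Order.krullDim_eq_bot])
    rw [hz, hs0, Finset.sum_empty]
  obtain ⟨T, hT, hsum⟩ := IntMultLib.additive_eq_sum (k := k) (fun N => FGA.intNum k X d M N)
    (fun A B e => HilbPolyLib.intNum_congr hd M e)
    (fun S hS h₁ h₂ h₃ => by
      have := HilbPolyLib.hilbFun_add (k := k) (HilbPolyLib.isInvertible_multiTwist M hM) hS h₁ h₂ h₃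
      have h : (FGA.intNum k X d M S.X₂ : ℚ) = FGA.intNum k X d M S.X₁ + FGA.intNum k X d M S.X₃ := by
        rw [HilbPolyLib.intNum_eq_cubeSum hd, HilbPolyLib.intNum_eq_cubeSum hd,
          HilbPolyLib.intNum_eq_cubeSum hd, this, map_add]
      exact_mod_cast h)
    (fun N hN h => HilbPolyLib.intNum_eq_zero hd M hM N hN h)
    (QCohLib.isClosed_support F hF.2) hne hsupp F hF le_rfl
  obtain rfl : s = T := Finset.ext fun ξ => (hs ξ).trans (hT ξ).symm
  rw [hsum]
  exact Finset.sum_congr rfl fun ξ _ => by rw [nsmul_eq_mul]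

end Groth.Agent.S14521
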