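import Groth.Statements.S14522
import Groth.Agent.IntMultLib.Cartier
import Groth.Agent.HilbPolyLib.IntNum
import Groth.Agent.SerreVanLib.TwTensor
import Mathlib.Logic.Equiv.Fin.Rotate

set_option autoImplicit false
set_option linter.style.haveILetI false
universe u
open CategoryTheory CategoryTheory.Limits AlgebraicGeometry
open Variety

namespace Groth.Agent.S14522
open DevissLib in
theorem intNum_perm {k : Type u} [Field k] {X : Scheme.{u}} [X.Over (Spec (CommRingCat.of k))]
    [IsProper (X ↘ Spec (CommRingCat.of k))] (d : ℕ) {r : ℕ} (σ : Fin r ≃ Fin r) (M : Fin r → X.Modules)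
    (F : X.Modules) : FGA.intNum k X d (fun i => M (σ i)) F = FGA.intNum k X d M F := by
  unfold FGA.intNum
  refine Fintype.sum_equiv (Equiv.finsetCongr σ) _ _ fun I => ?_
  have hcard : (Equiv.finsetCongr σ I).card = I.card := by simp
  rw [hcard]
  congr 1
  have hp : ((I.sort (· ≤ ·)).map fun i => M (σ i)).Perm (((Equiv.finsetCongr σ I).sort (· ≤ ·)).map M) := by
    rw [show (fun i => M (σ i)) = M ∘ σ from rfl, ← List.map_map]
    refine List.Perm.map M ((List.perm_ext_iff_of_nodup ((Finset.sort_nodup _ _).map σ.injective)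
      (Finset.sort_nodup _ _)).mpr fun a => ?_)
    simp only [List.mem_map, Finset.mem_sort, Equiv.finsetCongr_apply, Finset.mem_map_equiv]
    exact ⟨fun ⟨b, hb, hba⟩ => by rw [← hba, Equiv.symm_apply_apply]; exact hb, fun h => ⟨_, h, σ.apply_symm_apply a⟩⟩
  obtain ⟨e⟩ := HilbPolyLib.nonempty_tensorList_perm hp
  unfold FGA.eulerCharLE
  refine Finset.sum_congr rfl fun i _ => ?_
  rw [(CurvLib.hIso (k := k) (HilbPolyLib.congrLeft e F) i).finrank_eq]

open DevissLib MonoidalCategory in
theorem shortExact_tensor_ideal {X : Scheme.{u}} [IsLocallyNoetherian X] (F : X.Modules) (hF : Coh.IsCoh F)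
    (D : X.IdealSheafData) (hD : BlowUp.IsEffCartierIdeal D) (hass : ∀ x ∈ D.support, ¬ Curv2.IsAssPoint F x) :
    ((CurvLib.idealSeq D).map (CurvLib.tensorLeft' F)).ShortExact := by
  have hinv := IntMultLib.isInvertible_idealMod D hD
  let S := CurvLib.idealSeq D
  let φ := (S.map (CurvLib.tensorLeft' F)).f
  have hT : Coh.IsCoh (S.map (CurvLib.tensorLeft' F)).X₁ := SerreVanLib.isCoh_tensor hF hinv
  have hT2 : Coh.IsCoh (S.map (CurvLib.tensorLeft' F)).X₂ :=
    QCohLib.isCoh_of_iso ((KFlatLib.tensUnitIso F).symm ≪≫ HilbPolyLib.swapIso (Coh.structureModule X) F) hF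
  haveI : Coh.IsQCoh (kernel φ) := (QCohLib.isCoh_kernel φ hT hT2.1).1
  have hmono : Mono φ := by
    refine Preadditive.mono_of_kernel_zero ((AssPointLib.isZero_iff_no_weak.mpr fun y hy => ?_).eq_of_src _ _)
    have hsupp := AssPointLib.weak_iff_mem_support hy
    by_cases hyD : y ∈ D.support
    · refine hass y hyD ((AssPointLib.assPoint_iff_weak F y).mpr ?_)
      obtain ⟨a, ha⟩ := (AssPointLib.weak_def _ y).mp hy
      obtain ⟨e⟩ := CurvLib.nonempty_stalk_tensor_locFree (CurvLib.locFree_of_isInvertible hinv) F y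
      let j : (St y).obj (kernel φ) →ₗ[X.presheaf.stalk y] (St y).obj F :=
        (e.trans (LinearEquiv.funUnique (Fin 1) _ _)).toLinearMap.comp ((St y).map (kernel.ι φ)).hom
      have hj : Function.Injective j := (e.trans (LinearEquiv.funUnique (Fin 1) _ _)).injective.comp
        ((ModuleCat.mono_iff_injective _).mp inferInstance)
      refine (AssPointLib.weak_def F y).mpr ⟨j a, ?_⟩
      rw [← ha]
      congr 1
      ext c
      simp only [LinearMap.mem_ker, LinearMap.toSpanSingleton_apply]
      rw [← map_smul]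
      exact map_eq_zero_iff j hj
    · refine notMem_support_kernel φ y ?_ hsupp
      have hSx := (CurvLib.idealSeq_shortExact D).map_of_exact (St y)
      haveI : Mono ((St y).map S.f) := hSx.mono_f
      haveI : Subsingleton (S.map (St y)).X₃ :=
        not_not.mp fun h => hyD (CurvLib.support_quotMod_subset D h)
      haveI : Epi ((St y).map S.f) := hSx.exact.epi_f ((ModuleCat.isZero_of_subsingleton _).eq_of_tgt _ _)
      haveI : IsIso ((St y).map S.f) := isIso_of_mono_of_epi _
      have hn := KFlatLib.stalkTensorIso_natural_right (M := F) y S.f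
      have hiso : IsIso ((St y).map φ) := by
        change IsIso ((DerSch.stalkFunctor X y).map (((DCoh.tensorBi (X := X)).obj F).map S.f))
        have h2 : (DerSch.stalkFunctor X y).map (((DCoh.tensorBi (X := X)).obj F).map S.f) =
            (KFlatLib.stalkTensorIso F S.X₁ y).inv ≫
              ((DerSch.stalkFunctor X y).obj F ◁ (DerSch.stalkFunctor X y).map S.f) ≫
              (KFlatLib.stalkTensorIso F S.X₂ y).hom :=
          ((Iso.inv_comp_eq _).mpr hn).symm
        rw [h2]
        infer_instance
      exact (ConcreteCategory.bijective_of_isIso ((St y).map φ)).1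
  refine CurvLib.shortExact_of_stalks _ fun x => ?_
  have hx := (CurvLib.idealSeq_shortExact D).map_of_exact (St x)
  let T := (S.map (St x)).map (MonoidalCategory.tensorLeft ((St x).obj F))
  have e : T ≅ (S.map (CurvLib.tensorLeft' F)).map (St x) :=
    ShortComplex.isoMk (KFlatLib.stalkTensorIso F S.X₁ x) (KFlatLib.stalkTensorIso F S.X₂ x)
      (KFlatLib.stalkTensorIso F S.X₃ x)
      (KFlatLib.stalkTensorIso_natural_right (M := F) x S.f).symm
      (KFlatLib.stalkTensorIso_natural_right (M := F) x S.g).symm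
  refine { exact := ShortComplex.exact_of_iso e ?_, mono_f := inferInstanceAs (Mono ((St x).map φ)), epi_g := ?_ }
  · rw [ShortComplex.ShortExact.moduleCat_exact_iff_function_exact]
    exact lTensor_exact _ ((ShortComplex.ShortExact.moduleCat_exact_iff_function_exact _).mp hx.exact)
      ((ModuleCat.epi_iff_surjective _).mp hx.epi_g)
  · have hTg : Epi T.g := (ModuleCat.epi_iff_surjective _).mpr
      (LinearMap.lTensor_surjective _ ((ModuleCat.epi_iff_surjective _).mp hx.epi_g))
    have hc : ((S.map (CurvLib.tensorLeft' F)).map (St x)).g = e.inv.τ₂ ≫ T.g ≫ e.hom.τ₃ := by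
      rw [← e.hom.comm₂₃, ← Category.assoc, ← ShortComplex.comp_τ₂, e.inv_hom_id, ShortComplex.id_τ₂, Category.id_comp]
    rw [hc]
    infer_instance


/-- Let k be an algebraically closed field, X an irreducible complete variety over k (integral and
proper over k) of dimension at most d, L_1, …, L_r line bundles with tensor inverses M_1, …, M_r, F
a coherent O_X-module with dim Supp F ≤ r + 1, and D an effective Cartier divisor on X (a
quasi-coherent ideal I_D locally generated by one nonzerodivisor) whose support contains no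
associated point of F. Then (L_1⋯L_r·O_X(D); F) = (L_1⋯L_r; F ⊗ O_D): with intersection numbers
written as the alternating Euler-characteristic sums in the inverses (the prelude's FGA.intNum), the
(r+1)-fold number of F in M_1, …, M_r, I_D equals the r-fold number of F ⊗ O_D in M_1, …, M_r (for r
= 0 the right side is χ(F ⊗ O_D) = h^0(F ⊗ O_D)). -/
theorem result (k : Type u) [Field k] [IsAlgClosed k]
    (X : Scheme.{u}) [X.Over (Spec (CommRingCat.of k))] [IsIntegral X] [IsProper (X ↘ (Spec (CommRingCat.of k)))] (d : ℕ) (hd : topologicalKrullDim X ≤ d)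
    {r : ℕ} (M : Fin r → X.Modules) (hM : ∀ i, PicF.IsInvertible (M i))
    (F : X.Modules) (hF : Coh.IsCoh F) (hsupp : topologicalKrullDim ↥(CohB1.support F) ≤ r + 1)
    (D : X.IdealSheafData) (hD : BlowUp.IsEffCartierIdeal D) (hass : ∀ x ∈ D.support, ¬ Curv2.IsAssPoint F x) :
    FGA.intNum k X d (Fin.snoc M (ClSub.idealMod D)) F = FGA.intNum k X d M (CohB1.tensorMod F (ClSub.quotMod D)) := by
  haveI := CurvLib.isNoetherian k (X := X)
  have hS := shortExact_tensor_ideal F hF D hD hass
  let I := ClSub.idealMod D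
  have hI := IntMultLib.isInvertible_idealMod D hD
  have h1 : Coh.IsCoh ((CurvLib.idealSeq D).map (CurvLib.tensorLeft' F)).X₁ := SerreVanLib.isCoh_tensor hF hI
  let e2 : ((CurvLib.idealSeq D).map (CurvLib.tensorLeft' F)).X₂ ≅ F :=
    HilbPolyLib.swapIso F (Coh.structureModule X) ≪≫ HilbPolyLib.unitLeft F
  have h2 : Coh.IsCoh ((CurvLib.idealSeq D).map (CurvLib.tensorLeft' F)).X₂ := QCohLib.isCoh_of_iso e2.symm hF
  have h3 : Coh.IsCoh ((CurvLib.idealSeq D).map (CurvLib.tensorLeft' F)).X₃ := by
    haveI := hS.epi_g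
    exact QCohLib.isCoh_of_iso (IsColimit.coconePointUniqueUpToIso
      (cokernelIsCokernel ((CurvLib.idealSeq D).map (CurvLib.tensorLeft' F)).f) hS.gIsCokernel)
      (QCohLib.isCoh_cokernel _ h1.1 h2)
  have hadd := HilbPolyLib.hilbFun_add (k := k) (HilbPolyLib.isInvertible_multiTwist M hM) hS h1 h2 h3
  have hN : FGA.intNum k X d M F = FGA.intNum k X d M (CohB1.tensorMod I F) +
      FGA.intNum k X d M (CohB1.tensorMod F (ClSub.quotMod D)) := by
    rw [← HilbPolyLib.intNum_congr hd M e2, ← HilbPolyLib.intNum_congr hd M (HilbPolyLib.swapIso F I)]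
    have h : (FGA.intNum k X d M ((CurvLib.idealSeq D).map (CurvLib.tensorLeft' F)).X₂ : ℚ) =
        FGA.intNum k X d M ((CurvLib.idealSeq D).map (CurvLib.tensorLeft' F)).X₁ +
        FGA.intNum k X d M ((CurvLib.idealSeq D).map (CurvLib.tensorLeft' F)).X₃ := by
      rw [HilbPolyLib.intNum_eq_cubeSum hd, HilbPolyLib.intNum_eq_cubeSum hd,
        HilbPolyLib.intNum_eq_cubeSum hd, hadd, map_add]
    exact_mod_cast h
  rw [Fin.snoc_eq_cons_rotate]
  rw [intNum_perm d (finRotate (r + 1)) (Fin.cons I M : Fin (r + 1) → X.Modules), HilbPolyLib.intNum_cons hd, hN]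
  abel

end Groth.Agent.S14522
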