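import Groth.Statements.S14535
import Groth.Agent.AffTorsPtLib.Alg
import Groth.Agent.NoriFGSLib.Push
import Groth.Agent.DiagRepLib.Scheme
import Groth.Agent.DeligneKillLib.Affine
import Groth.Agent.AlgSpLib.AffineFpqc
-- import your own Groth.Agent.* helpers here

set_option autoImplicit false
universe u
open CategoryTheory MonoidalCategory CartesianMonoidalCategory MonObj GrpObj AlgebraicGeometry
open PrincBund

set_option backward.isDefEq.respectTransparency false
set_option backward.isDefEq.respectTransparency.types false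
set_option maxSynthPendingDepth 4
set_option maxHeartbeats 1000000
set_option linter.style.haveILetI false
open CategoryTheory.Limits CoactBr
open Groth.Agent
open scoped TensorProduct

attribute [-instance] CategoryTheory.Hom.commGroup

namespace Groth.Agent.S14535

/-- Let k be an algebraically closed field and G an affine group scheme over k, not necessarily of
finite type. Then every principal G-bundle over Spec k, that is every k-scheme with a G-action which
is a pseudo-torsor and acquires sections on the members of some fpqc covering family of Spec k, is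
trivial: it has a k-point. -/
theorem result (k : Type u) [Field k] [IsAlgClosed k]
    (G : Over (Spec (CommRingCat.of k))) [GrpObj G] [IsAffine G.left]
    (P : Over (Spec (CommRingCat.of k))) (a : AlgGrp.Action G P)
    (hP : NonAbH1.IsTorsorFor Scheme.fpqcPrecoverage a) :
    Nonempty (𝟙_ (Over (Spec (CommRingCat.of k))) ⟶ P) := by
  haveI : IsAffineHom G.hom := inferInstance
  haveI : IsAffineHom P.hom := TorsFpqc.property_of_torsor @IsAffineHom a hP ‹IsAffineHom G.hom›
  haveI : IsAffine P.left := isAffine_of_isAffineHom P.hom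
  obtain ⟨H, _, _, v, hv, -⟩ := DeligneKillLib.exists_sp G
  haveI := hv
  obtain ⟨φ, hφ⟩ := Spec.map_surjective (P.left.isoSpec.inv ≫ P.hom)
  let A : Type u := Γ(P.left, ⊤)
  letI : Algebra k A := φ.hom.toAlgebra
  let w : sp k A ≅ P := Over.isoMk P.left.isoSpec.symm hφ.symm
  haveI : Nontrivial A := by
    obtain ⟨Z, π, hπ, ⟨q⟩⟩ := Nori.exists_fpqc_point hP.2
    obtain ⟨z, -⟩ := (DescLib.Fpqc.surjective π).surj (IsLocalRing.closedPoint k)
    exact (PrimeSpectrum.nonempty_iff_nontrivial (R := A)).1 ⟨P.left.isoSpec.hom (q.left z)⟩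
  let iL : H →ₐ[k] H ⊗[k] A := Algebra.TensorProduct.includeLeft
  let iR : A →ₐ[k] H ⊗[k] A := Algebra.TensorProduct.includeRight
  obtain ⟨ρ, hρ⟩ := DiagRep.exists_pt (R := k) (Nori.act a (pt iL ≫ v.hom) (pt iR ≫ w.hom) ≫ w.inv)
  -- the action on points
  have key : ∀ {K : Type u} [CommRing K] [Algebra k K] (g : H →ₐ[k] K) (x : A →ₐ[k] K),
      Nori.act a (pt g ≫ v.hom) (pt x ≫ w.hom) =
        pt ((Algebra.TensorProduct.lift g x fun _ _ => .all _ _).comp ρ) ≫ w.hom := by
    intro K _ _ g x
    rw [pt_comp, ← hρ, Category.assoc, Category.assoc, Iso.inv_hom_id, Category.comp_id, Nori.comp_act,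
      ← Category.assoc, ← pt_comp, ← Category.assoc, ← pt_comp,
      show (Algebra.TensorProduct.lift g x fun _ _ => .all _ _).comp iL = g from AlgHom.ext fun c => by simp [iL],
      show (Algebra.TensorProduct.lift g x fun _ _ => .all _ _).comp iR = x from AlgHom.ext fun c => by simp [iR]]
  have cw : ∀ {K : Type u} [CommRing K] [Algebra k K] {x y : A →ₐ[k] K}, pt x ≫ w.hom = pt y ≫ w.hom → x = y :=
    fun h => pt_injective ((cancel_mono w.hom).1 h)
  have cv : ∀ {K : Type u} [CommRing K] [Algebra k K] {x y : H →ₐ[k] K}, pt x ≫ v.hom = pt y ≫ v.hom → x = y :=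
    fun h => pt_injective ((cancel_mono v.hom).1 h)
  have hcoassoc : (AffTorsPt.dbl (k := k)).comp ρ = AffTorsPt.coassocR ρ := by
    let g₁ : H →ₐ[k] H ⊗[k] (H ⊗[k] A) := Algebra.TensorProduct.includeLeft
    let g₂ : H →ₐ[k] H ⊗[k] (H ⊗[k] A) := Algebra.TensorProduct.includeRight.comp iL
    let x : A →ₐ[k] H ⊗[k] (H ⊗[k] A) := Algebra.TensorProduct.includeRight.comp iR
    have e := Nori.act_mul a (pt g₁ ≫ v.hom) (pt g₂ ≫ v.hom) (pt x ≫ w.hom)
    rw [← MonObj.mul_comp, pt_mul_pt, key, key, key] at e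
    have e' := cw e
    refine Eq.trans ?_ (e'.trans ?_)
    · congr 1
      refine Algebra.TensorProduct.ext ?_ ?_
      · refine AlgHom.ext fun h => ?_
        simp only [AffTorsPt.dbl, AlgHom.comp_apply, Algebra.TensorProduct.includeLeft_apply,
          Algebra.TensorProduct.lift_tmul, map_one, _root_.mul_one]
        generalize Bialgebra.comulAlgHom k H h = z
        induction z using TensorProduct.induction_on with
        | zero => simp
        | add z z' hz hz' => simp only [map_add, hz, hz']
        | tmul s s' => simp [g₁, g₂, iL]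
      · refine AlgHom.ext fun b => ?_
        simp [AffTorsPt.dbl, x, iR]
    · have : (Algebra.TensorProduct.lift g₂ x fun _ _ => .all _ _) = Algebra.TensorProduct.includeRight := by
        refine Algebra.TensorProduct.ext ?_ ?_ <;> ext <;> simp [g₂, x, iL, iR, Algebra.TensorProduct.one_def]
      rw [this]
      unfold AffTorsPt.coassocR
      congr 1
      refine Algebra.TensorProduct.ext ?_ ?_ <;> ext <;> simp [g₁, Algebra.TensorProduct.one_def]
  have hbij : Function.Bijective (AffTorsPt.shear ρ) := by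
    let iL' : A →ₐ[k] A ⊗[k] A := Algebra.TensorProduct.includeLeft
    let iR' : A →ₐ[k] A ⊗[k] A := Algebra.TensorProduct.includeRight
    obtain ⟨g, hg, -⟩ := Nori.existsUnique_act hP.1 (pt iR' ≫ w.hom) (pt iL' ≫ w.hom)
    obtain ⟨g₀, hg₀⟩ := DiagRep.exists_pt (R := k) (g ≫ v.inv)
    obtain rfl : g = pt g₀ ≫ v.hom := by rw [← hg₀, Category.assoc, Iso.inv_hom_id, Category.comp_id]
    rw [key] at hg
    have hg' := cw hg
    let Φ := AffTorsPt.shear ρ
    let Ψ : H ⊗[k] A →ₐ[k] A ⊗[k] A := Algebra.TensorProduct.lift g₀ iR' fun _ _ => .all _ _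
    have h1 : Ψ.comp Φ = AlgHom.id k _ := by
      refine Algebra.TensorProduct.ext ?_ ?_
      · refine AlgHom.ext fun c => ?_
        show Ψ (Φ (c ⊗ₜ[k] (1 : A))) = c ⊗ₜ[k] (1 : A)
        simp only [Φ, AffTorsPt.shear_tmul, ← Algebra.TensorProduct.one_def, _root_.mul_one]
        exact AlgHom.congr_fun hg' c
      · refine AlgHom.ext fun c => ?_
        simp [Φ, Ψ, AffTorsPt.shear, iR']
    have hΦL : Φ.comp iL' = ρ := AlgHom.ext fun c => by
      show Φ (c ⊗ₜ[k] (1 : A)) = ρ c
      simp only [Φ, AffTorsPt.shear_tmul, ← Algebra.TensorProduct.one_def, _root_.mul_one]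
    have hΦR : Φ.comp iR' = iR := AlgHom.ext fun c => by simp [Φ, iR', iR, AffTorsPt.shear]
    have hgL : Φ.comp g₀ = iL := by
      refine cv (Nori.act_left_cancel hP.1 (x := pt iR ≫ w.hom) ?_)
      rw [key, key]
      congr 2
      have e1 : (Algebra.TensorProduct.lift (Φ.comp g₀) iR fun _ _ => .all _ _) = Φ.comp Ψ := by
        refine Algebra.TensorProduct.ext' fun h b => ?_
        show _ = Φ (Ψ (h ⊗ₜ[k] b))
        simp only [Ψ, Algebra.TensorProduct.lift_tmul, map_mul, AlgHom.comp_apply]
        rw [← AlgHom.congr_fun hΦR b]; rfl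
      have e2 : (Algebra.TensorProduct.lift iL iR fun _ _ => .all _ _) = AlgHom.id k _ := by
        refine Algebra.TensorProduct.ext ?_ ?_ <;> ext <;> simp [iL, iR]
      rw [e1, e2, AlgHom.id_comp, AlgHom.comp_assoc]
      exact (congrArg Φ.comp hg').trans hΦL
    have h2 : Φ.comp Ψ = AlgHom.id k _ := by
      refine Algebra.TensorProduct.ext' fun h b => ?_
      show Φ (Ψ (h ⊗ₜ[k] b)) = h ⊗ₜ[k] b
      simp only [Ψ, Algebra.TensorProduct.lift_tmul, map_mul]
      rw [← AlgHom.comp_apply Φ g₀, ← AlgHom.comp_apply Φ iR', hgL, hΦR]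
      simp [iL, iR]
    exact (AlgEquiv.ofAlgHom Φ Ψ h2 h1).bijective
  obtain ⟨χ⟩ := AffTorsPt.exists_point hcoassoc hbij
  exact ⟨Over.homMk (pt χ ≫ w.hom).left (by
    refine (Over.w (pt χ ≫ w.hom)).trans ?_
    show Spec.map (CommRingCat.ofHom (algebraMap k k)) = 𝟙 _
    rw [Algebra.algebraMap_self, CommRingCat.ofHom_id, Spec.map_id])⟩

end Groth.Agent.S14535
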