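import Mathlib
import Groth.Statements.S14537
import Groth.Agent.HopfPointsLib.Scheme

-- import your own Groth.Agent.* helpers here

set_option autoImplicit false
universe u
open CategoryTheory MonoidalCategory CartesianMonoidalCategory MonObj GrpObj AlgebraicGeometry
open PrincBund

namespace Groth.Agent.S14537

/-- Let k be an algebraically closed field and G an affine group scheme over k, not necessarily of
finite type. Then the set of k-rational points of G is dense in the underlying space of G. -/
theorem result (k : Type u) [Field k] [IsAlgClosed k]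
    (G : Over (Spec (CommRingCat.of k))) [GrpObj G] [IsAffine G.left] :
    Dense {x : ↥G.left | ∃ g : 𝟙_ (Over (Spec (CommRingCat.of k))) ⟶ G, g.left.base (IsLocalRing.closedPoint k) = x} := by
  obtain ⟨A, _, _, v, hv, hv'⟩ := DeligneKillLib.exists_sp G
  haveI : IsIso v.hom.left := (Over.forget _).map_isIso v.hom
  let S : Set (PrimeSpectrum A) := {p | ∃ g : A →ₐ[k] k, p = PrimeSpectrum.comap g.toRingHom ⊥}
  have hS : Dense S := by
    rw [PrimeSpectrum.isTopologicalBasis_basic_opens.dense_iff]
    rintro _ ⟨a, rfl⟩ ⟨p, hp⟩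
    have ha : ¬IsNilpotent a := fun h => hp (nilradical_le_prime p.asIdeal h)
    obtain ⟨g, hg⟩ := Groth.Agent.HopfPoints.exists_point_ne_zero (k := k) a ha
    refine ⟨PrimeSpectrum.comap g.toRingHom ⊥, ?_, g, rfl⟩
    show g.toRingHom a ∉ (⊥ : PrimeSpectrum k).asIdeal
    exact fun h => hg (by simpa using h)
  have hsurj : Function.Surjective (v.hom.left.base : PrimeSpectrum A → G.left) :=
    Scheme.Hom.homeomorph v.hom.left |>.surjective
  refine (hsurj.denseRange.dense_image v.hom.left.continuous hS).mono ?_
  rintro _ ⟨_, ⟨g, rfl⟩, rfl⟩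
  obtain ⟨t⟩ := Groth.Agent.HopfPoints.exists_unit_hom (k := k)
  refine ⟨t ≫ CoactBr.pt g ≫ v.hom, ?_⟩
  show v.hom.left.base ((CoactBr.pt g).left.base (t.left.base _)) = _
  congr 1
  show PrimeSpectrum.comap g.toRingHom (t.left.base _) = _
  congr 1
  exact @Subsingleton.elim (PrimeSpectrum k) inferInstance _ _

end Groth.Agent.S14537
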