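import Groth.Statements.S14538
import Groth.Agent.CommutatorLib.DenseFG
import Groth.Agent.BorelLib.Bridge
import Groth.Agent.BorelLib.Borel

set_option autoImplicit false
set_option backward.isDefEq.respectTransparency false
set_option backward.isDefEq.respectTransparency.types false
set_option maxHeartbeats 1000000
set_option synthInstance.maxHeartbeats 400000
universe u
open CategoryTheory MonoidalCategory CartesianMonoidalCategory MonObj GrpObj AlgebraicGeometry
open PrincBund

attribute [-instance] CategoryTheory.Hom.commGroup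
namespace Groth.Agent.S14538

/-- Let k be an algebraically closed field of characteristic 0 and G an affine group scheme of finite
type over k. Then the group G(k) of k-rational points has a finitely generated subgroup whose points
are dense in the underlying space of G. -/
theorem result (k : Type u) [Field k] [IsAlgClosed k] [CharZero k]
    (G : Over (Spec (CommRingCat.of k))) [GrpObj G] [IsAffine G.left] [LocallyOfFiniteType G.hom] :
    ∃ Φ : Subgroup (𝟙_ (Over (Spec (CommRingCat.of k))) ⟶ G), Φ.FG ∧
      Dense {x : ↥G.left | ∃ g ∈ Φ, g.left.base (IsLocalRing.closedPoint k) = x} := by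
  obtain ⟨A, _, _, v, hv, -⟩ := DeligneKillLib.exists_sp G
  haveI := hv
  haveI : IsIso v.hom.left := (Over.forget _).map_isIso v.hom
  have hlft : LocallyOfFiniteType (CoactBr.sp k A).hom := by
    rw [← Over.w v.hom]; infer_instance
  change LocallyOfFiniteType (Spec.map (CommRingCat.ofHom (algebraMap k A))) at hlft
  rw [HasRingHomProperty.Spec_iff (P := @LocallyOfFiniteType), CommRingCat.hom_ofHom,
    RingHom.finiteType_algebraMap] at hlft
  haveI := hlft
  classical
  obtain ⟨F, hF⟩ := CommutatorLib.exists_gen_top (k := k) (A := A)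
  let e := BorelLib.ptEquiv v
  refine ⟨(Subgroup.closure (F : Set (BorelLib.Pt k A))).map e.toMonoidHom, ?_, ?_⟩
  · refine ⟨F.image e.toMonoidHom, ?_⟩
    rw [MonoidHom.map_closure, Finset.coe_image]
  refine dense_iff_inter_open.2 fun U hU ⟨y, hy⟩ => ?_
  letI := BorelLib.pTop (k := k) (R := A)
  have hU' : IsOpen (v.hom.left ⁻¹' U) := hU.preimage v.hom.left.continuous
  obtain ⟨x, hx⟩ : ∃ x : BorelLib.Pt k A, BorelLib.toP x ∈ v.hom.left ⁻¹' U := by
    refine BorelLib.exists_pt_mem ⟨v.inv.left y, ?_⟩ hU'.isLocallyClosed
    show v.hom.left (v.inv.left y) ∈ U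
    rw [← Scheme.Hom.comp_apply, ← Over.comp_left, v.inv_hom_id]
    exact hy
  have hx' : x ∈ closure ((Subgroup.closure (F : Set (BorelLib.Pt k A))) : Set (BorelLib.Pt k A)) := by
    have h : x ∈ CommutatorLib.gen F := hF.symm ▸ Subgroup.mem_top x
    exact h
  obtain ⟨z, hz, hzF⟩ := mem_closure_iff.1 hx' _ (hU'.preimage continuous_induced_dom) hx
  exact ⟨v.hom.left (BorelLib.toP z), hz, e z, ⟨z, hzF, rfl⟩, BorelLib.pt_ptEquiv v z⟩

end Groth.Agent.S14538
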