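import Mathlib
import Groth.Statements.S14539
import Groth.Agent.HopfPointsLib.Extend
import Groth.Agent.ComodLib.Slices

-- import your own Groth.Agent.* helpers here

set_option autoImplicit false
universe u v w
open TensorProduct
open PrincBund

namespace Groth.Agent.S14539

/-- Let k be an algebraically closed field of characteristic 0, A a commutative Hopf algebra over k (the
coordinate ring of an affine group scheme G over k, not necessarily of finite type) and V a right
A-comodule, of any dimension. If a k-subspace W of V is mapped into itself by the action of every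
k-rational point of G (every k-algebra homomorphism A → k, acting on V through the coaction), then W
is a subcomodule of V. -/
theorem result (k : Type u) (A : Type v) [Field k] [IsAlgClosed k]
    [CharZero k] [CommRing A] [HopfAlgebra k A]
    (V : Type w) [AddCommGroup V] [Module k V] [HopfRep.Comod k A V] (W : Submodule k V)
    (hW : ∀ g : A →ₐ[k] k, W.map (HopfRep.Comod.act k A V g) ≤ W) :
    HopfRep.IsSubcomod (k := k) (A := A) W := by
  intro w hw
  rw [ComodLib.mem_range_rTensor_iff]
  intro f
  rw [← Submodule.Quotient.mk_eq_zero]
  by_contra hne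
  obtain ⟨φ, hφ⟩ := ComodLib.exists_dual_ne (k := k) hne
  refine hφ ?_
  show (φ ∘ₗ W.mkQ) _ = 0
  rw [ComodLib.apply_slice]
  suffices h0 : ComodLib.sliceL (φ ∘ₗ W.mkQ) (HopfRep.Comod.coact (k := k) (A := A) w) = 0 by rw [h0, map_zero]
  by_contra hne'
  have := Groth.Agent.HopfPoints.isReduced_of_charZero (k := k) (A := A)
  obtain ⟨g, hg⟩ := Groth.Agent.HopfPoints.exists_point_ne_zero (k := k) _
    (fun h => hne' h.eq_zero)
  refine hg ?_
  have hact : HopfRep.Comod.act k A V g w =
      ComodLib.slice g.toLinearMap (HopfRep.Comod.coact (k := k) (A := A) w) := rfl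
  show g.toLinearMap _ = 0
  rw [← ComodLib.apply_slice, ← hact, LinearMap.comp_apply,
    show W.mkQ (HopfRep.Comod.act k A V g w) = 0 from (Submodule.Quotient.mk_eq_zero _).2 (hW g ⟨w, hw, rfl⟩), map_zero]

end Groth.Agent.S14539
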