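import Groth.Statements.S14545
import Groth.Agent.MultSubQuotLib.FieldAffine
import Groth.Agent.RepDescLib.Hom
import Groth.Agent.MultSubFTLib.LevelQuot
import Groth.Agent.WeilResLib.FlatDominant
import Groth.Agent.GrpSchLib.Cartier
import Groth.Agent.AlgSpLib.ReducedSmooth
import Groth.Agent.GrpFieldLib.Comps
import Groth.Agent.MultExtLib.Quot
import Groth.Agent.QuotRepLib.Saturate
import Groth.Agent.PerfectionLib.Mile
import Groth.Agent.FFDescLib.Affine
import Groth.Agent.S4091
-- import your own Groth.Agent.* helpers here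

set_option autoImplicit false
set_option backward.isDefEq.respectTransparency false
set_option maxHeartbeats 1600000
universe u
open CategoryTheory MonoidalCategory CartesianMonoidalCategory MonObj GrpObj AlgebraicGeometry
open PrincBund

namespace Groth.Agent.S14545
open CategoryTheory.Limits
attribute [-instance] CategoryTheory.Hom.commGroup

section
variable {S : Scheme.{u}} {A B C : Over S}

theorem fpqc_of_fppf (f : A ⟶ B) [Flat f.left] [Surjective f.left] [LocallyOfFinitePresentation f.left] :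
    DescLib.Fpqc f.left :=
  MultSubFTLib.fpqc_of_open f.left f.left.isOpenMap

theorem cancel_fpqc (f : A ⟶ B) [DescLib.Fpqc f.left] {g g' : B ⟶ C} (h : f ≫ g = f ≫ g') : g = g' := by
  obtain ⟨u, -, hu⟩ := RepDescLib.hom_descend f (f ≫ g) (fun T a b e => by rw [← Category.assoc, e, Category.assoc])
  exact (hu g rfl).trans (hu g' h.symm).symm

end

/-- Let k be a field of characteristic 0 and G an affine group scheme of finite type over k; let G' be a
closed subgroup of G and G₀ a closed normal subgroup of G with quotient q₁ : G → G₁ (so G₁ = G/G₀),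
let G₀' = G₀ ∩ G' and let G₁' be the image of G' in G₁, a closed subgroup of G₁ through which G' →
G₁ factors by a surjective morphism. Suppose that the quotients G₀/G₀' and G₁/G₁' (fppf quotient
sheaves represented by schemes) are affine. Then every scheme Q representing the quotient G/G' is
affine. -/
theorem result (k : Type u) [Field k] [CharZero k]
    (G : Over (Spec (CommRingCat.of k))) [GrpObj G] [IsAffine G.left] [LocallyOfFiniteType G.hom]
    (G' : Over (Spec (CommRingCat.of k))) [GrpObj G'] (i' : G' ⟶ G) [IsMonHom i'] (hi' : IsClosedImmersion i'.left)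
    (G₀ : Over (Spec (CommRingCat.of k))) [GrpObj G₀] (i₀ : G₀ ⟶ G) [IsMonHom i₀] (hi₀ : IsClosedImmersion i₀.left)
    (hn : AlgGrp.IsNormalHom i₀)
    (G₁ : Over (Spec (CommRingCat.of k))) [GrpObj G₁] (q₁ : G ⟶ G₁) [IsMonHom q₁] (hq₁ : RedSub.IsQuotient i₀ q₁)
    (G₀' : Over (Spec (CommRingCat.of k))) [GrpObj G₀'] (j : G₀' ⟶ G₀) [IsMonHom j] (j' : G₀' ⟶ G')
    (hj : IsPullback j j' i₀ i')
    (G₁' : Over (Spec (CommRingCat.of k))) [GrpObj G₁'] (i₁' : G₁' ⟶ G₁) [IsMonHom i₁'] (hi₁' : IsClosedImmersion i₁'.left)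
    (p : G' ⟶ G₁') (hp : p ≫ i₁' = i' ≫ q₁) (hps : Surjective p.left)
    (Qa : Over (Spec (CommRingCat.of k))) (qa : G₀ ⟶ Qa) (hqa : RedSub.IsQuotient j qa) (ha : IsAffine Qa.left)
    (Qb : Over (Spec (CommRingCat.of k))) (qb : G₁ ⟶ Qb) (hqb : RedSub.IsQuotient i₁' qb) (hb : IsAffine Qb.left)
    (Q : Over (Spec (CommRingCat.of k))) (q : G ⟶ Q) (hq : RedSub.IsQuotient i' q) :
    IsAffine Q.left := by
  -- coset descriptions
  have hQ := MultSubQuotLib.IsCosetMap.of_isQuotient hq
  have hA := MultSubQuotLib.IsCosetMap.of_isQuotient hqa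
  have hB := MultSubQuotLib.IsCosetMap.of_isQuotient hqb
  have h1 := MultSubQuotLib.IsCosetMap.of_isQuotient hq₁
  haveI := hQ.flat; haveI := hQ.surj; haveI := hQ.lfp
  haveI := hA.flat; haveI := hA.surj; haveI := hA.lfp
  haveI := hB.flat; haveI := hB.surj; haveI := hB.lfp
  haveI := h1.flat; haveI := h1.surj; haveI := h1.lfp
  haveI := hi'
  haveI := hi₁'
  haveI := hi₀
  haveI : Mono i₁' := Over.mono_of_mono_left i₁'
  haveI : Mono i₀ := Over.mono_of_mono_left i₀
  haveI : Mono i' := Over.mono_of_mono_left i'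
  haveI : IsAffine G'.left := isAffine_of_isAffineHom i'.left
  haveI : IsAffine G₀.left := isAffine_of_isAffineHom i₀.left
  haveI := ha
  haveI := hb
  -- the groups G₁, G₁'
  haveI : IsSeparated G₁.hom := Groth.Agent.GrpField.isSeparated_grp
  haveI : G₁.left.IsSeparated := ⟨by
    rw [show terminal.from G₁.left = G₁.hom ≫ terminal.from _ from Subsingleton.elim _ _]
    infer_instance⟩
  haveI : QuasiCompact G.hom := inferInstance
  haveI : LocallyOfFiniteType G₁.hom := by
    have h := (Groth.Agent.S4091.result q₁.left G₁.hom).1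
    rw [Over.w q₁] at h
    exact (h ⟨inferInstance, inferInstance⟩).1
  haveI : LocallyOfFiniteType G₁'.hom := by
    rw [← Over.w i₁']
    infer_instance
  haveI : Smooth G₁'.hom := Groth.Agent.GrpSchLib.smooth_of_charZero G₁'
  haveI : IsReduced G₁'.left := AlgSpLib.isReduced_of_smooth G₁'.hom
  haveI : IsMonHom p :=
    { one_hom := by rw [← cancel_mono i₁', Category.assoc, hp, IsMonHom.one_hom_assoc, IsMonHom.one_hom,
        IsMonHom.one_hom]
      mul_hom := by rw [← cancel_mono i₁', Category.assoc, hp, IsMonHom.mul_hom_assoc, IsMonHom.mul_hom,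
        Category.assoc, IsMonHom.mul_hom, tensorHom_comp_tensorHom_assoc, tensorHom_comp_tensorHom_assoc, hp] }
  haveI := hps
  haveI hpf : Flat p.left := Groth.Agent.WeilRes.flat_of_surjective_reduced p
  have hi₀q : ∀ {T : Over (Spec (CommRingCat.of k))} (x : T ⟶ G₀), (x ≫ i₀) ≫ q₁ = 1 := fun x => by
    have := (h1.iff 1 (x ≫ i₀)).2 ⟨x, by simp⟩
    rw [← this, MonObj.one_comp]
  -- φ : Q ⟶ Qb
  let a : G ⟶ Qb := q₁ ≫ qb
  haveI : Flat a.left := by rw [show a.left = q₁.left ≫ qb.left from rfl]; infer_instance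
  haveI : Surjective a.left := by rw [show a.left = q₁.left ≫ qb.left from rfl]; infer_instance
  haveI := fpqc_of_fppf q
  haveI := fpqc_of_fppf qa
  obtain ⟨φ, hφ, -⟩ := RepDescLib.hom_descend q a (fun T x y e => by
    obtain ⟨z, hz⟩ := (hQ.iff x y).1 e
    show x ≫ q₁ ≫ qb = y ≫ q₁ ≫ qb
    rw [← Category.assoc, ← Category.assoc, hB.iff]
    refine ⟨z ≫ p, ?_⟩
    rw [Category.assoc, hp, ← Category.assoc, hz, MonObj.mul_comp, GrpObj.inv_comp])
  -- Φ : G ⊗ Qa ⟶ Q
  haveI : DescLib.Fpqc (G ◁ qa).left := RepDescLib.fpqc_wl G qa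
  obtain ⟨Φ, hΦ, -⟩ := RepDescLib.hom_descend (G ◁ qa) ((G ◁ i₀) ≫ μ[G] ≫ q) (fun T x y e => by
    have e1 : x ≫ fst G G₀ = y ≫ fst G G₀ := by simpa using e =≫ fst G Qa
    have e2 : (x ≫ snd G G₀) ≫ qa = (y ≫ snd G G₀) ≫ qa := by simpa using e =≫ snd G Qa
    obtain ⟨w, hw⟩ := (hA.iff _ _).1 e2
    have hm : ∀ v : T ⟶ G ⊗ G₀, v ≫ (G ◁ i₀) ≫ μ[G] = (v ≫ fst G G₀) * ((v ≫ snd G G₀) ≫ i₀) := fun v => by
      rw [Hom.mul_def, ← Category.assoc]
      congr 1
      exact CartesianMonoidalCategory.hom_ext _ _ (by simp) (by simp)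
    rw [← Category.assoc (G ◁ i₀), ← Category.assoc, ← Category.assoc y, hm, hm, hQ.iff]
    refine ⟨w ≫ j', ?_⟩
    rw [Category.assoc, ← hj.w, ← Category.assoc, hw, MonObj.mul_comp, GrpObj.inv_comp, e1]
    group)
  have hΦ' : ∀ {T : Over (Spec (CommRingCat.of k))} (g : T ⟶ G) (x : T ⟶ G₀),
      lift g (x ≫ qa) ≫ Φ = (g * x ≫ i₀) ≫ q := fun g x => by
    rw [show lift g (x ≫ qa) = lift g x ≫ (G ◁ qa) from (lift_whiskerLeft _ _ _).symm, Category.assoc, hΦ,
      lift_whiskerLeft_assoc, Hom.mul_def, Category.assoc]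
  -- Ψ : G ⊗ Qa ⟶ P
  have hcond : fst G Qa ≫ a = Φ ≫ φ := cancel_fpqc (G ◁ qa) (by
    rw [whiskerLeft_fst_assoc, ← Category.assoc (G ◁ qa), hΦ, Category.assoc, Category.assoc, hφ]
    show _ = (G ◁ i₀) ≫ μ[G] ≫ q₁ ≫ qb
    have e : (G ◁ i₀) ≫ μ[G] = fst G G₀ * (snd G G₀ ≫ i₀) := by
      rw [Hom.mul_def]
      congr 1
    rw [← Category.assoc (G ◁ i₀), e]
    simp only [a, ← Category.assoc]
    rw [MonObj.mul_comp, hi₀q, _root_.mul_one])
  let Ψ : G ⊗ Qa ⟶ pullback a φ := pullback.lift (fst G Qa) Φ hcond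
  haveI hmono : Mono Ψ := ⟨fun {T} u v e => by
    have eg : u ≫ fst G Qa = v ≫ fst G Qa := by
      simpa only [Ψ, Category.assoc, pullback.lift_fst] using e =≫ pullback.fst a φ
    have eQ : u ≫ Φ = v ≫ Φ := by
      simpa only [Ψ, Category.assoc, pullback.lift_snd] using e =≫ pullback.snd a φ
    refine CartesianMonoidalCategory.hom_ext _ _ eg ?_
    let π₁ := pullback.fst (u ≫ snd G Qa) qa
    let π₂ := pullback.fst (π₁ ≫ v ≫ snd G Qa) qa
    have s1 := (IsPullback.of_hasPullback (u ≫ snd G Qa) qa).map (Over.forget _)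
    have s2 := (IsPullback.of_hasPullback (π₁ ≫ v ≫ snd G Qa) qa).map (Over.forget _)
    haveI : Flat π₁.left := MorphismProperty.of_isPullback (P := @Flat) s1.flip ‹Flat qa.left›
    haveI : Surjective π₁.left := MorphismProperty.of_isPullback (P := @Surjective) s1.flip ‹Surjective qa.left›
    haveI : LocallyOfFinitePresentation π₁.left :=
      MorphismProperty.of_isPullback (P := @LocallyOfFinitePresentation) s1.flip ‹LocallyOfFinitePresentation qa.left›
    haveI : Flat π₂.left := MorphismProperty.of_isPullback (P := @Flat) s2.flip ‹Flat qa.left›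
    haveI : Surjective π₂.left := MorphismProperty.of_isPullback (P := @Surjective) s2.flip ‹Surjective qa.left›
    haveI : LocallyOfFinitePresentation π₂.left :=
      MorphismProperty.of_isPullback (P := @LocallyOfFinitePresentation) s2.flip ‹LocallyOfFinitePresentation qa.left›
    haveI : Flat (π₂ ≫ π₁).left := by rw [Over.comp_left]; infer_instance
    haveI : Surjective (π₂ ≫ π₁).left := by rw [Over.comp_left]; infer_instance
    haveI : LocallyOfFinitePresentation (π₂ ≫ π₁).left := by rw [Over.comp_left]; infer_instance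
    haveI := fpqc_of_fppf (π₂ ≫ π₁)
    apply cancel_fpqc (π₂ ≫ π₁)
    let x := π₂ ≫ pullback.snd (u ≫ snd G Qa) qa
    let x' := pullback.snd (π₁ ≫ v ≫ snd G Qa) qa
    let g := (π₂ ≫ π₁) ≫ u ≫ fst G Qa
    have hx : x ≫ qa = (π₂ ≫ π₁) ≫ u ≫ snd G Qa := by
      simp only [x, π₁, Category.assoc, pullback.condition]
    have hx' : x' ≫ qa = (π₂ ≫ π₁) ≫ v ≫ snd G Qa := by
      simp only [x', π₂, Category.assoc, pullback.condition]
    have hu : (π₂ ≫ π₁) ≫ u = lift g (x ≫ qa) :=
      CartesianMonoidalCategory.hom_ext _ _ (by simp [g]) (by simp [hx])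
    have hv : (π₂ ≫ π₁) ≫ v = lift g (x' ≫ qa) :=
      CartesianMonoidalCategory.hom_ext _ _ (by simp [g, eg]) (by simp [hx'])
    have he : lift g (x ≫ qa) ≫ Φ = lift g (x' ≫ qa) ≫ Φ := by
      rw [← hu, ← hv]
      simp only [Category.assoc, eQ]
    rw [hΦ', hΦ', hQ.iff] at he
    obtain ⟨z, hz⟩ := he
    have hz' : (x⁻¹ * x') ≫ i₀ = z ≫ i' := by
      rw [hz, MonObj.mul_comp, GrpObj.inv_comp]
      group
    rw [← hx, ← hx', hA.iff]
    exact ⟨hj.lift (x⁻¹ * x') z hz', hj.lift_fst _ _ _⟩⟩
  -- the covering P' ⟶ P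
  let c : pullback a a ⟶ pullback a φ :=
    pullback.lift (pullback.fst a a) (pullback.snd a a ≫ q) (by rw [Category.assoc, hφ, pullback.condition])
  have hc : IsPullback c (pullback.snd a a) (pullback.snd a φ) q := by
    refine IsPullback.of_right ?_ (pullback.lift_snd _ _ _) (IsPullback.of_hasPullback a φ)
    rw [hφ, show c ≫ pullback.fst a φ = pullback.fst a a from pullback.lift_fst _ _ _]
    exact IsPullback.of_hasPullback a a
  haveI : QuasiCompact q.left := by
    haveI : QuasiCompact (fst G G').left := by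
      haveI : QuasiCompact G'.hom := inferInstance
      exact (inferInstance : QuasiCompact (pullback.fst G.hom G'.hom))
    haveI : QuasiCompact ((Over.forget (Spec (CommRingCat.of k))).map (fst G G')) := this
    exact Groth.Agent.MultExt.quasiCompact_of_self q.left _ _ (hq.2.2.2.map (Over.forget _))
  haveI : Flat c.left := MorphismProperty.of_isPullback (P := @Flat) (hc.map (Over.forget _)).flip ‹Flat q.left›
  haveI : Surjective c.left :=
    MorphismProperty.of_isPullback (P := @Surjective) (hc.map (Over.forget _)).flip ‹Surjective q.left›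
  -- ζ : P' ⟶ G₁'
  obtain ⟨ζ, hζ⟩ := (hB.iff (pullback.fst a a ≫ q₁) (pullback.snd a a ≫ q₁)).1 (by
    simpa [a] using pullback.condition (f := a) (g := a))
  let g := pullback.fst ζ p ≫ pullback.fst a a
  let y := pullback.fst ζ p ≫ pullback.snd a a
  let h := pullback.snd ζ p
  have hz1 : (1 : pullback ζ p ⟶ G) ≫ q₁ = (g⁻¹ * y * (h ≫ i')⁻¹) ≫ q₁ := by
    rw [MonObj.one_comp, MonObj.mul_comp, MonObj.mul_comp, GrpObj.inv_comp, GrpObj.inv_comp,
      Category.assoc h, ← hp, show h ≫ p ≫ i₁' = pullback.fst ζ p ≫ ζ ≫ i₁' by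
        rw [pullback.condition_assoc],
      hζ, MonObj.comp_mul, GrpObj.comp_inv]
    simp [g, y]
  obtain ⟨z, hz⟩ := (h1.iff _ _).1 hz1
  rw [inv_one, _root_.one_mul] at hz
  let χ : pullback ζ p ⟶ G ⊗ G₀ := lift g z
  have hχ : (χ ≫ (G ◁ qa)) ≫ Ψ = pullback.fst ζ p ≫ c := by
    apply pullback.hom_ext
    · simp [Ψ, c, χ, g]
    · rw [Category.assoc, Category.assoc, Category.assoc, show Ψ ≫ pullback.snd a φ = Φ from pullback.lift_snd _ _ _,
        show c ≫ pullback.snd a φ = pullback.snd a a ≫ q from pullback.lift_snd _ _ _, lift_whiskerLeft_assoc, hΦ',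
        ← Category.assoc, hQ.iff]
      refine ⟨h, ?_⟩
      show h ≫ i' = (g * z ≫ i₀)⁻¹ * y
      rw [hz]
      group
  -- χ is a projection
  let W := (G ⊗ G₀) ⊗ G'
  let gW : W ⟶ G := fst _ _ ≫ fst G G₀
  let yW : W ⟶ G := gW * (fst (G ⊗ G₀) G' ≫ snd G G₀) ≫ i₀ * snd (G ⊗ G₀) G' ≫ i'
  have hyW : gW ≫ a = yW ≫ a := by
    simp only [a, ← Category.assoc]
    rw [hB.iff]
    refine ⟨snd (G ⊗ G₀) G' ≫ p, ?_⟩
    rw [Category.assoc, hp, ← Category.assoc, MonObj.mul_comp, MonObj.mul_comp, hi₀q]
    group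
    try simp
  have hν : pullback.lift gW yW hyW ≫ ζ = snd (G ⊗ G₀) G' ≫ p := by
    rw [← cancel_mono i₁', Category.assoc, hζ, Category.assoc, hp, MonObj.comp_mul, GrpObj.comp_inv,
      ← Category.assoc, ← Category.assoc, pullback.lift_fst, pullback.lift_snd, MonObj.mul_comp, MonObj.mul_comp,
      hi₀q, Category.assoc]
    group
    simp only [Category.assoc]
  let e : pullback ζ p ≅ W :=
    { hom := lift χ h
      inv := pullback.lift (pullback.lift gW yW hyW) (snd (G ⊗ G₀) G') hν
      hom_inv_id := by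
        apply pullback.hom_ext
        · apply pullback.hom_ext
          · simp [gW, χ, g]
          · rw [Category.assoc, Category.assoc, pullback.lift_fst_assoc, pullback.lift_snd, Category.id_comp]
            simp only [yW, gW, MonObj.comp_mul, Category.assoc, lift_fst_assoc, lift_snd_assoc, χ, lift_fst, lift_snd]
            rw [hz]
            group
            rfl
        · simp [h]
      inv_hom_id := by
        have e0 : pullback.lift (pullback.lift gW yW hyW) (snd (G ⊗ G₀) G') hν ≫ h = snd (G ⊗ G₀) G' :=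
          pullback.lift_snd _ _ _
        refine CartesianMonoidalCategory.hom_ext _ _ ?_ (by simp [e0])
        rw [Category.assoc, lift_fst, Category.id_comp]
        refine CartesianMonoidalCategory.hom_ext _ _ (by simp [χ, g, gW]) ?_
        rw [Category.assoc, lift_snd, ← cancel_mono i₀, Category.assoc, hz]
        simp only [MonObj.comp_mul, GrpObj.comp_inv, g, y, ← Category.assoc, e0, pullback.lift_fst, pullback.lift_snd]
        simp only [yW]
        group }
  haveI : IsIso e.hom.left := ((Over.forget _).mapIso e).isIso_hom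
  haveI : Flat χ.left ∧ Surjective χ.left := by
    rw [show χ = e.hom ≫ fst (G ⊗ G₀) G' from (lift_fst _ _).symm, Over.comp_left]
    haveI : Surjective G'.hom :=
      ⟨fun s => ⟨η[G'].left s, by
        rw [← Scheme.Hom.comp_apply, Over.w]; rfl⟩⟩
    haveI : Flat G'.hom := inferInstance
    haveI : Flat (fst (G ⊗ G₀) G').left := (inferInstance : Flat (pullback.fst _ G'.hom))
    haveI : Surjective (fst (G ⊗ G₀) G').left := (inferInstance : Surjective (pullback.fst _ G'.hom))
    exact ⟨inferInstance, inferInstance⟩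
  obtain ⟨_, _⟩ := this
  haveI : Flat (χ ≫ (G ◁ qa)).left ∧ Surjective (χ ≫ (G ◁ qa)).left := by
    haveI : Flat (G ◁ qa).left :=
      MorphismProperty.of_isPullback (P := @Flat) (RepDescLib.isPullback_wl G qa).flip ‹Flat qa.left›
    haveI : Surjective (G ◁ qa).left :=
      MorphismProperty.of_isPullback (P := @Surjective) (RepDescLib.isPullback_wl G qa).flip ‹Surjective qa.left›
    rw [Over.comp_left]
    exact ⟨inferInstance, inferInstance⟩
  obtain ⟨_, _⟩ := this
  have sp := (IsPullback.of_hasPullback ζ p).map (Over.forget _)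
  haveI : Flat (pullback.fst ζ p).left := MorphismProperty.of_isPullback (P := @Flat) sp.flip hpf
  haveI : Surjective (pullback.fst ζ p).left := MorphismProperty.of_isPullback (P := @Surjective) sp.flip hps
  haveI : Flat ((χ ≫ (G ◁ qa)).left ≫ Ψ.left) := by
    rw [← Over.comp_left, hχ, Over.comp_left]; infer_instance
  haveI : Surjective ((χ ≫ (G ◁ qa)).left ≫ Ψ.left) := by
    rw [← Over.comp_left, hχ, Over.comp_left]; infer_instance
  haveI : Flat Ψ.left := Groth.Agent.QuotRep.flat_of_comp_surjective (χ ≫ (G ◁ qa)).left Ψ.left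
  haveI : Surjective Ψ.left := Surjective.of_comp (χ ≫ (G ◁ qa)).left Ψ.left
  -- Q is quasi-separated
  haveI : QuasiSeparatedSpace Q.left := quasiSeparatedSpace_iff_forall_affineOpens.2 fun U V => by
    have hU : IsCompact (q.left ⁻¹' (U.1 : Set Q.left)) := q.left.isCompact_preimage U.2.isCompact
    have hV : IsCompact (q.left ⁻¹' (V.1 : Set Q.left)) := q.left.isCompact_preimage V.2.isCompact
    have := (QuasiSeparatedSpace.inter_isCompact _ _ (q.left ⁻¹ᵁ U.1).isOpen hU (q.left ⁻¹ᵁ V.1).isOpen hV).image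
      q.left.continuous
    simp only [Scheme.Hom.coe_preimage, ← Set.preimage_inter, Set.image_preimage_eq _ q.left.surjective] at this
    exact this
  haveI : QuasiSeparated φ.left := by
    haveI : QuasiSeparated (φ.left ≫ terminal.from Qb.left) := by
      rw [show φ.left ≫ terminal.from Qb.left = terminal.from Q.left from Subsingleton.elim _ _]
      infer_instance
    exact QuasiSeparated.of_comp φ.left (terminal.from Qb.left)
  haveI : QuasiCompact φ.left := by
    haveI : QuasiCompact (q.left ≫ φ.left) := by rw [← Over.comp_left, hφ]; infer_instance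
    exact Groth.Agent.PerfectionLib.quasiCompact_of_comp_surjective q.left φ.left
  have sP := (IsPullback.of_hasPullback a φ).map (Over.forget _)
  haveI : QuasiSeparatedSpace (pullback a φ).left := by
    haveI : QuasiSeparated (pullback.fst a φ).left :=
      MorphismProperty.of_isPullback (P := @QuasiSeparated) sP.flip ‹QuasiSeparated φ.left›
    exact quasiSeparatedSpace_of_quasiSeparated (pullback.fst a φ).left
  haveI : IsAffine (G ⊗ Qa).left := (inferInstance : IsAffine (pullback G.hom Qa.hom))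
  haveI : QuasiCompact Ψ.left := by
    haveI : QuasiCompact (Ψ.left ≫ (pullback a φ).hom) := by
      haveI : CompactSpace (G ⊗ Qa).left := inferInstance
      rw [quasiCompact_iff_compactSpace]
      infer_instance
    haveI : QuasiSeparated (pullback a φ).hom := quasiSeparated_iff_quasiSeparatedSpace _ |>.2 inferInstance
    exact QuasiCompact.of_comp Ψ.left (pullback a φ).hom
  haveI : IsIso Ψ.left := Flat.isIso_of_surjective_of_mono Ψ.left
  haveI : IsAffine (pullback a φ).left := IsAffine.of_isIso (inv Ψ.left)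
  haveI : IsAffine ((Over.forget (Spec (CommRingCat.of k))).obj (pullback a φ)) := ‹IsAffine (pullback a φ).left›
  haveI : IsAffine (Limits.pullback φ.left a.left) := IsAffine.of_isIso sP.flip.isoPullback.inv
  haveI : IsAffineHom (pullback.snd φ.left a.left) := inferInstance
  haveI := FFDescLib.isAffineHom_of_pullback φ.left a.left
  exact isAffine_of_isAffineHom φ.left

end Groth.Agent.S14545
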