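import Groth.Statements.S14556
import Groth.Agent.HZeroLib.Basic
import Groth.Agent.AdPtsLib.Main
-- import your own Groth.Agent.* helpers here

set_option autoImplicit false
universe u
open TateGlob

namespace Groth.Agent.S14556
open CategoryTheory.Limits
open CategoryTheory AlgebraicGeometry Opposite
set_option maxHeartbeats 1600000


open CategoryTheory AlgebraicGeometry in
/-- Let K be a global function field with finite constant field Fq (every element of K having finitely
many poles), A_K its ring of adeles, S a finite nonempty set of places, O_S the ring of S-integers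
and 𝒢 a flat, separated commutative O_S-group scheme of finite type. Then the map H^0(A_K, 𝒢) → ∏_v
H^0(K_v, 𝒢) induced by the projections A_K → K_v is injective, and its image consists of the
restricted product of the H^0(K_v, 𝒢), taken relative to the images of H^0(O_v, 𝒢) → H^0(K_v, 𝒢), v
∉ S: the families almost all of whose components come from O_v. Here H^0 is the degree-0 cohomology
of the sheaf of points of 𝒢 on the big fppf site of Spec O_S, restricted to Spec A_K, Spec K_v and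
Spec O_v. -/
theorem result (Fq : Type u) [Field Fq] [Finite Fq] (K : Type u) [Field K] [Algebra (RatFunc Fq) K] [FunctionField Fq K]
    [Algebra Fq K] [IsScalarTower Fq (RatFunc Fq) K] [AdFn.HasFinitePoles Fq K]
    (S : Set (FunFld.Place Fq K)) (hS : S.Finite) (hne : S.Nonempty)
    (𝒢 : Over (Spec (CommRingCat.of (AdFn.SInt S)))) [GrpObj 𝒢] [IsCommMonObj 𝒢]
    [Flat 𝒢.hom] [IsSeparated 𝒢.hom] [LocallyOfFiniteType 𝒢.hom] [QuasiCompact 𝒢.hom] :
    Function.Injective (AdFn.locProdS Scheme.fppfPrecoverage S (CGrpSh.pts Scheme.fppfPrecoverage 𝒢) 0) ∧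
      Set.range (AdFn.locProdS Scheme.fppfPrecoverage S (CGrpSh.pts Scheme.fppfPrecoverage 𝒢) 0) =
        Set.range (fun y : AdFn.LocRP Scheme.fppfPrecoverage S (CGrpSh.pts Scheme.fppfPrecoverage 𝒢) 0 => (⇑y : (v : FunFld.Place Fq K) → AdFn.HLocS Scheme.fppfPrecoverage S (CGrpSh.pts Scheme.fppfPrecoverage 𝒢) 0 v)) := by
  let F := CGrpSh.pts Scheme.fppfPrecoverage 𝒢
  let T := AdFn.specOf (AdFn.SInt.toAd (k := Fq) S)
  let T' := fun v : FunFld.Place Fq K => AdFn.specOf (AdFn.SInt.toKv S v)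
  let pt := fun {W : Over (Spec (CommRingCat.of (AdFn.SInt S)))} (z : F.obj.obj (op W)) =>
    (Additive.toMul z.down : W ⟶ 𝒢)
  have pt_inj : ∀ {W} {a b : F.obj.obj (op W)}, (pt a).left = (pt b).left → a = b := fun h =>
    ULift.ext _ _ (Additive.toMul.injective (Over.OverMorphism.ext h))
  have hcomp : ∀ (x : AdFn.HAdS Scheme.fppfPrecoverage S F 0) (v),
      (pt (HZeroLib.hu0 F (T' v) (AdFn.locProdS Scheme.fppfPrecoverage S F 0 x v))).left =
        AdPtsLib.atPlace v ≫ (pt (HZeroLib.hu0 F T x)).left := fun x v => by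
    rw [show AdFn.locProdS Scheme.fppfPrecoverage S F 0 x v =
      HRes.resHU Scheme.fppfPrecoverage F 0 (AdFn.adProjSHom S v) x from rfl, HZeroLib.hu0_resHU]
    rfl
  have hloc : ∀ (v) (r : AdFn.HLocS Scheme.fppfPrecoverage S F 0 v), v ∉ S →
      (r ∈ AdFn.locSub Scheme.fppfPrecoverage S F 0 v ↔ ∀ hv : v ∉ S, ∃ q : Spec (CommRingCat.of (AdFn.Ov v)) ⟶ 𝒢.left,
        q ≫ 𝒢.hom = Spec.map (CommRingCat.ofHom (AdFn.SInt.toOv S hv)) ∧
          Spec.map (CommRingCat.ofHom (AdFn.Ov v).subtype) ≫ q = (pt (HZeroLib.hu0 F (T' v) r)).left) := fun v r hv => by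
    rw [AdFn.locSub, iSup_pos hv, AddMonoidHom.mem_range]
    constructor
    · rintro ⟨y, rfl⟩ _
      refine ⟨(pt (HZeroLib.hu0 F (AdFn.specOf (AdFn.SInt.toOv S hv)) y)).left, Over.w _, ?_⟩
      rw [show AdFn.intRes Scheme.fppfPrecoverage S F 0 hv y =
        HRes.resHU Scheme.fppfPrecoverage F 0 (AdFn.intResHom S hv) y from rfl, HZeroLib.hu0_resHU]
      rfl
    · intro h
      obtain ⟨q, hq, hq'⟩ := h hv
      refine ⟨(HZeroLib.hu0 F (AdFn.specOf (AdFn.SInt.toOv S hv))).symm
        (ULift.up (Additive.ofMul (Over.homMk q hq : AdFn.specOf (AdFn.SInt.toOv S hv) ⟶ 𝒢))), ?_⟩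
      refine (HZeroLib.hu0 F (T' v)).injective (pt_inj ?_)
      rw [show ∀ y, AdFn.intRes Scheme.fppfPrecoverage S F 0 hv y =
        HRes.resHU Scheme.fppfPrecoverage F 0 (AdFn.intResHom S hv) y from fun _ => rfl, HZeroLib.hu0_resHU,
        AddEquiv.apply_symm_apply]
      exact hq'
  have hfin : ∀ᶠ v in Filter.cofinite, v ∉ S := hS.eventually_cofinite_notMem
  refine ⟨fun x x' h => (HZeroLib.hu0 F T).injective (pt_inj ?_), Set.Subset.antisymm ?_ ?_⟩
  · refine AdPtsLib.eq_of_forall_spec 𝒢 (A := CommRingCat.of (AdFn.AdeleRing Fq K))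
      (fun v : FunFld.Place Fq K => CommRingCat.of (AdFn.Kv v))
      (fun v => CommRingCat.ofHom (AdFn.AdeleRing.proj v)) (fun a ha => Subtype.ext (funext ha)) _ _
      ((Over.w _).trans (Over.w _).symm) fun v => ?_
    exact (hcomp x v).symm.trans ((congrArg (fun z => (pt (HZeroLib.hu0 F (T' v) z)).left) (congrFun h v)).trans (hcomp x' v))
  · rintro _ ⟨x, rfl⟩
    refine ⟨⟨AdFn.locProdS Scheme.fppfPrecoverage S F 0 x, ?_⟩, rfl⟩
    filter_upwards [hfin, AdPtsLib.eventually_integral S 𝒢 (pt (HZeroLib.hu0 F T x)).left (Over.w _)] with v hv hint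
    rw [SetLike.mem_coe, hloc v _ hv]
    intro hv'
    obtain ⟨q, hq, hq'⟩ := hint hv'
    exact ⟨q, hq, hq'.trans (hcomp x v).symm⟩
  · rintro _ ⟨y, rfl⟩
    obtain ⟨p, hp, hpv⟩ := AdPtsLib.exists_of_family S 𝒢 (fun v => (pt (HZeroLib.hu0 F (T' v) (y v))).left)
      (fun v => Over.w _) (by
        filter_upwards [hfin, y.2] with v hv hy
        obtain ⟨q, -, hq⟩ := (hloc v _ hv).1 hy hv
        exact ⟨q, hq⟩)
    refine ⟨(HZeroLib.hu0 F T).symm (ULift.up (Additive.ofMul (Over.homMk p hp : T ⟶ 𝒢))),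
      funext fun v => (HZeroLib.hu0 F (T' v)).injective (pt_inj ?_)⟩
    rw [hcomp, AddEquiv.apply_symm_apply]
    exact hpv v


end Groth.Agent.S14556
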