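import Groth.Statements.S14573
import Groth.Agent.HZeroLib.Basic
import Groth.Agent.DualNormLib.Norm
-- import your own Groth.Agent.* helpers here

set_option autoImplicit false
universe u
open TateGlob

namespace Groth.Agent.S14573
open CategoryTheory.Limits
set_option maxHeartbeats 1600000
open CategoryTheory CategoryTheory.Limits AlgebraicGeometry Opposite MonoidalCategory CartesianMonoidalCategory
open scoped TensorProduct
open DualNormLib
noncomputable section

section tensor

variable {K A C : Type u} [Field K] [CommRing A] [Algebra K A] [CommRing C] [Algebra K C]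

/-- An element of a base change vanishing under enough base changes is zero. -/
theorem eq_of_forall_map {ι : Type*} (D : ι → Type u) [∀ i, CommRing (D i)] [∀ i, Algebra K (D i)]
    (π : ∀ i, A →ₐ[K] D i) (hπ : ∀ a : A, (∀ i, π i a = 0) → a = 0) (z w : A ⊗[K] C)
    (h : ∀ i, Algebra.TensorProduct.map (π i) (AlgHom.id K C) z = Algebra.TensorProduct.map (π i) (AlgHom.id K C) w) :
    z = w := by
  classical
  let b := Module.Free.chooseBasis K C
  have key : ∀ i (y : A ⊗[K] C) c, TensorProduct.equivFinsuppOfBasisRight b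
      (Algebra.TensorProduct.map (π i) (AlgHom.id K C) y) c = π i (TensorProduct.equivFinsuppOfBasisRight b y c) :=
    fun i y c => by
      induction y using TensorProduct.induction_on with
      | zero => simp
      | tmul a x => simp [TensorProduct.equivFinsuppOfBasisRight_apply_tmul_apply, map_smul]
      | add y y' hy hy' => simp only [map_add, Finsupp.add_apply, hy, hy']
  refine (TensorProduct.equivFinsuppOfBasisRight b).injective (Finsupp.ext fun c => sub_eq_zero.1 (hπ _ fun i => ?_))
  rw [map_sub, ← key, ← key, h, sub_self]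

end tensor

section scheme

variable {R K : Type u} [CommRing R] [Field K] (ρ : R →+* K)
  (G : Over (Spec (CommRingCat.of R))) [IsAffine (pullback G.hom (Spec.map (CommRingCat.ofHom ρ)))]

/-- The coordinate ring of the generic fibre. -/
abbrev Cq : Type u := Γ(pullback G.hom (Spec.map (CommRingCat.ofHom ρ)), ⊤)

/-- Its structure map. -/
abbrev cmap : K →+* Cq ρ G :=
  ((Scheme.ΓSpecIso (CommRingCat.of K)).inv ≫ (pullback.snd G.hom (Spec.map (CommRingCat.ofHom ρ))).appTop).hom

theorem spec_cmap : Spec.map (CommRingCat.ofHom (cmap ρ G)) =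
    (pullback G.hom (Spec.map (CommRingCat.ofHom ρ))).isoSpec.inv ≫
      pullback.snd G.hom (Spec.map (CommRingCat.ofHom ρ)) := by
  rw [Iso.eq_inv_comp]
  change _ ≫ Spec.map ((Scheme.ΓSpecIso (CommRingCat.of K)).inv ≫ _) = _
  rw [Spec.map_comp, ← Category.assoc, Scheme.isoSpec_hom_naturality]
  simp [Scheme.isoSpec]

variable [Algebra K (Cq ρ G)] (halg : algebraMap K (Cq ρ G) = cmap ρ G)
variable {A : Type u} [CommRing A] [Algebra K A]

/-- The part over the coefficients. -/
abbrev toA : Spec (CommRingCat.of (A ⊗[K] Cq ρ G)) ⟶ Spec (CommRingCat.of A) :=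
  Spec.map (CommRingCat.ofHom (Algebra.TensorProduct.includeLeftRingHom (R := K)))

/-- The part over the group. -/
abbrev toQ : Spec (CommRingCat.of (A ⊗[K] Cq ρ G)) ⟶ pullback G.hom (Spec.map (CommRingCat.ofHom ρ)) :=
  Spec.map (CommRingCat.ofHom (Algebra.TensorProduct.includeRight (R := K) (A := A)).toRingHom) ≫
    (pullback G.hom (Spec.map (CommRingCat.ofHom ρ))).isoSpec.inv

include halg in
theorem isPullback_tensor : IsPullback (toA ρ G (A := A)) (toQ ρ G ≫ pullback.fst G.hom (Spec.map (CommRingCat.ofHom ρ)))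
    (Spec.map (CommRingCat.ofHom ((algebraMap K A).comp ρ))) G.hom := by
  have h1 : IsPullback (toA ρ G (A := A)) (toQ ρ G)
      (Spec.map (CommRingCat.ofHom (algebraMap K A))) (pullback.snd G.hom (Spec.map (CommRingCat.ofHom ρ))) := by
    refine (isPullback_SpecMap_of_isPushout _ _ _ _ (CommRingCat.isPushout_tensorProduct K A (Cq ρ G))).of_iso
      (Iso.refl _) (Iso.refl _) (pullback G.hom (Spec.map (CommRingCat.ofHom ρ))).isoSpec.symm (Iso.refl _) ?_ ?_ ?_ ?_
    · simp
    · simp [toQ]
    · simp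
    · rw [Iso.refl_hom, Category.comp_id, halg]
      exact spec_cmap ρ G
  have h2 := h1.paste_vert (IsPullback.of_hasPullback G.hom (Spec.map (CommRingCat.ofHom ρ))).flip
  rwa [← Spec.map_comp, ← CommRingCat.ofHom_comp] at h2

variable (A) in
/-- The base change of the group as a spectrum. -/
def eA : Spec (CommRingCat.of (A ⊗[K] Cq ρ G)) ≅
    (AdFn.specOf ((algebraMap K A).comp ρ) ⊗ G).left := (isPullback_tensor ρ G halg (A := A)).isoPullback

section detect

include halg in
/-- Functions on a base change are detected by a separating family of coefficient rings. -/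
theorem eq_one_of_forall {κ : Type*} (D : κ → Type u) [∀ i, CommRing (D i)] [∀ i, Algebra K (D i)]
    (π : ∀ i, A →ₐ[K] D i) (hπ : ∀ a : A, (∀ i, π i a = 0) → a = 0)
    (g : ∀ i, AdFn.specOf ((algebraMap K (D i)).comp ρ) ⟶ AdFn.specOf ((algebraMap K A).comp ρ))
    (hg : ∀ i, (g i).left = Spec.map (CommRingCat.ofHom (π i).toRingHom))
    (f : Γ((AdFn.specOf ((algebraMap K A).comp ρ) ⊗ G).left, ⊤))
    (hf : ∀ i, (g i ▷ G).left.appTop f = 1) : f = 1 := by
  let e := eA ρ G halg A
  let em := Scheme.ΓSpecIso (CommRingCat.of (A ⊗[K] Cq ρ G))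
  haveI : IsIso e.hom.appTop := ⟨e.inv.appTop, by rw [← Scheme.Hom.comp_appTop, e.inv_hom_id]; exact Scheme.Hom.id_appTop,
    by rw [← Scheme.Hom.comp_appTop, e.hom_inv_id]; exact Scheme.Hom.id_appTop⟩
  refine (ConcreteCategory.bijective_of_isIso (e.hom.appTop ≫ em.hom)).1 ?_
  rw [map_one]
  refine eq_of_forall_map D π hπ _ _ fun i => ?_
  rw [map_one]
  let e' := eA ρ G halg (D i)
  let m := CommRingCat.ofHom (Algebra.TensorProduct.map (π i) (AlgHom.id K (Cq ρ G))).toRingHom
  have hsq : Spec.map m ≫ e.hom = e'.hom ≫ (g i ▷ G).left := by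
    refine pullback.hom_ext ?_ ?_
    · rw [Category.assoc, Category.assoc]
      erw [IsPullback.isoPullback_hom_fst, Over.whiskerRight_left_fst]
      erw [IsPullback.isoPullback_hom_fst_assoc, hg i]
      rw [← Spec.map_comp, ← Spec.map_comp]
      exact congrArg Spec.map (CommRingCat.hom_ext (RingHom.ext fun a => by simp [m]))
    · rw [Category.assoc, Category.assoc]
      erw [IsPullback.isoPullback_hom_snd, Over.whiskerRight_left_snd]
      erw [IsPullback.isoPullback_hom_snd]
      simp only [toQ, ← Category.assoc, ← Spec.map_comp]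
      congr 3
      exact CommRingCat.hom_ext (RingHom.ext fun a => by simp [m])
  let em' := Scheme.ΓSpecIso (CommRingCat.of (D i ⊗[K] Cq ρ G))
  have h3 : e.hom.appTop ≫ em.hom ≫ m = (g i ▷ G).left.appTop ≫ e'.hom.appTop ≫ em'.hom := by
    rw [← Scheme.ΓSpecIso_naturality m, ← Category.assoc, ← Scheme.Hom.comp_appTop, hsq, Scheme.Hom.comp_appTop,
      Category.assoc]
  have h4 := congr($(h3) f)
  simp only [ConcreteCategory.comp_apply, hf i, map_one] at h4
  exact h4

end detect
end scheme
end


open CategoryTheory AlgebraicGeometry in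
/-- Let K be a global function field with finite constant field Fq (every element of K having finitely
many poles), A_K its adele ring, S a finite nonempty set of places, O_S the ring of S-integers and 𝒢
a flat, separated commutative O_S-group scheme of finite type (an O_S-model of its generic fibre).
Assume the generic fibre 𝒢_K is affine. Then the map H^0(A_K, 𝒢^) → ∏_v H^0(K_v, 𝒢^) induced by the
projections A_K → K_v is injective: a character of 𝒢 defined over A_K that is trivial over every
completion K_v is trivial; here 𝒢^ is the dual sheaf of 𝒢 (internal Hom from its sheaf of points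
into the multiplicative group on the big fppf site of Spec O_S) and H^0 its degree-0 cohomology over
Spec A_K and Spec K_v. -/
theorem result (Fq : Type u) [Field Fq] [Finite Fq] (K : Type u) [Field K] [Algebra (RatFunc Fq) K] [FunctionField Fq K]
    [Algebra Fq K] [IsScalarTower Fq (RatFunc Fq) K] [AdFn.HasFinitePoles Fq K]
    (S : Set (FunFld.Place Fq K)) (hS : S.Finite) (hne : S.Nonempty)
    (𝒢 : Over (Spec (CommRingCat.of (AdFn.SInt S)))) [GrpObj 𝒢] [IsCommMonObj 𝒢]
    [Flat 𝒢.hom] [IsSeparated 𝒢.hom] [LocallyOfFiniteType 𝒢.hom] [QuasiCompact 𝒢.hom]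
    (haff : IsAffine ↑(Limits.pullback 𝒢.hom (Spec.map (CommRingCat.ofHom (AdFn.SInt.toK S))))) :
    Function.Injective (AdFn.locProdS Scheme.fppfPrecoverage S (CGrpSh2.dualSh Scheme.fppfPrecoverage (CGrpSh.pts Scheme.fppfPrecoverage 𝒢)) 0) := by
  let ρ := AdFn.SInt.toK S
  haveI : IsAffine (Limits.pullback 𝒢.hom (Spec.map (CommRingCat.ofHom ρ))) := haff
  letI : Algebra K (Cq ρ 𝒢) := (cmap ρ 𝒢).toAlgebra
  have halg : algebraMap K (Cq ρ 𝒢) = cmap ρ 𝒢 := rfl
  let F := CGrpSh2.dualSh Scheme.fppfPrecoverage (CGrpSh.pts Scheme.fppfPrecoverage 𝒢)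
  let T := AdFn.specOf (AdFn.SInt.toAd (k := Fq) S)
  let T' := fun v : FunFld.Place Fq K => AdFn.specOf (AdFn.SInt.toKv S v)
  refine (injective_iff_map_eq_zero _).2 fun x hx => ?_
  refine (HZeroLib.hu0 F T).injective (Eq.trans ?_ (map_zero _).symm)
  let φ : (CGrpSh.pts Scheme.fppfPrecoverage 𝒢).over T ⟶ (GmF _).over T := HZeroLib.hu0 F T x
  have hv : ∀ v, F.obj.map (AdFn.adProjSHom S v).op (HZeroLib.hu0 F T x) = 0 := fun v => by
    rw [← HZeroLib.hu0_resHU]
    exact (congrArg _ (congrFun hx v)).trans (map_zero _)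
  show φ = 0
  let x₀ : (CGrpSh.pts Scheme.fppfPrecoverage 𝒢).obj.obj (op (T ⊗ 𝒢)) := ULift.up (Additive.ofMul (snd T 𝒢))
  suffices h0 : ev φ (fst T 𝒢) x₀ = 0 by
    refine ev_hom_ext fun W k y => ?_
    have hy : y = res (CGrpSh.pts Scheme.fppfPrecoverage 𝒢) (lift k y.down.toMul) x₀ :=
      ULift.ext _ _ (congrArg Additive.ofMul (lift_snd k y.down.toMul).symm)
    rw [hy]
    refine Eq.trans ?_ (show (0 : (GmF _).obj.obj (op W)) = _ from rfl)
    refine (congrArg (fun k' => ev φ k' _) (lift_fst k y.down.toMul).symm).trans ?_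
    rw [ev_res, h0, map_zero]
  refine gv_inj (Eq.trans ?_ gv_zero.symm)
  refine eq_one_of_forall ρ 𝒢 halg (A := AdFn.AdeleRing Fq K) (fun v : FunFld.Place Fq K => AdFn.Kv v)
    (fun v => { toRingHom := AdFn.AdeleRing.proj v, commutes' := fun _ => rfl }) (fun a ha => Subtype.ext (funext ha))
    (fun v => AdFn.adProjSHom S v) (fun _ => rfl) _ fun v => ?_
  have h1 : res (GmF _) (AdFn.adProjSHom S v ▷ 𝒢) (ev φ (fst T 𝒢) x₀) = 0 := by
    rw [← ev_res, whiskerRight_fst]
    exact congrArg (fun χ => ev χ (fst (T' v) 𝒢) (res (CGrpSh.pts Scheme.fppfPrecoverage 𝒢) (AdFn.adProjSHom S v ▷ 𝒢) x₀)) (hv v)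
  have h2 := congrArg gv h1
  rw [gv_res, gv_zero] at h2
  exact h2


end Groth.Agent.S14573
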