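import Groth.Statements.S14576
import Groth.Agent.AntiAffLib.Kernel
import Groth.Agent.AntiAffLib.OpenSub
-- import your own Groth.Agent.* helpers here

set_option autoImplicit false
set_option backward.isDefEq.respectTransparency false
set_option linter.style.haveILetI false
universe u
open CategoryTheory MonoidalCategory CartesianMonoidalCategory MonObj GrpObj AlgebraicGeometry CategoryTheory.Limits
open AlgGrp

namespace Groth.Agent.S14576

/-- Let k be a field and G a k-group scheme of finite type acting on an affine k-scheme X. If the action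
is faithful, in the sense that for every k-scheme T a T-valued point of G acting as the identity on
X_T is the unit, then G is affine. -/
theorem result (k : Type u) [Field k]
    (G X : Over (Spec (CommRingCat.of k))) [GrpObj G] [LocallyOfFiniteType G.hom] [QuasiCompact G.hom] [IsAffine X.left]
    (a : AlgGrp.Action G X)
    (hf : ∀ (T : Over (Spec (CommRingCat.of k))) (g : T ⟶ G),
      (∀ (T' : Over (Spec (CommRingCat.of k))) (t : T' ⟶ T) (x : T' ⟶ X), lift (t ≫ g) x ≫ a.act = x) → g = 1) :
    IsAffine G.left := by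
  haveI : IsAffineHom X.hom := isAffineHom_of_isAffine _
  let M := AntiAffLib.ker G
  let inc := AntiAffLib.kerIncl G
  haveI : AntiAffLib.IsΓIso (snd M X) := by
    haveI : QuasiCompact (𝟙_ (Over (Spec (CommRingCat.of k)))).hom := inferInstanceAs (QuasiCompact (𝟙 _))
    haveI : QuasiSeparated (𝟙_ (Over (Spec (CommRingCat.of k)))).hom := inferInstanceAs (QuasiSeparated (𝟙 _))
    have h := AntiAffLib.isΓIso_comp (toUnit M ⊗ₘ 𝟙 X) (λ_ X).hom (AntiAffLib.isΓIso_tensor _ _) inferInstance
    rwa [show (toUnit M ⊗ₘ 𝟙 X) ≫ (λ_ X).hom = snd M X by rw [CartesianMonoidalCategory.leftUnitor_hom, tensorHom_snd, Category.comp_id]] at h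
  obtain ⟨g, hg⟩ := AntiAffLib.exists_desc (snd M X) ((inc ▷ X) ≫ a.act)
  have hg1 : g = 𝟙 X := by
    have e := congrArg (lift (toUnit X ≫ η[M]) (𝟙 X) ≫ ·) hg
    simp only [lift_snd_assoc, Category.id_comp, lift_whiskerRight_assoc] at e
    rw [e, Category.assoc, IsMonHom.one_hom]
    have : lift (toUnit X ≫ η[G]) (𝟙 X) = (λ_ X).inv ≫ (η[G] ▷ X) := by
      rw [← cancel_epi (λ_ X).hom]
      apply CartesianMonoidalCategory.hom_ext <;> simp [CartesianMonoidalCategory.leftUnitor_hom, toUnit_unique (toUnit (𝟙_ (Over (Spec (CommRingCat.of k))) ⊗ X)) (fst _ _)]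
    rw [this, Category.assoc, a.one_act, Iso.inv_hom_id]
  have hinc : inc = 1 := hf M inc fun T' t x => by
    have e := congrArg (lift t x ≫ ·) hg
    simp only [lift_snd_assoc, hg1, Category.comp_id, lift_whiskerRight_assoc] at e
    rw [← e, lift_snd]
  haveI : Mono (AntiAffLib.toHull G) := ⟨fun {T} u v huv => by
    obtain ⟨l, hl⟩ := AntiAffLib.exists_lift G (u * v⁻¹)
      (by rw [MonObj.mul_comp, GrpObj.inv_comp, huv, mul_inv_cancel])
    rw [show AntiAffLib.kerIncl G = 1 from hinc, MonObj.comp_one] at hl
    exact mul_inv_eq_one.1 hl.symm⟩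
  haveI : Flat G.hom := Groth.Agent.GrpField.flat_field _
  haveI : Flat (AntiAffLib.hull G).hom := Groth.Agent.GrpField.flat_field _
  haveI : CompactSpace G.left := QuasiCompact.compactSpace_of_compactSpace G.hom
  haveI : QuasiCompact (AntiAffLib.toHull G).left := by
    haveI : QuasiCompact ((AntiAffLib.toHull G).left ≫ (AntiAffLib.hull G).hom) := by rw [Over.w]; infer_instance
    exact QuasiCompact.of_comp _ (AntiAffLib.hull G).hom
  haveI := Groth.Agent.GrpHom.isClosedImmersion_of_mono_artinian (AntiAffLib.toHull G)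
  exact isAffine_of_isAffineHom (AntiAffLib.toHull G).left
end Groth.Agent.S14576
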