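import Groth.Statements.S1458
import Mathlib

-- import your own Groth.Agent.* helpers here

set_option autoImplicit false
universe u
open FlatMor

namespace Groth.Agent.S1458
open scoped TensorProduct

theorem ker_tensor {A B A' : Type u} [CommRing A] [AddCommGroup B] [Module A B] [CommRing A'] [Algebra A A']
    {n m : ℕ} (π : (Fin n → A) →ₗ[A] B) (hπ : Function.Surjective π) (rel : Fin m → Fin n → A)
    (hker : LinearMap.ker π = Submodule.span A (Set.range rel)) :
    (∀ e : B ⊗[A] A', ∃ v : Fin n → A', e = ∑ k, π (Pi.single k 1) ⊗ₜ[A] v k) ∧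
      ∀ v : Fin n → A', ∑ k, π (Pi.single k 1) ⊗ₜ[A] v k = 0 →
        ∃ d : Fin m → A', ∀ k, v k = ∑ l, algebraMap A A' (rel l k) * d l := by
  classical
  have hsum : ∀ c : Fin n → A, c = ∑ k, c k • (Pi.single k (1 : A) : Fin n → A) := fun c => by
    funext j; simp [Finset.sum_apply, Pi.single_apply]
  constructor
  · intro e
    induction e using TensorProduct.induction_on with
    | zero => exact ⟨0, by simp⟩
    | tmul b a =>
      obtain ⟨c, rfl⟩ := hπ b
      refine ⟨fun k => c k • a, ?_⟩
      conv_lhs => rw [hsum c, map_sum, TensorProduct.sum_tmul]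
      refine Finset.sum_congr rfl fun k _ => ?_
      rw [map_smul, TensorProduct.smul_tmul]
    | add x y hx hy =>
      obtain ⟨v, rfl⟩ := hx; obtain ⟨w, rfl⟩ := hy
      exact ⟨v + w, by simp [TensorProduct.tmul_add, Finset.sum_add_distrib]⟩
  · intro v hv
    let g : (Fin m → A) →ₗ[A] (Fin n → A) := ∑ l, (LinearMap.proj l).smulRight (rel l)
    have hg : ∀ c, g c = ∑ l, c l • rel l := fun c => by simp [g]
    have hex : Function.Exact g π := by
      rw [LinearMap.exact_iff, hker]
      ext x
      rw [Submodule.mem_span_range_iff_exists_fun, LinearMap.mem_range]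
      simp [hg]
    let z : (Fin n → A) ⊗[A] A' := ∑ k, (Pi.single k (1 : A) : Fin n → A) ⊗ₜ[A] v k
    have hz : π.rTensor A' z = 0 := by simpa [z] using hv
    obtain ⟨y, hy⟩ := (rTensor_exact A' hex hπ z).1 hz
    let ev : Fin n → ((Fin n → A) ⊗[A] A' →ₗ[A] A') := fun k =>
      (TensorProduct.lid A A').toLinearMap ∘ₗ (LinearMap.proj k).rTensor A'
    have hev : ∀ k c (a : A'), ev k (c ⊗ₜ[A] a) = c k • a := fun k c a => by simp [ev]
    have hyl : ∃ d : Fin m → A', ∀ k, ev k (g.rTensor A' y) = ∑ l, algebraMap A A' (rel l k) * d l := by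
      clear hy
      induction y using TensorProduct.induction_on with
      | zero => exact ⟨0, fun k => by simp⟩
      | tmul c a =>
        refine ⟨fun l => c l • a, fun k => ?_⟩
        rw [LinearMap.rTensor_tmul, hev, hg, Finset.sum_apply, Finset.sum_smul]
        refine Finset.sum_congr rfl fun l _ => ?_
        rw [Pi.smul_apply, smul_eq_mul, Algebra.smul_def]
        show algebraMap A A' (c l * rel l k) * a = algebraMap A A' (rel l k) * (c l • a)
        rw [Algebra.smul_def, map_mul]; ring
      | add x y hx hy =>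
        obtain ⟨d, hd⟩ := hx; obtain ⟨d', hd'⟩ := hy
        exact ⟨d + d', fun k => by simp [hd, hd', mul_add, Finset.sum_add_distrib]⟩
    obtain ⟨d, hd⟩ := hyl
    refine ⟨d, fun k => ?_⟩
    rw [← hd, hy]
    simp [z, hev, Pi.single_apply]


open TensorProduct in
/-- Let A → B be a finite ring map of finite presentation. Then there are a finitely presented A-algebra
A_u and an idempotent e_u of B ⊗_A A_u such that for every A-algebra A' and every idempotent e of B
⊗_A A' there is an A-algebra map A_u → A' whose induced map B ⊗ A_u → B ⊗ A' sends e_u to e. -/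
theorem result {A B : Type u} [CommRing A] [CommRing B] [Algebra A B] [Module.Finite A B] [Algebra.FinitePresentation A B] :
    ∃ (Au : Type u) (_ : CommRing Au) (_ : Algebra A Au) (eu : B ⊗[A] Au), Algebra.FinitePresentation A Au ∧ IsIdempotentElem eu ∧
      ∀ (A' : Type u) [CommRing A'] [Algebra A A'] (e : B ⊗[A] A'), IsIdempotentElem e →
        ∃ φ : Au →ₐ[A] A', Algebra.TensorProduct.map (AlgHom.id A B) φ eu = e := by
  classical
  have : Module.FinitePresentation A B := Module.FinitePresentation.of_finite_of_finitePresentation A B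
  obtain ⟨n, π, hπ⟩ := Module.Finite.exists_fin' A B
  obtain ⟨m, rel, hrel⟩ := Submodule.fg_iff_exists_fin_generating_family.1 (Module.FinitePresentation.fg_ker π hπ)
  let b : Fin n → B := fun k => π (Pi.single k 1)
  choose μ hμ using fun i j => hπ (b i * b j)
  have hμ' : ∀ i j, b i * b j = ∑ k, μ i j k • b k := by
    intro i j
    rw [← hμ]
    conv_lhs => rw [show μ i j = ∑ k, μ i j k • (Pi.single k (1 : A) : Fin n → A) from by
      funext l; simp [Finset.sum_apply, Pi.single_apply]]
    simp [b]
  have key : ∀ (A' : Type u) [CommRing A'] [Algebra A A'] (c : Fin n → A'),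
      (∑ i, b i ⊗ₜ[A] c i) * (∑ j, b j ⊗ₜ[A] c j) - ∑ k, b k ⊗ₜ[A] c k
        = ∑ k, b k ⊗ₜ[A] ((∑ i, ∑ j, algebraMap A A' (μ i j k) * (c i * c j)) - c k) := by
    intro A' _ _ c
    simp only [TensorProduct.tmul_sub, Finset.sum_sub_distrib]
    congr 1
    simp only [Finset.sum_mul, Finset.mul_sum, Algebra.TensorProduct.tmul_mul_tmul, hμ', TensorProduct.sum_tmul, TensorProduct.tmul_sum]
    rw [Finset.sum_comm]
    symm
    rw [Finset.sum_comm]
    refine Finset.sum_congr rfl fun j _ => ?_
    rw [Finset.sum_comm]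
    refine Finset.sum_congr rfl fun i _ => Finset.sum_congr rfl fun k _ => ?_
    rw [TensorProduct.smul_tmul, Algebra.smul_def]
  let P := MvPolynomial (Fin n ⊕ Fin m) A
  let q : Fin n → P := fun k =>
    (∑ i, ∑ j, algebraMap A P (μ i j k) * (MvPolynomial.X (Sum.inl i) * MvPolynomial.X (Sum.inl j))) - MvPolynomial.X (Sum.inl k)
      - ∑ l, algebraMap A P (rel l k) * MvPolynomial.X (Sum.inr l)
  let I : Ideal P := Ideal.span (Set.range q)
  have hI : I.FG := ⟨Finset.univ.image q, by simp [I]⟩
  have : Algebra.FinitePresentation A (P ⧸ I) := Algebra.FinitePresentation.quotient hI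
  let c : Fin n → P ⧸ I := fun k => Ideal.Quotient.mkₐ A I (MvPolynomial.X (Sum.inl k))
  let d : Fin m → P ⧸ I := fun l => Ideal.Quotient.mkₐ A I (MvPolynomial.X (Sum.inr l))
  have hc : ∀ k, (∑ i, ∑ j, algebraMap A (P ⧸ I) (μ i j k) * (c i * c j)) - c k = ∑ l, algebraMap A (P ⧸ I) (rel l k) * d l := by
    intro k
    have h0 : Ideal.Quotient.mkₐ A I (q k) = 0 :=
      Ideal.Quotient.eq_zero_iff_mem.2 (Ideal.subset_span ⟨k, rfl⟩)
    simp only [q, map_sub, map_sum, map_mul, AlgHom.commutes] at h0
    exact sub_eq_zero.1 h0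
  refine ⟨P ⧸ I, inferInstance, inferInstance, ∑ k, b k ⊗ₜ[A] c k, inferInstance, ?_, ?_⟩
  · rw [IsIdempotentElem, ← sub_eq_zero, key]
    simp only [hc, TensorProduct.tmul_sum]
    rw [Finset.sum_comm]
    refine Finset.sum_eq_zero fun l _ => ?_
    have h0 : π (rel l) = 0 := by
      rw [← LinearMap.mem_ker, ← hrel]; exact Submodule.subset_span ⟨l, rfl⟩
    calc ∑ k, b k ⊗ₜ[A] (algebraMap A (P ⧸ I) (rel l k) * d l)
        = ∑ k, (rel l k • b k) ⊗ₜ[A] d l := Finset.sum_congr rfl fun k _ => by
          rw [TensorProduct.smul_tmul]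
          exact congrArg (b k ⊗ₜ[A] ·) (Algebra.smul_def _ _).symm
      _ = 0 := by
          rw [← TensorProduct.sum_tmul]
          have : ∑ k, rel l k • b k = 0 := by
            rw [← h0]
            conv_rhs => rw [show rel l = ∑ k, rel l k • (Pi.single k (1 : A) : Fin n → A) from by
              funext i; simp [Finset.sum_apply, Pi.single_apply]]
            simp [b]
          rw [this, TensorProduct.zero_tmul]
  · intro A' _ _ e he
    obtain ⟨hsurj, hker⟩ := ker_tensor (A' := A') π hπ rel hrel.symm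
    obtain ⟨v, rfl⟩ := hsurj e
    have h0 := key A' v
    rw [he.eq, sub_self] at h0
    obtain ⟨w, hw⟩ := hker _ h0.symm
    let f : P →ₐ[A] A' := MvPolynomial.aeval (Sum.elim v w)
    have hf : ∀ a ∈ I, f a = 0 := by
      intro a ha
      refine (Ideal.span_le (I := RingHom.ker f.toRingHom)).2 ?_ ha
      rintro _ ⟨k, rfl⟩
      show f (q k) = 0
      simp only [q, f, map_sub, map_sum, map_mul, AlgHom.commutes]
      simp only [P, MvPolynomial.aeval_X, Sum.elim_inl, Sum.elim_inr]
      exact sub_eq_zero.2 (hw k)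
    refine ⟨Ideal.Quotient.liftₐ I f hf, ?_⟩
    simp only [map_sum, Algebra.TensorProduct.map_tmul, AlgHom.id_apply]
    refine Finset.sum_congr rfl fun k _ => ?_
    congr 1
    show f (MvPolynomial.X (Sum.inl k)) = v k
    exact MvPolynomial.aeval_X (Sum.elim v w) (Sum.inl k)

end Groth.Agent.S1458
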