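import Groth.Statements.S14580
import Groth.Agent.AntiAffLib.Kernel
-- import your own Groth.Agent.* helpers here

set_option autoImplicit false
universe u
open CategoryTheory MonoidalCategory CartesianMonoidalCategory MonObj GrpObj AlgebraicGeometry CategoryTheory.Limits
open AlgGrp CategoryTheory.Limits
set_option backward.isDefEq.respectTransparency false
set_option linter.style.haveILetI false

namespace Groth.Agent.S14580

/-- Let k be a field, G a proper k-group scheme of finite type and N ⊆ G the kernel of the affinization
morphism G → Spec O(G), i.e. the fibre over the image of the unit section (the largest anti-affine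
subgroup scheme of G). Then the image of N in G is the connected component of the identity: as N is
smooth, N is the reduced neutral component G⁰_red, which is therefore a smooth connected algebraic
group. -/
theorem result (k : Type u) [Field k]
    (G : Over (Spec (CommRingCat.of k))) [GrpObj G] [IsProper G.hom] (t : ↥((𝟙_ (Over (Spec (CommRingCat.of k)))).left)) :
    Set.range ⇑(pullback.fst G.left.toSpecΓ (η[G].left ≫ G.left.toSpecΓ)).base = connectedComponent ((η[G]).left.base t) := by
  haveI : QuasiCompact G.hom := inferInstance
  haveI : LocallyOfFiniteType G.hom := inferInstance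
  haveI : Subsingleton ↥(𝟙_ (Over (Spec (CommRingCat.of k)))).left := inferInstanceAs (Subsingleton (PrimeSpectrum k))
  haveI : IsSeparated (AntiAffLib.hull G).hom := by
    haveI : IsAffineHom (AntiAffLib.hull G).hom := isAffineHom_of_isAffine _
    infer_instance
  haveI : IsProper (AntiAffLib.hull G).hom := by
    haveI : UniversallyClosed ((AntiAffLib.toHull G).left ≫ (AntiAffLib.hull G).hom) := by
      rw [Over.w (AntiAffLib.toHull G)]; infer_instance
    haveI : UniversallyClosed (AntiAffLib.hull G).hom :=
      UniversallyClosed.of_comp_surjective (AntiAffLib.toHull G).left _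
    exact {}
  haveI : IsFinite (AntiAffLib.hull G).hom := by
    haveI : IsAffineHom (AntiAffLib.hull G).hom := isAffineHom_of_isAffine _
    exact IsFinite.iff_isProper_and_isAffineHom.2 ⟨inferInstance, inferInstance⟩
  haveI : Finite ↥(AntiAffLib.hull G).left := by
    have h := (AntiAffLib.hull G).hom.finite_preimage_singleton (IsLocalRing.closedPoint k)
    rw [show (AntiAffLib.hull G).hom.base ⁻¹' {IsLocalRing.closedPoint k} = Set.univ from
      Set.eq_univ_of_forall fun x => @Subsingleton.elim (PrimeSpectrum k) _ _ _] at h
    exact Set.finite_univ_iff.1 h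
  haveI : JacobsonSpace ↥(AntiAffLib.hull G).left := LocallyOfFiniteType.jacobsonSpace (AntiAffLib.hull G).hom
  haveI : DiscreteTopology ↥(AntiAffLib.hull G).left := inferInstance
  have hr : Set.range ⇑(pullback.fst G.left.toSpecΓ (η[G].left ≫ G.left.toSpecΓ)).base =
      (AntiAffLib.toHull G).left ⁻¹' {(AntiAffLib.toHull G).left (η[G].left t)} := by
    rw [Scheme.Pullback.range_fst]
    ext x
    constructor
    · rintro ⟨z, hz⟩
      show G.left.toSpecΓ x = G.left.toSpecΓ (η[G].left t)
      rw [← hz, Subsingleton.elim z t]
      rfl
    · exact fun hx => ⟨t, (Set.mem_singleton_iff.1 hx).symm⟩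
  refine subset_antisymm ?_ ?_
  · haveI := AntiAffLib.connectedSpace_of_antiAff (AntiAffLib.ker G)
    let e : AntiAffLib.ker G ⟶ G := AntiAffLib.kerIncl G
    have hk : Set.range e.left = (AntiAffLib.toHull G).left ⁻¹' {(AntiAffLib.toHull G).left (η[G].left t)} := by
      have sq := (IsPullback.of_hasPullback (AntiAffLib.toHull G)
        (η[AntiAffLib.hull G] : 𝟙_ (Over (Spec (CommRingCat.of k))) ⟶ AntiAffLib.hull G)).map (Over.forget _)
      have h1 : ∀ z, (η[AntiAffLib.hull G]).left z = (AntiAffLib.toHull G).left (η[G].left z) := fun z => rfl
      ext x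
      constructor
      · rintro ⟨w, rfl⟩
        have := congr($(sq.w) w)
        refine this.trans ?_
        rw [show t = ((Over.forget _).map (pullback.snd (AntiAffLib.toHull G) η[AntiAffLib.hull G])) w from Subsingleton.elim _ _]
        rfl
      · intro hx
        obtain ⟨w, hw, -⟩ := Scheme.exists_preimage_of_isPullback sq x t hx
        exact ⟨w, hw⟩
    rw [hr, ← hk]
    exact (_root_.isPreconnected_range e.left.continuous).subset_connectedComponent (by rw [hk]; rfl)
  · rw [hr]
    intro x hx
    have hc := (_root_.isPreconnected_connectedComponent (x := η[G].left t)).image (AntiAffLib.toHull G).left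
      (AntiAffLib.toHull G).left.continuous.continuousOn
    exact hc.subsingleton ⟨x, hx, rfl⟩ ⟨_, mem_connectedComponent, rfl⟩
end Groth.Agent.S14580
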