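import Groth.Statements.S14581
import Groth.Agent.AlbNormLib.Min
-- import your own Groth.Agent.* helpers here

set_option autoImplicit false
set_option backward.isDefEq.respectTransparency false
set_option linter.style.haveILetI false
universe u
open CategoryTheory MonoidalCategory CartesianMonoidalCategory MonObj GrpObj AlgebraicGeometry CategoryTheory.Limits
open AlgGrp

namespace Groth.Agent.S14581

/-- Smallest normal with proper quotient: let k be a field and G a k-group scheme of finite type. Then G
has a smallest normal subgroup scheme N with proper quotient: there are a closed normal subgroup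
scheme i : N → G and a flat surjective homomorphism q : G → Q of k-group schemes of finite type with
kernel N and Q proper over k, such that for every flat surjective homomorphism q' : G → Q' onto a
proper k-group scheme of finite type the composite N → G → Q' is trivial. Moreover N is affine and
connected. No smoothness and no hypothesis on k are assumed. -/
theorem result (k : Type u) [Field k]
    (G : Over (Spec (CommRingCat.of k))) [GrpObj G] [LocallyOfFiniteType G.hom] [QuasiCompact G.hom] :
    ∃ (N : Over (Spec (CommRingCat.of k))) (_ : GrpObj N) (i : N ⟶ G), IsMonHom i ∧ IsClosedImmersion i.left ∧ AlgGrp.IsNormalHom i ∧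
      IsAffine N.left ∧ ConnectedSpace ↥N.left ∧
      (∃ (Q : Over (Spec (CommRingCat.of k))) (_ : GrpObj Q) (q : G ⟶ Q),
        IsMonHom q ∧ Surjective q.left ∧ Flat q.left ∧ AlgGrp.IsKernel i q ∧ IsProper Q.hom) ∧
      ∀ (Q' : Over (Spec (CommRingCat.of k))) [GrpObj Q'] [IsProper Q'.hom]
        (q' : G ⟶ Q') [IsMonHom q'] [Surjective q'.left] [Flat q'.left], i ≫ q' = 1 := by
  obtain ⟨N, _, i, _, hci, hn, ⟨B, _, f, _, hB, hk⟩, hmin⟩ := AlbNormLib.exists_min_kernel G
  haveI := hci
  haveI := hB
  obtain ⟨B', _, f', _, hB', hK⟩ := AlbNormLib.exists_affineKer_map' G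
  haveI := hB'
  haveI : IsAffine N.left := hK N i hci (hmin B' f')
  haveI : Flat G.hom := Groth.Agent.GrpField.flat_field _
  haveI : CompactSpace G.left := QuasiCompact.compactSpace_of_compactSpace G.hom
  haveI : QuasiCompact f.left := by
    haveI : QuasiCompact (f.left ≫ B.hom) := by rw [Over.w f]; infer_instance
    exact QuasiCompact.of_comp f.left B.hom
  obtain ⟨C, _, p, c, _, _, hpc, hpf, hps, _, hc⟩ :=
    Groth.Agent.GrpHom.exists_fppf_image f (Groth.Agent.GrpField.flat_field _)
  haveI := hc; haveI := hpf; haveI := hps
  haveI : IsProper C.hom := by rw [← Over.w c]; infer_instance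
  haveI : Mono c := Over.mono_of_mono_left c
  haveI : Mono i := Over.mono_of_mono_left i
  have hkp : AlgGrp.IsKernel i p := by
    refine AntiAffLib.isKernel_of_forall i p ?_ fun T t ht => ?_
    · rw [← cancel_mono c, Category.assoc, hpc, MonObj.one_comp, AntiAffLib.kernel_comp hk]
    · exact AntiAffLib.exists_lift_kernel hk t (by rw [← hpc, ← Category.assoc, ht, MonObj.one_comp])
  haveI : Mono i := Over.mono_of_mono_left i
  haveI : ConnectedSpace N.left := AlbNormLib.connectedSpace_min' i hn p hkp hmin
  exact ⟨N, inferInstance, i, inferInstance, hci, hn, inferInstance, inferInstance,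
    ⟨C, inferInstance, p, inferInstance, hps, hpf, hkp, inferInstance⟩, fun Q' _ _ q' _ _ _ => hmin Q' q'⟩
end Groth.Agent.S14581
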