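import Groth.Statements.S14583
import Groth.Agent.FrobDescLib.Sub

set_option autoImplicit false
set_option backward.isDefEq.respectTransparency false
set_option backward.isDefEq.respectTransparency.types false
set_option maxHeartbeats 1000000
set_option synthInstance.maxHeartbeats 400000
universe u
open CategoryTheory MonoidalCategory CartesianMonoidalCategory MonObj GrpObj AlgebraicGeometry CategoryTheory.Limits
open AlgGrp

namespace Groth.Agent.S14583

/-- Let k ⊆ K be a finite purely inseparable field extension, G a k-group scheme of finite type and h' :
H' → G_K a closed subgroup scheme of the base change of G to K. Then there is a closed subgroup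
scheme h : H → G over k such that H' factors through the base change H_K → G_K by a morphism H' →
H_K which is surjective. (The published statement concludes that H' ⊆ H_K with H_K/H' finite; the
subgroup H produced by its proof, a Frobenius pull-back, has H_K with the same underlying space as
H', which is the form stated here.) -/
theorem result (k K : Type u) [Field k] [Field K] [Algebra k K]
    [Module.Finite k K] [IsPurelyInseparable k K]
    (G : Over (Spec (CommRingCat.of k))) [GrpObj G] [LocallyOfFiniteType G.hom] [QuasiCompact G.hom]
    (H' : Over (Spec (CommRingCat.of K))) [GrpObj H']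
    (h' : H' ⟶ Red.bc (Spec.map (CommRingCat.ofHom (algebraMap k K))) G) [IsMonHom h'] [IsClosedImmersion h'.left] :
    ∃ (H : Over (Spec (CommRingCat.of k))) (_ : GrpObj H) (h : H ⟶ G), IsMonHom h ∧ IsClosedImmersion h.left ∧
      ∃ g : H' ⟶ Red.bc (Spec.map (CommRingCat.ofHom (algebraMap k K))) H, g ≫ (Over.pullback (Spec.map (CommRingCat.ofHom (algebraMap k K)))).map h = h' ∧ Surjective g.left := by
  obtain ⟨τ, ⟨D⟩⟩ := FrobDesc.exists_data k K
  haveI : UniversallyInjective (Spec.map (CommRingCat.ofHom (algebraMap k K))) :=
    ((tfae_universallyInjective (Spec.map (CommRingCat.ofHom (algebraMap k K)))).out 1 0).1 (by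
      intro L _ g₁ g₂ hg
      obtain ⟨σ₁, rfl⟩ := Spec.map_surjective g₁
      obtain ⟨σ₂, rfl⟩ := Spec.map_surjective g₂
      simp only [← Spec.map_comp] at hg
      have h := congrArg CommRingCat.Hom.hom (Spec.map_injective hg)
      congr 1
      exact CommRingCat.hom_ext (IsPurelyInseparable.injective_comp_algebraMap k K L h))
  exact FrobDesc.exists_descend D G H' h'

end Groth.Agent.S14583
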