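import Groth.Statements.S14585
import Groth.Agent.A1AVLib.Main
import Groth.Agent.SemiAbLib.Lines
import Groth.Agent.SemiAbLib.Stability
import Groth.Agent.ChevThmLib.GAffQuot
import Groth.Agent.ChevThmLib.Chevalley
import Groth.Agent.BorelLib.RedUnip
import Groth.Agent.AlbNormLib.Rosen
import Groth.Agent.S8061
-- import your own Groth.Agent.* helpers here

set_option autoImplicit false
universe u
open CategoryTheory MonoidalCategory CartesianMonoidalCategory MonObj GrpObj AlgebraicGeometry CategoryTheory.Limits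
open AlgGrp

namespace Groth.Agent.S14585

section
open CoactBr (sp)
open Groth.Agent.BorelLib (IsUni ptsSub ptEquiv Pt)

attribute [-instance] CategoryTheory.Hom.commGroup
attribute [local instance] BorelLib.pTop BorelLib.pTopTensor

set_option backward.isDefEq.respectTransparency false
set_option linter.style.haveILetI false
set_option maxHeartbeats 1000000

variable {k : Type u} [Field k] [IsAlgClosed k]

/-- Constancy of all lines kills the unipotent subgroups. -/
theorem trivial_of_lines {G : Over (Spec (CommRingCat.of k))} [GrpObj G]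
    (hl : ∀ f : A1AVLib.aff k PUnit.{u + 1} ⟶ G, ∃ g : 𝟙_ (Over (Spec (CommRingCat.of k))) ⟶ G, f = toUnit _ ≫ g)
    {U : Over (Spec (CommRingCat.of k))} [GrpObj U] (i : U ⟶ G) [IsMonHom i] [Mono i] [IsAffine U.left]
    [Smooth U.hom] [ConnectedSpace U.left] (hno : Red.HasNoSubtorus k U) : Red.IsTrivialGrp U := by
  obtain ⟨A, _, _, v, hv, hA, -⟩ := BorelLib.exists_setup U
  haveI := hv; haveI := hA
  haveI : QuasiCompact U.hom := inferInstance
  haveI : IsClosedImmersion (𝟙 U : U ⟶ U).left := inferInstanceAs (IsClosedImmersion (𝟙 U.left))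
  have hu := BorelLib.uni_of_hasNoSubtorus v (𝟙 U) hno
  rw [BorelLib.ptsSub_id] at hu
  by_cases hbot : (⊤ : Subgroup (Pt k A)) = ⊥
  · refine ChevThmLib.isIso_of_finite_points ((Set.finite_singleton 1).subset fun a _ => ?_)
    have h1 : (ptEquiv v).symm a ∈ (⊥ : Subgroup (Pt k A)) := hbot ▸ Subgroup.mem_top _
    rw [Subgroup.mem_bot] at h1
    exact Set.mem_singleton_iff.2 ((ptEquiv v).symm.injective (h1.trans (map_one _).symm))
  · exfalso
    have hKc : IsClosed ((⊤ : Subgroup (Pt k A)) : Set (Pt k A)) := by rw [Subgroup.coe_top]; exact isClosed_univ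
    have hK : _root_.IsPreconnected ((⊤ : Subgroup (Pt k A)) : Set (Pt k A)) := by
      rw [Subgroup.coe_top]; exact BorelLib.isPreconnected_univ_of_connected v
    obtain ⟨n, -, hDne, hDp, -, hDcomm⟩ := BorelLib.exists_comm_normal hKc hK (fun _ => le_top)
      (BorelLib.isSol_of_uni hKc hK hu) hbot
    obtain ⟨C, _, j, hj, hjc, hjs, hpts, hCc, -⟩ := BorelLib.exists_scheme_sub v (BorelLib.isClosed_clSub _)
    haveI := hj; haveI := hjc; haveI := hjs
    haveI := hCc hDp
    haveI : Mono j := Over.mono_of_mono_left j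
    haveI : IsAffine C.left := isAffine_of_isAffineHom j.left
    haveI : IsCommMonObj C := AlbNormLib.isCommMonObj_of_points C fun a b => by
      rw [← cancel_mono j, MonObj.mul_comp, MonObj.mul_comp]
      refine (ptEquiv v).symm.injective ?_
      rw [map_mul, map_mul]
      exact hDcomm _ (hpts ▸ ⟨a, ((ptEquiv v).apply_symm_apply _).symm⟩) _
        (hpts ▸ ⟨b, ((ptEquiv v).apply_symm_apply _).symm⟩)
    rcases SemiAbLib.isTorus_or_exists_ga C with hT | ⟨a, ha, hac⟩
    · exact hDne (hpts ▸ BorelLib.ptsSub_of_trivial v (hno C j hT))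
    · haveI := ha; haveI := hac
      haveI : Mono a := Over.mono_of_mono_left a
      let c : A1AVLib.aff k PUnit.{u + 1} ⟶ Red.Ga (Spec (CommRingCat.of k)) :=
        GaPts.ptOf (A1AVLib.val (𝟙 _) PUnit.unit)
      obtain ⟨g, hg⟩ := hl (c ≫ a ≫ j ≫ i)
      haveI := SemiAbLib.infinite_ga_points (k := k)
      obtain ⟨p, p', hpp⟩ := exists_pair_ne (𝟙_ (Over (Spec (CommRingCat.of k))) ⟶ Red.Ga (Spec (CommRingCat.of k)))
      have key : ∀ p : 𝟙_ (Over (Spec (CommRingCat.of k))) ⟶ Red.Ga (Spec (CommRingCat.of k)),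
          p ≫ a ≫ j ≫ i = g := fun p => by
        let z : 𝟙_ (Over (Spec (CommRingCat.of k))) ⟶ A1AVLib.aff k PUnit.{u + 1} := A1AVLib.mkT fun _ => Red.gaFn p
        have hz : z ≫ c = p := by
          refine GaPts.gaFn_injective ?_
          show Red.gaFn (z ≫ c) = Red.gaFn p
          rw [GaPts.gaFn_comp, GaPts.gaFn_ptOf, ← congrFun (A1AVLib.val_comp z (𝟙 _)) PUnit.unit, Category.comp_id]
          exact congrFun (A1AVLib.val_mkT _) PUnit.unit
        rw [← hz, Category.assoc, hg, ← Category.assoc, toUnit_unique (z ≫ toUnit _) (𝟙 _), Category.id_comp]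
      exact hpp (by rw [← cancel_mono (a ≫ j ≫ i), key, key])

/-- Lines in semi-abelian varieties are constant. -/
theorem lines_of_semiAb {G : Over (Spec (CommRingCat.of k))} [GrpObj G]
    {T A : Over (Spec (CommRingCat.of k))} [GrpObj T] [GrpObj A] (i : T ⟶ G) [IsMonHom i] (hT : Red.IsTorus T)
    (q : G ⟶ A) [IsMonHom q] (hker : AlgGrp.IsKernel i q) [IsProper A.hom] [Smooth A.hom] [ConnectedSpace ↥A.left]
    (f : A1AVLib.aff k PUnit.{u + 1} ⟶ G) : ∃ g : 𝟙_ (Over (Spec (CommRingCat.of k))) ⟶ G, f = toUnit _ ≫ g := by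
  let X := A1AVLib.aff k PUnit.{u + 1}
  let z : 𝟙_ (Over (Spec (CommRingCat.of k))) ⟶ X := A1AVLib.mkT fun _ => 0
  let f' : X ⟶ G := f * (toUnit X ≫ z ≫ f)⁻¹
  have h0 : z ≫ f' = 1 := by
    show z ≫ (f * (toUnit X ≫ z ≫ f)⁻¹) = 1
    rw [MonObj.comp_mul, GrpObj.comp_inv, ← Category.assoc z (toUnit X), toUnit_unique (z ≫ toUnit X) (𝟙 _),
      Category.id_comp, mul_inv_cancel]
  have hq : f' ≫ q = 1 := by
    rw [A1AVLib.eq_const (f' ≫ q), ← Category.assoc z f', h0, MonObj.one_comp, MonObj.comp_one]
  obtain ⟨l, hl⟩ := AntiAffLib.exists_lift_kernel hker f' hq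
  let C : Type u := MvPolynomial PUnit.{u + 1} k
  let e : sp k C ⟶ X := Over.homMk (AffineSpace.SpecIso PUnit.{u + 1} (CommRingCat.of k)).inv
    (AffineSpace.SpecIso_inv_over (CommRingCat.of k))
  haveI : IsIso e.left := inferInstanceAs (IsIso (AffineSpace.SpecIso PUnit.{u + 1} (CommRingCat.of k)).inv)
  haveI : IsIso ((Over.forget _).map e) := ‹IsIso e.left›
  haveI : IsIso e := isIso_of_reflects_iso e (Over.forget _)
  obtain ⟨g, hg⟩ := SemiAbLib.torus_const hT (C := C) (fun u hu => by
    obtain ⟨-, h1⟩ := MvPolynomial.isUnit_iff.1 hu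
    refine ⟨u.coeff 0, MvPolynomial.ext _ _ fun m => ?_⟩
    classical
    rw [MvPolynomial.algebraMap_eq, MvPolynomial.coeff_C]
    split_ifs with h
    · rw [← h]
    · exact ((h1 m (Ne.symm h)).eq_zero).symm) (MvPolynomial.aeval fun _ => 0) (e ≫ l)
  refine ⟨(g ≫ i) * (z ≫ f), ?_⟩
  have h1 : f' = toUnit X ≫ g ≫ i := by
    rw [← hl, ← cancel_epi e, ← Category.assoc, hg, Category.assoc, ← Category.assoc e (toUnit X),
      toUnit_unique (e ≫ toUnit X) (toUnit _)]
  rw [MonObj.comp_mul, ← h1, inv_mul_cancel_right]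

theorem main (G : Over (Spec (CommRingCat.of k))) [GrpObj G] [Smooth G.hom] [QuasiCompact G.hom]
    [ConnectedSpace ↥G.left] :
    (∃ (T : Over (Spec (CommRingCat.of k))) (_ : GrpObj T) (i : T ⟶ G) (A : Over (Spec (CommRingCat.of k))) (_ : GrpObj A) (q : G ⟶ A),
        IsMonHom i ∧ IsClosedImmersion i.left ∧ Red.IsTorus T ∧ IsMonHom q ∧ Surjective q.left ∧ Flat q.left ∧
        AlgGrp.IsKernel i q ∧ IsProper A.hom ∧ Smooth A.hom ∧ ConnectedSpace ↥A.left) ↔
    ∀ f : Over.mk (𝔸(PUnit.{u + 1}; Spec (CommRingCat.of k)) ↘ Spec (CommRingCat.of k)) ⟶ G, ∃ g : 𝟙_ (Over (Spec (CommRingCat.of k))) ⟶ G, f = toUnit _ ≫ g := by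
  constructor
  · rintro ⟨T, _, i, A, _, q, hi, -, hT, hq, -, -, hker, hAp, hAs, hAc⟩ f
    haveI := hi; haveI := hq; haveI := hAp; haveI := hAs; haveI := hAc
    exact lines_of_semiAb i hT q hker f
  · intro hl
    obtain ⟨N, _, i, hi, hmax⟩ := ChevThmLib.exists_gAff G
    obtain ⟨A, _, q, hqm, hqf, hqs, hker, hAp, hAs, hAc⟩ := ChevThmLib.exists_chevalley i hi hmax
    haveI := hi.hom; haveI := hi.closed; haveI := hi.smooth; haveI := hi.conn; haveI := hi.affine
    have hT : Red.IsTorus N := Groth.Agent.S8061.result k N fun U _ m _ hmc hUs hUc hno => by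
      haveI := hmc; haveI := hUs; haveI := hUc
      haveI : IsAffine U.left := isAffine_of_isAffineHom m.left
      haveI : Mono (m ≫ i).left := by rw [Over.comp_left]; infer_instance
      haveI : Mono (m ≫ i) := Over.mono_of_mono_left _
      exact trivial_of_lines hl (m ≫ i) hno
    exact ⟨N, inferInstance, i, A, inferInstance, q, hi.hom, hi.closed, hT, hqm, hqs, hqf, hker, hAp, hAs, hAc⟩

end

/-- Let k be an algebraically closed field and G a smooth connected k-group scheme of finite type. Then
G is a semi-abelian variety, i.e. an extension of an abelian variety by a torus (there are a closed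
subgroup scheme i : T → G with T a torus and a flat surjective homomorphism q : G → A with kernel T
onto a proper smooth connected k-group scheme), if and only if every k-morphism from the affine line
to G is constant. (The published statement is over a perfect field with constancy asked of morphisms
defined over k only; over the real numbers the group of quaternions of norm one receives only
constant morphisms from the affine line, by comparing leading coefficients in a sum of four squares
equal to 1, yet it is non-commutative, so not such an extension; the published proof uses root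
subgroups, available over an algebraic closure, so k is taken algebraically closed here.) -/
theorem result (k : Type u) [Field k] [IsAlgClosed k]
    (G : Over (Spec (CommRingCat.of k))) [GrpObj G] [Smooth G.hom] [QuasiCompact G.hom] [ConnectedSpace ↥G.left] :
    (∃ (T : Over (Spec (CommRingCat.of k))) (_ : GrpObj T) (i : T ⟶ G) (A : Over (Spec (CommRingCat.of k))) (_ : GrpObj A) (q : G ⟶ A),
        IsMonHom i ∧ IsClosedImmersion i.left ∧ Red.IsTorus T ∧ IsMonHom q ∧ Surjective q.left ∧ Flat q.left ∧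
        AlgGrp.IsKernel i q ∧ IsProper A.hom ∧ Smooth A.hom ∧ ConnectedSpace ↥A.left) ↔
    ∀ f : Over.mk (𝔸(PUnit.{u + 1}; Spec (CommRingCat.of k)) ↘ Spec (CommRingCat.of k)) ⟶ G, ∃ g : 𝟙_ (Over (Spec (CommRingCat.of k))) ⟶ G, f = toUnit _ ≫ g := by
  exact main G

end Groth.Agent.S14585
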