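import Groth.Statements.S14587
import Groth.Agent.S8030
import Groth.Agent.S3278
import Groth.Agent.AntiAffLib.OpenSub
import Groth.Agent.WeilResLib.Transporter

set_option autoImplicit false
set_option backward.isDefEq.respectTransparency false
set_option maxHeartbeats 1000000
universe u
open CategoryTheory MonoidalCategory CartesianMonoidalCategory MonObj GrpObj AlgebraicGeometry CategoryTheory.Limits
open AlgGrp CategoryTheory.Limits

namespace Groth.Agent.S14587

attribute [-instance] CategoryTheory.Hom.commGroup

/-- Let k be a perfect field and G a finite k-group scheme, r : G_red → G its reduced subgroup scheme (a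
homomorphism and closed immersion from a reduced k-group scheme, surjective on underlying spaces)
and i₀ : G⁰ → G its neutral component (a homomorphism and open immersion from a connected k-group
scheme). Then the multiplication morphism G_red × G⁰ → G is an isomorphism, exhibiting G as the
semi-direct product of G⁰ by G_red. -/
theorem result (k : Type u) [Field k] [PerfectField k]
    (G Gr G₀ : Over (Spec (CommRingCat.of k))) [GrpObj G] [GrpObj Gr] [GrpObj G₀] [IsFinite G.hom]
    (r : Gr ⟶ G) [IsMonHom r] [IsClosedImmersion r.left] [IsReduced Gr.left] [Surjective r.left]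
    (i₀ : G₀ ⟶ G) [IsMonHom i₀] [IsOpenImmersion i₀.left] [ConnectedSpace ↥G₀.left] :
    IsIso ((r ⊗ₘ i₀) ≫ μ[G]) := by
  haveI : LocallyOfFiniteType G.hom := inferInstance
  haveI : IsFinite Gr.hom := by rw [← Over.w r]; infer_instance
  haveI : QuasiCompact i₀.left := by
    haveI : IsLocallyNoetherian G.left := LocallyOfFiniteType.isLocallyNoetherian G.hom
    haveI : CompactSpace G.left := QuasiCompact.compactSpace_of_compactSpace G.hom
    haveI : TopologicalSpace.NoetherianSpace G.left := by
      haveI : IsNoetherian G.left := {}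
      infer_instance
    haveI : TopologicalSpace.NoetherianSpace G₀.left := i₀.left.isOpenEmbedding.isInducing.noetherianSpace
    haveI : IsSeparated G.hom := inferInstance
    haveI : CompactSpace G₀.left := inferInstance
    exact quasiCompact_of_compactSpace _
  haveI : LocallyOfFiniteType G₀.hom := by rw [← Over.w i₀]; infer_instance
  haveI : QuasiCompact G₀.hom := by rw [← Over.w i₀]; infer_instance
  haveI : Flat G₀.hom := Groth.Agent.GrpField.flat_field _
  haveI : Flat G.hom := Groth.Agent.GrpField.flat_field _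
  haveI : IsClosedImmersion i₀.left := Groth.Agent.GrpHom.isClosedImmersion_of_mono_artinian i₀
  haveI : IsFinite G₀.hom := by rw [← Over.w i₀]; infer_instance
  haveI : IsAffine G.left := isAffine_of_isAffineHom G.hom
  obtain ⟨P, hPg, q, hqm, hPa, hPl, hqf, hqs, hK⟩ :=
    Groth.Agent.S3278.result k G G₀ i₀ (AntiAffLib.isNormalHom_of_open i₀)
  letI := hPg
  haveI := hqm; haveI := hPa; haveI := hPl; haveI := hqf; haveI := hqs
  haveI : QuasiCompact P.hom := quasiCompact_of_compactSpace _
  obtain ⟨hf, hs⟩ := Groth.Agent.S8030.result k G Gr G₀ P r i₀ q hK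
  haveI := hf; haveI := hs
  haveI : Mono i₀ := Over.mono_of_mono_left i₀
  haveI : Mono r := Over.mono_of_mono_left r
  haveI : DiscreteTopology G₀.left := by
    have he : ⇑G₀.hom ⁻¹' {IsLocalRing.closedPoint k} = Set.univ :=
      Set.eq_univ_of_forall fun y => Subsingleton.elim (α := PrimeSpectrum k) _ _
    have h := G₀.hom.isDiscrete_preimage_singleton (IsLocalRing.closedPoint k)
    rwa [he, isDiscrete_univ_iff] at h
  haveI : Subsingleton G₀.left := PreconnectedSpace.trivial_of_discrete
  -- the reduced subgroup meets the connected one trivially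
  have hmeet : ∀ (T : Over (Spec (CommRingCat.of k))) (a : T ⟶ Gr), (∃ b, b ≫ i₀ = a ≫ r) → a = 1 := by
    rintro T a ⟨b, hb⟩
    let K := pullback r i₀
    let e : 𝟙_ (Over (Spec (CommRingCat.of k))) ⟶ K :=
      pullback.lift 1 1 (by rw [MonObj.one_comp, MonObj.one_comp])
    have hsq : IsPullback (pullback.fst r i₀).left (pullback.snd r i₀).left r.left i₀.left :=
      (IsPullback.of_hasPullback r i₀).map (Over.forget _)
    haveI : IsOpenImmersion (pullback.fst r i₀).left :=
      MorphismProperty.of_isPullback (P := @IsOpenImmersion) hsq.flip ‹IsOpenImmersion i₀.left›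
    haveI : IsClosedImmersion (pullback.snd r i₀).left :=
      MorphismProperty.of_isPullback (P := @IsClosedImmersion) hsq ‹IsClosedImmersion r.left›
    haveI : IsReduced K.left := isReduced_of_isOpenImmersion (pullback.fst r i₀).left
    haveI : Subsingleton K.left := ⟨fun x y =>
      (pullback.snd r i₀).left.isClosedEmbedding.injective (Subsingleton.elim _ _)⟩
    haveI : IsSeparated K.hom := by
      rw [← Over.w (pullback.snd r i₀)]; infer_instance
    haveI : IsClosedImmersion e.left := isClosedImmersion_of_comp_eq_id K.hom _ (Over.w e)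
    haveI : Surjective e.left :=
      ⟨fun y => ⟨IsLocalRing.closedPoint k, Subsingleton.elim _ _⟩⟩
    haveI : IsIso e.left := isIso_of_isClosedImmersion_of_surjective e.left
    haveI : IsIso ((Over.forget _).map e) := ‹IsIso e.left›
    haveI : IsIso e := isIso_of_reflects_iso e (Over.forget _)
    have h1 : pullback.lift a b hb.symm = (pullback.lift a b hb.symm ≫ inv e) ≫ e := by simp
    have h2 := congrArg (fun z => z ≫ pullback.fst r i₀) h1
    simp only [pullback.lift_fst, Category.assoc, e, MonObj.comp_one] at h2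
    exact h2
  haveI : Mono (r ≫ q) := by
    refine ⟨fun {T} a a' h => ?_⟩
    have h1 : ((a * a'⁻¹) ≫ r) ≫ q = toUnit T ≫ η[P] := by
      rw [Category.assoc, MonObj.mul_comp, GrpObj.inv_comp, h, mul_inv_cancel, Hom.one_def]
    obtain ⟨l, hl, -⟩ := hK.exists_lift _ _ h1
    exact mul_inv_eq_one.1 (hmeet T _ ⟨l, hl⟩)
  haveI : Mono (r ≫ q).left := inferInstanceAs (Mono ((Over.forget _).map (r ≫ q)))
  haveI : LocallyOfFinitePresentation (r ≫ q).left := AntiAffLib.lfp_of_lft _
  haveI : IsOpenImmersion (r ≫ q).left := IsOpenImmersion.of_flat_of_mono _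
  haveI : IsIso (r ≫ q).left := by
    haveI : Epi (r ≫ q).left.base := (TopCat.epi_iff_surjective _).2 (r ≫ q).left.surjective
    exact IsOpenImmersion.isIso _
  haveI : IsIso ((Over.forget _).map (r ≫ q)) := ‹IsIso (r ≫ q).left›
  haveI : IsIso (r ≫ q) := isIso_of_reflects_iso (r ≫ q) (Over.forget _)
  -- the inverse
  let s : G ⟶ Gr := q ≫ inv (r ≫ q)
  have hs1 : s ≫ r ≫ q = q := by simp [s]
  have hb : ((s ≫ r)⁻¹ * 𝟙 G) ≫ q = toUnit G ≫ η[P] := by
    rw [MonObj.mul_comp, GrpObj.inv_comp, Category.assoc, hs1, Category.id_comp, inv_mul_cancel, Hom.one_def]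
  obtain ⟨b, hb', -⟩ := hK.exists_lift _ _ hb
  have hm : (r ⊗ₘ i₀) ≫ μ[G] = (fst Gr G₀ ≫ r) * (snd Gr G₀ ≫ i₀) := by
    rw [Hom.mul_def]
    congr 1
  refine ⟨lift s b, ?_, ?_⟩
  · rw [hm]
    have key : ((fst Gr G₀ ≫ r) * (snd Gr G₀ ≫ i₀)) ≫ s = fst Gr G₀ := by
      rw [← cancel_mono (r ≫ q), Category.assoc, hs1, MonObj.mul_comp, Category.assoc, Category.assoc, hK.w,
        ← Category.assoc (snd Gr G₀), toUnit_unique (snd Gr G₀ ≫ toUnit G₀) (toUnit _), ← Hom.one_def,
        _root_.mul_one]
    refine CartesianMonoidalCategory.hom_ext _ _ (by simpa using key) ?_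
    rw [← cancel_mono i₀]
    simp only [Category.assoc, lift_snd, hb', MonObj.comp_mul, GrpObj.comp_inv, Category.comp_id, Category.id_comp]
    rw [← Category.assoc _ s, key, inv_mul_cancel_left]
  · rw [hm, MonObj.comp_mul, lift_fst_assoc, lift_snd_assoc, hb', mul_inv_cancel_left]

end Groth.Agent.S14587
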