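import Groth.Statements.S1459
import Groth.Agent.RelQRegLib.Scheme
import Groth.Agent.RelQRegLib.FiberMap
import Groth.Agent.FlatLib.SliceCM
import Groth.Agent.FlatLib.QFCover
import Groth.Agent.FlatLib.SchemeFlat
import Groth.Agent.S1349

set_option autoImplicit false
universe u
open FlatMor

namespace Groth.Agent.S1459

open AlgebraicGeometry CategoryTheory Limits in
/-- Let f : X → S be locally of finite presentation and flat at x with image s, and let h_1, …, h_r be
elements of O_{X,x} whose images in O_{X,x} / m_s O_{X,x} form a regular sequence. Then there are an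
affine open U ∋ x and sections on U with these germs such that the closed subscheme Z of U they cut
out is a regular closed immersion whose image contains x, Z → S is flat and locally of finite
presentation, and the base change of Z → U along any S' → S is again a regular closed immersion. -/
theorem result {X S : Scheme.{u}} (f : X ⟶ S) [LocallyOfFinitePresentation f] (x : X)
    (hflat : (f.stalkMap x).hom.Flat) (hs : List ↑(X.presheaf.stalk x))
    (hreg : RingTheory.Sequence.IsRegular (↑(X.presheaf.stalk x) ⧸ Ideal.map (f.stalkMap x).hom (IsLocalRing.maximalIdeal ↑(S.presheaf.stalk (f x))))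
      (hs.map (Ideal.Quotient.mk (Ideal.map (f.stalkMap x).hom (IsLocalRing.maximalIdeal ↑(S.presheaf.stalk (f x))))))) :
    ∃ (U : X.Opens) (hU : IsAffineOpen U) (hx : x ∈ U) (hs' : List Γ(X, U)), hs'.map (X.presheaf.germ U x hx) = hs ∧
      Mor2.IsRegularClosedImmersion (Spec.map (CommRingCat.ofHom (Ideal.Quotient.mk (Ideal.ofList hs'))) ≫ hU.isoSpec.inv) ∧
      x ∈ Set.range ⇑(Spec.map (CommRingCat.ofHom (Ideal.Quotient.mk (Ideal.ofList hs'))) ≫ hU.fromSpec) ∧
      Flat (Spec.map (CommRingCat.ofHom (Ideal.Quotient.mk (Ideal.ofList hs'))) ≫ hU.fromSpec ≫ f) ∧ LocallyOfFinitePresentation (Spec.map (CommRingCat.ofHom (Ideal.Quotient.mk (Ideal.ofList hs'))) ≫ hU.fromSpec ≫ f) ∧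
      ∀ (S' : Scheme.{u}) (g : S' ⟶ S), Mor2.IsRegularClosedImmersion
        (pullback.map (Spec.map (CommRingCat.ofHom (Ideal.Quotient.mk (Ideal.ofList hs'))) ≫ hU.isoSpec.inv ≫ U.ι ≫ f) g (U.ι ≫ f) g (Spec.map (CommRingCat.ofHom (Ideal.Quotient.mk (Ideal.ofList hs'))) ≫ hU.isoSpec.inv) (𝟙 S') (𝟙 S)
          (Category.comp_id _) ((Category.comp_id g).trans (Category.id_comp g).symm)) := by
  classical
  let mS := Ideal.map (f.stalkMap x).hom (IsLocalRing.maximalIdeal ↑(S.presheaf.stalk (f x)))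
  -- the germs lie in the maximal ideal
  have hmem : ∀ h ∈ hs, h ∈ IsLocalRing.maximalIdeal (X.presheaf.stalk x) := fun h hh => by
    rw [IsLocalRing.mem_maximalIdeal]
    intro hu
    refine hreg.top_ne_smul ?_
    rw [smul_eq_mul, Ideal.mul_top]
    exact (Ideal.eq_top_of_isUnit_mem (Ideal.ofList (hs.map (Ideal.Quotient.mk mS)))
      (Ideal.subset_span (List.mem_map_of_mem (f := Ideal.Quotient.mk mS) hh)) (hu.map (Ideal.Quotient.mk mS))).symm
  -- an affine chart on which the germs are defined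
  obtain ⟨_, ⟨U₀, hU₀, rfl⟩, hxU₀, -⟩ :=
    S.isBasis_affineOpens.exists_subset_of_mem_open (Set.mem_univ (f x)) isOpen_univ
  obtain ⟨_, ⟨V₀, hV₀, rfl⟩, hxV₀, hV₀sub⟩ := X.isBasis_affineOpens.exists_subset_of_mem_open
    (show x ∈ (f ⁻¹ᵁ U₀ : X.Opens) from hxU₀) (f ⁻¹ᵁ U₀).2
  obtain ⟨V, hV, hxV, hVU, hs', hlift⟩ : ∃ (V : X.Opens) (_ : IsAffineOpen V) (hxV : x ∈ V) (_ : V ≤ f ⁻¹ᵁ U₀)
      (hs' : List Γ(X, V)), hs'.map (X.presheaf.germ V x hxV) = hs := by
    letI := X.presheaf.algebra_section_stalk ⟨x, hxV₀⟩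
    haveI : IsLocalization.AtPrime (X.presheaf.stalk x) (hV₀.primeIdealOf ⟨x, hxV₀⟩).asIdeal :=
      hV₀.isLocalization_stalk ⟨x, hxV₀⟩
    obtain ⟨d, hd⟩ := IsLocalization.exist_integer_multiples_of_finite
      (hV₀.primeIdealOf ⟨x, hxV₀⟩).asIdeal.primeCompl hs.get
    have hxd : x ∈ X.basicOpen (d : Γ(X, V₀)) := by
      rw [Scheme.mem_basicOpen X _ x hxV₀]
      exact IsLocalization.map_units (X.presheaf.stalk x) d
    choose b hb using hd
    let φ := X.presheaf.map (homOfLE (X.basicOpen_le (d : Γ(X, V₀)))).op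
    obtain ⟨u, hu⟩ : ∃ u : Γ(X, X.basicOpen (d : Γ(X, V₀))), u * φ (d : Γ(X, V₀)) = 1 :=
      (RingedSpace.isUnit_res_basicOpen _ _).exists_left_inv
    refine ⟨X.basicOpen (d : Γ(X, V₀)), hV₀.basicOpen _, hxd, (X.basicOpen_le _).trans fun z hz => hV₀sub hz,
      List.ofFn fun i => u * φ (b i), ?_⟩
    rw [List.map_ofFn]
    conv_rhs => rw [← List.ofFn_get hs]
    congr 1
    funext i
    have hgerm : ∀ c : Γ(X, V₀), X.presheaf.germ _ x hxd (φ c) = algebraMap Γ(X, V₀) (X.presheaf.stalk x) c :=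
      fun c => X.presheaf.germ_res_apply _ _ _ _
    have h1 := congrArg (X.presheaf.germ _ x hxd).hom hu
    rw [map_mul, map_one, hgerm] at h1
    show X.presheaf.germ _ x hxd (u * φ (b i)) = _
    rw [map_mul, hgerm, hb, Algebra.smul_def, ← mul_assoc, h1, one_mul]
  have hfp := f.finitePresentation_appLE hU₀ hV hVU
  algebraize [(f.appLE U₀ V hVU).hom]
  let q := hV.primeIdealOf ⟨x, hxV⟩
  let p := q.asIdeal.comap (algebraMap Γ(S, U₀) Γ(X, V))
  let pS := hU₀.primeIdealOf ⟨f x, hVU hxV⟩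
  have hpp : pS.asIdeal = p :=
    congrArg PrimeSpectrum.asIdeal (IsAffineOpen.comap_primeIdealOf_appLE U₀ hU₀ V hV hVU hxV).symm
  letI := X.presheaf.algebra_section_stalk ⟨x, hxV⟩
  haveI : IsLocalization.AtPrime (X.presheaf.stalk x) q.asIdeal := hV.isLocalization_stalk ⟨x, hxV⟩
  letI := S.presheaf.algebra_section_stalk ⟨f x, hVU hxV⟩
  haveI : IsLocalization.AtPrime (S.presheaf.stalk (f x)) pS.asIdeal := hU₀.isLocalization_stalk ⟨f x, hVU hxV⟩
  have hI : mS = (p.map (algebraMap Γ(S, U₀) Γ(X, V))).map (algebraMap Γ(X, V) (X.presheaf.stalk x)) := by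
    show Ideal.map _ _ = _
    rw [← IsLocalization.AtPrime.map_eq_maximalIdeal pS.asIdeal (S.presheaf.stalk (f x)), Ideal.map_map,
      Ideal.map_map, hpp]
    refine congrArg (fun φ : Γ(S, U₀) →+* X.presheaf.stalk x ↦ p.map φ) (RingHom.ext fun r => ?_)
    show (S.presheaf.germ U₀ (f x) (hVU hxV) ≫ f.stalkMap x) r = (f.appLE U₀ V hVU ≫ X.presheaf.germ V x hxV) r
    rw [Scheme.Hom.germ_stalkMap, Scheme.Hom.appLE, Category.assoc, X.presheaf.germ_res]
  have hbq : ∀ b ∈ hs', b ∈ q.asIdeal := fun b hb => by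
    rw [← IsLocalization.AtPrime.to_map_mem_maximal_iff (X.presheaf.stalk x) q.asIdeal]
    exact hmem _ (hlift ▸ List.mem_map_of_mem hb)
  have hqflat := (FlatLib.flat_stalkMap_iff U₀ hU₀ V hV hVU hxV).mp hflat
  let J := Ideal.ofList hs'
  -- regularity on the fibre
  have hfib : ∀ (i : ℕ) (hi : i < hs'.length) (m : Γ(X, V)),
      (∃ t ∉ q.asIdeal, t * (hs'[i] * m) ∈ Ideal.ofList (hs'.take i) ⊔ p.map (algebraMap Γ(S, U₀) Γ(X, V))) →
      ∃ t ∉ q.asIdeal, t * m ∈ Ideal.ofList (hs'.take i) ⊔ p.map (algebraMap Γ(S, U₀) Γ(X, V)) := by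
    intro i hi m htm
    let O := X.presheaf.stalk x
    let π := Ideal.Quotient.mk mS
    let K : Ideal Γ(X, V) := Ideal.ofList (hs'.take i)
    have hK : (K.map (algebraMap Γ(X, V) O)).map π = Ideal.ofList ((hs.map π).take i) := by
      rw [Ideal.map_ofList, Ideal.map_ofList, ← hlift, List.map_take, List.map_take]
      rfl
    have key : ∀ z : Γ(X, V), (∃ t ∉ q.asIdeal, t * z ∈ K ⊔ p.map (algebraMap Γ(S, U₀) Γ(X, V))) ↔
        π (algebraMap Γ(X, V) O z) ∈ Ideal.ofList ((hs.map π).take i) := fun z => by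
      rw [← hK, ← Ideal.mem_comap, Ideal.comap_map_of_surjective _ Ideal.Quotient.mk_surjective,
        show Ideal.comap π ⊥ = mS from Ideal.mk_ker, hI, ← Ideal.map_sup,
        IsLocalization.algebraMap_mem_map_algebraMap_iff q.asIdeal.primeCompl]
      exact ⟨fun ⟨t, ht, h⟩ => ⟨t, ht, h⟩, fun ⟨t, ht, h⟩ => ⟨t, ht, h⟩⟩
    rw [key] at htm ⊢
    have hi' : i < (hs.map π).length := by rw [List.length_map, ← hlift, List.length_map]; exact hi
    have hget : (hs.map π)[i] = π (algebraMap Γ(X, V) O hs'[i]) := by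
      simp only [List.getElem_map, ← hlift]
      rfl
    have h := hreg.toIsWeaklyRegular.regular_mod_prev i hi'
    rw [isSMulRegular_quotient_iff_mem_of_smul_mem] at h
    have h2 := h (π (algebraMap Γ(X, V) O m)) (by
      rw [smul_eq_mul, smul_eq_mul, Ideal.mul_top, hget, ← map_mul, ← map_mul]
      exact htm)
    rwa [smul_eq_mul, Ideal.mul_top] at h2
  obtain ⟨O₁, hO₁, hqO₁, hregO, hflatO⟩ := FlatLib.exists_open_slices q hs' hbq hqflat hfib hs'.length le_rfl
  rw [List.take_length] at hflatO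
  obtain ⟨_, ⟨g, rfl⟩, hqg, hgO⟩ := PrimeSpectrum.isTopologicalBasis_basic_opens.exists_subset_of_mem_open
    (show q ∈ O₁ ∩ FlatLib.flatLocus Γ(S, U₀) Γ(X, V) Γ(X, V) from ⟨hqO₁, hqflat⟩)
    (hO₁.inter (FlatLib.isOpen_flatLocus_fp (R := Γ(S, U₀)) (S := Γ(X, V)) (M := Γ(X, V))))
  -- the open
  let U := X.basicOpen g
  have hU : IsAffineOpen U := hV.basicOpen g
  have hUV : U ≤ V := X.basicOpen_le g
  have hxU : x ∈ U := by
    rw [Scheme.mem_basicOpen X g x hxV]
    exact IsLocalization.map_units (X.presheaf.stalk x) (⟨g, hqg⟩ : q.asIdeal.primeCompl)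
  let φ : Γ(X, V) ⟶ Γ(X, U) := X.presheaf.map (homOfLE hUV).op
  letI : Algebra Γ(X, V) Γ(X, U) := φ.hom.toAlgebra
  haveI : IsLocalization.Away g Γ(X, U) := hV.isLocalization_basicOpen g
  letI : Algebra Γ(S, U₀) Γ(X, U) := (f.appLE U₀ U (hUV.trans hVU)).hom.toAlgebra
  haveI : IsScalarTower Γ(S, U₀) Γ(X, V) Γ(X, U) := IsScalarTower.of_algebraMap_eq fun r ↦ by
    show f.appLE U₀ U (hUV.trans hVU) r = (f.appLE U₀ V hVU ≫ φ) r
    rw [Scheme.Hom.appLE_map]
  have hwreg : RingTheory.Sequence.IsWeaklyRegular Γ(X, U) (hs'.map (algebraMap Γ(X, V) Γ(X, U))) :=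
    FlatLib.isWeaklyRegular_away hs' g _ fun i hi q' hq' => hregO i hi hi q' (hgO hq').1
  haveI : Module.Flat Γ(S, U₀) Γ(X, U) := by
    haveI := FlatLib.flat_away_of_basicOpen (R := Γ(S, U₀)) g fun Q hQ => (hgO hQ).2
    exact Module.Flat.of_linearEquiv ((IsLocalization.algEquiv (Submonoid.powers g) (Localization.Away g)
      Γ(X, U)).restrictScalars Γ(S, U₀)).toLinearEquiv.symm
  let J' : Ideal Γ(X, U) := Ideal.ofList (hs'.map φ)
  have hJ' : J' = J.map (algebraMap Γ(X, V) Γ(X, U)) := (Ideal.map_ofList _ _).symm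
  have hflJ : Module.Flat Γ(S, U₀) (Γ(X, U) ⧸ J') := by
    rw [hJ']
    let C := Γ(X, V) ⧸ J
    let gC : C := Ideal.Quotient.mk J g
    haveI h3 : IsLocalization (Algebra.algebraMapSubmonoid C (Submonoid.powers g))
        (Γ(X, U) ⧸ J.map (algebraMap Γ(X, V) Γ(X, U))) := inferInstance
    haveI : IsLocalization.Away gC (Γ(X, U) ⧸ J.map (algebraMap Γ(X, V) Γ(X, U))) := by
      show IsLocalization (Submonoid.powers gC) _
      rwa [show Algebra.algebraMapSubmonoid C (Submonoid.powers g) = Submonoid.powers gC from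
        Submonoid.map_powers _ g] at h3
    haveI : IsScalarTower Γ(S, U₀) C (Γ(X, U) ⧸ J.map (algebraMap Γ(X, V) Γ(X, U))) :=
      IsScalarTower.of_algebraMap_eq fun x ↦ by
        show Ideal.Quotient.mk _ (algebraMap Γ(S, U₀) Γ(X, U) x) =
          Ideal.Quotient.mk _ (algebraMap Γ(X, V) Γ(X, U) (algebraMap Γ(S, U₀) Γ(X, V) x))
        rw [IsScalarTower.algebraMap_apply Γ(S, U₀) Γ(X, V) Γ(X, U)]
    haveI : Module.Flat Γ(S, U₀) (Localization.Away gC) := FlatLib.flat_away_of_basicOpen gC fun Q hQ ↦ by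
      replace hQ : g ∉ (PrimeSpectrum.comap (Ideal.Quotient.mk J) Q).asIdeal := hQ
      refine (FlatLib.flat_localized_iff Q.asIdeal.primeCompl (LocalizedModule.mkLinearMap _ _)).mpr
        fun P _ _ N x hx ↦ ?_
      obtain ⟨t, ht, htx⟩ := (FlatLib.flat_localized_iff (PrimeSpectrum.comap (Ideal.Quotient.mk J) Q).asIdeal.primeCompl
        (LocalizedModule.mkLinearMap _ _)).mp (hflatO _ (hgO hQ).1) P N x hx
      refine ⟨Ideal.Quotient.mk J t, ht, ?_⟩
      rw [← htx]
      exact algebraMap_smul C t x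
    exact Module.Flat.of_linearEquiv ((IsLocalization.algEquiv (Submonoid.powers gC) (Localization.Away gC)
        (Γ(X, U) ⧸ J.map (algebraMap Γ(X, V) Γ(X, U)))).restrictScalars Γ(S, U₀)).toLinearEquiv.symm
  let Q := hU.primeIdealOf ⟨x, hxU⟩
  have hgermU : ∀ b, X.presheaf.germ U x hxU (φ b) = X.presheaf.germ V x hxV b :=
    fun b => X.presheaf.germ_res_apply _ _ _ _
  have hJQ : J' ≤ Q.asIdeal := Ideal.span_le.mpr fun c hc => by
    obtain ⟨b, hb, rfl⟩ := List.mem_map.1 hc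
    letI := X.presheaf.algebra_section_stalk ⟨x, hxU⟩
    haveI : IsLocalization.AtPrime (X.presheaf.stalk x) Q.asIdeal := hU.isLocalization_stalk ⟨x, hxU⟩
    show φ b ∈ Q.asIdeal
    rw [← IsLocalization.AtPrime.to_map_mem_maximal_iff (X.presheaf.stalk x) Q.asIdeal]
    show X.presheaf.germ U x hxU (φ b) ∈ _
    rw [hgermU]
    exact hmem _ (hlift ▸ List.mem_map_of_mem hb)
  have hregU : RingTheory.Sequence.IsRegular Γ(X, U) (hs'.map φ) := ⟨hwreg, by
    rw [smul_eq_mul, Ideal.mul_top]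
    exact fun h => Q.isPrime.ne_top (top_le_iff.1 (h ▸ hJQ))⟩
  let mk : Γ(X, U) ⟶ CommRingCat.of (Γ(X, U) ⧸ J') := CommRingCat.ofHom (Ideal.Quotient.mk J')
  haveI : IsClosedImmersion (Spec.map mk) := IsClosedImmersion.spec_of_surjective _ Ideal.Quotient.mk_surjective
  let i : Spec (CommRingCat.of (Γ(X, U) ⧸ J')) ⟶ (U : Scheme.{u}) := Spec.map mk ≫ hU.isoSpec.inv
  have hif : Spec.map mk ≫ hU.fromSpec ≫ f = Spec.map (f.appLE U₀ U (hUV.trans hVU) ≫ mk) ≫ hU₀.fromSpec := by
    rw [Spec.map_comp, Category.assoc, IsAffineOpen.SpecMap_appLE_fromSpec f hU₀ hU (hUV.trans hVU)]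
  have hflatZ : Flat (Spec.map mk ≫ hU.fromSpec ≫ f) := by
    rw [hif]
    haveI : Flat (Spec.map (f.appLE U₀ U (hUV.trans hVU) ≫ mk)) := by
      rw [HasRingHomProperty.Spec_iff (P := @Flat)]
      exact RingHom.flat_algebraMap_iff.mpr hflJ
    infer_instance
  have hreg0 : Mor2.IsRegularClosedImmersion i := by
    haveI : IsAffine (U : Scheme.{u}) := hU
    refine ⟨inferInstance, fun z => ?_⟩
    let t := U.topIso.symm.commRingCatIsoToRingEquiv
    refine ⟨⊤, isAffineOpen_top _, trivial, (hs'.map φ).map t,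
      Groth.Agent.S1349.isRegular_map_equiv t _ hregU, ?_⟩
    have e1 : Ideal.ofList ((hs'.map φ).map t) = J'.map (t : Γ(X, U) →+* _) := (Ideal.map_ofList _ _).symm
    rw [Scheme.Hom.ker_apply, e1]
    show RingHom.ker i.appTop.hom = J'.map (t : Γ(X, U) →+* _)
    have happ : i.appTop = U.topIso.hom ≫ mk ≫ (Scheme.ΓSpecIso _).inv := by
      rw [Scheme.Hom.comp_appTop, hU.isoSpec_inv_appTop, Category.assoc]
      congr 1
      rw [← Scheme.ΓSpecIso_inv_naturality]
    rw [happ]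
    exact (Groth.Agent.S1349.ker_comp_quot U.topIso.hom J' (Scheme.ΓSpecIso (CommRingCat.of (Γ(X, U) ⧸ J'))).symm).trans
      (Groth.Agent.S1349.map_iso_symm U.topIso J').symm
  haveI : Flat (U.ι ≫ f) := by
    rw [← hU.isoSpec_hom_fromSpec, Category.assoc, ← IsAffineOpen.SpecMap_appLE_fromSpec f hU₀ hU (hUV.trans hVU)]
    haveI : Flat (Spec.map (f.appLE U₀ U (hUV.trans hVU))) := by
      rw [HasRingHomProperty.Spec_iff (P := @Flat)]
      exact RingHom.flat_algebraMap_iff.mpr inferInstance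
    infer_instance
  refine ⟨U, hU, hxU, hs'.map φ, ?_, hreg0, ?_, hflatZ, ?_, fun S' g' => ?_⟩
  · rw [List.map_map, ← hlift]
    exact List.map_congr_left fun b _ => hgermU b
  · refine ⟨⟨Q.asIdeal.map (Ideal.Quotient.mk J'),
      Ideal.map_isPrime_of_surjective Ideal.Quotient.mk_surjective (by rwa [Ideal.mk_ker])⟩, ?_⟩
    rw [Scheme.Hom.comp_apply]
    refine (congrArg hU.fromSpec (show _ = Q from PrimeSpectrum.ext ?_)).trans (hU.fromSpec_primeIdealOf ⟨x, hxU⟩)
    show Ideal.comap (Ideal.Quotient.mk J') (Q.asIdeal.map (Ideal.Quotient.mk J')) = Q.asIdeal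
    rw [Ideal.comap_map_of_surjective _ Ideal.Quotient.mk_surjective,
      show Ideal.comap (Ideal.Quotient.mk J') ⊥ = J' from Ideal.mk_ker, sup_eq_left.mpr hJQ]
  · rw [hif]
    haveI : LocallyOfFinitePresentation (Spec.map (f.appLE U₀ U (hUV.trans hVU) ≫ mk)) := by
      rw [HasRingHomProperty.Spec_iff (P := @LocallyOfFinitePresentation)]
      exact RingHom.FinitePresentation.comp (RingHom.FinitePresentation.of_surjective _ Ideal.Quotient.mk_surjective
        (by show (RingHom.ker (Ideal.Quotient.mk J')).FG; rw [Ideal.mk_ker]; exact Submodule.fg_span (List.finite_toSet _)))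
        (f.finitePresentation_appLE hU₀ hU (hUV.trans hVU))
    infer_instance
  · haveI := hreg0.1
    have hat := ((RelQRegLib.isRegularClosedImmersion_iff i).1 hreg0).2
    have hrel : RegImm.IsRelRegularImmersion RegImm.Kind.quasi (U.ι ≫ f) i :=
      ⟨⟨inferInstance, fun z => (RelQRegLib.quasi_of_regular i z (hat z)).2⟩, by
        rw [show i ≫ U.ι ≫ f = Spec.map mk ≫ hU.fromSpec ≫ f by
          simp only [i, Category.assoc, IsAffineOpen.isoSpec_inv_ι_assoc]]
        exact hflatZ⟩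
    have hbc := RelQRegLib.regular_baseChange_of_quasi (U.ι ≫ f) i hrel (fun z => Flat.stalkMap _ _) S' g'
    let a := pullback.map (i ≫ U.ι ≫ f) g' (U.ι ≫ f) g' i (𝟙 S') (𝟙 S) (Category.comp_id _)
      ((Category.comp_id g').trans (Category.id_comp g').symm)
    have sq : IsPullback (pullback.fst (i ≫ U.ι ≫ f) g') a i (pullback.fst (U.ι ≫ f) g') := by
      refine IsPullback.of_bot ?_ (pullback.lift_fst _ _ _).symm (IsPullback.of_hasPullback (U.ι ≫ f) g')
      rw [show a ≫ pullback.snd (U.ι ≫ f) g' = pullback.snd (i ≫ U.ι ≫ f) g' by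
        exact (pullback.lift_snd _ _ _).trans (Category.comp_id _)]
      exact IsPullback.of_hasPullback (i ≫ U.ι ≫ f) g'
    refine (RelQRegLib.isRegularClosedImmersion_iff _).2
      ⟨MorphismProperty.of_isPullback (P := @IsClosedImmersion) sq inferInstance, fun z => ?_⟩
    exact RelQRegLib.at_of_iso (i := pullback.snd i (pullback.fst (U.ι ≫ f) g')) (i' := a)
      sq.isoPullback sq.isoPullback_hom_snd _ z (hbc.2 _)

end Groth.Agent.S1459
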