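import Groth.Statements.S14593
import Groth.Agent.AlbNormLib.Normal
import Groth.Agent.AlbNormLib.Quot
import Groth.Agent.ChevThmLib.DescentGen
-- import your own Groth.Agent.* helpers here

set_option autoImplicit false
set_option backward.isDefEq.respectTransparency false
set_option linter.style.haveILetI false
universe u
open CategoryTheory MonoidalCategory CartesianMonoidalCategory MonObj GrpObj AlgebraicGeometry CategoryTheory.Limits
open AlgGrp

namespace Groth.Agent.S14593

/-- Let k be a field, G a smooth k-group scheme of finite type, i₀ : G⁰ → G its neutral component (a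
connected open subgroup scheme) and α : G⁰ → A the Albanese homomorphism of G⁰: a flat surjective
homomorphism onto an abelian variety A (proper, smooth, connected) through which every morphism from
G⁰ to an abelian variety preserving the unit factors uniquely. Let j : N → G⁰ be the kernel of α.
Then N is normal in G, affine and connected; it is the kernel of a flat surjective homomorphism from
G onto a proper k-group scheme of finite type; and it is the smallest normal subgroup scheme of G
with proper quotient: every flat surjective homomorphism from G onto a proper k-group scheme of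
finite type kills N. -/
theorem result (k : Type u) [Field k]
    (G : Over (Spec (CommRingCat.of k))) [GrpObj G] [Smooth G.hom] [QuasiCompact G.hom]
    (G₀ : Over (Spec (CommRingCat.of k))) [GrpObj G₀] (i₀ : G₀ ⟶ G) [IsMonHom i₀] [IsOpenImmersion i₀.left] [ConnectedSpace ↥G₀.left]
    (A : Over (Spec (CommRingCat.of k))) [GrpObj A] [IsProper A.hom] [Smooth A.hom] [ConnectedSpace ↥A.left]
    (α : G₀ ⟶ A) [IsMonHom α] [Surjective α.left] [Flat α.left]
    (hα : ∀ (B : Over (Spec (CommRingCat.of k))) [GrpObj B] [IsProper B.hom] [Smooth B.hom] [ConnectedSpace ↥B.left] (f : G₀ ⟶ B),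
      η[G₀] ≫ f = η[B] → ∃! g : A ⟶ B, α ≫ g = f)
    (N : Over (Spec (CommRingCat.of k))) [GrpObj N] (j : N ⟶ G₀) [IsMonHom j] [IsClosedImmersion j.left] (hN : AlgGrp.IsKernel j α) :
    AlgGrp.IsNormalHom (j ≫ i₀) ∧ IsAffine N.left ∧ ConnectedSpace ↥N.left ∧
      (∃ (Q : Over (Spec (CommRingCat.of k))) (_ : GrpObj Q) (q : G ⟶ Q), IsMonHom q ∧ Surjective q.left ∧ Flat q.left ∧
        AlgGrp.IsKernel (j ≫ i₀) q ∧ IsProper Q.hom) ∧
      ∀ (Q' : Over (Spec (CommRingCat.of k))) [GrpObj Q'] [IsProper Q'.hom] (q' : G ⟶ Q') [IsMonHom q'] [Surjective q'.left] [Flat q'.left],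
        (j ≫ i₀) ≫ q' = 1 := by
  haveI : LocallyOfFiniteType G₀.hom := by rw [← Over.w i₀]; infer_instance
  haveI : Smooth G₀.hom := by rw [← Over.w i₀]; infer_instance
  haveI : IsLocallyNoetherian G.left := LocallyOfFiniteType.isLocallyNoetherian G.hom
  haveI : QuasiCompact G₀.hom := by
    haveI : CompactSpace G.left := QuasiCompact.compactSpace_of_compactSpace G.hom
    haveI : IsNoetherian G.left := ⟨⟩
    rw [← Over.w i₀]; infer_instance
  have hmin : ∀ (B : Over (Spec (CommRingCat.of k))) [GrpObj B] [IsProper B.hom] (f : G₀ ⟶ B) [IsMonHom f],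
      j ≫ f = 1 := by
    intro B _ _ f _
    obtain ⟨C, _, p, _, _, _, _, -, -, hpt⟩ := AlbLib.exists_av_image f
    obtain ⟨g, hg, -⟩ := hα C p (IsMonHom.one_hom p)
    refine (hpt N j).1 ?_
    have h1 : η[A] ≫ g = η[C] := by
      rw [← IsMonHom.one_hom α, Category.assoc, hg, IsMonHom.one_hom]
    rw [← hg, ← Category.assoc, AntiAffLib.kernel_comp hN, Hom.one_def, Category.assoc, h1, Hom.one_def]
  obtain ⟨B, _, f, _, _, hB⟩ := ChevThmLib.exists_affineKer_map G₀
  haveI : IsAffine N.left := hB N j inferInstance (hmin B f)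
  have hn : AlgGrp.IsNormalHom j := by
    intro T g n
    obtain ⟨m, hm⟩ := AntiAffLib.exists_lift_kernel hN (g * (n ≫ j) * g⁻¹) (by
      rw [MonObj.mul_comp, MonObj.mul_comp, GrpObj.inv_comp, Category.assoc, AntiAffLib.kernel_comp hN,
        MonObj.comp_one, _root_.mul_one, mul_inv_cancel])
    exact ⟨m, hm.symm⟩
  haveI : ConnectedSpace N.left := AlbLib.connectedSpace_min j hn
    ⟨A, inferInstance, α, inferInstance, inferInstance, inferInstance, inferInstance, inferInstance, inferInstance, hN⟩ hmin
  have hnG := AlbNormLib.isNormalHom_of_min i₀ α j hN hmin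
  refine ⟨hnG, inferInstance, inferInstance, AlbNormLib.exists_proper_quotient i₀ α j hN hnG, ?_⟩
  intro Q' _ _ q' _ _ _
  rw [Category.assoc]
  exact hmin Q' (i₀ ≫ q')
end Groth.Agent.S14593
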