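import Groth.Statements.S14594
import Groth.Agent.SemiAbLib.BaseChange
import Groth.Agent.SemiAbLib.Stability

set_option autoImplicit false
set_option backward.isDefEq.respectTransparency false
set_option linter.style.haveILetI false
set_option maxHeartbeats 1000000
universe u
open CategoryTheory MonoidalCategory CartesianMonoidalCategory MonObj GrpObj AlgebraicGeometry CategoryTheory.Limits
open AlgGrp

namespace Groth.Agent.S14594

/-- Let k be a field, G a smooth connected k-group scheme of finite type and f : G → H an isogeny onto a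
k-group scheme of finite type H, i.e. a surjective homomorphism whose kernel N is finite. If H is a
semi-abelian variety (an extension of a proper smooth connected k-group scheme by a torus), then G
is a semi-abelian variety. -/
theorem result (k : Type u) [Field k]
    (G H : Over (Spec (CommRingCat.of k))) [GrpObj G] [GrpObj H] [Smooth G.hom] [QuasiCompact G.hom] [ConnectedSpace ↥G.left]
    [LocallyOfFiniteType H.hom] [QuasiCompact H.hom] (f : G ⟶ H) [IsMonHom f] [Surjective f.left]
    (N : Over (Spec (CommRingCat.of k))) [GrpObj N] (n : N ⟶ G) [IsMonHom n] [IsClosedImmersion n.left] [IsFinite N.hom]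
    (hker : AlgGrp.IsKernel n f) (hH : (∃ (T : Over (Spec (CommRingCat.of k))) (_ : GrpObj T) (i : T ⟶ H) (A : Over (Spec (CommRingCat.of k))) (_ : GrpObj A) (q : H ⟶ A),
        IsMonHom i ∧ IsClosedImmersion i.left ∧ Red.IsTorus T ∧ IsMonHom q ∧ Surjective q.left ∧ Flat q.left ∧
        AlgGrp.IsKernel i q ∧ IsProper A.hom ∧ Smooth A.hom ∧ ConnectedSpace ↥A.left)) :
    (∃ (T : Over (Spec (CommRingCat.of k))) (_ : GrpObj T) (i : T ⟶ G) (A : Over (Spec (CommRingCat.of k))) (_ : GrpObj A) (q : G ⟶ A),
        IsMonHom i ∧ IsClosedImmersion i.left ∧ Red.IsTorus T ∧ IsMonHom q ∧ Surjective q.left ∧ Flat q.left ∧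
        AlgGrp.IsKernel i q ∧ IsProper A.hom ∧ Smooth A.hom ∧ ConnectedSpace ↥A.left) := by
  let F := AVAmpleLib.bcF (k := k) (AlgebraicClosure k)
  letI : GrpObj (F.obj G) := Functor.grpObjObj
  letI : GrpObj (F.obj H) := Functor.grpObjObj
  letI : GrpObj (F.obj N) := Functor.grpObjObj
  haveI : IsMonHom (F.map f) := @Functor.map.instIsMonHom _ _ _ _ _ _ F _ _ _ _ _ f _
  haveI : IsMonHom (F.map n) := @Functor.map.instIsMonHom _ _ _ _ _ _ F _ _ _ _ _ n _
  haveI : Smooth (F.obj G).hom := inferInstanceAs (Smooth (pullback.snd G.hom _))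
  haveI : QuasiCompact (F.obj G).hom := inferInstanceAs (QuasiCompact (pullback.snd G.hom _))
  haveI : LocallyOfFiniteType (F.obj H).hom := inferInstanceAs (LocallyOfFiniteType (pullback.snd H.hom _))
  haveI : QuasiCompact (F.obj H).hom := inferInstanceAs (QuasiCompact (pullback.snd H.hom _))
  haveI : IsFinite (F.obj N).hom := inferInstanceAs (IsFinite (pullback.snd N.hom _))
  haveI := AlbLib.geometricallyIntegral_grp G
  haveI : GeometricallyIntegral (F.obj G).hom := inferInstanceAs (GeometricallyIntegral (pullback.snd G.hom _))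
  haveI : ConnectedSpace (F.obj G).left := AlbLib.connectedSpace_gi _
  exact SemiAbLib.isSemiAb_of_bc (AlgebraicClosure k) G
    ((SemiAbLib.isSemiAb_bc (AlgebraicClosure k) (G := H) hH).of_finite_kernel (F.map f) (F.map n)
      (SemiAbLib.isKernel_map (AlgebraicClosure k) hker))

end Groth.Agent.S14594
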