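import Groth.Statements.S14596
import Groth.Agent.FinQuotLib.Main
import Groth.Agent.AntiAffLib.Image
import Groth.Agent.GenSubLib.Points

set_option autoImplicit false
set_option backward.isDefEq.respectTransparency false
set_option maxHeartbeats 1000000
universe u
open CategoryTheory MonoidalCategory CartesianMonoidalCategory MonObj GrpObj AlgebraicGeometry CategoryTheory.Limits
open AlgGrp CategoryTheory.Limits

namespace Groth.Agent.S14596

attribute [-instance] CategoryTheory.Hom.commGroup

/-- Let k be a perfect field, G a k-group scheme of finite type and r₀ : G⁰_red → G the reduced neutral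
component of G, i.e. a homomorphism and closed immersion from a reduced k-group scheme whose image
is the connected component of the identity. Then the homogeneous space G/G⁰_red is finite, and
G⁰_red is the smallest closed subgroup scheme H of G such that G/H is finite: every such H contains
G⁰_red. -/
theorem result (k : Type u) [Field k] [PerfectField k]
    (G G₀ : Over (Spec (CommRingCat.of k))) [GrpObj G] [GrpObj G₀] [LocallyOfFiniteType G.hom] [QuasiCompact G.hom]
    [LocallyOfFiniteType G₀.hom] [QuasiCompact G₀.hom]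
    (r₀ : G₀ ⟶ G) [IsMonHom r₀] [IsClosedImmersion r₀.left] [IsReduced G₀.left] (t : ↥((𝟙_ (Over (Spec (CommRingCat.of k)))).left))
    (hr₀ : Set.range ⇑r₀.left.base = connectedComponent ((η[G]).left.base t)) :
    (∀ (X : Over (Spec (CommRingCat.of k))) (a : AlgGrp.Action G X) (o : 𝟙_ (Over (Spec (CommRingCat.of k))) ⟶ X), AGF.IsQuotient r₀ X a o → IsFinite X.hom) ∧
    ∀ (H : Over (Spec (CommRingCat.of k))) [GrpObj H] (h : H ⟶ G) [IsMonHom h] [IsClosedImmersion h.left]
      (X : Over (Spec (CommRingCat.of k))) (a : AlgGrp.Action G X) (o : 𝟙_ (Over (Spec (CommRingCat.of k))) ⟶ X),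
      AGF.IsQuotient h X a o → IsFinite X.hom → ∃ g : G₀ ⟶ H, g ≫ h = r₀ := by
  haveI : IsLocallyNoetherian G.left := LocallyOfFiniteType.isLocallyNoetherian G.hom
  haveI : Subsingleton ↥(𝟙_ (Over (Spec (CommRingCat.of k)))).left := inferInstanceAs (Subsingleton (PrimeSpectrum k))
  have hone : ∀ {X : Over (Spec (CommRingCat.of k))} (a : AlgGrp.Action G X) (o : 𝟙_ (Over (Spec (CommRingCat.of k))) ⟶ X),
      (η[G]) ≫ a.orbitMap o = o := by
    intro X a o
    rw [OrbitLib.comp_orbitMap]
    have e : (η[G] : 𝟙_ _ ⟶ G) = 1 := by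
      rw [Hom.one_def, toUnit_unique (toUnit _) (𝟙 _), Category.id_comp]
    rw [e, Groth.Agent.MonoQuot.act_one, toUnit_unique (toUnit _) (𝟙 _), Category.id_comp]
  have hcc : Set.range r₀.left.base = connectedComponent ((η[G]).left.base t) := hr₀
  refine ⟨fun X a o hX => ?_, fun H _ h _ _ X a o hX hfin => ?_⟩
  · obtain ⟨hXl, hflat, hsurj, hsq⟩ := hX
    haveI := hXl; haveI := hflat; haveI := hsurj
    haveI := AntiAffLib.lfp_of_lft (a.orbitMap o)
    refine FinQuot.isFinite_of_isolated a o ?_
    -- the range of the base point is the image of the open component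
    have hpre : (a.orbitMap o).left.base '' Set.range r₀.left.base = Set.range o.left.base := by
      have h1 : r₀ ≫ a.orbitMap o = toUnit G₀ ≫ o := by
        have h2 := congrArg (fun z => lift (toUnit G₀ ≫ η[G]) (𝟙 G₀) ≫ z) hsq.w
        simp only [← Category.assoc, lift_fst, lift_whiskerLeft, Category.id_comp] at h2
        rw [Category.assoc, hone] at h2
        rw [h2]
        congr 1
        rw [← Hom.mul_def, ← Hom.one_def, _root_.one_mul]
      refine subset_antisymm ?_ ?_
      · rintro _ ⟨_, ⟨y, rfl⟩, rfl⟩
        refine ⟨(toUnit G₀).left.base y, ?_⟩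
        rw [← Scheme.Hom.comp_apply, ← Scheme.Hom.comp_apply, ← Over.comp_left, ← Over.comp_left, h1]
      · rintro _ ⟨u, rfl⟩
        refine ⟨(η[G]).left.base u, ?_, ?_⟩
        · rw [hcc, Subsingleton.elim u t]; exact mem_connectedComponent
        · rw [← Scheme.Hom.comp_apply, ← Over.comp_left, hone]
    rw [← hpre]
    refine (a.orbitMap o).left.isOpenMap _ ?_
    rw [hcc]
    haveI : CompactSpace G.left := QuasiCompact.compactSpace_of_compactSpace G.hom
    haveI : IsNoetherian G.left := {}
    exact (Groth.Agent.GenSub.isClopen_connectedComponent_of_finite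
      TopologicalSpace.NoetherianSpace.finite_irreducibleComponents _).isOpen
  · obtain ⟨hXl, hflat, hsurj, hsq⟩ := hX
    haveI := hXl; haveI := hfin
    haveI : DiscreteTopology X.left := by
      have he : ⇑X.hom ⁻¹' {IsLocalRing.closedPoint k} = Set.univ :=
        Set.eq_univ_of_forall fun y => Subsingleton.elim (α := PrimeSpectrum k) _ _
      have h := X.hom.isDiscrete_preimage_singleton (IsLocalRing.closedPoint k)
      rwa [he, isDiscrete_univ_iff] at h
    haveI : IsClosedImmersion o.left := isClosedImmersion_of_comp_eq_id X.hom _ (Over.w o)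
    have hpc : _root_.IsPreconnected (Set.range (r₀ ≫ a.orbitMap o).left.base) := by
      rw [Over.comp_left, Scheme.Hom.comp_base, TopCat.coe_comp, Set.range_comp, hcc]
      exact isPreconnected_connectedComponent.image _ (a.orbitMap o).left.continuous.continuousOn
    obtain ⟨y, hy⟩ : ((η[G]).left.base t) ∈ Set.range r₀.left.base := by rw [hcc]; exact mem_connectedComponent
    obtain ⟨m, hm⟩ := Groth.Agent.DensePts.factors_of_range (r₀ ≫ a.orbitMap o) o (by
      intro z hz
      have : z = o.left.base t := hpc.subsingleton hz ⟨y, by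
        rw [Over.comp_left, Scheme.Hom.comp_apply, hy, ← Scheme.Hom.comp_apply, ← Over.comp_left, hone]⟩
      exact ⟨t, this.symm⟩)
    have h1 : (1 : G₀ ⟶ G) ≫ a.orbitMap o = r₀ ≫ a.orbitMap o := by
      rw [← hm, toUnit_unique m (toUnit G₀), Hom.one_def, Category.assoc, hone]
    refine ⟨hsq.lift 1 r₀ h1 ≫ snd G H, ?_⟩
    have h2 := hsq.lift_snd 1 r₀ h1
    generalize hl : hsq.lift 1 r₀ h1 = l at h2
    have h3 : l ≫ fst G H = 1 := by rw [← hl]; exact hsq.lift_fst _ _ _
    rw [Groth.Agent.MonoQuot.mulHom_eq, MonObj.comp_mul, h3, _root_.one_mul] at h2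
    rw [Category.assoc]
    exact h2

end Groth.Agent.S14596
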