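import Groth.Statements.S14599
import Groth.Agent.AlbLib.Albanese
-- import your own Groth.Agent.* helpers here

set_option autoImplicit false
set_option backward.isDefEq.respectTransparency false
set_option linter.style.haveILetI false
universe u
open CategoryTheory MonoidalCategory CartesianMonoidalCategory MonObj GrpObj AlgebraicGeometry CategoryTheory.Limits
open AlgGrp

namespace Groth.Agent.S14599

/-- Let k be a field and G a smooth connected k-group scheme of finite type. Then G has a smallest
normal subgroup scheme N whose quotient is an abelian variety, N is connected, and the quotient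
homomorphism α : G → G/N is universal: there are a connected closed normal subgroup scheme i : N →
G, a proper smooth connected k-group scheme A and a flat surjective homomorphism α : G → A with
kernel N such that every k-morphism from G to a proper smooth connected k-group scheme sending e to
e factors uniquely through α, and every flat surjective homomorphism from G onto a proper smooth
connected k-group scheme kills N. -/
theorem result (k : Type u) [Field k]
    (G : Over (Spec (CommRingCat.of k))) [GrpObj G] [Smooth G.hom] [QuasiCompact G.hom] [ConnectedSpace ↥G.left] :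
    ∃ (N : Over (Spec (CommRingCat.of k))) (_ : GrpObj N) (i : N ⟶ G) (A : Over (Spec (CommRingCat.of k))) (_ : GrpObj A) (α : G ⟶ A),
      IsMonHom i ∧ IsClosedImmersion i.left ∧ AlgGrp.IsNormalHom i ∧ ConnectedSpace ↥N.left ∧
      IsProper A.hom ∧ Smooth A.hom ∧ ConnectedSpace ↥A.left ∧ IsMonHom α ∧ Surjective α.left ∧ Flat α.left ∧
      AlgGrp.IsKernel i α ∧
      (∀ (B : Over (Spec (CommRingCat.of k))) [GrpObj B] [IsProper B.hom] [Smooth B.hom] [ConnectedSpace ↥B.left] (f : G ⟶ B),
        η[G] ≫ f = η[B] → ∃! g : A ⟶ B, α ≫ g = f) ∧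
      (∀ (B : Over (Spec (CommRingCat.of k))) [GrpObj B] [IsProper B.hom] [Smooth B.hom] [ConnectedSpace ↥B.left] (q : G ⟶ B)
        [IsMonHom q] [Surjective q.left] [Flat q.left], i ≫ q = 1) := by
  obtain ⟨N, _, i, hm, hci, hn, hA, hmin⟩ := AlbLib.exists_min_avKer G
  haveI := hm; haveI := hci
  have hN : ConnectedSpace N.left := AlbLib.connectedSpace_min i hn hA hmin
  obtain ⟨A, _, α, hαm, hAp, hAs, hAc, hαf, hαs, hα⟩ := hA
  haveI := hαm; haveI := hAp; haveI := hαf; haveI := hαs; haveI := hAs; haveI := hAc
  haveI := AntiAffLib.lfp_of_lft α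
  haveI := Groth.Agent.MonoQuot.epi_over α
  refine ⟨N, inferInstance, i, A, inferInstance, α, hm, hci, hn, hN, hAp, hAs, hAc, hαm, hαs, hαf, hα, ?_, ?_⟩
  · intro B _ _ _ _ f hf
    haveI := AlbLib.geometricallyIntegral_grp G
    haveI := AlbLib.geometricallyIntegral_grp B
    haveI := AlbLib.isMonHom_of_pointed f hf
    have h0 := hmin B f
    obtain ⟨g, hg⟩ := Groth.Agent.MonoQuot.exists_desc_over α f (fun T a b e => by
      obtain ⟨l, hl⟩ := AntiAffLib.exists_lift_kernel hα (a * b⁻¹)
        (by rw [MonObj.mul_comp, GrpObj.inv_comp, e, mul_inv_cancel])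
      have h := congrArg (· ≫ f) hl
      simp only [Category.assoc] at h
      rw [h0, MonObj.comp_one, MonObj.mul_comp, GrpObj.inv_comp] at h
      exact mul_inv_eq_one.1 h.symm)
    exact ⟨g, hg, fun g' hg' => by rw [← cancel_epi α, hg, hg']⟩
  · intro B _ _ _ _ q _ _ _
    exact hmin B q
end Groth.Agent.S14599
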