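import Groth.Statements.S14601
import Groth.Agent.SemiAbLib.Exponent
import Groth.Agent.SemiAbLib.PowField
import Groth.Agent.SemiAbLib.LargestSub

set_option autoImplicit false
set_option backward.isDefEq.respectTransparency false
set_option linter.style.haveILetI false
set_option maxHeartbeats 1000000
universe u
open CategoryTheory MonoidalCategory CartesianMonoidalCategory MonObj GrpObj AlgebraicGeometry CategoryTheory.Limits
open AlgGrp

namespace Groth.Agent.S14601

/-- Let k be a field of characteristic p > 0, G a commutative k-group scheme of finite type and s : S →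
G its largest semi-abelian subvariety, i.e. a closed subgroup scheme which is an extension of a
proper smooth connected k-group scheme by a torus and through which every other such closed subgroup
scheme of G factors. Then (1) for every flat surjective homomorphism q : G → Q of k-group schemes of
finite type with kernel S, the group scheme Q has finite exponent: its n-th power endomorphism is
trivial for some n ≥ 1; and (2) there is a closed subgroup scheme h : H → G such that G = S · H, in
the sense that the multiplication S × H → G is flat and surjective, and S ∩ H = S ×_G H is finite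
over k. -/
theorem result (k : Type u) [Field k]
    (p : ℕ) [Fact p.Prime] [CharP k p]
    (G : Over (Spec (CommRingCat.of k))) [GrpObj G] [IsCommMonObj G] [LocallyOfFiniteType G.hom] [QuasiCompact G.hom]
    (S : Over (Spec (CommRingCat.of k))) [GrpObj S] (s : S ⟶ G) [IsMonHom s] [IsClosedImmersion s.left] (hS : (∃ (T : Over (Spec (CommRingCat.of k))) (_ : GrpObj T) (i : T ⟶ S) (A : Over (Spec (CommRingCat.of k))) (_ : GrpObj A) (q : S ⟶ A),
        IsMonHom i ∧ IsClosedImmersion i.left ∧ Red.IsTorus T ∧ IsMonHom q ∧ Surjective q.left ∧ Flat q.left ∧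
        AlgGrp.IsKernel i q ∧ IsProper A.hom ∧ Smooth A.hom ∧ ConnectedSpace ↥A.left))
    (hSmax : ∀ (S' : Over (Spec (CommRingCat.of k))) [GrpObj S'] (s' : S' ⟶ G) [IsMonHom s'] [IsClosedImmersion s'.left],
      (∃ (T : Over (Spec (CommRingCat.of k))) (_ : GrpObj T) (i : T ⟶ S') (A : Over (Spec (CommRingCat.of k))) (_ : GrpObj A) (q : S' ⟶ A),
        IsMonHom i ∧ IsClosedImmersion i.left ∧ Red.IsTorus T ∧ IsMonHom q ∧ Surjective q.left ∧ Flat q.left ∧
        AlgGrp.IsKernel i q ∧ IsProper A.hom ∧ Smooth A.hom ∧ ConnectedSpace ↥A.left) → ∃ g : S' ⟶ S, g ≫ s = s') :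
    (∀ (Q : Over (Spec (CommRingCat.of k))) [GrpObj Q] [LocallyOfFiniteType Q.hom] [QuasiCompact Q.hom] (q : G ⟶ Q) [IsMonHom q]
        [Surjective q.left] [Flat q.left], AlgGrp.IsKernel s q → ∃ n : ℕ, 0 < n ∧ (𝟙 Q) ^ n = 1) ∧
    ∃ (H : Over (Spec (CommRingCat.of k))) (_ : GrpObj H) (h : H ⟶ G), IsMonHom h ∧ IsClosedImmersion h.left ∧
      Flat ((s ⊗ₘ h) ≫ μ[G]).left ∧ Surjective ((s ⊗ₘ h) ≫ μ[G]).left ∧
      IsFinite (pullback.fst s.left h.left ≫ S.hom) := by
  haveI : LocallyOfFiniteType S.hom := by rw [← Over.w s]; infer_instance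
  haveI : QuasiCompact S.hom := by rw [← Over.w s]; infer_instance
  haveI : Mono s := Over.mono_of_mono_left s
  obtain ⟨S₁, _, s₁, n, hs₁, hs₁c, hS₁, hn, g₀, hg₀⟩ := SemiAbLib.exists_semiAb_exponent p G
  haveI := hs₁; haveI := hs₁c
  obtain ⟨g₁, hg₁⟩ := hSmax S₁ s₁ hS₁
  have hg : (g₀ ≫ g₁) ≫ s = (𝟙 G) ^ n := by rw [Category.assoc, hg₁, hg₀]
  generalize g₀ ≫ g₁ = g at hg
  refine ⟨fun Q _ _ _ q _ _ _ hk => ⟨n, hn, ?_⟩, ?_⟩
  · haveI := AntiAffLib.lfp_of_lft q
    haveI := Groth.Agent.MonoQuot.epi_over q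
    rw [← cancel_epi q, MonObj.comp_pow, Category.comp_id, MonObj.comp_one,
      show q ^ n = ((𝟙 G) ^ n) ≫ q by rw [MonObj.pow_comp, Category.id_comp], ← hg, Category.assoc, hk.w,
      ← Hom.one_def, MonObj.comp_one]
  haveI : IsMonHom ((𝟙 G) ^ n) := by rw [← zpow_natCast (𝟙 G) n]; exact AbSchLib.isMonHom_zpow G _
  obtain ⟨H, _, h, hh, hhc, hhk, -⟩ := AntiAffLib.exists_kernel ((𝟙 G) ^ n)
  haveI := hh; haveI := hhc
  haveI : Mono h := Over.mono_of_mono_left h
  obtain ⟨hnm, hns, hnf, hnfin⟩ := SemiAbLib.IsSemiAb.pow_spec' (S := S) hS hn.ne'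
  haveI := hnm; haveI := hns; haveI := hnf; haveI := hnfin
  have hh1 : h ^ n = 1 := by
    have := hhk.w
    rwa [MonObj.comp_pow, Category.comp_id, ← Hom.one_def] at this
  refine ⟨H, inferInstance, h, hh, hhc, ?_⟩
  have sqP := IsPullback.of_hasPullback g ((𝟙 S) ^ n)
  haveI : Flat (pullback.fst g ((𝟙 S) ^ n)).left :=
    MorphismProperty.of_isPullback (P := @Flat) (sqP.map (Over.forget _)).flip hnf
  haveI : Surjective (pullback.fst g ((𝟙 S) ^ n)).left :=
    MorphismProperty.of_isPullback (P := @Surjective) (sqP.map (Over.forget _)).flip hns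
  let b : S ⊗ H ⟶ G := (fst S H ≫ s) * (snd S H ≫ h)
  have hb : (s ⊗ₘ h) ≫ μ[G] = b := by
    simp only [b, Hom.mul_def]
    congr 1
  have hbn : b ≫ g = fst S H ≫ ((𝟙 S) ^ n) := by
    letI : CommGroup (S ⊗ H ⟶ G) := Hom.commGroup
    rw [← cancel_mono s, Category.assoc, hg, MonObj.comp_pow, Category.comp_id, mul_pow,
      show (snd S H ≫ h) ^ n = 1 by rw [← MonObj.comp_pow, hh1, MonObj.comp_one], _root_.mul_one,
      MonObj.comp_pow, Category.comp_id, MonObj.pow_comp]
  let u : S ⊗ H ⟶ pullback g ((𝟙 S) ^ n) := pullback.lift b (fst S H) hbn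
  have hv : ∃ v : pullback g ((𝟙 S) ^ n) ⟶ H,
      v ≫ h = pullback.fst g ((𝟙 S) ^ n) * (pullback.snd g ((𝟙 S) ^ n) ≫ s)⁻¹ :=
    AntiAffLib.exists_lift_kernel hhk _ (by
      letI : CommGroup (pullback g ((𝟙 S) ^ n) ⟶ G) := Hom.commGroup
      have hc : pullback.fst g ((𝟙 S) ^ n) ^ n = (pullback.snd g ((𝟙 S) ^ n) ≫ s) ^ n := by
        have := congrArg (· ≫ s) (pullback.condition (f := g) (g := (𝟙 S) ^ n))
        simpa only [Category.assoc, hg, MonObj.comp_pow, Category.comp_id, MonObj.pow_comp, Category.id_comp] using this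
      rw [MonObj.comp_pow, Category.comp_id, mul_pow, inv_pow, hc, mul_inv_cancel])
  obtain ⟨v, hv⟩ := hv
  haveI : IsIso u := by
    refine ⟨lift (pullback.snd g ((𝟙 S) ^ n)) v, ?_, ?_⟩
    · refine CartesianMonoidalCategory.hom_ext _ _ ?_ ?_
      · rw [Category.assoc, lift_fst, Category.id_comp]; exact pullback.lift_snd _ _ _
      · rw [Category.assoc, lift_snd, Category.id_comp, ← cancel_mono h, Category.assoc, hv, MonObj.comp_mul,
          GrpObj.comp_inv, ← Category.assoc u, pullback.lift_fst, pullback.lift_snd]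
        letI : CommGroup (S ⊗ H ⟶ G) := Hom.commGroup
        exact mul_inv_cancel_comm _ _
    · apply pullback.hom_ext
      · rw [Category.assoc, pullback.lift_fst, Category.id_comp, MonObj.comp_mul, ← Category.assoc, lift_fst,
          ← Category.assoc, lift_snd, hv]
        letI : CommGroup (pullback g ((𝟙 S) ^ n) ⟶ G) := Hom.commGroup
        exact mul_inv_cancel_comm_assoc _ _
      · rw [Category.assoc, pullback.lift_snd, Category.id_comp, lift_fst]
  haveI : IsIso u.left := inferInstanceAs (IsIso ((Over.forget _).map u))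
  have hub : u ≫ pullback.fst g ((𝟙 S) ^ n) = b := pullback.lift_fst _ _ _
  refine ⟨?_, ?_, ?_⟩
  · rw [hb, ← hub, Over.comp_left]; infer_instance
  · rw [hb, ← hub, Over.comp_left]; infer_instance
  -- the intersection lies in the kernel of the power map of `S`
  obtain ⟨N, _, iN, hiN, hiNc, hNk, -⟩ := AntiAffLib.exists_kernel ((𝟙 S) ^ n)
  haveI := hiNc
  haveI : Subsingleton ↥(Spec (CommRingCat.of k)) := inferInstanceAs (Subsingleton (PrimeSpectrum k))
  haveI : IsFinite N.hom := by
    haveI : IsFinite (toUnit N).left :=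
      MorphismProperty.of_isPullback (P := @IsFinite) (hNk.map (Over.forget _)) hnfin
    rw [← Over.w (toUnit N)]
    exact inferInstanceAs (IsFinite ((toUnit N).left ≫ 𝟙 _))
  have sqI := IsPullback.of_hasPullback s h
  obtain ⟨a, ha⟩ := AntiAffLib.exists_lift_kernel hNk (pullback.fst s h) (by
    rw [← cancel_mono s, MonObj.one_comp, Category.assoc, MonObj.pow_comp, Category.id_comp,
      MonObj.comp_pow, pullback.condition, ← MonObj.comp_pow, hh1, MonObj.comp_one])
  haveI : IsClosedImmersion (pullback.fst s h).left :=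
    MorphismProperty.of_isPullback (P := @IsClosedImmersion) (sqI.map (Over.forget _)).flip hhc
  haveI : IsClosedImmersion (a.left ≫ iN.left) := by rw [← Over.comp_left, ha]; infer_instance
  haveI : IsClosedImmersion a.left := IsClosedImmersion.of_comp a.left iN.left
  haveI : IsFinite (pullback s h).hom := by rw [← Over.w a]; infer_instance
  let e := (sqI.map (Over.forget _)).isoPullback
  have he : pullback.fst s.left h.left ≫ S.hom = e.inv ≫ (pullback s h).hom := by
    rw [← Over.w (pullback.fst s h), ← Category.assoc]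
    congr 1
    exact ((sqI.map (Over.forget _)).isoPullback_inv_fst).symm
  rw [he]
  infer_instance

end Groth.Agent.S14601
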