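import Groth.Statements.S14603
import Groth.Agent.SemiAbLib.Exponent
import Groth.Agent.SemiAbLib.PowField
import Groth.Agent.SemiAbLib.LargestSub

set_option autoImplicit false
set_option backward.isDefEq.respectTransparency false
set_option linter.style.haveILetI false
set_option maxHeartbeats 1000000
universe u
open CategoryTheory MonoidalCategory CartesianMonoidalCategory MonObj GrpObj AlgebraicGeometry CategoryTheory.Limits
open AlgGrp

namespace Groth.Agent.S14603

/-- Let k be a field of characteristic p > 0 and G a commutative k-group scheme of finite type. Then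
G_sab is trivial — every closed subgroup scheme of G which is an extension of a proper smooth
connected k-group scheme by a torus is the trivial group — exactly when, for some positive integer
n, multiplication by n on G (the map n_G) is zero (G has finite exponent). (A third equivalent
condition, that G is affine with finite largest subgroup of multiplicative type, is not stated
here.) -/
theorem result (k : Type u) [Field k] (p : ℕ) [Fact p.Prime] [CharP k p]
    (G : Over (Spec (CommRingCat.of k))) [GrpObj G] [IsCommMonObj G] [LocallyOfFiniteType G.hom] [QuasiCompact G.hom] :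
    (∀ (S : Over (Spec (CommRingCat.of k))) [GrpObj S] (s : S ⟶ G) [IsMonHom s] [IsClosedImmersion s.left],
        (∃ (T : Over (Spec (CommRingCat.of k))) (_ : GrpObj T) (i : T ⟶ S) (A : Over (Spec (CommRingCat.of k))) (_ : GrpObj A) (q : S ⟶ A),
        IsMonHom i ∧ IsClosedImmersion i.left ∧ Red.IsTorus T ∧ IsMonHom q ∧ Surjective q.left ∧ Flat q.left ∧
        AlgGrp.IsKernel i q ∧ IsProper A.hom ∧ Smooth A.hom ∧ ConnectedSpace ↥A.left) → IsIso η[S]) ↔
    ∃ n : ℕ, 0 < n ∧ (𝟙 G) ^ n = 1 := by
  constructor
  · intro h
    obtain ⟨S, _, s, n, hs, hsc, hS, hn, g, hg⟩ := SemiAbLib.exists_semiAb_exponent p G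
    haveI := hs; haveI := hsc
    haveI := h S s hS
    refine ⟨n, hn, ?_⟩
    have e : 𝟙 S = 1 := by
      rw [Hom.one_def, ← cancel_epi η[S], Category.comp_id, ← Category.assoc,
        toUnit_unique (η[S] ≫ toUnit S) (𝟙 _), Category.id_comp]
    rw [← hg, ← Category.id_comp s, e, MonObj.one_comp, MonObj.comp_one]
  · rintro ⟨n, hn, hn1⟩ S _ s _ _ hS
    haveI : LocallyOfFiniteType S.hom := by rw [← Over.w s]; infer_instance
    haveI : QuasiCompact S.hom := by rw [← Over.w s]; infer_instance
    haveI : Mono s := Over.mono_of_mono_left s
    refine SemiAbLib.IsSemiAb.isIso_eta_of_pow_eq_one (S := S) hS hn.ne' ?_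
    rw [← cancel_mono s, MonObj.one_comp, MonObj.pow_comp, Category.id_comp]
    have := congrArg (s ≫ ·) hn1
    simpa only [MonObj.comp_pow, Category.comp_id, MonObj.comp_one] using this

end Groth.Agent.S14603
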