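import Groth.Statements.S14605
import Groth.Agent.SemiAbLib.Exponent
import Groth.Agent.SemiAbLib.PowField
import Groth.Agent.SemiAbLib.LargestSub

set_option autoImplicit false
set_option backward.isDefEq.respectTransparency false
set_option linter.style.haveILetI false
set_option maxHeartbeats 1000000
universe u
open CategoryTheory MonoidalCategory CartesianMonoidalCategory MonObj GrpObj AlgebraicGeometry CategoryTheory.Limits
open AlgGrp

namespace Groth.Agent.S14605

/-- Let k be a field of characteristic p > 0, G a commutative k-group scheme of finite type, h : H → G a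
closed subgroup scheme and q : G → Q a flat surjective homomorphism of k-group schemes of finite
type with kernel H (Q = G/H). Let s : S → G and s' : S' → Q be the largest semi-abelian subvarieties
of G and of Q (closed subgroup schemes which are extensions of a proper smooth connected k-group
scheme by a torus, through which every other such closed subgroup scheme factors). Then q maps S
onto S': the image of S → G → Q equals the underlying set of S'. Since S' is smooth, this is the
statement that G_sab/(G_sab ∩ H) → (G/H)_sab is an isomorphism. -/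
theorem result (k : Type u) [Field k] (p : ℕ) [Fact p.Prime] [CharP k p]
    (G : Over (Spec (CommRingCat.of k))) [GrpObj G] [IsCommMonObj G] [LocallyOfFiniteType G.hom] [QuasiCompact G.hom]
    (H : Over (Spec (CommRingCat.of k))) [GrpObj H] (h : H ⟶ G) [IsMonHom h] [IsClosedImmersion h.left]
    (Q : Over (Spec (CommRingCat.of k))) [GrpObj Q] [LocallyOfFiniteType Q.hom] [QuasiCompact Q.hom]
    (q : G ⟶ Q) [IsMonHom q] [Surjective q.left] [Flat q.left] (hq : AlgGrp.IsKernel h q)
    (S : Over (Spec (CommRingCat.of k))) [GrpObj S] (s : S ⟶ G) [IsMonHom s] [IsClosedImmersion s.left] (hS : (∃ (T : Over (Spec (CommRingCat.of k))) (_ : GrpObj T) (i : T ⟶ S) (A : Over (Spec (CommRingCat.of k))) (_ : GrpObj A) (q : S ⟶ A),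
        IsMonHom i ∧ IsClosedImmersion i.left ∧ Red.IsTorus T ∧ IsMonHom q ∧ Surjective q.left ∧ Flat q.left ∧
        AlgGrp.IsKernel i q ∧ IsProper A.hom ∧ Smooth A.hom ∧ ConnectedSpace ↥A.left))
    (hSmax : ∀ (S₁ : Over (Spec (CommRingCat.of k))) [GrpObj S₁] (s₁ : S₁ ⟶ G) [IsMonHom s₁] [IsClosedImmersion s₁.left],
      (∃ (T : Over (Spec (CommRingCat.of k))) (_ : GrpObj T) (i : T ⟶ S₁) (A : Over (Spec (CommRingCat.of k))) (_ : GrpObj A) (q : S₁ ⟶ A),
        IsMonHom i ∧ IsClosedImmersion i.left ∧ Red.IsTorus T ∧ IsMonHom q ∧ Surjective q.left ∧ Flat q.left ∧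
        AlgGrp.IsKernel i q ∧ IsProper A.hom ∧ Smooth A.hom ∧ ConnectedSpace ↥A.left) → ∃ g : S₁ ⟶ S, g ≫ s = s₁)
    (S' : Over (Spec (CommRingCat.of k))) [GrpObj S'] (s' : S' ⟶ Q) [IsMonHom s'] [IsClosedImmersion s'.left] (hS' : (∃ (T : Over (Spec (CommRingCat.of k))) (_ : GrpObj T) (i : T ⟶ S') (A : Over (Spec (CommRingCat.of k))) (_ : GrpObj A) (q : S' ⟶ A),
        IsMonHom i ∧ IsClosedImmersion i.left ∧ Red.IsTorus T ∧ IsMonHom q ∧ Surjective q.left ∧ Flat q.left ∧
        AlgGrp.IsKernel i q ∧ IsProper A.hom ∧ Smooth A.hom ∧ ConnectedSpace ↥A.left))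
    (hS'max : ∀ (S₁ : Over (Spec (CommRingCat.of k))) [GrpObj S₁] (s₁ : S₁ ⟶ Q) [IsMonHom s₁] [IsClosedImmersion s₁.left],
      (∃ (T : Over (Spec (CommRingCat.of k))) (_ : GrpObj T) (i : T ⟶ S₁) (A : Over (Spec (CommRingCat.of k))) (_ : GrpObj A) (q : S₁ ⟶ A),
        IsMonHom i ∧ IsClosedImmersion i.left ∧ Red.IsTorus T ∧ IsMonHom q ∧ Surjective q.left ∧ Flat q.left ∧
        AlgGrp.IsKernel i q ∧ IsProper A.hom ∧ Smooth A.hom ∧ ConnectedSpace ↥A.left) → ∃ g : S₁ ⟶ S', g ≫ s' = s₁) :
    Set.range ⇑(s ≫ q).left.base = Set.range ⇑s'.left.base := by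
  haveI : LocallyOfFiniteType S.hom := by rw [← Over.w s]; infer_instance
  haveI : QuasiCompact S.hom := by rw [← Over.w s]; infer_instance
  haveI : LocallyOfFiniteType S'.hom := by rw [← Over.w s']; infer_instance
  haveI : QuasiCompact S'.hom := by rw [← Over.w s']; infer_instance
  haveI : Mono s' := Over.mono_of_mono_left s'
  apply subset_antisymm
  · obtain ⟨C, _, i, π, hi, hic, hC, -, hπi, -, -⟩ := SemiAbLib.exists_semi_subgroup (G := Q) (B := S) hS (s ≫ q)
    haveI := hi; haveI := hic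
    obtain ⟨g, hg⟩ := hS'max C i hC
    rw [← hπi, ← hg, ← Category.assoc, Over.comp_left, Scheme.Hom.comp_base, TopCat.coe_comp]
    exact Set.range_comp_subset_range _ _
  · obtain ⟨S₁, _, s₁, n, hs₁, hs₁c, hS₁, hn, g, hg⟩ := SemiAbLib.exists_semiAb_exponent p G
    haveI := hs₁; haveI := hs₁c
    obtain ⟨g₁, hg₁⟩ := hSmax S₁ s₁ hS₁
    have hn' : (𝟙 G ^ n) ≫ q = (g ≫ g₁) ≫ (s ≫ q) := by
      rw [Category.assoc g, ← Category.assoc g₁, hg₁, ← Category.assoc, hg]
    rintro _ ⟨z, rfl⟩
    obtain ⟨-, hsurj, -, -⟩ := SemiAbLib.IsSemiAb.pow_spec' (S := S') hS' hn.ne'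
    obtain ⟨w, rfl⟩ := hsurj.surj z
    obtain ⟨x, hx⟩ := q.left.surjective (s'.left w)
    refine ⟨(g ≫ g₁).left x, ?_⟩
    show (s ≫ q).left ((g ≫ g₁).left x) = s'.left ((𝟙 S' ^ n).left w)
    rw [← Scheme.Hom.comp_apply, ← Over.comp_left, ← hn', ← Scheme.Hom.comp_apply, ← Over.comp_left,
      MonObj.pow_comp, Category.id_comp]
    rw [show q ^ n = q ≫ (𝟙 Q ^ n) by rw [MonObj.comp_pow, Category.comp_id], Over.comp_left,
      Scheme.Hom.comp_apply, hx, ← Scheme.Hom.comp_apply, ← Over.comp_left,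
      MonObj.comp_pow, Category.comp_id, MonObj.pow_comp, Category.id_comp]

end Groth.Agent.S14605
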