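import Groth.Statements.S14606
import Groth.Agent.GeomRedFieldLib.Algebra
-- import your own Groth.Agent.* helpers here

set_option autoImplicit false
universe u
open FrobAlg

namespace Groth.Agent.S14606

/-- Let k be a field of characteristic p > 0 and R a finitely generated commutative k-algebra. The
scheme-theoretic image of the n-th relative Frobenius morphism of Spec R is the spectrum of the
k-subalgebra k[R^(p^n)] generated by all p^n-th powers; for n large enough this image is
geometrically reduced: there is an n such that k[R^(p^n)] is a geometrically reduced k-algebra.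
(Stated in affine, ring-theoretic form.) -/
theorem result (k : Type u) [Field k] (p : ℕ) [Fact p.Prime] [CharP k p]
    (R : Type u) [CommRing R] [Algebra k R] [Algebra.FiniteType k R] :
    ∃ n : ℕ, Algebra.IsGeometricallyReduced k ↥(Algebra.adjoin k (Set.range (fun x : R => x ^ (p ^ n)))) := by
  classical
  let P := perfectClosure k (AlgebraicClosure k)
  haveI : CharP P p := charP_of_injective_algebraMap (algebraMap k P).injective p
  haveI : ExpChar P p := ExpChar.prime (Fact.out : p.Prime)
  haveI : PerfectRing P p := PerfectField.toPerfectRing p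
  haveI : IsNoetherianRing (TensorProduct k P R) := Algebra.FiniteType.isNoetherianRing P (TensorProduct k P R)
  obtain ⟨m, hm⟩ := IsNoetherianRing.isNilpotent_nilradical (TensorProduct k P R)
  refine ⟨m, GeomRedFieldLib.isGeometricallyReduced_of_perfect P _ ⟨fun w hw ↦ ?_⟩⟩
  let ι : TensorProduct k P (Algebra.adjoin k (Set.range (fun x : R => x ^ (p ^ m)))) →ₐ[k] TensorProduct k P R := Algebra.TensorProduct.map (AlgHom.id k P) (Algebra.adjoin k (Set.range (fun x : R => x ^ (p ^ m)))).val
  have hι : Function.Injective ι :=
    Module.Flat.lTensor_preserves_injective_linearMap (Algebra.adjoin k (Set.range (fun x : R => x ^ (p ^ m)))).val.toLinearMap Subtype.val_injective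
  rcases subsingleton_or_nontrivial R with hR | hR
  · haveI : Subsingleton (TensorProduct k P R) := by
      refine subsingleton_of_zero_eq_one ?_
      rw [Algebra.TensorProduct.one_def, Subsingleton.elim (1 : R) 0, TensorProduct.tmul_zero]
    exact hι (Subsingleton.elim _ _)
  haveI : CharP R p := charP_of_injective_algebraMap (algebraMap k R).injective p
  haveI : CharP (TensorProduct k P R) p := charP_of_injective_algebraMap
    (R := P) (Algebra.TensorProduct.includeLeft_injective (S := P) (algebraMap k R).injective) p
  haveI : ExpChar (TensorProduct k P R) p := ExpChar.prime (Fact.out : p.Prime)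
  let q := p ^ m
  let Fr := iterateFrobenius (TensorProduct k P R) p m
  have hroot : ∀ a : P, ∃ b : P, b ^ q = a := fun a ↦
    ⟨(iterateFrobeniusEquiv P p m).symm a, by
      rw [← iterateFrobenius_def, ← coe_iterateFrobeniusEquiv]
      exact RingEquiv.apply_symm_apply _ _⟩
  have hA : ∀ x : R, x ∈ (Algebra.adjoin k (Set.range (fun x : R => x ^ (p ^ m)))) → ∀ a : P, a ⊗ₜ[k] x ∈ Fr.range := fun x hx ↦ by
    induction hx using Algebra.adjoin_induction with
    | mem x hx =>
      obtain ⟨r, rfl⟩ := hx
      intro a
      obtain ⟨b, rfl⟩ := hroot a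
      exact ⟨b ⊗ₜ r, by simp [Fr, iterateFrobenius_def, q, Algebra.TensorProduct.tmul_pow]⟩
    | algebraMap c =>
      intro a
      obtain ⟨b, hb⟩ := hroot (c • a)
      refine ⟨b ⊗ₜ 1, ?_⟩
      simp [Fr, iterateFrobenius_def, q, Algebra.TensorProduct.tmul_pow] at hb ⊢
      rw [hb, Algebra.algebraMap_eq_smul_one, TensorProduct.smul_tmul]
    | add x y _ _ hx hy => intro a; rw [TensorProduct.tmul_add]; exact add_mem (hx a) (hy a)
    | mul x y _ _ hx hy =>
      intro a
      have := mul_mem (hx a) (hy 1)
      rwa [Algebra.TensorProduct.tmul_mul_tmul, mul_one] at this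
  obtain ⟨z, hz⟩ : ι w ∈ Fr.range := by
    clear hw
    induction w using TensorProduct.induction_on with
    | zero => rw [map_zero]; exact zero_mem _
    | add a b ha hb => rw [map_add]; exact add_mem ha hb
    | tmul a x => exact hA x.1 x.2 a
  have hzn : z ∈ nilradical (TensorProduct k P R) := by
    obtain ⟨n, hn0⟩ := hw
    have hn : ι w ^ n = 0 := (RingHom.map_pow ι.toRingHom w n).symm.trans ((congrArg ι hn0).trans (RingHom.map_zero ι.toRingHom))
    rw [← hz, show Fr z = z ^ (p ^ m) from iterateFrobenius_def .., ← pow_mul] at hn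
    exact mem_nilradical.mpr ⟨_, hn⟩
  have hz0 : z ^ m = 0 := by
    have := Ideal.pow_mem_pow hzn m
    rwa [hm, Ideal.zero_eq_bot, Ideal.mem_bot] at this
  apply hι
  rw [map_zero, ← hz, show Fr z = z ^ (p ^ m) from iterateFrobenius_def ..]
  exact pow_eq_zero_of_le (M₀ := TensorProduct k P R) (Nat.lt_pow_self (Fact.out : p.Prime).one_lt).le hz0

end Groth.Agent.S14606
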