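import Groth.Statements.S14608
import Groth.Agent.ResFieldExactLib.Basic

set_option autoImplicit false
set_option backward.isDefEq.respectTransparency false
set_option backward.isDefEq.respectTransparency.types false
universe u v
open CAlg

namespace Groth.Agent.S14608

open TensorProduct in
/-- Let A be a Noetherian ring, M a finitely generated A-module, F a finitely generated free A-module, δ
: M → F an A-linear map and p a prime of A with residue field κ(p). The following are equivalent:
(a) the natural map (ker δ) ⊗ κ(p) → ker(δ ⊗ κ(p)) is surjective (its image is the whole kernel);
(b) that map is bijective; (c) (F / im δ) localized at p is a free module over the local ring A_p.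
Moreover, if these hold then (im δ) localized at p is free over A_p. (The published statement takes
M to be the cokernel of a map of finitely generated free modules; over a Noetherian ring this is
every finitely generated M, which is what this row takes.) -/
theorem result (A : Type u) [CommRing A] [IsNoetherianRing A]
    (M : Type v) (F : Type v) [AddCommGroup M] [Module A M] [Module.Finite A M]
    [AddCommGroup F] [Module A F] [Module.Finite A F] [Module.Free A F]
    (δ : M →ₗ[A] F) (p : Ideal A) [p.IsPrime] :
    [ Function.Exact (LinearMap.lTensor p.ResidueField (LinearMap.ker δ).subtype)
        (LinearMap.lTensor p.ResidueField δ),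
      Function.Exact (LinearMap.lTensor p.ResidueField (LinearMap.ker δ).subtype)
        (LinearMap.lTensor p.ResidueField δ) ∧
        Function.Injective (LinearMap.lTensor p.ResidueField (LinearMap.ker δ).subtype),
      Module.Free (Localization.AtPrime p)
        (LocalizedModule p.primeCompl (F ⧸ LinearMap.range δ)) ].TFAE ∧
    (Function.Exact (LinearMap.lTensor p.ResidueField (LinearMap.ker δ).subtype)
        (LinearMap.lTensor p.ResidueField δ) →
      Module.Free (Localization.AtPrime p)
        (LocalizedModule p.primeCompl (LinearMap.range δ))) := by
  have h12 := (ResFieldExactLib.exact_iff_injective p δ).trans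
    (ResFieldExactLib.cokernel_free_iff p δ)
  refine ⟨?_, fun h => ?_⟩
  · tfae_have 1 → 3 := fun h => (ResFieldExactLib.free_localized_iff p _).2 (h12.1 h)
    tfae_have 3 → 2 := fun h =>
      ⟨h12.2 ((ResFieldExactLib.free_localized_iff p _).1 h),
        ResFieldExactLib.ker_injective p δ ((ResFieldExactLib.free_localized_iff p _).1 h)⟩
    tfae_have 2 → 1 := fun h => h.1
    tfae_finish
  · haveI := ResFieldExactLib.range_projective p δ (h12.1 h)
    exact (ResFieldExactLib.free_localized_iff p _).2 Module.free_of_flat_of_isLocalRing

end Groth.Agent.S14608
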