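import Groth.Statements.S14610
import Groth.Agent.SemiRankLib.Reduced
import Groth.Agent.SemiRankLib.Basic
import Mathlib.RingTheory.Spectrum.Prime.FreeLocus

set_option autoImplicit false
set_option backward.isDefEq.respectTransparency false
set_option backward.isDefEq.respectTransparency.types false
universe u v
open CAlg

namespace Groth.Agent.S14610

open TensorProduct in
/-- Let A be a reduced Noetherian ring, M a finitely generated A-module, F a finitely generated free
A-module and δ : M → F an A-linear map such that the function p ↦ dim_{κ(p)} ker(δ ⊗ κ(p)) is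
locally constant on Spec A. Then M, ker δ and coker δ = F / im δ are projective A-modules, and for
every A-module N the natural map (ker δ) ⊗ N → M ⊗ N is injective with image equal to the kernel of
δ ⊗ N. -/
theorem result (A : Type u) [CommRing A]
    [IsNoetherianRing A] [IsReduced A] (M : Type v) (F : Type v) [AddCommGroup M] [Module A M]
    [Module.Finite A M] [AddCommGroup F] [Module A F] [Module.Finite A F] [Module.Free A F]
    (δ : M →ₗ[A] F)
    (h : IsLocallyConstant (fun x : PrimeSpectrum A =>
      Module.finrank x.asIdeal.ResidueField
        (LinearMap.ker (δ.baseChange x.asIdeal.ResidueField)))) :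
    Module.Projective A M ∧ Module.Projective A (LinearMap.ker δ) ∧
      Module.Projective A (F ⧸ LinearMap.range δ) ∧
      ∀ (N : Type v) [AddCommGroup N] [Module A N],
        Function.Injective (LinearMap.rTensor N (LinearMap.ker δ).subtype) ∧
        Function.Exact (LinearMap.rTensor N (LinearMap.ker δ).subtype) (LinearMap.rTensor N δ) := by
  haveI : Module.FinitePresentation A F := Module.finitePresentation_of_finite A F
  haveI : Module.FinitePresentation A M := Module.finitePresentation_of_finite A M
  haveI : Module.FinitePresentation A (F ⧸ LinearMap.range δ) :=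
    Module.finitePresentation_of_finite A _
  have hF : ∀ p q : PrimeSpectrum A, p ⤳ q → SemiRankLib.fibreRank F p = SemiRankLib.fibreRank F q := by
    intro p q hpq
    rw [SemiRankLib.fibreRank_eq_rankAtStalk, SemiRankLib.fibreRank_eq_rankAtStalk]
    obtain ⟨U, hU, hUo, hqU⟩ := eventually_nhds_iff.1
      ((Module.isLocallyConstant_rankAtStalk (R := A) (M := F)).eventually_eq q)
    exact hU p (hpq.mem_open hUo hqU)
  have key : ∀ p q : PrimeSpectrum A, p ≤ q →
      SemiRankLib.fibreRank M p = SemiRankLib.fibreRank M q ∧
        SemiRankLib.fibreRank (F ⧸ LinearMap.range δ) p =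
          SemiRankLib.fibreRank (F ⧸ LinearMap.range δ) q := by
    intro p q hpq
    have hs : p ⤳ q := (PrimeSpectrum.le_iff_specializes p q).1 hpq
    have ev : ∀ P : PrimeSpectrum A → Prop, (∀ᶠ y in nhds q, P y) → P p := fun P hP =>
      (eventually_nhds_iff.1 hP).elim fun U hU =>
        hU.1 p (hs.mem_open hU.2.1 hU.2.2)
    have h1 := ev _ (SemiRankLib.eventually_fibreRank_le M q)
    have h2 := ev _ (SemiRankLib.eventually_fibreRank_le (F ⧸ LinearMap.range δ) q)
    have h3 := ev _ (h.eventually_eq q)
    have e1 := SemiRankLib.finrank_range_add_fibreRank_coker δ p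
    have e2 := SemiRankLib.finrank_range_add_fibreRank_coker δ q
    have r1 := LinearMap.finrank_range_add_finrank_ker (δ.baseChange p.asIdeal.ResidueField)
    have r2 := LinearMap.finrank_range_add_finrank_ker (δ.baseChange q.asIdeal.ResidueField)
    have e3 := hF p q hs
    change _ = SemiRankLib.fibreRank M p at r1
    change _ = SemiRankLib.fibreRank M q at r2
    try simp only at h3
    omega
  haveI hM : Module.Projective A M :=
    SemiRankLib.projective_of_fibreRank_le_const M fun p q hpq => (key p q hpq).1
  haveI hC : Module.Projective A (F ⧸ LinearMap.range δ) :=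
    SemiRankLib.projective_of_fibreRank_le_const _ fun p q hpq => (key p q hpq).2
  have hi : Function.Injective (LinearMap.range δ).subtype := Subtype.val_injective
  have hq := Submodule.mkQ_surjective (LinearMap.range δ)
  obtain ⟨r, hr⟩ := (((LinearMap.exact_subtype_mkQ (LinearMap.range δ)).split_tfae hi hq).out 0 1).1
    (Module.projective_lifting_property _ _ hq)
  haveI : Module.Projective A (LinearMap.range δ) := Module.Projective.of_split _ _ hr
  have hπ := δ.surjective_rangeRestrict
  have he : Function.Exact (LinearMap.ker δ).subtype δ.rangeRestrict := by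
    rw [LinearMap.exact_iff, LinearMap.ker_rangeRestrict, Submodule.range_subtype]
  obtain ⟨s, hs⟩ := ((he.split_tfae Subtype.val_injective hπ).out 0 1).1
    (Module.projective_lifting_property _ _ hπ)
  refine ⟨hM, Module.Projective.of_split _ _ hs, hC, fun N _ _ => ⟨?_, ?_⟩⟩
  · refine Function.HasLeftInverse.injective ⟨s.rTensor N, fun z => ?_⟩
    rw [← LinearMap.comp_apply, ← LinearMap.rTensor_comp, hs, LinearMap.rTensor_id, LinearMap.id_apply]
  · have hj : Function.Injective ((LinearMap.range δ).subtype.rTensor N) := by
      refine Function.HasLeftInverse.injective ⟨r.rTensor N, fun z => ?_⟩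
      rw [← LinearMap.comp_apply, ← LinearMap.rTensor_comp, hr, LinearMap.rTensor_id,
        LinearMap.id_apply]
    have hc : ∀ z, δ.rTensor N z =
        (LinearMap.range δ).subtype.rTensor N (δ.rangeRestrict.rTensor N z) := fun z => by
      rw [← LinearMap.comp_apply, ← LinearMap.rTensor_comp]
      rfl
    intro z
    rw [← rTensor_exact N he hπ z, hc]
    exact ⟨fun hz => hj (hz.trans (map_zero _).symm), fun hz => by rw [hz, map_zero]⟩

end Groth.Agent.S14610
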