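import Mathlib.RingTheory.LocalRing.Module
import Mathlib.RingTheory.Support
import Mathlib.RingTheory.Localization.Module
import Mathlib.LinearAlgebra.Matrix.Adjugate
import Mathlib.Algebra.Module.Projective
import Mathlib.RingTheory.TensorProduct.Finite

/-!
A map from a finite module to a projective module is split injective near a prime iff it is
injective on the fibre.
-/

universe u

open TensorProduct

namespace SplitLocLib

variable {A : Type u} [CommRing A] {M N : Type u} [AddCommGroup M] [Module A M]
  [AddCommGroup N] [Module A N]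

lemma injective_lTensor_of_leftInverse (S : Submonoid A) (p : Ideal A) [p.IsPrime]
    (hS : S ≤ p.primeCompl) (u : M →ₗ[A] N)
    (w : LocalizedModule S N →ₗ[A] LocalizedModule S M)
    (hw : ∀ x, w (LocalizedModule.map S u x) = x) :
    Function.Injective (u.lTensor p.ResidueField) := by
  let one : M →ₗ[A] p.ResidueField ⊗[A] M := TensorProduct.mk A p.ResidueField M 1
  have hunit : ∀ s : S, IsUnit (algebraMap A (Module.End A (p.ResidueField ⊗[A] M)) s) := by
    intro s
    have hs : algebraMap A p.ResidueField s ≠ 0 := by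
      simpa [Ideal.algebraMap_residueField_eq_zero] using hS s.2
    rw [Module.End.isUnit_iff]
    constructor
    · intro x y hxy
      have h1 : algebraMap A p.ResidueField s • x = algebraMap A p.ResidueField s • y := by
        simpa [Module.algebraMap_end_apply, algebraMap_smul] using hxy
      exact smul_right_injective _ hs h1
    · intro x
      refine ⟨(algebraMap A p.ResidueField s)⁻¹ • x, ?_⟩
      simp [Module.algebraMap_end_apply, ← algebraMap_smul p.ResidueField (s : A), smul_inv_smul₀ hs]
  let ψ : LocalizedModule S M →ₗ[A] p.ResidueField ⊗[A] M := LocalizedModule.lift S one hunit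
  let Ψ : p.ResidueField ⊗[A] LocalizedModule S M →ₗ[p.ResidueField] p.ResidueField ⊗[A] M :=
    ψ.liftBaseChange p.ResidueField
  have hΨ : ∀ x, Ψ ((LocalizedModule.mkLinearMap S M).lTensor p.ResidueField x) = x := by
    intro x
    induction x using TensorProduct.induction_on with
    | zero => simp
    | tmul a m =>
      rw [LinearMap.lTensor_tmul, LinearMap.liftBaseChange_tmul, LocalizedModule.mkLinearMap_apply]
      simp [ψ, one, smul_tmul']
    | add x y hx hy => simp [hx, hy]
  intro x y hxy
  rw [← hΨ x, ← hΨ y]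
  congr 1
  have key : ∀ z, (LocalizedModule.mkLinearMap S M).lTensor p.ResidueField z =
      w.lTensor p.ResidueField ((LocalizedModule.mkLinearMap S N).lTensor p.ResidueField
        (u.lTensor p.ResidueField z)) := by
    intro z
    induction z using TensorProduct.induction_on with
    | zero => simp
    | tmul a m =>
      simp only [LinearMap.lTensor_tmul, LocalizedModule.mkLinearMap_apply]
      rw [← LocalizedModule.map_mk S u m 1, hw]
    | add x y hx hy => simp only [map_add, hx, hy]
  rw [key x, key y, hxy]

lemma exists_smul_leftInverse [Module.Finite A M] [Module.Projective A N] (p : Ideal A) [p.IsPrime]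
    (u : M →ₗ[A] N) (h : Function.Injective (u.lTensor p.ResidueField)) :
    ∃ f ∉ p, ∃ w : N →ₗ[A] M, ∀ m, w (u m) = f • m := by
  classical
  let κ := p.ResidueField
  -- a basis of the fibre coming from elements of `M`
  have hspan : Submodule.span κ (Set.range fun m : M => (1 : κ) ⊗ₜ[A] m) = ⊤ := by
    rw [eq_top_iff]
    rintro x -
    induction x using TensorProduct.induction_on with
    | zero => exact zero_mem _
    | tmul a m =>
      have : a ⊗ₜ[A] m = a • ((1 : κ) ⊗ₜ[A] m) := by simp [smul_tmul']
      rw [this]; exact Submodule.smul_mem _ _ (Submodule.subset_span ⟨m, rfl⟩)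
    | add x y hx hy => exact add_mem hx hy
  obtain ⟨b, hb, hbspan, hbli⟩ := exists_linearIndependent κ
    (Set.range fun m : M => (1 : κ) ⊗ₜ[A] m)
  have hbf : b.Finite := hbli.setFinite
  have : Fintype b := hbf.fintype
  choose g hg using fun x : b => hb x.2
  let φ : (b → A) →ₗ[A] M := Fintype.linearCombination A g
  -- Nakayama: `φ` is surjective near `p`
  have hsurj : ∃ c ∉ p, ∀ m : M, ∃ y, φ y = c • m := by
    have hQ : (⟨p, ‹_›⟩ : PrimeSpectrum A) ∉ Module.support A (M ⧸ LinearMap.range φ) := by
      rw [Module.mem_support_iff_nontrivial_residueField_tensorProduct, not_nontrivial_iff_subsingleton]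
      have hzero : ((LinearMap.range φ).mkQ.baseChange κ) = 0 := by
        apply LinearMap.ext_on (hbspan.trans hspan)
        intro x hx
        have hx' := hg ⟨x, hx⟩
        simp only at hx'
        rw [← hx', LinearMap.baseChange_tmul, LinearMap.zero_apply]
        have : g ⟨x, hx⟩ ∈ LinearMap.range φ :=
          ⟨Pi.single ⟨x, hx⟩ 1, by simp [φ, Fintype.linearCombination_apply_single]⟩
        rw [(Submodule.Quotient.mk_eq_zero _).2 this |> fun e => (show (LinearMap.range φ).mkQ _ = 0 from e),
          tmul_zero]
      refine subsingleton_of_forall_eq 0 fun z => ?_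
      obtain ⟨z, rfl⟩ := LinearMap.lTensor_surjective κ (Submodule.mkQ_surjective (LinearMap.range φ)) z
      exact LinearMap.congr_fun hzero z
    have h' := Module.notMem_support_iff'.1 hQ
    obtain ⟨s, hs⟩ := (Module.Finite.fg_top (R := A) (M := M))
    choose c hc hc' using fun m : s => h' (Submodule.Quotient.mk (m : M))
    refine ⟨∏ m, c m, fun hmem => ?_, fun m => ?_⟩
    · obtain ⟨i, -, hi⟩ := (‹p.IsPrime›.prod_mem_iff).1 hmem
      exact hc i hi
    · suffices ⊤ ≤ (LinearMap.range φ).comap ((∏ m, c m) • (LinearMap.id : M →ₗ[A] M)) from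
        this (Submodule.mem_top (x := m))
      rw [← hs, Submodule.span_le]
      intro x hx
      obtain ⟨r, hr⟩ := Finset.dvd_prod_of_mem c (Finset.mem_univ ⟨x, hx⟩)
      have := hc' ⟨x, hx⟩
      rw [← Submodule.Quotient.mk_smul, Submodule.Quotient.mk_eq_zero] at this
      show (∏ m, c m) • x ∈ LinearMap.range φ
      rw [hr, mul_comm, mul_smul]
      exact Submodule.smul_mem _ _ this
  obtain ⟨c, hc, hφ⟩ := hsurj
  -- coordinates on `N`
  obtain ⟨s, hs⟩ := (Module.projective_def'.1 ‹Module.Projective A N›)
  let T : Finset N := Finset.univ.biUnion fun j : b => (s (u (g j))).support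
  let co : N →ₗ[A] (T → A) := LinearMap.pi fun t => (Finsupp.lapply (t : N)) ∘ₗ s
  let back : (T → A) →ₗ[A] N := Fintype.linearCombination A (fun t : T => (t : N))
  have hback : ∀ j, back (co (u (g j))) = u (g j) := by
    intro j
    conv_rhs => rw [← LinearMap.id_apply (R := A) (u (g j)), ← hs, LinearMap.comp_apply,
      Finsupp.linearCombination_apply, Finsupp.sum]
    have hsub : (s (u (g j))).support ⊆ T := Finset.subset_biUnion_of_mem
      (fun j : b => (s (u (g j))).support) (Finset.mem_univ j)
    rw [Finset.sum_subset hsub (fun t _ ht => by simp [Finsupp.notMem_support_iff.1 ht]),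
      Fintype.linearCombination_apply, ← Finset.sum_coe_sort T]
    rfl
  -- the matrix of `co ∘ u ∘ φ` modulo `p`
  let V : b → (T → κ) := fun j t => algebraMap A κ (co (u (g j)) t)
  have hV : LinearIndependent κ V := by
    let ev : κ ⊗[A] (T → A) →ₗ[κ] (T → κ) :=
      ((Algebra.linearMap A κ).compLeft T).liftBaseChange κ
    let bk : (T → κ) →ₗ[κ] κ ⊗[A] N :=
      Fintype.linearCombination κ (fun t : T => (1 : κ) ⊗ₜ[A] (t : N))
    have himg : ∀ j, bk (V j) = u.baseChange κ ((1 : κ) ⊗ₜ[A] g j) := by
      intro j
      rw [LinearMap.baseChange_tmul, ← hback j, Fintype.linearCombination_apply,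
        Fintype.linearCombination_apply, tmul_sum]
      simp [V, tmul_smul, smul_tmul', Algebra.smul_def]
    have h1 : LinearIndependent κ (fun j : b => u.baseChange κ ((1 : κ) ⊗ₜ[A] g j)) := by
      have : LinearIndependent κ (fun j : b => (1 : κ) ⊗ₜ[A] g j) := by
        simpa only [hg] using hbli
      exact this.map' _ (LinearMap.ker_eq_bot.2 h)
    exact LinearIndependent.of_comp bk (by simpa only [Function.comp_def, himg] using h1)
  -- a left inverse modulo `p`, lifted
  let F : (b → κ) →ₗ[κ] (T → κ) := Fintype.linearCombination κ V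
  have hF : LinearMap.ker F = ⊥ := LinearMap.ker_eq_bot.2 hV.fintypeLinearCombination_injective
  obtain ⟨G, hG⟩ := F.exists_leftInverse_of_injective hF
  have hlift : ∀ (x : κ), ∃ a d : A, d ∉ p ∧ algebraMap A κ d * x = algebraMap A κ a := by
    intro x
    obtain ⟨a, d, hd, rfl⟩ := IsFractionRing.div_surjective (A := A ⧸ p) x
    obtain ⟨a, rfl⟩ := Ideal.Quotient.mk_surjective a
    obtain ⟨d, rfl⟩ := Ideal.Quotient.mk_surjective d
    have hd' : d ∉ p := fun h => nonZeroDivisors.ne_zero hd (Ideal.Quotient.eq_zero_iff_mem.2 h)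
    refine ⟨a, d, hd', ?_⟩
    show algebraMap A κ d * (algebraMap A κ a / algebraMap A κ d) = algebraMap A κ a
    rw [mul_div_cancel₀]
    rwa [Ne, Ideal.algebraMap_residueField_eq_zero]
  choose num den hden hnum using fun (i : b) (t : T) => hlift (G (Pi.single t 1) i)
  let D : A := ∏ i, ∏ t, den i t
  have hD : D ∉ p := by
    simp [D, ‹p.IsPrime›.prod_mem_iff, hden]
  have hQ : ∀ i t, ∃ a, algebraMap A κ a = algebraMap A κ D * G (Pi.single t 1) i := by
    intro i t
    obtain ⟨r, hr⟩ : den i t ∣ D :=
      (Finset.dvd_prod_of_mem (den i) (Finset.mem_univ t)).trans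
        (Finset.dvd_prod_of_mem (fun i => ∏ t, den i t) (Finset.mem_univ i))
    exact ⟨r * num i t, by rw [hr, map_mul, map_mul, ← hnum]; ring⟩
  choose Qm hQm using hQ
  let q : (T → A) →ₗ[A] (b → A) := Matrix.mulVecLin (Matrix.of Qm)
  let L : Matrix b b A := LinearMap.toMatrix' (q ∘ₗ co ∘ₗ u ∘ₗ φ)
  have hLκ : L.map (algebraMap A κ) = (algebraMap A κ D) • (1 : Matrix b b κ) := by
    ext i j
    have e1 : L i j = ∑ t, Qm i t * co (u (g j)) t := by
      simp [L, LinearMap.toMatrix'_apply, q, φ, Matrix.mulVec, dotProduct,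
        Fintype.linearCombination_apply]
    have e2 : G (V j) i = (1 : Matrix b b κ) i j := by
      have := congrFun (LinearMap.congr_fun hG (Pi.single j 1)) i
      simpa [F, Fintype.linearCombination_apply_single, Matrix.one_apply, Pi.single_apply] using this
    rw [Matrix.map_apply, e1, map_sum, Matrix.smul_apply, ← e2]
    conv_rhs => rw [show V j = ∑ t, V j t • (Pi.single t 1 : T → κ) from pi_eq_sum_univ' (V j),
      map_sum]
    simp only [Finset.sum_apply, map_smul, Pi.smul_apply, smul_eq_mul, Finset.mul_sum, map_mul,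
      hQm]
    exact Finset.sum_congr rfl fun t _ => by simp only [V]; ring
  have hdet : L.det ∉ p := by
    rw [← Ideal.algebraMap_residueField_eq_zero, RingHom.map_det, RingHom.mapMatrix_apply, hLκ,
      Matrix.det_smul, Matrix.det_one, mul_one]
    exact pow_ne_zero _ (by rwa [Ne, Ideal.algebraMap_residueField_eq_zero])
  refine ⟨L.det * c, fun hmem => (‹p.IsPrime›.mem_or_mem hmem).elim hdet hc,
    c • (φ ∘ₗ L.adjugate.mulVecLin ∘ₗ q ∘ₗ co), fun m => ?_⟩
  obtain ⟨y, hy⟩ := hφ m
  have h1 : ∀ z, L.adjugate.mulVecLin (q (co (u (φ z)))) = L.det • z := by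
    intro z
    have : q (co (u (φ z))) = L.mulVec z := by
      simp [L, LinearMap.toMatrix'_mulVec]
    rw [this, Matrix.mulVecLin_apply, Matrix.mulVec_mulVec, Matrix.adjugate_mul,
      Matrix.smul_mulVec, Matrix.one_mulVec]
  -- compute on `c • m = φ y`
  have hm : φ (L.adjugate.mulVecLin (q (co (u (c • m))))) = (L.det * c) • m := by
    rw [← hy, h1, map_smul, hy, smul_smul]
  rw [LinearMap.smul_apply, ← map_smul, ← map_smul]
  simpa only [LinearMap.comp_apply] using hm

end SplitLocLib
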