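import Groth.Statements.S14611
import Groth.Agent.SplitLocLib
import Mathlib.Algebra.Homology.ShortComplex.ModuleCat
import Mathlib.RingTheory.LocalRing.ResidueField.Ideal

set_option autoImplicit false
universe u
open FlatCx

namespace Groth.Agent.S14611

open CategoryTheory CategoryTheory.Limits in
/-- Let A be a Noetherian ring, Q a cochain complex whose terms are finitely generated projective
A-modules, and d an integer such that H^p(Q) = 0 for every p < d and H^p(Q ⊗_A A/m) = 0 for every p
< d and every maximal ideal m of A. Then Q^d / im(Q^{d-1} → Q^d), the degree-d term of the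
truncation τ_{≥ d} Q, is a projective A-module, so that τ_{≥ d} Q is again a complex of projective
modules. (The published statement also asserts that Q → τ_{≥ d} Q is a quasi-isomorphism when H^p(Q)
= 0 for p < d; this row omits that clause.) -/
theorem result (A : Type u) [CommRing A] [IsNoetherianRing A]
    (Q : CochainComplex (ModuleCat.{u} A) ℤ)
    (hQ : ∀ i, Module.Finite A (Q.X i) ∧ Module.Projective A (Q.X i)) (d : ℤ)
    (h1 : ∀ p < d, IsZero (Q.homology p))
    (h2 : ∀ (m : Ideal A) [m.IsMaximal], ∀ p < d,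
      IsZero ((CohIII.tensorObj Q (ModuleCat.of A (A ⧸ m))).homology p)) :
    Module.Projective A (Q.opcycles d) := by
  set D := (Q.d (d - 1) d).hom with hD
  haveI := (hQ (d - 1)).1
  haveI := (hQ d).1
  haveI := (hQ d).2
  let K := LinearMap.range D
  haveI : Module.Finite A K := inferInstance
  have hinj : ∀ (m : Ideal A) [m.IsMaximal], Function.Injective (K.subtype.lTensor m.ResidueField) := by
    intro m _
    have h3 : ((CohIII.tensorObj Q (ModuleCat.of A (A ⧸ m))).sc' (d - 1 - 1) (d - 1) d).Exact :=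
      ((CohIII.tensorObj Q (ModuleCat.of A (A ⧸ m))).exactAt_iff' (d - 1 - 1) (d - 1) d
        (CochainComplex.prev ℤ (d - 1)) (by simp)).1
        (((CohIII.tensorObj Q (ModuleCat.of A (A ⧸ m))).exactAt_iff_isZero_homology (d - 1)).2 (h2 m (d - 1) (by omega)))
    have h4 : Function.Exact ((Q.d (d - 1 - 1) (d - 1)).hom.rTensor (A ⧸ m)) (D.rTensor (A ⧸ m)) :=
      (ShortComplex.ShortExact.moduleCat_exact_iff_function_exact _).1 h3
    have h5 : Function.Injective (K.subtype.rTensor (A ⧸ m)) := by
      refine (injective_iff_map_eq_zero _).2 fun z hz => ?_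
      obtain ⟨w, rfl⟩ := LinearMap.rTensor_surjective (A ⧸ m) D.surjective_rangeRestrict z
      rw [← LinearMap.comp_apply, ← LinearMap.rTensor_comp] at hz
      obtain ⟨v, rfl⟩ := (h4 w).1 hz
      rw [← LinearMap.comp_apply, ← LinearMap.rTensor_comp,
        show D.rangeRestrict ∘ₗ (Q.d (d - 1 - 1) (d - 1)).hom = 0 from LinearMap.ext fun x => Subtype.ext (by
          show (Q.d (d - 1 - 1) (d - 1) ≫ Q.d (d - 1) d).hom x = 0
          rw [HomologicalComplex.d_comp_d]; rfl)]
      simp
    let g : (A ⧸ m) →ₗ[A] m.ResidueField := (IsScalarTower.toAlgHom A (A ⧸ m) _).toLinearMap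
    let e := LinearEquiv.ofBijective g m.bijective_algebraMap_quotient_residueField
    intro x y hxy
    have hnat : (e.symm.toLinearMap.rTensor (Q.X d)) ∘ₗ K.subtype.lTensor _ =
        K.subtype.lTensor (A ⧸ m) ∘ₗ e.symm.toLinearMap.rTensor _ := by
      rw [LinearMap.rTensor_comp_lTensor, LinearMap.lTensor_comp_rTensor]
    apply (LinearEquiv.rTensor K e.symm).injective
    refine (LinearMap.lTensor_inj_iff_rTensor_inj _ _).2 h5 ?_
    have e1 := LinearMap.congr_fun hnat x
    have e2 := LinearMap.congr_fun hnat y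
    simp only [LinearMap.comp_apply] at e1 e2
    show K.subtype.lTensor (A ⧸ m) (e.symm.toLinearMap.rTensor _ x) = K.subtype.lTensor (A ⧸ m) (e.symm.toLinearMap.rTensor _ y)
    rw [← e1, ← e2, hxy]
  let J : Ideal A :=
    { carrier := {f | ∃ w : Q.X d →ₗ[A] K, ∀ x, w (K.subtype x) = f • x}
      add_mem' := by
        rintro a b ⟨v, hv⟩ ⟨w, hw⟩
        exact ⟨v + w, fun x => by rw [LinearMap.add_apply, hv, hw, add_smul]⟩
      zero_mem' := ⟨0, fun x => by rw [LinearMap.zero_apply, zero_smul]⟩
      smul_mem' := by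
        rintro c a ⟨v, hv⟩
        exact ⟨c • v, fun x => by rw [LinearMap.smul_apply, hv, smul_smul, smul_eq_mul]⟩ }
  obtain ⟨w, hw⟩ : (1 : A) ∈ J := by
    rw [← Ideal.eq_top_iff_one]
    by_contra hne
    obtain ⟨m, hm, hJm⟩ := Ideal.exists_le_maximal J hne
    obtain ⟨f, hf, w, hw⟩ := SplitLocLib.exists_smul_leftInverse m K.subtype (hinj m)
    exact hf (hJm ⟨w, hw⟩)
  let r : (Q.X d ⧸ K) →ₗ[A] Q.X d := K.liftQ (LinearMap.id - K.subtype ∘ₗ w) fun x hx => by
    have h := congrArg Subtype.val (hw ⟨x, hx⟩)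
    rw [one_smul] at h
    exact sub_eq_zero.2 h.symm
  haveI : Module.Projective A (Q.X d ⧸ K) := Module.Projective.of_split r K.mkQ (LinearMap.ext fun x => by
    obtain ⟨x, rfl⟩ := K.mkQ_surjective x
    show K.mkQ (x - (w x : Q.X d)) = K.mkQ x
    rw [map_sub, show K.mkQ (w x : Q.X d) = 0 from (Submodule.Quotient.mk_eq_zero K).2 (w x).2, sub_zero])
  have e : (Q.X d ⧸ K) ≃ₗ[A] Q.opcycles d := (Q.opcyclesIsoSc' (d - 1) d (d + 1) (CochainComplex.prev ℤ d)
    (CochainComplex.next ℤ d) ≪≫ (Q.sc' (d - 1) d (d + 1)).moduleCatOpcyclesIso).toLinearEquiv.symm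
  exact Module.Projective.of_equiv e

end Groth.Agent.S14611
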