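import Groth.Statements.S14612
import Groth.Agent.KFlatLib.CxFlat


-- import your own Groth.Agent.* helpers here

set_option autoImplicit false
universe u
open FlatCx

namespace Groth.Agent.S14612

open CategoryTheory CategoryTheory.Limits in
/-- Let A be a commutative ring and F a cochain complex of flat A-modules which is bounded above (F^i =
0 for all large i) and whose cohomology H^p(F) vanishes for every p > d. Then the module of
d-cocycles Z^d = ker(F^d → F^{d+1}) is flat over A; hence the truncation τ_{≤ d} F is again a
complex of flat modules (and τ_{≤ d} F → F is a quasi-isomorphism, which is not restated).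
Boundedness cannot be dropped. -/
theorem result (A : Type u) [CommRing A]
    (F : CochainComplex (ModuleCat.{u} A) ℤ) (hF : ∀ i, Module.Flat A (F.X i))
    (hb : ∃ b : ℤ, ∀ i, b < i → IsZero (F.X i)) (d : ℤ) (hac : ∀ p, d < p → IsZero (F.homology p)) :
    Module.Flat A (F.cycles d) := by
  obtain ⟨b, hb⟩ := hb
  have key : ∀ (n : ℕ) (i : ℤ), d ≤ i → b + 1 - i ≤ n → Module.Flat A (LinearMap.ker (F.d i (i + 1)).hom) := by
    intro n
    induction n with
    | zero =>
      intro i _ hin
      have := ModuleCat.subsingleton_of_isZero (hb i (by omega))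
      infer_instance
    | succ n ih =>
      intro i hi hin
      have := ih (i + 1) (by omega) (by omega)
      have := hF i
      have hd : ∀ z, (F.d (i + 1) (i + 1 + 1)).hom ((F.d i (i + 1)).hom z) = 0 := fun z => by
        rw [← LinearMap.comp_apply, ← ModuleCat.hom_comp, F.d_comp_d, ModuleCat.hom_zero,
          LinearMap.zero_apply]
      refine KFlatLib.flat_kernel (LinearMap.ker (F.d i (i + 1)).hom).subtype
        ((F.d i (i + 1)).hom.codRestrict (LinearMap.ker (F.d (i + 1) (i + 1 + 1)).hom) hd) Subtype.val_injective ?_ ?_
      · rw [LinearMap.exact_iff, Submodule.range_subtype, LinearMap.ker_codRestrict]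
      · rintro ⟨z, hz⟩
        obtain ⟨y, hy⟩ := (KFlatLib.isZero_homology_iff_exists F i (i + 1) (i + 1 + 1) rfl rfl).mp
          (hac _ (by omega)) z hz
        exact ⟨y, Subtype.ext hy⟩
  haveI := key (b + 1 - d).toNat d le_rfl (by omega)
  have hlim : IsLimit (KernelFork.ofι (F.iCycles d) (F.iCycles_d d (d + 1))) := F.cyclesIsKernel d (d + 1) (by simp)
  haveI : Module.Flat A (ModuleCat.kernelCone (F.d d (d + 1))).pt := this
  exact Module.Flat.of_linearEquiv (hlim.conePointUniqueUpToIso (ModuleCat.kernelIsLimit (F.d d (d + 1)))).toLinearEquiv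

end Groth.Agent.S14612
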