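import Groth.Statements.S14614
import Mathlib

set_option autoImplicit false
universe u
open Mor

namespace Groth.Agent.S14614

open CategoryTheory AlgebraicGeometry in
/-- Let S be a locally Noetherian scheme and i : Z → S a closed immersion with the following property:
for every Artinian local ring A with residue field k and every morphism g : Spec A → S, if the
restriction Spec k → Spec A → S of g factors through i then so does g. Then i is also an open
immersion, i.e. the closed subscheme Z is open in S as a subscheme. (The published hypothesis is an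
equivalence; its other direction always holds, so this row assumes only the implication.) -/
theorem result (S : Scheme.{u}) [IsLocallyNoetherian S]
    {Z : Scheme.{u}} (i : Z ⟶ S) [IsClosedImmersion i]
    (h : ∀ (A : Type u) [CommRing A] [IsArtinianRing A] [IsLocalRing A] (g : Spec (CommRingCat.of A) ⟶ S),
      (∃ t : Spec (CommRingCat.of (IsLocalRing.ResidueField A)) ⟶ Z,
          t ≫ i = Spec.map (CommRingCat.ofHom (IsLocalRing.residue A)) ≫ g) →
        ∃ g' : Spec (CommRingCat.of A) ⟶ Z, g' ≫ i = g) :
    IsOpenImmersion i := by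
  haveI : Flat i := Flat.of_stalkMap i fun x => by
    refine RingHom.Flat.of_bijective ⟨?_, i.stalkMap_surjective x⟩
    rw [injective_iff_map_eq_zero]
    intro a ha
    have hmem : ∀ n : ℕ, a ∈ IsLocalRing.maximalIdeal (S.presheaf.stalk (i x)) ^ (n + 1) := fun n => by
      let R := S.presheaf.stalk (i x)
      let I := IsLocalRing.maximalIdeal R ^ (n + 1)
      have hI : I ≤ IsLocalRing.maximalIdeal R := Ideal.pow_le_self n.succ_ne_zero
      haveI : Nontrivial (R ⧸ I) := Ideal.Quotient.nontrivial_iff.mpr
        (ne_top_of_le_ne_top (IsLocalRing.maximalIdeal.isMaximal R).ne_top hI)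
      haveI : IsLocalRing (R ⧸ I) := IsLocalRing.of_surjective' _ Ideal.Quotient.mk_surjective
      haveI hloc : IsLocalHom (Ideal.Quotient.mk I) :=
        IsLocalHom.of_surjective _ Ideal.Quotient.mk_surjective
      haveI : IsArtinianRing (R ⧸ I) := by
        rw [isArtinianRing_iff_isNilpotent_maximalIdeal]
        refine ⟨n + 1, ?_⟩
        rw [← IsLocalRing.map_maximalIdeal_of_surjective _ Ideal.Quotient.mk_surjective, ← Ideal.map_pow,
          Ideal.map_quotient_self]
        rfl
      let q : R ⟶ CommRingCat.of (R ⧸ I) := CommRingCat.ofHom (Ideal.Quotient.mk I)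
      let g : Spec (CommRingCat.of (R ⧸ I)) ⟶ S := Spec.map q ≫ S.fromSpecStalk (i x)
      let r : R →+* IsLocalRing.ResidueField (R ⧸ I) :=
        (IsLocalRing.residue (R ⧸ I)).comp (Ideal.Quotient.mk I)
      have hker : RingHom.ker (i.stalkMap x).hom ≤ RingHom.ker r := fun b hb => by
        have hbm : b ∈ IsLocalRing.maximalIdeal R := by
          rw [IsLocalRing.mem_maximalIdeal, mem_nonunits_iff]
          intro hu
          have := hu.map (i.stalkMap x).hom
          rw [RingHom.mem_ker.mp hb] at this
          exact not_isUnit_zero this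
        rw [RingHom.mem_ker, RingHom.comp_apply, IsLocalRing.residue_eq_zero_iff,
          IsLocalRing.mem_maximalIdeal, mem_nonunits_iff]
        intro hu
        exact hbm (isUnit_of_map_unit (Ideal.Quotient.mk I) b hu)
      let φ := (i.stalkMap x).hom.liftOfSurjective (i.stalkMap_surjective x) ⟨r, hker⟩
      have hφ : φ.comp (i.stalkMap x).hom = r :=
        RingHom.liftOfSurjective_comp _ (i.stalkMap_surjective x) ⟨r, hker⟩
      obtain ⟨g', hg'⟩ := h (R ⧸ I) g ⟨Spec.map (CommRingCat.ofHom φ) ≫ Z.fromSpecStalk x, by
        rw [Category.assoc, ← Scheme.SpecMap_stalkMap_fromSpecStalk, ← Spec.map_comp_assoc]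
        have hq : i.stalkMap x ≫ CommRingCat.ofHom φ = q ≫ CommRingCat.ofHom (IsLocalRing.residue (R ⧸ I)) :=
          CommRingCat.hom_ext hφ
        erw [hq, Spec.map_comp_assoc]⟩
      have hx : g' (IsLocalRing.closedPoint (R ⧸ I)) = x := by
        apply (Scheme.Hom.isClosedEmbedding i).injective
        have := congrArg (fun m : Spec (CommRingCat.of (R ⧸ I)) ⟶ S => m (IsLocalRing.closedPoint (R ⧸ I))) hg'
        refine this.trans ?_
        change S.fromSpecStalk (i x) (Spec.map q (IsLocalRing.closedPoint (R ⧸ I))) = i x
        haveI : IsLocalHom q.hom := hloc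
        erw [Spec_closedPoint]
        exact Scheme.fromSpecStalk_closedPoint
      obtain ⟨ψ, hψ⟩ : ∃ ψ : Z.presheaf.stalk x ⟶ CommRingCat.of (R ⧸ I),
          Spec.map ψ ≫ Z.fromSpecStalk x = g' := by
        have H : ∀ y : Z, g' (IsLocalRing.closedPoint (R ⧸ I)) = y →
            ∃ ψ : Z.presheaf.stalk y ⟶ CommRingCat.of (R ⧸ I), Spec.map ψ ≫ Z.fromSpecStalk y = g' := by
          rintro _ rfl
          exact ⟨Scheme.stalkClosedPointTo g', Scheme.Spec_stalkClosedPointTo_fromSpecStalk g'⟩
        exact H x hx
      rw [← hψ, Category.assoc, ← Scheme.SpecMap_stalkMap_fromSpecStalk, ← Spec.map_comp_assoc,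
        cancel_mono] at hg'
      have he := Spec.map_injective hg'
      have : Ideal.Quotient.mk I a = 0 := by
        change q.hom a = 0
        rw [← he, CommRingCat.hom_comp, RingHom.comp_apply, ha, map_zero]
      exact Ideal.Quotient.eq_zero_iff_mem.mp this
    have := Ideal.iInf_pow_eq_bot_of_isLocalRing (IsLocalRing.maximalIdeal (S.presheaf.stalk (i x)))
      (IsLocalRing.maximalIdeal.isMaximal _).ne_top
    rw [← Ideal.mem_bot, ← this, Ideal.mem_iInf]
    intro n
    cases n with
    | zero => simp
    | succ n => exact hmem n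
  exact IsOpenImmersion.of_flat_of_mono i

end Groth.Agent.S14614
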