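import Groth.Statements.S14615
import Groth.Agent.TowerLib.Basic

set_option autoImplicit false
universe u
open Formal2

namespace Groth.Agent.S14615

/-- Let … → G_2 → G_1 → G_0 be an inverse system of abelian groups with transition maps t_n : G_{n+1} →
G_n, and suppose that for every i there is j ≥ i such that the composite transition map G_j → G_i is
zero; this is expressed by asking that every sequence (x_n) ∈ ∏ G_n satisfying x_n = t_n(x_{n+1})
for i ≤ n < j has x_i = 0. Then both lim G_n and lim¹ G_n vanish: the map (x_n) ↦ (x_n −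
t_n(x_{n+1})) on ∏ G_n, whose kernel is lim and whose cokernel is lim¹, is injective and surjective. -/
theorem result (G : ℕ → Type u)
    [∀ n, AddCommGroup (G n)] (t : ∀ n, G (n + 1) →+ G n)
    (h : ∀ i : ℕ, ∃ j : ℕ, i ≤ j ∧
      ∀ x : ∀ n, G n, (∀ n, i ≤ n → n < j → x n = t n (x (n + 1))) → x i = 0) :
    Formal2.limZero G t = ⊥ ∧ Function.Surjective (Formal2.towerDiff G t) := by
  classical
  have hz : ∀ i, ∃ j, i ≤ j ∧ ∀ (n : ℕ) (hn : i ≤ n), j ≤ n → ∀ a : G n, Groth.Agent.TowerLib.T G t hn a = 0 := by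
    intro i
    obtain ⟨j, hij, hj⟩ := h i
    refine ⟨j, hij, fun n hn hjn a => ?_⟩
    have := hj (fun k => if hk : k ≤ n then Groth.Agent.TowerLib.T G t hk a else 0) fun k _ hk => by
      rw [dif_pos (by omega : k ≤ n), dif_pos (by omega : k + 1 ≤ n), Groth.Agent.TowerLib.t_T]
    simpa [dif_pos hn] using this
  refine ⟨(AddSubgroup.eq_bot_iff_forall _).mpr fun x hx => funext fun i => ?_, fun y => ?_⟩
  · obtain ⟨j, _, hj⟩ := h i
    exact hj x fun n _ _ => sub_eq_zero.mp (congrFun hx n)
  · choose j hij hj using hz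
    refine ⟨fun i => Groth.Agent.TowerLib.trunc G t y i (j i), funext fun i => ?_⟩
    have key : ∀ (k N : ℕ), j k ≤ N → Groth.Agent.TowerLib.trunc G t y k N = Groth.Agent.TowerLib.trunc G t y k (j k) := by
      intro k N hN
      rw [← sub_eq_zero, Groth.Agent.TowerLib.trunc_add G t y (hij k) hN]
      refine Finset.sum_eq_zero fun n hn => ?_
      rw [Finset.mem_Ico] at hn
      rw [dif_pos ((hij k).trans hn.1)]
      exact hj k n _ hn.1 _
    change Groth.Agent.TowerLib.trunc G t y i (j i) - t i (Groth.Agent.TowerLib.trunc G t y (i + 1) (j (i + 1))) = y i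
    rw [← key i (max (j i) (j (i + 1))) (le_max_left _ _), ← key (i + 1) (max (j i) (j (i + 1))) (le_max_right _ _)]
    exact Groth.Agent.TowerLib.trunc_sub G t y (by have := hij (i + 1); omega)

end Groth.Agent.S14615
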