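import Groth.Statements.S14617
import Groth.Agent.TowerLib.Basic

set_option autoImplicit false
universe u
open Formal2

namespace Groth.Agent.S14617

/-- Let 0 → (G'_n) → (G_n) → (G''_n) → 0 be a short exact sequence of inverse systems of abelian groups
indexed by ℕ: maps u_n : G'_n → G_n and v_n : G_n → G''_n commuting with the transition maps, with
u_n injective, v_n surjective and ker v_n = im u_n for every n. Writing lim and lim¹ for the kernel
and cokernel of (x_n) ↦ (x_n − t_n(x_{n+1})) on the product, there is an exact sequence 0 → lim G' →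
lim G → lim G'' → lim¹ G' → lim¹ G → lim¹ G'' → 0 in which the four outer maps are the ones induced
by u and v on products and the connecting map δ sends a compatible sequence (z_n) to the class of
the unique (w_n) with u_n(w_n) = y_n − t_n(y_{n+1}), for any levelwise lift (y_n) of (z_n). -/
theorem result (G' G G'' : ℕ → Type u)
    [∀ n, AddCommGroup (G' n)] [∀ n, AddCommGroup (G n)] [∀ n, AddCommGroup (G'' n)]
    (t' : ∀ n, G' (n + 1) →+ G' n) (t : ∀ n, G (n + 1) →+ G n) (t'' : ∀ n, G'' (n + 1) →+ G'' n)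
    (u : ∀ n, G' n →+ G n) (v : ∀ n, G n →+ G'' n)
    (hu : ∀ n x, t n (u (n + 1) x) = u n (t' n x)) (hv : ∀ n x, t'' n (v (n + 1) x) = v n (t n x))
    (hinj : ∀ n, Function.Injective (u n)) (hsurj : ∀ n, Function.Surjective (v n))
    (hex : ∀ n, (v n).ker = (u n).range) :
    ∃ (α : Formal2.limZero G' t' →+ Formal2.limZero G t) (β : Formal2.limZero G t →+ Formal2.limZero G'' t'')
      (δ : Formal2.limZero G'' t'' →+ Formal2.limOne G' t')
      (ε : Formal2.limOne G' t' →+ Formal2.limOne G t) (ζ : Formal2.limOne G t →+ Formal2.limOne G'' t''),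
      (∀ (x : Formal2.limZero G' t') (n : ℕ), (α x : ∀ n, G n) n = u n ((x : ∀ n, G' n) n)) ∧
      (∀ (x : Formal2.limZero G t) (n : ℕ), (β x : ∀ n, G'' n) n = v n ((x : ∀ n, G n) n)) ∧
      (∀ (z : Formal2.limZero G'' t'') (y : ∀ n, G n) (w : ∀ n, G' n),
          (∀ n, v n (y n) = (z : ∀ n, G'' n) n) → (∀ n, u n (w n) = Formal2.towerDiff G t y n) →
            δ z = (QuotientAddGroup.mk w : Formal2.limOne G' t')) ∧
      (∀ y : ∀ n, G' n, ε (QuotientAddGroup.mk y : Formal2.limOne G' t') =
          (QuotientAddGroup.mk (fun n => u n (y n)) : Formal2.limOne G t)) ∧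
      (∀ y : ∀ n, G n, ζ (QuotientAddGroup.mk y : Formal2.limOne G t) =
          (QuotientAddGroup.mk (fun n => v n (y n)) : Formal2.limOne G'' t'')) ∧
      Function.Injective α ∧ α.range = β.ker ∧ β.range = δ.ker ∧ δ.range = ε.ker ∧ ε.range = ζ.ker ∧
      Function.Surjective ζ := by
  classical
  have hdu : ∀ (w : ∀ n, G' n) (n : ℕ), Formal2.towerDiff G t (fun n => u n (w n)) n = u n (Formal2.towerDiff G' t' w n) :=
    fun w n => by
      change u n (w n) - t n (u (n + 1) (w (n + 1))) = u n (w n - t' n (w (n + 1)))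
      rw [hu, map_sub]
  have hdv : ∀ (y : ∀ n, G n) (n : ℕ), Formal2.towerDiff G'' t'' (fun n => v n (y n)) n = v n (Formal2.towerDiff G t y n) :=
    fun y n => by
      change v n (y n) - t'' n (v (n + 1) (y (n + 1))) = v n (y n - t n (y (n + 1)))
      rw [hv, map_sub]
  have hvu : ∀ n a, v n (u n a) = 0 := fun n a => (AddMonoidHom.mem_ker).mp (hex n ▸ ⟨a, rfl⟩)
  have hlift : ∀ n b, v n b = 0 → ∃ a, u n a = b := fun n b hb => AddMonoidHom.mem_range.mp (hex n ▸ hb)
  let U : (∀ n, G' n) →+ ∀ n, G n := Pi.addMonoidHom fun n => (u n).comp (Pi.evalAddMonoidHom G' n)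
  let V : (∀ n, G n) →+ ∀ n, G'' n := Pi.addMonoidHom fun n => (v n).comp (Pi.evalAddMonoidHom G n)
  let α : Formal2.limZero G' t' →+ Formal2.limZero G t :=
    (U.comp (Formal2.limZero G' t').subtype).codRestrict _ fun x => funext fun n =>
      (hdu x.1 n).trans ((congrArg (u n) (congrFun x.2 n)).trans (map_zero _))
  let β : Formal2.limZero G t →+ Formal2.limZero G'' t'' :=
    (V.comp (Formal2.limZero G t).subtype).codRestrict _ fun x => funext fun n =>
      (hdv x.1 n).trans ((congrArg (v n) (congrFun x.2 n)).trans (map_zero _))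
  have hind : ∀ (z : ∀ n, G'' n) (y₁ y₂ : ∀ n, G n) (w₁ w₂ : ∀ n, G' n), (∀ n, v n (y₁ n) = z n) →
      (∀ n, v n (y₂ n) = z n) → (∀ n, u n (w₁ n) = Formal2.towerDiff G t y₁ n) →
      (∀ n, u n (w₂ n) = Formal2.towerDiff G t y₂ n) →
      (QuotientAddGroup.mk w₁ : Formal2.limOne G' t') = QuotientAddGroup.mk w₂ := by
    intro z y₁ y₂ w₁ w₂ h1 h2 h1' h2'
    choose a ha using fun n => hlift n (y₂ n - y₁ n) (by rw [map_sub, h1, h2, sub_self])
    refine QuotientAddGroup.eq.mpr ⟨a, funext fun n => hinj n ?_⟩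
    rw [← hdu, show (fun n => u n (a n)) = y₂ - y₁ from funext ha, map_sub, Pi.add_apply, Pi.neg_apply,
      Pi.sub_apply, map_add, map_neg, h1', h2']
    abel
  choose sec hsec using hsurj
  have hw : ∀ (z : Formal2.limZero G'' t''), ∃ w : ∀ n, G' n, ∀ n,
      u n (w n) = Formal2.towerDiff G t (fun n => sec n (z.1 n)) n := by
    intro z
    refine Classical.axiomOfChoice fun n => hlift n _ ?_
    rw [← hdv, show (fun n => v n (sec n (z.1 n))) = z.1 from funext fun n => hsec n _]
    exact congrFun z.2 n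
  choose W hW using hw
  let δ : Formal2.limZero G'' t'' →+ Formal2.limOne G' t' :=
    AddMonoidHom.mk' (fun z => QuotientAddGroup.mk (W z)) fun z₁ z₂ => by
      rw [← QuotientAddGroup.mk_add]
      refine hind (z₁ + z₂).1 _ ((fun n => sec n (z₁.1 n)) + fun n => sec n (z₂.1 n)) _ _ (fun n => hsec n _)
        (fun n => by simp [hsec]) (hW _) fun n => ?_
      rw [Pi.add_apply, map_add, map_add, Pi.add_apply, hW, hW]
  let ε : Formal2.limOne G' t' →+ Formal2.limOne G t :=
    QuotientAddGroup.map _ _ U (by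
      rintro _ ⟨a, rfl⟩
      exact ⟨_, funext fun n => hdu a n⟩)
  let ζ : Formal2.limOne G t →+ Formal2.limOne G'' t'' :=
    QuotientAddGroup.map _ _ V (by
      rintro _ ⟨a, rfl⟩
      exact ⟨_, funext fun n => hdv a n⟩)
  refine ⟨α, β, δ, ε, ζ, fun x n => rfl, fun x n => rfl,
    fun z y w hy hyw => hind z.1 _ y _ w (fun n => hsec n _) hy (hW z) hyw, fun y => rfl, fun y => rfl,
    ?_, ?_, ?_, ?_, ?_, ?_⟩
  · exact fun x₁ x₂ h => Subtype.ext (funext fun n => hinj n (congrFun (congrArg Subtype.val h) n))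
  · ext x
    constructor
    · rintro ⟨a, rfl⟩
      exact Subtype.ext (funext fun n => hvu n _)
    · intro hx
      choose a ha using fun n => hlift n (x.1 n) (congrFun (congrArg Subtype.val hx) n)
      refine ⟨⟨a, funext fun n => hinj n ?_⟩, Subtype.ext (funext ha)⟩
      rw [← hdu, show (fun n => u n (a n)) = x.1 from funext ha]
      exact (congrFun x.2 n).trans (map_zero _).symm
  · ext z
    constructor
    · rintro ⟨x, rfl⟩
      refine AddMonoidHom.mem_ker.mpr ((hind _ _ x.1 _ 0 (fun n => hsec n _) (fun n => rfl) (hW _) fun n => ?_).trans rfl)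
      exact (map_zero _).trans (congrFun x.2 n).symm
    · intro hz
      obtain ⟨a, ha⟩ := (QuotientAddGroup.eq_zero_iff _).mp (AddMonoidHom.mem_ker.mp hz)
      refine ⟨⟨(fun n => sec n (z.1 n)) - (fun n => u n (a n)), funext fun n => ?_⟩, Subtype.ext (funext fun n => ?_)⟩
      · rw [map_sub, Pi.sub_apply, hdu, ha, hW, sub_self]
        rfl
      · change v n (sec n (z.1 n) - u n (a n)) = z.1 n
        rw [map_sub, hvu, hsec, sub_zero]
  · ext q
    induction q using QuotientAddGroup.induction_on with | H y => ?_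
    constructor
    · rintro ⟨z, hz⟩
      rw [← hz]
      exact (QuotientAddGroup.eq_zero_iff _).mpr ⟨_, funext fun n => (hW z n).symm⟩
    · intro hy
      obtain ⟨b, hb⟩ := (QuotientAddGroup.eq_zero_iff _).mp (AddMonoidHom.mem_ker.mp hy)
      refine ⟨⟨fun n => v n (b n), funext fun n => ?_⟩, hind (fun n => v n (b n)) _ b _ y (fun n => hsec n _) (fun n => rfl) (hW _) fun n => ?_⟩
      · rw [hdv, hb]
        exact hvu n _
      · rw [hb]
        rfl
  · ext q
    induction q using QuotientAddGroup.induction_on with | H y => ?_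
    constructor
    · rintro ⟨q', hq'⟩
      induction q' using QuotientAddGroup.induction_on with | H a => ?_
      rw [← hq']
      exact (QuotientAddGroup.eq_zero_iff _).mpr ⟨0, funext fun n => by rw [map_zero]; exact (hvu n _).symm⟩
    · intro hy
      obtain ⟨c, hc⟩ := (QuotientAddGroup.eq_zero_iff _).mp (AddMonoidHom.mem_ker.mp hy)
      choose a ha using fun n => hlift n (y n - Formal2.towerDiff G t (fun n => sec n (c n)) n) (by
        rw [map_sub, ← hdv, show (fun n => v n (sec n (c n))) = c from funext fun n => hsec n _, hc]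
        exact sub_self _)
      refine ⟨QuotientAddGroup.mk a, QuotientAddGroup.eq.mpr ⟨fun n => sec n (c n), funext fun n => ?_⟩⟩
      change _ = -(u n (a n)) + y n
      rw [ha]
      abel
  · intro q
    induction q using QuotientAddGroup.induction_on with | H z => ?_
    exact ⟨QuotientAddGroup.mk fun n => sec n (z n), congrArg QuotientAddGroup.mk (funext fun n => hsec n _)⟩

end Groth.Agent.S14617
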