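import Groth.Statements.S14618
import Mathlib
import Groth.Agent.SplitFibLib.Split
-- import your own Groth.Agent.* helpers here

set_option autoImplicit false
universe u
open FlatMor

namespace Groth.Agent.S14618

open CategoryTheory CategoryTheory.Limits AlgebraicGeometry in
/-- Let f : X → S be a morphism of schemes and u : F → V a morphism of O_X-modules with F quasi-coherent
of finite type and V finite locally free. The following are equivalent: (a) u is a locally split
monomorphism, i.e. every point of X has an open neighbourhood U such that the restriction of u to U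
has a left inverse; (b) for every point s of S the pullback of u to the fibre X_s = X ×_S Spec κ(s)
is a locally split monomorphism on X_s; (c) for every point s of S the pullback of u to the
geometric fibre X ×_S Spec k̄, k̄ an algebraic closure of κ(s), is a locally split monomorphism.
Restrictions to opens and to fibres are written as module pullbacks along the corresponding
immersions/projections. (In the published statement X and S are schemes in a terminology where
schemes are separated preschemes; the proof is local on X and on S, so this row assumes no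
separatedness.) -/
theorem result {X S : Scheme.{u}} (f : X ⟶ S) {F V : X.Modules} (u : F ⟶ V)
    (hF : Coh.IsQCoh F) (hFt : CohB1.IsFT F) (hV : FlatMod.IsFinLocFree V) :
    [ ∀ x : X, ∃ U : X.Opens, x ∈ U ∧
        ∃ r : (Scheme.Modules.pullback U.ι).obj V ⟶ (Scheme.Modules.pullback U.ι).obj F,
          (Scheme.Modules.pullback U.ι).map u ≫ r = 𝟙 _,
      ∀ (s : S) (x : f.fiber s), ∃ U : (f.fiber s).Opens, x ∈ U ∧
        ∃ r : (Scheme.Modules.pullback U.ι).obj ((Scheme.Modules.pullback (f.fiberι s)).obj V) ⟶
            (Scheme.Modules.pullback U.ι).obj ((Scheme.Modules.pullback (f.fiberι s)).obj F),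
          (Scheme.Modules.pullback U.ι).map ((Scheme.Modules.pullback (f.fiberι s)).map u) ≫ r = 𝟙 _,
      ∀ (s : S) (x : ↑(pullback f (Spec.map (CommRingCat.ofHom (algebraMap (S.residueField s)
            (AlgebraicClosure (S.residueField s)))) ≫ S.fromSpecResidueField s))),
        ∃ U : Scheme.Opens _, x ∈ U ∧
        ∃ r : (Scheme.Modules.pullback U.ι).obj ((Scheme.Modules.pullback (pullback.fst f
              (Spec.map (CommRingCat.ofHom (algebraMap (S.residueField s) (AlgebraicClosure (S.residueField s)))) ≫
                S.fromSpecResidueField s))).obj V) ⟶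
            (Scheme.Modules.pullback U.ι).obj ((Scheme.Modules.pullback (pullback.fst f
              (Spec.map (CommRingCat.ofHom (algebraMap (S.residueField s) (AlgebraicClosure (S.residueField s)))) ≫
                S.fromSpecResidueField s))).obj F),
          (Scheme.Modules.pullback U.ι).map ((Scheme.Modules.pullback (pullback.fst f
              (Spec.map (CommRingCat.ofHom (algebraMap (S.residueField s) (AlgebraicClosure (S.residueField s)))) ≫
                S.fromSpecResidueField s))).map u) ≫ r = 𝟙 _ ].TFAE := by
  have hC := fun {W : Scheme.{u}} (h : W ⟶ X) => SplitFibLib.locSplit_iff u hFt hV h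
  tfae_have 1 → 2 := fun H s => (hC (f.fiberι s)).2 fun z => by
    obtain ⟨U, hx, r, hr⟩ := H (f.fiberι s z)
    exact (SplitFibLib.mono_point_iff u U.ι ⟨_, hx⟩).1
      ((SplitFibLib.Sp.comp u ⟨⟨r, hr⟩⟩ ((U : Scheme.{u}).fromSpecResidueField ⟨_, hx⟩)).mono)
  tfae_have 2 → 3 := fun H s => (hC _).2 fun z => by
    let z' : f.fiber s := pullback.map f (Spec.map (CommRingCat.ofHom (algebraMap (S.residueField s)
      (AlgebraicClosure (S.residueField s)))) ≫ S.fromSpecResidueField s) f (S.fromSpecResidueField s)
      (𝟙 _) (Spec.map (CommRingCat.ofHom (algebraMap (S.residueField s) (AlgebraicClosure (S.residueField s)))))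
      (𝟙 _) (by simp) (Category.comp_id _) z
    have e : f.fiberι s z' = pullback.fst f (Spec.map (CommRingCat.ofHom (algebraMap (S.residueField s)
        (AlgebraicClosure (S.residueField s)))) ≫ S.fromSpecResidueField s) z := by
      refine (Scheme.Hom.comp_apply _ _ z).symm.trans ?_
      exact congrArg (fun φ : _ ⟶ X => φ z) ((pullback.lift_fst _ _ _).trans (Category.comp_id _))
    rw [← e]
    exact (hC (f.fiberι s)).1 (H s) z'
  tfae_have 3 → 1 := fun H => by
    have key : ∀ x : X, Mono ((Scheme.Modules.pullback (X.fromSpecResidueField x)).map u) := fun x => by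
      obtain ⟨z, hz, -⟩ := Scheme.Pullback.exists_preimage_pullback (f := f)
        (g := Spec.map (CommRingCat.ofHom (algebraMap (S.residueField (f x))
          (AlgebraicClosure (S.residueField (f x))))) ≫ S.fromSpecResidueField (f x)) x
        (IsLocalRing.closedPoint (AlgebraicClosure (S.residueField (f x)))) (by
          rw [Scheme.Hom.comp_apply, Scheme.fromSpecResidueField_apply])
      have h := (hC _).1 (H (f x)) z
      rw [hz] at h
      exact h
    intro x
    haveI := SplitFibLib.mono_of_fibres u hFt hV key
    obtain ⟨U, hx, r, hr⟩ := (hC (𝟙 X)).2 key x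
    obtain ⟨r', hr'⟩ := ((SplitFibLib.sp_comp_iff u U.ι (𝟙 X)).2 ⟨r, hr⟩).ex
    refine ⟨U, hx, SplitFibLib.sp_of_natIso u
      (Scheme.Modules.pullbackCongr (Category.comp_id U.ι)) ⟨r', hr'⟩⟩
  tfae_finish

end Groth.Agent.S14618
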