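import Groth.Statements.S14619
import Mathlib
import Groth.Agent.AmpTruncLib.Alg
import Groth.Agent.CohBCLib.UnivBC
-- import your own Groth.Agent.* helpers here

set_option autoImplicit false
universe u
open Coherent

namespace Groth.Agent.S14619

open CategoryTheory CategoryTheory.Limits AlgebraicGeometry in
/-- Let A be a Noetherian ring, X a proper scheme over Spec A and F a coherent O_X-module flat over Spec
A. Suppose H^p(X, F) = 0 for all p > d and H^p(X_y, F|X_y) = 0 for every point y of Spec A and every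
p < d'. Then there is a cochain complex L of finitely generated projective A-modules, with L^i = 0
unless d' ≤ i ≤ d and with L = 0 when all H^p(X, F) vanish, such that for every A-algebra B and
every p the cohomology H^p(X ×_A Spec B, ξ^*F) of the pulled-back module is isomorphic to H^p(L ⊗_A
B). Only the existence of these isomorphisms of abelian groups is asserted (no naturality in B). -/
theorem result (A : Type u) [CommRing A] [IsNoetherianRing A] (X : Scheme.{u}) [X.Over (Spec (CommRingCat.of A))]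
    [IsProper (X ↘ Spec (CommRingCat.of A))] (F : X.Modules) (hF : Coh.IsCoh F)
    (hfl : FlatMod.IsFlatOver (X ↘ Spec (CommRingCat.of A)) F) (d' d : ℕ)
    (hd : ∀ p : ℕ, d < p → Subsingleton (Coh.HH X F p))
    (hd' : ∀ (y : ↑(Spec (CommRingCat.of A))) (p : ℕ), p < d' →
      Subsingleton (CohIII.fiberH (X ↘ Spec (CommRingCat.of A)) F y p)) :
    ∃ L : CochainComplex (ModuleCat.{u} A) ℤ,
      (∀ i, Module.Finite A (L.X i) ∧ Module.Projective A (L.X i)) ∧
      (∀ i : ℤ, i < (d' : ℤ) ∨ (d : ℤ) < i → IsZero (L.X i)) ∧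
      ((∀ p : ℕ, Subsingleton (Coh.HH X F p)) → ∀ i, IsZero (L.X i)) ∧
      ∀ (B : Type u) [CommRing B] [Algebra A B] (p : ℕ),
        Nonempty (Coh.HH (pullback (X ↘ Spec (CommRingCat.of A)) (Spec.map (CommRingCat.ofHom (algebraMap A B))))
            ((Scheme.Modules.pullback (pullback.fst (X ↘ Spec (CommRingCat.of A))
              (Spec.map (CommRingCat.ofHom (algebraMap A B))))).obj F) p ≃+
          CohIII.T L (p : ℤ) (ModuleCat.of A B)) := by
  let f := X ↘ Spec (CommRingCat.of A)
  haveI : Coh.IsQCoh F := hF.1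
  obtain ⟨ι, _, U, hcov, haff, hinf⟩ := CohBCLib.exists_good_cover f
  obtain ⟨m⟩ := CohBCLib.exists_model_cech f F hF hfl U hcov haff hinf
  let P := m.P
  have hcmp : ∀ p : ℕ, Nonempty ((P.homology (p : ℤ) : Type u) ≃+ Coh.HH X F p) := fun p => by
    let e1 := (HomologicalComplex.homologyFunctor _ _ (p : ℤ)).mapIso (CohBCLib.tensorUnitIso P)
    let e2 := (m.iso p).app (ModuleCat.of A A)
    let e3 := (HomologicalComplex.homologyFunctor _ _ p).mapIso (CohBCLib.tensorUnitIso ((CohBCLib.cechA f U).obj F))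
    let e4 := CohBCLib.hCmp f U haff hcov p F
    exact ⟨(e1.symm ≪≫ e2 ≪≫ e3 ≪≫ e4).toLinearEquiv.toAddEquiv⟩
  have hneg : ∀ p : ℤ, p < 0 → IsZero (P.homology p) := fun p hp =>
    (m.neg (ModuleCat.of A A) p hp).of_iso
      ((HomologicalComplex.homologyFunctor _ _ p).mapIso (CohBCLib.tensorUnitIso P)).symm
  have hlow : ∀ p : ℤ, p < (d' : ℤ) → ∀ q : PrimeSpectrum A,
      IsZero ((CohIII.bcCx (algebraMap A q.asIdeal.ResidueField) P).homology p) := by
    intro p hp y
    rcases lt_or_ge p 0 with hn | hn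
    · exact CohBCLib.isZero_bc_of_isZero_tensor _ P p (m.neg _ p hn)
    obtain ⟨p', rfl⟩ := Int.eq_ofNat_of_zero_le hn
    let K := y.asIdeal.ResidueField
    let r := Scheme.Spec.residueFieldIso (CommRingCat.of A) y
    let f' : f.fiber y ⟶ Spec (CommRingCat.of K) := f.fiberToSpecResidueField y ≫ Spec.map r.inv
    have hsq : IsPullback (f.fiberι y) f' f (Spec.map (CommRingCat.ofHom (algebraMap A K))) := by
      refine (IsPullback.of_hasPullback f ((Spec (CommRingCat.of A)).fromSpecResidueField y)).of_iso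
        (Iso.refl _) (Iso.refl _) (Scheme.Spec.mapIso r.symm.op) (Iso.refl _) ?_ ?_ ?_ ?_
      · exact (Category.comp_id _).trans (Category.id_comp _).symm
      · exact ((Category.id_comp _).trans rfl).symm
      · exact (Category.comp_id _).trans (Category.id_comp _).symm
      · rw [Iso.refl_hom, Category.comp_id]
        exact (Scheme.Spec.map_residueFieldIso_inv_eq_fromSpecResidueField (CommRingCat.of A) y).symm
    obtain ⟨e⟩ := m.bc K p'
    have e' := e ≪≫ CohBCLib.bcHIso hsq U haff F hcov p'
    haveI : Subsingleton ((CohBCLib.HA f' p').obj ((Scheme.Modules.pullback (f.fiberι y)).obj F) : Type u) :=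
      hd' y p' (by exact_mod_cast hp)
    haveI := e'.toLinearEquiv.toEquiv.subsingleton
    exact ModuleCat.isZero_of_subsingleton _
  have hhigh : ∀ p : ℤ, (d : ℤ) < p → IsZero (P.homology p) := fun p hp => by
    obtain ⟨p', rfl⟩ := Int.eq_ofNat_of_zero_le (show 0 ≤ p by omega)
    haveI := hd p' (by exact_mod_cast hp)
    haveI := (hcmp p').some.toEquiv.subsingleton
    exact ModuleCat.isZero_of_subsingleton _
  obtain ⟨L, hL, hLz, hL0, ⟨E⟩⟩ := AmpTruncLib.exists_truncation P m.fin (Fintype.card ι) m.above d' d hlow hhigh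
  refine ⟨L, hL, hLz, fun hall => hL0 fun p => ?_, fun B _ _ p => ?_⟩
  · rcases lt_or_ge p 0 with hn | hn
    · exact hneg p hn
    obtain ⟨p', rfl⟩ := Int.eq_ofNat_of_zero_le hn
    haveI := hall p'
    haveI := (hcmp p').some.toEquiv.subsingleton
    exact ModuleCat.isZero_of_subsingleton _
  · obtain ⟨e⟩ := m.bc B p
    obtain ⟨t⟩ := AmpTruncLib.nonempty_bc_T L B (p : ℤ)
    let e' := e ≪≫ CohBCLib.bcHIso (IsPullback.of_hasPullback f (Spec.map (CommRingCat.ofHom (algebraMap A B)))) U haff F hcov p
    let h' := ((ModuleCat.extendScalars (algebraMap A B)).mapHomotopyEquiv E).toHomologyIso (p : ℤ)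
    exact ⟨(e'.symm ≪≫ h').toLinearEquiv.toAddEquiv.trans t⟩

end Groth.Agent.S14619
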