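import Groth.Statements.S14624
import Groth.Agent.ApproxLib.Functor

set_option autoImplicit false
open CategoryTheory CategoryTheory.Limits
universe u
open Hensel

namespace Groth.Agent.S14624

/-- Let A be a commutative ring, m a proper ideal of A and Â the m-adic completion. Assume the
approximation property for polynomial systems: whenever finitely many polynomials over A in finitely
many variables have a common zero â in Â, then for every c there is a common zero a in A which
agrees with â in A/m^c. Let F be a functor from A-algebras (commutative rings under A) to sets which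
preserves filtered colimits, c a natural number and ξ ∈ F(Â). Then there is η ∈ F(A) whose image in
F(A/m^c) equals the image of ξ; here π is the A-algebra map Â → A/m^c (pinned by its underlying ring
map) and ρ the A-algebra map A → A/m^c. (The published statement takes for A the henselization at a
prime ideal of an algebra of finite type over a field or over an excellent discrete valuation ring,
for which the approximation property of polynomial systems is quoted; this row carries that property
as a hypothesis and draws the published conclusion for functors.) -/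
theorem result (A : Type u) [CommRing A]
    (m : Ideal A) (hm : m ≠ ⊤)
    (hAP : ∀ (k l c : ℕ) (f : Fin l → MvPolynomial (Fin k) A) (â : Fin k → AdicCompletion m A),
      (∀ i, MvPolynomial.aeval â (f i) = 0) →
      ∃ a : Fin k → A, (∀ i, MvPolynomial.eval a (f i) = 0) ∧
        ∀ j, Ideal.Quotient.mk (m ^ c) (a j) = AdicCompletion.evalₐ m c (â j))
    (F : Under (CommRingCat.of A) ⥤ Type u)
    (hF : ∀ (J : Type u) [SmallCategory J] [IsFiltered J], PreservesColimitsOfShape J F)
    (c : ℕ)
    (π : Under.mk (CommRingCat.ofHom (algebraMap A (AdicCompletion m A))) ⟶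
      Under.mk (CommRingCat.ofHom (algebraMap A (A ⧸ m ^ c))))
    (hπ : π.right = CommRingCat.ofHom
      (AdicCompletion.evalₐ m c : AdicCompletion m A →ₐ[A] A ⧸ m ^ c).toRingHom)
    (ρ : Under.mk (𝟙 (CommRingCat.of A)) ⟶ Under.mk (CommRingCat.ofHom (algebraMap A (A ⧸ m ^ c))))
    (ξ : F.obj (Under.mk (CommRingCat.ofHom (algebraMap A (AdicCompletion m A))))) :
    ∃ η : F.obj (Under.mk (𝟙 (CommRingCat.of A))), F.map ρ η = F.map π ξ := by
  refine ApproxLib.exists_lift_of_approx m c (fun B _ _ _ f => ?_) F hF π hπ ρ ξ
  classical
  obtain ⟨n, φ, hφ, hker⟩ := Algebra.FinitePresentation.out (R := A) (A := B)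
  obtain ⟨l, gen, hgen⟩ := Submodule.fg_iff_exists_fin_generating_family.1 hker
  have hmem : ∀ i, φ (gen i) = 0 := fun i => (hgen.le (Submodule.subset_span (Set.mem_range_self i)) :)
  have hfφ : (MvPolynomial.aeval fun j => f (φ (MvPolynomial.X j))) = f.comp φ :=
    MvPolynomial.algHom_ext fun j => MvPolynomial.aeval_X _ j
  obtain ⟨a, ha, hac⟩ := hAP n l c gen (fun j => f (φ (MvPolynomial.X j))) fun i => by
    rw [hfφ, AlgHom.comp_apply, hmem, map_zero]
  have hz : ∀ x, φ x = 0 → MvPolynomial.aeval a x = 0 := fun x hx => by
    have hxmem : x ∈ Submodule.span (MvPolynomial (Fin n) A) (Set.range gen) := hgen.ge hx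
    exact (Ideal.span_le (I := RingHom.ker (MvPolynomial.aeval (R := A) a))).2 (by
      rintro _ ⟨i, rfl⟩
      exact ha i) hxmem
  refine ⟨AlgHom.liftOfSurjective φ hφ (MvPolynomial.aeval a) fun x hx => hz x hx, fun b => ?_⟩
  obtain ⟨p, rfl⟩ := hφ b
  rw [← AlgHom.comp_apply, AlgHom.liftOfSurjective_comp]
  show ((Ideal.Quotient.mkₐ A (m ^ c)).comp (MvPolynomial.aeval a)) p = ((AdicCompletion.evalₐ m c).comp (f.comp φ)) p
  refine DFunLike.congr_fun (MvPolynomial.algHom_ext fun j => ?_) p
  simp only [AlgHom.comp_apply, MvPolynomial.aeval_X]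
  exact hac j

end Groth.Agent.S14624
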