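import Groth.Statements.S14625
import Groth.Agent.MuConstLib.Main
import Mathlib.RingTheory.Henselian
import Mathlib.FieldTheory.IsSepClosed

set_option autoImplicit false
open CategoryTheory AlgebraicGeometry
universe u
open EtBase

namespace Groth.Agent.S14625

/-- Let A be a strictly henselian local ring, n ≥ 1 an integer invertible in A, and X a scheme over Spec
A. Then the étale sheaf μ_n of n-th roots of unity on X is isomorphic to the constant sheaf with
value ℤ/n. Only the existence of an isomorphism is asserted; it depends on the choice of a primitive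
n-th root of unity in A. -/
theorem result (A : Type u) [CommRing A]
    (hA : EtCoh.IsStrictlyHenselianLocalRing A) (n : ℕ) (hn : 1 ≤ n) (hu : IsUnit (n : A))
    (X : Scheme.{u}) (f : X ⟶ Spec (CommRingCat.of A)) :
    Nonempty (EtCoh.mu X n ≅ EtCoh.const X (ZMod n)) := by
  obtain ⟨hH, hsep⟩ := hA
  haveI := hH
  let k := IsLocalRing.ResidueField A
  haveI : IsSepClosed k := hsep
  haveI : NeZero (n : k) := ⟨by simpa using (hu.map (IsLocalRing.residue A)).ne_zero⟩
  have hs : (Polynomial.cyclotomic n k).Separable := Polynomial.separable_cyclotomic n k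
  obtain ⟨r, hr⟩ := IsSepClosed.exists_root (Polynomial.cyclotomic n k)
    (Polynomial.degree_cyclotomic_pos n k (by omega)).ne' hs
  obtain ⟨a₀, rfl⟩ := IsLocalRing.residue_surjective r
  let g : Polynomial A := Polynomial.cyclotomic n A
  have hmap : g.map (IsLocalRing.residue A) = Polynomial.cyclotomic n k := Polynomial.map_cyclotomic n _
  have h1 : IsLocalRing.residue A (g.eval a₀) = 0 := by
    rw [← Polynomial.eval_map_apply, hmap]
    exact hr
  have h2 : IsUnit (g.derivative.eval a₀) := by
    refine (IsLocalRing.notMem_maximalIdeal).1 fun hm => ?_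
    have h3 := (IsLocalRing.residue_eq_zero_iff _).2 hm
    rw [← Polynomial.eval_map_apply, ← Polynomial.derivative_map, hmap] at h3
    exact hs.aeval_derivative_ne_zero (S := k) (x := IsLocalRing.residue A a₀)
      (by rw [Polynomial.coe_aeval_eq_eval]; exact hr) (by rw [Polynomial.coe_aeval_eq_eval]; exact h3)
  obtain ⟨a, ha, -⟩ := HenselianLocalRing.is_henselian g (Polynomial.cyclotomic.monic n A) a₀
    ((IsLocalRing.residue_eq_zero_iff _).1 h1) h2
  let φ : A →+* Γ(X, ⊤) := f.appTop.hom.comp (Scheme.ΓSpecIso (CommRingCat.of A)).inv.hom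
  refine MuConstLib.mu_iso_const X n hn (map_natCast φ n ▸ hu.map φ) (φ a) (MuConstLib.aeval_map φ ?_)
  rw [Polynomial.aeval_def, ← Polynomial.eval_map, Polynomial.map_cyclotomic]
  exact ha

end Groth.Agent.S14625
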