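import Groth.Statements.S14629
import Groth.Agent.PicH1Lib.SqLES

set_option autoImplicit false
open CategoryTheory CategoryTheory.Limits AlgebraicGeometry
universe u
open PicF

namespace Groth.Agent.S14629

/-- Let X be a scheme and I a quasi-coherent ideal sheaf of square zero defining the closed subscheme i
: X₀ → X, and suppose H¹(X, I) = 0 for the ideal regarded as an O_X-module (Zariski cohomology).
Then two invertible O_X-modules with isomorphic pullbacks to X₀ are isomorphic: restriction of
Picard groups along i is injective. (The published statement allows a nilpotent ideal with the same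
hypothesis on I alone; its proof treats the square-zero case, which is what is stated.) -/
theorem result (X : Scheme.{u}) (I : X.IdealSheafData)
    (hI : I * I = ⊥) (h1 : Subsingleton (Coh.HH X (ClSub.idealMod I) 1))
    (c d : PicF.Cl X) (hc : PicF.IsInvertibleCl c) (hd : PicF.IsInvertibleCl d)
    (h : PicF.pullCl I.subschemeι c = PicF.pullCl I.subschemeι d) : c = d := by
  obtain ⟨L, rfl, hL⟩ := hc
  obtain ⟨M, rfl, hM⟩ := hd
  obtain ⟨e⟩ := (PicGrp.cl_eq_cl_iff _ _).mp h
  obtain ⟨a, ha⟩ := PicH1Lib.exists_rel_of_isInvertible (PicH1Lib.isHomeomorph_id X) hL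
  obtain ⟨b, hb⟩ := PicH1Lib.exists_rel_of_isInvertible (PicH1Lib.isHomeomorph_id X) hM
  have hab : PicH1Lib.H1map I.subschemeι (a - b) = 0 := by
    rw [map_sub, sub_eq_zero]
    exact (ha.pullback.of_iso _ e).unique _ hb.pullback
  obtain ⟨x, hx⟩ := (PicH1Lib.H1map_eq_zero_iff hI _).mp hab
  haveI : Subsingleton (QCohLib.HU ((QCohLib.toAbF X).obj (ClSub.idealMod I)) 1 ⊤) :=
    (PicH1Lib.hI' I 1).symm.injective.subsingleton
  rw [Subsingleton.elim x 0, map_zero] at hx
  exact (PicGrp.cl_eq_cl_iff _ _).mpr (ha.iso_of_eq ((sub_eq_zero.mp hx.symm) ▸ hb))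

end Groth.Agent.S14629
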