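import Groth.Statements.S1463
import Mathlib
import Groth.Agent.FibDimLib.DimLoci
import Groth.Agent.GISpreadLib.GeomProp
import Groth.Agent.GISpreadLib.Cons
import Groth.Agent.S1339
-- import your own Groth.Agent.* helpers here

set_option autoImplicit false
set_option linter.all false
universe u
open FlatMor

namespace Groth.Agent.S1463

open AlgebraicGeometry CategoryTheory Limits in
/-- Let f : X → S be a morphism of finite presentation between affine schemes whose fibres are
geometrically connected. Then f is the base change of a morphism of finite type f₀ : X₀ → S₀ between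
affine schemes with S₀ of finite type over ℤ, where f₀ can be chosen with the same property. -/
theorem result {X S : Scheme.{u}} (f : X ⟶ S) [IsAffine X] [IsAffine S] [LocallyOfFinitePresentation f] [GeometricallyConnected f] :
    ∃ (X₀ S₀ : Scheme.{u}) (f₀ : X₀ ⟶ S₀) (g : S ⟶ S₀) (g' : X ⟶ X₀), IsAffine X₀ ∧ IsAffine S₀ ∧ IsPullback g' f f₀ g ∧
      Algebra.FiniteType ℤ Γ(S₀, ⊤) ∧ LocallyOfFiniteType f₀ ∧ GeometricallyConnected f₀ := by
    let A := ConsLib.zSys (Γ(S, ⊤) : Type u)
    haveI : ∀ i j (a : i ⟶ j), IsAffineHom (A.D.map a) := fun _ _ a => A.affine_map a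
    obtain ⟨i, N, hN⟩ := ConsLib.exists_affine_model f
    haveI := N.lfp
    haveI := N.qc
    haveI := N.qs
    haveI : IsNoetherian (A.D.obj i) := ConsLib.zSys_obj _ i
    let e : S ≅ A.c.pt := S.isoSpec ≪≫ (ConsLib.zSysIso _).symm
    have hE := (ProConsLib.isLocallyConstructible_iff_ind_and_pro.mp
      (Groth.Agent.S1339.result N.p 1)).1
    have key : ∀ {X Y X' Y' : Scheme.{u}} (p : X ⟶ Y) (p' : X' ⟶ Y') (g' : X' ⟶ X) (g : Y' ⟶ Y),
        IsPullback g' p' p g → ∀ y', MoreMor.nGeomConnComp p' y' = MoreMor.nGeomConnComp p (g y') := fun p p' g' g hc y' =>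
      (GISpreadLib.sameComp_geomFiber_comp p p' g' g hc y').2
    have hone : ∀ y, MoreMor.nGeomConnComp f y = 1 := fun y => by
      refine GISpreadLib.card_connectedComponents_eq_one.mpr ?_
      haveI : GeometricallyConnected (f.fiberToSpecResidueField y) := MorphismProperty.pullback_snd _ _ ‹_›
      have h : GeometricallyConnected (pullback.snd (f.fiberToSpecResidueField y)
        (Spec.map (CommRingCat.ofHom (algebraMap (S.residueField y) (SeparableClosure (S.residueField y)))))) :=
        MorphismProperty.pullback_snd _ _ ‹GeometricallyConnected (f.fiberToSpecResidueField y)›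
      exact @GeometricallyConnected.connectedSpace_of_subsingleton _ _ _ h _ _
    obtain ⟨j, φ, hφ⟩ := ConsLib.exists_stage_subset A.D A.c A.hc i hE (fun t => by
      show MoreMor.nGeomConnComp N.p ((A.c.π.app i).base t) = 1
      rw [← key _ _ _ _ N.sq]
      have sq2 : IsPullback (𝟙 X) (f ≫ e.hom) f e.inv := IsPullback.of_horiz_isIso ⟨by simp⟩
      exact (key f (f ≫ e.hom) (𝟙 X) e.inv sq2 t).trans (hone _))
    let N' := N.push φ
    haveI := N'.lfp
    haveI : IsAffine N'.Z := @isAffine_of_isAffineHom _ _ (N.pfst φ)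
      (MorphismProperty.pullback_fst (P := @IsAffineHom) _ _ inferInstance) hN
    have htop : GeometricallyConnected (N'.p ∣_ ⊤) := GISpreadLib.geometricallyConnected_restrict N'.p ⊤ fun s₀ _ => by
      refine GISpreadLib.card_connectedComponents_eq_one.mp ?_
      show MoreMor.nGeomConnComp N'.p s₀ = 1
      rw [key _ _ _ _ (N.isPullback_pfst φ)]
      exact hφ s₀
    refine ⟨N'.Z, _, N'.p, e.hom ≫ A.c.π.app j, N'.g, inferInstance, ConsLib.zSys_affine j, ?_,
      ConsLib.zSys_finiteType j, inferInstance, ?_⟩
    · exact N'.sq.of_iso (Iso.refl _) (Iso.refl _) e.symm (Iso.refl _) (by simp) (by simp [e]) (by simp) (by simp [e, A])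
    · exact (MorphismProperty.arrow_mk_iso_iff (P := @GeometricallyConnected) (Arrow.isoMk (Scheme.topIso _) (Scheme.topIso _) (by exact (morphismRestrict_ι N'.p ⊤).symm))).mp htop

end Groth.Agent.S1463
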