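import Groth.Statements.S14632
import Groth.Agent.EtShLib.SectColimGen
import Groth.Agent.EtShLib.SetClosed
-- import your own Groth.Agent.* helpers here

set_option autoImplicit false
open CategoryTheory CategoryTheory.Limits AlgebraicGeometry Opposite
universe u
open EtBase

namespace Groth.Agent.S14632

/-- Take a quasi-compact quasi-separated scheme X and an étale X-scheme U which is quasi-compact and
quasi-separated, i.e. of finite presentation, over X. Then for every small filtered category I the
functor taking a sheaf of sets on the small étale site of X to its sections over U preserves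
colimits of shape I: sections over U of a filtered colimit of sheaves are the colimit of the
sections. (Sheaves are valued in types one universe above the schemes, as elsewhere in this
library.) -/
theorem result (X : Scheme.{u}) [CompactSpace ↥X]
    [QuasiSeparatedSpace ↥X] (U : X.Etale) [QuasiCompact U.hom] [QuasiSeparated U.hom]
    (I : Type (u + 1)) [SmallCategory I] [IsFiltered I] :
    PreservesColimitsOfShape I
      (sheafToPresheaf X.smallEtaleTopology (Type (u + 1)) ⋙ (evaluation X.Etaleᵒᵖ (Type (u + 1))).obj (op U)) := by
  haveI hc : CompactSpace U.left := by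
    haveI : CompactSpace ↥((Functor.fromPUnit.{0} X).obj U.right) := ‹CompactSpace ↥X›
    exact QuasiCompact.compactSpace_of_compactSpace U.hom
  haveI hq : QuasiSeparatedSpace U.left := by
    haveI : QuasiSeparatedSpace ↥((Functor.fromPUnit.{0} X).obj U.right) := ‹QuasiSeparatedSpace ↥X›
    exact quasiSeparatedSpace_of_quasiSeparated U.hom
  haveI : AB5OfSize.{u, u} (Type (u + 1)) := Groth.Agent.EtShLib.ab5_type
  refine ⟨fun {D} => preservesColimit_of_preserves_colimit_cocone (colimit.isColimit D)
    (Types.FilteredColimit.isColimitOf' _ _ (fun t => ?_) fun i s s' h => ?_)⟩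
  · obtain ⟨i, s, hs⟩ := Groth.Agent.EtShLib.Gen.exists_stage_lift (colimit.isColimit D) U t
    exact ⟨i, s, hs.symm⟩
  · exact Groth.Agent.EtShLib.Gen.exists_stage_eq (colimit.isColimit D) U s s' h

end Groth.Agent.S14632
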