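import Groth.Statements.S14633
import Mathlib
import Groth.Agent.DensePtsLib.AlgClosed
import Groth.Agent.AlgSpLib.ReducedSmooth
import Groth.Agent.TorsExtLib.Props
import Groth.Agent.WeilResLib.GrpGen
import Groth.Agent.QuotRepLib.Artin
-- import your own Groth.Agent.* helpers here

set_option autoImplicit false
set_option backward.isDefEq.respectTransparency false
universe u
open CategoryTheory MonoidalCategory CartesianMonoidalCategory MonObj GrpObj AlgebraicGeometry CategoryTheory.Limits
open AlgGrp

namespace Groth.Agent.S14633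

/-- Over a field k, let G be a smooth connected k-group scheme of finite type and let Z be a reduced
k-scheme of finite type of dimension at most 0 (for Z empty the conclusion is immediate). Then every
action of G on Z is trivial: the action morphism G × Z → Z is the second projection. -/
theorem result (k : Type u) [Field k]
    (G Z : Over (Spec (CommRingCat.of k))) [GrpObj G] [Smooth G.hom] [QuasiCompact G.hom] [ConnectedSpace ↥G.left]
    [LocallyOfFiniteType Z.hom] [QuasiCompact Z.hom] [IsReduced Z.left] (hdim : topologicalKrullDim ↥Z.left ≤ 0)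
    (a : AlgGrp.Action G Z) : a.act = CartesianMonoidalCategory.snd G Z := by
  classical
  let Kb := AlgebraicClosure k
  haveI : LocallyOfFiniteType G.hom := inferInstance
  haveI : IsLocallyNoetherian Z.left := LocallyOfFiniteType.isLocallyNoetherian Z.hom
  haveI : IsLocallyArtinian Z.left := IsLocallyArtinian.of_topologicalKrullDim_le_zero hdim
  haveI : CompactSpace Z.left := QuasiCompact.compactSpace_of_compactSpace Z.hom
  haveI : DiscreteTopology Z.left := inferInstance
  haveI : Finite Z.left := finite_of_compact_of_discrete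
  haveI : IsAffine Z.left := by
    haveI : IsArtinianScheme Z.left := {}
    infer_instance
  haveI : IsAffineHom Z.hom := isAffineHom_of_isAffine Z.hom
  haveI : IsSeparated Z.hom := inferInstance
  haveI : IsFinite Z.hom := by
    haveI : Subsingleton ↥(Spec (CommRingCat.of k)) := inferInstanceAs (Subsingleton (PrimeSpectrum k))
    exact Groth.Agent.QuotRep.isFinite_of_subsingleton Z.hom fun _ => Set.toFinite _
  haveI : Smooth (CartesianMonoidalCategory.snd G Z).left := TorsExtLib.property_snd G Z ‹_›
  haveI : IsReduced (G ⊗ Z).left := AlgSpLib.isReduced_of_smooth (CartesianMonoidalCategory.snd G Z).left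
  haveI : LocallyOfFiniteType (G ⊗ Z).hom := by
    rw [← Over.w (CartesianMonoidalCategory.snd G Z)]
    infer_instance
  haveI : GeometricallyConnected G.hom := Groth.Agent.WeilRes.geometricallyConnected_of_grp G fun s =>
    Groth.Agent.WeilRes.connectedSpace_fiber_of_isConnected _ (by
      have : G.hom.base ⁻¹' {s} = Set.univ := Set.eq_univ_of_forall fun x => Subsingleton.elim _ _
      rw [this]
      exact isConnected_univ)
  obtain ⟨C, t, ht, hC⟩ := Groth.Agent.WeilRes.exists_eqz a.act (CartesianMonoidalCategory.snd G Z)
  haveI := ht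
  have key : ∀ w : Groth.Agent.DensePts.pt k Kb ⟶ G ⊗ Z, w ≫ a.act = w ≫ CartesianMonoidalCategory.snd G Z := by
    intro w
    let T := Groth.Agent.DensePts.pt k Kb
    haveI : IsReduced T.left := inferInstanceAs (IsReduced (Spec (CommRingCat.of Kb)))
    let g : T ⟶ G := w ≫ CartesianMonoidalCategory.fst G Z
    let x : T ⟶ Z := w ≫ CartesianMonoidalCategory.snd G Z
    let f : G ⊗ T ⟶ Z ⊗ T := lift ((G ◁ x) ≫ a.act) (CartesianMonoidalCategory.snd G T)
    -- the target is finite over the algebraically closed field
    haveI : IsFinite (CartesianMonoidalCategory.snd Z T).left := TorsExtLib.property_snd Z T ‹_›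
    haveI : IsLocallyArtinian (Z ⊗ T).left :=
      haveI : IsLocallyArtinian T.left := inferInstanceAs (IsLocallyArtinian (Spec (CommRingCat.of Kb)))
      .of_locallyQuasiFinite (CartesianMonoidalCategory.snd Z T).left
    haveI : DiscreteTopology (Z ⊗ T).left := inferInstance
    haveI : ConnectedSpace (G ⊗ T).left :=
      GeometricallyConnected.geometrically_connectedSpace (f := G.hom) T.hom _ _ (IsPullback.of_hasPullback G.hom T.hom)
    have hsub : (Set.range f.left.base).Subsingleton :=
      (isPreconnected_range f.left.continuous).subsingleton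
    let s₁ : T ⟶ Z ⊗ T := lift g (𝟙 T) ≫ f
    let s₂ : T ⟶ Z ⊗ T := lift x (𝟙 T)
    have hs₂ : s₂ = lift (1 : T ⟶ G) (𝟙 T) ≫ f := by
      refine CartesianMonoidalCategory.hom_ext _ _ ?_ (by simp [s₂, f])
      simp only [s₂, f, Category.assoc, lift_fst, lift_whiskerLeft_assoc, Category.id_comp]
      have e : lift (1 : T ⟶ G) x = lift (toUnit T) x ≫ (η[G] ▷ Z) := by
        refine CartesianMonoidalCategory.hom_ext _ _ ?_ (by simp)
        simp [Hom.one_def]
      rw [e, Category.assoc, a.one_act, leftUnitor_hom, lift_snd]
    haveI : IsClosedImmersion s₂.left := by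
      haveI : IsClosedImmersion (s₂.left ≫ (CartesianMonoidalCategory.snd Z T).left) := by
        rw [← Over.comp_left, lift_snd]
        exact inferInstanceAs (IsClosedImmersion (𝟙 T.left))
      exact IsClosedImmersion.of_comp _ (CartesianMonoidalCategory.snd Z T).left
    obtain ⟨v, hv⟩ := Groth.Agent.DensePts.factors_of_range s₁ s₂ (by
      rintro _ ⟨q, rfl⟩
      refine ⟨q, hsub ?_ ⟨(lift g (𝟙 T)).left q, rfl⟩⟩
      rw [hs₂]
      exact ⟨(lift (1 : T ⟶ G) (𝟙 T)).left q, rfl⟩)
    have hv1 : v = 𝟙 T := by
      have := congrArg (· ≫ CartesianMonoidalCategory.snd Z T) hv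
      simpa [s₁, s₂, f] using this
    rw [hv1, Category.id_comp] at hv
    have h' : s₁ ≫ CartesianMonoidalCategory.fst Z T = s₂ ≫ CartesianMonoidalCategory.fst Z T := by rw [hv]
    simp only [s₁, s₂, f, Category.assoc, lift_fst, lift_whiskerLeft_assoc, Category.id_comp] at h'
    rw [show w = lift g x from CartesianMonoidalCategory.hom_ext _ _ (by simp [g]) (by simp [x]), h', lift_snd]
  obtain ⟨ψ, hψ⟩ := Groth.Agent.DensePts.factors_of_points_reduced (K := Kb) (𝟙 (G ⊗ Z)) t fun w => by
    rw [Category.comp_id]
    exact (hC _ w).2 (key w)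
  simpa using (hC _ (𝟙 (G ⊗ Z))).1 ⟨ψ, hψ⟩

end Groth.Agent.S14633
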