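import Groth.Statements.S14634
import Mathlib
import Groth.Agent.DensePtsLib.AlgClosed
import Groth.Agent.TorsExtLib.Props
import Groth.Agent.AlbLib.AVBasic
import Groth.Agent.AVAmpleLib.ProdAV
-- import your own Groth.Agent.* helpers here

set_option autoImplicit false
universe u
open CategoryTheory MonoidalCategory CartesianMonoidalCategory MonObj GrpObj AlgebraicGeometry CategoryTheory.Limits
open AlgGrp

namespace Groth.Agent.S14634

/-- Over a field k, let G be a smooth connected k-group scheme of finite type acting on a curve C, i.e.
a separated, geometrically integral k-scheme of finite type of dimension 1. Then C is almost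
homogeneous under G, meaning that the graph morphism G × C → C × C, (g, x) ↦ (x, g·x), is dominant,
if and only if the action is not the trivial one (the action morphism is not the second projection). -/
theorem result (k : Type u) [Field k]
    (G C : Over (Spec (CommRingCat.of k))) [GrpObj G] [Smooth G.hom] [QuasiCompact G.hom] [ConnectedSpace ↥G.left]
    [IsSeparated C.hom] [LocallyOfFiniteType C.hom] [QuasiCompact C.hom] [GeometricallyIntegral C.hom] (hdim : topologicalKrullDim ↥C.left = 1)
    (a : AlgGrp.Action G C) :
    IsDominant (CartesianMonoidalCategory.lift (CartesianMonoidalCategory.snd G C) a.act).left ↔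
      a.act ≠ CartesianMonoidalCategory.snd G C := by
  classical
  haveI : LocallyOfFiniteType G.hom := inferInstance
  haveI : GeometricallyIntegral G.hom := AlbLib.geometricallyIntegral_grp G
  haveI : GeometricallyIntegral (G ⊗ C).hom := CubeConsLib.geometricallyIntegral_prod G.hom C.hom
  haveI : GeometricallyIntegral (C ⊗ C).hom := CubeConsLib.geometricallyIntegral_prod C.hom C.hom
  haveI : IsIntegral (G ⊗ C).left := GeometricallyIntegral.isIntegral_of_subsingleton (G ⊗ C).hom
  haveI : IsIntegral (C ⊗ C).left := GeometricallyIntegral.isIntegral_of_subsingleton (C ⊗ C).hom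
  let g : G ⊗ C ⟶ C ⊗ C := lift (CartesianMonoidalCategory.snd G C) a.act
  let d : C ⟶ C ⊗ C := lift (𝟙 C) (𝟙 C)
  haveI : IsSeparated (CartesianMonoidalCategory.fst C C).left := TorsExtLib.property_fst C C ‹_›
  haveI : IsClosedImmersion d.left := by
    haveI : IsClosedImmersion (d.left ≫ (CartesianMonoidalCategory.fst C C).left) := by
      rw [← Over.comp_left, lift_fst]
      exact inferInstanceAs (IsClosedImmersion (𝟙 C.left))
    exact IsClosedImmersion.of_comp _ (CartesianMonoidalCategory.fst C C).left
  have hD : IsClosed (Set.range d.left.base) := d.left.isClosedEmbedding.isClosed_range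
  have hDne : Set.range d.left.base ≠ Set.univ := by
    intro e
    haveI : Surjective (pullback.diagonal C.hom) := by
      have : d.left = pullback.diagonal C.hom := by
        refine pullback.hom_ext ?_ ?_
        · rw [pullback.diagonal_fst]
          exact congrArg CommaMorphism.left (lift_fst (𝟙 C) (𝟙 C))
        · rw [pullback.diagonal_snd]
          exact congrArg CommaMorphism.left (lift_snd (𝟙 C) (𝟙 C))
      rw [← this]
      exact ⟨Set.range_eq_univ.1 e⟩
    haveI := (UniversallyInjective.iff_diagonal C.hom).2 inferInstance
    haveI : Subsingleton ↥(Spec (CommRingCat.of k)) := inferInstanceAs (Subsingleton (PrimeSpectrum k))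
    haveI : Subsingleton C.left := ⟨fun x y => C.hom.injective (Subsingleton.elim _ _)⟩
    have : topologicalKrullDim C.left ≤ 0 := by
      refine Order.krullDim_nonpos_iff_forall_isMax.2 fun x y h => ?_
      intro z hz
      obtain ⟨w, hw⟩ := x.2.1
      have := Subsingleton.elim w z
      exact this ▸ hw
    rw [hdim] at this
    exact absurd this (by norm_num)
  haveI : IsIntegral C.left := GeometricallyIntegral.isIntegral_of_subsingleton C.hom
  constructor
  · intro hdom hact
    refine hDne (Set.eq_univ_of_univ_subset ?_)
    rw [← (Scheme.Hom.denseRange g.left).closure_range]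
    refine closure_minimal ?_ hD
    rintro _ ⟨w, rfl⟩
    have e : g = CartesianMonoidalCategory.snd G C ≫ d := by
      refine CartesianMonoidalCategory.hom_ext _ _ (by simp [g, d]) (by simp [g, d, hact])
    exact ⟨(CartesianMonoidalCategory.snd G C).left w, by rw [← Scheme.Hom.comp_apply, ← Over.comp_left, ← e]⟩
  · intro hact
    let Z : Set ↥(C ⊗ C).left := closure (Set.range g.left.base)
    have hZi : IsIrreducible Z := by
      refine IsIrreducible.closure ?_
      rw [← Set.image_univ]
      exact (IrreducibleSpace.isIrreducible_univ _).image _ g.left.continuous.continuousOn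
    have hDZ : Set.range d.left.base ⊆ Z := by
      rintro _ ⟨x, rfl⟩
      refine subset_closure ⟨(lift (1 : C ⟶ G) (𝟙 C)).left x, ?_⟩
      have e : lift (1 : C ⟶ G) (𝟙 C) ≫ a.act = 𝟙 C := by
        have e : lift (1 : C ⟶ G) (𝟙 C) = lift (toUnit C) (𝟙 C) ≫ (η[G] ▷ C) := by
          refine CartesianMonoidalCategory.hom_ext _ _ ?_ (by simp)
          simp [Hom.one_def]
        rw [e, Category.assoc, a.one_act, leftUnitor_hom, lift_snd]
      have e2 : lift (1 : C ⟶ G) (𝟙 C) ≫ g = d :=
        CartesianMonoidalCategory.hom_ext _ _ (by simp [g, d]) (by simp [g, d, e])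
      rw [← Scheme.Hom.comp_apply, ← Over.comp_left, e2]
    have hne : Set.range d.left.base ≠ Z := by
      intro e
      obtain ⟨v, hv⟩ := Groth.Agent.DensePts.factors_of_range g d (by rw [e]; exact subset_closure)
      have h1 := congrArg (· ≫ CartesianMonoidalCategory.fst C C) hv
      have h2 := congrArg (· ≫ CartesianMonoidalCategory.snd C C) hv
      simp [g, d] at h1 h2
      exact hact (h2.symm.trans h1)
    refine ⟨dense_iff_closure_eq.2 ?_⟩
    by_contra hZu
    have hC1 : (0 : WithBot ℕ∞) < topologicalKrullDim C.left := by rw [hdim]; norm_num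
    obtain ⟨A, B, hAB⟩ := Order.krullDim_pos_iff.1 hC1
    have hemb := d.left.isClosedEmbedding
    let A' : TopologicalSpace.IrreducibleCloseds ↥(C ⊗ C).left :=
      ⟨d.left.base '' A.1, A.2.image _ d.left.continuous.continuousOn, hemb.isClosedMap _ A.3⟩
    let D' : TopologicalSpace.IrreducibleCloseds ↥(C ⊗ C).left :=
      ⟨Set.range d.left.base, by rw [← Set.image_univ]; exact (IrreducibleSpace.isIrreducible_univ _).image _ d.left.continuous.continuousOn, hD⟩
    let Z' : TopologicalSpace.IrreducibleCloseds ↥(C ⊗ C).left := ⟨Z, hZi, isClosed_closure⟩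
    let U' : TopologicalSpace.IrreducibleCloseds ↥(C ⊗ C).left := ⟨Set.univ, IrreducibleSpace.isIrreducible_univ _, isClosed_univ⟩
    have l1 : A' < D' := by
      refine lt_of_le_of_ne (Set.image_subset_range _ _) fun e => ?_
      have e1 : d.left.base '' A.1 = Set.range d.left.base := congrArg (fun s => s.1) e
      rw [← Set.image_univ] at e1
      have e2 := hemb.injective.image_injective e1
      obtain ⟨hsub, hnsub⟩ := (show A.1 ⊂ B.1 from hAB)
      exact hnsub (fun x _ => e2 ▸ Set.mem_univ x)
    have l2 : D' < Z' := lt_of_le_of_ne hDZ fun e => hne (congrArg (fun s => s.1) e)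
    have l3 : Z' < U' := lt_of_le_of_ne (Set.subset_univ _) fun e => hZu (congrArg (fun s => s.1) e)
    have := Order.LTSeries.length_le_krullDim
      ((((RelSeries.singleton _ A').snoc D' (by simpa using l1)).snoc Z' (by simpa using l2)).snoc U' (by simpa using l3))
    have h2 : topologicalKrullDim ↥(C ⊗ C).left = 2 := by
      rw [AVAmpleLib.dim_tensor C C, hdim]; norm_num
    change _ ≤ topologicalKrullDim ↥(C ⊗ C).left at this
    rw [h2] at this
    simp at this
    exact absurd this (by decide)


end Groth.Agent.S14634
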