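import Groth.Statements.S14636
import Groth.Agent.ModifLib.Norm
import Groth.Agent.NormalLib.N1Local
import Groth.Agent.NormFin.Field
import Mathlib.AlgebraicGeometry.Morphisms.UniversallyOpen

set_option autoImplicit false
set_option linter.style.haveILetI false
set_option backward.isDefEq.respectTransparency false
universe u
open CategoryTheory MonoidalCategory CartesianMonoidalCategory MonObj GrpObj AlgebraicGeometry CategoryTheory.Limits
open AlgGrp

namespace Groth.Agent.S14636

/-- Over a field k, let G be a smooth connected k-group scheme of finite type acting on a variety X (a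
separated, geometrically integral k-scheme of finite type), let ν : X̃ → X be the normalization of
X, and let G act on X̃ so that ν is equivariant (such an action exists and is unique). Then X is
almost homogeneous, i.e. the graph morphism G × X → X × X, (g, x) ↦ (x, g·x), is dominant, if and
only if X̃ is almost homogeneous for the lifted action. (The quasi-compactness and
quasi-separatedness binders on the morphism from the generic point always hold; they are only needed
to form the normalization.) -/
theorem result (k : Type u) [Field k]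
    (G X : Over (Spec (CommRingCat.of k))) [GrpObj G] [Smooth G.hom] [QuasiCompact G.hom] [ConnectedSpace ↥G.left]
    [IsSeparated X.hom] [LocallyOfFiniteType X.hom] [QuasiCompact X.hom] [GeometricallyIntegral X.hom] [IsIntegral X.left] [QuasiCompact (X.left.fromSpecStalk (genericPoint ↥X.left))] [QuasiSeparated (X.left.fromSpecStalk (genericPoint ↥X.left))]
    (a : AlgGrp.Action G X)
    (b : AlgGrp.Action G (Over.mk (Curv2.normalizationι X.left ≫ X.hom)))
    (hb : (G ◁ (Over.homMk (Curv2.normalizationι X.left) rfl : Over.mk (Curv2.normalizationι X.left ≫ X.hom) ⟶ X)) ≫ a.act =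
      b.act ≫ Over.homMk (Curv2.normalizationι X.left) rfl) :
    IsDominant (CartesianMonoidalCategory.lift (CartesianMonoidalCategory.snd G X) a.act).left ↔
      IsDominant (CartesianMonoidalCategory.lift
        (CartesianMonoidalCategory.snd G (Over.mk (Curv2.normalizationι X.left ≫ X.hom))) b.act).left := by
  classical
  let ν := Curv2.normalizationι X.left
  let νo : Over.mk (ν ≫ X.hom) ⟶ X := Over.homMk ν rfl
  haveI : IsIntegralHom ν := inferInstanceAs (IsIntegralHom (X.left.fromSpecStalk (genericPoint ↥X.left)).fromNormalization)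
  haveI : IsDominant ν := by
    let g := X.left.fromSpecStalk (genericPoint ↥X.left)
    haveI : IsDominant (g.toNormalization ≫ g.fromNormalization) := by
      rw [Scheme.Hom.toNormalization_fromNormalization, isDominant_iff, denseRange_iff_closure_range,
        Scheme.range_fromSpecStalk]
      refine Set.eq_univ_of_univ_subset ?_
      rw [← genericPoint_closure (α := X.left)]
      exact closure_mono (Set.singleton_subset_iff.2 specializes_rfl)
    exact IsDominant.of_comp g.toNormalization g.fromNormalization
  have hνs : Function.Surjective ν := (surjective_of_isDominant_of_isClosed_range ν ν.isClosedMap.isClosed_range).surj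
  -- a normal open of `X`, over which `ν` is an isomorphism
  obtain ⟨U, hUne, hUiso⟩ : ∃ U : X.left.Opens, (U : Set X.left).Nonempty ∧ IsIso (ν ∣_ U) := by
    obtain ⟨W, hW, hηW, -⟩ := exists_isAffineOpen_mem_and_subset (U := (⊤ : X.left.Opens))
      (x := genericPoint ↥X.left) trivial
    haveI : Nonempty W := ⟨⟨_, hηW⟩⟩
    letI : Algebra k Γ(X.left, W) :=
      ((Scheme.ΓSpecIso (CommRingCat.of k)).inv ≫ X.hom.appLE ⊤ W le_top).hom.toAlgebra
    haveI : Algebra.FiniteType k Γ(X.left, W) := by
      rw [← RingHom.finiteType_algebraMap]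
      exact (X.hom.finiteType_appLE (isAffineOpen_top _) hW le_top).comp
        (RingHom.FiniteType.of_surjective _
          (ConcreteCategory.bijective_of_isIso (Scheme.ΓSpecIso (CommRingCat.of k)).inv).surjective)
    haveI : IsNoetherianRing Γ(X.left, W) := Algebra.FiniteType.isNoetherianRing k _
    obtain ⟨f, hf, hfn⟩ := (NormalLib.isN1_iff.1 (show CAlg.IsN1 Γ(X.left, W) from
      NormFinLib.finite_integralClosure_of_finiteType_field k Γ(X.left, W) (FractionRing Γ(X.left, W))
        (FractionRing Γ(X.left, W)))).1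
    haveI := hW.isLocalization_basicOpen f
    haveI : IsIntegrallyClosed Γ(X.left, X.left.basicOpen f) := IsIntegrallyClosed.of_equiv
      (IsLocalization.algEquiv (Submonoid.powers f) (Localization.Away f) Γ(X.left, X.left.basicOpen f)).toRingEquiv
    obtain ⟨y, hy⟩ : (X.left.basicOpen f : Set X.left).Nonempty :=
      (TopologicalSpace.Opens.ne_bot_iff_nonempty _).1 fun h => hf ((basicOpen_eq_bot_iff f).1 h)
    haveI : Nonempty (X.left.basicOpen f) := ⟨⟨y, hy⟩⟩
    exact ⟨X.left.basicOpen f, ⟨y, hy⟩, ModifLib.isIso_normalizationι_restrict X.left ⟨X.left.basicOpen f, hW.basicOpen f⟩ ‹_›⟩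
  let V : (Curv2.normalization X.left).Opens := ν ⁻¹ᵁ U
  haveI : IsOpenImmersion (V.ι ≫ ν) := by rw [← morphismRestrict_ι]; infer_instance
  -- the product of two copies of `ν`
  let νν := (νo ⊗ₘ νo).left
  haveI : IsIntegralHom νν := by
    exact MorphismProperty.pullbackMap (P := @IsIntegralHom) (S := Spec (CommRingCat.of k)) (f' := X.hom) (g' := X.hom)
      (i₁ := ν) (i₂ := ν) (f := ν ≫ X.hom) (g := ν ≫ X.hom) ‹IsIntegralHom ν› ‹IsIntegralHom ν› rfl rfl
  have hGν : Function.Surjective (G ◁ νo).left := by
    rw [Over.whiskerLeft_left, ← Set.range_eq_univ]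
    erw [Scheme.Pullback.range_map]
    rw [Set.range_eq_univ.2 (show Function.Surjective (𝟙 G.left : G.left ⟶ _) from fun x => ⟨x, rfl⟩),
      Set.range_eq_univ.2 (show Function.Surjective νo.left from hνs)]
    simp
  have hνν : Function.Surjective νν := by
    show Function.Surjective (pullback.map (ν ≫ X.hom) (ν ≫ X.hom) X.hom X.hom ν ν (𝟙 _) (by simp) (by simp))
    rw [← Set.range_eq_univ, Scheme.Pullback.range_map, Set.range_eq_univ.2 hνs]
    simp
  haveI : Surjective (G ◁ νo).left := ⟨hGν⟩
  haveI : Surjective νν := ⟨hνν⟩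
  have hcomp : CartesianMonoidalCategory.lift (CartesianMonoidalCategory.snd G _) b.act ≫ (νo ⊗ₘ νo) =
      (G ◁ νo) ≫ CartesianMonoidalCategory.lift (CartesianMonoidalCategory.snd G X) a.act := by
    rw [CartesianMonoidalCategory.lift_map, CartesianMonoidalCategory.comp_lift, whiskerLeft_snd]
    congr 1
    exact hb.symm
  have hcl : (CartesianMonoidalCategory.lift (CartesianMonoidalCategory.snd G (Over.mk (ν ≫ X.hom))) b.act).left ≫ νν =
      (G ◁ νo).left ≫ (CartesianMonoidalCategory.lift (CartesianMonoidalCategory.snd G X) a.act).left :=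
    congrArg CommaMorphism.left hcomp
  constructor
  · intro h
    haveI := h
    set gY := (CartesianMonoidalCategory.lift (CartesianMonoidalCategory.snd G (Over.mk (ν ≫ X.hom))) b.act).left with hgY
    haveI hd : IsDominant (gY ≫ νν) := by rw [hcl]; infer_instance
    rw [isDominant_iff, denseRange_iff_closure_range]
    have himg : νν '' closure (Set.range gY) = Set.univ := by
      refine Set.eq_univ_of_univ_subset ?_
      have h1 := denseRange_iff_closure_range.1 hd.denseRange
      rw [Scheme.Hom.comp_base, TopCat.coe_comp, Set.range_comp] at h1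
      rw [← h1]
      exact closure_minimal (Set.image_mono subset_closure) (νν.isClosedMap _ isClosed_closure)
    let O : Set ((Over.mk (ν ≫ X.hom) ⊗ Over.mk (ν ≫ X.hom)).left : Scheme.{u}) :=
      (pullback.fst (ν ≫ X.hom) (ν ≫ X.hom)) ⁻¹' (V : Set (Curv2.normalization X.left)) ∩
        (pullback.snd (ν ≫ X.hom) (ν ≫ X.hom)) ⁻¹' (V : Set (Curv2.normalization X.left))
    have hVd : Dense (V : Set (Curv2.normalization X.left)) := by
      obtain ⟨y, hy⟩ := hUne
      obtain ⟨y', rfl⟩ := hνs y
      exact V.2.dense ⟨y', hy⟩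
    haveI : IsIntegral (Spec (CommRingCat.of k)) := inferInstance
    haveI : UniversallyOpen (ν ≫ X.hom) := inferInstance
    have hOd : Dense O :=
      (hVd.preimage (pullback.fst (ν ≫ X.hom) (ν ≫ X.hom)).isOpenMap).inter_of_isOpen_left
        (hVd.preimage (pullback.snd (ν ≫ X.hom) (ν ≫ X.hom)).isOpenMap)
        (V.2.preimage (pullback.fst (ν ≫ X.hom) (ν ≫ X.hom)).continuous)
    suffices hsub : O ⊆ closure (Set.range gY) by
      refine Set.eq_univ_of_univ_subset ?_
      rw [← hOd.closure_eq]
      exact closure_minimal hsub isClosed_closure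
    intro z hz
    obtain ⟨z', hz', he⟩ := (himg.symm ▸ Set.mem_univ _ : νν z ∈ νν '' closure (Set.range gY))
    -- `νν` is injective over the open
    let j := pullback.map (V.ι ≫ ν ≫ X.hom) (V.ι ≫ ν ≫ X.hom) (ν ≫ X.hom) (ν ≫ X.hom) V.ι V.ι (𝟙 _) (by simp) (by simp)
    let jj := pullback.map (V.ι ≫ ν ≫ X.hom) (V.ι ≫ ν ≫ X.hom) X.hom X.hom (V.ι ≫ ν) (V.ι ≫ ν) (𝟙 _) (by simp) (by simp)
    have hj : Set.range j = O := by
      rw [Scheme.Pullback.range_map, Scheme.Opens.range_ι]
    have hjj : j ≫ νν = jj := by
      refine pullback.hom_ext ?_ ?_ <;> simp [j, jj, νν, νo, Over.tensorHom_left]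
    have hO' : z' ∈ O := by
      have hfst : ∀ w, pullback.fst X.hom X.hom (νν w) = ν (pullback.fst (ν ≫ X.hom) (ν ≫ X.hom) w) := fun w =>
        congrArg (fun φ : pullback (ν ≫ X.hom) (ν ≫ X.hom) ⟶ X.left => φ w)
          (show νν ≫ pullback.fst X.hom X.hom = pullback.fst (ν ≫ X.hom) (ν ≫ X.hom) ≫ ν from
            Over.tensorHom_left_fst (X := Spec (CommRingCat.of k)) X.hom X.hom νo νo)
      have hsnd : ∀ w, pullback.snd X.hom X.hom (νν w) = ν (pullback.snd (ν ≫ X.hom) (ν ≫ X.hom) w) := fun w =>
        congrArg (fun φ : pullback (ν ≫ X.hom) (ν ≫ X.hom) ⟶ X.left => φ w)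
          (show νν ≫ pullback.snd X.hom X.hom = pullback.snd (ν ≫ X.hom) (ν ≫ X.hom) ≫ ν from
            Over.tensorHom_left_snd (X := Spec (CommRingCat.of k)) X.hom X.hom νo νo)
      refine ⟨?_, ?_⟩
      · show ν _ ∈ U
        rw [← hfst, he, hfst]; exact hz.1
      · show ν _ ∈ U
        rw [← hsnd, he, hsnd]; exact hz.2
    rw [← hj] at hz hO'
    obtain ⟨p, rfl⟩ := hz
    obtain ⟨p', rfl⟩ := hO'
    replace he : jj p' = jj p := by rw [← hjj]; exact he
    rwa [← jj.isOpenEmbedding.injective he]
  · intro h
    haveI := h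
    haveI : IsDominant ((G ◁ νo).left ≫ (CartesianMonoidalCategory.lift (CartesianMonoidalCategory.snd G X) a.act).left) := by
      rw [← hcl]; infer_instance
    exact IsDominant.of_comp (G ◁ νo).left _

end Groth.Agent.S14636
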