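import Groth.Statements.S14637
import Groth.Agent.LineRigidLib.Basic
-- import your own Groth.Agent.* helpers here

set_option autoImplicit false
universe u
open CategoryTheory MonoidalCategory CartesianMonoidalCategory MonObj GrpObj AlgebraicGeometry CategoryTheory.Limits
open AlgGrp

namespace Groth.Agent.S14637

open Groth.Agent.LineRigidLib

variable {k : Type u} [Field k] (G : Over (Spec (CommRingCat.of k)))
    (e : G.left ≅ Spec (CommRingCat.of (LaurentPolynomial k)))
    (he : e.hom ≫ Spec.map (CommRingCat.ofHom (algebraMap k (LaurentPolynomial k))) = G.hom)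

include he in
theorem inj {T : Over (Spec (CommRingCat.of k))} :
    Function.Injective (fun p : T ⟶ G => (p.left ≫ e.hom).appTop.hom
      ((Scheme.ΓSpecIso (CommRingCat.of (LaurentPolynomial k))).inv.hom (LaurentPolynomial.T 1))) := by
  intro p q h
  ext1
  rw [← cancel_mono e.hom]
  let φ : (T ⟶ G) → (LaurentPolynomial k →+* Γ(T.left, ⊤)) := fun p =>
    ((Scheme.ΓSpecIso (CommRingCat.of (LaurentPolynomial k))).inv ≫ (p.left ≫ e.hom).appTop).hom
  have hC : ∀ (p : T ⟶ G) (r : k), φ p (algebraMap k (LaurentPolynomial k) r) = rho T r := fun p r => by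
    have h1 := congrArg (fun f : T.left ⟶ Spec (CommRingCat.of k) =>
      ((Scheme.ΓSpecIso (CommRingCat.of k)).inv ≫ f.appTop).hom r)
      (show (p.left ≫ e.hom) ≫ Spec.map (CommRingCat.ofHom (algebraMap k (LaurentPolynomial k))) = T.hom by
        rw [Category.assoc, he, Over.w])
    rw [Scheme.Hom.comp_appTop, ← Category.assoc, ← Scheme.ΓSpecIso_inv_naturality, Category.assoc] at h1
    exact h1
  have hφ : φ p = φ q := by
    refine IsLocalization.ringHom_ext (Submonoid.powers (Polynomial.X : Polynomial k))
      (Polynomial.ringHom_ext (fun r => ?_) ?_)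
    · rw [RingHom.comp_apply, RingHom.comp_apply, LaurentPolynomial.algebraMap_eq_toLaurent, Polynomial.toLaurent_C]
      exact (hC p r).trans (hC q r).symm
    · rw [RingHom.comp_apply, RingHom.comp_apply, LaurentPolynomial.algebraMap_eq_toLaurent, Polynomial.toLaurent_X]
      exact h
  exact ext_of_isAffine ((cancel_epi (Scheme.ΓSpecIso (CommRingCat.of (LaurentPolynomial k))).inv).1
    (CommRingCat.hom_ext hφ))

include he in
theorem exists_pt {T : Over (Spec (CommRingCat.of k))} (a : Γ(T.left, ⊤)) (ha : IsUnit a) :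
    ∃ p : T ⟶ G, (p.left ≫ e.hom).appTop.hom
      ((Scheme.ΓSpecIso (CommRingCat.of (LaurentPolynomial k))).inv.hom (LaurentPolynomial.T 1)) = a := by
  obtain ⟨g, hg⟩ := exists_toAff (LaurentPolynomial k) (LaurentPolynomial.eval₂ (rho T) ha.unit)
    (fun r => by rw [LaurentPolynomial.algebraMap_apply, LaurentPolynomial.eval₂_C]; rfl)
  let j : affObj (LaurentPolynomial k) ⟶ G := Over.homMk e.inv ((Iso.inv_comp_eq e).2 he.symm)
  refine ⟨g ≫ j, ?_⟩
  rw [show (g ≫ j).left ≫ e.hom = g.left by simp [j]]
  refine (hg _).trans ?_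
  rw [LaurentPolynomial.eval₂_T, zpow_one, IsUnit.unit_spec]


/-- Over a field k, the only structure of algebraic group on the punctured affine line Spec k[T, T⁻¹]
with unit element the point T = 1 is the multiplicative group. Precisely: let G be a k-group scheme
and e an isomorphism of k-schemes from the underlying scheme of G to Spec k[T, T⁻¹] under which the
unit section has T-coordinate 1; then for every k-scheme S and all S-valued points g, h of G, the
T-coordinate of g · h (the pull-back of the global function T along the point composed with e) is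
the product of the T-coordinates of g and of h. -/
theorem result (k : Type u) [Field k]
    (G : Over (Spec (CommRingCat.of k))) [GrpObj G]
    (e : G.left ≅ Spec (CommRingCat.of (LaurentPolynomial k)))
    (he : e.hom ≫ Spec.map (CommRingCat.ofHom (algebraMap k (LaurentPolynomial k))) = G.hom)
    (hunit : ((η[G]).left ≫ e.hom).appTop.hom ((Scheme.ΓSpecIso (CommRingCat.of (LaurentPolynomial k))).inv.hom (LaurentPolynomial.T 1)) = 1)
    (S : Over (Spec (CommRingCat.of k))) (g h : S ⟶ G) :
    ((g * h).left ≫ e.hom).appTop.hom ((Scheme.ΓSpecIso (CommRingCat.of (LaurentPolynomial k))).inv.hom (LaurentPolynomial.T 1)) =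
      (g.left ≫ e.hom).appTop.hom ((Scheme.ΓSpecIso (CommRingCat.of (LaurentPolynomial k))).inv.hom (LaurentPolynomial.T 1)) * (h.left ≫ e.hom).appTop.hom ((Scheme.ΓSpecIso (CommRingCat.of (LaurentPolynomial k))).inv.hom (LaurentPolynomial.T 1)) := by
  let z : Γ(Spec (CommRingCat.of (LaurentPolynomial k)), ⊤) :=
    (Scheme.ΓSpecIso (CommRingCat.of (LaurentPolynomial k))).inv.hom (LaurentPolynomial.T 1)
  have hnat : ∀ {T T' : Over (Spec (CommRingCat.of k))} (g : T' ⟶ T) (p : T ⟶ G),
      ((g ≫ p).left ≫ e.hom).appTop.hom z = g.left.appTop ((p.left ≫ e.hom).appTop.hom z) := fun g p => by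
    rw [Over.comp_left, Category.assoc, Scheme.Hom.comp_appTop]; rfl
  have h1 : ∀ T : Over (Spec (CommRingCat.of k)),
      ((1 : T ⟶ G).left ≫ e.hom).appTop.hom z = Groth.Agent.LineRigidLib.rho T (1 : k) := fun T => by
    rw [Hom.one_def, hnat, hunit, map_one, map_one]
  have := Groth.Agent.LineRigidLib.mul_law (fun {_} p => (p.left ≫ e.hom).appTop.hom z) hnat
    (fun {_} => inj G e he) (fun p => ((LaurentPolynomial.isUnit_T 1).map _).map _)
    (fun a ha => exists_pt G e he a ha) 1 h1 g h
  simp only [map_one, _root_.one_mul] at this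
  exact this

end Groth.Agent.S14637
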