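import Groth.Statements.S14640
import Groth.Agent.OrbitLib.Homogeneous
import Groth.Agent.ActKerLib.Surj
import Groth.Agent.GrpPatchLib.Fibre
import Groth.Agent.PowEtCentralLib.Split
import Groth.Prelude.Def_ActBC

set_option autoImplicit false
set_option backward.isDefEq.respectTransparency false
set_option backward.isDefEq.respectTransparency.types false
set_option maxHeartbeats 1000000
set_option synthInstance.maxHeartbeats 400000
universe u
open CategoryTheory MonoidalCategory CartesianMonoidalCategory MonObj GrpObj AlgebraicGeometry CategoryTheory.Limits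
open AlgGrp CategoryTheory.Limits

attribute [-instance] CategoryTheory.Hom.commGroup
set_option backward.isDefEq.respectTransparency false
namespace Groth.Agent.S14640

open Groth.Agent.DensePts (pt)
section field

variable {K : Type u} [Field K] [IsAlgClosed K] {G G0 X : Over (Spec (CommRingCat.of K))} [GrpObj G] [GrpObj G0]

/-- An open subgroup of a transitive group acts transitively. -/
theorem transitive_field [LocallyOfFiniteType G.hom] [QuasiCompact G.hom] [LocallyOfFiniteType G0.hom] [QuasiCompact G0.hom]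
    (i : G0 ⟶ G) [IsMonHom i] [IsOpenImmersion i.left]
    [LocallyOfFiniteType X.hom] [QuasiCompact X.hom] [IrreducibleSpace X.left]
    (a : AlgGrp.Action G X) (a0 : AlgGrp.Action G0 X) (ha0 : a0.act = (i ▷ X) ≫ a.act)
    (htr : ∀ x y : 𝟙_ (Over (Spec (CommRingCat.of K))) ⟶ X, ∃ g, lift g x ≫ a.act = y)
    (x y : 𝟙_ (Over (Spec (CommRingCat.of K))) ⟶ X) : ∃ h, lift h x ≫ a0.act = y := by
  classical
  haveI : JacobsonSpace G.left := LocallyOfFiniteType.jacobsonSpace G.hom
  haveI : JacobsonSpace X.left := LocallyOfFiniteType.jacobsonSpace X.hom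
  haveI : CompactSpace G.left := QuasiCompact.compactSpace_of_compactSpace G.hom
  haveI : CompactSpace G0.left := QuasiCompact.compactSpace_of_compactSpace G0.hom
  haveI : JacobsonSpace G0.left := LocallyOfFiniteType.jacobsonSpace G0.hom
  haveI : IsSeparated G.hom := Groth.Agent.GrpField.isSeparated_grp (G := G)
  let ptOf : ∀ {Y : Over (Spec (CommRingCat.of K))} [LocallyOfFiniteType Y.hom] (q : Y.left),
      IsClosed ({q} : Set Y.left) → ((𝟙_ (Over (Spec (CommRingCat.of K)))) ⟶ Y) := fun {Y} _ q hq =>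
    Over.homMk (pointOfClosedPoint Y.hom q hq) (pointOfClosedPoint_comp _ _ _)
  have hpt : ∀ {Y : Over (Spec (CommRingCat.of K))} [LocallyOfFiniteType Y.hom] (q : Y.left)
      (hq : IsClosed ({q} : Set Y.left)), (ptOf q hq).left (IsLocalRing.closedPoint K) = q := fun {Y} _ q hq => by
    simp [ptOf]
  -- the cosets
  let tr : (𝟙_ (Over (Spec (CommRingCat.of K))) ⟶ G) → (G ≅ G) := fun g =>
    { hom := (toUnit G ≫ g) * 𝟙 G
      inv := (toUnit G ≫ g)⁻¹ * 𝟙 G
      hom_inv_id := by
        rw [MonObj.comp_mul, GrpObj.comp_inv, Category.comp_id, ← Category.assoc, toUnit_unique (_ ≫ toUnit G) (toUnit G)]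
        group
      inv_hom_id := by
        rw [MonObj.comp_mul, Category.comp_id, ← Category.assoc, toUnit_unique (_ ≫ toUnit G) (toUnit G)]
        group }
  have htr' : ∀ g b, b ≫ (tr g).hom = g * b := fun g b => by
    show b ≫ ((toUnit G ≫ g) * 𝟙 G) = _
    rw [MonObj.comp_mul, Category.comp_id, ← Category.assoc, toUnit_unique (b ≫ toUnit G) (𝟙 _), Category.id_comp]
  haveI : ∀ g, IsOpenImmersion (i ≫ (tr g).hom).left := fun g => by
    rw [Over.comp_left]
    haveI : IsIso (tr g).hom.left := ((Over.forget _).mapIso (tr g)).isIso_hom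
    infer_instance
  let U : (𝟙_ (Over (Spec (CommRingCat.of K))) ⟶ G) → Set G.left := fun g => Set.range (i ≫ (tr g).hom).left
  have hcov : (⋃ g, U g) = Set.univ := by
    by_contra hne
    obtain ⟨q, hqU, hqc⟩ := nonempty_inter_closedPoints (X := G.left) (Z := (⋃ g, U g)ᶜ)
      (Set.nonempty_compl.2 hne)
      (isOpen_iUnion fun g => (i ≫ (tr g).hom).left.isOpenEmbedding.isOpen_range).isClosed_compl.isLocallyClosed
    refine hqU (Set.mem_iUnion.2 ⟨ptOf q hqc, (η[G0] : _ ⟶ G0).left (IsLocalRing.closedPoint K), ?_⟩)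
    rw [← Scheme.Hom.comp_apply, ← Over.comp_left, ← Category.assoc, htr', IsMonHom.one_hom (f := i),
      show (η[G] : _ ⟶ G) = 1 from MonObj.one_eq_one G, _root_.mul_one]
    exact hpt q hqc
  obtain ⟨J, hJ⟩ := isCompact_univ.elim_finite_subcover U
    (fun g => (i ≫ (tr g).hom).left.isOpenEmbedding.isOpen_range) hcov.ge
  -- the translations of the variety
  let f : (𝟙_ (Over (Spec (CommRingCat.of K))) ⟶ G) → (X ≅ X) := fun g =>
    { hom := lift (toUnit X ≫ g) (𝟙 X) ≫ a.act
      inv := lift (toUnit X ≫ g⁻¹) (𝟙 X) ≫ a.act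
      hom_inv_id := by
        rw [comp_lift_assoc, Category.comp_id, ← Category.assoc _ (toUnit X), toUnit_unique (_ ≫ toUnit X) (toUnit X),
          ← GrpShear.lift_mul_act, ← MonObj.comp_mul, inv_mul_cancel, MonObj.comp_one]
        exact GrpShear.lift_one_act a (𝟙 X)
      inv_hom_id := by
        rw [comp_lift_assoc, Category.comp_id, ← Category.assoc _ (toUnit X), toUnit_unique (_ ≫ toUnit X) (toUnit X),
          ← GrpShear.lift_mul_act, ← MonObj.comp_mul, mul_inv_cancel, MonObj.comp_one]
        exact GrpShear.lift_one_act a (𝟙 X) }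
  have hf : ∀ g (v : 𝟙_ (Over (Spec (CommRingCat.of K))) ⟶ X), v ≫ (f g).hom = lift g v ≫ a.act := fun g v => by
    show v ≫ lift (toUnit X ≫ g) (𝟙 X) ≫ a.act = _
    rw [comp_lift_assoc, Category.comp_id, ← Category.assoc v, toUnit_unique (v ≫ toUnit X) (𝟙 _), Category.id_comp]
  have horb : ∀ (z : 𝟙_ (Over (Spec (CommRingCat.of K))) ⟶ X) (h : 𝟙_ (Over (Spec (CommRingCat.of K))) ⟶ G0),
      h ≫ a0.orbitMap z = lift h z ≫ a0.act := fun z h => by
    rw [AlgGrp.Action.orbitMap, comp_lift_assoc, Category.comp_id, ← Category.assoc h,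
      toUnit_unique (h ≫ toUnit G0) (𝟙 _), Category.id_comp]
  -- every orbit is dense
  have hdense : ∀ z : 𝟙_ (Over (Spec (CommRingCat.of K))) ⟶ X, closure (Set.range (a0.orbitMap z).left) = Set.univ := by
    intro z
    let C := closure (Set.range (a0.orbitMap z).left)
    have hC : ∀ g, IsClosed ((f g).hom.left '' C) := fun g =>
      (Scheme.homeoOfIso ((Over.forget _).mapIso (f g))).isClosedMap _ isClosed_closure
    have hu : (⋃ g ∈ J, (f g).hom.left '' C) = Set.univ := by
      by_contra hne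
      obtain ⟨q, hqU, hqc⟩ := nonempty_inter_closedPoints (X := X.left) (Z := (⋃ g ∈ J, (f g).hom.left '' C)ᶜ)
        (Set.nonempty_compl.2 hne) (J.finite_toSet.isClosed_biUnion fun g _ => hC g).isOpen_compl.isLocallyClosed
      obtain ⟨g, hg⟩ := htr z (ptOf q hqc)
      obtain ⟨g₁, hg₁J, hg₁⟩ := Set.mem_iUnion₂.1 (hJ (Set.mem_univ (g.left (IsLocalRing.closedPoint K))))
      obtain ⟨w, hw, hwc⟩ := nonempty_inter_closedPoints (X := G0.left)
        (Z := (i ≫ (tr g₁).hom).left ⁻¹' {g.left (IsLocalRing.closedPoint K)}) hg₁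
        ((show IsClosed ({g.left (IsLocalRing.closedPoint K)} : Set G.left) from AlbLib.isClosed_pt _ _).preimage (i ≫ (tr g₁).hom).left.continuous).isLocallyClosed
      have heq : g = g₁ * (ptOf w hwc ≫ i) := by
        rw [← htr', Category.assoc]
        refine Over.OverMorphism.ext (ext_of_apply_closedPoint_eq G.hom (Over.w _) (Over.w _) ?_)
        rw [Over.comp_left, Scheme.Hom.comp_apply]
        exact (Set.mem_singleton_iff.1 hw).symm.trans (congrArg (i ≫ (tr g₁).hom).left (hpt w hwc)).symm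
      refine hqU (Set.mem_iUnion₂.2 ⟨g₁, hg₁J, (ptOf w hwc ≫ a0.orbitMap z).left (IsLocalRing.closedPoint K), ?_, ?_⟩)
      · exact subset_closure ⟨_, rfl⟩
      · rw [← Scheme.Hom.comp_apply, ← Over.comp_left, hf, horb, ha0, ← Category.assoc (lift _ z), lift_whiskerRight,
          ← GrpShear.lift_mul_act, ← heq, hg]
        exact hpt q hqc
    obtain ⟨t, ht, hsub⟩ := (isIrreducible_iff_sUnion_isClosed.1 (IrreducibleSpace.isIrreducible_univ X.left))
      (J.image fun g => (f g).hom.left '' C) (by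
        intro s hs
        obtain ⟨g, -, rfl⟩ := Finset.mem_image.1 hs
        exact hC g) (by
        rw [Finset.coe_image, Set.sUnion_image]
        exact hu.ge)
    obtain ⟨g, -, rfl⟩ := Finset.mem_image.1 ht
    refine Set.eq_univ_of_forall fun v => ?_
    obtain ⟨c, hc, hcv⟩ := hsub (Set.mem_univ ((f g).hom.left v))
    exact (Scheme.homeoOfIso ((Over.forget _).mapIso (f g))).injective hcv ▸ hc
  -- two dense constructible sets meet
  haveI : IsLocallyNoetherian X.left := LocallyOfFiniteType.isLocallyNoetherian X.hom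
  haveI : CompactSpace X.left := QuasiCompact.compactSpace_of_compactSpace X.hom
  haveI : IsNoetherian X.left := {}
  have hopen : ∀ z : 𝟙_ (Over (Spec (CommRingCat.of K))) ⟶ X, ∃ Ω : Set X.left, IsOpen Ω ∧ Ω.Nonempty ∧
      Ω ⊆ Set.range (a0.orbitMap z).left := by
    intro z
    haveI : LocallyOfFiniteType ((a0.orbitMap z).left ≫ X.hom) := by rw [Over.w]; infer_instance
    haveI : LocallyOfFiniteType (a0.orbitMap z).left := locallyOfFiniteType_of_comp _ X.hom
    haveI : QuasiCompact (a0.orbitMap z).left := quasiCompact_of_compactSpace _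
    have hC : Topology.IsConstructible (Set.range (a0.orbitMap z).left) := by
      rw [← Set.image_univ]
      exact (a0.orbitMap z).left.isConstructible_image Topology.IsConstructible.univ
    obtain ⟨P, hPf, hP, hPC⟩ := SweepSix.exists_isLocallyClosed_pieces hC
    obtain ⟨P, rfl⟩ := hPf.exists_finset_coe
    obtain ⟨Ω, hΩ, hΩne, hΩsub⟩ := OrbitLib.exists_open_inter_closure P hP (hPC ▸
      ⟨_, (η[G0] : _ ⟶ G0).left (IsLocalRing.closedPoint K), rfl⟩)
    rw [← hPC] at hΩsub
    rw [hdense, Set.inter_univ] at hΩsub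
    exact ⟨Ω, hΩ, hΩne.mono Set.inter_subset_left, hΩsub⟩
  obtain ⟨Ω₁, h₁o, h₁n, h₁s⟩ := hopen x
  obtain ⟨Ω₂, h₂o, h₂n, h₂s⟩ := hopen y
  obtain ⟨q, hq, hqc⟩ := nonempty_inter_closedPoints (X := X.left) (Z := Ω₁ ∩ Ω₂)
    (nonempty_preirreducible_inter h₁o h₂o h₁n h₂n) (h₁o.inter h₂o).isLocallyClosed
  have key : ∀ z, q ∈ Set.range (a0.orbitMap z).left → ∃ h, lift h z ≫ a0.act = ptOf q hqc := by
    rintro z ⟨w, hw⟩
    obtain ⟨w', hw', hw'c⟩ := nonempty_inter_closedPoints (X := G0.left) (Z := (a0.orbitMap z).left ⁻¹' {q})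
      ⟨w, hw⟩ (hqc.preimage (a0.orbitMap z).left.continuous).isLocallyClosed
    refine ⟨ptOf w' hw'c, ?_⟩
    rw [← horb]
    refine Over.OverMorphism.ext (ext_of_apply_closedPoint_eq X.hom (Over.w _) (Over.w _) ?_)
    rw [Over.comp_left, Scheme.Hom.comp_apply]
    exact (congrArg (a0.orbitMap z).left (hpt w' hw'c)).trans ((Set.mem_singleton_iff.1 hw').trans (hpt q hqc).symm)
  obtain ⟨h₁, e₁⟩ := key x (h₁s hq.1)
  obtain ⟨h₂, e₂⟩ := key y (h₂s hq.2)
  refine ⟨h₂⁻¹ * h₁, ?_⟩
  rw [GrpShear.lift_mul_act, e₁, ← e₂, ← GrpShear.lift_mul_act, inv_mul_cancel]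
  exact GrpShear.lift_one_act a0 y

end field

section descend

variable {k : Type u} [Field k] {G G0 X : Over (Spec (CommRingCat.of k))} [GrpObj G] [GrpObj G0]

theorem surjective_restrict [LocallyOfFiniteType G.hom] [QuasiCompact G.hom] [LocallyOfFiniteType G0.hom] [QuasiCompact G0.hom]
    (i : G0 ⟶ G) [IsMonHom i] [IsOpenImmersion i.left]
    [IsSeparated X.hom] [LocallyOfFiniteType X.hom] [QuasiCompact X.hom] [GeometricallyIntegral X.hom]
    (a : AlgGrp.Action G X) (a0 : AlgGrp.Action G0 X) (ha0 : a0.act = (i ▷ X) ≫ a.act)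
    [Surjective (lift (snd G X) a.act).left] : Surjective (lift (snd G0 X) a0.act).left := by
  let K := AlgebraicClosure k
  let ξ : Spec (CommRingCat.of K) ⟶ Spec (CommRingCat.of k) := Spec.map (CommRingCat.ofHom (algebraMap k K))
  haveI : LocallyOfFiniteType (X ⊗ X).hom := inferInstanceAs (LocallyOfFiniteType (pullback.fst X.hom X.hom ≫ X.hom))
  haveI : QuasiCompact (X ⊗ X).hom := inferInstanceAs (QuasiCompact (pullback.fst X.hom X.hom ≫ X.hom))
  haveI : IsSeparated (X ⊗ X).hom := inferInstanceAs (IsSeparated (pullback.fst X.hom X.hom ≫ X.hom))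
  haveI : LocallyOfFiniteType (G ⊗ X).hom := inferInstanceAs (LocallyOfFiniteType (pullback.fst G.hom X.hom ≫ G.hom))
  haveI : LocallyOfFiniteType (G0 ⊗ X).hom := inferInstanceAs (LocallyOfFiniteType (pullback.fst G0.hom X.hom ≫ G0.hom))
  haveI : QuasiCompact (G0 ⊗ X).hom := inferInstanceAs (QuasiCompact (pullback.fst G0.hom X.hom ≫ G0.hom))
  haveI : LocallyOfFiniteType (Red.bc ξ G).hom := MorphismProperty.pullback_snd _ _ inferInstance
  haveI : QuasiCompact (Red.bc ξ G).hom := MorphismProperty.pullback_snd _ _ inferInstance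
  haveI : LocallyOfFiniteType (Red.bc ξ G0).hom := MorphismProperty.pullback_snd _ _ inferInstance
  haveI : QuasiCompact (Red.bc ξ G0).hom := MorphismProperty.pullback_snd _ _ inferInstance
  haveI : LocallyOfFiniteType (Red.bc ξ X).hom := MorphismProperty.pullback_snd _ _ inferInstance
  haveI : QuasiCompact (Red.bc ξ X).hom := MorphismProperty.pullback_snd _ _ inferInstance
  haveI : IsIntegral (Red.bc ξ X).left :=
    GeometricallyIntegral.geometrically_isIntegral (f := X.hom) ξ _ _ (IsPullback.of_hasPullback X.hom ξ)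
  haveI : IsOpenImmersion ((Over.pullback ξ).map i).left :=
    MorphismProperty.of_isPullback (PowEtCentralLib.isPullback_map_left ξ i) ‹IsOpenImmersion i.left›
  haveI := GrpPatchLib.isMonHom_bc_map ξ i
  haveI : IsIso ((Over.map ξ).obj (𝟙_ (Over (Spec (CommRingCat.of K))))).hom → True := fun _ => trivial
  let T := (Over.map ξ).obj (𝟙_ (Over (Spec (CommRingCat.of K))))
  let e : T ≅ pt k K := Over.isoMk (Iso.refl _) (by show 𝟙 _ ≫ ξ = 𝟙 _ ≫ ξ; rfl)
  let E := fun Y => (Over.mapPullbackAdj ξ).homEquiv (𝟙_ (Over (Spec (CommRingCat.of K)))) Y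
  refine ActKer.surjective_of_points (K := K) _ fun b => ?_
  have hact : (a0.bc ξ).act = (((Over.pullback ξ).map i) ▷ Red.bc ξ X) ≫ (a.bc ξ).act := by
    rw [AlgGrp.Action.bc_act, AlgGrp.Action.bc_act, ha0, Functor.map_comp, ← Functor.LaxMonoidal.μ_natural_left_assoc]
  obtain ⟨h, hh⟩ := transitive_field ((Over.pullback ξ).map i) (a.bc ξ) (a0.bc ξ) hact
    (fun x y => by
      obtain ⟨c, hc⟩ := ActKer.exists_point_lift (K := K) (lift (snd G X) a.act)
        (e.inv ≫ lift ((E X).symm x) ((E X).symm y))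
      refine ⟨E G (e.hom ≫ c ≫ fst G X), ?_⟩
      have h1 := congrArg (fun t => e.hom ≫ t ≫ fst X X) hc
      have h2 := congrArg (fun t => e.hom ≫ t ≫ snd X X) hc
      simp only [Category.assoc, lift_fst, lift_snd, Iso.hom_inv_id_assoc] at h1 h2
      calc lift (E G (e.hom ≫ c ≫ fst G X)) x ≫ (a.bc ξ).act
          = lift (E G (e.hom ≫ c ≫ fst G X)) (E X (e.hom ≫ c ≫ snd G X)) ≫ (a.bc ξ).act := by
            rw [h1, Equiv.apply_symm_apply]
        _ = E X (lift (e.hom ≫ c ≫ fst G X) (e.hom ≫ c ≫ snd G X) ≫ a.act) := AlgGrp.Action.lift_homEquiv_bc_act ξ a _ _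
        _ = y := by
            rw [← comp_lift, ← comp_lift, lift_fst_snd, Category.comp_id, Category.assoc, h2, Equiv.apply_symm_apply])
    (E X (e.hom ≫ b ≫ fst X X)) (E X (e.hom ≫ b ≫ snd X X))
  refine ⟨e.inv ≫ lift ((E G0).symm h) (e.hom ≫ b ≫ fst X X), ?_⟩
  have h3 : lift ((E G0).symm h) (e.hom ≫ b ≫ fst X X) ≫ a0.act = e.hom ≫ b ≫ snd X X := by
    apply (E X).injective
    rw [← hh, ← AlgGrp.Action.lift_homEquiv_bc_act, Equiv.apply_symm_apply]
  rw [Category.assoc, comp_lift, lift_snd, h3, ← cancel_epi e.hom, Iso.hom_inv_id_assoc, ← comp_lift, ← comp_lift,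
    lift_fst_snd, Category.comp_id]

theorem geometricallyIntegral_open [GeometricallyIntegral X.hom] (U : X.left.Opens) (hU : (U : Set X.left).Nonempty) :
    GeometricallyIntegral (U.ι ≫ X.hom) := by
  constructor
  intro L _ y Z g p sq
  haveI : IsIntegral (pullback X.hom y) :=
    GeometricallyIntegral.geometrically_isIntegral (f := X.hom) y _ _ (IsPullback.of_hasPullback X.hom y)
  haveI : Surjective y := ⟨fun _ => ⟨IsLocalRing.closedPoint L,
    @Subsingleton.elim _ (inferInstanceAs (Subsingleton (PrimeSpectrum k))) _ _⟩⟩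
  haveI : Surjective g := MorphismProperty.of_isPullback (P := @Surjective) sq.flip ‹Surjective y›
  obtain ⟨u, hu⟩ := hU
  obtain ⟨z, -⟩ := g.surjective ⟨u, hu⟩
  haveI : Nonempty ↥Z := ⟨z⟩
  let j : pullback (U.ι ≫ X.hom) y ⟶ pullback X.hom y :=
    pullback.map _ _ _ _ U.ι (𝟙 _) (𝟙 _) (by simp) (by simp)
  haveI : IsOpenImmersion j := by
    show IsOpenImmersion (pullback.map _ _ _ _ _ _ _ _ _)
    infer_instance
  exact isIntegral_of_isOpenImmersion (sq.isoPullback.hom ≫ j)

end descend



/-- Over a field k, let G be a smooth k-group scheme of finite type acting on a variety X (a separated,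
geometrically integral k-scheme of finite type), and let i : G° → G be its identity component: a
homomorphism which is an open immersion from a connected k-group scheme whose image is the connected
component of the unit element of G. Let G° act on X through i. Then X is homogeneous under G (the
graph morphism G × X → X × X, (g, x) ↦ (x, g·x), is surjective) if and only if it is homogeneous
under G°, and X is almost homogeneous under G (the graph morphism is dominant) if and only if it is
almost homogeneous under G°. -/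
theorem result (k : Type u) [Field k]
    (G G0 X : Over (Spec (CommRingCat.of k))) [GrpObj G] [Smooth G.hom] [QuasiCompact G.hom]
    [GrpObj G0] (i : G0 ⟶ G) [IsMonHom i] [IsOpenImmersion i.left] [ConnectedSpace ↥G0.left]
    (hi : Set.range i.left.base = connectedComponent ((η[G]).left.base (IsLocalRing.closedPoint k)))
    [IsSeparated X.hom] [LocallyOfFiniteType X.hom] [QuasiCompact X.hom] [GeometricallyIntegral X.hom]
    (a : AlgGrp.Action G X) (a0 : AlgGrp.Action G0 X) (ha0 : a0.act = (i ▷ X) ≫ a.act) :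
    (Surjective (CartesianMonoidalCategory.lift (CartesianMonoidalCategory.snd G X) a.act).left ↔
      Surjective (CartesianMonoidalCategory.lift (CartesianMonoidalCategory.snd G0 X) a0.act).left) ∧
    (IsDominant (CartesianMonoidalCategory.lift (CartesianMonoidalCategory.snd G X) a.act).left ↔
      IsDominant (CartesianMonoidalCategory.lift (CartesianMonoidalCategory.snd G0 X) a0.act).left) := by
  haveI : LocallyOfFiniteType G0.hom := by rw [← Over.w i]; infer_instance
  haveI : IsLocallyNoetherian G.left := LocallyOfFiniteType.isLocallyNoetherian G.hom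
  haveI : QuasiCompact G0.hom := by rw [← Over.w i]; infer_instance
  have hΨ : lift (snd G0 X) a0.act = (i ▷ X) ≫ lift (snd G X) a.act := by
    rw [comp_lift, whiskerRight_snd, ← ha0]
  refine ⟨⟨fun _ => surjective_restrict i a a0 ha0, fun h => ?_⟩, ⟨fun hd => ?_, fun h => ?_⟩⟩
  · refine ⟨fun q => ?_⟩
    obtain ⟨w, hw⟩ := h.surj q
    exact ⟨(i ▷ X).left w, by rw [← hw, hΨ, Over.comp_left, Scheme.Hom.comp_apply]⟩
  · haveI := hd
    obtain ⟨U, hne, b, hb, hs⟩ := OrbitLib.exists_homog a
    haveI := hs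
    let X' := Over.mk (U.ι ≫ X.hom)
    haveI : IsLocallyNoetherian X.left := LocallyOfFiniteType.isLocallyNoetherian X.hom
    haveI : GeometricallyIntegral X'.hom := geometricallyIntegral_open U hne
    haveI : LocallyOfFiniteType X'.hom := inferInstanceAs (LocallyOfFiniteType (U.ι ≫ X.hom))
    haveI : QuasiCompact X'.hom := inferInstanceAs (QuasiCompact (U.ι ≫ X.hom))
    haveI : IsSeparated X'.hom := inferInstanceAs (IsSeparated (U.ι ≫ X.hom))
    have hst0 : a0.act.left '' ((snd G0 X).left ⁻¹' (U : Set X.left)) ⊆ U := by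
      rintro _ ⟨w, hw, rfl⟩
      refine OrbitLib.stable_of_homog a ⟨hne, b, hb, hs⟩ ⟨(i ▷ X).left w, ?_, ?_⟩
      · rw [Set.mem_preimage, ← Scheme.Hom.comp_apply, ← Over.comp_left, whiskerRight_snd]
        exact hw
      · rw [ha0, Over.comp_left, Scheme.Hom.comp_apply]
    obtain ⟨b0, hb0⟩ := OrbitLib.exists_restrict_action a0 U hst0
    haveI : Mono (OrbitLib.openι (X := X) U) := by
      haveI : Mono (OrbitLib.openι (X := X) U).left := inferInstanceAs (Mono U.ι)
      exact Over.mono_of_mono_left _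
    have hb0' : b0.act = (i ▷ X') ≫ b.act := by
      rw [← cancel_mono (OrbitLib.openι (X := X) U), Category.assoc, ← hb, ← hb0, ha0, whisker_exchange_assoc]
    exact OrbitLib.isDominant_of_homog a0 ⟨hne, b0, hb0, surjective_restrict i b b0 hb0'⟩
  · refine ⟨h.denseRange.mono ?_⟩
    rw [hΨ, Over.comp_left]
    rintro _ ⟨w, rfl⟩
    exact ⟨_, (Scheme.Hom.comp_apply _ _ _).symm⟩

end Groth.Agent.S14640
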