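import Groth.Statements.S14643
import Mathlib
import Groth.Agent.ActKerLib.Basic
import Groth.Agent.AntiAffLib.Descend
-- import your own Groth.Agent.* helpers here

set_option autoImplicit false
set_option backward.isDefEq.respectTransparency false
universe u
open CategoryTheory MonoidalCategory CartesianMonoidalCategory MonObj GrpObj AlgebraicGeometry CategoryTheory.Limits
open AlgGrp

attribute [-instance] CategoryTheory.Hom.commGroup

namespace Groth.Agent.S14643

/-- Over a field k, let G be a smooth k-group scheme of finite type acting on a variety X (a separated,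
geometrically integral k-scheme of finite type). Let n : N → G be the kernel of the action: a closed
subgroup scheme such that, for every k-scheme T, a T-point of G factors through N exactly when it
acts as the identity on all points of X over T-schemes. Let π : G → Q be a homomorphism onto a
k-group scheme of finite type which is flat and surjective with kernel N (the quotient G/N). Then
there is a unique action of Q on X inducing the given one along π; this action of Q is faithful (a
T-point of Q acting as the identity on all points of X over T-schemes is the unit); and X is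
homogeneous under G (surjective graph morphism (g, x) ↦ (x, g·x)) if and only if it is homogeneous
under Q, and almost homogeneous under G (dominant graph morphism) if and only if it is almost
homogeneous under Q. -/
theorem result (k : Type u) [Field k]
    (G N Q X : Over (Spec (CommRingCat.of k))) [GrpObj G] [Smooth G.hom] [QuasiCompact G.hom]
    [IsSeparated X.hom] [LocallyOfFiniteType X.hom] [QuasiCompact X.hom] [GeometricallyIntegral X.hom] (a : AlgGrp.Action G X)
    [GrpObj N] (n : N ⟶ G) [IsMonHom n] [IsClosedImmersion n.left]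
    (hN : ∀ (T : Over (Spec (CommRingCat.of k))) (g : T ⟶ G),
      (∃ m : T ⟶ N, m ≫ n = g) ↔
        ∀ (T' : Over (Spec (CommRingCat.of k))) (s : T' ⟶ T) (x : T' ⟶ X), CartesianMonoidalCategory.lift (s ≫ g) x ≫ a.act = x)
    [GrpObj Q] [LocallyOfFiniteType Q.hom] [QuasiCompact Q.hom] (π : G ⟶ Q) [IsMonHom π] [Flat π.left] [Surjective π.left]
    (hker : AlgGrp.IsKernel n π) :
    (∃! b : AlgGrp.Action Q X, (π ▷ X) ≫ b.act = a.act) ∧
    ∀ b : AlgGrp.Action Q X, (π ▷ X) ≫ b.act = a.act →
      (∀ (T : Over (Spec (CommRingCat.of k))) (q : T ⟶ Q),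
        (∀ (T' : Over (Spec (CommRingCat.of k))) (s : T' ⟶ T) (x : T' ⟶ X), CartesianMonoidalCategory.lift (s ≫ q) x ≫ b.act = x) → q = 1) ∧
      (Surjective (CartesianMonoidalCategory.lift (CartesianMonoidalCategory.snd G X) a.act).left ↔
        Surjective (CartesianMonoidalCategory.lift (CartesianMonoidalCategory.snd Q X) b.act).left) ∧
      (IsDominant (CartesianMonoidalCategory.lift (CartesianMonoidalCategory.snd G X) a.act).left ↔
        IsDominant (CartesianMonoidalCategory.lift (CartesianMonoidalCategory.snd Q X) b.act).left) := by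
  haveI : LocallyOfFiniteType G.hom := inferInstance
  haveI := AntiAffLib.lfp_of_lft π
  haveI : Flat (𝟙 X : X ⟶ X).left := inferInstanceAs (Flat (𝟙 X.left))
  haveI : Surjective (𝟙 X : X ⟶ X).left := inferInstanceAs (Surjective (𝟙 X.left))
  haveI : LocallyOfFinitePresentation (𝟙 X : X ⟶ X).left := inferInstanceAs (LocallyOfFinitePresentation (𝟙 X.left))
  obtain ⟨f1, f2, f3⟩ := Groth.Agent.MonoQuot.fppf_tensor π (𝟙 X)
  haveI := f1; haveI := f2; haveI := f3
  haveI := Groth.Agent.MonoQuot.epi_over (π ⊗ₘ 𝟙 X)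
  have eπ : π ▷ X = π ⊗ₘ 𝟙 X := (MonoidalCategory.tensorHom_id π X).symm
  obtain ⟨act, hact⟩ := Groth.Agent.MonoQuot.exists_desc_over (π ⊗ₘ 𝟙 X) a.act fun T u v e => by
    have e1 : (u ≫ fst G X) ≫ π = (v ≫ fst G X) ≫ π := by simpa using congrArg (· ≫ fst Q X) e
    have e2 : u ≫ snd G X = v ≫ snd G X := by simpa using congrArg (· ≫ snd Q X) e
    obtain ⟨m, hm⟩ := AntiAffLib.exists_lift_kernel hker ((u ≫ fst G X)⁻¹ * (v ≫ fst G X)) (by
      rw [MonObj.mul_comp, GrpObj.inv_comp, e1, inv_mul_cancel])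
    have ev : v = lift ((u ≫ fst G X) * (m ≫ n)) (u ≫ snd G X) :=
      CartesianMonoidalCategory.hom_ext _ _ (by rw [lift_fst, hm, mul_inv_cancel_left]) (by rw [lift_snd, e2])
    conv_rhs => rw [ev, Groth.Agent.MonoQuot.act_mul, Groth.Agent.ActKer.act_kernel (fun T g => hN T g)]
    rw [← comp_lift, lift_fst_snd, Category.comp_id]
  have hpt : ∀ (T : Over (Spec (CommRingCat.of k))) (g : T ⟶ G) (x : T ⟶ X),
      lift (g ≫ π) x ≫ act = lift g x ≫ a.act := fun T g x => by
    rw [← hact, ← Category.assoc, lift_map, Category.comp_id]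
  obtain ⟨g1, g2, g3⟩ := Groth.Agent.MonoQuot.fppf_tensor π π
  haveI := g1; haveI := g2; haveI := g3
  obtain ⟨u1, u2, u3⟩ := Groth.Agent.MonoQuot.fppf_tensor (π ⊗ₘ π) (𝟙 X)
  haveI := u1; haveI := u2; haveI := u3
  haveI := Groth.Agent.MonoQuot.epi_over ((π ⊗ₘ π) ⊗ₘ 𝟙 X)
  have hone : ∀ (T : Over (Spec (CommRingCat.of k))) (x : T ⟶ X), lift (1 : T ⟶ Q) x ≫ act = x := fun T x => by
    rw [← MonObj.one_comp π, hpt, Groth.Agent.MonoQuot.act_one]
  let b₀ : AlgGrp.Action Q X :=
    { act := act
      one_act := by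
        rw [leftUnitor_hom]
        have e : η[Q] ▷ X = lift (1 : _ ⟶ Q) (snd (𝟙_ (Over (Spec (CommRingCat.of k)))) X) := by
          refine CartesianMonoidalCategory.hom_ext _ _ ?_ (by simp)
          rw [whiskerRight_fst, lift_fst, Hom.one_def]
          exact congrArg (· ≫ η[Q]) (toUnit_unique _ _)
        rw [e, hone]
      mul_act := by
        rw [← cancel_epi ((π ⊗ₘ π) ⊗ₘ 𝟙 X)]
        let g : (G ⊗ G) ⊗ X ⟶ G := fst _ _ ≫ fst G G
        let g' : (G ⊗ G) ⊗ X ⟶ G := fst _ _ ≫ snd G G
        let x : (G ⊗ G) ⊗ X ⟶ X := snd _ _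
        have e : ((π ⊗ₘ π) ⊗ₘ 𝟙 X) ≫ (μ[Q] ▷ X) = lift ((g * g') ≫ π) x := by
          refine CartesianMonoidalCategory.hom_ext _ _ ?_ (by simp [x])
          simp only [Category.assoc, whiskerRight_fst, tensorHom_fst_assoc, lift_fst, g, g']
          rw [← IsMonHom.mul_hom π, Hom.mul_def, ← comp_lift, lift_fst_snd, Category.comp_id, Category.assoc]
        have e' : (((π ⊗ₘ π) ⊗ₘ 𝟙 X) ≫ (α_ Q Q X).hom) ≫ (Q ◁ act) = lift (g ≫ π) (lift (g' ≫ π) x ≫ act) := by
          refine CartesianMonoidalCategory.hom_ext _ _ (by simp [g]) ?_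
          simp only [Category.assoc, whiskerLeft_snd, lift_snd]
          rw [← Category.assoc (α_ Q Q X).hom, ← Category.assoc]
          congr 1
          refine CartesianMonoidalCategory.hom_ext _ _ (by simp [g']) (by simp [x])
        rw [← Category.assoc, e, hpt, ← Category.assoc, ← Category.assoc, e', hpt _ g' x, hpt,
          Groth.Agent.MonoQuot.act_mul] }
  have hb₀ : (π ▷ X) ≫ b₀.act = a.act := by rw [eπ]; exact hact
  refine ⟨⟨b₀, hb₀, fun b hb => ?_⟩, fun b hb => ?_⟩
  · have : b.act = b₀.act := by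
      rw [← cancel_epi (π ⊗ₘ 𝟙 X), ← eπ, hb, hb₀]
    obtain ⟨bact, _, _⟩ := b
    simp only [b₀, AlgGrp.Action.mk.injEq] at this ⊢
    exact this
  rw [eπ] at hb
  have hpt' : ∀ (T : Over (Spec (CommRingCat.of k))) (g : T ⟶ G) (x : T ⟶ X),
      lift (g ≫ π) x ≫ b.act = lift g x ≫ a.act := fun T g x => by
    rw [← hb, ← Category.assoc, lift_map, Category.comp_id]
  refine ⟨fun T q hq => ?_, ?_, ?_⟩
  · obtain ⟨T', c, e, hc, he⟩ := Groth.Agent.ActKer.liftsLocally_of_fppf π T q
    haveI := hc
    obtain ⟨m, hm⟩ := (hN T' e).2 fun T'' s x => by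
      rw [← hpt', Category.assoc, he, ← Category.assoc]
      exact hq T'' (s ≫ c) x
    rw [← cancel_epi c, MonObj.comp_one, ← he, ← hm, Category.assoc, AntiAffLib.kernel_comp hker, MonObj.comp_one]
  all_goals
    have e : (π ⊗ₘ 𝟙 X).left ≫ (lift (snd Q X) b.act).left = (lift (snd G X) a.act).left := by
      rw [← Over.comp_left, comp_lift, hb, tensorHom_snd, Category.comp_id]
    rw [← e]
  · exact ⟨fun h => haveI := h; Surjective.of_comp (π ⊗ₘ 𝟙 X).left _, fun h => haveI := h; inferInstance⟩
  · exact ⟨fun h => haveI := h; IsDominant.of_comp (π ⊗ₘ 𝟙 X).left _, fun h => haveI := h; inferInstance⟩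

end Groth.Agent.S14643
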