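import Groth.Statements.S14645
import Mathlib
import Groth.Agent.ActKerLib.Surj
-- import your own Groth.Agent.* helpers here

set_option autoImplicit false
set_option backward.isDefEq.respectTransparency false
universe u
open CategoryTheory MonoidalCategory CartesianMonoidalCategory MonObj GrpObj AlgebraicGeometry CategoryTheory.Limits
open AlgGrp

namespace Groth.Agent.S14645

/-- Over a field k with algebraic closure K, let G be a smooth k-group scheme of finite type acting on a
variety X (a separated, geometrically integral k-scheme of finite type). Then X is homogeneous under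
G, i.e. the graph morphism G × X → X × X, (g, x) ↦ (x, g·x), is surjective, if and only if the
abstract group G(K) of K-points over k acts transitively on the set X(K): for all K-points x, y of X
there is a K-point g of G with g · x = y. -/
theorem result (k : Type u) [Field k]
    (G X : Over (Spec (CommRingCat.of k))) [GrpObj G] [Smooth G.hom] [QuasiCompact G.hom]
    [IsSeparated X.hom] [LocallyOfFiniteType X.hom] [QuasiCompact X.hom] [GeometricallyIntegral X.hom] (a : AlgGrp.Action G X)
    (K : Type u) [Field K] [Algebra k K] [IsAlgClosure k K] :
    Surjective (CartesianMonoidalCategory.lift (CartesianMonoidalCategory.snd G X) a.act).left ↔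
      ∀ x y : Over.mk (Spec.map (CommRingCat.ofHom (algebraMap k K))) ⟶ X, ∃ g : Over.mk (Spec.map (CommRingCat.ofHom (algebraMap k K))) ⟶ G, CartesianMonoidalCategory.lift g x ≫ a.act = y := by
  haveI : IsAlgClosed K := IsAlgClosure.isAlgClosed k
  haveI : LocallyOfFiniteType G.hom := inferInstance
  have hprod : ∀ (A B : Over (Spec (CommRingCat.of k))) [LocallyOfFiniteType A.hom] [QuasiCompact A.hom]
      [LocallyOfFiniteType B.hom] [QuasiCompact B.hom],
      LocallyOfFiniteType (A ⊗ B).hom ∧ QuasiCompact (A ⊗ B).hom := by
    intro A B _ _ _ _
    haveI : LocallyOfFiniteType (snd A B).left := inferInstanceAs (LocallyOfFiniteType (Limits.pullback.snd A.hom B.hom))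
    haveI : QuasiCompact (snd A B).left := inferInstanceAs (QuasiCompact (Limits.pullback.snd A.hom B.hom))
    rw [← Over.w (snd A B)]
    exact ⟨inferInstance, inferInstance⟩
  haveI := (hprod G X).1; haveI := (hprod G X).2; haveI := (hprod X X).1; haveI := (hprod X X).2
  haveI : IsSeparated (X ⊗ X).hom := by
    haveI : IsSeparated (snd X X).left := inferInstanceAs (IsSeparated (Limits.pullback.snd X.hom X.hom))
    rw [← Over.w (snd X X)]
    infer_instance
  constructor
  · intro h x y
    haveI := h
    obtain ⟨w, hw⟩ := Groth.Agent.ActKer.exists_point_lift (K := K) (lift (snd G X) a.act) (lift x y)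
    have h1 : w ≫ snd G X = x := by simpa using congrArg (· ≫ fst X X) hw
    have h2 : w ≫ a.act = y := by simpa using congrArg (· ≫ snd X X) hw
    refine ⟨w ≫ fst G X, ?_⟩
    rw [← h1, ← comp_lift, lift_fst_snd, Category.comp_id, h2]
  · intro h
    refine Groth.Agent.ActKer.surjective_of_points (K := K) _ fun b => ?_
    obtain ⟨g, hg⟩ := h (b ≫ fst X X) (b ≫ snd X X)
    refine ⟨lift g (b ≫ fst X X), ?_⟩
    rw [comp_lift, lift_snd, hg, ← comp_lift, lift_fst_snd, Category.comp_id]

end Groth.Agent.S14645
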