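import Groth.Statements.S14647
import Groth.Agent.P1RadLib.Main
-- import your own Groth.Agent.* helpers here

set_option autoImplicit false
universe u
open CategoryTheory CategoryTheory.Limits AlgebraicGeometry
open AlgGrp

namespace Groth.Agent.S14647

/-- Over a field k, let P be a closed point of the projective line P¹_k whose residue field κ(P) is
purely inseparable over k with [κ(P) : k] ≥ 3 (this forces k to be imperfect). Then the centraliser
of P (with its reduced structure) in the automorphism group of P¹ is infinitesimal; on geometric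
points: for an algebraic closure K of k, every automorphism φ of P¹_k ×_k Spec K over Spec K which
induces the identity on the closed subscheme Spec κ(P) ×_k Spec K — meaning φ ∘ z = z for every
scheme T and every T-point z of P¹_k ×_k Spec K whose image in P¹_k factors through Spec κ(P) → P¹_k
— is the identity. -/
theorem result (k : Type u) [Field k]
    (P : ↥(CohB1.ProjSpace 1 k))
    (hpi : letI := ((CohB1.ProjSpace.toSpec 1 k).residueFieldMap P).hom.toAlgebra
      IsPurelyInseparable ↑((Spec (CommRingCat.of k)).residueField ((CohB1.ProjSpace.toSpec 1 k) P)) ↑((CohB1.ProjSpace 1 k).residueField P))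
    (hdeg : letI := ((CohB1.ProjSpace.toSpec 1 k).residueFieldMap P).hom.toAlgebra
      3 ≤ Module.finrank ↑((Spec (CommRingCat.of k)).residueField ((CohB1.ProjSpace.toSpec 1 k) P)) ↑((CohB1.ProjSpace 1 k).residueField P))
    (K : Type u) [Field K] [Algebra k K] [IsAlgClosure k K]
    (φ : pullback (CohB1.ProjSpace.toSpec 1 k) (Spec.map (CommRingCat.ofHom (algebraMap k K))) ≅ pullback (CohB1.ProjSpace.toSpec 1 k) (Spec.map (CommRingCat.ofHom (algebraMap k K))))
    (hφ : φ.hom ≫ pullback.snd (CohB1.ProjSpace.toSpec 1 k) (Spec.map (CommRingCat.ofHom (algebraMap k K))) = pullback.snd (CohB1.ProjSpace.toSpec 1 k) (Spec.map (CommRingCat.ofHom (algebraMap k K))))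
    (hfix : ∀ (T : Scheme.{u}) (z : T ⟶ pullback (CohB1.ProjSpace.toSpec 1 k) (Spec.map (CommRingCat.ofHom (algebraMap k K)))) (w : T ⟶ Spec ((CohB1.ProjSpace 1 k).residueField P)),
      z ≫ pullback.fst (CohB1.ProjSpace.toSpec 1 k) (Spec.map (CommRingCat.ofHom (algebraMap k K))) = w ≫ (CohB1.ProjSpace 1 k).fromSpecResidueField P → z ≫ φ.hom = z) :
    φ.hom = 𝟙 _ := by
  haveI : IsAlgClosed K := IsAlgClosure.isAlgClosed k
  let f := CohB1.ProjSpace.toSpec 1 k
  haveI : IsProper f := ProjDegLib.toSpec_isProper k 1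
  let κ := (CohB1.ProjSpace 1 k).residueField P
  let ι₀ : k →+* κ := (Spec.preimage ((CohB1.ProjSpace 1 k).fromSpecResidueField P ≫ f)).hom
  have hι₀ : Spec.map (CommRingCat.ofHom ι₀) = (CohB1.ProjSpace 1 k).fromSpecResidueField P ≫ f := Spec.map_preimage _
  let θ : k →+* (Spec (CommRingCat.of k)).residueField (f P) :=
    (Spec.preimage ((Spec (CommRingCat.of k)).fromSpecResidueField (f P))).hom
  have hθm : Spec.map (CommRingCat.ofHom θ) = (Spec (CommRingCat.of k)).fromSpecResidueField (f P) := Spec.map_preimage _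
  have hθ : Function.Bijective θ := by
    haveI : IsClosedImmersion (Spec.map (CommRingCat.ofHom θ)) := by
      rw [hθm]
      refine isClosed_singleton_iff_isClosedImmersion.1 ?_
      rw [show ({f P} : Set ↥(Spec (CommRingCat.of k))) = Set.univ from Subsingleton.eq_univ_of_nonempty ⟨_, rfl⟩]
      exact isClosed_univ
    refine ⟨θ.injective, fun z => ?_⟩
    obtain ⟨y, hy⟩ := (IsClosedImmersion.isAffine_surjective_of_isAffine (Spec.map (CommRingCat.ofHom θ))).2
      ((Scheme.ΓSpecIso ((Spec (CommRingCat.of k)).residueField (f P))).inv z)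
    refine ⟨(Scheme.ΓSpecIso (CommRingCat.of k)).hom y, ?_⟩
    have := congrArg (Scheme.ΓSpecIso ((Spec (CommRingCat.of k)).residueField (f P))).hom hy
    rw [← ConcreteCategory.comp_apply] at this
    erw [Scheme.ΓSpecIso_naturality] at this
    rw [ConcreteCategory.comp_apply, Iso.inv_hom_id_apply] at this
    exact this
  have hfac : (f.residueFieldMap P).hom.comp θ = ι₀ := by
    have h : CommRingCat.ofHom θ ≫ f.residueFieldMap P = CommRingCat.ofHom ι₀ := by
      apply Spec.map_injective
      rw [Spec.map_comp, hθm, hι₀, Scheme.Hom.SpecMap_residueFieldMap_fromSpecResidueField]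
    exact congrArg CommRingCat.Hom.hom h
  letI algP := (f.residueFieldMap P).hom.toAlgebra
  letI alg0 : Algebra k κ := ι₀.toAlgebra
  have hrank : 3 ≤ Module.finrank k κ := by
    rw [Algebra.finrank_eq_of_equiv_equiv (RingEquiv.ofBijective θ hθ) (RingEquiv.refl κ) hfac]
    exact hdeg
  haveI : FiniteDimensional k κ := FiniteDimensional.of_finrank_pos (by omega)
  have hP : IsClosed ({P} : Set ↥(CohB1.ProjSpace 1 k)) := by
    haveI : IsFinite ((CohB1.ProjSpace 1 k).fromSpecResidueField P ≫ f) := by
      rw [← hι₀, IsFinite.SpecMap_iff]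
      exact RingHom.finite_algebraMap.2 inferInstance
    haveI : UniversallyClosed ((CohB1.ProjSpace 1 k).fromSpecResidueField P) :=
      UniversallyClosed.of_comp_of_isSeparated _ f
    rw [← Scheme.range_fromSpecResidueField]
    exact ((CohB1.ProjSpace 1 k).fromSpecResidueField P).isClosedMap.isClosed_range
  obtain ⟨j, hj, e, he, hU⟩ := P1RadLib.exists_complement (K := K) P hP hpi
  let j' := e.inv ≫ j
  have hj' : IsPullback j' (CohB1.ProjSpace.toSpec 1 K) f (Spec.map (CommRingCat.ofHom (algebraMap k K))) :=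
    hj.of_iso e (Iso.refl _) (Iso.refl _) (Iso.refl _) (by simp [j']) (by simp [he]) (by simp [f]) (by simp)
  let E := hj'.isoPullback
  let ψ := E ≪≫ φ ≪≫ E.symm
  have hψ : ψ.hom ≫ CohB1.ProjSpace.toSpec 1 K = CohB1.ProjSpace.toSpec 1 K := by
    simp only [ψ, E, Iso.trans_hom, Iso.symm_hom, Category.assoc, IsPullback.isoPullback_inv_snd]
    erw [hφ, IsPullback.isoPullback_hom_snd]
  let B := TensorProduct k K κ
  have hsq : IsPullback (Spec.map (CommRingCat.ofHom (Algebra.TensorProduct.includeRight (R := k) (A := K) (B := κ)).toRingHom))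
      (Spec.map (CommRingCat.ofHom (algebraMap K B))) ((CohB1.ProjSpace 1 k).fromSpecResidueField P ≫ f)
      (Spec.map (CommRingCat.ofHom (algebraMap k K))) := by
    rw [← hι₀]
    exact isPullback_SpecMap_of_isPushout _ _ _ _ (CommRingCat.isPushout_tensorProduct k K κ).flip
  let c := hj'.lift (Spec.map (CommRingCat.ofHom
    (Algebra.TensorProduct.includeRight (R := k) (A := K) (B := κ)).toRingHom) ≫
      (CohB1.ProjSpace 1 k).fromSpecResidueField P) (Spec.map (CommRingCat.ofHom (algebraMap K B)))
    (by rw [Category.assoc]; exact hsq.w)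
  have hc1 : c ≫ j' = _ := hj'.lift_fst _ _ _
  have hc2 : c ≫ CohB1.ProjSpace.toSpec 1 K = Spec.map (CommRingCat.ofHom (algebraMap K B)) := hj'.lift_snd _ _ _
  have hcsq : IsPullback (Spec.map (CommRingCat.ofHom (Algebra.TensorProduct.includeRight (R := k) (A := K) (B := κ)).toRingHom))
      c ((CohB1.ProjSpace 1 k).fromSpecResidueField P) j' :=
    IsPullback.of_bot (hc2.symm ▸ hsq) hc1.symm hj'
  haveI : IsClosedImmersion c := MorphismProperty.of_isPullback hcsq (isClosed_singleton_iff_isClosedImmersion.1 hP)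
  have hout : ∀ x, c.base x ∉ QCohLib.stdOpen 1 K 0 := by
    intro x hx
    have h1 : e.inv.base (c.base x) ∈ e.hom ⁻¹ᵁ QCohLib.stdOpen 1 K 0 := by
      show e.hom.base (e.inv.base (c.base x)) ∈ QCohLib.stdOpen 1 K 0
      rwa [← Scheme.Hom.comp_apply, e.inv_hom_id]
    rw [hU] at h1
    refine (h1 : j.base (e.inv.base (c.base x)) ∉ ({P} : Set _)) ?_
    rw [← Scheme.Hom.comp_apply, ← Scheme.Hom.comp_apply, show c ≫ e.inv ≫ j = _ from hc1,
      Scheme.Hom.comp_apply, ← Scheme.range_fromSpecResidueField]
    exact ⟨_, rfl⟩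
  have hfix' : c ≫ ψ.hom = c := by
    have := hfix _ (c ≫ E.hom) _ (by rw [Category.assoc, IsPullback.isoPullback_hom_fst]; exact hc1)
    simp only [ψ, Iso.trans_hom, Iso.symm_hom, Category.assoc] at this ⊢
    rw [reassoc_of% this, Iso.hom_inv_id, Category.comp_id]
  have h3 : 3 ≤ Module.finrank K B := by rwa [Module.finrank_baseChange]
  have hid := P1RadLib.eq_id ψ hψ c hc2 hout h3 hfix'
  have := congrArg (fun t => E.inv ≫ t ≫ E.hom) hid
  simpa [ψ] using this

end Groth.Agent.S14647
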