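import Groth.Statements.S14648
import Groth.Agent.ModifLib.Norm
import Groth.Agent.NormalLib.N1Local
import Groth.Agent.NormFin.Field
import Groth.Agent.ModPairLib.Basic
import Groth.Agent.GrpShear

set_option autoImplicit false
set_option backward.isDefEq.respectTransparency false
set_option backward.isDefEq.respectTransparency.types false
set_option maxHeartbeats 1000000
set_option synthInstance.maxHeartbeats 400000
universe u
open CategoryTheory MonoidalCategory CartesianMonoidalCategory MonObj GrpObj AlgebraicGeometry CategoryTheory.Limits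
open AlgGrp

set_option backward.isDefEq.respectTransparency false
namespace Groth.Agent.S14648

theorem isPullback_act {S : Scheme.{u}} {G X Z : Over S} [GrpObj G] (a : AlgGrp.Action G X)
    (b : AlgGrp.Action G Z) (n : Z ⟶ X) (h : (G ◁ n) ≫ a.act = b.act ≫ n) :
    IsPullback b.act (G ◁ n) n a.act := by
  have hp : ∀ {T : Over S} (g : T ⟶ G) (y : T ⟶ Z),
      lift g (y ≫ n) ≫ a.act = (lift g y ≫ b.act) ≫ n := fun g y => by
    rw [← lift_whiskerLeft g y n, Category.assoc, h, Category.assoc]
  refine ⟨⟨h.symm⟩, ⟨PullbackCone.IsLimit.mk h.symm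
    (fun s => lift (s.snd ≫ fst G X) (lift (s.snd ≫ fst G X)⁻¹ s.fst ≫ b.act)) ?_ ?_ ?_⟩⟩
  · intro s
    rw [← GrpShear.lift_mul_act, mul_inv_cancel, GrpShear.lift_one_act]
  · intro s
    rw [lift_whiskerLeft]
    refine hom_ext _ _ (by simp) ?_
    rw [lift_snd, ← hp, s.condition, show s.snd ≫ a.act = lift (s.snd ≫ fst G X) (s.snd ≫ snd G X) ≫ a.act by
      rw [← comp_lift, lift_fst_snd, Category.comp_id], ← GrpShear.lift_mul_act, inv_mul_cancel,
      GrpShear.lift_one_act]
  · intro s m h1 h2
    have hf : m ≫ fst G Z = s.snd ≫ fst G X := by rw [← h2]; simp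
    refine hom_ext _ _ (by simp [hf]) ?_
    rw [lift_snd, ← h1, show m ≫ b.act = lift (m ≫ fst G Z) (m ≫ snd G Z) ≫ b.act by
      rw [← comp_lift, lift_fst_snd, Category.comp_id], ← hf, ← GrpShear.lift_mul_act, inv_mul_cancel,
      GrpShear.lift_one_act]

theorem isPullback_snd {S : Scheme.{u}} (T : Over S) {W Z : Over S} (j : W ⟶ Z) :
    IsPullback (snd T W) (T ◁ j) j (snd T Z) := by
  refine ⟨⟨(whiskerLeft_snd T j).symm⟩, ⟨PullbackCone.IsLimit.mk (whiskerLeft_snd T j).symm
    (fun s => lift (s.snd ≫ fst T Z) s.fst) ?_ ?_ ?_⟩⟩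
  · intro s; rw [lift_snd]
  · intro s
    rw [lift_whiskerLeft]
    exact hom_ext _ _ (by simp) (by simpa using s.condition)
  · intro s m h1 h2
    exact hom_ext _ _ (by rw [lift_fst, ← h2]; simp) (by simpa using h1)

/-- Over a field, a dominant quasi-compact map to a reduced scheme stays schematically dominant after
multiplying by any scheme, so maps to a separated scheme agreeing after it agree. -/
theorem ext_whisker (k : Type u) [Field k] (T : Over (Spec (CommRingCat.of k)))
    {W Z Y : Over (Spec (CommRingCat.of k))} (j : W ⟶ Z) [IsDominant j.left] [IsReduced Z.left]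
    [QuasiCompact j.left] [IsSeparated Y.hom] (φ φ' : T ⊗ Z ⟶ Y)
    (h : (T ◁ j) ≫ φ = (T ◁ j) ≫ φ') : φ = φ' := by
  haveI : IsSchemeTheoreticallyDominant j.left := IsSchemeTheoreticallyDominant.of_isDominant _
  haveI : Flat T.hom := inferInstance
  haveI : Flat (snd T Z).left := by
    rw [CategoryTheory.Over.snd_left]
    exact MorphismProperty.pullback_snd _ _ inferInstance
  haveI : QuasiCompact ((Over.forget _).map j) := ‹QuasiCompact j.left›
  haveI : IsSchemeTheoreticallyDominant ((Over.forget _).map j) := ‹IsSchemeTheoreticallyDominant j.left›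
  haveI : Flat ((Over.forget _).map (snd T Z)) := ‹Flat (snd T Z).left›
  haveI : IsSchemeTheoreticallyDominant (T ◁ j).left :=
    IsSchemeTheoreticallyDominant.of_isPullback ((isPullback_snd T j).map (Over.forget _))
  exact Over.OverMorphism.ext (ModPairLib.ext_of_dominant Y.hom (T ◁ j).left (Over.w φ |>.trans (Over.w φ').symm)
    (congrArg CommaMorphism.left h))



/-- Over a field k, let G be a smooth connected k-group scheme of finite type acting on a variety X (a
separated, geometrically integral k-scheme of finite type), let ν : X̃ → X be the normalization of X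
and let G act on X̃ so that ν is equivariant (such a lifted action exists and is unique; here it is
given). Then the commutative square with the action maps G × X̃ → X̃ and G × X → X as horizontal
sides and id_G × ν, ν as vertical sides is cartesian, and the two actions have the same kernel: for
every k-scheme T, a T-point g of G acts as the identity on all points of X over T-schemes if and
only if it acts as the identity on all points of X̃ over T-schemes. (The quasi-compactness and
quasi-separatedness binders on the morphism from the generic point always hold; they are only needed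
to form the normalization.) -/
theorem result (k : Type u) [Field k]
    (G X : Over (Spec (CommRingCat.of k))) [GrpObj G] [Smooth G.hom] [QuasiCompact G.hom] [ConnectedSpace ↥G.left]
    [IsSeparated X.hom] [LocallyOfFiniteType X.hom] [QuasiCompact X.hom] [GeometricallyIntegral X.hom] [IsIntegral X.left] [QuasiCompact (X.left.fromSpecStalk (genericPoint ↥X.left))] [QuasiSeparated (X.left.fromSpecStalk (genericPoint ↥X.left))]
    (a : AlgGrp.Action G X) (b : AlgGrp.Action G (Over.mk (Curv2.normalizationι X.left ≫ X.hom)))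
    (hb : (G ◁ (Over.homMk (Curv2.normalizationι X.left) rfl : Over.mk (Curv2.normalizationι X.left ≫ X.hom) ⟶ X)) ≫ a.act = b.act ≫ Over.homMk (Curv2.normalizationι X.left) rfl) :
    IsPullback b.act (G ◁ (Over.homMk (Curv2.normalizationι X.left) rfl : Over.mk (Curv2.normalizationι X.left ≫ X.hom) ⟶ X)) (Over.homMk (Curv2.normalizationι X.left) rfl : Over.mk (Curv2.normalizationι X.left ≫ X.hom) ⟶ X) a.act ∧
    ∀ (T : Over (Spec (CommRingCat.of k))) (g : T ⟶ G),
      (∀ (T' : Over (Spec (CommRingCat.of k))) (s : T' ⟶ T) (x : T' ⟶ X), CartesianMonoidalCategory.lift (s ≫ g) x ≫ a.act = x) ↔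
      (∀ (T' : Over (Spec (CommRingCat.of k))) (s : T' ⟶ T) (y : T' ⟶ Over.mk (Curv2.normalizationι X.left ≫ X.hom)), CartesianMonoidalCategory.lift (s ≫ g) y ≫ b.act = y) := by
  let ν := Curv2.normalizationι X.left
  let νo : Over.mk (ν ≫ X.hom) ⟶ X := Over.homMk ν rfl
  change IsPullback b.act (G ◁ νo) νo a.act ∧ _
  refine ⟨isPullback_act a b νo hb, ?_⟩
  haveI : IsIntegralHom ν := inferInstanceAs (IsIntegralHom (X.left.fromSpecStalk (genericPoint ↥X.left)).fromNormalization)
  haveI : IsDominant ν := by
    let g := X.left.fromSpecStalk (genericPoint ↥X.left)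
    haveI : IsDominant (g.toNormalization ≫ g.fromNormalization) := by
      rw [Scheme.Hom.toNormalization_fromNormalization, isDominant_iff, denseRange_iff_closure_range,
        Scheme.range_fromSpecStalk]
      refine Set.eq_univ_of_univ_subset ?_
      rw [← genericPoint_closure (α := X.left)]
      exact closure_mono (Set.singleton_subset_iff.2 specializes_rfl)
    exact IsDominant.of_comp g.toNormalization g.fromNormalization
  have hνs : Function.Surjective ν := (surjective_of_isDominant_of_isClosed_range ν ν.isClosedMap.isClosed_range).surj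
  -- a normal open of `X`, over which `ν` is an isomorphism
  obtain ⟨U, hUne, hUiso⟩ : ∃ U : X.left.Opens, (U : Set X.left).Nonempty ∧ IsIso (ν ∣_ U) := by
    obtain ⟨W, hW, hηW, -⟩ := exists_isAffineOpen_mem_and_subset (U := (⊤ : X.left.Opens))
      (x := genericPoint ↥X.left) trivial
    haveI : Nonempty W := ⟨⟨_, hηW⟩⟩
    letI : Algebra k Γ(X.left, W) :=
      ((Scheme.ΓSpecIso (CommRingCat.of k)).inv ≫ X.hom.appLE ⊤ W le_top).hom.toAlgebra
    haveI : Algebra.FiniteType k Γ(X.left, W) := by
      rw [← RingHom.finiteType_algebraMap]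
      exact (X.hom.finiteType_appLE (isAffineOpen_top _) hW le_top).comp
        (RingHom.FiniteType.of_surjective _
          (ConcreteCategory.bijective_of_isIso (Scheme.ΓSpecIso (CommRingCat.of k)).inv).surjective)
    haveI : IsNoetherianRing Γ(X.left, W) := Algebra.FiniteType.isNoetherianRing k _
    obtain ⟨f, hf, hfn⟩ := (NormalLib.isN1_iff.1 (show CAlg.IsN1 Γ(X.left, W) from
      NormFinLib.finite_integralClosure_of_finiteType_field k Γ(X.left, W) (FractionRing Γ(X.left, W))
        (FractionRing Γ(X.left, W)))).1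
    haveI := hW.isLocalization_basicOpen f
    haveI : IsIntegrallyClosed Γ(X.left, X.left.basicOpen f) := IsIntegrallyClosed.of_equiv
      (IsLocalization.algEquiv (Submonoid.powers f) (Localization.Away f) Γ(X.left, X.left.basicOpen f)).toRingEquiv
    obtain ⟨y, hy⟩ : (X.left.basicOpen f : Set X.left).Nonempty :=
      (TopologicalSpace.Opens.ne_bot_iff_nonempty _).1 fun h => hf ((basicOpen_eq_bot_iff f).1 h)
    haveI : Nonempty (X.left.basicOpen f) := ⟨⟨y, hy⟩⟩
    exact ⟨X.left.basicOpen f, ⟨y, hy⟩, ModifLib.isIso_normalizationι_restrict X.left ⟨X.left.basicOpen f, hW.basicOpen f⟩ ‹_›⟩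
  let V : (Curv2.normalization X.left).Opens := ν ⁻¹ᵁ U
  haveI : IsOpenImmersion (V.ι ≫ ν) := by rw [← morphismRestrict_ι]; infer_instance
  haveI : IsLocallyNoetherian (Spec (CommRingCat.of k)) := inferInstance
  haveI : IsLocallyNoetherian X.left := LocallyOfFiniteType.isLocallyNoetherian X.hom
  let jV : Over.mk (V.ι ≫ ν ≫ X.hom) ⟶ Over.mk (ν ≫ X.hom) := Over.homMk V.ι rfl
  haveI : QuasiCompact jV.left :=
    MorphismProperty.of_isPullback (P := @QuasiCompact) (isPullback_morphismRestrict ν U) inferInstance
  haveI : QuasiCompact νo.left := inferInstanceAs (QuasiCompact ν)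
  haveI : IsDominant νo.left := ‹IsDominant ν›
  haveI : IsDominant jV.left := by
    refine (isDominant_iff _).2 ?_
    show DenseRange V.ι
    rw [DenseRange, Scheme.Opens.range_ι]
    obtain ⟨y, hy⟩ := hUne
    obtain ⟨y', rfl⟩ := hνs y
    exact V.2.dense ⟨y', hy⟩
  haveI : IsIntegral (Over.mk (ν ≫ X.hom)).left := inferInstanceAs (IsIntegral (Curv2.normalization X.left))
  haveI : IsSeparated (Over.mk (ν ≫ X.hom)).hom := inferInstanceAs (IsSeparated (ν ≫ X.hom))
  intro T g
  constructor
  · intro hg T' s y
    have key : (g ▷ Over.mk (ν ≫ X.hom)) ≫ b.act = snd T _ := by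
      refine ext_whisker k T jV _ _ ?_
      rw [whiskerLeft_snd]
      let p := (T ◁ jV) ≫ (g ▷ Over.mk (ν ≫ X.hom)) ≫ b.act
      have hp : p ≫ νo = snd T _ ≫ jV ≫ νo := by
        have h1 := hg (T ⊗ Over.mk (V.ι ≫ ν ≫ X.hom)) (fst _ _) (snd _ _ ≫ jV ≫ νo)
        have e : (T ◁ jV) ≫ (g ▷ Over.mk (ν ≫ X.hom)) = lift (fst _ _ ≫ g) (snd _ _ ≫ jV) := by
          apply hom_ext <;> simp
        have e2 : lift (fst T (Over.mk (V.ι ≫ ν ≫ X.hom)) ≫ g) ((snd _ _ ≫ jV) ≫ νo) ≫ a.act =
            (lift (fst _ _ ≫ g) (snd _ _ ≫ jV) ≫ b.act) ≫ νo := by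
          rw [← lift_whiskerLeft _ (snd _ _ ≫ jV) νo, Category.assoc, Category.assoc]
          exact congrArg (_ ≫ ·) hb
        simp only [p]
        rw [← Category.assoc (T ◁ jV), e, ← e2, Category.assoc (snd _ _)]
        exact h1
      have hmem : Set.range p.left ⊆ Set.range V.ι := by
        rintro _ ⟨z, rfl⟩
        rw [Scheme.Opens.range_ι]
        show ν (p.left z) ∈ U
        have := congrArg (fun φ : _ ⟶ X.left => φ z) (congrArg CommaMorphism.left hp)
        simp only [Over.comp_left] at this
        refine this ▸ ?_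
        exact ((snd T (Over.mk (V.ι ≫ ν ≫ X.hom))).left z).2
      let q := IsOpenImmersion.lift V.ι p.left hmem
      have hq : q ≫ V.ι = p.left := IsOpenImmersion.lift_fac _ _ _
      have : q = (snd T (Over.mk (V.ι ≫ ν ≫ X.hom))).left := by
        refine (cancel_mono (V.ι ≫ ν)).1 ((Category.assoc _ _ _).symm.trans ?_)
        rw [hq]
        exact congrArg CommaMorphism.left hp
      refine Over.OverMorphism.ext ?_
      show p.left = _
      rw [← hq, this]
      rfl
    rw [← lift_whiskerRight_assoc, key, lift_snd]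
  · intro hg T' s x
    have key : (g ▷ X) ≫ a.act = snd T _ := by
      refine ext_whisker k T νo _ _ ?_
      have h1 := hg (T ⊗ Over.mk (ν ≫ X.hom)) (fst _ _) (snd _ _)
      rw [whiskerLeft_snd, whisker_exchange_assoc, show (G ◁ νo) ≫ a.act = b.act ≫ νo from hb]
      conv_rhs => rw [← h1]
      rw [← Category.assoc]
      congr 2
    rw [← lift_whiskerRight_assoc, key, lift_snd]

end Groth.Agent.S14648
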