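import Groth.Statements.S1465
import Groth.Agent.PushFunLib.Main
-- import your own Groth.Agent.* helpers here

set_option autoImplicit false
universe u
open FlatMor

namespace Groth.Agent.S1465

open AlgebraicGeometry CategoryTheory Limits in
/-- Let i : Z → X be a closed immersion and j : Z → Y an integral morphism such that each fibre of j
lies in the preimage of an affine open of X. Let i' : Z' → X', j' : Z' → Y' and f : X' → X, g : Y' →
Y, h : Z' → Z form cartesian squares over i and j, with f, g, h separated and locally quasi-finite.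
Then the pushouts W of (i, j) and W' of (i', j') exist in the category of schemes, the induced W' →
W is separated and locally quasi-finite, and the squares comparing Y' → W', X' → W' with Y → W, X →
W are cartesian. -/
theorem result {X Y Z X' Y' Z' : Scheme.{u}}
    (i : Z ⟶ X) [IsClosedImmersion i] (j : Z ⟶ Y) [IsIntegralHom j]
    (h3 : ∀ y : Y, ∃ U : X.Opens, IsAffineOpen U ∧ j ⁻¹' {y} ⊆ (i ⁻¹ᵁ U : Set ↑Z))
    (i' : Z' ⟶ X') (j' : Z' ⟶ Y') (f : X' ⟶ X) (g : Y' ⟶ Y) (h : Z' ⟶ Z)
    (hX : IsPullback h i' i f) (hY : IsPullback h j' j g)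
    [IsSeparated f] [LocallyQuasiFinite f] [LocallyOfFiniteType f] [IsSeparated g] [LocallyQuasiFinite g] [LocallyOfFiniteType g]
    [IsSeparated h] [LocallyQuasiFinite h] [LocallyOfFiniteType h] :
    ∃ (W W' : Scheme.{u}) (a : Y ⟶ W) (b : X ⟶ W) (a' : Y' ⟶ W') (b' : X' ⟶ W') (k : W' ⟶ W),
      IsPushout j i a b ∧ IsPushout j' i' a' b' ∧ a' ≫ k = g ≫ a ∧ b' ≫ k = f ≫ b ∧
      IsSeparated k ∧ LocallyQuasiFinite k ∧ LocallyOfFiniteType k ∧ IsPullback g a' a k ∧ IsPullback f b' b k := by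
  haveI : IsClosedImmersion i' := MorphismProperty.of_isPullback hX (inferInstance : IsClosedImmersion i)
  haveI : IsIntegralHom j' := MorphismProperty.of_isPullback hY (inferInstance : IsIntegralHom j)
  have hn : ∀ y : Y, ∃ p : PushLib.Nice i j, y ∈ p.V := fun y => by
    obtain ⟨U, hU, hsub⟩ := h3 y
    obtain ⟨p, hp, -⟩ := PushLib.exists_nice i j y U hU fun z hz => hsub hz
    exact ⟨p, hp⟩
  have hn' : ∀ y : Y', ∃ p : PushLib.Nice i' j', y ∈ p.V := fun y => by
    obtain ⟨p, hp⟩ := hn (g y)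
    obtain ⟨q, hq, -⟩ := PushFun.exists_nice_lift p hX.w.symm hY.w.symm y hp
    exact ⟨q, hq⟩
  obtain ⟨π, h1, h2, h3, h4, h5, h6, h7⟩ := PushFun.exists_fun hX hY hn hn'
  exact ⟨_, _, PushLib.Nice.b hn, PushLib.Nice.a hn, PushLib.Nice.b hn', PushLib.Nice.a hn', π,
    (PushLib.Nice.isPushout hn).flip, (PushLib.Nice.isPushout hn').flip, h2, h1, h3, h4, h5, h7.flip, h6.flip⟩

end Groth.Agent.S1465
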