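import Groth.Statements.S14654
import Mathlib.AlgebraicGeometry.ProjectiveSpectrum.Basic
import Mathlib.RingTheory.IntegralClosure.IntegrallyClosed

set_option autoImplicit false
set_option backward.isDefEq.respectTransparency false
set_option backward.isDefEq.respectTransparency.types false
universe u
open FiltBl

namespace Groth.Agent.S14654

open AlgebraicGeometry in
/-- Let A be a Noetherian ℕ-graded commutative ring which is normal, i.e. every localization of A at a
prime ideal is an integrally closed domain. Then the scheme Proj A is normal: every local ring of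
Proj A is an integrally closed domain. -/
theorem result (A : Type u) [CommRing A] [IsNoetherianRing A]
    (𝒜 : ℕ → AddSubgroup A) [GradedRing 𝒜]
    (hA : ∀ (p : Ideal A) [p.IsPrime], IsDomain (Localization.AtPrime p) ∧
      IsIntegrallyClosed (Localization.AtPrime p))
    (x : Proj 𝒜) :
    IsDomain ((Proj 𝒜).presheaf.stalk x) ∧ IsIntegrallyClosed ((Proj 𝒜).presheaf.stalk x) := by
  classical
  let p := x.asHomogeneousIdeal.toIdeal
  haveI : p.IsPrime := x.isPrime
  let H := HomogeneousLocalization.AtPrime 𝒜 p
  let B := Localization.AtPrime p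
  obtain ⟨hdom, hic⟩ := hA p
  haveI := hdom
  haveI := hic
  let φ : H →+* B := algebraMap H B
  have hφ : Function.Injective φ := HomogeneousLocalization.val_injective _
  haveI : IsDomain H := hφ.isDomain φ
  have hH : IsIntegrallyClosed H := by
    let g : H →+* FractionRing B := (algebraMap B (FractionRing B)).comp φ
    have hg : Function.Injective g := (IsFractionRing.injective B (FractionRing B)).comp hφ
    refine (isIntegrallyClosed_iff (FractionRing H)).2 fun {z} hz => ?_
    obtain ⟨a, b, hb, rfl⟩ := IsFractionRing.div_surjective H z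
    let G : FractionRing H →+* FractionRing B := IsFractionRing.lift hg
    have hGa : ∀ t : H, G (algebraMap H (FractionRing H) t) = algebraMap B (FractionRing B) (φ t) := fun t =>
      IsFractionRing.lift_algebraMap hg t
    have hint : IsIntegral B (G (algebraMap H _ a / algebraMap H _ b)) := by
      obtain ⟨P, hP, hP0⟩ := hz
      refine ⟨P.map φ, hP.map φ, ?_⟩
      rw [Polynomial.eval₂_map, ← map_zero G, ← hP0, Polynomial.hom_eval₂]
      congr 1
      ext t
      exact (hGa t).symm
    obtain ⟨y, hy⟩ := IsIntegrallyClosed.isIntegral_iff.1 hint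
    have hb0 : φ b ≠ 0 := fun h => nonZeroDivisors.ne_zero hb (hφ (by rw [h, map_zero]))
    rw [map_div₀, hGa, hGa, eq_div_iff (fun h => hb0 (IsFractionRing.injective B (FractionRing B) (by rw [h, map_zero]))),
      ← map_mul] at hy
    have hy' : y * φ b = φ a := IsFractionRing.injective B (FractionRing B) hy
    obtain ⟨⟨da, ⟨na, hna⟩, ⟨ea, hea⟩, hea'⟩, rfl⟩ := HomogeneousLocalization.mk_surjective a
    obtain ⟨⟨db, ⟨nb, hnb⟩, ⟨eb, heb⟩, heb'⟩, rfl⟩ := HomogeneousLocalization.mk_surjective b
    obtain ⟨r, u, rfl⟩ : ∃ (r : A) (u : p.primeCompl), Localization.mk r u = y := by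
      obtain ⟨r, u, hru⟩ := IsLocalization.exists_mk'_eq p.primeCompl y
      exact ⟨r, u, by rw [Localization.mk_eq_mk']; exact hru⟩
    have hy2 : Localization.mk (r * nb) (u * ⟨eb, heb'⟩) = Localization.mk na (⟨ea, hea'⟩ : p.primeCompl) := by
      rw [← Localization.mk_mul]; exact hy'
    rw [Localization.mk_eq_mk_iff, Localization.r_iff_exists] at hy2
    obtain ⟨w, hw⟩ := hy2
    simp only [Submonoid.coe_mul] at hw
    let R' : A := (w : A) * r
    let U : A := (w : A) * u
    have hRU : R' * (nb * ea) = U * (na * eb) := by
      simp only [R', U]; linear_combination hw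
    have hU : U ∉ p := (p.primeCompl.mul_mem w.2 u.2)
    obtain ⟨j, hj⟩ : ∃ j, (DirectSum.decompose 𝒜 U j : A) ∉ p := by
      by_contra hcon
      push Not at hcon
      refine hU ?_
      rw [← DirectSum.sum_support_decompose 𝒜 U]
      exact p.sum_mem fun i _ => hcon i
    have hcomp := congrArg (fun t => (DirectSum.decompose 𝒜 t (j + (db + da)) : A)) hRU
    simp only at hcomp
    rw [DirectSum.coe_decompose_mul_add_of_right_mem 𝒜 (SetLike.mul_mem_graded hnb hea),
      show j + (db + da) = j + (da + db) by ring,
      DirectSum.coe_decompose_mul_add_of_right_mem 𝒜 (SetLike.mul_mem_graded hna heb)] at hcomp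
    let c : H := HomogeneousLocalization.mk ⟨j, DirectSum.decompose 𝒜 R' j, DirectSum.decompose 𝒜 U j, hj⟩
    refine ⟨c, ?_⟩
    rw [eq_div_iff (IsFractionRing.to_map_ne_zero_of_mem_nonZeroDivisors hb), ← map_mul]
    congr 1
    refine HomogeneousLocalization.val_injective _ ?_
    rw [HomogeneousLocalization.val_mul, HomogeneousLocalization.val_mk, HomogeneousLocalization.val_mk,
      HomogeneousLocalization.val_mk, Localization.mk_mul, Localization.mk_eq_mk_iff, Localization.r_iff_exists]
    exact ⟨1, by simp only [Submonoid.coe_mul, OneMemClass.coe_one, one_mul]; linear_combination hcomp⟩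
  haveI := hH
  let e := (AlgebraicGeometry.Proj.stalkIso 𝒜 x).commRingCatIsoToRingEquiv
  exact ⟨e.toMulEquiv.isDomain H, IsIntegrallyClosed.of_equiv e.symm⟩
end Groth.Agent.S14654
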