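import Groth.Statements.S14655
import Groth.Agent.VeroProjLib.ProjCM

set_option autoImplicit false
set_option backward.isDefEq.respectTransparency false
set_option backward.isDefEq.respectTransparency.types false
universe u
open FiltBl

namespace Groth.Agent.S14655

open AlgebraicGeometry in
/-- Let A be a Noetherian ℕ-graded commutative ring which is a Cohen–Macaulay ring. Then the scheme Proj
A is Cohen–Macaulay: every local ring of Proj A is a Cohen–Macaulay local ring. -/
theorem result (A : Type u) [CommRing A]
    (𝒜 : ℕ → AddSubgroup A) [GradedRing 𝒜] [LocCoh.IsCohenMacaulayRing A] (x : Proj 𝒜) :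
    LocCoh.IsCohenMacaulayLocalRing ((Proj 𝒜).presheaf.stalk x) := by
  classical
  let p := x.asHomogeneousIdeal.toIdeal
  haveI : p.IsPrime := x.isPrime
  obtain ⟨e, a, he, ha, hap⟩ : ∃ (e : ℕ) (a : A), 0 < e ∧ a ∈ 𝒜 e ∧ a ∉ p := by
    by_contra hcon
    push Not at hcon
    refine x.not_irrelevant_le fun y hy => ?_
    show y ∈ p
    rw [← DirectSum.sum_support_decompose 𝒜 y]
    refine p.sum_mem fun i _ => ?_
    rcases Nat.eq_zero_or_pos i with rfl | hi
    · have h0 : (DirectSum.decompose 𝒜 y 0 : A) = 0 := by
        have := (HomogeneousIdeal.mem_irrelevant_iff 𝒜 y).1 hy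
        rwa [GradedRing.proj_apply] at this
      rw [h0]; exact p.zero_mem
    · exact hcon i _ hi (SetLike.coe_mem _)
  haveI : IsNoetherianRing A := inferInstance
  haveI := LocCoh.IsCohenMacaulayRing.isCohenMacaulayLocalRing_localization (R := A) p
  haveI := VeroProjLib.isCM_atPrime 𝒜 p a ha hap x.asHomogeneousIdeal.isHomogeneous he
    (SMTLib.isCM_of_isCohenMacaulayLocalRing (Localization.AtPrime p))
  exact SMTLib.isCohenMacaulayLocalRing_of_ringEquiv
    (AlgebraicGeometry.Proj.stalkIso 𝒜 x).commRingCatIsoToRingEquiv.symm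
end Groth.Agent.S14655
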