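import Groth.Statements.S14656
import Mathlib
import Groth.Agent.ProjSerreLib.Basic


-- import your own Groth.Agent.* helpers here

set_option autoImplicit false
universe u
open FiltBl

namespace Groth.Agent.S14656

open AlgebraicGeometry in
/-- Let A be a Noetherian ℕ-graded commutative ring satisfying Serre's condition (S_1) (every
localization A_p has depth at least min(1, dim A_p)). Then every local ring of the scheme Proj A
satisfies (S_1). -/
theorem result (A : Type u) [CommRing A] [IsNoetherianRing A]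
    (𝒜 : ℕ → AddSubgroup A) [GradedRing 𝒜] (hA : LocCoh.HasSk 1 A A) (x : Proj 𝒜) :
    LocCoh.HasSk 1 ((Proj 𝒜).presheaf.stalk x) ((Proj 𝒜).presheaf.stalk x) := by
  classical
  have hA' : associatedPrimes A A ⊆ minimalPrimes A := by
    intro P hP
    haveI := hP.1
    obtain ⟨P', hP', hle⟩ := Ideal.exists_minimalPrimes_le (I := (⊥ : Ideal A)) (J := P) bot_le
    have h2 : P' ∈ associatedPrimes A A :=
      Module.associatedPrimes.minimalPrimes_annihilator_subset_associatedPrimes A A (by
        convert! hP'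
        exact Module.annihilator_eq_bot.2 inferInstance)
    rw [← SkEmbLib.eq_of_le_of_hasSk le_rfl hA h2 hP hle]
    exact hP'
  haveI := x.isPrime
  obtain ⟨d, hd, t, htd, htp⟩ : ∃ d, 0 < d ∧ ∃ t ∈ 𝒜 d, t ∉ x.asHomogeneousIdeal.toIdeal := by
    by_contra! h
    refine x.not_irrelevant_le fun z hz => ?_
    rw [← DirectSum.sum_support_decompose 𝒜 z]
    refine Ideal.sum_mem _ fun k _ => ?_
    rcases Nat.eq_zero_or_pos k with rfl | hk
    · rw [(HomogeneousIdeal.mem_irrelevant_iff 𝒜 z).1 hz |> fun h => (by simpa [GradedRing.proj_apply] using h : (DirectSum.decompose 𝒜 z 0 : A) = 0)]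
      exact zero_mem _
    · exact h k hk _ (DirectSum.decompose 𝒜 z k).2
  haveI := ProjSerreLib.isNoetherianRing 𝒜 x.asHomogeneousIdeal.toIdeal.primeCompl
  let e : (Proj 𝒜).presheaf.stalk x ≃+* HomogeneousLocalization.AtPrime 𝒜 x.asHomogeneousIdeal.toIdeal :=
    (AlgebraicGeometry.Proj.stalkIso 𝒜 x).commRingCatIsoToRingEquiv
  haveI : IsNoetherianRing ((Proj 𝒜).presheaf.stalk x) := isNoetherianRing_of_ringEquiv _ e.symm
  refine ProjSerreLib.hasSk_one _ fun q hq => ?_
  haveI := hq.1
  obtain ⟨-, a, ha⟩ := isAssociatedPrime_iff.1 (AssociatedPrimes.mem_iff.1 hq)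
  have hmin := ProjSerreLib.mem_minimalPrimes 𝒜 hA' _ hd htd htp (q.comap e.symm.toRingHom) (by
    rw [AssociatedPrimes.mem_iff, isAssociatedPrime_iff]
    refine ⟨inferInstance, e a, ?_⟩
    ext y
    simp only [Ideal.mem_comap, ha, Submodule.mem_colon_singleton, Submodule.mem_bot, smul_eq_mul]
    conv_rhs => rw [← map_eq_zero_iff e.symm e.symm.injective, map_mul, RingEquiv.symm_apply_apply]
    rfl)
  refine ⟨⟨inferInstance, bot_le⟩, fun q' hq' hle z hz => ?_⟩
  haveI := hq'.1
  have h3 := hmin.2 (y := q'.comap e.symm.toRingHom) ⟨inferInstance, bot_le⟩ (Ideal.comap_mono hle)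
    (show e z ∈ q.comap e.symm.toRingHom by simpa using hz)
  simpa using h3

end Groth.Agent.S14656
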