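import Groth.Statements.S14662
import Groth.Agent.HilbPtsLib.SymQuot

set_option backward.isDefEq.respectTransparency false
set_option backward.isDefEq.respectTransparency.types false

set_option autoImplicit false
universe u
open CategoryTheory CategoryTheory.Limits AlgebraicGeometry
open SymProd

namespace Groth.Agent.S14662

/-- Let S be a locally Noetherian scheme and f : C ⟶ S a proper morphism, smooth of relative dimension
1, such that every finite set of points of C lying over a single point of S is contained in an
affine open of C; let n ≥ 0 and let (Y, q, g) be an n-th symmetric power of C over S, i.e. q : C ×_S
⋯ ×_S C ⟶ Y (n factors) is a quotient by the symmetric group permuting the factors (affine,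
invariant, identifying sections of O_Y with invariant sections) and g : Y ⟶ S satisfies q ≫ g = the
structure map of the fibre power. Then g is proper and smooth. (The published statement is for a
flat projective family whose geometric fibres are connected regular curves, and concludes that the
symmetric power is proper and flat with regular geometric fibres; this row assumes only properness,
smoothness of relative dimension 1 and the affine-open property, which is what the proof uses, and
states regularity of the geometric fibres of the flat finite-type morphism g as smoothness.) -/
theorem result {C S Y : Scheme.{u}} [IsLocallyNoetherian S]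
    (f : C ⟶ S) [IsProper f] [SmoothOfRelativeDimension 1 f] (hAF : SymProd.IsAF f)
    (n : ℕ) (q : SymProd.fibPow f n ⟶ Y) (g : Y ⟶ S) (hq : SymProd.IsSymProd f n q g) :
    IsProper g ∧ Smooth g := by
  classical
  haveI : IsSeparated f := inferInstance
  have hrep := HilbPts.SC.representable_of_isAF f hAF
  obtain ⟨H, Z, hZ⟩ := hrep n
  obtain ⟨φ, hφ, hiso, hdeg, hI⟩ := HilbPts.SC.exists_iso f hrep hq hZ
  haveI := hiso
  haveI := HilbPts.SC.smooth_hom f hrep n H Z hZ
  haveI := HilbPts.SC.isProper_hom f hrep n H Z hZ
  rw [← hφ]
  exact ⟨inferInstance, inferInstance⟩

end Groth.Agent.S14662
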