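import Groth.Statements.S14664
import Groth.Agent.HilbPtsLib.SymQuot

set_option backward.isDefEq.respectTransparency false
set_option backward.isDefEq.respectTransparency.types false

set_option autoImplicit false
universe u
open CategoryTheory CategoryTheory.Limits AlgebraicGeometry
open SymProd

namespace Groth.Agent.S14664

/-- Let S be a locally Noetherian scheme and f : C ⟶ S a proper morphism, smooth of relative dimension
1, such that every finite set of points of C lying over a single point of S is contained in an
affine open of C; let n ≥ 0 and let (Y, q, g) be an n-th symmetric power of C over S (q : C ×_S ⋯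
×_S C ⟶ Y a quotient of the n-fold fibre power by the symmetric group permuting the factors: affine,
invariant, identifying sections of O_Y with invariant sections; q ≫ g = the structure map). Then Y,
viewed over S through g, represents the functor of effective relative Cartier divisors of degree n,
i.e. the Hilbert functor of n points of C over S: there is a closed subscheme D of C ×_S Y which is
finite locally free of degree n over Y and such that for every S-scheme T every closed subscheme of
C ×_S T that is finite locally free of degree n over T is the base change of D along exactly one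
S-morphism T ⟶ Y. (The published statement is for a flat projective family whose geometric fibres
are connected regular curves; this row assumes properness, smoothness of relative dimension 1 and
the affine-open property, which is what the proof uses. Existence of the universal divisor only; the
published statement names it as the descent of the sum of the n tautological sections.) -/
theorem result {C S Y : Scheme.{u}} [IsLocallyNoetherian S]
    (f : C ⟶ S) [IsProper f] [SmoothOfRelativeDimension 1 f] (hAF : SymProd.IsAF f)
    (n : ℕ) (q : SymProd.fibPow f n ⟶ Y) (g : Y ⟶ S) (hq : SymProd.IsSymProd f n q g) :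
    ∃ D : HilbD.Obj f n (Over.mk g), HilbD.IsUniversal f n (Over.mk g) D := by
  classical
  haveI : IsSeparated f := inferInstance
  have hrep := HilbPts.SC.representable_of_isAF f hAF
  obtain ⟨H, Z, hZ⟩ := hrep n
  obtain ⟨φ, hφ, hiso, hdeg, hI⟩ := HilbPts.SC.exists_iso f hrep hq hZ
  haveI := hiso
  refine ⟨⟨Z.1.comap (HilbPts.m f φ hφ), HilbPts.isFinLocFreeOfDeg_of_isPullback (HilbPts.isPullback_comap_m f φ hφ Z.1) Z.2⟩,
    fun T Z' => ?_⟩
  obtain ⟨u, hu, huu⟩ := hZ T Z'
  have hpull : ∀ v : T ⟶ Over.mk g, HilbD.pull f v (Z.1.comap (HilbPts.m f φ hφ)) =
      HilbD.pull f (v ≫ Over.homMk φ hφ : T ⟶ H) Z.1 := fun v => by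
    rw [HilbPts.pull_eq, HilbPts.pull_eq, ← Scheme.IdealSheafData.comap_comp]
    congr 1
    exact (HilbPts.m_comp f φ hφ v.left (Over.w v)).trans rfl
  refine ⟨Over.homMk (u.left ≫ inv φ) (by
    show (u.left ≫ inv φ) ≫ g = T.hom
    rw [← hφ, Category.assoc, IsIso.inv_hom_id_assoc, Over.w u]), ?_, fun v hv => ?_⟩
  · refine (hpull _).trans (Eq.trans ?_ hu)
    refine congrArg (fun w => HilbD.pull f w Z.1) (Over.OverMorphism.ext ?_)
    simp
  · ext
    have h := huu (v ≫ Over.homMk φ hφ) ((hpull v).symm.trans hv)
    show v.left = u.left ≫ inv φ
    rw [← h]
    simp

end Groth.Agent.S14664
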