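import Groth.Statements.S14665
import Groth.Agent.SymPowLib.Main

set_option backward.isDefEq.respectTransparency false
set_option backward.isDefEq.respectTransparency.types false

set_option autoImplicit false
universe u
open CategoryTheory CategoryTheory.Limits AlgebraicGeometry
open SymProd

namespace Groth.Agent.S14665

/-- Let f : X ⟶ S be a flat morphism such that every finite set of points of X lying over a single point
of S is contained in an affine open of X, let n ≥ 0 and let (Y, q, g) be an n-th symmetric power of
X over S (q : X ×_S ⋯ ×_S X ⟶ Y a quotient of the n-fold fibre power by the symmetric group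
permuting the factors: affine, invariant, identifying sections of O_Y with invariant sections; q ≫ g
= the structure map). Then the formation of the symmetric power commutes with arbitrary base change:
for any b : S' ⟶ S, with X' = X ×_S S' and f' its projection to S', let c be the morphism from the
n-fold fibre power of X' over S' to that of X over S whose components are the first projections X' ⟶
X and which lies over b, and let q' be the morphism from the fibre power of X' to Y ×_S S' with
components c ≫ q and the structure map to S'. Then q' together with the projection Y ×_S S' ⟶ S' is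
an n-th symmetric power of X' over S'. -/
theorem result {X S S' Y : Scheme.{u}} (f : X ⟶ S) [Flat f]
    (hAF : SymProd.IsAF f) (n : ℕ) (q : SymProd.fibPow f n ⟶ Y) (g : Y ⟶ S) (hq : SymProd.IsSymProd f n q g)
    (b : S' ⟶ S)
    (c : SymProd.fibPow (pullback.snd f b) n ⟶ SymProd.fibPow f n)
    (hcπ : ∀ i : Fin n, c ≫ WidePullback.π (fun _ => f) i = WidePullback.π (fun _ => pullback.snd f b) i ≫ pullback.fst f b)
    (hcb : c ≫ WidePullback.base (fun _ => f) = WidePullback.base (fun _ => pullback.snd f b) ≫ b)
    (q' : SymProd.fibPow (pullback.snd f b) n ⟶ pullback g b)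
    (hq'₁ : q' ≫ pullback.fst g b = c ≫ q)
    (hq'₂ : q' ≫ pullback.snd g b = WidePullback.base (fun _ => pullback.snd f b)) :
    SymProd.IsSymProd (pullback.snd f b) n q' (pullback.snd g b) := by
  have hpb := SymPowLib.isPullback_fibPow b c hcπ hcb
  have hperm : ∀ σ : Equiv.Perm (Fin n), permHom (pullback.snd f b) n σ ≫ c = c ≫ permHom f n σ := fun σ => by
    refine WidePullback.hom_ext _ _ _ (fun i => ?_) ?_
    · rw [Category.assoc, Category.assoc, hcπ, permHom_π_assoc, permHom_π, hcπ]
    · rw [Category.assoc, Category.assoc, hcb, permHom_base_assoc, permHom_base, hcb]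
  have hinv : ∀ σ : Equiv.Perm (Fin n), permHom (pullback.snd f b) n σ ≫ q' = q' := fun σ => by
    refine pullback.hom_ext ?_ ?_
    · have h := hq.isQuot.inv ⟨σ⟩
      rw [permActU_hom] at h
      rw [Category.assoc, hq'₁, ← Category.assoc, hperm, Category.assoc, h]
    · rw [Category.assoc, hq'₂, permHom_base]
  have hX : IsPullback c q' q (pullback.fst g b) := by
    refine IsPullback.of_bot ?_ hq'₁.symm (IsPullback.of_hasPullback g b)
    rw [hq'₂, hq.over]
    exact hpb
  refine ⟨SymPowLib.isQuot_baseChange hAF hq hX (IsPullback.of_hasPullback g b) _ (fun σ => ?_) (fun σ => ?_), hq'₂⟩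
  · rw [permActU_hom]; exact hperm σ.down
  · rw [permActU_hom]; exact hinv σ.down

end Groth.Agent.S14665
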