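import Groth.Statements.S14666
import Groth.Agent.H0Lib.Apply

set_option autoImplicit false
universe u
open CategoryTheory CategoryTheory.Limits AlgebraicGeometry
open AbSch

namespace Groth.Agent.S14666

/-- Let S be a locally Noetherian scheme, ξ : X ⟶ S a proper morphism all of whose geometric fibres are
integral and for which O_S ⟶ ξ_*O_X is an isomorphism (the map Γ(U, O_S) → Γ(ξ⁻¹U, O_X) is bijective
for every open U of S), v : Y ⟶ S an arbitrary S-scheme and f : X ⟶ Y a morphism over S. Let U be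
the set of points s of S such that f sends every point of the fibre ξ⁻¹(s) to one and the same point
of Y. Then U is open in S, and for every morphism τ : T ⟶ S the base change of f to T factors
through the projection X ×_S T ⟶ T — that is, there is r : T ⟶ Y with r ≫ v = τ and fst ≫ f = snd ≫
r on X ×_S T — if and only if τ maps every point of T into U. -/
theorem result {X Y S : Scheme.{u}} [IsLocallyNoetherian S]
    (ξ : X ⟶ S) [IsProper ξ] [GeometricallyIntegral ξ]
    (h0 : ∀ U : S.Opens, Function.Bijective (ξ.app U).hom)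
    (v : Y ⟶ S) (f : X ⟶ Y) (hf : f ≫ v = ξ) :
    IsOpen {s : ↥S | ∃ y : ↥Y, ∀ x : ↥X, ξ.base x = s → f.base x = y} ∧
    ∀ (T : Scheme.{u}) (τ : T ⟶ S),
      ((∃ r : T ⟶ Y, r ≫ v = τ ∧ pullback.fst ξ τ ≫ f = pullback.snd ξ τ ≫ r) ↔
        ∀ t : ↥T, τ.base t ∈ {s : ↥S | ∃ y : ↥Y, ∀ x : ↥X, ξ.base x = s → f.base x = y}) := by
  refine ⟨H0Lib.isOpen_collapse ξ f h0, fun T τ => ⟨?_, fun h => ?_⟩⟩
  · rintro ⟨r, -, hr⟩ t
    refine ⟨r.base t, fun x hx => ?_⟩
    obtain ⟨z, hz1, hz2⟩ := Scheme.Pullback.exists_preimage_pullback (f := ξ) (g := τ) x t hx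
    rw [← hz1, ← hz2]
    exact congrArg (fun m : pullback ξ τ ⟶ Y => m.base z) hr
  · let L : S.Opens := ⟨H0Lib.collapse ξ f, H0Lib.isOpen_collapse ξ f h0⟩
    obtain ⟨k, hk⟩ := H0Lib.exists_factor_on ξ f h0 L subset_rfl
    haveI : Surjective (ξ ∣_ L) := IsZariskiLocalAtTarget.restrict (inferInstance : Surjective ξ) L
    have hkv : k ≫ v = L.ι := by
      refine H0Lib.hom_ext_of_bijective (ξ ∣_ L) (H0Lib.bijective_restrict ξ h0 L) _ _ ?_
      rw [← Category.assoc, ← hk, Category.assoc, hf, morphismRestrict_ι]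
    have hr : Set.range τ.base ⊆ Set.range L.ι.base := by
      rintro _ ⟨t, rfl⟩
      rw [Scheme.Opens.range_ι]
      exact h t
    refine ⟨IsOpenImmersion.lift L.ι τ hr ≫ k, by rw [Category.assoc, hkv, IsOpenImmersion.lift_fac], ?_⟩
    have hr2 : Set.range (pullback.fst ξ τ).base ⊆ Set.range (ξ ⁻¹ᵁ L).ι.base := by
      rintro _ ⟨z, rfl⟩
      rw [Scheme.Opens.range_ι]
      show ξ.base ((pullback.fst ξ τ).base z) ∈ L
      rw [← Scheme.Hom.comp_apply, pullback.condition]
      exact h _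
    rw [← IsOpenImmersion.lift_fac (ξ ⁻¹ᵁ L).ι (pullback.fst ξ τ) hr2, Category.assoc, hk, ← Category.assoc,
      ← Category.assoc]
    congr 1
    rw [← cancel_mono L.ι, Category.assoc, morphismRestrict_ι, IsOpenImmersion.lift_fac_assoc, Category.assoc,
      IsOpenImmersion.lift_fac, pullback.condition]

end Groth.Agent.S14666
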