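import Groth.Statements.S1467
import Groth.Agent.WEtSHLib.Local
import Groth.Agent.S1412
-- import your own Groth.Agent.* helpers here

set_option autoImplicit false
set_option linter.style.haveILetI false
set_option backward.isDefEq.respectTransparency false
universe u
open FlatMor AlgebraicGeometry CategoryTheory Limits

namespace Groth.Agent.S1467

open AlgebraicGeometry CategoryTheory Limits in
/-- A morphism f : X → Y is weakly étale if and only if, for every point x of X, strict henselizations
of the local rings at f x and at x coincide under the stalk map: every strict henselization of O_{X,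
x} is, through the composite map O_{Y, f x} → O_{X, x} → (strict henselization), a strict
henselization of O_{Y, f x}. -/
theorem result {X Y : Scheme.{u}} (f : X ⟶ Y) :
    WeaklyEtale f ↔ ∀ (x : X) (R : Type u) [CommRing R] [IsLocalRing R] [Algebra ↑(X.presheaf.stalk x) R]
      [IsLocalHom (algebraMap ↑(X.presheaf.stalk x) R)] [Hensel.IsStrictHenselization ↑(X.presheaf.stalk x) R],
      letI : Algebra ↑(Y.presheaf.stalk (f x)) R := ((algebraMap ↑(X.presheaf.stalk x) R).comp (f.stalkMap x).hom).toAlgebra
      ∃ _ : IsLocalHom (algebraMap ↑(Y.presheaf.stalk (f x)) R), Hensel.IsStrictHenselization ↑(Y.presheaf.stalk (f x)) R := by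
  rw [Groth.Agent.S1412.result]
  constructor
  · intro h x R _ _ _ _ _
    letI : Algebra ↑(Y.presheaf.stalk (f x)) ↑(X.presheaf.stalk x) := (f.stalkMap x).hom.toAlgebra
    letI : Algebra ↑(Y.presheaf.stalk (f x)) R := ((algebraMap ↑(X.presheaf.stalk x) R).comp (f.stalkMap x).hom).toAlgebra
    haveI : IsScalarTower ↑(Y.presheaf.stalk (f x)) ↑(X.presheaf.stalk x) R := IsScalarTower.of_algebraMap_eq' rfl
    haveI hl : IsLocalHom (algebraMap ↑(Y.presheaf.stalk (f x)) R) :=
      RingHom.isLocalHom_comp (algebraMap ↑(X.presheaf.stalk x) R) (f.stalkMap x).hom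
    haveI : Algebra.WeaklyEtale ↑(Y.presheaf.stalk (f x)) ↑(X.presheaf.stalk x) := ⟨(h x).1, (h x).2⟩
    exact ⟨hl, Groth.Agent.WEtSHLib.isStrictHenselization_of_weaklyEtale _ ↑(X.presheaf.stalk x) R⟩
  · intro h x
    letI : Algebra ↑(Y.presheaf.stalk (f x)) ↑(X.presheaf.stalk x) := (f.stalkMap x).hom.toAlgebra
    let R := HenselLib.SH ↑(X.presheaf.stalk x)
    obtain ⟨hl, hS⟩ := h x R
    letI : Algebra ↑(Y.presheaf.stalk (f x)) R := ((algebraMap ↑(X.presheaf.stalk x) R).comp (f.stalkMap x).hom).toAlgebra
    haveI : IsScalarTower ↑(Y.presheaf.stalk (f x)) ↑(X.presheaf.stalk x) R := IsScalarTower.of_algebraMap_eq' rfl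
    haveI := hl
    haveI := hS
    have hW := Groth.Agent.WEtSHLib.weaklyEtale_of_isStrictHenselization ↑(Y.presheaf.stalk (f x)) ↑(X.presheaf.stalk x) R
    exact ⟨(RingHom.flat_algebraMap_iff.2 hW.flat : _), hW.flat_lmul'⟩

end Groth.Agent.S1467
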