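import Groth.Statements.S14674
import Groth.Agent.CubeConsLib.Hom

set_option autoImplicit false
universe u
open CategoryTheory CategoryTheory.Limits MonoidalCategory CartesianMonoidalCategory MonObj GrpObj AlgebraicGeometry
open AbSch

namespace Groth.Agent.S14674

/-- Let S be a locally Noetherian scheme, X an abelian scheme over S (an S-group scheme whose structure
morphism α is proper and flat with geometrically integral fibres) with unit section e : S ⟶ X, L an
invertible O_X-module and n an integer; write [n] for the n-th multiple of the identity in the group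
of S-endomorphisms of X. Then [n]^*L ⊗ α^*(e^*L)^{⊗ n²} is isomorphic to L^{⊗(n²+n)/2} ⊗
[-1]^*L^{⊗(n²−n)/2} ⊗ α^*e^*L; equivalently [n]^*L ≅ L^{⊗(n²+n)/2} ⊗ [-1]^*L^{⊗(n²−n)/2} ⊗
[0]^*L^{⊗(1−n²)} with [0]^*L = α^*e^*L (existence of an isomorphism of O_X-modules only). -/
theorem result {S : Scheme.{u}} [IsLocallyNoetherian S] (X : Over S) [GrpObj X] [IsProper X.hom] [Flat X.hom] [GeometricallyIntegral X.hom]
    (L : X.left.Modules) (hL : PicF.IsInvertible L) (n : ℤ) :
    Nonempty (CohB1.tensorMod ((Scheme.Modules.pullback (𝟙 X ^ n).left).obj L)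
        ((Scheme.Modules.pullback X.hom).obj (CohB1.tensorPow ((Scheme.Modules.pullback (η[X]).left).obj L) (n.natAbs ^ 2))) ≅
      CohB1.tensorMod (CohB1.tensorMod (CohB1.tensorPow L ((n ^ 2 + n) / 2).toNat)
          ((Scheme.Modules.pullback (𝟙 X ^ (-1 : ℤ)).left).obj (CohB1.tensorPow L ((n ^ 2 - n) / 2).toNat)))
        ((Scheme.Modules.pullback X.hom).obj ((Scheme.Modules.pullback (η[X]).left).obj L))) := by
  have : LocallyOfFinitePresentation X.hom := LocallyOfFinitePresentation.iff_locallyOfFiniteType.2 inferInstance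
  let e := CubeConsLib.clA (AmpleDevLib.isInvertible_pb η[X].left hL)
  have h := CubeConsLib.zpow_formula hL (𝟙 X) n
  have e0 : ((n.natAbs ^ 2 : ℕ) : ℤ) = n * n := by
    push_cast
    rw [sq, abs_mul_abs_self]
  have e1 : n * (n + 1) / 2 = (((n ^ 2 + n) / 2).toNat : ℤ) := by
    rw [show n ^ 2 + n = n * (n + 1) by ring]
    refine (Int.toNat_of_nonneg (Int.ediv_nonneg ?_ zero_le_two)).symm
    nlinarith
  have e2 : n * (n - 1) / 2 = (((n ^ 2 - n) / 2).toNat : ℤ) := by
    rw [show n ^ 2 - n = n * (n - 1) by ring]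
    refine (Int.toNat_of_nonneg (Int.ediv_nonneg ?_ zero_le_two)).symm
    rcases le_or_gt n 0 with hn | hn <;> nlinarith
  rw [e1, e2, natCast_zsmul, natCast_zsmul, sub_smul, one_smul, ← e0, natCast_zsmul, ← add_sub_assoc,
    eq_sub_iff_add_eq, CubeConsLib.P_one hL, CubeConsLib.pullA_clA η[X].left hL, ← map_nsmul (CubeConsLib.pullA X.hom),
    CubeConsLib.P_id, CubeConsLib.P_eq hL ((𝟙 X) ^ n),
    show (𝟙 X)⁻¹ = 𝟙 X ^ (-1 : ℤ) from (zpow_neg_one _).symm, CubeConsLib.P, ← map_nsmul,
    ← CubeConsLib.clA_pow (AmpleDevLib.isInvertible_pb η[X].left hL),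
    ← CubeConsLib.clA_pow hL, ← CubeConsLib.clA_pow hL, CubeConsLib.pullA_clA, CubeConsLib.pullA_clA,
    CubeConsLib.pullA_clA, ← CubeConsLib.clA_tensor, ← CubeConsLib.clA_tensor, ← CubeConsLib.clA_tensor,
    CubeConsLib.clA_eq_iff] at h
  exact h

end Groth.Agent.S14674
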