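import Groth.Statements.S14676
import Mathlib.RingTheory.AdicCompletion.Basic
import Mathlib.Algebra.Polynomial.Identities
import Mathlib.Algebra.Polynomial.Div
import Mathlib.RingTheory.Ideal.Quotient.Operations
-- import your own Groth.Agent.* helpers here

set_option autoImplicit false
universe u
open CAlg

namespace Groth.Agent.S14676

/-- Let A be a commutative ring which is separated and complete for the I-adic topology of an ideal I,
let P be any polynomial over A (not assumed monic) and a₀ an element of A such that P(a₀) lies in I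
and P'(a₀) is a unit modulo I. Then there is a unique a in A congruent to a₀ modulo I with P(a) = 0. -/
theorem result (A : Type u) [CommRing A] (I : Ideal A) [IsAdicComplete I A]
    (P : Polynomial A) (a₀ : A) (h₀ : P.eval a₀ ∈ I)
    (h₁ : IsUnit (Ideal.Quotient.mk I (P.derivative.eval a₀))) :
    ∃! a : A, a - a₀ ∈ I ∧ P.IsRoot a := by
  classical
  obtain ⟨q, hq⟩ := h₁.exists_left_inv
  obtain ⟨u, rfl⟩ := Ideal.Quotient.mk_surjective q
  rw [← map_mul, ← map_one (Ideal.Quotient.mk I), Ideal.Quotient.eq] at hq
  let s : ℕ → A := fun n => Nat.rec a₀ (fun _ a => a - u * P.eval a) n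
  have hP : ∀ n, P.eval (s n) ∈ I ^ (n + 1) ∧ s n - a₀ ∈ I := by
    intro n
    induction n with
    | zero => exact ⟨by simpa [s] using h₀, by simp [s]⟩
    | succ n ih =>
      obtain ⟨h1, h2⟩ := ih
      have hI : P.eval (s n) ∈ I := Ideal.pow_le_self (Nat.succ_ne_zero n) h1
      have hs : s (n + 1) = s n + -(u * P.eval (s n)) := (sub_eq_add_neg _ _)
      refine ⟨?_, ?_⟩
      · obtain ⟨k, hk⟩ := P.binomExpansion (s n) (-(u * P.eval (s n)))
        obtain ⟨l, hl⟩ := Polynomial.sub_dvd_eval_sub (s n) a₀ P.derivative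
        have hd : 1 - u * P.derivative.eval (s n) ∈ I := by
          have : 1 - u * P.derivative.eval (s n) =
              -(u * P.derivative.eval a₀ - 1) - u * ((s n - a₀) * l) := by rw [← hl]; ring
          rw [this]
          exact sub_mem (neg_mem hq) (Ideal.mul_mem_left _ _ (Ideal.mul_mem_right _ _ h2))
        rw [hs, hk, pow_succ]
        have : P.eval (s n) + P.derivative.eval (s n) * -(u * P.eval (s n)) + k * (-(u * P.eval (s n))) ^ 2 =
            P.eval (s n) * (1 - u * P.derivative.eval (s n) + k * u ^ 2 * P.eval (s n)) := by ring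
        rw [this]
        exact Ideal.mul_mem_mul h1 (add_mem hd (Ideal.mul_mem_left _ _ hI))
      · rw [hs, show s n + -(u * P.eval (s n)) - a₀ = (s n - a₀) - u * P.eval (s n) by ring]
        exact sub_mem h2 (Ideal.mul_mem_left _ _ hI)
  have hc : ∀ {m n : ℕ}, m ≤ n → s m ≡ s n [SMOD (I ^ m • ⊤ : Submodule A A)] := by
    intro m n hmn
    induction n, hmn using Nat.le_induction with
    | base => rfl
    | succ n hmn ih =>
      refine ih.trans ?_
      rw [SModEq.sub_mem, show s n - s (n + 1) = u * P.eval (s n) by simp [s]]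
      simpa using Ideal.mul_mem_left _ u (Ideal.pow_le_pow_right (by omega : m ≤ n + 1) (hP n).1)
  obtain ⟨a, ha⟩ := IsPrecomplete.prec (inferInstance : IsPrecomplete I A) hc
  have hsa : ∀ n, s n - a ∈ I ^ n := fun n => by simpa [SModEq.sub_mem] using ha n
  have haI : a - a₀ ∈ I := by
    have h := sub_mem (hP 1).2 ((pow_one I) ▸ hsa 1)
    simpa using h
  refine ⟨a, ⟨haI, ?_⟩, ?_⟩
  · refine IsHausdorff.haus (inferInstance : IsHausdorff I A) _ fun n => ?_
    rw [SModEq.sub_mem, sub_zero]
    obtain ⟨l, hl⟩ := Polynomial.sub_dvd_eval_sub a (s n) P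
    have : P.eval a = P.eval (s n) + (a - s n) * l := by rw [← hl]; ring
    rw [this]
    simpa using add_mem (Ideal.pow_le_pow_right (Nat.le_succ n) (hP n).1)
      (Ideal.mul_mem_right l _ (by simpa using neg_mem (hsa n)))
  · rintro b ⟨hbI, hb⟩
    have hba : b - a ∈ I := by simpa using sub_mem hbI haI
    obtain ⟨k, hk⟩ := P.binomExpansion a (b - a)
    have haroot : P.eval a = 0 := by
      refine IsHausdorff.haus (inferInstance : IsHausdorff I A) _ fun n => ?_
      rw [SModEq.sub_mem, sub_zero]
      obtain ⟨l, hl⟩ := Polynomial.sub_dvd_eval_sub a (s n) P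
      have : P.eval a = P.eval (s n) + (a - s n) * l := by rw [← hl]; ring
      rw [this]
      simpa using add_mem (Ideal.pow_le_pow_right (Nat.le_succ n) (hP n).1)
        (Ideal.mul_mem_right l _ (by simpa using neg_mem (hsa n)))
    rw [add_sub_cancel, hb.eq_zero, haroot, zero_add] at hk
    obtain ⟨l, hl⟩ := Polynomial.sub_dvd_eval_sub a a₀ P.derivative
    have hu : IsUnit (u * (P.derivative.eval a + k * (b - a))) := by
      have hmem : u * (P.derivative.eval a + k * (b - a)) - 1 ∈ I := by
        have : u * (P.derivative.eval a + k * (b - a)) - 1 =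
            (u * P.derivative.eval a₀ - 1) + u * ((a - a₀) * l) + u * k * (b - a) := by
          rw [← hl]; ring
        rw [this]
        exact add_mem (add_mem hq (Ideal.mul_mem_left _ _ (Ideal.mul_mem_right _ _ haI)))
          (Ideal.mul_mem_left _ _ hba)
      exact Ideal.isUnit_of_sub_one_mem_jacobson_bot _ (IsAdicComplete.le_jacobson_bot I hmem)
    have hz : u * (P.derivative.eval a + k * (b - a)) * (b - a) = 0 := by
      rw [mul_assoc, add_mul, mul_assoc, ← pow_two, ← hk, mul_zero]
    exact sub_eq_zero.mp (hu.mul_right_eq_zero.mp hz)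

end Groth.Agent.S14676
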