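import Groth.Statements.S14677
import Mathlib.RingTheory.AdicCompletion.Exactness
import Mathlib.RingTheory.AdicCompletion.Algebra
import Mathlib.RingTheory.Noetherian.Basic
import Mathlib.LinearAlgebra.Pi
-- import your own Groth.Agent.* helpers here

set_option autoImplicit false
universe u
open CAlg

namespace Groth.Agent.S14677

/-- Let A be a Noetherian commutative ring, I and J ideals of A and M a finitely generated A-module.
Then the map of I-adic completions induced by the inclusion of the submodule JM into M is injective
with image exactly J·M̂, where M̂ is the I-adic completion of M; that is, the completion of JM is J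
times the completion of M. (The published statement does not say that A is Noetherian; its proof
uses exactness of completion on finitely generated modules, which needs it, so this row assumes A
Noetherian.) -/
theorem result (A : Type u) [CommRing A] [IsNoetherianRing A] (I J : Ideal A)
    (M : Type u) [AddCommGroup M] [Module A M] [Module.Finite A M] :
    Function.Injective (AdicCompletion.map I (J • (⊤ : Submodule A M)).subtype) ∧
      LinearMap.range (AdicCompletion.map I (J • (⊤ : Submodule A M)).subtype) =
        (J.map (algebraMap A (AdicCompletion I A))) • (⊤ : Submodule (AdicCompletion I A) (AdicCompletion I M)) := by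
  classical
  refine ⟨AdicCompletion.map_injective I (Submodule.injective_subtype _), le_antisymm ?_ ?_⟩
  · obtain ⟨G, hG⟩ := IsNoetherian.noetherian J
    let Φ : (G → M) →ₗ[A] (J • (⊤ : Submodule A M) : Submodule A M) :=
      (∑ g : G, (g : A) • LinearMap.proj g).codRestrict _ (fun w => by
        simp only [LinearMap.sum_apply, LinearMap.smul_apply, LinearMap.proj_apply]
        exact Submodule.sum_mem _ fun g _ => Submodule.smul_mem_smul (hG ▸ Submodule.subset_span g.2) trivial)
    have hΦ : Function.Surjective Φ := by
      rintro ⟨y, hy⟩
      obtain ⟨w, hw⟩ : y ∈ LinearMap.range (∑ g : G, (g : A) • LinearMap.proj g : (G → M) →ₗ[A] M) := by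
        refine Submodule.smul_induction_on hy (fun r hr m _ => ?_) (fun a b ha hb => add_mem ha hb)
        rw [← hG] at hr
        induction hr using Submodule.span_induction with
        | mem x hx => exact ⟨Pi.single ⟨x, hx⟩ m, by simp [LinearMap.sum_apply, Pi.single_apply]⟩
        | zero => rw [zero_smul]; exact Submodule.zero_mem _
        | add a b _ _ ha hb => rw [add_smul]; exact add_mem ha hb
        | smul c a _ ha => rw [smul_eq_mul, mul_smul]; exact Submodule.smul_mem _ c ha
      exact ⟨w, Subtype.ext hw⟩
    rintro _ ⟨z, rfl⟩
    obtain ⟨w, rfl⟩ := AdicCompletion.map_surjective I hΦ z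
    rw [AdicCompletion.map_comp_apply, LinearMap.subtype_comp_codRestrict]
    have hadd : ∀ (s : Finset G), AdicCompletion.map I (∑ g ∈ s, (g : A) • LinearMap.proj g) w =
        ∑ g ∈ s, algebraMap A (AdicCompletion I A) (g : A) • AdicCompletion.map I (LinearMap.proj g) w := by
      intro s
      induction s using Finset.induction_on with
      | empty => simp [AdicCompletion.map_zero]
      | insert g s hg ih =>
        rw [Finset.sum_insert hg, Finset.sum_insert hg, ← ih, algebraMap_smul]
        refine AdicCompletion.ext fun n => ?_
        simp only [AdicCompletion.map_val_apply, AdicCompletion.val_add_apply, AdicCompletion.val_smul_apply]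
        obtain ⟨v, hv⟩ := Submodule.Quotient.mk_surjective _ (w.val n)
        rw [← hv]
        rfl
    rw [hadd]
    exact Submodule.sum_mem _ fun g _ => Submodule.smul_mem_smul
      (Ideal.mem_map_of_mem _ (hG ▸ Submodule.subset_span g.2)) trivial
  · refine Submodule.smul_le.mpr fun r hr z _ => ?_
    induction hr using Submodule.span_induction with
    | mem x hx =>
      obtain ⟨a, ha, rfl⟩ := hx
      let ψ : M →ₗ[A] (J • (⊤ : Submodule A M) : Submodule A M) :=
        (a • LinearMap.id).codRestrict _ fun m => Submodule.smul_mem_smul ha trivial
      refine ⟨AdicCompletion.map I ψ z, ?_⟩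
      rw [AdicCompletion.map_comp_apply, LinearMap.subtype_comp_codRestrict, algebraMap_smul]
      refine AdicCompletion.ext fun n => ?_
      simp only [AdicCompletion.map_val_apply, AdicCompletion.val_smul_apply]
      obtain ⟨v, hv⟩ := Submodule.Quotient.mk_surjective _ (z.val n)
      rw [← hv]
      rfl
    | zero => rw [zero_smul]; exact Submodule.zero_mem _
    | add a b _ _ ha hb => rw [add_smul]; exact add_mem ha hb
    | smul c a _ ha => rw [smul_eq_mul, mul_smul]; exact Submodule.smul_mem _ c ha

end Groth.Agent.S14677
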