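import Groth.Statements.S14679
import Mathlib.AlgebraicGeometry.ResidueField
import Mathlib.AlgebraicGeometry.PullbackCarrier
-- import your own Groth.Agent.* helpers here

set_option autoImplicit false
universe u
open CategoryTheory CategoryTheory.Limits AlgebraicGeometry
open EtBase

namespace Groth.Agent.S14679

/-- Given a morphism of schemes f : X ⟶ Y and a point x ∈ X with image y = f(x), such that the residue
field map κ(y) → κ(x) is bijective; let ℓ be an algebraic extension field of κ(y) and form the base
change X ×_Y Spec ℓ along Spec ℓ ⟶ Spec κ(y) ⟶ Y. Then there is exactly one point of X ×_Y Spec ℓ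
mapping to x under the first projection. (The published statement takes ℓ to be an algebraic closure
of κ(y), noting that any algebraic extension works, and also identifies the local ring at the point
with O_{X,x} ⊗_{O_{Y,y}} ℓ; this row allows any algebraic extension ℓ and states only the first
assertion.) -/
theorem result {X Y : Scheme.{u}} (f : X ⟶ Y) (x : ↥X)
    (hx : Function.Bijective (f.residueFieldMap x).hom)
    (ℓ : Type u) [Field ℓ] [Algebra (Y.residueField (f.base x)) ℓ] [Algebra.IsAlgebraic (Y.residueField (f.base x)) ℓ] :
    ∃! z : ↥(pullback f (Spec.map (CommRingCat.ofHom (algebraMap (Y.residueField (f.base x)) ℓ)) ≫ Y.fromSpecResidueField (f.base x))),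
      (pullback.fst f (Spec.map (CommRingCat.ofHom (algebraMap (Y.residueField (f.base x)) ℓ)) ≫ Y.fromSpecResidueField (f.base x))).base z = x := by
  let y := f.base x
  let r := Spec.map (CommRingCat.ofHom (algebraMap (Y.residueField (f.base x)) ℓ))
  let j := Y.fromSpecResidueField (f.base x)
  haveI : IsIso (f.residueFieldMap x) := (ConcreteCategory.isIso_iff_bijective _).2 hx
  let i := Spec.map (f.residueFieldMap x)
  have hij : i ≫ j = X.fromSpecResidueField x ≫ f := Scheme.Hom.SpecMap_residueFieldMap_fromSpecResidueField f x
  let s : Spec (CommRingCat.of ℓ) ⟶ pullback f (r ≫ j) :=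
    pullback.lift (r ≫ inv i ≫ X.fromSpecResidueField x) (𝟙 _) (by
      rw [Category.assoc, Category.assoc, ← hij, IsIso.inv_hom_id_assoc, Category.id_comp])
  refine ⟨s default, ?_, fun z hz => ?_⟩
  · show pullback.fst f (r ≫ j) (s default) = x
    rw [← Scheme.Hom.comp_apply, pullback.lift_fst, Scheme.Hom.comp_apply, Scheme.Hom.comp_apply]
    exact Scheme.fromSpecResidueField_apply _ _
  · let P := pullback f (r ≫ j)
    let Z := P.fromSpecResidueField z
    let b := Z ≫ pullback.snd f (r ≫ j)
    have key : ∀ w, (pullback.fst f (r ≫ j)) z = w →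
        ∃ a', Z ≫ pullback.fst f (r ≫ j) = a' ≫ X.fromSpecResidueField w := by
      rintro w rfl
      exact ⟨_, (Scheme.Hom.SpecMap_residueFieldMap_fromSpecResidueField _ z).symm⟩
    obtain ⟨a', ha'⟩ := key x hz
    have h1 : a' ≫ i = b ≫ r := by
      rw [← cancel_mono j, Category.assoc, Category.assoc, hij, ← Category.assoc, ← ha']
      simp only [b, Category.assoc, pullback.condition]
    have hZ : Z = b ≫ s := pullback.hom_ext
      (by
        rw [Category.assoc, pullback.lift_fst, ← Category.assoc b, ← h1, Category.assoc, IsIso.hom_inv_id_assoc, ha'])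
      (by rw [Category.assoc, pullback.lift_snd, Category.comp_id])
    have h2 := congr($hZ default)
    rw [Scheme.fromSpecResidueField_apply, Scheme.Hom.comp_apply] at h2
    rw [h2]
    exact congrArg s (Subsingleton.elim (α := PrimeSpectrum ℓ) _ _)


end Groth.Agent.S14679
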