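import Groth.Statements.S9250
import Groth.Agent.GeomRedFibLib.LocalPropInst
-- import your own Groth.Agent.* helpers here

set_option autoImplicit false
universe u
open CAlg

namespace Groth.Agent.S9250

/-- Let R → S be a regular ring map with S Noetherian and R regular. Then S is regular. -/
theorem result (R S : Type u) [CommRing R] [CommRing S] [Algebra R S]
    [IsRegularRing R] [IsNoetherianRing S] (h : CAlg.IsRegularHom R S) : IsRegularRing S := by
  haveI := h.1
  refine (GeomRedFibLib.isRegularRing_iff S).mpr (GeomRedFibLib.RingP.asc GeomRedFibLib.isFlatLocalProp_regular R S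
    ((GeomRedFibLib.isRegularRing_iff R).mp inferInstance) fun p _ ↦ ?_)
  haveI : IsNoetherianRing (p.Fiber S) := GeomRedFibLib.isNoetherianRing_fiber R S p
  have := (h.2 p).2 p.ResidueField inferInstance
  exact (GeomRedFibLib.isRegularRing_iff _).mp
    (IsRegularRing.of_ringEquiv (R := TensorProduct p.ResidueField p.ResidueField (p.Fiber S))
      (Algebra.TensorProduct.lid p.ResidueField (p.Fiber S)).toRingEquiv)

end Groth.Agent.S9250
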