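import Groth.Statements.S14680
import Mathlib.RingTheory.AdicCompletion.Exactness
import Mathlib.RingTheory.Filtration
import Mathlib.RingTheory.Nakayama
import Mathlib.RingTheory.Noetherian.Basic
-- import your own Groth.Agent.* helpers here

set_option autoImplicit false
universe u
open CAlg

namespace Groth.Agent.S14680

/-- Let A be a Noetherian commutative ring and f : M' → M, g : M → M'' linear maps between finitely
generated A-modules. Then the sequence 0 → M' → M → M'' → 0 is exact — f injective, the image of f
equal to the kernel of g, g surjective — if and only if for every maximal ideal m of A the sequence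
of m-adic completions 0 → M'^ → M^ → M''^ → 0 (maps induced by f and g) is exact in the same sense. -/
theorem result (A : Type u) [CommRing A] [IsNoetherianRing A]
    (M' M M'' : Type u) [AddCommGroup M'] [Module A M'] [AddCommGroup M] [Module A M] [AddCommGroup M''] [Module A M'']
    [Module.Finite A M'] [Module.Finite A M] [Module.Finite A M''] (f : M' →ₗ[A] M) (g : M →ₗ[A] M'') :
    (Function.Injective f ∧ Function.Exact f g ∧ Function.Surjective g) ↔
      ∀ (m : Ideal A) [m.IsMaximal],
        Function.Injective (AdicCompletion.map m f) ∧ Function.Exact (AdicCompletion.map m f) (AdicCompletion.map m g) ∧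
          Function.Surjective (AdicCompletion.map m g) := by
  constructor
  · rintro ⟨hf, hex, hg⟩ m _
    exact ⟨AdicCompletion.map_injective m hf, AdicCompletion.map_exact hf hex hg, AdicCompletion.map_surjective m hg⟩
  intro h
  have van : ∀ (X : Type u) [AddCommGroup X] [Module A X] [Module.Finite A X],
      (∀ (m : Ideal A) [m.IsMaximal], Subsingleton (AdicCompletion m X)) → Subsingleton X := by
    intro X _ _ _ hX
    refine (Module.annihilator_eq_top_iff (R := A)).mp ?_
    by_contra hne
    obtain ⟨m, hm, hle⟩ := Ideal.exists_le_maximal _ hne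
    haveI := hX m
    have hsm : (⊤ : Submodule A X) ≤ m • ⊤ := by
      intro x _
      have h1 : AdicCompletion.eval m X 1 (AdicCompletion.of m X x) = 0 := by
        rw [Subsingleton.elim (AdicCompletion.of m X x) 0, map_zero]
      rw [AdicCompletion.eval_of, Submodule.mkQ_apply, Submodule.Quotient.mk_eq_zero, pow_one] at h1
      exact h1
    obtain ⟨r, hr1, hr⟩ := Submodule.exists_sub_one_mem_and_smul_eq_zero_of_fg_of_le_smul m ⊤ Module.Finite.fg_top hsm
    have hra : r ∈ Module.annihilator A X := Module.mem_annihilator.mpr fun x => hr x trivial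
    exact hm.ne_top ((Ideal.eq_top_iff_one m).mpr (by simpa using m.sub_mem (hle hra) hr1))
  have hinj : Function.Injective f := by
    rw [← LinearMap.ker_eq_bot, ← Submodule.subsingleton_iff_eq_bot]
    refine van _ fun m _ => ?_
    have h0 : Function.Injective (AdicCompletion.map m (LinearMap.ker f).subtype) :=
      AdicCompletion.map_injective m (Submodule.injective_subtype _)
    refine subsingleton_of_forall_eq 0 fun x => h0 ((h m).1 ?_)
    rw [map_zero, map_zero, AdicCompletion.map_comp_apply]
    rw [show f ∘ₗ (LinearMap.ker f).subtype = 0 from LinearMap.ext fun y => y.2, AdicCompletion.map_zero, LinearMap.zero_apply]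
  have hsurj : Function.Surjective g := by
    rw [← LinearMap.range_eq_top, ← Submodule.Quotient.subsingleton_iff]
    refine van _ fun m _ => subsingleton_of_forall_eq 0 fun x => ?_
    obtain ⟨y, rfl⟩ := AdicCompletion.map_surjective m (Submodule.mkQ_surjective (LinearMap.range g)) x
    obtain ⟨z, rfl⟩ := (h m).2.2 y
    rw [AdicCompletion.map_comp_apply, show (LinearMap.range g).mkQ ∘ₗ g = 0 from LinearMap.range_mkQ_comp g,
      AdicCompletion.map_zero, LinearMap.zero_apply]
  have hgf : ∀ x, g (f x) = 0 := by
    intro x
    set z := g (f x) with hz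
    by_contra hne
    obtain ⟨m, hm, hle⟩ := Ideal.exists_le_maximal (Module.annihilator A (Submodule.span A {z})) (by
      rw [Ne, Module.annihilator_eq_top_iff, Submodule.subsingleton_iff_eq_bot, Submodule.span_singleton_eq_bot]
      exact hne)
    have h0 : AdicCompletion.of m M'' z = 0 := by
      have := (h m).2.1.apply_apply_eq_zero (AdicCompletion.of m M' x)
      rwa [AdicCompletion.map_of, AdicCompletion.map_of] at this
    have hmem : z ∈ (⨅ i : ℕ, m ^ i • (⊤ : Submodule A M'')) := by
      rw [Submodule.mem_iInf]
      intro i
      have h1 := congrArg (AdicCompletion.eval m M'' i) h0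
      rw [AdicCompletion.eval_of, map_zero, Submodule.mkQ_apply, Submodule.Quotient.mk_eq_zero] at h1
      exact h1
    obtain ⟨⟨r, hr⟩, hrz⟩ := (Ideal.mem_iInf_smul_pow_eq_bot_iff m z).mp hmem
    have hr1 : (1 - r) ∈ Module.annihilator A (Submodule.span A {z}) := by
      rw [Module.mem_annihilator]
      rintro ⟨w, hw⟩
      obtain ⟨a, rfl⟩ := Submodule.mem_span_singleton.mp hw
      refine Subtype.ext ?_
      show (1 - r) • a • z = 0
      rw [smul_comm, sub_smul, one_smul, show r • z = z from hrz, sub_self, smul_zero]
    exact hm.ne_top ((Ideal.eq_top_iff_one m).mpr (by simpa using m.add_mem (hle hr1) hr))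
  refine ⟨hinj, ?_, hsurj⟩
  let K := LinearMap.ker g
  let f' : M' →ₗ[A] K := f.codRestrict _ fun x => LinearMap.mem_ker.mpr (hgf x)
  have hH : Subsingleton (K ⧸ LinearMap.range f') := by
    refine van _ fun m _ => subsingleton_of_forall_eq 0 fun x => ?_
    obtain ⟨y, rfl⟩ := AdicCompletion.map_surjective m (Submodule.mkQ_surjective (LinearMap.range f')) x
    obtain ⟨w, hw⟩ := ((h m).2.1 (AdicCompletion.map m K.subtype y)).mp (by
      rw [AdicCompletion.map_comp_apply, show g ∘ₗ K.subtype = 0 from LinearMap.ext fun k => k.2,
        AdicCompletion.map_zero, LinearMap.zero_apply])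
    have hwy : AdicCompletion.map m f' w = y := AdicCompletion.map_injective m (Submodule.injective_subtype K) (by
      rw [AdicCompletion.map_comp_apply, LinearMap.subtype_comp_codRestrict]
      exact hw)
    rw [← hwy, AdicCompletion.map_comp_apply, LinearMap.range_mkQ_comp, AdicCompletion.map_zero, LinearMap.zero_apply]
  intro y
  refine ⟨fun hy => ?_, fun ⟨x, hx⟩ => hx ▸ hgf x⟩
  obtain ⟨x, hx⟩ : (⟨y, hy⟩ : K) ∈ LinearMap.range f' := by
    rw [Submodule.Quotient.subsingleton_iff.mp hH]; trivial
  exact ⟨x, congrArg Subtype.val hx⟩

end Groth.Agent.S14680
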