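import Groth.Statements.S14681
import Groth.Agent.AVAmpleLib.Stabilizer
import Groth.Agent.AVAmpleLib.CartierSection

set_option autoImplicit false
universe u
open CategoryTheory CategoryTheory.Limits MonoidalCategory CartesianMonoidalCategory MonObj GrpObj AlgebraicGeometry
open AbVar

namespace Groth.Agent.S14681

/-- (b) ⇒ (e): let k be an algebraically closed field, A an abelian variety over k (a proper k-group
scheme whose structure morphism is geometrically integral), D an effective Cartier divisor on A
given by its ideal sheaf I, and L an invertible O_A-module with L ⊗ I ≅ O_A (so L = O_A(D)). Suppose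
the set of k-points a of A whose translation x ↦ x·a maps each irreducible component of the support
of D onto itself is finite. Then L is ample. -/
theorem result (k : Type u) [Field k] [IsAlgClosed k]
    (A : Over (Spec (CommRingCat.of k))) [GrpObj A] [IsProper A.hom] [GeometricallyIntegral A.hom]
    (I : A.left.IdealSheafData) (hI : BlowUp.IsEffCartierIdeal I)
    (L : A.left.Modules) (hL : PicF.IsInvertible L) (hLI : ClSub.IsInverseOf L (ClSub.idealMod I))
    (hb : Set.Finite {a : (𝟙_ (Over (Spec (CommRingCat.of k)))) ⟶ A |
      ∀ Z ∈ irreducibleComponents ↥(I.support : Set ↥A.left),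
        (fun x : ↥A.left => (𝟙 A * (toUnit A ≫ a)).left.base x) '' (Subtype.val '' Z) = Subtype.val '' Z}) :
    CohB1.IsAmple L := by
  haveI : IsIntegral A.left := GeometricallyIntegral.isIntegral_of_subsingleton A.hom
  haveI : IsLocallyNoetherian A.left := LocallyOfFiniteType.isLocallyNoetherian A.hom
  haveI : CompactSpace A.left := QuasiCompact.compactSpace_of_compactSpace A.hom
  haveI : IsNoetherian A.left := ⟨⟩
  obtain ⟨σ, hσ⟩ := AVAmpleLib.exists_section hL hLI
  refine AVAmpleLib.isAmple_of_finite hL σ ?_ ((AVAmpleLib.finite_preserving (D := (I.support : Set A.left)) hb).subset fun c hc => ?_)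
  · rw [hσ]
    refine ⟨genericPoint A.left, fun h => ?_⟩
    obtain ⟨w, hw, hne⟩ := CurvLib.exists_generization_of_mem hI h
    exact hne (hw.antisymm ((genericPoint_spec A.left).specializes trivial)).eq
  · have h1 := congrArg (fun V : A.left.Opens => (V : Set A.left)) hc.2
    rw [TopologicalSpace.Opens.map_coe] at h1
    rw [hσ, Set.preimage_compl, compl_inj_iff] at h1
    exact h1

end Groth.Agent.S14681
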