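import Groth.Statements.S14682
import Groth.Agent.HilbPtsLib.SymQuot

set_option backward.isDefEq.respectTransparency false
set_option backward.isDefEq.respectTransparency.types false

set_option autoImplicit false
universe u
open CategoryTheory CategoryTheory.Limits AlgebraicGeometry
open SymProd

namespace Groth.Agent.S14682

/-- Let S be a locally Noetherian scheme and f : C ⟶ S a proper morphism, smooth of relative dimension
1, such that every finite set of points of C lying over a single point of S is contained in an
affine open of C; let n ≥ 0 and let (Y, q, g) be an n-th symmetric power of C over S (q : C ×_S ⋯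
×_S C ⟶ Y a quotient of the n-fold fibre power by the symmetric group permuting the factors: affine,
invariant, identifying sections of O_Y with invariant sections; q ≫ g = the structure map). On the
fibre product of the n-fold fibre power with C consider the divisor D̃ = sum of the graphs of the n
projections, i.e. the product of the kernel ideal sheaves of the n sections (id, p_i). Then there is
exactly one quasi-coherent ideal sheaf J on Y ×_S C whose inverse image along q × id is D̃, and the
closed subscheme of Y ×_S C defined by any such J is finite locally free of degree n over Y (an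
effective relative Cartier divisor of degree n). (The published statement is for a flat projective
family whose geometric fibres are connected regular curves; this row assumes properness, smoothness
of relative dimension 1 and the affine-open property, which is what the proof uses.) -/
theorem result {C S Y : Scheme.{u}} [IsLocallyNoetherian S]
    (f : C ⟶ S) [IsProper f] [SmoothOfRelativeDimension 1 f] (hAF : SymProd.IsAF f)
    (n : ℕ) (q : SymProd.fibPow f n ⟶ Y) (g : Y ⟶ S) (hq : SymProd.IsSymProd f n q g) :
    (∃! J : (pullback g f).IdealSheafData, J.comap (pullback.map (WidePullback.base fun _ : Fin n => f) f g f q (𝟙 C) (𝟙 S) ((Category.comp_id _).trans hq.over.symm) ((Category.comp_id f).trans (Category.id_comp f).symm)) = ∏ i : Fin n, (pullback.lift (𝟙 (SymProd.fibPow f n)) (WidePullback.π (fun _ : Fin n => f) i) ((Category.id_comp _).trans (WidePullback.π_arrow (fun _ : Fin n => f) i).symm) : SymProd.fibPow f n ⟶ pullback (WidePullback.base fun _ : Fin n => f) f).ker) ∧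
    ∀ J : (pullback g f).IdealSheafData, J.comap (pullback.map (WidePullback.base fun _ : Fin n => f) f g f q (𝟙 C) (𝟙 S) ((Category.comp_id _).trans hq.over.symm) ((Category.comp_id f).trans (Category.id_comp f).symm)) = ∏ i : Fin n, (pullback.lift (𝟙 (SymProd.fibPow f n)) (WidePullback.π (fun _ : Fin n => f) i) ((Category.id_comp _).trans (WidePullback.π_arrow (fun _ : Fin n => f) i).symm) : SymProd.fibPow f n ⟶ pullback (WidePullback.base fun _ : Fin n => f) f).ker →
      Mor2.IsFinLocFreeOfDeg n (J.subschemeι ≫ pullback.fst g f) := by
  classical
  haveI : IsSeparated f := inferInstance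
  have hrep := HilbPts.SC.representable_of_isAF f hAF
  obtain ⟨H, Z, hZ⟩ := hrep n
  obtain ⟨φ, hφ, hiso, hdeg, hI⟩ := HilbPts.SC.exists_iso f hrep hq hZ
  haveI := hiso
  let D : (pullback f g).IdealSheafData := Z.1.comap (HilbPts.m f φ hφ)
  have hD : Mor2.IsFinLocFreeOfDeg n (D.subschemeι ≫ pullback.snd f g) :=
    HilbPts.isFinLocFreeOfDeg_of_isPullback (HilbPts.isPullback_comap_m f φ hφ Z.1) Z.2
  let sY : pullback g f ⟶ pullback f g := (pullbackSymmetry g f).hom
  let sP : pullback (WidePullback.base fun _ : Fin n => f) f ⟶ pullback f (HilbPts.SC.fb f n) :=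
    (pullbackSymmetry _ f).hom
  let M := pullback.map (WidePullback.base fun _ : Fin n => f) f g f q (𝟙 C) (𝟙 S)
    ((Category.comp_id _).trans hq.over.symm) ((Category.comp_id f).trans (Category.id_comp f).symm)
  have hM : M ≫ sY = sP ≫ HilbPts.m f q hq.over :=
    pullback.hom_ext (by simp [M, sY, sP]) (by simp [M, sY, sP])
  have key : (D.comap sY).comap M = ∏ i : Fin n, (pullback.lift (𝟙 (SymProd.fibPow f n))
      (WidePullback.π (fun _ : Fin n => f) i)
      ((Category.id_comp _).trans (WidePullback.π_arrow (fun _ : Fin n => f) i).symm) :
        SymProd.fibPow f n ⟶ pullback (WidePullback.base fun _ : Fin n => f) f).ker := by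
    rw [← Scheme.IdealSheafData.comap_comp, hM, Scheme.IdealSheafData.comap_comp,
      ← Scheme.IdealSheafData.comap_comp _ (HilbPts.m f q hq.over), HilbPts.m_comp f φ hφ q hq.over,
      hI, HilbPts.SC.sumId, HilbPts.SC.comap_prod]
    refine Finset.prod_congr rfl fun i _ => ?_
    exact HilbPts.SC.comap_ker_of_isPullback sP
      (pullback.hom_ext (by simp [sP, HilbPts.SC.gr]) (by simp [sP, HilbPts.SC.gr]))
  have hpb : IsPullback M (pullback.fst _ f) (pullback.fst g f) q := by
    refine IsPullback.of_right ?_ (by simp [M]) (IsPullback.of_hasPullback g f).flip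
    rw [show M ≫ pullback.snd g f = pullback.snd _ f by simp [M], hq.over]
    exact (IsPullback.of_hasPullback _ f).flip
  obtain ⟨⟨hq1, hq2, hq3⟩, hq4⟩ := hdeg
  haveI := hq1
  haveI := hq2
  haveI : Surjective q := (Scheme.Hom.one_le_finrank_iff_surjective q).1 fun y => by
    show 1 ≤ q.finrank y
    rw [hq4]
    exact n.factorial_pos
  haveI : Flat M := MorphismProperty.of_isPullback (P := @Flat) hpb.flip hq2
  haveI : Surjective M := MorphismProperty.of_isPullback (P := @Surjective) hpb.flip inferInstance
  haveI : QuasiCompact M := MorphismProperty.of_isPullback (P := @QuasiCompact) hpb.flip inferInstance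
  have huniq : ∀ J : (pullback g f).IdealSheafData, J.comap M = (D.comap sY).comap M → J = D.comap sY :=
    fun J hJ => HilbPts.eq_of_comap_eq M hJ
  refine ⟨⟨D.comap sY, key, fun J hJ => huniq J (hJ.trans key.symm)⟩, fun J hJ => ?_⟩
  rw [huniq J (hJ.trans key.symm)]
  exact HilbPts.isFinLocFreeOfDeg_of_isPullback ((HilbPts.isPullback_comap D sY).paste_vert
    (IsPullback.of_horiz_isIso ⟨by simp [sY]⟩ : IsPullback sY (pullback.fst g f) (pullback.snd f g) (𝟙 Y))) hD

end Groth.Agent.S14682
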