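import Groth.Statements.S14695
import Groth.Agent.NormDescTorsLib.Section

set_option autoImplicit false
set_option backward.isDefEq.respectTransparency false
set_option backward.isDefEq.respectTransparency.types false
universe u
open CategoryTheory AlgebraicGeometry
open NonAbH1
open MonoidalCategory CartesianMonoidalCategory

namespace Groth.Agent.S14695

/-- In the case where the morphism Y → X is the identity of X: let X be a normal integral scheme
(integral, with every local ring an integrally closed domain), G and G' X-group schemes which are
finite and flat over X, and g : G → G' a homomorphism which becomes an isomorphism after base change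
to the spectrum of the function field of X. If an fppf G-torsor P over X becomes trivial after
extension of the structure group along g — there is an fppf G'-torsor P' over X with a g-equivariant
X-morphism P → P', and P' has a section over X — then P has a section over X. (The published
statement takes G, G' commutative and all schemes Noetherian, allows also composition with the
pull-back along a morphism Y → X admitting a rational section, and is phrased as injectivity of
H¹(X, G) → H¹(Y, G'_Y); this row is the case where Y → X is the identity of X, as the trivial-kernel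
assertion the argument establishes, for which commutativity and the Noetherian condition are not
needed.) -/
theorem result {X : Scheme.{u}} [IsIntegral X]
    (hX : Pi1.IsNormalScheme X) (G G' : Over X) [GrpObj G] [GrpObj G']
    [IsFinite G.hom] [Flat G.hom] [IsFinite G'.hom] [Flat G'.hom]
    (g : G ⟶ G') [IsMonHom g]
    (hg : IsIso ((Over.pullback (X.fromSpecStalk (genericPoint X))).map g))
    (P : Over X) (a : AlgGrp.Action G P) (hP : NonAbH1.IsTorsorFor Scheme.fppfPrecoverage a)
    (P' : Over X) (a' : AlgGrp.Action G' P') (hP' : NonAbH1.IsTorsorFor Scheme.fppfPrecoverage a')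
    (hpush : NonAbH1.IsPushforwardAlongSch g a a') (htriv : NonAbH1.HasSectionOver P' (𝟙 X)) :
    NonAbH1.HasSectionOver P (𝟙 X) := by
  haveI : IsFinite P.hom := (NormDescTorsLib.finite_flat_surjective a hP).1
  refine NormDescTorsLib.hasSectionOver_id_of_generic hX P ?_
  obtain ⟨f, hf⟩ := hpush
  let η₀ := X.fromSpecStalk (genericPoint X)
  let F := Over.pullback η₀
  haveI := hg
  have hfeq : AlgGrp.Action.IsEquivariant a (a'.restrict g) f := by
    unfold AlgGrp.Action.IsEquivariant
    rw [hf, AlgGrp.Action.restrict_act, ← Category.assoc]
    congr 1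
    apply CartesianMonoidalCategory.hom_ext <;> simp
  have h1 := AlgGrp.Action.isEquivariant_bc η₀ hfeq
  haveI : IsIso (lift (a'.bc η₀).act (snd (Red.bc η₀ G') (Red.bc η₀ P'))) := isPseudoTorsorSch_bc η₀ hP'.1
  haveI : IsIso ((F.map g) ▷ Red.bc η₀ P') := inferInstance
  have hps : IsPseudoTorsorSch ((a'.restrict g).bc η₀) := by
    rw [AlgGrp.Action.bc_restrict]
    have e : lift ((a'.bc η₀).restrict (F.map g)).act (snd (Red.bc η₀ G) (Red.bc η₀ P')) =
        ((F.map g) ▷ Red.bc η₀ P') ≫ lift (a'.bc η₀).act (snd (Red.bc η₀ G') (Red.bc η₀ P')) := by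
      rw [comp_lift, whiskerRight_snd, AlgGrp.Action.restrict_act]
    unfold IsPseudoTorsorSch
    rw [e]
    infer_instance
  obtain ⟨hb, R, hR, hsec⟩ := isTorsorFor_bc η₀ Scheme.fppfPrecoverage hP
  haveI : IsIso (F.map f) := Groth.Agent.TorsFpqc.isIso_of_equivariant _ _ hb hps
    ⟨R, Scheme.fppfPrecoverage_le_fpqcPrecoverage _ hR, hsec⟩ (F.map f) h1
  obtain ⟨σ, hσ⟩ := htriv
  let t : (Over.mk (𝟙 _) : Over (Spec (X.presheaf.stalk (genericPoint X)))) ⟶ Red.bc η₀ P' :=
    Over.homMk (Limits.pullback.lift (η₀ ≫ σ) (𝟙 _) (by rw [Category.assoc, hσ, Category.comp_id, Category.id_comp]))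
      (Limits.pullback.lift_snd _ _ _)
  refine ⟨(t ≫ inv (F.map f)).left ≫ Limits.pullback.fst P.hom η₀, ?_⟩
  rw [Category.assoc, Limits.pullback.condition, ← Category.assoc]
  have h2 : (t ≫ inv (F.map f)).left ≫ Limits.pullback.snd P.hom η₀ = 𝟙 _ := Over.w (t ≫ inv (F.map f))
  rw [h2]
  exact Category.id_comp _
end Groth.Agent.S14695
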