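import Groth.Statements.S14694
import Mathlib


set_option autoImplicit false
set_option linter.all false
universe u
open CategoryTheory AlgebraicGeometry
open SekSuwa

namespace Groth.Agent.S14694

open Polynomial

variable {R : Type u} [CommRing R] {lam : R} {N : ℕ} (h : DivCond lam N)

theorem coeff_spec {k : ℕ} (hk : 0 < k) :
    lam ^ N * (psiPoly lam N h).coeff k = lam ^ k * (Nat.choose N k : R) := by
  have h1 := congrArg (fun p => p.coeff k) (psiPoly_spec h)
  have h2 : (1 + C lam * X : R[X]) ^ N = ((X + 1) ^ N).comp (C lam * X) := by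
    simp [add_comm]
  simp only [coeff_C_mul, coeff_sub, coeff_one, if_neg hk.ne', sub_zero, h2, comp_C_mul_X_coeff,
    coeff_X_add_one_pow] at h1
  rw [h1, mul_comm]

theorem monic_psi (hN : 0 < N) : (psiPoly lam N h).Monic := by
  refine monic_of_natDegree_le_of_coeff_eq_one N (natDegree_le_iff_coeff_eq_zero.2 fun k hk => ?_) ?_
  · apply cancel_nzd h.pow_nzd
    rw [coeff_spec h (hN.trans hk), Nat.choose_eq_zero_of_lt hk, Nat.cast_zero, mul_zero, mul_zero]
  · apply cancel_nzd h.pow_nzd
    rw [coeff_spec h hN, Nat.choose_self, Nat.cast_one]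

theorem natDegree_psi [Nontrivial R] (hN : 0 < N) : (psiPoly lam N h).natDegree = N := by
  refine natDegree_eq_of_le_of_coeff_ne_zero (natDegree_le_iff_coeff_eq_zero.2 fun k hk => ?_) ?_
  · apply cancel_nzd h.pow_nzd
    rw [coeff_spec h (hN.trans hk), Nat.choose_eq_zero_of_lt hk, Nat.cast_zero, mul_zero, mul_zero]
  · have h1 : (psiPoly lam N h).coeff N = 1 := by
      apply cancel_nzd h.pow_nzd
      rw [coeff_spec h hN, Nat.choose_self, Nat.cast_one]
    rw [h1]; exact one_ne_zero

theorem root_rel (hN : 0 < N) :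
    (1 + lam • AdjoinRoot.root (psiPoly lam N h)) * (1 + lam • AdjoinRoot.root (psiPoly lam N h)) ^ (N - 1) = 1 := by
  rw [← pow_succ', show N - 1 + 1 = N by omega, Algebra.smul_def]
  have e := aeval_psiPoly h (AdjoinRoot.root (psiPoly lam N h))
  rw [AdjoinRoot.aeval_eq, AdjoinRoot.mk_self, mul_zero] at e
  exact sub_eq_zero.1 e.symm

noncomputable def toRoot (hN : 0 < N) : AK R lam N h →ₐ[R] AdjoinRoot (psiPoly lam N h) :=
  Ideal.Quotient.liftₐ (kerIdeal lam N h)
    (A.lift R lam (AdjoinRoot.root (psiPoly lam N h)) ((1 + lam • AdjoinRoot.root (psiPoly lam N h)) ^ (N - 1))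
      (root_rel h hN))
    (fun a ha => by
      obtain ⟨d, rfl⟩ := Ideal.mem_span_singleton'.1 ha
      rw [map_mul]
      refine mul_eq_zero_of_right _ ?_
      rw [kerGen, ← Polynomial.aeval_algHom_apply, A.lift_t]
      exact (AdjoinRoot.aeval_eq _).trans AdjoinRoot.mk_self)

noncomputable def ofRoot : AdjoinRoot (psiPoly lam N h) →ₐ[R] AK R lam N h :=
  AdjoinRoot.liftAlgHom _ (Algebra.ofId R _) AK.t AK.aeval_t

theorem toRoot_t (hN : 0 < N) : toRoot h hN AK.t = AdjoinRoot.root _ := A.lift_t _ _ (root_rel h hN)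

theorem toRoot_inv (hN : 0 < N) :
    toRoot h hN AK.inv = (1 + lam • AdjoinRoot.root (psiPoly lam N h)) ^ (N - 1) := A.lift_inv _ _ (root_rel h hN)

theorem ofRoot_root : ofRoot h (AdjoinRoot.root _) = AK.t := by
  unfold ofRoot; simp

noncomputable def equiv (hN : 0 < N) : AK R lam N h ≃ₐ[R] AdjoinRoot (psiPoly lam N h) :=
  AlgEquiv.ofAlgHom (toRoot h hN) (ofRoot h)
    (by
      apply AdjoinRoot.algHom_ext
      rw [AlgHom.comp_apply, ofRoot_root, toRoot_t]
      rfl)
    (by
      apply AK.algHom_ext
      · rw [AlgHom.comp_apply, toRoot_t, ofRoot_root]; rfl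
      · rw [AlgHom.comp_apply, toRoot_inv, map_pow, map_add, map_one, map_smul, ofRoot_root]
        show _ = AK.inv
        have e1 : (1 + lam • (AK.t : AK R lam N h)) * AK.inv = 1 := by
          have := congrArg (AK.mkHom R lam N h) (A.u_mul_inv (R := R) (lam := lam))
          rw [map_mul, map_one, A.u, map_add, map_one, map_smul] at this
          exact this
        calc (1 + lam • (AK.t : AK R lam N h)) ^ (N - 1)
            = (1 + lam • AK.t) ^ (N - 1) * ((1 + lam • AK.t) * AK.inv) := by rw [e1, mul_one]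
          _ = (1 + lam • AK.t) ^ (N - 1 + 1) * AK.inv := by rw [pow_succ, mul_assoc]
          _ = AK.inv := by rw [show N - 1 + 1 = N by omega, AK.u_pow, one_mul])


/-- For any commutative ring R, λ ∈ R and N ≥ 1 such that λ is a non-zero-divisor and λ^N divides (1 +
λX)^N − 1 in R[X] with quotient P_{λ,N}, the R-group scheme G_{λ,N}, defined as the closed subscheme
of the affine R-group G^(λ) = Spec R[T, 1/(1+λT)] cut out by P_{λ,N}(T), is finite locally free of
degree N over Spec R (its coordinate ring is R[T]/(P_{λ,N}(T)) with P_{λ,N} monic of degree N). (The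
published text states this over a discrete valuation ring with N = p^n: G_{λ,n} is a commutative
finite flat group scheme of rank p^n.) -/
theorem result (R : Type u) [CommRing R] (lam : R) (N : ℕ) (hN : 0 < N) (h : SekSuwa.DivCond lam N) :
    Mor2.IsFinLocFreeOfDeg N (SekSuwa.GK R lam N h).hom := by
  let P := psiPoly lam N h
  let e := equiv h hN
  haveI := (monic_psi h hN).finite_adjoinRoot
  haveI := (monic_psi h hN).free_adjoinRoot
  haveI : Module.Finite R (AK R lam N h) := Module.Finite.equiv e.toLinearEquiv.symm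
  haveI : Module.Free R (AK R lam N h) := Module.Free.of_equiv e.toLinearEquiv.symm
  haveI : Module.FinitePresentation R (AK R lam N h) := Module.finitePresentation_of_projective R _
  haveI : Algebra.FinitePresentation R (AK R lam N h) :=
    Algebra.FinitePresentation.of_finitePresentation R _
  have hh : (GK R lam N h).hom = Spec.map (CommRingCat.ofHom (algebraMap R (AK R lam N h))) := rfl
  rw [hh]
  refine ⟨⟨?_, ?_, ?_⟩, fun y => ?_⟩
  · exact (IsFinite.SpecMap_iff _).2 (RingHom.finite_algebraMap.2 inferInstance)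
  · exact (HasRingHomProperty.Spec_iff (P := @Flat)).2 (RingHom.flat_algebraMap_iff.2 inferInstance)
  · exact (HasRingHomProperty.Spec_iff (P := @LocallyOfFinitePresentation)).2 (RingHom.finitePresentation_algebraMap.2 inferInstance)
  haveI : Nontrivial R := ⟨⟨0, 1, fun e01 => y.isPrime.ne_top
    ((Ideal.eq_top_iff_one _).2 (e01 ▸ Submodule.zero_mem _))⟩⟩
  refine (Scheme.Hom.finrank_SpecMap_algebraMap R (AK R lam N h) y).trans ?_
  rw [Module.rankAtStalk_eq_finrank_of_free, Pi.natCast_def, e.toLinearEquiv.finrank_eq,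
    (AdjoinRoot.powerBasis' (monic_psi h hN)).finrank, AdjoinRoot.powerBasis'_dim, natDegree_psi h hN]
  rfl

end Groth.Agent.S14694
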