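import Groth.Statements.S14692
import Mathlib

set_option autoImplicit false
universe u
open CAlg

namespace Groth.Agent.S14692

lemma sub_pow_le (p v n : ℕ) (hp : 1 ≤ p) (hv : v ≤ n) :
    p ^ n - p ^ v ≤ (n - v) * (p ^ (n - 1) * (p - 1)) := by
  induction hv using Nat.decreasingInduction with
  | self => simp
  | of_succ k hk ih =>
    have h1 : p ^ n - p ^ k = (p ^ n - p ^ (k + 1)) + (p ^ (k + 1) - p ^ k) :=
      (Nat.sub_add_sub_cancel (Nat.pow_le_pow_right hp hk) (Nat.pow_le_pow_right hp (Nat.le_succ k))).symm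
    have h2 : p ^ (k + 1) - p ^ k = p ^ k * (p - 1) := by rw [pow_succ, Nat.mul_sub_one]
    have h3 : p ^ k * (p - 1) ≤ p ^ (n - 1) * (p - 1) :=
      Nat.mul_le_mul_right _ (Nat.pow_le_pow_right hp (by omega))
    rw [h1, show n - k = (n - (k + 1)) + 1 by omega, Nat.succ_mul, h2]
    exact Nat.add_le_add ih h3

lemma dvd_choose {R : Type*} [CommRing R] (ϖ : R) (p n J : ℕ) (hp : p.Prime)
    (hj : ϖ ^ (p ^ (n - 1) * (p - 1) * J) ∣ (p : R)) (i : ℕ) (hi : 0 < i) (hi' : i ≤ p ^ n) :
    ϖ ^ (J * (p ^ n - i)) ∣ (((p ^ n).choose i : ℕ) : R) := by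
  set v := i.factorization p
  have hvi : p ^ v ≤ i := Nat.le_of_dvd hi (Nat.ordProj_dvd i p)
  have hvn : v ≤ n := (Nat.pow_le_pow_iff_right hp.one_lt).1 (hvi.trans hi')
  have hdvd : (p : R) ^ (n - v) ∣ (((p ^ n).choose i : ℕ) : R) := by
    rw [← Nat.cast_pow]
    refine Nat.cast_dvd_cast ?_
    rw [← Nat.factorization_choose_prime_pow hp hi' hi.ne']
    exact Nat.ordProj_dvd _ p
  refine dvd_trans ?_ ((pow_dvd_pow_of_dvd hj _).trans hdvd)
  rw [← pow_mul]
  refine pow_dvd_pow _ ?_
  calc J * (p ^ n - i) ≤ J * (p ^ n - p ^ v) := Nat.mul_le_mul_left _ (Nat.sub_le_sub_left hvi _)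
    _ ≤ J * ((n - v) * (p ^ (n - 1) * (p - 1))) := Nat.mul_le_mul_left _ (sub_pow_le p v n hp.one_le hvn)
    _ = p ^ (n - 1) * (p - 1) * J * (n - v) := by ring

/-- The normalised binomial expansion. -/
lemma expansion {R B : Type*} [CommRing R] [CommRing B] [Algebra R B] (ϖ : R) (N J : ℕ) (hN : 0 < N)
    (q : ℕ → R) (hq : ∀ i, 0 < i → i ≤ N → ((N.choose i : ℕ) : R) = ϖ ^ (J * (N - i)) * q i) (w : B) :
    (1 + algebraMap R B ϖ ^ J * w) ^ N = 1 + algebraMap R B ϖ ^ (J * N) *
      (w ^ N + ∑ i ∈ Finset.range (N - 1), algebraMap R B (q (i + 1)) * w ^ (i + 1)) := by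
  rw [add_comm 1 (algebraMap R B ϖ ^ J * w), add_pow, Finset.sum_range_succ']
  simp only [one_pow, mul_one, pow_zero, one_mul, Nat.choose_zero_right, Nat.cast_one]
  rw [add_comm, mul_add, Finset.mul_sum]
  congr 1
  conv_lhs => rw [show N = (N - 1) + 1 by omega, Finset.sum_range_succ]
  rw [show N - 1 + 1 = N by omega, add_comm]
  congr 1
  · rw [Nat.choose_self, Nat.cast_one, mul_one, mul_pow, ← pow_mul]
  · refine Finset.sum_congr rfl fun i hi => ?_
    rw [Finset.mem_range] at hi
    rw [← map_natCast (algebraMap R B), hq (i + 1) (by omega) (by omega), map_mul, map_pow, mul_pow,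
      ← pow_mul]
    rw [show J * N = J * (i + 1) + J * (N - (i + 1)) by rw [← mul_add, Nat.add_sub_cancel' (by omega)],
      pow_add]
    ring

/-- Let R be a discrete valuation ring of characteristic zero and residue characteristic p, with
uniformizer π and a primitive p^n-th root of unity ζ (n ≥ 1), and A a Noetherian integrally closed
domain which is a faithfully flat R-algebra, in which πA is a prime ideal and every element that is
a unit modulo π is a unit (as when A is π-adically complete, or local). Let f, g be units of A, j a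
natural number with π^{p^{n−1}(p−1)(j+1)} dividing p (that is, j is less than the valuation of ζ −
1, so that the polynomials ((1 + π^{j}T)^{p^n} − 1)/π^{jp^n} and ((1 + π^{j+1}T)^{p^n} −
1)/π^{(j+1)p^n} have coefficients in R), and f₀ ∈ A with f·g^{p^n} = 1 + π^{j p^n}·f₀; suppose j is
maximal with this property: there is no unit g' of A with f·g'^{p^n} ≡ 1 modulo π^{(j+1)p^n}.
Suppose moreover that the algebra L = A[1/π][Z]/(Z^{p^n} − f) is an integral domain (the
μ_{p^n}-torsor Z^{p^n} = f is connected on the generic fibre) and that, B denoting the integral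
closure of A in L (the normalization of Spec A in that cover), the ideal πB is radical (the
normalization has reduced special fibre). Then f₀ is not congruent modulo πA to a p^n-th power. (The
published statement phrases the hypothesis on j as: the class of the torsor Z^{p^n} = f lies in
H¹(Spec A, G_{π^j,n}) and not in H¹(Spec A, G_{π^{j+1},n}); the conditions on g and g' are its
ring-theoretic form, which is the first assertion of the same lemma; A is there factorial and
π-adically complete, or normal local, which this row keeps only through the consequences used: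
integrally closed, and units lift modulo π.) -/
theorem result
    (R : Type u) [CommRing R] [IsDomain R] [IsDiscreteValuationRing R] [CharZero R]
    (p : ℕ) [Fact p.Prime] [CharP (IsLocalRing.ResidueField R) p] (ϖ : R) (hϖ : Irreducible ϖ)
    (n : ℕ) (hn : 0 < n) (ζ : R) (hζ : IsPrimitiveRoot ζ (p ^ n))
    (A : Type u) [CommRing A] [IsDomain A] [IsNoetherianRing A] [IsIntegrallyClosed A] [Algebra R A]
    [Module.FaithfullyFlat R A]
    (hprime : (Ideal.span {algebraMap R A ϖ}).IsPrime)
    (hlift : ∀ a : A, IsUnit (Ideal.Quotient.mk (Ideal.span {algebraMap R A ϖ}) a) → IsUnit a)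
    (f g : Aˣ) (j : ℕ) (hj : ϖ ^ (p ^ (n - 1) * (p - 1) * (j + 1)) ∣ (p : R)) (f₀ : A)
    (hfg : (f : A) * (g : A) ^ (p ^ n) = 1 + (algebraMap R A ϖ) ^ (j * p ^ n) * f₀)
    (hmax : ∀ (g' : Aˣ) (c : A), (f : A) * (g' : A) ^ (p ^ n) ≠ 1 + (algebraMap R A ϖ) ^ ((j + 1) * p ^ n) * c)
    [IsDomain (AdjoinRoot (Polynomial.X ^ (p ^ n) - Polynomial.C (algebraMap A (Localization.Away (algebraMap R A ϖ)) (f : A))))]
    (hred : (Ideal.span {algebraMap A (integralClosure A (AdjoinRoot (Polynomial.X ^ (p ^ n) - Polynomial.C (algebraMap A (Localization.Away (algebraMap R A ϖ)) (f : A))))) (algebraMap R A ϖ)}).IsRadical)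
    (g₀ : A) : f₀ - g₀ ^ (p ^ n) ∉ Ideal.span {(algebraMap R A ϖ)} := by
  classical
  intro hmem
  have hp : p.Prime := Fact.out
  set N := p ^ n with hNdef
  have hN : 0 < N := pow_pos hp.pos n
  set P := algebraMap R A ϖ with hP
  have hP0 : P ≠ 0 := fun h => hϖ.ne_zero
    ((map_eq_zero_iff _ (FaithfulSMul.algebraMap_injective R A)).1 h)
  set AP := Localization.Away P
  have hAP : Function.Injective (algebraMap A AP) :=
    IsLocalization.injective AP (Submonoid.powers_le.2 (mem_nonZeroDivisors_iff_ne_zero.2 hP0))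
  haveI : Nontrivial AP := hAP.nontrivial
  set F := Polynomial.X ^ N - Polynomial.C (algebraMap A AP (f : A))
  let L := AdjoinRoot F
  let B := integralClosure A L
  have hofinj : Function.Injective (AdjoinRoot.of F) := by
    rw [injective_iff_map_eq_zero]
    intro a ha
    by_contra ha0
    rw [← AdjoinRoot.mk_C, AdjoinRoot.mk_eq_zero] at ha
    exact (Polynomial.monic_X_pow_sub_C _ hN.ne').not_dvd_of_natDegree_lt
      (Polynomial.C_ne_zero.2 ha0)
      (by rw [Polynomial.natDegree_C, Polynomial.natDegree_X_pow_sub_C]; exact hN) ha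
  have hAL : ∀ a, algebraMap A L a = AdjoinRoot.of F (algebraMap A AP a) := fun a =>
    IsScalarTower.algebraMap_apply A AP L a
  set πL := algebraMap A L P with hπL
  have hπu : IsUnit πL := by
    rw [hπL, hAL]
    exact (IsLocalization.Away.algebraMap_isUnit P).map (AdjoinRoot.of F)
  set Z : L := AdjoinRoot.root F
  have hZ : Z ^ N = algebraMap A L (f : A) := by
    have := AdjoinRoot.eval₂_root F
    rw [Polynomial.eval₂_sub, Polynomial.eval₂_X_pow, Polynomial.eval₂_C, sub_eq_zero] at this
    rw [hAL]; exact this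
  -- coefficients
  have hcoef : ∀ i, 0 < i → i ≤ N → ∃ q : R, ((N.choose i : ℕ) : R) = ϖ ^ ((j + 1) * (N - i)) * q :=
    fun i hi hi' => dvd_choose ϖ p n (j + 1) hp hj i hi hi'
  choose! q hq using hcoef
  let qj : ℕ → R := fun i => ϖ ^ (N - i) * q i
  have hqj : ∀ i, 0 < i → i ≤ N → ((N.choose i : ℕ) : R) = ϖ ^ (j * (N - i)) * qj i := fun i hi hi' => by
    rw [hq i hi hi', ← mul_assoc, ← pow_add]; ring_nf
  have hRA : algebraMap R L ϖ = πL := IsScalarTower.algebraMap_apply R A L ϖ
  obtain ⟨r, hr⟩ := hπu.pow j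
  set w : L := (Z * algebraMap A L (g : A) - 1) * ↑r⁻¹ with hw
  have hwr : πL ^ j * w = Z * algebraMap A L (g : A) - 1 := by
    rw [hw, ← hr, mul_left_comm, Units.mul_inv, mul_one]
  have hexp := expansion (B := L) ϖ N j hN qj hqj w
  rw [hRA, hwr, add_sub_cancel, mul_pow, hZ, ← map_pow, ← map_mul, hfg, map_add, map_one, map_mul,
    map_pow, ← hπL, add_right_inj] at hexp
  have heq : algebraMap A L f₀ =
      w ^ N + ∑ i ∈ Finset.range (N - 1), algebraMap R L (qj (i + 1)) * w ^ (i + 1) :=
    (hπu.pow _).mul_left_cancel hexp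
  have hwint : IsIntegral A w := by
    refine ⟨Polynomial.X ^ N + (∑ i ∈ Finset.range (N - 1),
      Polynomial.C (algebraMap R A (qj (i + 1))) * Polynomial.X ^ (i + 1) - Polynomial.C f₀),
      Polynomial.monic_X_pow_add ?_, ?_⟩
    · refine (Polynomial.degree_sub_le _ _).trans_lt (max_lt ?_ ?_)
      · refine (Polynomial.degree_sum_le _ _).trans_lt ((Finset.sup_lt_iff (WithBot.bot_lt_coe N)).2 ?_)
        intro i hi
        rw [Finset.mem_range] at hi
        exact (Polynomial.degree_C_mul_X_pow_le _ _).trans_lt (Nat.cast_lt.2 (by omega : i + 1 < N))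
      · exact Polynomial.degree_C_le.trans_lt (by exact_mod_cast hN)
    · simp only [Polynomial.eval₂_add, Polynomial.eval₂_X_pow, Polynomial.eval₂_sub,
        Polynomial.eval₂_finsetSum, Polynomial.eval₂_mul, Polynomial.eval₂_C,
        ← IsScalarTower.algebraMap_apply R A L, heq]
      ring
  set W : B := ⟨w, hwint⟩
  set G0 : B := algebraMap A B g₀
  obtain ⟨e, he⟩ := Ideal.mem_span_singleton'.1 hmem
  have hπdvd : algebraMap A B P ∣ W ^ N - G0 ^ N := by
    refine ⟨algebraMap A B e - ∑ i ∈ Finset.range (N - 1),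
      algebraMap R B (ϖ ^ (N - (i + 1) - 1) * q (i + 1)) * W ^ (i + 1), Subtype.ext ?_⟩
    simp only [AddSubgroupClass.coe_sub, SubmonoidClass.coe_pow, MulMemClass.coe_mul, mul_sub,
      Finset.mul_sum, AddSubmonoidClass.coe_finsetSum, G0, W, Subalgebra.coe_algebraMap]
    rw [← map_mul, mul_comm P e, he, map_sub, map_pow, heq, add_sub_right_comm, add_sub_assoc]
    suffices h : ∑ i ∈ Finset.range (N - 1), algebraMap R L (qj (i + 1)) * w ^ (i + 1) =
        ∑ i ∈ Finset.range (N - 1), algebraMap A L P *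
          (algebraMap R L (ϖ ^ (N - (i + 1) - 1) * q (i + 1)) * w ^ (i + 1)) by
      rw [h]; ring
    refine Finset.sum_congr rfl fun i hi => ?_
    rw [Finset.mem_range] at hi
    rw [← hπL, ← hRA, ← mul_assoc, ← map_mul, ← mul_assoc, ← pow_succ',
      Nat.sub_add_cancel (by omega : 1 ≤ N - (i + 1))]
  -- the special fibre
  have hWG : algebraMap A B P ∣ W - G0 := by
    rw [← Ideal.mem_span_singleton]
    set Q := Ideal.span {algebraMap A B P}
    refine hred ⟨N, ?_⟩
    rw [← Ideal.Quotient.eq_zero_iff_mem, map_pow, map_sub]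
    have hpP : (p : B) ∈ Q := by
      rw [Ideal.mem_span_singleton, ← map_natCast (algebraMap R B) p,
        ← IsScalarTower.algebraMap_apply R A B]
      refine map_dvd _ ((dvd_pow_self ϖ ?_).trans hj)
      exact Nat.mul_ne_zero (Nat.mul_ne_zero (pow_ne_zero _ hp.ne_zero) (by have := hp.two_le; omega)) (by omega)
    rcases subsingleton_or_nontrivial (B ⧸ Q) with hs | hs
    · exact Subsingleton.elim _ _
    · haveI : ExpChar (B ⧸ Q) p := by
        haveI : CharP (B ⧸ Q) p := (CharP.charP_iff_prime_eq_zero hp).2 (by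
          rw [← map_natCast (Ideal.Quotient.mk Q), Ideal.Quotient.eq_zero_iff_mem]; exact hpP)
        exact ExpChar.prime hp
      rw [sub_pow_expChar_pow, ← map_pow, ← map_pow, ← map_sub, Ideal.Quotient.eq_zero_iff_mem]
      exact Ideal.mem_span_singleton.2 hπdvd
  obtain ⟨w₁, hw₁⟩ := hWG
  -- improved level
  set a : A := 1 + P ^ j * g₀
  have hau : IsUnit a := by
    refine hlift a ?_
    rcases Nat.eq_zero_or_pos j with rfl | hj0
    · have h1 : Ideal.Quotient.mk (Ideal.span {P}) f₀ = Ideal.Quotient.mk (Ideal.span {P}) (g₀ ^ N) :=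
        Ideal.Quotient.eq.2 hmem
      have h2 : IsUnit (Ideal.Quotient.mk (Ideal.span {P}) ((f : A) * (g : A) ^ N)) :=
        (f.isUnit.mul (g.isUnit.pow N)).map _
      rw [hfg, zero_mul, pow_zero, one_mul, map_add, map_one, h1, map_pow] at h2
      haveI : CharP (A ⧸ Ideal.span {P}) p := by
        haveI : Nontrivial (A ⧸ Ideal.span {P}) := Ideal.Quotient.nontrivial_iff.2 hprime.ne_top
        refine (CharP.charP_iff_prime_eq_zero hp).2 ?_
        rw [← map_natCast (Ideal.Quotient.mk (Ideal.span {P})), Ideal.Quotient.eq_zero_iff_mem,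
          Ideal.mem_span_singleton, ← map_natCast (algebraMap R A) p]
        refine map_dvd _ ((dvd_pow_self ϖ ?_).trans hj)
        exact Nat.mul_ne_zero (Nat.mul_ne_zero (pow_ne_zero _ hp.ne_zero) (by have := hp.two_le; omega)) (by omega)
      haveI : Nontrivial (A ⧸ Ideal.span {P}) := Ideal.Quotient.nontrivial_iff.2 hprime.ne_top
      haveI : ExpChar (A ⧸ Ideal.span {P}) p := ExpChar.prime hp
      rw [show (1 : A ⧸ Ideal.span {P}) = 1 ^ N by simp, ← add_pow_expChar_pow,
        isUnit_pow_iff hN.ne'] at h2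
      simpa [a] using h2
    · have : Ideal.Quotient.mk (Ideal.span {P}) a = 1 := by
        rw [← map_one (Ideal.Quotient.mk _), Ideal.Quotient.eq, Ideal.mem_span_singleton]
        simp only [a, add_sub_cancel_left]
        exact Dvd.dvd.mul_right (dvd_pow_self _ hj0.ne') _
      rw [this]; exact isUnit_one
  obtain ⟨u, hu⟩ := hau
  set g' : Aˣ := g * u⁻¹
  set w' : B := w₁ * algebraMap A B ((u⁻¹ : Aˣ) : A)
  have hw' : Z * algebraMap A L (g' : A) = 1 + πL ^ (j + 1) * (w' : L) := by
    have h1 : Z * algebraMap A L (g : A) = algebraMap A L a + πL ^ (j + 1) * (w₁ : L) := by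
      have h2 := congrArg (fun b : B => (b : L)) hw₁
      simp only [AddSubgroupClass.coe_sub, MulMemClass.coe_mul, W, G0, Subalgebra.coe_algebraMap,
        ← hπL] at h2
      simp only [a, map_add, map_one, map_mul, map_pow, ← hπL]
      linear_combination -hwr + πL ^ j * h2
    simp only [g', w', Units.val_mul, map_mul, MulMemClass.coe_mul, Subalgebra.coe_algebraMap]
    rw [← mul_assoc, h1, ← hu, add_mul, ← map_mul, Units.mul_inv, map_one]
    ring
  have hexp' := expansion (B := L) ϖ N (j + 1) hN q hq (w' : L)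
  rw [hRA, ← hw', mul_pow, hZ, ← map_pow, ← map_mul] at hexp'
  have hcint : IsIntegral A ((w' : L) ^ N +
      ∑ i ∈ Finset.range (N - 1), algebraMap R L (q (i + 1)) * (w' : L) ^ (i + 1)) :=
    (w'.2.pow N).add (IsIntegral.sum _ fun i _ => by
      rw [IsScalarTower.algebraMap_apply R A L]
      exact isIntegral_algebraMap.mul (w'.2.pow _))
  -- the new congruence is defined over `A`
  obtain ⟨s, hs⟩ := (IsLocalization.Away.algebraMap_isUnit (S := AP) P).pow ((j + 1) * N)
  set c₀ : AP := (algebraMap A AP ((f : A) * (g' : A) ^ N) - 1) * ↑s⁻¹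
  have hc₀ : algebraMap A AP ((f : A) * (g' : A) ^ N) = 1 + algebraMap A AP P ^ ((j + 1) * N) * c₀ := by
    simp only [c₀]
    rw [← hs, mul_left_comm, Units.mul_inv, mul_one, add_sub_cancel]
  have hc₀int : IsIntegral A c₀ := by
    refine (isIntegral_algHom_iff (IsScalarTower.toAlgHom A AP L) hofinj).1 ?_
    convert hcint using 1
    refine (hπu.pow ((j + 1) * N)).mul_left_cancel ?_
    have h3 := congrArg (AdjoinRoot.of F) hc₀
    rw [map_add, map_one, map_mul (AdjoinRoot.of F), map_pow (AdjoinRoot.of F), ← hAL, ← hAL, hexp',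
      ← hπL, add_right_inj] at h3
    exact h3.symm
  obtain ⟨c, hc⟩ : c₀ ∈ Set.range (algebraMap A AP) := by
    let φ : AP →ₐ[A] FractionRing A := IsLocalization.liftAlgHom (M := Submonoid.powers P)
      (f := Algebra.ofId A (FractionRing A)) (by
        rintro ⟨_, k, rfl⟩
        rw [map_pow]
        exact (isUnit_iff_ne_zero.2 (fun h => hP0 ((map_eq_zero_iff _
          (IsFractionRing.injective A (FractionRing A))).1 h))).pow k)
    obtain ⟨c, hc⟩ := IsIntegrallyClosed.isIntegral_iff.1 (hc₀int.map φ)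
    refine ⟨c, ?_⟩
    have hφ : Function.Injective φ := by
      rw [injective_iff_map_eq_zero]
      intro z hz
      obtain ⟨b, m, rfl⟩ := IsLocalization.exists_mk'_eq (Submonoid.powers P) z
      have h0 : algebraMap A (FractionRing A) b = 0 := by
        rw [← φ.commutes, ← IsLocalization.mk'_spec AP b m, map_mul, hz, zero_mul]
      rw [IsLocalization.mk'_eq_zero_iff]
      exact ⟨1, by rw [OneMemClass.coe_one, one_mul]; exact (map_eq_zero_iff _ (IsFractionRing.injective A _)).1 h0⟩
    exact hφ (by rw [φ.commutes, hc])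
  refine hmax g' c (hAP ?_)
  rw [hc₀, ← hc, map_add, map_one, map_mul, map_pow]

end Groth.Agent.S14692
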