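import Groth.Statements.S14693
import Mathlib


set_option autoImplicit false
set_option linter.all false
universe u
open CategoryTheory AlgebraicGeometry
open SekSuwa

namespace Groth.Agent.S14693

/-- For any commutative ring R, λ ∈ R and N such that λ is a non-zero-divisor and λ^N divides (1 + λX)^N
− 1 in R[X] with quotient P_{λ,N}, the closed subgroup scheme G_{λ,N} = Spec R[T]/(P_{λ,N}(T)) of
the affine R-group G^(λ) = Spec R[T, 1/(1+λT)] (group law s + t + λst) is the kernel of the
homomorphism ψ_{λ,N} : G^(λ) → G^(λ^N), T ↦ P_{λ,N}(T): the square with sides the inclusion G_{λ,N}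
→ G^(λ), ψ_{λ,N}, the unit section of G^(λ^N) and G_{λ,N} → Spec R is cartesian. (The published
text, over a discrete valuation ring and with N = p^n, introduces G_{λ,n} as the kernel of the
isogeny ψ_{λ,n}; this row is that assertion for every N, including the degenerate N = 0 where ψ is
trivial and G_{λ,0} = G^(λ).) -/
theorem result (R : Type u) [CommRing R] (lam : R) (N : ℕ) (h : SekSuwa.DivCond lam N) :
    AlgGrp.IsKernel (SekSuwa.incl R lam N h) (SekSuwa.psi R lam N h) := by
  let ψ : A R (lam ^ N) →+* A R lam := (psiHom R lam N h : A R (lam ^ N) →+* A R lam)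
  let ε : A R (lam ^ N) →+* R := (Bialgebra.counitBialgHom R (A R (lam ^ N)) : A R (lam ^ N) →+* R)
  let π : A R lam →+* AK R lam N h := (AK.mkHom R lam N h : A R lam →+* AK R lam N h)
  have hw : π.comp ψ = (algebraMap R (AK R lam N h)).comp ε := by
    exact congrArg (fun (f : A R (lam ^ N) →ₐc[R] AK R lam N h) => (f : A R (lam ^ N) →+* AK R lam N h))
      (mkHom_comp_psiHom R lam N h)
  have hψR : ψ.comp (algebraMap R _) = algebraMap R (A R lam) :=
    RingHom.ext fun r => (psiHom R lam N h : A R (lam ^ N) →ₐ[R] A R lam).commutes r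
  have hεR : ε.comp (algebraMap R _) = RingHom.id R :=
    RingHom.ext fun r => (Bialgebra.counitAlgHom R (A R (lam ^ N))).commutes r
  have hπ : Function.Surjective π := Ideal.Quotient.mk_surjective
  have hP : IsPushout (CommRingCat.ofHom ψ) (CommRingCat.ofHom ε) (CommRingCat.ofHom π)
      (CommRingCat.ofHom (algebraMap R (AK R lam N h))) := by
    have hc : CommRingCat.ofHom ψ ≫ CommRingCat.ofHom π =
        CommRingCat.ofHom ε ≫ CommRingCat.ofHom (algebraMap R (AK R lam N h)) := CommRingCat.hom_ext hw
    have key : ∀ s : Limits.PushoutCocone (CommRingCat.ofHom ψ) (CommRingCat.ofHom ε),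
        ∀ x ∈ kerIdeal lam N h, s.inl.hom x = 0 := by
      intro s x hx
      obtain ⟨d, rfl⟩ := Ideal.mem_span_singleton'.1 hx
      rw [map_mul]
      refine mul_eq_zero_of_right _ ?_
      have h1 : s.inl.hom (ψ A.t) = s.inr.hom (ε A.t) :=
        DFunLike.congr_fun (congrArg CommRingCat.Hom.hom s.condition) A.t
      rw [show ψ A.t = kerGen lam N h from psiHom_t R lam N h, show ε A.t = 0 from A.counit_t, map_zero] at h1
      exact h1
    refine ⟨⟨hc⟩, ⟨Limits.PushoutCocone.IsColimit.mk hc
      (fun s => CommRingCat.ofHom (Ideal.Quotient.lift (kerIdeal lam N h) s.inl.hom (key s))) (fun s => ?_)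
      (fun s => ?_) (fun s m hm _ => ?_)⟩⟩
    · exact CommRingCat.hom_ext (RingHom.ext fun x => rfl)
    · refine CommRingCat.hom_ext (RingHom.ext fun r => ?_)
      show s.inl.hom (algebraMap R (A R lam) r) = s.inr.hom r
      have h1 : s.inl.hom (ψ (algebraMap R _ r)) = s.inr.hom (ε (algebraMap R _ r)) :=
        DFunLike.congr_fun (congrArg CommRingCat.Hom.hom s.condition) (algebraMap R _ r)
      rw [show ψ (algebraMap R _ r) = algebraMap R (A R lam) r from DFunLike.congr_fun hψR r,
        show ε (algebraMap R _ r) = r from DFunLike.congr_fun hεR r] at h1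
      exact h1
    · refine CommRingCat.hom_ext (RingHom.ext fun x => ?_)
      obtain ⟨y, rfl⟩ := hπ x
      exact DFunLike.congr_fun (congrArg CommRingCat.Hom.hom hm) y
  have hS := isPullback_SpecMap_of_isPushout _ _ _ _ hP
  have hu : (CartesianMonoidalCategory.toUnit (GK R lam N h)).left =
      Spec.map (CommRingCat.ofHom (algebraMap R (AK R lam N h))) := by
    rw [← Category.comp_id (CartesianMonoidalCategory.toUnit (GK R lam N h)).left]
    exact Over.w (CartesianMonoidalCategory.toUnit (GK R lam N h))
  show IsPullback _ _ _ _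
  refine IsPullback.of_map (Over.forget _) ?_ ?_
  · rw [incl_psi]; rfl
  · show IsPullback (incl R lam N h).left (CartesianMonoidalCategory.toUnit (GK R lam N h)).left
      (psi R lam N h).left (MonObj.one (X := G R (lam ^ N))).left
    rw [hu]
    exact hS

end Groth.Agent.S14693
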