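import Groth.Statements.S7187
import Groth.Agent.S1443
import Groth.Agent.S1444
import Groth.Agent.ThickTrivLib.Main
import Groth.Agent.AlgzCohLib.Basic
import Groth.Agent.CohCmpLib.NearFibre
import Groth.Agent.CohBCLib.Global
import Groth.Agent.FibDimLib.FieldExt
import Groth.Agent.RpushLib.AffBaseBC
import Groth.Agent.CohCmpLib.PicApps
import Groth.Agent.SeesawLib.Pulled
import Groth.Agent.DCohRestrLib.Iso
import Groth.Agent.HdgLefLib.Main

set_option autoImplicit false
set_option backward.isDefEq.respectTransparency false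
set_option backward.isDefEq.respectTransparency.types false
set_option maxHeartbeats 1000000
universe u
open FlatMor

namespace Groth.Agent.S7187

open AlgebraicGeometry CategoryTheory Limits
section Helpers

open TopologicalSpace Opposite
open AmpleLib (GenOn GenAt)
open KFlatLib (pb puSec)
open PicAlgzLib (incl)
open QCohLib (toAbF)

section Lift

theorem hMap_comp {X : Scheme.{u}} {M N P : X.Modules} (α : M ⟶ N) (β : N ⟶ P) {n : ℕ} (x : Coh.HH X M n) :
    Sheaf.H.map ((toAbF X).map (α ≫ β)) n x =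
      Sheaf.H.map ((toAbF X).map β) n (Sheaf.H.map ((toAbF X).map α) n x) := by
  apply (QCohLib.hEquiv ((toAbF X).obj P) n).injective
  rw [QCohLib.hEquiv_map, QCohLib.hEquiv_map, QCohLib.hEquiv_map, Functor.map_comp,
    Abelian.Ext.comp_assoc_of_second_deg_zero, Abelian.Ext.mk₀_comp_mk₀]

theorem hMap_add {X : Scheme.{u}} {M N : X.Modules} (α β : M ⟶ N) {n : ℕ} (x : Coh.HH X M n) :
    Sheaf.H.map ((toAbF X).map (α + β)) n x =
      Sheaf.H.map ((toAbF X).map α) n x + Sheaf.H.map ((toAbF X).map β) n x := by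
  apply (QCohLib.hEquiv ((toAbF X).obj N) n).injective
  rw [map_add, QCohLib.hEquiv_map, QCohLib.hEquiv_map, QCohLib.hEquiv_map, Functor.map_add,
    Abelian.Ext.mk₀_add, Abelian.Ext.comp_add]

variable {A : Type u} [CommRing A] [IsNoetherianRing A] {X : Scheme.{u}} [X.Over (Spec (CommRingCat.of A))]
  [IsProper (X ↘ Spec (CommRingCat.of A))]

/-- With small fibres without `H¹`, sections lift from the fibre over a maximal ideal. -/
theorem exists_lift_modPow
    (hdim : ∀ y : Spec (CommRingCat.of A), topologicalKrullDim ↥((X ↘ Spec (CommRingCat.of A)).fiber y) ≤ 1)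
    (hH1 : ∀ y : Spec (CommRingCat.of A), Subsingleton (Coh.HH ((X ↘ Spec (CommRingCat.of A)).fiber y)
      (Coh.structureModule ((X ↘ Spec (CommRingCat.of A)).fiber y)) 1))
    (m : Ideal A) (hm : m.IsMaximal) (L : X.Modules) (hL : Coh.IsCoh L)
    (e : Coh.structureModule X ⟶ Formal.modPow m 1 L) [Epi e] (σ : Γ(Formal.modPow m 1 L, ⊤)) :
    ∃ s : Γ(L, ⊤), (Formal.modPowπ m 1 L).app ⊤ s = σ := by
  haveI : Coh.IsQCoh L := hL.1
  let g := X ↘ Spec (CommRingCat.of A)
  let π := Formal.modPowπ m 1 L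
  let Q := Formal.modPow m 1 L
  haveI : Coh.IsQCoh Q := FormalLib.isQCoh_modPow L m 1
  haveI : Coh.IsQCoh (kernel π) := QCohLib.isQCoh_kernel π
  let T := ShortComplex.mk _ _ (kernel.condition π)
  have hT : T.ShortExact :=
    { exact := ShortComplex.exact_of_f_is_kernel _ (kernelIsKernel π)
      mono_f := inferInstanceAs (Mono (kernel.ι π))
      epi_g := inferInstanceAs (Epi π) }
  have hS := QCohLib.toAbF_shortExact hT
  have hQ1 : Subsingleton (Coh.HH X Q 1) := by
    haveI : Epi (Sigma.desc fun _ : PUnit.{u + 1} => e) :=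
      epi_of_epi_fac (Sigma.ι_desc (fun _ : PUnit.{u + 1} => e) PUnit.unit)
    exact Groth.Agent.S1444.result g hdim hH1 Q inferInstance _ (Sigma.desc fun _ : PUnit.{u + 1} => e)
  obtain ⟨r, _, a, ha, w, hex⟩ := FormalLib.exists_finite_presentation L m 1
  let φ := biproduct.desc (fun k : r => Formal.smulMod A L (a k))
  let q : (⨁ fun _ : r => L) ⟶ kernel π := kernel.lift π φ w
  haveI : Epi q := (ShortComplex.exact_iff_epi_kernel_lift _).1 hex
  haveI : Coh.IsQCoh (⨁ fun _ : r => L) :=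
    @QCohLib.isQCoh_of_iso _ _ _ (biproduct.isoCoproduct _).symm (QCohLib.isQCoh_sigma _ fun _ => inferInstance)
  haveI : Coh.IsQCoh (kernel q) := QCohLib.isQCoh_kernel q
  let T' := ShortComplex.mk _ _ (kernel.condition q)
  have hT' : T'.ShortExact :=
    { exact := ShortComplex.exact_of_f_is_kernel _ (kernelIsKernel q)
      mono_f := inferInstanceAs (Mono (kernel.ι q))
      epi_g := inferInstanceAs (Epi q) }
  have hS' := QCohLib.toAbF_shortExact hT'
  haveI hK2 : Subsingleton (Coh.HH X (kernel q) 2) :=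
    Groth.Agent.S1443.result g hdim hH1 (kernel q) inferInstance 2 le_rfl
  let Hm : ∀ {M N : X.Modules}, (M ⟶ N) → Coh.HH X M 1 →+ Coh.HH X N 1 := fun φ =>
    Sheaf.H.map ((toAbF X).map φ) 1
  have Hm_comp : ∀ {M N P : X.Modules} (α : M ⟶ N) (β : N ⟶ P) (x : Coh.HH X M 1),
      Hm (α ≫ β) x = Hm β (Hm α x) := fun α β x => hMap_comp α β x
  have Hm_add : ∀ {M N : X.Modules} (α β : M ⟶ N) (x : Coh.HH X M 1),
      Hm (α + β) x = Hm α x + Hm β x := fun α β x => hMap_add α β x
  have hsurjq : ∀ x : Coh.HH X (kernel π) 1, ∃ y : r → Coh.HH X L 1,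
      x = ∑ k, Hm (biproduct.ι (fun _ : r => L) k ≫ q) (y k) := fun x => by
    obtain ⟨u, hu⟩ := Abelian.Ext.covariant_sequence_exact₃ _ hS' x (n₁ := 2) rfl
      (@Subsingleton.elim (Coh.HH X (kernel q) 2) hK2 _ _)
    let β : Finset r → ((⨁ fun _ : r => L) ⟶ (⨁ fun _ : r => L)) := fun t =>
      ∑ k ∈ t, biproduct.π (fun _ : r => L) k ≫ biproduct.ι (fun _ : r => L) k
    refine ⟨fun k => Hm (biproduct.π (fun _ : r => L) k) u, ?_⟩
    have h1 : ∀ t : Finset r, Hm (β t ≫ q) u =
        ∑ k ∈ t, Hm (biproduct.ι (fun _ : r => L) k ≫ q) (Hm (biproduct.π (fun _ : r => L) k) u) := fun t => by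
      classical
      induction t using Finset.induction_on with
      | empty =>
        have h0 := Hm_add (0 : (⨁ fun _ : r => L) ⟶ kernel π) 0 u
        rw [add_zero] at h0
        simp only [β, Finset.sum_empty, zero_comp]
        exact left_eq_add.1 h0
      | insert k t hk ih =>
        simp only [β] at ih ⊢
        rw [Finset.sum_insert hk, Finset.sum_insert hk, Preadditive.add_comp, Hm_add, ih, Category.assoc, Hm_comp]
    have h2 := h1 Finset.univ
    have h3 : β Finset.univ = 𝟙 (⨁ fun _ : r => L) := by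
      classical
      refine biproduct.hom_ext _ _ fun j => ?_
      simp only [β, Preadditive.sum_comp, Category.assoc, Category.id_comp]
      refine (Finset.sum_eq_single j (fun k _ hk => by rw [biproduct.ι_π_ne _ hk, comp_zero])
        (fun h => absurd (Finset.mem_univ j) h)).trans ?_
      rw [biproduct.ι_π_self, Category.comp_id]
    rw [h3, Category.id_comp] at h2
    exact hu.symm.trans h2
  let _ := Module.compHom (Coh.HH X L 1) (Coh.toGlobal g)
  have hsmul : ∀ (b : A) (x : Coh.HH X L 1), Hm (Formal.smulMod A L b) x = b • x := fun b x => rfl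
  haveI : Module.Finite A (Coh.HH X L 1) := AtlasCoh.finiteCoh_of_isProper g L hL 1
  have hgen : (⊤ : Submodule A (Coh.HH X L 1)) ≤ m • ⊤ := fun z _ => by
    obtain ⟨x, hx⟩ : ∃ x : Coh.HH X (kernel π) 1, Hm (kernel.ι π) x = z :=
      Abelian.Ext.covariant_sequence_exact₂ _ hS z (Subsingleton.elim (α := Coh.HH X Q 1) _ _)
    obtain ⟨y, rfl⟩ := hsurjq x
    rw [← hx, map_sum]
    refine Submodule.sum_mem _ fun k _ => ?_
    rw [← Hm_comp, Category.assoc, kernel.lift_ι, biproduct.ι_desc, hsmul]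
    exact Submodule.smul_mem_smul (pow_one m ▸ ha k) trivial
  obtain ⟨b, hb, hb0⟩ := Submodule.exists_sub_one_mem_and_smul_eq_zero_of_fg_of_le_smul m ⊤ Module.Finite.fg_top hgen
  let ψ : T ⟶ T :=
    { τ₁ := Formal.smulMod A _ b
      τ₂ := Formal.smulMod A _ b
      τ₃ := Formal.smulMod A _ b
      comm₁₂ := (AlgzCohLib.smulMod_naturality _ b).symm
      comm₂₃ := (AlgzCohLib.smulMod_naturality _ b).symm }
  have hψ₃ : Formal.smulMod A Q b = 𝟙 Q := by
    have h1 : Formal.smulMod A L (b - 1) ≫ π = 0 := FormalLib.smulMod_modPowπ L m 1 ((pow_one m).symm ▸ hb)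
    have h2 : Formal.smulMod A Q (b - 1) = 0 := by
      apply (cancel_epi π).1
      rw [comp_zero]
      exact (AlgzCohLib.smulMod_naturality π (b - 1)).trans h1
    have h3 : Formal.smulMod A Q 1 = 𝟙 Q := by
      refine Scheme.Modules.hom_ext _ _ fun U => ConcreteCategory.hom_ext _ _ fun x => ?_
      show FormalLib.secMap (Formal.smulMod A Q 1) U (FormalLib.toSec A Q U x) = _
      rw [FormalLib.smulMod_app, one_smul]
      rfl
    rw [show b = (b - 1) + 1 by ring, FormalLib.smulMod_add, h2, h3, zero_add]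
  let x₀ := (QCohLib.h0 (F := (toAbF X).obj Q) (U := (⊤ : Opens X.toTopCat))).symm σ
  have hd : x₀.comp hS.extClass (zero_add 1) = 0 := by
    have hnat := hS.extClass_naturality hS ((toAbF X).mapShortComplex.map ψ)
    have h3 : ((toAbF X).mapShortComplex.map ψ).τ₃ = 𝟙 _ := by
      show (toAbF X).map (Formal.smulMod A Q b) = _
      rw [hψ₃, CategoryTheory.Functor.map_id]
      rfl
    rw [h3] at hnat
    replace hnat := hnat.trans (Abelian.Ext.mk₀_id_comp hS.extClass)
    let d := x₀.comp hS.extClass (zero_add 1)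
    have hd1 : d.comp (Abelian.Ext.mk₀ ((toAbF X).map (Formal.smulMod A (kernel π) b))) (add_zero 1) = d := by
      show (x₀.comp _ _).comp _ _ = _
      rw [Abelian.Ext.comp_assoc_of_third_deg_zero]
      exact congrArg (fun z => x₀.comp z (zero_add 1)) hnat
    obtain ⟨x, hx⟩ := (QCohLib.hEquiv ((toAbF X).obj (kernel π)) 1).surjective d
    have hx0 : Hm (Formal.smulMod A (kernel π) b) x = 0 := by
      obtain ⟨y, rfl⟩ := hsurjq x
      rw [map_sum]
      refine Finset.sum_eq_zero fun k _ => ?_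
      rw [← Hm_comp, AlgzCohLib.smulMod_naturality (biproduct.ι (fun _ : r => L) k ≫ q) b, Hm_comp, hsmul,
        hb0 _ trivial, map_zero]
    have h5 := QCohLib.hEquiv_map ((toAbF X).map (Formal.smulMod A (kernel π) b)) 1 x
    rw [hx, hd1] at h5
    exact h5.symm.trans ((congrArg _ hx0).trans (map_zero _))
  obtain ⟨y, hy⟩ := Abelian.Ext.covariant_sequence_exact₃ _ hS x₀ (zero_add 1) hd
  refine ⟨QCohLib.h0 (F := (toAbF X).obj L) (U := (⊤ : Opens X.toTopCat)) y, ?_⟩
  refine (QCohLib.h0_comp y ((toAbF X).map π)).symm.trans ?_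
  exact (congrArg _ hy).trans (AddEquiv.apply_symm_apply _ _)

end Lift

section Near

variable {X Y : Scheme.{u}} (f : X ⟶ Y) [IsProper f] [IsLocallyNoetherian Y]

/-- A line bundle trivial on a closed fibre is trivial near it. -/
theorem exists_trivial_nhd (hdim : ∀ y : Y, topologicalKrullDim ↥(f.fiber y) ≤ 1)
    (hH1 : ∀ y : Y, Subsingleton (Coh.HH (f.fiber y) (Coh.structureModule (f.fiber y)) 1))
    {L : X.Modules} (hL : PicF.IsInvertible L) (y : Y) (hy : IsClosed ({y} : Set Y))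
    (ht : Nonempty ((Scheme.Modules.pullback (f.fiberι y)).obj L ≅ Coh.structureModule (f.fiber y))) :
    ∃ U : Y.Opens, y ∈ U ∧ Nonempty (L.restrict (f ⁻¹ᵁ U).ι ≅ Coh.structureModule (f ⁻¹ᵁ U).toScheme) := by
  obtain ⟨V, hV, hyV⟩ := QCohLib.exists_affine_nhd y
  let A : Type u := Γ(Y, V)
  haveI : IsNoetherianRing A := IsLocallyNoetherian.component_noetherian ⟨V, hV⟩
  let P : X.Opens := f ⁻¹ᵁ V
  let f' : (P : Scheme.{u}) ⟶ Spec (CommRingCat.of A) := RpushLib.overW f hV
  letI : (P : Scheme.{u}).Over (Spec (CommRingCat.of A)) := ⟨f'⟩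
  have H := CohBCLib.isPullback_overW f hV
  haveI : IsProper f' := MorphismProperty.of_isPullback H ‹_›
  haveI : IsProper ((P : Scheme.{u}) ↘ Spec (CommRingCat.of A)) := ‹IsProper f'›
  haveI : IsLocallyNoetherian (P : Scheme.{u}) := LocallyOfFiniteType.isLocallyNoetherian f'
  let q : Spec (CommRingCat.of A) := hV.primeIdealOf ⟨y, hyV⟩
  have hq : hV.fromSpec q = y := hV.fromSpec_primeIdealOf ⟨y, hyV⟩
  let m : Ideal A := (q : PrimeSpectrum A).asIdeal
  have hm : m.IsMaximal := by
    refine (PrimeSpectrum.isClosed_singleton_iff_isMaximal (q : PrimeSpectrum A)).1 ?_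
    have : IsClosed (hV.fromSpec ⁻¹' ({y} : Set Y)) := hy.preimage hV.fromSpec.continuous
    have e : hV.fromSpec ⁻¹' ({y} : Set Y) = {q} := Set.ext fun z =>
      ⟨fun hz => hV.fromSpec.isOpenEmbedding.injective ((show hV.fromSpec z = y from hz).trans hq.symm),
        fun hz => by rw [Set.mem_singleton_iff.1 hz]; exact hq⟩
    rw [e] at this
    exact this
  have hdim' : ∀ z : Spec (CommRingCat.of A), topologicalKrullDim ↥(f'.fiber z) ≤ 1 := fun z =>
    (FibDimLib.topologicalKrullDim_fiber_baseChange H z).trans_le (hdim _)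
  have hH1' : ∀ z : Spec (CommRingCat.of A),
      Subsingleton (Coh.HH (f'.fiber z) (Coh.structureModule (f'.fiber z)) 1) := fun z => by
    let k : Type u := Y.residueField (hV.fromSpec z)
    let K : Type u := (Spec (CommRingCat.of A)).residueField z
    letI : Algebra k K := (hV.fromSpec.residueFieldMap z).hom.toAlgebra
    let Z := f.fiber (hV.fromSpec z)
    let Z' := f'.fiber z
    letI : Z.Over (Spec (CommRingCat.of k)) := ⟨f.fiberToSpecResidueField _⟩
    letI : Z'.Over (Spec (CommRingCat.of K)) := ⟨f'.fiberToSpecResidueField z⟩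
    haveI : IsProper (Z ↘ Spec (CommRingCat.of k)) := MorphismProperty.pullback_snd f _ inferInstance
    haveI : CompactSpace Z := QuasiCompact.compactSpace_of_compactSpace (Z ↘ Spec (CommRingCat.of k))
    haveI := CurvLib.isNoetherian k (X := Z)
    haveI : Coh.IsQCoh (Coh.structureModule Z) := QCohLib.isQCoh_unit
    let j : Z' ⟶ Z := pullback.map _ _ _ _ P.ι (Spec.map (hV.fromSpec.residueFieldMap z)) hV.fromSpec H.w.symm
      (Scheme.Hom.SpecMap_residueFieldMap_fromSpecResidueField hV.fromSpec z).symm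
    obtain ⟨e⟩ := RpushLib.nonempty_affBase_bc (A := k) (B := K) (g' := j)
      (f' := Z' ↘ Spec (CommRingCat.of K)) (f := Z ↘ Spec (CommRingCat.of k))
      (isPullback_fiberToSpecResidueField_of_isPullback H z) (Coh.structureModule Z) 1
    haveI := hH1 (hV.fromSpec z)
    have h1 : Subsingleton (Coh.HH Z' ((Scheme.Modules.pullback j).obj (Coh.structureModule Z)) 1) :=
      e.symm.toEquiv.subsingleton
    exact HdgLefLib.sub_iso (KFlatLib.pullUnitIso j) 1 h1
  let L' : (P : Scheme.{u}).Modules := pb P.ι L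
  have hL' : PicF.IsInvertible L' := AmpleDevLib.isInvertible_pb P.ι hL
  have hLc : Coh.IsCoh L' := CurvLib.isCoh_of_isInvertible hL'
  haveI := hLc.1
  let ι := incl m f' 0
  let Z := (PicAlgzLib.thickOf m f').X 0
  obtain ⟨h, hh⟩ : ∃ h : Z ⟶ f.fiber y, h ≫ f.fiberι y = ι ≫ P.ι := by
    haveI : (m ^ (0 + 1)).IsMaximal := by simpa using hm
    letI := Ideal.Quotient.field (m ^ (0 + 1))
    let v : Spec (CommRingCat.of (A ⧸ m ^ (0 + 1))) ⟶ Y := CohB1.specQuot m 0 ≫ hV.fromSpec
    let pt := IsLocalRing.closedPoint (A ⧸ m ^ (0 + 1))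
    have hv : v pt = y := by
      refine (congrArg hV.fromSpec ?_).trans hq
      refine PrimeSpectrum.ext ?_
      refine (hm.eq_of_le (PrimeSpectrum.isPrime _).ne_top fun a ha => ?_).symm
      show Ideal.Quotient.mk (m ^ (0 + 1)) a ∈ (pt : PrimeSpectrum _).asIdeal
      rw [Ideal.Quotient.eq_zero_iff_mem.2 (by simpa using ha)]
      exact zero_mem _
    have hs := (Scheme.SpecToEquivOfField (A ⧸ m ^ (0 + 1)) Y).left_inv v
    change Spec.map _ ≫ Y.fromSpecResidueField (v pt) = v at hs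
    obtain ⟨w, hw⟩ : ∃ w, w ≫ Y.fromSpecResidueField y = v := by rw [← hv]; exact ⟨_, hs⟩
    refine ⟨pullback.lift (ι ≫ P.ι) ((PicAlgzLib.thickOf m f').p 0 ≫ w) ?_, pullback.lift_fst _ _ _⟩
    rw [Category.assoc, Category.assoc, hw, H.w]
    exact ((Category.assoc _ _ _).symm.trans (congrArg (· ≫ hV.fromSpec)
      (pullback.condition : pullback.fst f' (CohB1.specQuot m 0) ≫ f' = _))).trans (Category.assoc _ _ _)
  obtain ⟨t⟩ := ht
  let τ : pb ι L' ≅ Coh.structureModule Z :=
    (Scheme.Modules.pullbackComp ι P.ι).app L ≪≫ (Scheme.Modules.pullbackCongr hh.symm).app L ≪≫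
      ((Scheme.Modules.pullbackComp h (f.fiberι y)).app L).symm ≪≫
      (Scheme.Modules.pullback h).mapIso t ≪≫ KFlatLib.pullUnitIso h
  have hz := fun b (hb : b ∈ m ^ (0 + 1)) => GrSysLib.toGlobal_eq_zero (PicAlgzLib.thickOf m f') 0 hb
  have hδ : ∀ (M : (P : Scheme.{u}).Modules) [Coh.IsQCoh M],
      ∃ δ : Formal.modPow m (0 + 1) M ≅ (Scheme.Modules.pushforward ι).obj (pb ι M),
        Formal.modPowπ m (0 + 1) M ≫ δ.hom = (Scheme.Modules.pullbackPushforwardAdjunction ι).unit.app M := by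
    intro M _
    have hi := GrSysLib.isIso_desc_unit ι (PicAlgzLib.incl_over m f' 0) _ hz (PicAlgzLib.ker_incl_le m f' 0) M
    exact ⟨@asIso _ _ _ _ _ hi, cokernel.π_desc _ _ _⟩
  obtain ⟨δ, hδL⟩ := hδ L'
  haveI : Coh.IsQCoh (Coh.structureModule (P : Scheme.{u})) := QCohLib.isQCoh_unit
  obtain ⟨δO, -⟩ := hδ (Coh.structureModule (P : Scheme.{u}))
  let e : Coh.structureModule (P : Scheme.{u}) ⟶ Formal.modPow m 1 L' :=
    Formal.modPowπ m 1 _ ≫ (δO ≪≫ (Scheme.Modules.pushforward ι).mapIso (KFlatLib.pullUnitIso ι ≪≫ τ.symm) ≪≫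
      δ.symm).hom
  haveI : Epi e := epi_comp _ _
  let g0 : Γ(pb ι L', ⊤) := τ.inv.app ⊤ (show Γ(Coh.structureModule Z, ⊤) from (1 : Γ(Z, ⊤)))
  have hg0 : GenOn (pb ι L') g0 := PicTorsLib.genOn_iso τ.symm (AmpleLib.one_genOn ⊤)
  obtain ⟨s, hs⟩ := exists_lift_modPow hdim' hH1' m hm L' hLc e (δ.inv.app ⊤ g0)
  have hs' : puSec ι s = g0 := by
    have h1 := congrArg (δ.hom.app ⊤) hs
    have h2 : δ.hom.app ⊤ ((Formal.modPowπ m (0 + 1) L').app ⊤ s) = puSec ι s :=
      congrArg (fun φ : L' ⟶ _ => φ.app ⊤ s) hδL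
    exact h2.symm.trans (h1.trans
      (congrArg (fun φ : (Scheme.Modules.pushforward ι).obj (pb ι L') ⟶ _ => φ.app ⊤ g0) δ.inv_hom_id))
  let G : Set (P : Scheme.{u}) := {x | ∃ hx : x ∈ (⊤ : (P : Scheme.{u}).Opens), GenAt L' s hx}
  have hG : IsOpen G := CohCmpLib.isOpen_genAt_on hL' s
  have hfib : ∀ x : (P : Scheme.{u}), f' x = q → x ∈ G := fun x hx => by
    obtain ⟨z, rfl⟩ := PicAlgzLib.mem_range_incl m f' 0 x (by rw [hx])
    refine ⟨trivial, CohCmpLib.genAt_of_puSec ι hL' s _ ?_⟩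
    rw [hs']
    exact hg0.genAt trivial
  let C : Set (Spec (CommRingCat.of A)) := f' '' Gᶜ
  have hC : IsClosed C := f'.isClosedMap _ hG.isClosed_compl
  let U₀ : (Spec (CommRingCat.of A)).Opens := ⟨Cᶜ, hC.isOpen_compl⟩
  let U : Y.Opens := hV.fromSpec ''ᵁ U₀
  refine ⟨U, ⟨q, fun ⟨x, hx, hxq⟩ => hx (hfib x hxq), hq⟩, ?_⟩
  let O : X.Opens := f ⁻¹ᵁ U
  have hUV : U ≤ V := by
    rintro _ ⟨z, -, rfl⟩
    exact hV.range_fromSpec.le ⟨z, rfl⟩
  let O' : (P : Scheme.{u}).Opens := P.ι ⁻¹ᵁ O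
  have hO' : ∀ x, x ∈ O' → f' x ∈ U₀ := fun x hx => by
    obtain ⟨z, hz, hzx⟩ := (hx : f (P.ι x) ∈ U)
    have h1 : hV.fromSpec (f' x) = f (P.ι x) := congr($(H.w.symm) x)
    rw [hV.fromSpec.isOpenEmbedding.injective (hzx.trans h1.symm)] at hz
    exact hz
  obtain ⟨t'⟩ := TwistLib.nonempty_iso_of_genOn (AmpleLib.res L' (le_top : O' ≤ ⊤) s)
    (TwistLib.genOn_of_genAt fun x hx => (AmpleLib.genAt_res le_top s hx).2 (by
      by_contra hne
      exact (hO' x hx) ⟨x, fun ⟨_, hg⟩ => hne hg, rfl⟩))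
  let ε := P.ι.isoImage O'
  have hεO : P.ι ''ᵁ O' = O := by
    rw [Scheme.Hom.image_preimage_eq_opensRange_inf, Scheme.Opens.opensRange_ι]
    exact inf_eq_right.2 (f.preimage_mono hUV)
  have key : Nonempty (L.restrict (P.ι ''ᵁ O').ι ≅ Coh.structureModule (P.ι ''ᵁ O').toScheme) :=
    ⟨(Scheme.Modules.restrictFunctorIsoPullback _).app L ≪≫
      (Scheme.Modules.pullbackCongr (show (P.ι ''ᵁ O').ι = ε.inv ≫ O'.ι ≫ P.ι by
        rw [← Scheme.Hom.isoImage_hom_ι P.ι O', Iso.inv_hom_id_assoc])).app L ≪≫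
      ((Scheme.Modules.pullbackComp _ _).app L).symm ≪≫
      (Scheme.Modules.pullback ε.inv).mapIso (((Scheme.Modules.pullbackComp _ _).app L).symm ≪≫
        ((Scheme.Modules.restrictFunctorIsoPullback O'.ι).app _).symm ≪≫ t') ≪≫ KFlatLib.pullUnitIso _⟩
  rwa [hεO] at key

end Near

section Main

variable {X Y : Scheme.{u}} (f : X ⟶ Y)

theorem isIso_unitToPush_of_app (hO : ∀ U : Y.Opens, IsIso (f.app U)) : IsIso (ClSub.unitToPush f) :=
  Scheme.Modules.Hom.isIso_iff_isIso_app.2 fun (U : Y.Opens) =>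
    (ConcreteCategory.isIso_iff_bijective _).2
      (show Function.Bijective (f.app U) from (ConcreteCategory.isIso_iff_bijective _).1 (hO U))

end Main

end Helpers

open AlgebraicGeometry CategoryTheory Limits in
/-- Let X and Y be Noetherian schemes and f : X → Y a proper morphism with O_Y → f_* O_X an isomorphism,
fibres of dimension at most 1, and H^1(X_y, O_{X_y}) = 0 for all y. Then f^* is injective on
isomorphism classes of invertible modules, and for every invertible O_X-module L whose restriction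
to each fibre X_y is trivial the direct image f_* L is an invertible O_Y-module. (The published
statement asserts moreover that such an L is isomorphic to f^* f_* L, so that f^* is a bijection
onto the classes of fibrewise trivial invertible modules; that last step is not stated here.) -/
theorem result {X Y : Scheme.{u}} (f : X ⟶ Y) [IsProper f] [IsNoetherian X] [IsNoetherian Y]
    (hO : ∀ U : Y.Opens, IsIso (f.app U))
    (hdim : ∀ y : Y, topologicalKrullDim ↥(f.fiber y) ≤ 1)
    (hH1 : ∀ y : Y, Subsingleton (Coh.HH (f.fiber y) (Coh.structureModule (f.fiber y)) 1)) :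
    (∀ N N' : Y.Modules, PicF.IsInvertible N → PicF.IsInvertible N' →
        Nonempty ((Scheme.Modules.pullback f).obj N ≅ (Scheme.Modules.pullback f).obj N') → Nonempty (N ≅ N')) ∧
    (∀ L : X.Modules, PicF.IsInvertible L →
        (∀ y : Y, Nonempty ((Scheme.Modules.pullback (f.fiberι y)).obj L ≅ Coh.structureModule (f.fiber y))) →
          PicF.IsInvertible ((Scheme.Modules.pushforward f).obj L)) := by
  haveI := isIso_unitToPush_of_app f hO
  refine ⟨fun N N' hN hN' ⟨e⟩ => ?_, fun L hL ht => ?_⟩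
  · have hN1 := SeesawLib.isFinLocFree_of_rank ((CohCmpLib.invertible_iff_rank_one N).1 hN)
    have hN2 := SeesawLib.isFinLocFree_of_rank ((CohCmpLib.invertible_iff_rank_one N').1 hN')
    haveI := CohCmpLib.isIso_unit_of_unitToPush f hN1
    haveI := CohCmpLib.isIso_unit_of_unitToPush f hN2
    exact ⟨asIso ((Scheme.Modules.pullbackPushforwardAdjunction f).unit.app N) ≪≫
      (Scheme.Modules.pushforward f).mapIso e ≪≫
      (asIso ((Scheme.Modules.pullbackPushforwardAdjunction f).unit.app N')).symm⟩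
  · intro y
    obtain ⟨y', hy', hyc⟩ := (isClosed_closure (s := ({y} : Set Y))).exists_closed_singleton ⟨y, subset_closure rfl⟩
    obtain ⟨U, hU, ⟨t⟩⟩ := exists_trivial_nhd f hdim hH1 hL y' hyc (ht y')
    have hyU : y ∈ U := (show y ⤳ y' from specializes_iff_mem_closure.2 hy').mem_open U.2 hU
    haveI : ∀ W : (U : Scheme.{u}).Opens, IsIso ((f ∣_ U).app W) := fun W => by
      rw [morphismRestrict_app]
      haveI := hO (U.ι ''ᵁ W)
      infer_instance
    haveI := isIso_unitToPush_of_app (f ∣_ U) this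
    exact ⟨U, hyU, ⟨(Groth.Agent.DCohRestrLib.restrictPushIso f U).app L ≪≫
      (Scheme.Modules.pushforward (f ∣_ U)).mapIso t ≪≫ (asIso (ClSub.unitToPush (f ∣_ U))).symm⟩⟩

end Groth.Agent.S7187
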