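import Groth.Statements.S14697
import Mathlib
import Groth.Agent.SurfAmpleLib.Adj
import Groth.Agent.CurveH0Lib.Smooth
import Groth.Agent.EulerRpushLib.Main
import Groth.Agent.EulerRpushLib.Exceptional
import Groth.Agent.IntFunLib.Push
import Groth.Agent.CurveFamNormLib.App
import Groth.Agent.S7187
import Groth.Agent.NefH1Lib.Adjunction.Basic
import Groth.Agent.AVVanishLib.Family
import Groth.Agent.MonoidalFibLib.Basic
import Groth.Agent.SurfNumLib.Config
import Groth.Agent.ProjFormLib.Proj
import Groth.Agent.AmpleDevLib.Pull
-- import your own Groth.Agent.* helpers here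

set_option autoImplicit false
universe u
open CategoryTheory CategoryTheory.Limits AlgebraicGeometry
open Surf

namespace Groth.Agent.S14697

/-- Let k be an algebraically closed field and X an integral normal scheme of dimension two admitting a
closed immersion into some P^n_k over k. Let φ : Y → X be a k-morphism from an integral scheme Y of
dimension two with all local rings regular, itself admitting a closed immersion into some P^m_k over
k, such that φ restricts to an isomorphism over an open subset U of X with finite complement (any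
such resolution: φ may also fail to be an isomorphism over finitely many regular points). Let W be a
canonical module of Y, a second exterior power of Ω_{Y/k}, and L an invertible O_X-module. Then 2
χ(X, L) = (φ^*L · φ^*L) - (φ^*L · W) + 2 χ(X, O_X), the intersection numbers being taken on Y as
(A·B) = χ(O_Y) - χ(A) - χ(B) + χ(A ⊗ B) (packaged as FGA.intNum). In the published form D.D and
D.K_* are the intersection numbers of the Cartier divisor D of L with itself and with the direct
image K_* of a canonical divisor of Y, in the rational-valued pairing defined through the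
resolution; for a Cartier divisor both equal the numbers on Y written here. (The published statement
takes a resolved model, that is, φ an isomorphism exactly over the complement of the singular points
with exceptional curves nonsingular and crossing normally; this row allows any φ that is an
isomorphism over some open subset with finite complement, to which the same proof applies. The
published display has constant term the arithmetic genus p_a(X) = χ(O_X) - 1 of the surface; the
proof given establishes the constant χ(O_X) used here, and with p_a(X) the identity already fails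
for the trivial divisor, whose two sides would read χ(O_X) and χ(O_X) - 1.) -/
theorem result (k : Type u) [Field k] [IsAlgClosed k] (X : Scheme.{u}) [X.Over (Spec (CommRingCat.of k))]
    [IsIntegral X] (hdim : topologicalKrullDim X = 2)
    (hproj : ∃ (n : ℕ) (ι : X ⟶ CohB1.ProjSpace n k), IsClosedImmersion ι ∧ ι ≫ CohB1.ProjSpace.toSpec n k = (X ↘ (Spec (CommRingCat.of k))))
    (hnorm : Pi1.IsNormalScheme X) (U : X.Opens) (hU : ((U : Set X)ᶜ).Finite)
    (Y : Scheme.{u}) (φ : Y ⟶ X) [IsIntegral Y] (hdimY : topologicalKrullDim Y = 2)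
    (hregY : ∀ y : Y, IsRegularLocalRing (Y.presheaf.stalk y))
    (hprojY : ∃ (n : ℕ) (ι : Y ⟶ CohB1.ProjSpace n k), IsClosedImmersion ι ∧ ι ≫ CohB1.ProjSpace.toSpec n k = φ ≫ (X ↘ (Spec (CommRingCat.of k))))
    (hisoY : IsIso (φ ∣_ U))
    (W : Y.Modules) (hW : ExtPow.IsExtPow 2 (Omega.sheaf (φ ≫ (X ↘ (Spec (CommRingCat.of k))))) W)
    (L : X.Modules) (hL : PicF.IsInvertible L) :
    letI : Y.Over (Spec (CommRingCat.of k)) := ⟨φ ≫ (X ↘ (Spec (CommRingCat.of k)))⟩
    2 * Curv2.euler k X L =
      FGA.intNum k Y 2 ![(Scheme.Modules.pullback φ).obj L, (Scheme.Modules.pullback φ).obj L] (Coh.structureModule Y) -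
        FGA.intNum k Y 2 ![(Scheme.Modules.pullback φ).obj L, W] (Coh.structureModule Y) +
        2 * Curv2.euler k X (Coh.structureModule X) := by
  obtain ⟨n, ι, hι, hιc⟩ := hproj
  obtain ⟨nY, ιY, hιY, hιYc⟩ := hprojY
  letI : Y.Over (Spec (CommRingCat.of k)) := ⟨φ ≫ (X ↘ (Spec (CommRingCat.of k)))⟩
  haveI := StratLib.isProper_toSpec n k
  haveI := StratLib.isProper_toSpec nY k
  haveI : IsProper (X ↘ Spec (CommRingCat.of k)) := by rw [← hιc]; infer_instance
  haveI : IsProper (Y ↘ Spec (CommRingCat.of k)) := by
    show IsProper (φ ≫ (X ↘ Spec (CommRingCat.of k)))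
    rw [← hιYc]; infer_instance
  haveI : Smooth (Y ↘ Spec (CommRingCat.of k)) :=
    CurveH0Lib.smooth_of_regular k (Y ↘ Spec (CommRingCat.of k)) hregY
  haveI := CurvLib.isNoetherian k (X := X)
  haveI := CurvLib.isNoetherian k (X := Y)
  haveI := hisoY
  have hf : φ ≫ (X ↘ Spec (CommRingCat.of k)) = Y ↘ Spec (CommRingCat.of k) := rfl
  haveI : IsProper φ := IntFunLib.isProper_g hf
  haveI : JacobsonSpace X := LocallyOfFiniteType.jacobsonSpace (X ↘ Spec (CommRingCat.of k))
  have hUne : (U : Set X).Nonempty := by
    rw [Set.nonempty_iff_ne_empty]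
    intro h
    rw [h, Set.compl_empty] at hU
    have h0 : topologicalKrullDim (Set.univ : Set X) ≤ 0 :=
      AVVanishLib.topologicalKrullDim_le_zero_of_finite hU fun x _ =>
        MonoidalFibLib.isClosed_singleton_of_finite isClosed_univ hU (Set.mem_univ x)
    rw [(Homeomorph.Set.univ X).isHomeomorph.topologicalKrullDim_eq, hdim] at h0
    exact absurd h0 (by decide)
  have hY : topologicalKrullDim Y = ((2 : ℕ) : WithBot ℕ∞) := by rw [hdimY]; rfl
  have hM := AmpleDevLib.isInvertible_pb φ hL
  have hW' := SurfAmpleLib.isInvertible_canonical hY hW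
  have hR := SurfAmpleLib.riemann_roch hY hW hM
  rw [SurfNumLib.intNum_eq_pr_two hdimY, SurfNumLib.intNum_eq_pr_two hdimY]
  have hG := CurvLib.isCoh_of_isInvertible hM
  have hO := DevissLib.isCoh_structureModule Y
  obtain ⟨N₁, hN₁, hs₁⟩ := EulerRpushLib.euler_eq_sum_rpush φ hf _ hG
  obtain ⟨N₀, hN₀, hs₀⟩ := EulerRpushLib.euler_eq_sum_rpush φ hf _ hO
  let M := N₁ + N₀ + 1
  rw [Finset.sum_subset (s₂ := Finset.range M) (Finset.range_mono (by omega)) (fun i _ hi => by
    rw [HilbPolyLib.euler_zero (hN₁ i (by simpa using hi)), mul_zero])] at hs₁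
  rw [Finset.sum_subset (s₂ := Finset.range M) (Finset.range_mono (by omega)) (fun i _ hi => by
    rw [HilbPolyLib.euler_zero (hN₀ i (by simpa using hi)), mul_zero])] at hs₀
  have hproj : ∀ i, Curv2.euler k X ((Coh.Rpush φ i).obj ((Scheme.Modules.pullback φ).obj L)) =
      Curv2.euler k X (CohB1.tensorMod L ((Coh.Rpush φ i).obj (Coh.structureModule Y))) := fun i => by
    obtain ⟨e⟩ := _root_.ProjFormLib.nonempty_projection_formula φ L
      (AmpleDevLib.isFinLocFree_of_isInvertible hL) (Coh.structureModule Y) i
    exact CurvLib.euler_congr ((Coh.Rpush φ i).mapIso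
      ((HilbPolyLib.swapIso _ _ ≪≫ HilbPolyLib.unitLeft _).symm) ≪≫ e.symm)
  have hpos : ∀ i, Curv2.euler k X ((Coh.Rpush φ (i + 1)).obj ((Scheme.Modules.pullback φ).obj L)) =
      Curv2.euler k X ((Coh.Rpush φ (i + 1)).obj (Coh.structureModule Y)) := fun i => by
    rw [hproj]
    have hc : Coh.IsCoh ((Coh.Rpush φ (i + 1)).obj (Coh.structureModule Y)) := Groth.Agent.S0036.result φ _ hO _
    have hsub : CohB1.support ((Coh.Rpush φ (i + 1)).obj (Coh.structureModule Y)) ⊆ (U : Set X)ᶜ :=
      fun x hx hxU => IntFunLib.notMem_support_rpush_of_finite φ hO x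
        ((EulerRpushLib.subsingleton_fibre φ U hxU).finite.inter_of_right _) i hx
    exact NefH1Lib.Adj.euler_tensor_of_dim_zero (k := k) hL hc (AVVanishLib.topologicalKrullDim_le_zero_of_finite (hU.subset hsub)
      fun x hx => MonoidalFibLib.isClosed_singleton_of_finite U.2.isClosed_compl hU (hsub hx))
  haveI := Groth.Agent.S7187.isIso_unitToPush_of_app (f := φ) fun V =>
    CurveFamNormLib.isIso_app_of_birational_normal φ hnorm U hUne V
  have e0 := (Scheme.Modules.pushforward φ).rightDerivedZeroIsoSelf.app (Coh.structureModule Y) ≪≫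
    (asIso (ClSub.unitToPush φ)).symm
  have hzero : Curv2.euler k X ((Coh.Rpush φ 0).obj (Coh.structureModule Y)) =
      Curv2.euler k X (Coh.structureModule X) := CurvLib.euler_congr e0
  have hzero' : Curv2.euler k X ((Coh.Rpush φ 0).obj ((Scheme.Modules.pullback φ).obj L)) = Curv2.euler k X L := by
    rw [hproj]
    exact CurvLib.euler_congr (HilbPolyLib.congrRight L e0 ≪≫ HilbPolyLib.swapIso _ _ ≪≫ HilbPolyLib.unitLeft _)
  rw [show M = (N₁ + N₀) + 1 from rfl, Finset.sum_range_succ', hzero'] at hs₁
  rw [show M = (N₁ + N₀) + 1 from rfl, Finset.sum_range_succ', hzero] at hs₀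
  simp only [pow_zero, one_mul, hpos] at hs₁
  simp only [pow_zero, one_mul] at hs₀
  linarith [hR, hs₁, hs₀]

end Groth.Agent.S14697
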