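import Groth.Statements.S1470
import Groth.Agent.RelDimLib.Main

set_option backward.isDefEq.respectTransparency false
set_option backward.isDefEq.respectTransparency.types false

set_option autoImplicit false
universe u
open FlatMor

namespace Groth.Agent.S1470

open AlgebraicGeometry CategoryTheory Limits in
/-- Let f : X → S be locally of finite type, F a quasi-coherent O_X-module of finite type, and y a point
of the relative assassin of F with image t; let Y be the closure of y. For a point s of S and a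
point x of the fibre of Y over s which is generic in an irreducible component of that fibre, if F is
flat over S at x then x belongs to the relative assassin of F and the local dimension of the fibre
of Y over s at x equals the dimension of the fibre of Y over t (fibres taken as subspaces of X). -/
theorem result {X S : Scheme.{u}} (f : X ⟶ S) [LocallyOfFiniteType f]
    (F : X.Modules) (hF : Coh.IsCoh F) (y : X) (hy : y ∈ MoreMor.relAss f F) (s : S) (x : X) (hx : x ∈ closure ({y} : Set ↑X)) (hxs : f x = s)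
    (hgen : ∃ C ∈ irreducibleComponents ↑(closure ({y} : Set ↑X) ∩ f ⁻¹' {s}), IsGenericPoint (⟨x, hx, hxs⟩ : ↑(closure ({y} : Set ↑X) ∩ f ⁻¹' {s})) C)
    (hfl : FlatMod.IsFlatOverAt f F x) :
    x ∈ MoreMor.relAss f F ∧
      FlatMor.localDim ↑(closure ({y} : Set ↑X) ∩ f ⁻¹' {s}) ⟨x, hx, hxs⟩ = topologicalKrullDim ↑(closure ({y} : Set ↑X) ∩ f ⁻¹' {f y}) := by
  haveI : Coh.IsQCoh F := hF.1
  let J := Scheme.IdealSheafData.vanishingIdeal (TopologicalSpace.Closeds.closure ({y} : Set X))
  let ι := J.subschemeι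
  have hι : Set.range ι.base = closure {y} := by
    refine (Scheme.IdealSheafData.range_subschemeι J).trans ?_
    rw [Scheme.IdealSheafData.coe_support_vanishingIdeal]
    simp [TopologicalSpace.Closeds.closure, IsClosed.closure_eq]
  obtain ⟨x', rfl⟩ : x ∈ Set.range ι.base := hι ▸ hx
  subst hxs
  obtain ⟨C, hC, hgC⟩ := hgen
  let e : ↥((ι ≫ f).base ⁻¹' {f (ι.base x')}) ≃ₜ ↥(closure ({y} : Set X) ∩ f ⁻¹' {f (ι.base x')}) :=
    (ι.isClosedEmbedding.isEmbedding.homeomorphImage _).trans (Homeomorph.setCongr (by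
      rw [show ((ι ≫ f).base ⁻¹' {f (ι.base x')} : Set _) = ι.base ⁻¹' (f ⁻¹' {f (ι.base x')}) from rfl,
        Set.image_preimage_eq_range_inter, hι]))
  have hmax : ∀ z, f.base z = f.base (ι.base x') → y ⤳ z → z ⤳ ι.base x' → z = ι.base x' := by
    intro z hz hyz hzx
    have hmem : z ∈ closure ({y} : Set X) ∩ f ⁻¹' {f (ι.base x')} := ⟨hyz.mem_closure, hz⟩
    have h1 : (⟨z, hmem⟩ : ↥(closure ({y} : Set X) ∩ f ⁻¹' {f (ι.base x')})) ⤳ ⟨ι.base x', hx, rfl⟩ :=
      Topology.IsInducing.subtypeVal.specializes_iff.1 hzx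
    have h2 : C ⊆ closure {(⟨z, hmem⟩ : ↥(closure ({y} : Set X) ∩ f ⁻¹' {f (ι.base x')}))} := by
      rw [← hgC.def]
      exact h1.closure_subset
    have h3 : C = closure {(⟨z, hmem⟩ : ↥(closure ({y} : Set X) ∩ f ⁻¹' {f (ι.base x')}))} :=
      le_antisymm h2 (hC.2 isIrreducible_singleton.closure h2)
    have h4 : (⟨ι.base x', hx, rfl⟩ : ↥(closure ({y} : Set X) ∩ f ⁻¹' {f (ι.base x')})) ⤳ ⟨z, hmem⟩ :=
      specializes_iff_mem_closure.2 (hgC.def.symm ▸ h3.symm ▸ subset_closure rfl)
    exact (hzx.antisymm (Topology.IsInducing.subtypeVal.specializes_iff.2 h4)).eq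
  refine ⟨RelDimLib.mem_relAss_of_max f F hF.2 y hy _ (specializes_iff_mem_closure.2 hx) hmax hfl, ?_⟩
  have h := RelDimLib.fibreDimAt_eq f F hF.2 y hy ι hι x'
    (fun x'' h1 h2 => ι.isClosedEmbedding.injective (hmax _ h1 (specializes_iff_mem_closure.2 (hι ▸ Set.mem_range_self x''))
      ((specializes_iff_mem_closure.2 h2).map ι.continuous))) hfl
  rw [← UOpenLib.fibreClosureDim_eq_inter f y, ← h]
  let h' := ((ι ≫ f).fiberHomeo ((ι ≫ f).base x')).trans e
  have hd := FibDimLib.localDim_eq_of_isOpenEmbedding h'.isOpenEmbedding ((ι ≫ f).asFiber x')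
  have hp : h' ((ι ≫ f).asFiber x') = (⟨ι.base x', hx, rfl⟩ : ↥(closure ({y} : Set X) ∩ f ⁻¹' {f (ι.base x')})) := by
    refine Subtype.ext ?_
    show ι.base (((ι ≫ f).fiberHomeo _ ((ι ≫ f).asFiber x')).1) = ι.base x'
    exact congrArg ι.base ((ι ≫ f).fiberι_asFiber x')
  rw [FlatMor.fibreDimAt]
  exact hp ▸ hd

end Groth.Agent.S1470
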