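import Groth.Statements.S14700
import Groth.Agent.SurfNumLib.RRApps
import Groth.Agent.SurfNumLib.Config
import Groth.Agent.SurfNumLib.IdealMul
import Groth.Agent.AlgSpRegLib.CartierMul
import Groth.Agent.FibDimLib.ClosureDim
import Groth.Agent.NormGenusLib.Components
import Groth.Agent.DevissLib.ClosedImm
import Groth.Agent.LefAlgzLib.Hom
import Groth.Agent.NefH1Lib.Core
import Groth.Agent.PluriEmbLib.AlgClosed

set_option autoImplicit false
set_option backward.isDefEq.respectTransparency false
set_option backward.isDefEq.respectTransparency.types false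
set_option maxHeartbeats 1000000
universe u
open CategoryTheory CategoryTheory.Limits AlgebraicGeometry
open Surf

namespace Groth.Agent.S14700


section Aux
open CategoryTheory CategoryTheory.Limits AlgebraicGeometry TopologicalSpace Opposite
open HilbPolyLib DevissLib IntMultLib IntFunLib HodgeIdxLib

variable {X : Scheme.{u}}

theorem sum_lt_succ {m : ℕ} (F : Fin (m + 1) → ℤ) (g : Fin (m + 1) → Fin (m + 1) → ℤ)
    (hF : ∀ i, F i = ∑ j, if i < j then g i j else 0) :
    ∑ i, F i = (∑ j : Fin m, g 0 j.succ) + ∑ i : Fin m, ∑ j : Fin m, if i < j then g i.succ j.succ else 0 := by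
  rw [Fin.sum_univ_succ]
  simp only [hF]
  congr 1
  · rw [Fin.sum_univ_succ]
    simp
  · refine Finset.sum_congr rfl fun i _ => ?_
    rw [Fin.sum_univ_succ]
    simp [Fin.succ_lt_succ_iff]

theorem nonempty_preimage (C : X.IdealSheafData) (U : X.affineOpens) (h : C.ideal U ≠ ⊤) :
    ∃ w, w ∈ C.subschemeι ⁻¹ᵁ U.1 := by
  by_contra hn
  push Not at hn
  haveI : Nontrivial (Γ(X, U.1) ⧸ C.ideal U) := Ideal.Quotient.nontrivial_iff.2 h
  have hb : C.subschemeι ⁻¹ᵁ U.1 = ⊥ := le_bot_iff.1 fun z hz => (hn z hz).elim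
  haveI : Subsingleton Γ(C.subscheme, C.subschemeι ⁻¹ᵁ U.1) := by rw [hb]; infer_instance
  exact not_subsingleton (Γ(X, U.1) ⧸ C.ideal U) (C.subschemeObjIso U).commRingCatIsoToRingEquiv.symm.toEquiv.subsingleton

theorem isPrime_ideal (C : X.IdealSheafData) [IsIntegral C.subscheme] (U : X.affineOpens) (h : C.ideal U ≠ ⊤) :
    (C.ideal U).IsPrime := by
  rw [← Ideal.Quotient.isDomain_iff_prime]
  haveI : Nontrivial (Γ(X, U.1) ⧸ C.ideal U) := Ideal.Quotient.nontrivial_iff.2 h
  let e := (C.subschemeObjIso U).commRingCatIsoToRingEquiv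
  haveI : Nontrivial Γ(C.subscheme, C.subschemeι ⁻¹ᵁ U.1) := e.toEquiv.nontrivial
  haveI : Nonempty (C.subschemeι ⁻¹ᵁ U.1) := by
    obtain ⟨w, hw⟩ := nonempty_preimage C U h
    exact ⟨⟨w, hw⟩⟩
  exact MulEquiv.isDomain _ e.symm.toMulEquiv

theorem inf_eq_mul {κ : Type*} [Finite κ] (C : κ → X.IdealSheafData) (P : X.IdealSheafData) [hP : IsIntegral P.subscheme]
    [∀ j, IsIntegral (C j).subscheme] (hPc : BlowUp.IsEffCartierIdeal P)
    (hne : ∀ j, ¬ ((C j).support : Set X) ⊆ (P.support : Set X)) :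
    P ⊓ (⨅ j, C j) = P * (⨅ j, C j) := by
  choose U hxU a ha hPU using hPc
  refine Scheme.IdealSheafData.ext_of_iSup_eq_top (fun x => U x) (top_le_iff.1 fun x _ => Opens.mem_iSup.2 ⟨x, hxU x⟩) fun x => ?_
  have e : (⨅ j, C j).ideal (U x) = ⨅ j, (C j).ideal (U x) := by
    rw [Scheme.IdealSheafData.ideal_iInf, iInf_apply]
  show P.ideal (U x) ⊓ (⨅ j, C j).ideal (U x) = P.ideal (U x) * (⨅ j, C j).ideal (U x)
  rw [e, hPU x]
  refine le_antisymm (fun y hy => ?_) Ideal.mul_le_inf
  obtain ⟨hy1, hy2⟩ := hy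
  obtain ⟨r, rfl⟩ := Ideal.mem_span_singleton'.1 hy1
  rw [mul_comm r (a x)]
  refine Ideal.mul_mem_mul (Ideal.mem_span_singleton_self _) (Ideal.mem_iInf.2 fun j => ?_)
  rcases eq_or_ne ((C j).ideal (U x)) ⊤ with h | h
  · rw [h]; trivial
  have hprime : ((C j).ideal (U x)).IsPrime := isPrime_ideal (C j) (U x) h
  refine (hprime.mem_or_mem (Ideal.mem_iInf.1 hy2 j)).resolve_right fun haj => hne j ?_
  have hle : P.ideal (U x) ≤ (C j).ideal (U x) := by rw [hPU, Ideal.span_le, Set.singleton_subset_iff]; exact haj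
  have hmeet : (((C j).support : Set X) ∩ (U x).1).Nonempty := by
    obtain ⟨w, hw⟩ := nonempty_preimage (C j) (U x) h
    refine ⟨(C j).subschemeι w, ?_, hw⟩
    rw [← (C j).range_subschemeι]
    exact ⟨w, rfl⟩
  have hirr : IsPreirreducible ((C j).support : Set X) := by
    rw [← (C j).range_subschemeι, ← Set.image_univ]
    exact (IrreducibleSpace.isIrreducible_univ _).2.image _ (C j).subschemeι.continuous.continuousOn
  obtain ⟨z, hz, hzU⟩ := hmeet
  refine (subset_closure_inter_of_isPreirreducible_of_isOpen hirr (U x).1.isOpen ⟨z, hz, hzU⟩).trans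
    (closure_minimal ?_ P.support.isClosed)
  rw [(C j).coe_support_inter (U x)]
  refine fun w hw => ?_
  have h2 : w ∈ X.zeroLocus (U := (U x).1) (P.ideal (U x)) ∩ (U x).1 := by
    refine ⟨?_, hw.2⟩
    rw [Scheme.mem_zeroLocus_iff]
    exact fun f hf => (Scheme.mem_zeroLocus_iff _ _ _).1 hw.1 f (hle hf)
  rw [← P.coe_support_inter (U x)] at h2
  exact h2.1

theorem isReduced_iInf {κ : Type*} [Finite κ] (C : κ → X.IdealSheafData) [∀ j, IsIntegral (C j).subscheme] :
    IsReduced (⨅ j, C j).subscheme := by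
  have h : (⨅ j, C j) = (⨅ j, C j).radical := by
    refine Scheme.IdealSheafData.ext ?_
    funext U
    rw [Scheme.IdealSheafData.radical_ideal]
    simp only [Scheme.IdealSheafData.ideal_iInf, iInf_apply]
    refine (Ideal.radical_eq_iff.2 ?_).symm
    intro y hy
    obtain ⟨m, hm⟩ := hy
    refine Ideal.mem_iInf.2 fun j => ?_
    rcases eq_or_ne ((C j).ideal U) ⊤ with h | h
    · rw [h]; trivial
    exact (isPrime_ideal (C j) U h).mem_of_pow_mem m (Ideal.mem_iInf.1 hm j)
  rw [h, ← Scheme.IdealSheafData.vanishingIdeal_support]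
  exact DevissLib.isReduced_vanishingIdeal' _

variable {k : Type u} [Field k] [IsAlgClosed k] [X.Over (Spec (CommRingCat.of k))]
  [IsProper (X ↘ Spec (CommRingCat.of k))] [IsIntegral X]

omit [IsAlgClosed k] [IsProper (X ↘ Spec (CommRingCat.of k))] [IsIntegral X] in
theorem pr_eq (P Q : X.Modules) : pr k P Q =
    (Curv2.euler k X (CohB1.tensorMod Q (CohB1.tensorMod P (Coh.structureModule X))) -
      Curv2.euler k X (CohB1.tensorMod P (Coh.structureModule X))) -
    (Curv2.euler k X (CohB1.tensorMod Q (Coh.structureModule X)) - Curv2.euler k X (Coh.structureModule X)) := rfl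

/-- A point of a finite union lies on one of the members. -/
theorem exists_mem_support {κ : Type*} [Finite κ] (C : κ → X.IdealSheafData) {z : X}
    (hz : z ∈ ((⨅ j, C j).support : Set X)) : ∃ j, z ∈ ((C j).support : Set X) := by
  classical
  haveI := Fintype.ofFinite κ
  obtain ⟨_, ⟨V, hV, rfl⟩, hzV, -⟩ := X.isBasis_affineOpens.exists_subset_of_mem_open (Set.mem_univ z) isOpen_univ
  by_contra hn
  push Not at hn
  have hmem : z ∈ ((⨅ j, C j).support : Set X) ∩ (⟨V, hV⟩ : X.affineOpens).1 := ⟨hz, hzV⟩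
  have h' := ((⨅ j, C j).coe_support_inter ⟨V, hV⟩).subset hmem
  have hf : ∀ j, ∃ f ∈ (C j).ideal ⟨V, hV⟩, z ∈ X.basicOpen f := fun j => by
    by_contra hf
    push Not at hf
    exact hn j (((C j).coe_support_inter ⟨V, hV⟩).symm.subset ⟨(Scheme.mem_zeroLocus_iff _ _ _).2 hf, hzV⟩).1
  choose f hf hfz using hf
  refine (Scheme.mem_zeroLocus_iff _ _ _).1 h'.1 (∏ j, f j) ?_ ?_
  · show _ ∈ (⨅ j, C j).ideal ⟨V, hV⟩
    rw [Scheme.IdealSheafData.ideal_iInf, iInf_apply, Ideal.mem_iInf]
    exact fun j => Ideal.mem_of_dvd _ (Finset.dvd_prod_of_mem f (Finset.mem_univ j)) (hf j)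
  · rw [Scheme.mem_basicOpen X _ z hzV, map_prod, IsUnit.prod_iff]
    exact fun j _ => (Scheme.mem_basicOpen X _ z hzV).1 (hfz j)

/-- The pairing is the defect of the Euler characteristic. -/
theorem euler_mul (hX : topologicalKrullDim X = 2) {I J : X.IdealSheafData} (hI : BlowUp.IsEffCartierIdeal I) (hJ : BlowUp.IsEffCartierIdeal J) :
    Curv2.euler k X (ClSub.quotMod (I * J)) = Curv2.euler k X (ClSub.quotMod I) + Curv2.euler k X (ClSub.quotMod J) -
      pr k (ClSub.idealMod I) (ClSub.idealMod J) := by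
  haveI := CurvLib.isNoetherian k (X := X)
  have hadd : ∀ {K : X.IdealSheafData}, BlowUp.IsEffCartierIdeal K → Curv2.euler k X (Coh.structureModule X) =
      Curv2.euler k X (ClSub.idealMod K) + Curv2.euler k X (ClSub.quotMod K) := fun {K} hK => by
    have := CurvLib.euler_add_of_isCoh (k := k) (S := CurvLib.idealSeq K) (CurvLib.idealSeq_shortExact _)
      (CurvLib.isCoh_of_isInvertible (IntMultLib.isInvertible_idealMod K hK)) (DevissLib.isCoh_structureModule X) (CurvLib.isCoh_quotMod _)
    exact this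
  have h1 := hadd hI
  have h2 := hadd hJ
  have h3 := hadd (AlgSpRegLib.isEffCartier_mul hI hJ)
  obtain ⟨φ, -, -⟩ := SurfNumLib.exists_idealMod_mul hI hJ
  have e1 : Curv2.euler k X (CohB1.tensorMod (ClSub.idealMod I) (Coh.structureModule X)) = Curv2.euler k X (ClSub.idealMod I) :=
    CurvLib.euler_congr (HilbPolyLib.swapIso _ _ ≪≫ HilbPolyLib.unitLeft _)
  have e2 : Curv2.euler k X (CohB1.tensorMod (ClSub.idealMod J) (Coh.structureModule X)) = Curv2.euler k X (ClSub.idealMod J) :=
    CurvLib.euler_congr (HilbPolyLib.swapIso _ _ ≪≫ HilbPolyLib.unitLeft _)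
  have e3 : Curv2.euler k X (CohB1.tensorMod (ClSub.idealMod J) (CohB1.tensorMod (ClSub.idealMod I) (Coh.structureModule X))) =
      Curv2.euler k X (ClSub.idealMod (I * J)) := by
    refine (CurvLib.euler_congr ?_).trans (CurvLib.euler_congr φ)
    exact HilbPolyLib.swapIso _ _ ≪≫ HilbPolyLib.congrLeft (HilbPolyLib.swapIso (ClSub.idealMod I) (Coh.structureModule X) ≪≫ HilbPolyLib.unitLeft (ClSub.idealMod I)) (ClSub.idealMod J)
  rw [pr_eq, e1, e2, e3]
  linarith

/-- The Euler characteristic of a union of curves. -/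
theorem euler_union (hX : topologicalKrullDim X = 2) (hreg : ∀ x : X, IsRegularLocalRing (X.presheaf.stalk x)) :
    ∀ (n : ℕ) (C : Fin (n + 1) → X.IdealSheafData), (∀ i, IsIntegral (C i).subscheme) →
      (∀ i, topologicalKrullDim ((C i).support : Set X) = 1) → Function.Injective C →
      BlowUp.IsEffCartierIdeal (⨅ i, C i) ∧
      (∀ Q : X.Modules, PicF.IsInvertible Q →
        pr k (ClSub.idealMod (⨅ i, C i)) Q = ∑ i, pr k (ClSub.idealMod (C i)) Q) ∧
      Curv2.euler k X (ClSub.quotMod (⨅ i, C i)) =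
        (∑ i, Curv2.euler k X (ClSub.quotMod (C i))) -
          ∑ i : Fin (n + 1), ∑ j : Fin (n + 1), if i < j then pr k (ClSub.idealMod (C i)) (ClSub.idealMod (C j)) else 0
  | 0, C, hi, hd, hinj => by
    haveI := hi
    have h0 : (⨅ i, C i) = C 0 := le_antisymm (iInf_le _ _) (le_iInf fun i => by rw [Fin.fin_one_eq_zero i])
    rw [h0]
    exact ⟨SurfNumLib.isEffCartier_curve (k := k) hX hreg (C 0) (hd 0), fun Q _ => by simp, by simp⟩
  | n + 1, C, hi, hd, hinj => by
    haveI := hi
    have hP := SurfNumLib.isEffCartier_curve (k := k) hX hreg (C 0) (hd 0)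
    obtain ⟨hc, hpr, he⟩ := euler_union hX hreg n (fun i => C i.succ) (fun i => hi _) (fun i => hd _)
      (hinj.comp (Fin.succ_injective (n + 1)))
    have hsplit : (⨅ i, C i) = C 0 ⊓ ⨅ i : Fin (n + 1), C i.succ := by
      refine le_antisymm (le_inf (iInf_le _ 0) (le_iInf fun i => iInf_le _ _)) (le_iInf fun i => ?_)
      refine Fin.cases inf_le_left (fun i => inf_le_right.trans (iInf_le _ i)) i
    have hmul := inf_eq_mul (fun i : Fin (n + 1) => C i.succ) (C 0) hP fun j =>
      SurfNumLib.not_subset_of_ne (hd 0) (hd _) fun h => (Fin.succ_ne_zero j) (hinj h).symm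
    have hJ := hc
    obtain ⟨φ, -, -⟩ := SurfNumLib.exists_idealMod_mul hP hJ
    rw [hsplit, hmul]
    refine ⟨AlgSpRegLib.isEffCartier_mul hP hJ, fun Q hQ => ?_, ?_⟩
    · rw [Fin.sum_univ_succ, ← hpr Q hQ, ← HodgeIdxLib.pr_tensor hX.le (IntMultLib.isInvertible_idealMod _ hP)
        (IntMultLib.isInvertible_idealMod _ hJ) hQ]
      exact (HodgeIdxLib.N_congr_head φ _ _).symm
    · rw [euler_mul hX hP hJ, he, HodgeIdxLib.pr_comm, hpr _ (IntMultLib.isInvertible_idealMod _ hP),
        Fin.sum_univ_succ (f := fun i => Curv2.euler k X (ClSub.quotMod (C i)))]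
      rw [sum_lt_succ (fun i => ∑ j, if i < j then pr k (ClSub.idealMod (C i)) (ClSub.idealMod (C j)) else 0) (fun i j => pr k (ClSub.idealMod (C i)) (ClSub.idealMod (C j))) (fun _ => rfl)]
      have hc' : ∑ x : Fin (n + 1), pr k (ClSub.idealMod (C x.succ)) (ClSub.idealMod (C 0)) =
          ∑ x : Fin (n + 1), pr k (ClSub.idealMod (C 0)) (ClSub.idealMod (C x.succ)) :=
        Finset.sum_congr rfl fun x _ => HodgeIdxLib.pr_comm _ _
      rw [hc']
      ring

end Aux

/-- Let k be an algebraically closed field and X an integral scheme of dimension two with all local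
rings regular, admitting a closed immersion into some P^n_k over k. Let C_1, …, C_n be pairwise
distinct integral one-dimensional closed subschemes of X with ideal sheaves I_1, …, I_n, and let Y
be the reduced closed subscheme with ideal I_1 ∩ ⋯ ∩ I_n (their union); assume Y is connected. Then
χ(O_Y) ≤ 1, i.e. the arithmetic genus 1 - χ(O_Y) of Y is nonnegative. If moreover χ(O_Y) = 1, then
χ(O_{C_i}) = 1 for every i (each C_i has arithmetic genus zero) and Σ_{i<j} (C_i · C_j) = n - 1, so
that the incidence graph of the C_i, which is connected with Σ_{i<j} (C_i · C_j) edges, contains no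
cycle; here (C_i · C_j) = χ(O_X) - χ(I_i) - χ(I_j) + χ(I_i ⊗ I_j) is the intersection number
(packaged as FGA.intNum). (The published statement allows any integral projective surface regular in
codimension one; this row takes X with all local rings regular, where the intersection numbers used
by the proof are defined.) -/
theorem result (k : Type u) [Field k] [IsAlgClosed k] (X : Scheme.{u}) [X.Over (Spec (CommRingCat.of k))]
    [IsIntegral X] (hdim : topologicalKrullDim X = 2)
    (hproj : ∃ (n : ℕ) (ι : X ⟶ CohB1.ProjSpace n k), IsClosedImmersion ι ∧ ι ≫ CohB1.ProjSpace.toSpec n k = (X ↘ (Spec (CommRingCat.of k))))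
    (hreg : ∀ x : X, IsRegularLocalRing (X.presheaf.stalk x))
    (n : ℕ) (C : Fin n → X.IdealSheafData) (hCint : ∀ i, IsIntegral (C i).subscheme)
    (hCdim : ∀ i, topologicalKrullDim ((C i).support : Set X) = 1)
    (hCinj : Function.Injective fun i => ((C i).support : Set X))
    (hconn : _root_.IsConnected ((⨅ i, C i).support : Set X)) :
    Curv2.euler k X (ClSub.quotMod (⨅ i, C i)) ≤ 1 ∧
      (Curv2.euler k X (ClSub.quotMod (⨅ i, C i)) = 1 →
        (∀ i, Curv2.euler k X (ClSub.quotMod (C i)) = 1) ∧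
          (∑ i : Fin n, ∑ j : Fin n,
              if i < j then FGA.intNum k X 2 ![ClSub.idealMod (C i), ClSub.idealMod (C j)] (Coh.structureModule X) else 0) =
            (n : ℤ) - 1) := by
  obtain ⟨N, ι, hι, hιc⟩ := hproj
  haveI := hι
  haveI : IsProper (X ↘ Spec (CommRingCat.of k)) := SurfNumLib.isProper_of_embedding (k := k) ι hιc
  haveI := CurvLib.isNoetherian k (X := X)
  haveI := hCint
  set Y := ⨅ i, C i with hY
  haveI : IsReduced Y.subscheme := isReduced_iInf C
  have hsupp : ∀ i, ((C i).support : Set X) ⊆ (Y.support : Set X) := fun i =>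
    Scheme.IdealSheafData.support_antitone (iInf_le C i)
  have hdimY : topologicalKrullDim (CohB1.support (ClSub.quotMod Y)) ≤ (1 : ℕ) := by
    have h1 : topologicalKrullDim Y.subscheme ≤ (1 : ℕ) := by
      refine FibDimLib.topologicalKrullDim_le_of_points fun y => ?_
      have hy : Y.subschemeι y ∈ (Y.support : Set X) := by rw [← Y.range_subschemeι]; exact ⟨y, rfl⟩
      obtain ⟨j, hj⟩ : ∃ j, Y.subschemeι y ∈ ((C j).support : Set X) := exists_mem_support C hy
      have hsub : ∀ z ∈ closure ({y} : Set Y.subscheme), Y.subschemeι z ∈ ((C j).support : Set X) := fun z hz =>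
        closure_minimal (Set.singleton_subset_iff.2 hj) (C j).support.isClosed
          (by simpa using image_closure_subset_closure_image Y.subschemeι.continuous ⟨z, hz, rfl⟩)
      let g : closure ({y} : Set Y.subscheme) → ((C j).support : Set X) := fun z => ⟨Y.subschemeι z.1, hsub _ z.2⟩
      have hg : Topology.IsInducing g :=
        ((Y.subschemeι.isEmbedding.isInducing.comp Topology.IsInducing.subtypeVal).codRestrict _)
      exact hg.topologicalKrullDim_le.trans (by rw [hCdim j]; rfl)
    rw [SurfNumLib.support_quotMod_eq, ← Y.range_subschemeι]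
    exact (le_of_eq (IsHomeomorph.topologicalKrullDim_eq _ Y.subschemeι.isEmbedding.toHomeomorph.isHomeomorph).symm).trans h1
  have hh0 : HodgeIdxLib.hh k (ClSub.quotMod Y) 0 = 1 := by
    letI : Y.subscheme.Over (Spec (CommRingCat.of k)) := ⟨Y.subschemeι ≫ (X ↘ Spec (CommRingCat.of k))⟩
    haveI : IsProper (Y.subscheme ↘ Spec (CommRingCat.of k)) :=
      inferInstanceAs (IsProper (Y.subschemeι ≫ (X ↘ Spec (CommRingCat.of k))))
    haveI : ConnectedSpace Y.subscheme := by
      refine connectedSpace_iff_univ.2 ⟨?_, ?_⟩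
      · obtain ⟨z, hz⟩ := hconn.1
        rw [← Y.range_subschemeι] at hz
        obtain ⟨w, -⟩ := hz
        exact ⟨w, trivial⟩
      · rw [← Y.subschemeι.isEmbedding.isInducing.isPreconnected_image, Set.image_univ, Y.range_subschemeι]
        exact hconn.2
    rw [SurfNumLib.hh_quot (k := k) Y rfl]
    exact (NormGenusLib.finrank_h0_eq_natCard k Y.subscheme).trans Nat.card_unique
  have heY := HodgeIdxLib.euler_eq_of_dim_one (k := k) (CurvLib.isCoh_quotMod Y) hdimY
  rw [hh0] at heY
  refine ⟨by omega, fun h1 => ?_⟩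
  have hh1 : HodgeIdxLib.hh k (ClSub.quotMod Y) 1 = 0 := by omega
  haveI := CurvLib.finite_HH (k := k) (CurvLib.isCoh_quotMod Y) 1
  have hsub : Subsingleton (Coh.HH X (ClSub.quotMod Y) 1) := (Module.finrank_zero_iff (R := k)).1 hh1
  have hC : ∀ i, Curv2.euler k X (ClSub.quotMod (C i)) = 1 := fun i => by
    rw [HodgeIdxLib.euler_eq_of_dim_one (CurvLib.isCoh_quotMod _) (by rw [SurfNumLib.support_quotMod_eq, hCdim i]; rfl),
      SurfNumLib.h0_quot (C i)]
    have hle : Y ≤ C i := iInf_le C i
    haveI : Epi (ClSub.toSubscheme Y ≫ Lef.quotMap hle) := by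
      rw [LefAlgzLib.toSubscheme_quotMap]; exact CurvLib.epi_toSubscheme _
    haveI : Epi (Lef.quotMap hle) := epi_of_epi (ClSub.toSubscheme Y) _
    have hker : Coh.IsCoh (kernel (Lef.quotMap hle)) := QCohLib.isCoh_kernel _ (CurvLib.isCoh_quotMod Y) (CurvLib.isCoh_quotMod _).1
    have h2 : Subsingleton (Coh.HH X (kernel (Lef.quotMap hle)) 2) :=
      CurvLib.subsingleton_HH_of_support_dim _ hker.2 (d := 1) (le_trans ((Topology.IsEmbedding.inclusion
        (PluriEmbLib.support_subset_of_mono (kernel.ι (Lef.quotMap hle)))).isInducing.topologicalKrullDim_le) hdimY) 2 (by norm_num)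
    haveI : Subsingleton (Coh.HH X (ClSub.quotMod (C i)) 1) :=
      (LichtLib.surjective_g (NefH1Lib.kernel_shortExact (Lef.quotMap hle)) h2 : Function.Surjective
        (LichtLib.hm (Lef.quotMap hle) 1)).subsingleton
    have : HodgeIdxLib.hh k (ClSub.quotMod (C i)) 1 = 0 := Module.finrank_zero_of_subsingleton
    omega
  refine ⟨hC, ?_⟩
  have hX2 : topologicalKrullDim X = ((2 : ℕ) : WithBot ℕ∞) := by rw [hdim]; rfl
  obtain ⟨m, rfl⟩ : ∃ m, n = m + 1 := by
    rcases Nat.eq_zero_or_pos n with rfl | hn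
    · obtain ⟨z, hz⟩ := hconn.1
      exact (exists_mem_support C hz).choose.elim0
    · exact ⟨n - 1, by omega⟩
  obtain ⟨-, -, he⟩ := euler_union (k := k) hdim hreg m C hCint hCdim
    (fun a b hab => hCinj (by show ((C a).support : Set X) = (C b).support; rw [hab]))
  simp only [SurfNumLib.intNum_eq_pr_two hdim]
  rw [← hY, h1] at he
  simp only [hC, Finset.sum_const, Finset.card_univ, Fintype.card_fin, smul_eq_mul, mul_one, nsmul_eq_mul] at he
  linarith

end Groth.Agent.S14700
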