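import Groth.Statements.S14701
import Groth.Agent.S14700
import Groth.Agent.S15544
import Groth.Agent.S4808
import Groth.Agent.S1485
import Groth.Agent.S7834
import Groth.Agent.RatModLib.VanBasic
import Groth.Agent.AlbLib.AlgClosed
import Groth.Agent.EllSecLib.Main
import Groth.Agent.SurfNumLib.Meet

set_option autoImplicit false
set_option backward.isDefEq.respectTransparency false
set_option backward.isDefEq.respectTransparency.types false
set_option maxHeartbeats 1000000
universe u
open CategoryTheory CategoryTheory.Limits AlgebraicGeometry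
open Resolve

namespace Groth.Agent.S14701
open TopologicalSpace

theorem le_zero_of_lt_one {a : WithBot ℕ∞} (h : a < 1) : a ≤ 0 := by
  induction a with
  | bot => exact bot_le
  | coe a => exact WithBot.coe_le_coe.2 (le_of_eq (ENat.lt_one_iff_eq_zero.1 (WithBot.coe_lt_coe.1 h)))


section Aux
open CategoryTheory CategoryTheory.Limits AlgebraicGeometry TopologicalSpace Opposite

variable {k : Type u} [Field k] [IsAlgClosed k] {Y : Scheme.{u}} [Y.Over (Spec (CommRingCat.of k))]
  [IsProper (Y ↘ Spec (CommRingCat.of k))]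

include k in
/-- Vanishing of `H¹` descends to a closed subscheme of a one-dimensional closed subscheme. -/
theorem h1_mono {J J' : Y.IdealSheafData} (h : J ≤ J')
    (hd : topologicalKrullDim (CohB1.support (ClSub.quotMod J)) ≤ (1 : ℕ))
    (h1 : Subsingleton (Coh.HH Y (ClSub.quotMod J) 1)) : Subsingleton (Coh.HH Y (ClSub.quotMod J') 1) := by
  haveI := CurvLib.isNoetherian k (X := Y)
  haveI : Epi (ClSub.toSubscheme J ≫ Lef.quotMap h) := by
    rw [LefAlgzLib.toSubscheme_quotMap]; exact CurvLib.epi_toSubscheme _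
  haveI : Epi (Lef.quotMap h) := epi_of_epi (ClSub.toSubscheme J) _
  have hker : Coh.IsCoh (kernel (Lef.quotMap h)) :=
    QCohLib.isCoh_kernel _ (CurvLib.isCoh_quotMod J) (CurvLib.isCoh_quotMod _).1
  have h2 : Subsingleton (Coh.HH Y (kernel (Lef.quotMap h)) 2) :=
    CurvLib.subsingleton_HH_of_support_dim _ hker.2 (d := 1) (le_trans ((Topology.IsEmbedding.inclusion
      (PluriEmbLib.support_subset_of_mono (kernel.ι (Lef.quotMap h)))).isInducing.topologicalKrullDim_le) hd) 2 (by norm_num)
  exact (LichtLib.surjective_g (NefH1Lib.kernel_shortExact (Lef.quotMap h)) h2 : Function.Surjective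
    (LichtLib.hm (Lef.quotMap h) 1)).subsingleton

/-- An integral curve without `H¹` is a line. -/
theorem nonempty_line (E : Y.IdealSheafData) [IsIntegral E.subscheme] (hd : topologicalKrullDim (E.support : Set Y) = 1)
    (h1 : Subsingleton (Coh.HH Y (ClSub.quotMod E) 1)) : Nonempty (E.subscheme ≅ CohB1.ProjSpace 1 k) := by
  letI : E.subscheme.Over (Spec (CommRingCat.of k)) := ⟨E.subschemeι ≫ (Y ↘ Spec (CommRingCat.of k))⟩
  haveI : IsProper (E.subscheme ↘ Spec (CommRingCat.of k)) :=
    inferInstanceAs (IsProper (E.subschemeι ≫ (Y ↘ Spec (CommRingCat.of k))))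
  have hd' : topologicalKrullDim E.subscheme = 1 := by
    rw [IsHomeomorph.topologicalKrullDim_eq _ E.subschemeι.isEmbedding.toHomeomorph.isHomeomorph, E.range_subschemeι, hd]
  have h1' : Subsingleton (Coh.HH E.subscheme (Coh.structureModule E.subscheme) 1) := by
    haveI := CurvLib.isNoetherian k (X := E.subscheme)
    haveI := CurvLib.finite_HH (k := k) (DevissLib.isCoh_structureModule E.subscheme) 1
    haveI := h1
    refine (Module.finrank_zero_iff (R := k)).1 ?_
    exact (SurfNumLib.hh_quot (k := k) E rfl 1).symm.trans Module.finrank_zero_of_subsingleton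
  haveI : IsIntegral (Over.mk (E.subscheme ↘ Spec (CommRingCat.of k))).left := ‹IsIntegral E.subscheme›
  haveI : LocallyOfFiniteType (Over.mk (E.subscheme ↘ Spec (CommRingCat.of k))).hom :=
    inferInstanceAs (LocallyOfFiniteType (E.subscheme ↘ Spec (CommRingCat.of k)))
  haveI : GeometricallyIntegral (E.subscheme ↘ Spec (CommRingCat.of k)) :=
    AlbLib.geometricallyIntegral_of_isIntegral (Over.mk (E.subscheme ↘ Spec (CommRingCat.of k)))
  obtain ⟨φ, -⟩ := Groth.Agent.S7834.result k E.subscheme hd' (by haveI := h1'; exact Module.finrank_zero_of_subsingleton)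
  exact ⟨φ⟩

end Aux

/-- Let k be an algebraically closed field and X an integral normal scheme of dimension two admitting a
closed immersion into some P^n_k over k. Let φ : Y → X be a k-morphism from an integral scheme Y of
dimension two with all local rings regular, itself admitting a closed immersion into some P^m_k over
k, which restricts to an isomorphism over an open subset U of X with finite complement, and assume
R^1 φ_* O_Y = 0 (first right derived functor of the direct image on abelian sheaves), so that the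
singular points of X are rational singularities. Let x be a point of X whose local ring is not
regular and E_1, …, E_n pairwise distinct integral one-dimensional closed subschemes of Y mapped by
φ to x such that every integral one-dimensional closed subscheme of Y mapped to x has the support of
one of them. Then every E_i is isomorphic to the projective line P^1_k, and Σ_{i<j} (E_i · E_j) = n
- 1, so that the incidence graph of the E_i (connected, as the fibre is connected) is a tree; here
(E_i · E_j) = χ(O_Y) - χ(I_i) - χ(I_j) + χ(I_i ⊗ I_j), I_i the ideal sheaves (packaged as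
FGA.intNum). (The published statement is for a resolved model, whose exceptional curves are
nonsingular with normal crossings, and takes rationality in any of five forms it quotes as
equivalent; this row assumes the vanishing of R^1 φ_* O_Y, the first of them, and the passage from
it to the nonpositivity of arithmetic genera of exceptional cycles used in the proof is taken from
the literature.) -/
theorem result (k : Type u) [Field k] [IsAlgClosed k] (X : Scheme.{u}) [X.Over (Spec (CommRingCat.of k))]
    [IsIntegral X] (hdim : topologicalKrullDim X = 2)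
    (hproj : ∃ (n : ℕ) (ι : X ⟶ CohB1.ProjSpace n k), IsClosedImmersion ι ∧ ι ≫ CohB1.ProjSpace.toSpec n k = (X ↘ (Spec (CommRingCat.of k))))
    (hnorm : Pi1.IsNormalScheme X) (U : X.Opens) (hU : ((U : Set X)ᶜ).Finite)
    (Y : Scheme.{u}) (φ : Y ⟶ X) [IsIntegral Y] (hdimY : topologicalKrullDim Y = 2)
    (hregY : ∀ y : Y, IsRegularLocalRing (Y.presheaf.stalk y))
    (hprojY : ∃ (n : ℕ) (ι : Y ⟶ CohB1.ProjSpace n k), IsClosedImmersion ι ∧ ι ≫ CohB1.ProjSpace.toSpec n k = φ ≫ (X ↘ (Spec (CommRingCat.of k))))
    (hisoY : IsIso (φ ∣_ U))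
    (hrat : IsZero ((Coh.RpushAb φ 1).obj (Coh.toAb (Coh.structureModule Y))))
    (x : X) (hx : ¬ IsRegularLocalRing (X.presheaf.stalk x))
    (n : ℕ) (E : Fin n → Y.IdealSheafData) (hEint : ∀ i, IsIntegral (E i).subscheme)
    (hEdim : ∀ i, topologicalKrullDim ((E i).support : Set Y) = 1)
    (hEpt : ∀ i, φ.base '' ((E i).support : Set Y) = {x})
    (hEinj : Function.Injective fun i => ((E i).support : Set Y))
    (hEall : ∀ F : Y.IdealSheafData, IsIntegral F.subscheme → topologicalKrullDim (F.support : Set Y) = 1 →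
      φ.base '' (F.support : Set Y) = {x} → ∃ i, (F.support : Set Y) = (E i).support) :
    letI : Y.Over (Spec (CommRingCat.of k)) := ⟨φ ≫ (X ↘ (Spec (CommRingCat.of k)))⟩
    (∀ i, Nonempty ((E i).subscheme ≅ CohB1.ProjSpace 1 k)) ∧
      (∑ i : Fin n, ∑ j : Fin n,
          if i < j then FGA.intNum k Y 2 ![ClSub.idealMod (E i), ClSub.idealMod (E j)] (Coh.structureModule Y) else 0) =
        (n : ℤ) - 1 := by
  letI : Y.Over (Spec (CommRingCat.of k)) := ⟨φ ≫ (X ↘ (Spec (CommRingCat.of k)))⟩
  obtain ⟨N, ι, hι, hιc⟩ := id hproj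
  obtain ⟨M, ι', hι', hιc'⟩ := id hprojY
  haveI := hι
  haveI := hι'
  haveI hpX : IsProper (X ↘ Spec (CommRingCat.of k)) := SurfNumLib.isProper_of_embedding (k := k) ι hιc
  haveI hpY : IsProper (Y ↘ Spec (CommRingCat.of k)) := SurfNumLib.isProper_of_embedding (k := k) ι' hιc'
  haveI : IsProper (φ ≫ (X ↘ Spec (CommRingCat.of k))) := hpY
  haveI : IsProper φ := IsProper.of_comp φ (X ↘ Spec (CommRingCat.of k))
  haveI := CurvLib.isNoetherian k (X := X)
  haveI := CurvLib.isNoetherian k (X := Y)
  haveI := hisoY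
  -- the singular point is closed
  have hxU : x ∉ U := fun hxU => by
    obtain ⟨z, hz⟩ := (Scheme.Hom.homeomorph (φ ∣_ U)).surjective ⟨x, hxU⟩
    have hiso : IsIso (φ.stalkMap z.1) :=
      ((MorphismProperty.isomorphisms CommRingCat.{u}).arrow_mk_iso_iff (morphismRestrictStalkMap φ U z)).1
        (inferInstance : IsIso ((φ ∣_ U).stalkMap z))
    have hzx : φ z.1 = x := (by simpa [morphismRestrict_base] using congrArg Subtype.val hz)
    haveI := hregY z.1
    apply hx
    rw [← hzx]
    exact IsRegularLocalRing.of_ringEquiv (asIso (φ.stalkMap z.1)).commRingCatIsoToRingEquiv.symm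
  haveI : JacobsonSpace X := LocallyOfFiniteType.jacobsonSpace (X ↘ Spec (CommRingCat.of k))
  have hUne : (U : Set X).Nonempty := by
    by_contra hne
    rw [Set.not_nonempty_iff_eq_empty] at hne
    rw [hne, Set.compl_empty] at hU
    haveI : Finite X := Set.finite_univ_iff.1 hU
    have := topologicalKrullDim_zero_of_discreteTopology X
    rw [hdim] at this
    exact absurd this (by decide)
  have hxcl : IsClosed ({x} : Set X) := SurfNumLib.isClosed_of_finite (k := k) U.isOpen.isClosed_compl hU hxU
  -- generic points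
  have hξ : genericPoint Y ∈ φ ⁻¹ᵁ U := by
    obtain ⟨v, hv⟩ := hUne
    obtain ⟨z, -⟩ := (Scheme.Hom.homeomorph (φ ∣_ U)).surjective ⟨v, hv⟩
    exact ((genericPoint_spec Y).mem_open_set_iff (φ ⁻¹ᵁ U).isOpen).2 ⟨z.1, trivial, z.2⟩
  have hgen : φ.base (genericPoint Y) = genericPoint X := by
    refine ((genericPoint_spec X).eq ?_).symm
    refine Set.eq_univ_of_univ_subset ?_
    rw [← (IsIrreducible.closure_genericPoint (IrreducibleSpace.isIrreducible_univ X) isClosed_univ)]
    refine closure_minimal (Set.singleton_subset_iff.2 ?_) isClosed_closure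
    have h1 : (U : Set X) ⊆ closure {φ.base (genericPoint Y)} := fun v hv => by
      obtain ⟨z, hz⟩ := (Scheme.Hom.homeomorph (φ ∣_ U)).surjective ⟨v, hv⟩
      have hzv : φ z.1 = v := (by simpa [morphismRestrict_base] using congrArg Subtype.val hz)
      rw [← hzv, ← Set.image_singleton]
      exact image_closure_subset_closure_image φ.continuous ⟨z.1, ((genericPoint_spec Y).specializes trivial).mem_closure, rfl⟩
    exact h1 (((genericPoint_spec X).mem_open_set_iff U.isOpen).2 (by simpa using hUne))
  have hbir : IsIso (φ.stalkMap (genericPoint Y)) :=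
    ((MorphismProperty.isomorphisms CommRingCat.{u}).arrow_mk_iso_iff (morphismRestrictStalkMap φ U ⟨_, hξ⟩)).1
      (inferInstance : IsIso ((φ ∣_ U).stalkMap ⟨_, hξ⟩))
  haveI hconnF : ConnectedSpace ↥(φ.fiber x) := Groth.Agent.S15544.result hnorm φ hgen hbir x
  let T : Set Y := φ.base ⁻¹' {x}
  have hTcl : IsClosed T := hxcl.preimage φ.continuous
  have hrangeF : Set.range (φ.fiberι x).base = T := Scheme.Hom.range_fiberι φ x
  have hTconn : _root_.IsConnected T := by rw [← hrangeF]; exact isConnected_range (φ.fiberι x).continuous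
  have hξT : genericPoint Y ∉ T := fun h => hxU (by rw [← (h : φ.base _ = x)]; exact hξ)
  have hdimT : topologicalKrullDim T ≤ (1 : ℕ) := by
    have hcl : closure {genericPoint Y} = (Set.univ : Set Y) := (genericPoint_spec Y).def
    have h := HilbPolyLib.dim_lt_of_notMem (η := genericPoint Y) (T' := T) hTcl (by rw [hcl]; exact Set.subset_univ _) hξT
      (Y := (Set.univ : Set Y)) (Set.subset_univ _) (d := 2)
      (by rw [IsHomeomorph.topologicalKrullDim_eq _ (Homeomorph.Set.univ Y).isHomeomorph, hdimY]; decide)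
    revert h
    generalize topologicalKrullDim T = a
    intro h
    induction a with
    | bot => exact bot_le
    | coe a =>
      induction a using ENat.recTopCoe with
      | top => exact absurd h (by decide)
      | coe m =>
        have h' : (m : ℕ∞) < ((2 : ℕ) : ℕ∞) := WithBot.coe_lt_coe.1 (by exact h)
        have h'' : m < 2 := Nat.cast_lt.1 h'
        exact WithBot.coe_le_coe.2 (by exact_mod_cast (show m ≤ 1 by omega))
  -- no isolated points
  have hnotsingle : ∀ y, T ≠ {y} := fun y hy => by
    obtain ⟨V, hxV, hfinV⟩ := exists_isFinite_morphismRestrict_of_finite_preimage_singleton φ x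
      (by show T.Finite; rw [hy]; exact Set.finite_singleton y)
    haveI := hfinV
    haveI : Nonempty V := ⟨⟨x, hxV⟩⟩
    have hyV : y ∈ φ ⁻¹ᵁ V := by
      show φ.base y ∈ V
      rw [show φ.base y = x from (hy.symm.subset rfl : y ∈ T)]; exact hxV
    haveI : Nonempty (φ ⁻¹ᵁ V) := ⟨⟨y, hyV⟩⟩
    have hgV : (genericPoint (φ ⁻¹ᵁ V : Scheme.{u})).1 = genericPoint Y :=
      genericPoint_eq_of_isOpenImmersion (φ ⁻¹ᵁ V).ι
    have hgV' : (genericPoint (V : Scheme.{u})).1 = genericPoint X := genericPoint_eq_of_isOpenImmersion V.ι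
    have hgen' : (φ ∣_ V) (genericPoint (φ ⁻¹ᵁ V : Scheme.{u})) = genericPoint (V : Scheme.{u}) := by
      refine Subtype.ext ?_
      rw [hgV', ← hgen, ← hgV]
      simp [morphismRestrict_base]
    have hbir' : IsIso ((φ ∣_ V).stalkMap (genericPoint (φ ⁻¹ᵁ V : Scheme.{u}))) :=
      ((MorphismProperty.isomorphisms CommRingCat.{u}).arrow_mk_iso_iff (morphismRestrictStalkMap φ V _)).2
        (by rw [hgV]; exact hbir)
    haveI := Groth.Agent.S4808.result (fun v => IsIntegrallyClosed.of_equiv (h := (hnorm v.1).2) (asIso (V.ι.stalkMap v)).commRingCatIsoToRingEquiv) (φ ∣_ V) hgen' hbir'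
    have hiso : IsIso (φ.stalkMap y) :=
      ((MorphismProperty.isomorphisms CommRingCat.{u}).arrow_mk_iso_iff (morphismRestrictStalkMap φ V ⟨y, hyV⟩)).1
        (inferInstance : IsIso ((φ ∣_ V).stalkMap ⟨y, hyV⟩))
    haveI := hregY y
    apply hx
    rw [← show φ.base y = x from (hy.symm.subset rfl : y ∈ T)]
    exact IsRegularLocalRing.of_ringEquiv (asIso (φ.stalkMap y)).commRingCatIsoToRingEquiv.symm
  have hcov : T ⊆ ⋃ i, ((E i).support : Set Y) := by
    intro z hz
    haveI : NoetherianSpace T := inferInstance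
    let Z : Set T := irreducibleComponent (⟨z, hz⟩ : T)
    have hZm : Z ∈ irreducibleComponents T := irreducibleComponent_mem_irreducibleComponents _
    let Z' : Closeds Y := ⟨Subtype.val '' Z, hTcl.isClosedEmbedding_subtypeVal.isClosedMap _ isClosed_irreducibleComponent⟩
    have hZirr : IsIrreducible (Z' : Set Y) := hZm.1.image _ continuous_subtype_val.continuousOn
    have hZT : (Z' : Set Y) ⊆ T := by rintro _ ⟨w, -, rfl⟩; exact w.2
    let F := Scheme.IdealSheafData.vanishingIdeal Z'
    have hFs : (F.support : Set Y) = Z' := Scheme.IdealSheafData.coe_support_vanishingIdeal Z'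
    haveI : IsReduced F.subscheme := DevissLib.isReduced_vanishingIdeal' _
    haveI : IrreducibleSpace F.subscheme := by
      haveI : Nonempty F.subscheme := by
        obtain ⟨w, hw⟩ := hZirr.1
        rw [← hFs, ← F.range_subschemeι] at hw
        obtain ⟨v, -⟩ := hw
        exact ⟨v⟩
      have h : IsPreirreducible (Set.univ : Set F.subscheme) := by
        rintro u v hu hv ⟨a, -, ha⟩ ⟨b, -, hb⟩
        obtain ⟨u', hu', rfl⟩ := F.subschemeι.isEmbedding.isInducing.isOpen_iff.1 hu
        obtain ⟨v', hv', rfl⟩ := F.subschemeι.isEmbedding.isInducing.isOpen_iff.1 hv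
        have hr : ∀ c, F.subschemeι c ∈ (Z' : Set Y) := fun c => by
          rw [← hFs, ← F.range_subschemeι]; exact ⟨c, rfl⟩
        obtain ⟨c, hc1, hc2, hc3⟩ := hZirr.2 u' v' hu' hv' ⟨_, hr a, ha⟩ ⟨_, hr b, hb⟩
        rw [← hFs, ← F.range_subschemeι] at hc1
        obtain ⟨d, rfl⟩ := hc1
        exact ⟨d, trivial, hc2, hc3⟩
      haveI : PreirreducibleSpace F.subscheme := ⟨h⟩
      exact ⟨inferInstance⟩
    haveI : IsIntegral F.subscheme := isIntegral_of_irreducibleSpace_of_isReduced _
    have hFd : topologicalKrullDim (F.support : Set Y) = 1 := by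
      rw [hFs]
      refine le_antisymm ((Topology.IsEmbedding.inclusion hZT).isInducing.topologicalKrullDim_le.trans hdimT) ?_
      by_contra hlt
      obtain ⟨hfin, hclpts⟩ := CurvLib.finite_isClosed_of_dim_le_zero Z'.isClosed (le_zero_of_lt_one (not_le.1 hlt))
      obtain ⟨w, hw⟩ := hZirr.1
      -- the component is a point
      have hsub : (Z' : Set Y).Subsingleton := by
        intro a ha b hb
        by_contra hne
        obtain ⟨c, hc1, hc2, hc3⟩ := hZirr.2 ({a} : Set Y)ᶜ ((Z' : Set Y) \ {a})ᶜ (hclpts a ha).isOpen_compl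
          (show IsClosed ((Z' : Set Y) \ {a}) by rw [← Set.biUnion_of_singleton ((Z' : Set Y) \ {a})]; exact (hfin.subset Set.diff_subset).isClosed_biUnion fun c hc => hclpts c hc.1).isOpen_compl ⟨b, hb, Ne.symm hne⟩ ⟨a, ha, fun h => h.2 rfl⟩
        exact hc3 ⟨hc1, hc2⟩
      -- hence clopen in the connected fibre
      let R : Set T := ⋃ W ∈ irreducibleComponents T \ {Z}, W
      have hRcl : IsClosed R := (TopologicalSpace.NoetherianSpace.finite_irreducibleComponents.diff).isClosed_biUnion
        fun W hW => isClosed_of_mem_irreducibleComponents W hW.1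
      have hZR : Rᶜ = Z := by
        refine Set.Subset.antisymm (fun t ht => ?_) fun t ht htR => ?_
        · by_contra htZ
          refine ht (Set.mem_biUnion (x := irreducibleComponent t) ⟨irreducibleComponent_mem_irreducibleComponents t,
            fun h => htZ (h ▸ mem_irreducibleComponent)⟩ mem_irreducibleComponent)
        · obtain ⟨W, ⟨hW, hWZ⟩, htW⟩ := Set.mem_iUnion₂.1 htR
          have hWsub : Z ⊆ W := fun t'' ht'' => by
            have : (t'' : Y) = t := hsub ⟨t'', ht'', rfl⟩ ⟨t, ht, rfl⟩
            rw [Subtype.ext this]; exact htW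
          exact hWZ (Set.Subset.antisymm (hZm.2 hW.1 hWsub) hWsub)
      haveI : ConnectedSpace T := isConnected_iff_connectedSpace.1 hTconn
      have hopen : IsOpen Z := hZR ▸ hRcl.isOpen_compl
      rcases isClopen_iff.1 ⟨isClosed_irreducibleComponent, hopen⟩ with h | h
      · exact hZm.1.1.ne_empty h
      · refine hnotsingle z (Set.eq_singleton_iff_unique_mem.2 ⟨hz, fun t ht => ?_⟩)
        exact hsub ⟨⟨t, ht⟩, (Set.ext_iff.1 h _).2 trivial, rfl⟩ ⟨⟨z, hz⟩, mem_irreducibleComponent, rfl⟩
    have hFx : φ.base '' (F.support : Set Y) = {x} := by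
      rw [hFs]
      exact Set.eq_singleton_iff_nonempty_unique_mem.2 ⟨hZirr.1.image _, by rintro _ ⟨w, hw, rfl⟩; exact hZT hw⟩
    obtain ⟨i, hi⟩ := hEall F inferInstance hFd hFx
    refine Set.mem_iUnion.2 ⟨i, ?_⟩
    rw [← hi, hFs]
    exact ⟨⟨z, hz⟩, mem_irreducibleComponent, rfl⟩
  have hsupp : ((⨅ i, E i).support : Set Y) = T := by
    refine Set.Subset.antisymm (fun z hz => ?_) fun z hz => ?_
    · obtain ⟨j, hj⟩ := Groth.Agent.S14700.exists_mem_support E hz
      exact (hEpt j).subset ⟨z, hj, rfl⟩
    · obtain ⟨i, hi⟩ := Set.mem_iUnion.1 (hcov hz)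
      exact Scheme.IdealSheafData.support_antitone (iInf_le E i) hi
  haveI : IsClosedImmersion (φ.fiberι x) := EllSecLib.isClosedImmersion_fiberι φ hxcl
  let J := (φ.fiberι x).ker
  have hJs : (J.support : Set Y) = T := by
    rw [Scheme.Hom.support_ker]; show closure (Set.range (φ.fiberι x).base) = T; rw [hrangeF, hTcl.closure_eq]
  have hdJ : topologicalKrullDim (CohB1.support (ClSub.quotMod J)) ≤ (1 : ℕ) := by
    rw [SurfNumLib.support_quotMod_eq, hJs]; exact hdimT
  have hJh1 : Subsingleton (Coh.HH Y (ClSub.quotMod J) 1) := by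
    have hz : IsZero ((Coh.Rpush φ 1).obj (Coh.structureModule Y)) := by
      haveI : Coh.IsQCoh (Coh.structureModule Y) := QCohLib.isQCoh_unit
      exact (EulerRpushLib.isZero_rpushAb_iff φ _ 1).1 hrat
    have hvan := RatModLib.van_of_isZero (p := φ) hz
    have hd : topologicalKrullDim ↑(φ.fiber x) ≤ 1 := by
      rw [IsHomeomorph.topologicalKrullDim_eq _ (φ.fiberι x).isEmbedding.toHomeomorph.isHomeomorph, hrangeF]
      exact hdimT.trans (by simp)
    have hf := Groth.Agent.S1485.result φ x hd (𝟙 X) ⟨x, rfl⟩ (fun V hV => by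
      haveI : IsIso (pullback.fst φ (𝟙 X)) := inferInstance
      refine (RatModLib.hhon_iff _).2 ?_
      have e1 : pullback.snd φ (𝟙 X) ⁻¹ᵁ V = pullback.fst φ (𝟙 X) ⁻¹ᵁ (φ ⁻¹ᵁ V) := by
        rw [← Scheme.Hom.comp_preimage, pullback.condition, Category.comp_id]
      rw [e1]
      exact RatModLib.h1z_iso (asIso (pullback.fst φ (𝟙 X) ∣_ (φ ⁻¹ᵁ V))) (hvan V hV))
    haveI : Coh.IsQCoh (Coh.structureModule (φ.fiber x)) := QCohLib.isQCoh_unit
    obtain ⟨q⟩ := SurfNumLib.quotMod_ker_iso (φ.fiberι x)
    obtain ⟨e⟩ := QCohLib.nonempty_HH_push (φ.fiberι x) (Coh.structureModule (φ.fiber x)) 1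
    haveI := hf
    haveI : Subsingleton (Coh.HH Y ((Coh.push (φ.fiberι x)).obj (Coh.structureModule (φ.fiber x))) 1) :=
      e.symm.injective.subsingleton
    exact SerreVanLib.subsingleton_HH_of_iso q 1 ‹_›
  haveI := hEint
  have hYJ : J ≤ ⨅ i, E i := by
    refine le_iInf fun i => ?_
    rw [AlgSpRegLib.eq_vanishingIdeal_support (E i)]
    refine Scheme.IdealSheafData.le_support_iff_le_vanishingIdeal.1 ?_
    show ((E i).support : Set Y) ⊆ (J.support : Set Y)
    rw [hJs]
    exact fun z hz => (hEpt i).subset ⟨z, hz, rfl⟩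
  have hh1 := h1_mono (k := k) hYJ hdJ hJh1
  haveI : IsReduced (⨅ i, E i).subscheme := Groth.Agent.S14700.isReduced_iInf E
  have hconn : _root_.IsConnected ((⨅ i, E i).support : Set Y) := by rw [hsupp]; exact hTconn
  obtain ⟨hle, heq⟩ := Groth.Agent.S14700.result k Y hdimY ⟨M, ι', hι', hιc'⟩ hregY n E hEint hEdim hEinj hconn
  have hdT : topologicalKrullDim (CohB1.support (ClSub.quotMod (⨅ i, E i))) ≤ (1 : ℕ) := by
    rw [SurfNumLib.support_quotMod_eq, hsupp]; exact hdimT
  have h1 : Curv2.euler k Y (ClSub.quotMod (⨅ i, E i)) = 1 := by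
    refine le_antisymm hle ?_
    rw [HodgeIdxLib.euler_eq_of_dim_one (CurvLib.isCoh_quotMod _) hdT]
    haveI := hh1
    have h10 : HodgeIdxLib.hh k (ClSub.quotMod (⨅ i, E i)) 1 = 0 := Module.finrank_zero_of_subsingleton
    have h00 : 0 < HodgeIdxLib.hh k (ClSub.quotMod (⨅ i, E i)) 0 := by
      letI : (⨅ i, E i).subscheme.Over (Spec (CommRingCat.of k)) := ⟨(⨅ i, E i).subschemeι ≫ (Y ↘ Spec (CommRingCat.of k))⟩
      haveI : IsProper ((⨅ i, E i).subscheme ↘ Spec (CommRingCat.of k)) :=
        inferInstanceAs (IsProper ((⨅ i, E i).subschemeι ≫ (Y ↘ Spec (CommRingCat.of k))))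
      haveI := CurvLib.isNoetherian k (X := (⨅ i, E i).subscheme)
      haveI : Nonempty (⨅ i, E i).subscheme := by
        obtain ⟨z, hz⟩ := hconn.1
        rw [← (⨅ i, E i).range_subschemeι] at hz
        obtain ⟨w, -⟩ := hz
        exact ⟨w⟩
      rw [SurfNumLib.hh_quot (k := k) (⨅ i, E i) rfl, ]
      haveI : PreconnectedSpace (⨅ i, E i).subscheme := by
        refine ⟨(⨅ i, E i).subschemeι.isEmbedding.isInducing.isPreconnected_image.1 ?_⟩
        rw [Set.image_univ, (⨅ i, E i).range_subschemeι]
        exact hconn.2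
      haveI : Subsingleton (_root_.ConnectedComponents (⨅ i, E i).subscheme) := inferInstance
      exact lt_of_lt_of_eq Nat.card_pos (NormGenusLib.finrank_h0_eq_natCard k _).symm
    omega
  exact ⟨fun i => nonempty_line (E i) (hEdim i) (h1_mono (k := k) (iInf_le E i) hdT hh1), (heq h1).2⟩

end Groth.Agent.S14701
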