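import Groth.Statements.S14703
import Groth.Agent.TotTransLib.Main
import Groth.Agent.PnDualLib.ProjAlg
import Groth.Agent.SurfNumLib.Meet
import Groth.Agent.UOpenLib.Chevalley
-- import your own Groth.Agent.* helpers here

set_option autoImplicit false
set_option backward.isDefEq.respectTransparency false
set_option backward.isDefEq.respectTransparency.types false
universe u
open CategoryTheory CategoryTheory.Limits AlgebraicGeometry
open Surf

namespace Groth.Agent.S14703

/-- Let k be an algebraically closed field, X an integral scheme of dimension two admitting a closed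
immersion into some P^n_k over k, and U ⊆ X open with finite complement. Let φ : Y → X be a
k-morphism from an integral scheme of dimension two with all local rings regular, itself admitting a
closed immersion into some projective space over k, restricting to an isomorphism over U; let μ_1,
…, μ_s be distinct integral one-dimensional closed subschemes of Y, each mapped to a point, such
that every integral one-dimensional closed subscheme of Y mapped to a point has the support of one
of them. Let D be an effective Cartier divisor on X (an ideal sheaf I_D locally generated by one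
nonzerodivisor) and D̃ an effective Cartier divisor on Y whose support contains no μ_j and whose
ideal agrees with the inverse-image ideal φ⁻¹I_D · O_Y on every affine open contained in φ⁻¹(U) —
the strict transform of D. Then there are natural numbers γ_1, …, γ_s such that φ⁻¹I_D · O_Y =
I_{D̃} · ∏_j I_{μ_j}^{γ_j} (the total transform is the strict transform plus Σ γ_j μ_j) and Σ_j (μ_i
· μ_j) γ_j = -(D̃ · μ_i) for every i (the total transform meets every μ_i with intersection number
zero), where (A · B) = χ(O_Y) - χ(I_A) - χ(I_B) + χ(I_A ⊗ I_B) (packaged as FGA.intNum). (The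
published statement writes the coefficient vector as γ = -d⁻¹ (D̃ · μ), with d = (μ_i · μ_j), for a
locally principal divisor on a normal surface and a resolution that is an isomorphism exactly off
the singular points with exceptional fibres of pure dimension one; this row states the linear system
d γ = -(D̃ · μ), for effective Cartier divisors, any resolution that is an isomorphism over an open
subset with finite complement, and X not assumed normal.) -/
theorem result (k : Type u) [Field k] [IsAlgClosed k] (X : Scheme.{u}) [X.Over (Spec (CommRingCat.of k))]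
    [IsIntegral X] (hdim : topologicalKrullDim X = 2)
    (hproj : ∃ (n : ℕ) (ι : X ⟶ CohB1.ProjSpace n k), IsClosedImmersion ι ∧ ι ≫ CohB1.ProjSpace.toSpec n k = (X ↘ (Spec (CommRingCat.of k))))
    (U : X.Opens) (hU : ((U : Set X)ᶜ).Finite)
    (Y : Scheme.{u}) (φ : Y ⟶ X) [IsIntegral Y] (hdimY : topologicalKrullDim Y = 2)
    (hregY : ∀ y : Y, IsRegularLocalRing (Y.presheaf.stalk y))
    (hprojY : ∃ (n : ℕ) (ι : Y ⟶ CohB1.ProjSpace n k), IsClosedImmersion ι ∧ ι ≫ CohB1.ProjSpace.toSpec n k = φ ≫ (X ↘ (Spec (CommRingCat.of k))))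
    (hiso : IsIso (φ ∣_ U))
    (s : ℕ) (μ : Fin s → Y.IdealSheafData) (hμint : ∀ j, IsIntegral (μ j).subscheme)
    (hμdim : ∀ j, topologicalKrullDim ((μ j).support : Set Y) = 1)
    (hμpt : ∀ j, ∃ x : X, φ.base '' ((μ j).support : Set Y) = {x})
    (hμinj : Function.Injective fun j => ((μ j).support : Set Y))
    (hμall : ∀ E : Y.IdealSheafData, IsIntegral E.subscheme → topologicalKrullDim (E.support : Set Y) = 1 →
      (∃ x : X, φ.base '' (E.support : Set Y) = {x}) → ∃ j, (E.support : Set Y) = (μ j).support)
    (D : X.IdealSheafData) (hD : FGA.IsEffCartier D) (Dt : Y.IdealSheafData) (hDt : FGA.IsEffCartier Dt)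
    (hDtexc : ∀ j, ¬ ((μ j).support : Set Y) ⊆ Dt.support)
    (hDtU : ∀ W : Y.affineOpens, (W : Y.Opens) ≤ φ ⁻¹ᵁ U → Dt.ideal W = (D.comap φ).ideal W) :
    letI : Y.Over (Spec (CommRingCat.of k)) := ⟨φ ≫ (X ↘ (Spec (CommRingCat.of k)))⟩
    ∃ γ : Fin s → ℕ, D.comap φ = Dt * ∏ j : Fin s, μ j ^ γ j ∧
      ∀ i : Fin s, (∑ j : Fin s, FGA.intNum k Y 2 ![ClSub.idealMod (μ i), ClSub.idealMod (μ j)] (Coh.structureModule Y) * (γ j : ℤ)) =
        - FGA.intNum k Y 2 ![ClSub.idealMod Dt, ClSub.idealMod (μ i)] (Coh.structureModule Y) := by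
  letI : Y.Over (Spec (CommRingCat.of k)) := ⟨φ ≫ (X ↘ (Spec (CommRingCat.of k)))⟩
  obtain ⟨n, ι, hι, hιc⟩ := hproj
  obtain ⟨n', ι', hι', hιc'⟩ := hprojY
  haveI : IsProper (X ↘ Spec (CommRingCat.of k)) := SurfNumLib.isProper_of_embedding ι hιc
  haveI : IsProper (Y ↘ Spec (CommRingCat.of k)) := SurfNumLib.isProper_of_embedding (k := k) ι' hιc'
  haveI := CurvLib.isNoetherian k (X := X)
  haveI := CurvLib.isNoetherian k (X := Y)
  haveI := hiso
  haveI := hμint
  have hX1 : topologicalKrullDim X = ((2 : ℕ) : WithBot ℕ∞) := hdim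
  have hY1 : topologicalKrullDim Y = ((2 : ℕ) : WithBot ℕ∞) := hdimY
  have hUne : (U : Set X).Nonempty := by
    by_contra h
    rw [Set.not_nonempty_iff_eq_empty] at h
    rw [h, Set.compl_empty] at hU
    haveI : Finite X := Set.finite_univ_iff.1 hU
    have hall : ∀ x : X, IsClosed ({x} : Set X) := fun x =>
      SurfNumLib.isClosed_of_finite k isClosed_univ hU (Set.mem_univ x)
    have hg : (Set.univ : Set X) = {genericPoint X} := by
      rw [← (hall (genericPoint X)).closure_eq, (genericPoint_spec X).def]
    haveI : Subsingleton X := ⟨fun a b => by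
      have ha : a ∈ ({genericPoint X} : Set X) := hg ▸ Set.mem_univ a
      have hb : b ∈ ({genericPoint X} : Set X) := hg ▸ Set.mem_univ b
      exact (Set.mem_singleton_iff.1 ha).trans (Set.mem_singleton_iff.1 hb).symm⟩
    haveI : Subsingleton (TopologicalSpace.IrreducibleCloseds X) := ⟨fun a b => TopologicalSpace.IrreducibleCloseds.ext
      ((Subsingleton.eq_univ_of_nonempty a.isIrreducible.nonempty).trans
        (Subsingleton.eq_univ_of_nonempty b.isIrreducible.nonempty).symm)⟩
    have h0 : topologicalKrullDim X ≤ 0 := Order.krullDim_nonpos_of_subsingleton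
    rw [hdim] at h0
    exact absurd h0 (by norm_num)
  have hcl : ∀ x : X, x ∉ U → IsClosed ({x} : Set X) := fun x hx =>
    SurfNumLib.isClosed_of_finite k U.2.isClosed_compl hU hx
  have hη : φ (genericPoint Y) = genericPoint X := ModifLib.map_genericPoint φ hUne
  have hηU : φ (genericPoint Y) ∈ U := ModifLib.genericPoint_mem φ hUne
  have hDgen : genericPoint X ∉ D.support := fun h => by
    obtain ⟨t, ht, htD⟩ := DivDescLib.exists_gen hD (genericPoint X)
    refine (SDivLib.mem_support_iff_stalk D _).1 h ?_
    rw [htD, Ideal.span_singleton_eq_top]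
    exact IsUnit.mk0 (G₀ := X.functionField) t (nonZeroDivisors.ne_zero ht)
  have hJc : BlowUp.IsEffCartierIdeal (D.comap φ) := NegLib.isEffCartier_comap hD φ (by rw [hη]; exact hDgen)
  have hμc : ∀ j, BlowUp.IsEffCartierIdeal (μ j) := fun j =>
    SurfNumLib.isEffCartier_curve k (X := Y) hY1 hregY (μ j) (hμdim j)
  have hμne : ∀ j, μ j ≠ ⊤ := fun j h => by
    obtain ⟨c⟩ := (hμint j).nonempty
    have h1 : (μ j).subschemeι c ∈ Set.range (μ j).subschemeι := ⟨c, rfl⟩
    have h2 : ((μ j).support : Set Y) = ∅ := by rw [h, Scheme.IdealSheafData.support_top]; rfl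
    rw [(μ j).range_subschemeι, h2] at h1
    exact h1
  obtain ⟨γ, R, hR, hRμ, hJR⟩ := NegLib.exists_decomp μ hμc hμne _ hJc Finset.univ
  have hμgen : ∀ j, closure {(μ j).subschemeι (genericPoint (μ j).subscheme)} = ((μ j).support : Set Y) := fun j => by
    rw [← (μ j).range_subschemeι, ← Set.image_univ, ← (genericPoint_spec (μ j).subscheme).def,
      ← (μ j).subschemeι.isClosedEmbedding.closure_image_eq, Set.image_singleton]
  have hμoff : ∀ j y, y ∈ (μ j).support → φ y ∉ U := fun j y hy hyU => by
    obtain ⟨x, hx⟩ := hμpt j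
    have him : ∀ z ∈ (μ j).support, φ z = x := fun z hz => by
      have : φ.base z ∈ φ.base '' ((μ j).support : Set Y) := ⟨z, hz, rfl⟩
      rw [hx] at this
      exact this
    haveI : Subsingleton ((μ j).support : Set Y) := ⟨fun a b => by
      refine Subtype.ext ?_
      have hxU : x ∈ U := him y hy ▸ hyU
      have ha : a.1 ∈ φ ⁻¹ᵁ U := show φ a.1 ∈ U by rw [him _ a.2]; exact hxU
      have hb : b.1 ∈ φ ⁻¹ᵁ U := show φ b.1 ∈ U by rw [him _ b.2]; exact hxU
      have h2 := (φ ∣_ U).homeomorph.injective (a₁ := ⟨a.1, ha⟩) (a₂ := ⟨b.1, hb⟩)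
        (Subtype.ext (by simpa using (him _ a.2).trans (him _ b.2).symm))
      exact congrArg (fun z : ↥(φ ⁻¹ᵁ U) => z.1) h2⟩
    haveI : Subsingleton (TopologicalSpace.IrreducibleCloseds ((μ j).support : Set Y)) := ⟨fun a b =>
      TopologicalSpace.IrreducibleCloseds.ext ((Subsingleton.eq_univ_of_nonempty a.isIrreducible.nonempty).trans
        (Subsingleton.eq_univ_of_nonempty b.isIrreducible.nonempty).symm)⟩
    have h0 : topologicalKrullDim ((μ j).support : Set Y) ≤ 0 := Order.krullDim_nonpos_of_subsingleton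
    rw [hμdim j] at h0
    exact absurd h0 (by norm_num)
  have hRD : R = Dt := by
    refine TotTransLib.eq_of_codim_one hregY hR hDt fun w hw => ?_
    by_cases hwU : φ w ∈ U
    · obtain ⟨W, hW, hwW, hWU⟩ := exists_isAffineOpen_mem_and_subset (U := φ ⁻¹ᵁ U) (x := w) hwU
      have h1 : IntMult.stalkIdeal Dt w = IntMult.stalkIdeal (D.comap φ) w := by
        rw [SDivLib.stalkIdeal_eq _ ⟨W, hW⟩ hwW, SDivLib.stalkIdeal_eq _ ⟨W, hW⟩ hwW, hDtU ⟨W, hW⟩ hWU]
      rw [h1, hJR, SDivLib.stalkIdeal_mul, SDivLib.stalkIdeal_prod,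
        Finset.prod_eq_one (fun j _ => by
          rw [SDivLib.stalkIdeal_pow, StrictCurveLib.stalkIdeal_eq_top' (μ j) (fun h => hμoff j w h hwU),
            Ideal.top_pow, Ideal.one_eq_top]), one_mul]
    · have hwc : ¬ IsClosed ({w} : Set Y) := fun h => by
        rw [PnDualLib.dim_stalk_closed (k := k) hregY (d := 2) hY1 w h] at hw
        have : (2 : ℕ) ≤ 1 := by exact_mod_cast hw
        omega
      have hwη : genericPoint Y ∉ closure ({w} : Set Y) := fun h => hwU (by
        rw [((specializes_iff_mem_closure.2 h).antisymm ((genericPoint_spec Y).specializes (Set.mem_univ w))).eq]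
        exact hηU)
      have hEs : ((IntMult.ptIdeal w).support : Set Y) = closure {w} :=
        Scheme.IdealSheafData.coe_support_vanishingIdeal _
      have hEd : topologicalKrullDim ((IntMult.ptIdeal w).support : Set Y) = 1 := by
        rw [hEs]
        refine le_antisymm (by exact_mod_cast SurfAmpleLib.dim_closed_le (X := Y) hY1 isClosed_closure hwη) ?_
        obtain ⟨c, hc, hcc⟩ := IsClosed.exists_closed_singleton (isClosed_closure (s := ({w} : Set Y))) ⟨w, subset_closure rfl⟩
        have hne : w ≠ c := fun h => hwc (h.symm ▸ hcc)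
        refine UOpenLib.le_topologicalKrullDim_of_chain (n := 1)
          ![(⟨w, subset_closure rfl⟩ : closure ({w} : Set Y)), ⟨c, hc⟩] ?_ ?_
        · intro p q hpq
          fin_cases p <;> fin_cases q
          · rfl
          · exact absurd (congrArg Subtype.val hpq) hne
          · exact absurd (congrArg Subtype.val hpq).symm hne
          · rfl
        · intro p q hpq
          fin_cases p <;> fin_cases q
          · exact specializes_rfl
          · exact (subtype_specializes_iff _ _).2 (specializes_iff_mem_closure.2 hc)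
          · exact absurd hpq (by decide)
          · exact specializes_rfl
      obtain ⟨j, hj⟩ := hμall (IntMult.ptIdeal w) (IntMultLib.isIntegral_ptIdeal w) hEd ⟨φ w, by
        rw [hEs]
        refine Set.Subset.antisymm ?_ (Set.singleton_subset_iff.2 ⟨w, subset_closure rfl, rfl⟩)
        exact (image_closure_subset_closure_image φ.continuous).trans
          (by rw [Set.image_singleton, (hcl (φ w) hwU).closure_eq])⟩
      rw [hEs, ← hμgen j] at hj
      have hweq : w = (μ j).subschemeι (genericPoint (μ j).subscheme) :=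
        (isGenericPoint_closure (x := w)).eq (hj ▸ isGenericPoint_closure)
      have hnot : ∀ A : Y.IdealSheafData, ¬ ((μ j).support : Set Y) ⊆ A.support → IntMult.stalkIdeal A w = ⊤ :=
        fun A hA => StrictCurveLib.stalkIdeal_eq_top' A fun h => hA (by
          rw [← hμgen j, ← hweq]
          exact A.support.isClosed.closure_subset_iff.2 (Set.singleton_subset_iff.2 h))
      rw [hnot R fun h => hRμ j (Finset.mem_univ j) (by
        rw [AlgSpRegLib.eq_vanishingIdeal_support (μ j)]
        exact Scheme.IdealSheafData.le_support_iff_le_vanishingIdeal.1 (SetLike.coe_subset_coe.1 h)), hnot Dt (hDtexc j)]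
  rw [hRD] at hJR
  have hJR' : D.comap φ = Dt * ∏ j : Fin s, μ j ^ γ j := hJR.trans (mul_comm _ _)
  refine ⟨γ, hJR', fun i => ?_⟩
  simp only [SurfNumLib.intNum_eq_pr_two hdimY]
  obtain ⟨x, hx⟩ := hμpt i
  have hxU : x ∉ U := by
    obtain ⟨c⟩ := (hμint i).nonempty
    have hc : (μ i).subschemeι c ∈ ((μ i).support : Set Y) := (μ i).range_subschemeι ▸ ⟨c, rfl⟩
    have : φ.base ((μ i).subschemeι c) ∈ φ.base '' ((μ i).support : Set Y) := ⟨_, hc, rfl⟩
    rw [hx] at this
    exact (Set.mem_singleton_iff.1 this) ▸ hμoff i _ hc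
  have hDI := IntMultLib.isInvertible_idealMod _ hD
  have hJI := IntMultLib.isInvertible_idealMod _ hJc
  obtain ⟨a⟩ := SymSqLib.nonempty_pb_ideal (f := φ) (K := D) hDI hJI
  have hzero : HodgeIdxLib.pr k (ClSub.idealMod (D.comap φ)) (ClSub.idealMod (μ i)) = 0 := by
    rw [HodgeIdxLib.pr_comm, SurfNumLib.pr_ideal (μ i)
      (CurvLib.isCoh_of_isInvertible (IntMultLib.isInvertible_idealMod _ (hμc i))) hJI,
      ← HodgeIdxLib.N_congr_head a,
      TotTransLib.N_pullback_contracted (k := k) φ rfl hDI (μ i) (hμdim i) x (hcl x hxU)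
        (fun z hz => by
          have : φ.base z ∈ φ.base '' ((μ i).support : Set Y) := ⟨z, hz, rfl⟩
          rw [hx] at this
          exact this), neg_zero]
  have hT := IntMultLib.isInvertible_idealMod _ (hμc i)
  have hcomb := SurfAmpleLib.isEffCartier_comb hμc γ
  have hmul : HodgeIdxLib.pr k (ClSub.idealMod (Dt * SurfAmpleLib.comb μ γ)) (ClSub.idealMod (μ i)) =
      HodgeIdxLib.pr k (ClSub.idealMod Dt) (ClSub.idealMod (μ i)) +
        HodgeIdxLib.pr k (ClSub.idealMod (SurfAmpleLib.comb μ γ)) (ClSub.idealMod (μ i)) :=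
    SurfAmpleLib.N_mul hDt hcomb (l := [ClSub.idealMod (μ i)]) (by simpa using hT)
      (DevissLib.isCoh_structureModule Y) ((topologicalKrullDim_subspace_le _ _).trans hY1.le)
  rw [hJR'] at hzero
  change HodgeIdxLib.pr k (ClSub.idealMod (Dt * SurfAmpleLib.comb μ γ)) _ = 0 at hzero
  rw [hmul, SurfAmpleLib.pr_comb hY1.le hμc γ hT] at hzero
  rw [Finset.sum_congr rfl (fun j _ => show HodgeIdxLib.pr k (ClSub.idealMod (μ i)) (ClSub.idealMod (μ j)) * (γ j : ℤ) =
    (γ j : ℤ) * HodgeIdxLib.pr k (ClSub.idealMod (μ j)) (ClSub.idealMod (μ i)) by rw [HodgeIdxLib.pr_comm, mul_comm])]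
  linarith

end Groth.Agent.S14703
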