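import Groth.Statements.S14704
import Groth.Agent.FCohLib.FiniteBC

set_option autoImplicit false
open CategoryTheory
universe u
open FCompl

namespace Groth.Agent.S14704

/-- Let 𝔖, 𝔛, 𝔜 be locally Noetherian formal schemes, presented as adic systems of locally Noetherian
thickenings with a common underlying space, let f : 𝔛 ⟶ 𝔖 be a closed immersion (adic, with a closed
immersion at level 0) and g : 𝔜 ⟶ 𝔖 any morphism, and let p, q be the two projections of the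
levelwise fibre product 𝔛 ×_𝔖 𝔜, assumed to be again a locally Noetherian formal scheme (which
holds, f being of finite type). Then for every coherent O_𝔛-module 𝔉 the base-change morphism u :
g^*(f_* 𝔉) ⟶ q_*(p^* 𝔉), whose adjunct f_* 𝔉 ⟶ g_* q_* p^* 𝔉 = f_* p_* p^* 𝔉 is f_* of the unit 𝔉 ⟶
p_* p^* 𝔉, is an isomorphism. -/
theorem result (𝔖 𝔛 𝔜 : FSch.Sys.{u})
    (h𝔖 : 𝔖.IsLocNoethFormal) (h𝔛 : 𝔛.IsLocNoethFormal) (h𝔜 : 𝔜.IsLocNoethFormal)
    (f : 𝔛 ⟶ 𝔖) (g : 𝔜 ⟶ 𝔖) (hf : FSch.IsClosedImmHom f)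
    (hZ : (FSch.pullbackSys f g).IsLocNoethFormal)
    (𝔉 : FSch.ModF 𝔛 h𝔛.1) (h𝔉 : FSch.IsCohF 𝔛 h𝔛.1 𝔉) :
    IsIso (FSch.bcMapF (FSch.pullbackFst f g) f (FSch.pullbackSnd f g) g (FSch.pullbackSys_condition f g)
      hZ.1 h𝔛.1 h𝔜.1 h𝔖.1 𝔉) := by
  haveI : AlgebraicGeometry.IsClosedImmersion ((f : FSch.Hom 𝔛 𝔖).app 0) := hf.2
  haveI : AlgebraicGeometry.IsClosedImmersion ((FSch.pullbackSnd f g : FSch.Hom _ _).app 0) :=
    inferInstanceAs (AlgebraicGeometry.IsClosedImmersion (CategoryTheory.Limits.pullback.snd _ _))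
  exact FCohLib.isIso_bcMapF_finite (FSch.pullbackFst f g) f (FSch.pullbackSnd f g) g
    (FSch.pullbackSys_condition f g) hZ h𝔛 h𝔜 h𝔖 hf.1 (FCohLib.isAdicHom_pullbackSnd f g hf.1)
    (fun k => CategoryTheory.IsPullback.of_hasPullback _ _) h𝔉

end Groth.Agent.S14704
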