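import Groth.Statements.S1471
import Groth.Agent.MiscFlat6.FibreRed
-- import your own Groth.Agent.* helpers here

set_option autoImplicit false
universe u
open FlatMor

namespace Groth.Agent.S1471

open AlgebraicGeometry CategoryTheory Limits in
/-- Let f : X → Y and η a generic point of an irreducible component of Y. Then the fibre over η of the
composite X_red → X → Y is reduced; since it is a closed subscheme of X_η with the same underlying
set, this says (X_η)_red = (X_red)_η. -/
theorem result {X Y : Scheme.{u}} (f : X ⟶ Y) (η : Y) (W : Set ↑Y) (hW : W ∈ irreducibleComponents ↑Y) (hη : IsGenericPoint η W) :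
    IsReduced ((X.nilradical.subschemeι ≫ f).fiber η) := by
  haveI := GeomRedFieldLib.isReduced_nilradical X
  refine MiscFlat6.isReduced_fiber_of_nil _ η fun a ha => MiscFlat6.isNilpotent_of_mem_maximalIdeal (fun y hy => ?_) ha
  have hy' : η ∈ closure ({y} : Set Y) := hy.mem_closure
  have hsub : W ⊆ closure {y} := by
    rw [← hη.def]
    exact closure_minimal (Set.singleton_subset_iff.mpr hy') isClosed_closure
  have hWe : closure {y} = W := le_antisymm (hW.2 isIrreducible_singleton.closure hsub) hsub
  exact IsGenericPoint.eq (isGenericPoint_def.mpr hWe) hη

end Groth.Agent.S1471
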