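import Groth.Statements.S14714
import Groth.Agent.GLinShLib.Stable

set_option autoImplicit false
universe u
open CategoryTheory MonoidalCategory CartesianMonoidalCategory MonObj GrpObj AlgebraicGeometry Topology
open GIT

attribute [-instance] CategoryTheory.ReflQuiver.toQuiver CompletePartialOrder.toPartialOrder CompletePartialOrder.toOrderBot
namespace Groth.Agent.S14714

/-- Let k be a field of characteristic zero, G a connected reductive algebraic group over k (affine,
smooth, with connected reductive geometric fibre) acting by σ on a finite-type k-scheme X (not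
necessarily separated), and L a G-linearised line bundle on X, taken in total-space form (a line
bundle V → X with a linear atlas and a fibrewise-linear lifting of the action; sections of L^n are
the weight-n functions on V, invariant sections those fixed by the lifted action, X_s the locus over
which s does not vanish identically on the fibre). Let U = X^ss(L) be the open set of semi-stable
points and U' = X^s(L) ⊆ U the open set of stable points (x admitting an invariant section s of some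
L^n, n ≥ 1, with s(x) ≠ 0, X_s affine and the action of G on X_s closed; no condition on
stabilisers), each with the restricted action, and let (Y, φ) be a categorical quotient of U by G.
Then there is an open subset Ỹ of Y with φ⁻¹(Ỹ) = U' such that (Ỹ, φ restricted to U') is a uniform
geometric quotient of U' by G. (Stated for any categorical quotient of U, which is unique up to
unique isomorphism. The published statement is for any reductive G in any characteristic; this row
is the characteristic-zero case with G connected. L is taken in total-space form.) -/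
theorem result (k : Type u) [Field k] [CharZero k]
    (G X : Over (Spec (CommRingCat.of k))) [GrpObj G] (hG : Red.IsReductive G)
    [LocallyOfFiniteType X.hom] [QuasiCompact X.hom]
    (a : AlgGrp.Action G X) (B : GLinSh.LinBun G a)
    (U : X.left.Opens) (hU : (U : Set X.left) = B.ssLocus)
    (aU : AlgGrp.Action G (Over.mk (U.ι ≫ X.hom)))
    (jU : Over.mk (U.ι ≫ X.hom) ⟶ X) (hjU : jU.left = U.ι)
    (haU : aU.act ≫ jU = (G ◁ jU) ≫ a.act)
    (Y : Over (Spec (CommRingCat.of k))) (φ : Over.mk (U.ι ≫ X.hom) ⟶ Y) (hφ : GIT.IsCatQuot aU φ)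
    (Us : X.left.Opens) (hUs : (Us : Set X.left) = B.sLocus) (hle : Us ≤ U)
    (aS : AlgGrp.Action G (Over.mk (Us.ι ≫ X.hom)))
    (jS : Over.mk (Us.ι ≫ X.hom) ⟶ X) (hjS : jS.left = Us.ι)
    (haS : aS.act ≫ jS = (G ◁ jS) ≫ a.act) :
    ∃ (Yt : Y.left.Opens) (φs : Over.mk (Us.ι ≫ X.hom) ⟶ Over.mk (Yt.ι ≫ Y.hom)),
      φs.left ≫ Yt.ι = X.left.homOfLE hle ≫ φ.left ∧
      φ.left ⁻¹ᵁ Yt = U.ι ⁻¹ᵁ Us ∧
      GIT.IsUnifGeomQuot aS φs := by
  classical
  obtain ⟨A, _, _, w, _, _, β, hβ, h1, hlr⟩ := GITAffLib.exists_setup G hG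
  haveI : QuasiCompact G.hom := by
    haveI := hG.1
    infer_instance
  obtain ⟨r, N, F, hF, K, hN, hD, hUK⟩ := GLinShLib.exists_quotData B w hβ h1 hlr hU
  obtain rfl : jU = GLinShLib.openHom U := Over.OverMorphism.ext hjU
  obtain rfl : jS = GLinShLib.openHom Us := Over.OverMorphism.ext hjS
  obtain ⟨Y₀, φ₀, hinv₀, haff₀, hgood₀, -, -, hch₀, -⟩ := GLinShLib.exists_quot w hβ h1 hD hUK aU haU
  obtain ⟨e, rfl⟩ := GLinShLib.exists_iso_of_isCatQuot ((hgood₀.hasProps hβ h1).main hinv₀).1.1 hφ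
  haveI : IsIso e.hom.left := (Over.forget _).map_isIso e.hom
  haveI := haff₀
  haveI : IsAffineHom (φ₀ ≫ e.hom).left := inferInstanceAs (IsAffineHom (φ₀.left ≫ e.hom.left))
  have hgood := hgood₀.comp_iso e
  have hch : ∀ j ∈ K, ∃ V : Y.left.Opens, (φ₀ ≫ e.hom).left ⁻¹ᵁ V = U.ι ⁻¹ᵁ GLinShLib.Nj hF j := fun j hj => by
    obtain ⟨V, -, hV⟩ := hch₀ j hj
    refine ⟨e.inv.left ⁻¹ᵁ V, ?_⟩
    rw [← Scheme.Hom.comp_preimage, ← Over.comp_left, Category.assoc, e.hom_inv_id, Category.comp_id]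
    exact hV
  let ι' := {i : (n : ℕ) × Γ(B.V.left, ⊤) // 1 ≤ i.1 ∧ B.IsInvSection i.1 i.2 ∧
    ∀ hf : GLinSh.HasWeight B.atlas.chart i.1 i.2,
      IsAffineOpen (GLinShLib.nv hf) ∧ GLinSh.ClosedOrbitsOn a (GLinShLib.nv hf)}
  choose W hW using fun i : ι' =>
    GLinShLib.exists_saturated hβ h1 hN hUK haU hφ.1 hgood hch i.2.2.1
  have hUs' : Us = ⨆ i : ι', GLinShLib.nv i.2.2.1.1 := by
    refine TopologicalSpace.Opens.ext ?_
    rw [hUs, TopologicalSpace.Opens.coe_iSup]
    refine Set.Subset.antisymm ?_ (Set.iUnion_subset ?_)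
    · rintro x ⟨n, f, hn, hf, hx, O, hO, hOa, hOc⟩
      obtain rfl := GLinShLib.nv_congr hf.1 O hO
      exact Set.mem_iUnion.2 ⟨⟨⟨n, f⟩, hn, hf, fun _ => ⟨hOa, hOc⟩⟩, hx⟩
    · rintro ⟨⟨n, f⟩, hn, hf, h⟩ x hx
      exact ⟨n, f, hn, hf, hx, _, rfl, (h hf.1).1, (h hf.1).2⟩
  let φ := φ₀ ≫ e.hom
  have hYt : φ.left ⁻¹ᵁ (⨆ i, W i) = U.ι ⁻¹ᵁ Us := by
    rw [Scheme.Hom.preimage_iSup, hUs', Scheme.Hom.preimage_iSup]
    exact iSup_congr hW
  have hr : Set.range (X.left.homOfLE hle ≫ φ.left) ⊆ Set.range (⨆ i, W i).ι := by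
    rintro _ ⟨x, rfl⟩
    rw [Scheme.Opens.range_ι]
    refine hYt.ge ?_
    show (X.left.homOfLE hle ≫ U.ι) x ∈ Us
    rw [Scheme.homOfLE_ι]
    exact x.2
  let pr : Over.mk (Us.ι ≫ X.hom) ⟶ Over.mk (U.ι ≫ X.hom) := Over.homMk (X.left.homOfLE hle) (by
    show X.left.homOfLE hle ≫ U.ι ≫ X.hom = Us.ι ≫ X.hom
    rw [Scheme.homOfLE_ι_assoc])
  have hpr : pr ≫ GLinShLib.openHom U = GLinShLib.openHom Us :=
    Over.OverMorphism.ext (Scheme.homOfLE_ι X.left hle)
  let φs : Over.mk (Us.ι ≫ X.hom) ⟶ GLinShLib.openObj (⨆ i, W i) :=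
    Over.homMk (IsOpenImmersion.lift (⨆ i, W i).ι _ hr) (by
      show IsOpenImmersion.lift (⨆ i, W i).ι _ hr ≫ (⨆ i, W i).ι ≫ Y.hom = Us.ι ≫ X.hom
      rw [IsOpenImmersion.lift_fac_assoc, Category.assoc, Over.w φ]
      exact Over.w pr)
  have hφs : φs ≫ GLinShLib.openHom (⨆ i, W i) = pr ≫ φ := Over.OverMorphism.ext (IsOpenImmersion.lift_fac _ _ _)
  refine ⟨⨆ i, W i, φs, IsOpenImmersion.lift_fac _ _ _, hYt, ?_⟩
  haveI : IsOpenImmersion pr.left := inferInstanceAs (IsOpenImmersion (X.left.homOfLE hle))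
  have sq : IsPullback pr φs φ (GLinShLib.openHom (⨆ i, W i)) := by
    refine IsPullback.of_map (Over.forget _) hφs.symm ?_
    refine (IsOpenImmersion.isPullback φs.left pr.left (GLinShLib.openHom (⨆ i, W i)).left φ.left
      (congrArg CommaMorphism.left hφs).symm ?_).flip
    rw [show (GLinShLib.openHom (⨆ i, W i)).left.opensRange = ⨆ i, W i from Scheme.Opens.opensRange_ι _, hYt]
    refine TopologicalSpace.Opens.ext (Set.Subset.antisymm (fun x hx => ⟨⟨U.ι x, hx⟩, Subtype.ext ?_⟩) ?_)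
    · show (pr ≫ GLinShLib.openHom U).left _ = U.ι x
      rw [hpr]
      rfl
    · rintro _ ⟨x, rfl⟩
      show (pr ≫ GLinShLib.openHom U).left x ∈ Us
      rw [hpr]
      exact x.2
  have hea : aS.act ≫ pr = (G ◁ pr) ≫ aU.act := by
    rw [← cancel_mono (GLinShLib.openHom U), Category.assoc, Category.assoc, hpr, haS, haU,
      ← MonoidalCategory.whiskerLeft_comp_assoc, hpr]
  refine GLinShLib.isUnifGeomQuot_of_closed hβ h1 haU hφ.1 hgood sq aS hea fun y => ?_
  obtain ⟨i, hi⟩ := TopologicalSpace.Opens.mem_iSup.1 y.2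
  refine ⟨(⨆ i, W i).ι ⁻¹ᵁ W i, hi, GLinShLib.nv i.2.2.1.1, GLinShLib.isInvOpen_nv i.2.2.1, (i.2.2.2 i.2.2.1.1).2,
    fun x hx => ?_⟩
  show (pr ≫ GLinShLib.openHom U).left x ∈ _
  refine (hW i).le ?_
  show (pr ≫ φ).left x ∈ W i
  rw [← hφs]
  exact hx

end Groth.Agent.S14714
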