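import Groth.Statements.S14715
import Groth.Agent.GITAffLib.Setup
import Groth.Agent.GLinStabLib.Semistable

set_option autoImplicit false
universe u
open CategoryTheory MonoidalCategory CartesianMonoidalCategory MonObj GrpObj AlgebraicGeometry Topology
open GIT

set_option synthInstance.maxHeartbeats 400000
set_option maxHeartbeats 1000000
set_option backward.isDefEq.respectTransparency false
attribute [-instance] CategoryTheory.ReflQuiver.toQuiver CompletePartialOrder.toPartialOrder CompletePartialOrder.toOrderBot

namespace Groth.Agent.S14715

/-- Let k be a field of characteristic zero, G a connected reductive algebraic group over k (affine,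
smooth, with connected reductive geometric fibre) acting by σ on a finite-type k-scheme X (not
necessarily separated), and L a G-linearised line bundle on X, taken in total-space form (a line
bundle V → X with a linear atlas and a fibrewise-linear lifting of the action; sections of L^n are
the weight-n functions on V, invariant sections those fixed by the lifted action, X_s the locus over
which s does not vanish identically on the fibre). Let U = X^ss(L) be the open set of semi-stable
points and let x be a stable point of X (some invariant section s of some L^n, n ≥ 1, has s(x) ≠ 0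
with X_s affine and the action of G on X_s closed; no condition on stabilisers). Then x is regular
for the action (the dimension of the stabiliser group scheme of a point, computed at the point of X
with values in its residue field, is constant on a neighbourhood of x), and for every algebraically
closed field Ω and every Ω-valued point of X over x, the orbit of that point is closed in U ×_k Spec
Ω. (The published statement is for any reductive G in any characteristic; this row is the
characteristic-zero case with G connected. L is taken in total-space form.) -/
theorem result (k : Type u) [Field k] [CharZero k]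
    (G X : Over (Spec (CommRingCat.of k))) [GrpObj G] (hG : Red.IsReductive G)
    [LocallyOfFiniteType X.hom] [QuasiCompact X.hom]
    (a : AlgGrp.Action G X) (B : GLinSh.LinBun G a)
    (U : X.left.Opens) (hU : (U : Set X.left) = B.ssLocus) (x : X.left) (hx : B.IsStablePt x) :
    (∃ W : X.left.Opens, x ∈ W ∧ ∀ y ∈ W,
          topologicalKrullDim (GLinSh.stab a (Over.homMk (X.left.fromSpecResidueField y) rfl :
              Over.mk (X.left.fromSpecResidueField y ≫ X.hom) ⟶ X)) =
            topologicalKrullDim (GLinSh.stab a (Over.homMk (X.left.fromSpecResidueField x) rfl :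
              Over.mk (X.left.fromSpecResidueField x ≫ X.hom) ⟶ X))) ∧
      ∀ (Ω : Type u) [Field Ω] [IsAlgClosed Ω] (T : Over (Spec (CommRingCat.of k)))
        (_ : T.left ≅ Spec (CommRingCat.of Ω)) (f : T ⟶ X), Set.range f.left.base = {x} →
          IsClosed ((fun p : (fst X T).left ⁻¹ᵁ U => (p : (X ⊗ T).left)) ⁻¹' Set.range (GIT.psi a f).left.base) := by
  classical
  obtain ⟨A, _, _, w, _, _, β, hβ, h1, hlr⟩ := GITAffLib.exists_setup G hG
  haveI := hG.1
  haveI := hG.2.1
  haveI : LocallyOfFiniteType G.hom := inferInstance
  haveI : QuasiCompact G.hom := inferInstance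
  obtain ⟨Q⟩ := GLinStab.exists_ssQuot (w := w) hβ h1 hlr B hU
  obtain ⟨n, f, hn, hf, hxf, O, hO, hOa, hOc⟩ := hx
  obtain rfl := GLinShLib.nv_congr hf.1 O hO
  have hle : GLinShLib.nv hf.1 ≤ U := GLinStab.nv_le_ssLocus hU hn hf hOa
  refine ⟨?_, fun Ω _ _ T eT g hg => ?_⟩
  · obtain ⟨W, hxW, hW⟩ := GLinStab.exists_stabDim_const Q hβ h1 hf hle hOc hxf
    refine ⟨W, hxW, fun y hy => ?_⟩
    rw [GLinStab.dim_stab_residue, GLinStab.dim_stab_residue]
    exact hW y hy
  · haveI := Q.sep
    obtain ⟨W, hW⟩ := Q.sat hf
    have hgx : ∀ t, g.left t = x := fun t => hg.le ⟨t, rfl⟩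
    obtain ⟨gU, rfl⟩ := GLinStab.exists_lift_openObj (U := U) g (fun t => by rw [hgx]; exact hle hxf)
    exact (GLinStab.isClosed_orbit_of_saturated Q.he Q.inv hW gU
      (fun t => by rw [← Scheme.Hom.comp_apply, ← Over.comp_left, hgx]; exact hxf)
      (hOc Ω T eT _ (by rintro _ ⟨t, rfl⟩; rw [hgx]; exact hxf))).2

end Groth.Agent.S14715
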