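import Groth.Statements.S14716
import Groth.Agent.GITAffLib.Setup
import Groth.Agent.GLinStabLib.Semistable

set_option autoImplicit false
universe u
open CategoryTheory MonoidalCategory CartesianMonoidalCategory MonObj GrpObj AlgebraicGeometry Topology
open GIT

set_option synthInstance.maxHeartbeats 400000
set_option maxHeartbeats 1000000
set_option backward.isDefEq.respectTransparency false
attribute [-instance] CategoryTheory.ReflQuiver.toQuiver CompletePartialOrder.toPartialOrder CompletePartialOrder.toOrderBot

namespace Groth.Agent.S14716

/-- Let k be a field of characteristic zero, G a connected reductive algebraic group over k (affine,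
smooth, with connected reductive geometric fibre) acting by σ on a finite-type k-scheme X (not
necessarily separated), and L a G-linearised line bundle on X, taken in total-space form (a line
bundle V → X with a linear atlas and a fibrewise-linear lifting of the action; sections of L^n are
the weight-n functions on V, invariant sections those fixed by the lifted action, X_s the locus over
which s does not vanish identically on the fibre). Let x be a point of X such that x is regular for
the action (the dimension of the stabiliser group scheme of a point, computed at the point of X with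
values in its residue field, is constant on a neighbourhood of x), and suppose there is an invariant
section f of L^n, n ≥ 1, with X_f an affine open containing x, such that for every algebraically
closed field Ω and every Ω-valued point of X over x the orbit of that point is closed in X_f ×_k
Spec Ω. Then x is stable: some invariant section s of some L^m, m ≥ 1, has s(x) ≠ 0, X_s affine and
the action of G on X_s closed. (The published statement is for any reductive G in any
characteristic; this row is the characteristic-zero case with G connected. L is taken in total-space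
form.) -/
theorem result (k : Type u) [Field k] [CharZero k]
    (G X : Over (Spec (CommRingCat.of k))) [GrpObj G] (hG : Red.IsReductive G)
    [LocallyOfFiniteType X.hom] [QuasiCompact X.hom]
    (a : AlgGrp.Action G X) (B : GLinSh.LinBun G a)
    (x : X.left)
    (hreg : ∃ W : X.left.Opens, x ∈ W ∧ ∀ y ∈ W,
          topologicalKrullDim (GLinSh.stab a (Over.homMk (X.left.fromSpecResidueField y) rfl :
              Over.mk (X.left.fromSpecResidueField y ≫ X.hom) ⟶ X)) =
            topologicalKrullDim (GLinSh.stab a (Over.homMk (X.left.fromSpecResidueField x) rfl :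
              Over.mk (X.left.fromSpecResidueField x ≫ X.hom) ⟶ X)))
    (n : ℕ) (f : Γ(B.V.left, ⊤)) (Uf : X.left.Opens) (hn : 1 ≤ n) (hf : B.IsInvSection n f)
    (hUf : (Uf : Set X.left) = GLinSh.nonvanishing B.π f) (haff : IsAffineOpen Uf) (hxU : x ∈ Uf)
    (hcl : ∀ (Ω : Type u) [Field Ω] [IsAlgClosed Ω] (T : Over (Spec (CommRingCat.of k)))
        (_ : T.left ≅ Spec (CommRingCat.of Ω)) (g : T ⟶ X), Set.range g.left.base = {x} →
          IsClosed ((fun p : (fst X T).left ⁻¹ᵁ Uf => (p : (X ⊗ T).left)) ⁻¹' Set.range (GIT.psi a g).left.base)) :
    B.IsStablePt x := by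
  classical
  obtain ⟨A, _, _, w, _, _, β, hβ, h1, hlr⟩ := GITAffLib.exists_setup G hG
  haveI := hG.1
  haveI := hG.2.1
  haveI : LocallyOfFiniteType G.hom := inferInstance
  haveI : QuasiCompact G.hom := inferInstance
  let U : X.left.Opens := ⨆ i : {i : (m : ℕ) × Γ(B.V.left, ⊤) // 1 ≤ i.1 ∧ B.IsInvSection i.1 i.2 ∧
      ∀ h : GLinSh.HasWeight B.atlas.chart i.1 i.2, IsAffineOpen (GLinShLib.nv h)}, GLinShLib.nv i.2.2.1.1
  have hU : (U : Set X.left) = B.ssLocus := by
    rw [TopologicalSpace.Opens.coe_iSup]
    refine Set.Subset.antisymm (Set.iUnion_subset ?_) ?_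
    · rintro ⟨⟨m, h⟩, hm, hh, haff'⟩ z hz
      exact ⟨m, h, hm, hh, hz, _, rfl, haff' hh.1⟩
    · rintro z ⟨m, h, hm, hh, hz, O, hO, hOa⟩
      obtain rfl := GLinShLib.nv_congr hh.1 O hO
      exact Set.mem_iUnion.2 ⟨⟨⟨m, h⟩, hm, hh, fun _ => hOa⟩, hz⟩
  obtain ⟨Q⟩ := GLinStab.exists_ssQuot (w := w) hβ h1 hlr B hU
  obtain rfl := GLinShLib.nv_congr hf.1 Uf hUf
  obtain ⟨W, hxW, hW⟩ := hreg
  refine GLinStab.isStablePt_of_regular Q hβ h1 hxW (fun y hy => ?_) hf
    (GLinStab.nv_le_ssLocus hU hn hf haff) hxU hcl
  rw [← GLinStab.dim_stab_residue, ← GLinStab.dim_stab_residue]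
  exact hW y hy

end Groth.Agent.S14716
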