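import Groth.Statements.S14717
import Groth.Agent.GLinShLib.LinComb

set_option autoImplicit false
universe u
open CategoryTheory MonoidalCategory CartesianMonoidalCategory MonObj GrpObj AlgebraicGeometry Topology
open GIT

namespace Groth.Agent.S14717

/-- Let k be a field of characteristic zero, G a connected reductive algebraic group over k (affine,
smooth, with connected reductive geometric fibre) acting by σ on a finite-type k-scheme X (not
necessarily separated), and L a G-linearised line bundle on X, taken in total-space form (a line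
bundle V → X with a linear atlas and a fibrewise-linear lifting of the action; sections of L^n are
the weight-n functions on V, invariant sections those fixed by the lifted action, X_s the locus over
which s does not vanish identically on the fibre). Let x_1, …, x_m be finitely many semi-stable
points of X. Then there is an invariant section s of some L^n, n ≥ 1, such that X_s is an affine
open containing all the x_i; if moreover all the x_i are stable (no condition on stabilisers), s can
be chosen so that the action of G on X_s is closed. (The published statement is for any reductive G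
in any characteristic; this row is the characteristic-zero case with G connected. L is taken in
total-space form.) -/
theorem result (k : Type u) [Field k] [CharZero k]
    (G X : Over (Spec (CommRingCat.of k))) [GrpObj G] (hG : Red.IsReductive G)
    [LocallyOfFiniteType X.hom] [QuasiCompact X.hom]
    (a : AlgGrp.Action G X) (B : GLinSh.LinBun G a)
    (s : Finset X.left) (hs : ∀ x ∈ s, B.IsSemistablePt x) :
    ∃ (n : ℕ) (f : Γ(B.V.left, ⊤)) (Uf : X.left.Opens), 1 ≤ n ∧ B.IsInvSection n f ∧
      (Uf : Set X.left) = GLinSh.nonvanishing B.π f ∧ IsAffineOpen Uf ∧ (∀ x ∈ s, x ∈ Uf) ∧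
      ((∀ x ∈ s, B.IsStablePt x) → GLinSh.ClosedOrbitsOn a Uf) := by
  classical
  have key : ∀ x : s, ∃ (n : ℕ) (f : Γ(B.V.left, ⊤)) (hf : B.IsInvSection n f),
      1 ≤ n ∧ x.1 ∈ GLinShLib.nv hf.1 ∧ IsAffineOpen (GLinShLib.nv hf.1) ∧
      ((∀ y ∈ s, B.IsStablePt y) → GLinSh.ClosedOrbitsOn a (GLinShLib.nv hf.1)) := by
    intro x
    by_cases hst : ∀ y ∈ s, B.IsStablePt y
    · obtain ⟨n, f, hn, hf, hx, U, hU, hUa, hUc⟩ := hst x.1 x.2
      obtain rfl := GLinShLib.nv_congr hf.1 U hU
      exact ⟨n, f, hf, hn, hx, hUa, fun _ => hUc⟩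
    · obtain ⟨n, f, hn, hf, hx, U, hU, hUa⟩ := hs x.1 x.2
      obtain rfl := GLinShLib.nv_congr hf.1 U hU
      exact ⟨n, f, hf, hn, hx, hUa, fun h => absurd h hst⟩
  choose n f hf hn hx haff hcl using key
  let N := ∏ x, n x
  have hN : 1 ≤ N := show 0 < ∏ x, n x from Finset.prod_pos fun x _ => hn x
  have hdvd : ∀ x, n x ∣ N := fun x => Finset.dvd_prod_of_mem n (Finset.mem_univ x)
  let g : s → Γ(B.V.left, ⊤) := fun x => f x ^ (N / n x)
  have hg : ∀ x, B.IsInvSection N (g x) := fun x => by
    have := GLinShLib.isInvSection_pow (hf x) (N / n x)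
    rwa [Nat.mul_div_cancel' (hdvd x)] at this
  have hnv : ∀ x, GLinShLib.nv (hg x).1 = GLinShLib.nv (hf x).1 := fun x =>
    TopologicalSpace.Opens.ext (GLinShLib.nonvanishing_pow (f x)
      (Nat.div_pos (Nat.le_of_dvd hN (hdvd x)) (hn x)))
  obtain ⟨c, hc⟩ := GLinShLib.exists_lin_mem hg s fun x hxs => ⟨⟨x, hxs⟩, by rw [hnv]; exact hx ⟨x, hxs⟩⟩
  refine ⟨N, GLinShLib.lin c g, GLinShLib.nv (GLinShLib.isInvSection_lin hg c).1, hN,
    GLinShLib.isInvSection_lin hg c, rfl,
    GLinShLib.isAffineOpen_nv_lin hg (fun x => by rw [hnv]; exact haff x) c, hc, fun hst => ?_⟩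
  exact GLinShLib.closedOrbitsOn_of_le_iSup (W := fun x => GLinShLib.nv (hg x).1)
    (fun x => by rw [hnv]; exact hcl x hst) (fun x => GLinShLib.isInvOpen_nv (hg x))
    (GLinShLib.nv_lin_le hg c)

end Groth.Agent.S14717
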