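import Groth.Statements.S14718
import Groth.Agent.GLinTotLib.Pull
import Groth.Agent.GLinShLib.Basic
import Groth.Agent.GITAffLib.Geometric
import Groth.Agent.AmpleThLib.Locus
import Groth.Agent.MiscFlat6.AmpleSep

set_option autoImplicit false
universe u
open CategoryTheory MonoidalCategory CartesianMonoidalCategory MonObj GrpObj AlgebraicGeometry Topology
open GIT

set_option synthInstance.maxHeartbeats 400000
set_option maxHeartbeats 1000000
set_option backward.isDefEq.respectTransparency false

attribute [-instance] CategoryTheory.ReflQuiver.toQuiver CompletePartialOrder.toPartialOrder CompletePartialOrder.toOrderBot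
namespace Groth.Agent.S14718

open GLinTotLib SymAlgLib AmpleLib in
theorem mem_nv_sect {S : Scheme.{u}} {G X Y : Over S} [GrpObj G] {a : AlgGrp.Action G X} (φ : X ⟶ Y)
    (L : Y.left.Modules) [Coh.IsQCoh L] [IsAffineHom φ.left] (hφ : GIT.IsInvariant a φ) (hL : PicF.IsInvertible L)
    (σ : Γ(L, ⊤)) :
    GLinSh.nonvanishing (linBun φ L hφ hL).π (sect φ L σ) =
      ((φ.left ⁻¹ᵁ TwistLib.genSet hL σ : X.left.Opens) : Set X.left) := by
  ext x
  obtain ⟨U, e, hxU, he⟩ := TwistLib.exists_genOn hL (φ.left x)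
  obtain ⟨W, hW, hxW, hWU⟩ := exists_isAffineOpen_mem_and_subset hxU
  obtain ⟨r, hr⟩ := AmpleThLib.exists_coeff σ (he.res hWU)
  have h := coeff_sect φ L σ hr (preimage_le φ L W)
  let K : GLinShLib.Chart (linBun φ L hφ hL) :=
    ⟨φ.left ⁻¹ᵁ W, hW.preimage φ.left, φ.left ⁻¹ᵁ W, le_rfl, _, mem_chart φ L (res L hWU e) hW (he.res hWU)⟩
  have hy : K.coord = K.y := by
    show (linBun φ L hφ hL).V.left.presheaf.map _ K.y = _
    rw [show (homOfLE ((linBun φ L hφ hL).π.left.preimage_mono (le_refl (φ.left ⁻¹ᵁ W)))).op = 𝟙 _ from rfl,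
      CategoryTheory.Functor.map_id]
    rfl
  have hc : GLinSh.resTop (linBun φ L hφ hL).π K.W (sect φ L σ) =
      (linBun φ L hφ hL).π.left.app K.W (φ.left.app W r) * K.coord ^ 1 := by
    rw [pow_one, hy]
    exact h
  have h2 := SetLike.ext_iff.mp (AmpleThLib.mem_genSet_coeff hL σ (he.res hWU) hr) (φ.left x)
  rw [GLinShLib.mem_nonvanishing_iff K hc hxW, ← Scheme.preimage_basicOpen]
  exact ⟨fun h => (h2.2 h).1, fun h => h2.1 ⟨h, hxW⟩⟩


/-- Let k be a field, G a group scheme over k acting by σ on a k-scheme X, φ : X → Y an invariant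
k-morphism (φ ∘ σ = φ ∘ p₂) which is affine, and M an ample invertible sheaf on Y. Then there is a
G-linearised line bundle L on X, taken in total-space form, with X = X^ss(L): every point x has an
invariant section s of some L^n, n ≥ 1, with s(x) ≠ 0 and X_s affine. If moreover (Y, φ) is a
geometric quotient of X by G, then X = X^s(L) for the same L (the action of G on those X_s is
closed; no condition on stabilisers). (The published statement assumes G reductive, X of finite type
and (Y, φ) a categorical quotient with Y quasi-projective; this row keeps only what the construction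
uses: φ invariant and affine, M ample. L is taken in total-space form.) -/
theorem result (k : Type u) [Field k]
    (G X Y : Over (Spec (CommRingCat.of k))) [GrpObj G]
    (a : AlgGrp.Action G X) (φ : X ⟶ Y) (hφ : GIT.IsInvariant a φ) [IsAffineHom φ.left]
    (M : Y.left.Modules) (hM : CohB1.IsAmple M) :
    ∃ B : GLinSh.LinBun G a, B.ssLocus = Set.univ ∧ (GIT.IsGeomQuot a φ → B.sLocus = Set.univ) := by
  classical
  obtain ⟨hc, hloc⟩ := (AmpleThLib.isAmple_iff (hL := hM.1)).1 hM
  choose n V hn hV hmem haff using hloc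
  obtain ⟨F, hF⟩ := isCompact_univ.elim_finite_subcover (fun y => (V y : Set Y.left)) (fun y => (V y).2)
    fun y _ => Set.mem_iUnion.mpr ⟨y, hmem y⟩
  let N := ∏ y ∈ F, n y
  have hN : 0 < N := Finset.prod_pos fun y _ => hn y
  have hloc' : ∀ y ∈ F, AmpleThLib.IsLocus hM.1 N (V y) := fun y hy => by
    obtain ⟨m, hm⟩ := Finset.dvd_prod_of_mem n hy
    have : 0 < m := Nat.pos_of_ne_zero fun h0 => hN.ne' (show N = 0 by rw [show N = _ from hm, h0, mul_zero])
    exact (show N = _ from hm) ▸ (hV y).mul_right this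
  let L := CohB1.tensorPow M N
  have hL : PicF.IsInvertible L := AmpleThLib.tensorPow_isInvertible hM.1 N
  haveI : Coh.IsQCoh L := TwistLib.isQCoh_of_isInvertible hL
  have key : ∀ x : X.left, ∃ (σ : Γ(L, ⊤)) (U : X.left.Opens), x ∈ U ∧ IsAffineOpen U ∧
      (U : Set X.left) = GLinSh.nonvanishing (GLinTotLib.linBun φ L hφ hL).π (GLinTotLib.sect φ L σ) := by
    intro x
    obtain ⟨y, hy, hxy⟩ : ∃ y ∈ F, φ.left x ∈ V y := by
      simpa using hF (Set.mem_univ (φ.left x))
    obtain ⟨σ, hσ⟩ := hloc' y hy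
    exact ⟨σ, φ.left ⁻¹ᵁ V y, hxy, (haff y).preimage φ.left, by rw [← hσ, mem_nv_sect]⟩
  refine ⟨GLinTotLib.linBun φ L hφ hL, Set.eq_univ_of_forall fun x => ?_,
    fun hgeo => Set.eq_univ_of_forall fun x => ?_⟩
  · obtain ⟨σ, U, hx, hU, hUeq⟩ := key x
    exact ⟨1, _, le_rfl, GLinTotLib.isInvSection_sect φ L hφ hL σ, hUeq ▸ hx, U, hUeq, hU⟩
  · obtain ⟨σ, U, hx, hU, hUeq⟩ := key x
    haveI : Y.left.IsSeparated := MiscFlat6.isSeparated_of_isAmple hM
    haveI : IsSeparated Y.hom := by
      have : IsSeparated (Y.hom ≫ Limits.terminal.from _) := by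
        rw [Limits.terminal.comp_from]; infer_instance
      exact IsSeparated.of_comp Y.hom (Limits.terminal.from _)
    refine ⟨1, _, le_rfl, GLinTotLib.isInvSection_sect φ L hφ hL σ, hUeq ▸ hx, U, hUeq, hU, ?_⟩
    intro Ω _ _ T eT f _
    exact (GITAffLib.isClosedAction_of_isGeomQuot hgeo Ω T eT f).preimage continuous_subtype_val

end Groth.Agent.S14718
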