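import Groth.Statements.S1472
import Mathlib
import Groth.Agent.S1356
import Groth.Agent.S2280
import Groth.Agent.FibPropLib.Main
import Groth.Agent.NormalInsepLib.Basic
-- import your own Groth.Agent.* helpers here

set_option autoImplicit false
set_option backward.isDefEq.respectTransparency false
set_option backward.isDefEq.respectTransparency.types false
set_option maxHeartbeats 1000000
universe u
open FlatMor

namespace Groth.Agent.S1472

open AlgebraicGeometry CategoryTheory Limits in
theorem preimage_fromSpec {k : CommRingCat.{u}} {X : Scheme.{u}} (g : X ⟶ Spec k) {W : X.Opens} (hW : IsAffineOpen W) :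
    Spec.preimage (hW.fromSpec ≫ g) = (Scheme.ΓSpecIso k).inv ≫ g.appTop ≫ X.presheaf.map (homOfLE le_top).op := by
  apply Spec.map_injective
  rw [Spec.map_preimage, ← IsAffineOpen.SpecMap_appLE_fromSpec g (isAffineOpen_top (Spec k)) hW
    (show W ≤ g ⁻¹ᵁ ⊤ from le_top), IsAffineOpen.fromSpec_top, Scheme.isoSpec_Spec_inv, ← Spec.map_comp]
  rfl

open AlgebraicGeometry CategoryTheory Limits in
open TensorProduct in
/-- A normal morphism has normal base changes to fields. -/
theorem isNormalScheme_pullback {Y S : Scheme.{u}} (h : Y ⟶ S) [LocallyOfFiniteType h]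
    (hn : ∀ (U : Y.Opens) (V : S.Opens) (hU : IsAffineOpen U) (hV : IsAffineOpen V) (hUV : U ≤ h ⁻¹ᵁ V),
      letI := (h.appLE V U hUV).hom.toAlgebra
      EGA4.IsNormalHom Γ(S, V) Γ(Y, U))
    (K : Type u) [Field K] (p : Spec (CommRingCat.of K) ⟶ S) : Pi1.IsNormalScheme (pullback h p) := by
  haveI hlft : ∀ y, LocallyOfFiniteType (h.fiberToSpecResidueField y) := fun y =>
    MorphismProperty.pullback_snd _ _ inferInstance
  haveI hN : ∀ y, IsLocallyNoetherian (h.fiber y) := fun y =>
    LocallyOfFiniteType.isLocallyNoetherian (h.fiberToSpecResidueField y)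
  obtain ⟨-, hP⟩ := (FibPropLib.normalHom_iff h hN).mp hn
  obtain ⟨⟨s, φ⟩, rfl⟩ := (Scheme.SpecToEquivOfField K S).symm.surjective p
  letI : Algebra (S.residueField s) K := φ.hom.toAlgebra
  have hns : Pi1.IsNormalScheme (pullback (h.fiberToSpecResidueField s)
      (Spec.map (CommRingCat.ofHom (algebraMap (S.residueField s) K)))) := by
    refine NormalInsepLib.isNormalScheme_of_charts (X := h.fiber s) (k := S.residueField s) (h.fiberToSpecResidueField s) K fun W hW => ?_
    have hWn : FibPropLib.FibP h s (fun k T _ _ _ => EGA4.IsGeomNormal k T) W :=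
      (FibPropLib.fibP_iff_ptP h s FibPropLib.fibProp_normal W hW).mpr fun z _ => hP s z
    letI : Algebra (S.residueField s) Γ(h.fiber s, W) :=
      (Spec.preimage (hW.fromSpec ≫ h.fiberToSpecResidueField s)).hom.toAlgebra
    have hA : EGA4.IsGeomNormal (S.residueField s) Γ(h.fiber s, W) := by
      have e := preimage_fromSpec (h.fiberToSpecResidueField s) hW
      unfold FibPropLib.FibP FibPropLib.strW at hWn
      rw [← e] at hWn
      exact hWn
    exact GeomRedFibLib.isNormalRing_of_ringEquiv _ _ (Algebra.TensorProduct.comm (S.residueField s) Γ(h.fiber s, W) K).toRingEquiv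
      (Groth.Agent.S9413.result (S.residueField s) Γ(h.fiber s, W) K hA (NormalInsepLib.isNormalRing_field K))
  have e := ((IsPullback.of_hasPullback (h.fiberToSpecResidueField s) (Spec.map φ)).paste_horiz
    (IsPullback.of_hasPullback h (S.fromSpecResidueField s))).isoPullback
  intro x
  have hns' : Pi1.IsNormalScheme (pullback (h.fiberToSpecResidueField s) (Spec.map φ)) := hns
  obtain ⟨h1, h2⟩ := hns' (e.inv x)
  let ei := (asIso (e.inv.stalkMap x)).commRingCatIsoToRingEquiv
  haveI := h2
  exact ⟨ei.toMulEquiv.isDomain_iff.mp h1, IsIntegrallyClosed.of_equiv ei⟩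

open AlgebraicGeometry CategoryTheory Limits in
/-- Let h : Y → S be of finite presentation and normal (affine-locally its ring maps are flat with
geometrically normal fibres), let s be a point of S and T an open of the fibre over s which is
geometrically irreducible over the residue field of s. Then there are an affine elementary étale
neighbourhood (S', s') of (S, s) and a quasi-compact open V of the base change of Y to S' such that
all fibres of V → S' are geometrically integral and the points of V over s' are exactly the points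
of the base change over s' whose image in Y lies in T. -/
theorem result {Y S : Scheme.{u}} (h : Y ⟶ S) [LocallyOfFinitePresentation h] [QuasiCompact h] [QuasiSeparated h]
    (hn : ∀ (U : Y.Opens) (V : S.Opens) (hU : IsAffineOpen U) (hV : IsAffineOpen V) (hUV : U ≤ h ⁻¹ᵁ V),
      letI := (h.appLE V U hUV).hom.toAlgebra
      EGA4.IsNormalHom Γ(S, V) Γ(Y, U))
    (s : S) (T : (h.fiber s).Opens) (hT : GeometricallyIrreducible (T.ι ≫ h.fiberToSpecResidueField s)) :
    ∃ (S' : Scheme.{u}) (g : S' ⟶ S) (s' : S'), IsAffine S' ∧ Hens2.IsEtaleNbhd g s' s ∧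
      ∃ V : (pullback h g).Opens, IsCompact (V : Set ↑(pullback h g)) ∧ GeometricallyIntegral (V.ι ≫ pullback.snd h g) ∧
        ∀ y' : ↑(pullback h g), pullback.snd h g y' = s' → (y' ∈ V ↔ pullback.fst h g y' ∈ (h.fiberι s) '' (T : Set ↑(h.fiber s))) := by
  haveI hflat : Flat h := by
    rw [HasRingHomProperty.iff_appLE (P := @Flat)]
    intro V U e
    letI := (h.appLE V.1 U.1 e).hom.toAlgebra
    exact (hn U.1 V.1 U.2 V.2 e).1
  have hnorm := isNormalScheme_pullback h hn
  haveI hgr : GeometricallyReduced h := ⟨geometrically_iff_of_isClosedUnderIsomorphisms.mpr fun K _ p => by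
    haveI : ∀ x : ↥(pullback h p), _root_.IsReduced ((pullback h p).presheaf.stalk x) := fun x => by
      haveI := (hnorm K p x).1
      infer_instance
    exact isReduced_of_isReduced_stalk _⟩
  have hTc : GeometricallyConnected (T.ι ≫ h.fiberToSpecResidueField s) :=
    ⟨geometrically_iff_of_isClosedUnderIsomorphisms.mpr fun K _ p => by
      haveI : IrreducibleSpace ↥(pullback (T.ι ≫ h.fiberToSpecResidueField s) p) :=
        hT.geometrically_irreducibleSpace _ _ _ (IsPullback.of_hasPullback _ _)
      infer_instance⟩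
  obtain ⟨S', g, s', hS', hg, V, hVc, hVgc, hmem⟩ := Groth.Agent.S1356.result h s T hTc
  refine ⟨S', g, s', hS', hg, V, hVc, ⟨fun K _ p Z' fst' snd' hpb => ?_⟩, hmem⟩
  suffices hI : IsIntegral (pullback (V.ι ≫ pullback.snd h g) p) by
    haveI := hI
    haveI : Nonempty Z' := ⟨hpb.isoPullback.inv (Nonempty.some inferInstance)⟩
    exact isIntegral_of_isOpenImmersion hpb.isoPullback.hom
  haveI : ConnectedSpace ↥(pullback (V.ι ≫ pullback.snd h g) p) :=
    hVgc.geometrically_connectedSpace _ _ _ (IsPullback.of_hasPullback _ _)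
  haveI : LocallyOfFiniteType (pullback.snd (V.ι ≫ pullback.snd h g) p) := inferInstance
  haveI : IsLocallyNoetherian (pullback (V.ι ≫ pullback.snd h g) p) :=
    LocallyOfFiniteType.isLocallyNoetherian (pullback.snd (V.ι ≫ pullback.snd h g) p)
  refine (Groth.Agent.S2280.result _).2.mpr ⟨inferInstance, fun x => ?_⟩
  let e := (IsPullback.of_hasPullback (pullback.snd h g) p).paste_horiz (IsPullback.of_hasPullback h g) |>.isoPullback
  let j : pullback (V.ι ≫ pullback.snd h g) p ⟶ pullback h (p ≫ g) :=
    pullback.map _ _ _ _ V.ι (𝟙 _) (𝟙 _) (by simp) (by simp) ≫ e.hom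
  haveI := (hnorm K (p ≫ g) (j x)).1
  exact (asIso (j.stalkMap x)).commRingCatIsoToRingEquiv.toMulEquiv.isDomain_iff.mp inferInstance

end Groth.Agent.S1472
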