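import Groth.Statements.S14720
import Groth.Agent.GLinExtLib.Quot
import Groth.Agent.S11441
import Groth.Agent.S14713
import Groth.Agent.S14714
import Groth.Agent.CurveVBLib.Integral
import Groth.Agent.RegUFDLib.Basic
import Groth.Agent.DepthLib.GeomRk
import Groth.Agent.GrpFieldLib.Neutral
import Groth.Agent.GrpFieldLib.Comps

set_option autoImplicit false
universe u
open CategoryTheory MonoidalCategory CartesianMonoidalCategory MonObj GrpObj AlgebraicGeometry Topology
open GIT


set_option backward.isDefEq.respectTransparency false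
set_option synthInstance.maxHeartbeats 400000
set_option maxHeartbeats 1000000
set_option linter.style.haveILetI false
attribute [-instance] CategoryTheory.ReflQuiver.toQuiver CompletePartialOrder.toPartialOrder CompletePartialOrder.toOrderBot

namespace Groth.Agent.S14720

open CategoryTheory.Limits TopologicalSpace
open GLinShLib (openObj openHom)

variable {k : Type u} [Field k]

theorem connectedSpace_grp (G : Over (Spec (CommRingCat.of k))) [GrpObj G] (hG : Red.IsReductive G) :
    ConnectedSpace G.left := by
  obtain ⟨s⟩ : Nonempty (Spec (CommRingCat.of k)) := inferInstance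
  haveI : ConnectedSpace ↥(pullback G.hom (Red.geomPt s)) := (hG.2.2 s).2.2.1
  haveI : Surjective (Red.geomPt s) := ⟨fun x => ⟨Classical.arbitrary _, Subsingleton.elim _ _⟩⟩
  haveI : Surjective (pullback.fst G.hom (Red.geomPt s)) := MorphismProperty.pullback_fst _ _ inferInstance
  exact (pullback.fst G.hom (Red.geomPt s)).surjective.connectedSpace (pullback.fst G.hom (Red.geomPt s)).continuous

theorem geometricallyIrreducible_grp (G : Over (Spec (CommRingCat.of k))) [GrpObj G] [Smooth G.hom]
    [ConnectedSpace G.left] : GeometricallyIrreducible G.hom := by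
  have h := Groth.Agent.GrpField.geometricallyIrreducible_of_range (G := G) (𝟙 G.left) (by
    rw [← Groth.Agent.GrpField.connectedComponent_unit, PreconnectedSpace.connectedComponent_eq_univ]
    exact Set.range_eq_univ.2 fun x => ⟨x, rfl⟩)
  rwa [Category.id_comp] at h

theorem regular_stalk {X : Over (Spec (CommRingCat.of k))} [Smooth X.hom] (x : X.left) :
    IsRegularLocalRing (X.left.presheaf.stalk x) :=
  (DepthLib.regular_of_smooth_and_conversely X.hom x).1 (by rw [Scheme.Hom.smoothLocus_eq_top]; trivial)

/-- The trivial linearised bundle. -/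
theorem exists_linBun_trivial (G X : Over (Spec (CommRingCat.of k))) [GrpObj G] [Smooth G.hom] [IsReduced X.left]
    (a : AlgGrp.Action G X) : Nonempty (GLinSh.LinBun G a) := by
  have hd : Dense ((⊤ : X.left.Opens) : Set X.left) := dense_univ
  let C : GLinExtLib.CartData (⊤ : X.left.Opens) :=
    { I := {V : X.left.Opens // IsAffineOpen V}
      U := fun V => V.1
      aff := fun V => V.2
      cov := fun x => by
        obtain ⟨V, hV, hx, -⟩ := exists_isAffineOpen_mem_and_subset (x := x) (U := ⊤) trivial
        exact ⟨⟨V, hV⟩, hx⟩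
      h := fun _ => 1
      unit := fun _ => by rw [GLinExtLib.rs, map_one]; exact isUnit_one
      tr := fun _ _ => ⟨1, isUnit_one, by rw [GLinExtLib.rs, GLinExtLib.rs, map_one, map_one, _root_.one_mul]⟩
      dn := GLinExtLib.dn_of_dense hd }
  obtain ⟨Φ, hπ, hlin, -⟩ := GLinExtLib.exists_linBun (a := a) C.lin hd rfl fun _ _ =>
    ⟨1, ((map_one _).trans (map_one _).symm).trans (_root_.mul_one _).symm⟩
  exact ⟨⟨C.lin.V, C.lin.π, C.lin.atlas, Φ, hπ, hlin⟩⟩

/-- Let k be a field of characteristic zero, G a connected reductive algebraic group over k acting by σ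
on a connected separated scheme X smooth and of finite type over k, and U an invariant open subset
of X (σ⁻¹U = p₂⁻¹U) with the action restricted to U. Then the following are equivalent: (i) U ⊆
X^s(L) for some G-linearised line bundle L on X (taken in total-space form; stable points are those
x admitting an invariant section s of some L^n, n ≥ 1, with s(x) ≠ 0, X_s affine and the action of G
on X_s closed, no condition on stabilisers); (ii) a geometric quotient (Y, φ) of U by G exists with
φ affine and Y quasi-projective (of finite type over k with an ample invertible sheaf). (The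
published statement allows X non-separated; then the second condition does not imply the first — for
the affine plane with doubled origin, the trivial group and U one copy of the plane, since a section
of a line bundle on that X which is non-zero at one origin is non-zero at the other — and the
published proof uses that the complement of an affine open subset of a smooth separated scheme has
pure codimension one, so this row assumes X separated. The published statement also gives a third
equivalent condition when the generic stabiliser is zero-dimensional, not stated here; it is for any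
characteristic, and this row is the characteristic-zero case.) -/
theorem result (k : Type u) [Field k] [CharZero k]
    (G X : Over (Spec (CommRingCat.of k))) [GrpObj G] (hG : Red.IsReductive G)
    [LocallyOfFiniteType X.hom] [QuasiCompact X.hom] [Smooth X.hom] [IsSeparated X.hom] [ConnectedSpace X.left]
    (a : AlgGrp.Action G X)
    (U : X.left.Opens) (hinv : a.act.left ⁻¹ᵁ U = (snd G X).left ⁻¹ᵁ U)
    (aU : AlgGrp.Action G (Over.mk (U.ι ≫ X.hom)))
    (jU : Over.mk (U.ι ≫ X.hom) ⟶ X) (hjU : jU.left = U.ι) (haU : aU.act ≫ jU = (G ◁ jU) ≫ a.act) :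
    (∃ B : GLinSh.LinBun G a, (U : Set X.left) ⊆ B.sLocus) ↔
      ∃ (Y : Over (Spec (CommRingCat.of k))) (φ : Over.mk (U.ι ≫ X.hom) ⟶ Y),
        GIT.IsGeomQuot aU φ ∧ IsAffineHom φ.left ∧ LocallyOfFiniteType Y.hom ∧
        ∃ M : Y.left.Modules, CohB1.IsAmple M := by
  haveI : Smooth G.hom := hG.2.1
  haveI := connectedSpace_grp G hG
  haveI := geometricallyIrreducible_grp G
  haveI : IsLocallyNoetherian X.left := LocallyOfFiniteType.isLocallyNoetherian X.hom
  haveI : CompactSpace X.left := QuasiCompact.compactSpace_of_compactSpace X.hom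
  haveI : IsNoetherian X.left := ⟨⟩
  haveI : ∀ x : X.left, IsDomain (X.left.presheaf.stalk x) := fun x =>
    haveI := regular_stalk (X := X) x
    CommAlgDim.isDomain_of_isRegularLocalRing _
  haveI : IsIntegral X.left := CurveVBLib.isIntegral_of_connected
  haveI : X.left.IsSeparated := ⟨by
    rw [show terminal.from X.left = X.hom ≫ terminal.from _ from terminal.hom_ext _ _]; infer_instance⟩
  have hufd : ∀ x : X.left, UniqueFactorizationMonoid (X.left.presheaf.stalk x) := fun x =>
    haveI := regular_stalk (X := X) x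
    RegUFDLib.uniqueFactorizationMonoid _
  obtain rfl : jU = openHom U := Over.OverMorphism.ext hjU
  constructor
  · rintro ⟨B, hB⟩
    have hopen : ∀ P : X.left → Prop, (∀ x, P x → ∃ (n : ℕ) (f : Γ(B.V.left, ⊤)) (hf : B.IsInvSection n f),
        x ∈ GLinShLib.nv hf.1 ∧ ∀ z ∈ GLinShLib.nv hf.1, P z) →
        ∃ W : X.left.Opens, (W : Set X.left) = {x | P x} ∧ GLinShLib.IsInvOpen a W := by
      intro P hP
      refine ⟨⟨{x | P x}, isOpen_iff_forall_mem_open.2 fun x hx => ?_⟩, rfl,
        GLinShLib.isInvOpen_iff fun p hp => ?_⟩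
      · obtain ⟨n, f, hf, hxf, hall⟩ := hP x hx
        exact ⟨_, hall, (GLinShLib.nv hf.1).isOpen, hxf⟩
      · obtain ⟨n, f, hf, hxf, hall⟩ := hP _ hp
        exact hall _ ((SetLike.ext_iff.1 (GLinShLib.isInvOpen_nv hf) p).2 hxf)
    obtain ⟨U0, hU0, hU0i⟩ := hopen B.IsSemistablePt fun x ⟨n, f, hn, hf, hx, W, hW, hWa⟩ =>
      ⟨n, f, hf, hx, fun z hz => ⟨n, f, hn, hf, hz, W, hW, hWa⟩⟩
    obtain ⟨Us, hUs, hUsi⟩ := hopen B.IsStablePt fun x ⟨n, f, hn, hf, hx, W, hW, hWa⟩ =>
      ⟨n, f, hf, hx, fun z hz => ⟨n, f, hn, hf, hz, W, hW, hWa⟩⟩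
    have hle : Us ≤ U0 := fun x hx => hU0.ge (show B.IsSemistablePt x from by
      obtain ⟨n, f, hn, hf, hx', W, hW, hWa, -⟩ := hUs.le hx
      exact ⟨n, f, hn, hf, hx', W, hW, hWa⟩)
    have hUle : U ≤ Us := fun x hx => hUs.ge (hB hx)
    obtain ⟨a0, ha0⟩ := GLinShLib.exists_action hU0i
    obtain ⟨aS, haS⟩ := GLinShLib.exists_action hUsi
    obtain ⟨Y, φ, hcq, haff, -, hsep, hlft, M, hM⟩ :=
      Groth.Agent.S14713.result k G X hG a B U0 hU0 a0 (openHom U0) rfl ha0
    obtain ⟨Yt, φs, hφs, hpre, hgeo⟩ := Groth.Agent.S14714.result k G X hG a B U0 hU0 a0 (openHom U0) rfl ha0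
      Y φ hcq.1 Us hUs hle aS (openHom Us) rfl haS
    have hg := hgeo.1
    -- the image of `U` is open and `U` is saturated
    let ι' : (openObj U).left ⟶ (openObj Us).left := X.left.homOfLE hUle
    have hι' : ι' ≫ Us.ι = U.ι := X.left.homOfLE_ι hUle
    have hsat : ∀ x : (openObj Us).left, φs.left x ∈ φs.left '' (Us.ι ⁻¹ᵁ U : Set Us.toScheme) → Us.ι x ∈ U := by
      rintro x ⟨u, hu, hxu⟩
      obtain ⟨w, hw1, hw2⟩ := Scheme.Pullback.exists_preimage_pullback x u hxu.symm
      obtain ⟨q, rfl⟩ := hg.orbit w
      rw [← Scheme.Hom.comp_apply, GIT.PsiY, pullback.lift_fst] at hw1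
      rw [← Scheme.Hom.comp_apply, GIT.PsiY, pullback.lift_snd] at hw2
      have h1 : a.act.left ((G ◁ openHom Us).left q) = Us.ι x := by
        rw [← hw1, ← Scheme.Hom.comp_apply, ← Over.comp_left, ← haS]; rfl
      have h2 : (snd G X).left ((G ◁ openHom Us).left q) = Us.ι u := by
        rw [← hw2, ← Scheme.Hom.comp_apply, ← Over.comp_left, whiskerLeft_snd]; rfl
      rw [← h1]
      exact (SetLike.ext_iff.1 hinv _).2 (show (snd G X).left _ ∈ U from h2 ▸ hu)
    have hqm : IsQuotientMap φs.left.base := hg.subm _ _ _ (IsPullback.of_id_snd (f := φs.left))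
    let S' : Set (openObj Yt).left := φs.left '' (Us.ι ⁻¹ᵁ U : Set Us.toScheme)
    have hS' : φs.left ⁻¹' S' = (Us.ι ⁻¹ᵁ U : Set Us.toScheme) :=
      Set.Subset.antisymm (fun x hx => hsat x hx) (Set.subset_preimage_image _ _)
    let Vt : Yt.toScheme.Opens := ⟨S', hqm.isOpen_preimage.1 (hS' ▸ (Us.ι ⁻¹ᵁ U).isOpen)⟩
    let V : Y.left.Opens := Yt.ι ''ᵁ Vt
    have hV0 : ∀ x : U.toScheme, φ.left (X.left.homOfLE (hUle.trans hle) x) = Yt.ι (φs.left (ι' x)) := by
      intro x
      show _ = (φs.left ≫ Yt.ι) (ι' x)
      rw [hφs]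
      show _ = (ι' ≫ X.left.homOfLE hle ≫ φ.left) x
      rw [show ι' ≫ X.left.homOfLE hle ≫ φ.left = X.left.homOfLE (hUle.trans hle) ≫ φ.left from
        Scheme.homOfLE_homOfLE_assoc _ _ _ _]
      rfl
    have hrange : Set.range (X.left.homOfLE (hUle.trans hle) ≫ φ.left) ⊆ Set.range V.ι := by
      rintro _ ⟨x, rfl⟩
      rw [Scheme.Opens.range_ι]
      refine ⟨φs.left (ι' x), ⟨ι' x, ?_, rfl⟩, (hV0 x).symm⟩
      show (ι' ≫ Us.ι) x ∈ U
      rw [hι']
      exact x.2
    let φ' : openObj U ⟶ openObj V := Over.homMk (IsOpenImmersion.lift V.ι _ hrange) (by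
      show IsOpenImmersion.lift V.ι _ hrange ≫ V.ι ≫ Y.hom = _
      rw [IsOpenImmersion.lift_fac_assoc, Category.assoc]
      refine (congrArg (X.left.homOfLE _ ≫ ·) (Over.w φ)).trans ?_
      show X.left.homOfLE _ ≫ U0.ι ≫ X.hom = _
      rw [Scheme.homOfLE_ι_assoc]; rfl)
    have hVle : V ≤ Yt := by rintro _ ⟨y, -, rfl⟩; exact y.2
    let g : openObj V ⟶ openObj Yt := Over.homMk (Y.left.homOfLE hVle) (Scheme.homOfLE_ι_assoc _ _ _)
    let pr : openObj U ⟶ openObj Us := Over.homMk ι' (by
      show ι' ≫ Us.ι ≫ X.hom = _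
      rw [reassoc_of% hι']; rfl)
    have hsq : φ'.left ≫ g.left = pr.left ≫ φs.left := by
      rw [← cancel_mono Yt.ι, Category.assoc, Category.assoc]
      show IsOpenImmersion.lift V.ι _ hrange ≫ Y.left.homOfLE hVle ≫ Yt.ι = ι' ≫ φs.left ≫ Yt.ι
      rw [Scheme.homOfLE_ι, IsOpenImmersion.lift_fac, hφs]
      show _ = X.left.homOfLE hUle ≫ X.left.homOfLE hle ≫ φ.left
      rw [Scheme.homOfLE_homOfLE_assoc]
    haveI : IsOpenImmersion g.left := inferInstanceAs (IsOpenImmersion (Y.left.homOfLE hVle))
    haveI : IsOpenImmersion pr.left := inferInstanceAs (IsOpenImmersion (X.left.homOfLE hUle))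
    have hgR : g.left.opensRange = Vt := by
      show (Y.left.homOfLE hVle).opensRange = Vt
      rw [Scheme.opensRange_homOfLE, Scheme.Hom.preimage_image_eq]
    have hprR : pr.left.opensRange = Us.ι ⁻¹ᵁ U := by
      show (X.left.homOfLE hUle).opensRange = _
      rw [Scheme.opensRange_homOfLE]
    have hpb : IsPullback φ'.left pr.left g.left φs.left :=
      IsOpenImmersion.isPullback _ _ _ _ hsq.symm (by
        rw [hgR, hprR]; exact Opens.ext hS')
    have hpb' : IsPullback pr φ' φs g := IsPullback.of_map_of_faithful (Over.forget _) hpb.flip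
    have haUpr : aU.act ≫ pr = (G ◁ pr) ≫ aS.act := by
      rw [← cancel_mono (openHom Us), Category.assoc, Category.assoc, haS,
        ← MonoidalCategory.whiskerLeft_comp_assoc, show pr ≫ openHom Us = openHom U from Over.OverMorphism.ext hι']
      exact haU
    have hinvφ' : GIT.IsInvariant aU φ' := by
      haveI : Mono g := (Over.forget _).mono_of_mono_map (inferInstanceAs (Mono g.left))
      rw [GIT.IsInvariant, ← cancel_mono g, Category.assoc, Category.assoc, ← hpb'.w, reassoc_of% haUpr, hg.inv,
        whiskerLeft_snd_assoc]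
    have hgeo' : GIT.IsGeomQuot aU φ' := hgeo.2 pr φ' g inferInstance hpb' aU haUpr hinvφ'
    haveI : IsOpenImmersion (X.left.homOfLE hle) := inferInstance
    have hpbs : IsPullback φs.left (X.left.homOfLE hle) Yt.ι φ.left :=
      IsOpenImmersion.isPullback _ _ _ _ hφs.symm (by
        rw [Scheme.Opens.opensRange_ι, hpre, Scheme.opensRange_homOfLE])
    haveI : IsAffineHom φs.left := MorphismProperty.of_isPullback hpbs.flip haff
    haveI : IsAffineHom φ'.left := MorphismProperty.of_isPullback hpb.flip ‹IsAffineHom φs.left›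
    haveI : QuasiSeparatedSpace Y.left := by
      rw [quasiSeparatedSpace_iff_quasiSeparated,
        show terminal.from Y.left = Y.hom ≫ terminal.from _ from terminal.hom_ext _ _]
      infer_instance
    haveI : CompactSpace Y.left := hM.2.1
    have hVc : IsCompact (V : Set Y.left) := by
      haveI : NoetherianSpace U.toScheme := U.ι.isOpenEmbedding.isInducing.noetherianSpace
      haveI : CompactSpace (openObj U).left := inferInstanceAs (CompactSpace U.toScheme)
      have : (V : Set Y.left) = Set.range (φ'.left ≫ V.ι) := by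
        rw [Scheme.Hom.comp_base, TopCat.coe_comp, Set.range_comp, Set.range_eq_univ.2 hgeo'.surj,
          Set.image_univ]
        exact V.range_ι.symm
      rw [this]
      exact isCompact_range (φ'.left ≫ V.ι).continuous
    obtain ⟨M', hM'⟩ := GLinExtLib.exists_isAmple_open hM V hVc
    exact ⟨openObj V, φ', hgeo', inferInstance,
      inferInstanceAs (LocallyOfFiniteType (V.ι ≫ Y.hom)), M', hM'⟩
  · rintro ⟨Y, φ, hφ, haff, -, M, hM⟩
    rcases (U : Set X.left).eq_empty_or_nonempty with h0 | hne
    · exact (exists_linBun_trivial G X a).elim fun B => ⟨B, by rw [h0]; exact Set.empty_subset _⟩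
    · exact GLinExtLib.subset_sLocus_of_geomQuot hufd a hinv hne aU haU
        (Groth.Agent.S11441.result _ G _ Y aU φ hφ) hφ.inv hM

end Groth.Agent.S14720
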