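import Groth.Statements.S14723
import Groth.Agent.GLinBCLib.Main

set_option autoImplicit false
universe u
open CategoryTheory MonoidalCategory CartesianMonoidalCategory MonObj GrpObj AlgebraicGeometry Topology
open GIT

attribute [-instance] CategoryTheory.ReflQuiver.toQuiver CompletePartialOrder.toPartialOrder CompletePartialOrder.toOrderBot

set_option backward.isDefEq.respectTransparency false

namespace Groth.Agent.S14723

/-- Let k be a field of characteristic zero, G a connected reductive algebraic group over k (affine,
smooth, with connected reductive geometric fibre) acting by σ on a scheme X of finite type over k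
(not necessarily separated), and L a G-linearised line bundle on X, taken in total-space form (a
line bundle V → X with a linear atlas and a fibrewise-linear lifting of the action; sections of L^n
are the weight-n functions on V, invariant sections those fixed by the lifted action, X_s the locus
over which s does not vanish identically on the fibre). Let K ⊇ k be any extension field, X_K = X
×_k Spec K with the induced action of G, and L_K the base change of L: a G-linearised line bundle on
X_K in total-space form whose total space maps to V over the projection X_K → X by a morphism q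
compatible with the lifted actions and pulling admissible fibre coordinates of L back to admissible
fibre coordinates of L_K. Then X_K^ss(L_K) is the preimage of X^ss(L) and X_K^s(L_K) is the preimage
of X^s(L) (stable: no condition on stabilisers). (The base-changed action and bundle are given as
hypotheses with their compatibilities, base change of a linearised bundle not being a construction
available here. The published statement is for any reductive G in any characteristic; this row is
the characteristic-zero case with G connected. L is taken in total-space form.) -/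
theorem result (k : Type u) [Field k] [CharZero k]
    (G X : Over (Spec (CommRingCat.of k))) [GrpObj G] (hG : Red.IsReductive G)
    [LocallyOfFiniteType X.hom] [QuasiCompact X.hom]
    (a : AlgGrp.Action G X) (B : GLinSh.LinBun G a)
    (K : Type u) [Field K] (T : Over (Spec (CommRingCat.of k))) (eT : T.left ≅ Spec (CommRingCat.of K))
    (a' : AlgGrp.Action G (X ⊗ T)) (ha' : a'.act ≫ fst X T = (G ◁ fst X T) ≫ a.act)
    (ha'' : a'.act ≫ snd X T = snd G (X ⊗ T) ≫ snd X T)
    (B' : GLinSh.LinBun G a') (q : B'.V ⟶ B.V) (hq : B'.π ≫ fst X T = q ≫ B.π)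
    (hlift : B'.lift.act ≫ q = (G ◁ q) ≫ B.lift.act)
    (hle : ∀ U : X.left.Opens, B'.π.left ⁻¹ᵁ ((fst X T).left ⁻¹ᵁ U) ≤ q.left ⁻¹ᵁ (B.π.left ⁻¹ᵁ U))
    (hchart : ∀ (U : X.left.Opens) (y : Γ(B.V.left, B.π.left ⁻¹ᵁ U)), y ∈ B.atlas.chart U →
      q.left.appLE (B.π.left ⁻¹ᵁ U) (B'.π.left ⁻¹ᵁ ((fst X T).left ⁻¹ᵁ U)) (hle U) y ∈
        B'.atlas.chart ((fst X T).left ⁻¹ᵁ U)) :
    B'.ssLocus = (fst X T).left.base ⁻¹' B.ssLocus ∧ B'.sLocus = (fst X T).left.base ⁻¹' B.sLocus := by
  let φ := Spec.preimage (eT.inv ≫ T.hom)
  letI : Algebra k K := φ.hom.toAlgebra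
  have hT : eT.inv ≫ T.hom = Spec.map (CommRingCat.ofHom (algebraMap k K)) :=
    (Spec.map_preimage (eT.inv ≫ T.hom)).symm
  have d : GLinBCLib.BCData eT B B' q := ⟨hT, ha', ha'', hq, hlift, hle, hchart⟩
  haveI : IsAffineHom G.hom := hG.1
  haveI : IsLocallyNoetherian X.left := LocallyOfFiniteType.isLocallyNoetherian X.hom
  haveI : CompactSpace X.left := QuasiCompact.compactSpace_of_compactSpace X.hom
  haveI := d.affine_fst
  refine ⟨Set.ext fun x' => ⟨?_, ?_⟩, Set.ext fun x' => ⟨?_, ?_⟩⟩
  · rintro ⟨n, f', hn, hf', hx, U', hU, haff⟩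
    obtain ⟨N, F, hN, hF, hxF, U, hUF, hUaff, -⟩ := d.exists_down hn hf' hU haff (hU.ge hx)
    exact ⟨N, F, hN, hF, hxF, U, hUF, hUaff⟩
  · rintro ⟨n, f, hn, hf, hx, U, hU, haff⟩
    refine ⟨n, q.left.appTop f, hn, d.isInvSection hf, ?_, (fst X T).left ⁻¹ᵁ U, ?_, haff.preimage _⟩
    · rw [d.nonvanishing_eq hf]; exact hx
    · rw [d.nonvanishing_eq hf, ← hU]; rfl
  · rintro ⟨n, f', hn, hf', hx, U', hU, haff, hcl⟩
    obtain ⟨N, F, hN, hF, hxF, U, hUF, hUaff, hUcl⟩ := d.exists_down hn hf' hU haff (hU.ge hx)
    exact ⟨N, F, hN, hF, hxF, U, hUF, hUaff, hUcl hcl⟩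
  · rintro ⟨n, f, hn, hf, hx, U, hU, haff, hcl⟩
    refine ⟨n, q.left.appTop f, hn, d.isInvSection hf, ?_, (fst X T).left ⁻¹ᵁ U, ?_, haff.preimage _,
      d.closedOrbitsOn_preimage hcl⟩
    · rw [d.nonvanishing_eq hf]; exact hx
    · rw [d.nonvanishing_eq hf, ← hU]; rfl

end Groth.Agent.S14723
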