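import Groth.Statements.S14724
import Groth.Agent.GLinRedLib.Main

set_option autoImplicit false
universe u
open CategoryTheory MonoidalCategory CartesianMonoidalCategory MonObj GrpObj AlgebraicGeometry Topology
open GIT


set_option backward.isDefEq.respectTransparency false
set_option synthInstance.maxHeartbeats 400000
set_option maxHeartbeats 1000000
set_option linter.style.haveILetI false
attribute [-instance] CategoryTheory.ReflQuiver.toQuiver CompletePartialOrder.toPartialOrder CompletePartialOrder.toOrderBot

namespace Groth.Agent.S14724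

/-- Let k be a field of characteristic zero, G a connected reductive algebraic group over k (affine,
smooth, with connected reductive geometric fibre) acting by σ on a scheme X of finite type over k
(not necessarily separated), and L a G-linearised line bundle on X, taken in total-space form (a
line bundle V → X with a linear atlas and a fibrewise-linear lifting of the action; sections of L^n
are the weight-n functions on V, invariant sections those fixed by the lifted action, X_s the locus
over which s does not vanish identically on the fibre). Let j : X_red → X be the reduced closed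
subscheme with the same underlying space (a surjective closed immersion from a reduced scheme), with
the induced action of G, and let L_red = j^*L: a G-linearised line bundle on X_red in total-space
form whose total space maps to V over j by a morphism q compatible with the lifted actions and
pulling admissible fibre coordinates of L back to admissible fibre coordinates of L_red. Then
X_red^ss(L_red) is the preimage of X^ss(L) under j and X_red^s(L_red) is the preimage of X^s(L)
(stable: no condition on stabilisers) — the loci are unchanged by passing to X_red. (The induced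
action and the pulled-back bundle are given as hypotheses with their compatibilities. The published
statement is for any reductive G in any characteristic; this row is the characteristic-zero case
with G connected. L is taken in total-space form.) -/
theorem result (k : Type u) [Field k] [CharZero k]
    (G X : Over (Spec (CommRingCat.of k))) [GrpObj G] (hG : Red.IsReductive G)
    [LocallyOfFiniteType X.hom] [QuasiCompact X.hom]
    (a : AlgGrp.Action G X) (B : GLinSh.LinBun G a)
    (Xr : Over (Spec (CommRingCat.of k))) (j : Xr ⟶ X) [IsClosedImmersion j.left] [IsReduced Xr.left]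
    (hj : Function.Surjective j.left.base)
    (ar : AlgGrp.Action G Xr) (har : ar.act ≫ j = (G ◁ j) ≫ a.act)
    (Br : GLinSh.LinBun G ar) (q : Br.V ⟶ B.V) (hq : Br.π ≫ j = q ≫ B.π)
    (hlift : Br.lift.act ≫ q = (G ◁ q) ≫ B.lift.act)
    (hle : ∀ U : X.left.Opens, Br.π.left ⁻¹ᵁ (j.left ⁻¹ᵁ U) ≤ q.left ⁻¹ᵁ (B.π.left ⁻¹ᵁ U))
    (hchart : ∀ (U : X.left.Opens) (y : Γ(B.V.left, B.π.left ⁻¹ᵁ U)), y ∈ B.atlas.chart U →
      q.left.appLE (B.π.left ⁻¹ᵁ U) (Br.π.left ⁻¹ᵁ (j.left ⁻¹ᵁ U)) (hle U) y ∈ Br.atlas.chart (j.left ⁻¹ᵁ U)) :
    Br.ssLocus = j.left.base ⁻¹' B.ssLocus ∧ Br.sLocus = j.left.base ⁻¹' B.sLocus := by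
  have d : GLinRedLib.RedData B Br j q := ⟨‹_›, ‹_›, hj, har, hq, hlift, hle, hchart⟩
  obtain ⟨A, _, _, w, _, _, β, hβ, h1, -⟩ := GITAffLib.exists_setup G hG
  haveI := hG.1
  haveI : IsLocallyNoetherian X.left := LocallyOfFiniteType.isLocallyNoetherian X.hom
  haveI : CompactSpace X.left := QuasiCompact.compactSpace_of_compactSpace X.hom
  haveI : IsNoetherian X.left := ⟨⟩
  have down : ∀ (n : ℕ) (f : Γ(B.V.left, ⊤)) (hf : B.IsInvSection n f) (U : X.left.Opens),
      (U : Set X.left) = GLinSh.nonvanishing B.π f → IsAffineOpen U →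
      ((j.left ⁻¹ᵁ U : Xr.left.Opens) : Set Xr.left) = GLinSh.nonvanishing Br.π (q.left.appTop f) ∧
        IsAffineOpen (j.left ⁻¹ᵁ U) := fun n f hf U hU hUa =>
    ⟨by rw [d.nonvanishing_eq hf, ← hU]; rfl, hUa.preimage j.left⟩
  constructor
  · ext x
    constructor
    · rintro ⟨n, fr, hn, hf, hx, Ur, hUr, hUa⟩
      obtain ⟨N, F, U, hN, hF, hU, hUaff, hj'⟩ := d.exists_lift_section w hβ h1 hn hf hUr hUa
      exact ⟨N, F, hN, hF, hU ▸ (SetLike.ext_iff.1 hj' x).2 (hUr.ge hx), U, hU, hUaff⟩
    · rintro ⟨n, f, hn, hf, hx, U, hU, hUa⟩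
      obtain ⟨h2, h3⟩ := down n f hf U hU hUa
      exact ⟨n, _, hn, d.isInvSection hf, h2.le (hU.ge hx), _, h2, h3⟩
  · ext x
    constructor
    · rintro ⟨n, fr, hn, hf, hx, Ur, hUr, hUa, hcl⟩
      obtain ⟨N, F, U, hN, hF, hU, hUaff, hj'⟩ := d.exists_lift_section w hβ h1 hn hf hUr hUa
      exact ⟨N, F, hN, hF, hU ▸ (SetLike.ext_iff.1 hj' x).2 (hUr.ge hx), U, hU, hUaff,
        (d.closedOrbitsOn_iff U).1 (hj' ▸ hcl)⟩
    · rintro ⟨n, f, hn, hf, hx, U, hU, hUa, hcl⟩
      obtain ⟨h2, h3⟩ := down n f hf U hU hUa
      exact ⟨n, _, hn, d.isInvSection hf, h2.le (hU.ge hx), _, h2, h3, (d.closedOrbitsOn_iff U).2 hcl⟩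

end Groth.Agent.S14724
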