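import Groth.Statements.S14725
import Groth.Agent.GITAffLib.Setup
import Groth.Agent.GITAffLib.ProperQuot
import Groth.Agent.GLinStabLib.RegLocus
import Groth.Agent.AmpleSepSmall.Main
import Groth.Agent.S11429

set_option autoImplicit false
universe u
open CategoryTheory MonoidalCategory CartesianMonoidalCategory MonObj GrpObj AlgebraicGeometry Topology
open GIT

set_option synthInstance.maxHeartbeats 400000
set_option maxHeartbeats 1000000
set_option backward.isDefEq.respectTransparency false
set_option linter.style.haveILetI false
attribute [-instance] CategoryTheory.ReflQuiver.toQuiver CompletePartialOrder.toPartialOrder CompletePartialOrder.toOrderBot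

namespace Groth.Agent.S14725

open CategoryTheory.Limits

/-- Zero-dimensional stabilisers make `Ψ` quasi-finite. -/
theorem lqf_psi {k : Type u} [Field k] {G X : Over (Spec (CommRingCat.of k))} [GrpObj G] (a : AlgGrp.Action G X)
    [LocallyOfFiniteType G.hom] [QuasiCompact G.hom] [LocallyOfFiniteType X.hom]
    (h : ∀ x, GLinStab.stabDim a x ≤ 0) : LocallyQuasiFinite (GIT.psi a (𝟙 X)).left := by
  haveI := GLinStab.quasiSeparated_of_lft (X := X)
  obtain ⟨h1, h2⟩ := GLinStab.locallyOfFiniteType_stabTo a (𝟙 X)
  haveI := h1
  haveI := h2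
  haveI : LocallyOfFiniteType (snd G X).left := by
    rw [Over.snd_left]; exact MorphismProperty.pullback_snd _ _ inferInstance
  haveI : QuasiCompact (snd G X).left := by
    rw [Over.snd_left]; exact MorphismProperty.pullback_snd _ _ inferInstance
  haveI : QuasiSeparated (snd X X).left := by
    rw [Over.snd_left]; exact MorphismProperty.pullback_snd _ _ inferInstance
  have hs : (GIT.psi a (𝟙 X)).left ≫ (snd X X).left = (snd G X).left := by
    rw [← Over.comp_left, GLinStab.psi_snd]
  haveI : LocallyOfFiniteType ((GIT.psi a (𝟙 X)).left ≫ (snd X X).left) := by rw [hs]; infer_instance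
  haveI : QuasiCompact ((GIT.psi a (𝟙 X)).left ≫ (snd X X).left) := by rw [hs]; infer_instance
  haveI : LocallyOfFiniteType (GIT.psi a (𝟙 X)).left := locallyOfFiniteType_of_comp _ (snd X X).left
  haveI : QuasiCompact (GIT.psi a (𝟙 X)).left := QuasiCompact.of_comp _ (snd X X).left
  refine GITAffLib.locallyQuasiFinite_psi a ?_
  let q := GLinSh.stabTo a (𝟙 X)
  refine LocallyQuasiFinite.of_finite_preimage_singleton q fun x => ?_
  haveI : LocallyOfFiniteType (q.fiberToSpecResidueField x) := UOpenLib.lft_fiberToSpec q x
  haveI : IsLocallyNoetherian (q.fiber x) := LocallyOfFiniteType.isLocallyNoetherian (q.fiberToSpecResidueField x)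
  haveI : IsNoetherian (q.fiber x) := {}
  have hdim : topologicalKrullDim (q.fiber x) ≤ 0 := h x
  have hfin : Finite (q.fiber x) := by
    haveI : T0Space (q.fiber x) := inferInstance
    have hpts : ∀ z : q.fiber x, closure {z} ∈ irreducibleComponents (q.fiber x) := by
      intro z
      refine ⟨isIrreducible_singleton.closure, fun C hC hzC => ?_⟩
      obtain ⟨g, hg⟩ := QuasiSober.sober hC.closure isClosed_closure
      have hgz : g ⤳ z := by
        rw [specializes_iff_mem_closure, hg.def]
        exact subset_closure (hzC (subset_closure rfl))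
      rcases eq_or_ne g z with rfl | hne
      · exact subset_closure.trans hg.def.ge
      · exfalso
        have hchain : (1 : WithBot ℕ∞) ≤ topologicalKrullDim (q.fiber x) := by
          let Z₀ : TopologicalSpace.IrreducibleCloseds (q.fiber x) :=
            ⟨closure {z}, isIrreducible_singleton.closure, isClosed_closure⟩
          let Z₁ : TopologicalSpace.IrreducibleCloseds (q.fiber x) :=
            ⟨closure {g}, isIrreducible_singleton.closure, isClosed_closure⟩
          have hlt : Z₀ < Z₁ := by
            refine lt_of_le_of_ne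
              (show closure {z} ⊆ closure ({g} : Set (q.fiber x)) from
                closure_minimal (Set.singleton_subset_iff.mpr hgz.mem_closure) isClosed_closure)
              fun e => hne ?_
            have e' : closure ({z} : Set (q.fiber x)) = closure {g} :=
              congrArg (fun Z : TopologicalSpace.IrreducibleCloseds (q.fiber x) => (Z : Set (q.fiber x))) e
            exact (inseparable_iff_closure_eq.mpr e'.symm).eq
          show _ ≤ Order.krullDim _
          exact Order.LTSeries.length_le_krullDim ((RelSeries.singleton _ Z₀).snoc Z₁ hlt)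
        exact absurd (hchain.trans hdim) (by decide)
    have hinj : Function.Injective (fun z : q.fiber x => (⟨closure {z}, hpts z⟩ : irreducibleComponents (q.fiber x))) :=
      fun z z' e => (inseparable_iff_closure_eq.mpr (congrArg Subtype.val e)).eq
    haveI : Finite (irreducibleComponents (q.fiber x)) :=
      TopologicalSpace.NoetherianSpace.finite_irreducibleComponents.to_subtype
    exact Finite.of_injective _ hinj
  exact Set.finite_coe_iff.mp (Finite.of_equiv _ (q.fiberHomeo x).toEquiv)

/-- Let k be an algebraically closed field of characteristic zero, G a connected reductive algebraic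
group over k acting by σ on a connected scheme X smooth and of finite type over k (not necessarily
separated), such that the stabiliser of the generic point xg of X is 0-dimensional (the stabiliser
group scheme of the κ(xg)-valued point xg has dimension 0), and let U be an invariant open subset of
X (σ⁻¹U = p₂⁻¹U) with the action restricted to U. Then the following are equivalent: (ii) a
geometric quotient (Y, φ) of U by G exists with φ affine and Y quasi-projective (of finite type over
k with an ample invertible sheaf); (iii) the action of G on U is proper (Ψ = (σ, p₂) : G × U → U × U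
is proper) and a geometric quotient (Y, φ) of U by G exists with Y quasi-projective. (The published
statement is over any ground field and in any characteristic; this row is the case of an
algebraically closed field of characteristic zero, where the properness criterion it invokes is
proved.) -/
theorem result (k : Type u) [Field k] [IsAlgClosed k] [CharZero k]
    (G X : Over (Spec (CommRingCat.of k))) [GrpObj G] (hG : Red.IsReductive G)
    [LocallyOfFiniteType X.hom] [QuasiCompact X.hom] [Smooth X.hom] [ConnectedSpace X.left]
    (a : AlgGrp.Action G X)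
    (xg : X.left) (hxg : closure ({xg} : Set X.left) = Set.univ)
    (hσ : topologicalKrullDim (GLinSh.stab a (Over.homMk (X.left.fromSpecResidueField xg) rfl :
        Over.mk (X.left.fromSpecResidueField xg ≫ X.hom) ⟶ X)) = 0)
    (U : X.left.Opens) (hinv : a.act.left ⁻¹ᵁ U = (snd G X).left ⁻¹ᵁ U)
    (aU : AlgGrp.Action G (Over.mk (U.ι ≫ X.hom)))
    (jU : Over.mk (U.ι ≫ X.hom) ⟶ X) (hjU : jU.left = U.ι) (haU : aU.act ≫ jU = (G ◁ jU) ≫ a.act) :
    (∃ (Y : Over (Spec (CommRingCat.of k))) (φ : Over.mk (U.ι ≫ X.hom) ⟶ Y),
        GIT.IsGeomQuot aU φ ∧ IsAffineHom φ.left ∧ LocallyOfFiniteType Y.hom ∧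
        ∃ M : Y.left.Modules, CohB1.IsAmple M) ↔
      IsProper (GIT.psi aU (𝟙 (Over.mk (U.ι ≫ X.hom)))).left ∧
        ∃ (Y : Over (Spec (CommRingCat.of k))) (φ : Over.mk (U.ι ≫ X.hom) ⟶ Y),
          GIT.IsGeomQuot aU φ ∧ LocallyOfFiniteType Y.hom ∧ ∃ M : Y.left.Modules, CohB1.IsAmple M := by
  classical
  obtain ⟨A, _, _, w, _, _, β, hβ, h1, -⟩ := GITAffLib.exists_setup G hG
  haveI := hG.1
  haveI := hG.2.1
  haveI : LocallyOfFiniteType G.hom := inferInstance
  haveI : QuasiCompact G.hom := inferInstance
  haveI : Algebra.Smooth k A := GITAffLib.smooth_of_smooth_hom (w := w) hG.2.1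
  obtain rfl : jU = GLinShLib.openHom U := Over.OverMorphism.ext hjU
  haveI : LocallyOfFiniteType (Over.mk (U.ι ≫ X.hom)).hom := inferInstanceAs (LocallyOfFiniteType (U.ι ≫ X.hom))
  haveI : IsLocallyNoetherian X.left := LocallyOfFiniteType.isLocallyNoetherian X.hom
  haveI : CompactSpace X.left := QuasiCompact.compactSpace_of_compactSpace X.hom
  haveI : IsNoetherian X.left := {}
  haveI : CompactSpace (Over.mk (U.ι ≫ X.hom)).left :=
    isCompact_iff_compactSpace.1 (TopologicalSpace.NoetherianSpace.isCompact (U : Set X.left))
  haveI : QuasiCompact (Over.mk (U.ι ≫ X.hom)).hom := quasiCompact_of_compactSpace _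
  have hsep : ∀ Y : Over (Spec (CommRingCat.of k)), (∃ M : Y.left.Modules, CohB1.IsAmple M) →
      IsSeparated Y.hom ∧ QuasiCompact Y.hom := by
    rintro Y ⟨M, hM⟩
    haveI : Y.left.IsSeparated := AmpleSepSmall.isSeparated_of_isAmple hM
    haveI : CompactSpace Y.left := hM.2.1
    refine ⟨?_, quasiCompact_of_compactSpace _⟩
    have : IsSeparated (Y.hom ≫ Limits.terminal.from _) := by
      rw [Limits.terminal.comp_from]; infer_instance
    exact IsSeparated.of_comp Y.hom (Limits.terminal.from _)
  constructor
  · rintro ⟨Y, φ, hgeo, haff, hlft, hM⟩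
    refine ⟨?_, Y, φ, hgeo, hlft, hM⟩
    haveI := (hsep Y hM).1
    haveI := haff
    have hzero : ∀ u, GLinStab.stabDim aU u ≤ 0 := fun u => by
      obtain ⟨W, huW, hW⟩ := GLinStab.isOpen_stabDim_eq hgeo u
      obtain ⟨v, hv, hvg⟩ : ∃ v ∈ W, U.ι v = xg := by
        have ho : IsOpen (U.ι '' W.carrier) := U.ι.isOpenEmbedding.isOpenMap _ W.isOpen
        obtain ⟨z, hz, hz'⟩ := mem_closure_iff.1 (hxg.ge (Set.mem_univ (U.ι u))) _ ho ⟨u, huW, rfl⟩
        obtain ⟨v, hv, hv'⟩ := hz
        exact ⟨v, hv, hv'.trans (Set.mem_singleton_iff.1 hz')⟩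
      have h0 : GLinStab.stabDim aU v = 0 := by
        rw [GLinStab.stabDim_restrict haU v, show (GLinShLib.openHom U).left v = xg from hvg,
          ← GLinStab.dim_stab_residue]
        exact hσ
      rw [← hW v hv, h0]
    haveI := lqf_psi aU hzero
    exact GITAffLib.isProper_psi_of_affineHom (w := w) hβ h1 aU φ hgeo.inv
      (GITAffLib.isClosedAction_of_isGeomQuot hgeo)
  · rintro ⟨hp, Y, φ, hgeo, hlft, hM⟩
    refine ⟨Y, φ, hgeo, ?_, hlft, hM⟩
    haveI := (hsep Y hM).1
    haveI := (hsep Y hM).2
    haveI := hlft
    haveI : IsAffine G.left := isAffine_of_isAffineHom G.hom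
    haveI : IsSeparated G.hom := inferInstance
    -- a proper action has separated source
    haveI : IsSeparated (Over.mk (U.ι ≫ X.hom)).hom := by
      let Z := Over.mk (U.ι ≫ X.hom)
      let e : Z ⟶ G ⊗ Z := lift 1 (𝟙 Z)
      have he : e.left ≫ (snd G Z).left = 𝟙 _ := by rw [← Over.comp_left, lift_snd, Over.id_left]
      haveI : IsSeparated (snd G Z).left := by
        rw [Over.snd_left]; exact MorphismProperty.pullback_snd _ _ inferInstance
      haveI : IsClosedImmersion (e.left ≫ (snd G Z).left) := by rw [he]; infer_instance
      haveI : IsClosedImmersion e.left := IsClosedImmersion.of_comp e.left (snd G Z).left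
      have hd : (e ≫ GIT.psi aU (𝟙 Z)).left = pullback.diagonal Z.hom := by
        have h2 : e ≫ GIT.psi aU (𝟙 Z) = lift (𝟙 Z) (𝟙 Z) := by
          rw [GITAffLib.lift_psi, GITAffLib.lift_one_act]
        rw [h2]
        apply pullback.hom_ext
        · show (lift (𝟙 Z) (𝟙 Z)).left ≫ (fst Z Z).left = _
          rw [← Over.comp_left, lift_fst]
          simp [Z]
        · show (lift (𝟙 Z) (𝟙 Z)).left ≫ (snd Z Z).left = _
          rw [← Over.comp_left, lift_snd]
          simp [Z]
      haveI : IsProper (pullback.diagonal Z.hom) := by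
        rw [← hd, Over.comp_left]
        haveI : IsProper (GIT.psi aU (𝟙 Z)).left := hp
        infer_instance
      exact ⟨IsClosedImmersion.of_isPreimmersion _ (pullback.diagonal Z.hom).isClosedMap.isClosed_range⟩
    exact Groth.Agent.S11429.result k G _ Y aU hp φ hgeo

end Groth.Agent.S14725
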