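import Groth.Statements.S14727
import Mathlib

set_option autoImplicit false
universe u
open ValPrufer

namespace Groth.Agent.S14727

theorem level {R : Type u} [CommRing R] (hR : Finite (MaximalSpectrum R)) (I : Ideal R)
    (hI : ∀ (p : Ideal R), p.IsPrime → I ≤ p → p.IsMaximal) (n : ℕ) :
    Function.Bijective (fun (x : R ⧸ (I ^ n • ⊤ : Submodule R R))
      (m : {m : MaximalSpectrum R // I ≤ m.asIdeal}) =>
        (Algebra.linearMap R (Localization.AtPrime m.1.asIdeal)).reduceModIdeal (I ^ n) x) := by
  classical
  haveI : Finite {m : MaximalSpectrum R // I ≤ m.asIdeal} := Subtype.finite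
  let L := fun m : {m : MaximalSpectrum R // I ≤ m.asIdeal} => Localization.AtPrime m.1.asIdeal
  have hJ : ∀ m, ∀ x : L m, x ∈ (I ^ n • ⊤ : Submodule R (L m)) ↔ x ∈ (I ^ n).map (algebraMap R (L m)) :=
    fun m x => by rw [Ideal.smul_top_eq_map, Submodule.restrictScalars_mem]
  have hR0 : ∀ x : R, x ∈ (I ^ n • ⊤ : Submodule R R) ↔ x ∈ I ^ n := fun x => by simp
  let Q := fun m => ((I ^ n).map (algebraMap R (L m))).comap (algebraMap R (L m))
  have hloc : ∀ (m) (x : R), x ∈ Q m ↔ ∃ s ∉ m.1.asIdeal, s * x ∈ I ^ n := fun m x => by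
    rw [Ideal.mem_comap, IsLocalization.algebraMap_mem_map_algebraMap_iff m.1.asIdeal.primeCompl (L m)]
    constructor
    · rintro ⟨s, hs, h⟩; exact ⟨s, hs, h⟩
    · rintro ⟨s, hs, h⟩; exact ⟨s, hs, h⟩
  have hprime : ∀ (m) (p : Ideal R), p.IsPrime → Q m ≤ p → p = m.1.asIdeal := fun m p hp hQp => by
    have hIp : I ≤ p := by
      intro x hx
      refine hp.mem_of_pow_mem n (hQp ((hloc m _).2 ⟨1, m.1.asIdeal.primeCompl.one_mem, ?_⟩))
      rw [one_mul]; exact Ideal.pow_mem_pow hx n
    by_contra hne
    have hM : ∀ y ∈ m.1.asIdeal, y ∈ p := fun y hy => by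
      have hrad : algebraMap R (L m) y ∈ ((I ^ n).map (algebraMap R (L m))).radical := by
        rw [Ideal.radical_eq_sInf, Ideal.mem_sInf]
        rintro P ⟨hP, hPp⟩
        have hle : P.comap (algebraMap R (L m)) ≤ m.1.asIdeal := by
          intro z hz
          by_contra hzm
          exact hPp.ne_top (Ideal.eq_top_of_isUnit_mem _ hz (IsLocalization.map_units (L m) (⟨z, hzm⟩ : m.1.asIdeal.primeCompl)))
        have hIP : I ≤ P.comap (algebraMap R (L m)) := fun z hz =>
          (hPp.comap (algebraMap R (L m))).mem_of_pow_mem n (hP (Ideal.mem_map_of_mem _ (Ideal.pow_mem_pow hz n)))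
        have := (hI _ (hPp.comap _) hIP).eq_of_le m.1.isMaximal.ne_top hle
        exact (SetLike.ext_iff.1 this y).2 hy
      obtain ⟨k, hk⟩ := hrad
      exact hp.mem_of_pow_mem k (hQp (by rw [Ideal.mem_comap, map_pow]; exact hk))
    exact hne (m.1.isMaximal.eq_of_le hp.ne_top hM).symm
  have hcop : Pairwise (Function.onFun IsCoprime Q) := fun a b hab => by
    rw [Function.onFun, Ideal.isCoprime_iff_sup_eq]
    by_contra hne
    obtain ⟨p, hp, hle⟩ := Ideal.exists_le_maximal _ hne
    refine hab (Subtype.ext (MaximalSpectrum.ext ?_))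
    rw [← hprime a p hp.isPrime (le_sup_left.trans hle), ← hprime b p hp.isPrime (le_sup_right.trans hle)]
  constructor
  · intro x y hxy
    obtain ⟨x, rfl⟩ := Submodule.Quotient.mk_surjective _ x
    obtain ⟨y, rfl⟩ := Submodule.Quotient.mk_surjective _ y
    refine (Submodule.Quotient.eq _).2 ((hR0 _).2 ?_)
    have hQ : ∀ m, x - y ∈ Q m := fun m => by
      have h := congrFun hxy m
      simp only [LinearMap.reduceModIdeal_apply, Algebra.linearMap_apply] at h
      rw [Submodule.Quotient.eq, hJ, ← map_sub] at h
      exact h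
    let C : Ideal R := (I ^ n).colon ({x - y} : Set R)
    have hC : C = ⊤ := by
      by_contra hne
      obtain ⟨p, hp, hle⟩ := Ideal.exists_le_maximal _ hne
      by_cases hIp : I ≤ p
      · obtain ⟨m₀, hm₀⟩ : ∃ m₀ : {m : MaximalSpectrum R // I ≤ m.asIdeal}, m₀.1.asIdeal = p :=
          ⟨⟨⟨p, hp⟩, hIp⟩, rfl⟩
        obtain ⟨s, hs, h⟩ := (hloc m₀ _).1 (hQ m₀)
        exact hs (hm₀ ▸ hle (Submodule.mem_colon_singleton.2 h))
      · obtain ⟨z, hz, hzp⟩ := SetLike.not_le_iff_exists.1 hIp
        exact hzp (hp.isPrime.mem_of_pow_mem n (hle (Submodule.mem_colon_singleton.2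
          (by rw [smul_eq_mul]; exact Ideal.mul_mem_right _ _ (Ideal.pow_mem_pow hz n)))))
    have h1 : (1 : R) ∈ C := by rw [hC]; trivial
    have := Submodule.mem_colon_singleton.1 h1
    rwa [one_smul] at this
  · intro y
    have hsur : ∀ m, ∃ r : R, (Submodule.Quotient.mk (algebraMap R (L m) r) : L m ⧸ (I ^ n • ⊤ : Submodule R (L m))) = y m := fun m => by
      obtain ⟨z, hz⟩ := Submodule.Quotient.mk_surjective _ (y m)
      obtain ⟨a, s, rfl⟩ := IsLocalization.exists_mk'_eq m.1.asIdeal.primeCompl z
      have hs : Ideal.span {(s : R)} ⊔ Q m = ⊤ := by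
        by_contra hne
        obtain ⟨p, hp, hle⟩ := Ideal.exists_le_maximal _ hne
        have := hprime m p hp.isPrime (le_sup_right.trans hle)
        exact s.2 ((SetLike.ext_iff.1 this _).1 (hle (Submodule.mem_sup_left (Ideal.mem_span_singleton_self _))))
      have h1 : (1 : R) ∈ Ideal.span {(s : R)} ⊔ Q m := by rw [hs]; trivial
      obtain ⟨u, hu, q, hq, huq⟩ := Submodule.mem_sup.1 h1
      obtain ⟨r, rfl⟩ := Ideal.mem_span_singleton'.1 hu
      refine ⟨a * r, ?_⟩
      rw [← hz, Submodule.Quotient.eq, hJ]
      have e : algebraMap R (L m) (a * r) - IsLocalization.mk' (L m) a s =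
          -(IsLocalization.mk' (L m) a s * algebraMap R (L m) q) := by
        have h2 := IsLocalization.mk'_spec (L m) a s
        have h3 := congrArg (algebraMap R (L m)) huq
        rw [map_add, map_mul, map_one] at h3
        rw [map_mul]
        linear_combination (algebraMap R (L m) r) * (-h2) + (IsLocalization.mk' (L m) a s) * h3
      exact e ▸ neg_mem (Ideal.mul_mem_left _ _ hq)
    choose r hr using hsur
    obtain ⟨x, hx⟩ := Ideal.pi_quotient_surjective hcop (fun m => Ideal.Quotient.mk (Q m) (r m))
    refine ⟨Submodule.Quotient.mk x, funext fun m => ?_⟩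
    rw [← hr m]
    simp only [LinearMap.reduceModIdeal_apply, Algebra.linearMap_apply]
    rw [Submodule.Quotient.eq, hJ, ← map_sub]
    exact Ideal.Quotient.eq.1 (hx m)


/-- Let R be a semilocal ring (finitely many maximal ideals) and I an ideal of R of co-height zero, i.e.
every prime ideal containing I is maximal. Then the canonical map from the I-adic completion of R to
the product, over the maximal ideals m ⊇ I, of the I-adic completions of the local rings R_m
(equivalently their IR_m-adic completions) is bijective; it is the continuous ring isomorphism of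
the source, stated here as bijectivity of the canonical map of completed modules. -/
theorem result
    (R : Type u) [CommRing R] (hR : Finite (MaximalSpectrum R)) (I : Ideal R)
    (hI : ∀ (p : Ideal R), p.IsPrime → I ≤ p → p.IsMaximal) :
    Function.Bijective (LinearMap.pi (fun m : {m : MaximalSpectrum R // I ≤ m.asIdeal} =>
      AdicCompletion.map I (Algebra.linearMap R (Localization.AtPrime m.1.asIdeal)))) := by
  constructor
  · intro x y hxy
    refine AdicCompletion.ext fun n => (level hR I hI n).1 (funext fun m => ?_)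
    exact congrArg (fun z : AdicCompletion I _ => z.val n) (congrFun hxy m)
  · intro y
    choose v hv using fun n => (level hR I hI n).2 (fun m => (y m).val n)
    refine ⟨⟨v, fun {a b} hab => (level hR I hI a).1 (funext fun m => ?_)⟩,
      funext fun m => AdicCompletion.ext fun n => congrFun (hv n) m⟩
    have h := LinearMap.congr_fun (AdicCompletion.transitionMap_comp_reduceModIdeal I
      (Algebra.linearMap R (Localization.AtPrime m.1.asIdeal)) hab) (v b)
    refine h.symm.trans ?_
    show AdicCompletion.transitionMap I _ hab ((Algebra.linearMap R (Localization.AtPrime m.1.asIdeal)).reduceModIdeal (I ^ b) (v b)) = _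
    rw [show (Algebra.linearMap R (Localization.AtPrime m.1.asIdeal)).reduceModIdeal (I ^ b) (v b) = (y m).val b from congrFun (hv b) m]
    exact ((y m).property hab).trans (congrFun (hv a) m).symm
end Groth.Agent.S14727
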