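import Groth.Statements.S14728
import Mathlib


-- import your own Groth.Agent.* helpers here

set_option autoImplicit false
universe u
open ValPrufer

namespace Groth.Agent.S14728

/-- Let R be a Prüfer domain, i.e. a domain all of whose local rings at primes are valuation rings. (a)
For a multiplicative subset S, any localisation B = S⁻¹R that is a domain (S not containing 0) is a
Prüfer domain. (b) For a prime ideal I, the quotient R/I is a Prüfer domain. -/
theorem result
    (R : Type u) [CommRing R] [IsDomain R]
    (hR : ∀ (p : Ideal R) [p.IsPrime], ValuationRing (Localization.AtPrime p))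
    (S : Submonoid R) (B : Type u) [CommRing B] [IsDomain B] [Algebra R B] [IsLocalization S B]
    (I : Ideal R) [I.IsPrime] :
    (∀ (q : Ideal B) [q.IsPrime], ValuationRing (Localization.AtPrime q)) ∧
      (∀ (q : Ideal (R ⧸ I)) [q.IsPrime], ValuationRing (Localization.AtPrime q)) := by
  refine ⟨fun q hq => ?_, fun q hq => ?_⟩
  · haveI := hR (q.comap (algebraMap R B))
    haveI : IsLocalization.AtPrime (Localization.AtPrime q) (q.comap (algebraMap R B)) :=
      IsLocalization.isLocalization_isLocalization_atPrime_isLocalization S _ q
    let e := IsLocalization.algEquiv (q.comap (algebraMap R B)).primeCompl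
      (Localization.AtPrime (q.comap (algebraMap R B))) (Localization.AtPrime q)
    haveI : IsDomain (Localization.AtPrime q) := IsLocalization.isDomain_localization q.primeCompl_le_nonZeroDivisors
    exact ValuationRing.iff_dvd_total.2 ⟨fun a b => by
      rcases ValuationRing.dvd_total (e.symm a) (e.symm b) with h | h
      · exact Or.inl (by simpa using map_dvd e h)
      · exact Or.inr (by simpa using map_dvd e h)⟩
  · haveI := hR (q.comap (Ideal.Quotient.mk I))
    let f := Localization.localRingHom (q.comap (Ideal.Quotient.mk I)) q (Ideal.Quotient.mk I) rfl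
    have hf : Function.Surjective f := by
      intro z
      obtain ⟨⟨a, ⟨s, hs⟩⟩, h⟩ := IsLocalization.surj q.primeCompl z
      obtain ⟨a', rfl⟩ := Ideal.Quotient.mk_surjective a
      obtain ⟨s', rfl⟩ := Ideal.Quotient.mk_surjective s
      refine ⟨IsLocalization.mk' _ a' (⟨s', hs⟩ : (q.comap (Ideal.Quotient.mk I)).primeCompl), ?_⟩
      rw [Localization.localRingHom_mk']
      exact (IsLocalization.eq_mk'_iff_mul_eq.2 h).symm
    haveI : IsDomain (Localization.AtPrime q) := IsLocalization.isDomain_localization q.primeCompl_le_nonZeroDivisors
    haveI : IsDomain (Localization.AtPrime (q.comap (Ideal.Quotient.mk I))) :=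
      IsLocalization.isDomain_localization (Ideal.primeCompl_le_nonZeroDivisors _)
    exact ValuationRing.iff_dvd_total.2 ⟨fun a b => by
      obtain ⟨a, rfl⟩ := hf a
      obtain ⟨b, rfl⟩ := hf b
      exact (ValuationRing.dvd_total a b).imp (map_dvd f) (map_dvd f)⟩

end Groth.Agent.S14728
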