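import Groth.Statements.S14729
import Mathlib.RingTheory.Valuation.ValuationSubring
import Mathlib.GroupTheory.OrderOfElement
import Mathlib.Algebra.CharP.Basic
import Mathlib.Data.Nat.Prime.Infinite


-- import your own Groth.Agent.* helpers here

set_option autoImplicit false
universe u
open ValPrufer

namespace Groth.Agent.S14729

/-- Let R be a semilocal Prüfer domain (an integral domain with finitely many maximal ideals whose
localisations at primes are valuation rings) with fraction field L, and let K ⊆ L be a subfield.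
Then R ∩ K is again a semilocal Prüfer domain and its fraction field is K, i.e. every element of K
is a quotient of two elements of R ∩ K. -/
theorem result
    (R L : Type u) [CommRing R] [IsDomain R] [Field L] [Algebra R L] [IsFractionRing R L]
    (hR : ∀ (p : Ideal R) [p.IsPrime], ValuationRing (Localization.AtPrime p))
    (hfin : Finite (MaximalSpectrum R)) (K : Subfield L) :
    (∀ (p : Ideal ↥((algebraMap R L).range ⊓ K.toSubring)) [p.IsPrime],
        ValuationRing (Localization.AtPrime p)) ∧
      Finite (MaximalSpectrum ↥((algebraMap R L).range ⊓ K.toSubring)) ∧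
      ∀ x : L, x ∈ K → ∃ a b : L, a ∈ (algebraMap R L).range ⊓ K.toSubring ∧
        b ∈ (algebraMap R L).range ⊓ K.toSubring ∧ b ≠ 0 ∧ x = a / b := by
  have : Nonempty (MaximalSpectrum R) := inferInstance
  -- the valuation rings of `K` cut out by the maximal ideals of `R`
  let mem : MaximalSpectrum R → L → Prop := fun m x =>
    ∃ a s : R, s ∉ m.asIdeal ∧ x * algebraMap R L s = algebraMap R L a
  have hone : ∀ m : MaximalSpectrum R, (1 : R) ∉ m.asIdeal := fun m =>
    fun h => m.isMaximal.ne_top ((Ideal.eq_top_iff_one _).2 h)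
  let W : MaximalSpectrum R → ValuationSubring K := fun m =>
    { carrier := {x | mem m (x : L)}
      mul_mem' := by
        rintro x y ⟨a, s, hs, h⟩ ⟨b, t, ht, h'⟩
        exact ⟨a * b, s * t, fun hh => (m.isMaximal.isPrime.mem_or_mem hh).elim hs ht, by
          simp only [MulMemClass.coe_mul, map_mul]; rw [← h, ← h']; ring⟩
      one_mem' := ⟨1, 1, hone m, by simp⟩
      add_mem' := by
        rintro x y ⟨a, s, hs, h⟩ ⟨b, t, ht, h'⟩
        exact ⟨a * t + b * s, s * t, fun hh => (m.isMaximal.isPrime.mem_or_mem hh).elim hs ht, by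
          simp only [AddMemClass.coe_add, map_add, map_mul]; rw [← h, ← h']; ring⟩
      zero_mem' := ⟨0, 1, hone m, by simp⟩
      neg_mem' := by
        rintro x ⟨a, s, hs, h⟩
        exact ⟨-a, s, hs, by simp only [NegMemClass.coe_neg, map_neg]; rw [← h]; ring⟩
      mem_or_inv_mem' := fun x => by
        have := m.isMaximal.isPrime
        have := hR m.asIdeal
        obtain ⟨a, b, hb, hab⟩ := IsFractionRing.div_surjective (A := R) (x : L)
        have hb0 : algebraMap R L b ≠ 0 :=
          (map_ne_zero_iff _ (IsFractionRing.injective R L)).2 (nonZeroDivisors.ne_zero hb)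
        have key : ∀ u v : R, algebraMap R (Localization.AtPrime m.asIdeal) u ∣
            algebraMap R (Localization.AtPrime m.asIdeal) v →
            ∃ c s, s ∉ m.asIdeal ∧ s * v = c * u := by
          rintro u v ⟨z, hz⟩
          obtain ⟨⟨c, s⟩, hc⟩ := IsLocalization.surj m.asIdeal.primeCompl z
          refine ⟨c, s, s.2, IsLocalization.injective (Localization.AtPrime m.asIdeal)
            m.asIdeal.primeCompl_le_nonZeroDivisors ?_⟩
          rw [map_mul, map_mul, hz, ← hc]; ring
        rcases ValuationRing.dvd_total (algebraMap R (Localization.AtPrime m.asIdeal) b)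
            (algebraMap R _ a) with h | h
        · obtain ⟨c, s, hs, hcs⟩ := key _ _ h
          refine Or.inl ⟨c, s, hs, mul_right_cancel₀ hb0 ?_⟩
          rw [← map_mul, ← hcs, map_mul, ← hab]
          field_simp
        · obtain ⟨c, s, hs, hcs⟩ := key _ _ h
          by_cases ha : a = 0
          · refine Or.inl ⟨0, 1, hone m, ?_⟩
            rw [← hab, ha]; simp
          · have ha0 : algebraMap R L a ≠ 0 := (map_ne_zero_iff _ (IsFractionRing.injective R L)).2 ha
            refine Or.inr ⟨c, s, hs, mul_right_cancel₀ ha0 ?_⟩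
            rw [← map_mul, ← hcs, map_mul, Subfield.coe_inv, ← hab]
            field_simp }
  -- `R ∩ K` is the intersection of the `W m`
  have hinter : ∀ x : K, ((x : L) ∈ (algebraMap R L).range ⊓ K.toSubring) ↔ ∀ m, x ∈ W m := by
    intro x
    refine ⟨fun h m => ?_, fun h => ⟨?_, x.2⟩⟩
    · obtain ⟨a, ha⟩ := h.1
      exact ⟨a, 1, hone m, by rw [map_one, mul_one, ha]⟩
    · let I : Ideal R :=
        { carrier := {s | ∃ a, (x : L) * algebraMap R L s = algebraMap R L a}
          add_mem' := by
            rintro s t ⟨a, ha⟩ ⟨b, hb⟩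
            exact ⟨a + b, by rw [map_add, map_add, mul_add, ha, hb]⟩
          zero_mem' := ⟨0, by simp⟩
          smul_mem' := by
            rintro c s ⟨a, ha⟩
            exact ⟨c * a, by rw [smul_eq_mul, map_mul, map_mul, ← ha]; ring⟩ }
      have hI : I = ⊤ := by
        by_contra hne
        obtain ⟨m, hm, hle⟩ := Ideal.exists_le_maximal I hne
        obtain ⟨a, s, hs, hsa⟩ := h ⟨m, hm⟩
        exact hs (hle ⟨a, hsa⟩)
      obtain ⟨a, ha⟩ : (1 : R) ∈ I := hI ▸ Submodule.mem_top
      exact ⟨a, by rw [← ha, map_one, mul_one]⟩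
  let R' : Subring L := (algebraMap R L).range ⊓ K.toSubring
  let mk : ∀ x : K, (∀ m, x ∈ W m) → R' := fun x h => ⟨x, (hinter x).2 h⟩
  -- Nagata's trick
  have nagata : ∀ x : K, ∃ n : ℕ, 2 ≤ n ∧ ∃ s : K, s ≠ 0 ∧ s * (∑ k ∈ Finset.range n, x ^ k) = 1 ∧
      ∀ k, k < n → ∀ m, x ^ k * s ∈ W m := by
    intro x
    classical
    have := Fintype.ofFinite (MaximalSpectrum R)
    let bad : MaximalSpectrum R → ℕ := fun m =>
      if h : x ∈ W m then
        orderOf (IsLocalRing.residue (W m) ⟨x, h⟩) + ringChar (IsLocalRing.ResidueField (W m))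
      else 0
    obtain ⟨n, hn, hnp⟩ := Nat.exists_infinite_primes (Finset.univ.sup bad + 2)
    have hunit : ∀ m, ∀ h : x ∈ W m, IsUnit (∑ k ∈ Finset.range n, (⟨x, h⟩ : W m) ^ k) := by
      intro m h
      rw [← IsLocalRing.residue_ne_zero_iff_isUnit, map_sum]
      simp only [map_pow]
      set y := IsLocalRing.residue (W m) ⟨x, h⟩
      have hb : orderOf y + ringChar (IsLocalRing.ResidueField (W m)) < n := by
        have := Finset.le_sup (f := bad) (Finset.mem_univ m)
        rw [show bad m = orderOf y + ringChar (IsLocalRing.ResidueField (W m)) from dif_pos h] at this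
        omega
      intro h0
      by_cases hy : y = 1
      · rw [hy] at h0
        simp only [one_pow, Finset.sum_const, Finset.card_range, nsmul_eq_mul, mul_one] at h0
        have hdvd := (ringChar.spec _ n).1 h0
        rcases hnp.eq_one_or_self_of_dvd _ hdvd with h1 | h1
        · exact CharP.ringChar_ne_one h1
        · omega
      · have h1 : y ^ n = 1 := by
          rw [← sub_eq_zero, ← geom_sum_mul, h0, zero_mul]
        rcases hnp.eq_one_or_self_of_dvd _ (orderOf_dvd_of_pow_eq_one h1) with h1 | h1
        · exact hy (orderOf_eq_one_iff.1 h1)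
        · omega
    have hn2 : 2 ≤ n := hnp.two_le
    have hcalc : ∀ m, ∀ k, k < n → (∑ j ∈ Finset.range n, x ^ j) ≠ 0 ∧
        x ^ k * (∑ j ∈ Finset.range n, x ^ j)⁻¹ ∈ W m := by
      intro m k hk
      by_cases h : x ∈ W m
      · obtain ⟨u, hu⟩ := hunit m h
        have hu' : ((u : W m) : K) = ∑ j ∈ Finset.range n, x ^ j := by
          rw [hu]; push_cast; rfl
        refine ⟨by rw [← hu']; exact fun h0 => u.ne_zero (Subtype.ext h0), mul_mem (pow_mem h k) ?_⟩
        have : ((↑u⁻¹ : W m) : K) = (∑ j ∈ Finset.range n, x ^ j)⁻¹ := by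
          refine eq_inv_of_mul_eq_one_left ?_
          rw [← hu']
          exact_mod_cast u.inv_mul
        exact this ▸ (↑u⁻¹ : W m).2
      · have hx0 : x ≠ 0 := fun h0 => h (h0 ▸ zero_mem _)
        have hinv : x⁻¹ ∈ W m := ((W m).mem_or_inv_mem x).resolve_left h
        have hnu : ¬ IsUnit (⟨x⁻¹, hinv⟩ : W m) := by
          rintro ⟨u, hu⟩
          have : ((↑u⁻¹ : W m) : K) = x := by
            have h' : ((u : W m) : K) * ((↑u⁻¹ : W m) : K) = 1 := by exact_mod_cast u.mul_inv
            rw [hu] at h'
            field_simp at h'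
            exact h'
          exact h (this ▸ (↑u⁻¹ : W m).2)
        have hu : IsUnit (∑ j ∈ Finset.range n, (⟨x⁻¹, hinv⟩ : W m) ^ j) := by
          rw [← IsLocalRing.residue_ne_zero_iff_isUnit, map_sum]
          simp only [map_pow]
          have h0 : IsLocalRing.residue (W m) ⟨x⁻¹, hinv⟩ = 0 :=
            Ideal.Quotient.eq_zero_iff_mem.2 hnu
          rw [h0, zero_geom_sum]
          split_ifs <;> simp <;> omega
        obtain ⟨u, hu⟩ := hu
        have hu' : ((u : W m) : K) = ∑ j ∈ Finset.range n, x⁻¹ ^ j := by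
          rw [hu]; push_cast; rfl
        have hu0 : ∑ j ∈ Finset.range n, x⁻¹ ^ j ≠ 0 := by
          rw [← hu']; exact fun h0 => u.ne_zero (Subtype.ext h0)
        have hfl : ∑ j ∈ Finset.range n, x ^ j = x ^ (n - 1) * ∑ j ∈ Finset.range n, x⁻¹ ^ j := by
          rw [Finset.mul_sum, ← Finset.sum_range_reflect]
          refine Finset.sum_congr rfl fun j hj => ?_
          rw [Finset.mem_range] at hj
          rw [inv_pow, ← pow_sub₀ x hx0 (by omega)]
        refine ⟨by rw [hfl]; exact mul_ne_zero (pow_ne_zero _ hx0) hu0, ?_⟩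
        have : x ^ k * (∑ j ∈ Finset.range n, x ^ j)⁻¹ =
            x⁻¹ ^ (n - 1 - k) * (∑ j ∈ Finset.range n, x⁻¹ ^ j)⁻¹ := by
          rw [hfl, mul_inv, ← mul_assoc]
          congr 1
          rw [inv_pow, show x ^ (n - 1) = x ^ k * x ^ (n - 1 - k) by rw [← pow_add]; congr 1; omega,
            mul_inv, ← mul_assoc, mul_inv_cancel₀ (pow_ne_zero _ hx0), one_mul]
        rw [this]
        refine mul_mem (pow_mem hinv _) ?_
        have e : ((↑u⁻¹ : W m) : K) = (∑ j ∈ Finset.range n, x⁻¹ ^ j)⁻¹ := by
          refine eq_inv_of_mul_eq_one_left ?_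
          rw [← hu']
          exact_mod_cast u.inv_mul
        exact e ▸ (↑u⁻¹ : W m).2
    obtain ⟨m₀⟩ := ‹Nonempty (MaximalSpectrum R)›
    have hne := (hcalc m₀ 0 (by omega)).1
    exact ⟨n, hn2, _, inv_ne_zero hne, inv_mul_cancel₀ hne, fun k hk m => (hcalc m k hk).2⟩
  -- the valuation property
  have hval : ∀ (P : Ideal R') [P.IsPrime] (x : K), x ≠ 0 → ∃ a b : R', b ∉ P ∧
      ((a : L) = x * b ∨ (a : L) = (x : L)⁻¹ * b) := by
    intro P _ x hx
    obtain ⟨n, hn, s, hs0, hs, hk⟩ := nagata x
    let z : ∀ k, k < n → R' := fun k h => mk (x ^ k * s) (hk k h)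
    by_cases h0 : z 0 (by omega) ∈ P
    · have hlast : z (n - 1) (by omega) ∉ P := by
        intro hl
        have hall : ∀ k (h : k < n), z k h ∈ P := by
          intro k h
          rcases Nat.eq_zero_or_pos k with rfl | hk0
          · exact h0
          · refine ‹P.IsPrime›.mem_of_pow_mem (n - 1) ?_
            have : z k h ^ (n - 1) = z (n - 1) (by omega) ^ k * z 0 (by omega) ^ (n - 1 - k) := by
              apply Subtype.ext
              simp only [z, mk, SubmonoidClass.coe_pow, MulMemClass.coe_mul]
              push_cast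
              rw [pow_zero, one_mul, mul_pow, mul_pow, ← pow_mul, ← pow_mul, mul_assoc,
                ← pow_add, mul_comm k (n - 1), show k + (n - 1 - k) = n - 1 by omega]
            rw [this]
            exact Ideal.mul_mem_right _ _ (Ideal.pow_mem_of_mem _ hl _ hk0)
        refine ‹P.IsPrime›.ne_top ((Ideal.eq_top_iff_one _).2 ?_)
        have hsum : (1 : R') = ∑ k : Fin n, z k k.2 := by
          apply Subtype.ext
          rw [AddSubmonoidClass.coe_finsetSum]
          simp only [z, mk, OneMemClass.coe_one]
          rw [← AddSubmonoidClass.coe_finsetSum, Fin.sum_univ_eq_sum_range (fun k => x ^ k * s),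
            ← Finset.sum_mul, mul_comm, hs]
          rfl
        rw [hsum]
        exact sum_mem fun k _ => hall k k.2
      refine ⟨z (n - 2) (by omega), z (n - 1) (by omega), hlast, Or.inr ?_⟩
      simp only [z, mk]
      push_cast
      rw [show n - 1 = (n - 2) + 1 by omega, pow_succ]
      have : (x : L) ≠ 0 := fun h => hx (Subtype.ext h)
      field_simp
    · refine ⟨z 1 (by omega), z 0 (by omega), h0, Or.inl ?_⟩
      simp only [z, mk]
      push_cast
      ring
  refine ⟨?_, ?_, ?_⟩
  · intro P _
    have hinj := IsLocalization.injective (Localization.AtPrime P) P.primeCompl_le_nonZeroDivisors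
    have : IsDomain (Localization.AtPrime P) := inferInstance
    suffices htot : ∀ c d : Localization.AtPrime P, c ∣ d ∨ d ∣ c from
      ValuationRing.iff_dvd_total.2 ⟨htot⟩
    intro c d
    obtain ⟨c, t, rfl⟩ := IsLocalization.exists_mk'_eq P.primeCompl c
    obtain ⟨d, t', rfl⟩ := IsLocalization.exists_mk'_eq P.primeCompl d
    suffices h : algebraMap R' (Localization.AtPrime P) c ∣ algebraMap R' _ d ∨
        algebraMap R' (Localization.AtPrime P) d ∣ algebraMap R' _ c by
      rw [IsLocalization.mk'_eq_mul_mk'_one, IsLocalization.mk'_eq_mul_mk'_one d]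
      have ht : ∀ q : P.primeCompl, IsUnit (IsLocalization.mk' (Localization.AtPrime P) 1 q) :=
        fun q => IsUnit.of_mul_eq_one (algebraMap R' _ q) (by rw [IsLocalization.mk'_spec, map_one])
      rwa [(ht t).dvd_mul_right, (ht t).mul_right_dvd, (ht t').dvd_mul_right, (ht t').mul_right_dvd]
    by_cases hc : c = 0
    · exact Or.inr (hc ▸ by simp)
    by_cases hd : d = 0
    · exact Or.inl (hd ▸ by simp)
    have hc' : (c : L) ≠ 0 := fun h => hc (Subtype.ext h)
    have hd' : (d : L) ≠ 0 := fun h => hd (Subtype.ext h)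
    obtain ⟨a, b, hb, hab⟩ := hval P ⟨(d : L) / c, div_mem d.2.2 c.2.2⟩
      (fun h => div_ne_zero hd' hc' (congrArg Subtype.val h))
    have hbu := IsLocalization.map_units (Localization.AtPrime P) (⟨b, hb⟩ : P.primeCompl)
    rcases hab with hab | hab
    · left
      rw [← hbu.dvd_mul_right, ← map_mul, show d * b = c * a from Subtype.ext (by
        push_cast; rw [hab]; field_simp), map_mul]
      exact Dvd.intro _ rfl
    · right
      rw [← hbu.dvd_mul_right, ← map_mul, show c * b = d * a from Subtype.ext (by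
        push_cast; rw [hab]; field_simp), map_mul]
      exact Dvd.intro _ rfl
  · -- maximal ideals are centres of the `W m`
    let ι : ∀ m, R' →+* W m := fun m =>
      { toFun := fun r => ⟨⟨r, r.2.2⟩, (hinter ⟨r, r.2.2⟩).1 r.2 m⟩
        map_one' := rfl
        map_mul' := fun _ _ => rfl
        map_zero' := rfl
        map_add' := fun _ _ => rfl }
    let Q : MaximalSpectrum R → Ideal R' := fun m => (IsLocalRing.maximalIdeal (W m)).comap (ι m)
    have := Fintype.ofFinite (MaximalSpectrum R)
    have hsub : ∀ M : MaximalSpectrum R', ∃ m, M.asIdeal = Q m := by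
      intro M
      have hu : (M.asIdeal : Set R') ⊆ ⋃ m ∈ (↑(Finset.univ : Finset (MaximalSpectrum R)) : Set _), (Q m : Set R') := by
        intro r hr
        by_contra hnot
        simp only [Set.mem_iUnion, not_exists] at hnot
        have hru : ∀ m, IsUnit (ι m r) := fun m => by
          by_contra h
          exact hnot m (by simp) h
        have hr0 : (r : L) ≠ 0 := by
          obtain ⟨m₀⟩ := ‹Nonempty (MaximalSpectrum R)›
          intro h
          have := (hru m₀).ne_zero
          exact this (Subtype.ext (Subtype.ext h))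
        refine M.isMaximal.ne_top (Ideal.eq_top_of_isUnit_mem _ hr ?_)
        refine IsUnit.of_mul_eq_one (mk (⟨r, r.2.2⟩ : K)⁻¹ fun m => ?_) ?_
        · obtain ⟨u, hu⟩ := hru m
          have : ((↑u⁻¹ : W m) : K) = (⟨r, r.2.2⟩ : K)⁻¹ := by
            refine eq_inv_of_mul_eq_one_left ?_
            have h := u.inv_mul
            rw [hu] at h
            exact congrArg Subtype.val h
          exact this ▸ (↑u⁻¹ : W m).2
        · exact Subtype.ext (mul_inv_cancel₀ hr0)
      obtain ⟨m₁⟩ := ‹Nonempty (MaximalSpectrum R)›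
      obtain ⟨m, -, hm⟩ := (Ideal.subset_union_prime (f := Q) m₁ m₁
        (fun m _ _ _ => Ideal.IsPrime.comap _)).1 hu
      exact ⟨m, M.isMaximal.eq_of_le (Ideal.IsPrime.comap _).ne_top hm⟩
    choose φ hφ using hsub
    exact Finite.of_injective φ fun M M' h => MaximalSpectrum.ext ((hφ M).trans (h ▸ (hφ M').symm))
  · intro x hx
    obtain ⟨n, hn, s, hs0, -, hk⟩ := nagata ⟨x, hx⟩
    refine ⟨((⟨x, hx⟩ : K) * s : K), (s : L), (hinter _).2 (by simpa using hk 1 (by omega)),
      (hinter _).2 (by simpa using hk 0 (by omega)), fun h => hs0 (Subtype.ext h), ?_⟩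
    have : (s : L) ≠ 0 := fun h => hs0 (Subtype.ext h)
    push_cast
    field_simp

end Groth.Agent.S14729
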