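import Groth.Statements.S14730
import Groth.Agent.ValUnionLib.Basic
import Groth.Agent.S14729


-- import your own Groth.Agent.* helpers here

set_option autoImplicit false
universe u
open ValPrufer

namespace Groth.Agent.S14730

/-- Let R be a semilocal Prüfer domain (an integral domain with finitely many maximal ideals whose
localisations at primes are valuation rings). Then R is the increasing union of subrings that are
semilocal Prüfer domains of finite Krull dimension; equivalently, every finite subset of R is
contained in such a subring. -/
theorem result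
    (R : Type u) [CommRing R] [IsDomain R]
    (hR : ∀ (p : Ideal R) [p.IsPrime], ValuationRing (Localization.AtPrime p))
    (hfin : Finite (MaximalSpectrum R)) (s : Finset R) :
    ∃ R' : Subring R, (↑s : Set R) ⊆ R' ∧
      (∀ (p : Ideal R') [p.IsPrime], ValuationRing (Localization.AtPrime p)) ∧
      Finite (MaximalSpectrum R') ∧ ringKrullDim R' < ⊤ := by
  classical
  let L := FractionRing R
  let K : Subfield L := Subfield.closure ((s.image (algebraMap R L) : Finset L) : Set L)
  obtain ⟨hval, hmax, -⟩ := Groth.Agent.S14729.result R L hR hfin K
  let R' : Subring R := K.toSubring.comap (algebraMap R L)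
  let R'' : Subring L := (algebraMap R L).range ⊓ K.toSubring
  let f : R' →+* R'' := (algebraMap R L).restrict R' R'' fun x hx => ⟨⟨x, rfl⟩, hx⟩
  have hf : Function.Bijective f := by
    refine ⟨fun a b h => Subtype.ext (IsFractionRing.injective R L (congrArg Subtype.val h)), ?_⟩
    rintro ⟨y, ⟨x, rfl⟩, hy⟩
    exact ⟨⟨x, hy⟩, rfl⟩
  let e : R' ≃+* R'' := RingEquiv.ofBijective f hf
  have hV : ∀ (p : Ideal R') [p.IsPrime], ValuationRing (Localization.AtPrime p) := by
    intro p hp
    let q : Ideal R'' := p.comap e.symm.toRingHom
    have hv := hval q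
    have hq : Submonoid.map e.symm.toMonoidHom q.primeCompl = p.primeCompl := by
      ext z
      constructor
      · rintro ⟨w, hw, rfl⟩
        exact hw
      · intro hz
        exact ⟨e z, fun h => hz (by simpa [q] using h), by simp⟩
    let E : Localization.AtPrime q ≃+* Localization.AtPrime p :=
      IsLocalization.ringEquivOfRingEquiv (M := q.primeCompl) (T := p.primeCompl) _ _ e.symm hq
    haveI : PreValuationRing (Localization.AtPrime p) := Function.Surjective.preValuationRing (f := E.toMulHom) E.surjective
    exact { }
  refine ⟨R', fun x hx => Subfield.subset_closure (by simp only [Finset.coe_image]; exact ⟨x, hx, rfl⟩), hV, ?_, ?_⟩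
  · haveI := hmax
    refine Finite.of_injective (fun P : MaximalSpectrum R' => (⟨P.asIdeal.comap e.symm.toRingHom,
      Ideal.comap_isMaximal_of_surjective _ e.symm.surjective⟩ : MaximalSpectrum R'')) fun P Q h => ?_
    apply MaximalSpectrum.ext
    exact Ideal.comap_injective_of_surjective _ e.symm.surjective (congrArg MaximalSpectrum.asIdeal h)
  let N : ℕ := (s.image (algebraMap R L)).card
  have hbound : ringKrullDim R' ≤ ((N + 2 : ℕ) : WithBot ℕ∞) := by
    refine iSup_le fun l => ?_
    rw [Nat.cast_le]
    by_contra hl
    push Not at hl
    let P : Fin ((N + 1) + 2) → PrimeSpectrum R' := fun i => l ⟨i.1, by omega⟩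
    have hP : StrictMono P := fun i j hij => l.strictMono hij
    let Q : PrimeSpectrum R' := P (Fin.last _)
    haveI := hV Q.asIdeal
    let P' : Fin ((N + 1) + 2) → PrimeSpectrum (Localization.AtPrime Q.asIdeal) := fun i =>
      (IsLocalization.AtPrime.primeSpectrumOrderIso (Localization.AtPrime Q.asIdeal) Q.asIdeal).symm
        ⟨P i, hP.monotone (Fin.le_last i)⟩
    have hP' : StrictMono P' := fun i j hij =>
      (IsLocalization.AtPrime.primeSpectrumOrderIso (Localization.AtPrime Q.asIdeal) Q.asIdeal).symm.strictMono
        (hP hij)
    let g : R' →+* K := (algebraMap R L).restrict R' K fun x hx => hx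
    have hg : Function.Injective g := fun a b h =>
      Subtype.ext (IsFractionRing.injective R L (congrArg Subtype.val h))
    have hu : ∀ z : Q.asIdeal.primeCompl, IsUnit (g z) := fun z => Ne.isUnit fun h =>
      z.2 (by rw [hg (h.trans (map_zero g).symm)]; exact zero_mem _)
    let φ : Localization.AtPrime Q.asIdeal →+* K := IsLocalization.lift hu
    have hφ : Function.Injective φ := IsLocalization.lift_injective_iff hu |>.mpr fun a b =>
      ⟨fun h => congrArg g (IsLocalization.injective (Localization.AtPrime Q.asIdeal)
        Q.asIdeal.primeCompl_le_nonZeroDivisors h), fun h => congrArg _ (hg h)⟩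
    have h1 := ValUnionLib.length_le_trdeg φ hφ P' hP'
    have h2 := Nat.cast_le.mp (h1.trans (ValUnionLib.trdeg_closure_le (s.image (algebraMap R L))))
    omega
  exact lt_of_le_of_lt hbound (WithBot.coe_lt_coe.mpr (ENat.natCast_lt_top (N + 2)))

end Groth.Agent.S14730
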