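import Groth.Statements.S14731

import Groth.Agent.GenSmoothLib
import Mathlib.FieldTheory.Perfect
import Mathlib.Algebra.Algebra.Rat
-- import your own Groth.Agent.* helpers here

set_option autoImplicit false
universe u
open ValPrufer

namespace Groth.Agent.S14731

/-- In characteristic zero, every field K generated as a field by a finite set is the fraction field of
a subring A of K of finite type and smooth over the integers. -/
theorem result
    (K : Type u) [Field K] [CharZero K] (s : Finset K)
    (hs : Subfield.closure (↑s : Set K) = ⊤) :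
    ∃ A : Subring K, Algebra.FiniteType ℤ A ∧ Algebra.Smooth ℤ A ∧ IsFractionRing A K := by
  have hs' := fun x => GenSmoothLib.exists_div_of_closure (R := ℤ) _ hs x
  have := GenSmoothLib.essFiniteType_of_div s hs'
  have : Algebra.EssFiniteType ℚ K := Algebra.EssFiniteType.of_comp ℤ ℚ K
  have : Algebra.FormallySmooth ℤ ℚ := Algebra.FormallySmooth.of_isLocalization (nonZeroDivisors ℤ)
  have : Algebra.FormallySmooth ℤ K := Algebra.FormallySmooth.comp ℤ ℚ K
  obtain ⟨A, h1, h2, h3⟩ := GenSmoothLib.exists_smooth_subalgebra s hs'
  let e : A ≃ₐ[ℤ] A.toSubring := AlgEquiv.ofRingEquiv (f := RingEquiv.refl _) (fun n => Subtype.ext (by simp))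
  exact ⟨A.toSubring, h1.equiv e, Algebra.Smooth.of_equiv e, h3⟩

end Groth.Agent.S14731
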