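import Groth.Statements.S14732

import Groth.Agent.GenSmoothLib
import Mathlib.FieldTheory.Finite.Basic
import Mathlib.FieldTheory.Perfect
import Mathlib.Data.ZMod.Basic
-- import your own Groth.Agent.* helpers here

set_option autoImplicit false
universe u
open ValPrufer

namespace Groth.Agent.S14732

/-- In characteristic p > 0, a field K that is finitely generated over its prime subfield F (a field
with p elements) is the fraction field of an integral scheme smooth over F; concretely, there is an
F-subalgebra A of K, of finite type and smooth over F, whose fraction field is K. -/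
theorem result
    (K : Type u) [Field K] (p : ℕ) [Fact p.Prime] [CharP K p] (s : Finset K)
    (hs : Subfield.closure (↑s : Set K) = ⊤) :
    ∃ A : Subalgebra (⊥ : Subfield K) K, Algebra.FiniteType (⊥ : Subfield K) A ∧
      Algebra.Smooth (⊥ : Subfield K) A ∧ IsFractionRing A K := by
  have hF : (⊥ : Subfield K) = (ZMod.castHom dvd_rfl K).fieldRange := by
    refine le_antisymm bot_le ?_
    rintro _ ⟨x, rfl⟩
    obtain ⟨n, rfl⟩ := ZMod.intCast_surjective x
    rw [map_intCast]
    exact intCast_mem _ n
  have : Finite (⊥ : Subfield K) := by
    rw [hF]; exact Set.finite_range _ |>.to_subtype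
  have hs' := fun x => GenSmoothLib.exists_div_of_closure (R := (⊥ : Subfield K)) _ hs x
  have := GenSmoothLib.essFiniteType_of_div s hs'
  exact GenSmoothLib.exists_smooth_subalgebra s hs'

end Groth.Agent.S14732
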