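import Groth.Statements.S14734
import Mathlib
import Groth.Agent.PruferDimLib.Catenary
-- import your own Groth.Agent.* helpers here

set_option autoImplicit false
universe u
open ValPrufer

namespace Groth.Agent.S14734

/-- Let R be a Prüfer domain (an integral domain whose localisations at primes are valuation rings) of
finite Krull dimension and S an R-algebra of finite type. Then S, and every localisation T of S at a
multiplicative subset, is catenary and of finite Krull dimension. (The published statement is for a
scheme X of finite type over R and the spectrum of any semilocalisation of X; catenarity is local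
and finiteness of dimension is checked on a finite affine cover, so this row states the affine case
together with arbitrary localisations.) -/
theorem result
    (R : Type u) [CommRing R] [IsDomain R]
    (hR : ∀ (p : Ideal R) [p.IsPrime], ValuationRing (Localization.AtPrime p))
    (hdim : ringKrullDim R < ⊤)
    (S : Type u) [CommRing S] [Algebra R S] [Algebra.FiniteType R S]
    (M : Submonoid S) (T : Type u) [CommRing T] [Algebra S T] [IsLocalization M T] :
    CAlg.IsCatenary S ∧ ringKrullDim S < ⊤ ∧ CAlg.IsCatenary T ∧ ringKrullDim T < ⊤ := by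
  classical
  let f : PrimeSpectrum S → ℤ := fun a => PruferDimLib.delta R S a.asIdeal
  have hf : ∀ a b, a < b → f b < f a := fun a b h => (PruferDimLib.delta_lt R S hR hdim a.asIdeal b.asIdeal h).1
  have hcov : ∀ a b, a ⋖ b → f a = f b + 1 := fun a b h => by
    by_contra hne
    obtain ⟨N, hN, h1, h2⟩ := (PruferDimLib.delta_lt R S hR hdim a.asIdeal b.asIdeal h.1).2 hne
    exact h.2 (c := (⟨N, hN⟩ : PrimeSpectrum S)) h1 h2
  obtain ⟨N, hN⟩ := PruferDimLib.trN_le R S
  obtain ⟨D, hD⟩ : ∃ D : ℕ, ∀ p : Ideal R, p.IsPrime → p.height.toNat ≤ D := by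
    rcases hd : ringKrullDim R with _ | _ | n
    · exact absurd hd (ne_of_gt ((WithBot.bot_lt_coe (0 : ℕ∞)).trans_le (ringKrullDim_nonneg_of_nontrivial)))
    · rw [hd] at hdim; exact absurd hdim (lt_irrefl _)
    · refine ⟨n, fun p hp => ?_⟩
      have h := Ideal.height_le_ringKrullDim_of_isPrime (I := p)
      rw [hd] at h
      obtain ⟨m, hm⟩ := ENat.ne_top_iff_exists.1 (PruferDimLib.height_ne_top R hdim p)
      rw [← hm] at h ⊢
      have h' : (m : ℕ∞) ≤ (n : ℕ∞) := WithBot.coe_le_coe.1 h
      simpa using h'
  have hlo : ∀ a, -(D : ℤ) ≤ f a := fun a => by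
    have := hD (a.asIdeal.under R) inferInstance
    simp only [f, PruferDimLib.delta]; omega
  have hhi : ∀ a, f a ≤ (N : ℤ) := fun a => by
    have := hN a.asIdeal a.isPrime
    simp only [f, PruferDimLib.delta]; omega
  obtain ⟨c1, c2⟩ := PruferDimLib.catenary_and_dim S f hf hcov _ _ hlo hhi
  let j : PrimeSpectrum T → PrimeSpectrum S := PrimeSpectrum.comap (algebraMap S T)
  have hle : ∀ a b, j a ≤ j b → a ≤ b := fun a b h => by
    show a.asIdeal ≤ b.asIdeal
    rw [← IsLocalization.map_comap M T a.asIdeal, ← IsLocalization.map_comap M T b.asIdeal]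
    exact Ideal.map_mono h
  have hlt : ∀ a b, a < b → j a < j b := fun a b h =>
    lt_of_le_not_ge (Ideal.comap_mono (show a.asIdeal ≤ b.asIdeal from h.le)) fun h' => h.not_ge (hle b a h')
  have hcv : ∀ a b, a ⋖ b → j a ⋖ j b := fun a b h => by
    refine ⟨hlt a b h.1, fun c h1 h2 => ?_⟩
    have hdis : Disjoint (M : Set S) c.asIdeal := Set.disjoint_left.2 fun x hx hxc =>
      b.isPrime.ne_top (Ideal.eq_top_of_isUnit_mem _ (show algebraMap S T x ∈ b.asIdeal from h2.le hxc) (IsLocalization.map_units T ⟨x, hx⟩))
    let c' : PrimeSpectrum T := ⟨c.asIdeal.map (algebraMap S T), IsLocalization.isPrime_of_isPrime_disjoint M T _ c.isPrime hdis⟩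
    have hc : j c' = c := PrimeSpectrum.ext (IsLocalization.comap_map_of_isPrime_disjoint M T c.isPrime hdis)
    rw [← hc] at h1 h2
    exact h.2 (lt_of_le_not_ge (hle _ _ h1.le) fun h' => h1.not_ge (Ideal.comap_mono h'))
      (lt_of_le_not_ge (hle _ _ h2.le) fun h' => h2.not_ge (Ideal.comap_mono h'))
  obtain ⟨d1, d2⟩ := PruferDimLib.catenary_and_dim T (fun a => f (j a)) (fun a b h => hf _ _ (hlt a b h))
    (fun a b h => hcov _ _ (hcv a b h)) _ _ (fun a => hlo (j a)) (fun a => hhi (j a))
  exact ⟨c1, c2, d1, d2⟩

end Groth.Agent.S14734
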