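import Groth.Statements.S14737
import Groth.Agent.TorsGlueLib.Twist
import Groth.Agent.CommAlgDim.Regular

set_option autoImplicit false
universe u
open CategoryTheory MonoidalCategory CartesianMonoidalCategory MonObj AlgebraicGeometry
open ValPrufer
open scoped MonObj
set_option backward.isDefEq.respectTransparency false

namespace Groth.Agent.S14737

/-- Let R be a regular local ring with fraction field K, r ∈ R, R̂ the r-adic completion of R, and G a
reductive R-group scheme. Assume the Grothendieck–Serre statement for R and G: every G-torsor for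
the fppf topology over Spec R that has a K-point has a section. Then G(R̂[1/r]) = G(R̂) · G(R[1/r]):
every point g of G over R̂[1/r] is the product, in the group of R̂[1/r]-points, of the restriction
of an R̂-point g₂ and the restriction of an R[1/r]-point g₁; the product is written through the pair
morphism h = (g₂, g₁) into G ×_R G followed by the multiplication of G. (The published statement is
the implication from the Grothendieck–Serre conjecture; only its instance for this R and this G
enters the proof, so that instance is the hypothesis here.) -/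
theorem result (R : Type u) [CommRing R] [IsRegularLocalRing R] (r : R)
    (G : Over (Spec (CommRingCat.of R))) [GrpObj G] (hG : Red.IsReductive G)
    (hGS : ∀ (X : Over (Spec (CommRingCat.of R))) (a : AlgGrp.Action G X),
      NonAbH1.IsTorsorFor Scheme.fppfPrecoverage a →
      NonAbH1.HasSectionOver X (Spec.map (CommRingCat.ofHom (algebraMap R (FractionRing R)))) →
      NonAbH1.HasSectionOver X (𝟙 (Spec (CommRingCat.of R))))
    (g : Spec (CommRingCat.of (Localization.Away
            (algebraMap R (AdicCompletion (Ideal.span {r}) R) r))) ⟶ G.left)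
    (hg : g ≫ G.hom = Spec.map (CommRingCat.ofHom (algebraMap R (Localization.Away
            (algebraMap R (AdicCompletion (Ideal.span {r}) R) r))))) :
    ∃ (g₁ : Spec (CommRingCat.of (Localization.Away r)) ⟶ G.left)
      (g₂ : Spec (CommRingCat.of (AdicCompletion (Ideal.span {r}) R)) ⟶ G.left)
      (h : Spec (CommRingCat.of (Localization.Away
            (algebraMap R (AdicCompletion (Ideal.span {r}) R) r))) ⟶ (G ⊗ G).left),
      g₁ ≫ G.hom = Spec.map (CommRingCat.ofHom (algebraMap R (Localization.Away r))) ∧
      g₂ ≫ G.hom = Spec.map (CommRingCat.ofHom (algebraMap R (AdicCompletion (Ideal.span {r}) R))) ∧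
      h ≫ (fst G G).left = Spec.map (CommRingCat.ofHom (algebraMap (AdicCompletion (Ideal.span {r}) R)
                (Localization.Away (algebraMap R (AdicCompletion (Ideal.span {r}) R) r)))) ≫ g₂ ∧
      h ≫ (snd G G).left = Spec.map (CommRingCat.ofHom (Localization.awayMap
                (algebraMap R (AdicCompletion (Ideal.span {r}) R)) r)) ≫ g₁ ∧
      g = h ≫ (μ[G]).left := by
  haveI : IsDomain R := CommAlgDim.isDomain_of_isRegularLocalRing R
  obtain ⟨hGa, hGs, -⟩ := hG
  haveI : IsAffineHom G.hom := hGa
  haveI : Smooth G.hom := hGs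
  haveI : IsAffine G.left := isAffine_of_isAffineHom G.hom
  let R' := AdicCompletion (Ideal.span {r}) R
  let gc : TorsGlueLib.sp R (Localization.Away (algebraMap R R' r)) ⟶ G := Over.homMk g hg
  suffices hfac : ∃ (x₁ : TorsGlueLib.sp R (Localization.Away r) ⟶ G) (x₂ : TorsGlueLib.sp R R' ⟶ G),
      gc = (TorsGlueLib.spMap (TorsGlueLib.uB R R' r) ≫ x₂) * (TorsGlueLib.spMap (TorsGlueLib.uA R R' r) ≫ x₁) by
    obtain ⟨x₁, x₂, hx⟩ := hfac
    refine ⟨x₁.left, x₂.left, (lift (TorsGlueLib.spMap (TorsGlueLib.uB R R' r) ≫ x₂)
      (TorsGlueLib.spMap (TorsGlueLib.uA R R' r) ≫ x₁)).left, Over.w x₁, Over.w x₂, ?_, ?_, ?_⟩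
    · rw [← Over.comp_left, lift_fst, Over.comp_left]
      rfl
    · rw [← Over.comp_left, lift_snd, Over.comp_left]
      rfl
    · rw [← Over.comp_left]
      exact congrArg (fun k => k.left) hx
  by_cases hr : r = 0
  · haveI : Subsingleton (Localization.Away (algebraMap R R' r)) :=
      IsLocalization.subsingleton (M := Submonoid.powers (algebraMap R R' r)) ⟨1, by simp [show algebraMap R R' r = 0 by simp [R', hr]]⟩
    haveI : IsEmpty (TorsGlueLib.sp R (Localization.Away (algebraMap R R' r))).left :=
      inferInstanceAs (IsEmpty (PrimeSpectrum (Localization.Away (algebraMap R R' r))))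
    exact ⟨1, 1, Over.OverMorphism.ext (isInitialOfIsEmpty.hom_ext _ _)⟩
  · have hp : EtGlue.IsGlueingPair R R' r := TorsGlueLib.isGlueingPair_completion R r
    let γ' := gc⁻¹
    let τ : G ⊗ TorsGlueLib.sp R (Localization.Away (algebraMap R R' r)) ≅
        G ⊗ TorsGlueLib.sp R (Localization.Away (algebraMap R R' r)) :=
      { hom := lift (fst _ _ * (snd _ _ ≫ γ')) (snd _ _)
        inv := lift (fst _ _ * (snd _ _ ≫ γ'⁻¹)) (snd _ _)
        hom_inv_id := by
          apply CartesianMonoidalCategory.hom_ext <;>
            simp [MonObj.comp_mul, GrpObj.comp_inv]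
        inv_hom_id := by
          apply CartesianMonoidalCategory.hom_ext <;>
            simp [MonObj.comp_mul, GrpObj.comp_inv] }
    obtain ⟨P, hP1, hP2, hP3, q₁, q₂, i₁, i₂, hc⟩ := TorsGlueLib.exists_descent hp G τ (lift_snd _ _)
    obtain ⟨⟨a, ha⟩, hs⟩ := TorsGlueLib.exists_torsor (TorsGlueLib.glueSq_of_pair hp) γ' q₁ q₂ hc
    have hsec : NonAbH1.HasSectionOver P (Spec.map (CommRingCat.ofHom (algebraMap R (FractionRing R)))) := by
      have hu : IsUnit (algebraMap R (FractionRing R) r) :=
        IsUnit.mk0 _ fun h0 => hr (IsFractionRing.injective R (FractionRing R) (h0.trans (map_zero _).symm))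
      refine ⟨Spec.map (CommRingCat.ofHom (IsLocalization.Away.lift (S := Localization.Away r) r hu)) ≫
        (lift (1 : TorsGlueLib.sp R (Localization.Away r) ⟶ G) (𝟙 _) ≫ q₁).left, ?_⟩
      rw [Category.assoc, Over.w]
      change Spec.map _ ≫ Spec.map _ = _
      rw [← Spec.map_comp, ← CommRingCat.ofHom_comp]
      congr 2
      exact IsLocalization.Away.lift_comp r hu
    obtain ⟨s, hs'⟩ := hGS P a ha hsec
    obtain ⟨x₁, x₂, hx⟩ := hs (Over.homMk s hs')
    refine ⟨x₁, x₂⁻¹, ?_⟩
    rw [GrpObj.comp_inv, hx, mul_inv_rev, inv_mul_cancel_right, inv_inv]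

end Groth.Agent.S14737
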