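import Groth.Statements.S14738
import Groth.Agent.SemilocalPruferLib.Basic


-- import your own Groth.Agent.* helpers here

set_option autoImplicit false
universe u
open ValPrufer

namespace Groth.Agent.S14738

/-- Let R be a semilocal Prüfer domain (an integral domain with finitely many maximal ideals whose
localisations at primes are valuation rings) of finite Krull dimension, and m a maximal ideal of R.
Then there is a ∈ R with V(a) = {m}, i.e. m is the only prime ideal containing a, and there is b ∉ m
such that R[1/b] is the localisation R_m (every element outside m becomes invertible after inverting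
b); consequently the spectra of the local rings R_m form a Zariski open covering of Spec R. (The
published remark assumes positive Krull dimension to construct a; for R a field the assertions hold
with a = 0 and b = 1. It also takes b to be the product of the elements a_n chosen in the same way
for the other maximal ideals n; that choice fails as soon as a non-maximal prime lies in another
maximal ideal but not in m, e.g. for the intersection of two independent rank-two valuation rings of
a field, so this row asserts only that some such b exists.) -/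
theorem result
    (R : Type u) [CommRing R] [IsDomain R]
    (hR : ∀ (p : Ideal R) [p.IsPrime], ValuationRing (Localization.AtPrime p))
    (hfin : Finite (MaximalSpectrum R)) (hdim : ringKrullDim R < ⊤)
    (m : Ideal R) [m.IsMaximal] :
    (∃ a : R, ∀ (p : Ideal R), p.IsPrime → (a ∈ p ↔ p = m)) ∧
      ∃ b : R, b ∉ m ∧ IsLocalization.AtPrime (Localization.Away b) m := by
  classical
  haveI := Groth.Agent.SemilocalPruferLib.finite_spec R hR hfin hdim
  haveI : Fintype (PrimeSpectrum R) := Fintype.ofFinite _
  constructor
  · have hns : ¬ (m : Set R) ⊆ ⋃ p ∈ (↑(Finset.univ.filter fun p : PrimeSpectrum R => p.asIdeal ≠ m) : Set (PrimeSpectrum R)), (p.asIdeal : Set R) := by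
      rw [Ideal.subset_union_prime (f := fun p : PrimeSpectrum R => p.asIdeal) ⊥ ⊥ (fun i _ _ _ => i.isPrime)]
      rintro ⟨p, hp, hle⟩
      exact (Finset.mem_filter.1 hp).2 ((Ideal.IsMaximal.eq_of_le ‹m.IsMaximal› p.isPrime.ne_top hle).symm)
    obtain ⟨a, ham, ha⟩ := Set.not_subset.1 hns
    refine ⟨a, fun p hp => ⟨fun hap => ?_, fun h => h ▸ ham⟩⟩
    by_contra hne
    exact ha (Set.mem_iUnion₂.2 ⟨⟨p, hp⟩, Finset.mem_filter.2 ⟨Finset.mem_univ _, hne⟩, hap⟩)
  · choose x hx using fun p : {p : PrimeSpectrum R // ¬ p.asIdeal ≤ m} => SetLike.not_le_iff_exists.1 p.2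
    refine ⟨∏ p, x p, ?_, ?_⟩
    · intro h
      obtain ⟨p, -, hp⟩ := (‹m.IsMaximal›.isPrime.prod_mem_iff).1 h
      exact (hx p).2 hp
    · set b := ∏ p, x p with hb
      have hbm : b ∉ m := by
        intro h
        obtain ⟨p, -, hp⟩ := (‹m.IsMaximal›.isPrime.prod_mem_iff).1 h
        exact (hx p).2 hp
      refine IsLocalization.of_le_of_exists_dvd (Submonoid.powers b) m.primeCompl
        (Submonoid.powers_le.2 hbm) ?_
      intro s hs
      have hrad : b ∈ (Ideal.span {s}).radical := by
        rw [Ideal.radical_eq_sInf]
        refine Submodule.mem_sInf.2 fun q ⟨hq, hqp⟩ => ?_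
        have hnle : ¬ q ≤ m := fun h => hs (h (hq (Ideal.mem_span_singleton_self s)))
        exact Ideal.mem_of_dvd q (Finset.dvd_prod_of_mem x (Finset.mem_univ ⟨⟨q, hqp⟩, hnle⟩)) (hx ⟨⟨q, hqp⟩, hnle⟩).1
      obtain ⟨n, hn⟩ := hrad
      exact ⟨b ^ n, ⟨n, rfl⟩, Ideal.mem_span_singleton.1 hn⟩

end Groth.Agent.S14738
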