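import Groth.Statements.S14740
import Mathlib
import Groth.Agent.PruferVanLib.Main
import Groth.Agent.HilbLCLib.Basic
import Groth.Agent.PicPnLib.Twist
import Groth.Agent.AmpleDevLib.Pull
-- import your own Groth.Agent.* helpers here

set_option autoImplicit false
universe u
open CategoryTheory AlgebraicGeometry MonoidalCategory
open ValPrufer

namespace Groth.Agent.S14740

/-- Let R be a semilocal Prüfer domain (an integral domain with finitely many maximal ideals whose
localisations at primes are valuation rings) of finite Krull dimension, m ≥ 1, X a closed subscheme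
of projective (m-1)-space over R which is flat over R, O_X(1) the pullback of O(1), and φ : F ⟶ G an
epimorphism of finitely presented (equivalently, coherent) O_X-modules. Then there is N such that
for every n ≥ N the map induced by φ on global sections of the twists, Γ(X, F ⊗ O_X(1)^{⊗ n}) → Γ(X,
G ⊗ O_X(1)^{⊗ n}), is surjective. -/
theorem result
    (R : Type u) [CommRing R] [IsDomain R]
    (hR : ∀ (p : Ideal R) [p.IsPrime], ValuationRing (Localization.AtPrime p))
    (hfin : Finite (MaximalSpectrum R)) (hdim : ringKrullDim R < ⊤)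
    (m : ℕ) (hm : 1 ≤ m) (X : Scheme.{u}) (ι : X ⟶ CohB1.ProjSpace (m - 1) R) [IsClosedImmersion ι]
    [Flat (ι ≫ CohB1.ProjSpace.toSpec (m - 1) R)]
    (F G : X.Modules) (hF : CohB1.IsFP F) (hG : CohB1.IsFP G) (φ : F ⟶ G) [Epi φ] :
    ∃ N : ℕ, ∀ n : ℕ, N ≤ n →
      Function.Surjective (((CohB1.sheafifyMod X).map (MonoidalCategoryStruct.whiskerRight (C := CohB1.PMod X)
        φ.val (CohB1.toPMod (CohB1.tensorPow ((Scheme.Modules.pullback ι).obj (Twist.twistProjSpace (m - 1) R 1)) n)))).val.app (Opposite.op ⊤)).hom := by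
  haveI := HilbLCLib.isQCoh_of_isFP hF
  haveI := HilbLCLib.isQCoh_of_isFP hG
  haveI := QCohLib.isQCoh_kernel φ
  have hL := AmpleDevLib.isInvertible_pb ι (PicPnLib.twist_inv (n := m - 1) (R := R) 1)
  obtain ⟨d₀, h⟩ := PruferVanLib.exists_vanishing_embedded hR ι (PruferVanLib.isFT_kernel hF hG φ) hF (Limits.kernel.ι φ)
  refine ⟨d₀, fun n hn => ?_⟩
  exact PruferVanLib.surjective_tensor_top φ (AmpleThLib.tensorPow_isInvertible hL n) (h n hn 1 one_pos)

end Groth.Agent.S14740
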