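import Groth.Statements.S14741
import Groth.Agent.S0010


-- import your own Groth.Agent.* helpers here

set_option autoImplicit false
universe u
open CategoryTheory AlgebraicGeometry
open ValPrufer

namespace Groth.Agent.S14741

/-- Let R be a semilocal Prüfer domain (an integral domain with finitely many maximal ideals whose
localisations at primes are valuation rings) of finite Krull dimension, m ≥ 1, X a closed subscheme
of projective (m-1)-space over R which is flat over R, and F a finitely presented (equivalently,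
coherent) O_X-module. Then H^q(X, F) = 0 for all q > m. -/
theorem result
    (R : Type u) [CommRing R] [IsDomain R]
    (hR : ∀ (p : Ideal R) [p.IsPrime], ValuationRing (Localization.AtPrime p))
    (hfin : Finite (MaximalSpectrum R)) (hdim : ringKrullDim R < ⊤)
    (m : ℕ) (hm : 1 ≤ m) (X : Scheme.{u}) (ι : X ⟶ CohB1.ProjSpace (m - 1) R) [IsClosedImmersion ι]
    [Flat (ι ≫ CohB1.ProjSpace.toSpec (m - 1) R)]
    (F : X.Modules) (hF : CohB1.IsFP F) (q : ℕ) (hq : m < q) :
    Subsingleton (Coh.HH X F q) := by
  haveI : Scheme.IsSeparated (CohB1.ProjSpace (m - 1) R) := inferInstanceAs (Scheme.IsSeparated (Proj (CohB1.polyGrading (m - 1) R)))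
  haveI : IsSeparated (CategoryTheory.Limits.terminal.from (CohB1.ProjSpace (m - 1) R)) := Scheme.IsSeparated.isSeparated_terminal_from
  haveI : Scheme.IsSeparated X := ⟨by rw [← CategoryTheory.Limits.terminal.comp_from ι]; infer_instance⟩
  haveI := hF
  let ι' : X ⟶ Proj (CohB1.polyGrading (m - 1) R) := ι
  haveI : IsClosedImmersion ι' := ‹IsClosedImmersion ι›
  let U : Fin (m - 1 + 1) → X.Opens := fun i =>
    ι' ⁻¹ᵁ (Proj.basicOpen (CohB1.polyGrading (m - 1) R) (MvPolynomial.X i))
  have hdeg : ∀ i, (MvPolynomial.X i : MvPolynomial (Fin (m - 1 + 1)) R) ∈ CohB1.polyGrading (m - 1) R 1 := fun i =>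
    MvPolynomial.isHomogeneous_X R i
  have hU : ∀ i, IsAffineOpen (U i) := fun i =>
    (Proj.isAffineOpen_basicOpen _ _ (hdeg _) Nat.one_pos).preimage ι'
  have hcov : ⨆ i, U i = ⊤ := by
    have h := Proj.iSup_basicOpen_eq_top' (CohB1.polyGrading (m - 1) R)
      (fun i : Fin (m - 1 + 1) => (MvPolynomial.X i : MvPolynomial (Fin (m - 1 + 1)) R)) (fun i => ⟨1, hdeg _⟩) (by
        refine top_le_iff.1 fun x _ => ?_
        induction x using MvPolynomial.induction_on with
        | C a => exact Subalgebra.algebraMap_mem _ (⟨MvPolynomial.C a, MvPolynomial.isHomogeneous_C _ a⟩ : CohB1.polyGrading (m - 1) R 0)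
        | add a b ha hb => exact add_mem (ha trivial) (hb trivial)
        | mul_X a i ha => exact mul_mem (ha trivial) (Algebra.subset_adjoin ⟨i, rfl⟩))
    refine top_le_iff.1 fun x _ => ?_
    obtain ⟨i, hi⟩ := TopologicalSpace.Opens.mem_iSup.1 (h.ge (show ι'.base x ∈ (⊤ : (Proj _).Opens) from trivial))
    exact TopologicalSpace.Opens.mem_iSup.2 ⟨i, hi⟩
  exact Groth.Agent.S0010.result X (m - 1 + 1) U hU hcov (fun V W hV hW => hV.inf hW) F q (by omega)

end Groth.Agent.S14741
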