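import Groth.Statements.S14742
import Mathlib
import Groth.Agent.FlatFPDomLib.Main
-- import your own Groth.Agent.* helpers here

set_option autoImplicit false
universe u
open ValPrufer

namespace Groth.Agent.S14742

/-- Let R be a Prüfer domain (an integral domain whose localisations at primes are valuation rings) and
A a finitely presented R-algebra. Then A is a coherent ring: every finitely generated ideal I of A
is finitely presented as an A-module. -/
theorem result
    (R : Type u) [CommRing R] [IsDomain R]
    (hR : ∀ (p : Ideal R) [p.IsPrime], ValuationRing (Localization.AtPrime p))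
    (A : Type u) [CommRing A] [Algebra R A] [Algebra.FinitePresentation R A]
    (I : Ideal A) (hI : I.FG) : Module.FinitePresentation A I := by
  obtain ⟨n, π, hπ, hker⟩ := (Algebra.FinitePresentation.out (R := R) (A := A))
  let P := MvPolynomial (Fin n) R
  let I' : Ideal P := I.comap π.toRingHom
  have hI' : I'.FG := by
    obtain ⟨s, hs⟩ := hI
    classical
    choose g hg using fun x => hπ x
    obtain ⟨t, ht⟩ := hker
    refine ⟨s.image g ∪ t, le_antisymm (Submodule.span_le.2 fun x hx => ?_) fun x hx => ?_⟩
    · rcases Finset.mem_union.1 (Finset.mem_coe.1 hx) with h | h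
      · obtain ⟨a, ha, rfl⟩ := Finset.mem_image.1 h
        show π (g a) ∈ I
        rw [hg]
        exact hs ▸ Submodule.subset_span (Finset.mem_coe.2 ha)
      · show π x ∈ I
        have h2 : x ∈ RingHom.ker π.toRingHom := ht ▸ Submodule.subset_span (Finset.mem_coe.2 h)
        rw [show π x = 0 from h2]
        exact zero_mem _
    · have h1 : π x ∈ (Ideal.span ((s.image g : Finset P) : Set P)).map π.toRingHom := by
        rw [Ideal.map_span]
        have hx' : π x ∈ Ideal.span (s : Set A) := hs.symm ▸ (hx : π x ∈ I)
        refine Ideal.span_mono ?_ hx'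
        intro a ha
        exact ⟨g a, Finset.mem_coe.2 (Finset.mem_image_of_mem g (Finset.mem_coe.1 ha)), hg a⟩
      obtain ⟨y, hy, hyx⟩ := (Ideal.mem_map_iff_of_surjective π.toRingHom hπ).1 h1
      rw [show x = y + (x - y) by ring]
      refine add_mem (Submodule.span_mono (Finset.coe_subset.2 Finset.subset_union_left) hy)
        (Submodule.span_mono (Finset.coe_subset.2 Finset.subset_union_right) ?_)
      refine (SetLike.ext_iff.1 ht _).2 ?_
      show π (x - y) = 0
      rw [map_sub, sub_eq_zero]
      exact hyx.symm
  haveI : Module.Finite P I' := Module.Finite.iff_fg.2 hI'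
  haveI : Module.Flat R I' := (Module.Flat.flat_iff_torsion_eq_bot_of_valuationRing_localization_isMaximal
    (fun Q _ => hR Q)).2 (eq_bot_iff.2 fun x hx => by
      obtain ⟨⟨c, hc⟩, hcx⟩ := hx
      have h1 : c • (x : P) = 0 := congrArg Subtype.val hcx
      refine Subtype.ext ?_
      exact (smul_eq_zero.1 h1).resolve_left (nonZeroDivisors.ne_zero hc))
  haveI : Module.FinitePresentation P I' := FlatFPDomLib.finitePresentation_module (R := R)
  letI : Algebra P A := π.toRingHom.toAlgebra
  haveI : IsScalarTower P A I := inferInstance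
  let f : I' →ₗ[P] I :=
    { toFun := fun x => ⟨π x.1, x.2⟩
      map_add' := fun x y => Subtype.ext (map_add π _ _)
      map_smul' := fun c x => Subtype.ext (map_mul π c x.1) }
  have hf : Function.Surjective f := fun y => by
    obtain ⟨x, hx⟩ := hπ y.1
    exact ⟨⟨x, show π x ∈ I from hx ▸ y.2⟩, Subtype.ext hx⟩
  haveI : Module.FinitePresentation P I := by
    refine Module.finitePresentation_of_surjective f hf ?_
    refine Submodule.fg_of_fg_map_injective (Submodule.subtype I') Subtype.val_injective ?_
    refine (congrArg Submodule.FG ?_).mpr hker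
    ext x
    refine ⟨?_, fun hx => ?_⟩
    · rintro ⟨y, hy, rfl⟩
      exact congrArg Subtype.val hy
    · exact ⟨⟨x, show π x ∈ I by rw [show π x = 0 from hx]; exact zero_mem _⟩, Subtype.ext hx, rfl⟩
  haveI : Module.Finite A I := Module.Finite.iff_fg.2 hI
  obtain ⟨k, q, hq⟩ := Module.Finite.exists_fin' A I
  refine Module.finitePresentation_of_surjective q hq ?_
  let π' : (Fin k → P) →ₗ[P] (Fin k → A) := LinearMap.compLeft (Algebra.linearMap P A) (Fin k)
  have hπ' : Function.Surjective π' := fun a => ⟨fun i => (hπ (a i)).choose, funext fun i => (hπ (a i)).choose_spec⟩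
  have h3 : (LinearMap.ker ((q.restrictScalars P) ∘ₗ π')).FG :=
    Module.FinitePresentation.fg_ker _ (hq.comp hπ')
  obtain ⟨t, ht⟩ := h3
  classical
  refine ⟨t.image π', le_antisymm (Submodule.span_le.2 fun x hx => ?_) fun x hx => ?_⟩
  · obtain ⟨y, hy, rfl⟩ := Finset.mem_image.1 (Finset.mem_coe.1 hx)
    exact (ht ▸ Submodule.subset_span (Finset.mem_coe.2 hy) :
      y ∈ LinearMap.ker ((q.restrictScalars P) ∘ₗ π'))
  · obtain ⟨y, rfl⟩ := hπ' x
    have hy : y ∈ Submodule.span P (t : Set (Fin k → P)) := by rw [ht]; exact hx
    refine Submodule.span_induction (p := fun z _ => π' z ∈ Submodule.span A ((t.image π' : Finset _) : Set (Fin k → A)))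
      ?_ ?_ ?_ ?_ hy
    · exact fun z hz => Submodule.subset_span (Finset.mem_coe.2 (Finset.mem_image_of_mem π' hz))
    · rw [map_zero]; exact zero_mem _
    · intro a b _ _ ha hb; rw [map_add]; exact add_mem ha hb
    · intro c a _ ha
      rw [map_smul, ← IsScalarTower.algebraMap_smul A c (π' a)]
      exact Submodule.smul_mem _ _ ha

end Groth.Agent.S14742
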