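import Groth.Statements.S14743
import Mathlib.CategoryTheory.Monoidal.Cartesian.Grp
import Mathlib.Tactic.Ring
import Mathlib.Tactic.Linarith

set_option autoImplicit false
universe u
open CategoryTheory MonoidalCategory CartesianMonoidalCategory MonObj GrpObj AlgebraicGeometry
open AlgGrp

namespace Groth.Agent.S14743

/-- Over an algebraically closed field k let L, G, B be commutative k-group schemes, i : L → G and π : G
→ B homomorphisms with i the kernel of π, and suppose that every k-morphism B × B → L is constant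
(factors through a k-point of L). If π admits a section which is a morphism of k-schemes, then it
admits a section which is a homomorphism, so the extension splits. (The published statement is for
algebraic groups, that is, of finite type over k; finiteness plays no role and is not assumed here.) -/
theorem result (k : Type u) [Field k] [IsAlgClosed k]
    (L G B : Over (Spec (CommRingCat.of k))) [GrpObj L] [GrpObj G] [GrpObj B]
    [IsCommMonObj L] [IsCommMonObj G] [IsCommMonObj B]
    (i : L ⟶ G) [IsMonHom i] (π : G ⟶ B) [IsMonHom π] (hker : AlgGrp.IsKernel i π)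
    (hconst : ∀ f : B ⊗ B ⟶ L, ∃ l : 𝟙_ (Over (Spec (CommRingCat.of k))) ⟶ L, f = toUnit (B ⊗ B) ≫ l)
    (s : B ⟶ G) (hs : s ≫ π = 𝟙 B) :
    ∃ s' : B ⟶ G, IsMonHom s' ∧ s' ≫ π = 𝟙 B := by
  let c : 𝟙_ (Over (Spec (CommRingCat.of k))) ⟶ G := η[B] ≫ s
  let s' : B ⟶ G := s * (toUnit B ≫ c)⁻¹
  have hπ : s' ≫ π = 𝟙 B := by
    simp only [s', c, MonObj.mul_comp, GrpObj.inv_comp, Category.assoc, hs, Category.comp_id]
    rw [← Hom.one_def, _root_.inv_one, _root_.mul_one]
  have h1 : η[B] ≫ s' = 1 := by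
    simp only [s', c, MonObj.comp_mul, GrpObj.comp_inv]
    rw [← Category.assoc, Subsingleton.elim (η[B] ≫ toUnit B) (𝟙 _), Category.id_comp, mul_inv_cancel]
  let f : B ⊗ B ⟶ G := (μ[B] ≫ s') * ((fst B B ≫ s') * (snd B B ≫ s'))⁻¹
  have hf : f ≫ π = toUnit (B ⊗ B) ≫ η[B] := by
    simp only [f, MonObj.mul_comp, GrpObj.inv_comp, Category.assoc, hπ, Category.comp_id]
    rw [MonObj.mul_eq_mul, mul_inv_cancel, Hom.one_def]
  have hker' : IsPullback i (toUnit L) π η[B] := hker
  obtain ⟨g, hg⟩ : ∃ g : B ⊗ B ⟶ L, g ≫ i = f :=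
    ⟨hker'.lift f (toUnit _) hf, hker'.lift_fst _ _ _⟩
  obtain ⟨l, hl⟩ := hconst g
  have hfc : f = toUnit (B ⊗ B) ≫ (l ≫ i) := by rw [← hg, hl, Category.assoc]
  have hli : l ≫ i = 1 := by
    have e := congrArg (fun t => lift η[B] η[B] ≫ t) hfc
    simp only [f, MonObj.comp_mul, GrpObj.comp_inv, ← Category.assoc, lift_fst, lift_snd] at e
    rw [Subsingleton.elim (lift η[B] η[B] ≫ toUnit (B ⊗ B)) (𝟙 _), Category.id_comp] at e
    have e' : lift η[B] η[B] ≫ μ[B] = η[B] := by
      rw [← Hom.mul_def, MonObj.one_eq_one, _root_.one_mul]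
    simp only [e', h1, _root_.one_mul, _root_.inv_one, _root_.mul_one] at e
    exact e.symm
  have hf1 : f = 1 := by rw [hfc, hli, MonObj.comp_one]
  refine ⟨s', ⟨?_, ?_⟩, hπ⟩
  · rw [h1, MonObj.one_eq_one]
  · have h := mul_inv_eq_one.mp hf1
    rw [h]
    conv_rhs => rw [MonObj.mul_eq_mul, MonObj.comp_mul, tensorHom_fst, tensorHom_snd]

end Groth.Agent.S14743
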