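import Groth.Statements.S14751
import Groth.Agent.AlbLib.AVBasic
import Groth.Agent.AntiAffLib.RigidGrp
import Groth.Agent.AntiAffLib.KerSub
import Groth.Agent.AntiAffLib.Descend
-- import your own Groth.Agent.* helpers here

set_option autoImplicit false
set_option backward.isDefEq.respectTransparency false
set_option linter.style.haveILetI false
universe u
open CategoryTheory CategoryTheory.Limits MonoidalCategory CartesianMonoidalCategory MonObj GrpObj AlgebraicGeometry
open AlgGrp

namespace Groth.Agent.S14751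

/-- Over an algebraically closed field k let G be a group variety (smooth connected k-group scheme of
finite type), i : N → G an affine closed subgroup scheme which is the kernel of a flat surjective
homomorphism π : G → Q, and j : A → G an abelian subvariety (a smooth connected proper closed
subgroup scheme) with A · N = G, that is, the multiplication A × N → G is surjective. Then the
multiplication A × N → G is a homomorphism and an isogeny (surjective with finite kernel), and so is
the composite A → G → Q. (In the published statement N is the largest connected affine normal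
subgroup variety and Q = G/N the Albanese quotient; only the listed properties are used.) -/
theorem result (k : Type u) [Field k] [IsAlgClosed k]
    (G N A Q : Over (Spec (CommRingCat.of k))) [GrpObj G] [GrpObj N] [GrpObj A] [GrpObj Q]
    [Smooth G.hom] [QuasiCompact G.hom] [ConnectedSpace ↥G.left]
    (i : N ⟶ G) [IsMonHom i] [IsClosedImmersion i.left] [IsAffine N.left]
    (π : G ⟶ Q) [IsMonHom π] [Flat π.left] [Surjective π.left] (hker : AlgGrp.IsKernel i π)
    (j : A ⟶ G) [IsMonHom j] [IsClosedImmersion j.left] [Smooth A.hom] [ConnectedSpace ↥A.left] [IsProper A.hom]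
    (hsurj : Surjective ((j ⊗ₘ i) ≫ μ[G]).left) :
    IsMonHom ((j ⊗ₘ i) ≫ μ[G]) ∧ SGA7.IsIsogenyOver ((j ⊗ₘ i) ≫ μ[G]) ∧ SGA7.IsIsogenyOver (j ≫ π) := by
  haveI : IsSeparated G.hom := Groth.Agent.GrpField.isSeparated_grp (G := G)
  haveI : GeometricallyIntegral A.hom := AlbLib.geometricallyIntegral_grp A
  haveI : Subsingleton ↥(Spec (CommRingCat.of k)) := inferInstanceAs (Subsingleton (PrimeSpectrum k))
  haveI : IsIntegral A.left := GeometricallyIntegral.isIntegral_of_subsingleton A.hom
  haveI := AntiAffLib.antiAff_of_universallyClosed A η[A]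
  haveI : Mono i := Over.mono_of_mono_left i
  haveI : Mono j := Over.mono_of_mono_left j
  let m : A ⊗ N ⟶ G := (fst A N ≫ j) * (snd A N ≫ i)
  have hm : (j ⊗ₘ i) ≫ μ[G] = m := by
    show _ = lift (fst A N ≫ j) (snd A N ≫ i) ≫ μ[G]
    congr 1
  have hc : ∀ (T : Over (Spec (CommRingCat.of k))) (a : T ⟶ A) (g : T ⟶ G), (a ≫ j) * g = g * (a ≫ j) := by
    intro T a g
    have h := congrArg (lift a g ≫ ·) (AntiAffLib.comm_of_hom j)
    simpa [MonObj.comp_mul] using h
  have hmon : IsMonHom m := by
    refine { one_hom := by simp [m, MonObj.comp_mul, IsMonHom.one_hom, MonObj.one_eq_one], mul_hom := ?_ }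
    let a := fst (A ⊗ N) (A ⊗ N)
    let b := snd (A ⊗ N) (A ⊗ N)
    have e : μ[A ⊗ N] = a * b := by rw [Hom.mul_def, lift_fst_snd, Category.id_comp]
    have e2 : (m ⊗ₘ m) ≫ μ[G] = (a ≫ m) * (b ≫ m) := by
      show _ = lift (a ≫ m) (b ≫ m) ≫ μ[G]
      congr 1
    rw [e, e2]
    simp only [m, MonObj.comp_mul, MonObj.mul_comp, ← Category.assoc]
    rw [_root_.mul_assoc ((a ≫ fst A N) ≫ j), ← _root_.mul_assoc ((b ≫ fst A N) ≫ j),
      hc _ (b ≫ fst A N) ((a ≫ snd A N) ≫ i), _root_.mul_assoc, ← _root_.mul_assoc ((a ≫ fst A N) ≫ j)]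
  haveI := hmon
  rw [hm] at hsurj ⊢
  have hiπ := AntiAffLib.kernel_comp hker
  have hmπ : m ≫ π = fst A N ≫ j ≫ π := by
    simp only [m, MonObj.mul_comp, Category.assoc, hiπ, MonObj.comp_one, _root_.mul_one]
  have hjsurj : Surjective (j ≫ π).left := by
    haveI : Surjective (m.left ≫ π.left) := inferInstance
    haveI : Surjective ((fst A N).left ≫ (j ≫ π).left) := by
      rw [← Over.comp_left, ← hmπ, Over.comp_left]; infer_instance
    exact Surjective.of_comp (fst A N).left (j ≫ π).left
  let K := Limits.pullback j i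
  let k₂ : K ⟶ A := Limits.pullback.fst j i
  let l : K ⟶ N := Limits.pullback.snd j i
  have hl : l ≫ i = k₂ ≫ j := Limits.pullback.condition.symm
  have hsq := (IsPullback.of_hasPullback j i).map (Over.forget (Spec (CommRingCat.of k)))
  haveI : IsClosedImmersion k₂.left :=
    MorphismProperty.of_isPullback (P := @IsClosedImmersion) hsq.flip ‹IsClosedImmersion i.left›
  haveI : IsClosedImmersion l.left :=
    MorphismProperty.of_isPullback (P := @IsClosedImmersion) hsq ‹IsClosedImmersion j.left›
  haveI : Mono k₂ := Over.mono_of_mono_left k₂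
  haveI : IsAffine K.left := isAffine_of_isAffineHom l.left
  have hk₂0 : k₂ ≫ j ≫ π = 1 := by
    rw [← Category.assoc, ← hl, Category.assoc, hiπ, MonObj.comp_one]
  have hk₂ : ∀ (T : Over (Spec (CommRingCat.of k))) (t : T ⟶ A), t ≫ j ≫ π = 1 → ∃ φ, φ ≫ k₂ = t := by
    intro T t ht
    obtain ⟨n, hn⟩ := AntiAffLib.exists_lift_kernel hker (t ≫ j) (by rw [Category.assoc]; exact ht)
    exact ⟨Limits.pullback.lift t n hn.symm, Limits.pullback.lift_fst _ _ _⟩
  have hKf : IsFinite K.hom := by
    haveI : IsProper K.hom := by rw [← Over.w k₂]; infer_instance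
    haveI : IsAffineHom K.hom := inferInstance
    exact IsFinite.iff_isProper_and_isAffineHom.2 ⟨inferInstance, inferInstance⟩
  refine ⟨hmon, ⟨hsurj, fun M v hv => ?_⟩, ⟨hjsurj, fun M v hv => ?_⟩⟩
  · have hv1 := AntiAffLib.kernel_comp hv
    obtain ⟨φ, hφ⟩ := hk₂ _ (v ≫ fst A N) (by
      rw [Category.assoc, ← hmπ, ← Category.assoc, hv1, MonObj.one_comp])
    obtain ⟨ψ, hψ⟩ := AntiAffLib.exists_lift_kernel hv (lift k₂ l⁻¹) (by
      simp [m, MonObj.comp_mul, lift_fst_assoc, lift_snd_assoc, GrpObj.inv_comp, hl])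
    haveI : Mono v := ⟨fun a b e => hv.hom_ext e (toUnit_unique _ _)⟩
    have h1 : ψ ≫ φ = 𝟙 K := by
      rw [← cancel_mono k₂, Category.assoc, hφ, ← Category.assoc, hψ, lift_fst, Category.id_comp]
    have hvj : (v ≫ fst A N ≫ j) * (v ≫ snd A N ≫ i) = 1 := by
      rw [← hv1, MonObj.comp_mul]
    have h2 : φ ≫ ψ = 𝟙 M := by
      rw [← cancel_mono v, Category.assoc, hψ, comp_lift, hφ, GrpObj.comp_inv, Category.id_comp]
      refine CartesianMonoidalCategory.hom_ext _ _ (lift_fst _ _) ?_
      rw [lift_snd, ← cancel_mono i, GrpObj.inv_comp, Category.assoc, hl, ← Category.assoc, hφ, Category.assoc, Category.assoc]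
      exact inv_eq_of_mul_eq_one_right hvj
    haveI : IsIso φ := ⟨ψ, h2, h1⟩
    haveI : IsIso φ.left := inferInstanceAs (IsIso ((Over.forget _).map φ))
    rw [← Over.w φ]
    exact MorphismProperty.RespectsIso.precomp (P := @IsFinite) φ.left K.hom hKf
  · obtain ⟨φ, hφ⟩ := hk₂ _ v (AntiAffLib.kernel_comp hv)
    obtain ⟨ψ, hψ⟩ := AntiAffLib.exists_lift_kernel hv k₂ hk₂0
    haveI : Mono v := ⟨fun a b e => hv.hom_ext e (toUnit_unique _ _)⟩
    have h1 : ψ ≫ φ = 𝟙 K := by rw [← cancel_mono k₂, Category.assoc, hφ, hψ, Category.id_comp]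
    have h2 : φ ≫ ψ = 𝟙 M := by rw [← cancel_mono v, Category.assoc, hψ, hφ, Category.id_comp]
    haveI : IsIso φ := ⟨ψ, h2, h1⟩
    haveI : IsIso φ.left := inferInstanceAs (IsIso ((Over.forget _).map φ))
    rw [← Over.w φ]
    exact MorphismProperty.RespectsIso.precomp (P := @IsFinite) φ.left K.hom hKf
end Groth.Agent.S14751
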