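import Groth.Statements.S14754
import Groth.Agent.AlbNormLib.SplitTori
-- import your own Groth.Agent.* helpers here

set_option autoImplicit false
set_option backward.isDefEq.respectTransparency false
set_option linter.style.haveILetI false
set_option maxHeartbeats 1600000
universe u
open CategoryTheory CategoryTheory.Limits MonoidalCategory CartesianMonoidalCategory MonObj GrpObj AlgebraicGeometry
open AlgGrp

namespace Groth.Agent.S14754

/-- Over an algebraically closed field k, every exact sequence of split tori splits: if K, G, Q are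
split tori over k, i : K → G a closed subgroup scheme which is the kernel of a flat surjective
homomorphism π : G → Q, then π has a section which is a homomorphism. -/
theorem result (k : Type u) [Field k] [IsAlgClosed k]
    (K G Q : Over (Spec (CommRingCat.of k))) [GrpObj K] [GrpObj G] [GrpObj Q] (nK nG nQ : ℕ)
    (hK : Red.IsSplitTorusWith (Fin nK → ℤ) K) (hG : Red.IsSplitTorusWith (Fin nG → ℤ) G)
    (hQ : Red.IsSplitTorusWith (Fin nQ → ℤ) Q)
    (i : K ⟶ G) [IsMonHom i] [IsClosedImmersion i.left]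
    (π : G ⟶ Q) [IsMonHom π] [Flat π.left] [Surjective π.left] (hker : AlgGrp.IsKernel i π) :
    ∃ s : Q ⟶ G, IsMonHom s ∧ s ≫ π = 𝟙 Q := by
  obtain ⟨eK⟩ := hK; obtain ⟨eG⟩ := hG; obtain ⟨eQ⟩ := hQ
  obtain ⟨wK, hwK, hwK'⟩ := Groth.Agent.TorusField.exists_DS_iso k (Fin nK → ℤ)
  obtain ⟨wG, hwG, hwG'⟩ := Groth.Agent.TorusField.exists_DS_iso k (Fin nG → ℤ)
  obtain ⟨wQ, hwQ, hwQ'⟩ := Groth.Agent.TorusField.exists_DS_iso k (Fin nQ → ℤ)
  haveI := hwK; haveI := hwK'; haveI := hwG; haveI := hwG'; haveI := hwQ; haveI := hwQ'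
  let fK : CoactBr.sp k (AlbNormLib.TA k nK) ≅ K := wK ≪≫ ((Grp.forget _).mapIso eK).symm
  let fG : CoactBr.sp k (AlbNormLib.TA k nG) ≅ G := wG ≪≫ ((Grp.forget _).mapIso eG).symm
  let fQ : CoactBr.sp k (AlbNormLib.TA k nQ) ≅ Q := wQ ≪≫ ((Grp.forget _).mapIso eQ).symm
  haveI : IsMonHom fK.hom := inferInstanceAs (IsMonHom (wK.hom ≫ eK.inv.hom.hom))
  haveI : IsMonHom fG.hom := inferInstanceAs (IsMonHom (wG.hom ≫ eG.inv.hom.hom))
  haveI : IsMonHom fQ.hom := inferInstanceAs (IsMonHom (wQ.hom ≫ eQ.inv.hom.hom))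
  haveI : IsIso fG.hom.left := (Over.forget _).map_isIso fG.hom
  haveI : IsIso fQ.inv.left := (Over.forget _).map_isIso fQ.inv
  let i' := fK.hom ≫ i ≫ fG.inv
  let π' := fG.hom ≫ π ≫ fQ.inv
  haveI : IsMonHom i' := inferInstanceAs (IsMonHom (fK.hom ≫ i ≫ fG.inv))
  haveI : IsMonHom π' := inferInstanceAs (IsMonHom (fG.hom ≫ π ≫ fQ.inv))
  haveI : Flat π'.left := by simp only [π', Over.comp_left]; infer_instance
  haveI : Surjective π'.left := by simp only [π', Over.comp_left]; infer_instance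
  haveI : Mono i := Over.mono_of_mono_left i
  have hk : AlgGrp.IsKernel i' π' := by
    refine AntiAffLib.isKernel_of_forall i' π' ?_ fun T t ht => ?_
    · simp only [i', π', Category.assoc, Iso.inv_hom_id_assoc]
      rw [← Category.assoc i π, AntiAffLib.kernel_comp hker, MonObj.one_comp, MonObj.comp_one]
    · obtain ⟨l, hl⟩ := AntiAffLib.exists_lift_kernel hker (t ≫ fG.hom) (by
        rw [← cancel_mono fQ.inv, MonObj.one_comp, Category.assoc, Category.assoc]
        exact ht)
      exact ⟨l ≫ fK.inv, by simp only [i', Category.assoc, Iso.inv_hom_id_assoc, reassoc_of% hl, Iso.hom_inv_id, Category.comp_id]⟩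
  obtain ⟨s, hs, hsπ⟩ := AlbNormLib.exists_section_sp i' π' hk
  haveI := hs
  refine ⟨fQ.inv ≫ s ≫ fG.hom, inferInstance, ?_⟩
  rw [← cancel_mono fQ.inv, Category.assoc, Category.assoc, Category.assoc]
  show fQ.inv ≫ s ≫ π' = _
  rw [hsπ, Category.comp_id, Category.id_comp]
end Groth.Agent.S14754
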