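import Groth.Statements.S14757
import Groth.Agent.ChevThmLib.Descent
import Groth.Agent.S14582
-- import your own Groth.Agent.* helpers here

set_option autoImplicit false
set_option backward.isDefEq.respectTransparency false
set_option linter.style.haveILetI false
universe u
open CategoryTheory CategoryTheory.Limits MonoidalCategory CartesianMonoidalCategory MonObj GrpObj AlgebraicGeometry
open AlgGrp

namespace Groth.Agent.S14757

/-- Let k be a perfect field and G a group variety over k (smooth connected k-group scheme of finite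
type); let i : N → G be its largest smooth connected affine normal closed subgroup scheme G_lin
(every other such subgroup factors through it) and j : M → G its largest anti-affine closed subgroup
scheme G_ant (the global functions of M are the constants k, and every closed subgroup scheme with
that property factors through it). Then the multiplication G_ant × G_lin → G is a homomorphism and
is surjective. (The published statement says it is a quotient map; surjectivity is what the
published proof establishes, faithful flatness then being automatic for a surjective homomorphism of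
algebraic groups.) -/
theorem result (k : Type u) [Field k] [PerfectField k]
    (G : Over (Spec (CommRingCat.of k))) [GrpObj G] [Smooth G.hom] [QuasiCompact G.hom] [ConnectedSpace ↥G.left]
    (N : Over (Spec (CommRingCat.of k))) [GrpObj N] (i : N ⟶ G) [IsMonHom i] [IsClosedImmersion i.left]
    [Smooth N.hom] [ConnectedSpace ↥N.left] [IsAffine N.left] (hN : AlgGrp.IsNormalHom i)
    (hNmax : ∀ (N' : Over (Spec (CommRingCat.of k))) [GrpObj N'] (i' : N' ⟶ G) [IsMonHom i'] [IsClosedImmersion i'.left]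
      [Smooth N'.hom] [ConnectedSpace ↥N'.left] [IsAffine N'.left], AlgGrp.IsNormalHom i' → ∃ f : N' ⟶ N, f ≫ i = i')
    (M : Over (Spec (CommRingCat.of k))) [GrpObj M] (j : M ⟶ G) [IsMonHom j] [IsClosedImmersion j.left]
    (hM : Function.Bijective ((Scheme.ΓSpecIso (CommRingCat.of k)).inv ≫ M.hom.appTop).hom)
    (hMmax : ∀ (M' : Over (Spec (CommRingCat.of k))) [GrpObj M'] (j' : M' ⟶ G) [IsMonHom j'] [IsClosedImmersion j'.left],
      Function.Bijective ((Scheme.ΓSpecIso (CommRingCat.of k)).inv ≫ M'.hom.appTop).hom → ∃ f : M' ⟶ M, f ≫ j = j') :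
    IsMonHom ((j ⊗ₘ i) ≫ μ[G]) ∧ Surjective ((j ⊗ₘ i) ≫ μ[G]).left := by
  haveI : GeometricallyIntegral G.hom := AlbLib.geometricallyIntegral_grp G
  obtain ⟨L, _, l, Q, _, q, hlm, hlc, hla, hls, hlconn, hln, hqm, hqs, hqf, hk, hQp, -, -⟩ :=
    ChevThmLib.exists_chevalley_perfect G
  haveI := hlm; haveI := hlc; haveI := hla; haveI := hls; haveI := hlconn
  haveI := hqm; haveI := hqs; haveI := hqf; haveI := hQp
  haveI : LocallyOfFiniteType M.hom := by rw [← Over.w j]; infer_instance
  haveI : QuasiCompact M.hom := by rw [← Over.w j]; infer_instance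
  haveI : AntiAffLib.IsΓIso (toUnit M) := (AntiAffLib.bijective_iff M).1 hM
  obtain ⟨g, hg⟩ := hNmax L l hln
  have hs := (Groth.Agent.S14582.result k G L l hln Q q hk M j hM fun M' _ _ _ j' _ _ h => hMmax M' j' h).1
  have hcomm := AntiAffLib.comm_of_hom j
  have hji : (j ⊗ₘ i) ≫ μ[G] = (fst M N ≫ j) * (snd M N ≫ i) := by rw [Hom.mul_def]; congr 1
  refine ⟨?_, ?_⟩
  · have hμ : ∀ (X : Over (Spec (CommRingCat.of k))) [GrpObj X], (μ[X] : X ⊗ X ⟶ X) = fst X X * snd X X :=
      fun X _ => MonObj.mul_eq_mul X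
    refine { one_hom := ?_, mul_hom := ?_ }
    · rw [hji, MonObj.comp_mul, Hom.mul_def]
      have h1 : η[M ⊗ N] ≫ fst M N ≫ j = η[G] := by
        rw [← Category.assoc, IsMonHom.one_hom (fst M N), IsMonHom.one_hom]
      have h2 : η[M ⊗ N] ≫ snd M N ≫ i = η[G] := by
        rw [← Category.assoc, IsMonHom.one_hom (snd M N), IsMonHom.one_hom]
      rw [h1, h2, ← Hom.mul_def]
      rw [show (η[G] : 𝟙_ (Over (Spec (CommRingCat.of k))) ⟶ G) = 1 by
        rw [Hom.one_def, toUnit_unique (toUnit _) (𝟙 _), Category.id_comp], _root_.mul_one]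
    · rw [hji, hμ G, MonObj.comp_mul (_ ⊗ₘ _), tensorHom_fst, tensorHom_snd, hμ (M ⊗ N)]
      simp only [MonObj.comp_mul]
      have e1 : (fst (M ⊗ N) (M ⊗ N) * snd (M ⊗ N) (M ⊗ N)) ≫ fst M N ≫ j =
          (fst (M ⊗ N) (M ⊗ N) ≫ fst M N ≫ j) * (snd (M ⊗ N) (M ⊗ N) ≫ fst M N ≫ j) := MonObj.mul_comp _ _ _
      have e2 : (fst (M ⊗ N) (M ⊗ N) * snd (M ⊗ N) (M ⊗ N)) ≫ snd M N ≫ i =
          (fst (M ⊗ N) (M ⊗ N) ≫ snd M N ≫ i) * (snd (M ⊗ N) (M ⊗ N) ≫ snd M N ≫ i) := MonObj.mul_comp _ _ _
      rw [e1, e2]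
      have hswap := congrArg (lift (snd (M ⊗ N) (M ⊗ N) ≫ fst M N) (fst (M ⊗ N) (M ⊗ N) ≫ snd M N ≫ i) ≫ ·) hcomm
      simp only [MonObj.comp_mul, lift_fst_assoc, lift_snd, Category.assoc] at hswap
      simp only [_root_.mul_assoc]
      rw [← _root_.mul_assoc (snd _ _ ≫ fst M N ≫ j), hswap, _root_.mul_assoc]
  · let e : L ⊗ M ⟶ M ⊗ N := lift (snd L M) (fst L M ≫ g)
    have he : e ≫ (j ⊗ₘ i) ≫ μ[G] = (l ⊗ₘ j) ≫ μ[G] := by
      rw [hji, show (l ⊗ₘ j) ≫ μ[G] = (fst L M ≫ l) * (snd L M ≫ j) by rw [Hom.mul_def]; congr 1, MonObj.comp_mul]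
      simp only [e, lift_fst_assoc, lift_snd_assoc, Category.assoc, hg]
      have h := congrArg (lift (snd L M) (fst L M ≫ l) ≫ ·) hcomm
      simpa only [MonObj.comp_mul, lift_fst_assoc, lift_snd, Category.comp_id] using h
    haveI : Surjective (e.left ≫ ((j ⊗ₘ i) ≫ μ[G]).left) := by rw [← Over.comp_left, he]; exact hs
    exact Surjective.of_comp e.left ((j ⊗ₘ i) ≫ μ[G]).left
end Groth.Agent.S14757
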