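import Groth.Statements.S14759
import Groth.Agent.AlbNormLib.Min
import Groth.Agent.AntiAffLib.OpenSub
-- import your own Groth.Agent.* helpers here

set_option autoImplicit false
set_option backward.isDefEq.respectTransparency false
set_option linter.style.haveILetI false
set_option maxHeartbeats 1600000
universe u
open CategoryTheory CategoryTheory.Limits MonoidalCategory CartesianMonoidalCategory MonObj GrpObj AlgebraicGeometry
open AlgGrp

namespace Groth.Agent.S14759

/-- Over a field k, every isogeny φ : G → H of k-group schemes of finite type (a surjective homomorphism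
with finite kernel) factors as φ = χ ∘ ψ with ψ : G → Q a purely inseparable isogeny (its kernel is
connected) followed by a separable isogeny χ : Q → H (its kernel is etale over k). (The published
definition of isogeny asks only for a finite kernel and an image of finite index in H; this row
takes φ surjective, which is the same notion when H is connected.) -/
theorem result (k : Type u) [Field k]
    (G H : Over (Spec (CommRingCat.of k))) [GrpObj G] [GrpObj H]
    [QuasiCompact G.hom] [LocallyOfFiniteType G.hom] [QuasiCompact H.hom] [LocallyOfFiniteType H.hom]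
    (φ : G ⟶ H) [IsMonHom φ] (hφ : SGA7.IsIsogenyOver φ) :
    ∃ (Q : Over (Spec (CommRingCat.of k))) (_ : GrpObj Q) (ψ : G ⟶ Q) (χ : Q ⟶ H),
      IsMonHom ψ ∧ IsMonHom χ ∧ ψ ≫ χ = φ ∧ SGA7.IsIsogenyOver ψ ∧ SGA7.IsIsogenyOver χ ∧
      (∀ (N : Over (Spec (CommRingCat.of k))) (n : N ⟶ G), AlgGrp.IsKernel n ψ → ConnectedSpace ↥N.left) ∧
      (∀ (N : Over (Spec (CommRingCat.of k))) (n : N ⟶ Q), AlgGrp.IsKernel n χ → Etale N.hom) := by
  obtain ⟨hφs, hφf⟩ := hφ
  haveI := hφs
  haveI : IsSeparated G.hom := Groth.Agent.GrpField.isSeparated_grp (G := G)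
  haveI : Flat G.hom := Groth.Agent.GrpField.flat_field _
  haveI : CompactSpace G.left := QuasiCompact.compactSpace_of_compactSpace G.hom
  obtain ⟨K, _, i, hKm, hKc, hK, hKn⟩ := AntiAffLib.exists_kernel φ
  haveI := hKm; haveI := hKc
  haveI : Mono i := Over.mono_of_mono_left i
  haveI : IsFinite K.hom := hφf K i hK
  haveI : LocallyOfFiniteType K.hom := inferInstance
  haveI : QuasiCompact K.hom := inferInstance
  obtain ⟨K₀, _, j, hjm, hjc, hjf, hjr, hgi, hjk⟩ := Groth.Agent.GrpField.exists_identity_component (G := K)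
  haveI := hjm; haveI := hjc; haveI := hjf; haveI := hgi
  haveI : IsFinite K₀.hom := by rw [← Over.w j]; infer_instance
  haveI : Subsingleton ↥(Spec (CommRingCat.of k)) := inferInstanceAs (Subsingleton (PrimeSpectrum k))
  haveI : IrreducibleSpace K₀.left := GeometricallyIrreducible.irreducibleSpace_of_subsingleton K₀.hom
  haveI : ConnectedSpace K₀.left := inferInstance
  haveI : IsOpenImmersion j.left := by
    haveI := AntiAffLib.lfp_of_lft j
    exact IsOpenImmersion.of_flat_of_mono j.left
  haveI : Mono j := Over.mono_of_mono_left j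
  haveI : Mono (j ≫ i) := mono_comp _ _
  haveI : IsClosedImmersion (j ≫ i).left := by rw [Over.comp_left]; infer_instance
  haveI : Flat K₀.hom := Groth.Agent.GrpField.flat_field _
  obtain ⟨Q, _, ψ, hψm, hψf, hψs, hψl, hψk, hQsep, hQfl, -⟩ :=
    Groth.Agent.S3030.result k K₀ G (j ≫ i) (AlbNormLib.isNormalHom_component' i hKn j)
  haveI := hψm; haveI := hψf; haveI := hψs; haveI := hψl; haveI := hQsep
  haveI : LocallyOfFiniteType Q.hom := by
    haveI : LocallyOfFinitePresentation (ψ.left ≫ Q.hom) := by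
      rw [Over.w ψ]; exact LocallyOfFinitePresentation.iff_locallyOfFiniteType.2 inferInstance
    haveI := Groth.Agent.S0114.result ψ.left Q.hom
    infer_instance
  haveI : CompactSpace Q.left := ⟨by rw [← ψ.left.surjective.range_eq]; exact isCompact_range ψ.left.continuous⟩
  haveI : QuasiCompact Q.hom := quasiCompact_of_compactSpace _
  have hd : ∀ (T : Over (Spec (CommRingCat.of k))) (a b : T ⟶ G), a ≫ ψ = b ≫ ψ → a ≫ φ = b ≫ φ := by
    intro T a b e
    obtain ⟨z, hz⟩ := AntiAffLib.exists_lift_kernel hψk (a * b⁻¹)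
      (by rw [MonObj.mul_comp, GrpObj.inv_comp, e, mul_inv_cancel])
    have h := congrArg (· ≫ φ) hz
    simp only [Category.assoc] at h
    rw [AntiAffLib.kernel_comp hK, MonObj.comp_one, MonObj.comp_one, MonObj.mul_comp, GrpObj.inv_comp] at h
    exact mul_inv_eq_one.1 h.symm
  obtain ⟨χ, hχ⟩ := Groth.Agent.MonoQuot.exists_desc_over ψ φ hd
  haveI := Groth.Agent.MonoQuot.epi_over ψ
  haveI : IsMonHom χ := by
    have h1 : η[Q] ≫ χ = η[H] := by rw [← IsMonHom.one_hom ψ, Category.assoc, hχ, IsMonHom.one_hom]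
    refine { one_hom := h1, mul_hom := ?_ }
    obtain ⟨_, _, _⟩ := Groth.Agent.MonoQuot.fppf_tensor ψ ψ
    haveI := Groth.Agent.MonoQuot.epi_over (ψ ⊗ₘ ψ)
    rw [← cancel_epi (ψ ⊗ₘ ψ), tensorHom_comp_tensorHom_assoc, hχ, ← IsMonHom.mul_hom_assoc, hχ, IsMonHom.mul_hom]
  obtain ⟨E, _, iE, _, hiE, hE, -⟩ := AntiAffLib.exists_kernel χ
  haveI := hiE
  haveI : LocallyOfFiniteType E.hom := by rw [← Over.w iE]; infer_instance
  haveI : Mono iE := Over.mono_of_mono_left iE
  obtain ⟨r, hr⟩ := AntiAffLib.exists_lift_kernel hE (i ≫ ψ)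
    (by rw [Category.assoc, hχ, AntiAffLib.kernel_comp hK])
  haveI : IsMonHom (r ≫ iE) := by rw [hr]; infer_instance
  haveI : IsMonHom r := Groth.Agent.DiagRep.isMonHom_of_comp_mono r iE
  have hsq : IsPullback r i iE ψ := by
    have hex : ∀ s : PullbackCone iE ψ, ∃ l : s.pt ⟶ K, l ≫ i = s.snd := fun s =>
      AntiAffLib.exists_lift_kernel hK s.snd (by
        rw [← hχ, ← Category.assoc, ← s.condition, Category.assoc, AntiAffLib.kernel_comp hE, MonObj.comp_one])
    refine IsPullback.of_isLimit' ⟨hr⟩ (PullbackCone.IsLimit.mk _ (fun s => (hex s).choose)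
      (fun s => ?_) (fun s => (hex s).choose_spec) (fun s m h1 h2 => ?_))
    · rw [← cancel_mono iE, Category.assoc, hr, ← Category.assoc, (hex s).choose_spec]
      exact s.condition.symm
    · rw [← cancel_mono i]
      exact h2.trans (hex s).choose_spec.symm
  haveI : Flat r.left := MorphismProperty.of_isPullback (P := @Flat) (hsq.map (Over.forget _)).flip hψf
  haveI : Surjective r.left := MorphismProperty.of_isPullback (P := @Surjective) (hsq.map (Over.forget _)).flip hψs
  have hrk : AlgGrp.IsKernel j r := by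
    refine AntiAffLib.isKernel_of_forall j r ?_ fun T t ht => ?_
    · rw [← cancel_mono iE, Category.assoc, hr, MonObj.one_comp, ← Category.assoc, AntiAffLib.kernel_comp hψk]
    · obtain ⟨l, hl⟩ := AntiAffLib.exists_lift_kernel hψk (t ≫ i) (by
        rw [Category.assoc, ← hr, ← Category.assoc, ht, MonObj.one_comp])
      exact ⟨l, by rw [← cancel_mono i, Category.assoc, hl]⟩
  haveI hEf : IsFinite E.hom := AlbLib.isFinite_of_open_kernel j r hrk
  haveI hEe : Etale E.hom := by
    haveI := AntiAffLib.lfp_of_lft r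
    haveI : QuasiCompact r.left := by
      haveI : QuasiCompact (r.left ≫ E.hom) := by rw [Over.w r]; infer_instance
      exact QuasiCompact.of_comp r.left E.hom
    haveI : IsSeparated E.hom := inferInstance
    haveI : IsClosedImmersion (η[E] : 𝟙_ (Over (Spec (CommRingCat.of k))) ⟶ E).left := by
      haveI : IsClosedImmersion ((η[E] : 𝟙_ (Over (Spec (CommRingCat.of k))) ⟶ E).left ≫ E.hom) := by
        rw [Over.w]; exact inferInstanceAs (IsClosedImmersion (𝟙 (Spec (CommRingCat.of k))))
      exact IsClosedImmersion.of_comp _ E.hom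
    haveI : Flat (η[E] : 𝟙_ (Over (Spec (CommRingCat.of k))) ⟶ E).left :=
      MorphismProperty.of_isPullback_of_descendsAlong (P := @Flat) (Q := @Surjective ⊓ @Flat ⊓ @QuasiCompact)
        (hrk.map (Over.forget _)) ⟨⟨‹Surjective r.left›, ‹Flat r.left›⟩, ‹QuasiCompact r.left›⟩
        (inferInstance : Flat j.left)
    haveI : LocallyOfFiniteType (𝟙_ (Over (Spec (CommRingCat.of k)))).hom :=
      inferInstanceAs (LocallyOfFiniteType (𝟙 _))
    haveI := AntiAffLib.lfp_of_lft (η[E] : 𝟙_ (Over (Spec (CommRingCat.of k))) ⟶ E)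
    haveI : IsOpenImmersion (η[E] : 𝟙_ (Over (Spec (CommRingCat.of k))) ⟶ E).left := IsOpenImmersion.of_flat_of_mono _
    exact AntiAffLib.etale_of_open_unit (P := E)
  have hiso : ∀ {A B T : Over (Spec (CommRingCat.of k))} [GrpObj T] {q : B ⟶ T} {a : A ⟶ B}
      {N : Over (Spec (CommRingCat.of k))} {n : N ⟶ B}, AlgGrp.IsKernel a q → AlgGrp.IsKernel n q → Nonempty (N ≅ A) :=
    fun h h' => ⟨h'.isoIsPullback _ _ h⟩
  refine ⟨Q, inferInstance, ψ, χ, inferInstance, inferInstance, hχ, ⟨hψs, fun N n hn => ?_⟩, ⟨?_, fun N n hn => ?_⟩,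
    fun N n hn => ?_, fun N n hn => ?_⟩
  · obtain ⟨e⟩ := hiso hψk hn
    haveI : IsIso e.hom.left := (Over.forget _).map_isIso e.hom
    rw [← Over.w e.hom]; infer_instance
  · haveI : Surjective (ψ.left ≫ χ.left) := by rw [← Over.comp_left, hχ]; infer_instance
    exact Surjective.of_comp ψ.left χ.left
  · obtain ⟨e⟩ := hiso hE hn
    haveI : IsIso e.hom.left := (Over.forget _).map_isIso e.hom
    rw [← Over.w e.hom]; infer_instance
  · obtain ⟨e⟩ := hiso hψk hn
    haveI : IsIso e.inv.left := (Over.forget _).map_isIso e.inv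
    exact Function.Surjective.connectedSpace e.inv.left.surjective e.inv.left.continuous
  · obtain ⟨e⟩ := hiso hE hn
    haveI : IsIso e.hom.left := (Over.forget _).map_isIso e.hom
    rw [← Over.w e.hom]; infer_instance
end Groth.Agent.S14759
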