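import Groth.Statements.S1476
import Groth.Agent.FibPropLib.Main

set_option autoImplicit false
set_option backward.isDefEq.respectTransparency false
set_option backward.isDefEq.respectTransparency.types false
set_option maxHeartbeats 1000000
universe u
open FlatMor

namespace Groth.Agent.S1476


section Helpers
end Helpers

open AlgebraicGeometry CategoryTheory Limits in
/-- Let Y' → Y be flat, locally of finite presentation and surjective and f' the base change of f : X →
Y. Then f has locally Noetherian fibres and is regular (affine-locally: regular ring maps) if and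
only if the same holds for f'. -/
theorem result {X Y X' Y' : Scheme.{u}} (f : X ⟶ Y) (f' : X' ⟶ Y') (g' : X' ⟶ X) (g : Y' ⟶ Y) [Flat g] [LocallyOfFinitePresentation g] [Surjective g]
    (hc : IsPullback g' f' f g) :
    ((∀ y : Y, IsLocallyNoetherian (f.fiber y)) ∧ (∀ (U : X.Opens) (V : Y.Opens) (hU : IsAffineOpen U) (hV : IsAffineOpen V) (hUV : U ≤ f ⁻¹ᵁ V),
        letI := (f.appLE V U hUV).hom.toAlgebra
        CAlg.IsRegularHom Γ(Y, V) Γ(X, U))) ↔
      ((∀ y' : Y', IsLocallyNoetherian (f'.fiber y')) ∧ (∀ (U : X'.Opens) (V : Y'.Opens) (hU : IsAffineOpen U) (hV : IsAffineOpen V) (hUV : U ≤ f' ⁻¹ᵁ V),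
        letI := (f'.appLE V U hUV).hom.toAlgebra
        CAlg.IsRegularHom Γ(Y', V) Γ(X', U))) := by
  have hiff := Groth.Agent.S1405.result f f' g' g hc
  constructor
  · rintro ⟨hN, h⟩
    refine ⟨hiff.1 hN, (FibPropLib.regularHom_iff f' (hiff.1 hN)).2 ?_⟩
    exact (FibPropLib.forall_iff_bc FibPropLib.fibProp_regular hc hN (hiff.1 hN)).1
      ((FibPropLib.regularHom_iff f hN).1 h)
  · rintro ⟨hN', h⟩
    refine ⟨hiff.2 hN', (FibPropLib.regularHom_iff f (hiff.2 hN')).2 ?_⟩
    exact (FibPropLib.forall_iff_bc FibPropLib.fibProp_regular hc (hiff.2 hN') hN').2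
      ((FibPropLib.regularHom_iff f' hN').1 h)

end Groth.Agent.S1476
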