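import Groth.Statements.S14762
import Groth.Agent.BorelLib.RedQuot
import Groth.Agent.BorelLib.RedClosed
import Groth.Agent.BorelLib.ImageField
import Groth.Agent.AntiAffLib.AffineQuot
import Groth.Agent.AlgSpLib.ReducedSmooth
import Groth.Agent.GrpSchLib.Cartier
-- import your own Groth.Agent.* helpers here

set_option autoImplicit false
set_option maxHeartbeats 4000000
set_option synthInstance.maxHeartbeats 400000
set_option backward.isDefEq.respectTransparency false
universe u
open CategoryTheory CategoryTheory.Limits MonoidalCategory CartesianMonoidalCategory MonObj GrpObj AlgebraicGeometry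
open Red

attribute [-instance] CategoryTheory.Hom.commGroup

namespace Groth.Agent.S14762

open Groth.Agent.BorelLib
attribute [local instance] BorelLib.pTop BorelLib.pTopTensor

/-- Over an algebraically closed field k, every quotient of a reductive group variety is reductive: if G
is a reductive k-group (affine, smooth, connected, with trivial unipotent radical) and π : G → H is
a flat surjective homomorphism onto a k-group scheme of finite type H, then H is reductive. (The
published lemma also covers the properties complete, semisimple and solvable.) -/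
theorem result (k : Type u) [Field k] [IsAlgClosed k]
    (G H : Over (Spec (CommRingCat.of k))) [GrpObj G] [GrpObj H] (hG : Red.IsReductiveOver k G)
    [QuasiCompact H.hom] [LocallyOfFiniteType H.hom]
    (π : G ⟶ H) [IsMonHom π] [Flat π.left] [Surjective π.left] :
    Red.IsReductiveOver k H := by
  obtain ⟨hGa, hGs, hGc, -⟩ := id hG
  haveI := hGa; haveI := hGs; haveI := hGc
  haveI : IsAffine H.left := AntiAffLib.isAffine_of_surjective_hom π
  haveI : IsReduced G.left := AlgSpLib.isReduced_of_smooth G.hom
  haveI : IsReduced H.left := AlgSpLib.isReduced_of_flat_surjective π.left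
  haveI : Smooth H.hom := GrpSchLib.smooth_of_isAlgClosed_of_isReduced H
  haveI : ConnectedSpace H.left := (Scheme.Hom.surjective π.left).connectedSpace π.left.continuous
  obtain ⟨A, _, _, v, hv, hA, -⟩ := exists_setup G
  haveI := hv; haveI := hA
  obtain ⟨A', _, _, w, hw, hA', hAr⟩ := exists_setup H
  haveI := hw; haveI := hA'; haveI := hAr
  let f : Pt k A →* Pt k A' := ((ptEquiv w).symm.toMonoidHom.comp (ptHom π)).comp (ptEquiv v).toMonoidHom
  have hfφ : ∀ x, ptEquiv w (f x) = ptEquiv v x ≫ π := fun x => (ptEquiv w).apply_symm_apply _
  have hfm : IsMor f := by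
    obtain ⟨F, ⟨φ, hφ⟩, hF⟩ := exists_isMor v w π
    exact ⟨φ, fun x => (ptEquiv w).injective (by rw [hfφ, ← hF, hφ])⟩
  have hfs : Function.Surjective f := fun y => by
    obtain ⟨g, hg⟩ := Groth.Agent.S14536.result k G H π inferInstance (ptEquiv w y)
    refine ⟨(ptEquiv v).symm g, (ptEquiv w).injective ?_⟩
    rw [hfφ, MulEquiv.apply_symm_apply, hg]
  exact isReductiveOver_of_isRedPts w
    ((isRedPts_of_isReductiveOver v hG).map (isPreconnected_univ_of_connected v) hfm hfs)

end Groth.Agent.S14762
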