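import Groth.Statements.S14763
import Groth.Agent.TorsNormLib.Quot
import Groth.Agent.S18067
import Groth.Agent.AlbLib.MaxAV
import Groth.Agent.AVAmpleLib.IsogInv
import Groth.Agent.AVIndexLib.DualHom
import Mathlib.AlgebraicGeometry.Morphisms.Proper
-- import your own Groth.Agent.* helpers here

set_option autoImplicit false
universe u
open CategoryTheory CategoryTheory.Limits MonoidalCategory CartesianMonoidalCategory MonObj GrpObj AlgebraicGeometry
open AlgGrp

namespace Groth.Agent.S14763

section
set_option backward.isDefEq.respectTransparency false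
set_option linter.style.haveILetI false
set_option maxHeartbeats 1000000
attribute [-instance] CategoryTheory.Hom.commGroup

variable {k : Type u} [Field k] {G L A : Over (Spec (CommRingCat.of k))} [GrpObj G] [GrpObj L] [GrpObj A]
  [Smooth G.hom] [QuasiCompact G.hom] [ConnectedSpace ↥G.left]
  (i : L ⟶ G) [IsMonHom i] [IsClosedImmersion i.left] [IsAffine L.left]
  (π : G ⟶ A) [IsMonHom π] [Flat π.left] [Surjective π.left] (hker : AlgGrp.IsKernel i π)
  [IsProper A.hom] [Smooth A.hom] [ConnectedSpace ↥A.left]

include hker in
theorem exists_of_section (d : ℕ) (hd : 0 < d) (s : A ⟶ G) [IsMonHom s] (hs : s ≫ π = (𝟙 A) ^ d) :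
    ∃ (A' : Over (Spec (CommRingCat.of k))) (_ : GrpObj A') (j : A' ⟶ G), IsMonHom j ∧ IsClosedImmersion j.left ∧
      Smooth A'.hom ∧ ConnectedSpace ↥A'.left ∧ IsProper A'.hom ∧ Surjective ((j ⊗ₘ i) ≫ μ[G]).left := by
  obtain ⟨C, _, j, p, hj, hjc, hCp, hCgi, hp⟩ := AlbLib.exists_av_subgroup (G := G) s
  haveI := hCp; haveI := hCgi
  haveI : IsIntegral C.left := GeometricallyIntegral.isIntegral_of_subsingleton C.hom
  refine ⟨C, inferInstance, j, hj, hjc, AlbLib.smooth_grp C, inferInstance, hCp, ?_⟩
  haveI : IsReduced A.left := AlgSpLib.isReduced_of_smooth A.hom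
  haveI : AntiAffLib.IsΓIso (toUnit A) := AntiAffLib.antiAff_of_universallyClosed A η[A]
  have hps : Surjective ((𝟙 A) ^ d).left := by
    have := (Groth.Agent.S18067.result k A ((AntiAffLib.bijective_iff A).2 inferInstance) (d : ℤ) (by exact_mod_cast hd.ne')).1
    simpa only [zpow_natCast] using this
  let P := pullback ((𝟙 A) ^ d) π
  let a : P ⟶ A := pullback.fst _ _
  let g : P ⟶ G := pullback.snd _ _
  haveI : Surjective g.left := MorphismProperty.of_isPullback (P := @Surjective)
    ((IsPullback.of_hasPullback ((𝟙 A) ^ d) π).map (Over.forget _)) hps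
  obtain ⟨l, hl⟩ := AntiAffLib.exists_lift_kernel hker ((a ≫ s)⁻¹ * g) (by
    rw [MonObj.mul_comp, GrpObj.inv_comp, Category.assoc, hs,
      show a ≫ (𝟙 A) ^ d = g ≫ π from pullback.condition, inv_mul_cancel])
  have h : lift (a ≫ p) l ≫ (j ⊗ₘ i) ≫ μ[G] = g := by
    rw [lift_map_assoc, hl, Category.assoc, hp]
    exact mul_inv_cancel_left _ _
  haveI : Surjective ((lift (a ≫ p) l).left ≫ ((j ⊗ₘ i) ≫ μ[G]).left) := by
    rw [← Over.comp_left, h]; infer_instance
  exact Surjective.of_comp (lift (a ≫ p) l).left _

include hker in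
theorem exists_section {A' : Over (Spec (CommRingCat.of k))} [GrpObj A'] (j : A' ⟶ G) [IsMonHom j]
    [IsClosedImmersion j.left] [Smooth A'.hom] [ConnectedSpace ↥A'.left] [IsProper A'.hom]
    (hs : Surjective ((j ⊗ₘ i) ≫ μ[G]).left) :
    ∃ d : ℕ, 0 < d ∧ ∃ s : A ⟶ G, IsMonHom s ∧ s ≫ π = (𝟙 A) ^ d := by
  haveI := AlbLib.geometricallyIntegral_grp A'
  haveI := AlbLib.geometricallyIntegral_grp A
  haveI : IsCommMonObj A' := CubeConsLib.isCommMonObj_field
  haveI : IsCommMonObj A := CubeConsLib.isCommMonObj_field
  let u : A' ⟶ A := j ≫ π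
  haveI : Surjective u.left := by
    haveI := hs
    have e : ((j ⊗ₘ i) ≫ μ[G]) ≫ π = fst A' L ≫ u := by
      rw [MonObj.mul_eq_mul, MonObj.comp_mul, tensorHom_fst, tensorHom_snd, MonObj.mul_comp, Category.assoc,
        Category.assoc, AntiAffLib.kernel_comp hker, MonObj.comp_one, _root_.mul_one]
    haveI : Surjective ((fst A' L).left ≫ u.left) := by
      rw [← Over.comp_left, ← e, Over.comp_left]; infer_instance
    exact Surjective.of_comp (fst A' L).left u.left
  haveI : IsFinite u.left := by
    obtain ⟨K, _, κ, hκ, hκc, hk, -⟩ := AntiAffLib.exists_kernel u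
    haveI := hκc
    haveI : IsProper K.hom := by rw [← Over.w κ]; infer_instance
    obtain ⟨m, hm⟩ := AntiAffLib.exists_lift_kernel hker (κ ≫ j) (by
      rw [Category.assoc]; exact AntiAffLib.kernel_comp hk)
    haveI : IsClosedImmersion m.left := by
      haveI : IsClosedImmersion (m.left ≫ i.left) := by
        rw [← Over.comp_left, hm, Over.comp_left]; infer_instance
      exact IsClosedImmersion.of_comp m.left i.left
    haveI : IsAffine K.left := isAffine_of_isAffineHom m.left
    haveI : IsAffineHom K.hom := isAffineHom_of_isAffine K.hom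
    haveI : IsFinite K.hom := IsFinite.iff_isProper_and_isAffineHom.2 ⟨inferInstance, inferInstance⟩
    haveI : Finite K.left := Set.finite_univ_iff.1 (Set.Finite.subset (K.hom.finite_preimage_singleton (IsLocalRing.closedPoint k))
      fun x _ => Subsingleton.elim (α := PrimeSpectrum k) _ _)
    refine AVIndexLib.isFinite_of_finite_kernel u ((Set.finite_range κ.left.base).subset fun x hx => ?_)
    obtain ⟨q, hq, -⟩ := Scheme.exists_preimage_of_isPullback (hk.map (Over.forget _)) x (IsLocalRing.closedPoint k) hx
    exact ⟨q, hq⟩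
  obtain ⟨n, ψ, hn, hψ, -, hψu⟩ := AVAmpleLib.exists_quasi_inverse u
  haveI := hψ
  refine ⟨n, hn, ψ ≫ j, inferInstance, ?_⟩
  rw [Category.assoc]
  exact hψu

end

attribute [-instance] CategoryTheory.Hom.commGroup in
set_option backward.isDefEq.respectTransparency false in
set_option linter.style.haveILetI false in
/-- Over an algebraically closed field k let G be a commutative group variety (smooth connected
commutative k-group scheme of finite type) written as an extension 0 → L → G → A → 0 of an abelian
variety by its largest connected affine subgroup: i : L → G a smooth connected affine closed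
subgroup scheme, kernel of a flat surjective homomorphism π : G → A onto an abelian variety A
(proper, smooth, connected). Then the following are equivalent: (a) for some d ≥ 1 there is a
homomorphism s : A → G with π ∘ s equal to multiplication by d on A (the class of the extension is
killed by d: its pullback along multiplication by d splits); (b) there is an abelian subvariety A'
of G (a smooth connected proper closed subgroup scheme) with A' · L = G, that is, the multiplication
A' × L → G is surjective. (The published statement phrases (a) as the class of G having finite order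
in the group of extension classes and (b) as G being isogenous to L × A; the published proof passes
through exactly the two conditions stated here.) -/
theorem result (k : Type u) [Field k] [IsAlgClosed k]
    (G L A : Over (Spec (CommRingCat.of k))) [GrpObj G] [GrpObj L] [GrpObj A] [IsCommMonObj G]
    [Smooth G.hom] [QuasiCompact G.hom] [ConnectedSpace ↥G.left]
    (i : L ⟶ G) [IsMonHom i] [IsClosedImmersion i.left] [IsAffine L.left] [Smooth L.hom] [ConnectedSpace ↥L.left]
    (π : G ⟶ A) [IsMonHom π] [Flat π.left] [Surjective π.left] (hker : AlgGrp.IsKernel i π)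
    [IsProper A.hom] [Smooth A.hom] [ConnectedSpace ↥A.left] :
    (∃ d : ℕ, 0 < d ∧ ∃ s : A ⟶ G, IsMonHom s ∧ s ≫ π = (𝟙 A) ^ d) ↔
      (∃ (A' : Over (Spec (CommRingCat.of k))) (_ : GrpObj A') (j : A' ⟶ G), IsMonHom j ∧ IsClosedImmersion j.left ∧
        Smooth A'.hom ∧ ConnectedSpace ↥A'.left ∧ IsProper A'.hom ∧ Surjective ((j ⊗ₘ i) ≫ μ[G]).left) := by
  constructor
  · rintro ⟨d, hd, s, hs, hsπ⟩
    haveI := hs
    exact exists_of_section i π hker d hd s hsπ
  · rintro ⟨A', _, j, hj, hjc, hsm, hc, hp, hsurj⟩
    haveI := hj; haveI := hjc; haveI := hsm; haveI := hc; haveI := hp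
    exact exists_section i π hker j hsurj

end Groth.Agent.S14763
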