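import Groth.Statements.S14764
import Groth.Agent.ChevThmLib.Chevalley
import Groth.Agent.NeutralSchLib.Small
import Groth.Agent.AVAmpleLib.ReducedSub
import Groth.Agent.AntiAffLib.OpenSub
-- import your own Groth.Agent.* helpers here

set_option autoImplicit false
set_option backward.isDefEq.respectTransparency false
set_option linter.style.haveILetI false
set_option maxHeartbeats 1600000
universe u
open CategoryTheory CategoryTheory.Limits MonoidalCategory CartesianMonoidalCategory MonObj GrpObj AlgebraicGeometry
open AlgGrp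

namespace Groth.Agent.S14764

/-- Over an algebraically closed field k let G be a group variety (smooth connected k-group scheme of
finite type), i : G_lin → G its largest smooth connected affine normal closed subgroup scheme, j : D
→ G its largest anti-affine closed subgroup scheme G_ant (global functions the constants; every such
subgroup factors through it), and i_D : D_lin → D the largest smooth connected affine normal closed
subgroup scheme of D. Then D_lin is contained in G_lin (i_D ∘ j factors through i) and has finite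
index in the scheme-theoretic intersection D ∩ G_lin, in the sense that D_lin and D ×_G G_lin have
the same dimension; equivalently D_lin is the reduced identity component of D ∩ G_lin. -/
theorem result (k : Type u) [Field k] [IsAlgClosed k]
    (G : Over (Spec (CommRingCat.of k))) [GrpObj G] [Smooth G.hom] [QuasiCompact G.hom] [ConnectedSpace ↥G.left]
    (N : Over (Spec (CommRingCat.of k))) [GrpObj N] (i : N ⟶ G) [IsMonHom i] [IsClosedImmersion i.left]
    [Smooth N.hom] [ConnectedSpace ↥N.left] [IsAffine N.left] (hN : AlgGrp.IsNormalHom i)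
    (hNmax : (∀ (N' : Over (Spec (CommRingCat.of k))) [GrpObj N'] (i' : N' ⟶ G) [IsMonHom i'] [IsClosedImmersion i'.left]
      [Smooth N'.hom] [ConnectedSpace ↥N'.left] [IsAffine N'.left], AlgGrp.IsNormalHom i' → ∃ f : N' ⟶ N, f ≫ i = i'))
    (D : Over (Spec (CommRingCat.of k))) [GrpObj D] (j : D ⟶ G) [IsMonHom j] [IsClosedImmersion j.left]
    (hD : Function.Bijective ((Scheme.ΓSpecIso (CommRingCat.of k)).inv ≫ D.hom.appTop).hom)
    (hDmax : ∀ (M' : Over (Spec (CommRingCat.of k))) [GrpObj M'] (j' : M' ⟶ G) [IsMonHom j'] [IsClosedImmersion j'.left],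
      Function.Bijective ((Scheme.ΓSpecIso (CommRingCat.of k)).inv ≫ M'.hom.appTop).hom → ∃ f : M' ⟶ D, f ≫ j = j')
    (ND : Over (Spec (CommRingCat.of k))) [GrpObj ND] (iD : ND ⟶ D) [IsMonHom iD] [IsClosedImmersion iD.left]
    [Smooth ND.hom] [ConnectedSpace ↥ND.left] [IsAffine ND.left] (hND : AlgGrp.IsNormalHom iD)
    (hNDmax : (∀ (N' : Over (Spec (CommRingCat.of k))) [GrpObj N'] (i' : N' ⟶ D) [IsMonHom i'] [IsClosedImmersion i'.left]
      [Smooth N'.hom] [ConnectedSpace ↥N'.left] [IsAffine N'.left], AlgGrp.IsNormalHom i' → ∃ f : N' ⟶ ND, f ≫ iD = i')) :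
    (∃ g : ND ⟶ N, g ≫ i = iD ≫ j) ∧
      topologicalKrullDim ↥ND.left = topologicalKrullDim ↥(pullback j.left i.left) := by
  haveI : LocallyOfFiniteType D.hom := by rw [← Over.w j]; infer_instance
  haveI : QuasiCompact D.hom := by rw [← Over.w j]; infer_instance
  haveI : AntiAffLib.IsΓIso (toUnit D) := (AntiAffLib.bijective_iff D).1 hD
  haveI : IsCommMonObj D := AntiAffLib.isCommMonObj_of_antiAff D
  haveI : IsSeparated G.hom := Groth.Agent.GrpField.isSeparated_grp (G := G)
  have hi : ChevThmLib.IsAffNormal i := ⟨inferInstance, inferInstance, inferInstance, inferInstance, inferInstance, hN⟩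
  have hmax : ∀ (N' : Over (Spec (CommRingCat.of k))) [GrpObj N'] (i' : N' ⟶ G), ChevThmLib.IsAffNormal i' →
      ∃ f : N' ⟶ N, f ≫ i = i' := fun N' _ i' h => by
    haveI := h.hom; haveI := h.closed; haveI := h.smooth; haveI := h.conn; haveI := h.affine
    exact hNmax N' i' h.normal
  obtain ⟨g, hg⟩ := ChevThmLib.le_gAff i hi hmax (iD ≫ j)
  refine ⟨⟨g, hg⟩, ?_⟩
  haveI : Mono iD := Over.mono_of_mono_left iD
  haveI : Mono i := Over.mono_of_mono_left i
  haveI : Mono j := Over.mono_of_mono_left j
  obtain ⟨Q, _, q, hqm, -, -, hker, hQp, -, -⟩ := ChevThmLib.exists_chevalley i hi hmax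
  haveI := hqm; haveI := hQp
  obtain ⟨K, _, iK, hKm, hKc, hK, -⟩ := AntiAffLib.exists_kernel (j ≫ q)
  haveI := hKm; haveI := hKc
  haveI : Mono iK := Over.mono_of_mono_left iK
  obtain ⟨gK, hgK⟩ := AntiAffLib.exists_lift_kernel hker (iK ≫ j) (by
    rw [Category.assoc, AntiAffLib.kernel_comp hK])
  have hrK : Set.range iK.left = j.left ⁻¹' Set.range i.left := by
    apply Set.Subset.antisymm
    · rintro _ ⟨x, rfl⟩
      exact ⟨gK.left x, by rw [← Scheme.Hom.comp_apply, ← Over.comp_left, hgK, Over.comp_left, Scheme.Hom.comp_apply]⟩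
    · rw [← Scheme.Pullback.range_fst]
      let P : Over (Spec (CommRingCat.of k)) := Over.mk (pullback.fst j.left i.left ≫ D.hom)
      let p₁ : P ⟶ D := Over.homMk (pullback.fst j.left i.left) rfl
      let p₂ : P ⟶ N := Over.homMk (pullback.snd j.left i.left) (by
        show pullback.snd j.left i.left ≫ N.hom = pullback.fst j.left i.left ≫ D.hom
        rw [← Over.w i, ← Over.w j, pullback.condition_assoc])
      have hp : p₁ ≫ j = p₂ ≫ i := Over.OverMorphism.ext pullback.condition
      obtain ⟨u, hu⟩ := AntiAffLib.exists_lift_kernel hK p₁ (by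
        rw [← Category.assoc, hp, Category.assoc, AntiAffLib.kernel_comp hker, MonObj.comp_one])
      rintro _ ⟨x, rfl⟩
      exact ⟨u.left x, congr($(congrArg CommaMorphism.left hu) x)⟩
  have hdim : topologicalKrullDim K.left = topologicalKrullDim ↥(pullback j.left i.left) := by
    rw [IsHomeomorph.topologicalKrullDim_eq _ iK.left.isClosedEmbedding.isEmbedding.toHomeomorph.isHomeomorph,
      IsHomeomorph.topologicalKrullDim_eq _ (pullback.fst j.left i.left).isClosedEmbedding.isEmbedding.toHomeomorph.isHomeomorph,
      hrK, Scheme.Pullback.range_fst]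
  rw [← hdim]
  haveI : LocallyOfFiniteType K.hom := by rw [← Over.w iK]; infer_instance
  haveI : QuasiCompact K.hom := by rw [← Over.w iK]; infer_instance
  obtain ⟨K₀, _, e₀, hem, hec, hef, her, hgi, hcpt⟩ := Groth.Agent.GrpField.exists_identity_component (G := K)
  haveI := hem; haveI := hec; haveI := hef; haveI := hgi
  haveI : LocallyOfFiniteType K₀.hom := by rw [← Over.w e₀]; infer_instance
  haveI : QuasiCompact K₀.hom := by rw [← Over.w e₀]; infer_instance
  haveI : Subsingleton ↥(Spec (CommRingCat.of k)) := inferInstanceAs (Subsingleton (PrimeSpectrum k))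
  haveI : IrreducibleSpace K₀.left := GeometricallyIrreducible.irreducibleSpace_of_subsingleton K₀.hom
  haveI : IsAffine K.left := by
    haveI : IsClosedImmersion (gK.left ≫ i.left) := by rw [← Over.comp_left, hgK, Over.comp_left]; infer_instance
    haveI : IsClosedImmersion gK.left := IsClosedImmersion.of_comp gK.left i.left
    exact isAffine_of_isAffineHom gK.left
  haveI : IsAffine K₀.left := isAffine_of_isAffineHom e₀.left
  obtain ⟨R, _, iR, hRm, hRc, hRr, hRl, hRrange⟩ := AVAmpleLib.exists_reduced_subgroup (A := K₀) Set.univ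
    (Set.mem_univ _) (fun _ _ _ _ => Set.mem_univ _) (fun _ _ => Set.mem_univ _)
  haveI := hRm; haveI := hRc; haveI := hRr; haveI := hRl
  have hRu : Set.range iR.left = Set.univ := Set.eq_univ_of_forall fun z => by
    rw [hRrange]
    exact ChevThmLib.forall_mem_of_points (W := closure (AVAmpleLib.pt '' Set.univ)) isClosed_closure
      (fun x => subset_closure ⟨x, Set.mem_univ _, rfl⟩) z
  haveI : ConnectedSpace R.left :=
    let h : R.left ≃ₜ K₀.left :=
      (isHomeomorph_iff_isEmbedding_surjective.2 ⟨iR.left.isClosedEmbedding.isEmbedding, Set.range_eq_univ.1 hRu⟩).homeomorph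
    h.symm.surjective.connectedSpace h.symm.continuous
  haveI : IsAffine R.left := isAffine_of_isAffineHom iR.left
  haveI : GeometricallyReduced R.hom := AVAmpleLib.gr_of_isReduced R.hom
  haveI : Smooth R.hom := AlbLib.smooth_grp R
  haveI : IsClosedImmersion (iR ≫ e₀ ≫ iK).left := by rw [Over.comp_left, Over.comp_left]; infer_instance
  obtain ⟨r, hr⟩ := hNDmax R (iR ≫ e₀ ≫ iK) (fun T g n => ⟨n, by rw [mul_comm g, mul_inv_cancel_right]⟩)
  obtain ⟨nK, hnK⟩ := AntiAffLib.exists_lift_kernel hK iD (by
    rw [← Category.assoc, ← hg, Category.assoc, AntiAffLib.kernel_comp hker, MonObj.comp_one])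
  haveI : IsMonHom (nK ≫ iK) := by rw [hnK]; infer_instance
  haveI : IsMonHom nK := Groth.Agent.DiagRep.isMonHom_of_comp_mono nK iK
  haveI : IsClosedImmersion (nK.left ≫ iK.left) := by rw [← Over.comp_left, hnK]; infer_instance
  haveI : IsClosedImmersion nK.left := IsClosedImmersion.of_comp nK.left iK.left
  have hrange : Set.range nK.left = Set.range e₀.left := by
    apply Set.Subset.antisymm
    · rw [her, ← Groth.Agent.GrpField.connectedComponent_unit]
      exact (isPreconnected_range nK.left.continuous).subset_connectedComponent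
        ⟨Groth.Agent.GrpField.unitPt ND, congr($(IsMonHom.one_hom nK).left (IsLocalRing.closedPoint k))⟩
    · rintro _ ⟨x, rfl⟩
      obtain ⟨y, rfl⟩ : x ∈ Set.range iR.left := hRu ▸ Set.mem_univ x
      refine ⟨r.left y, ?_⟩
      have h : r ≫ nK = iR ≫ e₀ := by rw [← cancel_mono iK, Category.assoc, hnK, hr, Category.assoc]
      exact congr($(congrArg CommaMorphism.left h) y)
  have hcomp : Set.range e₀.left ∈ irreducibleComponents K.left := by
    haveI : IsOpenImmersion e₀.left := by
      haveI := AntiAffLib.lfp_of_lft e₀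
      exact IsOpenImmersion.of_flat_of_mono e₀.left
    have hirr : IsIrreducible (Set.range e₀.left) := by
      rw [← Set.image_univ]
      exact (IrreducibleSpace.isIrreducible_univ _).image _ e₀.left.continuous.continuousOn
    refine ⟨hirr, fun S hS hsub => ?_⟩
    exact hS.2.isPreconnected.subset_isClopen
      ⟨e₀.left.isClosedEmbedding.isClosed_range, e₀.left.isOpenEmbedding.isOpen_range⟩
      (by obtain ⟨x, hx⟩ := hirr.nonempty; exact ⟨x, hsub hx, hx⟩)
  rw [← Groth.Agent.NeutralSch.dim_component_eq hcomp, ← hrange]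
  exact IsHomeomorph.topologicalKrullDim_eq _ nK.left.isClosedEmbedding.isEmbedding.toHomeomorph.isHomeomorph
end Groth.Agent.S14764
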