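import Groth.Statements.S14766

import Groth.Agent.VCovLib.SubtrNoeth
-- import your own Groth.Agent.* helpers here

set_option autoImplicit false
universe u
open CategoryTheory CategoryTheory.Limits AlgebraicGeometry
open Subtr

namespace Groth.Agent.S14766

/-- Let V be a discrete valuation ring and f : X ⟶ Spec V any morphism of schemes. Then the underlying
continuous map of f is a quotient map (f is submersive) if and only if every ordered pair of points
of Spec V lifts to an ordered pair of points of X. -/
theorem result (V : Type u) [CommRing V] [IsDomain V]
    [IsDiscreteValuationRing V] {X : Scheme.{u}} (f : X ⟶ Spec (CommRingCat.of V)) :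
    Topology.IsQuotientMap f ↔ Subtr.IsSSubtrusive f := by
  haveI : IsDiscreteValuationRing (CommRingCat.of V) := inferInstanceAs (IsDiscreteValuationRing V)
  exact VCovLib.isQuotientMap_iff_isSSubtrusive_dvr (V := CommRingCat.of V) f

end Groth.Agent.S14766
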