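import Groth.Statements.S14779
import Groth.Agent.RzLib.SubtrRefine

set_option autoImplicit false
universe u
open CategoryTheory CategoryTheory.Limits AlgebraicGeometry
open Subtr

namespace Groth.Agent.S14779

/-- Let Y be a scheme that is affine or Noetherian and f : X ⟶ Y a morphism of finite presentation every
base change of which has the lifting property for ordered pairs of points. Then there are schemes
X', Y', a morphism h : X' ⟶ X, a flat surjective morphism p : X' ⟶ Y' of finite presentation and a
proper surjective morphism q : Y' ⟶ Y of finite presentation with h ≫ f = p ≫ q (so p ≫ q is a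
covering refining f). -/
theorem result {X Y : Scheme.{u}} (f : X ⟶ Y)
    (hY : IsAffine Y ∨ IsNoetherian Y) [LocallyOfFinitePresentation f] [QuasiCompact f] [QuasiSeparated f]
    (hf : Subtr.UnivSSubtrusive f) :
    ∃ (X' Y' : Scheme.{u}) (h : X' ⟶ X) (p : X' ⟶ Y') (q : Y' ⟶ Y), h ≫ f = p ≫ q ∧
      Flat p ∧ Surjective p ∧ LocallyOfFinitePresentation p ∧ QuasiCompact p ∧ QuasiSeparated p ∧
      IsProper q ∧ Surjective q ∧ LocallyOfFinitePresentation q := by
  classical
  haveI : CompactSpace Y := by
    rcases hY with hh | hh <;> infer_instance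
  haveI : QuasiSeparatedSpace Y := by
    rcases hY with hh | hh <;> infer_instance
  obtain ⟨X', Y', h, p, q, hX', hpq, hps, hpc, hloc, hq, hqs, hqf⟩ := RzLib.exists_refinement_openCover_proper f hf
  haveI := hpc
  let W : X' → X'.Opens := fun x => (hloc x).choose
  have hW : ∀ x, IsOpenImmersion ((W x).ι ≫ p) := fun x => (hloc x).choose_spec.2
  have htop : TopologicalSpace.IsOpenCover W :=
    .mk (eq_top_iff.mpr fun x _ => TopologicalSpace.Opens.mem_iSup.mpr ⟨x, (hloc x).choose_spec.1⟩)
  haveI : QuasiSeparated p := .of_quasiSeparatedSpace p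
  have hflat : Flat p := (IsZariskiLocalAtSource.iff_of_openCover (P := @Flat) (X'.openCoverOfIsOpenCover W htop)).mpr
    fun x => by
      haveI := hW x
      exact inferInstanceAs (Flat ((W x).ι ≫ p))
  have hlfp : LocallyOfFinitePresentation p := (IsZariskiLocalAtSource.iff_of_openCover
    (P := @LocallyOfFinitePresentation) (X'.openCoverOfIsOpenCover W htop)).mpr fun x => by
      haveI := hW x
      exact inferInstanceAs (LocallyOfFinitePresentation ((W x).ι ≫ p))
  exact ⟨X', Y', h, p, q, hpq, hflat, hps, hlfp, hpc, inferInstance, hq, hqs, hqf⟩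

end Groth.Agent.S14779
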