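import Groth.Statements.S14780
import Groth.Agent.FlatModifLib.Noetherian
import Groth.Agent.RzLib.UnivOpenDesc
import Groth.Agent.ConsLib.General

set_option autoImplicit false
universe u
open CategoryTheory CategoryTheory.Limits AlgebraicGeometry
open Subtr

namespace Groth.Agent.S14780

/-- Let Y be a scheme that is affine or Noetherian and f : X ⟶ Y a universally open surjective morphism
of finite presentation. Then there are a scheme Y', a proper surjective morphism q : Y' ⟶ Y of
finite presentation, a scheme X' and a surjective closed immersion r : X' ⟶ X ×_Y Y' (a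
nil-immersion) such that the composite X' ⟶ X ×_Y Y' ⟶ Y' is flat, surjective and of finite
presentation. -/
theorem result {X Y : Scheme.{u}}
    (f : X ⟶ Y) (hY : IsAffine Y ∨ IsNoetherian Y) [LocallyOfFinitePresentation f] [QuasiCompact f] [QuasiSeparated f]
    [UniversallyOpen f] [Surjective f] :
    ∃ (Y' : Scheme.{u}) (q : Y' ⟶ Y) (X' : Scheme.{u}) (r : X' ⟶ pullback f q),
      IsProper q ∧ Surjective q ∧ LocallyOfFinitePresentation q ∧
      IsClosedImmersion r ∧ Surjective r ∧
      Flat (r ≫ pullback.snd f q) ∧ Surjective (r ≫ pullback.snd f q) ∧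
      LocallyOfFinitePresentation (r ≫ pullback.snd f q) ∧ QuasiCompact (r ≫ pullback.snd f q) ∧
      QuasiSeparated (r ≫ pullback.snd f q) := by
  obtain ⟨Y', q, X', r, h1, h2, h3, h4, h5, h6, h7⟩ :
      ∃ (Y' : Scheme.{u}) (q : Y' ⟶ Y) (X' : Scheme.{u}) (r : X' ⟶ pullback f q), IsProper q ∧ Surjective q ∧
        LocallyOfFinitePresentation q ∧ IsClosedImmersion r ∧ Surjective r ∧ Flat (r ≫ pullback.snd f q) ∧
        LocallyOfFinitePresentation (r ≫ pullback.snd f q) := by
    rcases hY with hY | hY
    · let A := ConsLib.zSys (Γ(Y, ⊤) : Type u)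
      haveI : ∀ i j (a : i ⟶ j), IsAffineHom (A.D.map a) := fun _ _ a => A.affine_map a
      haveI : ∀ i, IsNoetherian (A.D.obj i) := fun i => ConsLib.zSys_obj _ i
      let e : Y ≅ A.c.pt := Y.isoSpec ≪≫ (ConsLib.zSysIso _).symm
      obtain ⟨i, ⟨N⟩⟩ := DescFP.exists_model A.hc (f ≫ e.hom)
      haveI := N.lfp
      haveI := N.qc
      let B := RichLib.LimBC.ofStage A.D A.c A.hc i
      have h1 : RichLib.LimBC.AtLim B N.p @UniversallyOpen := by
        show UniversallyOpen (pullback.snd N.p (A.c.π.app i))
        rw [← N.sq.isoPullback_inv_snd]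
        infer_instance
      obtain ⟨φ, hφ⟩ := RzLib.UnivOpen.exists_at B N.p h1
      have hsq : IsPullback N.g f N.p (e.hom ≫ A.c.π.app i) :=
        N.sq.of_iso (Iso.refl _) (Iso.refl _) e.symm (Iso.refl _) (by simp) (by simp) (by simp) (by simp)
      haveI : UniversallyOpen (pullback.snd N.p (A.D.map φ.hom)) := hφ
      refine FlatModifLib.nilImmersion_baseChange (m := e.hom ≫ A.c.π.app φ.left)
        (mX := pullback.lift N.g (f ≫ e.hom ≫ A.c.π.app φ.left) (by
          rw [hsq.w, Category.assoc, Category.assoc, A.c.w φ.hom])) ?_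
        (FlatModifLib.exists_flat_nilImmersion (pullback.snd N.p (A.D.map φ.hom)))
      refine IsPullback.of_right ?_ (pullback.lift_snd _ _ _) (IsPullback.of_hasPullback _ _)
      rw [pullback.lift_fst, Category.assoc, A.c.w φ.hom]
      exact hsq
    · exact FlatModifLib.exists_flat_nilImmersion f
  haveI := h4
  haveI := h5
  haveI : QuasiCompact (r ≫ pullback.snd f q) := inferInstance
  exact ⟨Y', q, X', r, h1, h2, h3, h4, h5, h6, inferInstance, h7, inferInstance, inferInstance⟩

end Groth.Agent.S14780
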