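import Groth.Statements.S14785
import Groth.Agent.RzLib.SubtrDesc

set_option autoImplicit false
universe u
open CategoryTheory CategoryTheory.Limits AlgebraicGeometry
open Subtr

namespace Groth.Agent.S14785

/-- Let S = lim S_i be a cofiltered limit of schemes with affine transition morphisms, Y₀ a
quasi-compact scheme over a stage S_{i₀}, f₀ : X₀ ⟶ Y₀ a morphism of finite presentation and f : X ⟶
Y its base change to S (base changes expressed by pullback squares). If every base change of f has
the lifting property for ordered pairs of points, then for some stage S_i over S_{i₀} the base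
change f_i : X_i ⟶ Y_i of f₀ already has this property. (The published statement assumes the stage
over which the system lives quasi-compact and puts no condition on Y₀. For the system ℤ[1/N] with
limit ℚ, Y₀ an infinite disjoint union of copies of Spec ℤ and X₀ the disjoint union over the primes
p of Spec ℤ[1/p] ⊔ Spec 𝔽_p mapping to the copy indexed by p, the limit morphism is an isomorphism
while no stage has the property; so Y₀ is taken quasi-compact here, which is what the reduction to
an affine base uses.) -/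
theorem result {I : Type u} [SmallCategory I] [IsCofiltered I]
    (D : I ⥤ Scheme.{u}) (c : Limits.Cone D) (hc : Limits.IsLimit c)
    [∀ (i j : I) (a : i ⟶ j), IsAffineHom (D.map a)] (i₀ : I)
    {X₀ Y₀ : Scheme.{u}} (f₀ : X₀ ⟶ Y₀) (g₀ : Y₀ ⟶ D.obj i₀) [CompactSpace Y₀]
    [LocallyOfFinitePresentation f₀] [QuasiCompact f₀] [QuasiSeparated f₀]
    {X Y : Scheme.{u}} (f : X ⟶ Y) (g : Y ⟶ c.pt) (qY : Y ⟶ Y₀) (qX : X ⟶ X₀)
    (hY : IsPullback qY g g₀ (c.π.app i₀)) (hX : IsPullback qX f f₀ qY)
    (hf : Subtr.UnivSSubtrusive f) :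
    ∃ (i : I) (φ : i ⟶ i₀) (Xi Yi : Scheme.{u}) (fi : Xi ⟶ Yi) (gi : Yi ⟶ D.obj i) (pY : Yi ⟶ Y₀)
      (pX : Xi ⟶ X₀), IsPullback pY gi g₀ (D.map φ) ∧ IsPullback pX fi f₀ pY ∧ Subtr.UnivSSubtrusive fi := by
  obtain ⟨i, φ, h⟩ := RzLib.exists_stage_univSSubtrusive D c hc i₀ f₀ g₀ fun V _ _ s => by
    obtain ⟨W, h₁, h₂, ψ, hψ, _j, l, hl⟩ :=
      RzLib.liftVal_of_univSSubtrusive f hf V (s ≫ hY.isoPullback.inv)
    let l' : Spec W ⟶ X := l
    have hl' : l' ≫ f = Spec.map ψ ≫ s ≫ hY.isoPullback.inv := hl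
    refine ⟨W, h₁, h₂, ψ, hψ, PUnit.unit, l' ≫ qX, ?_⟩
    change (l' ≫ qX) ≫ f₀ = _
    rw [Category.assoc, hX.w, ← Category.assoc, hl', Category.assoc, Category.assoc, hY.isoPullback_inv_fst]
  exact ⟨i, φ, _, _, _, pullback.snd g₀ (D.map φ), pullback.fst g₀ (D.map φ), pullback.fst f₀ _,
    IsPullback.of_hasPullback _ _, IsPullback.of_hasPullback _ _, h⟩

end Groth.Agent.S14785
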