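import Groth.Statements.S1479
import Groth.Agent.Unram17Lib.EtaleChartPullback
-- import your own Groth.Agent.* helpers here

set_option autoImplicit false
universe u
open FlatMor

namespace Groth.Agent.S1479

open AlgebraicGeometry CategoryTheory Limits in
/-- Let X and Y be smooth over S and i : Y → X a closed immersion over S. For every point y of Y there
are an open U of X containing i y, natural numbers m, n, and an étale S-morphism π from U to affine
(m+n)-space over S such that the closed subscheme Y ∩ U of U is the pullback along π of the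
coordinate subspace given by the vanishing of the last n coordinates. -/
theorem result {S X Y : Scheme.{u}} (pX : X ⟶ S) (pY : Y ⟶ S) [Smooth pX] [Smooth pY]
    (i : Y ⟶ X) [IsClosedImmersion i] (w : i ≫ pX = pY) (y : Y) :
    ∃ (U : X.Opens) (m n : ℕ) (π : (U : Scheme.{u}) ⟶ 𝔸(ULift.{u} (Fin m ⊕ Fin n); S)) (ρ : (↑(i ⁻¹ᵁ U) : Scheme.{u}) ⟶ 𝔸(ULift.{u} (Fin m); S)),
      i y ∈ U ∧ Etale π ∧ π ≫ (𝔸(ULift.{u} (Fin m ⊕ Fin n); S) ↘ S) = U.ι ≫ pX ∧
      IsPullback ρ (i ∣_ U)
        (AffineSpace.homOfVector (𝔸(ULift.{u} (Fin m); S) ↘ S)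
          (fun j : ULift.{u} (Fin m ⊕ Fin n) => Sum.elim (fun a => AffineSpace.coord S (ULift.up a)) (fun _ => 0) j.down))
        π := by
  obtain ⟨_, ⟨W, hW, rfl⟩, hxW, -⟩ :=
    S.isBasis_affineOpens.exists_subset_of_mem_open (Set.mem_univ (pX (i y))) isOpen_univ
  obtain ⟨_, ⟨U, hU, rfl⟩, hxU, hUW⟩ :=
    X.isBasis_affineOpens.exists_subset_of_mem_open hxW (W.2.preimage pX.continuous)
  haveI : LocallyOfFinitePresentation (i ≫ pX) := by rw [w]; infer_instance
  haveI : Smooth (i ≫ pX) := by rw [w]; infer_instance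
  obtain ⟨V, hV, hyV, hVU, n, m, v, het, hz, hker, hiV, hsurj⟩ := Unram17Lib.exists_chart pX i W hW U hU hUW
    (hU.preimage i) (i.app_surjective U hU) y hxU (by rw [pX.smoothLocus_eq_top]; trivial)
    (by rw [(i ≫ pX).smoothLocus_eq_top]; trivial)
  refine ⟨V, m, n, AffineSpace.homOfVector (V.ι ≫ pX) (fun j : ULift.{u} (Fin m ⊕ Fin n) => V.topIso.inv (v j.down)),
    _, hyV, ?_, AffineSpace.homOfVector_over _ _,
    Unram17Lib.isPullback_zero_coordinates pX pY i w hV hiV hsurj m n v hz hker⟩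
  refine Unram17Lib.etale_homOfVector_base pX hW hV (hVU.trans hUW) (fun j : ULift.{u} (Fin m ⊕ Fin n) => v j.down) ?_
  have := RingHom.Etale.respectsIso.2 _
    (MvPolynomial.renameEquiv Γ(S, W) (Equiv.ulift.{u} (α := Fin m ⊕ Fin n))).toRingEquiv het
  convert this using 1
  apply MvPolynomial.ringHom_ext <;> simp

end Groth.Agent.S1479
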