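import Groth.Statements.S14794
import Groth.Agent.SubmDescLib.Etale

set_option autoImplicit false
universe u
open CategoryTheory CategoryTheory.Limits AlgebraicGeometry
open Subtr

set_option backward.isDefEq.respectTransparency false
set_option backward.isDefEq.respectTransparency.types false
namespace Groth.Agent.S14794

open TopologicalSpace Topology

/-- A morphism out of the spectrum of a field through a point. -/
theorem exists_point {Z : Scheme.{u}} (z : Z) : ∃ (W : Scheme.{u}) (_ : IsReduced W) (w : W ⟶ Z), z ∈ Set.range w := by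
  refine ⟨Spec (Z.residueField z), inferInstance, Z.fromSpecResidueField z, ?_⟩
  rw [Scheme.range_fromSpecResidueField]
  rfl

/-- Let X ⟶ S be a quasi-separated morphism of schemes, T ⟶ S an S-scheme, p : T' ⟶ T a quasi-compact,
quasi-separated and universally submersive morphism, and f' : T' ⟶ X an S-morphism whose composites
with the two projections T' ×_T T' ⟶ T' agree on every reduced scheme mapping to T' ×_T T' (that is,
they agree on the reduction of T' ×_T T'). Then there are a scheme T₁ and a factorization p = q ≫ u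
with q : T' ⟶ T₁ schematically dominant (injective on sections) and u : T₁ ⟶ T a separated universal
homeomorphism, together with an S-morphism f₁ : T₁ ⟶ X with q ≫ f₁ = f'. In particular f' descends
to T as soon as every such factorization of p has u an isomorphism (p weakly normal). (This is the
factorization produced by the proof of the descent of morphisms along weakly normal morphisms. The
published remark is for algebraic spaces X with X ⟶ S locally separated and also asserts that the
factorization can be chosen minimal; this row is the case of schemes, which are locally separated,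
without the minimality.) -/
theorem result {S X T T' : Scheme.{u}}
    (πX : X ⟶ S) [QuasiSeparated πX] (t : T ⟶ S) (p : T' ⟶ T) [QuasiCompact p] [QuasiSeparated p]
    (hp : SGA1.UnivSubmersive p) (f' : T' ⟶ X) (hf' : f' ≫ πX = p ≫ t)
    (heq : ∀ (W : Scheme.{u}) [IsReduced W] (w : W ⟶ pullback p p),
      w ≫ pullback.fst p p ≫ f' = w ≫ pullback.snd p p ≫ f') :
    ∃ (T₁ : Scheme.{u}) (q : T' ⟶ T₁) (u : T₁ ⟶ T) (f₁ : T₁ ⟶ X), q ≫ u = p ∧
      (∀ U : T₁.Opens, Function.Injective (q.app U).hom) ∧ FlatMor.IsUnivHomeo u ∧ IsSeparated u ∧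
      q ≫ f₁ = f' ∧ f₁ ≫ πX = u ≫ t := by
  classical
  let P := pullback t πX
  let q' : T' ⟶ P := pullback.lift p f' hf'.symm
  have hq'1 : q' ≫ pullback.fst t πX = p := pullback.lift_fst _ _ _
  have hq'2 : q' ≫ pullback.snd t πX = f' := pullback.lift_snd _ _ _
  haveI : QuasiSeparated (pullback.fst t πX) := MorphismProperty.pullback_fst (P := @QuasiSeparated) t πX inferInstance
  haveI : QuasiCompact (q' ≫ pullback.fst t πX) := by rw [hq'1]; infer_instance
  haveI : QuasiCompact q' := QuasiCompact.of_comp q' (pullback.fst t πX)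
  haveI : Surjective p := SubmDescLib.surjective_of_univSubmersive hp
  -- morphisms agreeing over `T` agree after composing with `q'`
  have hagree : ∀ {W : Scheme.{u}} [IsReduced W] (a b : W ⟶ T'), a ≫ p = b ≫ p → a ≫ q' = b ≫ q' := by
    intro W _ a b e
    apply pullback.hom_ext
    · simp only [Category.assoc, hq'1]; exact e
    · simp only [Category.assoc, hq'2]
      have := heq W (pullback.lift a b e)
      simpa only [pullback.lift_fst_assoc, pullback.lift_snd_assoc] using this
  have hpts : ∀ a b : T', p a = p b → q' a = q' b := by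
    intro a b e
    obtain ⟨z, hza, hzb⟩ := Scheme.Pullback.exists_preimage_pullback (f := p) (g := p) a b e
    obtain ⟨W, hW, w, ⟨s, hs⟩⟩ := exists_point z
    have := hagree (w ≫ pullback.fst p p) (w ≫ pullback.snd p p) (by simp only [Category.assoc, pullback.condition])
    have := congrArg (fun k : W ⟶ P => k s) this
    simpa only [Scheme.Hom.comp_apply, hs, hza, hzb] using this
  have hf'pts : ∀ a b : T', p a = p b → f' a = f' b := fun a b e => by
    rw [← hq'2, Scheme.Hom.comp_apply, Scheme.Hom.comp_apply, hpts a b e]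
  -- the open set in which the range of `q'` is closed
  let TU : X.affineOpens → Set T := fun U => p '' (f' ⁻¹' (U.1 : Set X))
  have hTUpre : ∀ U, p ⁻¹' TU U = f' ⁻¹' (U.1 : Set X) := fun U => by
    refine subset_antisymm (fun a ⟨b, hb, e⟩ => ?_) (Set.subset_preimage_image _ _)
    show f' a ∈ U.1
    rw [← hf'pts b a e]; exact hb
  have hTUo : ∀ U, IsOpen (TU U) := fun U => by
    rw [← (FFDescLib.isQuotientMap_of_univSubmersive hp).isOpen_preimage, hTUpre]
    exact U.1.2.preimage f'.continuous
  let TUo : X.affineOpens → T.Opens := fun U => ⟨TU U, hTUo U⟩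
  let WU : X.affineOpens → P.Opens := fun U => pullback.fst t πX ⁻¹ᵁ TUo U ⊓ pullback.snd t πX ⁻¹ᵁ U.1
  let W : P.Opens := ⨆ U, WU U
  have hin : ∀ (U : X.affineOpens) (a : T'), p a ∈ TU U → q' a ∈ WU U := fun U a ha => by
    refine ⟨?_, ?_⟩
    · show pullback.fst t πX (q' a) ∈ TU U
      rw [← Scheme.Hom.comp_apply, hq'1]; exact ha
    · show pullback.snd t πX (q' a) ∈ U.1
      rw [← Scheme.Hom.comp_apply, hq'2]; exact (hTUpre U).le ha
  have hcov : ∀ y : T, ∃ U : X.affineOpens, y ∈ TU U := fun y => by
    obtain ⟨a, rfl⟩ := p.surjective y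
    obtain ⟨U, hU, ha, -⟩ := exists_isAffineOpen_mem_and_subset (X := X) (x := f' a) (U := ⊤) trivial
    exact ⟨⟨U, hU⟩, a, ha, rfl⟩
  have hsepU : ∀ U, IsSeparated ((WU U).ι ≫ pullback.fst t πX) := fun U => by
    haveI : IsAffine U.1.toScheme := U.2
    have hr : Set.range ((WU U).ι ≫ pullback.snd t πX) ⊆ Set.range U.1.ι := by
      rw [Scheme.Opens.range_ι]
      rintro _ ⟨x, rfl⟩
      rw [Scheme.Hom.comp_apply]
      exact x.2.2
    let e : (WU U).toScheme ⟶ pullback t (U.1.ι ≫ πX) := pullback.lift ((WU U).ι ≫ pullback.fst t πX)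
      (IsOpenImmersion.lift U.1.ι _ hr)
      (by rw [Category.assoc, pullback.condition, IsOpenImmersion.lift_fac_assoc, Category.assoc])
    haveI : Mono e := by
      refine ⟨fun a b h => ?_⟩
      rw [← cancel_mono (WU U).ι]
      apply pullback.hom_ext
      · have := congrArg (· ≫ pullback.fst t (U.1.ι ≫ πX)) h
        simpa [e] using this
      · have := congrArg (· ≫ pullback.snd t (U.1.ι ≫ πX) ≫ U.1.ι) h
        simpa [e] using this
    haveI : IsSeparated (U.1.ι ≫ πX) := inferInstance
    haveI : IsSeparated (pullback.fst t (U.1.ι ≫ πX)) := MorphismProperty.pullback_fst (P := @IsSeparated) t (U.1.ι ≫ πX) inferInstance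
    have he : e ≫ pullback.fst t (U.1.ι ≫ πX) = (WU U).ι ≫ pullback.fst t πX := pullback.lift_fst _ _ _
    rw [← he]
    infer_instance
  have hclU : ∀ U, IsClosed ((WU U).ι ⁻¹' Set.range q') := fun U => by
    let v := (WU U).ι ≫ pullback.fst t πX
    haveI : IsSeparated v := hsepU U
    let M := pullback p v
    let b : M ⟶ (WU U).toScheme := pullback.snd p v
    have hr : Set.range (pullback.fst p v ≫ q') ⊆ Set.range (WU U).ι := by
      rw [Scheme.Opens.range_ι]
      rintro _ ⟨z, rfl⟩
      rw [Scheme.Hom.comp_apply]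
      refine hin U _ ?_
      rw [← Scheme.Hom.comp_apply, pullback.condition, Scheme.Hom.comp_apply, Scheme.Hom.comp_apply]
      exact (b z).2.1
    let a : M ⟶ (WU U).toScheme := IsOpenImmersion.lift (WU U).ι _ hr
    have ha : a ≫ (WU U).ι = pullback.fst p v ≫ q' := IsOpenImmersion.lift_fac _ _ _
    have hab : a ≫ v = b ≫ v := by
      simp only [v, reassoc_of% ha, hq'1]
      exact pullback.condition
    haveI : IsClosedImmersion (pullback.snd (pullback.diagonal v) (pullback.lift a b hab)) :=
      MorphismProperty.pullback_snd (P := @IsClosedImmersion) _ _ inferInstance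
    let ε := pullback.snd (pullback.diagonal v) (pullback.lift a b hab)
    have hpre : b ⁻¹' ((WU U).ι ⁻¹' Set.range q') = Set.range ε := by
      refine subset_antisymm ?_ ?_
      · rintro z ⟨c, hc⟩
        obtain ⟨ω, hω₁, hω₂⟩ := Scheme.Pullback.exists_preimage_pullback (f := b ≫ (WU U).ι) (g := q') z c
          (by rw [Scheme.Hom.comp_apply]; exact hc.symm)
        obtain ⟨K, hK, w, ⟨s, hs⟩⟩ := exists_point ω
        let z' : K ⟶ M := w ≫ pullback.fst (b ≫ (WU U).ι) q'
        let c' : K ⟶ T' := w ≫ pullback.snd (b ≫ (WU U).ι) q'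
        have hzc : z' ≫ b ≫ (WU U).ι = c' ≫ q' := by
          simp only [z', c', Category.assoc, pullback.condition]
        have hpc : (z' ≫ pullback.fst p v) ≫ p = c' ≫ p := by
          have := congrArg (· ≫ pullback.fst t πX) hzc
          simp only [Category.assoc, hq'1] at this
          rw [Category.assoc, pullback.condition]
          exact this
        have hag := hagree _ _ hpc
        have e₁ : z' ≫ a = z' ≫ b := by
          rw [← cancel_mono (WU U).ι]
          simp only [Category.assoc] at hag hzc ⊢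
          rw [ha, hag, hzc]
        let l : K ⟶ pullback (pullback.diagonal v) (pullback.lift a b hab) := pullback.lift (z' ≫ a) z' (by
          apply pullback.hom_ext
          · simp
          · simp [e₁])
        refine ⟨l s, ?_⟩
        rw [← Scheme.Hom.comp_apply, pullback.lift_snd, Scheme.Hom.comp_apply, hs, hω₁]
      · rintro _ ⟨e, rfl⟩
        refine ⟨pullback.fst p v (ε e), ?_⟩
        have hc := pullback.condition (f := pullback.diagonal v) (g := pullback.lift a b hab)
        have c₁ := congrArg (· ≫ pullback.fst v v) hc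
        have c₂ := congrArg (· ≫ pullback.snd v v) hc
        simp only [Category.assoc, pullback.diagonal_fst, pullback.diagonal_snd, pullback.lift_fst,
          pullback.lift_snd, Category.comp_id] at c₁ c₂
        have h3 : ε ≫ pullback.fst p v ≫ q' = ε ≫ b ≫ (WU U).ι := by
          rw [← ha, ← Category.assoc, ← c₁, c₂, Category.assoc]
        have := congrArg (fun k : _ ⟶ P => k e) h3
        simpa only [Scheme.Hom.comp_apply] using this
    rw [← (FFDescLib.isQuotientMap_of_univSubmersive (MorphismProperty.pullback_snd p v hp)).isClosed_preimage]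
    rw [show pullback.snd p v ⁻¹' ((WU U).ι ⁻¹' Set.range q') = Set.range ε from hpre]
    exact ε.isClosedEmbedding.isClosed_range
  have hqW : Set.range q' ⊆ Set.range W.ι := by
    rw [Scheme.Opens.range_ι]
    rintro _ ⟨a, rfl⟩
    obtain ⟨U, hU⟩ := hcov (p a)
    exact Opens.mem_iSup.2 ⟨U, hin U a hU⟩
  let qW : T' ⟶ W.toScheme := IsOpenImmersion.lift W.ι q' hqW
  have hqWι : qW ≫ W.ι = q' := IsOpenImmersion.lift_fac _ _ _
  haveI : QuasiCompact (qW ≫ W.ι) := by rw [hqWι]; infer_instance
  haveI : QuasiCompact qW := QuasiCompact.of_comp qW W.ι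
  have hclW : IsClosed (Set.range qW) := by
    rw [← isOpen_compl_iff, isOpen_iff_forall_mem_open]
    intro x hx
    obtain ⟨U, hU⟩ := Opens.mem_iSup.1 (show W.ι x ∈ W from x.2)
    obtain ⟨O, hO, hOeq⟩ := (WU U).ι.isOpenEmbedding.isEmbedding.isInducing.isOpen_iff.1 (hclU U).isOpen_compl
    refine ⟨W.ι ⁻¹' (O ∩ (WU U : Set P)), ?_, (hO.inter (WU U).2).preimage W.ι.continuous, ?_, hU⟩
    · rintro y ⟨hyO, hyU⟩ ⟨a, rfl⟩
      have : (⟨W.ι (qW a), hyU⟩ : (WU U).toScheme) ∈ (WU U).ι ⁻¹' O := hyO
      rw [hOeq] at this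
      exact this ⟨a, by rw [← hqWι, Scheme.Hom.comp_apply]; rfl⟩
    · show W.ι x ∈ O
      have : (⟨W.ι x, hU⟩ : (WU U).toScheme) ∈ (WU U).ι ⁻¹' O := by
        rw [hOeq]
        rintro ⟨a, ha⟩
        refine hx ⟨a, W.ι.isOpenEmbedding.injective ?_⟩
        rw [← Scheme.Hom.comp_apply, hqWι]
        exact ha
      exact this
  let T₁ := qW.image
  let q : T' ⟶ T₁ := qW.toImage
  let j : T₁ ⟶ P := qW.imageι ≫ W.ι
  let u : T₁ ⟶ T := j ≫ pullback.fst t πX
  have hqj : q ≫ j = q' := by
    simp only [q, j, Scheme.Hom.toImage_imageι_assoc, hqWι]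
  haveI : Surjective q := ⟨fun x => by
    have hx : qW.imageι x ∈ closure (Set.range qW) := by
      have := (inferInstance : IsDominant qW.toImage).denseRange x
      have h2 := image_closure_subset_closure_image qW.imageι.continuous ⟨x, this, rfl⟩
      rwa [← Set.range_comp, show (qW.imageι ∘ qW.toImage) = ⇑(qW.toImage ≫ qW.imageι) from
        funext fun y => (Scheme.Hom.comp_apply _ _ y).symm, Scheme.Hom.toImage_imageι] at h2
    rw [hclW.closure_eq] at hx
    obtain ⟨a, ha⟩ := hx
    refine ⟨a, qW.imageι.isClosedEmbedding.injective ?_⟩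
    rw [← Scheme.Hom.comp_apply, Scheme.Hom.toImage_imageι]
    exact ha⟩
  have hqu : q ≫ u = p := by rw [← Category.assoc, hqj, hq'1]
  refine ⟨T₁, q, u, j ≫ pullback.snd t πX, hqu, fun V => ?_, ?_, ?_, by rw [← Category.assoc, hqj, hq'2],
    by simp only [u, Category.assoc, pullback.condition]⟩
  · exact TopCat.Presheaf.app_injective_of_stalkFunctor_map_injective (F := T₁.sheaf)
      q.c (U := V) fun x _ => qW.stalkFunctor_toImage_injective x
  · have hinj : UniversallyInjective u := by
      rw [UniversallyInjective.iff_diagonal]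
      refine ⟨fun z => ?_⟩
      haveI : Surjective (pullback.map (q ≫ u) (q ≫ u) u u q q (𝟙 _) (by simp) (by simp)) :=
        MorphismProperty.pullbackMap (P := @Surjective) (inferInstance : Surjective q) inferInstance rfl rfl
      obtain ⟨w, rfl⟩ := (pullback.map (q ≫ u) (q ≫ u) u u q q (𝟙 _) (Category.comp_id _) (Category.comp_id _)).surjective z
      obtain ⟨K, hK, k, ⟨s, hs⟩⟩ := exists_point w
      have hag := hagree (k ≫ pullback.fst _ _) (k ≫ pullback.snd _ _)
        (by simp only [Category.assoc, ← hqu]; rw [pullback.condition])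
      have e : k ≫ pullback.fst (q ≫ u) (q ≫ u) ≫ q = k ≫ pullback.snd (q ≫ u) (q ≫ u) ≫ q := by
        haveI : Mono j := inferInstance
        rw [← cancel_mono j]
        simpa only [Category.assoc, hqj] using hag
      refine ⟨(k ≫ pullback.fst (q ≫ u) (q ≫ u) ≫ q) s, ?_⟩
      have : (k ≫ pullback.fst (q ≫ u) (q ≫ u) ≫ q) ≫ pullback.diagonal u =
          k ≫ pullback.map (q ≫ u) (q ≫ u) u u q q (𝟙 _) (by simp) (by simp) := by
        apply pullback.hom_ext <;> simp [e]
      rw [← Scheme.Hom.comp_apply, this, Scheme.Hom.comp_apply, hs]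
    intro X' Y' i₁ i₂ u' sq
    haveI : UniversallyInjective u' := MorphismProperty.of_isPullback (P := @UniversallyInjective) sq.flip hinj
    let q₂ := pullback.snd q i₁
    have hq₂ : Topology.IsQuotientMap (q₂ ≫ u') :=
      hp (pullback.fst q i₁) i₂ _ (hqu ▸ (IsPullback.of_hasPullback q i₁).flip.paste_horiz sq)
    have hquot : Topology.IsQuotientMap u' := by
      refine Topology.IsQuotientMap.of_comp q₂.continuous u'.continuous ?_
      rw [show (u' ∘ q₂) = ⇑(q₂ ≫ u') from funext fun y => (Scheme.Hom.comp_apply _ _ y).symm]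
      exact hq₂
    exact isHomeomorph_iff_isQuotientMap_injective.2 ⟨hquot, u'.injective⟩
  · refine IsZariskiLocalAtTarget.of_iSup_eq_top (P := @IsSeparated) TUo (eq_top_iff.2 fun y _ =>
      Opens.mem_iSup.2 (hcov y)) fun U => ?_
    let O := u ⁻¹ᵁ TUo U
    have hr : Set.range (O.ι ≫ j) ⊆ Set.range (WU U).ι := by
      rw [Scheme.Opens.range_ι]
      rintro _ ⟨x, rfl⟩
      obtain ⟨a, ha⟩ := q.surjective (O.ι x)
      rw [Scheme.Hom.comp_apply, ← ha, ← Scheme.Hom.comp_apply, hqj]
      refine hin U a ?_
      rw [← hqu, Scheme.Hom.comp_apply, ha]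
      exact x.2
    let l := IsOpenImmersion.lift (WU U).ι (O.ι ≫ j) hr
    have hl : l ≫ (WU U).ι = O.ι ≫ j := IsOpenImmersion.lift_fac _ _ _
    haveI : Mono (l ≫ (WU U).ι) := by rw [hl]; infer_instance
    haveI : Mono l := mono_of_mono l (WU U).ι
    haveI : IsSeparated ((WU U).ι ≫ pullback.fst t πX) := hsepU U
    haveI : IsSeparated ((u ∣_ TUo U) ≫ (TUo U).ι) := by
      rw [morphismRestrict_ι, show (u ⁻¹ᵁ TUo U).ι ≫ u = l ≫ ((WU U).ι ≫ pullback.fst t πX) by
        rw [← Category.assoc l, hl, Category.assoc]]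
      infer_instance
    exact IsSeparated.of_comp (u ∣_ TUo U) (TUo U).ι

end Groth.Agent.S14794
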