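import Groth.Statements.S14795
import Groth.Agent.AWNLib.Basic

-- import your own Groth.Agent.* helpers here

set_option autoImplicit false
universe u
open CategoryTheory CategoryTheory.Limits AlgebraicGeometry
open Subtr

namespace Groth.Agent.S14795



/-- Let A ⊆ B be an integral ring extension and C ⊆ B the weak subintegral closure of A in B, that is
the largest A-subalgebra C of B such that Spec C ⟶ Spec A is a universal homeomorphism (C is
characterised here by that maximality). Then b ∈ B lies in C if and only if b ⊗ 1 − 1 ⊗ b is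
nilpotent in B ⊗_A B (b ⊗ 1 = 1 ⊗ b in the reduction of B ⊗_A B). -/
theorem result {A B : Type u} [CommRing A] [CommRing B]
    [Algebra A B] (hinj : Function.Injective (algebraMap A B)) [Algebra.IsIntegral A B]
    (C : Subalgebra A B) (hC : FlatMor.IsUnivHomeo (Spec.map (CommRingCat.ofHom (algebraMap A C))))
    (hmax : ∀ D : Subalgebra A B, FlatMor.IsUnivHomeo (Spec.map (CommRingCat.ofHom (algebraMap A D))) → D ≤ C) (b : B) :
    b ∈ C ↔ IsNilpotent (b ⊗ₜ[A] (1 : B) - (1 : B) ⊗ₜ[A] b) := by
  constructor
  · intro hb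
    rw [nilpotent_iff_mem_prime]
    intro J hJ
    let π := (algebraMap (TensorProduct A B B ⧸ J) (FractionRing (TensorProduct A B B ⧸ J))).comp (Ideal.Quotient.mk J)
    let g₁ : B →+* FractionRing (TensorProduct A B B ⧸ J) := π.comp Algebra.TensorProduct.includeLeftRingHom
    let g₂ : B →+* FractionRing (TensorProduct A B B ⧸ J) :=
      π.comp (Algebra.TensorProduct.includeRight : B →ₐ[A] TensorProduct A B B).toRingHom
    have h := ((AWNLib.univHomeo_iff _).1 hC).2.2 _ (g₁.comp C.val.toRingHom) (g₂.comp C.val.toRingHom) (by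
      refine RingHom.ext fun a => ?_
      change π (Algebra.TensorProduct.includeLeftRingHom (algebraMap A B a)) = π (Algebra.TensorProduct.includeRight (algebraMap A B a))
      congr 1
      rw [AlgHom.commutes]
      rfl)
    have h0 : π (b ⊗ₜ[A] (1 : B) - (1 : B) ⊗ₜ[A] b) = 0 := by
      rw [map_sub, sub_eq_zero]
      exact RingHom.congr_fun h ⟨b, hb⟩
    have h1 := IsFractionRing.injective (TensorProduct A B B ⧸ J) (FractionRing (TensorProduct A B B ⧸ J))
      (h0.trans (map_zero _).symm)
    exact Ideal.Quotient.eq_zero_iff_mem.1 h1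
  · intro hnil
    refine hmax (Algebra.adjoin A {b}) ?_ (Algebra.subset_adjoin rfl)
    set D := Algebra.adjoin A {b}
    have hBint : (algebraMap A B).IsIntegral := Algebra.IsIntegral.isIntegral
    have hDint : (algebraMap A D).IsIntegral := fun x =>
      (isIntegral_algHom_iff D.val Subtype.val_injective).1 (Algebra.IsIntegral.isIntegral _)
    rw [AWNLib.univHomeo_iff]
    refine ⟨hDint, fun p => ?_, fun K _ g₁ g₂ h => ?_⟩
    · haveI : Algebra.IsIntegral A D := ⟨hDint⟩
      obtain ⟨Q, -, hQ, hQp⟩ := Ideal.exists_ideal_over_prime_of_isIntegral p.asIdeal (⊥ : Ideal D) (fun a ha => by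
        have : a = 0 := hinj ((congrArg Subtype.val (Ideal.mem_bot.1 ha)).trans (map_zero _).symm)
        rw [this]; exact p.asIdeal.zero_mem)
      exact ⟨⟨Q, hQ⟩, PrimeSpectrum.ext hQp⟩
    · let Ω := AlgebraicClosure K
      have hVint : D.val.toRingHom.IsIntegral := RingHom.IsIntegral.tower_top (algebraMap A D) D.val.toRingHom hBint
      obtain ⟨χ₁, e₁⟩ := WeakNormLib.exists_lift ((algebraMap K Ω).comp g₁) D.val.toRingHom Subtype.val_injective hVint
      obtain ⟨χ₂, e₂⟩ := WeakNormLib.exists_lift ((algebraMap K Ω).comp g₂) D.val.toRingHom Subtype.val_injective hVint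
      letI : Algebra A Ω := ((algebraMap K Ω).comp (g₁.comp (algebraMap A D))).toAlgebra
      let f₁ : B →ₐ[A] Ω := { χ₁ with commutes' := fun a => e₁ (algebraMap A D a) }
      let f₂ : B →ₐ[A] Ω := { χ₂ with commutes' := fun a => (e₂ (algebraMap A D a)).trans (congrArg (algebraMap K Ω) (RingHom.congr_fun h a).symm) }
      have hz := hnil.map (Algebra.TensorProduct.productMap f₁ f₂)
      rw [isNilpotent_iff_eq_zero, map_sub, Algebra.TensorProduct.productMap_apply_tmul,
        Algebra.TensorProduct.productMap_apply_tmul, map_one, map_one, mul_one, one_mul, sub_eq_zero] at hz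
      let E : D →ₐ[A] Ω := { (algebraMap K Ω).comp g₁ with commutes' := fun a => rfl }
      let E' : D →ₐ[A] Ω := { (algebraMap K Ω).comp g₂ with commutes' := fun a => (congrArg (algebraMap K Ω) (RingHom.congr_fun h a).symm) }
      have hx' : b ∈ D := Algebra.subset_adjoin rfl
      have hEE : E = E' := by
        refine AlgHom.adjoin_ext fun x hx => ?_
        cases Set.mem_singleton_iff.1 hx
        exact ((e₁ ⟨b, hx'⟩).symm.trans hz).trans (e₂ ⟨b, hx'⟩)
      exact RingHom.ext fun x => (algebraMap K Ω).injective (DFunLike.congr_fun hEE x)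


end Groth.Agent.S14795
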