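import Groth.Statements.S1480
import Groth.Agent.FlatQFAnnLib.Basic
-- import your own Groth.Agent.* helpers here

set_option autoImplicit false
universe u
open FlatMor

namespace Groth.Agent.S1480

open AlgebraicGeometry CategoryTheory Limits in
/-- Let f : X → S be flat, locally of finite presentation and locally quasi-finite, and g a nonzero
global function on X. Then there are affine opens V of X and U of S with f(V) ⊆ U and g nonzero on
V, an ideal F of O_S(U), a positive integer r and an injective O_S(U)-linear map from F^r to O_X(V)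
whose image contains the restriction of g to V. -/
theorem result {X S : Scheme.{u}} (f : X ⟶ S) [Flat f] [LocallyOfFinitePresentation f] [LocallyQuasiFinite f]
    (g : Γ(X, ⊤)) (hg : g ≠ 0) :
    ∃ (U : S.Opens) (hU : IsAffineOpen U) (V : X.Opens) (hV : IsAffineOpen V) (hVU : V ≤ f ⁻¹ᵁ U),
      X.presheaf.map (homOfLE le_top).op g ≠ (0 : Γ(X, V)) ∧
      ∃ (F : Ideal Γ(S, U)) (r : ℕ), 0 < r ∧
        letI := (f.appLE U V hVU).hom.toAlgebra
        ∃ φ : (Fin r → ↥F) →ₗ[Γ(S, U)] Γ(X, V), Function.Injective φ ∧ X.presheaf.map (homOfLE le_top).op g ∈ LinearMap.range φ := by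
  classical
  obtain ⟨U₀, hU₀, V₀, hV₀, hV₀U, hg₀⟩ : ∃ (U₀ : S.Opens) (_ : IsAffineOpen U₀) (V₀ : X.Opens) (_ : IsAffineOpen V₀)
      (_ : V₀ ≤ f ⁻¹ᵁ U₀), X.presheaf.map (homOfLE le_top).op g ≠ (0 : Γ(X, V₀)) := by
    by_contra hcon
    push Not at hcon
    have hx : ∀ x : X, ∃ (V : X.Opens) (_ : x ∈ V), X.presheaf.map (homOfLE (le_top : V ≤ ⊤)).op g = 0 := fun x => by
      obtain ⟨_, ⟨U₀, hU₀, rfl⟩, hxU, -⟩ :=
        (S.isBasis_affineOpens).exists_subset_of_mem_open (Set.mem_univ (f.base x)) isOpen_univ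
      obtain ⟨_, ⟨V₀, hV₀, rfl⟩, hxV, hVU⟩ :=
        (X.isBasis_affineOpens).exists_subset_of_mem_open (show x ∈ f ⁻¹ᵁ U₀ from hxU) (f ⁻¹ᵁ U₀).isOpen
      exact ⟨V₀, hxV, hcon U₀ hU₀ V₀ hV₀ hVU⟩
    choose V hxV hV using hx
    exact hg (X.sheaf.eq_of_locally_eq' V ⊤ (fun x => homOfLE le_top)
      (fun x _ => TopologicalSpace.Opens.mem_iSup.2 ⟨x, hxV x⟩) g 0 fun x => (hV x).trans (map_zero _).symm)
  letI alg₀ := (f.appLE U₀ V₀ hV₀U).hom.toAlgebra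
  haveI : Module.Flat Γ(S, U₀) Γ(X, V₀) :=
    HasRingHomProperty.appLE @Flat f inferInstance ⟨U₀, hU₀⟩ ⟨V₀, hV₀⟩ hV₀U
  haveI : Algebra.FinitePresentation Γ(S, U₀) Γ(X, V₀) :=
    HasRingHomProperty.appLE @LocallyOfFinitePresentation f inferInstance ⟨U₀, hU₀⟩ ⟨V₀, hV₀⟩ hV₀U
  haveI : Algebra.QuasiFinite Γ(S, U₀) Γ(X, V₀) :=
    HasRingHomProperty.appLE @LocallyQuasiFinite f inferInstance ⟨U₀, hU₀⟩ ⟨V₀, hV₀⟩ hV₀U
  obtain ⟨r, hr, hmap⟩ := FlatQFAnn.exists_map (R := Γ(S, U₀)) (B := Γ(X, V₀)) _ hg₀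
  have hle : X.basicOpen (f.appLE U₀ V₀ hV₀U r) ≤ f ⁻¹ᵁ S.basicOpen r := by
    simp [Scheme.Hom.appLE]
  letI alg₁ := (f.appLE (S.basicOpen r) (X.basicOpen (f.appLE U₀ V₀ hV₀U r)) hle).hom.toAlgebra
  haveI := hU₀.isLocalization_basicOpen r
  haveI : IsLocalization.Away (algebraMap Γ(S, U₀) Γ(X, V₀) r) Γ(X, X.basicOpen (f.appLE U₀ V₀ hV₀U r)) :=
    hV₀.isLocalization_basicOpen _
  have hcomp : (algebraMap Γ(S, S.basicOpen r) Γ(X, X.basicOpen (f.appLE U₀ V₀ hV₀U r))).comp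
      (algebraMap Γ(S, U₀) Γ(S, S.basicOpen r)) =
      (algebraMap Γ(X, V₀) Γ(X, X.basicOpen (f.appLE U₀ V₀ hV₀U r))).comp (algebraMap Γ(S, U₀) Γ(X, V₀)) := by
    show (S.presheaf.map (homOfLE (S.basicOpen_le r)).op ≫ f.appLE _ _ hle).hom =
      (f.appLE U₀ V₀ hV₀U ≫ X.presheaf.map (homOfLE (X.basicOpen_le _)).op).hom
    rw [Scheme.Hom.map_appLE, Scheme.Hom.appLE_map]
  have hres : algebraMap Γ(X, V₀) Γ(X, X.basicOpen (f.appLE U₀ V₀ hV₀U r)) (X.presheaf.map (homOfLE le_top).op g) =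
      X.presheaf.map (homOfLE le_top).op g := by
    show (X.presheaf.map (homOfLE le_top).op ≫ X.presheaf.map (homOfLE (X.basicOpen_le _)).op).hom g = _
    rw [← Functor.map_comp]
    rfl
  refine ⟨S.basicOpen r, hU₀.basicOpen r, _, hV₀.basicOpen _, hle, fun h0 => ?_, ?_⟩
  · rw [← hres] at h0
    obtain ⟨⟨_, N, rfl⟩, hN⟩ := (IsLocalization.map_eq_zero_iff
      (Submonoid.powers (algebraMap Γ(S, U₀) Γ(X, V₀) r)) Γ(X, X.basicOpen (f.appLE U₀ V₀ hV₀U r)) _).1 h0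
    refine hr N ?_
    rw [Algebra.smul_def, map_pow]
    exact hN
  · obtain ⟨F, n, hn, φ, hφ, hgφ⟩ := hmap Γ(S, S.basicOpen r) Γ(X, X.basicOpen (f.appLE U₀ V₀ hV₀U r)) hcomp
    rw [hres] at hgφ
    exact ⟨F, n, hn, φ, hφ, hgφ⟩

end Groth.Agent.S1480
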