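import Groth.Statements.S14801
import Groth.Agent.TreeLib.ChainGrp

set_option autoImplicit false
universe u
open Finset
open LabGraph

namespace Groth.Agent.S14801

/-- Let (G, β) be a finite multigraph with a multiplicity function and α its matrix (α_{vw} = #edges(v,
w) for v ≠ w, diagonal entries defined by Σ_w β(w) α_{vw} = 0); let L be a connecting chain of
length m (vertices v₀, …, v_m, edges e₁, …, e_m, each connecting) with β(v_i) = m and α_{v_i v_i} =
-2 for all i; let (G', β') be the contraction of L and f : ℤ^{V(G')} → ℤ^{V(G)} the map extending a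
vector by zero along the section of V(G) → V(G') that sends the contracted vertex to v₀. Then f
carries ker β' into ker β, and there is a map h : ℤ^{V(G')} → ℤ^{V(G)} with f ∘ α' = α ∘ h, so that
f induces a homomorphism of component groups ker β'/im α' → ker β/im α; this homomorphism is
surjective. -/
theorem result {V E : Type u} [Fintype V] [Fintype E] [DecidableEq V] [DecidableEq E]
    (ends : E → V × V) (β : V → ℤ) (hβ : LabGraph.IsMultFn ends β)
    (m : ℕ) (f : Fin (m + 1) → V) (e : Fin m → E) (hC : LabGraph.IsChain ends f e)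
    (hconn : ∀ i, LabGraph.IsConnecting ends (e i)) (hβm : ∀ i, β (f i) = m)
    (hα : ∀ i, LabGraph.mfMatrix ends β (f i) (f i) = -2) :
    ∃ φ : LabGraph.CompGrp (DualGr.ctrEnds ends (univ.image e)) (LabGraph.ctrFn ends (univ.image e) β) →+
        LabGraph.CompGrp ends β,
      Function.Surjective φ ∧
      ∀ (x : LinearMap.ker (LabGraph.betaHom (LabGraph.ctrFn ends (univ.image e) β)))
        (y : LinearMap.ker (LabGraph.betaHom β)),
        (y : V → ℤ) = LabGraph.liftAt ends (univ.image e) (f 0) (x : DualGr.CtrVert ends (univ.image e) → ℤ) →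
        φ (Submodule.Quotient.mk x) = Submodule.Quotient.mk y := by
  classical
  have H : TreeLib.TwoChain ends β m f e := ⟨hβ, hC, hconn, hβm, hα⟩
  let D := univ.image e
  -- extension by zero, as a linear map
  let L : (DualGr.CtrVert ends D → ℤ) →ₗ[ℤ] (V → ℤ) :=
    { toFun := LabGraph.liftAt ends D (f 0)
      map_add' := fun x y => funext fun a => by
        simp only [Pi.add_apply, D, H.liftAt_apply]
        split_ifs <;> simp
      map_smul' := fun c x => funext fun a => by
        simp only [Pi.smul_apply, D, H.liftAt_apply, RingHom.id_apply]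
        split_ifs <;> simp }
  let L' : LinearMap.ker (LabGraph.betaHom (LabGraph.ctrFn ends D β)) →ₗ[ℤ]
      LinearMap.ker (LabGraph.betaHom β) :=
    LinearMap.codRestrict _ (L ∘ₗ Submodule.subtype _) fun x => by
      rw [LinearMap.mem_ker]
      exact (H.betaHom_lift x.1).trans x.2
  let φ := Submodule.mapQ
    ((LinearMap.range (Matrix.mulVecLin (LabGraph.mfMatrix (DualGr.ctrEnds ends D)
      (LabGraph.ctrFn ends D β)))).comap
      (LinearMap.ker (LabGraph.betaHom (LabGraph.ctrFn ends D β))).subtype)
    ((LinearMap.range (Matrix.mulVecLin (LabGraph.mfMatrix ends β))).comap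
      (LinearMap.ker (LabGraph.betaHom β)).subtype) L' (by
      rintro x ⟨z, hz⟩
      show L x.1 ∈ LinearMap.range (Matrix.mulVecLin (LabGraph.mfMatrix ends β))
      rw [show (x.1 : DualGr.CtrVert ends D → ℤ) = _ from hz.symm]
      exact H.lift_mem_range z)
  refine ⟨φ.toAddMonoidHom, fun q => ?_, fun x y hxy => ?_⟩
  · obtain ⟨y, rfl⟩ := Submodule.Quotient.mk_surjective _ q
    obtain ⟨w, hw⟩ := H.exists_reduce y.1
    let y' : V → ℤ := y.1 + (LabGraph.mfMatrix ends β).mulVec w
    let x : DualGr.CtrVert ends D → ℤ := fun c =>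
      if c = DualGr.ctrMk ends D (f 0) then y' (f 0)
      else y' (Function.surjInv (DualGr.ctrMk_surjective ends D) c)
    have hLx : LabGraph.liftAt ends D (f 0) x = y' := by
      funext a
      rw [H.liftAt_apply]
      split_ifs with ha
      · obtain ⟨i, -, rfl⟩ := Finset.mem_image.1 ha.1
        exact (hw i (Nat.pos_of_ne_zero fun h => ha.2 (congrArg f (Fin.ext h)))).symm
      · by_cases ha' : TreeLib.onChain f a
        · have : a = f 0 := by_contra fun h => ha ⟨ha', h⟩
          subst this
          simp [x, D]
        · have hne : DualGr.ctrMk ends D a ≠ DualGr.ctrMk ends D (f 0) := fun h => ha'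
            (((TreeLib.ctrMk_eq_iff hC a (f 0)).1 h).elim
              (fun h => h ▸ Finset.mem_image_of_mem f (Finset.mem_univ 0)) And.left)
          simp only [x, D] at hne ⊢
          rw [if_neg hne]
          rcases (TreeLib.ctrMk_eq_iff hC _ a).1
            (Function.surjInv_eq (DualGr.ctrMk_surjective ends (univ.image e))
              (DualGr.ctrMk ends (univ.image e) a)) with h | h
          · rw [h]
          · exact absurd h.2 ha'
    have hy' : LabGraph.betaHom β y' = 0 := by
      rw [map_add, show LabGraph.betaHom β y.1 = 0 from y.2, zero_add, LabGraph.betaHom,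
        Fintype.linearCombination_apply]
      have h := TreeLib.dot_mulVec_mfMatrix ends β hβ w
      rw [dotProduct] at h
      simpa [smul_eq_mul, mul_comm] using h
    have hx : x ∈ LinearMap.ker (LabGraph.betaHom (LabGraph.ctrFn ends D β)) := by
      rw [LinearMap.mem_ker, ← H.betaHom_lift, hLx, hy']
    refine ⟨Submodule.Quotient.mk ⟨x, hx⟩, ?_⟩
    show Submodule.Quotient.mk (L' ⟨x, hx⟩) = Submodule.Quotient.mk y
    rw [Submodule.Quotient.eq]
    show L x - y.1 ∈ LinearMap.range (Matrix.mulVecLin (LabGraph.mfMatrix ends β))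
    refine ⟨w, ?_⟩
    rw [show L x = y' from hLx]
    simp [y']
  · show Submodule.Quotient.mk (L' x) = Submodule.Quotient.mk y
    exact congrArg _ (Subtype.ext hxy.symm)

end Groth.Agent.S14801
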