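import Groth.Statements.S14804
import Groth.Agent.TreeLib.Graph
open Finset

set_option autoImplicit false
universe u
open Finset
open LabGraph

namespace Groth.Agent.S14804

/-- In a connected finite multigraph G, a vertex v belongs to some cycle of G (here: v is an endpoint of
an edge of some circuit, a circuit being a minimal nonempty edge set meeting every vertex in an even
number of edge-ends, which includes loops and pairs of parallel edges) if and only if G has a
spanning tree T such that some edge outside T has v as an endpoint. (The published statement is for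
an arbitrary multigraph; when G is disconnected it has no spanning tree while a vertex may lie on a
cycle, so G is taken connected here, the case of dual graphs for which it is used.) -/
theorem result
    {V E : Type u} [Fintype V] [Fintype E] [DecidableEq V] [DecidableEq E]
    (ends : E → V × V) (hG : LabGraph.Connected ends) (v : V) :
    (∃ C : Finset E, LabGraph.IsCircuit ends C ∧ LabGraph.endCount ends C v ≠ 0) ↔
      ∃ T : Finset E, LabGraph.IsSpanningTree ends T ∧
        ∃ e : E, e ∉ T ∧ ((ends e).1 = v ∨ (ends e).2 = v) := by
  classical
  constructor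
  · rintro ⟨C, hC, hv⟩
    obtain ⟨e, heC, he⟩ : ∃ e ∈ C, (ends e).1 = v ∨ (ends e).2 = v := by
      by_contra hcon
      push Not at hcon
      exact hv (Finset.sum_eq_zero fun e he => by simp [(hcon e he).1, (hcon e he).2])
    have h := TreeLib.connected_erase ends univ (TreeLib.connected_univ ends hG) C
      (Finset.subset_univ C) hC.2.1 e heC
    obtain ⟨T, hT, hT'⟩ := TreeLib.exists_spanningTree ends _ h
    exact ⟨T, hT', e, fun hmem => (Finset.mem_erase.1 (hT hmem)).1 rfl, he⟩
  · rintro ⟨T, hT, e, heT, he⟩
    have hT' := (TreeLib.isSpanningTree_iff ends T).1 hT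
    have hconn : LabGraph.Connected (TreeLib.sub ends (insert e T)) := by
      refine ⟨hT'.1.1, fun a b => ?_⟩
      induction hT'.1.2 a b with
      | refl => exact Relation.ReflTransGen.refl
      | tail _ h ih =>
        obtain ⟨⟨e', he'T⟩, he'⟩ := h
        exact ih.tail ⟨⟨e', Finset.mem_insert_of_mem he'T⟩, he'⟩
    have hnf : ¬ DualGr.IsForest (TreeLib.sub ends (insert e T)) := by
      rw [TreeLib.isForest_iff_card _ hconn, Fintype.card_coe, Finset.card_insert_of_notMem heT]
      omega
    simp only [DualGr.IsForest, not_forall, not_not] at hnf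
    obtain ⟨C, hC⟩ := hnf
    obtain ⟨D, hD, hD'⟩ := TreeLib.exists_circuit ends (C.map (Function.Embedding.subtype _))
      (hC.1.map) (fun w => (TreeLib.endCount_sub ends _ C w) ▸ hC.2.1 w)
    have hDins : D ⊆ insert e T := fun x hx => by
      obtain ⟨y, -, rfl⟩ := Finset.mem_map.1 (hD hx)
      exact y.2
    have heD : e ∈ D := by
      by_contra hne
      have hDT : D ⊆ T := fun x hx => (Finset.mem_insert.1 (hDins hx)).resolve_left fun h => hne (h ▸ hx)
      have hmap : (D.subtype (fun x => x ∈ T)).map (Function.Embedding.subtype _) = D :=
        Finset.subtype_map_of_mem fun x hx => hDT hx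
      obtain ⟨x, hx⟩ := hD'.1
      obtain ⟨D', -, hD''⟩ := TreeLib.exists_circuit (TreeLib.sub ends T)
        (D.subtype (fun x => x ∈ T)) ⟨⟨x, hDT hx⟩, Finset.mem_subtype.2 hx⟩
        (fun w => by rw [TreeLib.endCount_sub ends T, hmap]; exact hD'.2.1 w)
      exact hT.2 D' hD''
    refine ⟨D, hD', ?_⟩
    rw [LabGraph.endCount, ← Finset.add_sum_erase _ _ heD]
    rcases he with he | he <;> simp [he]

end Groth.Agent.S14804
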