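import Groth.Statements.S14807
import Mathlib.GroupTheory.OrderOfElement
import Mathlib.Data.Nat.Prime.Basic
-- import your own Groth.Agent.* helpers here

set_option autoImplicit false
universe u
open CAlg

namespace Groth.Agent.S14807

/-- Let G be a finite abelian group, written additively, and ℓ a prime number. Every sequence (g_n)_{n ≥
0} of elements of G with ℓ^n · g_n = 0 and ℓ · g_{n+1} = g_n for all n is identically zero; in other
words the inverse limit of the subgroups of ℓ^n-torsion elements, with transition maps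
multiplication by ℓ, vanishes. -/
theorem result (G : Type u) [AddCommGroup G] [Finite G]
    (ℓ : ℕ) (hℓ : ℓ.Prime) (g : ℕ → G) (htor : ∀ n : ℕ, ℓ ^ n • g n = 0)
    (hcomp : ∀ n : ℕ, ℓ • g (n + 1) = g n) (n : ℕ) : g n = 0 := by
  have hk : ∀ m, ℓ ^ Nat.card G • g m = 0 := fun m => by
    obtain ⟨j, -, hj⟩ := (Nat.dvd_prime_pow hℓ).mp (addOrderOf_dvd_of_nsmul_eq_zero (htor m))
    refine addOrderOf_dvd_iff_nsmul_eq_zero.mp (hj ▸ pow_dvd_pow ℓ ?_)
    have h1 : ℓ ^ j ∣ Nat.card G := hj ▸ addOrderOf_dvd_natCard _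
    exact ((Nat.lt_pow_self hℓ.one_lt).le).trans (Nat.le_of_dvd Nat.card_pos h1)
  have hs : ∀ e m, g m = ℓ ^ e • g (m + e) := by
    intro e
    induction e with
    | zero => simp
    | succ e ih => intro m; rw [pow_succ, mul_nsmul', ← Nat.add_assoc, hcomp, ← ih]
  rw [hs (Nat.card G) n, hk]

end Groth.Agent.S14807
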