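import Groth.Statements.S1481
import Mathlib.AlgebraicGeometry.ValuativeCriterion
import Mathlib.AlgebraicGeometry.Fiber
-- import your own Groth.Agent.* helpers here

set_option autoImplicit false
set_option backward.isDefEq.respectTransparency false
set_option linter.all false
universe u
open FlatMor

namespace Groth.Agent.S1481

open AlgebraicGeometry CategoryTheory Limits TopologicalSpace IsLocalRing

theorem eq_of_generalization {α : Type u} [TopologicalSpace α] [T0Space α] {a : α}
    (h : ∃ C ∈ irreducibleComponents α, IsGenericPoint a C) {w : α} (hw : w ⤳ a) : w = a := by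
  obtain ⟨C, hC, ha⟩ := h
  have hle : C ⊆ closure {w} := by
    rw [← ha.def]
    exact closure_minimal (Set.singleton_subset_iff.mpr hw.mem_closure) isClosed_closure
  have h2 : closure {w} ⊆ C := hC.2 (isIrreducible_singleton.closure) hle
  exact ((hw.antisymm ((ha.specializes (h2 (subset_closure rfl))))).eq)

theorem isGenericPoint_component_of_minimal {α : Type u} [TopologicalSpace α] (a : α)
    (hsob : ∀ Z : Set α, IsIrreducible Z → ∃ ξ : α, ∀ z ∈ Z, ξ ⤳ z)
    (hmin : ∀ w : α, w ⤳ a → w = a) :
    ∃ C ∈ irreducibleComponents α, IsGenericPoint a C := by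
  refine ⟨closure {a}, ⟨isIrreducible_singleton.closure, fun Z hZ hle z hz => ?_⟩, rfl⟩
  obtain ⟨ξ, hξ⟩ := hsob Z hZ
  have := hmin ξ (hξ a (hle (subset_closure rfl)))
  subst this
  exact (hξ z hz).mem_closure

theorem exists_generic {α : Type u} [TopologicalSpace α] [QuasiSober α] (a : α) :
    ∃ ξ : α, ξ ⤳ a ∧ ∃ C ∈ irreducibleComponents α, IsGenericPoint ξ C := by
  obtain ⟨ξ, hξ⟩ := QuasiSober.sober (isIrreducible_irreducibleComponent (x := a))
    isClosed_irreducibleComponent
  exact ⟨ξ, hξ.specializes mem_irreducibleComponent, _, irreducibleComponent_mem_irreducibleComponents a, hξ⟩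


open AlgebraicGeometry CategoryTheory Limits in
/-- Let f : X → S, y a point of X with image t, Y the closure of y, s a point of S and x a point of Y
over s which is generic in an irreducible component of the fibre of Y over s (fibres as subspaces).
Then there are a valuation ring R and a morphism g : Spec R → S sending the generic point to t and
the closed point to s, such that, writing X' for the base change with projections g' : X' → X and f'
: X' → Spec R, there is a point y' of X' over the generic point with g' y' = y which is generic in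
an irreducible component of the generic fibre of g'⁻¹(Y), and a point x' in the closure of y' over
the closed point with g' x' = x which is generic in an irreducible component of the special fibre of
the closure of y'. -/
theorem result {X S : Scheme.{u}} (f : X ⟶ S) (y : X) (s : S) (x : X)
    (hx : x ∈ closure ({y} : Set ↑X)) (hxs : f x = s)
    (hgen : ∃ C ∈ irreducibleComponents ↑(closure ({y} : Set ↑X) ∩ f ⁻¹' {s}), IsGenericPoint (⟨x, hx, hxs⟩ : ↑(closure ({y} : Set ↑X) ∩ f ⁻¹' {s})) C) :
    ∃ (R : Type u) (_ : CommRing R) (_ : IsDomain R) (_ : ValuationRing R) (g : Spec (CommRingCat.of R) ⟶ S),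
      g (⊥ : PrimeSpectrum R) = f y ∧ g (IsLocalRing.closedPoint R) = s ∧
      ∃ (y' : ↑(pullback f g)) (hy't : pullback.snd f g y' = (⊥ : PrimeSpectrum R)) (hy'Y : pullback.fst f g y' ∈ closure ({y} : Set ↑X)),
        pullback.fst f g y' = y ∧
        (∃ C ∈ irreducibleComponents ↑((pullback.fst f g) ⁻¹' closure ({y} : Set ↑X) ∩ (pullback.snd f g) ⁻¹' {(⊥ : PrimeSpectrum R)}),
          IsGenericPoint (⟨y', hy'Y, hy't⟩ : ↑((pullback.fst f g) ⁻¹' closure ({y} : Set ↑X) ∩ (pullback.snd f g) ⁻¹' {(⊥ : PrimeSpectrum R)})) C) ∧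
        ∃ (x' : ↑(pullback f g)) (hx' : x' ∈ closure ({y'} : Set ↑(pullback f g))) (hx's : pullback.snd f g x' = IsLocalRing.closedPoint R),
          pullback.fst f g x' = x ∧
          ∃ C ∈ irreducibleComponents ↑(closure ({y'} : Set ↑(pullback f g)) ∩ (pullback.snd f g) ⁻¹' {IsLocalRing.closedPoint R}),
            IsGenericPoint (⟨x', hx', hx's⟩ : ↑(closure ({y'} : Set ↑(pullback f g)) ∩ (pullback.snd f g) ⁻¹' {IsLocalRing.closedPoint R})) C := by
  subst hxs
  have hyx : y ⤳ x := specializes_iff_mem_closure.mpr hx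
  have hts : f y ⤳ f x := hyx.map f.continuous
  let ψ : X.presheaf.stalk x ⟶ X.residueField y := X.presheaf.stalkSpecializes hyx ≫ X.residue y
  obtain ⟨R, hψ, hψloc⟩ := exists_factor_valuationRing ψ.hom
  let ψR : X.presheaf.stalk x ⟶ CommRingCat.of R := CommRingCat.ofHom (ψ.hom.codRestrict _ hψ)
  haveI : IsLocalHom (ψ.hom.codRestrict R.toSubring hψ) := hψloc
  let θ := (f.residueFieldMap y).hom
  let A : ValuationSubring (S.residueField (f y)) := R.comap θ
  let φ : S.presheaf.stalk (f x) ⟶ S.residueField (f y) :=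
    S.presheaf.stalkSpecializes hts ≫ S.residue (f y)
  have hcomm : φ ≫ f.residueFieldMap y = f.stalkMap x ≫ ψ := by
    simp only [φ, ψ, Category.assoc,
      Scheme.residue_residueFieldMap]
    exact Scheme.Hom.stalkSpecializes_stalkMap_assoc f _ _ hyx _
  have hφ : ∀ a, φ.hom a ∈ A.toSubring := fun a => by
    show θ (φ.hom a) ∈ R
    have := congrArg (fun m => m.hom a) hcomm
    simp only [CommRingCat.hom_comp, RingHom.comp_apply] at this
    exact this ▸ hψ _
  let φA : S.presheaf.stalk (f x) ⟶ CommRingCat.of A := CommRingCat.ofHom (φ.hom.codRestrict _ hφ)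
  let ρ : CommRingCat.of A ⟶ CommRingCat.of R :=
    CommRingCat.ofHom ((θ.comp A.subtype).codRestrict R.toSubring fun a => a.2)
  have hcommR : φA ≫ ρ = f.stalkMap x ≫ ψR := by
    ext a
    exact congrArg (fun m => m.hom a) hcomm
  haveI hρloc : IsLocalHom ρ.hom := ⟨fun a ha => by
    obtain ⟨b, hb⟩ := ha.exists_right_inv
    have ha0 : (a : S.residueField (f y)) ≠ 0 := fun h0 => by
      have h1 := congrArg Subtype.val hb
      have h2 : θ (a : S.residueField (f y)) * (b : X.residueField y) = 1 := h1
      rw [h0, map_zero, zero_mul] at h2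
      exact zero_ne_one h2
    have h2 : θ (a : S.residueField (f y)) * (b : X.residueField y) = 1 := congrArg Subtype.val hb
    have hinv : (a : S.residueField (f y))⁻¹ ∈ A := by
      show θ _ ∈ R
      rw [map_inv₀, inv_eq_of_mul_eq_one_right h2]
      exact b.2
    exact IsUnit.of_mul_eq_one ⟨_, hinv⟩ (Subtype.ext (mul_inv_cancel₀ ha0))⟩
  haveI hψRloc : IsLocalHom ψR.hom := hψloc
  haveI hφAloc : IsLocalHom φA.hom := ⟨fun a ha => by
    have h1 : IsUnit ((f.stalkMap x ≫ ψR).hom a) := hcommR ▸ ha.map ρ.hom
    exact isUnit_of_map_unit (f.stalkMap x).hom a (isUnit_of_map_unit ψR.hom _ h1)⟩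
  let g : Spec (CommRingCat.of A) ⟶ S := Spec.map φA ≫ S.fromSpecStalk (f x)
  let ι : Spec (S.residueField (f y)) ⟶ Spec (CommRingCat.of A) :=
    Spec.map (CommRingCat.ofHom A.subtype)
  have hιbot : ∀ p, ι p = (⊥ : PrimeSpectrum A) := fun p => by
    rw [Subsingleton.elim p (closedPoint (S.residueField (f y)))]
    apply PrimeSpectrum.ext
    show Ideal.comap A.subtype (maximalIdeal _) = ⊥
    rw [(IsLocalRing.isField_iff_maximalIdeal_eq.mp (Field.toIsField _))]
    exact Ideal.comap_bot_of_injective _ Subtype.val_injective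
  have hιg : ι ≫ g = S.fromSpecResidueField (f y) := by
    rw [Scheme.fromSpecResidueField, ← Scheme.SpecMap_stalkSpecializes_fromSpecStalk hts]
    simp only [g, ι, ← Spec.map_comp_assoc]
    rfl
  let a : Spec (CommRingCat.of R) ⟶ X := Spec.map ψR ≫ X.fromSpecStalk x
  have hsq : a ≫ f = Spec.map ρ ≫ g := by
    simp only [a, g, Category.assoc, ← Scheme.SpecMap_stalkMap_fromSpecStalk, ← Spec.map_comp_assoc,
      hcommR]
  let σ : Spec (CommRingCat.of R) ⟶ pullback f g := pullback.lift a (Spec.map ρ) hsq
  let j : Spec (X.residueField y) ⟶ Spec (CommRingCat.of R) := Spec.map (CommRingCat.ofHom R.subtype)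
  let y' : ↑(pullback f g) := σ (j (closedPoint _))
  let x₀ : ↑(pullback f g) := σ (closedPoint R)
  have hfst : ∀ p, pullback.fst f g (σ p) = a p := fun p => by
    rw [← Scheme.Hom.comp_apply, pullback.lift_fst]
  have hsnd : ∀ p, pullback.snd f g (σ p) = Spec.map ρ p := fun p => by
    rw [← Scheme.Hom.comp_apply, pullback.lift_snd]
  have hja : j ≫ a = X.fromSpecResidueField y := by
    rw [Scheme.fromSpecResidueField, ← Scheme.SpecMap_stalkSpecializes_fromSpecStalk hyx]
    simp only [a, j, ← Spec.map_comp_assoc]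
    rfl
  have hy'1 : pullback.fst f g y' = y := by
    rw [hfst, ← Scheme.Hom.comp_apply, hja, Scheme.fromSpecResidueField_apply]
  have hy'2 : pullback.snd f g y' = (⊥ : PrimeSpectrum A) := by
    rw [hsnd]
    apply PrimeSpectrum.ext
    show Ideal.comap ρ.hom (Ideal.comap R.subtype (maximalIdeal _)) = ⊥
    rw [(IsLocalRing.isField_iff_maximalIdeal_eq.mp (Field.toIsField _)),
      Ideal.comap_bot_of_injective R.subtype Subtype.val_injective,
      Ideal.comap_bot_of_injective ρ.hom]
    exact fun b c h => Subtype.ext (θ.injective (congrArg Subtype.val h))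
  have hx₀1 : pullback.fst f g x₀ = x := by
    rw [hfst]
    show X.fromSpecStalk x (Spec.map ψR (closedPoint R)) = x
    have : Spec.map ψR (closedPoint R) = closedPoint (X.presheaf.stalk x) :=
      IsLocalRing.comap_closedPoint ψR.hom
    rw [this, X.fromSpecStalk_closedPoint]
  have hx₀2 : pullback.snd f g x₀ = closedPoint A := by
    rw [hsnd]
    exact IsLocalRing.comap_closedPoint ρ.hom
  have hy'x₀ : y' ⤳ x₀ := (specializes_closedPoint _).map σ.continuous
  have hinj : ∀ p q : ↑(pullback f g), pullback.snd f g p = (⊥ : PrimeSpectrum A) →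
      pullback.snd f g q = (⊥ : PrimeSpectrum A) → pullback.fst f g p = pullback.fst f g q → p = q := by
    intro p q hp hq hpq
    obtain ⟨p', hp', -⟩ := Scheme.Pullback.exists_preimage_pullback (f := pullback.snd f g) (g := ι) p
      (closedPoint _) (hp.trans (hιbot _).symm)
    obtain ⟨q', hq', -⟩ := Scheme.Pullback.exists_preimage_pullback (f := pullback.snd f g) (g := ι) q
      (closedPoint _) (hq.trans (hιbot _).symm)
    let e := (pullbackLeftPullbackSndIso f g ι).hom
    have he : e ≫ pullback.fst f (ι ≫ g) = pullback.fst (pullback.snd f g) ι ≫ pullback.fst f g :=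
      pullbackLeftPullbackSndIso_hom_fst f g ι
    haveI : IsPreimmersion (ι ≫ g) := by rw [hιg]; infer_instance
    haveI : IsPreimmersion (pullback.fst f (ι ≫ g)) := MorphismProperty.pullback_fst _ _ ‹_›
    have hi : Function.Injective (e ≫ pullback.fst f (ι ≫ g)) :=
      (e ≫ pullback.fst f (ι ≫ g)).isEmbedding.injective
    have : p' = q' := hi (by rw [he, Scheme.Hom.comp_apply, Scheme.Hom.comp_apply, hp', hq', hpq])
    rw [← hp', ← hq', this]
  refine ⟨A, inferInstance, inferInstance, inferInstance, g, ?_, ?_, y', hy'2, ?hY, hy'1, ?_, ?_⟩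
  case hY => rw [hy'1]; exact subset_closure rfl
  · rw [← hιbot (closedPoint _), ← Scheme.Hom.comp_apply, hιg, Scheme.fromSpecResidueField_apply]
  · show S.fromSpecStalk (f x) (Spec.map φA (closedPoint A)) = f x
    have : Spec.map φA (closedPoint A) = closedPoint (S.presheaf.stalk (f x)) :=
      IsLocalRing.comap_closedPoint φA.hom
    rw [this, S.fromSpecStalk_closedPoint]
  · apply isGenericPoint_component_of_minimal
    · intro Z hZ
      obtain ⟨ξ, hξ⟩ := QuasiSober.sober ((hZ.image _ continuous_subtype_val.continuousOn).closure)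
        isClosed_closure
      have hξZ : ∀ z ∈ Z, ξ ⤳ z.1 := fun z hz => hξ.specializes (subset_closure ⟨z, hz, rfl⟩)
      have hξY : pullback.fst f g ξ ∈ closure ({y} : Set ↑X) := by
        have hsub : closure (Subtype.val '' Z) ⊆ (pullback.fst f g) ⁻¹' closure ({y} : Set ↑X) :=
          closure_minimal (by rintro _ ⟨z, -, rfl⟩; exact z.2.1)
            (isClosed_closure.preimage (pullback.fst f g).continuous)
        exact hsub hξ.mem
      obtain ⟨z, hz⟩ := hZ.1
      have hξt : pullback.snd f g ξ = (⊥ : PrimeSpectrum A) := by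
        have h1 := (hξZ z hz).map (pullback.snd f g).continuous
        rw [show pullback.snd f g z.1 = (⊥ : PrimeSpectrum A) from z.2.2] at h1
        exact le_bot_iff (α := PrimeSpectrum A).mp ((PrimeSpectrum.le_iff_specializes _ _).mpr h1)
      exact ⟨⟨ξ, hξY, hξt⟩, fun z hz => Topology.IsInducing.subtypeVal.specializes_iff.mp (hξZ z hz)⟩
    · rintro ⟨w, hwY, hwt⟩ hw
      refine Subtype.ext (hinj w y' hwt hy'2 ?_)
      have h1 := (Topology.IsInducing.subtypeVal.specializes_iff.mpr hw).map (pullback.fst f g).continuous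
      rw [hy'1] at h1 ⊢
      exact (h1.antisymm (specializes_iff_mem_closure.mpr hwY)).eq
  · let T : Set ↑(pullback f g) :=
      closure ({y'} : Set ↑(pullback f g)) ∩ (pullback.snd f g) ⁻¹' {closedPoint A}
    have hT : IsClosed T := isClosed_closure.inter
      ((IsLocalRing.isClosed_singleton_closedPoint A).preimage (pullback.snd f g).continuous)
    haveI : QuasiSober ↥T := hT.isClosedEmbedding_subtypeVal.quasiSober
    obtain ⟨⟨x', hx', hx's⟩, hsp, C, hC, hgenC⟩ :=
      exists_generic (⟨x₀, hy'x₀.mem_closure, hx₀2⟩ : ↥T)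
    refine ⟨x', hx', hx's, ?_, C, hC, hgenC⟩
    have hY : pullback.fst f g x' ∈ closure ({y} : Set ↑X) := by
      have h2 := (specializes_iff_mem_closure.mpr hx').map (pullback.fst f g).continuous
      rw [hy'1] at h2
      exact h2.mem_closure
    have hs : f (pullback.fst f g x') = f x := by
      rw [← Scheme.Hom.comp_apply, pullback.condition, Scheme.Hom.comp_apply,
        show pullback.snd f g x' = closedPoint A from hx's]
      show S.fromSpecStalk (f x) (Spec.map φA (closedPoint A)) = f x
      have : Spec.map φA (closedPoint A) = closedPoint (S.presheaf.stalk (f x)) :=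
        IsLocalRing.comap_closedPoint φA.hom
      rw [this, S.fromSpecStalk_closedPoint]
    have hsp' : pullback.fst f g x' ⤳ x :=
      hx₀1 ▸ (Topology.IsInducing.subtypeVal.specializes_iff.mpr hsp).map (pullback.fst f g).continuous
    exact congrArg Subtype.val (eq_of_generalization hgen
      (w := ⟨pullback.fst f g x', hY, hs⟩) (Topology.IsInducing.subtypeVal.specializes_iff.mp hsp'))

end Groth.Agent.S1481
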