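import Groth.Statements.S14812
import Groth.Agent.NumTrivLib.Num

set_option autoImplicit false
universe u
open CategoryTheory CategoryTheory.Limits AlgebraicGeometry
open Pic13

namespace Groth.Agent.S14812

/-- Take any field k, a proper k-scheme X and an invertible O_X-module L. Then L is numerically trivial
(degree 0 on every closed subscheme of X which is integral of dimension one) if and only if χ(F ⊗ L)
= χ(F) for every coherent O_X-module F; here χ is the alternating sum of the dimensions dim_k H^i(X,
·) over 0 ≤ i ≤ d, for any natural number d bounding the dimension of X. The field k is not assumed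
algebraically closed. -/
theorem result (k : Type u) [Field k] (X : Scheme.{u})
    [X.Over (Spec (CommRingCat.of k))] [IsProper (X ↘ Spec (CommRingCat.of k))] (L : X.Modules) (hL : PicF.IsInvertible L) :
    Pic13.IsNumEquivZero k X L ↔
      ∀ (F : X.Modules), Coh.IsCoh F → ∀ d : ℕ, topologicalKrullDim X ≤ d →
        FGA.eulerCharLE k X (CohB1.tensorMod F L) d = FGA.eulerCharLE k X F d := by
  rw [NumTrivLib.isNumEquivZero_iff hL]
  constructor
  · intro h F hF d hd
    rw [HilbPolyLib.eulerCharLE_eq hd, HilbPolyLib.eulerCharLE_eq hd,
      CurvLib.euler_congr (HilbPolyLib.swapIso F L)]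
    have := h F hF
    simp only [NumTrivLib.Φ] at this
    omega
  · intro h F hF
    obtain ⟨D, hD⟩ := HilbPolyLib.exists_dim_lt k (X := X)
    have h1 := h F hF D hD.le
    rw [HilbPolyLib.eulerCharLE_eq hD.le, HilbPolyLib.eulerCharLE_eq hD.le,
      CurvLib.euler_congr (HilbPolyLib.swapIso F L)] at h1
    simp only [NumTrivLib.Φ]
    omega

end Groth.Agent.S14812
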