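import Groth.Statements.S14813
import Groth.Agent.EtaleEulerLib.Main

set_option autoImplicit false
universe u
open CategoryTheory CategoryTheory.Limits AlgebraicGeometry
open FGA

namespace Groth.Agent.S14813

/-- Let k be an arbitrary field and let X and X' be smooth, integral, proper k-schemes, X of dimension
n, with an étale k-morphism φ : X' → X (it is then finite étale); suppose φ is finite locally free
of constant degree d. Then χ(O_{X'}) = d · χ(O_X), where χ denotes the alternating sum of dim_k
H^i(·, O) over 0 ≤ i ≤ n (X' has dimension n as well). -/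
theorem result (k : Type u) [Field k] (X X' : Scheme.{u})
    [X.Over (Spec (CommRingCat.of k))] [X'.Over (Spec (CommRingCat.of k))]
    [IsProper (X ↘ Spec (CommRingCat.of k))] [IsProper (X' ↘ Spec (CommRingCat.of k))] [Smooth (X ↘ Spec (CommRingCat.of k))] [Smooth (X' ↘ Spec (CommRingCat.of k))]
    [IsIntegral X] [IsIntegral X'] (φ : X' ⟶ X) [Etale φ] (hφ : φ ≫ (X ↘ Spec (CommRingCat.of k)) = X' ↘ Spec (CommRingCat.of k))
    (d : ℕ) (hd : Mor2.IsFinLocFreeOfDeg d φ) (n : ℕ) (hn : topologicalKrullDim X = n) :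
    FGA.eulerCharLE k X' (Coh.structureModule X') n = d * FGA.eulerCharLE k X (Coh.structureModule X) n := by
  obtain ⟨⟨hfin, hflat, hlfp⟩, hr⟩ := hd
  haveI := hfin
  haveI := CurvLib.isNoetherian k (X := X)
  haveI := CurvLib.isNoetherian k (X := X')
  have hcl : Set.range φ = Set.univ :=
    IsClopen.eq_univ ⟨φ.isClosedMap.isClosed_range, φ.isOpenMap.isOpen_range⟩
      ⟨_, Set.mem_range_self (genericPoint X')⟩
  haveI : Surjective φ := ⟨Set.range_eq_univ.mp hcl⟩
  have hn' : topologicalKrullDim X' ≤ (n : ℕ) :=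
    ((AbSchLib.topologicalKrullDim_eq_of_finite_surjective φ).trans hn).le
  rw [HilbPolyLib.eulerCharLE_eq hn', HilbPolyLib.eulerCharLE_eq hn.le]
  have hE := FinCovLib.rank_push_of_isCover φ (d := d) ⟨⟨hfin, hflat, hlfp⟩, hr⟩
  rw [← CurvLib.euler_congr (k := k) (KFlatLib.pullUnitIso φ)]
  exact EtaleEulerLib.euler_pb_etale d X X' φ hφ hE 1 _
    (CurvLib.locFree_of_isInvertible CurvLib.isInvertible_structureModule)

end Groth.Agent.S14813
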