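import Groth.Statements.S14816
import Groth.Agent.AlbNormLib.FinOrbit

set_option autoImplicit false
set_option backward.isDefEq.respectTransparency false
set_option linter.style.haveILetI false
set_option maxHeartbeats 800000
universe u
open CategoryTheory MonoidalCategory CartesianMonoidalCategory MonObj GrpObj AlgebraicGeometry
open AbVar

namespace Groth.Agent.S14816

/-- Let k be an algebraically closed field of characteristic p > 0 which is algebraic over its prime
field (every element x satisfies x^(p^n) = x for some n ≥ 1) and let A be an abelian variety over k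
(a proper, geometrically integral group scheme over k). Then every k-rational point of A has finite
order in the group A(k) of k-points. -/
theorem result
    (p : ℕ) [Fact (Nat.Prime p)] (k : Type u) [Field k] [IsAlgClosed k] [CharP k p]
    (halg : ∀ x : k, ∃ n : ℕ, 0 < n ∧ x ^ (p ^ n) = x)
    (A : Over (Spec (CommRingCat.of k))) [GrpObj A] [IsProper A.hom] [GeometricallyIntegral A.hom]
    (a : 𝟙_ (Over (Spec (CommRingCat.of k))) ⟶ A) : IsOfFinOrder a := by
  let t : A ⟶ A := 𝟙 A * (toUnit A ≫ a)
  have hstep : ∀ m : ℕ, (a ^ m) ≫ t = a ^ (m + 1) := fun m => by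
    rw [MonObj.comp_mul, Category.comp_id, ← Category.assoc, toUnit_unique ((a ^ m) ≫ toUnit A) (𝟙 _),
      Category.id_comp, pow_succ]
  obtain ⟨S, hS, he, ht⟩ := AlbNormLib.finite_orbit A.hom halg t.left (Over.w t)
    (a ^ 0).left (Over.w (a ^ 0))
  have hmem : ∀ m : ℕ, (a ^ m).left ∈ S := by
    intro m
    induction m with
    | zero => exact he
    | succ m ih =>
      have := ht _ ih
      rwa [← Over.comp_left, hstep] at this
  obtain ⟨i, -, j, -, hij, h⟩ := Set.infinite_univ.exists_ne_map_eq_of_mapsTo (fun m _ => hmem m) hS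
  have h' : a ^ i = a ^ j := Over.OverMorphism.ext h
  exact isOfFinOrder_iff_pow_eq_one.2 (by
    rcases lt_or_gt_of_ne hij with hlt | hlt
    · exact ⟨j - i, Nat.sub_pos_of_lt hlt, by rw [pow_sub _ hlt.le, h', mul_inv_cancel]⟩
    · exact ⟨i - j, Nat.sub_pos_of_lt hlt, by rw [pow_sub _ hlt.le, h', mul_inv_cancel]⟩)

end Groth.Agent.S14816
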