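import Groth.Statements.S14819
import Mathlib
import Groth.Agent.TorsLineLib.Cocycle
import Groth.Agent.TorsLineLib.Root
import Groth.Agent.LocFFLib.Basic
-- import your own Groth.Agent.* helpers here

set_option autoImplicit false
universe u
open CategoryTheory CategoryTheory.Limits AlgebraicGeometry
open PicF

namespace Groth.Agent.S14819

/-- Let X be an integral Noetherian scheme which is normal (all local rings integrally closed domains)
and whose ring of global functions Γ(X, O_X) is a field of characteristic p > 0; let L be an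
invertible O_X-module of exact order d in Pic(X), i.e. L^{⊗d} ≅ O_X with d ≥ 1 and L^{⊗i} not
isomorphic to O_X for 0 < i < d, and suppose p divides d. Let X' be a connected scheme such that
every unit of Γ(X', O_{X'}) has a p-th root. Then no finite étale morphism f : X' → X (a finite
étale covering of X by X') satisfies f^*L ≅ O_{X'}. -/
theorem result (X X' : Scheme.{u})
    [IsIntegral X] [IsNoetherian X] (hnorm : Pi1.IsNormalScheme X)
    (hfield : IsField (Γ(X, ⊤) : Type u)) (p : ℕ) [Fact (Nat.Prime p)] [CharP (Γ(X, ⊤) : Type u) p]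
    (L : X.Modules) (hL : PicF.IsInvertible L) (d : ℕ) (hd : 0 < d)
    (hord : Nonempty (CohB1.tensorPow L d ≅ Coh.structureModule X))
    (hmin : ∀ i : ℕ, 0 < i → i < d → IsEmpty (CohB1.tensorPow L i ≅ Coh.structureModule X))
    (hpd : p ∣ d) [ConnectedSpace X']
    (hroot : ∀ u : (Γ(X', ⊤) : Type u), IsUnit u → ∃ v : (Γ(X', ⊤) : Type u), v ^ p = u)
    (f : X' ⟶ X) [IsFinite f] [Etale f] :
    IsEmpty ((Scheme.Modules.pullback f).obj L ≅ Coh.structureModule X') := by
  refine ⟨fun i0 => ?_⟩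
  obtain ⟨D⟩ := TorsLineLib.exists_data L hL d hord
  obtain ⟨m, rfl⟩ := hpd
  have hp : p.Prime := Fact.out
  have hm0 : 0 < m := Nat.pos_of_mul_pos_left hd
  have hmlt : m < p * m := lt_mul_left hm0 hp.one_lt
  obtain ⟨γ, hγ⟩ := CubeLib.exists_genOn_top ⟨i0⟩
  let W : X → X'.Opens := fun x => f ⁻¹ᵁ D.U x
  let F : ∀ x, Γ(X, D.U x) →+* Γ(X', W x) := fun x => (f.app (D.U x)).hom
  -- comparison of the pulled back generators with the trivialisation
  choose t ht using fun x => (hγ (W x) le_top).2 (KFlatLib.puSecLE f L (le_refl (W x)) (D.e x))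
  simp only at ht
  have htu : ∀ x, IsUnit (t x) := fun x => by
    refine CubeLib.isUnit_of_genOn (hγ.res (le_top : W x ≤ ⊤)) ?_
    rw [ht]
    exact CubeLib.genOn_puSecLE f (D.gen x) le_rfl
  have hcomm : ∀ {V V' : X.Opens} (h : V' ≤ V) (a : Γ(X, V)),
      TorsLineLib.rs (f.preimage_mono h) ((f.app V).hom a) = (f.app V').hom (TorsLineLib.rs h a) := fun h a =>
    (CommRingCat.comp_apply _ _ a).symm.trans ((congr($(f.naturality (homOfLE h).op) a)).symm.trans (CommRingCat.comp_apply _ _ a))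
  have htt : ∀ x y, TorsLineLib.rs (f.preimage_mono inf_le_left : f ⁻¹ᵁ (D.U x ⊓ D.U y) ≤ W x) (t x) =
      (f.app (D.U x ⊓ D.U y)).hom (D.u x y) *
        TorsLineLib.rs (f.preimage_mono inf_le_right : f ⁻¹ᵁ (D.U x ⊓ D.U y) ≤ W y) (t y) := fun x y => by
    refine (hγ (f ⁻¹ᵁ (D.U x ⊓ D.U y)) le_top).1 ?_
    have h1 := congrArg (KFlatLib.puSecLE f L (le_refl (f ⁻¹ᵁ (D.U x ⊓ D.U y)))) (D.u_spec x y)
    rw [KFlatLib.puSecLE_smul, CubeLib.puSecLE_res, CubeLib.puSecLE_res,
      ← CubeLib.res_puSecLE f L (le_refl (W x)) (f.preimage_mono inf_le_left),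
      ← CubeLib.res_puSecLE f L (le_refl (W y)) (f.preimage_mono inf_le_right), ← ht x, ← ht y,
      AmpleLib.res_smul, AmpleLib.res_smul, AmpleLib.res_res, AmpleLib.res_res, smul_smul, ← Scheme.Hom.app_eq_appLE] at h1
    exact h1
  choose ti hti using fun x => (htu x).exists_left_inv
  -- a global unit
  obtain ⟨h, hh, -⟩ := X'.sheaf.existsUnique_gluing' W ⊤ (fun x => homOfLE le_top)
    (fun z _ => TopologicalSpace.Opens.mem_iSup.2 ⟨f z, D.mem (f z)⟩) (fun x => F x (D.f x) * ti x ^ (p * m)) (fun x y => by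
      change TorsLineLib.rs (inf_le_left : W x ⊓ W y ≤ W x) (F x (D.f x) * ti x ^ (p * m)) =
        TorsLineLib.rs (inf_le_right : W x ⊓ W y ≤ W y) (F y (D.f y) * ti y ^ (p * m))
      have e1 := hcomm (inf_le_left : D.U x ⊓ D.U y ≤ D.U x) (D.f x)
      have e2 := hcomm (inf_le_right : D.U x ⊓ D.U y ≤ D.U y) (D.f y)
      have e3 := congrArg (f.app (D.U x ⊓ D.U y)).hom (D.f_spec x y)
      rw [map_mul, map_pow, ← e1, ← e2] at e3
      have a1 := congrArg (TorsLineLib.rs (inf_le_left : W x ⊓ W y ≤ W x)) (hti x)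
      have a2 := congrArg (TorsLineLib.rs (inf_le_right : W x ⊓ W y ≤ W y)) (hti y)
      rw [map_mul, map_one] at a1 a2
      have h3 := htt x y
      let uF : Γ(X', W x ⊓ W y) := (f.app (D.U x ⊓ D.U y)).hom (D.u x y)
      change TorsLineLib.rs (inf_le_left : W x ⊓ W y ≤ W x) (t x) = uF * TorsLineLib.rs (inf_le_right : W x ⊓ W y ≤ W y) (t y) at h3
      change TorsLineLib.rs (inf_le_left : W x ⊓ W y ≤ W x) (F x (D.f x)) =
        uF ^ (p * m) * TorsLineLib.rs (inf_le_right : W x ⊓ W y ≤ W y) (F y (D.f y)) at e3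
      rw [map_mul, map_mul, map_pow, map_pow, e3]
      rw [h3] at a1
      calc _ = TorsLineLib.rs (inf_le_right : W x ⊓ W y ≤ W y) (F y (D.f y)) *
            (uF * TorsLineLib.rs (inf_le_left : W x ⊓ W y ≤ W x) (ti x)) ^ (p * m) *
            (TorsLineLib.rs (inf_le_right : W x ⊓ W y ≤ W y) (ti y) * TorsLineLib.rs (inf_le_right : W x ⊓ W y ≤ W y) (t y)) ^ (p * m) := by
              rw [a2, one_pow, mul_one]; ring
        _ = TorsLineLib.rs (inf_le_right : W x ⊓ W y ≤ W y) (F y (D.f y)) * TorsLineLib.rs (inf_le_right : W x ⊓ W y ≤ W y) (ti y) ^ (p * m) *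
            (TorsLineLib.rs (inf_le_left : W x ⊓ W y ≤ W x) (ti x) * (uF *
              TorsLineLib.rs (inf_le_right : W x ⊓ W y ≤ W y) (t y))) ^ (p * m) := by ring
        _ = _ := by rw [a1, one_pow, mul_one])
  replace hh : ∀ x, TorsLineLib.rs (le_top : W x ≤ ⊤) h = F x (D.f x) * ti x ^ (p * m) := hh
  have hhu : IsUnit h := by
    refine X'.toRingedSpace.isUnit_of_isUnit_germ ⊤ h fun z hz => ?_
    have hz' : z ∈ W (f z) := D.mem (f z)
    rw [← TopCat.Presheaf.germ_res_apply X'.presheaf (homOfLE (le_top : W (f z) ≤ ⊤)) z hz' h]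
    change IsUnit (X'.presheaf.germ (W (f z)) z hz' (TorsLineLib.rs _ h))
    rw [hh]
    exact (((D.f_unit _).map _).mul ((IsUnit.of_mul_eq_one _ (hti _)).pow _)).map _
  obtain ⟨v, hv⟩ := hroot h hhu
  -- descend the root
  obtain ⟨z0⟩ := (inferInstance : Nonempty X')
  have hsurj : Function.Surjective f := by
    have ho : IsOpenMap f := f.isOpenMap
    have hc : IsClosedMap f := f.isClosedMap
    have := IsClopen.eq_univ (s := Set.range f) ⟨hc.isClosed_range, ho.isOpen_range⟩ ⟨f z0, z0, rfl⟩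
    exact Set.range_eq_univ.1 this
  have hne : ∀ x, Nonempty (D.U x) := fun x => ⟨⟨x, D.mem x⟩⟩
  have hchar : ∀ (V : X.Opens) [Nonempty V], CharP Γ(X, V) p := fun V hV => by
    letI := hfield.toField
    exact charP_of_injective_ringHom (TorsLineLib.rs (le_top : V ≤ ⊤)).injective p
  have hroot' : ∀ x, ∃ g : Γ(X, D.U x), g ^ p = D.f x := fun x => by
    haveI := hne x
    haveI := hchar (D.U x)
    haveI : IsIntegrallyClosed Γ(X, D.U x) := LocFFLib.isIntegrallyClosed_sections hnorm (D.U x)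
    letI : Algebra Γ(X, D.U x) Γ(X', W x) := (F x).toAlgebra
    have hE : (f.app (D.U x)).hom.Etale :=
      (Scheme.Hom.app_eq_appLE f) ▸ HasRingHomProperty.appLE @Etale f ‹_› ⟨D.U x, D.aff x⟩
        ⟨W x, (D.aff x).preimage f⟩ le_rfl
    haveI : Algebra.Etale Γ(X, D.U x) Γ(X', W x) := hE
    haveI : Algebra.FormallyUnramified Γ(X, D.U x) Γ(X', W x) := inferInstance
    haveI : Algebra.EssFiniteType Γ(X, D.U x) Γ(X', W x) := inferInstance
    have hfin : (f.app (D.U x)).hom.Finite := IsFinite.finite_app f (D.U x) (D.aff x)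
    have hint : (f.app (D.U x)).hom.IsIntegral := hfin.to_isIntegral
    have hW : Nontrivial Γ(X', W x) := by
      obtain ⟨z, hz⟩ := hsurj x
      have hz' : z ∈ W x := by change f z ∈ D.U x; rw [hz]; exact D.mem x
      haveI : Nonempty (W x) := ⟨⟨z, hz'⟩⟩
      infer_instance
    -- a prime over the generic point
    have hinj : Function.Injective (F x) := by
      rw [injective_iff_map_eq_zero]
      intro a ha
      by_contra hne0
      have hb : ¬ (X.basicOpen a) = ⊥ := fun h0 => hne0 ((basicOpen_eq_bot_iff a).1 h0)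
      obtain ⟨y, hy⟩ := (TopologicalSpace.Opens.ne_bot_iff_nonempty _).1 hb
      obtain ⟨z, rfl⟩ := hsurj y
      have hzm : z ∈ f ⁻¹ᵁ X.basicOpen a := hy
      rw [Scheme.preimage_basicOpen, show (f.app (D.U x)) a = 0 from ha, Scheme.basicOpen_zero] at hzm
      exact hzm
    haveI : Algebra.IsIntegral Γ(X, D.U x) Γ(X', W x) := ⟨hint⟩
    haveI : FaithfulSMul Γ(X, D.U x) Γ(X', W x) := (faithfulSMul_iff_algebraMap_injective _ _).2 hinj
    obtain ⟨Q, -, hQ1, hQ2⟩ := Ideal.exists_ideal_over_prime_of_isIntegral (S := Γ(X', W x)) (⊥ : Ideal Γ(X, D.U x)) ⊥ (by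
      rw [← RingHom.ker_eq_comap_bot, (RingHom.injective_iff_ker_eq_bot _).1 (show Function.Injective (algebraMap Γ(X, D.U x) Γ(X', W x)) from hinj)])
    haveI := hQ1
    refine TorsLineLib.exists_root_of_etale p Q hQ2 (D.f x) (TorsLineLib.rs (le_top : W x ≤ ⊤) v * t x ^ m) ?_
    rw [mul_pow, ← map_pow, hv, hh, ← pow_mul, mul_comm m p, mul_assoc, ← mul_pow, hti, one_pow, mul_one]
    rfl
  choose g hg using hroot'
  have hgu : ∀ x, IsUnit (g x) := fun x => (isUnit_pow_iff hp.ne_zero).1 ((hg x).symm ▸ D.f_unit x)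
  choose gi hgi using fun x => (hgu x).exists_left_inv
  refine (hmin m hm0 hmlt).false ((D.trivial_of_units m gi (fun x => IsUnit.of_mul_eq_one _ (hgi x)) fun x y => ?_).some)
  by_cases hV : Nonempty (D.U x ⊓ D.U y : X.Opens)
  swap
  · haveI : Subsingleton Γ(X, D.U x ⊓ D.U y) := by
      have : D.U x ⊓ D.U y = ⊥ := le_bot_iff.1 fun z hz => absurd ⟨⟨z, hz⟩⟩ hV
      rw [this]
      exact CommRingCat.subsingleton_of_isTerminal X.sheaf.isTerminalOfEmpty
    exact Subsingleton.elim _ _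
  haveI := hV
  haveI := hchar (D.U x ⊓ D.U y)
  have e1 := D.f_spec x y
  rw [← hg x, ← hg y, map_pow, map_pow, pow_mul', ← mul_pow] at e1
  have e2 := frobenius_inj Γ(X, D.U x ⊓ D.U y) p e1
  have a1 := congrArg (TorsLineLib.rs (inf_le_left : D.U x ⊓ D.U y ≤ D.U x)) (hgi x)
  have a2 := congrArg (TorsLineLib.rs (inf_le_right : D.U x ⊓ D.U y ≤ D.U y)) (hgi y)
  rw [map_mul, map_one] at a1 a2
  rw [e2] at a1
  calc _ = TorsLineLib.rs (inf_le_left : D.U x ⊓ D.U y ≤ D.U x) (gi x) * D.u x y ^ m *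
        (TorsLineLib.rs (inf_le_right : D.U x ⊓ D.U y ≤ D.U y) (gi y) * TorsLineLib.rs (inf_le_right : D.U x ⊓ D.U y ≤ D.U y) (g y)) := by
          rw [a2, mul_one]
    _ = TorsLineLib.rs (inf_le_right : D.U x ⊓ D.U y ≤ D.U y) (gi y) *
        (TorsLineLib.rs (inf_le_left : D.U x ⊓ D.U y ≤ D.U x) (gi x) * (D.u x y ^ m * TorsLineLib.rs (inf_le_right : D.U x ⊓ D.U y ≤ D.U y) (g y))) := by ring
    _ = _ := by rw [a1, mul_one]

end Groth.Agent.S14819
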