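import Groth.Statements.S14822
import Groth.Agent.PushNormalLib.Birat

set_option autoImplicit false
universe u
open CategoryTheory CategoryTheory.Limits AlgebraicGeometry
open CohIII

namespace Groth.Agent.S14822

/-- Let k be a field and f : X → Y a surjective k-morphism between integral proper k-schemes of the same
dimension, with Y normal (all local rings integrally closed domains). Then f is a fibration (Γ(U,
O_Y) → Γ(f⁻¹U, O_X) bijective for every open U ⊆ Y) if and only if f is birational: the embedding
K(Y) → K(X) of function fields given by the stalk map at the generic points is bijective. -/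
theorem result (k : Type u) [Field k]
    (X Y : Scheme.{u}) [X.Over (Spec (CommRingCat.of k))] [Y.Over (Spec (CommRingCat.of k))]
    [IsProper (X ↘ Spec (CommRingCat.of k))] [IsProper (Y ↘ Spec (CommRingCat.of k))] [IsIntegral X] [IsIntegral Y]
    (hY : Pi1.IsNormalScheme Y) (f : X ⟶ Y) [Surjective f] (hf : f ≫ (Y ↘ Spec (CommRingCat.of k)) = X ↘ Spec (CommRingCat.of k))
    (hdim : topologicalKrullDim ↥X = topologicalKrullDim ↥Y)
    (h : f.base (genericPoint ↥X) ⤳ genericPoint ↥Y) :
    (∀ U : Y.Opens, IsIso (f.app U)) ↔ Function.Bijective (CohIII.stalkToFunctionField f (genericPoint ↥Y) h) := by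
  haveI : IsProper (f ≫ (Y ↘ Spec (CommRingCat.of k))) := hf ▸ inferInstance
  haveI : IsProper f := IsProper.of_comp f (Y ↘ Spec (CommRingCat.of k))
  refine ⟨fun hiso => ?_, fun hbij U => PushNormalLib.isIso_app f h hY (fun x _ => hbij.2 x) U⟩
  haveI : CompactSpace X := QuasiCompact.compactSpace_of_compactSpace (X ↘ Spec (CommRingCat.of k))
  haveI : CompactSpace (Over.mk (X ↘ Spec (CommRingCat.of k))).left := inferInstanceAs (CompactSpace X)
  haveI : LocallyOfFiniteType (Over.mk (X ↘ Spec (CommRingCat.of k))).hom :=
    inferInstanceAs (LocallyOfFiniteType (X ↘ Spec (CommRingCat.of k)))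
  haveI : Nonempty (Over.mk (X ↘ Spec (CommRingCat.of k))).left := inferInstanceAs (Nonempty X)
  obtain ⟨n, hn⟩ := OrbitLib.exists_dim_eq_nat (Over.mk (X ↘ Spec (CommRingCat.of k)))
  refine PushNormalLib.bijective_of_isIso f h (fun z hz => ?_) hiso
  exact PushNormalLib.eq_generic_of_closedMap f.isClosedMap.specializingMap f.surjective
    (fun x => genericPoint_specializes x) ((h.antisymm (genericPoint_specializes _)).eq)
    hn.le (hdim ▸ hn.ge) hz

end Groth.Agent.S14822
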