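import Groth.Statements.S14825
import Groth.Agent.GenusZeroLib.Mult
import Groth.Agent.AlbLib.AVClass
-- import your own Groth.Agent.* helpers here

set_option autoImplicit false
set_option backward.isDefEq.respectTransparency false
set_option linter.style.haveILetI false
universe u
open CategoryTheory MonoidalCategory CartesianMonoidalCategory MonObj GrpObj AlgebraicGeometry
open AbVar

namespace Groth.Agent.S14825

/-- In the pointed case, let k be a field and X a proper k-scheme with H^0(X, O_X) one-dimensional and a
k-rational point x₀; let alb : X → A be the Albanese morphism (A an abelian variety over k — proper,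
geometrically integral group scheme — with alb(x₀) = 0, universal among pointed k-morphisms from X
to abelian varieties, the latter being geometrically reduced, connected, proper group schemes). Then
X has Albanese dimension zero, i.e. the image of alb is a single point of A (X is connected, so this
says the image is zero-dimensional), if and only if A is the trivial abelian variety, i.e. A → Spec
k is an isomorphism. (The published statement does not assume a rational point (it works with the
Albanese torsor); this row assumes one.) -/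
theorem result (k : Type u) [Field k] (X : Scheme.{u}) [X.Over (Spec (CommRingCat.of k))]
    [IsProper (X ↘ Spec (CommRingCat.of k))] (h0 : Module.finrank k (Coh.HH X (Coh.structureModule X) 0) = 1)
    (x₀ : 𝟙_ (Over (Spec (CommRingCat.of k))) ⟶ Over.mk (X ↘ Spec (CommRingCat.of k)))
    (A : Over (Spec (CommRingCat.of k))) [GrpObj A] [IsProper A.hom] [GeometricallyIntegral A.hom]
    (alb : Over.mk (X ↘ Spec (CommRingCat.of k)) ⟶ A) (halb : x₀ ≫ alb = η[A])
    (huniv : ∀ (B : Over (Spec (CommRingCat.of k))) [GrpObj B] [IsProper B.hom] [GeometricallyReduced B.hom] [ConnectedSpace ↥B.left]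
      (g : Over.mk (X ↘ Spec (CommRingCat.of k)) ⟶ B), x₀ ≫ g = η[B] → ∃! h : A ⟶ B, IsMonHom h ∧ alb ≫ h = g) :
    (Set.range alb.left.base).Subsingleton ↔ IsIso A.hom := by
  haveI : IsMonHom (𝟙 A) := inferInstance
  have he : (1 : 𝟙_ (Over (Spec (CommRingCat.of k))) ⟶ A) = η[A] := by
    rw [Hom.one_def, toUnit_unique (toUnit (𝟙_ (Over (Spec (CommRingCat.of k))))) (𝟙 _), Category.id_comp]
  constructor
  · intro hsub
    haveI : Nonempty X := ⟨x₀.left (IsLocalRing.closedPoint k)⟩
    have hρ : Function.Surjective (GenusZeroLib.ρ k (X := X)) := by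
      letI := GenusZeroLib.kmod k (Coh.structureModule X)
      have h : Module.finrank k Γ(Coh.structureModule X, ⊤) = 1 :=
        (GenusZeroLib.e0k k (Coh.structureModule X)).finrank_eq.symm.trans h0
      haveI : Nontrivial Γ(X, ⊤) := (X.presheaf.germ ⊤ (Classical.arbitrary X) trivial).hom.domain_nontrivial
      intro c
      obtain ⟨r, hr⟩ := (finrank_eq_one_iff_of_nonzero' (K := k)
        (show Γ(Coh.structureModule X, ⊤) from (1 : Γ(X, ⊤))) (show (1 : Γ(X, ⊤)) ≠ 0 from one_ne_zero)).mp h
        (show Γ(Coh.structureModule X, ⊤) from c)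
      exact ⟨r, (_root_.mul_one _).symm.trans hr⟩
    let xl : Spec (CommRingCat.of k) ⟶ X := x₀.left
    have hxl : xl ≫ (X ↘ Spec (CommRingCat.of k)) = 𝟙 _ := Over.w x₀
    have hinj : Function.Injective xl.appTop.hom := by
      intro c d hcd
      obtain ⟨c, rfl⟩ := hρ c
      obtain ⟨d, rfl⟩ := hρ d
      have h2 : ∀ a, xl.appTop.hom (GenusZeroLib.ρ k (X := X) a) = (Scheme.ΓSpecIso (CommRingCat.of k)).inv.hom a := by
        intro a
        have := congrArg (fun φ => φ.hom ((Scheme.ΓSpecIso (CommRingCat.of k)).inv.hom a)) (Scheme.Hom.comp_appTop xl (X ↘ Spec (CommRingCat.of k)))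
        rw [hxl] at this
        simp only [Scheme.Hom.id_app, CommRingCat.id_apply, CommRingCat.comp_apply] at this
        exact this.symm
      rw [h2, h2] at hcd
      rw [(ConcreteCategory.bijective_of_isIso (Scheme.ΓSpecIso (CommRingCat.of k)).inv).1 hcd]
    let e0 : ↥A.left := η[A].left (IsLocalRing.closedPoint k)
    obtain ⟨V, hV, heV, -⟩ := exists_isAffineOpen_mem_and_subset (X := A.left) (x := e0) (U := ⊤) trivial
    let one : Over.mk (X ↘ Spec (CommRingCat.of k)) ⟶ A := toUnit _ ≫ η[A]
    have hmem : Set.range alb.left ⊆ Set.range hV.fromSpec := by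
      rintro _ ⟨x, rfl⟩
      rw [hV.range_fromSpec]
      have : alb.left x = e0 := hsub ⟨x, rfl⟩ ⟨xl (IsLocalRing.closedPoint k), by
        exact (Scheme.Hom.comp_apply x₀.left alb.left _).symm.trans (congr($(congrArg CommaMorphism.left halb) (IsLocalRing.closedPoint k)))⟩
      exact this ▸ heV
    have hmem1 : Set.range one.left ⊆ Set.range hV.fromSpec := by
      rintro _ ⟨x, rfl⟩
      rw [hV.range_fromSpec]
      have : one.left x = e0 := by
        show ((toUnit (Over.mk (X ↘ Spec (CommRingCat.of k)))).left ≫ η[A].left) x = e0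
        exact (Scheme.Hom.comp_apply _ _ _).trans (congrArg _ (@Subsingleton.elim (PrimeSpectrum k) _ _ _))
      exact this ▸ heV
    have hx1 : x₀ ≫ one = η[A] := by
      rw [← Category.assoc, toUnit_unique (x₀ ≫ toUnit _) (𝟙 _), Category.id_comp]
    let la := IsOpenImmersion.lift hV.fromSpec alb.left hmem
    let lb := IsOpenImmersion.lift hV.fromSpec one.left hmem1
    have hlab : la = lb := by
      refine ext_of_isAffine ?_
      have h : xl ≫ la = xl ≫ lb := by
        rw [← cancel_mono hV.fromSpec, Category.assoc, Category.assoc, IsOpenImmersion.lift_fac, IsOpenImmersion.lift_fac]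
        exact congrArg CommaMorphism.left (halb.trans hx1.symm)
      have h2 := congrArg Scheme.Hom.appTop h
      rw [Scheme.Hom.comp_appTop, Scheme.Hom.comp_appTop] at h2
      haveI : Mono xl.appTop := ConcreteCategory.mono_of_injective _ hinj
      exact (cancel_mono xl.appTop).1 h2
    have halb1 : alb = one := Over.OverMorphism.ext (by
      rw [← IsOpenImmersion.lift_fac hV.fromSpec alb.left hmem, ← IsOpenImmersion.lift_fac hV.fromSpec one.left hmem1]
      exact congrArg (· ≫ hV.fromSpec) hlab)
    haveI : GeometricallyReduced A.hom := inferInstance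
    haveI : ConnectedSpace ↥A.left := AlbLib.connectedSpace_gi A
    obtain ⟨h, -, hu⟩ := huniv A alb halb
    have e1 : 𝟙 A = h := hu _ ⟨inferInstance, Category.comp_id _⟩
    haveI : GeometricallyIntegral A.hom := ‹_›
    have e2 : (1 : A ⟶ A) = h := hu _ ⟨AlbLib.isMonHom_of_pointed _ (by rw [MonObj.comp_one, he]), by
      rw [MonObj.comp_one, halb1, Hom.one_def]⟩
    refine ⟨η[A].left, ?_, ?_⟩
    · have := congrArg CommaMorphism.left (e1.trans e2.symm)
      rw [Hom.one_def] at this
      exact this.symm
    · exact Over.w η[A]
  · intro hiso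
    haveI : Subsingleton ↥(Spec (CommRingCat.of k)) := inferInstanceAs (Subsingleton (PrimeSpectrum k))
    haveI : Subsingleton ↥A.left := A.hom.homeomorph.injective.subsingleton
    exact Set.subsingleton_of_subsingleton
end Groth.Agent.S14825
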