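import Groth.Statements.S14830
import Groth.Agent.AlbLib.AVClass
import Groth.Agent.AlbLib.Split
import Groth.Agent.AlbLib.AVBasic
-- import your own Groth.Agent.* helpers here

set_option autoImplicit false
set_option backward.isDefEq.respectTransparency false
set_option linter.style.haveILetI false
universe u
open CategoryTheory MonoidalCategory CartesianMonoidalCategory MonObj GrpObj AlgebraicGeometry
open AbVar

namespace Groth.Agent.S14830

/-- Let k be a field and X, Y proper, geometrically integral k-schemes with k-rational points x₀ and y₀.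
Let albX : X → A and albY : Y → B be Albanese morphisms: A, B abelian varieties over k (proper,
geometrically integral group schemes), albX(x₀) = 0, albY(y₀) = 0, each universal among pointed
k-morphisms into abelian varieties (geometrically reduced, connected, proper group schemes). Then
the product morphism albX × albY : X ×_k Y → A ×_k B is the Albanese morphism of X ×_k Y pointed at
(x₀, y₀): for every abelian variety C and every k-morphism g : X ×_k Y → C with g(x₀, y₀) = 0 there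
is a unique homomorphism h : A ×_k B → C with (albX × albY) ≫ h = g. -/
theorem result (k : Type u) [Field k] (X Y : Scheme.{u}) [X.Over (Spec (CommRingCat.of k))] [Y.Over (Spec (CommRingCat.of k))]
    [IsProper (X ↘ Spec (CommRingCat.of k))] [IsProper (Y ↘ Spec (CommRingCat.of k))]
    [GeometricallyIntegral (X ↘ Spec (CommRingCat.of k))] [GeometricallyIntegral (Y ↘ Spec (CommRingCat.of k))]
    (x₀ : 𝟙_ (Over (Spec (CommRingCat.of k))) ⟶ Over.mk (X ↘ Spec (CommRingCat.of k))) (y₀ : 𝟙_ (Over (Spec (CommRingCat.of k))) ⟶ Over.mk (Y ↘ Spec (CommRingCat.of k)))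
    (A : Over (Spec (CommRingCat.of k))) [GrpObj A] [IsProper A.hom] [GeometricallyIntegral A.hom]
    (albX : Over.mk (X ↘ Spec (CommRingCat.of k)) ⟶ A) (halbX : x₀ ≫ albX = η[A])
    (hunivA : ∀ (C : Over (Spec (CommRingCat.of k))) [GrpObj C] [IsProper C.hom] [GeometricallyReduced C.hom] [ConnectedSpace ↥C.left]
      (g : Over.mk (X ↘ Spec (CommRingCat.of k)) ⟶ C), x₀ ≫ g = η[C] → ∃! h : A ⟶ C, IsMonHom h ∧ albX ≫ h = g)
    (B : Over (Spec (CommRingCat.of k))) [GrpObj B] [IsProper B.hom] [GeometricallyIntegral B.hom]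
    (albY : Over.mk (Y ↘ Spec (CommRingCat.of k)) ⟶ B) (halbY : y₀ ≫ albY = η[B])
    (hunivB : ∀ (C : Over (Spec (CommRingCat.of k))) [GrpObj C] [IsProper C.hom] [GeometricallyReduced C.hom] [ConnectedSpace ↥C.left]
      (g : Over.mk (Y ↘ Spec (CommRingCat.of k)) ⟶ C), y₀ ≫ g = η[C] → ∃! h : B ⟶ C, IsMonHom h ∧ albY ≫ h = g)
    (C : Over (Spec (CommRingCat.of k))) [GrpObj C] [IsProper C.hom] [GeometricallyReduced C.hom] [ConnectedSpace ↥C.left]
    (g : Over.mk (X ↘ Spec (CommRingCat.of k)) ⊗ Over.mk (Y ↘ Spec (CommRingCat.of k)) ⟶ C) (hg : lift x₀ y₀ ≫ g = η[C]) :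
    ∃! h : A ⊗ B ⟶ C, IsMonHom h ∧ (albX ⊗ₘ albY) ≫ h = g := by
  haveI : GeometricallyIntegral C.hom := AlbLib.geometricallyIntegral_of_reduced_connected C
  haveI : IsCommMonObj C := CubeConsLib.isCommMonObj_field
  haveI : GeometricallyIntegral (A ⊗ B).hom := CubeConsLib.geometricallyIntegral_prod A.hom B.hom
  haveI : IsProper (A ⊗ B).hom := inferInstanceAs (IsProper (Limits.pullback.fst A.hom B.hom ≫ A.hom))
  haveI : IsProper (Over.mk (X ↘ Spec (CommRingCat.of k))).hom := ‹IsProper (X ↘ Spec (CommRingCat.of k))›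
  haveI : IsProper (Over.mk (Y ↘ Spec (CommRingCat.of k))).hom := ‹IsProper (Y ↘ Spec (CommRingCat.of k))›
  haveI : GeometricallyIntegral (Over.mk (X ↘ Spec (CommRingCat.of k))).hom := ‹GeometricallyIntegral (X ↘ Spec (CommRingCat.of k))›
  haveI : GeometricallyIntegral (Over.mk (Y ↘ Spec (CommRingCat.of k))).hom := ‹GeometricallyIntegral (Y ↘ Spec (CommRingCat.of k))›
  let iX : Over.mk (X ↘ Spec (CommRingCat.of k)) ⟶ Over.mk (X ↘ Spec (CommRingCat.of k)) ⊗ Over.mk (Y ↘ Spec (CommRingCat.of k)) :=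
    lift (𝟙 _) (toUnit _ ≫ y₀)
  let iY : Over.mk (Y ↘ Spec (CommRingCat.of k)) ⟶ Over.mk (X ↘ Spec (CommRingCat.of k)) ⊗ Over.mk (Y ↘ Spec (CommRingCat.of k)) :=
    lift (toUnit _ ≫ x₀) (𝟙 _)
  have hx : x₀ ≫ iX = lift x₀ y₀ := by
    rw [comp_lift, Category.comp_id, ← Category.assoc, toUnit_unique (x₀ ≫ toUnit _) (𝟙 _), Category.id_comp]
  have hy : y₀ ≫ iY = lift x₀ y₀ := by
    rw [comp_lift, Category.comp_id, ← Category.assoc, toUnit_unique (y₀ ≫ toUnit _) (𝟙 _), Category.id_comp]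
  obtain ⟨hA, ⟨hA1, hA2⟩, hAu⟩ := hunivA C (iX ≫ g) (by rw [← Category.assoc, hx, hg])
  obtain ⟨hB, ⟨hB1, hB2⟩, hBu⟩ := hunivB C (iY ≫ g) (by rw [← Category.assoc, hy, hg])
  haveI := hA1
  haveI := hB1
  refine ⟨(fst A B ≫ hA) * (snd A B ≫ hB), ⟨AlbLib.isMonHom_of_pointed _ ?_, ?_⟩, fun h' hh => ?_⟩
  · rw [MonObj.comp_mul, ← Category.assoc, ← Category.assoc, show η[A ⊗ B] ≫ fst A B = η[A] from IsMonHom.one_hom (fst A B),
      show η[A ⊗ B] ≫ snd A B = η[B] from IsMonHom.one_hom (snd A B), IsMonHom.one_hom, IsMonHom.one_hom]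
    rw [show (η[C] : 𝟙_ _ ⟶ C) = 1 by rw [Hom.one_def, toUnit_unique (toUnit _) (𝟙 _), Category.id_comp], _root_.mul_one]
  · have hs := AlbLib.split g x₀ y₀
    rw [hg, ← Hom.one_def, inv_one, _root_.one_mul, mul_comm] at hs
    simp only [MonObj.comp_mul, tensorHom_fst_assoc, tensorHom_snd_assoc, hA2, hB2]
    exact hs.symm
  · obtain ⟨hh1, hh2⟩ := hh
    haveI := hh1
    let jA : A ⟶ A ⊗ B := lift (𝟙 A) (toUnit A ≫ η[B])
    let jB : B ⟶ A ⊗ B := lift (toUnit B ≫ η[A]) (𝟙 B)
    have hjA : η[A] ≫ jA = lift η[A] η[B] := by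
      rw [comp_lift, Category.comp_id, ← Category.assoc, toUnit_unique (η[A] ≫ toUnit _) (𝟙 _), Category.id_comp]
    have hjB : η[B] ≫ jB = lift η[A] η[B] := by
      rw [comp_lift, Category.comp_id, ← Category.assoc, toUnit_unique (η[B] ≫ toUnit _) (𝟙 _), Category.id_comp]
    have h0 : lift η[A] η[B] ≫ h' = η[C] := by
      rw [show lift η[A] η[B] = η[A ⊗ B] from CartesianMonoidalCategory.hom_ext _ _ (by simp) (by simp), IsMonHom.one_hom]
    have ea : jA ≫ h' = hA := hAu _ ⟨AlbLib.isMonHom_of_pointed _ (by rw [← Category.assoc, hjA, h0]), by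
      rw [← Category.assoc, ← hh2, ← Category.assoc]
      congr 1
      exact CartesianMonoidalCategory.hom_ext _ _ (by simp [jA, iX]) (by simp [jA, iX, halbY])⟩
    have eb : jB ≫ h' = hB := hBu _ ⟨AlbLib.isMonHom_of_pointed _ (by rw [← Category.assoc, hjB, h0]), by
      rw [← Category.assoc, ← hh2, ← Category.assoc]
      congr 1
      exact CartesianMonoidalCategory.hom_ext _ _ (by simp [jB, iY, halbX]) (by simp [jB, iY])⟩
    have hs := AlbLib.split h' η[A] η[B]
    rw [h0, ← Hom.one_def, inv_one, _root_.one_mul, mul_comm] at hs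
    rw [← ea, ← eb]
    exact hs
end Groth.Agent.S14830
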