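import Groth.Statements.S2913
import Mathlib.AlgebraicGeometry.Morphisms.UnderlyingMap

set_option autoImplicit false
open CategoryTheory CategoryTheory.Limits AlgebraicGeometry Opposite
universe u
open SGA1

namespace Groth.Agent.S2913

/-- Let g : S' ⟶ S be a surjective morphism of schemes such that for every open U of S the map O_S(U) →
O_{S'}(g⁻¹U) is injective. Then g is an epimorphism in the category of schemes. -/
theorem result {S' S : Scheme.{u}} (g : S' ⟶ S) [Surjective g]
    (hinj : ∀ U : S.Opens, Function.Injective (g.app U).hom) : Epi g := by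
  refine ⟨fun {Z} a b hab => ?_⟩
  have hb : a.base = b.base := by
    ext x
    obtain ⟨y, rfl⟩ := g.surjective x
    rw [← Scheme.Hom.comp_apply, hab, Scheme.Hom.comp_apply]
  refine Scheme.Hom.ext hb fun U => ?_
  have hmono : Mono (g.app (b ⁻¹ᵁ U)) := ConcreteCategory.mono_of_injective _ (hinj _)
  rw [← cancel_mono (g.app (b ⁻¹ᵁ U))]
  have h1 := Scheme.Hom.congr_app hab U
  rw [Scheme.Hom.comp_app, Scheme.Hom.comp_app] at h1
  rw [Category.assoc, g.naturality, ← Category.assoc, h1]
  refine Eq.trans (Category.assoc _ _ _) ?_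
  refine Eq.trans (congrArg _ ((Functor.map_comp S'.presheaf _ _).symm.trans
    ((congrArg S'.presheaf.map (Subsingleton.elim _ (𝟙 _))).trans (CategoryTheory.Functor.map_id _ _)))) ?_
  exact Category.comp_id _

end Groth.Agent.S2913
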