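import Groth.Statements.S14834
import Groth.Agent.S2913
import Groth.Agent.AlbLib.AVClass
-- import your own Groth.Agent.* helpers here

set_option autoImplicit false
set_option backward.isDefEq.respectTransparency false
set_option linter.style.haveILetI false
universe u
open CategoryTheory MonoidalCategory CartesianMonoidalCategory MonObj GrpObj AlgebraicGeometry
open AbVar

namespace Groth.Agent.S14834

/-- Let k be a field, X a proper k-scheme with H^0(X, O_X) = k (k → Γ(X, O_X) bijective) and a
k-rational point x₀, and alb : X → A the Albanese morphism (A an abelian variety — proper,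
geometrically integral group scheme — with alb(x₀) = 0, universal among pointed k-morphisms from X
to geometrically reduced, connected, proper group schemes). Let X → Y → A be a Stein factorisation
of alb: Y proper over k, r : X → Y a k-morphism with O_Y → r_*O_X an isomorphism, s : Y → A finite
with r ≫ s = alb. Then s is the Albanese morphism of Y pointed at r(x₀): for every abelian variety B
and every k-morphism g : Y → B with g(r(x₀)) = 0 there is a unique homomorphism h : A → B with s ≫ h
= g. (The published statement has no rational point and also identifies the maximal abelian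
subschemes of the Picard schemes of the Albanese, of Y and of X by pullback; this row is the pointed
statement about the Albanese of Y only.) -/
theorem result (k : Type u) [Field k] (X Y : Over (Spec (CommRingCat.of k)))
    [IsProper X.hom] [IsProper Y.hom] (h0 : Function.Bijective (X.hom.appTop).hom)
    (x₀ : 𝟙_ (Over (Spec (CommRingCat.of k))) ⟶ X)
    (A : Over (Spec (CommRingCat.of k))) [GrpObj A] [IsProper A.hom] [GeometricallyIntegral A.hom]
    (alb : X ⟶ A) (halb : x₀ ≫ alb = η[A])
    (huniv : ∀ (B : Over (Spec (CommRingCat.of k))) [GrpObj B] [IsProper B.hom] [GeometricallyReduced B.hom] [ConnectedSpace ↥B.left]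
      (g : X ⟶ B), x₀ ≫ g = η[B] → ∃! h : A ⟶ B, IsMonHom h ∧ alb ≫ h = g)
    (r : X ⟶ Y) (hr : ∀ U : Y.left.Opens, IsIso (r.left.app U)) (s : Y ⟶ A) [IsFinite s.left]
    (hrs : r ≫ s = alb)
    (B : Over (Spec (CommRingCat.of k))) [GrpObj B] [IsProper B.hom] [GeometricallyReduced B.hom] [ConnectedSpace ↥B.left]
    (g : Y ⟶ B) (hg : x₀ ≫ r ≫ g = η[B]) :
    ∃! h : A ⟶ B, IsMonHom h ∧ s ≫ h = g := by
  haveI : IsProper r.left := by
    haveI : IsProper (r.left ≫ Y.hom) := by rw [Over.w r]; infer_instance
    exact IsProper.of_comp r.left Y.hom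
  haveI : Surjective r.left := by
    let U : Y.left.Opens := ⟨(Set.range r.left)ᶜ, r.left.isClosedMap.isClosed_range.isOpen_compl⟩
    have hU : r.left ⁻¹ᵁ U = ⊥ := by
      ext x
      simpa [U] using ⟨x, rfl⟩
    haveI : Subsingleton Γ(X.left, r.left ⁻¹ᵁ U) :=
      CommRingCat.subsingleton_of_isTerminal (X.left.sheaf.isTerminalOfEqEmpty hU)
    haveI := hr U
    haveI : Subsingleton Γ(Y.left, U) :=
      ((ConcreteCategory.bijective_of_isIso (r.left.app U)).1).subsingleton
    refine ⟨fun y => ?_⟩
    by_contra h
    exact not_subsingleton_iff_nontrivial.2 (Y.left.presheaf.germ U y h).hom.domain_nontrivial ‹_›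
  haveI : Epi r.left := Groth.Agent.S2913.result r.left fun U => by
    haveI := hr U
    exact (ConcreteCategory.bijective_of_isIso (r.left.app U)).1
  haveI : Epi r := Over.epi_of_epi_left r
  obtain ⟨h, ⟨hh, hhg⟩, hu⟩ := huniv B (r ≫ g) (by rw [← hg])
  refine ⟨h, ⟨hh, ?_⟩, fun h' ⟨hh', hh'g⟩ => hu h' ⟨hh', ?_⟩⟩
  · rw [← cancel_epi r, ← Category.assoc, hrs, hhg]
  · rw [← hrs, Category.assoc, hh'g]
end Groth.Agent.S14834
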