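import Groth.Statements.S14835
import Groth.Agent.S1585
import Groth.Agent.S7811
import Groth.Agent.GenusPushLib.Main
import Groth.Agent.CurveH0Lib.Smooth
import Groth.Agent.SweepSix.GeomConn
import Groth.Agent.AbSchLib.DimFinite
import Groth.Agent.MiscFlat6.NormalLowDim
import Groth.Agent.CurveVBLib.Integral

set_option backward.isDefEq.respectTransparency.types false
set_option linter.style.haveILetI false
-- import your own Groth.Agent.* helpers here

set_option autoImplicit false
universe u
open CategoryTheory CategoryTheory.Limits AlgebraicGeometry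
open Curves

namespace Groth.Agent.S14835

/-- Let k be an algebraically closed field, C and B proper curves over k (proper k-schemes of dimension
one) with B connected and regular (all local rings regular), φ : C → B a k-morphism, and ι : C_i → C
a closed integral one-dimensional subscheme (an integral component) such that the composite C_i → B
is finite. Then dim_k H^1(C, O_C) ≥ dim_k H^1(C_i, O_{C_i}) ≥ dim_k H^1(B, O_B). -/
theorem result (k : Type u) [Field k] [IsAlgClosed k]
    (C B Ci : Scheme.{u}) [C.Over (Spec (CommRingCat.of k))] [B.Over (Spec (CommRingCat.of k))] [Ci.Over (Spec (CommRingCat.of k))]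
    [IsProper (C ↘ Spec (CommRingCat.of k))] [IsProper (B ↘ Spec (CommRingCat.of k))]
    (hC : topologicalKrullDim ↥C = 1) (hB : topologicalKrullDim ↥B = 1) [ConnectedSpace ↥B]
    (hBreg : ∀ b : B, IsRegularLocalRing (B.presheaf.stalk b))
    (φ : C ⟶ B) (hφ : φ ≫ (B ↘ Spec (CommRingCat.of k)) = C ↘ Spec (CommRingCat.of k))
    (ι : Ci ⟶ C) [IsClosedImmersion ι] [IsIntegral Ci] (hCi : topologicalKrullDim ↥Ci = 1)
    (hι : ι ≫ (C ↘ Spec (CommRingCat.of k)) = Ci ↘ Spec (CommRingCat.of k)) [IsFinite (ι ≫ φ)] :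
    Module.finrank k (Coh.HH Ci (Coh.structureModule Ci) 1) ≤ Module.finrank k (Coh.HH C (Coh.structureModule C) 1) ∧
      Module.finrank k (Coh.HH B (Coh.structureModule B) 1) ≤ Module.finrank k (Coh.HH Ci (Coh.structureModule Ci) 1) := by
  haveI : IsProper (Ci ↘ Spec (CommRingCat.of k)) := by rw [← hι]; infer_instance
  haveI := CurvLib.isNoetherian k (X := B)
  haveI := CurvLib.isNoetherian k (X := Ci)
  refine ⟨?_, ?_⟩
  · haveI : IsClosedImmersion (ι ∣_ (⊤ : C.Opens)) := inferInstance
    exact GenusPushLib.genus_le (k := k) hC.le ι hι ⊤ (by simp)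
  haveI : ∀ b : B, IsDomain (B.presheaf.stalk b) := fun b =>
    haveI := hBreg b
    CommAlgDim.isDomain_of_isRegularLocalRing _
  haveI : IsIntegral B := CurveVBLib.isIntegral_of_connected
  haveI : Smooth (B ↘ Spec (CommRingCat.of k)) := CurveH0Lib.smooth_of_regular k _ hBreg
  haveI : GeometricallyConnected (B ↘ Spec (CommRingCat.of k)) := SweepSix.GeomConn.gc_of_isAlgClosed _
  let N := Curv2.normalization Ci
  let ν := Curv2.normalizationι Ci
  obtain ⟨hfin, hdom, ⟨V, hV, hiso⟩, hint, hnorm⟩ := Groth.Agent.S1585.result k Ci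
  haveI : IsFinite ν := hfin
  haveI : IsDominant ν := hdom
  haveI : IsIntegral N := hint
  haveI : Surjective ν := ⟨by
    rw [← Set.range_eq_univ]
    exact (ν.isClosedMap.isClosed_range).closure_eq.symm.trans ν.denseRange.closure_range⟩
  letI : N.Over (Spec (CommRingCat.of k)) := ⟨ν ≫ (Ci ↘ Spec (CommRingCat.of k))⟩
  haveI : IsProper (N ↘ Spec (CommRingCat.of k)) := inferInstanceAs (IsProper (ν ≫ (Ci ↘ Spec (CommRingCat.of k))))
  haveI := CurvLib.isNoetherian k (X := N)
  have hN : topologicalKrullDim N = 1 := (AbSchLib.topologicalKrullDim_eq_of_finite_surjective ν).trans hCi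
  have hreg : ∀ x : N, IsRegularLocalRing (N.presheaf.stalk x) := fun x => by
    haveI := (hnorm x).1
    haveI := (hnorm x).2
    exact MiscFlat6.isRegularLocalRing_of_normal_dim_le_one _
      ((MiscFlat6.ringKrullDim_stalk_le N x).trans hN.le)
  haveI : Smooth (N ↘ Spec (CommRingCat.of k)) := CurveH0Lib.smooth_of_regular k _ hreg
  haveI : GeometricallyConnected (N ↘ Spec (CommRingCat.of k)) := SweepSix.GeomConn.gc_of_isAlgClosed _
  haveI : IsFinite (ν ≫ ι ≫ φ) := inferInstance
  have hover : (ν ≫ ι ≫ φ) ≫ (B ↘ Spec (CommRingCat.of k)) = N ↘ Spec (CommRingCat.of k) := by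
    rw [Category.assoc, Category.assoc, hφ, hι]
    rfl
  have h1 := Groth.Agent.S7811.result k (N ↘ Spec (CommRingCat.of k)) (B ↘ Spec (CommRingCat.of k)) hN hB
    (ν ≫ ι ≫ φ) hover
  haveI : IsIso (ν ∣_ V) := hiso
  have h2 : Curv2.genus k N ≤ Curv2.genus k Ci :=
    GenusPushLib.genus_le (k := k) hCi.le ν rfl V (V.isOpen.dense hV)
  exact h1.trans h2

end Groth.Agent.S14835
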