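import Groth.Statements.S14836
import Groth.Agent.CohCmpLib.PicApps
import Groth.Agent.CohCmpLib.FamilyPic2

set_option autoImplicit false
universe u
open CategoryTheory CategoryTheory.Limits AlgebraicGeometry
open Formal2

namespace Groth.Agent.S14836

/-- Let k be a field and f : X → Y a k-morphism between proper k-schemes which is a fibration, i.e. O_Y
→ f_*O_X is an isomorphism (Γ(V, O_Y) → Γ(f⁻¹V, O_X) bijective for every open V ⊆ Y). Then N ↦ f^*N
is injective on Picard groups: every invertible O_Y-module whose pullback to X is trivial is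
trivial. -/
theorem result (k : Type u) [Field k] (X Y : Scheme.{u})
    [X.Over (Spec (CommRingCat.of k))] [Y.Over (Spec (CommRingCat.of k))] [IsProper (X ↘ Spec (CommRingCat.of k))] [IsProper (Y ↘ Spec (CommRingCat.of k))]
    (f : X ⟶ Y) (hf : f ≫ (Y ↘ Spec (CommRingCat.of k)) = X ↘ Spec (CommRingCat.of k)) (hfib : ∀ V : Y.Opens, IsIso (f.app V)) :
    Formal2.PicPullbackInjective f := by
  intro L hL ⟨e⟩
  haveI := CohCmpLib.isIso_unitToPush_of_app f hfib
  have h := CohCmpLib.isIso_unit_of_unitToPush f (M := L)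
    (fun x => let ⟨U, h⟩ := (CohCmpLib.invertible_iff_rank_one L).1 hL x; ⟨U, 1, h⟩)
  exact ⟨@asIso _ _ _ _ ((Scheme.Modules.pullbackPushforwardAdjunction f).unit.app L) h ≪≫
    (Scheme.Modules.pushforward f).mapIso e ≪≫ (asIso (ClSub.unitToPush f)).symm⟩

end Groth.Agent.S14836
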