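import Groth.Statements.S14838
import Groth.Agent.DivFibLib.Main
-- import your own Groth.Agent.* helpers here

set_option autoImplicit false
universe u
open CategoryTheory CategoryTheory.Limits AlgebraicGeometry
open Canon

namespace Groth.Agent.S14838

/-- Let k be a field and X an integral proper k-scheme of dimension n which is Gorenstein: every local
ring is Cohen–Macaulay and X carries an invertible dualizing sheaf (ω_X, tr_X) in degree n (Hom(F,
ω_X) → H^n(X, F)^∨ bijective for all quasi-coherent F); assume ω_X is numerically trivial. Let i : D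
→ X be an integral effective Cartier divisor (integral closed subscheme with invertible ideal sheaf
I; O_X(D) an inverse of I) with a dualizing sheaf (ω_D, tr_D) in degree n − 1, let Y be a proper
k-scheme and f : X → Y a surjective k-morphism, and let m₁, m₂, m₃ ≥ 1 be integers with: (i)
ω_D^{⊗m₁} ≅ O_D and O_D(m₂D) = (O_X(D)|_D)^{⊗m₂} has a nonzero global section; (ii) ω_X^{⊗m₃} ≅ f^*N
for some invertible O_Y-module N; (iii) the restriction f|_D factors as D → Z → Y with O_Z → α_*O_D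
an isomorphism and β : Z → Y finite locally free of constant degree r (a flat Stein factorisation).
Then ω_X^{⊗(r·lcm(m₁,m₂,m₃))} ≅ O_X; thus ω_X has finite order in Pic(X) dividing r·lcm(m₁,m₂,m₃).
(The published statement prints the bound r·lcm(m₁, m₂, m₂); its proof takes m to be a common
multiple for which (i) and (ii) hold with m in place of m₁, m₂ and m₃, i.e. m = lcm(m₁, m₂, m₃),
which is the bound this row states.) -/
theorem result (k : Type u) [Field k]
    (X : Scheme.{u}) [X.Over (Spec (CommRingCat.of k))] [IsProper (X ↘ Spec (CommRingCat.of k))] [IsIntegral X] (n : ℕ) (hn : topologicalKrullDim ↥X = n)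
    (hCM : ∀ x : X, LocCoh.IsCohenMacaulayLocalRing (X.presheaf.stalk x))
    (ωX : X.Modules) (trX : Coh.HH X ωX n →ₗ[k] k) (hωX : Canon.IsRDualOver k X n ωX trX) (hωXinv : PicF.IsInvertible ωX)
    (hnum : Pic13.IsNumEquivZero k X ωX)
    (D : Scheme.{u}) (i : D ⟶ X) [IsClosedImmersion i] [IsIntegral D] (hI : PicF.IsInvertible (ClSub.idealMod i.ker))
    (OD : X.Modules) (hOD : ClSub.IsInverseOf OD (ClSub.idealMod i.ker))
    (Y : Scheme.{u}) [Y.Over (Spec (CommRingCat.of k))] [IsProper (Y ↘ Spec (CommRingCat.of k))] (f : X ⟶ Y) [Surjective f] (hf : f ≫ (Y ↘ Spec (CommRingCat.of k)) = X ↘ Spec (CommRingCat.of k))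
    (m₁ m₂ m₃ : ℕ) (hm₁ : 0 < m₁) (hm₂ : 0 < m₂) (hm₃ : 0 < m₃)
    (N : Y.Modules) (hN : PicF.IsInvertible N) (hii : Nonempty (CohB1.tensorPow ωX m₃ ≅ (Scheme.Modules.pullback f).obj N))
    (Z : Scheme.{u}) (α : D ⟶ Z) (β : Z ⟶ Y) (hαβ : α ≫ β = i ≫ f) (hα : ∀ V : Z.Opens, IsIso (α.app V))
    (r : ℕ) (hβ : Mor2.IsFinLocFreeOfDeg r β) :
    letI : D.Over (Spec (CommRingCat.of k)) := ⟨i ≫ (X ↘ Spec (CommRingCat.of k))⟩
    ∀ (ωD : D.Modules) (trD : Coh.HH D ωD (n - 1) →ₗ[k] k), Canon.IsRDualOver k D (n - 1) ωD trD →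
      Nonempty (CohB1.tensorPow ωD m₁ ≅ Coh.structureModule D) →
      ∀ (s : Coh.structureModule D ⟶ CohB1.tensorPow ((Scheme.Modules.pullback i).obj OD) m₂), s ≠ 0 →
        Nonempty (CohB1.tensorPow ωX (r * Nat.lcm m₁ (Nat.lcm m₂ m₃)) ≅ Coh.structureModule X) := by
  letI : D.Over (Spec (CommRingCat.of k)) := ⟨i ≫ (X ↘ Spec (CommRingCat.of k))⟩
  intro ωD trD hωD h₁ s hs
  have hd := (Groth.Agent.S14828.result k X n hn hCM
    (fun x hx => (DivFibLib.heq_of_integral k X x hx).trans hn) ωX trX hωX D i hI OD hOD).2 ωD trD hωD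
  exact DivFibLib.main k X n hn hCM ωX trX hωX hωXinv hnum D i hI OD hOD Y f m₁ m₂ m₃ hm₁ hm₂ hm₃ N hN hii Z α β hαβ hα r hβ rfl ωD hd h₁ s hs

end Groth.Agent.S14838
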