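import Groth.Statements.S14839
import Groth.Agent.ComodLib.LinRed
-- import your own Groth.Agent.* helpers here

set_option autoImplicit false
universe u v
open HopfRep

namespace Groth.Agent.S14839

open scoped ComodLib

open TensorProduct in
/-- Over a field K, every simple coalgebra is finite-dimensional. Here a subcoalgebra of C is a subspace
B whose comultiplication lands in the image of B ⊗ B in C ⊗ C, and C is simple when it is nonzero
and its only subcoalgebras are 0 and C. -/
theorem result {K : Type u} {C : Type v} [Field K] [AddCommGroup C]
    [Module K C] [Coalgebra K C] [Nontrivial C]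
    (hsimple : ∀ B : Submodule K C,
      (∀ b ∈ B, CoalgebraStruct.comul (R := K) b ∈ LinearMap.range (TensorProduct.map B.subtype B.subtype)) →
        B = ⊥ ∨ B = ⊤) :
    Module.Finite K C := by
  obtain ⟨c, hc⟩ := exists_ne (0 : C)
  let E := Submodule.span (ComodLib.Dual' K C) ({c} : Set C)
  have : FiniteDimensional K ↥(E.restrictScalars K) := ComodLib.finite_span_singleton C c
  let cE := ComodLib.subComod (ComodLib.isSubcomod_restrictScalars E)
  have : Nontrivial ↥(E.restrictScalars K) := by
    refine nontrivial_of_ne ⟨c, Submodule.mem_span_singleton_self c⟩ 0 ?_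
    exact fun e => hc (congrArg Subtype.val e)
  have hfin := ComodLib.finite_coeffSpace (k := K) (A := C) (V := ↥(E.restrictScalars K))
  rcases hsimple _ (ComodLib.isSubcoalg_coeffSpace (k := K) (A := C) (V := ↥(E.restrictScalars K))) with h | h
  · exact absurd ((Submodule.restrictScalars_eq_bot_iff K (ComodLib.Dual' K C) C).1 h)
      ComodLib.coeffSpace_ne_bot
  · rw [h] at hfin
    exact Module.Finite.equiv (Submodule.topEquiv (R := K) (M := C))

end Groth.Agent.S14839
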