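import Groth.Statements.S1484
import Mathlib.RingTheory.Algebraic.Integral


-- import your own Groth.Agent.* helpers here

set_option autoImplicit false
universe u
open FlatMor

namespace Groth.Agent.S1484

/-- Let R be a ring, p_1, …, p_r primes of R none of which is contained in another, k_i ⊆ κ(p_i)
subfields over which κ(p_i) is not algebraic, and J an ideal of R contained in none of the p_i. Then
some x ∈ J has image in κ(p_i) transcendental over k_i for every i. -/
theorem result {R : Type u} [CommRing R] {r : ℕ} (p : Fin r → Ideal R) [∀ i, (p i).IsPrime]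
    (hp : ∀ i j, i ≠ j → ¬ p i ≤ p j) (k : ∀ i, Subfield (p i).ResidueField)
    (hk : ∀ i, ¬ Algebra.IsAlgebraic ↥(k i) (p i).ResidueField) (J : Ideal R) (hJ : ∀ i, ¬ J ≤ p i) :
    ∃ x ∈ J, ∀ i, Transcendental ↥(k i) (algebraMap R (p i).ResidueField x) := by
  classical
  have key : ∀ i, ∃ x ∈ J ⊓ (Finset.univ.erase i).inf p,
      Transcendental ↥(k i) (algebraMap R (p i).ResidueField x) := by
    intro i
    have hI : ¬ J ⊓ (Finset.univ.erase i).inf p ≤ p i := by
      intro h
      rcases (Ideal.IsPrime.inf_le (inferInstance : (p i).IsPrime)).1 h with h | h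
      · exact hJ i h
      · obtain ⟨j, hj, hle⟩ := (Ideal.IsPrime.inf_le' (inferInstance : (p i).IsPrime)).1 h
        exact hp j i (Finset.mem_erase.1 hj).1 hle
    obtain ⟨a, ha, hai⟩ := SetLike.not_le_iff_exists.1 hI
    by_contra hc
    push Not at hc
    apply hk i
    have hint : ∀ y : R, IsAlgebraic ↥(k i) (algebraMap R (p i).ResidueField y) := by
      intro y
      have ha0 : algebraMap R (p i).ResidueField a ≠ 0 := by
        rwa [Ne, Ideal.algebraMap_residueField_eq_zero]
      have h1 : IsAlgebraic ↥(k i) (algebraMap R (p i).ResidueField a) := not_not.1 (hc a ha)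
      have h2 : IsAlgebraic ↥(k i) (algebraMap R (p i).ResidueField (y * a)) :=
        not_not.1 (hc _ (Ideal.mul_mem_left _ y ha))
      have : algebraMap R (p i).ResidueField y =
          algebraMap R (p i).ResidueField (y * a) * (algebraMap R (p i).ResidueField a)⁻¹ := by
        rw [map_mul, mul_assoc, mul_inv_cancel₀ ha0, mul_one]
      rw [this]
      exact (h2.isIntegral.mul h1.isIntegral.inv).isAlgebraic
    refine ⟨fun z => ?_⟩
    obtain ⟨b, c, hc0, rfl⟩ := IsFractionRing.div_surjective (A := R ⧸ p i) z
    obtain ⟨b, rfl⟩ := Ideal.Quotient.mk_surjective b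
    obtain ⟨c, rfl⟩ := Ideal.Quotient.mk_surjective c
    rw [div_eq_mul_inv]
    exact ((hint b).isIntegral.mul (hint c).isIntegral.inv).isAlgebraic
  choose x hx htr using key
  refine ⟨∑ i, x i, sum_mem fun i _ => (hx i).1, fun i => ?_⟩
  rw [map_sum, Finset.sum_eq_single i (fun j _ hji => ?_) (by simp)]
  · exact htr i
  · rw [Ideal.algebraMap_residueField_eq_zero]
    exact (Finset.inf_le (Finset.mem_erase.2 ⟨Ne.symm hji, Finset.mem_univ i⟩) : _ ≤ p i) (hx j).2

end Groth.Agent.S1484
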