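import Groth.Statements.S14840
import Groth.Agent.WeilResLib.Maps


-- import your own Groth.Agent.* helpers here

set_option autoImplicit false
open CategoryTheory MonoidalCategory CartesianMonoidalCategory AlgebraicGeometry
universe u
open AlgGrp

namespace Groth.Agent.S14840

/-- Let G be a group scheme over a scheme S, affine over S and with structure sheaf locally free over
O_S (each point of S has an affine open neighbourhood U such that the sections of O_G over the
preimage of U form a free module over the sections of O_S over U), acting on an S-scheme Y which is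
separated over S. Then the subfunctor of G-fixed points of Y is a closed subfunctor: there are an
S-scheme Z and a closed immersion i : Z → Y over S such that a T-valued point y of Y factors through
i exactly when it is fixed, i.e. g · y = y for every S-scheme T' over T and every T'-valued point g
of G. -/
theorem result
    {S : Scheme.{u}} (G Y : Over S) [GrpObj G] (a : AlgGrp.Action G Y)
    [IsAffineHom G.hom] [IsSeparated Y.hom]
    (hfree : ∀ s : S, ∃ U : S.affineOpens, s ∈ (U : S.Opens) ∧
      @Module.Free Γ(S, U) Γ(G.left, G.hom ⁻¹ᵁ U) _ _ (G.hom.app U).hom.toAlgebra.toModule) :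
    ∃ (Z : Over S) (i : Z ⟶ Y), IsClosedImmersion i.left ∧
      ∀ (T : Over S) (y : T ⟶ Y),
        (∀ (T' : Over S) (t : T' ⟶ T) (g : T' ⟶ G), lift g (t ≫ y) ≫ a.act = t ≫ y) ↔
          ∃ z : T ⟶ Z, z ≫ i = y := by
  obtain ⟨Z, z, hz, hZ, -⟩ := Groth.Agent.WeilRes.exists_eqLocus_essFree (lift (snd Y G) (fst Y G) ≫ a.act) (fst Y G)
    (Groth.Agent.WeilRes.isEssentiallyFree_of_affine G.hom fun s => by
      obtain ⟨U, hsU, hU⟩ := hfree s
      refine ⟨U, hsU, ?_⟩
      letI := (G.hom.app U).hom.toAlgebra
      haveI : Module.Free Γ(S, U) Γ(G.left, G.hom ⁻¹ᵁ U) := hU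
      exact Module.Projective.of_free)
  refine ⟨Z, z, hz, fun T y => Iff.trans ?_ (hZ T y).symm⟩
  refine forall₃_congr fun S'' s x => ?_
  simp only [comp_lift_assoc, lift_fst, lift_snd]

end Groth.Agent.S14840
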