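import Groth.Statements.S14842
import Groth.Agent.ComodLib.LinRed
-- import your own Groth.Agent.* helpers here

set_option autoImplicit false
universe u v
open HopfRep

namespace Groth.Agent.S14842

open scoped ComodLib

open TensorProduct in
/-- Over a field K, every simple subcoalgebra D of a coalgebra C is the coefficient space of a simple
comodule. Precisely: there is a subspace E of C contained in D which is a simple subcomodule of the
regular right comodule C (E is nonzero, stable under the coaction, and its only subcomodules are 0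
and E) and such that D is the least subspace D' of C with comul(E) inside the image of E ⊗ D'. Here
a subcoalgebra of C is a subspace B whose comultiplication lands in the image of B ⊗ B, and a simple
subcoalgebra is a nonzero subcoalgebra D whose only subcoalgebras contained in D are 0 and D.
(Stated for right comodules; the published statement is for left comodules.) -/
theorem result {K : Type u} {C : Type v} [Field K]
    [AddCommGroup C] [Module K C] [Coalgebra K C]
    (D : Submodule K C) (hD0 : D ≠ ⊥) (hD : (∀ b ∈ D, CoalgebraStruct.comul (R := K) b ∈ LinearMap.range (TensorProduct.map D.subtype D.subtype)))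
    (hDs : ∀ B : Submodule K C, B ≤ D → (∀ b ∈ B, CoalgebraStruct.comul (R := K) b ∈ LinearMap.range (TensorProduct.map B.subtype B.subtype)) → B = ⊥ ∨ B = D) :
    ∃ E : Submodule K C, E ≤ D ∧ E ≠ ⊥ ∧ HopfRep.IsSubcomod (k := K) (A := C) E ∧
      (∀ E' : Submodule K C, E' ≤ E → HopfRep.IsSubcomod (k := K) (A := C) E' → E' = ⊥ ∨ E' = E) ∧
      IsLeast {D' : Submodule K C |
        ∀ e ∈ E, CoalgebraStruct.comul (R := K) e ∈ LinearMap.range (TensorProduct.map E.subtype D'.subtype)} D := by
  have hB : ComodLib.IsSubcoalg D := hD
  obtain ⟨N, hN, hNs⟩ := ComodLib.exists_simple_le C (S := hB.sub) (fun h => hD0 (by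
    have := congrArg (Submodule.restrictScalars K) h
    rwa [Submodule.restrictScalars_bot] at this))
  let E := N.restrictScalars K
  have hE := ComodLib.isSubcomod_restrictScalars (A := C) N
  obtain ⟨hE0, hEs⟩ := (ComodLib.isSimple_sub_iff N).1 hNs
  refine ⟨E, hN, hE0, hE, fun E' hle hE' => hEs E' hE' hle, ?_⟩
  let cE := ComodLib.subComod hE
  have hiff : ∀ D' : Submodule K C,
      (∀ e ∈ E, CoalgebraStruct.comul (R := K) e ∈
          LinearMap.range (TensorProduct.map E.subtype D'.subtype)) ↔
        (ComodLib.coeffSpace C K E).restrictScalars K ≤ D' := by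
    intro D'
    rw [← ComodLib.coact_mem_coeffSpace_iff]
    have hsub : ∀ e : E, E.subtype.rTensor C (cE.coact e) = CoalgebraStruct.comul (R := K) (e : C) :=
      fun e => LinearMap.congr_fun (ComodLib.isComodHom_subtype hE).symm e
    constructor
    · intro h e
      obtain ⟨y, hy⟩ := h e e.2
      refine ⟨y, Module.Flat.rTensor_preserves_injective_linearMap (M := C) _ E.injective_subtype ?_⟩
      rw [hsub, ← hy, ← LinearMap.comp_apply, LinearMap.rTensor_comp_lTensor]
    · intro h e he
      obtain ⟨y, hy⟩ := h ⟨e, he⟩
      refine ⟨y, ?_⟩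
      rw [← LinearMap.rTensor_comp_lTensor, LinearMap.comp_apply, hy, hsub]
  have hED : (ComodLib.coeffSpace C K E).restrictScalars K ≤ D := by
    refine (hiff D).1 fun e he => ?_
    obtain ⟨y, hy⟩ := hD e (hN he)
    have h1 : CoalgebraStruct.comul (R := K) e ∈ LinearMap.range (E.subtype.rTensor C) := hE e he
    obtain ⟨z, hz⟩ := h1
    have h2 : ∀ g, ComodLib.sliceL g (CoalgebraStruct.comul (R := K) e) ∈ D := fun g =>
      ComodLib.sliceL_mem_of_mem_range D g ⟨D.subtype.rTensor D y, by
        rw [← LinearMap.comp_apply, LinearMap.lTensor_comp_rTensor, hy]⟩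
    obtain ⟨w, hw⟩ : z ∈ LinearMap.range (D.subtype.lTensor E) := by
      rw [ComodLib.mem_range_lTensor_iff]
      intro g
      obtain ⟨g', rfl⟩ : ∃ g' : C →ₗ[K] K, g' ∘ₗ E.subtype = g := LinearMap.exists_extend g
      rw [← ComodLib.sliceL_rTensor, hz]
      exact h2 g'
    refine ⟨w, ?_⟩
    rw [← LinearMap.rTensor_comp_lTensor, LinearMap.comp_apply, hw, hz]
  have : Nontrivial E := Submodule.nontrivial_iff_ne_bot.2 hE0
  have heq : (ComodLib.coeffSpace C K E).restrictScalars K = D := by
    rcases hDs _ hED (ComodLib.isSubcoalg_coeffSpace (k := K) (A := C) (V := E)) with h | h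
    · exact absurd ((Submodule.restrictScalars_eq_bot_iff K (ComodLib.Dual' K C) C).1 h)
        ComodLib.coeffSpace_ne_bot
    · exact h
  exact ⟨(hiff D).2 hED, fun D' hD' => heq ▸ (hiff D').1 hD'⟩

end Groth.Agent.S14842
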