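import Groth.Statements.S14843
import Groth.Agent.ComodLib.Semisimple
-- import your own Groth.Agent.* helpers here

set_option autoImplicit false
universe u v
open HopfRep

namespace Groth.Agent.S14843

open scoped ComodLib

open TensorProduct in
/-- Over a field K, a coalgebra C is cosemisimple, i.e. C is the internal direct sum of a family of
simple subcoalgebras, if and only if every right C-comodule is completely reducible (every
subcomodule admits a complementary subcomodule). Here a subcoalgebra of C is a subspace B whose
comultiplication lands in the image of B ⊗ B, and a simple subcoalgebra is a nonzero subcoalgebra D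
whose only subcoalgebras contained in D are 0 and D. (Comodules are quantified in the universe of C;
the published statement is for left comodules, and the equivalence of 'direct sum of simple
subcomodules' with 'every subcomodule is a direct summand' is the standard one.) -/
theorem result {K : Type u} {C : Type v} [Field K]
    [AddCommGroup C] [Module K C] [Coalgebra K C] :
    (∃ (ι : Type v) (D : ι → Submodule K C), iSupIndep D ∧ iSup D = ⊤ ∧ ∀ i,
        D i ≠ ⊥ ∧ (∀ b ∈ D i, CoalgebraStruct.comul (R := K) b ∈ LinearMap.range (TensorProduct.map (D i).subtype (D i).subtype)) ∧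
        ∀ B : Submodule K C, B ≤ D i → (∀ b ∈ B, CoalgebraStruct.comul (R := K) b ∈ LinearMap.range (TensorProduct.map B.subtype B.subtype)) → B = ⊥ ∨ B = D i) ↔
      ∀ (V : Type v) [AddCommGroup V] [Module K V] [HopfRep.Comod K C V],
        HopfRep.IsSemisimpleComod K C V := by
  constructor
  · rintro ⟨ι, D, -, htop, hD⟩ V _ _ _
    have hsub : ∀ i, ComodLib.IsSubcoalg (D i) := fun i => (hD i).2.1
    rw [ComodLib.isSemisimpleComod_iff]
    refine ComodLib.isSemisimpleModule_of_self ?_
    refine isSemisimpleModule_of_isSemisimpleModule_submodule' (p := fun i => (hsub i).sub)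
      (fun i => ComodLib.isSemisimpleModule_simple_subcoalg (hsub i) (hD i).1 (hD i).2.2) ?_
    exact ComodLib.restrictScalars_iSup_eq_top.1 htop
  · intro h
    have : IsSemisimpleModule (ComodLib.Dual' K C) C := ComodLib.isSemisimpleComod_iff.1 (h C)
    let cs := isotypicComponents (ComodLib.Dual' K C) C
    refine ⟨cs, fun c => c.1.restrictScalars K, ?_, ?_, ?_⟩
    · rw [ComodLib.restrictScalars_iSupIndep]
      exact (sSupIndep_iff _).1 (sSupIndep_isotypicComponents _ _)
    · rw [ComodLib.restrictScalars_iSup_eq_top, ← sSup_eq_iSup']
      exact sSup_isotypicComponents _ _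
    · rintro ⟨c, hc⟩
      refine ⟨fun e => (bot_lt_isotypicComponents hc).ne'
        ((Submodule.restrictScalars_eq_bot_iff K (ComodLib.Dual' K C) C).1 e), ?_, ?_⟩
      · obtain ⟨N, hN, rfl⟩ := hc
        exact ComodLib.isSubcoalg_restrictScalars fun g x hx =>
          (Submodule.IsFullyInvariant.isotypicComponent _ C N) (ComodLib.coeff (A := C) g) hx
      · intro B hle hB
        obtain ⟨N, hN, rfl⟩ := hc
        have hB' : ComodLib.IsSubcoalg B := hB
        have hle' : hB'.sub ≤ isotypicComponent (ComodLib.Dual' K C) C N := hle
        rcases IsSemisimpleModule.eq_bot_or_exists_simple_le hB'.sub with h0 | ⟨m, hm, hms⟩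
        · left
          have := congrArg (Submodule.restrictScalars K) h0
          rwa [Submodule.restrictScalars_bot] at this
        · right
          refine le_antisymm hle (sSup_le ?_ :
            isotypicComponent (ComodLib.Dual' K C) C N ≤ hB'.sub)
          rintro m' ⟨e'⟩
          obtain ⟨e⟩ := isIsotypicOfType_submodule_iff.1
            (IsIsotypicOfType.isotypicComponent _ C (S := N)) m (hm.trans hle')
          have := ComodLib.le_of_hom hB' hm (e.trans e'.symm).toLinearMap
            (e.trans e'.symm).surjective m'.subtype
          rwa [Submodule.range_subtype] at this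

end Groth.Agent.S14843
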