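import Groth.Statements.S14844
import Mathlib.RingTheory.Flat.Basic
import Mathlib.Algebra.DirectSum.Decomposition
-- import your own Groth.Agent.* helpers here

set_option autoImplicit false
universe u v w w'
open HopfRep

namespace Groth.Agent.S14844

open TensorProduct in
/-- Let R be a commutative ring and C an R-coalgebra, flat over R, which is the internal direct sum of
subcoalgebras D_i (submodules whose comultiplication lands in the image of D_i ⊗ D_i, independent
and with supremum C). Then every right C-comodule V is the internal direct sum of the subcomodules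
V_i, where V_i is the preimage under the coaction of the image of V ⊗ D_i in V ⊗ C, and the coaction
maps V_i into the image of V_i ⊗ D_i, so that the comodule structure of V_i reduces to a
D_i-comodule structure. (The published statement is for a flat sheaf of coalgebras over a base
scheme and left comodules on a scheme over it; this row is the case of an affine base with modules
of global sections, for right comodules.) -/
theorem result {R : Type u} {C : Type v} [CommRing R]
    [AddCommGroup C] [Module R C] [Coalgebra R C] [Module.Flat R C]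
    {ι : Type w} (D : ι → Submodule R C)
    (hD : ∀ i, ∀ d ∈ D i, CoalgebraStruct.comul (R := R) d ∈
      LinearMap.range (TensorProduct.map (D i).subtype (D i).subtype))
    (hind : iSupIndep D) (htop : iSup D = ⊤)
    {V : Type w'} [AddCommGroup V] [Module R V] [HopfRep.Comod R C V] :
    (∀ i, HopfRep.IsSubcomod (k := R) (A := C) ((LinearMap.range (LinearMap.lTensor V (D i).subtype)).comap
        (HopfRep.Comod.coact (k := R) (A := C) (V := V)))) ∧
    iSupIndep (fun i => ((LinearMap.range (LinearMap.lTensor V (D i).subtype)).comap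
        (HopfRep.Comod.coact (k := R) (A := C) (V := V)))) ∧
    (⨆ i, ((LinearMap.range (LinearMap.lTensor V (D i).subtype)).comap
        (HopfRep.Comod.coact (k := R) (A := C) (V := V)))) = ⊤ ∧
    ∀ i, ∀ v ∈ ((LinearMap.range (LinearMap.lTensor V (D i).subtype)).comap
        (HopfRep.Comod.coact (k := R) (A := C) (V := V))),
      HopfRep.Comod.coact (k := R) (A := C) v ∈
        LinearMap.range (TensorProduct.map ((LinearMap.range (LinearMap.lTensor V (D i).subtype)).comap
        (HopfRep.Comod.coact (k := R) (A := C) (V := V))).subtype (D i).subtype) := by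
  classical
  have hint : DirectSum.IsInternal D := DirectSum.isInternal_submodule_of_iSupIndep_of_iSup_eq_top hind htop
  let e := LinearEquiv.ofBijective (DirectSum.coeLinearMap D) hint
  let cp : ∀ i, C →ₗ[R] D i := fun i =>
    (DirectSum.component R ι (fun i => (D i : Type v)) i) ∘ₗ e.symm.toLinearMap
  let p : ι → C →ₗ[R] C := fun i => (D i).subtype ∘ₗ cp i
  have hp : ∀ i j (d : C), d ∈ D j → p i d = if i = j then d else 0 := by
    intro i j d hd
    have : e.symm d = DirectSum.lof R ι (fun i => (D i : Type v)) j ⟨d, hd⟩ :=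
      e.symm_apply_eq.2 (DirectSum.coeLinearMap_of D j ⟨d, hd⟩).symm
    show ((DirectSum.component R ι (fun i => (D i : Type v)) i (e.symm d) : D i) : C) = _
    rw [this, DirectSum.component.of]
    split
    next h => subst h; simp
    next h => rw [if_neg (fun e => h e.symm)]; rfl
  -- supports
  have hfin : ∀ c : C, ∃ s : Finset ι, ∀ t, s ⊆ t → ∑ i ∈ t, p i c = c := by
    intro c
    have hc : c ∈ iSup D := htop ▸ Submodule.mem_top
    induction hc using Submodule.iSup_induction' with
    | mem j d hd =>
      exact ⟨{j}, fun t ht => by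
        simp [fun i => hp i j d hd, Finset.singleton_subset_iff.1 ht]⟩
    | zero => exact ⟨∅, fun t _ => by simp⟩
    | add x y _ _ hx hy =>
      obtain ⟨s, hs⟩ := hx
      obtain ⟨s', hs'⟩ := hy
      exact ⟨s ∪ s', fun t ht => by
        simp only [map_add, Finset.sum_add_distrib,
          hs t (Finset.union_subset_left ht), hs' t (Finset.union_subset_right ht)]⟩
  have hfin2 : ∀ x : V ⊗[R] C, ∃ s : Finset ι, ∀ t, s ⊆ t → ∑ i ∈ t, (p i).lTensor V x = x := by
    intro x
    induction x with
    | zero => exact ⟨∅, fun t _ => by simp⟩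
    | tmul v c =>
      obtain ⟨s, hs⟩ := hfin c
      exact ⟨s, fun t ht => by simp [← TensorProduct.tmul_sum, hs t ht]⟩
    | add x y hx hy =>
      obtain ⟨s, hs⟩ := hx
      obtain ⟨s', hs'⟩ := hy
      exact ⟨s ∪ s', fun t ht => by
        simp only [map_add, Finset.sum_add_distrib,
          hs t (Finset.union_subset_left ht), hs' t (Finset.union_subset_right ht)]⟩
  set ρ : V →ₗ[R] V ⊗[R] C := HopfRep.Comod.coact (k := R) (A := C) with hρ
  set Δ : C →ₗ[R] C ⊗[R] C := CoalgebraStruct.comul (R := R) with hΔ
  have ext_D : ∀ {X : Type v} [AddCommGroup X] [Module R X] (f g : C →ₗ[R] X),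
      (∀ j, ∀ d ∈ D j, f d = g d) → f = g := by
    intro X _ _ f g h
    refine LinearMap.ext fun c => ?_
    have hc : c ∈ iSup D := htop ▸ Submodule.mem_top
    induction hc using Submodule.iSup_induction' with
    | mem j d hd => exact h j d hd
    | zero => simp
    | add x y _ _ hx hy => simp [hx, hy]
  have hmap : ∀ (f g : C →ₗ[R] C) j (d : C), d ∈ D j → (∀ y ∈ D j, f y = g y) →
      ∀ l : C →ₗ[R] C, TensorProduct.map l f (Δ d) = TensorProduct.map l g (Δ d) ∧
        TensorProduct.map f l (Δ d) = TensorProduct.map g l (Δ d) := by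
    intro f g j d hd h l
    obtain ⟨y, hy⟩ := hD j d hd
    have hc : f ∘ₗ (D j).subtype = g ∘ₗ (D j).subtype := LinearMap.ext fun z => h z z.2
    rw [← hy]
    simp only [← LinearMap.comp_apply, ← TensorProduct.map_comp, hc, and_self]
  have hcomm : ∀ i, Δ ∘ₗ p i = (p i).lTensor C ∘ₗ Δ := by
    intro i
    refine ext_D _ _ fun j d hd => ?_
    simp only [LinearMap.comp_apply, hp i j d hd, LinearMap.lTensor]
    by_cases h : i = j
    · rw [if_pos h, (hmap (p i) LinearMap.id j d hd (fun y hy => (hp i j y hy).trans (if_pos h)) _).1,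
        TensorProduct.map_id]
      rfl
    · rw [if_neg h, (hmap (p i) 0 j d hd (fun y hy => (hp i j y hy).trans (if_neg h)) _).1,
        TensorProduct.map_zero_right, map_zero]
      rfl
  have hq : ∀ i, ((LinearMap.id - p i).rTensor C) ∘ₗ Δ ∘ₗ p i = 0 := by
    intro i
    refine ext_D _ _ fun j d hd => ?_
    simp only [LinearMap.comp_apply, hp i j d hd, LinearMap.rTensor, LinearMap.zero_apply]
    by_cases h : i = j
    · rw [if_pos h, (hmap (LinearMap.id - p i) 0 j d hd (fun y hy => by simp [(hp i j y hy).trans (if_pos h)]) _).2,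
        TensorProduct.map_zero_left]
      rfl
    · rw [if_neg h, map_zero, map_zero]
  have coassoc : ∀ v : V, TensorProduct.assoc R V C C (ρ.rTensor C (ρ v)) = Δ.lTensor V (ρ v) :=
    LinearMap.congr_fun (HopfRep.Comod.coassoc (k := R) (A := C) (V := V))
  have hkey : ∀ i v, ρ.rTensor C ((p i).lTensor V (ρ v)) =
      (TensorProduct.assoc R V C C).symm (Δ.lTensor V ((p i).lTensor V (ρ v))) := by
    intro i v
    rw [show Δ.lTensor V ((p i).lTensor V (ρ v)) = ((p i).lTensor C).lTensor V (Δ.lTensor V (ρ v))
      from (LinearMap.lTensor_comp_apply V Δ (p i) (ρ v)).symm.trans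
        ((congrArg (fun f => LinearMap.lTensor V f (ρ v)) (hcomm i)).trans
          (LinearMap.lTensor_comp_apply V _ _ _)), ← coassoc]
    generalize ρ v = x
    rw [LinearEquiv.eq_symm_apply]
    induction x with
    | zero => simp
    | tmul w c =>
      simp only [LinearMap.lTensor_tmul, LinearMap.rTensor_tmul]
      generalize ρ w = z
      induction z with
      | zero => simp [TensorProduct.zero_tmul]
      | tmul a b => simp
      | add z z' hz hz' => simp only [TensorProduct.add_tmul, map_add, hz, hz']
    | add x y hx hy => simp only [map_add, hx, hy]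
  -- the counit
  let ev : V ⊗[R] C →ₗ[R] V := (TensorProduct.rid R V).toLinearMap ∘ₗ
    (CoalgebraStruct.counit (R := R) (A := C)).lTensor V
  have hev : ∀ v, ev (ρ v) = v := by
    intro v
    have h := LinearMap.congr_fun (HopfRep.Comod.counit_comp (k := R) (A := C) (V := V)) v
    simp only [LinearMap.comp_apply] at h
    show TensorProduct.rid R V _ = v
    rw [h]; simp
  have hρev : ∀ y : V ⊗[R] C, ρ.rTensor C y = (TensorProduct.assoc R V C C).symm (Δ.lTensor V y) →
      ρ (ev y) = y := by
    intro y hy
    have h1 : ∀ y : V ⊗[R] C, ρ (ev y) = ((TensorProduct.rid R (V ⊗[R] C)).toLinearMap ∘ₗ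
        (CoalgebraStruct.counit (R := R) (A := C)).lTensor (V ⊗[R] C)) (ρ.rTensor C y) := by
      intro y
      induction y with
      | zero => simp
      | tmul a b => simp [ev]
      | add y y' hy hy' => simp only [map_add, hy, hy']
    rw [h1, hy]
    clear hy h1
    induction y with
    | zero => simp
    | tmul a b =>
      have hb := LinearMap.congr_fun (Coalgebra.lTensor_counit_comp_comul (R := R) (A := C)) b
      simp only [LinearMap.comp_apply] at hb ⊢
      rw [LinearMap.lTensor_tmul]
      have : ∀ t : C ⊗[R] C, (TensorProduct.rid R (V ⊗[R] C)).toLinearMap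
          ((CoalgebraStruct.counit (R := R) (A := C)).lTensor (V ⊗[R] C)
            ((TensorProduct.assoc R V C C).symm (a ⊗ₜ[R] t))) =
          a ⊗ₜ[R] TensorProduct.rid R C ((CoalgebraStruct.counit (R := R) (A := C)).lTensor C t) := by
        intro t
        induction t with
        | zero => simp [TensorProduct.tmul_zero]
        | tmul x y => simp [TensorProduct.tmul_smul]
        | add t t' ht ht' => simp only [TensorProduct.tmul_add, map_add, ht, ht']
      rw [hΔ, this, hb]
      simp
    | add y y' hy hy' => simp only [map_add, hy, hy']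
  set Vi : ι → Submodule R V := fun i => (LinearMap.range (LinearMap.lTensor V (D i).subtype)).comap ρ
  have hmem : ∀ i v, v ∈ Vi i ↔ (p i).lTensor V (ρ v) = ρ v := by
    intro i v
    constructor
    · rintro ⟨y, hy⟩
      have : p i ∘ₗ (D i).subtype = (D i).subtype :=
        LinearMap.ext fun d => (hp i i d d.2).trans (if_pos rfl)
      rw [← hy, ← LinearMap.lTensor_comp_apply, this]
    · intro h
      exact ⟨(cp i).lTensor V (ρ v), by rw [← LinearMap.lTensor_comp_apply]; exact h⟩
  have hker : ∀ i, Vi i = LinearMap.ker ((LinearMap.id - p i).lTensor V ∘ₗ ρ) := by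
    intro i
    ext v
    rw [hmem, LinearMap.mem_ker, LinearMap.comp_apply, LinearMap.lTensor_sub,
      LinearMap.sub_apply, sub_eq_zero, LinearMap.lTensor_id, LinearMap.id_apply, eq_comm]
  have hsub : ∀ i, ∀ v ∈ Vi i, ρ v ∈ LinearMap.range ((Vi i).subtype.rTensor C) := by
    intro i v hv
    have hex : Function.Exact (Vi i).subtype ((LinearMap.id - p i).lTensor V ∘ₗ ρ) := by
      rw [LinearMap.exact_iff, Submodule.range_subtype, hker i]
    refine (Module.Flat.rTensor_exact C hex (ρ v)).1 ?_
    rw [LinearMap.rTensor_comp_apply, ← (hmem i v).1 hv, hkey i v]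
    have : ∀ y : V ⊗[R] C, ((LinearMap.id - p i).lTensor V).rTensor C
        ((TensorProduct.assoc R V C C).symm (Δ.lTensor V ((p i).lTensor V y))) =
        (TensorProduct.assoc R V C C).symm
          ((((LinearMap.id - p i).rTensor C) ∘ₗ Δ ∘ₗ p i).lTensor V y) := by
      intro y
      rw [LinearMap.lTensor_comp_apply V _ (Δ ∘ₗ p i), LinearMap.lTensor_comp_apply V Δ (p i)]
      generalize Δ.lTensor V ((p i).lTensor V y) = z
      induction z with
      | zero => simp
      | tmul a t =>
        induction t with
        | zero => simp [TensorProduct.tmul_zero]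
        | tmul x y => simp
        | add t t' ht ht' => simp only [TensorProduct.tmul_add, map_add, ht, ht']
      | add z z' hz hz' => simp only [map_add, hz, hz']
    rw [this, hq i, LinearMap.lTensor_zero, LinearMap.zero_apply, map_zero]
  refine ⟨fun i v hv => hsub i v hv, ?_, ?_, fun i v hv => ?_⟩
  · show iSupIndep Vi
    intro i
    rw [Submodule.disjoint_def]
    intro v hv hv'
    have h0 : (p i).lTensor V (ρ v) = 0 := by
      have : (⨆ (j) (_ : j ≠ i), Vi j) ≤ LinearMap.ker ((p i).lTensor V ∘ₗ ρ) := by
        refine iSup₂_le fun j hj w hw => ?_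
        rw [LinearMap.mem_ker, LinearMap.comp_apply, ← (hmem j w).1 hw,
          ← LinearMap.lTensor_comp_apply,
          show p i ∘ₗ p j = 0 from LinearMap.ext fun c =>
            (hp i j _ (cp j c).2).trans (if_neg (Ne.symm hj)),
          LinearMap.lTensor_zero, LinearMap.zero_apply]
      exact this hv'
    rw [← hev v, ← (hmem i v).1 hv, h0, map_zero]
  · show iSup Vi = ⊤
    refine eq_top_iff.2 fun v _ => ?_
    obtain ⟨s, hs⟩ := hfin2 (ρ v)
    rw [← hev v, ← hs s subset_rfl, map_sum]
    refine Submodule.sum_mem _ fun i _ => Submodule.mem_iSup_of_mem i ?_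
    refine (hmem i _).2 ?_
    rw [hρev _ (hkey i v), ← LinearMap.lTensor_comp_apply,
      show p i ∘ₗ p i = p i from LinearMap.ext fun c => (hp i i _ (cp i c).2).trans (if_pos rfl)]
  · obtain ⟨y, hy⟩ := hsub i v hv
    refine ⟨(cp i).lTensor (Vi i) y, ?_⟩
    show TensorProduct.map (Vi i).subtype (D i).subtype ((cp i).lTensor (Vi i) y) = ρ v
    rw [← (hmem i v).1 hv, ← hy]
    clear hy
    induction y with
    | zero => simp
    | tmul a b => rfl
    | add y y' hy hy' => simp only [map_add, hy, hy']

end Groth.Agent.S14844
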