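import Groth.Statements.S14845
import Mathlib

set_option autoImplicit false
open CategoryTheory CategoryTheory.Limits AlgebraicGeometry
universe u
open HilbD

namespace Groth.Agent.S14845

section
open CategoryTheory CategoryTheory.Limits AlgebraicGeometry
variable {X S : Scheme.{u}} (f : X ⟶ S)

/-- The graph of a point as a morphism. -/
noncomputable def graphHom {T : Over S} (x : T.left ⟶ X) (hx : x ≫ f = T.hom) : T.left ⟶ PicF.XT f T :=
  pullback.lift x (𝟙 T.left) (by simpa using hx)

@[reassoc (attr := simp)]
theorem graphHom_fst {T : Over S} (x : T.left ⟶ X) (hx : x ≫ f = T.hom) :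
    graphHom f x hx ≫ pullback.fst f T.hom = x := pullback.lift_fst _ _ _

@[reassoc (attr := simp)]
theorem graphHom_snd {T : Over S} (x : T.left ⟶ X) (hx : x ≫ f = T.hom) :
    graphHom f x hx ≫ pullback.snd f T.hom = 𝟙 T.left := pullback.lift_snd _ _ _

instance isClosedImmersion_graphHom [IsSeparated f] {T : Over S} (x : T.left ⟶ X) (hx : x ≫ f = T.hom) :
    IsClosedImmersion (graphHom f x hx) := by
  haveI : IsClosedImmersion (graphHom f x hx ≫ pullback.snd f T.hom) := by rw [graphHom_snd]; infer_instance
  exact IsClosedImmersion.of_comp (graphHom f x hx) (pullback.snd f T.hom)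

theorem isPullback_graphHom {T : Over S} (g : T ⟶ Over.mk f) :
    IsPullback g.left (graphHom f g.left (Over.w g))
      (graphHom f (T := Over.mk f) (𝟙 X) (Category.id_comp f)) (PicF.XTmap f g) := by
  have hm1 : PicF.XTmap f g ≫ pullback.fst f (Over.mk f).hom = pullback.fst f T.hom := by
    exact (pullback.lift_fst _ _ _).trans (Category.comp_id _)
  have hm2 : PicF.XTmap f g ≫ pullback.snd f (Over.mk f).hom = pullback.snd f T.hom ≫ g.left := by
    exact pullback.lift_snd _ _ _
  have w : g.left ≫ graphHom f (T := Over.mk f) (𝟙 X) (Category.id_comp f) =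
      graphHom f g.left (Over.w g) ≫ PicF.XTmap f g := by
    apply pullback.hom_ext
    · rw [Category.assoc, Category.assoc, hm1, graphHom_fst, graphHom_fst]
      exact Category.comp_id _
    · rw [Category.assoc, Category.assoc, hm2, graphHom_snd, graphHom_snd_assoc]
      exact Category.comp_id _
  refine ⟨⟨w⟩, ⟨PullbackCone.IsLimit.mk w (fun s => s.snd ≫ pullback.snd f T.hom) (fun s => ?_) (fun s => ?_)
    (fun s m h1 h2 => ?_)⟩⟩
  · have h := s.condition =≫ pullback.snd f (Over.mk f).hom
    rw [Category.assoc, Category.assoc, hm2, graphHom_snd] at h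
    exact (Category.assoc _ _ _).trans (h.symm.trans (Category.comp_id _))
  · have h1 := s.condition =≫ pullback.fst f (Over.mk f).hom
    have h2 := s.condition =≫ pullback.snd f (Over.mk f).hom
    rw [Category.assoc, Category.assoc, hm1, graphHom_fst] at h1
    rw [Category.assoc, Category.assoc, hm2, graphHom_snd] at h2
    apply pullback.hom_ext
    · rw [Category.assoc, graphHom_fst, Category.assoc, ← h2]
      exact h1
    · rw [Category.assoc, graphHom_snd, Category.comp_id]
  · rw [← h2, Category.assoc, graphHom_snd, Category.comp_id]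

theorem ker_eq_of_iso {A B C : Scheme.{u}} (e : A ≅ B) (a : A ⟶ C) (b : B ⟶ C) (h : e.hom ≫ b = a) :
    a.ker = b.ker := by rw [← h, Scheme.Hom.ker_comp_of_isIso]

theorem pull_secGraph [IsSeparated f] {T : Over S} (g : T ⟶ Over.mk f) :
    HilbD.pull f g (HilbD.secGraph f (Over.mk f) (𝟙 X) (Category.id_comp f)) =
      HilbD.secGraph f T g.left (Over.w g) := by
  let σ := graphHom f (T := Over.mk f) (𝟙 X) (Category.id_comp f)
  let e := asIso σ.toImage
  have hP : IsPullback (g.left ≫ e.hom) (graphHom f g.left (Over.w g)) σ.ker.subschemeι (PicF.XTmap f g) :=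
    (isPullback_graphHom f g).of_iso (Iso.refl _) e (Iso.refl _) (Iso.refl _)
      (by simp) (by simp) (by rw [Iso.refl_hom, Category.comp_id]; exact σ.toImage_imageι.symm) (by simp)
  exact (ker_eq_of_iso hP.isoPullback _ _ hP.isoPullback_hom_snd).symm

theorem graph_inj [IsSeparated f] {T : Over S} (x y : T.left ⟶ X) (hx : x ≫ f = T.hom) (hy : y ≫ f = T.hom)
    (h : HilbD.secGraph f T x hx = HilbD.secGraph f T y hy) : x = y := by
  have h' : (graphHom f x hx).ker = (graphHom f y hy).ker := h
  have he := IsClosedImmersion.lift_fac (graphHom f y hy) (graphHom f x hx) h'.ge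
  have h1 := he =≫ pullback.snd f T.hom
  rw [Category.assoc, graphHom_snd, graphHom_snd, Category.comp_id] at h1
  rw [h1, Category.id_comp] at he
  rw [← graphHom_fst f x hx, ← he, graphHom_fst]

end

/-- For a separated morphism f : X → S, the Hilbert functor of one point of X over S is represented by X
with the diagonal as universal family: the diagonal of X ×_S X (the graph of the identity section of
X over itself) is a closed subscheme finite locally free of degree 1 over X, and every closed
subscheme of X ×_S T which is finite locally free of degree 1 over T is its base change along a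
unique S-morphism T → X. (The published statement takes S Noetherian, f locally of finite type and
the Hilbert functor on locally Noetherian S-schemes with flat proper families of Hilbert polynomial
1; this row uses the functor of families finite locally free of degree 1 on all S-schemes, for which
the same argument applies without Noetherian hypotheses.) -/
theorem result {X S : Scheme.{u}} (f : X ⟶ S) [IsSeparated f] :
    ∃ Δ : HilbD.Obj f 1 (Over.mk f),
      Δ.1 = HilbD.secGraph f (Over.mk f) (𝟙 X) (Category.id_comp f) ∧
      HilbD.IsUniversal f 1 (Over.mk f) Δ := by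
  let σ := graphHom f (T := Over.mk f) (𝟙 X) (Category.id_comp f)
  let I := HilbD.secGraph f (Over.mk f) (𝟙 X) (Category.id_comp f)
  have hiso : IsIso (I.subschemeι ≫ PicF.XTproj f (Over.mk f)) := by
    have h1 : σ.toImage ≫ (I.subschemeι ≫ PicF.XTproj f (Over.mk f)) = 𝟙 _ := by
      rw [← Category.assoc]
      erw [σ.toImage_imageι]
      exact graphHom_snd f _ _
    exact IsIso.of_isIso_fac_left (f := σ.toImage) h1
  haveI := hiso
  have hI : Mor2.IsFinLocFreeOfDeg 1 (I.subschemeι ≫ PicF.XTproj f (Over.mk f)) :=
    ⟨⟨inferInstance, inferInstance, inferInstance⟩, fun y =>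
      congrFun (Scheme.Hom.finrank_eq_one_of_isIso (I.subschemeι ≫ PicF.XTproj f (Over.mk f))) y⟩
  refine ⟨⟨I, hI⟩, rfl, fun T Z' => ?_⟩
  let π := Z'.1.subschemeι ≫ PicF.XTproj f T
  obtain ⟨⟨hfin, hflat, hlfp⟩, hd⟩ := Z'.2
  haveI : IsFinite π := hfin
  haveI : Flat π := hflat
  haveI : LocallyOfFinitePresentation π := hlfp
  haveI : IsIso π := π.isIso_iff_finrank_eq.mpr (funext hd)
  let x : T.left ⟶ X := inv π ≫ Z'.1.subschemeι ≫ pullback.fst f T.hom
  have hx : x ≫ f = T.hom := by
    simp only [x, Category.assoc, pullback.condition]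
    rw [← Category.assoc Z'.1.subschemeι]
    exact IsIso.inv_hom_id_assoc π _
  let g₀ : T ⟶ Over.mk f := Over.homMk x hx
  have hg : graphHom f x hx = inv π ≫ Z'.1.subschemeι := by
    apply pullback.hom_ext
    · rw [graphHom_fst, Category.assoc]
    · rw [graphHom_snd, Category.assoc]
      exact (IsIso.inv_hom_id π).symm
  have hZ : HilbD.secGraph f T x hx = Z'.1 := by
    change (graphHom f x hx).ker = _
    rw [hg, Scheme.Hom.ker_comp_of_isIso, Scheme.IdealSheafData.ker_subschemeι]
  refine ⟨g₀, (pull_secGraph f g₀).trans hZ, fun g hg' => ?_⟩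
  apply Over.OverMorphism.ext
  exact graph_inj f _ _ (Over.w g) hx ((pull_secGraph f g).symm.trans (hg'.trans hZ.symm))

end Groth.Agent.S14845
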