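import Groth.Statements.S14846
import Groth.Agent.CSALib.Descent

set_option autoImplicit false
universe u v w
open Brauer

namespace Groth.Agent.S14846

open TensorProduct in
/-- Let L/K be a Galois extension with group Γ = Aut_K(L), and A a K-algebra which is a simple ring. If
L ⊗_K A is semisimple, then Γ, acting on L ⊗_K A through the first tensor factor, permutes its
simple components, i.e. its minimal nonzero two-sided ideals, transitively: any minimal two-sided
ideal is carried onto any other by some γ ⊗ id. -/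
theorem result
    {K : Type u} {L : Type v} [Field K] [Field L] [Algebra K L] [IsGalois K L]
    {A : Type w} [Ring A] [Algebra K A] [IsSimpleRing A]
    [IsSemisimpleRing (L ⊗[K] A)]
    (I J : TwoSidedIdeal (L ⊗[K] A)) (hI : IsAtom I) (hJ : IsAtom J) :
    ∃ γ : L ≃ₐ[K] L, (J : Set (L ⊗[K] A)) =
      Algebra.TensorProduct.map (γ : L →ₐ[K] L) (AlgHom.id K A) '' (I : Set (L ⊗[K] A)) := by
  classical
  let Φ : (L ≃ₐ[K] L) → (L ⊗[K] A) →ₐ[K] (L ⊗[K] A) := fun γ =>
    Algebra.TensorProduct.map (γ : L →ₐ[K] L) (AlgHom.id K A)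
  have hcomp : ∀ γ δ x, Φ γ (Φ δ x) = Φ (γ * δ) x := fun γ δ x => by
    induction x with
    | zero => simp
    | add p q hp hq => simp [hp, hq]
    | tmul c a => simp [Φ]
  have hone : ∀ x, Φ 1 x = x := fun x => by
    induction x with
    | zero => simp
    | add p q hp hq => simp [hp, hq]
    | tmul c a => simp [Φ]
  have hinv : ∀ γ x, Φ γ (Φ γ⁻¹ x) = x := fun γ x => by rw [hcomp, mul_inv_cancel, hone]
  let T : (L ≃ₐ[K] L) → TwoSidedIdeal (L ⊗[K] A) := fun γ =>
    TwoSidedIdeal.mk' {x | Φ γ⁻¹ x ∈ I} (by simp)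
      (fun {x y} hx hy => by simpa using I.add_mem hx hy)
      (fun {x} hx => by simpa using I.neg_mem hx)
      (fun {x y} hy => by simpa using I.mul_mem_left _ _ hy)
      (fun {x y} hx => by simpa using I.mul_mem_right _ _ hx)
  have hT : ∀ γ x, x ∈ T γ ↔ Φ γ⁻¹ x ∈ I := fun γ x => TwoSidedIdeal.mem_mk' ..
  let S : TwoSidedIdeal (L ⊗[K] A) := ⨆ γ, T γ
  have hSstable : ∀ γ x, x ∈ S → Φ γ x ∈ S := fun γ x hx => by
    let S' : TwoSidedIdeal (L ⊗[K] A) := TwoSidedIdeal.mk' {y | Φ γ y ∈ S} (by simp)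
      (fun {x y} hx hy => by simpa using S.add_mem hx hy)
      (fun {x} hx => by simpa using S.neg_mem hx)
      (fun {x y} hy => by simpa using S.mul_mem_left _ _ hy)
      (fun {x y} hx => by simpa using S.mul_mem_right _ _ hx)
    have hle : S ≤ S' := iSup_le fun δ y hy => (TwoSidedIdeal.mem_mk' ..).2
      ((le_iSup T (γ * δ) : T (γ * δ) ≤ S) ((hT _ _).2 (by
        rw [hcomp, mul_inv_rev, inv_mul_cancel_right]
        exact (hT _ _).1 hy)))
    have h := hle hx
    rwa [TwoSidedIdeal.mem_mk'] at h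
  obtain ⟨x₀, hx₀, hx₀0⟩ : ∃ x ∈ I, x ≠ 0 := by
    by_contra h
    push Not at h
    exact hI.1 (eq_bot_iff.2 fun z hz => (h z hz : z = 0))
  have hx₀S : x₀ ∈ S := (le_iSup T 1 : T 1 ≤ S) ((hT _ _).2 (by rwa [inv_one, hone]))
  let b := Module.Free.chooseBasis K A
  have hmk : ∀ (N : ℕ) (f : Module.Free.ChooseBasisIndex K A →₀ L), f.support.card ≤ N →
      (f.sum fun i m => m ⊗ₜ[K] b i) ∈ S → f ≠ 0 → ∃ a : A, a ≠ 0 ∧ (1 : L) ⊗ₜ[K] a ∈ S := by
    intro N
    induction N with
    | zero => exact fun f hf _ h0 => absurd (Finsupp.support_eq_empty.1 (Finset.card_eq_zero.1 (Nat.le_zero.1 hf))) h0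
    | succ N ih =>
      intro f hf hfS h0
      obtain ⟨i₀, hi₀⟩ := Finsupp.support_nonempty_iff.2 h0
      have hsc : ∀ (l : L) (g : Module.Free.ChooseBasisIndex K A →₀ L),
          ((l • g).sum fun i m => m ⊗ₜ[K] b i) = (l ⊗ₜ[K] (1 : A)) * (g.sum fun i m => m ⊗ₜ[K] b i) := fun l g => by
        rw [Finsupp.sum_smul_index (fun i => by simp), Finsupp.sum, Finsupp.sum, Finset.mul_sum]
        simp
      set g := (f i₀)⁻¹ • f with hg
      have hgS : (g.sum fun i m => m ⊗ₜ[K] b i) ∈ S := by rw [hg, hsc]; exact S.mul_mem_left _ _ hfS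
      have hg1 : g i₀ = 1 := by simp [hg, inv_mul_cancel₀ (Finsupp.mem_support_iff.1 hi₀)]
      have hgsupp : g.support ⊆ f.support := Finsupp.support_smul
      by_cases hfix : ∀ γ : L ≃ₐ[K] L, ∀ i, γ (g i) = g i
      · choose r hr using fun i => (InfiniteGalois.mem_range_algebraMap_iff_fixed (k := K) (g i)).2
          fun γ => hfix γ i
        refine ⟨∑ i ∈ g.support, r i • b i, fun h => ?_, ?_⟩
        · have h1 := Fintype.linearIndependent_iff.1
            (b.linearIndependent.comp (fun i : g.support => i.1) Subtype.val_injective)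
            (fun i => r i.1) (by rw [← h]; exact Finset.sum_coe_sort g.support fun i => r i • b i)
            ⟨i₀, Finsupp.mem_support_iff.2 (by rw [hg1]; exact one_ne_zero)⟩
          have h2 := hr i₀
          rw [hg1, show r i₀ = 0 from h1, map_zero] at h2
          exact zero_ne_one h2
        · convert hgS using 1
          rw [TensorProduct.tmul_sum, Finsupp.sum]
          exact Finset.sum_congr rfl fun i _ => by
            rw [← hr i, Algebra.algebraMap_eq_smul_one, TensorProduct.smul_tmul]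
      · push Not at hfix
        obtain ⟨γ, j, hj⟩ := hfix
        refine ih (g.mapRange γ (map_zero γ) - g) ?_ ?_ (fun h => hj ?_)
        · refine Nat.le_of_lt_succ (lt_of_lt_of_le (Finset.card_lt_card ?_) hf)
          refine Finset.ssubset_iff_subset_ne.2 ⟨fun i hi => ?_, fun h => ?_⟩
          · refine hgsupp (Finsupp.mem_support_iff.2 fun h0 => ?_)
            simp [h0] at hi
          · have := h ▸ hi₀
            simp [hg1] at this
        · rw [Finsupp.sum_sub_index (fun i m m' => TensorProduct.sub_tmul m m' (b i))]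
          refine S.sub_mem ?_ hgS
          have := hSstable γ _ hgS
          rw [map_finsuppSum] at this
          rw [Finsupp.sum_mapRange_index (fun i => by simp)]
          simpa [Φ] using this
        · have := DFunLike.congr_fun h j
          simpa [sub_eq_zero] using this
  obtain ⟨f, hf⟩ := TensorProduct.eq_repr_basis_right b x₀
  obtain ⟨a, ha0, haS⟩ := hmk _ f le_rfl (hf ▸ hx₀S) (fun h => hx₀0 (by rw [← hf, h]; simp))
  have htop : (1 : L ⊗[K] A) ∈ S := by
    let U : TwoSidedIdeal A := TwoSidedIdeal.mk' {y | (1 : L) ⊗ₜ[K] y ∈ S} (by simp)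
      (fun {x y} hx hy => by simpa [TensorProduct.tmul_add] using S.add_mem hx hy)
      (fun {x} hx => by simpa [TensorProduct.tmul_neg] using S.neg_mem hx)
      (fun {x y} hy => by simpa using S.mul_mem_left ((1 : L) ⊗ₜ[K] x) _ hy)
      (fun {x y} hx => by simpa using S.mul_mem_right _ ((1 : L) ⊗ₜ[K] y) hx)
    have := IsSimpleRing.one_mem_of_ne_zero_mem U ha0 ((TwoSidedIdeal.mem_mk' ..).2 haS)
    rw [TwoSidedIdeal.mem_mk'] at this
    exact this
  by_contra hne
  push Not at hne
  have hdisj : ∀ γ, J ⊓ T γ = ⊥ := fun γ => by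
    rcases hJ.le_iff.1 (inf_le_left : J ⊓ T γ ≤ J) with h | h
    · exact h
    · exfalso
      refine hne γ ?_
      have hle : J ≤ T γ := h ▸ inf_le_right
      let Tinv : TwoSidedIdeal (L ⊗[K] A) := TwoSidedIdeal.mk' {y | Φ γ y ∈ J} (by simp)
        (fun {x y} hx hy => by simpa using J.add_mem hx hy)
        (fun {x} hx => by simpa using J.neg_mem hx)
        (fun {x y} hy => by simpa using J.mul_mem_left _ _ hy)
        (fun {x y} hx => by simpa using J.mul_mem_right _ _ hx)
      have hTI : Tinv ≤ I := fun y hy => by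
        rw [TwoSidedIdeal.mem_mk'] at hy
        have := (hT _ _).1 (hle hy)
        rwa [hcomp, inv_mul_cancel, hone] at this
      have hT0 : Tinv ≠ ⊥ := fun h0 => hJ.1 (eq_bot_iff.2 fun z hz => by
        have hz' : Φ γ⁻¹ z ∈ Tinv := (TwoSidedIdeal.mem_mk' ..).2 (by
          change Φ γ (Φ γ⁻¹ z) ∈ J
          rwa [hinv])
        rw [h0] at hz'
        change z = 0
        rw [← hinv γ z, show Φ γ⁻¹ z = 0 from hz', map_zero])
      have hEq : Tinv = I := (hI.le_iff.1 hTI).resolve_left hT0
      ext z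
      constructor
      · exact fun hz => ⟨Φ γ⁻¹ z, (hT _ _).1 (hle hz), hinv γ z⟩
      · rintro ⟨y, hy, rfl⟩
        rw [SetLike.mem_coe, ← hEq, TwoSidedIdeal.mem_mk'] at hy
        exact hy
  let Ann : TwoSidedIdeal (L ⊗[K] A) := TwoSidedIdeal.mk' {y | ∀ z ∈ J, z * y = 0} (by simp)
    (fun {x y} hx hy z hz => by rw [mul_add, hx z hz, hy z hz, add_zero])
    (fun {x} hx z hz => by rw [mul_neg, hx z hz, neg_zero])
    (fun {x y} hy z hz => by rw [← mul_assoc]; exact hy _ (J.mul_mem_right _ _ hz))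
    (fun {x y} hx z hz => by rw [← mul_assoc, hx z hz, zero_mul])
  have hle : S ≤ Ann := iSup_le fun γ y hy => (TwoSidedIdeal.mem_mk' ..).2 fun z hz => by
    have : z * y ∈ J ⊓ T γ := ⟨J.mul_mem_right _ _ hz, (T γ).mul_mem_left _ _ hy⟩
    rw [hdisj γ] at this
    exact this
  refine hJ.1 (eq_bot_iff.2 fun z hz => ?_)
  have h := hle htop
  rw [TwoSidedIdeal.mem_mk'] at h
  have := h z hz
  rwa [mul_one] at this

end Groth.Agent.S14846
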