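import Groth.Statements.S14847
import Groth.Agent.ComodLib.Integral
import Groth.Agent.S14843
-- import your own Groth.Agent.* helpers here

set_option autoImplicit false
universe u v
open HopfRep

namespace Groth.Agent.S14847

open scoped ComodLib

open TensorProduct in
/-- When K is a field of characteristic zero and G = Spec A is a finite group scheme over K, the
coordinate Hopf algebra A is cosemisimple, i.e. A is the internal direct sum of simple
subcoalgebras. Here a subcoalgebra of A is a subspace B whose comultiplication lands in the image of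
B ⊗ B, and a simple subcoalgebra is a nonzero subcoalgebra D whose only subcoalgebras contained in D
are 0 and D. -/
theorem result {K : Type u} {A : Type v} [Field K] [CharZero K]
    [CommRing A] [HopfAlgebra K A] [Module.Finite K A] :
    ∃ (ι : Type v) (D : ι → Submodule K A), iSupIndep D ∧ iSup D = ⊤ ∧ ∀ i,
        D i ≠ ⊥ ∧ (∀ b ∈ (D i), CoalgebraStruct.comul (R := K) b ∈ LinearMap.range (TensorProduct.map (D i).subtype (D i).subtype)) ∧
        ∀ B : Submodule K A, B ≤ D i → (∀ b ∈ B, CoalgebraStruct.comul (R := K) b ∈ LinearMap.range (TensorProduct.map B.subtype B.subtype)) → B = ⊥ ∨ B = D i := by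
  have hdim : (Module.finrank K A : K) ≠ 0 := by
    have : Nontrivial A := (Bialgebra.counitAlgHom K A).toRingHom.domain_nontrivial
    exact_mod_cast Module.finrank_pos.ne'
  have htr : Algebra.trace K A 1 = (Module.finrank K A : K) := by
    rw [← map_one (algebraMap K A), Algebra.trace_algebraMap, nsmul_eq_mul, mul_one]
  refine Groth.Agent.S14843.result.2 fun V _ _ _ => ?_
  obtain ⟨c, hc⟩ : ∃ c : K, c * Algebra.trace K A 1 = 1 :=
    ⟨(Module.finrank K A : K)⁻¹, by rw [htr, inv_mul_cancel₀ hdim]⟩
  refine ComodLib.isSemisimpleComod_of_invariant (α := c • Algebra.trace K A) ?_ ?_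
  · intro x
    rw [ComodLib.sliceL_smul, ComodLib.isInvariant_trace x, smul_smul]
    rfl
  · exact hc

end Groth.Agent.S14847
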