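import Groth.Statements.S14848
import Mathlib


-- import your own Groth.Agent.* helpers here

set_option autoImplicit false
universe u v
open McKay

namespace Groth.Agent.S14848

/-- Let K be a field of characteristic zero, L an extension field of K and ξ ∈ L a primitive n-th root
of unity (n ≥ 1) with ξ + ξ⁻¹ ∈ K, say ξ + ξ⁻¹ = 2c with c ∈ K (the character of the natural
two-dimensional representation of the cyclic group of order n takes values in K). Then the cyclic
group of order n is realisable over K as a subgroup of SL(2, K): there is an element of SL(2, K) of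
order n. -/
theorem result {K : Type u} {L : Type v} [Field K] [Field L]
    [CharZero K] [Algebra K L] (n : ℕ) (hn : 1 ≤ n) (ξ : L) (hξ : IsPrimitiveRoot ξ n) (c : K)
    (hc : algebraMap K L (2 * c) = ξ + ξ⁻¹) :
    ∃ M : Matrix.SpecialLinearGroup (Fin 2) K, orderOf M = n := by
  classical
  haveI : CharZero L := charZero_of_injective_algebraMap (algebraMap K L).injective
  have hξ0 : ξ ≠ 0 := hξ.ne_zero (by omega)
  by_cases hsq : ξ * ξ = 1
  · have h2 : n ∣ 2 := hξ.dvd_of_pow_eq_one 2 (by rw [sq, hsq])
    rcases (Nat.dvd_prime Nat.prime_two).1 h2 with rfl | rfl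
    · exact ⟨1, orderOf_one⟩
    · refine ⟨⟨-1, by simp [Matrix.det_fin_two]⟩, orderOf_eq_prime ?_ ?_⟩
      · exact Subtype.ext (by simp [sq])
      · intro h
        have := congrArg (fun M : Matrix.SpecialLinearGroup (Fin 2) K => (M : Matrix (Fin 2) (Fin 2) K) 0 0) h
        norm_num at this
  · let M : Matrix.SpecialLinearGroup (Fin 2) K := ⟨!![2 * c, -1; 1, 0], by simp [Matrix.det_fin_two]⟩
    let φ := Matrix.SpecialLinearGroup.map (n := Fin 2) (algebraMap K L)
    let P : Matrix (Fin 2) (Fin 2) L := !![ξ, ξ⁻¹; 1, 1]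
    have hP : IsUnit P := by
      rw [Matrix.isUnit_iff_isUnit_det, isUnit_iff_ne_zero, Matrix.det_fin_two]
      simp [P]
      intro h
      apply hsq
      rw [sub_eq_zero] at h
      calc ξ * ξ = ξ * ξ⁻¹ := by rw [← h]
        _ = 1 := mul_inv_cancel₀ hξ0
    have hMP : (φ M : Matrix (Fin 2) (Fin 2) L) * P = P * Matrix.diagonal ![ξ, ξ⁻¹] := by
      have hm : (φ M : Matrix (Fin 2) (Fin 2) L) = !![ξ + ξ⁻¹, -1; 1, 0] := by
        ext i j; fin_cases i <;> fin_cases j <;> simp [φ, M, ← hc]
      rw [hm]
      ext i j
      fin_cases i <;> fin_cases j <;> simp [P, Matrix.mul_apply, Fin.sum_univ_two, Matrix.diagonal_apply] <;> field_simp <;> ring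
    have hpow : ∀ m, ((φ M : Matrix (Fin 2) (Fin 2) L)) ^ m * P = P * Matrix.diagonal ![ξ ^ m, ξ⁻¹ ^ m] := by
      intro m
      induction m with
      | zero =>
        rw [pow_zero, one_mul]
        ext i j
        fin_cases i <;> fin_cases j <;> simp [P, Matrix.mul_apply, Fin.sum_univ_two]
      | succ m ih =>
        rw [pow_succ, mul_assoc, hMP, ← mul_assoc, ih, mul_assoc, Matrix.diagonal_mul_diagonal]
        congr 2
        funext i; fin_cases i <;> simp [pow_succ]
    have key : ∀ m, M ^ m = 1 ↔ ξ ^ m = 1 := by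
      intro m
      have hinj : Function.Injective φ := fun a b h => Subtype.ext (Matrix.map_injective (algebraMap K L).injective (congrArg Subtype.val h))
      rw [← map_eq_one_iff φ hinj, map_pow]
      constructor
      · intro h
        have h' : ((φ M : Matrix (Fin 2) (Fin 2) L)) ^ m = 1 := by
          rw [← Matrix.SpecialLinearGroup.coe_pow, h, Matrix.SpecialLinearGroup.coe_one]
        have h2 := hpow m
        rw [h', one_mul] at h2
        have h3 := congrFun (congrFun h2 1) 0
        simp [P, Matrix.mul_apply, Fin.sum_univ_two, Matrix.diagonal_apply] at h3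
        exact h3.symm
      · intro h
        have h2 := hpow m
        rw [h, inv_pow, h, inv_one, show ![(1 : L), 1] = fun _ => 1 by funext i; fin_cases i <;> rfl, Matrix.diagonal_one, mul_one] at h2
        apply Subtype.ext
        rw [Matrix.SpecialLinearGroup.coe_pow, Matrix.SpecialLinearGroup.coe_one]
        exact hP.mul_right_cancel (by rw [h2, one_mul])
    refine ⟨M, ?_⟩
    rw [orderOf_eq_iff hn]
    exact ⟨(key n).2 hξ.pow_eq_one, fun m hm hm0 h => hξ.pow_ne_one_of_pos_of_lt hm0.ne' hm ((key m).1 h)⟩

end Groth.Agent.S14848
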