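import Groth.Statements.S14849
import Mathlib.Algebra.CharP.Algebra
import Mathlib.GroupTheory.SpecificGroups.Quaternion
import Mathlib.LinearAlgebra.Matrix.SpecialLinearGroup
import Mathlib.RingTheory.RootsOfUnity.PrimitiveRoots
import Mathlib.Tactic.LinearCombination
import Mathlib.Tactic.FinCases
-- import your own Groth.Agent.* helpers here

set_option autoImplicit false
universe u v
open McKay

namespace Groth.Agent.S14849

/-- Let K be a field of characteristic zero, L an extension field of K, n ≥ 2, and ξ ∈ L a primitive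
2n-th root of unity with ξ + ξ⁻¹ = 2c for some c ∈ K. If the Hilbert symbol of -1 and c² - 1 over K
equals 1, i.e. x² - (c² - 1) y² = -1 has a solution in K, then the binary dihedral group of order 4n
(generators σ, τ with τ² = σⁿ = (τσ)²) is isomorphic to a subgroup of SL(2, K). (The published
statement is an equivalence; this row is the direction realising the group from a solution of the
conic.) -/
theorem result {K : Type u} {L : Type v}
    [Field K] [Field L] [CharZero K] [Algebra K L] (n : ℕ) (hn : 2 ≤ n) (ξ : L)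
    (hξ : IsPrimitiveRoot ξ (2 * n)) (c : K) (hc : algebraMap K L (2 * c) = ξ + ξ⁻¹)
    (hsol : ∃ x y : K, x ^ 2 - (c ^ 2 - 1) * y ^ 2 = -1) :
    ∃ f : QuaternionGroup n →* Matrix.SpecialLinearGroup (Fin 2) K, Function.Injective f := by
  classical
  obtain ⟨x, y, hxy⟩ := hsol
  haveI : NeZero (2 * n) := ⟨by omega⟩
  haveI : CharZero L := charZero_of_injective_algebraMap (algebraMap K L).injective
  let d := c ^ 2 - 1
  let σ : Matrix.SpecialLinearGroup (Fin 2) K := ⟨!![c, d; 1, c], by rw [Matrix.det_fin_two_of]; simp only [d]; ring⟩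
  let τ : Matrix.SpecialLinearGroup (Fin 2) K := ⟨!![x, -(d * y); y, -x], by
    rw [Matrix.det_fin_two_of]; simp only [d]; linear_combination -hxy⟩
  have hξ0 : ξ ≠ 0 := hξ.ne_zero (by omega)
  let C := algebraMap K L
  let s := ξ - C c
  have h2 : ξ * ξ⁻¹ = 1 := mul_inv_cancel₀ hξ0
  have hcc : ξ + ξ⁻¹ = 2 * C c := by rw [← hc, map_mul, map_ofNat]
  have hi : ξ⁻¹ = C c - s := by linear_combination hcc
  have hs2 : s * s = C d := by
    simp only [d, map_sub, map_pow, map_one]
    rw [hi] at h2
    linear_combination -h2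
  have hs0 : s ≠ 0 := fun h => by
    rw [h, sub_zero] at hi
    have h1 : ξ ^ 2 = 1 := by
      rw [sub_eq_zero] at h
      rw [hi, ← h, ← pow_two] at h2
      exact h2
    have := Nat.le_of_dvd two_pos ((hξ.pow_eq_one_iff_dvd 2).mp h1)
    omega
  have key : ∀ k : ℕ, ∃ p q : K, (↑(σ ^ k) : Matrix (Fin 2) (Fin 2) K) = !![p, d * q; q, p] ∧
      ξ ^ k = C p + s * C q ∧ ξ⁻¹ ^ k = C p - s * C q := by
    intro k
    induction k with
    | zero => exact ⟨1, 0, by simp [Matrix.one_fin_two], by simp, by simp⟩
    | succ k ih =>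
      obtain ⟨p, q, hm, h1, h3⟩ := ih
      refine ⟨p * c + d * q, p + q * c, ?_, ?_, ?_⟩
      · rw [pow_succ, Matrix.SpecialLinearGroup.coe_mul, hm, show (↑σ : Matrix (Fin 2) (Fin 2) K) = !![c, d; 1, c] from rfl, Matrix.mul_fin_two]
        ext i j
        fin_cases i <;> fin_cases j <;> simp <;> ring
      · rw [pow_succ, h1, map_add, map_add, map_mul, map_mul, map_mul]
        linear_combination (C q) * hs2
      · rw [pow_succ, h3, map_add, map_add, map_mul, map_mul, map_mul]
        linear_combination (C p - s * C q) * hi + (C q) * hs2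
  have h20 : (2 : L) ≠ 0 := two_ne_zero
  have key2 : ∀ (k : ℕ) (e : K), ξ ^ k = C e → e * e = 1 → (↑(σ ^ k) : Matrix (Fin 2) (Fin 2) K) = !![e, 0; 0, e] := by
    intro k e he hee
    obtain ⟨p, q, hm, h1, h3⟩ := key k
    have hinv : ξ⁻¹ ^ k = C e := by
      rw [inv_pow, he]
      exact inv_eq_of_mul_eq_one_right (by rw [← map_mul, hee, map_one])
    have hpq : (2 : L) * C p = 2 * C e := by linear_combination -h1 - h3 + he + hinv
    have hp : p = e := C.injective (mul_left_cancel₀ h20 hpq)
    have hq : q = 0 := by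
      have : s * C q = 0 := by rw [hp] at h1; linear_combination he - h1
      exact C.injective (by rw [map_zero]; exact (mul_eq_zero.mp this).resolve_left hs0)
    rw [hm, hp, hq, mul_zero]
  have hord : ∀ k : ℕ, σ ^ k = 1 ↔ (2 * n) ∣ k := fun k => by
    rw [← hξ.pow_eq_one_iff_dvd]
    constructor
    · intro h
      obtain ⟨p, q, hm, h1, -⟩ := key k
      rw [h, Matrix.SpecialLinearGroup.coe_one, Matrix.one_fin_two] at hm
      have e00 := congrFun (congrFun hm 0) 0
      have e10 := congrFun (congrFun hm 1) 0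
      simp at e00 e10
      rw [h1, ← e00, ← e10, map_one, map_zero, mul_zero, add_zero]
    · intro h
      apply Subtype.ext
      rw [key2 k 1 (by rw [h, map_one]) (one_mul 1), Matrix.SpecialLinearGroup.coe_one, Matrix.one_fin_two]
  let S : ZMod (2 * n) → Matrix.SpecialLinearGroup (Fin 2) K := fun i => σ ^ i.val
  have hS : ∀ i j, S (i + j) = S i * S j := fun i j => by
    simp only [S]
    rw [ZMod.val_add, ← pow_add]
    exact (pow_eq_pow_mod _ ((hord (2 * n)).mpr dvd_rfl)).symm
  have hneg : ∀ i, S (-i) = (S i)⁻¹ := fun i => eq_inv_of_mul_eq_one_left (by rw [← hS, neg_add_cancel]; simp [S])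
  have hτ : ∀ k : ℕ, σ ^ k * τ * σ ^ k = τ := by
    intro k
    induction k with
    | zero => simp
    | succ k ih =>
      have h1 : σ * τ * σ = τ := by
        apply Subtype.ext
        show (!![c, d; 1, c] : Matrix (Fin 2) (Fin 2) K) * !![x, -(d * y); y, -x] * !![c, d; 1, c] = !![x, -(d * y); y, -x]
        rw [Matrix.mul_fin_two, Matrix.mul_fin_two]
        ext i j
        fin_cases i <;> fin_cases j <;> simp [d] <;> ring
      calc σ ^ (k + 1) * τ * σ ^ (k + 1) = σ ^ k * (σ * τ * σ) * σ ^ k := by
            conv_lhs => arg 2; rw [pow_succ']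
            rw [pow_succ]
            group
        _ = τ := by rw [h1, ih]
  have hcomm : ∀ i, S i * τ = τ * S (-i) := fun i => by
    rw [hneg]; exact eq_mul_inv_of_mul_eq (hτ i.val)
  have hn2 : τ * τ = S (n : ZMod (2 * n)) := by
    apply Subtype.ext
    have hξn : ξ ^ n = C (-1) := by
      rw [map_neg, map_one]
      have hsq : (ξ ^ n) ^ 2 = 1 := by rw [← pow_mul, mul_comm]; exact hξ.pow_eq_one
      rcases sq_eq_one_iff.mp hsq with h | h
      · have := Nat.le_of_dvd (by omega) ((hξ.pow_eq_one_iff_dvd n).mp h)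
        omega
      · exact h
    simp only [S, ZMod.val_natCast, Nat.mod_eq_of_lt (show n < 2 * n by omega), Matrix.SpecialLinearGroup.coe_mul]
    rw [key2 n (-1) hξn (by ring), show (↑τ : Matrix (Fin 2) (Fin 2) K) = !![x, -(d * y); y, -x] from rfl, Matrix.mul_fin_two]
    ext i j
    fin_cases i <;> fin_cases j <;> simp [d] <;> first | linear_combination hxy | ring
  let f : QuaternionGroup n → Matrix.SpecialLinearGroup (Fin 2) K
    | .a i => S i
    | .xa i => τ * S i
  have hmul : ∀ u v, f (u * v) = f u * f v := by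
    rintro (i | i) (j | j)
    · exact hS i j
    · show τ * S (j - i) = S i * (τ * S j)
      rw [← mul_assoc, hcomm, mul_assoc, ← hS, neg_add_eq_sub]
    · show τ * S (i + j) = τ * S i * S j
      rw [hS, mul_assoc]
    · show S ((n : ZMod (2 * n)) + j - i) = τ * S i * (τ * S j)
      rw [mul_assoc τ, ← mul_assoc (S i), hcomm, mul_assoc τ (S (-i)), ← hS, ← mul_assoc, hn2, ← hS]
      congr 1
      ring
  refine ⟨MonoidHom.mk' f hmul, (injective_iff_map_eq_one _).mpr ?_⟩
  rintro (i | i) hu
  · change σ ^ i.val = 1 at hu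
    have := Nat.eq_zero_of_dvd_of_lt ((hord _).mp hu) (ZMod.val_lt i)
    rw [(ZMod.val_eq_zero i).mp this]
    rfl
  · exfalso
    change τ * S i = 1 at hu
    have ht : τ = S (-i) := by rw [hneg]; exact eq_inv_of_mul_eq_one_left hu
    have h1 := hτ 1
    rw [pow_one, ht] at h1
    have hc' : σ * S (-i) = S (-i) * σ := (Commute.self_pow σ _).eq
    rw [hc', mul_assoc, mul_eq_left, ← pow_two] at h1
    have := Nat.le_of_dvd two_pos ((hord 2).mp h1)
    omega

end Groth.Agent.S14849
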