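import Groth.Statements.S14850
import Groth.Agent.ComodLib.Semisimple
-- import your own Groth.Agent.* helpers here

set_option autoImplicit false
universe u v
open HopfRep

namespace Groth.Agent.S14850

open scoped ComodLib

open TensorProduct in
/-- Over a field K, a nonzero coalgebra C is simple if and only if C is isotypic as a right comodule
over itself, i.e. C is the internal direct sum of the images of a family of injective comodule maps
from one simple right C-comodule E. Here a subcoalgebra of C is a subspace B whose comultiplication
lands in the image of B ⊗ B, and C is simple when its only subcoalgebras are 0 and C. (Stated for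
the right regular comodule; the published statement allows left or right.) -/
theorem result {K : Type u} {C : Type v} [Field K] [AddCommGroup C]
    [Module K C] [Coalgebra K C] [Nontrivial C] :
    (∀ B : Submodule K C, (∀ b ∈ B, CoalgebraStruct.comul (R := K) b ∈ LinearMap.range (TensorProduct.map B.subtype B.subtype)) → B = ⊥ ∨ B = ⊤) ↔
    ∃ (E : Type v) (_ : AddCommGroup E) (_ : Module K E) (_ : HopfRep.Comod K C E),
      HopfRep.IsSimpleComod K C E ∧
      ∃ (ι : Type v) (f : ι → (E →ₗ[K] C)),
        (∀ i, Hoch.IsComodHom C (f i) ∧ Function.Injective (f i)) ∧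
        iSupIndep (fun i => LinearMap.range (f i)) ∧ (⨆ i, LinearMap.range (f i)) = ⊤ := by
  constructor
  · intro hs
    have htop : (⊤ : Submodule (ComodLib.Dual' K C) C) ≠ ⊥ := top_ne_bot
    obtain ⟨N, -, hNs⟩ := ComodLib.exists_simple_le C htop
    have hsub : ComodLib.IsSubcoalg
        ((isotypicComponent (ComodLib.Dual' K C) C N).restrictScalars K) :=
      ComodLib.isSubcoalg_restrictScalars fun g x hx =>
        (Submodule.IsFullyInvariant.isotypicComponent _ C N) (ComodLib.coeff (A := C) g) hx
    have hall : isotypicComponent (ComodLib.Dual' K C) C N = ⊤ := by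
      rcases hs _ hsub with h | h
      · exact absurd ((Submodule.restrictScalars_eq_bot_iff K (ComodLib.Dual' K C) C).1 h)
          (bot_lt_isotypicComponent N).ne'
      · exact (Submodule.restrictScalars_eq_top_iff K (ComodLib.Dual' K C) C).1 h
    have hN' := ComodLib.isSubcomod_restrictScalars (k := K) (A := C) N
    let cm := ComodLib.subComod hN'
    have hsE : HopfRep.IsSimpleComod K C (N.restrictScalars K) := by
      refine ⟨IsSimpleModule.nontrivial (ComodLib.Dual' K C) N, fun W hW => ?_⟩
      have h1 := ((ComodLib.isSimple_sub_iff N).1 hNs).2 (W.map (N.restrictScalars K).subtype)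
        ((ComodLib.isSubcomod_iff _).2 ?_) (Submodule.map_subtype_le _ _)
      · rcases h1 with h | h
        · exact Or.inl (Submodule.map_injective_of_injective (Submodule.injective_subtype _)
            (by rw [h, Submodule.map_bot]))
        · exact Or.inr (Submodule.map_injective_of_injective (Submodule.injective_subtype _)
            (by rw [h, Submodule.map_subtype_top]))
      · rintro f _ ⟨x, hx, rfl⟩
        exact ⟨f • x, (ComodLib.isSubcomod_iff W).1 hW f x hx, ComodLib.subComod_smul_coe hN' f x⟩
    have : IsSemisimpleModule (ComodLib.Dual' K C) C := by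
      have h : IsSemisimpleModule (ComodLib.Dual' K C)
          (⊤ : Submodule (ComodLib.Dual' K C) C) := hall ▸ inferInstance
      exact IsSemisimpleModule.congr Submodule.topEquiv.symm
    obtain ⟨s, hind, hsup, hsimple⟩ :=
      IsSemisimpleModule.exists_sSupIndep_sSup_simples_eq_top (ComodLib.Dual' K C) C
    have he : ∀ m : s, Nonempty (N ≃ₗ[ComodLib.Dual' K C] m.1) := by
      intro m
      have := hsimple m.1 m.2
      obtain ⟨e⟩ := isIsotypicOfType_submodule_iff.1
        (IsIsotypicOfType.isotypicComponent _ C (S := N)) m.1 (hall.symm ▸ le_top)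
      exact ⟨e.symm⟩
    let g : s → (↥(N.restrictScalars K) →ₗ[K] C) := fun m =>
      { toFun := fun x => ((Classical.choice (he m)) ⟨x.1, x.2⟩ : C)
        map_add' := fun x y => congrArg Subtype.val
          ((Classical.choice (he m)).map_add ⟨x.1, x.2⟩ ⟨y.1, y.2⟩)
        map_smul' := fun c x => congrArg Subtype.val
          (LinearMap.map_smul_of_tower (Classical.choice (he m)).toLinearMap c
            (⟨x.1, x.2⟩ : N)) }
    have hr : ∀ m : s, LinearMap.range (g m) = m.1.restrictScalars K := by
      intro m
      ext x
      constructor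
      · rintro ⟨y, rfl⟩
        exact Subtype.coe_prop _
      · intro hx
        refine ⟨⟨((Classical.choice (he m)).symm ⟨x, hx⟩ : N).1,
          ((Classical.choice (he m)).symm ⟨x, hx⟩).2⟩, ?_⟩
        exact congrArg Subtype.val ((Classical.choice (he m)).apply_symm_apply ⟨x, hx⟩)
    refine ⟨N.restrictScalars K, inferInstance, inferInstance, cm, hsE, s, g,
      fun m => ⟨?_, ?_⟩, ?_, ?_⟩
    · rw [ComodLib.isComodHom_iff]
      intro f x
      show (((Classical.choice (he m)) ⟨_, _⟩ : m.1) : C) =
        f • (((Classical.choice (he m)) ⟨x.1, x.2⟩ : m.1) : C)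
      rw [← Submodule.coe_smul, ← map_smul]
      exact congrArg (fun z : N => ((Classical.choice (he m) z : m.1) : C))
        (Subtype.ext (ComodLib.subComod_smul_coe hN' f x))
    · intro a b h
      exact Subtype.ext (congrArg Subtype.val ((Classical.choice (he m)).injective (Subtype.ext h)) :)
    · simp only [hr]
      rw [ComodLib.restrictScalars_iSupIndep]
      exact (sSupIndep_iff _).1 hind
    · simp only [hr]
      rw [ComodLib.restrictScalars_iSup_eq_top, ← sSup_eq_iSup']
      exact hsup
  · rintro ⟨E, _, _, _, hE, ι, f, hf, -, htop⟩ B hB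
    have := ComodLib.isSimpleComod_iff.1 hE
    have hall : (ComodLib.coeffSpace C K E).restrictScalars K = ⊤ := by
      rw [eq_top_iff, ← htop]
      refine iSup_le fun i => ?_
      rintro _ ⟨x, rfl⟩
      exact ComodLib.range_le_coeffSpace (ComodLib.toHom (f i) (hf i).1) ⟨x, rfl⟩
    rcases ComodLib.eq_bot_or_eq_of_le_coeffSpace (V := E) (hall.symm ▸ le_top) hB with h | h
    · exact Or.inl h
    · exact Or.inr (h.trans hall)

end Groth.Agent.S14850
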