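import Groth.Statements.S14851
import Groth.Agent.ComodLib.Semisimple
-- import your own Groth.Agent.* helpers here

set_option autoImplicit false
universe u v w w'
open HopfRep

namespace Groth.Agent.S14851

open scoped ComodLib

open TensorProduct in
/-- The map E ↦ C(E) from isomorphism classes of simple comodules to simple subcoalgebras is injective,
that is: over a field K, two simple right comodules E, E' over a coalgebra C with the same
coefficient space D (the least subspace D' of C such that the coaction lands in E ⊗ D', resp. E' ⊗
D') are isomorphic as comodules. (The published statement is made for a cosemisimple coalgebra and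
for left comodules; the printed argument for this part uses neither restriction.) -/
theorem result {K : Type u} {C : Type v} [Field K]
    [AddCommGroup C] [Module K C] [Coalgebra K C]
    {E : Type w} [AddCommGroup E] [Module K E] [HopfRep.Comod K C E]
    {E' : Type w'} [AddCommGroup E'] [Module K E'] [HopfRep.Comod K C E']
    (hE : HopfRep.IsSimpleComod K C E) (hE' : HopfRep.IsSimpleComod K C E') (D : Submodule K C)
    (hD : IsLeast {D' : Submodule K C |
      ∀ e : E, HopfRep.Comod.coact (k := K) (A := C) e ∈ LinearMap.range (LinearMap.lTensor E D'.subtype)} D)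
    (hD' : IsLeast {D' : Submodule K C |
      ∀ e : E', HopfRep.Comod.coact (k := K) (A := C) e ∈ LinearMap.range (LinearMap.lTensor E' D'.subtype)} D) :
    ∃ e : E ≃ₗ[K] E', Hoch.IsComodHom C e.toLinearMap := by
  have := ComodLib.isSimpleComod_iff.1 hE
  have := ComodLib.isSimpleComod_iff.1 hE'
  have : Nontrivial E := hE.1
  have heq : ComodLib.coeffSpace C K E = ComodLib.coeffSpace C K E' :=
    Submodule.restrictScalars_injective K (ComodLib.Dual' K C) C
      ((ComodLib.isLeast_eq hD).symm.trans (ComodLib.isLeast_eq hD'))
  obtain ⟨N, hN, hNs⟩ := ComodLib.exists_simple_le C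
    (ComodLib.coeffSpace_ne_bot (k := K) (A := C) (V := E))
  obtain ⟨e⟩ := ComodLib.nonempty_equiv_of_le (V := E) N hN
  obtain ⟨e'⟩ := ComodLib.nonempty_equiv_of_le (V := E') N (heq ▸ hN)
  exact ⟨(e.symm.trans e').restrictScalars K,
    ComodLib.isComodHom_restrictScalars (e.symm.trans e').toLinearMap⟩

end Groth.Agent.S14851
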