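import Groth.Statements.S14855
import Mathlib.RingTheory.WittVector.Identities
import Mathlib.RingTheory.WittVector.Truncated
import Mathlib.RingTheory.AdicCompletion.Basic
import Mathlib.Data.ZMod.Basic
import Mathlib.RingTheory.ZMod
import Mathlib.Data.ZMod.QuotientRing

set_option autoImplicit false
universe u
open CAlg

namespace Groth.Agent.S14855
open WittVector

theorem exists_limit {A : Type u} [CommRing A] (a : A) [IsPrecomplete (Ideal.span {a}) A] (f : ℕ → A)
    (hf : ∀ n, a ^ n ∣ f (n + 1) - f n) : ∃ L, ∀ n, a ^ n ∣ L - f n := by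
  have h : ∀ m n, m ≤ n → a ^ m ∣ f n - f m := fun m n hmn => by
    induction hmn with
    | refl => simp
    | @step k hk ih =>
      rw [show f (k + 1) - f m = (f (k + 1) - f k) + (f k - f m) by ring]
      exact dvd_add ((pow_dvd_pow a hk).trans (hf k)) ih
  obtain ⟨L, hL⟩ := IsPrecomplete.prec' (I := Ideal.span {a}) f fun {m n} hmn => by
    rw [SModEq.sub_mem, smul_eq_mul, Ideal.mul_top, Ideal.span_singleton_pow, Ideal.mem_span_singleton, ← neg_sub,
      dvd_neg]
    exact h m n hmn
  refine ⟨L, fun n => ?_⟩
  have := hL n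
  rwa [SModEq.sub_mem, smul_eq_mul, Ideal.mul_top, Ideal.span_singleton_pow, Ideal.mem_span_singleton, ← neg_sub,
    dvd_neg] at this

theorem eq_zero_of_dvd {A : Type u} [CommRing A] (a : A) [IsHausdorff (Ideal.span {a}) A] {x : A}
    (hx : ∀ n, a ^ n ∣ x) : x = 0 := by
  refine IsHausdorff.haus' (I := Ideal.span {a}) x fun n => ?_
  rw [SModEq.sub_mem, sub_zero, smul_eq_mul, Ideal.mul_top, Ideal.span_singleton_pow, Ideal.mem_span_singleton]
  exact hx n

variable (p : ℕ) [Fact p.Prime] (R : Type u) [CommRing R]

noncomputable def q (n m : ℕ) : WittVector p R →+* TruncatedWittVector p n (R ⧸ Ideal.span {(p : R) ^ m}) :=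
  (WittVector.truncate n).comp (WittVector.map (Ideal.Quotient.mk _))

theorem q_eq_iff (n m : ℕ) (x y : WittVector p R) :
    q p R n m x = q p R n m y ↔ ∀ i < n, (p : R) ^ m ∣ x.coeff i - y.coeff i := by
  constructor
  · intro h i hi
    have := congrArg (fun t : TruncatedWittVector p n _ => t.coeff ⟨i, hi⟩) h
    simp only [q, RingHom.comp_apply, WittVector.coeff_truncate, WittVector.map_coeff] at this
    rwa [Ideal.Quotient.eq, Ideal.mem_span_singleton] at this
  · intro h
    ext i
    simp only [q, RingHom.comp_apply, WittVector.coeff_truncate, WittVector.map_coeff]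
    rw [Ideal.Quotient.eq, Ideal.mem_span_singleton]
    exact h i i.2

theorem eq_of_q [IsHausdorff (Ideal.span {(p : R)}) R] {x y : WittVector p R}
    (h : ∀ n m, q p R n m x = q p R n m y) : x = y := by
  ext i
  exact sub_eq_zero.mp (eq_zero_of_dvd (p : R) fun m => (q_eq_iff p R (i + 1) m x y).mp (h (i + 1) m) i (by omega))

theorem q_pow (n m : ℕ) : q p R n m ((p : WittVector p R) ^ (m * n)) = 0 := by
  rw [map_pow, map_natCast]
  haveI : NeZero (p ^ m) := ⟨pow_ne_zero _ (Fact.out : p.Prime).ne_zero⟩
  let i : ℤ →+* R ⧸ Ideal.span {(p : R) ^ m} := Int.castRingHom _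
  have hi : ∀ z ∈ Ideal.span {((p ^ m : ℕ) : ℤ)}, i z = 0 := by
    intro z hz
    obtain ⟨c, rfl⟩ := Ideal.mem_span_singleton.mp hz
    have h0 : ((p ^ m : ℕ) : R ⧸ Ideal.span {(p : R) ^ m}) = 0 := by
      rw [← map_natCast (Ideal.Quotient.mk (Ideal.span {(p : R) ^ m})) (p ^ m), Ideal.Quotient.eq_zero_iff_mem,
        Nat.cast_pow]
      exact Ideal.mem_span_singleton_self _
    rw [map_mul, map_natCast, h0, zero_mul]
  let f : ZMod (p ^ m) →+* R ⧸ Ideal.span {(p : R) ^ m} :=
    (Ideal.Quotient.lift _ i hi).comp (Int.quotientSpanNatEquivZMod (p ^ m)).symm.toRingHom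
  have h0 : WittVector.truncate n ((p : WittVector p (ZMod (p ^ m))) ^ (m * n)) = 0 := by
    rw [map_pow, map_natCast, ← Nat.cast_pow]
    have hc : Fintype.card (TruncatedWittVector p n (ZMod (p ^ m))) = p ^ (m * n) := by
      rw [TruncatedWittVector.card, ZMod.card, ← pow_mul]
    rw [← hc]
    exact Nat.cast_card_eq_zero _
  have h1 : ∀ i < n, ((p : WittVector p (ZMod (p ^ m))) ^ (m * n)).coeff i = 0 := fun i hi => by
    have := congrArg (fun t : TruncatedWittVector p n _ => t.coeff ⟨i, hi⟩) h0
    simpa only [WittVector.coeff_truncate, TruncatedWittVector.coeff_zero] using this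
  ext i
  rw [TruncatedWittVector.coeff_zero, ← map_natCast (WittVector.truncate (p := p) n) p, ← map_pow,
    WittVector.coeff_truncate, ← map_natCast (WittVector.map (p := p) f) p, ← map_pow, WittVector.map_coeff,
    h1 i i.2, map_zero]

theorem dvd_of_seq [IsAdicComplete (Ideal.span {(p : R)}) R] (x : ℕ → WittVector p R)
    (hx : ∀ j, (p : WittVector p R) ^ j ∣ x (j + 1) - x j) :
    ∃ L, ∀ n m j, m * n ≤ j → q p R n m L = q p R n m (x j) := by
  have hstab : ∀ n m j k, m * n ≤ j → j ≤ k → q p R n m (x k) = q p R n m (x j) := fun n m j k hj hk => by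
    induction hk with
    | refl => rfl
    | @step k hk ih =>
      obtain ⟨c, hc⟩ := hx k
      rw [← ih, ← sub_eq_zero, ← map_sub, hc, map_mul, show k = m * n + (k - m * n) from
        (Nat.add_sub_cancel' (hj.trans hk)).symm, pow_add, map_mul, q_pow, zero_mul, zero_mul]
  have hc : ∀ i, ∃ c : R, ∀ m, (p : R) ^ m ∣ c - (x (m * (i + 1))).coeff i := fun i =>
    exists_limit (p : R) (fun m => (x (m * (i + 1))).coeff i) fun m =>
      (q_eq_iff p R (i + 1) m _ _).mp (hstab (i + 1) m (m * (i + 1)) ((m + 1) * (i + 1)) le_rfl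
        (Nat.mul_le_mul_right _ (Nat.le_succ m))) i (Nat.lt_succ_self i)
  choose c hc using hc
  refine ⟨WittVector.mk p c, fun n m j hj => (q_eq_iff p R n m _ _).mpr fun i hi => ?_⟩
  have hle : m * (i + 1) ≤ j := (Nat.mul_le_mul_left m hi).trans hj
  have h1 := (q_eq_iff p R (i + 1) m _ _).mp (hstab (i + 1) m (m * (i + 1)) j le_rfl hle) i (Nat.lt_succ_self i)
  show (p : R) ^ m ∣ c i - _
  have := dvd_sub (hc i m) h1
  simpa using this

theorem witt_complete [IsAdicComplete (Ideal.span {(p : R)}) R] :
    IsAdicComplete (Ideal.span {(p : WittVector p R)}) (WittVector p R) := by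
  refine { haus' := fun x hx => ?_, prec' := fun f hf => ?_ }
  · refine eq_of_q p R fun n m => ?_
    have := hx (m * n)
    rw [SModEq.sub_mem, sub_zero, smul_eq_mul, Ideal.mul_top, Ideal.span_singleton_pow, Ideal.mem_span_singleton] at this
    obtain ⟨c, rfl⟩ := this
    rw [map_mul, q_pow, zero_mul, map_zero]
  · have hdvd : ∀ {a b}, a ≤ b → (p : WittVector p R) ^ a ∣ f b - f a := fun {a b} hab => by
      have := hf hab
      rwa [SModEq.sub_mem, smul_eq_mul, Ideal.mul_top, Ideal.span_singleton_pow, Ideal.mem_span_singleton, ← neg_sub,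
        dvd_neg] at this
    obtain ⟨L, hL⟩ := dvd_of_seq p R f fun j => hdvd (Nat.le_succ j)
    refine ⟨L, fun j => ?_⟩
    rw [SModEq.sub_mem, smul_eq_mul, Ideal.mul_top, Ideal.span_singleton_pow, Ideal.mem_span_singleton, ← neg_sub,
      dvd_neg]
    choose z hz using fun N => hdvd (Nat.le_add_right j N)
    have hzc : ∃ Z : WittVector p R, ∀ n m N, m * n ≤ N → q p R n m ((p : WittVector p R) ^ j * Z) =
        q p R n m ((p : WittVector p R) ^ j * z N) := by
      choose d hd using fun N => hdvd (Nat.le_succ (j + N))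
      obtain ⟨Z, hZ⟩ := dvd_of_seq p R (fun N => ∑ k ∈ Finset.range N, (p : WittVector p R) ^ k * d k)
        fun N => ⟨d N, by rw [Finset.sum_range_succ]; ring⟩
      refine ⟨Z, fun n m N hN => ?_⟩
      rw [map_mul, hZ n m N hN, ← map_mul, ← hz, Finset.mul_sum]
      congr 1
      clear hN
      induction N with
      | zero => simp
      | succ N ih =>
        rw [Finset.sum_range_succ, ih, ← mul_assoc, ← pow_add, ← hd, ← add_assoc]
        ring
    obtain ⟨Z, hZ⟩ := hzc
    refine ⟨Z, eq_of_q p R fun n m => ?_⟩
    rw [hZ n m (m * n) le_rfl, ← hz, map_sub, map_sub, hL n m (j + m * n) (Nat.le_add_left _ _)]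

/-- Let p be a prime and R a commutative ring which is complete and separated for the p-adic topology.
Then the ring W(R) of p-typical Witt vectors of R is complete and separated for its own p-adic
topology, and it is also complete and separated for the adic topology of the ideal I_R, the kernel
of the projection of W(R) onto the zeroth Witt component. -/
theorem result (p : ℕ) [Fact p.Prime] (R : Type u) [CommRing R]
    [IsAdicComplete (Ideal.span {(p : R)}) R] :
    IsAdicComplete (Ideal.span {(p : WittVector p R)}) (WittVector p R) ∧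
      IsAdicComplete (RingHom.ker (WittVector.constantCoeff : WittVector p R →+* R)) (WittVector p R) := by
  have hc := witt_complete p R
  refine ⟨hc, ?_⟩
  set I := RingHom.ker (WittVector.constantCoeff : WittVector p R →+* R)
  have hV : ∀ y : WittVector p R, y ∈ I ↔ ∃ z, WittVector.verschiebung z = y := fun y => by
    constructor
    · intro hy
      refine ⟨WittVector.mk p fun i => y.coeff (i + 1), WittVector.ext fun i => ?_⟩
      cases i with
      | zero => rw [WittVector.verschiebung_coeff_zero]; exact (RingHom.mem_ker.mp hy).symm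
      | succ i => rw [WittVector.verschiebung_coeff_succ]; rfl
    · rintro ⟨z, rfl⟩
      exact RingHom.mem_ker.mpr (WittVector.verschiebung_coeff_zero z)
  have hmul : ∀ a b : WittVector p R, WittVector.verschiebung a * WittVector.verschiebung b =
      (p : WittVector p R) * WittVector.verschiebung (a * b) := fun a b => by
    rw [← WittVector.verschiebung_mul_frobenius, WittVector.frobenius_verschiebung, ← mul_assoc,
      mul_comm (a * b) (p : WittVector p R), ← nsmul_eq_mul, map_nsmul, nsmul_eq_mul]
  have hpow : ∀ k : ℕ, I ^ (k + 1) = Ideal.span {(p : WittVector p R) ^ k} * I := fun k => by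
    induction k with
    | zero => simp
    | succ k ih =>
      have h2 : I * I = Ideal.span {(p : WittVector p R)} * I := by
        apply le_antisymm
        · rw [Ideal.mul_le]
          intro a ha b hb
          obtain ⟨a, rfl⟩ := (hV a).mp ha
          obtain ⟨b, rfl⟩ := (hV b).mp hb
          rw [hmul]
          exact Ideal.mul_mem_mul (Ideal.mem_span_singleton_self _) ((hV _).mpr ⟨_, rfl⟩)
        · rw [Ideal.span_singleton_mul_le_iff]
          intro a ha
          obtain ⟨a, rfl⟩ := (hV a).mp ha
          rw [show (p : WittVector p R) * WittVector.verschiebung a = WittVector.verschiebung 1 *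
            WittVector.verschiebung a by rw [hmul, one_mul]]
          exact Ideal.mul_mem_mul ((hV _).mpr ⟨_, rfl⟩) ((hV _).mpr ⟨_, rfl⟩)
      rw [pow_succ, ih, mul_assoc, h2, ← mul_assoc, Ideal.span_singleton_mul_span_singleton, pow_succ]
  have hle : ∀ n, (I ^ (n + 1) : Ideal (WittVector p R)) ≤ Ideal.span {(p : WittVector p R) ^ n} := fun n => by
    rw [hpow]; exact Ideal.mul_le.mpr fun a ha b _ => Ideal.mul_mem_right b _ ha
  refine { haus' := fun x hx => eq_zero_of_dvd (p : WittVector p R) fun n => ?_, prec' := fun f hf => ?_ }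
  · have := hx (n + 1)
    rw [SModEq.sub_mem, sub_zero, smul_eq_mul, Ideal.mul_top] at this
    exact Ideal.mem_span_singleton.mp (hle n this)
  · have hd : ∀ {a b}, a ≤ b → f b - f a ∈ I ^ a := fun {a b} hab => by
      have := hf hab
      rw [SModEq.sub_mem, smul_eq_mul, Ideal.mul_top] at this
      rw [← neg_sub]
      exact neg_mem this
    obtain ⟨L, hL⟩ := exists_limit (p : WittVector p R) (fun j => f (j + 1)) fun j =>
      Ideal.mem_span_singleton.mp (hle j (hd (Nat.le_succ (j + 1))))
    refine ⟨L, fun n => ?_⟩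
    rw [SModEq.sub_mem, smul_eq_mul, Ideal.mul_top, ← neg_sub]
    refine neg_mem ?_
    cases n with
    | zero => simp
    | succ k =>
      have hz : ∀ j, ∃ v ∈ I, (p : WittVector p R) ^ (k + j) * v = f (k + j + 2) - f (k + j + 1) := fun j => by
        have h := hd (Nat.le_succ (k + j + 1))
        rw [hpow, Ideal.mem_span_singleton_mul] at h
        exact h
      choose v hv hv' using hz
      obtain ⟨t, ht⟩ := exists_limit (p : WittVector p R) (fun N => ∑ j ∈ Finset.range N, (p : WittVector p R) ^ j * v j)
        fun N => ⟨v N, by rw [Finset.sum_range_succ]; ring⟩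
      have htI : t ∈ I := RingHom.mem_ker.mpr (eq_zero_of_dvd (p : R) fun N => by
        have h1 := map_dvd (WittVector.constantCoeff : WittVector p R →+* R) (ht N)
        rw [map_pow, map_natCast, map_sub, map_sum] at h1
        have h0 : ∀ j, (WittVector.constantCoeff : WittVector p R →+* R) ((p : WittVector p R) ^ j * v j) = 0 :=
          fun j => by rw [map_mul, RingHom.mem_ker.mp (hv j), mul_zero]
        simpa only [h0, Finset.sum_const_zero, sub_zero] using h1)
      have hsum : ∀ N, (p : WittVector p R) ^ k * (∑ j ∈ Finset.range N, (p : WittVector p R) ^ j * v j) =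
          f (k + N + 1) - f (k + 1) := fun N => by
        induction N with
        | zero => simp
        | succ N ih =>
          rw [Finset.sum_range_succ, mul_add, ih, ← mul_assoc, ← pow_add, hv', ← add_assoc]
          ring
      have he : L - f (k + 1) = (p : WittVector p R) ^ k * t := sub_eq_zero.mp (eq_zero_of_dvd (p : WittVector p R)
        fun N => by
          have h1 : (p : WittVector p R) ^ N ∣ L - f (k + N + 1) :=
            (pow_dvd_pow _ (Nat.le_add_left N k)).trans (hL (k + N))
          have h2 : (p : WittVector p R) ^ N ∣ (p : WittVector p R) ^ k *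
              (t - ∑ j ∈ Finset.range N, (p : WittVector p R) ^ j * v j) := (ht N).mul_left _
          rw [mul_sub, hsum] at h2
          have := dvd_sub h1 h2
          convert! this using 1
          ring)
      rw [he, hpow]
      exact Ideal.mul_mem_mul (Ideal.mem_span_singleton_self _) htI

end Groth.Agent.S14855
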