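import Groth.Statements.S14856
import Mathlib.RingTheory.WittVector.Basic
-- import your own Groth.Agent.* helpers here

set_option autoImplicit false
universe u
open CAlg

namespace Groth.Agent.S14856

/-- Let p be a prime and S a commutative ring in which p is a non-zero-divisor. For a p-typical Witt
vector x over S, a natural number m and an integer s ≥ 1, the power p^s divides each of the Witt
components x_0, …, x_m if and only if p^(n+s) divides the n-th ghost component w_n(x) = x_0^(p^n) +
p x_1^(p^(n-1)) + ⋯ + p^n x_n for every n ≤ m. -/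
theorem result (p : ℕ) [Fact p.Prime] (S : Type u) [CommRing S]
    (hS : ∀ y : S, (p : S) * y = 0 → y = 0) (x : WittVector p S) (m s : ℕ) (hs : 1 ≤ s) :
    (∀ i ≤ m, (p : S) ^ s ∣ x.coeff i) ↔
      (∀ n ≤ m, (p : S) ^ (n + s) ∣ WittVector.ghostComponent n x) := by
  have hw : ∀ n, WittVector.ghostComponent n x =
      ∑ i ∈ Finset.range (n + 1), (p : S) ^ i * x.coeff i ^ p ^ (n - i) := by
    intro n
    rw [WittVector.ghostComponent_apply, wittPolynomial_eq_sum_C_mul_X_pow]
    simp
  have hle : ∀ k : ℕ, k + 1 ≤ p ^ k := fun k => Nat.lt_pow_self (Fact.out : p.Prime).one_lt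
  have hterm : ∀ n i, i ≤ n → (p : S) ^ s ∣ x.coeff i →
      (p : S) ^ (n + s) ∣ (p : S) ^ i * x.coeff i ^ p ^ (n - i) := by
    intro n i hi h
    refine dvd_trans (pow_dvd_pow _ (?_ : n + s ≤ i + s * p ^ (n - i))) ?_
    · have h1 := Nat.mul_le_mul_left s (hle (n - i))
      have h2 : n - i ≤ s * (n - i) := Nat.le_mul_of_pos_left _ hs
      rw [Nat.mul_add, Nat.mul_one] at h1
      omega
    · rw [pow_add, pow_mul]
      exact mul_dvd_mul_left _ (pow_dvd_pow_of_dvd h _)
  constructor
  · intro h n hn
    rw [hw]
    exact Finset.dvd_sum fun i hi => hterm n i (Nat.lt_succ_iff.mp (Finset.mem_range.mp hi))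
      (h i ((Nat.lt_succ_iff.mp (Finset.mem_range.mp hi)).trans hn))
  · intro h i
    induction i using Nat.strong_induction_on with
    | _ i ih =>
      intro hi
      have h1 := h i hi
      rw [hw, Finset.sum_range_succ, Nat.sub_self, pow_zero, pow_one] at h1
      replace h1 := (dvd_add_right (Finset.dvd_sum fun j hj => hterm i j (Finset.mem_range.mp hj).le
          (ih j (Finset.mem_range.mp hj) ((Finset.mem_range.mp hj).le.trans hi)))).mp h1
      obtain ⟨c, hc⟩ := h1
      refine ⟨c, sub_eq_zero.mp ?_⟩
      have hreg : ∀ (k : ℕ) (y : S), (p : S) ^ k * y = 0 → y = 0 := by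
        intro k
        induction k with
        | zero => intro y hy; simpa using hy
        | succ k ihk => intro y hy; exact hS y (ihk _ (by rw [← mul_assoc, ← pow_succ]; exact hy))
      refine hreg i _ ?_
      rw [mul_sub, sub_eq_zero, ← mul_assoc, ← pow_add]
      exact hc

end Groth.Agent.S14856
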