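import Groth.Statements.S14857
import Mathlib.RingTheory.WittVector.Identities
import Mathlib.RingTheory.WittVector.Domain
import Mathlib.RingTheory.WittVector.Teichmuller
import Mathlib.Data.Nat.Choose.Dvd
import Mathlib.Tactic.LinearCombination
import Mathlib.Tactic.Ring
-- import your own Groth.Agent.* helpers here

set_option autoImplicit false
open CAlg

namespace Groth.Agent.S14857

/-- For a prime p, the Teichmüller representative [p^p] of the element p^p of the p-adic integers is
divisible by p in the ring of p-typical Witt vectors W(ℤ_p). -/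
theorem result (p : ℕ) [Fact p.Prime] :
    (p : WittVector p ℤ_[p]) ∣ WittVector.teichmuller p ((p : ℤ_[p]) ^ p) := by
  obtain ⟨z, hz⟩ : ∃ z, WittVector.verschiebung z = WittVector.teichmuller p (p : ℤ_[p]) - (p : WittVector p ℤ_[p]) := by
    set x := WittVector.teichmuller p (p : ℤ_[p]) - (p : WittVector p ℤ_[p]) with hx
    have h0 : x.coeff 0 = 0 := by
      show WittVector.constantCoeff x = 0
      rw [hx, map_sub, map_natCast (WittVector.constantCoeff : WittVector p ℤ_[p] →+* ℤ_[p])]
      exact sub_eq_zero.mpr (WittVector.teichmuller_coeff_zero p _)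
    exact ⟨x.shift 1, (WittVector.verschiebung_shift x 0 (fun i hi => (show i = 0 by omega) ▸ h0)).trans (WittVector.ext fun i => by
      rw [WittVector.shift_coeff, Nat.zero_add]) ⟩
  have hsq : WittVector.verschiebung z * WittVector.verschiebung z = (p : WittVector p ℤ_[p]) * WittVector.verschiebung (z * z) := by
    rw [← WittVector.verschiebung_mul_frobenius, WittVector.frobenius_verschiebung,
      show z * (z * (p : WittVector p ℤ_[p])) = p • (z * z) by rw [nsmul_eq_mul]; ring, map_nsmul, nsmul_eq_mul]
  rw [show ((p : ℤ_[p]) ^ p) = (p : ℤ_[p]) ^ p from rfl, map_pow]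
  set V := WittVector.verschiebung z
  rw [show WittVector.teichmuller p (p : ℤ_[p]) = p + V by rw [hz]; ring]
  obtain ⟨w, hw⟩ : ∃ w, V ^ p = (p : WittVector p ℤ_[p]) * w := by
    obtain ⟨m, hm⟩ := Nat.exists_eq_add_of_le (Fact.out : p.Prime).two_le
    refine ⟨WittVector.verschiebung (z * z) * V ^ m, ?_⟩
    have : V ^ p = V * V * V ^ m :=
      (congrArg (V ^ ·) (show p = 2 + m by omega)).trans (by simp only [pow_add, pow_two])
    rw [this, hsq, mul_assoc]
  obtain ⟨r, hr⟩ := exists_add_pow_prime_eq (Fact.out : p.Prime) (p : WittVector p ℤ_[p]) V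
  rw [hr, hw]
  exact ⟨(p : WittVector p ℤ_[p]) ^ (p - 1) + w + (p : WittVector p ℤ_[p]) * V * r, by
    rw [mul_add, mul_add, ← pow_succ', Nat.sub_add_cancel (Fact.out : p.Prime).one_le]; ring⟩

end Groth.Agent.S14857
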