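import Groth.Statements.S14860
import Mathlib
import Groth.Agent.FiltProjLib.Basic
import Groth.Agent.FiltProjLib.Witt
-- import your own Groth.Agent.* helpers here

set_option autoImplicit false
universe u v
open CAlg

namespace Groth.Agent.S14860

set_option maxHeartbeats 400000


/-- Let p be a prime and R a commutative ring in which p is nilpotent; write W = W(R) for the p-typical
Witt vectors and, for n ≥ 0, I_n ⊆ W for the ideal of Witt vectors whose first n components vanish
(the kernel of the truncation W → W_n(R), so W/I_n = W_n(R)). For a W-module P conditions (i) and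
(ii) below are equivalent: (i) P is a projective W-module of finite type; (ii) P is separated for
the filtration by the submodules I_n P, and for every n the W_n(R)-module P/I_n P is finitely
generated and projective. (The published statement is made for every ℤ_(p)-algebra R, the section's
standing convention; over R = ℚ, where W(ℚ) ≅ ℚ^ℕ by the ghost map, the module ⊕_ℕ ℚ satisfies (ii)
but is not finitely generated, and the published proof uses that I_1 is nilpotent in each W_n(R),
which holds when p is nilpotent in R; so p is taken nilpotent here. The third equivalent condition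
of the published statement, freeness Zariski-locally on R, is not rendered.) -/
theorem result (p : ℕ) [Fact p.Prime] (R : Type u) [CommRing R]
    (hp : IsNilpotent (p : R))
    (P : Type v) [AddCommGroup P] [Module (WittVector p R) P] :
    (Module.Finite (WittVector p R) P ∧ Module.Projective (WittVector p R) P) ↔
      ((⨅ n : ℕ, (RingHom.ker (WittVector.truncate (p := p) (R := R) n) • (⊤ : Submodule (WittVector p R) P))) = ⊥ ∧
        ∀ n : ℕ, Module.Finite (WittVector p R ⧸ RingHom.ker (WittVector.truncate (p := p) (R := R) n))
              (P ⧸ (RingHom.ker (WittVector.truncate (p := p) (R := R) n) • (⊤ : Submodule (WittVector p R) P))) ∧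
            Module.Projective (WittVector p R ⧸ RingHom.ker (WittVector.truncate (p := p) (R := R) n))
              (P ⧸ (RingHom.ker (WittVector.truncate (p := p) (R := R) n) • (⊤ : Submodule (WittVector p R) P)))) := by
  refine ⟨fun ⟨_, _⟩ => ⟨?_, fun n => ?_⟩, fun ⟨hbot, h⟩ => ?_⟩
  · rw [Submodule.eq_bot_iff]
    intro x hx
    obtain ⟨k, π, σ, hπ, hσ, h1⟩ := Module.Finite.exists_comp_eq_id_of_projective (WittVector p R) P
    refine hσ ((funext fun i => Groth.Agent.FiltProjLib.wK_haus p R _ fun n => ?_).trans (map_zero σ).symm)
    have hx' := (Submodule.mem_iInf _).1 hx n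
    refine Submodule.smul_induction_on (p := fun y => σ y i ∈ _) hx' (fun a ha y _ => ?_)
      (fun a b ha hb => by rw [map_add, Pi.add_apply]; exact add_mem ha hb)
    rw [map_smul, Pi.smul_apply, smul_eq_mul]
    exact Ideal.mul_mem_right _ _ ha
  · constructor
    · exact Module.Finite.of_restrictScalars_finite (WittVector p R) _ _
    · exact Module.Projective.of_equiv
        (TensorProduct.quotTensorEquivQuotSMul P (Groth.Agent.FiltProjLib.wK p R n)
          |>.extendScalarsOfSurjective (S := WittVector p R ⧸ Groth.Agent.FiltProjLib.wK p R n) Ideal.Quotient.mk_surjective)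
  · have := (h 1).1
    have := fun n => (h n).2
    exact Groth.Agent.FiltProjLib.finite_projective_of_quotients (Groth.Agent.FiltProjLib.wK p R)
      (Groth.Agent.FiltProjLib.wK_anti p R) (Groth.Agent.FiltProjLib.wK_haus p R)
      (Groth.Agent.FiltProjLib.wK_prec p R) (Groth.Agent.FiltProjLib.wK_nil p R hp)
      (fun x hx => (Submodule.eq_bot_iff _).1 hbot x ((Submodule.mem_iInf _).2 hx))

end Groth.Agent.S14860
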