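import Groth.Statements.S14861
import Mathlib
import Mathlib
-- import your own Groth.Agent.* helpers here

set_option autoImplicit false
universe u
open CAlg

namespace Groth.Agent.S14861

/-- Let p be a prime and R a commutative ring without p-torsion which is complete and separated for the
p-adic topology. Let a be a p-typical Witt vector over R and m, u natural numbers. Suppose that for
every s the equation p^u·x = a has a solution in the truncated Witt ring W_m(R/p^s R), i.e. there is
z ∈ W(R) such that the first m Witt components of p^u·z − a lie in p^s R. Then the equation has a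
solution in W_m(R): there is x ∈ W(R) such that the first m Witt components of p^u·x − a vanish.
(The published statement asks only that R have no p-torsion; R is moreover taken p-adically complete
and separated here, which is the standing situation of the surrounding argument and is what the
published proof uses when it passes to the limit over s.) -/
theorem result (p : ℕ) [Fact p.Prime] (R : Type u) [CommRing R]
    (hR : ∀ y : R, (p : R) * y = 0 → y = 0) [IsAdicComplete (Ideal.span {(p : R)}) R]
    (a : WittVector p R) (m u : ℕ)
    (h : ∀ s : ℕ, ∃ z : WittVector p R, ∀ i < m, ((p : WittVector p R) ^ u * z - a).coeff i ∈ Ideal.span {(p : R) ^ s}) :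
    ∃ x : WittVector p R, ∀ i < m, ((p : WittVector p R) ^ u * x - a).coeff i = 0 := by
  classical
  have hw : ∀ (n : ℕ) (x : WittVector p R), WittVector.ghostComponent n x =
      ∑ i ∈ Finset.range (n + 1), (p : R) ^ i * x.coeff i ^ p ^ (n - i) := fun n x => by
    rw [WittVector.ghostComponent_apply, aeval_wittPolynomial]
  have hcancel : ∀ (e : ℕ) (y : R), (p : R) ^ e * y = 0 → y = 0 := by
    intro e
    induction e with
    | zero => intro y h; simpa using h
    | succ e ih => intro y h; exact ih y (hR _ (by rw [← h]; ring))
  choose z hz using h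
  have hzg : ∀ s, ∀ i < m, (p : R) ^ s ∣ (p : R) ^ u * WittVector.ghostComponent i (z s) - WittVector.ghostComponent i a := by
    intro s i hi
    have h1 : WittVector.ghostComponent i ((p : WittVector p R) ^ u * z s - a) =
        (p : R) ^ u * WittVector.ghostComponent i (z s) - WittVector.ghostComponent i a := by
      rw [map_sub, map_mul, map_pow, map_natCast]
    rw [← h1, hw]
    refine Finset.dvd_sum fun j hj => Dvd.dvd.mul_left (dvd_pow ?_ (pow_ne_zero _ (Fact.out : p.Prime).ne_zero)) _
    rw [Finset.mem_range] at hj
    exact Ideal.mem_span_singleton.1 (hz s j (by omega))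
  have main : ∀ i ≤ m, ∃ x : ℕ → R, (∀ j < i, (p : R) ^ u * WittVector.ghostComponent j (WittVector.mk p x) = WittVector.ghostComponent j a) ∧
      ∀ j < i, ∀ t, (p : R) ^ t ∣ x j - (z (t + u + j * m)).coeff j := by
    intro i
    induction i with
    | zero => exact fun _ => ⟨fun _ => 0, fun j hj => absurd hj (Nat.not_lt_zero j), fun j hj => absurd hj (Nat.not_lt_zero j)⟩
    | succ i ih =>
      intro hi
      obtain ⟨x, hx1, hx2⟩ := ih (by omega)
      obtain ⟨r, hr⟩ := hzg u i (by omega)
      set c := WittVector.ghostComponent i (z u) - r with hc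
      have hca : (p : R) ^ u * c = WittVector.ghostComponent i a := by rw [hc, mul_sub, ← hr]; ring
      have hcz : ∀ t, (p : R) ^ t ∣ c - WittVector.ghostComponent i (z (t + u)) := by
        intro t
        obtain ⟨q, hq⟩ := hzg (t + u) i (by omega)
        refine ⟨-q, sub_eq_zero.1 (hcancel u _ ?_)⟩
        rw [← hca, pow_add] at hq
        linear_combination (-1 : R) * hq
      set D := c - ∑ j ∈ Finset.range i, (p : R) ^ j * x j ^ p ^ (i - j) with hD
      have hDz : ∀ t, (p : R) ^ (t + i) ∣ D - (p : R) ^ i * (z (t + u + i * m)).coeff i := by
        intro t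
        have h1 := hw i (z (t + u + i * m))
        rw [Finset.sum_range_succ, Nat.sub_self, pow_zero, pow_one] at h1
        have : D - (p : R) ^ i * (z (t + u + i * m)).coeff i = (c - WittVector.ghostComponent i (z (t + i * m + u))) +
            ∑ j ∈ Finset.range i, (p : R) ^ j * ((z (t + u + i * m)).coeff j ^ p ^ (i - j) - x j ^ p ^ (i - j)) := by
          rw [add_right_comm t (i * m) u, h1, hD]
          simp only [mul_sub, Finset.sum_sub_distrib]; ring
        rw [this]
        refine dvd_add ((pow_dvd_pow _ ?_).trans (hcz (t + i * m))) (Finset.dvd_sum fun j hj => ?_)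
        · have : i ≤ i * m := Nat.le_mul_of_pos_right i (by omega)
          omega
        rw [Finset.mem_range] at hj
        obtain ⟨k, hk⟩ : ∃ k, i = j + (k + 1) := ⟨i - j - 1, by omega⟩
        have e1 : t + u + i * m = (t + (k + 1) * m) + u + j * m := by rw [hk]; ring
        have h2 := hx2 j hj (t + (k + 1) * m)
        rw [← e1] at h2
        refine Dvd.dvd.mul_left (((pow_dvd_pow _ ?_).trans h2).trans ?_) _
        · have : 1 * m ≤ (k + 1) * m := Nat.mul_le_mul_right m (by omega)
          omega
        · rw [← neg_sub (x j ^ _), dvd_neg]
          exact sub_dvd_pow_sub_pow _ _ _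
      obtain ⟨q, hq⟩ := hDz 0
      set xi := (z (0 + u + i * m)).coeff i + q with hxi
      have hxiD : (p : R) ^ i * xi = D := by simp only [zero_add] at hq; simp only [hxi, zero_add]; linear_combination (-1 : R) * hq
      refine ⟨fun j => if j = i then xi else x j, fun j hj => ?_, fun j hj t => ?_⟩
      · rcases Nat.lt_succ_iff_lt_or_eq.1 hj with hj | rfl
        · rw [← hx1 j hj, hw, hw]
          refine congrArg _ (Finset.sum_congr rfl fun l hl => ?_)
          rw [Finset.mem_range] at hl
          simp only [WittVector.coeff_mk, if_neg (show l ≠ i by omega)]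
        · rw [← hca, hw, Finset.sum_range_succ, WittVector.coeff_mk, if_pos rfl, Nat.sub_self, pow_zero, pow_one, hxiD, hD]
          refine congrArg _ ?_
          rw [add_sub, add_sub_assoc, ← sub_eq_zero]
          have : ∑ l ∈ Finset.range j, (p : R) ^ l * (if l = j then xi else x l) ^ p ^ (j - l) =
              ∑ l ∈ Finset.range j, (p : R) ^ l * x l ^ p ^ (j - l) := Finset.sum_congr rfl fun l hl => by
            rw [if_neg (ne_of_lt (Finset.mem_range.1 hl))]
          rw [this]; ring
      · rcases Nat.lt_succ_iff_lt_or_eq.1 hj with hj | rfl
        · simp only [if_neg (ne_of_lt hj)]; exact hx2 j hj t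
        · simp only [if_true]
          obtain ⟨q', hq'⟩ := hDz t
          refine ⟨q', sub_eq_zero.1 (hcancel j _ ?_)⟩
          rw [← hxiD, pow_add] at hq'
          linear_combination hq'
  obtain ⟨x, hx, -⟩ := main m le_rfl
  refine ⟨WittVector.mk p x, fun i hi => ?_⟩
  induction i using Nat.strong_induction_on with
  | _ i ih =>
    have h1 : WittVector.ghostComponent i ((p : WittVector p R) ^ u * WittVector.mk p x - a) = 0 := by
      rw [map_sub, map_mul, map_pow, map_natCast, hx i hi, sub_self]
    rw [hw, Finset.sum_range_succ, Finset.sum_eq_zero (fun j hj => by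
      rw [Finset.mem_range] at hj
      rw [ih j hj (by omega), zero_pow (pow_ne_zero _ (Fact.out : p.Prime).ne_zero), mul_zero]),
      zero_add, Nat.sub_self, pow_zero, pow_one] at h1
    exact hcancel i _ h1

end Groth.Agent.S14861
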