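import Groth.Statements.S14862
import Mathlib
import Mathlib
import Groth.Agent.S14861
-- import your own Groth.Agent.* helpers here

set_option autoImplicit false
universe u
open CAlg

namespace Groth.Agent.S14862

/-- Let p be a prime and S a commutative ring without p-torsion which is complete and separated for the
p-adic topology; write W = W(S) for the p-typical Witt vectors, I_r ⊆ W for the ideal of Witt
vectors whose first r components vanish (the image of the r-th iterate of the Verschiebung) and
W(p^s S) ⊆ W for the ideal of Witt vectors all of whose components lie in p^s S (the kernel of W(S)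
→ W(S/p^s S)). Then for every natural number u the ideal p^u W is closed for the linear topology on
W in which the ideals I_r + W(p^s S) form a neighbourhood basis of zero: the intersection over all r
and s of p^u W + I_r + W(p^s S) equals p^u W. (The published statement asks only that S have no
p-torsion; S is moreover taken p-adically complete and separated here, the case in which the result
is applied and through which the published proof goes.) -/
theorem result (p : ℕ) [Fact p.Prime] (S : Type u) [CommRing S]
    (hS : ∀ y : S, (p : S) * y = 0 → y = 0) [IsAdicComplete (Ideal.span {(p : S)}) S] (u : ℕ) :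
    (⨅ r : ℕ, ⨅ s : ℕ,
        Ideal.span {(p : WittVector p S) ^ u} ⊔ RingHom.ker (WittVector.truncate (p := p) (R := S) r) ⊔
          RingHom.ker (WittVector.map (p := p) (Ideal.Quotient.mk (Ideal.span {(p : S) ^ s})))) =
      Ideal.span {(p : WittVector p S) ^ u} := by
  classical
  refine le_antisymm (fun x hx => ?_) (le_iInf fun r => le_iInf fun s => le_sup_left.trans le_sup_left)
  simp only [Ideal.mem_iInf] at hx
  have happ : ∀ r s : ℕ, ∃ z : WittVector p S, ∀ i < r, ((p : WittVector p S) ^ u * z - x).coeff i ∈ Ideal.span {(p : S) ^ s} := by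
    intro r s
    obtain ⟨y, hy, t2, ht2, hsum⟩ := Submodule.mem_sup.1 (hx r s)
    obtain ⟨y1, hy1, t1, ht1, rfl⟩ := Submodule.mem_sup.1 hy
    obtain ⟨z, rfl⟩ := Ideal.mem_span_singleton'.1 hy1
    refine ⟨z, fun i hi => Ideal.Quotient.eq_zero_iff_mem.1 ?_⟩
    rw [← WittVector.map_coeff]
    have h1 : WittVector.map (p := p) (Ideal.Quotient.mk (Ideal.span {(p : S) ^ s})) ((p : WittVector p S) ^ u * z - x) =
        WittVector.map (p := p) (Ideal.Quotient.mk (Ideal.span {(p : S) ^ s})) (-t1) := by
      rw [← hsum, show (p : WittVector p S) ^ u * z - (z * (p : WittVector p S) ^ u + t1 + t2) = -t1 - t2 by ring, map_sub, RingHom.mem_ker.1 ht2, sub_zero]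
    rw [h1, WittVector.map_coeff, (WittVector.mem_ker_truncate r (-t1)).1 (neg_mem ht1) i hi, map_zero]
  have hex : ∀ r : ℕ, ∃ z : WittVector p S, ∀ i < r, ((p : WittVector p S) ^ u * z - x).coeff i = 0 :=
    fun r => Groth.Agent.S14861.result p S hS x r u (happ r)
  choose z hz using hex
  have hcancel : ∀ (e : ℕ) (y : S), (p : S) ^ e * y = 0 → y = 0 := by
    intro e
    induction e with
    | zero => intro y h; simpa using h
    | succ e ih => intro y h; exact ih y (hS _ (by rw [← h]; ring))
  have hw : ∀ (n : ℕ) (w : WittVector p S), WittVector.ghostComponent n w =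
      ∑ i ∈ Finset.range (n + 1), (p : S) ^ i * w.coeff i ^ p ^ (n - i) := fun n w => by
    rw [WittVector.ghostComponent_apply, aeval_wittPolynomial]
  have hdiv : ∀ (r : ℕ) (w : WittVector p S), (∀ i < r, ((p : WittVector p S) ^ u * w).coeff i = 0) → ∀ i < r, w.coeff i = 0 := by
    intro r w hw0 i hi
    induction i using Nat.strong_induction_on with
    | _ i ih =>
      have h1 : WittVector.ghostComponent i ((p : WittVector p S) ^ u * w) = 0 := by
        rw [hw]
        refine Finset.sum_eq_zero fun j hj => ?_
        rw [hw0 j (by have := Finset.mem_range.1 hj; omega), zero_pow (pow_ne_zero _ (Fact.out : p.Prime).ne_zero), mul_zero]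
      rw [map_mul, map_pow, map_natCast] at h1
      have h2 := hcancel u _ h1
      rw [hw, Finset.sum_range_succ, Finset.sum_eq_zero (fun j hj => by
        rw [Finset.mem_range] at hj
        rw [ih j hj (by omega), zero_pow (pow_ne_zero _ (Fact.out : p.Prime).ne_zero), mul_zero]),
        zero_add, Nat.sub_self, pow_zero, pow_one] at h2
      exact hcancel i _ h2
  let w : WittVector p S := WittVector.mk p fun i => (z (i + 1)).coeff i
  have htr : ∀ r, WittVector.truncate r w = WittVector.truncate r (z r) := by
    intro r
    refine TruncatedWittVector.ext fun i => ?_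
    rw [WittVector.coeff_truncate, WittVector.coeff_truncate, WittVector.coeff_mk]
    have hd := hdiv (i + 1) (z (i + 1) - z r) (fun j hj => by
      have h1 : (p : WittVector p S) ^ u * (z (i + 1) - z r) = ((p : WittVector p S) ^ u * z (i + 1) - x) - ((p : WittVector p S) ^ u * z r - x) := by ring
      have h2 : WittVector.truncate (i + 1) ((p : WittVector p S) ^ u * (z (i + 1) - z r)) = 0 := by
        rw [h1, map_sub]
        rw [RingHom.mem_ker.1 ((WittVector.mem_ker_truncate (i + 1) _).2 (hz (i + 1))), RingHom.mem_ker.1 ((WittVector.mem_ker_truncate (i + 1) _).2 fun l hl => hz r l (by omega)), sub_self]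
      exact (WittVector.mem_ker_truncate (i + 1) _).1 (RingHom.mem_ker.2 h2) j hj)
    have h3 : WittVector.truncate ((i : ℕ) + 1) (z (i + 1)) = WittVector.truncate ((i : ℕ) + 1) (z r) :=
      sub_eq_zero.1 (by rw [← map_sub]; exact RingHom.mem_ker.1 ((WittVector.mem_ker_truncate _ _).2 hd))
    have := congrArg (fun v => TruncatedWittVector.coeff (⟨i, by omega⟩ : Fin ((i : ℕ) + 1)) v) h3
    simpa [WittVector.coeff_truncate] using this
  refine Ideal.mem_span_singleton'.2 ⟨w, WittVector.ext fun i => ?_⟩
  have h4 : WittVector.truncate (i + 1) (w * (p : WittVector p S) ^ u) = WittVector.truncate (i + 1) x := by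
    have h5 := RingHom.mem_ker.1 ((WittVector.mem_ker_truncate (i + 1) _).2 (hz (i + 1)))
    rw [map_sub, sub_eq_zero] at h5
    rw [← h5, map_mul, map_mul, htr, mul_comm]
  have := congrArg (fun v => TruncatedWittVector.coeff (⟨i, by omega⟩ : Fin (i + 1)) v) h4
  simp only [WittVector.coeff_truncate] at this
  exact this

end Groth.Agent.S14862
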