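import Groth.Statements.S14864
import Mathlib


-- import your own Groth.Agent.* helpers here

set_option autoImplicit false
universe u
open CAlg

namespace Groth.Agent.S14864

/-- Let p be a prime and R a commutative ring in which p is nilpotent; write W = W(R) for the p-typical
Witt vectors, I ⊆ W for the kernel of the projection onto the zeroth component, and I_n ⊆ W for the
kernel of the truncation W → W_n(R). The p-adic topology on W equals its I-adic topology — every
power of the ideal pW contains some power of I and every power of I contains some power of pW — and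
this common topology is finer than the V-adic one: every I_n contains some power of pW. -/
theorem result (p : ℕ) [Fact p.Prime] (R : Type u) [CommRing R]
    (hp : IsNilpotent (p : R)) :
    (∀ n : ℕ, ∃ m : ℕ, (RingHom.ker (WittVector.constantCoeff : WittVector p R →+* R)) ^ m ≤ Ideal.span {(p : WittVector p R)} ^ n) ∧
      (∀ n : ℕ, ∃ m : ℕ, Ideal.span {(p : WittVector p R)} ^ m ≤ (RingHom.ker (WittVector.constantCoeff : WittVector p R →+* R)) ^ n) ∧
        ∀ n : ℕ, ∃ m : ℕ, Ideal.span {(p : WittVector p R)} ^ m ≤ RingHom.ker (WittVector.truncate (p := p) (R := R) n) := by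
  classical
  obtain ⟨N, hN⟩ := hp
  set I := RingHom.ker (WittVector.constantCoeff : WittVector p R →+* R)
  have hmem : ∀ x : WittVector p R, x ∈ I ↔ x.coeff 0 = 0 := fun x => RingHom.mem_ker
  have hpI : (p : WittVector p R) ^ N ∈ I := by rw [RingHom.mem_ker, map_pow, map_natCast, hN]
  have h1 : I * I ≤ Ideal.span {(p : WittVector p R)} * I := by
    rw [Ideal.mul_le]
    intro x hx y hy
    obtain ⟨a, rfl⟩ : ∃ a, WittVector.verschiebung a = x :=
      ⟨_, (WittVector.eq_iterate_verschiebung (n := 1) fun i hi => by
        rw [Nat.lt_one_iff.mp hi]; exact (hmem x).mp hx).symm⟩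
    obtain ⟨b, rfl⟩ : ∃ b, WittVector.verschiebung b = y :=
      ⟨_, (WittVector.eq_iterate_verschiebung (n := 1) fun i hi => by
        rw [Nat.lt_one_iff.mp hi]; exact (hmem y).mp hy).symm⟩
    rw [← WittVector.verschiebung_mul_frobenius, WittVector.frobenius_verschiebung, ← mul_assoc,
      mul_comm (a * b), ← nsmul_eq_mul, map_nsmul, nsmul_eq_mul]
    exact Ideal.mul_mem_mul (Ideal.mem_span_singleton_self _)
      ((hmem _).mpr (WittVector.verschiebung_coeff_zero _))
  have h2 : ∀ n : ℕ, I ^ (n + 1) ≤ Ideal.span {(p : WittVector p R)} ^ n * I := by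
    intro n
    induction n with
    | zero => simp
    | succ n ih =>
      rw [pow_succ I (n + 1), pow_succ (Ideal.span {(p : WittVector p R)}) n]
      refine (Ideal.mul_mono_left ih).trans ?_
      rw [mul_assoc, mul_assoc]
      exact Ideal.mul_mono_right h1
  refine ⟨fun n => ⟨n + 1, (h2 n).trans Ideal.mul_le_left⟩, fun n => ⟨N * n, ?_⟩, fun n => ⟨N * n, ?_⟩⟩
  · rw [Ideal.span_singleton_pow, Ideal.span_singleton_le_iff_mem, pow_mul]
    exact Ideal.pow_mem_pow hpI n
  · rw [Ideal.span_singleton_pow, Ideal.span_singleton_le_iff_mem]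
    induction n with
    | zero => rw [WittVector.mem_ker_truncate]; intro i hi; omega
    | succ n ih =>
      rw [WittVector.mem_ker_truncate] at ih ⊢
      intro i hi
      obtain ⟨a, ha⟩ : ∃ a, WittVector.verschiebung^[n] a = (p : WittVector p R) ^ (N * n) :=
        ⟨_, (WittVector.eq_iterate_verschiebung ih).symm⟩
      have hfix : ∀ j, WittVector.frobenius^[j] ((p : WittVector p R) ^ N) = (p : WittVector p R) ^ N := by
        intro j
        exact Function.iterate_fixed (by rw [map_pow, map_natCast]) j
      rw [Nat.mul_succ, pow_add, ← ha, WittVector.iterate_verschiebung_mul_left, hfix]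
      rcases Nat.lt_succ_iff_lt_or_eq.mp hi with hi | rfl
      · exact WittVector.iterate_verschiebung_coeff_eq_zero _ hi
      · have hh := WittVector.iterate_verschiebung_coeff (a * (p : WittVector p R) ^ N) i 0
        rw [zero_add] at hh
        rw [hh, WittVector.mul_coeff_zero]
        rw [(hmem _).mp hpI, mul_zero]

end Groth.Agent.S14864
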