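import Groth.Statements.S14867
import Mathlib
import Groth.Agent.FiltProjLib.Witt
import Groth.Agent.FiltProjLib.Lift
-- import your own Groth.Agent.* helpers here

set_option autoImplicit false
universe u
open CAlg

namespace Groth.Agent.S14867

set_option maxHeartbeats 400000

open Groth.Agent.FiltProjLib in
theorem hyps (p : ℕ) [Fact p.Prime] (S R : Type u) [CommRing S] [CommRing R] (φ : S →+* R)
    (hnil : ∀ a : S, φ a = 0 → IsNilpotent a) (hp : IsNilpotent (p : S)) :
    (∀ x ∈ RingHom.ker (WittVector.map (p := p) φ), ∀ n, ∃ N : ℕ, x ^ N ∈ wK p S n) ∧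
      ∀ b : WittVector p R, (∀ n, b ∈ (wK p S n).map (WittVector.map φ)) → b = 0 := by
  refine ⟨fun x hx n => ?_, fun b hb => wK_haus p R b fun n => ?_⟩
  · obtain ⟨m, hm⟩ := wK_nil p S hp n
    obtain ⟨N, hN⟩ := hnil (x.coeff 0) (by
      rw [← WittVector.map_coeff, RingHom.mem_ker.1 hx, WittVector.zero_coeff])
    refine ⟨N * m, hm ?_⟩
    rw [pow_mul]
    refine Ideal.pow_mem_pow ((WittVector.mem_ker_truncate 1 _).2 fun i hi => ?_) m
    obtain rfl : i = 0 := by omega
    change WittVector.constantCoeff (x ^ N) = 0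
    rw [map_pow]
    exact hN
  · refine Ideal.map_le_iff_le_comap.2 (fun y hy => ?_) (hb n)
    rw [Ideal.mem_comap, WittVector.mem_ker_truncate]
    intro i hi
    rw [WittVector.map_coeff, (WittVector.mem_ker_truncate n y).1 hy i hi, map_zero]

/-- Let p be a prime and S → R a surjective homomorphism of commutative rings such that every element of
its kernel 𝔞 is nilpotent and p is nilpotent in S; write J = W(𝔞) for the kernel of the induced
surjection W(S) → W(R) of rings of p-typical Witt vectors. Then finitely generated projective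
modules lift along W(S) → W(R), uniquely up to isomorphism: for every finitely generated projective
W(R)-module P there is a finitely generated projective W(S)-module P̃ together with a surjection P̃
→ P, semilinear over W(S) → W(R), whose kernel is J·P̃ (that is, an isomorphism W(R) ⊗_{W(S)} P̃ ≅
P); and for any two such pairs (P̃_1, π_1), (P̃_2, π_2) there is a W(S)-linear isomorphism P̃_1 ≅
P̃_2 compatible with π_1 and π_2. -/
theorem result (p : ℕ) [Fact p.Prime] (S R : Type u)
    [CommRing S] [CommRing R] (φ : S →+* R) (hφ : Function.Surjective φ)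
    (hnil : ∀ a : S, φ a = 0 → IsNilpotent a) (hp : IsNilpotent (p : S))
    (P : Type u) [AddCommGroup P] [Module (WittVector p R) P]
    [Module.Finite (WittVector p R) P] [Module.Projective (WittVector p R) P] :
    (∃ (P' : Type u) (_ : AddCommGroup P') (_ : Module (WittVector p S) P'),
        Module.Finite (WittVector p S) P' ∧ Module.Projective (WittVector p S) P' ∧
          ∃ π : P' →ₛₗ[WittVector.map (p := p) φ] P, Function.Surjective π ∧
            LinearMap.ker π = RingHom.ker (WittVector.map (p := p) φ) • (⊤ : Submodule (WittVector p S) P')) ∧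
      ∀ (P₁ : Type u) [AddCommGroup P₁] [Module (WittVector p S) P₁]
        [Module.Finite (WittVector p S) P₁] [Module.Projective (WittVector p S) P₁]
        (P₂ : Type u) [AddCommGroup P₂] [Module (WittVector p S) P₂]
        [Module.Finite (WittVector p S) P₂] [Module.Projective (WittVector p S) P₂]
        (π₁ : P₁ →ₛₗ[WittVector.map (p := p) φ] P) (π₂ : P₂ →ₛₗ[WittVector.map (p := p) φ] P),
        Function.Surjective π₁ →
          LinearMap.ker π₁ = RingHom.ker (WittVector.map (p := p) φ) • (⊤ : Submodule (WittVector p S) P₁) →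
        Function.Surjective π₂ →
          LinearMap.ker π₂ = RingHom.ker (WittVector.map (p := p) φ) • (⊤ : Submodule (WittVector p S) P₂) →
        ∃ e : P₁ ≃ₗ[WittVector p S] P₂, ∀ x : P₁, π₂ (e x) = π₁ x := by
  obtain ⟨hJ, hB⟩ := hyps p S R φ hnil hp
  refine ⟨?_, fun P₁ _ _ _ _ P₂ _ _ _ _ π₁ π₂ h1 h2 h3 h4 => ?_⟩
  · exact Groth.Agent.FiltProjLib.exists_lift _ (Groth.Agent.FiltProjLib.wK_anti p S)
      (Groth.Agent.FiltProjLib.wK_haus p S) (Groth.Agent.FiltProjLib.wK_prec p S) _ hJ _
      (WittVector.map_surjective φ hφ) (fun _ => RingHom.mem_ker) hB P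
  · exact Groth.Agent.FiltProjLib.lift_unique _ (Groth.Agent.FiltProjLib.wK_anti p S)
      (Groth.Agent.FiltProjLib.wK_haus p S) (Groth.Agent.FiltProjLib.wK_prec p S) _ hJ _
      (WittVector.map_surjective φ hφ) (fun _ => RingHom.mem_ker) P₁ P₂ π₁ π₂ h1 h2 h3 h4

end Groth.Agent.S14867
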