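import Groth.Statements.S14869
import Mathlib.LinearAlgebra.TensorProduct.Tower
import Mathlib.LinearAlgebra.TensorProduct.RightExactness
import Mathlib.Algebra.Module.Projective
-- import your own Groth.Agent.* helpers here

set_option autoImplicit false
universe u v w
open CAlg
open scoped TensorProduct

namespace Groth.Agent.S14869

open TensorProduct in
/-- Let S → R be a surjective homomorphism of commutative rings, let π : P_1 → P_2 be a surjective
homomorphism of S-modules with P_2 projective, and let π̄ : R ⊗_S P_1 → R ⊗_S P_2 be its base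
change. Then every R-linear section σ̄ of π̄ lifts to a section of π: there is an S-linear map σ :
P_2 → P_1 with π ∘ σ = id whose base change R ⊗_S σ is σ̄. -/
theorem result (S R : Type u) [CommRing S] [CommRing R] [Algebra S R]
    (hSR : Function.Surjective (algebraMap S R))
    (P₁ : Type v) [AddCommGroup P₁] [Module S P₁]
    (P₂ : Type w) [AddCommGroup P₂] [Module S P₂] [Module.Projective S P₂]
    (π : P₁ →ₗ[S] P₂) (hπ : Function.Surjective π)
    (σ' : R ⊗[S] P₂ →ₗ[R] R ⊗[S] P₁) (hσ' : (π.baseChange R).comp σ' = LinearMap.id) :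
    ∃ σ : P₂ →ₗ[S] P₁, π.comp σ = LinearMap.id ∧ σ.baseChange R = σ' := by
  obtain ⟨σ₀, hσ₀⟩ := Module.projective_lifting_property π LinearMap.id hπ
  -- the S-linear map K → R ⊗ P₁
  let K := LinearMap.ker π
  let j : P₁ →ₗ[S] R ⊗[S] P₁ := TensorProduct.mk S R P₁ 1
  let d : P₂ →ₗ[S] R ⊗[S] P₁ :=
    (σ'.restrictScalars S) ∘ₗ TensorProduct.mk S R P₂ 1 - j ∘ₗ σ₀
  have hd : ∀ y, d y ∈ LinearMap.range (j ∘ₗ K.subtype) := by
    intro y
    have hex := lTensor_exact R (LinearMap.exact_subtype_ker_map π) hπ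
    have h0 : π.lTensor R (d y) = 0 := by
      have h1 := DFunLike.congr_fun hσ' ((1 : R) ⊗ₜ[S] y)
      rw [LinearMap.comp_apply, LinearMap.id_apply] at h1
      have h2 := DFunLike.congr_fun hσ₀ y
      rw [LinearMap.comp_apply, LinearMap.id_apply] at h2
      show π.lTensor R (σ' ((1 : R) ⊗ₜ[S] y) - (1 : R) ⊗ₜ[S] σ₀ y) = 0
      rw [map_sub, LinearMap.lTensor_tmul, h2]
      exact sub_eq_zero.mpr h1
    obtain ⟨w, hw⟩ := (hex (d y)).mp h0
    rw [← hw]
    clear hw h0
    induction w using TensorProduct.induction_on with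
    | zero => rw [map_zero]; exact zero_mem _
    | add a b ha hb => rw [map_add]; exact add_mem ha hb
    | tmul r k =>
      obtain ⟨s, rfl⟩ := hSR r
      refine ⟨s • k, ?_⟩
      simp [j, K, TensorProduct.smul_tmul', Algebra.smul_def]
  obtain ⟨δ, hδ⟩ := Module.projective_lifting_property (LinearMap.rangeRestrict (j ∘ₗ K.subtype))
    (d.codRestrict _ hd) (LinearMap.surjective_rangeRestrict _)
  refine ⟨σ₀ + K.subtype ∘ₗ δ, ?_, ?_⟩
  · ext y
    have h2 := DFunLike.congr_fun hσ₀ y
    simp only [LinearMap.comp_apply, LinearMap.add_apply, map_add] at h2 ⊢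
    rw [h2, show π (K.subtype (δ y)) = 0 from (δ y).2, add_zero]
  · ext y
    have h3 : j (K.subtype (δ y)) = d y := congr_arg Subtype.val (DFunLike.congr_fun hδ y)
    show (1 : R) ⊗ₜ[S] (σ₀ y + K.subtype (δ y)) = σ' ((1 : R) ⊗ₜ[S] y)
    rw [TensorProduct.tmul_add]
    change (1 : R) ⊗ₜ[S] σ₀ y + j (K.subtype (δ y)) = _
    rw [h3]
    simp [d, j]

end Groth.Agent.S14869
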