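import Groth.Statements.S14871
import Groth.Agent.PLieLib.Exist
-- import your own Groth.Agent.* helpers here

set_option autoImplicit false
universe u v
open PLie

namespace Groth.Agent.S14871

open PLieLib

/-- Let `L` be a finite-dimensional Lie algebra over a field of characteristic `p` equipped with a
`p`-mapping `φ`. Then the solvable radical of `L` is stable under `φ` (it is a `p`-subalgebra). -/
theorem result
    (k : Type u) [Field k] (p : ℕ) [Fact p.Prime] [CharP k p]
    (L : Type v) [LieRing L] [LieAlgebra k L] [Module.Finite k L]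
    (φ : PLie.PMap k p L) (x : L) (hx : x ∈ LieAlgebra.radical k L) :
    φ x ∈ LieAlgebra.radical k L := by
  classical
  have hx' := hx
  let Rad := LieAlgebra.radical k L
  have hbr : ∀ y : L, ⁅y, φ x⁆ ∈ Rad := by
    intro y
    obtain ⟨n, hn⟩ := Nat.exists_eq_add_of_le (Fact.out : p.Prime).one_le
    rw [← lie_skew, lie_pmap, hn, add_comm, pow_succ', Module.End.mul_apply, LieAlgebra.ad_apply]
    exact neg_mem (lie_mem_left k L Rad _ _ hx)
  let J : LieIdeal k L :=
    { (Rad.toSubmodule ⊔ (k ∙ φ x)) with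
      lie_mem := fun {y m} hm => by
        obtain ⟨r, hr, s, hs, rfl⟩ := Submodule.mem_sup.1 hm
        obtain ⟨c, rfl⟩ := Submodule.mem_span_singleton.1 hs
        rw [lie_add, lie_smul]
        exact Submodule.mem_sup_left (add_mem (Rad.lie_mem hr) (Submodule.smul_mem Rad.toSubmodule c (hbr y))) }
  have hJ : ⁅J, J⁆ ≤ Rad := by
    rw [LieSubmodule.lie_le_iff]
    intro a ha b hb
    obtain ⟨r, hr, s, hs, rfl⟩ := Submodule.mem_sup.1 hb
    obtain ⟨c, rfl⟩ := Submodule.mem_span_singleton.1 hs
    rw [lie_add, lie_smul]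
    exact add_mem (Rad.lie_mem hr) (Submodule.smul_mem Rad.toSubmodule c (hbr a))
  have hsol : LieAlgebra.IsSolvable J := by
    obtain ⟨n, hn⟩ := (LieAlgebra.isSolvable_iff k Rad).1 inferInstance
    refine (LieAlgebra.isSolvable_iff k J).2 ⟨n + 1, ?_⟩
    rw [LieIdeal.derivedSeries_eq_bot_iff] at hn ⊢
    rw [LieAlgebra.derivedSeriesOfIdeal_add, eq_bot_iff]
    refine le_trans ?_ hn.le
    refine LieAlgebra.derivedSeriesOfIdeal_mono ?_ n
    rw [LieAlgebra.derivedSeriesOfIdeal_succ, LieAlgebra.derivedSeriesOfIdeal_zero]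
    exact hJ
  have hJle : J ≤ Rad := (LieAlgebra.LieIdeal.solvable_iff_le_radical k L J).1 hsol
  exact hJle (Submodule.mem_sup_right (Submodule.mem_span_singleton_self (φ x)))


end Groth.Agent.S14871
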