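import Groth.Statements.S14873
import Groth.Agent.PLieLib.Exist
-- import your own Groth.Agent.* helpers here

set_option autoImplicit false
universe u v
open PLie

namespace Groth.Agent.S14873

open PLieLib

/-- Let `L` be a finite-dimensional Lie algebra over a field of characteristic `p` equipped with a
`p`-mapping `φ`, and let `I` be an ideal of `L` stable under `φ` all of whose elements are
`p`-nilpotent (for instance the `p`-radical, the largest such ideal). Then `I` is nilpotent as a Lie
ring, hence lies in the nilradical of `L`. (The published item also records that the nilradical lies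
in the solvable radical, which is immediate since nilpotent ideals are solvable.) -/
theorem result
    (k : Type u) [Field k] (p : ℕ) [Fact p.Prime] [CharP k p]
    (L : Type v) [LieRing L] [LieAlgebra k L] [Module.Finite k L]
    (φ : PLie.PMap k p L) (I : LieIdeal k L) (hsub : ∀ x ∈ I, φ x ∈ I)
    (hnil : ∀ x ∈ I, PLie.IsPNilpotent φ x) : LieRing.IsNilpotent I := by
  classical
  rw [LieAlgebra.isNilpotent_iff_forall (R := k)]
  intro x
  obtain ⟨n, hn⟩ := hnil x.1 x.2
  have hiter : ∀ (m : ℕ) (y : L), LieAlgebra.ad k L (φ.toFun^[m] y) = LieAlgebra.ad k L y ^ (p ^ m) := by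
    intro m
    induction m with
    | zero => intro y; simp
    | succ m ih =>
      intro y
      rw [Function.iterate_succ_apply, ih, φ.ad_map, ← pow_mul, pow_succ']
  have h0 : LieAlgebra.ad k L x.1 ^ (p ^ n) = 0 := by rw [← hiter, hn, map_zero]
  refine ⟨p ^ n, LinearMap.ext fun z => Subtype.ext ?_⟩
  have key : ∀ (m : ℕ) (w : I), (((LieAlgebra.ad k I x) ^ m) w : L) = ((LieAlgebra.ad k L x.1) ^ m) w.1 := by
    intro m
    induction m with
    | zero => intro w; rfl
    | succ m ih => intro w; rw [pow_succ', pow_succ', Module.End.mul_apply, Module.End.mul_apply, ← ih]; rfl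
  rw [key, h0]
  rfl


end Groth.Agent.S14873
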