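import Groth.Statements.S14874
import Groth.Agent.PLieLib.Nilradical
import Groth.Agent.S14873
-- import your own Groth.Agent.* helpers here

set_option autoImplicit false
universe u v
open PLie

namespace Groth.Agent.S14874

open PLieLib

/-- Let `L` be a finite-dimensional Lie algebra over a field of characteristic `p` equipped with a
`p`-mapping `φ`. Let `N` be the nilradical of `L` (the ideal nilpotent as a Lie ring that contains
every such ideal) and `P` its `p`-radical (the largest ideal stable under `φ` all of whose elements
are `p`-nilpotent). Then `N = P` if and only if the centre of `L` is contained in `P`. -/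
theorem result
    (k : Type u) [Field k] (p : ℕ) [Fact p.Prime] [CharP k p]
    (L : Type v) [LieRing L] [LieAlgebra k L] [Module.Finite k L]
    (φ : PLie.PMap k p L)
    (N : LieIdeal k L) (hN : LieRing.IsNilpotent N)
    (hNmax : ∀ I : LieIdeal k L, LieRing.IsNilpotent I → I ≤ N)
    (P : LieIdeal k L) (hPsub : ∀ x ∈ P, φ x ∈ P) (hPnil : ∀ x ∈ P, PLie.IsPNilpotent φ x)
    (hPmax : ∀ J : LieIdeal k L, (∀ x ∈ J, φ x ∈ J) → (∀ x ∈ J, PLie.IsPNilpotent φ x) → J ≤ P) :
    N = P ↔ LieAlgebra.center k L ≤ P := by
  classical
  haveI := hN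
  have hPN : P ≤ N := by
    refine hNmax P ?_
    exact Groth.Agent.S14873.result k p L φ P hPsub hPnil
  constructor
  · rintro rfl
    refine hNmax _ ?_
    infer_instance
  · intro hc
    refine le_antisymm (hPmax N (fun x hx => nilradical_stable φ N hNmax x hx) fun x hx => ?_) hPN
    obtain ⟨K, hK⟩ := exists_ad_pow_eq_zero N
    have hiter : ∀ (m : ℕ) (y : L), LieAlgebra.ad k L (φ.toFun^[m] y) = LieAlgebra.ad k L y ^ (p ^ m) := by
      intro m
      induction m with
      | zero => intro y; simp
      | succ m ih =>
        intro y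
        rw [Function.iterate_succ_apply, ih, φ.ad_map, ← pow_mul, pow_succ']
    have hz : LieAlgebra.ad k L (φ.toFun^[K] x) = 0 := by
      rw [hiter]
      exact hK x hx _ (Nat.lt_pow_self (Fact.out : p.Prime).one_lt).le
    have hmem : φ.toFun^[K] x ∈ P := hc (by
      rw [LieModule.mem_maxTrivSubmodule]
      intro y
      rw [← lie_skew]
      have := LinearMap.congr_fun hz y
      rw [LieAlgebra.ad_apply, LinearMap.zero_apply] at this
      rw [this, neg_zero])
    obtain ⟨n, hn⟩ := hPnil _ hmem
    exact ⟨n + K, by rw [Function.iterate_add_apply, hn]⟩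


end Groth.Agent.S14874
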