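import Groth.Statements.S14875
import Mathlib
-- import your own Groth.Agent.* helpers here

set_option autoImplicit false
universe u v
open PLie

namespace Groth.Agent.S14875


/-- Let `L` be a finite-dimensional Lie algebra over a field of characteristic `p` equipped with a
`p`-mapping `φ`, whose Killing form is non-degenerate. Let `U` and `H` be Lie subalgebras of `L`
such that `H` is the normaliser of `U`, `U` is the set of elements of `H` that lie in the solvable
radical of `H` and are `p`-nilpotent, and the orthogonal of `U` for the Killing form is closed under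
the bracket. Then `U` is the orthogonal of `H` for the Killing form. (The published statement is for
the Lie algebra of a reductive group over a field of characteristic `p` with its canonical
`p`-structure; this row states it for any finite-dimensional Lie algebra with a `p`-mapping.) -/
theorem result
    (k : Type u) [Field k] (p : ℕ) [Fact p.Prime] [CharP k p]
    (L : Type v) [LieRing L] [LieAlgebra k L] [Module.Finite k L]
    (φ : PLie.PMap k p L) (hκ : (killingForm k L).Nondegenerate)
    (U H : LieSubalgebra k L) (hH : H = U.normalizer)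
    (hU : ∀ x : L, x ∈ U ↔ ∃ hx : x ∈ H, (⟨x, hx⟩ : ↥H) ∈ LieAlgebra.radical k ↥H ∧ PLie.IsPNilpotent φ x)
    (hperp : ∀ a b : L, (∀ y ∈ U, killingForm k L a y = 0) → (∀ y ∈ U, killingForm k L b y = 0) →
      ∀ y ∈ U, killingForm k L ⁅a, b⁆ y = 0) :
    ∀ x : L, x ∈ U ↔ ∀ h ∈ H, killingForm k L h x = 0 := by
  classical
  let B : LinearMap.BilinForm k L := killingForm k L
  have hrefl : B.IsRefl := fun a b h => by
    rw [show B b a = B a b from LieModule.traceForm_comm k L L b a]
    exact h
  have hsymm : ∀ a b, B a b = B b a := fun a b => LieModule.traceForm_comm k L L a b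
  -- `ad u` is nilpotent for `u ∈ U`
  have hnil : ∀ u : L, u ∈ U → _root_.IsNilpotent (LieAlgebra.ad k L u) := by
    intro u hu
    obtain ⟨-, -, n, hn⟩ := (hU u).1 hu
    have hiter : ∀ (m : ℕ) (y : L), LieAlgebra.ad k L (φ.toFun^[m] y) = LieAlgebra.ad k L y ^ (p ^ m) := by
      intro m
      induction m with
      | zero => intro y; simp
      | succ m ih =>
        intro y
        rw [Function.iterate_succ_apply, ih, φ.ad_map, ← pow_mul, pow_succ']
    exact ⟨p ^ n, by rw [← hiter, hn, map_zero]⟩
  haveI : LieModule.IsNilpotent U L := (LieModule.isNilpotent_iff_forall (R := k)).2 fun u => by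
    exact hnil u.1 u.2
  have hHU : ∀ h ∈ H, ∀ u : L, u ∈ U → ⁅h, u⁆ ∈ U := by
    intro h hh u hu
    rw [hH] at hh
    exact (LieSubalgebra.mem_normalizer_iff U h).1 hh u hu
  -- `H ⊆ U^⊥`
  have h1 : ∀ h ∈ H, ∀ u : L, u ∈ U → B h u = 0 := by
    intro h hh u hu
    have hstab : ∀ i, ∀ w ∈ LieModule.lowerCentralSeries k U L i, ⁅h, w⁆ ∈ LieModule.lowerCentralSeries k U L i := by
      intro i
      induction i with
      | zero => simp
      | succ i ih =>
        intro w hw
        rw [LieModule.lowerCentralSeries_succ, ← LieSubmodule.mem_toSubmodule,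
          LieSubmodule.lieIdeal_oper_eq_linear_span'] at hw
        induction hw using Submodule.span_induction with
        | mem z hz =>
          obtain ⟨a, -, m, hm, rfl⟩ := hz
          rw [LieSubalgebra.coe_bracket_of_module, leibniz_lie, LieModule.lowerCentralSeries_succ]
          exact add_mem (LieSubmodule.lie_mem_lie (x := (⟨⁅h, (a : L)⁆, hHU h hh a a.2⟩ : U)) (LieSubmodule.mem_top _) hm)
            (LieSubmodule.lie_mem_lie (x := a) (LieSubmodule.mem_top _) (ih m hm))
        | zero => simp
        | add y z _ _ hy hz => rw [lie_add]; exact add_mem hy hz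
        | smul c z _ hz => rw [lie_smul]; exact Submodule.smul_mem (LieSubmodule.toSubmodule _) c hz
    obtain ⟨n, hn⟩ := (LieModule.isNilpotent_iff k U L).1 inferInstance
    have hf : _root_.IsNilpotent (LieAlgebra.ad k L h ∘ₗ LieAlgebra.ad k L u) := by
      refine ⟨n, LinearMap.ext fun w => ?_⟩
      have : ∀ i, ((LieAlgebra.ad k L h ∘ₗ LieAlgebra.ad k L u) ^ i) w ∈ LieModule.lowerCentralSeries k U L i := by
        intro i
        induction i with
        | zero => simp
        | succ i ih =>
          rw [pow_succ', Module.End.mul_apply, LinearMap.comp_apply, LieAlgebra.ad_apply, LieAlgebra.ad_apply]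
          refine hstab _ _ ?_
          rw [LieModule.lowerCentralSeries_succ]
          exact LieSubmodule.lie_mem_lie (x := (⟨u, hu⟩ : U)) (LieSubmodule.mem_top _) ih
      have h2 := this n
      rw [hn, LieSubmodule.mem_bot] at h2
      exact h2
    exact (LinearMap.isNilpotent_trace_of_isNilpotent hf).eq_zero
  -- `M = U^⊥` lies in `H`
  have horth : B.orthogonal (B.orthogonal U.toSubmodule) = U.toSubmodule :=
    LinearMap.BilinForm.orthogonal_orthogonal hκ hrefl U.toSubmodule
  have hM : ∀ m : L, (∀ y ∈ U, B m y = 0) → m ∈ H := by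
    intro m hm
    rw [hH, LieSubalgebra.mem_normalizer_iff]
    intro u hu
    show ⁅m, u⁆ ∈ U.toSubmodule
    rw [← horth, LinearMap.BilinForm.mem_orthogonal_iff]
    intro m' hm'
    rw [LinearMap.BilinForm.mem_orthogonal_iff] at hm'
    show B m' ⁅m, u⁆ = 0
    rw [show B m' ⁅m, u⁆ = B ⁅m', m⁆ u from (LieModule.traceForm_apply_lie_apply k L L m' m u).symm]
    exact hperp m' m (fun y hy => (hsymm m' y).trans (hm' y hy)) hm u hu
  intro x
  refine ⟨fun hx h hh => h1 h hh x hx, fun hx => ?_⟩
  show x ∈ U.toSubmodule
  rw [← horth, LinearMap.BilinForm.mem_orthogonal_iff]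
  intro m hm
  rw [LinearMap.BilinForm.mem_orthogonal_iff] at hm
  exact hx m (hM m fun y hy => (hsymm m y).trans (hm y hy))


end Groth.Agent.S14875
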