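import Groth.Statements.S14879
import Mathlib

-- import your own Groth.Agent.* helpers here

set_option autoImplicit false
universe u
open Finset
open AlgGrp

namespace Groth.Agent.S14879
open Equiv

theorem sign_eq_signAux {n : ℕ} (hn : 2 ≤ n) (σ : Equiv.Perm (Fin n)) : Equiv.Perm.sign σ = Equiv.Perm.signAux σ := by
  let φ : Equiv.Perm (Fin n) →* ℤˣ :=
    { toFun := Equiv.Perm.signAux, map_one' := Equiv.Perm.signAux_one n, map_mul' := Equiv.Perm.signAux_mul }
  have hs : Function.Surjective φ := by
    intro u
    rcases Int.units_eq_one_or u with rfl | rfl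
    · exact ⟨1, φ.map_one⟩
    · exact ⟨Equiv.swap ⟨0, by omega⟩ ⟨1, by omega⟩, Equiv.Perm.signAux_swap (by simp [Fin.ext_iff])⟩
  exact (DFunLike.congr_fun (Equiv.Perm.eq_sign_of_surjective_hom (s := φ) hs) σ).symm


/-- Let k be a field of characteristic zero, n = p + r with p, r ≥ 1, M an n × n matrix over k, A a set
of p row indices and B a set of r row indices, both listed increasingly. For a permutation π of the
indices, with permutation matrix P_π, let Y_A(M·P_π) be the minor of M·P_π on the rows A and the
first p columns, and Z_B(M·P_π) the minor on the rows B and the last r columns. Then the sum over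
all π of sign(π)·Y_A(M·P_π)·Z_B(M·P_π) equals p!·r!·(−1)^N·det M when B is the complement of A,
where N is the number of pairs (a, b) with a in A, b outside A and b < a, and equals 0 otherwise.
Taking det M = 1 this says that the pairing (f, h) ↦ Σ_π sign(π) f(π) h(π) between the spans of the
left p-minors and of the right r-minors is invariant under left translation by matrices of
determinant one and pairs Y_A with the signed complementary minor to p!·r!. (The published statement
asserts that the two families of minors are dual bases for this pairing, that is, the value 1 in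
place of p!·r!; the p!·r! permutations preserving the two column blocks each contribute the same
signed term, so this row carries that factor, which is 1 only for n = 2.) -/
theorem result (k : Type u) [Field k] [CharZero k]
    (p r : ℕ) (hp : 1 ≤ p) (hr : 1 ≤ r) (M : Matrix (Fin (p + r)) (Fin (p + r)) k)
    (A : Finset (Fin (p + r))) (hA : A.card = p) (B : Finset (Fin (p + r))) (hB : B.card = r) :
    ∑ π : Equiv.Perm (Fin (p + r)), (((Equiv.Perm.sign π : ℤˣ) : ℤ) : k) *
      ((M * π.permMatrix k).submatrix (A.orderEmbOfFin hA) (Fin.castAdd r)).det *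
      ((M * π.permMatrix k).submatrix (B.orderEmbOfFin hB) (Fin.natAdd p)).det =
    if B = Aᶜ then ((p.factorial * r.factorial : ℕ) : k) *
      (-1 : k) ^ ((A ×ˢ Aᶜ).filter (fun ab => ab.2 < ab.1)).card * M.det else 0 := by
  classical
  set Af := A.orderEmbOfFin hA
  set Bf := B.orderEmbOfFin hB
  let rowf : Fin (p + r) → Fin (p + r) := Fin.append Af Bf
  have hperm : ∀ (π : Equiv.Perm (Fin (p + r))) i j, (M * π.permMatrix k) i j = M i (π.symm j) := by
    intro π i j
    rw [Matrix.mul_apply, Finset.sum_eq_single (π.symm j)]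
    · simp [Equiv.Perm.permMatrix, PEquiv.toMatrix_apply]
    · intro b _ hb
      have : π b ≠ j := fun h => hb (by rw [← h, Equiv.symm_apply_apply])
      simp [Equiv.Perm.permMatrix, PEquiv.toMatrix_apply, this]
    · simp
  let blk : Equiv.Perm (Fin p) → Equiv.Perm (Fin r) → Equiv.Perm (Fin (p + r)) := fun α β =>
    finSumFinEquiv.permCongr (Equiv.sumCongr α β)
  have hblk1 : ∀ α β i, blk α β (Fin.castAdd r i) = Fin.castAdd r (α i) := fun α β i => by simp [blk]
  have hblk2 : ∀ α β j, blk α β (Fin.natAdd p j) = Fin.natAdd p (β j) := fun α β j => by simp [blk]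
  have hdetT : ∀ {m : ℕ} (N : Matrix (Fin m) (Fin m) k), N.det = ∑ σ : Equiv.Perm (Fin m), ((Equiv.Perm.sign σ : ℤ) : k) * ∏ i, N i (σ i) := by
    intro m N
    rw [← Matrix.det_transpose, Matrix.det_apply']
    rfl
  have key : ∀ π : Equiv.Perm (Fin (p + r)), ((Equiv.Perm.sign π : ℤ) : k) *
      ((M * π.permMatrix k).submatrix Af (Fin.castAdd r)).det *
      ((M * π.permMatrix k).submatrix Bf (Fin.natAdd p)).det =
      ∑ α : Equiv.Perm (Fin p), ∑ β : Equiv.Perm (Fin r),
        ((Equiv.Perm.sign (π⁻¹ * blk α β) : ℤ) : k) * ∏ x, M (rowf x) ((π⁻¹ * blk α β) x) := by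
    intro π
    rw [hdetT, hdetT, mul_assoc, Finset.sum_mul_sum, Finset.mul_sum]
    refine Finset.sum_congr rfl fun α _ => ?_
    rw [Finset.mul_sum]
    refine Finset.sum_congr rfl fun β _ => ?_
    rw [Equiv.Perm.sign_mul, Equiv.Perm.sign_inv, Equiv.Perm.sign_permCongr, Equiv.Perm.sign_sumCongr, Fin.prod_univ_add]
    simp only [Matrix.submatrix_apply, hperm, rowf, Fin.append_left, Fin.append_right, Equiv.Perm.mul_apply, hblk1, hblk2]
    show _ = _ * ((∏ i, M (Af i) (π.symm (Fin.castAdd r (α i)))) * ∏ j, M (Bf j) (π.symm (Fin.natAdd p (β j))))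
    push_cast
    ring
  rw [Finset.sum_congr rfl fun π _ => key π]
  have hinner : ∀ α β, ∑ π : Equiv.Perm (Fin (p + r)), ((Equiv.Perm.sign (π⁻¹ * blk α β) : ℤ) : k) * ∏ x, M (rowf x) ((π⁻¹ * blk α β) x)
      = (M.submatrix rowf id).det := by
    intro α β
    rw [hdetT]
    exact Fintype.sum_equiv ((Equiv.inv _).trans (Equiv.mulRight (blk α β))) _ _ fun π => rfl
  rw [Finset.sum_comm]
  simp only [Finset.sum_comm (s := (Finset.univ : Finset (Equiv.Perm (Fin (p + r))))) (t := (Finset.univ : Finset (Equiv.Perm (Fin r)))), hinner,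
    Finset.sum_const, Finset.card_univ, Fintype.card_perm, Fintype.card_fin, smul_smul, nsmul_eq_mul]
  split_ifs with hBA
  · have hinj : Function.Injective rowf := by
      refine Fin.append_injective_iff.2 ⟨Af.injective, Bf.injective, fun i j h => ?_⟩
      have h1 : Af i ∈ A := Finset.orderEmbOfFin_mem A hA i
      have h2 : Bf j ∈ B := Finset.orderEmbOfFin_mem B hB j
      rw [hBA, Finset.mem_compl] at h2
      exact h2 (h ▸ h1)
    let σ : Equiv.Perm (Fin (p + r)) := Equiv.ofBijective rowf (Finite.injective_iff_bijective.1 hinj)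
    have hdet : (M.submatrix rowf id).det = ((Equiv.Perm.sign σ : ℤ) : k) * M.det := Matrix.det_permute σ M
    rw [hdet, sign_eq_signAux (by omega) σ]
    have hsign : Equiv.Perm.signAux σ = (-1) ^ ((A ×ˢ Aᶜ).filter (fun ab => ab.2 < ab.1)).card := by
      rw [Equiv.Perm.signAux, Finset.prod_ite, Finset.prod_const_one, mul_one, Finset.prod_const]
      congr 1
      refine Finset.card_bij (fun x _ => (σ x.2, σ x.1)) ?_ ?_ ?_
      · rintro ⟨x1, x2⟩ hx
        rw [Finset.mem_filter, Equiv.Perm.mem_finPairsLT] at hx
        obtain ⟨hlt, hle⟩ := hx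
        have hne : σ x1 ≠ σ x2 := σ.injective.ne hlt.ne'
        simp only [Finset.mem_filter, Finset.mem_product]
        refine ⟨?_, lt_of_le_of_ne hle hne⟩
        revert hlt hle
        refine Fin.addCases (fun i => ?_) (fun i => ?_) x1 <;> refine Fin.addCases (fun j => ?_) (fun j => ?_) x2 <;>
          intro hlt hle <;> simp only [σ, Equiv.ofBijective_apply, rowf, Fin.append_left, Fin.append_right] at hle ⊢
        · refine absurd hle (not_le.2 (Af.strictMono ?_))
          exact hlt
        · simp [Fin.lt_def] at hlt; omega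
        · exact ⟨Finset.orderEmbOfFin_mem A hA j, hBA ▸ Finset.orderEmbOfFin_mem B hB i⟩
        · refine absurd hle (not_le.2 (Bf.strictMono ?_))
          exact Nat.lt_of_add_lt_add_left (show p + (j : ℕ) < p + (i : ℕ) from hlt)
      · rintro ⟨a1, a2⟩ _ ⟨b1, b2⟩ _ h
        simp only [Prod.mk.injEq, EmbeddingLike.apply_eq_iff_eq] at h
        obtain ⟨rfl, rfl⟩ := h
        rfl
      · rintro ⟨a, b⟩ hab
        simp only [Finset.mem_filter, Finset.mem_product] at hab
        obtain ⟨⟨ha, hb⟩, hlt⟩ := hab
        rw [← hBA] at hb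
        obtain ⟨i, rfl⟩ : ∃ i, Af i = a := by
          have := Finset.range_orderEmbOfFin A hA; exact (Set.ext_iff.1 this a).2 ha
        obtain ⟨j, rfl⟩ : ∃ j, Bf j = b := by
          have := Finset.range_orderEmbOfFin B hB; exact (Set.ext_iff.1 this b).2 hb
        refine ⟨⟨Fin.natAdd p j, Fin.castAdd r i⟩, ?_, ?_⟩
        · rw [Finset.mem_filter, Equiv.Perm.mem_finPairsLT]
          exact ⟨by simp [Fin.lt_def]; omega, by simp [σ, rowf, hlt.le]⟩
        · simp [σ, rowf]
    rw [hsign]
    push_cast
    ring
  · have hdet : (M.submatrix rowf id).det = 0 := by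
      obtain ⟨x, y, hxy, hne⟩ := Function.not_injective_iff.1 (fun hinj : Function.Injective rowf => hBA (by
        refine Finset.eq_of_subset_of_card_le (fun b hb => ?_) (by rw [Finset.card_compl, hA, hB, Fintype.card_fin]; omega)
        rw [Finset.mem_compl]
        intro hbA
        obtain ⟨i, hi⟩ : ∃ i, Af i = b := (Set.ext_iff.1 (Finset.range_orderEmbOfFin A hA) b).2 hbA
        obtain ⟨j, hj⟩ : ∃ j, Bf j = b := (Set.ext_iff.1 (Finset.range_orderEmbOfFin B hB) b).2 hb
        exact (Fin.append_injective_iff.1 hinj).2.2 i j (hi.trans hj.symm)))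
      exact Matrix.det_zero_of_row_eq hne (funext fun c => by simp [hxy])
    rw [hdet]
    simp

end Groth.Agent.S14879
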