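import Groth.Statements.S14885
-- import your own Groth.Agent.* helpers here

set_option autoImplicit false
set_option backward.isDefEq.respectTransparency false
universe u v
open CategoryTheory TopologicalSpace Opposite AlgebraicGeometry Topology
open AlgGrp

namespace Groth.Agent.S14885

/-- Let a group Γ act on a ringed space X (a topological space with a sheaf of rings) by automorphisms
τ_g, and let π : X → Y be a Γ-invariant morphism of ringed spaces which exhibits Y as the quotient
ringed space X/Γ: the underlying continuous map of π is a topological quotient map whose fibres are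
exactly the Γ-orbits, and for every open subset V of Y the ring map O_Y(V) → O_X(π⁻¹V) is injective
with image the sections s satisfying τ_g^♯(s) = s for all g. Then (Y, π) is a categorical quotient
for the action in the category of ringed spaces: every morphism of ringed spaces f : X → Z with f ∘
τ_g = f for all g (as morphisms of ringed spaces) factors uniquely as f = f̄ ∘ π. -/
theorem result (X Y : SheafedSpace CommRingCat.{u}) (Γ : Type v) [Group Γ]
    (τ : Γ →* Aut X) (π : X ⟶ Y) (hτ : ∀ g : Γ, (τ g).hom ≫ π = π)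
    (h1 : IsQuotientMap π.hom.base)
    (h2 : ∀ x x' : X, π.hom.base x = π.hom.base x' ↔ ∃ g : Γ, (τ g).hom.hom.base x = x')
    (h3 : ∀ V : Opens Y, Function.Injective (π.hom.c.app (op V)) ∧
      Set.range (π.hom.c.app (op V)) =
        {s | ∀ g : Γ, (τ g).hom.hom.c.app (op ((Opens.map π.hom.base).obj V)) s =
          X.presheaf.map (eqToHom (congrArg (fun f : X ⟶ Y => op ((Opens.map f.hom.base).obj V)) (hτ g).symm)) s})
    (Z : SheafedSpace CommRingCat.{u}) (f : X ⟶ Z) (hf : ∀ g : Γ, (τ g).hom ≫ f = f) :
    ∃! fbar : Y ⟶ Z, π ≫ fbar = f := by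
  have hfac : Function.FactorsThrough f.hom.base π.hom.base := fun x x' e => by
    obtain ⟨g, rfl⟩ := (h2 x x').1 e
    exact (congrArg (fun φ : X ⟶ Z => φ.hom.base x) (hf g)).symm
  let πc : C(X, Y) := ⟨π.hom.base, h1.continuous⟩
  let fb : (Y : TopCat) ⟶ (Z : TopCat) :=
    TopCat.ofHom (IsQuotientMap.lift (f := πc) h1 (TopCat.Hom.hom f.hom.base) hfac)
  have hfb : π.hom.base ≫ fb = f.hom.base :=
    TopCat.hom_ext (IsQuotientMap.lift_comp (f := πc) h1 (TopCat.Hom.hom f.hom.base) hfac)
  have e : ∀ U : (Opens Z)ᵒᵖ, op ((Opens.map f.hom.base).obj U.unop) =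
      op ((Opens.map π.hom.base).obj ((Opens.map fb).obj U.unop)) := fun U => by rw [← hfb]; rfl
  let φ : ∀ U : (Opens Z)ᵒᵖ, Z.presheaf.obj U ⟶
      X.presheaf.obj (op ((Opens.map π.hom.base).obj ((Opens.map fb).obj U.unop))) :=
    fun U => f.hom.c.app U ≫ X.presheaf.map (eqToHom (e U))
  have hinv : ∀ (U : (Opens Z)ᵒᵖ) (s : Z.presheaf.obj U),
      φ U s ∈ Set.range (π.hom.c.app (op ((Opens.map fb).obj U.unop))) := by
    intro U s
    rw [(h3 _).2]
    intro g
    have c := PresheafedSpace.congr_app (congrArg InducedCategory.Hom.hom (hf g)) U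
    have n := (τ g).hom.hom.c.naturality (eqToHom (e U))
    have key : φ U ≫ (τ g).hom.hom.c.app _ = φ U ≫ X.presheaf.map
        (eqToHom (congrArg (fun f : X ⟶ Y => op ((Opens.map f.hom.base).obj ((Opens.map fb).obj U.unop))) (hτ g).symm)) := by
      simp only [φ, Category.assoc]
      rw [n, ← Category.assoc]
      refine Eq.trans (congrArg (· ≫ _) c) ?_
      simp only [Category.assoc]
      erw [← X.presheaf.map_comp, ← X.presheaf.map_comp]
      rfl
    exact ConcreteCategory.congr_hom key s
  choose ψ hψ using hinv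
  have inj : ∀ U : (Opens Z)ᵒᵖ, Function.Injective (π.hom.c.app (op ((Opens.map fb).obj U.unop))) :=
    fun U => (h3 _).1
  let ψh : ∀ U : (Opens Z)ᵒᵖ, Z.presheaf.obj U ⟶ (fb _* Y.presheaf).obj U := fun U => CommRingCat.ofHom
    { toFun := ψ U
      map_one' := inj U (by rw [hψ, map_one, map_one])
      map_mul' := fun a b => inj U (by rw [hψ, map_mul, map_mul, hψ, hψ])
      map_zero' := inj U (by rw [hψ, map_zero, map_zero])
      map_add' := fun a b => inj U (by rw [hψ, map_add, map_add, hψ, hψ]) }
  have hψh : ∀ U, ψh U ≫ π.hom.c.app (op ((Opens.map fb).obj U.unop)) = φ U := fun U => CommRingCat.hom_ext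
    (RingHom.ext (hψ U))
  let cnat : Z.presheaf ⟶ fb _* Y.presheaf :=
    { app := ψh
      naturality := fun U V i => CommRingCat.hom_ext (RingHom.ext fun s => inj V (by
        refine ConcreteCategory.congr_hom (f := (Z.presheaf.map i ≫ ψh V) ≫ π.hom.c.app (op ((Opens.map fb).obj V.unop)))
          (g := (ψh U ≫ (fb _* Y.presheaf).map i) ≫ π.hom.c.app (op ((Opens.map fb).obj V.unop))) ?_ s
        have n1 := f.hom.c.naturality i
        have n2 := π.hom.c.naturality ((Opens.map fb).map i.unop).op
        rw [Category.assoc, hψh, Category.assoc]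
        erw [n2]
        rw [← Category.assoc (ψh U)]
        erw [hψh U]
        simp only [φ, ← Category.assoc]
        erw [n1]
        simp only [Category.assoc]
        erw [← X.presheaf.map_comp, ← X.presheaf.map_comp]
        rfl)) }
  refine ⟨InducedCategory.homMk (⟨fb, cnat⟩ : Y.toPresheafedSpace ⟶ Z.toPresheafedSpace),
    SheafedSpace.ext _ _ hfb ?_, fun g hg => ?_⟩
  · refine NatTrans.ext (funext fun U => ?_)
    show (ψh U ≫ π.hom.c.app _) ≫ X.presheaf.map _ = f.hom.c.app U
    erw [hψh U]
    simp only [φ, Category.assoc]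
    erw [← X.presheaf.map_comp]
    erw [X.presheaf.map_id, Category.comp_id]
  · have hb : g.hom.base = fb := by
      refine TopCat.hom_ext (ContinuousMap.ext fun y => ?_)
      obtain ⟨x, rfl⟩ := h1.surjective y
      exact ((congrArg (fun φ : X ⟶ Z => φ.hom.base x) hg)).trans
        (congrArg (fun φ : (X : TopCat) ⟶ Z => φ x) hfb).symm
    refine SheafedSpace.ext _ _ hb ?_
    refine NatTrans.ext (funext fun U => CommRingCat.hom_ext (RingHom.ext fun s => inj U ?_))
    have key : (g.hom.c.app U ≫ Y.presheaf.map (eqToHom (show (Opens.map g.hom.base).op.obj U = (Opens.map fb).op.obj U from by rw [hb]))) ≫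
        π.hom.c.app (op ((Opens.map fb).obj U.unop)) = ψh U ≫ π.hom.c.app (op ((Opens.map fb).obj U.unop)) := by
      rw [hψh, Category.assoc]
      erw [π.hom.c.naturality, ← Category.assoc]
      have c := PresheafedSpace.congr_app (congrArg InducedCategory.Hom.hom hg) U
      refine Eq.trans (congrArg (· ≫ _) c) ?_
      simp only [φ, Category.assoc]
      erw [← X.presheaf.map_comp]
      rfl
    refine Eq.trans ?_ (ConcreteCategory.congr_hom key s)
    rw [CommRingCat.comp_apply, NatTrans.comp_app, Functor.whiskerRight_app, eqToHom_app]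
    rfl

end Groth.Agent.S14885
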