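import Groth.Statements.S14887
import Groth.Agent.ValFibLib.Dim
import Groth.Agent.ValFibLib.Basic
import Groth.Agent.HilbPolyLib.Snapper
import Groth.Agent.UOpenLib.Chevalley
-- import your own Groth.Agent.* helpers here

set_option autoImplicit false
set_option backward.isDefEq.respectTransparency false
set_option linter.all false
universe u
open CategoryTheory AlgebraicGeometry
open FlatMor

namespace Groth.Agent.S14887

/-- Let R be a valuation ring and let φ : X → Spec R be flat and locally of finite presentation. Call x
∈ X fibre-generic when it is the generic point of an irreducible component of its fibre, i.e. no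
point y ≠ x with φ y = φ x specializes to x. Then every generization of a fibre-generic point is
fibre-generic. (The published statement allows an arbitrary base scheme and takes φ finitely
presented. Over a two-dimensional base it fails: for the affine line over the affine plane with
coordinates a, b, the closed point u = a/b of the generic fibre specializes to the generic point of
the fibre over a = b = 0, and the chain-lifting step of the published proof does not hold in that
generality. This row takes the base to be the spectrum of a valuation ring, the case in which the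
result is applied to relative curves, and assumes only local finite presentation, the property being
local on X.) -/
theorem result
    (R : Type u) [CommRing R] [IsDomain R] [ValuationRing R] {X : Scheme.{u}}
    (φ : X ⟶ Spec (CommRingCat.of R)) [Flat φ] [LocallyOfFinitePresentation φ]
    (x x' : X) (hgen : x' ⤳ x) (hx : ∀ y : X, y ⤳ x → φ y = φ x → y = x) :
    ∀ y : X, y ⤳ x' → φ y = φ x' → y = x' := by
  intro y hy hφ
  by_contra hne
  obtain ⟨m, hm⟩ := UOpenLib.exists_fibreClosureDim_eq_nat φ x'
  have h1 : UOpenLib.fibreClosureDim φ y ≤ UOpenLib.fibreClosureDim φ x := by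
    refine (UOpenLib.fibreClosureDim_le_fibreDimAt φ (hy.trans hgen)).trans (le_of_eq ?_)
    exact UOpenLib.fibreDimAt_eq_of_max φ fun z hz hxz => hx z (specializes_iff_mem_closure.2 hxz) hz
  have h2 : UOpenLib.fibreClosureDim φ x ≤ UOpenLib.fibreClosureDim φ x' := by
    refine ValFibLib.fibreClosureDim_le_of_specializes φ hgen (U := ⊤) (isAffineOpen_top _) trivial fun a b => ?_
    let e := (Scheme.ΓSpecIso (CommRingCat.of R)).commRingCatIsoToRingEquiv
    rcases ValuationRing.dvd_total (e a) (e b) with h | h
    · exact Or.inl (by simpa using map_dvd e.symm h)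
    · exact Or.inr (by simpa using map_dvd e.symm h)
  obtain ⟨p, hp⟩ : ∃ p, φ x' = p := ⟨_, rfl⟩
  obtain ⟨z, hz⟩ : y ∈ Set.range (φ.fiberι p).base := by rw [φ.range_fiberι]; exact hφ.trans hp
  obtain ⟨z', hz'⟩ : x' ∈ Set.range (φ.fiberι p).base := by rw [φ.range_fiberι]; exact hp
  have hzz : z ⤳ z' := (φ.fiberι p).isEmbedding.isInducing.specializes_iff.1 (by rw [hz, hz']; exact hy)
  have hd : topologicalKrullDim ↥(closure ({z} : Set ↥(φ.fiber p))) ≤ m := by
    rw [← UOpenLib.fibreClosureDim_fiberι, hz, ← hm]
    exact h1.trans h2
  have hlt : topologicalKrullDim ↥(closure ({z'} : Set ↥(φ.fiber p))) < (m : ℕ) := by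
    refine HilbPolyLib.dim_lt_of_notMem (η := z) isClosed_closure
      (specializes_iff_closure_subset.1 hzz) (fun h => hne ?_) subset_rfl (d := m) (hd.trans_lt (by exact_mod_cast Nat.lt_succ_self m))
    rw [← hz, ← hz', ((specializes_iff_mem_closure.2 h).antisymm hzz).eq]
  rw [← UOpenLib.fibreClosureDim_fiberι, hz', hm] at hlt
  exact lt_irrefl _ hlt


end Groth.Agent.S14887
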