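import Groth.Statements.S14888
-- import your own Groth.Agent.* helpers here

set_option autoImplicit false
universe u
open CategoryTheory AlgebraicGeometry
open CAlg

namespace Groth.Agent.S14888

open PrimeSpectrum in
/-- In a ring with finite spectrum a localization at a prime is a localization away from an element. -/
theorem exists_away {A : Type u} [CommRing A] [Finite (PrimeSpectrum A)] (p : Ideal A) [p.IsPrime]
    (S : Type u) [CommRing S] [Algebra A S] [IsLocalization.AtPrime S p] :
    ∃ g : A, IsLocalization.Away g S := by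
  classical
  haveI : Fintype (PrimeSpectrum A) := Fintype.ofFinite _
  have h : ∀ q : PrimeSpectrum A, ∃ a : A, a ∉ p ∧ (¬ q.asIdeal ≤ p → a ∈ q.asIdeal) := fun q => by
    by_cases hq : q.asIdeal ≤ p
    · exact ⟨1, fun h1 => Ideal.IsPrime.ne_top ‹_› ((Ideal.eq_top_iff_one _).2 h1), fun h2 => absurd hq h2⟩
    · obtain ⟨a, ha, hap⟩ := Set.not_subset.1 hq
      exact ⟨a, hap, fun _ => ha⟩
  choose a ha ha' using h
  refine ⟨∏ q, a q, (IsLocalization.iff_of_le_of_exists_dvd (S := S) (Submonoid.powers (∏ q, a q)) p.primeCompl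
    ?_ ?_).2 ‹_›⟩
  · exact Submonoid.powers_le.2 (prod_mem (S := p.primeCompl) fun q _ => ha q)
  · intro n hn
    have h1 : (∏ q, a q) ∈ (Ideal.span {n}).radical := by
      rw [Ideal.radical_eq_sInf, Ideal.mem_sInf]
      rintro Q ⟨hQn, hQ⟩
      refine Ideal.prod_mem Q (Finset.mem_univ (⟨Q, hQ⟩ : PrimeSpectrum A)) (ha' ⟨Q, hQ⟩ fun hle => hn (hle (hQn ?_)))
      exact Ideal.mem_span_singleton_self n
    obtain ⟨m, hm⟩ := h1
    exact ⟨_, ⟨m, rfl⟩, Ideal.mem_span_singleton.1 hm⟩


/-- Let R be a valuation ring whose spectrum is finite (finite height) and let f : X → Spec R be locally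
of finite type with locally quasi-finite fibres. For every x ∈ X the canonical morphism Spec O_{X,x}
→ X is an open immersion, and the composite Spec O_{X,x} → Spec R is locally of finite type; in
particular O_{X,x} is finitely generated as an R-algebra. (The published statement takes X
quasi-finite over Spec R; the assertions are local at x, so this row assumes only that X is locally
of finite type with discrete fibres.) -/
theorem result
    (R : Type u) [CommRing R] [IsDomain R] [ValuationRing R] [Finite (PrimeSpectrum R)]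
    {X : Scheme.{u}} (f : X ⟶ Spec (CommRingCat.of R)) [LocallyOfFiniteType f] [LocallyQuasiFinite f]
    (x : X) :
    IsOpenImmersion (X.fromSpecStalk x) ∧ LocallyOfFiniteType (X.fromSpecStalk x ≫ f) := by
  suffices h : IsOpenImmersion (X.fromSpecStalk x) from ⟨h, by haveI := h; infer_instance⟩
  obtain ⟨U, hU, hxU, -⟩ := exists_isAffineOpen_mem_and_subset (X := X) (x := x) (U := ⊤) trivial
  haveI : IsAffine (U : Scheme.{u}) := hU
  haveI : QuasiCompact (U.ι ≫ f) := inferInstance
  haveI : LocallyQuasiFinite (U.ι ≫ f) := inferInstance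
  haveI : Finite (Spec (CommRingCat.of R)) := inferInstanceAs (Finite (PrimeSpectrum R))
  haveI : Finite (PrimeSpectrum Γ(X, U)) := by
    haveI : Finite (U : Scheme.{u}) := Set.finite_univ_iff.1
      ((Scheme.Hom.finite_preimage (U.ι ≫ f) (Set.finite_univ (α := Spec (CommRingCat.of R)))).subset (Set.subset_univ _))
    exact Finite.of_injective hU.isoSpec.inv.base hU.isoSpec.inv.homeomorph.injective
  letI : Algebra Γ(X, U) (X.presheaf.stalk x) := TopCat.Presheaf.algebra_section_stalk X.presheaf ⟨x, hxU⟩
  haveI : IsLocalization.AtPrime (X.presheaf.stalk x) (hU.primeIdealOf ⟨x, hxU⟩).asIdeal :=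
    hU.isLocalization_stalk ⟨x, hxU⟩
  obtain ⟨g, hg⟩ := exists_away (hU.primeIdealOf ⟨x, hxU⟩).asIdeal (X.presheaf.stalk x)
  rw [← hU.fromSpecStalk_eq_fromSpecStalk hxU]
  have hgerm : X.presheaf.germ U x hxU = CommRingCat.ofHom (algebraMap Γ(X, U) (X.presheaf.stalk x)) := rfl
  have ho : IsOpenImmersion (Spec.map (CommRingCat.ofHom (algebraMap Γ(X, U) (X.presheaf.stalk x)))) := by
    haveI := hg
    exact IsOpenImmersion.of_isLocalization g
  haveI : IsOpenImmersion (Spec.map (X.presheaf.germ U x hxU)) := by
    rw [hgerm]; exact ho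
  exact inferInstanceAs (IsOpenImmersion (Spec.map (X.presheaf.germ U x hxU) ≫ hU.fromSpec))

end Groth.Agent.S14888
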