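import Groth.Statements.S14889
import Groth.Agent.EtaModifLib.Main

set_option backward.isDefEq.respectTransparency false
set_option backward.isDefEq.respectTransparency.types false

set_option autoImplicit false
universe u
open CategoryTheory CategoryTheory.Limits AlgebraicGeometry
open FlatMor

namespace Groth.Agent.S14889

/-- Let S be integral, normal (all local rings integrally closed domains), quasi-compact and
quasi-separated, with generic point η, and let φ : X → S be flat, locally of finite presentation,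
quasi-compact and quasi-separated, with geometrically reduced fibres (every base change of φ to the
spectrum of a field is reduced). Let f : X' → X be a finite morphism which restricts to an
isomorphism over an open U ⊆ X that is schematically dense in X and whose preimage is schematically
dense in X', and whose base change to the generic fibre X_η = X ×_S Spec O_{S,η} is an isomorphism.
Then f is an isomorphism: X admits no non-trivial finite η-modification. -/
theorem result
    {S X X' : Scheme.{u}} [IsIntegral S] [CompactSpace S] [QuasiSeparatedSpace S]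
    (hS : Pi1.IsNormalScheme S) (φ : X ⟶ S) [Flat φ] [LocallyOfFinitePresentation φ]
    [QuasiCompact φ] [QuasiSeparated φ]
    (hred : ∀ (K : Type u) [Field K] (k : Spec (CommRingCat.of K) ⟶ S), IsReduced (pullback φ k))
    (f : X' ⟶ X) [IsFinite f] (U : X.Opens) (hU : IsSchemeTheoreticallyDominant U.ι)
    (hU' : IsSchemeTheoreticallyDominant (f ⁻¹ᵁ U).ι) (hfU : IsIso (f ∣_ U))
    (hη : IsIso (pullback.snd f (pullback.fst φ (S.fromSpecStalk (genericPoint S))))) :
    IsIso f := by
  let ι := {V : X.affineOpens // ∃ W : S.affineOpens, (V.1 : X.Opens) ≤ φ ⁻¹ᵁ W.1 ∧ Nonempty W.1}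
  have hsup : ⨆ i : ι, i.1.1 = ⊤ := by
    refine eq_top_iff.2 fun x _ => ?_
    obtain ⟨W, hW, hxW, -⟩ := exists_isAffineOpen_mem_and_subset (x := φ.base x) (U := ⊤) trivial
    obtain ⟨V, hV, hxV, hle⟩ := exists_isAffineOpen_mem_and_subset (x := x) (U := φ ⁻¹ᵁ W) hxW
    exact TopologicalSpace.Opens.mem_iSup.2 ⟨⟨⟨V, hV⟩, ⟨W, hW⟩, hle, ⟨⟨_, hxW⟩⟩⟩, hxV⟩
  rw [← MorphismProperty.isomorphisms.iff, IsZariskiLocalAtTarget.iff_of_iSup_eq_top (P := MorphismProperty.isomorphisms Scheme.{u}) (fun i : ι => i.1.1) hsup]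
  rintro ⟨⟨V, hV⟩, ⟨W, hW⟩, e, hne⟩
  haveI : Nonempty W := hne
  rw [MorphismProperty.isomorphisms.iff, isIso_morphismRestrict_iff_isIso_app f hV]
  letI : Algebra Γ(S, W) Γ(X, V) := (φ.appLE W V e).hom.toAlgebra
  haveI : IsDomain Γ(S, W) := inferInstance
  haveI : IsIntegrallyClosed Γ(S, W) := LocFFLib.isIntegrallyClosed_sections hS W
  haveI : Algebra.FinitePresentation Γ(S, W) Γ(X, V) :=
    RingHom.finitePresentation_algebraMap.1 (φ.finitePresentation_appLE hW hV e)
  haveI : Module.Flat Γ(S, W) Γ(X, V) := φ.flat_appLE hW hV e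
  obtain ⟨hsur, hker⟩ := EtaModifLib.exists_eq_of_generic φ f hη hW hV e
  have e' : f ⁻¹ᵁ V ≤ (f ≫ φ) ⁻¹ᵁ W := fun z hz => e hz
  have hinj : Function.Injective (f.app V).hom := (injective_iff_map_eq_zero _).2 fun k hk => by
    obtain ⟨a, ha, hak⟩ := hker k hk
    exact EtaModifLib.eq_zero_of_mul_eq_zero φ hW hV e a ha k hak
  rw [ConcreteCategory.isIso_iff_bijective]
  refine ⟨hinj, fun x => ?_⟩
  obtain ⟨a, ha, b, hb⟩ := hsur x
  obtain ⟨P, hP, hPx⟩ := (f.finite_app V hV).to_isIntegral x
  have h0 : (P.scaleRoots (algebraMap Γ(S, W) Γ(X, V) a)).eval b = 0 := by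
    apply hinj
    rw [map_zero, ← Polynomial.eval₂_at_apply, ← hb]
    exact Polynomial.scaleRoots_eval₂_eq_zero _ hPx
  obtain ⟨b₁, hb₁⟩ := Ideal.mem_span_singleton'.1 (EtaModifLib.mem_span_of_monic
    (fun p _ => EtaModifLib.isGeometricallyReduced_fiber φ hred hW hV e rfl p) a ha b P hP h0)
  refine ⟨b₁, sub_eq_zero.1 (EtaModifLib.eq_zero_of_torsion φ f U hU' (hV.preimage f) e' a ha _ ?_)⟩
  have happ : ((f ≫ φ).appLE W (f ⁻¹ᵁ V) e').hom a = (f.app V).hom ((φ.appLE W V e).hom a) := by
    rw [← CommRingCat.comp_apply, Scheme.Hom.app_eq_appLE, Scheme.Hom.appLE_comp_appLE]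
  rw [happ, mul_sub, sub_eq_zero, hb, ← hb₁, map_mul, mul_comm]
  rfl

end Groth.Agent.S14889
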