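import Groth.Statements.S14891
import Mathlib
-- import your own Groth.Agent.* helpers here

set_option autoImplicit false
universe u
open CAlg

namespace Groth.Agent.S14891

set_option maxHeartbeats 400000
universe v

open IsLocalRing

variable {K L Γ₀ Γ₁ : Type v} [Field K] [Field L] [Algebra K L]
    [LinearOrderedCommGroupWithZero Γ₀] [LinearOrderedCommGroupWithZero Γ₁]
    (vK : Valuation K Γ₀) (vL : Valuation L Γ₁) [vK.HasExtension vL]

lemma val_aeval_eq {τ : Type v} (y : τ → vL.valuationSubring)
    (hy : AlgebraicIndependent (ResidueField vK.valuationSubring) fun j => residue vL.valuationSubring (y j))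
    (Q : MvPolynomial τ K) (hQ : Q ≠ 0) :
    ∃ c : K, c ≠ 0 ∧ vL (MvPolynomial.aeval (fun j => (y j : L)) Q) = vL (algebraMap K L c) := by
  obtain ⟨b, hb, hmax⟩ := Q.support.exists_max_image (fun b => vK (Q.coeff b)) (MvPolynomial.support_nonempty.mpr hQ)
  have hc : Q.coeff b ≠ 0 := MvPolynomial.mem_support_iff.mp hb
  refine ⟨Q.coeff b, hc, ?_⟩
  have hmem : MvPolynomial.C (Q.coeff b)⁻¹ * Q ∈ Set.range (MvPolynomial.map (σ := τ) (algebraMap vK.valuationSubring K)) := by
    rw [MvPolynomial.mem_range_map_iff_coeffs_subset]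
    intro z hz
    obtain ⟨e, he, rfl⟩ := MvPolynomial.mem_coeffs_iff.mp hz
    refine ⟨⟨_, ?_⟩, rfl⟩
    show _ ∈ vK.valuationSubring
    rw [Valuation.mem_valuationSubring_iff]
    show vK (MvPolynomial.coeff e _) ≤ 1
    rw [MvPolynomial.coeff_C_mul, map_mul, map_inv₀]
    have hpos : (0 : Γ₀) < vK (Q.coeff b) := (Valuation.pos_iff vK).mpr hc
    rw [inv_mul_le_iff₀ hpos, mul_one]
    by_cases hee : Q.coeff e = 0
    · rw [hee, map_zero]; exact zero_le
    · exact hmax e (MvPolynomial.mem_support_iff.mpr hee)
  obtain ⟨q, hq⟩ := hmem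
  have hqb : q.coeff b = 1 := Subtype.ext (by
    have := congrArg (MvPolynomial.coeff b) hq
    rw [MvPolynomial.coeff_map, MvPolynomial.coeff_C_mul, inv_mul_cancel₀ hc] at this
    exact this)
  let z := MvPolynomial.eval₂Hom (algebraMap vK.valuationSubring vL.valuationSubring) y q
  have hz : residue vL.valuationSubring z ≠ 0 := by
    have h1 : residue vL.valuationSubring z =
        MvPolynomial.aeval (fun j => residue vL.valuationSubring (y j)) (q.map (residue vK.valuationSubring)) := by
      have h2 : (residue vL.valuationSubring).comp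
          (MvPolynomial.eval₂Hom (algebraMap vK.valuationSubring vL.valuationSubring) y) =
          (MvPolynomial.aeval (R := ResidueField vK.valuationSubring) fun j => residue vL.valuationSubring (y j)).toRingHom.comp
            (MvPolynomial.map (residue vK.valuationSubring)) :=
        MvPolynomial.ringHom_ext (fun r => by
          simp [Valuation.HasExtension.algebraMap_residue_eq_residue_algebraMap]) (fun j => by simp)
      exact RingHom.congr_fun h2 q
    rw [h1]
    intro h0
    have h3 := congrArg (MvPolynomial.coeff b) ((hy.eq_zero_of_aeval_eq_zero _ h0))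
    rw [MvPolynomial.coeff_map, hqb, map_one, MvPolynomial.coeff_zero] at h3
    exact one_ne_zero h3
  have hzu : IsUnit z := (residue_ne_zero_iff_isUnit z).mp hz
  have hz1 : vL (z : L) = 1 :=
    Valuation.Integers.one_of_isUnit (Valuation.integer.integers (v := vL)) hzu
  have hzL : (z : L) = algebraMap K L (Q.coeff b)⁻¹ * MvPolynomial.aeval (fun j => (y j : L)) Q := by
    have h2 : (vL.valuationSubring.subtype).comp
          (MvPolynomial.eval₂Hom (algebraMap vK.valuationSubring vL.valuationSubring) y) =
          (MvPolynomial.aeval (R := K) fun j => (y j : L)).toRingHom.comp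
            (MvPolynomial.map (algebraMap vK.valuationSubring K)) :=
      MvPolynomial.ringHom_ext (fun r => by simp) (fun j => by simp)
    have := RingHom.congr_fun h2 q
    rw [RingHom.comp_apply, RingHom.comp_apply, hq] at this
    simpa [z] using this
  have hne : vL (algebraMap K L (Q.coeff b)) ≠ 0 := by simpa using hc
  rw [hzL, map_mul, map_inv₀, map_inv₀] at hz1
  exact (inv_mul_eq_one₀ hne).mp hz1 |>.symm

lemma algebraicIndependent_sum {σ τ : Type v} (x : σ → Lˣ) (y : τ → vL.valuationSubring)
    (hy : AlgebraicIndependent (ResidueField vK.valuationSubring) fun j => residue vL.valuationSubring (y j))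
    (hx : ∀ (a a' : σ →₀ ℕ) (c c' : K), c ≠ 0 → c' ≠ 0 →
      vL (algebraMap K L c) * vL (∏ i ∈ a.support, (x i : L) ^ a i) =
      vL (algebraMap K L c') * vL (∏ i ∈ a'.support, (x i : L) ^ a' i) → a = a') :
    AlgebraicIndependent K (Sum.elim (fun i => (x i : L)) (fun j => (y j : L))) := by
  classical
  rw [algebraicIndependent_iff]
  intro P hP
  by_contra hP0
  let Φ := MvPolynomial.sumAlgEquiv K σ τ
  have hP' : Φ P ≠ 0 := (map_ne_zero_iff Φ Φ.injective).mpr hP0
  let Y : MvPolynomial τ K →+* L := (MvPolynomial.aeval fun j => (y j : L)).toRingHom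
  have hcomp : (MvPolynomial.aeval (Sum.elim (fun i => (x i : L)) (fun j => (y j : L)))).toRingHom =
      (MvPolynomial.eval₂Hom Y fun i => (x i : L)).comp Φ.toRingEquiv.toRingHom :=
    MvPolynomial.ringHom_ext (fun r => by simp [Φ, Y]) (by rintro (i | j) <;> simp [Φ, Y])
  have hsum : MvPolynomial.eval₂ Y (fun i => (x i : L)) (Φ P) = 0 :=
    (RingHom.congr_fun hcomp P).symm.trans hP
  rw [MvPolynomial.eval₂_eq] at hsum
  let T : (σ →₀ ℕ) → L := fun a => Y ((Φ P).coeff a) * ∏ i ∈ a.support, (x i : L) ^ a i
  have hT : ∀ a ∈ (Φ P).support, ∃ c : K, c ≠ 0 ∧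
      vL (T a) = vL (algebraMap K L c) * vL (∏ i ∈ a.support, (x i : L) ^ a i) := fun a ha => by
    obtain ⟨c, hc, hcv⟩ := val_aeval_eq vK vL y hy _ (MvPolynomial.mem_support_iff.mp ha)
    refine ⟨c, hc, ?_⟩
    rw [map_mul]
    exact congrArg (· * _) hcv
  obtain ⟨a, ha, hmax⟩ := (Φ P).support.exists_max_image (fun a => vL (T a)) (MvPolynomial.support_nonempty.mpr hP')
  obtain ⟨c, hc, hca⟩ := hT a ha
  have hTa : vL (T a) ≠ 0 := by
    rw [hca]
    exact mul_ne_zero (by simpa using hc) (by simp [Finset.prod_ne_zero_iff])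
  have hlt : vL (∑ a' ∈ (Φ P).support.erase a, T a') < vL (T a) := by
    refine Valuation.map_sum_lt vL hTa fun a' ha' => ?_
    obtain ⟨hne, ha'⟩ := Finset.mem_erase.mp ha'
    refine lt_of_le_of_ne (hmax a' ha') fun heq => hne ?_
    obtain ⟨c', hc', hca'⟩ := hT a' ha'
    exact hx a' a c' c hc' hc (hca'.symm.trans (heq.trans hca))
  have hadd : T a = -∑ a' ∈ (Φ P).support.erase a, T a' := by
    rw [eq_neg_iff_add_eq_zero, Finset.add_sum_erase _ T ha]
    exact hsum
  rw [hadd, Valuation.map_neg] at hlt
  exact lt_irrefl _ hlt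


/-- Let L/K be an extension of valued fields, i.e. v_L is a valuation on L whose restriction to K is
equivalent to v_K. Write E for the rational rank of the quotient of value groups |L^×|/|K^×| — here
the rank of the abelian group L^× modulo the subgroup generated by the units of the valuation ring
of v_L and the image of K^× — and F for the transcendence degree of the residue field of v_L over
that of v_K. Then E + F ≤ tr.deg(L/K) (an inequality of cardinals). -/
theorem result
    {K L Γ₀ Γ₁ : Type u} [Field K] [Field L] [Algebra K L]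
    [LinearOrderedCommGroupWithZero Γ₀] [LinearOrderedCommGroupWithZero Γ₁]
    (vK : Valuation K Γ₀) (vL : Valuation L Γ₁) [vK.HasExtension vL] :
    Module.rank ℤ (Additive Lˣ ⧸ Subgroup.toAddSubgroup
        (vL.valuationSubring.unitGroup ⊔ (Units.map (algebraMap K L).toMonoidHom).range)) +
      Algebra.trdeg (IsLocalRing.ResidueField vK.valuationSubring)
        (IsLocalRing.ResidueField vL.valuationSubring) ≤ Algebra.trdeg K L := by
  classical
  set H : Subgroup Lˣ := vL.valuationSubring.unitGroup ⊔ (Units.map (algebraMap K L).toMonoidHom).range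
  obtain ⟨s, hs, hli⟩ := exists_set_linearIndependent ℤ (Additive Lˣ ⧸ Subgroup.toAddSubgroup H)
  obtain ⟨t, ht⟩ := exists_isTranscendenceBasis (IsLocalRing.ResidueField vK.valuationSubring)
    (IsLocalRing.ResidueField vL.valuationSubring)
  rw [← hs, ← ht.cardinalMk_eq_trdeg]
  choose X hX using fun i : s => QuotientAddGroup.mk_surjective (i : Additive Lˣ ⧸ Subgroup.toAddSubgroup H)
  choose Y hY using fun j : t => IsLocalRing.residue_surjective (j : IsLocalRing.ResidueField vL.valuationSubring)
  have hy : AlgebraicIndependent (IsLocalRing.ResidueField vK.valuationSubring)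
      fun j => IsLocalRing.residue vL.valuationSubring (Y j) := by
    simpa only [hY] using ht.1
  have hind := algebraicIndependent_sum vK vL (fun i => Additive.toMul (X i)) Y hy ?_
  · simpa using hind.cardinalMk_le_trdeg
  intro a a' c c' hc hc' h
  let cu : Lˣ := Units.map (algebraMap K L).toMonoidHom (Units.mk0 c hc)
  let cu' : Lˣ := Units.map (algebraMap K L).toMonoidHom (Units.mk0 c' hc')
  let m : (↥s →₀ ℕ) → Lˣ := fun a => ∏ i ∈ a.support, (Additive.toMul (X i)) ^ a i
  have hm : ∀ a, (m a : L) = ∏ i ∈ a.support, ((Additive.toMul (X i) : Lˣ) : L) ^ a i := fun a => by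
    simp [m, Units.coe_prod]
  let q : Lˣ → Additive Lˣ ⧸ Subgroup.toAddSubgroup H := fun u => QuotientAddGroup.mk (Additive.ofMul u)
  have hmem : (cu * m a) * (cu' * m a')⁻¹ ∈ H := by
    refine Subgroup.mem_sup_left ?_
    rw [Valuation.mem_unitGroup_iff, Units.val_mul, Units.val_inv_eq_inv_val, map_mul, map_inv₀,
      Units.val_mul, Units.val_mul, map_mul, map_mul, hm, hm]
    show (vL (algebraMap K L c) * _) * (vL (algebraMap K L c') * _)⁻¹ = 1
    rw [← h, mul_inv_cancel₀]
    exact mul_ne_zero (by simpa using hc) (by simp [Finset.prod_ne_zero_iff])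
  have hqq : q (m a) = q (m a') := by
    refine QuotientAddGroup.eq.mpr ?_
    show (m a)⁻¹ * m a' ∈ H
    have e : (m a)⁻¹ * m a' = ((cu * m a) * (cu' * m a')⁻¹)⁻¹ * (cu * cu'⁻¹) := by
      ext; simp; field_simp
    rw [e]
    exact mul_mem (inv_mem hmem) (mul_mem (Subgroup.mem_sup_right ⟨_, rfl⟩)
      (inv_mem (Subgroup.mem_sup_right ⟨_, rfl⟩)))
  let Z : (↥s →₀ ℕ) → (↥s →₀ ℤ) := fun a => a.mapRange (fun n : ℕ => (n : ℤ)) (by simp)
  have hlin : ∀ a, Finsupp.linearCombination ℤ (fun i : s => (i : Additive Lˣ ⧸ Subgroup.toAddSubgroup H))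
      (Z a) = q (m a) := by
    intro a
    rw [Finsupp.linearCombination_apply, Finsupp.sum_mapRange_index (by simp)]
    simp only [q, m, ofMul_prod, ofMul_pow, Finsupp.sum, natCast_zsmul]
    rw [← QuotientAddGroup.mk'_apply, map_sum]
    refine Finset.sum_congr rfl fun i _ => ?_
    rw [map_nsmul, QuotientAddGroup.mk'_apply, ofMul_toMul, hX i]
  have := hli.finsuppLinearCombination_injective ((hlin a).trans (hqq.trans (hlin a').symm))
  exact Finsupp.mapRange_injective _ (by simp) Nat.cast_injective this

end Groth.Agent.S14891
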