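import Groth.Statements.S14892
import Mathlib.Data.Nat.Factorization.Induction
import Mathlib.RingTheory.Int.Basic
import Mathlib.Tactic.Linarith
import Mathlib.RingTheory.KrullDimension.Basic
import Mathlib.RingTheory.AlgebraicIndependent.Basic
import Mathlib.RingTheory.Valuation.ValuationSubring


-- import your own Groth.Agent.* helpers here

set_option autoImplicit false
universe u
open CAlg

namespace Groth.Agent.S14892

/-- If the field K has finite transcendence degree d over its prime subfield, then every valuation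
subring of K has height (Krull dimension) at most d + 1. -/
theorem result
    (K : Type u) [Field K] (A : ValuationSubring K) (d : ℕ)
    (hd : Algebra.trdeg (⊥ : Subfield K) K = d) :
    ringKrullDim A ≤ ((d + 1 : ℕ) : WithBot ℕ∞) := by
  classical
  refine iSup_le fun s => ?_
  norm_cast
  -- push the last prime to the maximal ideal
  set n := s.length with hn
  obtain ⟨q, hq0, hqmono, hqprime⟩ : ∃ q : Fin (n + 1) → Ideal A,
      q (Fin.last _) = IsLocalRing.maximalIdeal A ∧ StrictMono q ∧ ∀ i, (q i).IsPrime := by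
    refine ⟨fun i => if i = Fin.last _ then IsLocalRing.maximalIdeal A else (s i).asIdeal, if_pos rfl,
      fun i j hij => ?_, fun i => ?_⟩
    · have hi : i ≠ Fin.last _ := ne_of_lt (lt_of_lt_of_le hij (Fin.le_last j))
      have h1 : (s i).asIdeal < (s j).asIdeal := s.strictMono hij
      simp only [if_neg hi]
      split_ifs
      · exact lt_of_lt_of_le h1 (IsLocalRing.le_maximalIdeal (s j).isPrime.ne_top)
      · exact h1
    · dsimp only
      split_ifs
      · exact (IsLocalRing.maximalIdeal.isMaximal A).isPrime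
      · exact (s i).isPrime
  let v := A.valuation
  -- the values of elements climbing the chain are independent
  have hind : ∀ (b : Fin (n + 1) → A) (m : Fin (n + 1) → ℤ),
      (∀ i, m i ≠ 0 → b i ∈ q i ∧ ∀ h < i, b i ∉ q h) → (∀ i, m i ≠ 0 → (b i : K) ≠ 0) →
      ∏ i, v (b i : K) ^ m i = 1 → m = 0 := by
    intro b m hb hb0 hprod
    by_contra hm
    obtain ⟨i₀, hi₀, hmin⟩ : ∃ i, m i ≠ 0 ∧ ∀ h < i, m h = 0 := by
      have hne : (Finset.univ.filter fun i => m i ≠ 0).Nonempty := by
        by_contra hne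
        exact hm (funext fun i => by_contra fun hi => hne ⟨i, Finset.mem_filter.2 ⟨Finset.mem_univ i, hi⟩⟩)
      refine ⟨(Finset.univ.filter fun i => m i ≠ 0).min' hne, (Finset.mem_filter.1 (Finset.min'_mem _ hne)).2, ?_⟩
      intro h hh
      by_contra hc
      exact not_le.2 hh (Finset.min'_le _ _ (Finset.mem_filter.2 ⟨Finset.mem_univ h, hc⟩))
    set P := ∏ i, b i ^ (m i).toNat with hP
    set N := ∏ i, b i ^ (-m i).toNat with hN
    have hPN : v (P : K) = v (N : K) := by
      have e : ∀ (c : Fin (n + 1) → ℕ), v ((∏ i, b i ^ c i : A) : K) = ∏ i, v (b i : K) ^ c i := fun c => by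
        push_cast
        rw [map_prod]; simp only [map_pow]
      rw [hP, hN, e, e]
      have key : ∀ i, v (b i : K) ^ (m i).toNat = v (b i : K) ^ m i * v (b i : K) ^ (-m i).toNat := fun i => by
        rcases eq_or_ne (m i) 0 with h0 | h0
        · simp [h0]
        · rw [← zpow_natCast, ← zpow_natCast, ← zpow_add₀ ((Valuation.ne_zero_iff v).2 (hb0 i h0))]
          congr 1; omega
      rw [Finset.prod_congr rfl fun i _ => key i, Finset.prod_mul_distrib, hprod, one_mul]
    obtain ⟨u, hu⟩ := (A.valuation_eq_iff _ _).1 hPN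
    have hu' : (u : A) * N = P := Subtype.ext hu
    have hout : ∀ c : Fin (n + 1) → ℕ, c i₀ = 0 → (∀ i, c i ≠ 0 → m i ≠ 0) → ∏ i, b i ^ c i ∉ q i₀ := by
      intro c hc hcm hmem
      obtain ⟨i, -, hi⟩ := ((hqprime i₀).prod_mem_iff).1 hmem
      have hci : c i ≠ 0 := fun h => by
        rw [h, pow_zero] at hi
        exact (hqprime i₀).ne_top ((Ideal.eq_top_iff_one _).2 hi)
      have hlt : i₀ < i := lt_of_le_of_ne (not_lt.1 fun h => hcm i hci (hmin i h)) fun h => hci (h ▸ hc)
      exact (hb i (hcm i hci)).2 i₀ hlt ((hqprime i₀).mem_of_pow_mem _ hi)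
    have hin : ∀ c : Fin (n + 1) → ℕ, c i₀ ≠ 0 → ∏ i, b i ^ c i ∈ q i₀ := fun c hc =>
      Ideal.mem_of_dvd _ (Finset.dvd_prod_of_mem _ (Finset.mem_univ i₀))
        (Ideal.pow_mem_of_mem _ (hb i₀ hi₀).1 _ (Nat.pos_of_ne_zero hc))
    rcases lt_or_gt_of_ne hi₀ with h | h
    · refine hout (fun i => (m i).toNat) (by omega) (fun i hi => by omega) ?_
      rw [← hP, ← hu']
      exact Ideal.mul_mem_left _ _ (hin (fun i => (-m i).toNat) (by omega))
    · have hNout := hout (fun i => (-m i).toNat) (by omega) (fun i hi => by omega)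
      rw [← hN] at hNout
      refine hNout (((hqprime i₀).mem_or_mem (x := (u : A)) (y := N) ?_).resolve_left fun hmem =>
        (hqprime i₀).ne_top (Ideal.eq_top_of_isUnit_mem _ hmem u.isUnit))
      rw [hu']
      exact hin (fun i => (m i).toNat) (by omega)
  -- the climbing elements
  have hclimb : ∀ i : Fin (n + 1), i ≠ 0 → ∃ a : A, (a : K) ≠ 0 ∧ a ∈ q i ∧ ∀ h < i, a ∉ q h := by
    intro i hi
    obtain ⟨j, rfl⟩ := Fin.exists_succ_eq.2 hi
    obtain ⟨a, ha, ha'⟩ := SetLike.exists_of_lt (hqmono j.castSucc_lt_succ)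
    exact ⟨a, fun h => ha' (by rw [show a = 0 from Subtype.ext h]; exact zero_mem _), ha,
      fun h hh hmem => ha' (hqmono.monotone (Fin.le_castSucc_iff.2 hh) hmem)⟩
  choose a ha0 haq haq' using hclimb
  -- values on the prime field
  obtain ⟨jp, w, hw, hjp⟩ : ∃ (jp : Fin (n + 1)) (w : A),
      ((v (w : K) = 1) ∨ ((w : K) ≠ 0 ∧ w ∈ q jp ∧ ∀ h < jp, w ∉ q h)) ∧
      ∀ c : K, c ∈ (⊥ : Subfield K) → c ≠ 0 → ∃ e : ℤ, v c = v (w : K) ^ e := by
    have hint : ∀ z : ℕ, v (z : K) ≤ 1 := fun z => A.valuation_le_one ((z : ℕ) : A)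
    have hfield : ∀ w : A, (∀ z : ℕ, (z : K) ≠ 0 → ∃ e : ℤ, v (z : K) = v (w : K) ^ e) →
        ∀ c : K, c ∈ (⊥ : Subfield K) → c ≠ 0 → ∃ e : ℤ, v c = v (w : K) ^ e := by
      intro w hw c hc hc0
      let F : Subfield K := Subfield.closure (∅ : Set K)
      have hcF : c ∈ F := by rw [show F = ⊥ from Subfield.closure_empty]; exact hc
      have hcast : ∀ r : ℤ, v ((r : ℤ) : K) = v ((r.natAbs : ℕ) : K) := fun r => by
        rcases Int.natAbs_eq r with h' | h'
        · conv_lhs => rw [h']
          rw [Int.cast_natCast]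
        · conv_lhs => rw [h']
          rw [Int.cast_neg, Valuation.map_neg, Int.cast_natCast]
      obtain ⟨r, hr, t, ht, hrt⟩ := Subfield.mem_closure_iff.1 hcF
      rw [Subring.closure_empty, Subring.mem_bot] at hr ht
      obtain ⟨r, rfl⟩ := hr
      obtain ⟨t, rfl⟩ := ht
      subst hrt
      obtain ⟨hr0, ht0⟩ := div_ne_zero_iff.1 hc0
      have hcast0 : ∀ r : ℤ, (r : K) ≠ 0 → ((r.natAbs : ℕ) : K) ≠ 0 := fun r h h' => h (by
        have := hcast r
        rw [h', map_zero] at this
        exact (Valuation.zero_iff v).1 this)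
      obtain ⟨e₁, he₁⟩ := hw _ (hcast0 r hr0)
      obtain ⟨e₂, he₂⟩ := hw _ (hcast0 t ht0)
      refine ⟨e₁ - e₂, ?_⟩
      rw [map_div₀, hcast, hcast, he₁, he₂]
      have hz₂ := hcast0 t ht0
      have hne : v (w : K) ^ e₂ ≠ 0 := he₂ ▸ (Valuation.ne_zero_iff v).2 hz₂
      rcases eq_or_ne (v (w : K)) 0 with hw0 | hw0
      · rcases eq_or_ne e₂ 0 with rfl | he
        · simp
        · exact absurd (by rw [hw0, zero_zpow _ he]) hne
      · rw [zpow_sub₀ hw0]
    by_cases hex : ∃ p : ℕ, p.Prime ∧ (p : K) ≠ 0 ∧ v (p : K) < 1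
    · obtain ⟨p, hp, hp0, hp1⟩ := hex
      have hmax : ((p : ℕ) : A) ∈ q (Fin.last n) := hq0 ▸ (A.valuation_lt_one_iff _).2 hp1
      obtain ⟨jp, hjp, hjmin⟩ : ∃ j, ((p : ℕ) : A) ∈ q j ∧ ∀ h < j, ((p : ℕ) : A) ∉ q h := by
        have hne : (Finset.univ.filter fun i => ((p : ℕ) : A) ∈ q i).Nonempty :=
          ⟨Fin.last n, Finset.mem_filter.2 ⟨Finset.mem_univ _, hmax⟩⟩
        exact ⟨_, (Finset.mem_filter.1 (Finset.min'_mem _ hne)).2, fun h hh hmem =>
          not_le.2 hh (Finset.min'_le _ _ (Finset.mem_filter.2 ⟨Finset.mem_univ h, hmem⟩))⟩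
      refine ⟨jp, (p : A), Or.inr ⟨hp0, hjp, hjmin⟩, hfield _ fun z => ?_⟩
      induction z using induction_on_primes with
      | zero => intro h; simp at h
      | one => intro _; exact ⟨0, by simp⟩
      | prime_mul l z hl ih =>
        intro h
        push_cast at h
        obtain ⟨e, he⟩ := ih (mul_ne_zero_iff.1 h).2
        rcases eq_or_ne l p with rfl | hlp
        · refine ⟨e + 1, ?_⟩
          push_cast
          rw [map_mul, he, zpow_add₀ ((Valuation.ne_zero_iff v).2 hp0), zpow_one, mul_comm]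
          norm_cast
        · refine ⟨e, ?_⟩
          push_cast
          suffices hl1 : v (l : K) = 1 by rw [map_mul, he, hl1, one_mul]; rfl
          refine le_antisymm (hint l) (not_lt.1 fun hlt => ?_)
          obtain ⟨x, y, hxy⟩ := Int.isCoprime_iff_nat_coprime.2 ((Nat.coprime_primes hl hp).2 hlp) |> fun H => (H : IsCoprime (l : ℤ) (p : ℤ))
          have h2 : ((x : ℤ) : K) * l + ((y : ℤ) : K) * p = 1 := by exact_mod_cast congrArg (Int.cast (R := K)) hxy
          have h3 : v (((x : ℤ) : K) * l + ((y : ℤ) : K) * p) < 1 := by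
            refine (v.map_add _ _).trans_lt (max_lt ?_ ?_) <;> rw [map_mul]
            · exact mul_lt_one_of_nonneg_of_lt_one_right (A.valuation_le_one ((x : ℤ) : A)) zero_le hlt
            · exact mul_lt_one_of_nonneg_of_lt_one_right (A.valuation_le_one ((y : ℤ) : A)) zero_le hp1
          rw [h2, map_one] at h3
          exact lt_irrefl _ h3
    · push Not at hex
      refine ⟨Fin.last n, 1, Or.inl (by simp), hfield _ fun z => ?_⟩
      induction z using induction_on_primes with
      | zero => intro h; simp at h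
      | one => intro _; exact ⟨0, by simp⟩
      | prime_mul l z hl ih =>
        intro h
        push_cast at h
        obtain ⟨e, he⟩ := ih (mul_ne_zero_iff.1 h).2
        refine ⟨e, ?_⟩
        push_cast
        rw [map_mul, he, le_antisymm (hint l) (hex l hl (mul_ne_zero_iff.1 h).1), one_mul]; rfl
  -- algebraic independence
  let ι := {i : Fin (n + 1) // i ≠ 0 ∧ i ≠ jp}
  let x : ι → K := fun i => (a i.1 i.2.1 : K)
  have hmono : ∀ (e : ℤ) (m : ι → ℤ), v (w : K) ^ e * ∏ i, v (x i) ^ m i = 1 → m = 0 := by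
    intro e m hem
    let b : Fin (n + 1) → A := fun i => if h : i ≠ 0 ∧ i ≠ jp then a i h.1 else w
    let m' : Fin (n + 1) → ℤ := fun i =>
      if h : i ≠ 0 ∧ i ≠ jp then m ⟨i, h⟩ else if i = jp ∧ v (w : K) ≠ 1 then e else 0
    have hm' : m' = 0 := by
      refine hind b m' (fun i hi => ?_) (fun i hi => ?_) ?_
      · simp only [m', b] at hi ⊢
        split_ifs at hi ⊢ with h h'
        · exact ⟨haq i h.1, haq' i h.1⟩
        · obtain ⟨rfl, hw1⟩ := h'
          exact (hw.resolve_left hw1).2
        · exact absurd rfl hi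
      · simp only [m', b] at hi ⊢
        split_ifs at hi ⊢ with h h'
        · exact ha0 i h.1
        · exact (hw.resolve_left h'.2).1
        · exact absurd rfl hi
      · rw [← Fintype.prod_subtype_mul_prod_subtype (fun i : Fin (n + 1) => i ≠ 0 ∧ i ≠ jp), ← hem, mul_comm]
        congr 1
        · rw [Fintype.prod_eq_single (⟨jp, fun h => h.2 rfl⟩ : {i : Fin (n + 1) // ¬(i ≠ 0 ∧ i ≠ jp)})]
          · simp only [m', b, ne_eq, not_true_eq_false, and_false, dite_false, true_and]
            split_ifs with h1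
            · simp [h1]
            · rfl
          · intro i hi
            have : m' i.1 = 0 := by
              simp only [m', dif_neg i.2]
              exact if_neg fun h => hi (Subtype.ext h.1)
            rw [this, zpow_zero]
        · refine Finset.prod_congr rfl fun i _ => ?_
          simp only [m', b, x, dif_pos i.2]
    funext i
    have := congrFun hm' i.1
    simp only [m', dif_pos i.2] at this
    exact this
  have hAI : AlgebraicIndependent (⊥ : Subfield K) x := by
    rw [algebraicIndependent_iff]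
    intro P hP
    by_contra hP0
    have hval : ∀ m : ι →₀ ℕ, v (MvPolynomial.aeval x (MvPolynomial.monomial m (P.coeff m))) =
        v ((P.coeff m : (⊥ : Subfield K)) : K) * ∏ i, v (x i) ^ m i := fun m => by
      rw [MvPolynomial.aeval_monomial, map_mul, Finsupp.prod_fintype _ _ (fun i => pow_zero _), map_prod]
      simp only [map_pow]; rfl
    have hx0 : ∀ i, v (x i) ≠ 0 := fun i => (Valuation.ne_zero_iff v).2 (ha0 _ _)
    obtain ⟨m₀, hm₀, hmax⟩ := P.support.exists_max_image
      (fun m => v (MvPolynomial.aeval x (MvPolynomial.monomial m (P.coeff m))))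
      (Finset.nonempty_of_ne_empty fun h => hP0 (MvPolynomial.support_eq_empty.1 h))
    have hne : ∀ m ∈ P.support, v (MvPolynomial.aeval x (MvPolynomial.monomial m (P.coeff m))) ≠ 0 := fun m hm => by
      rw [hval]
      exact mul_ne_zero ((Valuation.ne_zero_iff v).2 fun h =>
        MvPolynomial.mem_support_iff.1 hm (Subtype.ext h)) (Finset.prod_ne_zero_iff.2 fun i _ => pow_ne_zero _ (hx0 i))
    have hlt : ∀ m ∈ P.support.erase m₀, v (MvPolynomial.aeval x (MvPolynomial.monomial m (P.coeff m))) <
        v (MvPolynomial.aeval x (MvPolynomial.monomial m₀ (P.coeff m₀))) := by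
      intro m hm
      obtain ⟨hmne, hm⟩ := Finset.mem_erase.1 hm
      refine lt_of_le_of_ne (hmax m hm) fun heq => hmne ?_
      obtain ⟨e, he⟩ := hjp _ (P.coeff m).2 (fun h => MvPolynomial.mem_support_iff.1 hm (Subtype.ext h))
      obtain ⟨e₀, he₀⟩ := hjp _ (P.coeff m₀).2 (fun h => MvPolynomial.mem_support_iff.1 hm₀ (Subtype.ext h))
      rw [hval, hval, he, he₀] at heq
      have hw0 : v (w : K) ≠ 0 := by
        rcases hw with h | h
        · rw [h]; exact one_ne_zero
        · exact (Valuation.ne_zero_iff v).2 h.1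
      have h1 := hmono (e - e₀) (fun i => (m i : ℤ) - m₀ i) (by
        simp only [zpow_sub₀ (hx0 _), zpow_sub₀ hw0, zpow_natCast, Finset.prod_div_distrib]
        rw [div_mul_div_comm, heq, div_self (mul_ne_zero (zpow_ne_zero _ hw0)
          (Finset.prod_ne_zero_iff.2 fun i _ => pow_ne_zero _ (hx0 i)))])
      ext i
      have := congrFun h1 i
      simp only [Pi.zero_apply] at this
      omega
    have hsum : v (MvPolynomial.aeval x P) = v (MvPolynomial.aeval x (MvPolynomial.monomial m₀ (P.coeff m₀))) := by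
      conv_lhs => rw [P.as_sum, map_sum]
      exact v.map_sum_eq_of_lt hm₀ fun m hm => hlt m (by simpa [Finset.mem_sdiff, and_comm] using hm)
    rw [hP, map_zero] at hsum
    exact hne m₀ hm₀ hsum.symm
  have hcard := hAI.lift_cardinalMk_le_trdeg
  rw [hd, Cardinal.mk_fintype, Cardinal.lift_natCast, Cardinal.lift_natCast, Nat.cast_le] at hcard
  have h2 : Fintype.card (Fin (n + 1)) ≤ Fintype.card ι + 2 := by
    rw [Fintype.card_subtype]
    have := Finset.card_sdiff_add_card_eq_card (Finset.subset_univ ({0, jp} : Finset (Fin (n + 1))))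
    have h3 : (Finset.univ \ ({0, jp} : Finset (Fin (n + 1)))) = Finset.univ.filter fun i => i ≠ 0 ∧ i ≠ jp := by
      ext i; simp
    rw [h3, Finset.card_univ] at this
    have h4 : ({0, jp} : Finset (Fin (n + 1))).card ≤ 2 := Finset.card_le_two
    omega
  rw [Fintype.card_fin] at h2
  omega

end Groth.Agent.S14892
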