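import Groth.Statements.S14896
import Mathlib.RingTheory.Etale.Basic
import Mathlib.RingTheory.QuasiFinite.Basic
import Mathlib.RingTheory.Unramified.LocalStructure
-- import your own Groth.Agent.* helpers here

set_option autoImplicit false
universe u
open CAlg

namespace Groth.Agent.S14896

/-- Let L/K be a finite extension of valued fields, v_L extending v_K, with K° = the valuation ring of
v_K having finite spectrum (finite height), and L° the valuation ring of v_L. If L° is local-étale
over K°, i.e. L° is the localization at a prime ideal of some étale K°-algebra B compatibly with the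
K°-algebra structures, then L° is étale over K°. (For valued fields of finite height 'unramified' in
the local-étale sense is thus the same as K° → L° étale; the published lemma phrases the hypothesis
as 'L/K unramified'.) -/
theorem result
    {K L Γ₀ Γ₁ : Type u} [Field K] [Field L] [Algebra K L] [FiniteDimensional K L]
    [LinearOrderedCommGroupWithZero Γ₀] [LinearOrderedCommGroupWithZero Γ₁]
    (vK : Valuation K Γ₀) (vL : Valuation L Γ₁) [vK.HasExtension vL]
    [Finite (PrimeSpectrum vK.valuationSubring)]
    (B : Type u) [CommRing B] [Algebra vK.valuationSubring B] [Algebra.Etale vK.valuationSubring B]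
    [Algebra B vL.valuationSubring] [IsScalarTower vK.valuationSubring B vL.valuationSubring]
    (P : Ideal B) [P.IsPrime] [IsLocalization.AtPrime vL.valuationSubring P] :
    Algebra.Etale vK.valuationSubring vL.valuationSubring := by
  let A := vK.valuationSubring
  haveI : Algebra.QuasiFinite A B := inferInstance
  haveI : Finite (PrimeSpectrum B) := by
    have hfib : ∀ p : PrimeSpectrum A, Finite (p.asIdeal.primesOver B) := fun p =>
      (Algebra.QuasiFinite.finite_primesOver p.asIdeal).to_subtype
    refine Finite.of_injective (fun q : PrimeSpectrum B =>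
      (⟨⟨q.asIdeal.under A, inferInstance⟩, ⟨q.asIdeal, inferInstance, ⟨rfl⟩⟩⟩ : Σ p : PrimeSpectrum A, p.asIdeal.primesOver B)) ?_
    intro q q' h
    have h1 := congrArg (fun s : Σ p : PrimeSpectrum A, p.asIdeal.primesOver B => s.2.1) h
    exact PrimeSpectrum.ext h1
  classical
  haveI := Fintype.ofFinite (PrimeSpectrum B)
  have hchoose : ∀ Q : PrimeSpectrum B, ∃ g ∉ P, Q.asIdeal ≤ P ∨ g ∈ Q.asIdeal := fun Q => by
    by_cases h : Q.asIdeal ≤ P
    · exact ⟨1, (Ideal.ne_top_iff_one P).1 Ideal.IsPrime.ne_top', Or.inl h⟩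
    · obtain ⟨g, hg, hgP⟩ := SetLike.not_le_iff_exists.1 h
      exact ⟨g, hgP, Or.inr hg⟩
  choose g hgP hg using hchoose
  let s := ∏ Q, g Q
  have hsP : s ∉ P := fun h => by
    obtain ⟨Q, -, hQ⟩ := (Ideal.IsPrime.prod_mem_iff (p := P)).1 h
    exact hgP Q hQ
  let T := Localization.Away s
  have hunit : ∀ y : P.primeCompl, IsUnit (algebraMap B T y) := fun y => by
    by_contra hy
    obtain ⟨M, hM, hyM⟩ := exists_max_ideal_of_mem_nonunits hy
    let Q : PrimeSpectrum B := ⟨M.comap (algebraMap B T), Ideal.IsPrime.comap _⟩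
    rcases hg Q with h | h
    · exact y.2 (h hyM)
    · have h1 : algebraMap B T s ∈ M := Ideal.mem_comap.1 (show s ∈ Q.asIdeal from
        Ideal.mem_of_dvd _ (Finset.dvd_prod_of_mem g (Finset.mem_univ Q)) h)
      exact hM.ne_top (Ideal.eq_top_of_isUnit_mem _ h1 (IsLocalization.Away.algebraMap_isUnit s))
  haveI : IsLocalization P.primeCompl T :=
    IsLocalization.of_le_of_exists_dvd (Submonoid.powers s) P.primeCompl (Submonoid.powers_le.2 hsP) fun y hy => by
      obtain ⟨z, n, hz⟩ : ∃ (z : B) (n : ℕ), s ^ n = y * z := by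
        obtain ⟨u, hu⟩ := isUnit_iff_exists_inv.1 (hunit ⟨y, hy⟩)
        obtain ⟨⟨z, m, n, rfl⟩, hzm⟩ := IsLocalization.surj (Submonoid.powers s) u
        have h2 : algebraMap B T (y * z) = algebraMap B T (s ^ n) := by
          rw [map_mul, ← hzm, ← mul_assoc, hu, one_mul]
        obtain ⟨⟨c, k, rfl⟩, hc⟩ := (IsLocalization.eq_iff_exists (Submonoid.powers s) T).1 h2
        exact ⟨z * s ^ k, n + k, by rw [pow_add, ← mul_assoc]; exact ((mul_comm _ _).trans hc.symm).trans (mul_comm _ _)⟩
      exact ⟨s ^ n, ⟨n, rfl⟩, ⟨z, hz⟩⟩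
  exact Algebra.Etale.of_equiv ((IsLocalization.algEquiv P.primeCompl T vL.valuationSubring).restrictScalars A)

end Groth.Agent.S14896
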