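import Groth.Statements.S14898
import Groth.Agent.S0384
import Groth.Agent.ChowLib.SchDom

set_option autoImplicit false
set_option linter.style.haveILetI false
set_option backward.isDefEq.respectTransparency false
set_option backward.isDefEq.respectTransparency.types false

set_option autoImplicit false
universe u
open CategoryTheory CategoryTheory.Limits AlgebraicGeometry
open FlatMor

namespace Groth.Agent.S14898

/-- Let S be integral, quasi-compact and quasi-separated and η̄ : Spec K̄ → S dominant, K̄ a field.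
Suppose given finitely many K̄-quasi-modifications of S: schematically dominant t_i : Spec K̄ → T_i
followed by separated, quasi-compact, locally finite type p_i : T_i → S with t_i ≫ p_i = η̄. Then
there is a K̄-modification of S — a schematically dominant s : Spec K̄ → S' followed by a proper q :
S' → S with s ≫ q = η̄ — and opens V_i ⊆ S' through which s factors, together with proper
S-morphisms r_i : V_i → T_i sending the K̄-point to t_i; that is, each V_i is a K̄-modification of
T_i sitting inside S' as an open subscheme over S. -/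
theorem result
    {S : Scheme.{u}} [IsIntegral S] [CompactSpace S] [QuasiSeparatedSpace S]
    (Kb : Type u) [Field Kb] (ηb : Spec (CommRingCat.of Kb) ⟶ S) [IsDominant ηb]
    {ι : Type u} [Finite ι] (T : ι → Scheme.{u}) (t : ∀ i, Spec (CommRingCat.of Kb) ⟶ T i)
    (p : ∀ i, T i ⟶ S) [∀ i, IsSchemeTheoreticallyDominant (t i)] [∀ i, IsSeparated (p i)]
    [∀ i, LocallyOfFiniteType (p i)] [∀ i, QuasiCompact (p i)] (hp : ∀ i, t i ≫ p i = ηb) :
    ∃ (S' : Scheme.{u}) (s : Spec (CommRingCat.of Kb) ⟶ S') (q : S' ⟶ S),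
      IsSchemeTheoreticallyDominant s ∧ IsProper q ∧ s ≫ q = ηb ∧
      ∀ i, ∃ (V : S'.Opens) (v : Spec (CommRingCat.of Kb) ⟶ (V : Scheme.{u}))
        (r : (V : Scheme.{u}) ⟶ T i),
        v ≫ V.ι = s ∧ IsProper r ∧ v ≫ r = t i ∧ r ≫ p i = V.ι ≫ q := by
  classical
  have hqs : ∀ {Q : Scheme.{u}} (q : Q ⟶ S) [IsSeparated q] (x : Spec (CommRingCat.of Kb) ⟶ Q), QuasiCompact x :=
    fun {Q} q _ x => by
      haveI : QuasiSeparatedSpace Q := quasiSeparatedSpace_of_quasiSeparated q
      infer_instance
  choose P j g hj hjc hg hjg using fun i => Groth.Agent.S0384.result (p i)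
  have key : ∀ s : Finset ι, ∃ (Q : Scheme.{u}) (q : Q ⟶ S) (x : Spec (CommRingCat.of Kb) ⟶ Q),
      IsProper q ∧ x ≫ q = ηb ∧ ∀ i ∈ s, ∃ π : Q ⟶ P i, π ≫ g i = q ∧ x ≫ π = t i ≫ j i := by
    intro s
    induction s using Finset.induction with
    | empty => exact ⟨S, 𝟙 S, ηb, inferInstance, Category.comp_id _, fun i hi => absurd hi (Finset.notMem_empty i)⟩
    | insert a s ha ih =>
      obtain ⟨Q, q, x, hq, hx, hπ⟩ := ih
      haveI := hq
      haveI := hg a
      refine ⟨pullback q (g a), pullback.fst q (g a) ≫ q,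
        pullback.lift x (t a ≫ j a) (by rw [hx, Category.assoc, hjg, hp]), inferInstance,
        by rw [pullback.lift_fst_assoc, hx], fun i hi => ?_⟩
      rcases Finset.mem_insert.1 hi with rfl | hi
      · exact ⟨pullback.snd q (g i), pullback.condition.symm, pullback.lift_snd _ _ _⟩
      · obtain ⟨π, h1, h2⟩ := hπ i hi
        exact ⟨pullback.fst q (g a) ≫ π, by rw [Category.assoc, h1], by rw [pullback.lift_fst_assoc, h2]⟩
  cases nonempty_fintype ι
  obtain ⟨Q, q, x, hq, hx, hπ⟩ := key Finset.univ
  haveI := hq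
  haveI : QuasiCompact x := hqs q x
  haveI : IsSchemeTheoreticallyDominant x.toImage := ChowLib.schDom_toImage x
  refine ⟨x.image, x.toImage, x.imageι ≫ q, inferInstance, inferInstance,
    by rw [Scheme.Hom.toImage_imageι_assoc, hx], fun i => ?_⟩
  obtain ⟨π, h1, h2⟩ := hπ i (Finset.mem_univ i)
  haveI := hg i
  haveI := hj i
  let π' : x.image ⟶ P i := x.imageι ≫ π
  haveI : IsProper π' := by
    haveI : IsProper (π' ≫ g i) := by rw [Category.assoc, h1]; infer_instance
    exact IsProper.of_comp π' (g i)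
  let V : x.image.Opens := π' ⁻¹ᵁ (j i).opensRange
  haveI : IsProper (π' ∣_ (j i).opensRange) := IsZariskiLocalAtTarget.restrict (P := @IsProper) (inferInstanceAs (IsProper π')) _
  have hxπ : x.toImage ≫ π' = t i ≫ j i := by rw [Scheme.Hom.toImage_imageι_assoc, h2]
  have hrange : Set.range x.toImage.base ⊆ Set.range V.ι.base := by
    rintro _ ⟨z, rfl⟩
    rw [Scheme.Opens.range_ι]
    show (x.toImage ≫ π').base z ∈ Set.range (j i).base
    rw [hxπ]
    exact ⟨(t i).base z, rfl⟩
  let r : (V : Scheme.{u}) ⟶ T i := (π' ∣_ (j i).opensRange) ≫ (j i).isoOpensRange.inv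
  have hr : r ≫ j i = V.ι ≫ π' := by
    rw [Category.assoc, Scheme.Hom.isoOpensRange_inv_comp, morphismRestrict_ι]
  refine ⟨V, IsOpenImmersion.lift V.ι x.toImage hrange, r, IsOpenImmersion.lift_fac _ _ _, inferInstance, ?_, ?_⟩
  · rw [← cancel_mono (j i), Category.assoc, hr, IsOpenImmersion.lift_fac_assoc, hxπ]
  · rw [← hjg i, reassoc_of% hr, Category.assoc, h1]

end Groth.Agent.S14898
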