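import Groth.Statements.S14901
import Groth.Agent.FibDimLib.FibreJumps

set_option autoImplicit false
universe u
open MovLem

namespace Groth.Agent.S14901

open AlgebraicGeometry CategoryTheory in
/-- Let k be a field, let S and X be separated k-schemes of finite type that are locally equidimensional
(all irreducible components passing through a given point have the same dimension), let f : S → X be
a k-morphism and Z ⊆ X a closed subset. Let d be the dimension of the image f(S), as a subspace of
X. If every point s of S with f(s) ∈ Z satisfies dim O_{S,s} ≥ d + 1 (equivalently: the closed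
subset f⁻¹(Z) of S has local codimension at least d + 1 at each of its points), then f⁻¹(Z) is
empty. -/
theorem result (k : Type u) [Field k] (S X : Scheme.{u})
    (pS : S ⟶ Spec (CommRingCat.of k)) (pX : X ⟶ Spec (CommRingCat.of k))
    [IsSeparated pS] [LocallyOfFiniteType pS] [QuasiCompact pS]
    [IsSeparated pX] [LocallyOfFiniteType pX] [QuasiCompact pX]
    (hS : ∀ (s : S) (A B : Set S), A ∈ irreducibleComponents (S : Type u) → B ∈ irreducibleComponents (S : Type u) →
      s ∈ A → s ∈ B → topologicalKrullDim A = topologicalKrullDim B)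
    (hX : ∀ (x : X) (A B : Set X), A ∈ irreducibleComponents (X : Type u) → B ∈ irreducibleComponents (X : Type u) →
      x ∈ A → x ∈ B → topologicalKrullDim A = topologicalKrullDim B)
    (f : S ⟶ X) (hf : f ≫ pX = pS) (Z : Set X) (hZ : IsClosed Z)
    (h : ∀ s : S, f.base s ∈ Z →
      topologicalKrullDim (Set.range f.base) + 1 ≤ ringKrullDim (S.presheaf.stalk s)) :
    f.base ⁻¹' Z = ∅ := by
  haveI : IsLocallyNoetherian X := LocallyOfFiniteType.isLocallyNoetherian pX
  haveI : CompactSpace X := QuasiCompact.compactSpace_of_compactSpace pX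
  haveI : CompactSpace S := QuasiCompact.compactSpace_of_compactSpace pS
  haveI : IsNoetherian X := { }
  haveI : LocallyOfFiniteType (f ≫ pX) := by rw [hf]; infer_instance
  haveI : QuasiCompact (f ≫ pX) := by rw [hf]; infer_instance
  haveI : LocallyOfFiniteType f := locallyOfFiniteType_of_comp f pX
  haveI : QuasiCompact f := QuasiCompact.of_comp f pX
  haveI : LocallyOfFinitePresentation f := UOpenLib.locallyOfFinitePresentation_of_isLocallyNoetherian f
  haveI : QuasiSeparatedSpace X := inferInstance
  -- closures of points of the image are no bigger than the image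
  have hle : ∀ y ∈ Set.range f.base, topologicalKrullDim (closure ({y} : Set X)) ≤
      topologicalKrullDim (Set.range f.base) := by
    intro y hy
    have hE : Topology.IsConstructible (Set.range f.base) := by
      rw [← Set.image_univ]
      exact f.isConstructible_image Topology.IsConstructible.univ
    obtain ⟨P, hPf, hPl, hEP⟩ := SweepSix.exists_isLocallyClosed_pieces hE
    obtain ⟨U, hU, hUP, ⟨w, hwU, hw⟩, -⟩ := SweepSix.exists_open_of_dense
      (isIrreducible_singleton (x := y)).closure hPf hPl (closure_minimal (Set.singleton_subset_iff.2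
        (subset_closure ⟨hEP ▸ hy, subset_closure rfl⟩)) isClosed_closure)
    let W : X.Opens := ⟨U, hU⟩
    have hyU : y ∈ U := (specializes_iff_mem_closure.2 hw).mem_open hU hwU
    haveI : LocallyOfFiniteType (Over.mk pX).hom := ‹LocallyOfFiniteType pX›
    refine le_of_eq_of_le (FibDimLib.topologicalKrullDim_closure_open (Over.mk pX) W ⟨y, hyU⟩).symm ?_
    refine Topology.IsInducing.topologicalKrullDim_le (f := fun v => (⟨W.ι.base v.1, hEP.ge (hUP ⟨by
        have h0 : W.ι.base v.1 ∈ Set.range W.ι.base := ⟨v.1, rfl⟩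
        rwa [W.range_ι] at h0,
      ((specializes_iff_mem_closure.2 v.2).map W.ι.continuous).mem_closure⟩)⟩ : Set.range f.base)) ?_
    exact Topology.IsInducing.of_comp (g := Subtype.val) (by fun_prop) continuous_subtype_val
      (W.ι.isOpenEmbedding.isEmbedding.isInducing.comp Topology.IsInducing.subtypeVal)
  by_contra hne
  obtain ⟨s₁, hs₁⟩ := Set.nonempty_iff_ne_empty.2 hne
  obtain ⟨s, hs, -, hmax, -⟩ := UOpenLib.exists_max_fibreDimAt f s₁
  have hsZ : f.base s ∈ Z := hs ▸ hs₁
  have hstalk := h s hsZ
  obtain ⟨ξ, -, hξs, hd⟩ := FibDimLib.exists_generic_localDim pS s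
  rw [FibDimLib.localDim_eq_closure_add_stalk pS s,
    FibDimLib.topologicalKrullDim_closure_eq_add pX f s,
    FibDimLib.topologicalKrullDim_closure_eq_add pX f ξ] at hd
  have hfc : UOpenLib.fibreClosureDim f ξ ≤ UOpenLib.fibreClosureDim f s :=
    (UOpenLib.fibreClosureDim_le_fibreDimAt f hξs).trans_eq (UOpenLib.fibreDimAt_eq_of_max f hmax)
  have hD := hle (f.base ξ) ⟨ξ, rfl⟩
  obtain ⟨a, ha⟩ := UOpenLib.exists_fibreClosureDim_eq_nat f s
  obtain ⟨b, hb⟩ := UOpenLib.exists_fibreClosureDim_eq_nat f ξ
  haveI : LocallyOfFiniteType (Over.mk pX).hom := ‹LocallyOfFiniteType pX›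
  obtain ⟨c, hc, -⟩ := WeilLib.pdim_eq_trdeg (Over.mk pX) (f.base s)
  change topologicalKrullDim (closure ({f.base s} : Set X)) = _ at hc
  obtain ⟨e, he, -⟩ := WeilLib.pdim_eq_trdeg (Over.mk pX) (f.base ξ)
  change topologicalKrullDim (closure ({f.base ξ} : Set X)) = _ at he
  rw [ha, hb] at hfc
  rw [ha, hb, hc, he] at hd
  rw [he] at hD
  have hba : b ≤ a := by exact_mod_cast hfc
  have h1 : (c : WithBot ℕ∞) + a + ((e : WithBot ℕ∞) + 1) ≤ e + b :=
    (add_le_add le_rfl ((add_le_add hD le_rfl).trans hstalk)).trans hd.le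
  have h2 : c + a + (e + 1) ≤ e + b := by exact_mod_cast h1
  omega

end Groth.Agent.S14901
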