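import Groth.Statements.S14905
import Groth.Agent.GaCompLib.Sym
import Groth.Agent.GaCompLib.Main
-- import your own Groth.Agent.* helpers here

set_option autoImplicit false
universe u
open CategoryTheory MonoidalCategory CartesianMonoidalCategory MonObj GrpObj AlgebraicGeometry
open Neron

set_option linter.style.haveILetI false
set_option backward.isDefEq.respectTransparency false
set_option backward.isDefEq.respectTransparency.types false
set_option maxHeartbeats 1000000
open CategoryTheory.Limits MonoidalCategory CartesianMonoidalCategory CoactBr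
open Groth.Agent.DiagRep (baseHom bcHom)
open scoped MonObj TensorProduct
attribute [-instance] CategoryTheory.Hom.commGroup

namespace Groth.Agent.S14905

/-- Let R be a complete discrete valuation ring with fraction field K of characteristic 0 and
algebraically closed residue field k of characteristic p > 0, and let G be an affine smooth R-group
scheme of finite type together with an isomorphism of K-group schemes between its generic fibre and
the additive group over K. Then the group of connected components of the special fibre G_k is a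
p-group: for every k-point x of G_k some power x^(p^m) lies in the connected component of the
identity; and the identity component of G is the additive group over R: there is a homomorphism of
R-group schemes from the additive group over R to G which is an open immersion. (The published
statement also asserts that every finite abelian p-group occurs as such a component group; this row
does not state that.) -/
theorem result (R : Type u) [CommRing R] [IsDomain R] [IsDiscreteValuationRing R]
    [IsAdicComplete (IsLocalRing.maximalIdeal R) R] (K : Type u) [Field K] [Algebra R K] [IsFractionRing R K] [CharZero K]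
    [IsAlgClosed (IsLocalRing.ResidueField R)]
    (p : ℕ) [Fact p.Prime] [CharP (IsLocalRing.ResidueField R) p]
    (G : Over (Spec (CommRingCat.of R))) [GrpObj G] [Smooth G.hom] [IsAffineHom G.hom] [LocallyOfFiniteType G.hom]
    (e : Red.bc (Spec.map (CommRingCat.ofHom (algebraMap R K))) G ≅ Red.Ga (Spec (CommRingCat.of K))) [IsMonHom e.hom] :
    (∀ x : 𝟙_ (Over (Spec (CommRingCat.of (IsLocalRing.ResidueField R)))) ⟶ Red.bc (Spec.map (CommRingCat.ofHom (IsLocalRing.residue R))) G,
        ∃ m : ℕ, (x ^ (p ^ m)).left.base (IsLocalRing.closedPoint (IsLocalRing.ResidueField R)) ∈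
          connectedComponent ((η[Red.bc (Spec.map (CommRingCat.ofHom (IsLocalRing.residue R))) G]).left.base (IsLocalRing.closedPoint (IsLocalRing.ResidueField R)))) ∧
      ∃ j : Red.Ga (Spec (CommRingCat.of R)) ⟶ G, IsMonHom j ∧ IsOpenImmersion j.left := by
  haveI : IsAffine G.left := isAffine_of_isAffineHom G.hom
  obtain ⟨C, iC, iC', v, hv, hv'⟩ := HomCorr.exists_hopf G
  haveI := hv; haveI := hv'
  haveI : IsIso v.hom.left := (Over.forget _).map_isIso v.hom
  haveI : Algebra.Smooth R C := by
    have h : Smooth (sp R C).hom := by rw [← Over.w v.hom]; infer_instance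
    exact RingHom.smooth_algebraMap.1 ((HasRingHomProperty.Spec_iff (P := @Smooth)).1 h)
  haveI : HenselianLocalRing R :=
    ⟨fun f hf a₀ h₁ h₂ => HenselianRing.is_henselian (I := IsLocalRing.maximalIdeal R) f hf a₀ h₁ (h₂.map (Ideal.Quotient.mk (IsLocalRing.maximalIdeal R)))⟩
  let P := (Over.pullback (baseHom R K)).map v.hom
  haveI hP : IsMonHom (M := Red.bc (baseHom R K) (sp R C)) (N := Red.bc (baseHom R K) G) P :=
    @Functor.map.instIsMonHom _ _ _ _ _ _ (Over.pullback (baseHom R K)) _ _ _ _ _ v.hom _
  haveI : IsIso P := Functor.map_isIso _ _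
  haveI : IsIso (bcHom R K C) := inferInstance
  haveI hB : IsMonHom (asIso (bcHom R K C)).hom := DiagRep.isMonHom_bcHom R K C
  haveI : IsMonHom (asIso (GaModel.toGa K)).hom := inferInstanceAs (IsMonHom (GaModel.toGa K))
  let Ω : sp K (K ⊗[R] C) ⟶ sp K (SymmetricAlgebra K K) :=
    (asIso (bcHom R K C)).inv ≫ P ≫ e.hom ≫ (asIso (GaModel.toGa K)).inv
  haveI hΩ : IsMonHom Ω := by
    haveI h3 : IsMonHom (e.hom ≫ (asIso (GaModel.toGa K)).inv) := inferInstance
    haveI h2 : IsMonHom (P ≫ e.hom ≫ (asIso (GaModel.toGa K)).inv) := @instIsMonHomComp _ _ _ _ _ _ _ _ _ _ _ hP h3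
    exact @instIsMonHomComp _ _ _ _ _ _ _ _ _ _ _ (inferInstance : IsMonHom (asIso (bcHom R K C)).inv) h2
  haveI : IsIso Ω := inferInstanceAs (IsIso ((asIso (bcHom R K C)).inv ≫ P ≫ e.hom ≫ (asIso (GaModel.toGa K)).inv))
  haveI : IsMonHom (inv (inv Ω)) := by rwa [IsIso.inv_inv]
  obtain ⟨y, hy, hyb⟩ := GaComp.exists_field_generator K (inv Ω)
  obtain ⟨x, hx, hxb⟩ := GaComp.exists_generator K y hy hyb
  obtain ⟨ψ, hψm, hψo⟩ := GaComp.exists_hom K hx hxb
  haveI := hψm
  haveI := hψo
  haveI : IsMonHom (asIso (GaModel.toGa R)).hom := inferInstanceAs (IsMonHom (GaModel.toGa R))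
  haveI : IsIso (asIso (GaModel.toGa R)).inv.left := (Over.forget _).map_isIso _
  let j : Red.Ga (Spec (CommRingCat.of R)) ⟶ G := (asIso (GaModel.toGa R)).inv ≫ pt ψ ≫ v.hom
  haveI hjm : IsMonHom j := inferInstanceAs (IsMonHom ((asIso (GaModel.toGa R)).inv ≫ pt ψ ≫ v.hom))
  haveI hjo : IsOpenImmersion j.left :=
    inferInstanceAs (IsOpenImmersion ((asIso (GaModel.toGa R)).inv.left ≫ (pt ψ).left ≫ v.hom.left))
  exact ⟨fun x => GaComp.exists_pow_mem_component p G e j x, j, hjm, hjo⟩

end Groth.Agent.S14905
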