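import Groth.Statements.S14906
import Groth.Agent.GmModelLib.Algebra
import Groth.Agent.HomCorrLib.Bridge
import Groth.Agent.DiagRepLib.Main
import Groth.Agent.DSImgLib.Basic
import Groth.Agent.TorusFieldLib.Scheme
import Groth.Agent.GrpHomLib.Artin
-- import your own Groth.Agent.* helpers here

set_option autoImplicit false
universe u
open CategoryTheory MonoidalCategory CartesianMonoidalCategory MonObj GrpObj AlgebraicGeometry
open Neron

set_option linter.style.haveILetI false
set_option backward.isDefEq.respectTransparency false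
set_option backward.isDefEq.respectTransparency.types false
set_option maxHeartbeats 1000000
open CategoryTheory.Limits MonoidalCategory CartesianMonoidalCategory CoactBr
open Groth.Agent.DiagRep (baseHom bcHom)
open scoped MonObj TensorProduct
attribute [-instance] CategoryTheory.Hom.commGroup

namespace Groth.Agent.S14906

variable {R : Type u} [CommRing R]

noncomputable instance (priority := 10000) gmHopf : HopfAlgebra R (GmModel.GmAlg R) := inferInstance

noncomputable instance (priority := 10000) gmGrp (K : Type u) [CommRing K] [Algebra R K] (A : Type u) [CommRing A]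
    [HopfAlgebra R A] : GrpObj (sp K (K ⊗[R] A)) :=
  letI : HopfAlgebra K (K ⊗[R] A) := inferInstance
  inferInstance

noncomputable instance (priority := 10000) gmMon (K : Type u) [CommRing K] [Algebra R K] (A : Type u) [CommRing A]
    [HopfAlgebra R A] : MonObj (sp K (K ⊗[R] A)) := (gmGrp K A).toMonObj

theorem exists_bc_iso (K : Type u) [CommRing K] [Algebra R K] :
    ∃ w : sp K (K ⊗[R] GmModel.GmAlg R) ≅ Red.Gm (Spec (CommRingCat.of K)), IsMonHom w.hom ∧ IsMonHom w.inv := by
  obtain ⟨w₀, hw₀, -⟩ := TorusField.exists_DS_iso R ℤ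
  haveI := hw₀
  let P := (Over.pullback (baseHom R K)).map w₀.hom
  haveI hP : IsMonHom (M := Red.bc (baseHom R K) (sp R (GmModel.GmAlg R)))
      (N := Red.bc (baseHom R K) (Red.DS (Spec (CommRingCat.of R)) ℤ)) P :=
    @Functor.map.instIsMonHom _ _ _ _ _ _ (Over.pullback (baseHom R K)) _ _ _ _ _ w₀.hom _
  haveI : IsIso (bcHom R K (GmModel.GmAlg R)) := inferInstance
  haveI : IsMonHom (asIso (bcHom R K (GmModel.GmAlg R))).hom := DiagRep.isMonHom_bcHom R K _
  haveI : IsMonHom (asIso P).hom := hP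
  let w : sp K (K ⊗[R] GmModel.GmAlg R) ≅ Red.Gm (Spec (CommRingCat.of K)) :=
    (asIso (bcHom R K (GmModel.GmAlg R))).symm ≪≫ asIso P ≪≫ DSImg.bcDS (baseHom R K) ℤ
  haveI : IsMonHom w.hom := by
    show IsMonHom ((asIso (bcHom R K (GmModel.GmAlg R))).inv ≫ (asIso P).hom ≫ (DSImg.bcDS (baseHom R K) ℤ).hom)
    infer_instance
  exact ⟨w, inferInstance, inferInstance⟩

theorem comul_comp {A C : Type u} [CommRing A] [CommRing C] [Bialgebra R A] [Bialgebra R C] (φ : A →ₐ[R] C)
    [IsMonHom (pt φ)] :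
    (Algebra.TensorProduct.map φ φ).comp (Bialgebra.comulAlgHom R A) = (Bialgebra.comulAlgHom R C).comp φ := by
  refine AlgHom.ext fun a => ?_
  have h := congrArg (fun x : WithConv (A →ₐ[R] C ⊗[R] C) => x a) (DiagRep.comul_comp_of_isMonHom φ)
  simp only [AlgHom.convMul_apply] at h
  refine Eq.trans ?_ h.symm
  show Algebra.TensorProduct.map φ φ (CoalgebraStruct.comul (R := R) a) = _
  generalize CoalgebraStruct.comul (R := R) a = z
  induction z using TensorProduct.induction_on with
  | zero => simp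
  | add x y hx hy => simp only [map_add, hx, hy]
  | tmul x y => simp [Algebra.TensorProduct.tmul_mul_tmul]


theorem exists_hom [IsNoetherianRing R] [IsLocalRing R] [IsAdicComplete (IsLocalRing.maximalIdeal R) R]
    {C : Type u} [CommRing C] [HopfAlgebra R C] [Algebra.Smooth R C]
    (a : sp (R ⧸ IsLocalRing.maximalIdeal R) ((R ⧸ IsLocalRing.maximalIdeal R) ⊗[R] GmModel.GmAlg R) ⟶
      sp (R ⧸ IsLocalRing.maximalIdeal R) ((R ⧸ IsLocalRing.maximalIdeal R) ⊗[R] C))
    [IsMonHom a] [Mono a] : ∃ φ : C →ₐc[R] GmModel.GmAlg R, Function.Surjective φ := by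
  haveI : IsArtinianRing (R ⧸ IsLocalRing.maximalIdeal R) :=
    inferInstanceAs (IsArtinianRing (IsLocalRing.ResidueField R))
  haveI : IsLocalRing (R ⧸ IsLocalRing.maximalIdeal R) :=
    inferInstanceAs (IsLocalRing (IsLocalRing.ResidueField R))
  haveI : Algebra.FiniteType R (GmModel.GmAlg R) := inferInstance
  haveI : Mono a.left := (Over.forget _).map_mono a
  haveI : LocallyOfFiniteType (sp (R ⧸ IsLocalRing.maximalIdeal R)
      ((R ⧸ IsLocalRing.maximalIdeal R) ⊗[R] GmModel.GmAlg R)).hom :=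
    (HasRingHomProperty.Spec_iff (P := @LocallyOfFiniteType)).2 (RingHom.finiteType_algebraMap.2 inferInstance)
  haveI : LocallyOfFiniteType (sp (R ⧸ IsLocalRing.maximalIdeal R)
      ((R ⧸ IsLocalRing.maximalIdeal R) ⊗[R] C)).hom :=
    (HasRingHomProperty.Spec_iff (P := @LocallyOfFiniteType)).2 (RingHom.finiteType_algebraMap.2 inferInstance)
  haveI : IsAffine (sp (R ⧸ IsLocalRing.maximalIdeal R)
      ((R ⧸ IsLocalRing.maximalIdeal R) ⊗[R] GmModel.GmAlg R)).left := isAffine_Spec _
  haveI : IsAffine (sp (R ⧸ IsLocalRing.maximalIdeal R)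
      ((R ⧸ IsLocalRing.maximalIdeal R) ⊗[R] C)).left := isAffine_Spec _
  haveI : IsAffineHom a.left := isAffineHom_of_isAffine _
  haveI : IsClosedImmersion a.left := GrpHom.isClosedImmersion_of_mono_artinian (u := a)
  obtain ⟨ψ, hψ⟩ := DiagRep.exists_pt a
  haveI : IsMonHom (pt ψ) := hψ ▸ (inferInstance : IsMonHom a)
  have hψs : Function.Surjective ψ := DiagRep.surjective_of_isClosedImmersion ψ (hψ ▸ ‹IsClosedImmersion a.left›)
  let φ₀ : ((R ⧸ IsLocalRing.maximalIdeal R) ⊗[R] C) →ₐc[R ⧸ IsLocalRing.maximalIdeal R] ((R ⧸ IsLocalRing.maximalIdeal R) ⊗[R] (GmModel.GmAlg R)) :=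
    BialgHom.ofAlgHom ψ (DiagRep.counit_comp_of_isMonHom ψ) (comul_comp ψ)
  obtain ⟨φ, hφ⟩ := Groth.Agent.S5271.result R (IsLocalRing.maximalIdeal R) (GmModel.GmAlg R) GmModel.isIsotrivial_gmAlg C φ₀
  have hs : ∀ b, ∃ c, b - φ c ∈ Ideal.map (algebraMap R (GmModel.GmAlg R)) (IsLocalRing.maximalIdeal R) := fun b => by
    obtain ⟨z, hz⟩ := hψs (1 ⊗ₜ b)
    obtain ⟨c, rfl⟩ : ∃ c : C, (1 : R ⧸ IsLocalRing.maximalIdeal R) ⊗ₜ[R] c = z := by
      clear hz
      induction z using TensorProduct.induction_on with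
      | zero => exact ⟨0, TensorProduct.tmul_zero _ _⟩
      | tmul x y =>
        obtain ⟨r, rfl⟩ := Ideal.Quotient.mk_surjective x
        refine ⟨r • y, ?_⟩
        rw [TensorProduct.tmul_smul, TensorProduct.smul_tmul']
        congr 1
        exact (Algebra.algebraMap_eq_smul_one r).symm
      | add x y hx hy =>
        obtain ⟨a, rfl⟩ := hx; obtain ⟨b, rfl⟩ := hy
        exact ⟨a + b, TensorProduct.tmul_add _ _ _⟩
    refine ⟨c, ?_⟩
    let m := Ideal.map (algebraMap R (GmModel.GmAlg R)) (IsLocalRing.maximalIdeal R)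
    let L : (R ⧸ IsLocalRing.maximalIdeal R) ⊗[R] (GmModel.GmAlg R) →ₐ[R] (GmModel.GmAlg R) ⧸ m := Algebra.TensorProduct.lift
      (Ideal.Quotient.liftₐ _ (Algebra.ofId R ((GmModel.GmAlg R) ⧸ m)) fun r hr => by
        show algebraMap R ((GmModel.GmAlg R) ⧸ m) r = 0
        rw [← Ideal.Quotient.mk_algebraMap, Ideal.Quotient.eq_zero_iff_mem]
        exact Ideal.mem_map_of_mem _ hr)
      (Ideal.Quotient.mkₐ R m) fun _ _ => Commute.all _ _
    have h := congrArg L (hz.symm.trans (hφ c))
    simp only [L, Algebra.TensorProduct.lift_tmul, map_one, _root_.one_mul, Ideal.Quotient.mkₐ_eq_mk] at h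
    exact Ideal.Quotient.eq.1 h
  exact ⟨φ, GmModel.surjective_of_residue GmModel.isMultType_gmAlg φ hs⟩

theorem bijective_of_iso [IsDomain R] (K : Type u) [Field K] [Algebra R K] [IsFractionRing R K]
    {C : Type u} [CommRing C] [HopfAlgebra R C] [Algebra.Smooth R C] (φ : C →ₐc[R] GmModel.GmAlg R)
    (hsur : Function.Surjective φ) (eK : sp K (K ⊗[R] GmModel.GmAlg R) ≅ sp K (K ⊗[R] C)) :
    Function.Bijective φ := by
  obtain ⟨f, hf⟩ := DiagRep.exists_pt eK.hom
  obtain ⟨f', hf'⟩ := DiagRep.exists_pt eK.inv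
  have h1 : f.comp f' = AlgHom.id K _ := pt_injective (by rw [pt_comp, ← hf, ← hf', eK.hom_inv_id, pt_id])
  have h2 : f'.comp f = AlgHom.id K _ := pt_injective (by rw [pt_comp, ← hf, ← hf', eK.inv_hom_id, pt_id])
  exact GmModel.bijective_of_generic K (φ : C →ₐ[R] GmModel.GmAlg R) hsur (AlgEquiv.ofAlgHom f' f h2 h1).toRingEquiv

theorem isIso_pt {C : Type u} [CommRing C] [HopfAlgebra R C] (φ : C →ₐc[R] GmModel.GmAlg R)
    (hbij : Function.Bijective φ) :
    IsIso (pt (φ : C →ₐ[R] GmModel.GmAlg R)) ∧ IsMonHom (pt (φ : C →ₐ[R] GmModel.GmAlg R)) := by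
  let φe : C ≃ₐ[R] GmModel.GmAlg R := AlgEquiv.ofBijective (φ : C →ₐ[R] GmModel.GmAlg R) hbij
  exact ⟨⟨pt φe.symm.toAlgHom,
    by rw [← pt_comp, show (φ : C →ₐ[R] GmModel.GmAlg R).comp φe.symm.toAlgHom = AlgHom.id R (GmModel.GmAlg R) from
      AlgHom.ext fun b => φe.apply_symm_apply b]; exact pt_id,
    by rw [← pt_comp, show φe.symm.toAlgHom.comp (φ : C →ₐ[R] GmModel.GmAlg R) = AlgHom.id R C from
      AlgHom.ext fun b => φe.symm_apply_apply b]; exact pt_id⟩,
    DiagRep.isMonHom_pt _ (BialgHom.counitAlgHom_comp φ) (BialgHom.map_comp_comulAlgHom φ)⟩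

theorem connectedSpace_bc (K : Type u) [Field K] [Algebra R K] (G : Over (Spec (CommRingCat.of R)))
    (e' : G ≅ Red.Gm (Spec (CommRingCat.of R))) : ConnectedSpace ↥(Red.bc (baseHom R K) G).left := by
  obtain ⟨wd, -, -⟩ := TorusField.exists_DS_iso K ℤ
  haveI : IsDomain (MonoidAlgebra K (Multiplicative ℤ)) := NoZeroDivisors.to_isDomain _
  haveI : ConnectedSpace ↥(sp K (MonoidAlgebra K (Multiplicative ℤ))).left :=
    inferInstanceAs (ConnectedSpace (PrimeSpectrum (MonoidAlgebra K (Multiplicative ℤ))))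
  let iso : sp K (MonoidAlgebra K (Multiplicative ℤ)) ≅ Red.bc (baseHom R K) G :=
    wd ≪≫ (DSImg.bcDS (baseHom R K) ℤ).symm ≪≫ ((Over.pullback (baseHom R K)).mapIso e').symm
  let H := Scheme.homeoOfIso ((Over.forget _).mapIso iso)
  haveI : ConnectedSpace ↥((Over.forget (Spec (CommRingCat.of K))).obj (sp K (MonoidAlgebra K (Multiplicative ℤ)))) :=
    ‹ConnectedSpace ↥(sp K (MonoidAlgebra K (Multiplicative ℤ))).left›
  exact H.surjective.connectedSpace H.continuous

/-- Let R be a complete discrete valuation ring with fraction field K of characteristic 0 and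
algebraically closed residue field k, and let G be an affine smooth R-group scheme of finite type
together with an isomorphism of K-group schemes between its generic fibre and the multiplicative
group over K (an affine smooth R-model of the multiplicative group). Suppose the identity component
of the special fibre G_k is the multiplicative group: there is a homomorphism of k-group schemes
from the multiplicative group over k to G_k which is an open immersion. Then G_k is connected and G
is isomorphic to the multiplicative group over R as an R-group scheme (existence of an isomorphism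
of group schemes). -/
theorem result (R : Type u) [CommRing R] [IsDomain R] [IsDiscreteValuationRing R]
    [IsAdicComplete (IsLocalRing.maximalIdeal R) R] (K : Type u) [Field K] [Algebra R K] [IsFractionRing R K] [CharZero K]
    [IsAlgClosed (IsLocalRing.ResidueField R)]
    (G : Over (Spec (CommRingCat.of R))) [GrpObj G] [Smooth G.hom] [IsAffineHom G.hom] [LocallyOfFiniteType G.hom]
    (e : Red.bc (Spec.map (CommRingCat.ofHom (algebraMap R K))) G ≅ Red.Gm (Spec (CommRingCat.of K))) [IsMonHom e.hom]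
    (j₀ : Red.Gm (Spec (CommRingCat.of (IsLocalRing.ResidueField R))) ⟶ Red.bc (Spec.map (CommRingCat.ofHom (IsLocalRing.residue R))) G) [IsMonHom j₀]
    [IsOpenImmersion j₀.left] :
    ConnectedSpace ↥(Red.bc (Spec.map (CommRingCat.ofHom (IsLocalRing.residue R))) G).left ∧
      ∃ e' : G ≅ Red.Gm (Spec (CommRingCat.of R)), IsMonHom e'.hom := by
  haveI : IsAffine G.left := isAffine_of_isAffineHom G.hom
  obtain ⟨C, iC, iC', v, hv, hv'⟩ := HomCorr.exists_hopf G
  haveI := hv; haveI := hv'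
  haveI : IsIso v.hom.left := (Over.forget _).map_isIso v.hom
  haveI : Algebra.Smooth R C := by
    have h : Smooth (sp R C).hom := by rw [← Over.w v.hom]; infer_instance
    exact RingHom.smooth_algebraMap.1 ((HasRingHomProperty.Spec_iff (P := @Smooth)).1 h)
  haveI : Module.Flat R C := inferInstance
  let k := R ⧸ IsLocalRing.maximalIdeal R
  let jj : Red.Gm (Spec (CommRingCat.of k)) ⟶ Red.bc (baseHom R k) G := j₀
  haveI : IsMonHom jj := ‹IsMonHom j₀›
  haveI hjo : IsOpenImmersion jj.left := ‹IsOpenImmersion j₀.left›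
  obtain ⟨wk, hwk, -⟩ := exists_bc_iso (R := R) k
  haveI := hwk
  let P := (Over.pullback (baseHom R k)).map v.inv
  haveI hP : IsMonHom (M := Red.bc (baseHom R k) G) (N := Red.bc (baseHom R k) (sp R C)) P :=
    @Functor.map.instIsMonHom _ _ _ _ _ _ (Over.pullback (baseHom R k)) _ _ _ _ _ v.inv _
  haveI : IsMonHom (M := Red.bc (baseHom R k) (sp R C)) (N := sp k (k ⊗[R] C)) (bcHom R k C) :=
    DiagRep.isMonHom_bcHom R k C
  let a : sp k (k ⊗[R] GmModel.GmAlg R) ⟶ sp k (k ⊗[R] C) := wk.hom ≫ jj ≫ P ≫ bcHom R k C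
  haveI h1 : IsMonHom (P ≫ bcHom R k C) := @instIsMonHomComp _ _ _ _ _ _ _ _ _ _ _ hP (DiagRep.isMonHom_bcHom R k C)
  haveI h2 : IsMonHom (jj ≫ P ≫ bcHom R k C) := inferInstance
  haveI : IsMonHom a := @instIsMonHomComp _ _ _ _ _ _ _ _ _ _ _ hwk h2
  haveI : Mono jj := Over.mono_of_mono_left jj
  haveI : IsIso P := Functor.map_isIso _ _
  haveI m1 : Mono (P ≫ bcHom R k C) := @mono_comp _ _ _ _ _ P (IsIso.mono_of_iso P) _
    (@IsIso.mono_of_iso _ _ _ _ (bcHom R k C) (inferInstance : IsIso (bcHom R k C)))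
  haveI m2 : Mono (jj ≫ P ≫ bcHom R k C) := @mono_comp _ _ _ _ _ jj ‹Mono jj› _ m1
  haveI : Mono a := @mono_comp _ _ _ _ _ wk.hom (IsIso.mono_of_iso wk.hom) _ m2
  obtain ⟨φ, hsur⟩ := exists_hom a
  obtain ⟨wK, -, -⟩ := exists_bc_iso (R := R) K
  have hbij := bijective_of_iso K φ hsur
    (wK ≪≫ e.symm ≪≫ (Over.pullback (baseHom R K)).mapIso v.symm ≪≫ asIso (bcHom R K C))
  obtain ⟨hi, hm⟩ := isIso_pt φ hbij
  haveI := hi
  haveI : IsMonHom (asIso (pt (φ : C →ₐ[R] GmModel.GmAlg R))).hom := hm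
  obtain ⟨w₀, hw₀, -⟩ := TorusField.exists_DS_iso R ℤ
  haveI := hw₀
  let e' : G ≅ Red.Gm (Spec (CommRingCat.of R)) := v.symm ≪≫ (asIso (pt (φ : C →ₐ[R] GmModel.GmAlg R))).symm ≪≫ w₀
  have he' : IsMonHom e'.hom := by
    show IsMonHom (v.inv ≫ (asIso (pt (φ : C →ₐ[R] GmModel.GmAlg R))).inv ≫ w₀.hom)
    infer_instance
  exact ⟨connectedSpace_bc (IsLocalRing.ResidueField R) G e', e', he'⟩

end Groth.Agent.S14906
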