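import Groth.Statements.S1491
import Groth.Agent.KRLib.Pres

set_option autoImplicit false
universe u
attribute [local instance] HasDerivedCategory.standard
open FlatMor

namespace Groth.Agent.S1491

open AlgebraicGeometry CategoryTheory Limits in
/-- Let f : X → Y and g : Y → Z be local complete intersection morphisms, in the affine-local sense that
all ring maps between affine opens are local complete intersection homomorphisms. Then f ≫ g is a
local complete intersection morphism. -/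
theorem result {X Y Z : Scheme.{u}} (f : X ⟶ Y) (g : Y ⟶ Z)
    (hf : (∀ (U : X.Opens) (V : Y.Opens) (hU : IsAffineOpen U) (hV : IsAffineOpen V) (hUV : U ≤ f ⁻¹ᵁ V),
        letI := (f.appLE V U hUV).hom.toAlgebra
        LCI.IsLCI Γ(Y, V) Γ(X, U)))
    (hg : (∀ (U : Y.Opens) (V : Z.Opens) (hU : IsAffineOpen U) (hV : IsAffineOpen V) (hUV : U ≤ g ⁻¹ᵁ V),
        letI := (g.appLE V U hUV).hom.toAlgebra
        LCI.IsLCI Γ(Z, V) Γ(Y, U))) :
    (∀ (U : X.Opens) (V : Z.Opens) (hU : IsAffineOpen U) (hV : IsAffineOpen V) (hUV : U ≤ (f ≫ g) ⁻¹ᵁ V),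
        letI := ((f ≫ g).appLE V U hUV).hom.toAlgebra
        LCI.IsLCI Γ(Z, V) Γ(X, U)) := by
  intro U V hU hV hUV
  algebraize [((f ≫ g).appLE V U hUV).hom]
  let A := Γ(Z, V)
  let S := Γ(X, U)
  let s : Set Γ(X, U) := {u | ∃ W : Y.Opens, IsAffineOpen W ∧ W ≤ g ⁻¹ᵁ V ∧ X.basicOpen u ≤ f ⁻¹ᵁ W}
  have hcov : ∀ x : X, x ∈ U → ∃ u ∈ s, x ∈ X.basicOpen u := by
    intro x hx
    obtain ⟨_, ⟨W, hW, rfl⟩, hxW, hWV⟩ := Y.isBasis_affineOpens.exists_subset_of_mem_open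
      (show f x ∈ g ⁻¹ᵁ V from hUV hx) (g ⁻¹ᵁ V).isOpen
    obtain ⟨u, hu, hxu⟩ := hU.exists_basicOpen_le (V := f ⁻¹ᵁ W) ⟨x, hxW⟩ hx
    exact ⟨u, ⟨W, hW, hWV, hu⟩, hxu⟩
  have hspan : Ideal.span s = ⊤ := by
    rw [← hU.self_le_iSup_basicOpen_iff]
    intro x hx
    obtain ⟨u, hu, hxu⟩ := hcov x hx
    exact TopologicalSpace.Opens.mem_iSup.mpr ⟨⟨u, hu⟩, hxu⟩
  refine KRLib.isLCI_of_span_eq_top s hspan ?_
  rintro u ⟨W, hW, hWV, huW⟩
  have := hU.isLocalization_basicOpen u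
  let e : Localization.Away u ≃ₐ[Γ(X, U)] Γ(X, X.basicOpen u) :=
    IsLocalization.algEquiv (Submonoid.powers u) _ _
  letI algV : Algebra Γ(Z, V) Γ(X, X.basicOpen u) :=
    ((algebraMap Γ(X, U) Γ(X, X.basicOpen u)).comp (algebraMap Γ(Z, V) Γ(X, U))).toAlgebra
  haveI : IsScalarTower Γ(Z, V) Γ(X, U) Γ(X, X.basicOpen u) := IsScalarTower.of_algebraMap_eq' rfl
  refine KRLib.isLCI_of_algEquiv (e.symm.restrictScalars Γ(Z, V)) ?_
  have h1 := hg W V hW hV hWV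
  have h2 := hf (X.basicOpen u) W (hU.basicOpen u) hW huW
  algebraize [(g.appLE V W hWV).hom, (f.appLE W (X.basicOpen u) huW).hom]
  haveI : IsScalarTower Γ(Z, V) Γ(Y, W) Γ(X, X.basicOpen u) := by
    refine IsScalarTower.of_algebraMap_eq' ?_
    change ((f ≫ g).appLE V U hUV ≫ X.presheaf.map (homOfLE (X.basicOpen_le u)).op).hom =
      (g.appLE V W hWV ≫ f.appLE W (X.basicOpen u) huW).hom
    rw [Scheme.Hom.appLE_map, Scheme.Hom.appLE_comp_appLE]
  exact KRLib.isLCI_trans h1 h2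

end Groth.Agent.S1491
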