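import Groth.Statements.S14910
import Groth.Agent.UnipKerLib.Split
import Groth.Agent.UnipKerLib.NoGa

set_option autoImplicit false
set_option backward.isDefEq.respectTransparency false
set_option maxHeartbeats 1000000
universe u
open CategoryTheory MonoidalCategory CartesianMonoidalCategory MonObj GrpObj AlgebraicGeometry
open Neron

open MonoidalCategory CartesianMonoidalCategory CategoryTheory.Limits
namespace Groth.Agent.S14910

/-- Let R be a complete discrete valuation ring with fraction field K and algebraically closed residue
field k, and N an R-group scheme which is a Néron model of its generic fibre N_K, an abelian variety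
(proper and geometrically integral over K). Assume N_K has semi-abelian reduction: no geometric
fibre of N contains a closed subgroup isomorphic to the additive group. Then N_K has split
reduction: the extension of the component group of the special fibre N_k by the identity component
splits, i.e. for every k-point x of N_k there is a k-point y of N_k lying in the connected component
of x such that, for every n, y^n = 1 if and only if x^n lies in the connected component of the
identity (y has the same order as the component of x). (The published statement covers semi-abelian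
varieties with their Néron lft-models; this row is the case of an abelian variety, where the Néron
model is of finite type.) -/
theorem result (R : Type u) [CommRing R] [IsDomain R]
    [IsDiscreteValuationRing R] [IsAdicComplete (IsLocalRing.maximalIdeal R) R] (K : Type u) [Field K] [Algebra R K]
    [IsFractionRing R K] [IsAlgClosed (IsLocalRing.ResidueField R)]
    (N : Over (Spec (CommRingCat.of R))) [GrpObj N] [IsCommMonObj N] (hN : SGA7.IsNeron R K N)
    [IsProper ((SGA7.genFib R K).obj N).hom] [GeometricallyIntegral ((SGA7.genFib R K).obj N).hom]
    (hss : SGA7.FibresUnipotentRankZero N)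
    (x : 𝟙_ (Over (Spec (CommRingCat.of (IsLocalRing.ResidueField R)))) ⟶ Red.bc (Spec.map (CommRingCat.ofHom (IsLocalRing.residue R))) N) :
    ∃ y : 𝟙_ (Over (Spec (CommRingCat.of (IsLocalRing.ResidueField R)))) ⟶ Red.bc (Spec.map (CommRingCat.ofHom (IsLocalRing.residue R))) N,
      y.left.base (IsLocalRing.closedPoint (IsLocalRing.ResidueField R)) ∈ connectedComponent (x.left.base (IsLocalRing.closedPoint (IsLocalRing.ResidueField R))) ∧
        ∀ n : ℕ, y ^ n = 1 ↔
          (x ^ n).left.base (IsLocalRing.closedPoint (IsLocalRing.ResidueField R)) ∈ connectedComponent ((η[Red.bc (Spec.map (CommRingCat.ofHom (IsLocalRing.residue R))) N]).left.base (IsLocalRing.closedPoint (IsLocalRing.ResidueField R))) := by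
  let k := IsLocalRing.ResidueField R
  let ξ := Spec.map (CommRingCat.ofHom (IsLocalRing.residue R))
  let G := Red.bc ξ N
  haveI := hN.1
  haveI := hN.2.2.1
  haveI : IsCommMonObj G := Functor.isCommMonObj_obj (F := Over.pullback ξ)
  haveI : Smooth G.hom := inferInstanceAs (Smooth (pullback.snd N.hom ξ))
  haveI : QuasiCompact G.hom := inferInstanceAs (QuasiCompact (pullback.snd N.hom ξ))
  letI : CommGroup (𝟙_ (Over (Spec (CommRingCat.of k))) ⟶ G) := Hom.commGroup
  let Z := UnipKerLib.zeroPts G
  have hmem : ∀ a : 𝟙_ (Over (Spec (CommRingCat.of k))) ⟶ G,
      a.left.base (IsLocalRing.closedPoint k) ∈ connectedComponent ((η[G]).left.base (IsLocalRing.closedPoint k)) ↔ a ∈ Z := by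
    intro a
    show AVAmpleLib.pt a ∈ connectedComponent (GrpField.unitPt G) ↔ _
    rw [GrpField.connectedComponent_unit]
    exact Iff.rfl
  have hcomp : ∀ a b : 𝟙_ (Over (Spec (CommRingCat.of k))) ⟶ G,
      b.left.base (IsLocalRing.closedPoint k) ∈ connectedComponent (a.left.base (IsLocalRing.closedPoint k)) ↔ a⁻¹ * b ∈ Z :=
    fun a b => UnipKerLib.mem_component_iff G a b
  obtain ⟨m, hm0, hm, hmd⟩ := UnipKerLib.exists_order Z (UnipKerLib.exists_pow_mem G x)
  obtain ⟨y, hy, hy'⟩ := UnipKerLib.exists_split Z hmd (UnipKerLib.exists_root_zeroPts G m hm0.ne' (Or.inr fun j hj hjc =>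
    UnipKerLib.noGa_point k N (hss (IsLocalRing.closedPoint R)) ξ
      (IsLocalRing.comap_closedPoint (S := k) (IsLocalRing.residue R)) j hj hjc) _ hm)
  exact ⟨y, (hcomp x y).2 hy, fun n => (hy' n).trans (hmem _).symm⟩

end Groth.Agent.S14910
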