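import Groth.Statements.S14911
import Groth.Agent.UnipKerLib.Split
import Groth.Agent.UnipKerLib.NoGa

set_option autoImplicit false
set_option backward.isDefEq.respectTransparency false
set_option maxHeartbeats 1000000
universe u
open CategoryTheory MonoidalCategory CartesianMonoidalCategory MonObj GrpObj AlgebraicGeometry
open Neron

open MonoidalCategory CartesianMonoidalCategory CategoryTheory.Limits
namespace Groth.Agent.S14911

/-- Let R be a complete discrete valuation ring with fraction field K and algebraically closed residue
field k of characteristic p > 0, and N an R-group scheme which is a Néron model of its generic fibre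
N_K, an abelian variety (proper and geometrically integral over K). Then the p-primary part of
N_k(k) maps onto the p-primary part of the component group of the special fibre N_k: if x is a
k-point of N_k such that some x^(p^r) lies in the connected component of the identity, then the
connected component of x contains a k-point y with y^(p^s) = 1 for some s. (The published statement
covers semi-abelian varieties with their Néron lft-models; this row is the case of an abelian
variety, where the Néron model is of finite type.) -/
theorem result (R : Type u) [CommRing R] [IsDomain R]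
    [IsDiscreteValuationRing R] [IsAdicComplete (IsLocalRing.maximalIdeal R) R] (K : Type u) [Field K] [Algebra R K]
    [IsFractionRing R K] [IsAlgClosed (IsLocalRing.ResidueField R)] (p : ℕ) [Fact p.Prime] [CharP (IsLocalRing.ResidueField R) p]
    (N : Over (Spec (CommRingCat.of R))) [GrpObj N] [IsCommMonObj N] (hN : SGA7.IsNeron R K N)
    [IsProper ((SGA7.genFib R K).obj N).hom] [GeometricallyIntegral ((SGA7.genFib R K).obj N).hom]
    (x : 𝟙_ (Over (Spec (CommRingCat.of (IsLocalRing.ResidueField R)))) ⟶ Red.bc (Spec.map (CommRingCat.ofHom (IsLocalRing.residue R))) N)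
    (r : ℕ) (hx : (x ^ (p ^ r)).left.base (IsLocalRing.closedPoint (IsLocalRing.ResidueField R)) ∈
      connectedComponent ((η[Red.bc (Spec.map (CommRingCat.ofHom (IsLocalRing.residue R))) N]).left.base
        (IsLocalRing.closedPoint (IsLocalRing.ResidueField R)))) :
    ∃ y : 𝟙_ (Over (Spec (CommRingCat.of (IsLocalRing.ResidueField R)))) ⟶ Red.bc (Spec.map (CommRingCat.ofHom (IsLocalRing.residue R))) N,
      y.left.base (IsLocalRing.closedPoint (IsLocalRing.ResidueField R)) ∈
          connectedComponent (x.left.base (IsLocalRing.closedPoint (IsLocalRing.ResidueField R))) ∧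
        ∃ s : ℕ, y ^ (p ^ s) = 1 := by
  let k := IsLocalRing.ResidueField R
  let ξ := Spec.map (CommRingCat.ofHom (IsLocalRing.residue R))
  let G := Red.bc ξ N
  haveI := hN.1
  haveI := hN.2.2.1
  haveI : IsCommMonObj G := Functor.isCommMonObj_obj (F := Over.pullback ξ)
  haveI : Smooth G.hom := inferInstanceAs (Smooth (pullback.snd N.hom ξ))
  haveI : QuasiCompact G.hom := inferInstanceAs (QuasiCompact (pullback.snd N.hom ξ))
  letI : CommGroup (𝟙_ (Over (Spec (CommRingCat.of k))) ⟶ G) := Hom.commGroup
  let Z := UnipKerLib.zeroPts G
  have hmem : ∀ a : 𝟙_ (Over (Spec (CommRingCat.of k))) ⟶ G,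
      a.left.base (IsLocalRing.closedPoint k) ∈ connectedComponent ((η[G]).left.base (IsLocalRing.closedPoint k)) ↔ a ∈ Z := by
    intro a
    show AVAmpleLib.pt a ∈ connectedComponent (GrpField.unitPt G) ↔ _
    rw [GrpField.connectedComponent_unit]
    exact Iff.rfl
  have hcomp : ∀ a b : 𝟙_ (Over (Spec (CommRingCat.of k))) ⟶ G,
      b.left.base (IsLocalRing.closedPoint k) ∈ connectedComponent (a.left.base (IsLocalRing.closedPoint k)) ↔ a⁻¹ * b ∈ Z :=
    fun a b => UnipKerLib.mem_component_iff G a b
  obtain ⟨y, hy, s, hs⟩ := UnipKerLib.exists_pPower_lift G p r x ((hmem _).1 hx)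
  exact ⟨y, (hcomp x y).2 hy, s, hs⟩

end Groth.Agent.S14911
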