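import Groth.Statements.S14912
import Groth.Agent.UnipKerLib.Split
import Groth.Agent.UnipKerLib.NoGa

set_option autoImplicit false
set_option backward.isDefEq.respectTransparency false
set_option maxHeartbeats 1000000
universe u
open CategoryTheory MonoidalCategory CartesianMonoidalCategory MonObj GrpObj AlgebraicGeometry
open Neron

open MonoidalCategory CartesianMonoidalCategory CategoryTheory.Limits
namespace Groth.Agent.S14912

/-- Let R be a complete discrete valuation ring with fraction field K and algebraically closed residue
field k of characteristic p > 0, and N an R-group scheme which is a Néron model of its generic fibre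
N_K, an abelian variety (proper and geometrically integral over K). Then N_K has split reduction —
for every k-point x of the special fibre N_k there is a k-point y in the connected component of x
such that for all n, y^n = 1 if and only if x^n lies in the connected component of the identity — if
and only if this holds for every k-point x such that some x^(p^r) lies in the connected component of
the identity (the p-primary part of the component sequence splits). (The published statement covers
semi-abelian varieties with their Néron lft-models; this row is the case of an abelian variety.) -/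
theorem result (R : Type u) [CommRing R] [IsDomain R]
    [IsDiscreteValuationRing R] [IsAdicComplete (IsLocalRing.maximalIdeal R) R] (K : Type u) [Field K] [Algebra R K]
    [IsFractionRing R K] [IsAlgClosed (IsLocalRing.ResidueField R)] (p : ℕ) [Fact p.Prime] [CharP (IsLocalRing.ResidueField R) p]
    (N : Over (Spec (CommRingCat.of R))) [GrpObj N] [IsCommMonObj N] (hN : SGA7.IsNeron R K N)
    [IsProper ((SGA7.genFib R K).obj N).hom] [GeometricallyIntegral ((SGA7.genFib R K).obj N).hom] :
    (∀ x : 𝟙_ (Over (Spec (CommRingCat.of (IsLocalRing.ResidueField R)))) ⟶ Red.bc (Spec.map (CommRingCat.ofHom (IsLocalRing.residue R))) N,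
        ∃ y : 𝟙_ (Over (Spec (CommRingCat.of (IsLocalRing.ResidueField R)))) ⟶ Red.bc (Spec.map (CommRingCat.ofHom (IsLocalRing.residue R))) N,
          y.left.base (IsLocalRing.closedPoint (IsLocalRing.ResidueField R)) ∈ connectedComponent (x.left.base (IsLocalRing.closedPoint (IsLocalRing.ResidueField R))) ∧
            ∀ n : ℕ, y ^ n = 1 ↔ (x ^ n).left.base (IsLocalRing.closedPoint (IsLocalRing.ResidueField R)) ∈ connectedComponent ((η[Red.bc (Spec.map (CommRingCat.ofHom (IsLocalRing.residue R))) N]).left.base (IsLocalRing.closedPoint (IsLocalRing.ResidueField R)))) ↔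
      ∀ x : 𝟙_ (Over (Spec (CommRingCat.of (IsLocalRing.ResidueField R)))) ⟶ Red.bc (Spec.map (CommRingCat.ofHom (IsLocalRing.residue R))) N,
        (∃ r : ℕ, (x ^ (p ^ r)).left.base (IsLocalRing.closedPoint (IsLocalRing.ResidueField R)) ∈ connectedComponent ((η[Red.bc (Spec.map (CommRingCat.ofHom (IsLocalRing.residue R))) N]).left.base (IsLocalRing.closedPoint (IsLocalRing.ResidueField R)))) →
          ∃ y : 𝟙_ (Over (Spec (CommRingCat.of (IsLocalRing.ResidueField R)))) ⟶ Red.bc (Spec.map (CommRingCat.ofHom (IsLocalRing.residue R))) N,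
          y.left.base (IsLocalRing.closedPoint (IsLocalRing.ResidueField R)) ∈ connectedComponent (x.left.base (IsLocalRing.closedPoint (IsLocalRing.ResidueField R))) ∧
            ∀ n : ℕ, y ^ n = 1 ↔ (x ^ n).left.base (IsLocalRing.closedPoint (IsLocalRing.ResidueField R)) ∈ connectedComponent ((η[Red.bc (Spec.map (CommRingCat.ofHom (IsLocalRing.residue R))) N]).left.base (IsLocalRing.closedPoint (IsLocalRing.ResidueField R))) := by
  let k := IsLocalRing.ResidueField R
  let ξ := Spec.map (CommRingCat.ofHom (IsLocalRing.residue R))
  let G := Red.bc ξ N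
  haveI := hN.1
  haveI := hN.2.2.1
  haveI : IsCommMonObj G := Functor.isCommMonObj_obj (F := Over.pullback ξ)
  haveI : Smooth G.hom := inferInstanceAs (Smooth (pullback.snd N.hom ξ))
  haveI : QuasiCompact G.hom := inferInstanceAs (QuasiCompact (pullback.snd N.hom ξ))
  letI : CommGroup (𝟙_ (Over (Spec (CommRingCat.of k))) ⟶ G) := Hom.commGroup
  let Z := UnipKerLib.zeroPts G
  have hmem : ∀ a : 𝟙_ (Over (Spec (CommRingCat.of k))) ⟶ G,
      a.left.base (IsLocalRing.closedPoint k) ∈ connectedComponent ((η[G]).left.base (IsLocalRing.closedPoint k)) ↔ a ∈ Z := by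
    intro a
    show AVAmpleLib.pt a ∈ connectedComponent (GrpField.unitPt G) ↔ _
    rw [GrpField.connectedComponent_unit]
    exact Iff.rfl
  have hcomp : ∀ a b : 𝟙_ (Over (Spec (CommRingCat.of k))) ⟶ G,
      b.left.base (IsLocalRing.closedPoint k) ∈ connectedComponent (a.left.base (IsLocalRing.closedPoint k)) ↔ a⁻¹ * b ∈ Z :=
    fun a b => UnipKerLib.mem_component_iff G a b
  refine ⟨fun h x _ => h x, fun h x => ?_⟩
  have hp : p.Prime := Fact.out
  obtain ⟨y, hy, hy'⟩ := UnipKerLib.exists_split_of_pPart Z p hp (UnipKerLib.exists_pow_mem G)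
    (fun m hm z hz => UnipKerLib.exists_root_zeroPts G m (fun h0 => hm (h0 ▸ dvd_zero p))
      (Or.inl fun h0 => hm ((CharP.cast_eq_zero_iff k p m).1 h0)) z hz)
    (fun x' ⟨r, hr⟩ => by
      obtain ⟨y, hy, hy'⟩ := h x' ⟨r, (hmem _).2 hr⟩
      exact ⟨y, (hcomp x' y).1 hy, fun n => (hy' n).trans (hmem _)⟩) x
  exact ⟨y, (hcomp x y).2 hy, fun n => (hy' n).trans (hmem _).symm⟩

end Groth.Agent.S14912
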