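import Groth.Statements.S1492
import Groth.Agent.KRLib.Descent

set_option autoImplicit false
universe u
attribute [local instance] HasDerivedCategory.standard
open FlatMor

namespace Groth.Agent.S1492

open AlgebraicGeometry CategoryTheory Limits in
/-- Let S' → S be flat, surjective and quasi-compact and f' : X' → S' the base change of f : X → S. If
f' is a local complete intersection morphism (affine-locally: local complete intersection ring maps)
then so is f. -/
theorem result {X S X' S' : Scheme.{u}} (f : X ⟶ S) (f' : X' ⟶ S') (g' : X' ⟶ X) (g : S' ⟶ S)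
    [Flat g] [Surjective g] [QuasiCompact g] (hc : IsPullback g' f' f g)
    (hf' : (∀ (U : X'.Opens) (V : S'.Opens) (hU : IsAffineOpen U) (hV : IsAffineOpen V) (hUV : U ≤ f' ⁻¹ᵁ V),
        letI := (f'.appLE V U hUV).hom.toAlgebra
        LCI.IsLCI Γ(S', V) Γ(X', U))) :
    (∀ (U : X.Opens) (V : S.Opens) (hU : IsAffineOpen U) (hV : IsAffineOpen V) (hUV : U ≤ f ⁻¹ᵁ V),
        letI := (f.appLE V U hUV).hom.toAlgebra
        LCI.IsLCI Γ(S, V) Γ(X, U)) := by
  intro U V hU hV hUV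
  obtain ⟨t, htfin, htcov⟩ := (isCompact_iff_finite_and_eq_biUnion_affineOpens (U := g ⁻¹ᵁ V)).mp
    (QuasiCompact.isCompact_preimage (f := g) V V.isOpen hV.isCompact)
  have : Finite t := htfin
  have hWV : ∀ W : t, W.1.1 ≤ g ⁻¹ᵁ V := fun W => by
    rw [htcov]; exact le_iSup₂_of_le W.1 W.2 le_rfl
  algebraize [(f.appLE V U hUV).hom]
  letI : ∀ W : t, Algebra Γ(S, V) Γ(S', W.1.1) := fun W => (g.appLE V W.1.1 (hWV W)).hom.toAlgebra
  haveI : ∀ W : t, Module.Flat Γ(S, V) Γ(S', W.1.1) := fun W => g.flat_appLE hV W.1.2 (hWV W)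
  refine KRLib.isLCI_of_jointly (fun W : t => Γ(S', W.1.1)) ?_ ?_
  · intro p
    obtain ⟨s, hs⟩ := ‹Surjective g›.surj (hV.fromSpec p)
    have hsV : g s ∈ V := by
      rw [hs, ← SetLike.mem_coe, ← hV.range_fromSpec]
      exact ⟨p, rfl⟩
    have hsW : s ∈ g ⁻¹ᵁ V := hsV
    rw [htcov] at hsW
    simp only [TopologicalSpace.Opens.mem_iSup] at hsW
    obtain ⟨W, hWt, hsW⟩ := hsW
    obtain ⟨q, hq⟩ : ∃ q, W.2.fromSpec q = s := by
      rw [← Set.mem_range, W.2.range_fromSpec]; exact hsW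
    refine ⟨⟨W, hWt⟩, q, hV.fromSpec.isOpenEmbedding.injective ?_⟩
    have e := IsAffineOpen.SpecMap_appLE_fromSpec g hV W.2 (hWV ⟨W, hWt⟩)
    have h2 := congrArg (fun φ : Spec Γ(S', W.1) ⟶ S => φ q) e
    simp only [Scheme.Hom.comp_apply] at h2
    rw [hq, hs] at h2
    exact h2
  · intro W
    let UY : X'.Opens := g' ⁻¹ᵁ U ⊓ f' ⁻¹ᵁ W.1.1
    have e1 : UY ≤ g' ⁻¹ᵁ U := inf_le_left
    have e2 : UY ≤ f' ⁻¹ᵁ W.1.1 := inf_le_right
    have haff : IsAffineOpen UY := by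
      have : IsAffine _ := hU
      have : IsAffine _ := hV
      have : IsAffine _ := W.1.2
      exact .of_isIso (Scheme.Hom.isPullback_resLE hc (hWV W) hUV (rfl : UY = _)).isoPullback.hom
    have hpo := (isIso_pushoutSection_iff hc (hWV W) hUV (rfl : UY = _)).mp
      (isIso_pushoutSection_of_isAffineOpen hc (hWV W) hUV rfl hV W.1.2 hU)
    have h1 := hf' UY W.1.1 haff W.1.2 e2
    algebraize [(g'.appLE U UY e1).hom, (f'.appLE W.1.1 UY e2).hom,
      ((g'.appLE U UY e1).hom.comp (f.appLE V U hUV).hom)]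
    haveI : IsScalarTower Γ(S, V) Γ(S', W.1.1) Γ(X', UY) := by
      refine IsScalarTower.of_algebraMap_eq' ?_
      exact congrArg CommRingCat.Hom.hom hpo.w
    haveI : Algebra.IsPushout Γ(S, V) Γ(X, U) Γ(S', W.1.1) Γ(X', UY) :=
      CommRingCat.isPushout_iff_isPushout.mp hpo
    haveI : Algebra.IsPushout Γ(S, V) Γ(S', W.1.1) Γ(X, U) Γ(X', UY) := ‹Algebra.IsPushout _ Γ(X, U) _ _›.symm
    exact KRLib.isLCI_of_algEquiv
      (Algebra.IsPushout.equiv Γ(S, V) Γ(S', W.1.1) Γ(X, U) Γ(X', UY)).symm h1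

end Groth.Agent.S1492
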