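import Groth.Statements.S14921
import Groth.Agent.PerfectionLib.Mile

set_option autoImplicit false
universe u
open CategoryTheory AlgebraicGeometry
open PerfSch

namespace Groth.Agent.S14921

/-- Let p be a prime and let X, Y, X', Y' be schemes of characteristic p (p = 0 in the structure sheaf).
Let π_X : X' ⟶ X and π_Y : Y' ⟶ Y be perfections: X' is perfect (its absolute Frobenius is an
isomorphism) and every morphism from a perfect scheme of characteristic p to X factors uniquely
through π_X, and likewise for π_Y. Let f : X ⟶ Y be a morphism and f' : X' ⟶ Y' the induced morphism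
of perfections, the one with f' ≫ π_Y = π_X ≫ f. If f is an immersion (a closed immersion into an
open subscheme), then so is f'. -/
theorem result (p : ℕ) [Fact p.Prime] {X Y XP YP : Scheme.{u}}
    [FrobSch.IsCharP X p] [FrobSch.IsCharP Y p] [FrobSch.IsCharP XP p] [FrobSch.IsCharP YP p]
    (πX : XP ⟶ X) (πY : YP ⟶ Y) (hX : FrobSch.IsPerfection πX p) (hY : FrobSch.IsPerfection πY p)
    (f : X ⟶ Y) (fP : XP ⟶ YP) (w : fP ≫ πY = πX ≫ f)
    [AlgebraicGeometry.IsImmersion f] : AlgebraicGeometry.IsImmersion fP := by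
  let U := f.coborderRange
  have : FrobSch.IsCharP (U : Scheme.{u}) p := FrobSch.IsCharP.of_hom U.ι p
  have : FrobSch.IsCharP (πY ⁻¹ᵁ U : Scheme.{u}) p := FrobSch.IsCharP.of_hom (πY ⁻¹ᵁ U).ι p
  have hr : Set.range fP ⊆ Set.range (πY ⁻¹ᵁ U).ι := by
    rintro _ ⟨x, rfl⟩
    rw [Scheme.Opens.range_ι]
    change πY (fP x) ∈ U
    rw [← Scheme.Hom.comp_apply, w, Scheme.Hom.comp_apply, ← f.liftCoborder_ι, Scheme.Hom.comp_apply]
    exact (f.liftCoborder (πX x)).2
  let l := IsOpenImmersion.lift (πY ⁻¹ᵁ U).ι fP hr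
  have hl : l ≫ (πY ⁻¹ᵁ U).ι = fP := IsOpenImmersion.lift_fac _ _ _
  have w' : l ≫ (πY ∣_ U) = πX ≫ f.liftCoborder := by
    rw [← cancel_mono U.ι, Category.assoc, morphismRestrict_ι, ← Category.assoc, hl, w, Category.assoc,
      f.liftCoborder_ι]
  have : IsClosedImmersion l := Groth.Agent.PerfectionLib.isClosedImmersion_perf hX
    (Groth.Agent.PerfectionLib.isPerfection_restrict hY U) w'
  rw [← hl]
  infer_instance

end Groth.Agent.S14921
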