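import Groth.Statements.S14928
import Groth.Agent.PerfectionLib.Mile
import Groth.Agent.NoethApproxLib.Main
import Groth.Agent.S2151

set_option autoImplicit false
universe u
open CategoryTheory CategoryTheory.Limits AlgebraicGeometry
open PerfSch

namespace Groth.Agent.S14928

noncomputable section

open NoethApproxLib Groth.Agent.PerfectionLib Opposite

variable (p : ℕ) [Fact p.Prime] {X : Scheme.{u}}

abbrev Fp : Scheme.{u} := Spec (CommRingCat.of (ULift.{u} (ZMod p)))

def fpToZ : Fp.{u} p ⟶ Spec (CommRingCat.of (ULift.{u} ℤ)) :=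
  Spec.map (CommRingCat.ofHom ((ULift.ringEquiv.symm.toRingHom.comp (Int.castRingHom (ZMod p))).comp
    ULift.ringEquiv.toRingHom))

instance : IsClosedImmersion (fpToZ.{u} p) :=
  IsClosedImmersion.spec_of_surjective _ fun ⟨x⟩ => by
    obtain ⟨m, hm⟩ := ZMod.ringHom_surjective (Int.castRingHom (ZMod p)) x
    exact ⟨⟨m⟩, congrArg ULift.up hm⟩

theorem exists_toFp (X : Scheme.{u}) [FrobSch.IsCharP X p] : Nonempty (X ⟶ Fp.{u} p) := by
  let φ : ULift.{u} (ZMod p) →+* Γ(X, ⊤) :=
    ((RingHom.liftOfRightInverse (Int.castRingHom (ZMod p)) _ (ZMod.intCast_rightInverse)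
        ⟨Int.castRingHom Γ(X, ⊤), by
          intro x hx
          rw [RingHom.mem_ker, eq_intCast] at hx ⊢
          obtain ⟨c, rfl⟩ := (ZMod.intCast_zmod_eq_zero_iff_dvd x p).mp hx
          rw [Int.cast_mul, Int.cast_natCast, FrobSch.natCast_eq_zero_app X p, zero_mul]⟩)).comp
      ULift.ringEquiv.toRingHom
  exact ⟨X.toSpecΓ ≫ Spec.map (CommRingCat.ofHom φ)⟩

variable (A : Approx X)

abbrev Z (i : A.Jᵒᵖ) : Scheme.{u} := pullback (specULiftZIsTerminal.from (A.D.obj i)) (fpToZ.{u} p)

instance (i : A.Jᵒᵖ) : FrobSch.IsCharP (Z p A i) p := FrobSch.IsCharP.of_hom (pullback.snd _ _) p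

abbrev W (i : A.Jᵒᵖ) : Scheme.{u} := Perf p (Z p A i)

def w (i : A.Jᵒᵖ) : W p A i ⟶ A.D.obj i := perfπ p (Z p A i) ≫ pullback.fst _ _

theorem w_ext {T : Scheme.{u}} [FrobSch.IsCharP T p] (hT : FrobSch.IsPerfect T p) {i : A.Jᵒᵖ}
    {a b : T ⟶ W p A i} (h : a ≫ w p A i = b ≫ w p A i) : a = b := by
  apply ((isPerfection_perfπ p (Z p A i)).2 T hT).1
  change a ≫ perfπ p _ = b ≫ perfπ p _
  rw [← cancel_mono (pullback.fst (specULiftZIsTerminal.from (A.D.obj i)) (fpToZ.{u} p)), Category.assoc,
    Category.assoc]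
  exact h

theorem exists_toW {T : Scheme.{u}} [FrobSch.IsCharP T p] (hT : FrobSch.IsPerfect T p) {i : A.Jᵒᵖ}
    (g : T ⟶ A.D.obj i) : ∃ a : T ⟶ W p A i, a ≫ w p A i = g := by
  obtain ⟨a, ha⟩ := ((isPerfection_perfπ p (Z p A i)).2 T hT).2
    (pullback.lift g (exists_toFp p T).some (specULiftZIsTerminal.hom_ext _ _))
  refine ⟨a, ?_⟩
  change a ≫ perfπ p _ ≫ _ = _
  rw [← Category.assoc, show a ≫ perfπ p _ = _ from ha, pullback.lift_fst]

@[reducible] def PD : A.Jᵒᵖ ⥤ Scheme.{u} where
  obj i := W p A i
  map {i j} a := (exists_toW p A (isPerfect_Perf p _) (w p A i ≫ A.D.map a)).choose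
  map_id i := w_ext p A (isPerfect_Perf p _) (by
    rw [(exists_toW p A (isPerfect_Perf p _) (w p A i ≫ A.D.map (𝟙 i))).choose_spec,
      A.D.map_id, Category.comp_id, Category.id_comp])
  map_comp {i j k} a b := w_ext p A (isPerfect_Perf p _) (by
    rw [(exists_toW p A (isPerfect_Perf p _) (w p A i ≫ A.D.map (a ≫ b))).choose_spec, Category.assoc,
      (exists_toW p A (isPerfect_Perf p _) (w p A j ≫ A.D.map b)).choose_spec, A.D.map_comp, ← Category.assoc,
      ← Category.assoc, (exists_toW p A (isPerfect_Perf p _) (w p A i ≫ A.D.map a)).choose_spec])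

theorem PD_w {i j : A.Jᵒᵖ} (a : i ⟶ j) : (PD p A).map a ≫ w p A j = w p A i ≫ A.D.map a :=
  (exists_toW p A (isPerfect_Perf p _) (w p A i ≫ A.D.map a)).choose_spec

instance isAffineHom_w (i : A.Jᵒᵖ) : IsAffineHom (w p A i) :=
  have := isAffineHom_of_univHomeo (univHomeo_perfπ p (Z p A i))
  inferInstanceAs (IsAffineHom (perfπ p (Z p A i) ≫ pullback.fst _ _))

instance isAffineHom_PD {i j : A.Jᵒᵖ} (a : i ⟶ j) : IsAffineHom ((PD p A).map a) :=
  have : IsAffineHom ((PD p A).map a ≫ w p A j) := by rw [PD_w]; infer_instance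
  IsAffineHom.of_comp _ (w p A j)

instance (i : A.Jᵒᵖ) : FrobSch.IsCharP ((PD p A).obj i) p := inferInstanceAs (FrobSch.IsCharP (W p A i) p)

instance (i : A.Jᵒᵖ) : CompactSpace ((PD p A).obj i) :=
  QuasiCompact.compactSpace_of_compactSpace (w p A i)

instance (i : A.Jᵒᵖ) : QuasiSeparatedSpace ((PD p A).obj i) :=
  quasiSeparatedSpace_of_quasiSeparated (w p A i)


end


/-- Let p be a prime and X a quasi-compact quasi-separated perfect scheme of characteristic p (absolute
Frobenius an isomorphism). Assume X is perfectly finitely presented over the prime field in the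
sense of the compactness condition: for every small cofiltered diagram (Z_i) of quasi-compact
quasi-separated perfect schemes of characteristic p with affine transition morphisms, and every
limit cone over it whose vertex Z is a quasi-compact quasi-separated perfect scheme of
characteristic p, the natural map colim_i Hom(Z_i, X) → Hom(Z, X) is bijective — every morphism Z ⟶
X factors through the projection to some Z_i, and two morphisms Z_i ⟶ X with the same composite Z ⟶
X have the same composite Z_k ⟶ X for some transition morphism Z_k ⟶ Z_i. Then X admits a model: a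
scheme X_0 together with a morphism X_0 ⟶ Spec F_p which is locally of finite presentation, X_0
quasi-compact and quasi-separated, and a morphism π : X ⟶ X_0 which is a perfection (every morphism
from a perfect scheme of characteristic p to X_0 factors uniquely through π). (The published
statement is for a perfectly finitely presented morphism X ⟶ Y of quasi-compact quasi-separated
perfect schemes and produces a morphism of finite presentation X_0 ⟶ Y with perfection X ⟶ Y; this
row is the case where the base is the spectrum of the prime field, with perfect finite presentation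
taken in its compactness form.) -/
theorem result (p : ℕ) [Fact p.Prime] (X : Scheme.{u})
    [FrobSch.IsCharP X p] [CompactSpace X] [QuasiSeparatedSpace X] [FrobSch.IsPerfect X p]
    (hc : ∀ (J : Type u) [SmallCategory J] [IsCofiltered J] (F : J ⥤ Scheme.{u})
      [∀ j, FrobSch.IsCharP (F.obj j) p] (c : Cone F) [FrobSch.IsCharP c.pt p], IsLimit c →
      (∀ ⦃i j : J⦄ (a : i ⟶ j), IsAffineHom (F.map a)) →
      (∀ j, FrobSch.IsPerfect (F.obj j) p ∧ CompactSpace (F.obj j) ∧ QuasiSeparatedSpace (F.obj j)) →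
      FrobSch.IsPerfect c.pt p → CompactSpace c.pt → QuasiSeparatedSpace c.pt →
      (∀ g : c.pt ⟶ X, ∃ (j : J) (gj : F.obj j ⟶ X), c.π.app j ≫ gj = g) ∧
      (∀ (j : J) (g g' : F.obj j ⟶ X), c.π.app j ≫ g = c.π.app j ≫ g' →
        ∃ (k : J) (a : k ⟶ j), F.map a ≫ g = F.map a ≫ g')) :
    ∃ (X0 : Scheme.{u}) (s : X0 ⟶ Spec (CommRingCat.of (ULift.{u} (ZMod p)))) (_ : LocallyOfFinitePresentation s)
      (_ : CompactSpace X0) (_ : QuasiSeparatedSpace X0) (π : X ⟶ X0), FrobSch.IsPerfection π p := by
  obtain ⟨A⟩ := NoethApproxLib.exists_approx X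
  obtain ⟨c, hc', -⟩ := @Groth.Agent.S2151.result _ _ _ (PD p A) (fun i j a => isAffineHom_PD p A a)
  obtain ⟨i₀⟩ : Nonempty A.Jᵒᵖ := ⟨Opposite.op (Classical.arbitrary A.J)⟩
  have hcL : FrobSch.IsCharP c.pt p := FrobSch.IsCharP.of_hom (c.π.app i₀) p
  have hperf : FrobSch.IsPerfect c.pt p := by
    have hi : ∀ i, IsIso (FrobSch.frob ((PD p A).obj i) p) := fun i =>
      Groth.Agent.PerfectionLib.isPerfect_Perf p (Z p A i)
    let s : Cone (PD p A) :=
      { pt := c.pt
        π := { app := fun i => c.π.app i ≫ (asIso (FrobSch.frob ((PD p A).obj i) p)).inv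
               naturality := fun i j a => by
                 change 𝟙 _ ≫ _ = _
                 rw [Category.id_comp, ← cancel_mono (FrobSch.frob ((PD p A).obj j) p)]
                 simp only [Category.assoc, asIso_inv, IsIso.inv_hom_id, Category.comp_id]
                 rw [← FrobSch.frob_comp p ((PD p A).map a), IsIso.inv_hom_id_assoc]
                 exact (c.w a).symm } }
    refine ⟨hc'.lift s, hc'.hom_ext fun i => ?_, hc'.hom_ext fun i => ?_⟩
    · rw [Category.assoc, hc'.fac, Category.id_comp]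
      change FrobSch.frob c.pt p ≫ c.π.app i ≫ _ = _
      rw [← Category.assoc, @FrobSch.frob_comp c.pt p _ hcL ((PD p A).obj i) _ (c.π.app i), Category.assoc, asIso_inv,
        IsIso.hom_inv_id, Category.comp_id]
    · rw [Category.assoc, @FrobSch.frob_comp c.pt p _ hcL ((PD p A).obj i) _ (c.π.app i), hc'.fac_assoc, Category.id_comp]
      change (c.π.app i ≫ _) ≫ _ = _
      rw [Category.assoc, asIso_inv, IsIso.inv_hom_id, Category.comp_id]
  have hX : FrobSch.IsPerfect X p := inferInstance
  choose ψ hψ using fun i => exists_toW p A hX (A.π.app i)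
  let sX : Cone (PD p A) :=
    { pt := X
      π := { app := ψ
             naturality := fun i j a => w_ext p A hX (by
               change (𝟙 _ ≫ ψ j) ≫ _ = (ψ i ≫ (PD p A).map a) ≫ _
               rw [Category.id_comp, hψ, Category.assoc, PD_w, ← Category.assoc, hψ]
               exact (A.cone.w a).symm) } }
  let sL : Cone A.D :=
    { pt := c.pt
      π := { app := fun i => c.π.app i ≫ w p A i
             naturality := fun i j a => by
               change 𝟙 _ ≫ _ = _
               rw [Category.id_comp, Category.assoc, ← PD_w, ← Category.assoc]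
               exact congrArg (· ≫ w p A j) (c.w a).symm } }
  let φ : c.pt ⟶ X := A.isLimit.lift sL
  have hφ : ∀ i, φ ≫ A.π.app i = c.π.app i ≫ w p A i := A.isLimit.fac sL
  have h1 : hc'.lift sX ≫ φ = 𝟙 X := A.isLimit.hom_ext fun i => by
    change (_ ≫ φ) ≫ A.π.app i = 𝟙 X ≫ A.π.app i
    rw [Category.assoc, hφ, hc'.fac_assoc, Category.id_comp]
    exact hψ i
  have h2 : φ ≫ hc'.lift sX = 𝟙 c.pt := hc'.hom_ext fun i => w_ext p A hperf (by
    rw [Category.assoc φ, hc'.fac, Category.id_comp, Category.assoc]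
    change φ ≫ ψ i ≫ _ = _
    rw [hψ, hφ])
  have : IsIso φ := ⟨hc'.lift sX, h2, h1⟩
  have : CompactSpace c.pt := (TopCat.homeoOfIso (Scheme.forgetToTop.mapIso (asIso φ))).symm.compactSpace
  have : QuasiSeparatedSpace c.pt := quasiSeparatedSpace_of_quasiSeparated φ
  obtain ⟨i, g, hg⟩ := (hc A.Jᵒᵖ (PD p A) c hc' (fun i j a => isAffineHom_PD p A a)
    (fun i => ⟨Groth.Agent.PerfectionLib.isPerfect_Perf p _, inferInstance, inferInstance⟩) hperf inferInstance
    inferInstance).1 φ
  have hsec : ψ i ≫ g = 𝟙 X := by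
    rw [← h1, ← hg, hc'.fac_assoc]
  have : IsImmersion (ψ i ≫ g) := by rw [hsec]; infer_instance
  have : IsImmersion (ψ i) := MorphismProperty.of_postcomp (W := @IsImmersion) (W' := ⊤) _ g trivial ‹_›
  let U' := (ψ i).coborderRange
  obtain ⟨hint, hinj, hsurj⟩ := (Groth.Agent.S0415.result _).1 (Groth.Agent.PerfectionLib.univHomeo_perfπ p (Z p A i))
  let π₀ := Groth.Agent.PerfectionLib.perfπ p (Z p A i)
  obtain ⟨U, hU⟩ : ∃ U : (Z p A i).Opens, π₀ ⁻¹ᵁ U = U' :=
    ⟨⟨(π₀ '' (U' : Set _)ᶜ)ᶜ, (π₀.isClosedMap _ U'.2.isClosed_compl).isOpen_compl⟩, by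
      ext x
      simp [π₀.injective.mem_set_image]⟩
  have hcl : IsClosedImmersion ((ψ i).liftCoborder ≫
      (W p A i).homOfLE hU.ge) := by
    have : IsIso ((W p A i).homOfLE hU.ge) := by
      refine ⟨(W p A i).homOfLE hU.le, ?_, ?_⟩ <;> simp
    infer_instance
  let l : X ⟶ U := ((ψ i).liftCoborder ≫ (W p A i).homOfLE hU.ge) ≫ π₀ ∣_ U
  have : IsIntegralHom (π₀ ∣_ U) :=
    MorphismProperty.of_isPullback (P := @IsIntegralHom) (isPullback_morphismRestrict π₀ U).flip hint
  have : UniversallyInjective (π₀ ∣_ U) :=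
    MorphismProperty.of_isPullback (P := @UniversallyInjective) (isPullback_morphismRestrict π₀ U).flip hinj
  have : IsIntegralHom l := inferInstance
  have hl : UniversallyInjective l := MorphismProperty.comp_mem @UniversallyInjective _ _ inferInstance ‹_›
  have : IsIntegralHom (l.toImage ≫ l.imageι) := by rw [Scheme.Hom.toImage_imageι]; infer_instance
  have : IsIntegralHom l.toImage :=
    MorphismProperty.of_postcomp (W := @IsIntegralHom) (W' := @IsSeparated) _ l.imageι inferInstance ‹_›
  have : UniversallyInjective l.toImage := by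
    have h12' : UniversallyInjective l.toImage ↔ ∀ (K : Type u) [Field K], Function.Injective fun g : Spec (.of K) ⟶ _ => g ≫ l.toImage :=
      (tfae_universallyInjective l.toImage).out 0 1
    refine h12'.mpr ?_
    intro K _ a b hab
    have h12 : UniversallyInjective l ↔ ∀ (K : Type u) [Field K], Function.Injective fun g : Spec (.of K) ⟶ _ => g ≫ l :=
      (tfae_universallyInjective l).out 0 1
    refine h12.mp hl K ?_
    change a ≫ l = b ≫ l
    rw [← Scheme.Hom.toImage_imageι l, ← Category.assoc, ← Category.assoc]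
    exact congrArg (· ≫ l.imageι) hab
  have : Surjective l.toImage := ⟨Set.range_eq_univ.mp
    (l.toImage.isClosedMap.isClosed_range.closure_eq.symm.trans l.toImage.denseRange.closure_range)⟩
  let s : l.image ⟶ Spec (CommRingCat.of (ULift.{u} (ZMod p))) := l.imageι ≫ U.ι ≫ pullback.snd _ _
  have : FrobSch.IsCharP l.image p := FrobSch.IsCharP.of_hom (l.imageι ≫ U.ι) p
  have : LocallyOfFiniteType (pullback.snd (specULiftZIsTerminal.from (A.D.obj i)) (fpToZ.{u} p)) :=
    MorphismProperty.pullback_snd _ _ (A.lft i)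
  have : IsNoetherianRing (ULift.{u} (ZMod p)) := isNoetherianRing_of_ringEquiv (ZMod p) ULift.ringEquiv.symm
  have : IsLocallyNoetherian (Spec (CommRingCat.of (ULift.{u} (ZMod p)))) := isLocallyNoetherian_Spec.mpr inferInstance
  have hs : LocallyOfFiniteType s := inferInstance
  have : IsLocallyNoetherian l.image := LocallyOfFiniteType.isLocallyNoetherian s
  refine ⟨l.image, s, LocallyOfFinitePresentation.iff_locallyOfFiniteType.mpr hs, l.toImage.surjective.compactSpace l.toImage.continuous, inferInstance, l.toImage,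
    Groth.Agent.PerfectionLib.isPerfection_of_univHomeo hX _ ((Groth.Agent.S0415.result _).2 ⟨inferInstance, inferInstance, inferInstance⟩)⟩

end Groth.Agent.S14928
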