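import Groth.Statements.S14932
import Groth.Agent.CurveFFLib.GenDiff
import Groth.Agent.CurveFFLib.TwistFF
import Groth.Agent.S2468

set_option autoImplicit false
universe u
open CategoryTheory CategoryTheory.Limits AlgebraicGeometry
open Variety

namespace Groth.Agent.S14932

open IntermediateField

/-- `[K : k(K^p)] = p ^ d` when the differentials have a basis of `d` exact elements. -/
theorem finrank_pow {k K : Type u} [Field k] [Field K] [Algebra k K] (p : ℕ) [Fact p.Prime] [CharP K p]
    (d : ℕ) (x : ULift.{u} (Fin d) → K) (b : Module.Basis (ULift.{u} (Fin d)) K (Ω[K⁄k]))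
    (hb : ∀ i, b i = KaehlerDifferential.D k K (x i)) :
    Module.finrank (adjoin k (Set.range fun z : K => z ^ p ^ 1)) K = p ^ d := by
  classical
  obtain ⟨hind, hgen⟩ : EGA41.IsPBasis p k x := (Groth.Agent.S2468.result p x).2.2.mpr ⟨b, hb⟩
  let A := EGA41.pPowerSubalgebra p k K
  let L := adjoin k (Set.range fun z : K => z ^ p ^ 1)
  have hinv : ∀ z ∈ A, z⁻¹ ∈ A := fun z hz => by
    rcases eq_or_ne z 0 with rfl | h0
    · simp
    have h1 : z⁻¹ = z ^ (p - 1) * (z⁻¹) ^ p := by
      obtain ⟨q, hq⟩ : ∃ q, p = q + 1 := ⟨p - 1, by have := (Fact.out : p.Prime).pos; omega⟩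
      rw [hq, Nat.add_sub_cancel, pow_succ' z⁻¹, inv_pow]
      field_simp
    rw [h1]
    exact mul_mem (pow_mem hz _) (Algebra.subset_adjoin ⟨z⁻¹, rfl⟩)
  have hAL : ∀ z : K, z ∈ L ↔ z ∈ A := by
    refine fun z => ⟨fun hz => ?_, fun hz => ?_⟩
    · have hle : L ≤ A.toIntermediateField hinv := adjoin_le_iff.mpr (by
        rintro _ ⟨y, rfl⟩
        exact Algebra.subset_adjoin ⟨y, by simp only [pow_one]⟩)
      exact hle hz
    · have hle : A ≤ L.toSubalgebra := Algebra.adjoin_le (by
        rintro _ ⟨y, rfl⟩
        exact subset_adjoin _ _ ⟨y, by simp only [pow_one]⟩)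
      exact hle hz
  let φ : L ≃+* A :=
    { toFun := fun z => ⟨z.1, (hAL _).mp z.2⟩
      invFun := fun z => ⟨z.1, (hAL _).mpr z.2⟩
      left_inv := fun _ => rfl
      right_inv := fun _ => rfl
      map_mul' := fun _ _ => rfl
      map_add' := fun _ _ => rfl }
  rw [Algebra.finrank_eq_of_equiv_equiv φ (RingEquiv.refl K) (by ext; rfl)]
  let E : {e : ULift.{u} (Fin d) →₀ ℕ // ∀ i, e i < p} ≃ (ULift.{u} (Fin d) → Fin p) :=
    { toFun := fun e i => ⟨e.1 i, e.2 i⟩
      invFun := fun g => ⟨Finsupp.equivFunOnFinite.symm fun i => (g i : ℕ), fun i => (g i).2⟩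
      left_inv := fun e => Subtype.ext (Finsupp.ext fun i => rfl)
      right_inv := fun g => funext fun i => Fin.ext rfl }
  letI : Fintype {e : ULift.{u} (Fin d) →₀ ℕ // ∀ i, e i < p} := Fintype.ofEquiv _ E.symm
  rw [Module.finrank_eq_card_basis (Module.Basis.mk hind (hgen ▸ le_rfl)), Fintype.card_congr E]
  simp

/-- Let k be a field of characteristic p > 0 and X a variety over k (an integral scheme, separated and
of finite type over k) which is geometrically reduced over k, of dimension d. Then the Frobenius
twist X^(p) = X ×_{Spec k, F_k} Spec k, the base change of X along the absolute Frobenius of Spec k,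
is an integral scheme, and the relative Frobenius F_{X/k} : X → X^(p) has degree p^d: the residue
field of the generic point of X is an extension of degree p^d of the residue field of its image in
X^(p). (The published item also says that X^(p) is separated and of finite type over k and that
F_{X/k} is finite and dominant; these hold for every base change of a separated morphism of finite
type, respectively for the relative Frobenius of every scheme locally of finite type over a base of
characteristic p, and are not restated. It also states the equivalence of: X^(p) reduced, X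
geometrically reduced, X has a nonempty open smooth over k; that equivalence is not part of this
row.) -/
theorem result (k : Type u) [Field k]
    (p : ℕ) [Fact p.Prime] [CharP k p] (X : Scheme.{u}) [X.Over (Spec (CommRingCat.of k))] [IsIntegral X]
    [IsSeparated (X ↘ (Spec (CommRingCat.of k)))] [LocallyOfFiniteType (X ↘ (Spec (CommRingCat.of k)))] [QuasiCompact (X ↘ (Spec (CommRingCat.of k)))]
    [GeometricallyReduced (X ↘ (Spec (CommRingCat.of k)))] (d : ℕ) (hd : topologicalKrullDim X = d) :
    IsIntegral (FrobSch.frobTwist (X ↘ (Spec (CommRingCat.of k))) p) ∧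
      (FrobSch.relFrob (X ↘ (Spec (CommRingCat.of k))) p).residueDegree (genericPoint X) = p ^ d := by
  classical
  let q := X ↘ Spec (CommRingCat.of k)
  haveI : ExpChar k p := ExpChar.prime Fact.out
  have hfr : FrobSch.frob (Spec (CommRingCat.of k)) p = Spec.map (CommRingCat.ofHom (iterateFrobenius k p 1)) := by
    rw [← CurveFFLib.frobIter_spec, FrobSch.frobIter_succ, FrobSch.frobIter_zero, Category.comp_id]
  let ε : FrobSch.frobTwist q p ≅ CurveFFLib.twist k p X 1 := pullback.congrHom rfl hfr
  haveI := CurveFFLib.irreducibleSpace_twist (k := k) (X := X) p 1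
  haveI : IsReduced (CurveFFLib.twist k p X 1) :=
    GeometricallyReduced.geometrically_isReduced _ _ _ (IsPullback.of_hasPullback _ _)
  haveI : IsIntegral (CurveFFLib.twist k p X 1) := isIntegral_of_irreducibleSpace_of_isReduced _
  haveI : IsReduced (FrobSch.frobTwist q p) := isReduced_of_isOpenImmersion ε.hom
  haveI : IrreducibleSpace (FrobSch.frobTwist q p) := by
    let h := Scheme.homeoOfIso ε.symm
    rw [irreducibleSpace_def]
    have h' := (IrreducibleSpace.isIrreducible_univ _).image h h.continuous.continuousOn
    rwa [Set.image_univ, h.surjective.range_eq] at h'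
  haveI : IsIntegral (FrobSch.frobTwist q p) := isIntegral_of_irreducibleSpace_of_isReduced _
  refine ⟨inferInstance, ?_⟩
  haveI : FrobSch.IsCharP X p := FrobSch.IsCharP.of_hom q p
  let Φ : X ⟶ CurveFFLib.twist k p X 1 := FrobSch.relFrob q p ≫ ε.hom
  have h1 : Φ ≫ pullback.fst _ _ = FrobSch.frob X p := by
    simp only [Φ, ε, pullback.congrHom_hom, pullback.map, Category.assoc]
    erw [pullback.lift_fst, Category.comp_id]
    exact FrobSch.relFrob_fst q p
  have h2 : Φ ≫ CurveFFLib.twistHom k p X 1 = q := by
    simp only [Φ, ε, pullback.congrHom_hom, pullback.map, Category.assoc]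
    erw [pullback.lift_snd, Category.comp_id]
    exact FrobSch.relFrob_snd q p
  obtain ⟨Φ', hs, hΦ'⟩ := CurveFFLib.exists_relFrobIter k p X 1
  have heq : Φ = Φ' := by
    refine pullback.hom_ext ?_ (h2.trans hs.symm)
    refine h1.trans ?_
    haveI : IsDominant (X.fromSpecStalk (genericPoint X)) := CurveFFLib.isDominant_genericStalk
    have hkey : ∀ x : X, X.fromSpecStalk x ≫ FrobSch.frob X p = X.fromSpecStalk x ≫ Φ' ≫ pullback.fst _ _ := fun x => by
      letI := Curv2.stalkAlgebra k X x
      haveI : CharP (X.presheaf.stalk x) p :=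
        charP_of_injective_algebraMap (algebraMap k (X.presheaf.stalk x)).injective p
      haveI : ExpChar (X.presheaf.stalk x) p := ExpChar.prime Fact.out
      rw [(hΦ' x).2, ← CurveFFLib.frobIter_spec, CurveFFLib.frobIter_comp, FrobSch.frobIter_succ,
        FrobSch.frobIter_zero, Category.comp_id]
    haveI : X.IsSeparated := ⟨by
      rw [Limits.terminal.hom_ext (terminal.from X) (q ≫ terminal.from _)]; infer_instance⟩
    exact ext_of_isDominant (X.fromSpecStalk (genericPoint X)) (hkey _)
  rw [← heq] at hs hΦ'
  have eP := CurveFFLib.relFrobIter_generic Φ fun x => (hΦ' x).1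
  letI algK : Algebra k X.functionField := Curv2.stalkAlgebra k X (genericPoint X)
  haveI : CharP X.functionField p := charP_of_injective_algebraMap (algebraMap k X.functionField).injective p
  obtain ⟨x, b, hb⟩ := CurveFFLib.exists_basis_D (k := k) (X := X) d hd
  have hL := finrank_pow p d x b hb
  have hrange := CurveFFLib.range_relFrobIter p 1 Φ hs hΦ' eP
  let rF := FrobSch.relFrob q p
  have hsurj : ∀ {Z : Scheme.{u}} {a b : Z} (h : a = b),
      Function.Surjective (Z.presheaf.stalkSpecializes (specializes_of_eq h)).hom := by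
    intro Z a b h
    subst h
    intro z
    exact ⟨z, by simp⟩
  have hr : ∀ z : X.functionField, z ∈ (rF.stalkMap (genericPoint X)).hom.range ↔
      z ∈ adjoin k (Set.range fun y : X.functionField => y ^ p ^ 1) := by
    intro z
    refine Iff.trans ?_ (SetLike.ext_iff.mp hrange z)
    have hc : Φ.stalkMap (genericPoint X) = ε.hom.stalkMap _ ≫ rF.stalkMap (genericPoint X) :=
      Scheme.Hom.stalkMap_comp rF ε.hom (genericPoint X)
    rw [hc]
    constructor
    · rintro ⟨w, rfl⟩
      obtain ⟨w, rfl⟩ := (ConcreteCategory.bijective_of_isIso (ε.hom.stalkMap (rF (genericPoint X)))).2 w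
      obtain ⟨w, rfl⟩ := hsurj eP w
      exact ⟨w, rfl⟩
    · rintro ⟨w, rfl⟩
      exact ⟨_, rfl⟩
  have hbij : Function.Bijective (X.residue (genericPoint X)).hom :=
    ⟨RingHom.injective (R := X.functionField) (X.residue (genericPoint X)).hom, X.residue_surjective _⟩
  let j : X.functionField ≃+* X.residueField (genericPoint X) := RingEquiv.ofBijective _ hbij
  let ψ : (FrobSch.frobTwist q p).residueField (rF (genericPoint X)) →+* X.functionField :=
    j.symm.toRingHom.comp (rF.residueFieldMap (genericPoint X)).hom
  have hψ : ∀ w, ψ ((FrobSch.frobTwist q p).residue _ w) = rF.stalkMap (genericPoint X) w := fun w => by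
    apply j.injective
    change j (j.symm _) = _
    rw [j.apply_symm_apply]
    exact congr($(Scheme.residue_residueFieldMap rF (genericPoint X)) w)
  let φ : (FrobSch.frobTwist q p).residueField (rF (genericPoint X)) →+*
      adjoin k (Set.range fun y : X.functionField => y ^ p ^ 1) := ψ.codRestrict _ fun c => by
    obtain ⟨w, rfl⟩ := (FrobSch.frobTwist q p).residue_surjective _ c
    rw [hψ]
    exact (hr _).mp ⟨w, rfl⟩
  have hφ : Function.Bijective φ := ⟨RingHom.injective φ, fun c => by
    obtain ⟨w, hw⟩ := (hr _).mpr c.2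
    exact ⟨(FrobSch.frobTwist q p).residue _ w, Subtype.ext ((hψ w).trans hw)⟩⟩
  rw [Scheme.Hom.residueDegree]
  letI := (rF.residueFieldMap (genericPoint X)).hom.toAlgebra
  refine (Algebra.finrank_eq_of_equiv_equiv (RingEquiv.ofBijective φ hφ) j.symm ?_).trans hL
  ext c
  rfl

end Groth.Agent.S14932
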