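import Groth.Statements.S14933
import Groth.Agent.OmegaAffLib.Universal
import Groth.Agent.ModGlueLib.Basic
-- import your own Groth.Agent.* helpers here

set_option autoImplicit false
universe u
open CategoryTheory CategoryTheory.Limits AlgebraicGeometry
open Variety

namespace Groth.Agent.S14933

set_option maxHeartbeats 1000000

section Aux

open Opposite

variable (p : ℕ) [Fact p.Prime] {X S : Scheme.{u}} [FrobSch.IsCharP S p] (f : X ⟶ S)

/-- A ring homomorphism out of a derivation. -/
def derHom {B : Type u} [CommRing B] {M : Type u} [AddCommGroup M] [Module B M] [Module Bᵐᵒᵖ M]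
    [IsCentralScalar B M] (δ : B →+ M) (hmul : ∀ a b : B, δ (a * b) = a • δ b + b • δ a) :
    B →+* TrivSqZeroExt B M where
  toFun a := TrivSqZeroExt.inl a + TrivSqZeroExt.inr (δ a)
  map_one' := by
    have h1 : δ 1 = 0 := by simpa using hmul 1 1
    rw [h1, TrivSqZeroExt.inr_zero, add_zero, TrivSqZeroExt.inl_one]
  map_mul' a b := by
    apply TrivSqZeroExt.ext
    · simp
    · simp [hmul, op_smul_eq_smul]
  map_zero' := by simp
  map_add' a b := by
    apply TrivSqZeroExt.ext <;> simp

/-- A derivation kills what comes from the Frobenius twist, affine-locally. -/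
theorem d_appLE_relFrob {Ω : X.Modules} (d : OmegaSh.Der f Ω) {U : X.Opens} (hU : IsAffineOpen U)
    {V : S.Opens} (hV : IsAffineOpen V) (e : U ≤ f ⁻¹ᵁ V) {W : (FrobSch.frobTwist f p).Opens}
    (hW : IsAffineOpen W) (e' : U ≤ FrobSch.relFrob f p ⁻¹ᵁ W) (c : Γ(FrobSch.frobTwist f p, W)) :
    d.app U ((FrobSch.relFrob f p).appLE W U e' c) = 0 := by
  haveI : FrobSch.IsCharP X p := FrobSch.IsCharP.of_hom f p
  let B := Γ(X, U)
  let M := Γ(Ω, U)
  letI : Module Bᵐᵒᵖ M := Module.compHom M ((RingHom.id B).fromOpposite fun a b => mul_comm a b)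
  haveI : IsCentralScalar B M := ⟨fun a m => rfl⟩
  let φ : B →+* TrivSqZeroExt B M := derHom (d.app U) (OmegaAffLib.der_mul d U)
  let ι : B →+* TrivSqZeroExt B M := TrivSqZeroExt.inlHom B M
  let Φ (χ : B →+* TrivSqZeroExt B M) : Spec (CommRingCat.of (TrivSqZeroExt B M)) ⟶ X :=
    Spec.map (CommRingCat.ofHom χ) ≫ hU.fromSpec
  have hpow : ∀ a : B, φ (a ^ p) = ι (a ^ p) := fun a => by
    apply TrivSqZeroExt.ext
    · simp [φ, ι, derHom]
    · have hp : (p : B) = 0 := FrobSch.natCast_eq_zero_app X p U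
      show (φ (a ^ p)).snd = _
      rw [map_pow, TrivSqZeroExt.snd_pow, ← Nat.cast_smul_eq_nsmul B, hp, zero_smul]
      simp [ι]
  have hfrob : ∀ χ : B →+* TrivSqZeroExt B M, Φ χ ≫ FrobSch.frob X p =
      Spec.map (CommRingCat.ofHom (χ.comp ((FrobSch.frob X p).appLE U U le_rfl).hom)) ≫ hU.fromSpec := fun χ => by
    show (Spec.map (CommRingCat.ofHom χ) ≫ hU.fromSpec) ≫ FrobSch.frob X p = _
    rw [CommRingCat.ofHom_comp, Spec.map_comp, Category.assoc, Category.assoc, CommRingCat.ofHom_hom,
      IsAffineOpen.SpecMap_appLE_fromSpec (FrobSch.frob X p) hU hU le_rfl]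
  have hf : ∀ χ : B →+* TrivSqZeroExt B M, Φ χ ≫ f =
      Spec.map (CommRingCat.ofHom (χ.comp (f.appLE V U e).hom)) ≫ hV.fromSpec := fun χ => by
    show (Spec.map (CommRingCat.ofHom χ) ≫ hU.fromSpec) ≫ f = _
    rw [CommRingCat.ofHom_comp, Spec.map_comp, Category.assoc, Category.assoc, CommRingCat.ofHom_hom,
      IsAffineOpen.SpecMap_appLE_fromSpec f hV hU e]
  have key : Φ φ ≫ FrobSch.relFrob f p = Φ ι ≫ FrobSch.relFrob f p := by
    apply Limits.pullback.hom_ext
    · rw [Category.assoc (Φ φ), Category.assoc (Φ ι), FrobSch.relFrob_fst, hfrob, hfrob]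
      congr 3
      refine RingHom.ext fun a => ?_
      have ha : (FrobSch.frob X p).appLE U U le_rfl a = a ^ p := by
        show X.presheaf.map (𝟙 (op U)) ((FrobSch.frob X p).app U a) = _
        rw [X.presheaf.map_id, FrobSch.frob_app]
        rfl
      rw [RingHom.comp_apply, RingHom.comp_apply, ha]
      exact hpow a
    · rw [Category.assoc (Φ φ), Category.assoc (Φ ι), FrobSch.relFrob_snd, hf, hf]
      congr 3
      refine RingHom.ext fun b => ?_
      apply TrivSqZeroExt.ext
      · simp [φ, ι, derHom]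
      · simp [φ, ι, derHom, OmegaAffLib.der_appLE d V U e b]
  have hr : ∀ χ : B →+* TrivSqZeroExt B M, Φ χ ≫ FrobSch.relFrob f p =
      Spec.map (CommRingCat.ofHom (χ.comp ((FrobSch.relFrob f p).appLE W U e').hom)) ≫ hW.fromSpec := fun χ => by
    show (Spec.map (CommRingCat.ofHom χ) ≫ hU.fromSpec) ≫ _ = _
    rw [CommRingCat.ofHom_comp, Spec.map_comp, Category.assoc, Category.assoc, CommRingCat.ofHom_hom,
      IsAffineOpen.SpecMap_appLE_fromSpec (FrobSch.relFrob f p) hW hU e']
  rw [hr, hr, cancel_mono] at key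
  have h := congrArg TrivSqZeroExt.snd
    (RingHom.congr_fun (congrArg CommRingCat.Hom.hom (Spec.map_injective key)) c)
  simpa [φ, ι, derHom] using h

/-- The same values give a derivation relative to the relative Frobenius. -/
theorem exists_der {Ω : X.Modules} (d : OmegaSh.Der f Ω) :
    ∃ d' : OmegaSh.Der (FrobSch.relFrob f p) Ω, ∀ (U : X.Opens) (s : Γ(X, U)), d'.app U s = d.app U s := by
  refine ⟨{ d := d.d, d_mul := d.d_mul, d_map := d.d_map, d_app := fun {W} c => ?_ }, fun U s => rfl⟩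
  show d.app (FrobSch.relFrob f p ⁻¹ᵁ W.unop) ((FrobSch.relFrob f p).app W.unop c) = 0
  refine ModGlueLib.eq_of_locally _ 0 fun x hx => ?_
  obtain ⟨W', hW', hxW', hW'W⟩ := exists_isAffineOpen_mem_and_subset
    (x := FrobSch.relFrob f p x) (U := W.unop) hx
  obtain ⟨U, ⟨hU, V, hV, e⟩, hxU, hUle⟩ :=
    OmegaAffLib.exists_good (f := f) (W := FrobSch.relFrob f p ⁻¹ᵁ W') hxW'
  have hle : U ≤ FrobSch.relFrob f p ⁻¹ᵁ W.unop := fun y hy => hW'W (hUle hy)
  refine ⟨U, hle, hxU, ?_⟩
  rw [← OmegaAffLib.der_rs d hle]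
  refine Eq.trans ?_ (map_zero (Ω.presheaf.map (homOfLE hle).op).hom).symm
  refine Eq.trans (congrArg (d.app U) ?_)
    (d_appLE_relFrob p f d hU hV e hW' hUle
      ((FrobSch.frobTwist f p).presheaf.map (homOfLE (show W' ≤ W.unop from fun _ h => hW'W h)).op c))
  show ((FrobSch.relFrob f p).app W.unop ≫ X.presheaf.map (homOfLE hle).op) c =
    ((FrobSch.frobTwist f p).presheaf.map (homOfLE (show W' ≤ W.unop from fun _ h => hW'W h)).op ≫
      (FrobSch.relFrob f p).appLE W' U hUle) c
  rw [Scheme.Hom.map_appLE, Scheme.Hom.appLE]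

/-- A derivation relative to the relative Frobenius is one relative to the structure morphism. -/
theorem exists_der' {F : X.Modules} (D : OmegaSh.Der (FrobSch.relFrob f p) F) :
    ∃ D' : OmegaSh.Der f F, ∀ (U : X.Opens) (s : Γ(X, U)), D'.app U s = D.app U s := by
  refine ⟨{ d := D.d, d_mul := D.d_mul, d_map := D.d_map, d_app := fun {V} c => ?_ }, fun U s => rfl⟩
  show D.app (f ⁻¹ᵁ V.unop) (f.app V.unop c) = 0
  have h := OmegaAffLib.der_appLE D (Limits.pullback.snd f (FrobSch.frob S p) ⁻¹ᵁ V.unop) (f ⁻¹ᵁ V.unop)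
    (le_of_eq (by rw [← Scheme.Hom.comp_preimage, FrobSch.relFrob_snd]))
    ((Limits.pullback.snd f (FrobSch.frob S p)).app V.unop c)
  refine Eq.trans (congrArg (D.app (f ⁻¹ᵁ V.unop)) ?_) h
  show f.app V.unop c = ((Limits.pullback.snd f (FrobSch.frob S p)).app V.unop ≫
    (FrobSch.relFrob f p).appLE _ (f ⁻¹ᵁ V.unop) _) c
  rw [Scheme.Hom.app_eq_appLE, Scheme.Hom.app_eq_appLE, Scheme.Hom.appLE_comp_appLE]
  simp [FrobSch.relFrob_snd]

end Aux

/-- Let p be a prime, S a scheme of characteristic p (p is zero in the structure sheaf) and f : X → S a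
morphism of schemes, with relative Frobenius F_{X/S} : X → X^(p) = X ×_{S,F_S} S over S. Then the
sheaf of differentials of X over S is also the sheaf of differentials of X over X^(p): if Ω is an
O_X-module and d : O_X → Ω a universal S-derivation, then d kills every section coming from X^(p),
i.e. there is a derivation O_X → Ω relative to F_{X/S} with the same values as d, and that
derivation is universal among derivations relative to F_{X/S}. -/
theorem result (p : ℕ) [Fact p.Prime]
    {X S : Scheme.{u}} [FrobSch.IsCharP S p] (f : X ⟶ S)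
    (Ω : X.Modules) (d : OmegaSh.Der f Ω) (hd : OmegaSh.IsUniversal d) :
    ∃ d' : OmegaSh.Der (FrobSch.relFrob f p) Ω,
      (∀ (U : X.Opens) (s : Γ(X, U)), d'.app U s = d.app U s) ∧ OmegaSh.IsUniversal d' := by
  obtain ⟨d', hd'⟩ := exists_der p f d
  refine ⟨d', hd', fun F D => ?_⟩
  obtain ⟨D', hD'⟩ := exists_der' p f D
  obtain ⟨α, hα, huniq⟩ := hd F D'
  have key : ∀ β : Ω ⟶ F, d'.postcomp β.val = D ↔ d.postcomp β.val = D' := fun β => by
    constructor <;> intro h <;> apply PresheafOfModules.Derivation.ext <;> funext Y <;>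
      refine AddMonoidHom.ext fun s => ?_
    · refine (congrArg (fun t => (β.val.app Y).hom t) (hd' Y.unop s)).symm.trans ?_
      exact (PresheafOfModules.Derivation.congr_d h s).trans (hD' Y.unop s).symm
    · refine (congrArg (fun t => (β.val.app Y).hom t) (hd' Y.unop s)).trans ?_
      exact (PresheafOfModules.Derivation.congr_d h s).trans (hD' Y.unop s)
  exact ⟨α, (key α).mpr hα, fun β hβ => huniq β ((key β).mp hβ)⟩

end Groth.Agent.S14933
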