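import Groth.Statements.S14936
import Groth.Agent.TateThmLib.Isog

set_option linter.style.haveILetI false
set_option backward.isDefEq.respectTransparency false
set_option maxHeartbeats 1000000
-- import your own Groth.Agent.* helpers here

set_option autoImplicit false
universe u
open CategoryTheory MonoidalCategory CartesianMonoidalCategory MonObj GrpObj AlgebraicGeometry
open AbVar

namespace Groth.Agent.S14936

/-- Clauses 1 and 3: let k be a finite field with q elements and algebraic closure Ω, l a prime number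
invertible in k, and A, B abelian varieties over k (proper, geometrically integral commutative group
schemes over k), with q-Frobenius endomorphisms π_A, π_B (the identity on points and the q-th power
map on sections; they are homomorphisms). Assume, as is the case, that the l-adic Tate modules of
Ω-points T_l A, T_l B are free of finite rank over ℤ_l. Then A and B are isogenous over k — there
are homomorphisms u : A → B and v : B → A and an integer n > 0 with v ∘ u = n_A and u ∘ v = n_B — if
and only if the characteristic polynomials of T_l(π_A) on T_l A and of T_l(π_B) on T_l B are equal. -/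
theorem result (k Ω : Type u) [Field k] [Finite k] [Field Ω] [Algebra k Ω] [IsAlgClosure k Ω]
    (l : ℕ) [Fact l.Prime] (hl : (l : k) ≠ 0) (A B : Over (Spec (CommRingCat.of k)))
    [GrpObj A] [IsCommMonObj A] [IsProper A.hom] [GeometricallyIntegral A.hom]
    [GrpObj B] [IsCommMonObj B] [IsProper B.hom] [GeometricallyIntegral B.hom]
    (πA : A ⟶ A) [IsMonHom πA] (hπAb : πA.left.base = 𝟙 _)
    (hπAle : ∀ U : A.left.Opens, U ≤ πA.left ⁻¹ᵁ U)
    (hπAapp : ∀ (U : A.left.Opens) (s : Γ(A.left, U)), (πA.left.appLE U U (hπAle U)).hom s = s ^ Nat.card k)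
    (πB : B ⟶ B) [IsMonHom πB] (hπBb : πB.left.base = 𝟙 _)
    (hπBle : ∀ U : B.left.Opens, U ≤ πB.left ⁻¹ᵁ U)
    (hπBapp : ∀ (U : B.left.Opens) (s : Γ(B.left, U)), (πB.left.appLE U U (hπBle U)).hom s = s ^ Nat.card k)
    [Module.Free ℤ_[l] (AbDual.TateMod A l (SGA7.pt Ω))] [Module.Finite ℤ_[l] (AbDual.TateMod A l (SGA7.pt Ω))]
    [Module.Free ℤ_[l] (AbDual.TateMod B l (SGA7.pt Ω))] [Module.Finite ℤ_[l] (AbDual.TateMod B l (SGA7.pt Ω))] :
    (∃ (u : A ⟶ B) (_ : IsMonHom u) (v : B ⟶ A) (_ : IsMonHom v) (n : ℕ), 0 < n ∧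
        u ≫ v = (𝟙 A) ^ n ∧ v ≫ u = (𝟙 B) ^ n) ↔
      (AbDual.tateMapₗ (l := l) (T := SGA7.pt Ω) πA).charpoly =
        (AbDual.tateMapₗ (l := l) (T := SGA7.pt Ω) πB).charpoly := by
  have hA : TateThmLib.IsFrob πA := ⟨hπAb, hπAle, hπAapp⟩
  have hB : TateThmLib.IsFrob πB := ⟨hπBb, hπBle, hπBapp⟩
  have hinj := Polynomial.map_injective (algebraMap ℤ_[l] ℚ_[l]) (IsFractionRing.injective _ _)
  constructor
  · rintro ⟨u, hu, v, hv, n, hn, h₁, h₂⟩
    refine hinj ?_
    rw [← TateThmLib.charpoly_VF, ← TateThmLib.charpoly_VF]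
    let e := LinearEquiv.ofBijective _ (TateThmLib.bijective_of_pair (Ω := Ω) hl (EndAV.Hom.of u) (EndAV.Hom.of v) hn h₁ h₂)
    have he : TateThmLib.bV l (SGA7.pt (K := k) Ω) (EndAV.Hom.of u) ∈
        TateThmLib.kerL (TateThmLib.VF l Ω πA) (TateThmLib.VF l Ω πB) := by
      rw [← TateThmLib.span_homs_eq hA hB hl]
      exact Submodule.subset_span ⟨_, rfl⟩
    rw [show TateThmLib.VF l Ω πB = e.conj (TateThmLib.VF l Ω πA) from LinearMap.ext fun y => by
      obtain ⟨x, rfl⟩ := e.surjective y
      rw [LinearEquiv.conj_apply_apply, e.symm_apply_apply]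
      exact (LinearMap.congr_fun he x).symm, LinearEquiv.charpoly_conj]
  · intro h
    obtain ⟨qA, hqA, hqA0⟩ := TateThmLib.exists_annihilator (l := l) (Ω := Ω) hA
    obtain ⟨qB, hqB, hqB0⟩ := TateThmLib.exists_annihilator (l := l) (Ω := Ω) hB
    have h' : (TateThmLib.VF l Ω πA).charpoly = (TateThmLib.VF l Ω πB).charpoly := by
      rw [TateThmLib.charpoly_VF, TateThmLib.charpoly_VF]
      exact congrArg _ h
    obtain ⟨φ, hφ, hb⟩ := TateThmLib.exists_kerL_bijective _ _ hqA hqA0 hqB hqB0 h'
    obtain ⟨ψ, hψ, hb'⟩ := TateThmLib.exists_kerL_bijective _ _ hqB hqB0 hqA hqA0 h'.symm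
    rw [← TateThmLib.span_homs_eq hA hB hl] at hφ
    rw [← TateThmLib.span_homs_eq hB hA hl] at hψ
    exact TateThmLib.isogenous_of_span Ω hl hφ hb hψ hb'

end Groth.Agent.S14936
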