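import Groth.Statements.S14937
import Groth.Agent.TateThmLib.EndConseq
import Groth.Agent.AVAmpleLib.FrobExist

set_option linter.style.haveILetI false
set_option backward.isDefEq.respectTransparency false
set_option maxHeartbeats 1000000
-- import your own Groth.Agent.* helpers here

set_option autoImplicit false
universe u
open CategoryTheory MonoidalCategory CartesianMonoidalCategory MonObj GrpObj AlgebraicGeometry
open AbVar

namespace Groth.Agent.S14937

/-- Lower bound: let A be an abelian variety of dimension g over a finite field k (a proper,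
geometrically integral commutative group scheme over k). Then the rank of End_k(A) is at least 2g:
there exist 2g endomorphisms of A (homomorphisms A → A) which are linearly independent over ℤ in the
additive group of k-morphisms A → A (pointwise product). The upper bound 4g² holds over any field. -/
theorem result (k : Type u) [Field k] [Finite k]
    (A : Over (Spec (CommRingCat.of k)))
    [GrpObj A] [IsCommMonObj A] [IsProper A.hom] [GeometricallyIntegral A.hom]
    (g : ℕ) (hg : topologicalKrullDim A.left = g) :
    ∃ e : Fin (2 * g) → (A ⟶ A), (∀ i, IsMonHom (e i)) ∧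
      LinearIndependent ℤ (fun i => Additive.ofMul (e i)) := by
  classical
  obtain ⟨πA, hπm, hπle, hπb, hπapp⟩ := AVAmpleLib.exists_frob A
  have hA : TateThmLib.IsFrob πA := ⟨hπb, hπle, hπapp⟩
  obtain ⟨l, _, hl⟩ := AVAmpleLib.exists_prime_ne_zero k
  let Ω := AlgebraicClosure k
  obtain ⟨_, _⟩ := TateThmLib.free_finite (A := A) (Ω := Ω) hl
  let L := AlgebraicClosure ℚ_[l]
  have h2g : 2 * g ≤ Module.finrank ℤ (EndAV.Hom A A) := by
    rw [TateThmLib.finrank_hom (Ω := Ω) hA hA hl L]
    set R := ((TateThmLib.VF l Ω πA).charpoly.map (algebraMap ℚ_[l] L)).roots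
    have hR : Multiset.card R = 2 * g := by
      rw [IsAlgClosed.card_roots_map_eq_natDegree_from_simpleRing, LinearMap.charpoly_natDegree, Module.finrank_baseChange]
      exact (AVAmpleLib.tate_free_finite_finrank_ext Ω A hg l (TateThmLib.natCast_Ω_ne_zero hl)).2.2
    rw [← hR]
    exact (Multiset.card_nsmul_le_sum (s := R.map fun x => R.count x) (a := 1) fun n hn => by
      obtain ⟨x, hx, rfl⟩ := Multiset.mem_map.1 hn
      exact Multiset.count_pos.2 hx).trans' (by simp)
  haveI := AVAmpleLib.fg_hom_of_ext (k := k) Ω A A
  haveI := AVAmpleLib.isTorsionFree_hom (A := A) (B := A)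
  haveI : Module.Free ℤ (EndAV.Hom A A) := Module.free_of_finite_type_torsion_free'
  let b := Module.finBasis ℤ (EndAV.Hom A A)
  let J : EndAV.Hom A A →+ Additive (A ⟶ A) := AddMonoidHom.mk' (fun φ => Additive.ofMul φ.toHom) fun φ ψ => rfl
  have hJ : Function.Injective J := fun φ ψ h => EndAV.Hom.ext (Additive.ofMul.injective h)
  exact ⟨fun i => (b (Fin.castLE h2g i)).toHom, fun i => inferInstance,
    (b.linearIndependent.comp _ (Fin.castLE_injective h2g)).map' J.toIntLinearMap (LinearMap.ker_eq_bot.2 hJ)⟩

end Groth.Agent.S14937
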