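import Groth.Statements.S14938
import Groth.Agent.TateThmLib.EndConseq

set_option linter.style.haveILetI false
set_option backward.isDefEq.respectTransparency false
set_option maxHeartbeats 1000000
-- import your own Groth.Agent.* helpers here

set_option autoImplicit false
universe u
open CategoryTheory MonoidalCategory CartesianMonoidalCategory MonObj GrpObj AlgebraicGeometry
open AbVar

namespace Groth.Agent.S14938

/-- Let A be an abelian variety over a finite field k with q elements (a proper, geometrically integral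
commutative group scheme over k) and π_A its q-Frobenius endomorphism (the identity on points and
the q-th power map on sections; a homomorphism). If an endomorphism f of A commutes with every
endomorphism of A, then for some integer N > 0 the multiple N·f is an integral linear combination of
the composition powers π_A^0 = id, π_A, π_A ∘ π_A, …; in other words the centre of ℚ ⊗ End_k(A) is
ℚ[π_A] (the reverse inclusion being that π_A is central). In the statement the group Hom_k(A, A) is
written multiplicatively, so N·f is f^N and the linear combination is a finite product of integer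
powers. -/
theorem result (k : Type u) [Field k] [Finite k]
    (A : Over (Spec (CommRingCat.of k)))
    [GrpObj A] [IsCommMonObj A] [IsProper A.hom] [GeometricallyIntegral A.hom]
    (πA : A ⟶ A) [IsMonHom πA] (hπAb : πA.left.base = 𝟙 _)
    (hπAle : ∀ U : A.left.Opens, U ≤ πA.left ⁻¹ᵁ U)
    (hπAapp : ∀ (U : A.left.Opens) (s : Γ(A.left, U)), (πA.left.appLE U U (hπAle U)).hom s = s ^ Nat.card k)
    (f : A ⟶ A) [IsMonHom f] (hf : ∀ h : A ⟶ A, IsMonHom h → f ≫ h = h ≫ f) :
    ∃ N : ℕ, 0 < N ∧ ∃ (d : ℕ) (a : Fin d → ℤ),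
      f ^ N = ∏ i : Fin d, ((fun h : A ⟶ A => h ≫ πA)^[(i : ℕ)] (𝟙 A)) ^ (a i) := by
  classical
  have hA : TateThmLib.IsFrob πA := ⟨hπAb, hπAle, hπAapp⟩
  let π : EndAV.End A := EndAV.End.of πA
  have hc : ∀ φ : EndAV.End A, φ * EndAV.End.of f = EndAV.End.of f * φ := fun φ => EndAV.End.ext (by
    rw [EndAV.End.toHom_mul, EndAV.End.toHom_mul, EndAV.End.toHom_of]
    exact hf φ.toHom inferInstance)
  have hx : EndAV.toEnd0 (EndAV.End.of f) ∈ EndAV.QAdj π := (TateThmLib.mem_qadj_iff hA _).2 fun y => by
    obtain ⟨r, ψ, rfl⟩ := AVAmpleLib.exists_tmul y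
    rw [EndAV.toEnd0_apply, Algebra.TensorProduct.tmul_mul_tmul, Algebra.TensorProduct.tmul_mul_tmul, hc ψ, mul_comm r 1]
  obtain ⟨q, hq⟩ : ∃ q : Polynomial ℚ, Polynomial.aeval (EndAV.toEnd0 π) q = EndAV.toEnd0 (EndAV.End.of f) := by
    rw [EndAV.QAdj, Algebra.adjoin_singleton_eq_range_aeval] at hx
    exact hx
  obtain ⟨b, hbm, hb⟩ := IsLocalization.integerNormalization_spec (nonZeroDivisors ℤ) q
  set R₀ := IsLocalization.integerNormalization (nonZeroDivisors ℤ) q
  have hb0 : b ≠ 0 := nonZeroDivisors.ne_zero hbm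
  have hR0 : Polynomial.aeval π R₀ = (b : ℤ) • EndAV.End.of f := by
    refine AVAmpleLib.toEnd0_injective (A := A) ?_
    rw [← Polynomial.aeval_algHom_apply, map_zsmul, ← Polynomial.aeval_map_algebraMap ℚ, ← hq,
      show R₀.map (algebraMap ℤ ℚ) = b • q from hb, map_zsmul]
  obtain ⟨N, hN, R, hR⟩ : ∃ N : ℕ, 0 < N ∧ ∃ R : Polynomial ℤ, Polynomial.aeval π R = N • EndAV.End.of f := by
    rcases Int.natAbs_eq (b : ℤ) with h | h
    · exact ⟨(b : ℤ).natAbs, Int.natAbs_pos.2 hb0, R₀, by rw [hR0, h, natCast_zsmul]; simp⟩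
    · exact ⟨(b : ℤ).natAbs, Int.natAbs_pos.2 hb0, -R₀, by rw [map_neg, hR0, h, neg_smul, neg_neg, natCast_zsmul]; simp⟩
  let J : EndAV.End A →+ Additive (A ⟶ A) := AddMonoidHom.mk' (fun φ => Additive.ofMul φ.toHom) fun φ ψ => rfl
  have hit : ∀ i : ℕ, (fun h : A ⟶ A => h ≫ πA)^[i] (𝟙 A) = EndAV.End.toHom (π ^ i) := fun i => by
    induction i with
    | zero => rw [pow_zero, EndAV.End.toHom_one]; rfl
    | succ i ih => rw [Function.iterate_succ_apply', ih, EndAV.End.toHom_pow_succ, EndAV.End.toHom_of]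
  refine ⟨N, hN, R.natDegree + 1, fun i => R.coeff i, ?_⟩
  rw [Polynomial.aeval_eq_sum_range, ← Fin.sum_univ_eq_sum_range (fun i => R.coeff i • π ^ i)] at hR
  have h := congrArg J hR
  rw [map_sum, map_nsmul] at h
  simp only [map_zsmul] at h
  refine ((congrArg Additive.toMul h).symm.trans (toMul_sum _ _)).trans (Finset.prod_congr rfl fun i _ => ?_)
  rw [hit]
  exact toMul_zsmul _ _

end Groth.Agent.S14938
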