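import Groth.Statements.S14940
import Groth.Agent.AVAmpleLib.BcTate

set_option autoImplicit false
universe u
open CategoryTheory MonoidalCategory CartesianMonoidalCategory MonObj GrpObj AlgebraicGeometry
open AbVar

namespace Groth.Agent.S14940

/-- Let k be a field of positive characteristic p and A, B abelian varieties over k (proper,
geometrically integral commutative group schemes over k). Then the abelian group Hom_k(A, B) of
homomorphisms is finitely generated: there are homomorphisms e_1, …, e_n : A → B such that every
homomorphism A → B is an integral linear combination of them. The group of k-morphisms A → B is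
written multiplicatively (pointwise product in B), so the combination is a finite product of integer
powers. -/
theorem result (k : Type u) [Field k] (p : ℕ) [Fact p.Prime] [CharP k p]
    (A B : Over (Spec (CommRingCat.of k)))
    [GrpObj A] [IsCommMonObj A] [IsProper A.hom] [GeometricallyIntegral A.hom]
    [GrpObj B] [IsCommMonObj B] [IsProper B.hom] [GeometricallyIntegral B.hom] :
    ∃ (n : ℕ) (e : Fin n → (A ⟶ B)), (∀ i, IsMonHom (e i)) ∧
      ∀ f : A ⟶ B, IsMonHom f → ∃ a : Fin n → ℤ, f = ∏ i, e i ^ a i := by
  classical
  have := AVAmpleLib.fg_hom_of_ext (AlgebraicClosure k) A B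
  obtain ⟨n, e, he⟩ := Submodule.fg_iff_exists_fin_generating_family.1
    (Module.finite_def.1 (inferInstance : Module.Finite ℤ (EndAV.Hom A B)))
  refine ⟨n, fun i => (e i).toHom, fun i => inferInstance, fun f hf => ?_⟩
  have := hf
  obtain ⟨a, ha⟩ := (Submodule.mem_span_range_iff_exists_fun ℤ).1
    (he ▸ Submodule.mem_top : EndAV.Hom.of f ∈ Submodule.span ℤ (Set.range e))
  refine ⟨a, ?_⟩
  let F : EndAV.Hom A B →+ Additive (A ⟶ B) := AddMonoidHom.mk' (fun φ => Additive.ofMul φ.toHom) fun _ _ => rfl
  have h := congrArg (fun φ => (F φ).toMul) ha
  simp only [map_sum, map_zsmul, toMul_sum, toMul_zsmul] at h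
  exact h.symm

end Groth.Agent.S14940
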