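import Groth.Statements.S14941
import Groth.Agent.TateThmLib.Polarised
import Groth.Agent.TateThmLib.SchemeFinite
import Groth.Agent.AbSchLib.DimFinite

set_option linter.style.haveILetI false
set_option backward.isDefEq.respectTransparency false
set_option maxHeartbeats 1000000
-- import your own Groth.Agent.* helpers here

set_option autoImplicit false
universe u
open CategoryTheory CategoryTheory.Limits MonoidalCategory CartesianMonoidalCategory MonObj GrpObj AlgebraicGeometry
open AbVar

namespace Groth.Agent.S14941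

/-- Take a finite field k and an abelian variety A over it (a proper, geometrically integral commutative
group scheme over k) and an integer d ≥ 1. Up to isomorphism, only finitely many abelian varieties B
over k are isogenous to A and carry a polarisation of degree d² defined over k. Here: B^t is a given
dual abelian variety (B^t, φ) for the fppf topology, a polarisation is a homomorphism λ : B → B^t
which on every geometric fibre is of the form Λ(L) = φ_L for an ample invertible sheaf L, its degree
d² means λ is finite locally free of rank d², B isogenous to A means there is a finite surjective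
homomorphism A → B, and isomorphism is isomorphism of k-schemes (equivalently of abelian varieties,
after a translation). -/
theorem result (k : Type u) [Field k] [Finite k]
    (A : Over (Spec (CommRingCat.of k)))
    [GrpObj A] [IsCommMonObj A] [IsProper A.hom] [GeometricallyIntegral A.hom]
    (d : ℕ) (hd : 1 ≤ d) :
    ∃ (n : ℕ) (Bs : Fin n → Over (Spec (CommRingCat.of k))),
      ∀ (B Bt : Over (Spec (CommRingCat.of k))) [GrpObj B] [IsCommMonObj B] [IsProper B.hom] [GeometricallyIntegral B.hom]
        [GrpObj Bt] [IsCommMonObj Bt] (φ : AgPol.DualMap B Bt),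
        AbDual.IsDualAV Scheme.fppfPrecoverage B Bt φ →
        ∀ lam : B ⟶ Bt, AgPol.IsPolarization B Bt φ lam → AgPol.HasDegSq lam d →
        (∃ (u : A ⟶ B) (_ : IsMonHom u), IsFinite u.left ∧ Function.Surjective u.left.base) →
        ∃ i : Fin n, Nonempty (B ≅ Bs i) := by
  classical
  obtain ⟨g, hg⟩ := AVAmpleLib.exists_dim_field A
  have hdim : ∀ (B : Over (Spec (CommRingCat.of k))) (u : A ⟶ B), IsFinite u.left → Function.Surjective u.left.base →
      topologicalKrullDim B.left = (g : ℕ) := fun B u hf hs => by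
    haveI : Surjective u.left := ⟨hs⟩
    exact (AbSchLib.topologicalKrullDim_eq_of_finite_surjective u.left).symm.trans hg
  rcases Nat.eq_zero_or_pos g with rfl | hgpos
  · refine ⟨1, fun _ => 𝟙_ _, fun B Bt _ _ _ _ _ _ φ _ lam _ _ ⟨u, _, hf, hs⟩ => ⟨0, ?_⟩⟩
    haveI : IsIntegral B.left := GeometricallyIntegral.isIntegral_of_subsingleton B.hom
    haveI : Subsingleton B.left := AVAmpleLib.subsingleton_of_dim_zero (hdim B u hf hs)
    let e := (η[B] : 𝟙_ (Over (Spec (CommRingCat.of k))) ⟶ B).left
    haveI : IsClosedImmersion e := by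
      haveI : IsClosedImmersion (e ≫ B.hom) := by
        rw [show e ≫ B.hom = 𝟙 _ from Over.w η[B]]; infer_instance
      exact IsClosedImmersion.of_comp e B.hom
    haveI : Surjective e := ⟨fun y => ⟨IsLocalRing.closedPoint k, Subsingleton.elim _ _⟩⟩
    haveI : IsIso e := isIso_of_isClosedImmersion_of_surjective e
    haveI : IsIso ((Over.forget _).map η[B]) := ‹IsIso e›
    haveI : IsIso (η[B] : 𝟙_ (Over (Spec (CommRingCat.of k))) ⟶ B) := isIso_of_reflects_iso _ (Over.forget _)
    exact ⟨(asIso η[B]).symm⟩
  let P : Over (Spec (CommRingCat.of k)) → Prop := fun Z =>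
    ∃ (_ : GrpObj Z) (_ : IsProper Z.hom) (_ : GeometricallyIntegral Z.hom) (_ : IsIntegral Z.left),
      topologicalKrullDim Z.left = (g : ℕ) ∧ ∃ (M : Z.left.Modules) (hM : PicF.IsInvertible M),
        CohB1.IsAmple M ∧ AVAmpleLib.chi Z (CubeConsLib.clA hM) = ((2 ^ g * d : ℕ) : ℤ)
  let r : Over (Spec (CommRingCat.of k)) → Over (Spec (CommRingCat.of k)) → Prop := fun x y => ¬ Nonempty (x ≅ y)
  haveI : Std.Symm r := ⟨fun x y h ⟨e⟩ => h ⟨e.symm⟩⟩
  suffices h : ∃ s : Finset (Over (Spec (CommRingCat.of k))), ∀ Z, P Z → ∃ x ∈ s, Nonempty (Z ≅ x) by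
    obtain ⟨s, hs⟩ := h
    refine ⟨s.card, fun i => (s.equivFin.symm i : Over (Spec (CommRingCat.of k))),
      fun B Bt _ _ _ _ _ _ φ hφ lam hpol hdeg ⟨u, _, hf, hsu⟩ => ?_⟩
    haveI : IsIntegral B.left := GeometricallyIntegral.isIntegral_of_subsingleton B.hom
    have hgB := hdim B u hf hsu
    obtain ⟨M, hM, hMa, hc⟩ := TateThmLib.exists_ample_of_polarization hφ hpol hdeg hgpos hgB
    obtain ⟨x, hx, e⟩ := hs B ⟨inferInstance, inferInstance, inferInstance, inferInstance, hgB, M, hM, hMa, hc⟩
    exact ⟨s.equivFin ⟨x, hx⟩, by simpa using e⟩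
  by_contra hcon
  push_neg at hcon
  obtain ⟨Z, hZ, hp⟩ := exists_seq_of_forall_finset_exists' P r fun s _ => by
    obtain ⟨y, hy, hys⟩ := hcon s
    exact ⟨y, hy, fun x hx ⟨e⟩ => (hys x hx).false e.symm⟩
  choose i1 i2 i3 i4 hdg M hM hMa hc using hZ
  haveI : ∀ i : ULift.{u} ℕ, GrpObj (Z i.down) := fun i => i1 i.down
  haveI : ∀ i : ULift.{u} ℕ, IsProper (Z i.down).hom := fun i => i2 i.down
  haveI : ∀ i : ULift.{u} ℕ, GeometricallyIntegral (Z i.down).hom := fun i => i3 i.down
  haveI : ∀ i : ULift.{u} ℕ, IsIntegral (Z i.down).left := fun i => i4 i.down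
  obtain ⟨i, j, hij, he⟩ := TateThmLib.exists_iso_of_bounded (fun i : ULift.{u} ℕ => Z i.down) (fun i => hdg i.down)
    (fun i => M i.down) (fun i => hM i.down) (fun i => hMa i.down) _ (fun i => hc i.down)
  exact hp (fun h => hij (ULift.ext _ _ h)) he

end Groth.Agent.S14941
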