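import Groth.Statements.S14946
import Groth.Agent.TateThmLib.FrobHom

set_option linter.style.haveILetI false
set_option backward.isDefEq.respectTransparency false
set_option maxHeartbeats 1000000
-- import your own Groth.Agent.* helpers here

set_option autoImplicit false
universe u
open CategoryTheory MonoidalCategory CartesianMonoidalCategory MonObj GrpObj AlgebraicGeometry
open scoped TensorProduct Classical
open AbVar

namespace Groth.Agent.S14946

/-- Dimension formula: let A be an abelian variety over a finite field k with q elements (a proper,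
geometrically integral commutative group scheme over k), π_A its q-Frobenius endomorphism (identity
on points, q-th power on sections; a homomorphism), Ω an algebraic closure of k and l a prime
invertible in k; assume (as is the case) that the l-adic Tate module of Ω-points T_l A is free of
finite rank over ℤ_l. Factor the characteristic polynomial of V_l(π_A) = ℚ_l ⊗ T_l(π_A) over ℚ_l as
∏ P^{a(P)} with P monic irreducible, and put r = Σ_P a(P)² deg P. Then ℚ ⊗ End_k(A) has dimension r:
there are r endomorphisms of A (homomorphisms A → A), linearly independent over ℤ in the additive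
group of k-morphisms A → A (written multiplicatively), such that every endomorphism f has a multiple
f^N, N > 0, which is a product of integer powers of them. (The published statement gives only the
bounds 2g ≤ dim ℚ ⊗ End_k(A) ≤ 4g²; this row states the equality dim ℚ ⊗ End_k(A) = r from which
they follow.) -/
theorem result (k Ω : Type u) [Field k] [Finite k] [Field Ω] [Algebra k Ω] [IsAlgClosure k Ω]
    (l : ℕ) [Fact l.Prime] (hl : (l : k) ≠ 0) (A : Over (Spec (CommRingCat.of k)))
    [GrpObj A] [IsCommMonObj A] [IsProper A.hom] [GeometricallyIntegral A.hom]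
    (πA : A ⟶ A) [IsMonHom πA] (hπAb : πA.left.base = 𝟙 _)
    (hπAle : ∀ U : A.left.Opens, U ≤ πA.left ⁻¹ᵁ U)
    (hπAapp : ∀ (U : A.left.Opens) (s : Γ(A.left, U)), (πA.left.appLE U U (hπAle U)).hom s = s ^ Nat.card k)
    [Module.Free ℤ_[l] (AbDual.TateMod A l (SGA7.pt Ω))] [Module.Finite ℤ_[l] (AbDual.TateMod A l (SGA7.pt Ω))]
    (r : ℕ)
    (hr : r = ∑ P ∈ (UniqueFactorizationMonoid.normalizedFactors
        ((AbDual.tateMapₗ (l := l) (T := SGA7.pt Ω) πA).baseChange ℚ_[l]).charpoly).toFinset,
        (UniqueFactorizationMonoid.normalizedFactors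
          ((AbDual.tateMapₗ (l := l) (T := SGA7.pt Ω) πA).baseChange ℚ_[l]).charpoly).count P ^ 2 * P.natDegree) :
    ∃ e : Fin r → (A ⟶ A), (∀ i, IsMonHom (e i)) ∧ LinearIndependent ℤ (fun i => Additive.ofMul (e i)) ∧
      ∀ f : A ⟶ A, IsMonHom f → ∃ N : ℕ, 0 < N ∧ ∃ a : Fin r → ℤ, f ^ N = ∏ i, e i ^ a i := by
  have hA : TateThmLib.IsFrob πA := ⟨hπAb, hπAle, hπAapp⟩
  haveI : IsAlgClosed Ω := IsAlgClosure.isAlgClosed k
  classical
  haveI := AVAmpleLib.fg_hom_of_ext (k := k) Ω A A
  haveI := AVAmpleLib.isTorsionFree_hom (A := A) (B := A)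
  haveI : Module.Free ℤ (EndAV.Hom A A) := Module.free_of_finite_type_torsion_free'
  have hr' : Module.finrank ℤ (EndAV.Hom A A) = r := by
    rw [TateThmLib.finrank_hom (Ω := Ω) hA hA hl (AlgebraicClosure ℚ_[l]),
      TateThmLib.sum_roots_eq _ (LinearMap.charpoly_monic _) (LinearMap.charpoly_monic _), hr]
    simp only [pow_two]
  let b := Module.finBasisOfFinrankEq ℤ (EndAV.Hom A A) hr'
  let J : EndAV.Hom A A →+ Additive (A ⟶ A) := AddMonoidHom.mk' (fun φ => Additive.ofMul φ.toHom) fun φ ψ => rfl
  have hJ : Function.Injective J := fun φ ψ h => EndAV.Hom.ext (Additive.ofMul.injective h)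
  refine ⟨fun i => (b i).toHom, fun i => inferInstance,
    b.linearIndependent.map' J.toIntLinearMap (LinearMap.ker_eq_bot.2 hJ), fun f hf => ?_⟩
  refine ⟨1, Nat.one_pos, fun i => b.repr (EndAV.Hom.of f) i, ?_⟩
  have h := congrArg J (b.sum_repr (EndAV.Hom.of f))
  rw [map_sum] at h
  simp only [map_zsmul] at h
  rw [pow_one]
  exact ((congrArg Additive.toMul h).symm.trans (toMul_sum _ _)).trans (Finset.prod_congr rfl fun i _ => toMul_zsmul _ _)

end Groth.Agent.S14946
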