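import Groth.Statements.S14947
import Groth.Agent.AVAmpleLib.BcDeg

set_option autoImplicit false
universe u
open CategoryTheory MonoidalCategory CartesianMonoidalCategory MonObj GrpObj AlgebraicGeometry
set_option linter.style.haveILetI false
set_option backward.isDefEq.respectTransparency false
open AbVar

namespace Groth.Agent.S14947

/-- Degree as determinant: let A be an abelian variety over a finite field k (a proper, geometrically
integral commutative group scheme over k), Ω an algebraic closure of k, l a prime invertible in k,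
and f an endomorphism of A (a homomorphism); assume (as is the case) that the l-adic Tate module of
Ω-points T_l A is free of finite rank over ℤ_l. If f is finite (an isogeny), its degree — the rank
of the finite flat morphism f at any point of A — equals the determinant of T_l(f); if f is not
finite, the determinant of T_l(f) is 0 (the degree of a non-isogeny being 0 by convention). (The
published statement is the l-independence of the characteristic polynomial of Frobenius; this row
states the identity deg f = det T_l(f) that its proof establishes for every endomorphism.) -/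
theorem result (k Ω : Type u) [Field k] [Finite k] [Field Ω] [Algebra k Ω] [IsAlgClosure k Ω]
    (l : ℕ) [Fact l.Prime] (hl : (l : k) ≠ 0) (A : Over (Spec (CommRingCat.of k)))
    [GrpObj A] [IsCommMonObj A] [IsProper A.hom] [GeometricallyIntegral A.hom]
    (f : A ⟶ A) [IsMonHom f]
    [Module.Free ℤ_[l] (AbDual.TateMod A l (SGA7.pt Ω))] [Module.Finite ℤ_[l] (AbDual.TateMod A l (SGA7.pt Ω))] :
    (IsFinite f.left → ∀ a : A.left,
        ((Scheme.Hom.finrank f.left a : ℕ) : ℤ_[l]) = LinearMap.det (AbDual.tateMapₗ (l := l) (T := SGA7.pt Ω) f)) ∧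
      (¬ IsFinite f.left → LinearMap.det (AbDual.tateMapₗ (l := l) (T := SGA7.pt Ω) f) = 0) := by
  haveI : IsAlgClosed Ω := IsAlgClosure.isAlgClosed k
  obtain ⟨g, hg⟩ := AVAmpleLib.exists_dim_field A
  letI : GrpObj ((AVAmpleLib.bcF Ω).obj A) := AVAmpleLib.grpBc Ω A
  haveI : IsCommMonObj ((AVAmpleLib.bcF Ω).obj A) := AVAmpleLib.commBc Ω A
  haveI := AVAmpleLib.proper_bc Ω A
  haveI := AVAmpleLib.gi_bc Ω A
  obtain ⟨P, -, hdeg, hchar, hP⟩ := AVAmpleLib.exists_charpoly_bc Ω A hg (EndAV.End.of f)
  have hl' : (l : Ω) ≠ 0 := fun h0 => hl ((algebraMap k Ω).injective (by rw [map_natCast, map_zero]; exact h0))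
  have hdet : LinearMap.det (AbDual.tateMapₗ (l := l) (T := SGA7.pt Ω) f) = ((P.eval 0 : ℤ) : ℤ_[l]) := by
    rw [LinearMap.det_eq_sign_charpoly_coeff, ← (AVAmpleLib.tate_free_finite_finrank_ext Ω A hg l hl').2.2.symm,
      show (AbDual.tateMapₗ (l := l) (T := SGA7.pt Ω) f).charpoly = P.map (Int.castRingHom ℤ_[l]) from hP l hl',
      Polynomial.coeff_map, Even.neg_one_pow (even_two_mul g), _root_.one_mul, Polynomial.coeff_zero_eq_eval_zero]
    rfl
  have hev : ((P.eval 0 : ℤ) : ℚ) = AVAmpleLib.ndeg g (AVAmpleLib.endBc Ω A (EndAV.End.of f)) := by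
    have h0 := hchar.2.2 0
    rw [Int.cast_zero, Int.cast_zero, sub_zero] at h0
    rw [← h0]
    simp [← Polynomial.coeff_zero_eq_eval_zero]
  obtain ⟨h1, h2⟩ := AVAmpleLib.finite_cases_bc Ω A hg (EndAV.End.of f) (EndAV.End.toHom_of f)
  refine ⟨fun hf a => ?_, fun hf => ?_⟩
  · have := (h1 hf a).trans hev.symm
    rw [hdet, show P.eval 0 = ((f.left.finrank a : ℕ) : ℤ) by exact_mod_cast this.symm, Int.cast_natCast]
  · have := hev.trans (h2 hf)
    rw [hdet, show P.eval 0 = 0 by exact_mod_cast this, Int.cast_zero]

end Groth.Agent.S14947
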