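import Groth.Statements.S14950
import Mathlib
import Groth.Agent.MilnorFlatLib.Basic
-- import your own Groth.Agent.* helpers here

set_option autoImplicit false
universe u
open TensorProduct
open EtAlg

namespace Groth.Agent.S14950

set_option maxHeartbeats 400000

/-- Let B' = B ×_A A' be a fibre product of commutative rings with A' → A surjective, let J be the
kernel of B' → B and L' a B'-module. The canonical map from L' to pairs in (B ⊗_{B'} L') × (A'
⊗_{B'} L') has kernel annihilated by J and contained in J L': if l ∈ L' satisfies 1 ⊗ l = 0 in B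
⊗_{B'} L' and 1 ⊗ l = 0 in A' ⊗_{B'} L', then j • l = 0 for every j ∈ J, and l ∈ J L'. (Surjectivity
of that map onto the compatible pairs is a separate result.) -/
theorem result (B' B A' A : Type u) [CommRing B'] [CommRing B] [CommRing A'] [CommRing A]
    [Algebra B' B] [Algebra B' A'] [Algebra B A] [Algebra A' A] [Algebra B' A] [IsScalarTower B' B A] [IsScalarTower B' A' A]
    (hsq : EtMil.IsFibreSquare B' B A' A)
    (L' : Type u) [AddCommGroup L'] [Module B' L'] (l : L')
    (h1 : ((1 : B) ⊗ₜ[B'] l : B ⊗[B'] L') = 0) (h2 : ((1 : A') ⊗ₜ[B'] l : A' ⊗[B'] L') = 0) :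
    (∀ j : B', algebraMap B' B j = 0 → j • l = 0) ∧
      l ∈ (RingHom.ker (algebraMap B' B)) • (⊤ : Submodule B' L') := by
  have hB := Groth.Agent.MilnorFlatLib.surjective_fst hsq
  refine ⟨fun j hj => ?_, ?_⟩
  · have hkI : algebraMap B' A' j ∈ RingHom.ker (algebraMap A' A) := by
      rw [RingHom.mem_ker, ← IsScalarTower.algebraMap_apply, IsScalarTower.algebraMap_apply B' B A,
        hj, map_zero]
    choose f hf1 hf2 using fun a : A' => Groth.Agent.MilnorFlatLib.exists_of_ker hsq
      (a := a * algebraMap B' A' j) ((RingHom.ker (algebraMap A' A)).mul_mem_left a hkI)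
    let μ : A' →ₗ[B'] B' :=
      { toFun := f
        map_add' := fun a b => Groth.Agent.MilnorFlatLib.eq_of_fst_snd hsq (by simp [hf1])
          (by simp [hf2, add_mul])
        map_smul' := fun r a => Groth.Agent.MilnorFlatLib.eq_of_fst_snd hsq (by simp [hf1])
          (by simp [hf2, Algebra.smul_def, mul_assoc]) }
    have h1' : μ 1 = j := Groth.Agent.MilnorFlatLib.eq_of_fst_snd hsq ((hf1 1).trans hj.symm)
      ((hf2 1).trans (one_mul _))
    have h := congrArg (TensorProduct.lift ((LinearMap.lsmul B' L').comp μ)) h2
    rw [map_zero, TensorProduct.lift.tmul, LinearMap.comp_apply, h1'] at h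
    exact h
  · let φ : B' →ₗ[B'] B := Algebra.linearMap B' B
    have h0 : φ.rTensor L' ((1 : B') ⊗ₜ[B'] l) = 0 := by
      rw [LinearMap.rTensor_tmul]
      simpa [φ] using h1
    obtain ⟨w, hw⟩ := (rTensor_exact L' (LinearMap.exact_subtype_ker_map φ) hB _).1 h0
    have hl : l = TensorProduct.lid B' L' ((LinearMap.ker φ).subtype.rTensor L' w) := by
      rw [hw, TensorProduct.lid_tmul, one_smul]
    rw [hl]
    clear hl hw
    induction w using TensorProduct.induction_on with
    | zero => simp
    | add a b ha hb => rw [map_add, map_add]; exact add_mem ha hb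
    | tmul k d =>
      rw [LinearMap.rTensor_tmul, TensorProduct.lid_tmul]
      exact Submodule.smul_mem_smul k.2 trivial

end Groth.Agent.S14950
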