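import Groth.Statements.S14955
import Mathlib

set_option autoImplicit false
universe u
open TensorProduct
open EtAlg

namespace Groth.Agent.S14955

/-- Let B' = B ×_A A' be a fibre product of commutative rings with A' → A surjective. Then the square is
also a pushout of commutative rings: the canonical map B ⊗_{B'} A' → A is an isomorphism. -/
theorem result (B' B A' A : Type u) [CommRing B'] [CommRing B] [CommRing A'] [CommRing A]
    [Algebra B' B] [Algebra B' A'] [Algebra B A] [Algebra A' A] [Algebra B' A] [IsScalarTower B' B A] [IsScalarTower B' A' A]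
    (hsq : EtMil.IsFibreSquare B' B A' A) : Algebra.IsPushout B' B A' A := by
  obtain ⟨hs, hf⟩ := hsq
  have hB : Function.Surjective (algebraMap B' B) := fun b => by
    obtain ⟨a', ha'⟩ := hs (algebraMap B A b)
    obtain ⟨b', ⟨h1, -⟩, -⟩ := hf b a' ha'.symm
    exact ⟨b', h1⟩
  let g : B ⊗[B'] A' →ₗ[B] A := LinearMap.liftBaseChange B (IsScalarTower.toAlgHom B' A' A).toLinearMap
  have h1 : ∀ z : B ⊗[B'] A', ∃ a : A', z = 1 ⊗ₜ a := fun z => by
    induction z using TensorProduct.induction_on with
    | zero => exact ⟨0, by simp⟩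
    | add x y hx hy =>
      obtain ⟨a, rfl⟩ := hx
      obtain ⟨c, rfl⟩ := hy
      exact ⟨a + c, by rw [TensorProduct.tmul_add]⟩
    | tmul b a =>
      obtain ⟨b', rfl⟩ := hB b
      exact ⟨b' • a, by rw [Algebra.algebraMap_eq_smul_one, TensorProduct.smul_tmul]⟩
  have hg : Function.Bijective g := by
    refine ⟨(injective_iff_map_eq_zero g).mpr fun z hz => ?_, fun a => ?_⟩
    · obtain ⟨a, rfl⟩ := h1 z
      simp only [g, LinearMap.liftBaseChange_tmul, one_smul, AlgHom.toLinearMap_apply,
        IsScalarTower.coe_toAlgHom'] at hz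
      obtain ⟨b', ⟨hb, ha⟩, -⟩ := hf 0 a (by simp [hz])
      rw [← ha, Algebra.algebraMap_eq_smul_one, ← TensorProduct.smul_tmul,
        ← Algebra.algebraMap_eq_smul_one, hb, TensorProduct.zero_tmul]
    · obtain ⟨a', rfl⟩ := hs a
      exact ⟨1 ⊗ₜ a', by simp [g]⟩
  exact ⟨IsBaseChange.of_equiv (LinearEquiv.ofBijective g hg) fun x => by simp [g]⟩

end Groth.Agent.S14955
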