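import Groth.Statements.S14957
import Mathlib.LinearAlgebra.Prod
-- import your own Groth.Agent.* helpers here

set_option autoImplicit false
universe u
open CAlg

namespace Groth.Agent.S14957

/-- Let A be a commutative ring and u : M → M', w : M → N, w' : M' → N', v : N → N' a commutative square
of A-linear maps (w' ∘ u = v ∘ w). The square is cartesian, i.e. the induced map M → N ×_{N'} M' is
bijective, if and only if u induces a bijection from ker w onto ker w' and v induces an injection
from coker w into coker w'. Here the three conditions are written elementwise. -/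
theorem result (A : Type u) [CommRing A]
    (M M' N N' : Type u) [AddCommGroup M] [Module A M] [AddCommGroup M'] [Module A M']
    [AddCommGroup N] [Module A N] [AddCommGroup N'] [Module A N']
    (u : M →ₗ[A] M') (w : M →ₗ[A] N) (w' : M' →ₗ[A] N') (v : N →ₗ[A] N') (hc : w'.comp u = v.comp w) :
    (Function.Injective (w.prod u) ∧ ∀ (x : N) (y : M'), v x = w' y → ∃ m : M, w m = x ∧ u m = y) ↔
    (LinearMap.ker w ⊓ LinearMap.ker u = ⊥ ∧ Submodule.map u (LinearMap.ker w) = LinearMap.ker w' ∧
      ∀ x : N, v x ∈ LinearMap.range w' → x ∈ LinearMap.range w) := by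
  have hcx : ∀ m, w' (u m) = v (w m) := fun m => LinearMap.congr_fun hc m
  constructor
  · rintro ⟨hi, hs⟩
    refine ⟨?_, ?_, fun x ⟨y, hy⟩ => ?_⟩
    · refine eq_bot_iff.mpr fun m hm => hi ?_
      simp only [Submodule.mem_inf, LinearMap.mem_ker] at hm
      simp [hm.1, hm.2]
    · ext y
      refine ⟨fun ⟨m, hm, e⟩ => ?_, fun hy => ?_⟩
      · rw [← e, LinearMap.mem_ker, hcx, LinearMap.mem_ker.mp hm, map_zero]
      · obtain ⟨m, h1, h2⟩ := hs 0 y (by rw [map_zero, LinearMap.mem_ker.mp hy])
        exact ⟨m, h1, h2⟩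
    · obtain ⟨m, h1, -⟩ := hs x y hy.symm
      exact ⟨m, h1⟩
  · rintro ⟨h1, h2, h3⟩
    refine ⟨fun a b hab => ?_, fun x y hxy => ?_⟩
    · obtain ⟨hw, hu⟩ := Prod.ext_iff.mp hab
      refine sub_eq_zero.mp ((Submodule.mem_bot A).mp (h1.le ⟨?_, ?_⟩))
      · simpa [sub_eq_zero] using hw
      · simpa [sub_eq_zero] using hu
    · obtain ⟨m, rfl⟩ := h3 x ⟨y, hxy.symm⟩
      obtain ⟨m', hm', e⟩ := h2.ge (show y - u m ∈ LinearMap.ker w' by rw [LinearMap.mem_ker, map_sub, hcx, hxy, sub_self])
      exact ⟨m + m', by rw [map_add, LinearMap.mem_ker.mp hm', add_zero], by rw [map_add, e, add_sub_cancel]⟩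

end Groth.Agent.S14957
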