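import Groth.Statements.S14958
import Groth.Agent.FlatCxLib.Homology
import Mathlib

set_option autoImplicit false
universe u
open TensorProduct CategoryTheory CategoryTheory.Limits
open EtAlg

namespace Groth.Agent.S14958

/-- Lifting a map out of a projective module through the kernel of an exact pair. -/
theorem exists_lift {R : Type u} [CommRing R] {P M N K : Type u} [AddCommGroup P] [Module R P] [Module.Projective R P]
    [AddCommGroup M] [Module R M] [AddCommGroup N] [Module R N] [AddCommGroup K] [Module R K]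
    (f : K →ₗ[R] M) (g : M →ₗ[R] N) (h : Function.Exact f g) (φ : P →ₗ[R] M) (hφ : g ∘ₗ φ = 0) :
    ∃ ψ : P →ₗ[R] K, f ∘ₗ ψ = φ := by
  obtain ⟨ψ, hψ⟩ := Module.projective_lifting_property f.rangeRestrict
    (φ.codRestrict (LinearMap.range f) fun x => (h _).1 (LinearMap.congr_fun hφ x)) f.surjective_rangeRestrict
  exact ⟨ψ, LinearMap.ext fun x => congrArg Subtype.val (LinearMap.congr_fun hψ x)⟩

instance leftDerived_additive {C : Type*} [Category C] {D : Type*} [Category D] [Abelian C]
    [HasProjectiveResolutions C] [Abelian D] (F : C ⥤ D) [F.Additive] (n : ℕ) :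
    (F.leftDerived n).Additive where
  map_add {X Y f g} := by
    rw [Functor.leftDerived_map_eq F n (f + g) (P := projectiveResolution X) (Q := projectiveResolution Y)
        (ProjectiveResolution.lift f _ _ + ProjectiveResolution.lift g _ _) (by
          rw [Preadditive.add_comp, ProjectiveResolution.lift_commutes, ProjectiveResolution.lift_commutes,
            Functor.map_add, Preadditive.comp_add]),
      Functor.leftDerived_map_eq F n f _ (ProjectiveResolution.lift_commutes f
        (projectiveResolution X) (projectiveResolution Y)),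
      Functor.leftDerived_map_eq F n g _ (ProjectiveResolution.lift_commutes g
        (projectiveResolution X) (projectiveResolution Y)),
      Functor.map_add, Preadditive.add_comp, Preadditive.comp_add]

/-- For `0 → R → X → A → 0` exact, `L → L ⊗ X` is injective iff `Tor₁(L, X) → Tor₁(L, A)` is onto. -/
theorem core {R : Type u} [CommRing R] (L X A : ModuleCat.{u} R) (ι : R →ₗ[R] X) (p : X ⟶ A)
    (hinj : Function.Injective ι) (hex : Function.Exact ι p.hom) (hsurj : Function.Surjective p.hom) :
    (∀ l : L, (l ⊗ₜ[R] ι 1 : L ⊗[R] X) = 0 → l = 0) ↔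
      Epi (((Tor (ModuleCat.{u} R) 1).obj L).map p) := by
  let PX := projectiveResolution X
  let PA := projectiveResolution A
  let h := ProjectiveResolution.lift p PX PA
  let G := (MonoidalCategory.tensoringLeft (ModuleCat.{u} R)).obj L
  let φ := (G.mapHomologicalComplex (ComplexShape.down ℕ)).map h
  have hnat := ProjectiveResolution.isoLeftDerivedObj_hom_naturality p PX PA h
    (ProjectiveResolution.lift_commutes_zero p PX PA) G 1
  have hepi : Epi (((Tor (ModuleCat.{u} R) 1).obj L).map p) ↔
      Function.Surjective (HomologicalComplex.homologyMap φ 1).hom := by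
    rw [← ModuleCat.epi_iff_surjective]
    constructor
    · intro hE
      have e : HomologicalComplex.homologyMap φ 1 = (PX.isoLeftDerivedObj G 1).inv ≫
          (G.leftDerived 1).map p ≫ (PA.isoLeftDerivedObj G 1).hom := by
        rw [hnat, Iso.inv_hom_id_assoc]; rfl
      rw [e]
      haveI : Epi ((G.leftDerived 1).map p) := hE
      exact @epi_comp _ _ _ _ _ _ inferInstance _ (epi_comp ((G.leftDerived 1).map p) (PA.isoLeftDerivedObj G 1).hom)
    · intro hE
      show Epi ((G.leftDerived 1).map p)
      have e : (G.leftDerived 1).map p = ((PX.isoLeftDerivedObj G 1).hom ≫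
          (G.mapHomologicalComplex _ ⋙ HomologicalComplex.homologyFunctor _ _ 1).map h) ≫
            (PA.isoLeftDerivedObj G 1).inv := by
        rw [← hnat, Category.assoc, Iso.hom_inv_id, Category.comp_id]
      rw [e]
      haveI : Epi ((G.mapHomologicalComplex _ ⋙ HomologicalComplex.homologyFunctor _ _ 1).map h) := hE
      infer_instance
  rw [hepi, FlatCxLib.surjective_homologyMap_iff (i := 1) (k := 0) (by simp) φ 2 (by simp)]
  haveI : ∀ n, Module.Projective R (PA.complex.X n) := fun n =>
    (IsProjective.iff_projective _).2 (PA.projective n)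
  haveI : ∀ n, Module.Projective R (PX.complex.X n) := fun n =>
    (IsProjective.iff_projective _).2 (PX.projective n)
  let a : PA.complex.X 0 →ₗ[R] A := (PA.π.f 0).hom
  let b : PX.complex.X 0 →ₗ[R] X := (PX.π.f 0).hom
  let d1 := (PA.complex.d 1 0).hom
  let d2 := (PA.complex.d 2 1).hom
  let e1 := (PX.complex.d 1 0).hom
  let h0 := (h.f 0).hom
  let h1 := (h.f 1).hom
  have hexA0 : Function.Exact d1 a :=
    (ShortComplex.ShortExact.moduleCat_exact_iff_function_exact _).1 PA.exact₀
  have hexX0 : Function.Exact e1 b :=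
    (ShortComplex.ShortExact.moduleCat_exact_iff_function_exact _).1 PX.exact₀
  have hexA1 : Function.Exact d2 d1 :=
    (ShortComplex.ShortExact.moduleCat_exact_iff_function_exact _).1 (PA.exact_succ 0)
  have hb : Function.Surjective b := (ModuleCat.epi_iff_surjective _).1 inferInstance
  have hh0 : a ∘ₗ h0 = p.hom ∘ₗ b :=
    congrArg ModuleCat.Hom.hom (ProjectiveResolution.lift_commutes_zero p PX PA)
  have hh1 : d1 ∘ₗ h1 = h0 ∘ₗ e1 := congrArg ModuleCat.Hom.hom (h.comm 1 0)
  obtain ⟨γ0, hγ0⟩ := Module.projective_lifting_property p.hom a hsurj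
  obtain ⟨γ1, hγ1⟩ := exists_lift ι p.hom hex (γ0 ∘ₗ d1) (LinearMap.ext fun x => by
    have := LinearMap.congr_fun hγ0 (d1 x)
    simp only [LinearMap.comp_apply] at this ⊢
    rw [this, hexA0.apply_apply_eq_zero]
    rfl)
  have hγ1d2 : γ1 ∘ₗ d2 = 0 := LinearMap.ext fun x => hinj (by
    have := LinearMap.congr_fun hγ1 (d2 x)
    simp only [LinearMap.comp_apply] at this ⊢
    rw [this, hexA1.apply_apply_eq_zero, map_zero, LinearMap.zero_apply, map_zero])
  let D : PA.complex.X 1 →ₗ[R] R × PA.complex.X 0 := (-γ1).prod d1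
  let e : R × PA.complex.X 0 →ₗ[R] X := ι.coprod γ0
  have hDe : Function.Exact D e := by
    intro x
    constructor
    · intro hx
      have h2 : ι x.1 + γ0 x.2 = 0 := hx
      have h3 : a x.2 = 0 := by
        have := congrArg p.hom h2
        rw [map_add, map_zero, hex.apply_apply_eq_zero, zero_add] at this
        exact (LinearMap.congr_fun hγ0 x.2).symm.trans this
      obtain ⟨q, hq⟩ := (hexA0 _).1 h3
      refine ⟨q, Prod.ext (hinj ?_) hq⟩
      show ι ((-γ1) q) = ι x.1
      rw [LinearMap.neg_apply, map_neg]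
      have h4 := LinearMap.congr_fun hγ1 q
      simp only [LinearMap.comp_apply] at h4
      rw [h4, hq]
      exact (eq_neg_of_add_eq_zero_left h2).symm
    · rintro ⟨q, rfl⟩
      show ι ((-γ1) q) + γ0 (d1 q) = 0
      rw [LinearMap.neg_apply, map_neg]
      have h4 := LinearMap.congr_fun hγ1 q
      simp only [LinearMap.comp_apply] at h4
      rw [h4, neg_add_cancel]
  have he : Function.Surjective e := fun x => by
    obtain ⟨y, hy⟩ : ∃ y, a y = p.hom x := by
      haveI : Epi (PA.π.f 0) := inferInstance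
      exact (ModuleCat.epi_iff_surjective _).1 this (p.hom x)
    obtain ⟨r, hr⟩ := (hex (x - γ0 y)).1 (by
      rw [map_sub, ← hy]; exact sub_eq_zero.2 (LinearMap.congr_fun hγ0 y).symm)
    exact ⟨(r, y), by show ι r + γ0 y = x; rw [hr, sub_add_cancel]⟩
  let Γ : L ⊗[R] PA.complex.X 1 →ₗ[R] L := (TensorProduct.rid R L).toLinearMap ∘ₗ γ1.lTensor L
  have hrid : ∀ z : L ⊗[R] R, z = TensorProduct.rid R L z ⊗ₜ 1 := fun z =>
    (((TensorProduct.rid R L).symm_apply_apply z).symm.trans (TensorProduct.rid_symm_apply _))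
  constructor
  · intro hν (y : L ⊗[R] PA.complex.X 1) hy
    change d1.lTensor L y = 0 at hy
    have hΓ : Γ y = 0 := by
      refine hν _ ?_
      have h5 : ι.lTensor L (γ1.lTensor L y) = 0 := by
        rw [← LinearMap.comp_apply, ← LinearMap.lTensor_comp, hγ1, LinearMap.lTensor_comp,
          LinearMap.comp_apply, hy, map_zero]
      rw [hrid (γ1.lTensor L y)] at h5
      simpa [Γ] using h5
    have hD : D.lTensor L y = 0 := by
      have hDdef : D = LinearMap.inl R R (PA.complex.X 0) ∘ₗ (-γ1) +
          LinearMap.inr R R (PA.complex.X 0) ∘ₗ d1 := LinearMap.ext fun q => by simp [D]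
      rw [hDdef, LinearMap.lTensor_add, LinearMap.add_apply, LinearMap.lTensor_comp,
        LinearMap.lTensor_comp, LinearMap.comp_apply, LinearMap.comp_apply, hy, map_zero, add_zero,
        LinearMap.lTensor_neg, LinearMap.neg_apply, hrid (γ1.lTensor L y)]
      rw [show TensorProduct.rid R L (γ1.lTensor L y) = 0 from hΓ, TensorProduct.zero_tmul, neg_zero,
        map_zero]
    obtain ⟨g0, hg0⟩ := Module.projective_lifting_property b e hb
    obtain ⟨g1, hg1⟩ := exists_lift e1 b hexX0 (g0 ∘ₗ D) (by
      rw [← LinearMap.comp_assoc, hg0]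
      exact LinearMap.ext fun q => hDe.apply_apply_eq_zero q)
    obtain ⟨s, hs⟩ := exists_lift d1 a hexA0 (h0 ∘ₗ g0 - LinearMap.snd R R _) (by
      rw [LinearMap.comp_sub, ← LinearMap.comp_assoc, hh0, LinearMap.comp_assoc, hg0, sub_eq_zero]
      refine LinearMap.ext fun x => ?_
      show p.hom (ι x.1 + γ0 x.2) = a x.2
      rw [map_add, hex.apply_apply_eq_zero, zero_add]
      exact LinearMap.congr_fun hγ0 x.2)
    obtain ⟨t, ht⟩ := exists_lift d2 d1 hexA1 (h1 ∘ₗ g1 - LinearMap.id - s ∘ₗ D) (by
      rw [LinearMap.comp_sub, LinearMap.comp_sub, LinearMap.comp_id, ← LinearMap.comp_assoc, hh1,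
        LinearMap.comp_assoc, hg1, ← LinearMap.comp_assoc D s d1,
        hs, LinearMap.sub_comp, LinearMap.comp_assoc]
      have : LinearMap.snd R R (PA.complex.X 0) ∘ₗ D = d1 := LinearMap.ext fun q => rfl
      rw [this, sub_self])
    refine ⟨g1.lTensor L y, ?_, t.lTensor L y, ?_⟩
    · change e1.lTensor L (g1.lTensor L y) = 0
      rw [← LinearMap.comp_apply, ← LinearMap.lTensor_comp, hg1, LinearMap.lTensor_comp,
        LinearMap.comp_apply, hD, map_zero]
    · show d2.lTensor L (t.lTensor L y) = h1.lTensor L (g1.lTensor L y) - (y : L ⊗[R] PA.complex.X 1)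
      rw [← LinearMap.comp_apply, ← LinearMap.lTensor_comp, ht, LinearMap.lTensor_sub, LinearMap.lTensor_sub,
        LinearMap.sub_apply, LinearMap.sub_apply, LinearMap.lTensor_comp, LinearMap.lTensor_comp,
        LinearMap.comp_apply, LinearMap.comp_apply, hD, map_zero, sub_zero, LinearMap.lTensor_id,
        LinearMap.id_apply]
  · intro hS l hl
    have hlT := lTensor_exact L hDe he
    have h0' : e.lTensor L (l ⊗ₜ ((1 : R), (0 : PA.complex.X 0))) = 0 := by
      rw [LinearMap.lTensor_tmul]
      simpa [e] using hl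
    obtain ⟨w, hw⟩ := (hlT _).1 h0'
    have hdw : d1.lTensor L w = 0 := by
      have := congrArg ((LinearMap.snd R R (PA.complex.X 0)).lTensor L) hw
      rw [← LinearMap.comp_apply, ← LinearMap.lTensor_comp] at this
      simpa [D] using this
    have hΓw : Γ w = -l := by
      have := congrArg (fun z => TensorProduct.rid R L ((LinearMap.fst R R (PA.complex.X 0)).lTensor L z)) hw
      simp only [← LinearMap.comp_apply (LinearMap.lTensor L _), ← LinearMap.lTensor_comp] at this
      have hf : LinearMap.fst R R (PA.complex.X 0) ∘ₗ D = -γ1 := LinearMap.ext fun q => rfl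
      rw [hf, LinearMap.lTensor_neg, LinearMap.neg_apply, map_neg] at this
      simp only [LinearMap.lTensor_tmul, LinearMap.fst_apply, TensorProduct.rid_tmul, one_smul] at this
      rw [← this, neg_neg]
      rfl
    obtain ⟨x, hx, u, hu⟩ := hS w hdw
    change e1.lTensor L x = 0 at hx
    change d2.lTensor L u = h1.lTensor L x - w at hu
    obtain ⟨s0, hs0⟩ := exists_lift ι p.hom hex (γ0 ∘ₗ h0 - b) (by
      rw [LinearMap.comp_sub, ← LinearMap.comp_assoc, hγ0, hh0, sub_self])
    have hsd : γ1 ∘ₗ h1 = s0 ∘ₗ e1 := by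
      refine LinearMap.ext fun q => hinj ?_
      have e1' := LinearMap.congr_fun hγ1 (h1 q)
      have e2 := LinearMap.congr_fun hs0 (e1 q)
      have e3 := LinearMap.congr_fun hh1 q
      simp only [LinearMap.comp_apply, LinearMap.sub_apply] at e1' e2 e3 ⊢
      rw [e1', e2, e3, hexX0.apply_apply_eq_zero, sub_zero]
    have h6 : γ1.lTensor L (h1.lTensor L x) = 0 := by
      rw [← LinearMap.comp_apply, ← LinearMap.lTensor_comp, hsd, LinearMap.lTensor_comp,
        LinearMap.comp_apply, hx, map_zero]
    have h7 : γ1.lTensor L (d2.lTensor L u) = 0 := by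
      rw [← LinearMap.comp_apply, ← LinearMap.lTensor_comp, hγ1d2, LinearMap.lTensor_zero,
        LinearMap.zero_apply]
    rw [hu, map_sub, h6, zero_sub, neg_eq_zero] at h7
    have : Γ w = 0 := by simp [Γ, h7]
    rwa [hΓw, neg_eq_zero] at this

/-- Let B' = B ×_A A' be a fibre product of commutative rings with A' → A surjective and L' a B'-module.
Then L' is a fixed point of the glueing adjunction, i.e. the canonical map from L' to the compatible
pairs in (B ⊗_{B'} L') × (A' ⊗_{B'} L') is injective (it is always surjective), if and only if the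
map Tor_1(L', B) ⊕ Tor_1(L', A') → Tor_1(L', A) over B' induced by B → A and A' → A is surjective.
Here Tor_1(L', –) is the first left derived functor of L' ⊗_{B'} – on B'-modules. -/
theorem result (B' B A' A : Type u) [CommRing B'] [CommRing B] [CommRing A'] [CommRing A]
    [Algebra B' B] [Algebra B' A'] [Algebra B A] [Algebra A' A] [Algebra B' A] [IsScalarTower B' B A] [IsScalarTower B' A' A]
    (hsq : EtMil.IsFibreSquare B' B A' A)
    (L' : Type u) [AddCommGroup L'] [Module B' L'] :
    (∀ l : L', ((1 : B) ⊗ₜ[B'] l : B ⊗[B'] L') = 0 → ((1 : A') ⊗ₜ[B'] l : A' ⊗[B'] L') = 0 → l = 0) ↔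
    Epi (biprod.desc
      (((Tor (ModuleCat.{u} B') 1).obj (ModuleCat.of B' L')).map
        (ModuleCat.ofHom (IsScalarTower.toAlgHom B' B A).toLinearMap))
      (((Tor (ModuleCat.{u} B') 1).obj (ModuleCat.of B' L')).map
        (ModuleCat.ofHom (IsScalarTower.toAlgHom B' A' A).toLinearMap))) := by
  obtain ⟨hs, hu⟩ := hsq
  let X : ModuleCat.{u} B' := ModuleCat.of B' (B × A')
  let fB : B →ₗ[B'] A := (IsScalarTower.toAlgHom B' B A).toLinearMap
  let fA : A' →ₗ[B'] A := (IsScalarTower.toAlgHom B' A' A).toLinearMap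
  let ι : B' →ₗ[B'] B × A' := LinearMap.toSpanSingleton B' (B × A') (1, -1)
  have hι : ∀ c, ι c = (algebraMap B' B c, -algebraMap B' A' c) := fun c => by
    simp [ι, Algebra.algebraMap_eq_smul_one]
  let p : X ⟶ ModuleCat.of B' A := ModuleCat.ofHom (fB.coprod fA)
  have hinj : Function.Injective ι := fun c c' hc => by
    rw [hι, hι, Prod.mk.injEq, neg_inj] at hc
    obtain ⟨w, -, hw⟩ := hu (algebraMap B' B c) (algebraMap B' A' c) (by
      rw [← IsScalarTower.algebraMap_apply, ← IsScalarTower.algebraMap_apply])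
    rw [hw c ⟨rfl, rfl⟩, hw c' ⟨hc.1.symm, hc.2.symm⟩]
  have hex : Function.Exact ι p.hom := by
    rintro ⟨b, a'⟩
    constructor
    · intro hx
      have h1 : algebraMap B A b + algebraMap A' A a' = 0 := hx
      obtain ⟨c, ⟨hc1, hc2⟩, -⟩ := hu b (-a') (by rw [map_neg]; exact eq_neg_of_add_eq_zero_left h1)
      exact ⟨c, by rw [hι, hc1, hc2, neg_neg]⟩
    · rintro ⟨c, hc⟩
      rw [hι] at hc
      rw [← hc]
      show algebraMap B A (algebraMap B' B c) + algebraMap A' A (-algebraMap B' A' c) = 0
      rw [map_neg, ← IsScalarTower.algebraMap_apply, ← IsScalarTower.algebraMap_apply, add_neg_cancel]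
  have hsurj : Function.Surjective p.hom := fun a => by
    obtain ⟨a', rfl⟩ := hs a
    exact ⟨((0 : B), a'), by
      show algebraMap B A 0 + algebraMap A' A a' = _
      rw [map_zero, zero_add]⟩
  have hkey := core (ModuleCat.of B' L') X (ModuleCat.of B' A) ι p hinj hex hsurj
  have hcond : ∀ l : L', (l ⊗ₜ[B'] ι 1 : L' ⊗[B'] (B × A')) = 0 ↔
      ((1 : B) ⊗ₜ[B'] l : B ⊗[B'] L') = 0 ∧ ((1 : A') ⊗ₜ[B'] l : A' ⊗[B'] L') = 0 := by
    intro l
    rw [← (TensorProduct.prodRight B' B' L' B A').map_eq_zero_iff, TensorProduct.prodRight_tmul, hι,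
      map_one, map_one, Prod.mk_eq_zero, TensorProduct.tmul_neg, neg_eq_zero,
      ← (TensorProduct.comm B' L' B).map_eq_zero_iff, ← (TensorProduct.comm B' L' A').map_eq_zero_iff,
      TensorProduct.comm_tmul, TensorProduct.comm_tmul]
  let T := (Tor (ModuleCat.{u} B') 1).obj (ModuleCat.of B' L')
  let iB : ModuleCat.of B' B ⟶ X := ModuleCat.ofHom (LinearMap.inl B' B A')
  let iA : ModuleCat.of B' A' ⟶ X := ModuleCat.ofHom (LinearMap.inr B' B A')
  have hB : iB ≫ p = ModuleCat.ofHom fB := ModuleCat.hom_ext (LinearMap.coprod_inl fB fA)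
  have hA : iA ≫ p = ModuleCat.ofHom fA := ModuleCat.hom_ext (LinearMap.coprod_inr fB fA)
  haveI : T.Additive := leftDerived_additive _ 1
  have hepi0 : Epi (biprod.desc (T.map iB) (T.map iA)) := by
    let qB : X ⟶ ModuleCat.of B' B := ModuleCat.ofHom (LinearMap.fst B' B A')
    let qA : X ⟶ ModuleCat.of B' A' := ModuleCat.ofHom (LinearMap.snd B' B A')
    haveI : IsSplitEpi (biprod.desc (T.map iB) (T.map iA)) := IsSplitEpi.mk'
      ⟨biprod.lift (T.map qB) (T.map qA), by
        rw [biprod.lift_desc, ← T.map_comp, ← T.map_comp, ← T.map_add, ← T.map_id]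
        congr 1
        ext x <;> simp [iB, iA, qB, qA]⟩
    infer_instance
  have hfac : biprod.desc (T.map (ModuleCat.ofHom fB)) (T.map (ModuleCat.ofHom fA)) =
      biprod.desc (T.map iB) (T.map iA) ≫ T.map p := by
    rw [← hB, ← hA, T.map_comp, T.map_comp]
    apply biprod.hom_ext' <;> simp
  constructor
  · intro hl
    show Epi (biprod.desc (T.map (ModuleCat.ofHom fB)) (T.map (ModuleCat.ofHom fA)))
    rw [hfac]
    haveI : Epi (T.map p) := hkey.1 fun l h => hl l ((hcond l).1 h).1 ((hcond l).1 h).2
    exact epi_comp _ _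
  · intro hE l h1 h2
    haveI : Epi (biprod.desc (T.map iB) (T.map iA) ≫ T.map p) := hfac ▸ hE
    exact hkey.2 (epi_of_epi (biprod.desc (T.map iB) (T.map iA)) (T.map p)) l ((hcond l).2 ⟨h1, h2⟩)

end Groth.Agent.S14958
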