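import Groth.Statements.S1497
import Groth.Agent.S9710
import Groth.Agent.PnCohLib.FlatCriterion
import Groth.Agent.MiscFlat6.RelAmpleCompPowers
import Groth.Agent.ChowLib.Embed

set_option autoImplicit false
set_option linter.all false
universe u
attribute [local instance] HasDerivedCategory.standard
open FlatMor

namespace Groth.Agent.S1497

open AlgebraicGeometry CategoryTheory Limits in
/-- Let S be a scheme with an ample invertible sheaf and f : X → S a morphism. Then f is a quasi-compact
immersion into some projective space P^n_S over S if and only if f is of finite type and X has an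
ample invertible sheaf. -/
theorem result {X S : Scheme.{u}} (hS : ∃ N : S.Modules, CohB1.IsAmple N) (f : X ⟶ S) :
    (∃ (n : ℕ) (i : X ⟶ CohB1.ProjSpaceOver n S), IsImmersion i ∧ QuasiCompact i ∧ i ≫ pullback.snd (CohB1.ProjSpace.toSpec n (ULift.{u} ℤ)) (specULiftZIsTerminal.from S) = f) ↔
      (LocallyOfFiniteType f ∧ QuasiCompact f ∧ ∃ L : X.Modules, CohB1.IsAmple L) := by
  obtain ⟨N, hN⟩ := hS
  haveI : CompactSpace S := hN.2.1
  haveI : QuasiSeparatedSpace S := AmpleThLib.quasiSeparatedSpace_of_isAmple hN
  constructor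
  · rintro ⟨n, i, hi, hqc, rfl⟩
    haveI := hi
    haveI := hqc
    haveI : IsProper (CohB1.ProjSpaceOver.toBase n S) := ChowLib.isProper_toBase n S
    let f := i ≫ CohB1.ProjSpaceOver.toBase n S
    haveI : QuasiCompact f := inferInstance
    haveI : LocallyOfFiniteType f := inferInstance
    haveI : CompactSpace X := QuasiCompact.compactSpace_of_compactSpace f
    haveI : QuasiSeparatedSpace X := quasiSeparatedSpace_of_quasiSeparated f
    refine ⟨(inferInstance : LocallyOfFiniteType f), (inferInstance : QuasiCompact f), ?_⟩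
    have hR : RelAmple.IsRelAmple f ((Scheme.Modules.pullback i).obj (Twist.twistOver n S 1)) :=
      ⟨inferInstance, fun V => PnCohLib.isAmple_twist_restrict i V.2⟩
    obtain ⟨n₀, hn⟩ := MiscFlat6.exists_isAmple_tensor_pullback f hR hN
    exact ⟨_, hn n₀ le_rfl⟩
  · rintro ⟨hlft, hqc, L, hL⟩
    haveI := hlft
    haveI := hqc
    obtain ⟨d₀, -, hd⟩ := Groth.Agent.S9710.result f L hL
    obtain ⟨n, i, hi, hif, -⟩ := hd d₀ le_rfl
    haveI : IsProper (CohB1.ProjSpaceOver.toBase n S) := ChowLib.isProper_toBase n S
    haveI : QuasiSeparatedSpace ↥(CohB1.ProjSpaceOver n S) :=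
      quasiSeparatedSpace_of_quasiSeparated (CohB1.ProjSpaceOver.toBase n S)
    haveI : CompactSpace X := hL.2.1
    exact ⟨n, i, hi, quasiCompact_of_compactSpace i, hif⟩

end Groth.Agent.S1497
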