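import Groth.Statements.S1496
import Groth.Agent.S1497
import Groth.Agent.S9815
import Groth.Agent.AmpleDevLib.Components
import Groth.Agent.AmpleDevLib.Pull

set_option autoImplicit false
set_option linter.all false
universe u
attribute [local instance] HasDerivedCategory.standard
open FlatMor

namespace Groth.Agent.S1496

open AlgebraicGeometry CategoryTheory Limits in
/-- Let S be a scheme carrying an ample invertible sheaf and f : X → S a morphism. Then f is a closed
immersion into some projective space over S (f factors as a closed immersion X → Pⁿ_S followed by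
the projection Pⁿ_S → S, for some n) if and only if f is proper and X carries an ample invertible
sheaf; and the latter holds if and only if f is proper and some O_X-module is ample relative to f. -/
theorem result {X S : Scheme.{u}} (hS : ∃ N : S.Modules, CohB1.IsAmple N) (f : X ⟶ S) :
    ((∃ (n : ℕ) (i : X ⟶ CohB1.ProjSpaceOver n S), IsClosedImmersion i ∧ i ≫ pullback.snd (CohB1.ProjSpace.toSpec n (ULift.{u} ℤ)) (specULiftZIsTerminal.from S) = f) ↔
      (IsProper f ∧ ∃ L : X.Modules, CohB1.IsAmple L)) ∧
    ((IsProper f ∧ ∃ L : X.Modules, CohB1.IsAmple L) ↔ (IsProper f ∧ ∃ L : X.Modules, RelAmple.IsRelAmple f L)) := by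
  have h1497 := Groth.Agent.S1497.result hS f
  obtain ⟨N, hN⟩ := hS
  haveI : CompactSpace S := hN.2.1
  haveI : QuasiSeparatedSpace S := AmpleThLib.quasiSeparatedSpace_of_isAmple hN
  refine ⟨⟨?_, ?_⟩, and_congr_right fun hp => ⟨?_, ?_⟩⟩
  · rintro ⟨n, i, hi, hif⟩
    haveI := hi
    haveI : IsProper (CohB1.ProjSpaceOver.toBase n S) := ChowLib.isProper_toBase n S
    haveI : IsProper f := by
      rw [← hif]
      exact (inferInstance : IsProper (i ≫ CohB1.ProjSpaceOver.toBase n S))
    exact ⟨inferInstance, (h1497.mp ⟨n, i, inferInstance, inferInstance, hif⟩).2.2⟩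
  · rintro ⟨hp, hA⟩
    haveI := hp
    obtain ⟨n, i, hi, hqc, hif⟩ := h1497.mpr ⟨inferInstance, inferInstance, hA⟩
    haveI := hi
    haveI : IsProper (CohB1.ProjSpaceOver.toBase n S) := ChowLib.isProper_toBase n S
    haveI : IsProper (i ≫ CohB1.ProjSpaceOver.toBase n S) := by
      change IsProper (i ≫ pullback.snd _ _)
      rw [hif]
      exact hp
    haveI : IsProper i := IsProper.of_comp i (CohB1.ProjSpaceOver.toBase n S)
    exact ⟨n, i, IsClosedImmersion.of_isPreimmersion i i.isClosedMap.isClosed_range, hif⟩
  · rintro ⟨L, hL⟩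
    haveI := hp
    refine ⟨L, inferInstance, fun V => ?_⟩
    let W := f ⁻¹ᵁ V.1
    haveI : CompactSpace (W : Scheme.{u}) :=
      isCompact_iff_compactSpace.mp (f.isCompact_preimage V.2.isCompact)
    exact AmpleDevLib.isAmple_of_iso (AmpleDevLib.isInvertible_pb W.ι hL.1)
      (AmpleThLib.restrict_isInvertible hL.1 W.ι)
      ((Scheme.Modules.restrictFunctorIsoPullback W.ι).app L).symm
      (Groth.Agent.S9815.result W.ι W.ι.isEmbedding L hL)
  · rintro ⟨L, hL⟩
    haveI := hp
    haveI : CompactSpace X := QuasiCompact.compactSpace_of_compactSpace f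
    haveI : QuasiSeparatedSpace X := quasiSeparatedSpace_of_quasiSeparated f
    obtain ⟨n₀, hn⟩ := MiscFlat6.exists_isAmple_tensor_pullback f hL hN
    exact ⟨_, hn n₀ le_rfl⟩

end Groth.Agent.S1496
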