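import Groth.Statements.S14966
import Mathlib
-- import your own Groth.Agent.* helpers here

set_option autoImplicit false
universe u
open EtAlg

namespace Groth.Agent.S14966

set_option maxHeartbeats 400000

/-- Let A → A' be an injective homomorphism of commutative rings and let I ⊆ A be the conductor, i.e.
the annihilator of the A-module A'/A. Then the conductor square formed by A → A/I, A → A', A/I →
A'/IA' and A' → A'/IA' is a fibre product square of rings with A' → A'/IA' surjective: A = A/I
×_{A'/IA'} A'. (The published Lemma is for the conductor square of a finite modification of schemes;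
this row is the underlying statement for one injective ring map, which needs no finiteness.) -/
theorem result (A A' : Type u) [CommRing A] [CommRing A'] [Algebra A A']
    (hinj : Function.Injective (algebraMap A A')) :
    EtMil.IsFibreSquare A (A ⧸ Module.annihilator A (A' ⧸ LinearMap.range (Algebra.linearMap A A'))) A'
      (A' ⧸ Ideal.map (algebraMap A A') (Module.annihilator A (A' ⧸ LinearMap.range (Algebra.linearMap A A')))) := by
  set I := Module.annihilator A (A' ⧸ LinearMap.range (Algebra.linearMap A A')) with hI
  have key : ∀ r ∈ I, ∀ x : A', ∃ s : A, algebraMap A A' s = r • x := fun r hr x => by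
    have h := Module.mem_annihilator.1 hr (Submodule.Quotient.mk x)
    rw [← Submodule.Quotient.mk_smul, Submodule.Quotient.mk_eq_zero] at h
    exact h
  have hmap : ∀ x ∈ I.map (algebraMap A A'), ∃ s ∈ I, algebraMap A A' s = x := by
    intro x hx
    rw [Ideal.map] at hx
    induction hx using Submodule.span_induction with
    | mem y hy =>
      obtain ⟨s, hs, rfl⟩ := hy
      exact ⟨s, hs, rfl⟩
    | zero => exact ⟨0, zero_mem _, map_zero _⟩
    | add y z _ _ hy hz =>
      obtain ⟨s, hs, rfl⟩ := hy
      obtain ⟨t, ht, rfl⟩ := hz
      exact ⟨s + t, add_mem hs ht, map_add _ _ _⟩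
    | smul c y _ hy =>
      obtain ⟨s, hs, rfl⟩ := hy
      obtain ⟨t, ht⟩ := key s hs c
      refine ⟨t, Module.mem_annihilator.2 fun q => ?_, by
        rw [ht, Algebra.smul_def, smul_eq_mul, mul_comm]⟩
      obtain ⟨z, rfl⟩ := Submodule.Quotient.mk_surjective _ q
      rw [← Submodule.Quotient.mk_smul, Submodule.Quotient.mk_eq_zero]
      obtain ⟨u, hu⟩ := key s hs (c * z)
      exact ⟨u, by
        change algebraMap A A' u = t • z
        rw [hu, Algebra.smul_def, Algebra.smul_def, ht, Algebra.smul_def]
        ring⟩
  refine ⟨Ideal.Quotient.mk_surjective, fun b a' h => ?_⟩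
  obtain ⟨a, rfl⟩ := Ideal.Quotient.mk_surjective b
  have h' : algebraMap A A' a - a' ∈ I.map (algebraMap A A') := Ideal.Quotient.eq.1 h
  obtain ⟨s, hs, hs'⟩ := hmap _ h'
  refine ⟨a - s, ⟨?_, by rw [map_sub, hs', sub_sub_cancel]⟩, fun r hr =>
    hinj (by rw [hr.2, map_sub, hs', sub_sub_cancel])⟩
  change Ideal.Quotient.mk I (a - s) = Ideal.Quotient.mk I a
  rw [Ideal.Quotient.eq]
  simpa using hs

end Groth.Agent.S14966
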