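import Groth.Statements.S14973
import Mathlib

set_option autoImplicit false
universe u v
open Diff16

namespace Groth.Agent.S14973

/-- In ring form. Let B be a commutative ring, L a ring with a ring homomorphism f from B, and L_0, L_1,
L_2, … additive subgroups of L exhausting L such that for every b in B, f(b) commutes with every
element of L_0 and, for each i, the commutator f(b) x - x f(b) of f(b) with an element x of L_(i+1)
lies in L_i. Let M be a multiplicative subset of B. Then M acts invertibly on the right of the left
localisation of L at M (L viewed as a B-module through left multiplication): in elementwise terms,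
(a) if x is in L and m, u are in M with f(u) x f(m) = 0, then f(u') x = 0 for some u' in M; (b) for
every x in L and m in M there are e in M and y in L with f(e) x = y f(m). (The published statement
assumes a filtration satisfying all the axioms of a filtered ring of differential operators on an
affine scheme; this row assumes only an exhaustive family of additive subgroups on which commutators
with the image of B lower the index.) -/
theorem result
    {B : Type u} [CommRing B] {L : Type v} [Ring L] (f : B →+* L) (F : ℕ → AddSubgroup L)
    (hex : ∀ x : L, ∃ i : ℕ, x ∈ F i)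
    (h0 : ∀ x ∈ F 0, ∀ b : B, f b * x = x * f b)
    (hS : ∀ (i : ℕ), ∀ x ∈ F (i + 1), ∀ b : B, f b * x - x * f b ∈ F i)
    (M : Submonoid B) :
    (∀ (x : L) (m u : B), m ∈ M → u ∈ M → f u * x * f m = 0 → ∃ u' ∈ M, f u' * x = 0) ∧
    (∀ (x : L) (m : B), m ∈ M → ∃ e ∈ M, ∃ y : L, f e * x = y * f m) := by
  have key1 : ∀ (i : ℕ), ∀ x ∈ F i, ∀ m : B, x * f m = 0 → f (m ^ (i + 1)) * x = 0 := by
    intro i
    induction i with
    | zero => intro x hx m hm; rw [Nat.zero_add, pow_one, h0 x hx m, hm]
    | succ i ih =>
      intro x hx m hm
      have hz := hS i x hx m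
      rw [hm, sub_zero] at hz
      have h1 := ih _ hz m (by rw [mul_assoc, hm, mul_zero])
      rw [pow_succ, map_mul, mul_assoc]
      exact h1
  have key2 : ∀ (i : ℕ), ∀ x ∈ F i, ∀ m : B, ∃ y : L, f (m ^ (i + 1)) * x = y * f m := by
    intro i
    induction i with
    | zero => intro x hx m; exact ⟨x, by rw [Nat.zero_add, pow_one, h0 x hx m]⟩
    | succ i ih =>
      intro x hx m
      obtain ⟨y, hy⟩ := ih _ (hS i x hx m) m
      refine ⟨f (m ^ (i + 1)) * x + y, ?_⟩
      rw [add_mul, ← hy, pow_succ m (i + 1), map_mul, mul_sub, mul_assoc, mul_assoc]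
      abel
  refine ⟨fun x m u hm hu h => ?_, fun x m hm => ?_⟩
  · obtain ⟨i, hi⟩ := hex (f u * x)
    refine ⟨m ^ (i + 1) * u, mul_mem (pow_mem hm _) hu, ?_⟩
    rw [map_mul, mul_assoc]
    exact key1 i _ hi m h
  · obtain ⟨i, hi⟩ := hex x
    obtain ⟨y, hy⟩ := key2 i x hi m
    exact ⟨m ^ (i + 1), pow_mem hm _, y, hy⟩

end Groth.Agent.S14973
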