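import Groth.Statements.S14982
import Groth.Agent.FinOrbitLib.Inertia

set_option autoImplicit false
universe u
open CategoryTheory MonoidalCategory CartesianMonoidalCategory MonObj AlgebraicGeometry
open CoactBr

namespace Groth.Agent.S14982

/-- Let `R` be a commutative ring, `A` a commutative Hopf algebra over `R` which is finite locally free
as an `R`-module (`G = Spec A` a finite flat group scheme over `S = Spec R`), `B` a commutative
`R`-algebra with a coaction of `A` that is an algebra map (an action of `G` on `X = Spec B`), `C =
B^A` the ring of invariants and `π : X → Y = Spec C` the quotient map. Let `K` be a field over `R`,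
`x : B → K` an `R`-algebra map (a point of `X`) and `y` the image in `Y` of the point underlying
`x`. Then the inertia group scheme at `x` is trivial (for every scheme `T` over `Spec K`, every
`T`-point of `G` fixing the point of `X` induced by `x` is the unit) if and only if there is a flat
morphism locally of finite presentation `Y' → Y` whose image contains `y` and over which the action
becomes free: for every scheme `T` over `S` and every `T`-point `ζ` of `X` whose composite with `π`
lifts to `Y'`, every `T`-point of `G` fixing `ζ` is the unit (this is freeness of the base-changed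
action of `G ×_S Y'` on `X ×_Y Y'`, written through points of `G` and `X`). (`G` finite flat is read
as finite locally free. The published result also says that `X ×_Y Y'` is then a torsor under
`G_{Y'}` and gives a third equivalent condition, that after a further fppf base change the action is
induced from an action of the trivial group; neither is stated here.) -/
theorem result
    (R A B K : Type u) [CommRing R] [CommRing A] [HopfAlgebra R A]
    [Module.Flat R A] [Module.Finite R A] [Module.Projective R A]
    [CommRing B] [Algebra R B] [HopfRep.Comod R A B] [GLin.IsCoactAlg R A B]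
    [Field K] [Algebra R K] (x : B →ₐ[R] K) :
    (∀ (T : Over (Spec (CommRingCat.of R))) (h : T ⟶ CoactBr.sp R K) (g : T ⟶ CoactBr.sp R A),
        lift g (h ≫ CoactBr.pt x) ≫ (CoactBr.action R A B).act = h ≫ CoactBr.pt x → g = 1) ↔
      ∃ (Y' : Scheme.{u}) (c : Y' ⟶ Spec (CommRingCat.of (GLin.invariants R A B))),
        Flat c ∧ LocallyOfFinitePresentation c ∧
        (∃ y' : Y', c.base y' =
          (Spec.map (CommRingCat.ofHom (x.toRingHom.comp (GLin.invariants R A B).val.toRingHom))).base
            (IsLocalRing.closedPoint K)) ∧
        ∀ (T : Over (Spec (CommRingCat.of R))) (ζ : T ⟶ CoactBr.sp R B),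
          (∃ t : T.left ⟶ Y', t ≫ c = ζ.left ≫ Spec.map (CommRingCat.ofHom (GLin.invariants R A B).val.toRingHom)) →
          ∀ g : T ⟶ CoactBr.sp R A, lift g ζ ≫ (CoactBr.action R A B).act = ζ → g = 1 := by
  refine ⟨fun hx => ?_, ?_⟩
  · let i : K →ₐ[R] AlgebraicClosure K := IsScalarTower.toAlgHom R K (AlgebraicClosure K)
    obtain ⟨n, hn, hxn, hfree⟩ := FinOrbit.exists_nhd (A := A) (i.comp x) (FinOrbit.Triv.comp hx i)
    let C := GLin.invariants R A B
    let nC : C := ⟨n, hn⟩
    let c : Spec (CommRingCat.of (Localization.Away nC)) ⟶ Spec (CommRingCat.of C) :=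
      Spec.map (CommRingCat.ofHom (algebraMap C (Localization.Away nC)))
    haveI : IsOpenImmersion c := IsOpenImmersion.of_isLocalization nC
    have hu : IsUnit ((x.toRingHom.comp C.val.toRingHom) nC) := by
      refine isUnit_iff_ne_zero.2 fun h0 => hxn ?_
      show i (x n) = 0
      rw [show x n = 0 from h0, map_zero]
    refine ⟨_, c, inferInstance, inferInstance, ⟨(Spec.map (CommRingCat.ofHom
      (IsLocalization.Away.lift (S := Localization.Away nC) nC hu))).base (IsLocalRing.closedPoint K), ?_⟩, ?_⟩
    · rw [← Scheme.Hom.comp_apply, ← Spec.map_comp, ← CommRingCat.ofHom_comp, IsLocalization.Away.lift_comp]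
    · rintro T ζ ⟨t, ht⟩ g hg
      refine FinOrbit.eq_one_of_unit ζ g n hfree ?_ hg
      have e1 : ζ.left.appTop ((Scheme.ΓSpecIso (CommRingCat.of B)).inv n) =
          (ζ.left ≫ Spec.map (CommRingCat.ofHom C.val.toRingHom)).appTop
            ((Scheme.ΓSpecIso (CommRingCat.of C)).inv nC) := by
        rw [Scheme.Hom.comp_appTop, ConcreteCategory.comp_apply]
        congr 1
        exact congrArg (fun χ : CommRingCat.of C ⟶ Γ(Spec (CommRingCat.of B), ⊤) => χ nC)
          (Scheme.ΓSpecIso_inv_naturality (CommRingCat.ofHom C.val.toRingHom))
      have e2 : c.appTop ((Scheme.ΓSpecIso (CommRingCat.of C)).inv nC) =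
          (Scheme.ΓSpecIso (CommRingCat.of (Localization.Away nC))).inv (algebraMap C (Localization.Away nC) nC) :=
        (congrArg (fun χ : CommRingCat.of C ⟶ Γ(Spec (CommRingCat.of (Localization.Away nC)), ⊤) => χ nC)
          (Scheme.ΓSpecIso_inv_naturality (CommRingCat.ofHom (algebraMap C (Localization.Away nC))))).symm
      rw [e1, ← ht, Scheme.Hom.comp_appTop, ConcreteCategory.comp_apply, e2]
      exact ((IsLocalization.Away.algebraMap_isUnit (S := Localization.Away nC) nC).map
        (Scheme.ΓSpecIso (CommRingCat.of (Localization.Away nC))).inv.hom).map t.appTop.hom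
  · rintro ⟨Y', c, -, -, ⟨y', hy'⟩, hfree⟩
    let f : Spec (CommRingCat.of K) ⟶ Spec (CommRingCat.of (GLin.invariants R A B)) :=
      Spec.map (CommRingCat.ofHom (x.toRingHom.comp (GLin.invariants R A B).val.toRingHom))
    obtain ⟨z, -, -⟩ := Scheme.Pullback.exists_preimage_pullback (f := c) (g := f) y' (IsLocalRing.closedPoint K) hy'
    let L := (Limits.pullback c f).residueField z
    let q : Spec L ⟶ Spec (CommRingCat.of K) :=
      (Limits.pullback c f).fromSpecResidueField z ≫ Limits.pullback.snd c f
    let j : CommRingCat.of K ⟶ L := Spec.preimage q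
    letI : Algebra R L := (j.hom.comp (algebraMap R K)).toAlgebra
    let i : K →ₐ[R] L := { j.hom with commutes' := fun r => rfl }
    refine FinOrbit.triv_of_comp (L := L) i fun T h g hg =>
      hfree T (h ≫ pt (i.comp x)) ⟨h.left ≫ (Limits.pullback c f).fromSpecResidueField z ≫ Limits.pullback.fst c f, ?_⟩
        g hg
    rw [Category.assoc, Category.assoc, Limits.pullback.condition, Over.comp_left, Category.assoc]
    refine congrArg (h.left ≫ ·) ?_
    refine ((Category.assoc _ _ _).symm.trans (congrArg (· ≫ f) (Spec.map_preimage q).symm)).trans ?_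
    show Spec.map j ≫ Spec.map _ = Spec.map (CommRingCat.ofHom (i.comp x).toRingHom) ≫ Spec.map _
    rw [← Spec.map_comp, ← Spec.map_comp]
    rfl

end Groth.Agent.S14982
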