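import Groth.Statements.S14984
import Mathlib
import Groth.Agent.GLinFinLib.Tame
-- import your own Groth.Agent.* helpers here

set_option autoImplicit false
universe u v w
open HopfRep

namespace Groth.Agent.S14984

/-- Let `R` be a commutative ring, `A` a commutative Hopf algebra over `R`, flat as an `R`-module, `B` a
commutative `R`-algebra with a coaction of `A` that is an algebra map (an action of `G = Spec A` on
`X = Spec B`), and `C = B^A` the ring of invariants. If the action base-changed along `R → C` — the
`C`-Hopf algebra `C ⊗ A` coacting on `C ⊗ B` — is tame, i.e. there is a `C`-linear comodule map `β :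
C ⊗ A → C ⊗ B` (regular coaction on the source, base-changed coaction on the target) with `β 1 = 1`,
then the original action is tame: there is an `R`-linear comodule map `α : A → B` with `α 1 = 1`.
(The converse is the case `S = C` of stability of tameness under base change. The published lemma
also lists, as a third equivalent condition, tameness of the action of `C ⊗ A` on `B` itself over
`C`; that condition is not stated here.) -/
theorem result
    (R : Type u) (A : Type v) (B : Type w)
    [CommRing R] [CommRing A] [HopfAlgebra R A] [Module.Flat R A]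
    [CommRing B] [Algebra R B] [HopfRep.Comod R A B] [GLin.IsCoactAlg R A B]
    (h : ∃ β : TensorProduct R ↥(GLin.invariants R A B) A →ₗ[↥(GLin.invariants R A B)]
        TensorProduct R ↥(GLin.invariants R A B) B,
      @Hoch.IsComodHom ↥(GLin.invariants R A B) _ (TensorProduct R ↥(GLin.invariants R A B) A) _ _ _
        (TensorProduct R ↥(GLin.invariants R A B) A) _ _
        (HopfRep.Comod.regular ↥(GLin.invariants R A B) (TensorProduct R ↥(GLin.invariants R A B) A))
        (TensorProduct R ↥(GLin.invariants R A B) B) _ _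
        (CoactBr.Comod.baseChange R ↥(GLin.invariants R A B) A B) β ∧ β 1 = 1) :
    ∃ α : A →ₗ[R] B, Hoch.IsComodHom A α ∧ α 1 = 1 := by
  classical
  set C := GLin.invariants R A B
  obtain ⟨β, hβ, h1⟩ := h
  let μ : TensorProduct R C B →ₗ[C] B := LinearMap.liftBaseChange C (LinearMap.id : B →ₗ[R] B)
  let Φ : TensorProduct C (TensorProduct R C B) (TensorProduct R C A) →ₗ[C] TensorProduct R B A :=
    (LinearMap.liftBaseChange C (LinearMap.id : TensorProduct R B A →ₗ[R] TensorProduct R B A)) ∘ₗ
      (TensorProduct.AlgebraTensorModule.distribBaseChange R C B A).symm.toLinearMap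
  have hΦ : ∀ (c d : C) (b : B) (a : A), Φ ((c ⊗ₜ[R] b) ⊗ₜ[C] (d ⊗ₜ[R] a)) = ((c * d : C) • b) ⊗ₜ[R] a := fun c d b a => by
    simp only [Φ, LinearMap.comp_apply, LinearEquiv.coe_coe]
    rw [show (c ⊗ₜ[R] b) ⊗ₜ[C] (d ⊗ₜ[R] a) = (c * d) • (((1 : C) ⊗ₜ[R] b) ⊗ₜ[C] ((1 : C) ⊗ₜ[R] a)) by
      rw [show c ⊗ₜ[R] b = c • ((1 : C) ⊗ₜ[R] b) by simp [TensorProduct.smul_tmul'],
        show d ⊗ₜ[R] a = d • ((1 : C) ⊗ₜ[R] a) by simp [TensorProduct.smul_tmul'],
        TensorProduct.tmul_smul, ← TensorProduct.smul_tmul', smul_smul, mul_comm c d],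
      map_smul, map_smul,
      show (TensorProduct.AlgebraTensorModule.distribBaseChange R C B A).symm
          (((1 : C) ⊗ₜ[R] b) ⊗ₜ[C] ((1 : C) ⊗ₜ[R] a)) = (1 : C) ⊗ₜ[R] (b ⊗ₜ[R] a) from
        (LinearEquiv.symm_apply_eq _).2 (by simp [TensorProduct.AlgebraTensorModule.distribBaseChange]),
      LinearMap.liftBaseChange_tmul, one_smul, LinearMap.id_apply]
    rfl
  have hco : ∀ z : TensorProduct R C B, HopfRep.Comod.coact (k := R) (A := A) (μ z) =
      Φ ((CoactBr.Comod.baseChange R C A B).coact z) := fun z => by
    induction z with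
    | zero => simp
    | add x y hx hy => simp only [map_add, hx, hy]
    | tmul c b =>
      rw [CoactBr.baseChange_coact_tmul, show μ (c ⊗ₜ[R] b) = (c : B) * b by simp [μ, Subalgebra.smul_def],
        GLin.IsCoactAlg.coact_mul (k := R), show HopfRep.Comod.coact (k := R) (A := A) (c : B) = (c : B) ⊗ₜ[R] (1 : A) from c.2]
      generalize HopfRep.Comod.coact (k := R) (A := A) b = w
      induction w with
      | zero => simp
      | add x y hx hy => simp only [TensorProduct.tmul_add, mul_add, map_add, hx, hy]
      | tmul p q =>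
        rw [TensorProduct.AlgebraTensorModule.tensorTensorTensorComm_tmul, hΦ]
        simp [Subalgebra.smul_def]
  let j : A →ₗ[R] TensorProduct R C A := TensorProduct.mk R C A 1
  let α : A →ₗ[R] B := μ.restrictScalars R ∘ₗ β.restrictScalars R ∘ₗ j
  refine ⟨α, LinearMap.ext fun a => ?_, ?_⟩
  · have hb : (CoactBr.Comod.baseChange R C A B).coact (β (j a)) =
        β.rTensor (TensorProduct R C A) (CoalgebraStruct.comul (R := C) (j a)) := LinearMap.congr_fun hβ (j a)
    show HopfRep.Comod.coact (k := R) (A := A) (μ (β (j a))) = α.rTensor A (CoalgebraStruct.comul (R := R) a)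
    rw [hco, hb, show j a = (1 : C) ⊗ₜ[R] a from rfl, TensorProduct.comul_tmul, CoactBr.comul_self_apply]
    generalize CoalgebraStruct.comul (R := R) a = z
    induction z with
    | zero => simp
    | add x y hx hy => simp only [TensorProduct.tmul_add, map_add, hx, hy]
    | tmul p q =>
      simp only [TensorProduct.AlgebraTensorModule.tensorTensorTensorComm_tmul, LinearMap.rTensor_tmul]
      have e : ∀ y : TensorProduct R C B, Φ (y ⊗ₜ[C] ((1 : C) ⊗ₜ[R] q)) = μ y ⊗ₜ[R] q := fun y => by
        induction y with
        | zero => simp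
        | add x y hx hy => simp only [TensorProduct.add_tmul, map_add, hx, hy]
        | tmul c b => rw [hΦ, mul_one]; simp [μ]
      rw [e]
      rfl
  · show μ (β (j 1)) = 1
    rw [show j 1 = (1 : TensorProduct R C A) from rfl, h1, Algebra.TensorProduct.one_def]
    simp [μ]

end Groth.Agent.S14984
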