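import Groth.Statements.S14985
import Groth.Agent.StableK0Lib.Cover
import Groth.Agent.SerreSplitLib.Cancel

set_option autoImplicit false
universe u
open CAlg
set_option linter.style.haveILetI false

namespace Groth.Agent.S14985

/-- Let R be a Noetherian commutative ring of finite Krull dimension and P a finitely generated
projective R-module. If the n-th tensor power of P is free for some n ≥ 1, then the direct sum of N
copies of P is free for some N ≥ 1. -/
theorem result (R : Type u) [CommRing R] [IsNoetherianRing R]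
    (hdim : ringKrullDim R < ⊤) (P : Type u) [AddCommGroup P] [Module R P] [Module.Finite R P]
    [Module.Projective R P] (n : ℕ) (hn : 1 ≤ n) (hfree : Module.Free R (TensorPower R n P)) :
    ∃ N : ℕ, 1 ≤ N ∧ Module.Free R (Fin N → P) := by
  classical
  rcases subsingleton_or_nontrivial R with hR | hR
  · haveI : Subsingleton (Fin 1 → P) := Module.subsingleton R _
    exact ⟨1, le_rfl, inferInstance⟩
  obtain ⟨n, rfl⟩ : ∃ n', n = n' + 1 := ⟨n - 1, by omega⟩
  obtain ⟨hTf, hTp, hT⟩ := StableK0Lib.cl_tensorPower (R := R) P n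
  set N := Module.finrank R (TensorPower R (n + 1) P) with hN
  have eT : TensorPower R (n + 1) P ≃ₗ[R] (Fin N → R) := (Module.finBasis R _).equivFun
  -- the rank
  have hpow : ∀ (j : ℕ) (p : PrimeSpectrum R),
      ∃ (_ : Module.Finite R (TensorPower R (j + 1) P)) (_ : Module.Projective R (TensorPower R (j + 1) P)),
        Module.rankAtStalk (R := R) (TensorPower R (j + 1) P) p = Module.rankAtStalk (R := R) P p ^ (j + 1) := by
    intro j p
    induction j with
    | zero =>
      obtain ⟨a, b, -⟩ := StableK0Lib.cl_tensorPower (R := R) P 0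
      exact ⟨a, b, by
        rw [pow_one, Module.rankAtStalk_eq_of_equiv
          (PiTensorProduct.subsingletonEquiv (R := R) (s := fun _ : Fin 1 => P) 0)]⟩
    | succ j ih =>
      obtain ⟨a, b, h⟩ := ih
      obtain ⟨a', b', -⟩ := StableK0Lib.cl_tensorPower (R := R) P (j + 1)
      obtain ⟨a1, b1, -⟩ := StableK0Lib.cl_tensorPower (R := R) P 0
      exact ⟨a', b', by
        rw [← Module.rankAtStalk_eq_of_equiv (TensorPower.mulEquiv (R := R) (M := P) (n := j + 1) (m := 1)),
          Module.rankAtStalk_tensorProduct, Pi.mul_apply, h,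
          Module.rankAtStalk_eq_of_equiv (PiTensorProduct.subsingletonEquiv (R := R) (s := fun _ : Fin 1 => P) 0),
          ← pow_succ]⟩
  have hNp : ∀ p, Module.rankAtStalk (R := R) P p ^ (n + 1) = N := fun p => by
    obtain ⟨a, b, h⟩ := hpow n p
    rw [← h, Module.rankAtStalk_eq_finrank_of_free]
    rfl
  obtain ⟨p₀⟩ : Nonempty (PrimeSpectrum R) := inferInstance
  set r := Module.rankAtStalk (R := R) P p₀ with hr₀
  have hr : ∀ p, Module.rankAtStalk (R := R) P p = r := fun p =>
    Nat.pow_left_injective (Nat.succ_ne_zero n) ((hNp p).trans (hNp p₀).symm)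
  rcases Nat.eq_zero_or_pos r with h0 | hrpos
  · haveI : Subsingleton P :=
      Module.rankAtStalk_eq_zero_iff_subsingleton.1 (funext fun p => (hr p).trans h0)
    exact ⟨1, le_rfl, inferInstance⟩
  -- a finite trivializing family
  choose s α β hs hβα hαβ using fun q => StableK0Lib.exists_local_pair P r hr q
  have hone : (1 : R) ∈ Submodule.span R (Set.range s) := by
    rw [show Submodule.span R (Set.range s) = ⊤ from by
      by_contra hne
      obtain ⟨m, hm, hle⟩ := Ideal.exists_le_maximal _ hne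
      exact hs ⟨m, hm.isPrime⟩ (hle (Ideal.subset_span ⟨_, rfl⟩))]
    trivial
  obtain ⟨T, hTs, hT1⟩ := Submodule.mem_span_finite_of_mem_span hone
  choose g hg using fun t : T => hTs t.2
  let l : List (R × (P →ₗ[R] (Fin r → R)) × ((Fin r → R) →ₗ[R] P)) :=
    T.attach.toList.map fun t => (s (g t), α (g t), β (g t))
  have hnil := StableK0Lib.pow_eq_zero_of_cover P (Fin r → R) l (fun x hx => by
      obtain ⟨t, -, rfl⟩ := List.mem_map.1 hx
      exact ⟨hβα _, hαβ _⟩) (by
      rw [Ideal.eq_top_iff_one]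
      refine Submodule.span_mono (fun t ht => ?_) hT1
      exact ⟨_, List.mem_map.2 ⟨⟨t, ht⟩, Finset.mem_toList.2 (Finset.mem_attach _ _), rfl⟩, hg ⟨t, ht⟩⟩)
  have hF : ∀ j : ℕ, StableK0Lib.cl (R := R) (Fin j → R) = (j : StableK0Lib.K R) := fun j => by
    rw [StableK0Lib.cl_pi]; exact mul_one _
  have hA : StableK0Lib.rhoHom (StableK0Lib.cl (R := R) P) ^ (n + 1) = ((r ^ (n + 1) : ℕ) : AddMonoid.End (StableK0Lib.G R)) := by
    rw [← map_pow, ← hT, StableK0Lib.cl_congr eT, hF, map_natCast, hNp p₀]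
  have hk : (StableK0Lib.rhoHom (StableK0Lib.cl (R := R) P) - (r : AddMonoid.End (StableK0Lib.G R))) ^ (l.length + 1) = 0 := by
    rw [pow_succ, ← map_natCast (StableK0Lib.rhoHom (R := R)) r, ← hF, hnil, zero_mul]
  have htor := StableK0Lib.exists_torsion _ r n l.length hrpos hA hk
  set c := ((n + 1) * r ^ n) ^ l.length with hc
  rw [mul_sub, sub_eq_zero, ← map_natCast (StableK0Lib.rhoHom (R := R)) c, ← map_natCast (StableK0Lib.rhoHom (R := R)) r,
    ← map_mul, ← map_mul] at htor
  have hK := StableK0Lib.rhoHom_injective htor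
  have hcpos : 0 < c := pow_pos (Nat.mul_pos (Nat.succ_pos n) (pow_pos hrpos n)) _
  obtain ⟨d, hd⟩ : ∃ d : ℕ, ringKrullDim R ≤ d := by
    rcases h : ringKrullDim R with _ | _ | d
    · exact ⟨0, bot_le⟩
    · exact absurd (h ▸ hdim) (lt_irrefl _)
    · exact ⟨d, le_rfl⟩
  let N' := (d + 1) * c
  have hcl : StableK0Lib.cl (R := R) (Fin N' → P) = StableK0Lib.cl (R := R) (Fin (N' * r) → R) := by
    rw [StableK0Lib.cl_pi, hF, show N' = (d + 1) * c from rfl, Nat.cast_mul, Nat.cast_mul, Nat.cast_mul, mul_assoc, hK, ← mul_assoc]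
  obtain ⟨a, ⟨e⟩⟩ := StableK0Lib.exact_cl hcl
  haveI := SerreSplitLib.noetherianSpace_maximalSpectrum (R := R)
  have hle : d + 1 ≤ N' * r :=
    le_trans (Nat.le_mul_of_pos_right (d + 1) hcpos)
      (Nat.le_mul_of_pos_right _ hrpos)
  obtain ⟨eq⟩ := SerreSplitLib.cancel d (SerreSplitLib.topologicalKrullDim_maximalSpectrum_le.trans hd) a
    (M := Fin (N' * r) → R) (N := Fin N' → P) (fun x => by
      refine ⟨fun i => Pi.single (Fin.castLE hle i) 1, (SerreSplitLib.indep_iff_det x _).2
        ⟨fun j => LinearMap.proj (Fin.castLE hle j), ?_⟩⟩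
      rw [show (Matrix.of fun j i => (LinearMap.proj (Fin.castLE hle j) : (Fin (N' * r) → R) →ₗ[R] R)
        (Pi.single (Fin.castLE hle i) 1)) = 1 from Matrix.ext fun j i => by
          simp [Matrix.one_apply, Pi.single_apply, Fin.castLE_inj], Matrix.det_one]
      exact (Ideal.ne_top_iff_one _).1 x.isMaximal.ne_top) e.symm
  exact ⟨N', Nat.mul_pos (Nat.succ_pos d) hcpos, Module.Free.of_equiv eq⟩

end Groth.Agent.S14985
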