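import Groth.Statements.S14987
import Groth.Agent.S10374
import Groth.Agent.S10496
import Groth.Agent.AlgSpLib.ElemNbhd
import Groth.Agent.AlgSpLib.OnePoint
import Groth.Agent.AlgSpLib.ReducedStalk
import Groth.Agent.AlgSpLib.DecentPoints
import Groth.Agent.AlgSpLib.QcQs
import Groth.Agent.AlgSpLib.Iso
import Groth.Agent.AlgSpRegLib.ProperSub
-- import your own Groth.Agent.* helpers here

set_option autoImplicit false
set_option backward.isDefEq.respectTransparency false
set_option backward.isDefEq.respectTransparency.types false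
universe u
open CategoryTheory CategoryTheory.Limits AlgebraicGeometry Topology TopologicalSpace
open AlgSp

namespace Groth.Agent.S14987

section
open AlgSpLib
variable {S : Scheme.{u}}

/-- A monomorphism with image a closed point is a closed immersion. -/
theorem repWith_closedImmersion_point {X : AlgSp.Space S} (hd : AlgSp.IsDecent X.obj) (p : AlgSp.FieldPt X.obj)
    [Mono p.toHom] (hz : IsClosed ({AlgSp.Points.mk p} : Set (AlgSp.Points X.obj))) :
    AlgSp.RepWith @IsClosedImmersion p.toHom := by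
  obtain ⟨Z, i, hi, hZi, hr⟩ := Groth.Agent.S10496.result X hd _ hz isIrreducible_singleton
  haveI : Mono i.hom := AlgSpRegLib.mono_of_closedImmersion hi
  haveI := hZi.2.2
  haveI : Subsingleton (AlgSp.Points Z.obj) := ⟨fun w w' => injective_map_of_mono i.hom
    ((hr.le ⟨w, rfl⟩ : _ = _).trans (hr.le ⟨w', rfl⟩ : _ = _).symm)⟩
  obtain ⟨K, hK, str, ⟨e⟩⟩ := exists_field_iso_of_onePoint Z.property hZi.2.1 hZi.1
  let i' := e.hom ≫ i.hom
  have hi' : AlgSp.RepWith @IsClosedImmersion i' := repWith_comp (repWith_of_isIso _) hi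
  have sq := hi'.rep.isPullback p.toHom
  haveI : IsClosedImmersion (hi'.rep.snd p.toHom).left := hi'.property_snd p.toHom
  haveI : Surjective (hi'.rep.snd p.toHom).left := ⟨fun t => by
    haveI : Subsingleton ↥p.pt.left := inferInstanceAs (Subsingleton (PrimeSpectrum p.K))
    obtain ⟨w, hw⟩ := hr.ge (Set.mem_singleton (AlgSp.Points.mk p))
    obtain ⟨w', rfl⟩ := (isHomeomorph_map_of_isIso e.hom).surjective w
    obtain ⟨v, -, -⟩ := exists_point_isPullback sq w' (AlgSp.Points.ofScheme p.pt t)
      ((AlgSp.Points.map_comp e.hom i.hom w').trans (hw.trans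
        ((AlgSp.Points.ofPt_toHom p t).symm.trans (AlgSp.Points.ofPt_eq_map_ofScheme _ _))))
    obtain ⟨v', rfl⟩ := (AlgSp.Points.schemeHomeo _).surjective v
    exact ⟨v', Subsingleton.elim _ _⟩⟩
  haveI : IsReduced p.pt.left := inferInstanceAs (IsReduced (Spec (CommRingCat.of p.K)))
  haveI : IsIso (hi'.rep.snd p.toHom).left := isIso_of_isClosedImmersion_of_surjective _
  haveI : IsIso ((Over.forget S).map (hi'.rep.snd p.toHom)) := inferInstanceAs (IsIso (hi'.rep.snd p.toHom).left)
  haveI : IsIso (hi'.rep.snd p.toHom) := isIso_of_reflects_iso _ (Over.forget S)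
  let s : p.pt ⟶ Over.mk str := inv (hi'.rep.snd p.toHom) ≫ hi'.rep.fst' p.toHom
  have hs : (AlgSp.yon S).map s ≫ i' = p.toHom := by
    rw [Functor.map_comp, Category.assoc, hi'.rep.map_fst', sq.w, ← Category.assoc, ← Functor.map_comp,
      IsIso.inv_hom_id, CategoryTheory.Functor.map_id, Category.id_comp]
  haveI : Mono ((AlgSp.yon S).map s) := mono_of_mono_fac hs
  haveI : Mono s := (AlgSp.yon S).mono_of_mono_map inferInstance
  haveI : Mono s.left := (Over.forget S).map_mono s
  haveI : IsIso s.left := isIso_of_mono_spec_field (K := p.K) (L := K) s.left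
  haveI : IsIso ((Over.forget S).map s) := inferInstanceAs (IsIso s.left)
  haveI : IsIso s := isIso_of_reflects_iso _ (Over.forget S)
  rw [← hs]
  exact repWith_comp (repWith_of_isIso _) hi'

/-- The fibre of an elementary neighbourhood with a single point over the point. -/
theorem isPullback_elem {F : AlgSp.Sp S} (hF : AlgSp.IsAlgSpace F) {U : Over S} {a : (AlgSp.yon S).obj U ⟶ F}
    (ha : AlgSp.RepWith @Etale a) {u : ↥U.left} [Mono (AlgSp.FieldPt.ofPt a u).toHom]
    (huniq : AlgSp.Points.ofPt a ⁻¹' {AlgSp.Points.ofPt a u} = {u}) :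
    IsPullback ((AlgSp.yon S).map (Over.homMk (U.left.fromSpecResidueField u) rfl :
      (AlgSp.FieldPt.ofPt a u).pt ⟶ U)) (𝟙 _) a (AlgSp.FieldPt.ofPt a u).toHom := by
  let p := AlgSp.FieldPt.ofPt a u
  let io : p.pt ⟶ U := Over.homMk (U.left.fromSpecResidueField u) rfl
  have hp : p.toHom = (AlgSp.yon S).map io ≫ a := AlgSp.FieldPt.toHom_ofPt a u
  have sq := IsPullback.of_hasPullback a p.toHom
  have hW := isAlgSpace_pullback (AlgSp.IsAlgSpace.yon_obj U) (AlgSp.IsAlgSpace.yon_obj p.pt) hF a p.toHom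
  haveI : Subsingleton ↥p.pt.left := inferInstanceAs (Subsingleton (PrimeSpectrum p.K))
  let σ : (AlgSp.yon S).obj p.pt ⟶ pullback a p.toHom :=
    pullback.lift ((AlgSp.yon S).map io) (𝟙 _) (by rw [Category.id_comp, hp])
  have hσ1 : σ ≫ pullback.fst a p.toHom = (AlgSp.yon S).map io := pullback.lift_fst _ _ _
  have hσ2 : σ ≫ pullback.snd a p.toHom = 𝟙 _ := pullback.lift_snd _ _ _
  haveI : Mono σ := mono_of_mono_fac hσ2
  haveI : Mono (pullback.fst a p.toHom) := inferInstance
  have hs : AlgSp.RepWith @Etale (pullback.snd a p.toHom) := repWith_of_isPullback sq ha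
  have hσe : AlgSp.IsEtaleMor σ := isEtaleMor_of_comp hW (g := pullback.snd a p.toHom)
    (by rw [hσ2]; exact isEtaleMor_id _) (isEtaleMor_of_repWith hs)
  haveI : IsIso σ := isIso_of_openImmersion_surjective
    (repWith_openImmersion_of_mono_etale (AlgSp.IsAlgSpace.yon_obj p.pt) hW σ hσe) fun w => by
      refine ⟨AlgSp.Points.ofScheme p.pt (IsLocalRing.closedPoint p.K), injective_map_of_mono (pullback.fst a p.toHom) ?_⟩
      obtain ⟨t, ht⟩ := (AlgSp.Points.schemeHomeo U).surjective (AlgSp.Points.map (pullback.fst a p.toHom) w)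
      obtain ⟨r, hr⟩ := (AlgSp.Points.schemeHomeo p.pt).surjective (AlgSp.Points.map (pullback.snd a p.toHom) w)
      have hta : AlgSp.Points.ofPt a t = AlgSp.Points.ofPt a u := by
        calc AlgSp.Points.ofPt a t = AlgSp.Points.map a (AlgSp.Points.map (pullback.fst a p.toHom) w) := by
              rw [AlgSp.Points.ofPt_eq_map_ofScheme, ← ht]; rfl
          _ = AlgSp.Points.map p.toHom (AlgSp.Points.map (pullback.snd a p.toHom) w) := by
              rw [← AlgSp.Points.map_comp, ← AlgSp.Points.map_comp, sq.w]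
          _ = AlgSp.Points.ofPt p.toHom r := by rw [AlgSp.Points.ofPt_eq_map_ofScheme, ← hr]; rfl
          _ = AlgSp.Points.mk p := AlgSp.Points.ofPt_toHom p r
      have htu : t = u := by
        have : t ∈ AlgSp.Points.ofPt a ⁻¹' {AlgSp.Points.ofPt a u} := hta
        rwa [huniq] at this
      rw [← AlgSp.Points.map_comp, hσ1, ← ht, htu]
      refine (AlgSp.Points.map_yon_map_apply io (IsLocalRing.closedPoint p.K)).trans ?_
      exact congrArg (AlgSp.Points.schemeHomeo U) (U.left.fromSpecResidueField_apply u _)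
  refine IsPullback.of_iso sq (asIso σ).symm (Iso.refl _) (Iso.refl _) (Iso.refl _) ?_ ?_ ?_ ?_
  · simp only [Iso.refl_hom, Category.comp_id, Iso.symm_hom, asIso_inv, IsIso.eq_inv_comp]
    exact hσ1
  · simp only [Iso.refl_hom, Category.comp_id, Iso.symm_hom, asIso_inv]
    exact (IsIso.inv_eq_of_hom_inv_id hσ2).symm
  · simp
  · simp only [Iso.refl_hom, Category.comp_id, Category.id_comp]
    rfl

end

/-- Let X be a Noetherian algebraic space (quasi-compact, quasi-separated, locally Noetherian) over a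
scheme S and z a closed point of X. Then there are a Noetherian local ring R over S and a
representable flat morphism φ : h_{Spec R} ⟶ X sending the closed point to z which is a flat
neighbourhood of z: z is represented by a closed immersion Spec k ⟶ X whose base change along φ is
an isomorphism onto Spec k, and for every n ≥ 1 and every closed subspace Z_n of X cut out by the
n-th power of the ideal sheaf of that closed immersion, the projection Spec R ×_X Z_n ⟶ Z_n is an
isomorphism; moreover dim R equals the dimension of the local ring of X at z. -/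
theorem result {S : Scheme.{u}} (X : AlgSp.Space S)
    (hqc : AlgSp.IsQuasiCompactSp X.obj) (hqs : AlgSp.IsQuasiSeparatedSp X.obj)
    (hN : AlgSp.IsLocNoethSp X.obj)
    (z : AlgSp.Points X.obj) (hz : IsClosed ({z} : Set (AlgSp.Points X.obj))) :
    ∃ (R : CommRingCat.{u}) (hR : IsLocalRing ↥R) (str : Spec R ⟶ S)
      (φ : (AlgSp.yon S).obj (Over.mk str) ⟶ X.obj) (p : AlgSp.FieldPt X.obj) (t : p.pt ⟶ Over.mk str),
      IsNoetherianRing ↥R ∧ AlgSp.RepWith @Flat φ ∧
      AlgSp.Points.ofPt φ (@IsLocalRing.closedPoint ↥R _ hR) = z ∧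
      AlgSp.Points.mk p = z ∧ AlgSp.RepWith @IsClosedImmersion p.toHom ∧
      IsPullback ((AlgSp.yon S).map t) (𝟙 ((AlgSp.yon S).obj p.pt)) φ p.toHom ∧
      (∀ (I : AlgSp.IdealEt X.obj), AlgSp.IsCutOutBy I p.toHom → ∀ n : ℕ, 1 ≤ n →
        ∀ (Zn : AlgSp.Sp S) (iZ : Zn ⟶ X.obj), AlgSp.IsCutOutBy (I ^ n) iZ →
          ∀ (P : AlgSp.Sp S) (fst : P ⟶ (AlgSp.yon S).obj (Over.mk str)) (snd : P ⟶ Zn),
            IsPullback fst snd φ iZ → IsIso snd) ∧
      AlgSp.HasAt (fun U u => ringKrullDim ↥(U.presheaf.stalk u) = ringKrullDim ↥R) X.obj z := by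
  classical
  have hd : AlgSp.IsDecent X.obj := AlgSpLib.isDecent_of_isQuasiSeparatedSp X.property hqs
  obtain ⟨U, a, u, hU, hel, huniq⟩ := Groth.Agent.S10374.result X hd z
  obtain ⟨ha, hau, hmono⟩ := hel
  haveI := hU
  haveI := hmono
  subst hau
  haveI : IsLocallyNoetherian U.left := AlgSpLib.isLocallyNoetherian_of_chart hN ha
  let p := AlgSp.FieldPt.ofPt a u
  let R := U.left.presheaf.stalk u
  let str : Spec R ⟶ S := U.left.fromSpecStalk u ≫ U.hom
  let j : Over.mk str ⟶ U := Over.homMk (U.left.fromSpecStalk u) rfl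
  let io : p.pt ⟶ U := Over.homMk (U.left.fromSpecResidueField u) rfl
  let t : p.pt ⟶ Over.mk str := Over.homMk (Spec.map (U.left.residue u)) (by
    show Spec.map (U.left.residue u) ≫ U.left.fromSpecStalk u ≫ U.hom = U.left.fromSpecResidueField u ≫ U.hom
    rw [← Category.assoc]; rfl)
  have htj : t ≫ j = io := Over.OverMorphism.ext rfl
  have hjr : Set.range (U.left.fromSpecStalk u) = {y | y ⤳ u} := Scheme.range_fromSpecStalk
  haveI : Mono j.left := inferInstanceAs (Mono (U.left.fromSpecStalk u))
  haveI : Mono j := (Over.forget S).mono_of_mono_map (inferInstanceAs (Mono (U.left.fromSpecStalk u)))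
  haveI : Mono ((AlgSp.yon S).map j) :=
    AlgSpLib.mono_of_repWith (P := MorphismProperty.monomorphisms Scheme.{u}) (fun g hg => hg)
      ((repWith_yon_map_iff (P := MorphismProperty.monomorphisms Scheme.{u}) j).2 (inferInstanceAs (Mono j.left)))
  have sqa := isPullback_elem X.property ha huniq
  have sqt : IsPullback ((AlgSp.yon S).map t) (𝟙 ((AlgSp.yon S).obj p.pt)) ((AlgSp.yon S).map j ≫ a) p.toHom := by
    have e : (AlgSp.yon S).map t ≫ (AlgSp.yon S).map j = (AlgSp.yon S).map io := by rw [← Functor.map_comp, htj]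
    refine ⟨⟨by rw [← Category.assoc, e]; exact sqa.w⟩, ⟨PullbackCone.IsLimit.mk _ (fun c => c.snd) ?_
      (fun c => Category.comp_id _) (fun c m _ h2 => (Category.comp_id m).symm.trans h2)⟩⟩
    intro c
    refine (cancel_mono ((AlgSp.yon S).map j)).1 ?_
    have hc : (c.fst ≫ (AlgSp.yon S).map j) ≫ a = c.snd ≫ p.toHom := by rw [Category.assoc]; exact c.condition
    have h1 := sqa.lift_fst (c.fst ≫ (AlgSp.yon S).map j) c.snd hc
    have h2 := sqa.lift_snd (c.fst ≫ (AlgSp.yon S).map j) c.snd hc
    rw [Category.comp_id] at h2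
    rw [h2] at h1
    rw [Category.assoc, e]
    exact h1
  have hzmk : AlgSp.Points.mk p = AlgSp.Points.ofPt a u := rfl
  have hcp : AlgSp.RepWith @IsClosedImmersion p.toHom := repWith_closedImmersion_point hd p (hzmk ▸ hz)
  haveI : Flat j.left := AlgSpLib.flat_fromSpecStalk u
  refine ⟨R, inferInstance, str, (AlgSp.yon S).map j ≫ a, p, t, inferInstance,
    AlgSpLib.repWith_comp ((repWith_yon_map_iff (P := @Flat) j).2 inferInstance)
      (AlgSpLib.repWith_mono (fun _ _ g (_ : Etale g) => (inferInstance : Flat g)) ha), ?_, hzmk, hcp, sqt, ?_,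
    ⟨U, a, u, ha, rfl, rfl⟩⟩
  · rw [AlgSpLib.ofPt_yon_comp]
    exact congrArg (AlgSp.Points.ofPt a) (U.left.fromSpecStalk_closedPoint (x := u))
  intro I hI n hn Zn iZ hIn P fst snd sqP
  obtain ⟨hp', hI'⟩ := hI
  obtain ⟨hiZ, hIn'⟩ := hIn
  -- every point of `Zn` lies over the closed point
  have hZpt : ∀ w : AlgSp.Points Zn, AlgSp.Points.map iZ w = AlgSp.Points.ofPt a u := by
    intro w
    by_contra hne
    obtain ⟨ι', Us, as, hUs, has, -, hcov⟩ := AlgSpLib.exists_affine_charts X.property
    obtain ⟨k, v₀, hv₀⟩ := hcov (AlgSp.Points.map iZ w)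
    obtain ⟨v, rfl⟩ := (AlgSp.Points.schemeHomeo (Us k)).surjective v₀
    have hv : AlgSp.Points.ofPt (as k) v = AlgSp.Points.map iZ w :=
      (AlgSp.Points.ofPt_eq_map_ofScheme _ _).trans hv₀
    obtain ⟨_, ⟨W, hW, rfl⟩, hvW, hWsub⟩ := (Us k).left.isBasis_affineOpens.exists_subset_of_mem_open
      (show v ∈ AlgSp.Points.ofPt (as k) ⁻¹' {AlgSp.Points.ofPt a u}ᶜ by
        rw [Set.mem_preimage, hv]; exact hne)
      (hz.isOpen_compl.preimage (AlgSp.Points.continuous_ofPt _))
    let V : Over S := Over.mk (Scheme.Opens.ι W ≫ (Us k).hom)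
    let b : (AlgSp.yon S).obj V ⟶ X.obj :=
      (AlgSp.yon S).map (Over.homMk (Scheme.Opens.ι W) rfl : V ⟶ Us k) ≫ as k
    have hb : AlgSp.RepWith @Etale b := AlgSpLib.repWith_comp
      ((repWith_yon_map_iff (P := @Etale) _).2 (inferInstanceAs (Etale (Scheme.Opens.ι W)))) (has k)
    let E : AlgSp.EtOver X.obj := AlgSp.EtOver.mk b hb
    haveI hE : IsAffine E.obj.left.left := hW
    have hbv : ∀ q : ↥V.left, AlgSp.Points.ofPt b q ≠ AlgSp.Points.ofPt a u := fun q => by
      rw [AlgSpLib.ofPt_yon_comp]; exact hWsub q.2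
    -- the ideal of the point is the unit ideal there
    have hIE : I.ideal E hE = ⊤ := by
      rw [← hI', Ideal.eq_top_iff_one, AlgSp.mem_idealOfRep_iff]
      haveI : IsEmpty ↥(hp'.rep.pullback E.obj.hom).left := ⟨fun q => by
        haveI : Subsingleton ↥p.pt.left := inferInstanceAs (Subsingleton (PrimeSpectrum p.K))
        have h1 := congrArg (fun e => AlgSp.Points.ofPt e q) (hp'.rep.isPullback E.obj.hom).w
        replace h1 := (congrArg (fun e => AlgSp.Points.ofPt e q) (hp'.rep.isPullback E.obj.hom).w.symm).symm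
        rw [← AlgSp.Points.map_ofPt, AlgSpLib.ofPt_yon_comp] at h1
        refine hbv _ (h1.symm.trans ?_)
        obtain ⟨r, hr⟩ := (AlgSp.Points.schemeHomeo p.pt).surjective (AlgSp.Points.ofPt (hp'.rep.fst E.obj.hom) q)
        rw [← hr]
        exact (AlgSp.Points.ofPt_eq_map_ofScheme _ _).symm.trans (AlgSp.Points.ofPt_toHom p r)⟩
      haveI : Subsingleton Γ((hp'.rep.pullback E.obj.hom).left, ⊤) := by
        rw [show (⊤ : (hp'.rep.pullback E.obj.hom).left.Opens) = ⊥ from
          TopologicalSpace.Opens.ext (Set.eq_empty_of_isEmpty _)]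
        infer_instance
      exact Subsingleton.elim (α := Γ((hp'.rep.pullback E.obj.hom).left, ⊤)) _ _
    have hInE : (AlgSp.idealOfRep hiZ.rep).ideal E hE = ⊤ := by
      rw [hIn', AlgSp.IdealEt.pow_ideal, hIE, Ideal.top_pow]
    haveI : IsClosedImmersion (hiZ.rep.snd E.obj.hom).left := hiZ.property_snd _
    haveI : IsAffine (hiZ.rep.pullback E.obj.hom).left := isAffine_of_isAffineHom (hiZ.rep.snd E.obj.hom).left
    haveI : Subsingleton Γ((hiZ.rep.pullback E.obj.hom).left, ⊤) := by
      rw [← subsingleton_iff_zero_eq_one, ← map_one (hiZ.rep.snd E.obj.hom).left.appTop.hom]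
      exact ((AlgSp.mem_idealOfRep_iff hiZ.rep E hE 1).1 (hInE ▸ Submodule.mem_top)).symm
    obtain ⟨q, -, -⟩ := AlgSpLib.exists_point_isPullback (hiZ.rep.isPullback E.obj.hom) w
      (AlgSp.Points.ofScheme V ⟨v, hvW⟩) (hv.symm.trans ((AlgSpLib.ofPt_yon_comp
        (Over.homMk (Scheme.Opens.ι W) rfl : V ⟶ Us k) (as k) ⟨v, hvW⟩).symm.trans
          (AlgSp.Points.ofPt_eq_map_ofScheme b _)))
    obtain ⟨q', -⟩ := (AlgSp.Points.schemeHomeo _).surjective q
    exact IsEmpty.false (α := PrimeSpectrum Γ((hiZ.rep.pullback E.obj.hom).left, ⊤))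
      ((hiZ.rep.pullback E.obj.hom).left.isoSpec.hom q')
  -- the base change of `Zn` to `U` maps isomorphically to `Zn`
  have hZn : AlgSp.IsAlgSpace Zn := AlgSpLib.isAlgSpace_of_representable X.property iZ hiZ.rep
  have sqW := (hiZ.rep.isPullback a).flip
  let W := hiZ.rep.pullback a
  have hfe : AlgSp.RepWith @Etale (hiZ.rep.fst a) := AlgSpLib.repWith_of_isPullback sqW ha
  haveI : IsClosedImmersion (hiZ.rep.snd a).left := hiZ.property_snd a
  haveI hWs : Subsingleton ↥W.left := ⟨fun s s' => (hiZ.rep.snd a).left.isClosedEmbedding.injective <| by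
    have key : ∀ s : ↥W.left, (hiZ.rep.snd a).left s = u := fun s => by
      have h1 := congrArg (fun e => AlgSp.Points.ofPt e s) (hiZ.rep.isPullback a).w
      rw [← AlgSp.Points.map_ofPt, AlgSpLib.ofPt_yon_comp] at h1
      have : (hiZ.rep.snd a).left s ∈ AlgSp.Points.ofPt a ⁻¹' {AlgSp.Points.ofPt a u} :=
        h1.symm.trans (hZpt _)
      rwa [huniq] at this
    rw [key s, key s']⟩
  have hWsurj : Function.Surjective (AlgSp.Points.map (hiZ.rep.fst a)) := fun w => by
    obtain ⟨q, hq, -⟩ := AlgSpLib.exists_point_isPullback (hiZ.rep.isPullback a) w (AlgSp.Points.ofScheme U u)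
      ((hZpt w).trans (AlgSp.Points.ofPt_eq_map_ofScheme a u))
    exact ⟨q, hq⟩
  haveI : Mono (hiZ.rep.fst a) := by
    let Q := pullback (hiZ.rep.fst a) (hiZ.rep.fst a)
    haveI : IsIso (pullback.diagonal (hiZ.rep.fst a)) := by
      refine AlgSpLib.isIso_of_openImmersion_surjective (AlgSpLib.openImmersion_diagonal_of_isEtaleMor
        (AlgSp.IsAlgSpace.yon_obj W) hZn (AlgSpLib.isEtaleMor_of_repWith hfe)) fun r => ?_
      refine ⟨AlgSp.Points.map (pullback.fst _ _) r, ?_⟩
      -- both points lie over the unique point of the fibre of `U ×_X U`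
      haveI : Subsingleton (AlgSp.Points ((AlgSp.yon S).obj W)) := (AlgSp.Points.schemeHomeo W).symm.injective.subsingleton
      let c : Q ⟶ pullback a a := pullback.map (hiZ.rep.fst a) (hiZ.rep.fst a) a a
        ((AlgSp.yon S).map (hiZ.rep.snd a)) ((AlgSp.yon S).map (hiZ.rep.snd a)) iZ
        (hiZ.rep.isPullback a).w (hiZ.rep.isPullback a).w
      haveI : Mono ((AlgSp.yon S).map (hiZ.rep.snd a)) :=
        AlgSpRegLib.mono_of_closedImmersion ((repWith_yon_map_iff (P := @IsClosedImmersion) _).2 inferInstance)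
      haveI : Mono c := ⟨fun g h e => pullback.hom_ext
        ((cancel_mono ((AlgSp.yon S).map (hiZ.rep.snd a))).1 (by
          have := congrArg (· ≫ pullback.fst a a) e
          simpa [c] using this))
        ((cancel_mono ((AlgSp.yon S).map (hiZ.rep.snd a))).1 (by
          have := congrArg (· ≫ pullback.snd a a) e
          simpa [c] using this))⟩
      refine AlgSpLib.injective_map_of_mono c ?_
      -- points of `U ×_X U` over the closed point form the image of the fibre
      have sqU := IsPullback.of_hasPullback a a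
      have hone : ∀ q q' : AlgSp.Points (pullback a a),
          AlgSp.Points.map (pullback.fst a a ≫ a) q = AlgSp.Points.ofPt a u →
          AlgSp.Points.map (pullback.fst a a ≫ a) q' = AlgSp.Points.ofPt a u → q = q' := by
        have e1 : (AlgSp.yon S).map io ≫ a = (AlgSp.yon S).map io ≫ a := rfl
        have sqUU : IsPullback (pullback.lift ((AlgSp.yon S).map io) ((AlgSp.yon S).map io) e1) (𝟙 _)
            (pullback.fst a a ≫ a) p.toHom := by
          refine ⟨⟨by rw [← Category.assoc, pullback.lift_fst]; exact sqa.w⟩,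
            ⟨PullbackCone.IsLimit.mk _ (fun c => c.snd) ?_ (fun c => Category.comp_id _)
              (fun c m _ h2 => (Category.comp_id m).symm.trans h2)⟩⟩
          intro c
          have hc1 : (c.fst ≫ pullback.fst a a) ≫ a = c.snd ≫ p.toHom := by rw [Category.assoc]; exact c.condition
          have hc2 : (c.fst ≫ pullback.snd a a) ≫ a = c.snd ≫ p.toHom := by
            rw [Category.assoc, ← sqU.w]; exact c.condition
          have f1 := sqa.lift_fst _ _ hc1
          have g1 := sqa.lift_snd _ _ hc1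
          have f2 := sqa.lift_fst _ _ hc2
          have g2 := sqa.lift_snd _ _ hc2
          rw [Category.comp_id] at g1 g2
          rw [g1] at f1
          rw [g2] at f2
          refine pullback.hom_ext ?_ ?_
          · rw [Category.assoc, pullback.lift_fst]; exact f1
          · rw [Category.assoc, pullback.lift_snd]; exact f2
        intro q q' hq hq'
        haveI : Subsingleton ↥p.pt.left := inferInstanceAs (Subsingleton (PrimeSpectrum p.K))
        let o := AlgSp.Points.ofScheme p.pt (IsLocalRing.closedPoint p.K)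
        have ho : AlgSp.Points.map p.toHom o = AlgSp.Points.ofPt a u :=
          (AlgSp.Points.ofPt_eq_map_ofScheme _ _).symm.trans (AlgSp.Points.ofPt_toHom p _)
        obtain ⟨o1, ho1, ho1'⟩ := AlgSpLib.exists_point_isPullback sqUU q o (hq.trans ho.symm)
        obtain ⟨o2, ho2, ho2'⟩ := AlgSpLib.exists_point_isPullback sqUU q' o (hq'.trans ho.symm)
        rw [AlgSp.Points.map_id] at ho1' ho2'
        rw [← ho1, ← ho2, ho1', ho2']
      have hover : ∀ r' : AlgSp.Points Q,
          AlgSp.Points.map (pullback.fst a a ≫ a) (AlgSp.Points.map c r') = AlgSp.Points.ofPt a u := fun r' => by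
        rw [← AlgSp.Points.map_comp, show c ≫ pullback.fst a a ≫ a = (pullback.fst _ _ ≫ hiZ.rep.fst a) ≫ iZ from by
          simp [c, (hiZ.rep.isPullback a).w], AlgSp.Points.map_comp]
        exact hZpt _
      exact hone _ _ (hover _) (hover _)
    exact (pullback.isIso_diagonal_iff _).1 inferInstance
  haveI : IsIso (hiZ.rep.fst a) := AlgSpLib.isIso_of_openImmersion_surjective
    (AlgSpLib.repWith_openImmersion_of_mono_etale (AlgSp.IsAlgSpace.yon_obj W) hZn _
      (AlgSpLib.isEtaleMor_of_repWith hfe)) hWsurj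
  -- the localization does not change the thickened point
  let l : P ⟶ (AlgSp.yon S).obj W := (hiZ.rep.isPullback a).lift snd (fst ≫ (AlgSp.yon S).map j)
    (by rw [Category.assoc]; exact sqP.w.symm)
  have hl1 : l ≫ hiZ.rep.fst a = snd := (hiZ.rep.isPullback a).lift_fst _ _ _
  have hl2 : l ≫ (AlgSp.yon S).map (hiZ.rep.snd a) = fst ≫ (AlgSp.yon S).map j :=
    (hiZ.rep.isPullback a).lift_snd _ _ _
  have sql : IsPullback l fst ((AlgSp.yon S).map (hiZ.rep.snd a)) ((AlgSp.yon S).map j) :=
    IsPullback.of_right (by rw [hl1]; exact sqP.flip) hl2 (hiZ.rep.isPullback a)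
  haveI : IsAffine W.left := isAffine_of_isAffineHom (hiZ.rep.snd a).left
  haveI : IsAffineHom j.left := isAffineHom_of_isAffine (X := Spec R) j.left
  haveI : IsIso l := by
    refine AlgSpLib.isIso_of_repWith (P := ((@Flat ⊓ @Surjective) ⊓ (@QuasiCompact ⊓
        MorphismProperty.monomorphisms Scheme.{u}) : MorphismProperty Scheme.{u})) (fun g hg => ?_) ?_
    · haveI := hg.1.1; haveI := hg.1.2; haveI := hg.2.1; haveI : Mono g := hg.2.2
      exact Flat.isIso_of_surjective_of_mono g
    · have hl0 : AlgSp.RepWith (@Flat ⊓ (@QuasiCompact ⊓ MorphismProperty.monomorphisms Scheme.{u})) l :=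
        AlgSpLib.repWith_of_isPullback sql.flip ((repWith_yon_map_iff
          (P := (@Flat ⊓ (@QuasiCompact ⊓ MorphismProperty.monomorphisms Scheme.{u}) : MorphismProperty Scheme.{u})) j).2
            ⟨inferInstance, inferInstance, (inferInstanceAs (Mono j.left))⟩)
      have hls : Function.Surjective (AlgSp.Points.map l) := fun w => by
        obtain ⟨s, rfl⟩ := (AlgSp.Points.schemeHomeo W).surjective w
        have h1 := congrArg (fun e => AlgSp.Points.ofPt e s) (hiZ.rep.isPullback a).w
        rw [← AlgSp.Points.map_ofPt, AlgSpLib.ofPt_yon_comp] at h1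
        have hsu : (hiZ.rep.snd a).left s = u := by
          have : (hiZ.rep.snd a).left s ∈ AlgSp.Points.ofPt a ⁻¹' {AlgSp.Points.ofPt a u} :=
            h1.symm.trans (hZpt _)
          rwa [huniq] at this
        obtain ⟨q, hq, -⟩ := AlgSpLib.exists_point_isPullback sql (AlgSp.Points.ofScheme W s)
          (AlgSp.Points.ofScheme (Over.mk str) (IsLocalRing.closedPoint R))
          ((AlgSp.Points.map_yon_map_apply (hiZ.rep.snd a) s).trans (by
            refine (congrArg (AlgSp.Points.schemeHomeo U) (hsu.trans ?_)).trans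
              (AlgSp.Points.map_yon_map_apply j (IsLocalRing.closedPoint R)).symm
            exact (U.left.fromSpecStalk_closedPoint (x := u)).symm))
        exact ⟨q, hq⟩
      exact ⟨hl0.rep, fun _ _ g f' s' sq' => ⟨⟨(hl0.property g f' s' sq').1,
        ((AlgSpLib.repWith_surjective_iff hl0.rep).2 hls).property g f' s' sq'⟩, (hl0.property g f' s' sq').2⟩⟩
  rw [← hl1]
  infer_instance

end Groth.Agent.S14987
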