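import Groth.Statements.S14988
import Mathlib
import Groth.Agent.ModSiteLib.PullTensorIso
import Groth.Agent.ResBdyLib.Good
import Groth.Agent.CohCmpLib.HomLift
-- import your own Groth.Agent.* helpers here

set_option autoImplicit false
universe u
open CategoryTheory CategoryTheory.Limits AlgebraicGeometry
open ResProp

namespace Groth.Agent.S14988

/-- In the case of schemes, let f : X ⟶ Y be a morphism of quasi-compact quasi-separated schemes. If
every quasi-coherent module on Y is a quotient of a direct sum of finite locally free modules (Y has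
the resolution property) and some family (W_i) of finite locally free modules on X is f-generating,
i.e. every quasi-coherent module on X is a quotient of a direct sum of modules W_i ⊗ f^*N with N
quasi-coherent on Y, then every quasi-coherent module on X is a quotient of a direct sum of finite
locally free modules (X has the resolution property). (The published statement is for quasi-compact
quasi-separated morphisms of algebraic stacks and assumes the family universally f-generating; this
row is the case of schemes and assumes the family only f-generating, which is what the argument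
uses.) -/
theorem result {X Y : Scheme.{u}}
    [CompactSpace X] [QuasiSeparatedSpace X] [CompactSpace Y] [QuasiSeparatedSpace Y] (f : X ⟶ Y)
    (hY : ∀ N : Y.Modules, Coh.IsQCoh N →
      ∃ (κ : Type u) (V : κ → Y.Modules) (π : (∐ V) ⟶ N), (∀ k, FlatMod.IsFinLocFree (V k)) ∧ Epi π)
    {ι : Type u} (W : ι → X.Modules) (hW : ∀ i, FlatMod.IsFinLocFree (W i))
    (hf : ∀ M : X.Modules, Coh.IsQCoh M →
      ∃ (κ : Type u) (j : κ → ι) (N : κ → Y.Modules)
        (π : (∐ fun k => CohB1.tensorMod (W (j k)) ((Scheme.Modules.pullback f).obj (N k))) ⟶ M),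
        (∀ k, Coh.IsQCoh (N k)) ∧ Epi π) :
    ∀ M : X.Modules, Coh.IsQCoh M →
      ∃ (κ : Type u) (E : κ → X.Modules) (π : (∐ E) ⟶ M), (∀ k, FlatMod.IsFinLocFree (E k)) ∧ Epi π := by
  intro M hM
  obtain ⟨κ, j, N, π, hN, hπ⟩ := hf M hM
  choose κ' V p hV hp using fun k => hY (N k) (hN k)
  let T : κ → Y.Modules ⥤ X.Modules := fun k =>
    Scheme.Modules.pullback f ⋙ (DCoh.tensorBi (X := X)).obj (W (j k))
  have hT : ∀ k, (T k).IsLeftAdjoint := fun k => by
    haveI : ((DCoh.tensorBi (X := X)).obj (W (j k))).IsLeftAdjoint :=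
      ModSiteLib.isLeftAdjoint_tensor (O := X.sheaf) (W (j k))
    haveI : (Scheme.Modules.pullback f).IsLeftAdjoint := (Scheme.Modules.pullbackPushforwardAdjunction f).isLeftAdjoint
    exact inferInstanceAs (Scheme.Modules.pullback f ⋙ (DCoh.tensorBi (X := X)).obj (W (j k))).IsLeftAdjoint
  let E : (Σ k, κ' k) → X.Modules := fun s => (T s.1).obj (V s.1 s.2)
  let ρ : ∀ k, (∐ fun l => (T k).obj (V k l)) ⟶ (T k).obj (N k) := fun k =>
    haveI := hT k
    (PreservesCoproduct.iso (T k) (V k)).inv ≫ (T k).map (p k)
  have hρ : ∀ k, Epi (ρ k) := fun k => by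
    haveI := hT k
    haveI := hp k
    haveI : Epi ((T k).map (p k)) := Functor.map_epi (T k) (p k)
    exact epi_comp _ _
  let τ : (∐ E) ⟶ ∐ fun k => CohB1.tensorMod (W (j k)) ((Scheme.Modules.pullback f).obj (N k)) :=
    Sigma.desc fun s => (Sigma.ι (fun l => (T s.1).obj (V s.1 l)) s.2 ≫ ρ s.1 :
      E s ⟶ CohB1.tensorMod (W (j s.1)) ((Scheme.Modules.pullback f).obj (N s.1))) ≫
        Sigma.ι (fun k => CohB1.tensorMod (W (j k)) ((Scheme.Modules.pullback f).obj (N k))) s.1
  have hτ : Epi τ := ⟨fun {Z} g h hgh => Sigma.hom_ext _ _ fun k => by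
    haveI := hρ k
    refine (cancel_epi (Z := Z) (ρ k : (∐ fun l => (T k).obj (V k l)) ⟶
      CohB1.tensorMod (W (j k)) ((Scheme.Modules.pullback f).obj (N k)))).mp ?_
    refine Sigma.hom_ext _ _ fun l => ?_
    have := congrArg (fun q => Sigma.ι E ⟨k, l⟩ ≫ q) hgh
    simp only [τ, Sigma.ι_desc_assoc, Category.assoc] at this
    exact this⟩
  haveI := hτ
  haveI := hπ
  exact ⟨Σ k, κ' k, E, τ ≫ π, fun s => ResBdyLib.isFinLocFree_tens (hW _) (CohCmpLib.isFinLocFree_pb f (hV _ _)),
    epi_comp τ π⟩

end Groth.Agent.S14988
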