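import Groth.Statements.S14990
import Groth.Agent.BertiniJetLib.Zero
import Groth.Agent.TwistLib.PullGen
import Groth.Prelude.Def_Pic

set_option autoImplicit false
universe u
open CategoryTheory CategoryTheory.Limits AlgebraicGeometry
open Variety

namespace Groth.Agent.S14990

private theorem invertible_of_rank_one {Y : Scheme.{u}} (M : Y.Modules) (h : FlatMod.IsFinLocFreeOfRank 1 M) :
    PicF.IsInvertible M := fun x => by
  obtain ⟨U, hx, ⟨a⟩⟩ := h x
  exact ⟨U, hx, ⟨a ≪≫ Limits.coproductUniqueIso fun _ : Fin 1 => Coh.structureModule (↑U)⟩⟩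

/-- Let k be an algebraically closed field, Y a scheme smooth and of finite type over k, L an invertible
O_Y-module, s_1, …, s_m global sections of L (morphisms O_Y ⟶ L) such that at every closed point p
the span of the s_i maps onto L_p/m_p^2 L_p, and f a further global section of L. Then the zero
scheme of f + Σ c_i s_i is smooth over k for all c outside the zero set of some nonzero polynomial
in m variables. (The published hypothesis is stated at every point of Y; it can only hold at closed
points, which is where the argument uses it, so this row asks it at closed points.) -/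
theorem result (k : Type u) [Field k] [IsAlgClosed k]
    (Y : Scheme.{u}) [Y.Over (Spec (CommRingCat.of k))] [Smooth (Y ↘ Spec (CommRingCat.of k))]
    [QuasiCompact (Y ↘ Spec (CommRingCat.of k))]
    (L : Y.Modules) (hL : FlatMod.IsFinLocFreeOfRank 1 L) (m : ℕ)
    (s : Fin m → (Coh.structureModule Y ⟶ L)) (f : Coh.structureModule Y ⟶ L)
    (hjet : ∀ p : Y, IsClosed ({p} : Set Y) → ∀ l : ↥(L.presheaf.stalk p), ∃ c : Fin m → k,
      (L.presheaf.germ ⊤ p trivial)
          (PicF2.secVal L (∑ i : Fin m, Formal.smulMod k (Coh.structureModule Y) (c i) ≫ s i) ⊤) - l ∈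
        (IsLocalRing.maximalIdeal ↥(Y.presheaf.stalk p)) ^ 2 •
          (⊤ : Submodule ↥(Y.presheaf.stalk p) ↥(L.presheaf.stalk p))) :
    ∃ q : MvPolynomial (Fin m) k, q ≠ 0 ∧ ∀ c : Fin m → k, MvPolynomial.eval c q ≠ 0 →
      Smooth ((PicF2.zeroScheme L (f + ∑ i : Fin m, Formal.smulMod k (Coh.structureModule Y) (c i) ≫ s i)).subschemeι ≫
        (Y ↘ Spec (CommRingCat.of k))) := by
  classical
  have hL' := (invertible_of_rank_one L hL)
  let fY := Y ↘ Spec (CommRingCat.of k)
  haveI : CompactSpace Y := QuasiCompact.compactSpace_of_compactSpace fY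
  haveI : JacobsonSpace Y := LocallyOfFiniteType.jacobsonSpace fY
  have hloc : ∀ y : Y, ∃ (W : Y.affineOpens) (g : Γ(L, W.1)), y ∈ W.1 ∧ AmpleLib.GenOn L g := fun y => by
    obtain ⟨U, e, hy, he⟩ := TwistLib.exists_genOn hL' y
    obtain ⟨W, hW, hyW, hWU⟩ := exists_isAffineOpen_mem_and_subset hy
    exact ⟨⟨W, hW⟩, _, hyW, he.res hWU⟩
  choose W g hmem hg using hloc
  obtain ⟨S, hS⟩ := isCompact_univ.elim_finite_subcover (fun y : Y => ((W y).1 : Set Y))
    (fun y => (W y).1.2) (fun y _ => Set.mem_iUnion.2 ⟨y, hmem y⟩)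
  have hq : ∀ y : Y, ∃ q : MvPolynomial (Fin m) k, q ≠ 0 ∧ ∀ c, MvPolynomial.eval c q ≠ 0 →
      letI := BertiniJetLib.algOn fY (W y).1
      Algebra.Smooth k (Γ(Y, (W y).1) ⧸
        (PicF2.zeroScheme L (f + ∑ i : Fin m, Formal.smulMod k (Coh.structureModule Y) (c i) ≫ s i)).ideal (W y)) := by
    intro y
    letI := BertiniJetLib.algOn fY (W y).1
    haveI : Algebra.Smooth k Γ(Y, (W y).1) := BertiniJetLib.smooth_algOn fY (W y)
    haveI : Algebra.FiniteType k Γ(Y, (W y).1) := inferInstance
    let co : (Coh.structureModule Y ⟶ L) → Γ(Y, (W y).1) := fun t =>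
      ((hg y (W y).1 le_rfl).2 (MeroLib.secOn t (W y).1)).choose
    have hco : ∀ t, co t • g y = MeroLib.secOn t (W y).1 := fun t => by
      have := ((hg y (W y).1 le_rfl).2 (MeroLib.secOn t (W y).1)).choose_spec
      show ((hg y (W y).1 le_rfl).2 (MeroLib.secOn t (W y).1)).choose • g y = _
      simpa only [AmpleLib.res_refl] using this
    have hjet' : ∀ P : Ideal Γ(Y, (W y).1), P.IsMaximal → ∀ t, ∃ c : Fin m → k,
        t - ∑ i, algebraMap k Γ(Y, (W y).1) (c i) * co (s i) ∈ P ^ 2 := by
      intro P hP t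
      let x : Spec Γ(Y, (W y).1) := ⟨P, hP.isPrime⟩
      let p : Y := (W y).2.fromSpec x
      have hpW : p ∈ (W y).1 := by
        rw [← SetLike.mem_coe, ← (W y).2.range_fromSpec]; exact ⟨x, rfl⟩
      haveI : JacobsonSpace ↥(Spec Γ(Y, (W y).1)) := LocallyOfFiniteType.jacobsonSpace ((W y).2.fromSpec ≫ fY)
      have hclosed : IsClosed ({p} : Set Y) := by
        have hx : x ∈ closedPoints ↥(Spec Γ(Y, (W y).1)) :=
          (PrimeSpectrum.isClosed_singleton_iff_isMaximal x).2 hP
        rwa [← (W y).2.fromSpec.isOpenEmbedding.preimage_closedPoints] at hx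
      let germO := Y.presheaf.germ (W y).1 p hpW
      obtain ⟨c, hc⟩ := hjet p hclosed (L.presheaf.germ (W y).1 p hpW (t • g y))
      let z : Γ(Y, (W y).1) := ∑ i, algebraMap k Γ(Y, (W y).1) (c i) * co (s i) - t
      have hz : germO z • L.presheaf.germ (W y).1 p hpW (g y) ∈
          (IsLocalRing.maximalIdeal ↥(Y.presheaf.stalk p)) ^ 2 •
            (⊤ : Submodule ↥(Y.presheaf.stalk p) ↥(L.presheaf.stalk p)) := by
        convert hc using 1
        rw [← AmpleLib.germ_smul, sub_smul, map_sub, Finset.sum_smul]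
        refine congrArg₂ (· - ·) ?_ rfl
        refine Eq.trans ?_ (AmpleLib.germ_res L (le_top (a := (W y).1)) _ hpW)
        refine congrArg _ (Eq.trans ?_ (MeroLib.secOn_res _ _).symm)
        rw [BertiniJetLib.secOn_sum]
        exact Finset.sum_congr rfl fun i _ => by rw [mul_smul, hco]
      have hzm : germO z ∈ (IsLocalRing.maximalIdeal ↥(Y.presheaf.stalk p)) ^ 2 := by
        let e : ↥(Y.presheaf.stalk p) ≃ₗ[↥(Y.presheaf.stalk p)] ↥(L.presheaf.stalk p) :=
          LinearEquiv.ofBijective (LinearMap.toSpanSingleton _ _ (L.presheaf.germ (W y).1 p hpW (g y)))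
            ((hg y).genAt hpW)
        have h2 : e (germO z) ∈ Submodule.map e.toLinearMap
            ((IsLocalRing.maximalIdeal ↥(Y.presheaf.stalk p)) ^ 2 • (⊤ : Submodule _ ↥(Y.presheaf.stalk p))) := by
          rw [Submodule.map_smul'', Submodule.map_top, LinearEquiv.range]
          exact hz
        obtain ⟨r, hr, hre⟩ := h2
        rw [← e.injective hre]
        simpa only [SetLike.mem_coe, smul_eq_mul, Ideal.mul_top] using hr
      letI : Algebra Γ(Y, (W y).1) ↥(Y.presheaf.stalk p) := germO.hom.toAlgebra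
      haveI : IsLocalization.AtPrime ↥(Y.presheaf.stalk p) P := (W y).2.isLocalization_stalk' x hpW
      rw [← IsLocalization.AtPrime.map_eq_maximalIdeal P, ← Ideal.map_pow] at hzm
      obtain ⟨⟨⟨b, hb⟩, ⟨d, hd⟩⟩, hbd⟩ := (IsLocalization.mem_map_algebraMap_iff P.primeCompl _).1 hzm
      obtain ⟨⟨d', hd'⟩, hd''⟩ := IsLocalization.exists_of_eq (M := P.primeCompl) (S := ↥(Y.presheaf.stalk p))
        (x := z * d) (y := b) (by rw [map_mul]; exact hbd)
      have hsz : (d' * d) * z ∈ P ^ 2 := by
        rw [show (d' * d) * z = d' * (z * d) by ring, show d' * (z * d) = d' * b from hd'']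
        exact Ideal.mul_mem_left _ _ hb
      have hu : d' * d ∉ P := fun h => (hP.isPrime.mem_or_mem h).elim hd' hd
      obtain ⟨v, w, hw, hvw⟩ := hP.exists_inv hu
      have hzP : z ∈ P := (hP.isPrime.mem_or_mem (Ideal.pow_le_self two_ne_zero hsz)).resolve_left hu
      refine ⟨c, ?_⟩
      rw [show t - ∑ i, algebraMap k Γ(Y, (W y).1) (c i) * co (s i) = -(v * ((d' * d) * z) + w * z) from by
        linear_combination z * hvw]
      refine neg_mem (add_mem (Ideal.mul_mem_left _ _ hsz) ?_)
      rw [sq]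
      exact Ideal.mul_mem_mul hw hzP
    obtain ⟨q, hq0, hq⟩ := BertiniJetLib.exists_smooth_equation (k := k) (fun i => co (s i)) (co f) hjet'
    refine ⟨q, hq0, fun c hc => ?_⟩
    have hF : (co f + ∑ i, algebraMap k Γ(Y, (W y).1) (c i) * co (s i)) • g y =
        MeroLib.secOn (f + ∑ i : Fin m, Formal.smulMod k (Coh.structureModule Y) (c i) ≫ s i) (W y).1 := by
      rw [BertiniJetLib.secOn_add_sum, add_smul, Finset.sum_smul, hco]
      exact congrArg _ (Finset.sum_congr rfl fun i _ => by rw [mul_smul, hco])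
    haveI := hq c hc
    exact Algebra.Smooth.of_equiv
      (Ideal.quotientEquivAlgOfEq k (MeroLib.zeroScheme_ideal_of_genOn hL' _ (hg y) hF).symm)
  choose q hq0 hq using hq
  refine ⟨∏ y ∈ S, q y, Finset.prod_ne_zero_iff.2 fun y _ => hq0 y, fun c hc => ?_⟩
  refine BertiniJetLib.smooth_subschemeι_comp fY _ (fun y : S => W y) (top_le_iff.1 fun z _ => ?_) fun y => ?_
  · obtain ⟨y, hy, hz⟩ := Set.mem_iUnion₂.1 (hS (Set.mem_univ z))
    exact TopologicalSpace.Opens.mem_iSup.2 ⟨⟨y, hy⟩, hz⟩
  · exact hq y c fun h => hc (by rw [map_prod]; exact Finset.prod_eq_zero y.2 h)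

end Groth.Agent.S14990
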