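import Groth.Statements.S1691
import Groth.Agent.RefHullLib.BigOpen
import Groth.Agent.S2250

-- import your own Groth.Agent.* helpers here

set_option autoImplicit false
universe u
open CategoryTheory CategoryTheory.Limits AlgebraicGeometry TopologicalSpace
open SDiv

namespace Groth.Agent.S1691




/-- Let X be an integral locally Noetherian scheme and j : U ⟶ X an open subscheme such that the local
ring of X at every point outside U has depth at least 2. Then (a) for every coherent reflexive
module F on X the canonical map F ⟶ j_* j^* F is an isomorphism, and (b) for every coherent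
reflexive module G on U the direct image j_* G is coherent and reflexive (so that j^* and j_* are
mutually inverse equivalences). -/
theorem result (X : Scheme.{u}) [IsIntegral X] [IsLocallyNoetherian X] (U : X.Opens)
    (hU : ∀ x : ↥X, x ∉ U → (2 : ℕ∞) ≤ LocCoh.depth (X.presheaf.stalk x) (X.presheaf.stalk x)) :
    (∀ F : X.Modules, Coh.IsCoh F → (∀ x : ↥X, Module.IsReflexive (X.presheaf.stalk x) (F.presheaf.stalk x)) →
        IsIso ((Scheme.Modules.restrictAdjunction U.ι).unit.app F)) ∧
      (∀ G : (U : Scheme.{u}).Modules, Coh.IsCoh G → (∀ x : ↥(U : Scheme.{u}), Module.IsReflexive ((U : Scheme.{u}).presheaf.stalk x) (G.presheaf.stalk x)) →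
        Coh.IsCoh ((Scheme.Modules.pushforward U.ι).obj G) ∧
          (∀ x : ↥X, Module.IsReflexive (X.presheaf.stalk x) (((Scheme.Modules.pushforward U.ι).obj G).presheaf.stalk x))) := by
  have part1 : ∀ F : X.Modules, Coh.IsCoh F →
      (∀ x : ↥X, Module.IsReflexive (X.presheaf.stalk x) (F.presheaf.stalk x)) →
        IsIso ((Scheme.Modules.restrictAdjunction U.ι).unit.app F) := fun F hF hr =>
    RefHullLib.isIso_unit_of_depth U hF fun x hx => by
      haveI := hF.1
      haveI := DepthLib.finite_stalk F hF.2 x
      haveI := hr x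
      exact DepthTwoLib.two_le_iff.2 ((DepthTwoLib.idealDepth_reflexive _).2 (DepthTwoLib.two_le_iff.1 (hU x hx)))
  refine ⟨part1, fun G hG hGr => ?_⟩
  haveI := hG.1
  haveI : Coh.IsQCoh ((Scheme.Modules.pushforward U.ι).obj G) := QCohLib.isQCoh_pushforward U.ι G
  have hnoeth : ∀ x : X, ∃ V : X.Opens, x ∈ V ∧ TopologicalSpace.NoetherianSpace (V : Set X) := fun x => by
    obtain ⟨V, hV, hx⟩ := QCohLib.exists_affine_nhd x
    exact ⟨V, hx, ZClosLib.noetherianSpace_of_isCompact hV.isCompact⟩
  obtain ⟨G', _, e, _, hq, hft, -⟩ := S2250.result hnoeth U ((Scheme.Modules.pushforward U.ι).obj G) G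
    (inv ((Scheme.Modules.restrictAdjunction U.ι).counit.app G)) hG.2
  have hG' : Coh.IsCoh G' := ⟨hq, hft⟩
  haveI : IsIso ((Scheme.Modules.restrictFunctor U.ι).map (RefHull.bidualMap G')) :=
    RefHullLib.isIso_restrict U.ι _ fun v => (RefHullLib.bijective_stalk_bidual_iff hG' (U.ι v)).2 (by
      haveI := hGr v
      haveI := RefHullLib.reflexive_stalk_of_iso e.symm v
      exact (RefHullLib.isReflexive_restrict_iff U.ι G' v).1 inferInstance)
  have hH : Coh.IsCoh (RefHull.ddual G') := RefHullLib.isCoh_dual (RefHullLib.isCoh_dual hG')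
  have hHr := RefHullLib.reflexive_stalk_ddual hG'
  haveI := part1 _ hH hHr
  let ε : RefHull.ddual G' ≅ (Scheme.Modules.pushforward U.ι).obj G :=
    asIso ((Scheme.Modules.restrictAdjunction U.ι).unit.app (RefHull.ddual G')) ≪≫
      (Scheme.Modules.pushforward U.ι).mapIso
        ((asIso ((Scheme.Modules.restrictFunctor U.ι).map (RefHull.bidualMap G'))).symm ≪≫ e)
  exact ⟨QCohLib.isCoh_of_iso ε hH, fun x => by
    haveI := hHr x
    exact RefHullLib.reflexive_stalk_of_iso ε x⟩


end Groth.Agent.S1691
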