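import Groth.Statements.S14991
import Groth.Agent.S1691
import Groth.Agent.S1617
import Groth.Agent.FibDimLib.Comps
import Groth.Agent.PerfLib.Strict
import Groth.Agent.PerfLib.Coherent
import Groth.Agent.CohCmpLib.HomLift
import Groth.Agent.MiscFlat6.FreeStalks
import Groth.Agent.DepthLib.RegAB
import Groth.Agent.RefHullLib.Hartogs
-- import your own Groth.Agent.* helpers here

set_option autoImplicit false
set_option maxHeartbeats 2000000
set_option backward.isDefEq.respectTransparency false
universe u
open CategoryTheory CategoryTheory.Limits AlgebraicGeometry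
open ResProp

namespace Groth.Agent.S14991

namespace Groth.Agent.S14991Aux

/-- Surjectivity on the stalk at a point near which the restriction is epi. -/
theorem stalk_surjective_of_epi_restrict {X : Scheme.{u}} (U : X.Opens) {M N : X.Modules} (φ : M ⟶ N)
    [Epi ((Scheme.Modules.restrictFunctor U.ι).map φ)] (v : U) :
    Function.Surjective ((DerSch.stalkFunctor X (U.ι v)).map φ).hom := by
  have h : Function.Surjective
      ((DerSch.stalkFunctor (U : Scheme.{u}) v).map ((Scheme.Modules.restrictFunctor U.ι).map φ)).hom :=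
    (CohCmpLib.surjective_stalk_iff (u := (Scheme.Modules.restrictFunctor U.ι).map φ) v).2
      ((ModuleCat.isZero_iff_subsingleton
        (M := (DerSch.stalkFunctor (U : Scheme.{u}) v).obj (cokernel ((Scheme.Modules.restrictFunctor U.ι).map φ)))).1
        ((KFlatLib.isZero_iff_forall_stalk (cokernel ((Scheme.Modules.restrictFunctor U.ι).map φ))).1
          (isZero_cokernel_of_epi ((Scheme.Modules.restrictFunctor U.ι).map φ)) v))
  haveI hv : Epi ((Scheme.Modules.restrictFunctor U.ι ⋙ Scheme.Modules.toPresheaf (U : Scheme.{u}) ⋙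
      TopCat.Presheaf.stalkFunctor Ab.{u} (v : (U : Scheme.{u}).toTopCat)).map φ) :=
    ConcreteCategory.epi_of_surjective _ h
  let η := Scheme.Modules.restrictStalkNatIso U.ι v
  haveI : Epi ((Scheme.Modules.toPresheaf X ⋙
      TopCat.Presheaf.stalkFunctor Ab.{u} (U.ι v : X.toTopCat)).map φ) := by
    haveI : Epi (η.hom.app M ≫ (Scheme.Modules.toPresheaf X ⋙
        TopCat.Presheaf.stalkFunctor Ab.{u} (U.ι v : X.toTopCat)).map φ) := by
      rw [← η.hom.naturality φ]; exact epi_comp _ _
    exact epi_of_epi (η.hom.app M) _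
  exact (AddCommGrpCat.epi_iff_surjective ((Scheme.Modules.toPresheaf X ⋙
      TopCat.Presheaf.stalkFunctor Ab.{u} (U.ι v : X.toTopCat)).map φ)).1 inferInstance

/-- A reflexive stalk over a regular local ring of dimension two is free. -/
theorem free_of_reflexive_dim_two {R : Type u} [CommRing R] [IsRegularLocalRing R] (M : Type u)
    [AddCommGroup M] [Module R M] [Module.Finite R M] [Module.IsReflexive R M]
    (hd : ringKrullDim R = 2) : Module.Free R M := by
  haveI : Module.Projective R M := by
    rw [← CommAlgDim.pdlt_one_iff]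
    have hd' : ringKrullDim R = ((2 : ℕ) : WithBot ℕ∞) := by rw [hd]; rfl
    have h3 := (DepthLib.le_depth_add_iff_pdlt R M hd' 0 2).1 (by
      rw [Nat.cast_zero, add_zero]
      show ((2 : ℕ∞) : WithBot ℕ∞) ≤ _
      exact WithBot.coe_le_coe.2 (RefHullLib.depth_reflexive M hd.ge))
    exact h3
  exact Module.free_of_flat_of_isLocalRing

variable {k : Type u} [Field k] (X : Scheme.{u}) [X.Over (Spec (CommRingCat.of k))] [IsIntegral X]
  [LocallyOfFiniteType (X ↘ Spec (CommRingCat.of k))] [IsLocallyNoetherian X]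

include k in
theorem exists_cover (hdim : topologicalKrullDim ↥X = 2) (F : X.Modules) (hF : Coh.IsCoh F)
    (p : X) (hp : IsClosed ({p} : Set X)) (hpreg : IsRegularLocalRing ↥(X.presheaf.stalk p))
    (hFp : ∃ W : X.Opens, p ∈ W ∧ FlatMod.IsFinLocFree (F.restrict W.ι))
    (U : X.Opens) (hU : (U : Set X) = {p}ᶜ)
    (E : (U : Scheme.{u}).Modules) (π : E ⟶ F.restrict U.ι) (hE : FlatMod.IsFinLocFree E) [Epi π] :
    ∃ (G : X.Modules) (ψ : G ⟶ F), FlatMod.IsFinLocFree G ∧
      ∀ y : X, y ≠ p → Function.Surjective ((DerSch.stalkFunctor X y).map ψ).hom := by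
  haveI := hpreg
  have hd : ringKrullDim (X.presheaf.stalk p) = 2 := by
    rw [← Groth.Agent.S1617.result k X p hp, FibDimLib.localDim_of_irreducible (X ↘ Spec (CommRingCat.of k)) p, hdim]
  have hout : ∀ x : X, x ∉ U → x = p := fun x hx => by
    by_contra h
    exact hx (show x ∈ (U : Set X) by rw [hU]; exact h)
  have hdepth : ∀ x : X, x ∉ U → (2 : ℕ∞) ≤ LocCoh.depth (X.presheaf.stalk x) (X.presheaf.stalk x) := fun x hx => by
    obtain rfl := hout x hx
    exact RefHullLib.depth_reflexive _ hd.ge
  haveI := hF.1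
  have hFfree : Module.Free (X.presheaf.stalk p) (F.presheaf.stalk p) := by
    obtain ⟨W, hpW, hW⟩ := hFp
    exact (RefHullLib.free_restrict_iff W.ι F ⟨p, hpW⟩).1 (MiscFlat6.free_stalk_of_isFinLocFree hW _)
  haveI hu : IsIso ((Scheme.Modules.restrictAdjunction U.ι).unit.app F) :=
    RefHullLib.isIso_unit_of_depth U hF fun x hx => by
      obtain rfl := hout x hx
      haveI := DepthLib.finite_stalk F hF.2 x
      haveI := hFfree
      exact RefHullLib.depth_reflexive _ hd.ge
  have hEc := PerfLib.isCoh_of_isFinLocFree hE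
  haveI := hEc.1
  have hG := (Groth.Agent.S1691.result X U hdepth).2 E hEc fun x => by
    haveI := MiscFlat6.free_stalk_of_isFinLocFree hE x
    haveI := DepthLib.finite_stalk E hEc.2 x
    infer_instance
  obtain ⟨hGc, hGr⟩ := hG
  haveI := hGc.1
  let G := (Scheme.Modules.pushforward U.ι).obj E
  let ψ : G ⟶ F := (Scheme.Modules.pushforward U.ι).map π ≫ inv ((Scheme.Modules.restrictAdjunction U.ι).unit.app F)
  refine ⟨G, ψ, MiscFlat6.isFP_and_free_iff.1 ⟨QCohLib.isFP_of_isCoh G hGc, fun x => ?_⟩, fun y hy => ?_⟩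
  · by_cases hx : x ∈ U
    · haveI := MiscFlat6.free_stalk_of_isFinLocFree hE (⟨x, hx⟩ : U)
      haveI : Module.Free ((U : Scheme.{u}).presheaf.stalk ⟨x, hx⟩) ((G.restrict U.ι).presheaf.stalk ⟨x, hx⟩) :=
        RefHullLib.free_stalk_of_iso (A := E) (asIso ((Scheme.Modules.restrictAdjunction U.ι).counit.app E)).symm _
      exact (RefHullLib.free_restrict_iff U.ι G ⟨x, hx⟩).1 inferInstance
    · obtain rfl := hout x hx
      haveI := hGr x
      haveI := DepthLib.finite_stalk G hGc.2 x
      exact free_of_reflexive_dim_two _ hd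
  · have hyU : y ∈ U := show y ∈ (U : Set X) by rw [hU]; exact hy
    haveI : Epi ((Scheme.Modules.restrictFunctor U.ι).map ((Scheme.Modules.pushforward U.ι).map π)) := by
      have hn := (Scheme.Modules.restrictAdjunction U.ι).counit.naturality π
      simp only [Functor.comp_map, Functor.id_map] at hn
      have he : (Scheme.Modules.restrictFunctor U.ι).map ((Scheme.Modules.pushforward U.ι).map π) =
          ((Scheme.Modules.restrictAdjunction U.ι).counit.app E ≫ π) ≫
            inv ((Scheme.Modules.restrictAdjunction U.ι).counit.app (F.restrict U.ι)) := by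
        rw [IsIso.eq_comp_inv]; exact hn
      rw [he]; infer_instance
    haveI : Epi ((Scheme.Modules.restrictFunctor U.ι).map ψ) := by
      rw [Functor.map_comp]
      exact epi_comp _ _
    exact stalk_surjective_of_epi_restrict U ψ ⟨y, hyU⟩

end Groth.Agent.S14991Aux


/-- In the case of schemes, let X be an integral scheme of dimension 2, separated and of finite type
over a field k and regular in codimension 1, F a coherent module on X, and p ≠ q regular closed
points of X near each of which F is finite locally free. If F restricted to X minus q and F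
restricted to X minus p are both quotients of finite locally free modules, then F is a quotient of a
finite locally free module on X. (The published statement is for algebraic spaces and also assumes F
locally free off a closed subset of codimension 2, an assumption the argument does not use; this row
is the case of schemes without it.) -/
theorem result {k : Type u} [Field k] (X : Scheme.{u})
    [X.Over (Spec (CommRingCat.of k))] [IsIntegral X] [IsSeparated (X ↘ Spec (CommRingCat.of k))]
    [LocallyOfFiniteType (X ↘ Spec (CommRingCat.of k))] [QuasiCompact (X ↘ Spec (CommRingCat.of k))]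
    (hdim : topologicalKrullDim ↥X = 2)
    (hR1 : ∀ x : X, ringKrullDim ↥(X.presheaf.stalk x) ≤ 1 → IsRegularLocalRing ↥(X.presheaf.stalk x))
    (F : X.Modules) (hF : Coh.IsCoh F) (p q : X) (hpq : p ≠ q)
    (hp : IsClosed ({p} : Set X)) (hq : IsClosed ({q} : Set X))
    (hpreg : IsRegularLocalRing ↥(X.presheaf.stalk p)) (hqreg : IsRegularLocalRing ↥(X.presheaf.stalk q))
    (hFp : ∃ W : X.Opens, p ∈ W ∧ FlatMod.IsFinLocFree (F.restrict W.ι))
    (hFq : ∃ W : X.Opens, q ∈ W ∧ FlatMod.IsFinLocFree (F.restrict W.ι))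
    (Up Uq : X.Opens) (hUp : (Up : Set X) = {p}ᶜ) (hUq : (Uq : Set X) = {q}ᶜ)
    (hp' : ∃ (E : (↑Up : Scheme.{u}).Modules) (π : E ⟶ F.restrict Up.ι), FlatMod.IsFinLocFree E ∧ Epi π)
    (hq' : ∃ (E : (↑Uq : Scheme.{u}).Modules) (π : E ⟶ F.restrict Uq.ι), FlatMod.IsFinLocFree E ∧ Epi π) :
    ∃ (E : X.Modules) (π : E ⟶ F), FlatMod.IsFinLocFree E ∧ Epi π := by
  haveI : IsLocallyNoetherian X := LocallyOfFiniteType.isLocallyNoetherian (X ↘ Spec (CommRingCat.of k))
  obtain ⟨E₁, π₁, hE₁, hπ₁⟩ := hp'
  obtain ⟨E₂, π₂, hE₂, hπ₂⟩ := hq'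
  obtain ⟨G₁, ψ₁, hG₁, h₁⟩ := Groth.Agent.S14991Aux.exists_cover (k := k) X hdim F hF p hp hpreg hFp Up hUp E₁ π₁ hE₁
  obtain ⟨G₂, ψ₂, hG₂, h₂⟩ := Groth.Agent.S14991Aux.exists_cover (k := k) X hdim F hF q hq hqreg hFq Uq hUq E₂ π₂ hE₂
  refine ⟨G₁ ⊞ G₂, biprod.desc ψ₁ ψ₂, PerfLib.isFinLocFree_biprod hG₁ hG₂, CohCmpLib.epi_of_stalk_surjective fun y z => ?_⟩
  rcases ne_or_eq y p with hy | hy
  · obtain ⟨w, hw⟩ := h₁ y hy z
    refine ⟨((DerSch.stalkFunctor X y).map biprod.inl).hom w, ?_⟩
    have h := congrArg (fun f => ((DerSch.stalkFunctor X y).map f).hom w) (biprod.inl_desc ψ₁ ψ₂)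
    simp only [Functor.map_comp] at h
    exact h.trans hw
  · obtain ⟨w, hw⟩ := h₂ y (hy ▸ hpq) z
    refine ⟨((DerSch.stalkFunctor X y).map biprod.inr).hom w, ?_⟩
    have h := congrArg (fun f => ((DerSch.stalkFunctor X y).map f).hom w) (biprod.inr_desc ψ₁ ψ₂)
    simp only [Functor.map_comp] at h
    exact h.trans hw

end Groth.Agent.S14991
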