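import Groth.Statements.S14994
import Mathlib.LinearAlgebra.Dual.Lemmas
import Mathlib.RingTheory.Localization.FractionRing
import Mathlib.RingTheory.Localization.Module
import Mathlib.Algebra.Module.LocalizedModule.IsLocalization
import Mathlib.Algebra.Module.FinitePresentation
import Mathlib.Algebra.Module.Torsion.Basic
import Mathlib.LinearAlgebra.Basis.VectorSpace
-- import your own Groth.Agent.* helpers here

set_option autoImplicit false
universe u
open CAlg

namespace Groth.Agent.S14994

/-- Let A be a Noetherian integrally closed domain, M a finitely generated torsion-free A-module, N a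
submodule of M and ι : M → M** the canonical map to the double dual. Write N** → M** for the double
dual of the inclusion N → M. Then every m ∈ M whose image ι(m) lies in the image of N** is a torsion
element modulo N: some nonzero a ∈ A satisfies a·m ∈ N. In other words the preimage of N** under ι
is contained in the saturation of N in M (the preimage of the torsion submodule of M/N), and the two
coincide when M/N is torsion-free. (The published statement asserts equality of the preimage with
the saturation for every N; for N = xA inside M = A = k[x] the saturation is all of M while N** has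
image xA = N under the identification M** = M, so only the inclusion stated here holds, and it is
the inclusion later used, for saturated N, where the two sides agree.) -/
theorem result (A : Type u) [CommRing A] [IsDomain A]
    [IsNoetherianRing A] [IsIntegrallyClosed A]
    (M : Type u) [AddCommGroup M] [Module A M] [Module.Finite A M] [NoZeroSMulDivisors A M]
    (N : Submodule A M) :
    (LinearMap.range N.subtype.dualMap.dualMap).comap (Module.Dual.eval A M) ≤
      (Submodule.torsion A (M ⧸ N)).comap N.mkQ := by
  intro m hm
  classical
  rw [Submodule.mem_comap] at hm ⊢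
  obtain ⟨ψ, hψ⟩ := hm
  by_contra hnt
  let K := FractionRing A
  let f := LocalizedModule.mkLinearMap (nonZeroDivisors A) (M ⧸ N)
  have hne : f (N.mkQ m) ≠ 0 := by
    intro h0
    apply hnt
    obtain ⟨c, hc⟩ := (IsLocalizedModule.eq_zero_iff (nonZeroDivisors A) f).mp h0
    exact ⟨c, hc⟩
  obtain ⟨φ, hφ⟩ : ∃ φ : LocalizedModule (nonZeroDivisors A) (M ⧸ N) →ₗ[K] K, φ (f (N.mkQ m)) ≠ 0 := by
    by_contra hc
    exact hne ((Module.forall_dual_apply_eq_zero_iff K _).mp fun φ => not_not.mp fun h => hc ⟨φ, h⟩)
  obtain ⟨s, hs⟩ := Module.Finite.exists_fin (R := A) (M := M)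
  obtain ⟨S, hS⟩ := hs
  let θ : M →ₗ[A] K := (φ.restrictScalars A) ∘ₗ f ∘ₗ N.mkQ
  let d := IsLocalization.commonDenom (nonZeroDivisors A) Finset.univ (fun i => θ (S i))
  have hint : ∀ x, (d : A) • θ x ∈ LinearMap.range (Algebra.linearMap A K) := by
    intro x
    have hle : Submodule.span A (Set.range S) ≤
        (LinearMap.range (Algebra.linearMap A K)).comap ((d : A) • θ) := Submodule.span_le.mpr (by
      rintro _ ⟨i, rfl⟩
      exact ⟨_, IsLocalization.map_integerMultiple (nonZeroDivisors A) Finset.univ (fun i => θ (S i)) ⟨i, Finset.mem_univ i⟩⟩)
    exact hle (hS ▸ Submodule.mem_top)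
  let e := LinearEquiv.ofInjective (Algebra.linearMap A K) (IsFractionRing.injective A K)
  let χ : Module.Dual A M := e.symm.toLinearMap ∘ₗ ((d : A) • θ).codRestrict _ hint
  have hχ : ∀ x, algebraMap A K (χ x) = (d : A) • θ x := fun x => by
    exact congr_arg Subtype.val (e.apply_symm_apply ⟨(d : A) • θ x, hint x⟩)
  have h1 : χ m = 0 := by
    have h2 : N.subtype.dualMap χ = 0 := by
      ext x
      apply IsFractionRing.injective A K
      show algebraMap A K (χ x) = algebraMap A K 0
      rw [map_zero]
      rw [hχ]
      simp [θ, (Submodule.Quotient.mk_eq_zero N).mpr x.2]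
    have h3 := DFunLike.congr_fun hψ χ
    simp only [LinearMap.dualMap_apply, h2, map_zero, Module.Dual.eval_apply] at h3
    exact h3.symm
  have h4 := hχ m
  rw [h1, map_zero, Algebra.smul_def] at h4
  rcases mul_eq_zero.mp h4.symm with h5 | h5
  · exact nonZeroDivisors.ne_zero d.2 (IsFractionRing.injective A K (by rw [h5, map_zero]))
  · exact hφ h5

end Groth.Agent.S14994
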