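import Groth.Statements.S14997
import Mathlib.Algebra.Polynomial.Taylor
import Mathlib.Algebra.BigOperators.Field
-- import your own Groth.Agent.* helpers here

set_option autoImplicit false
open HilbPol

namespace Groth.Agent.S14997

open Polynomial Finset

/-- The normalised coefficient `α_i`. -/
noncomputable def α (P : ℚ[X]) (i : ℕ) : ℚ := P.coeff i * (i.factorial : ℚ)

theorem coeff_comp_sub (P : ℚ[X]) (a : ℚ) (d i : ℕ) (hP : P.natDegree ≤ d) :
    (P.comp (X - C a)).coeff i * (i.factorial : ℚ) = ∑ t ∈ range (d + 1 - i), (-a) ^ t / (t.factorial : ℚ) * α P (i + t) := by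
  have hcomp : P.comp (X - C a) = taylor (-a) P := by rw [taylor_apply, map_neg, sub_eq_add_neg]
  rw [hcomp, taylor_coeff, hasseDeriv_apply, sum_over_range' _ (fun n => by simp) (d + 1) (Nat.lt_succ_of_le hP),
    eval_finset_sum, sum_mul]
  simp only [eval_monomial]
  by_cases hi : i ≤ d
  · rw [show d + 1 = i + (d + 1 - i) by omega, sum_range_add, sum_eq_zero (fun x hx => by
      rw [Nat.choose_eq_zero_of_lt (mem_range.1 hx)]; simp), zero_add]
    rw [show i + (d + 1 - i) - i = d + 1 - i by omega]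
    refine sum_congr rfl fun t _ => ?_
    have h1 := Nat.choose_mul_factorial_mul_factorial (Nat.le_add_right i t)
    rw [Nat.add_sub_cancel_left] at h1
    have h2 : ((i + t).choose i : ℚ) * i.factorial * t.factorial = (i + t).factorial := by exact_mod_cast h1
    have ht : (t.factorial : ℚ) ≠ 0 := Nat.cast_ne_zero.2 t.factorial_ne_zero
    rw [α, Nat.add_sub_cancel_left, ← h2]
    field_simp
  · rw [show d + 1 - i = 0 by omega, range_zero, sum_empty]
    refine sum_eq_zero fun x hx => ?_
    rw [Nat.choose_eq_zero_of_lt (by rw [mem_range] at hx; omega)]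
    simp

theorem α_diff (P : ℚ[X]) (a : ℚ) (d i : ℕ) (hP : P.natDegree ≤ d) (hi : i < d) :
    α (P - P.comp (X - C a)) i =
      a * α P (i + 1) - ∑ t ∈ range (d - i - 1), (-a) ^ (t + 2) / ((t + 2).factorial : ℚ) * α P (i + (t + 2)) := by
  rw [α, coeff_sub, sub_mul, coeff_comp_sub P a d i hP, show d + 1 - i = d - i - 1 + 1 + 1 by omega,
    sum_range_succ', sum_range_succ']
  simp only [α, Nat.factorial_zero, pow_zero, Nat.cast_one, add_zero, zero_add, pow_one, Nat.factorial_one]
  ring

theorem fn_toLex_iff {l : ℕ} (f g f' g' : Fin l → ℚ)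
    (h : ∀ i : Fin l, (∀ j < i, f j = g j) → (f' i - g' i = f i - g i)) :
    toLex f ≤ toLex g ↔ toLex f' ≤ toLex g' := by
  have key : ∀ i : Fin l, (∀ j < i, f' j = g' j) ↔ (∀ j < i, f j = g j) := by
    intro i
    induction i using WellFoundedLT.induction with
    | ind i ih =>
      constructor
      · intro h' j hj
        have h1 := (ih j hj).1 fun l hl => h' l (hl.trans hj)
        have := h j h1
        rw [h' j hj, sub_self] at this
        exact sub_eq_zero.1 this.symm
      · intro h' j hj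
        have := h j fun l hl => h' l (hl.trans hj)
        rw [h' j hj, sub_self] at this
        exact sub_eq_zero.1 this
  have hlt : toLex f < toLex g ↔ toLex f' < toLex g' := by
    show (∃ i, (∀ j, j < i → f j = g j) ∧ f i < g i) ↔ (∃ i, (∀ j, j < i → f' j = g' j) ∧ f' i < g' i)
    refine exists_congr fun i => ?_
    rw [key i, and_congr_right_iff]
    intro hi
    have := h i hi
    constructor <;> intro h1 <;> linarith
  have heq : toLex f = toLex g ↔ toLex f' = toLex g' := by
    rw [toLex_inj, toLex_inj, funext_iff, funext_iff]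
    constructor
    · intro h1 i
      have := h i fun j _ => h1 j
      rw [h1 i, sub_self] at this
      exact sub_eq_zero.1 this
    · intro h1 i
      have := h i ((key i).1 fun j _ => h1 j)
      rw [h1 i, sub_self] at this
      exact sub_eq_zero.1 this.symm
  rw [le_iff_lt_or_eq, le_iff_lt_or_eq]
  exact or_congr hlt heq

open Polynomial in
/-- Let d and ℓ be natural numbers with ℓ + 1 ≤ d, let a be a nonzero rational number and let P, Q be
polynomials with rational coefficients, both of degree exactly d. For a polynomial R of degree e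
write R(m) = Σ_i α_i(R) m^i / i! (so α_i(R) = i! · coeff_i(R)) and let r_ℓ(R) ∈ ℚ^ℓ be the vector
(α_{e−1}(R)/α_e(R), …, α_{e−ℓ}(R)/α_e(R)) of the ℓ coefficients after the leading one of the reduced
polynomial R/α_e(R), ordered lexicographically. The polynomials P(m) − P(m − a) and Q(m) − Q(m − a)
have degree d − 1, and r_ℓ(P) ≤ r_ℓ(Q) lexicographically if and only if r_ℓ(P(m) − P(m − a)) ≤
r_ℓ(Q(m) − Q(m − a)) lexicographically (hence the same with strict inequalities, by exchanging P and
Q). When P and Q are the Hilbert polynomials of pure d-dimensional coherent sheaves E → F on a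
polarized projective scheme and D is a hypersurface section of degree a containing no associated
point of E or F, the Hilbert polynomials of E|_D and F|_D are P(m) − P(m − a) and Q(m) − Q(m − a),
and the two sides are the comparisons of the ℓ-truncated reduced Hilbert polynomials p_ℓ(E) ≥ p_ℓ(F)
and p_ℓ(E|_D) ≥ p_ℓ(F|_D). (The published statement is phrased for the sheaves; this row is the
statement about their Hilbert polynomials that the displayed coefficient formula yields.) -/
theorem result (d ℓ : ℕ) (hℓ : ℓ + 1 ≤ d) (a : ℚ) (ha : a ≠ 0)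
    (P Q : ℚ[X]) (hP : P.natDegree = d) (hQ : Q.natDegree = d) (hP0 : P ≠ 0) (hQ0 : Q ≠ 0) :
    toLex (fun j : Fin ℓ => ((P).coeff (d - 1 - (j : ℕ)) * (Nat.factorial (d - 1 - (j : ℕ)) : ℚ)) / ((P).coeff (d) * (Nat.factorial (d) : ℚ))) ≤ toLex (fun j : Fin ℓ => ((Q).coeff (d - 1 - (j : ℕ)) * (Nat.factorial (d - 1 - (j : ℕ)) : ℚ)) / ((Q).coeff (d) * (Nat.factorial (d) : ℚ))) ↔
      toLex (fun j : Fin ℓ => ((P - P.comp (X - C a)).coeff ((d - 1) - 1 - (j : ℕ)) * (Nat.factorial ((d - 1) - 1 - (j : ℕ)) : ℚ)) / ((P - P.comp (X - C a)).coeff ((d - 1)) * (Nat.factorial ((d - 1)) : ℚ))) ≤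
        toLex (fun j : Fin ℓ => ((Q - Q.comp (X - C a)).coeff ((d - 1) - 1 - (j : ℕ)) * (Nat.factorial ((d - 1) - 1 - (j : ℕ)) : ℚ)) / ((Q - Q.comp (X - C a)).coeff ((d - 1)) * (Nat.factorial ((d - 1)) : ℚ))) := by
  have hlead : ∀ P : ℚ[X], P.natDegree = d → P ≠ 0 → α P d ≠ 0 := fun P hP hP0 =>
    mul_ne_zero (by rw [← hP]; exact Polynomial.leadingCoeff_ne_zero.2 hP0) (Nat.cast_ne_zero.2 (Nat.factorial_ne_zero d))
  have hdiff : ∀ P : ℚ[X], P.natDegree = d → α (P - P.comp (X - C a)) (d - 1) = a * α P d := fun P hP => by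
    rw [α_diff P a d (d - 1) hP.le (by omega), show d - (d - 1) - 1 = 0 by omega, Finset.range_zero, Finset.sum_empty,
      sub_zero, show d - 1 + 1 = d by omega]
  refine fn_toLex_iff _ _ _ _ fun i hi => ?_
  show α (P - P.comp (X - C a)) ((d - 1) - 1 - (i : ℕ)) / α (P - P.comp (X - C a)) (d - 1) -
      α (Q - Q.comp (X - C a)) ((d - 1) - 1 - (i : ℕ)) / α (Q - Q.comp (X - C a)) (d - 1) =
    α P (d - 1 - (i : ℕ)) / α P d - α Q (d - 1 - (i : ℕ)) / α Q d
  have hile := i.2
  have hk : (d - 1) - 1 - (i : ℕ) < d := by omega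
  have hagree : ∀ t ∈ Finset.range (d - ((d - 1) - 1 - (i : ℕ)) - 1),
      α P ((d - 1) - 1 - (i : ℕ) + (t + 2)) / α P d = α Q ((d - 1) - 1 - (i : ℕ) + (t + 2)) / α Q d := by
    intro t ht
    rw [Finset.mem_range] at ht
    by_cases htop : (d - 1) - 1 - (i : ℕ) + (t + 2) = d
    · rw [htop, div_self (hlead P hP hP0), div_self (hlead Q hQ hQ0)]
    · have := hi ⟨(i : ℕ) - (t + 1), by omega⟩ (Fin.lt_def.2 (by show (i : ℕ) - (t + 1) < i; omega))
      rw [show (d - 1) - 1 - (i : ℕ) + (t + 2) = d - 1 - ((i : ℕ) - (t + 1)) by omega]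
      exact this
  rw [hdiff P hP, hdiff Q hQ, α_diff P a d _ hP.le hk, α_diff Q a d _ hQ.le hk,
    show (d - 1) - 1 - (i : ℕ) + 1 = d - 1 - (i : ℕ) by omega, sub_div, sub_div, mul_div_mul_left _ _ ha,
    mul_div_mul_left _ _ ha, Finset.sum_div, Finset.sum_div]
  have hs : ∀ t ∈ Finset.range (d - ((d - 1) - 1 - (i : ℕ)) - 1),
      (-a) ^ (t + 2) / ((t + 2).factorial : ℚ) * α P ((d - 1) - 1 - (i : ℕ) + (t + 2)) / (a * α P d) =
      (-a) ^ (t + 2) / ((t + 2).factorial : ℚ) * α Q ((d - 1) - 1 - (i : ℕ) + (t + 2)) / (a * α Q d) := fun t ht => by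
    rw [mul_div_mul_comm, mul_div_mul_comm, hagree t ht]
  rw [Finset.sum_congr rfl hs]
  ring

end Groth.Agent.S14997
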