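import Groth.Statements.S14998
import Groth.Agent.DvrDom.Criteria
import Groth.Agent.SweepSix.Constr
import Groth.Agent.AVAmpleLib.ReducedSub

set_option autoImplicit false
set_option backward.isDefEq.respectTransparency false
set_option linter.style.haveILetI false
set_option maxHeartbeats 1000000
universe u
open CategoryTheory CategoryTheory.Limits AlgebraicGeometry
open AlgGrp

namespace Groth.Agent.S14998

/-- Lifting a specialization along a `G`-universally closed composite, up to a translation. -/
theorem exists_dvr_lift {k : Type u} [Field k] {G R S T : Over (Spec (CommRingCat.of k))} [GrpObj G]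
    {a : AlgGrp.Action G R} {f : R ⟶ S} {q : S ⟶ T}
    (hf : W4c2lssmoduli.IsInvariantMor a f) (hp : W4c2lssmoduli.IsGUnivClosed a (f ≫ q))
    {R' Y' : Scheme.{u}} [IsLocallyNoetherian Y'] (pT : R' ⟶ Y') [LocallyOfFiniteType pT]
    (e : R' ⟶ R.left) (g : Y' ⟶ T.left) (he : e ≫ f.left ≫ q.left = pT ≫ g)
    (r : R') (y' : Y') (hsp : pT r ⤳ y') (hne : y' ≠ pT r) :
    ∃ (A : Type u) (_ : CommRing A) (_ : IsDomain A) (_ : IsDiscreteValuationRing A)
      (_ : Algebra A (R'.residueField r)) (_ : IsFractionRing A (R'.residueField r))
      (i : Spec (CommRingCat.of A) ⟶ R.left) (v : Spec (CommRingCat.of A) ⟶ Y'),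
      i ≫ f.left ≫ q.left = v ≫ g ∧ v (IsLocalRing.closedPoint A) = y' ∧
      Spec.map (CommRingCat.ofHom (algebraMap A (R'.residueField r))) ≫ v = R'.fromSpecResidueField r ≫ pT ∧
      Spec.map (CommRingCat.ofHom (algebraMap A (R'.residueField r))) ≫ i ≫ f.left =
        R'.fromSpecResidueField r ≫ e ≫ f.left := by
  obtain ⟨A, v, hA, hclosed, hgen⟩ := DvrDomLib.exists_dvr_through_specialization pT r y' hsp hne
  haveI := hA
  set j := Spec.map (CommRingCat.ofHom (algebraMap A (R'.residueField r)))
  have hgen' : j ≫ v = R'.fromSpecResidueField r ≫ pT := hgen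
  let sA : Spec (CommRingCat.of A) ⟶ Spec (CommRingCat.of k) := v ≫ g ≫ T.hom
  have hw : (R'.fromSpecResidueField r ≫ e) ≫ R.hom = j ≫ sA := by
    rw [Category.assoc, ← Over.w (f ≫ q), Over.comp_left, Category.assoc, reassoc_of% he,
      ← reassoc_of% hgen']
  let x : Over.mk (j ≫ sA) ⟶ R := Over.homMk (R'.fromSpecResidueField r ≫ e) hw
  let h : Over.mk sA ⟶ T := Over.homMk (v ≫ g) (Category.assoc _ _ _)
  obtain ⟨i, γ, hi, hγ⟩ := hp.2 A (R'.residueField r) sA x h (Over.OverMorphism.ext (by
    show (R'.fromSpecResidueField r ≫ e) ≫ f.left ≫ q.left = j ≫ v ≫ g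
    rw [Category.assoc, he, reassoc_of% hgen']))
  refine ⟨A, inferInstance, inferInstance, hA, inferInstance, inferInstance, i.left, v,
    congrArg (fun φ : Over.mk sA ⟶ T => φ.left) hi, hclosed, hgen', ?_⟩
  have h2 : (Over.homMk j rfl : Over.mk (j ≫ sA) ⟶ Over.mk sA) ≫ i ≫ f = x ≫ f :=
    (Category.assoc _ _ _).symm.trans ((congrArg (· ≫ f) hγ).trans (by rw [Category.assoc, hf, CartesianMonoidalCategory.lift_snd_assoc]))
  exact (congrArg (fun φ : Over.mk (j ≫ sA) ⟶ S => φ.left) h2).trans (Category.assoc _ _ _)

/-- Let k be a field and G a group scheme over k (a group object of schemes over Spec k) acting on a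
k-scheme R of finite type. Let f : R → S and q : S → T be morphisms of k-schemes of finite type such
that q is separated, f is invariant under the action, and the composite p = q ∘ f is G-universally
closed: p is invariant and for every discrete valuation ring A over k with fraction field K, every
K-point of R and A-point of T over k forming a commutative square with p admit an A-point of R over
T restricting on Spec K to a translate of the given K-point by a K-point of G. Then the
set-theoretic image f(R) is closed in S, and the reduced closed subscheme of S with underlying set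
f(R) is proper over T. (The published statement fixes a connected algebraic group over the complex
numbers; this row allows any group scheme over any field, which is what the printed argument uses.) -/
theorem result (k : Type u) [Field k]
    (G R S T : Over (Spec (CommRingCat.of k))) [GrpObj G]
    [LocallyOfFiniteType R.hom] [CompactSpace ↥R.left] [LocallyOfFiniteType S.hom] [CompactSpace ↥S.left]
    [LocallyOfFiniteType T.hom] [CompactSpace ↥T.left]
    (a : AlgGrp.Action G R) (f : R ⟶ S) (q : S ⟶ T) [IsSeparated q.left]
    (hf : W4c2lssmoduli.IsInvariantMor a f) (hp : W4c2lssmoduli.IsGUnivClosed a (f ≫ q)) :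
    IsClosed (Set.range f.left.base) ∧
      IsProper ((Scheme.IdealSheafData.vanishingIdeal
          (⟨closure (Set.range f.left.base), isClosed_closure⟩ : TopologicalSpace.Closeds ↥S.left)).subschemeι ≫ q.left) := by
  haveI : IsLocallyNoetherian S.left := LocallyOfFiniteType.isLocallyNoetherian S.hom
  haveI : IsLocallyNoetherian T.left := LocallyOfFiniteType.isLocallyNoetherian T.hom
  haveI : IsNoetherian S.left := {}
  haveI : IsNoetherian T.left := {}
  haveI : LocallyOfFiniteType f.left := by
    haveI : LocallyOfFiniteType (f.left ≫ S.hom) := by rw [Over.w f]; infer_instance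
    exact locallyOfFiniteType_of_comp f.left S.hom
  haveI : LocallyOfFiniteType q.left := by
    haveI : LocallyOfFiniteType (q.left ≫ T.hom) := by rw [Over.w q]; infer_instance
    exact locallyOfFiniteType_of_comp q.left T.hom
  haveI : LocallyOfFinitePresentation f.left := inferInstance
  have hspec : StableUnderSpecialization (Set.range f.left) := by
    rintro _ y' hsp ⟨r, rfl⟩
    by_cases hne : y' = f.left r
    · exact ⟨r, hne.symm⟩
    obtain ⟨A, _, _, _, _, _, i, v, hiv, hclosed, hgen, hgen'⟩ :=
      exists_dvr_lift hf hp f.left (𝟙 _) q.left (Category.id_comp _) r y' hsp hne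
    have huv : i ≫ f.left = v := by
      refine DvrDomLib.dvrUniqueness_of_isSeparated q.left A _ _ (by rw [Category.assoc, hiv]) ?_
      let e := FractionRing.algEquiv A (R.left.residueField r)
      have he : Spec.map (CommRingCat.ofHom (algebraMap A (FractionRing A))) =
          Spec.map (CommRingCat.ofHom e.symm.toRingHom) ≫
            Spec.map (CommRingCat.ofHom (algebraMap A (R.left.residueField r))) := by
        rw [← Spec.map_comp]
        congr 1
        ext z
        exact (e.symm.commutes z).symm
      rw [he, Category.assoc, Category.assoc, hgen', hgen, Category.id_comp]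
    exact ⟨i (IsLocalRing.closedPoint A), by rw [← Scheme.Hom.comp_apply, huv, hclosed]⟩
  have hclosed : IsClosed (Set.range f.left) := SweepSix.isClosed_of_stableUnderSpecialization
    (by rw [← Set.image_univ]; exact f.left.isConstructible_image Topology.IsConstructible.univ) hspec
  refine ⟨hclosed, ?_⟩
  set I := Scheme.IdealSheafData.vanishingIdeal
    (⟨closure (Set.range f.left.base), isClosed_closure⟩ : TopologicalSpace.Closeds ↥S.left)
  have hrange : Set.range I.subschemeι = Set.range f.left := by
    rw [Scheme.IdealSheafData.range_subschemeι, Scheme.IdealSheafData.coe_support_vanishingIdeal]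
    exact hclosed.closure_eq
  haveI : CompactSpace ↥I.subscheme := QuasiCompact.compactSpace_of_compactSpace I.subschemeι
  haveI : UniversallyClosed (I.subschemeι ≫ q.left) := by
    set p := I.subschemeι ≫ q.left
    refine IsZariskiLocalAtTarget.of_openCover (P := @UniversallyClosed) T.left.affineOpenCover.openCover
      fun c => ?_
    let B : CommRingCat.{u} := T.left.affineOpenCover.X c
    let g : Spec B ⟶ T.left := T.left.affineOpenCover.f c
    have : IsOpenImmersion g := T.left.affineOpenCover.map_prop c
    have : IsLocallyNoetherian (Spec B) := isLocallyNoetherian_of_isOpenImmersion g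
    have : IsNoetherianRing B := isLocallyNoetherian_Spec.mp this
    have : QuasiCompact (pullback.snd p g) := inferInstance
    show UniversallyClosed (pullback.snd p g)
    rw [universallyClosed_eq_universallySpecializing]
    refine ⟨DvrDomLib.Descent.universally_specializingMap _ fun D _ _ _ => ?_, inferInstance⟩
    set g₂ := Spec.map (CommRingCat.ofHom (algebraMap B D))
    have : IsNoetherianRing (CommRingCat.of D) := Algebra.FiniteType.isNoetherianRing B D
    have : IsLocallyNoetherian (Spec (CommRingCat.of D)) := isLocallyNoetherian_Spec.mpr this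
    intro z y' hsp
    by_cases hne : y' = pullback.snd (pullback.snd p g) g₂ z
    · exact ⟨z, specializes_rfl, hne.symm⟩
    let π := pullback.fst (pullback.snd p g) g₂ ≫ pullback.fst p g
    let f₁ := pullback.snd f.left I.subschemeι
    haveI : Surjective f₁ := ⟨fun w => by
      obtain ⟨r, hr⟩ := hrange.le ⟨w, rfl⟩
      obtain ⟨z', -, hz'⟩ := Scheme.Pullback.exists_preimage_pullback r w hr
      exact ⟨z', hz'⟩⟩
    haveI : Surjective (pullback.snd f₁ π) := MorphismProperty.pullback_snd (P := @Surjective) _ _ inferInstance
    obtain ⟨r, hr⟩ := (pullback.snd f₁ π).surjective z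
    subst hr
    have hcomm : π ≫ p = pullback.snd (pullback.snd p g) g₂ ≫ g₂ ≫ g := by
      simp only [π, Category.assoc, pullback.condition]
      rw [← pullback.condition_assoc]
    obtain ⟨A, _, _, _, _, _, i, v, hiv, hclosed', hgen, hgen'⟩ :=
      exists_dvr_lift hf hp (pullback.snd f₁ π ≫ pullback.snd (pullback.snd p g) g₂)
        (pullback.fst f₁ π ≫ pullback.fst f.left I.subschemeι) (g₂ ≫ g)
        (by rw [Category.assoc, Category.assoc, ← hcomm, ← pullback.condition_assoc, ← pullback.condition_assoc])
        r y' hsp hne
    obtain ⟨w, hw⟩ := AVAmpleLib.exists_lift_of_reduced I.subschemeι (i ≫ f.left) (by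
      rw [hrange]; rintro _ ⟨x, rfl⟩; exact ⟨i x, rfl⟩)
    let u₁ : Spec (CommRingCat.of A) ⟶ pullback p g := pullback.lift w (v ≫ g₂) (by
      show w ≫ I.subschemeι ≫ q.left = _
      rw [reassoc_of% hw, hiv, Category.assoc])
    let u : Spec (CommRingCat.of A) ⟶ pullback (pullback.snd p g) g₂ :=
      pullback.lift u₁ v (pullback.lift_snd _ _ _)
    set j := Spec.map (CommRingCat.ofHom (algebraMap A ((pullback f₁ π).residueField r)))
    have hu : j ≫ u = (pullback f₁ π).fromSpecResidueField r ≫ pullback.snd f₁ π := by
      refine pullback.hom_ext (pullback.hom_ext ?_ ?_) ?_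
      · rw [← cancel_mono I.subschemeι]
        simp only [Category.assoc, u, u₁, pullback.lift_fst_assoc, hw, hgen']
        rw [pullback.condition, pullback.condition_assoc]
        simp only [π, Category.assoc]
      · simp only [Category.assoc, u, u₁, pullback.lift_fst_assoc, pullback.lift_snd]
        rw [reassoc_of% hgen, pullback.condition]
      · simp only [Category.assoc, u, pullback.lift_snd, hgen]
    let o : Spec (CommRingCat.of ((pullback f₁ π).residueField r)) := IsLocalRing.closedPoint _
    refine ⟨u (IsLocalRing.closedPoint A), ?_, ?_⟩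
    · have hx : u (j o) = pullback.snd f₁ π r := by
        rw [← Scheme.Hom.comp_apply, hu, Scheme.Hom.comp_apply]
        exact congrArg _ (Scheme.fromSpecResidueField_apply r o)
      exact hx ▸ (IsLocalRing.specializes_closedPoint (R := A) _).map u.continuous
    · erw [← Scheme.Hom.comp_apply, pullback.lift_snd, hclosed']
  exact { }

end Groth.Agent.S14998
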