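import Groth.Statements.S14999
import Groth.Agent.NormFin.Field
import Groth.Agent.FieldsMiscLib.Basic
import Groth.Agent.DvrDom.Basic

set_option autoImplicit false
universe u
open CategoryTheory CategoryTheory.Limits AlgebraicGeometry
open AlgGrp

namespace Groth.Agent.S14999


section Alg

open IntermediateField

/-- Integral closure in a finitely generated field extension of a finite type algebra. -/
theorem finite_intClosure (k A L : Type u) [Field k] [CommRing A] [Algebra k A] [Algebra.FiniteType k A]
    [Field L] [Algebra A L] (s : Finset L) (hs : Subfield.closure (Set.range (algebraMap A L) ∪ s) = ⊤) :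
    Module.Finite A (integralClosure A L) := by
  let P : Ideal A := RingHom.ker (algebraMap A L)
  haveI : P.IsPrime := RingHom.ker_isPrime _
  let ι : A ⧸ P →+* L := RingHom.kerLift (algebraMap A L)
  letI : Algebra (A ⧸ P) L := ι.toAlgebra
  haveI : IsScalarTower A (A ⧸ P) L := IsScalarTower.of_algebraMap_eq fun _ => rfl
  let K := FractionRing (A ⧸ P)
  have hinj : Function.Injective (algebraMap (A ⧸ P) L) := RingHom.kerLift_injective _
  letI : Algebra K L := (IsFractionRing.lift hinj).toAlgebra
  haveI : IsScalarTower (A ⧸ P) K L := IsScalarTower.of_algebraMap_eq fun x =>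
    (IsFractionRing.lift_algebraMap hinj x).symm
  have hfg : (⊤ : IntermediateField K L).FG := by
    refine ⟨s, eq_top_iff.2 fun x _ => ?_⟩
    have hx : x ∈ Subfield.closure (Set.range (algebraMap A L) ∪ s) := hs ▸ Subfield.mem_top x
    refine (Subfield.closure_le (t := (adjoin K (s : Set L)).toSubfield)).2 ?_ hx
    rintro y (⟨a, rfl⟩ | hy)
    · rw [IsScalarTower.algebraMap_apply A (A ⧸ P) L, IsScalarTower.algebraMap_apply (A ⧸ P) K L]
      exact (adjoin K (s : Set L)).algebraMap_mem _
    · exact subset_adjoin K _ hy
  haveI := FieldsMiscLib.algebraicClosure_finite_of_fg hfg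
  let M := algebraicClosure K L
  letI : Algebra (A ⧸ P) M := ((algebraMap K M).comp (algebraMap (A ⧸ P) K)).toAlgebra
  haveI : IsScalarTower (A ⧸ P) K M := IsScalarTower.of_algebraMap_eq fun _ => rfl
  haveI hM : Module.Finite (A ⧸ P) (integralClosure (A ⧸ P) M) :=
    NormFinLib.finite_integralClosure_of_finiteType_field k (A ⧸ P) K M
  haveI : IsNoetherianRing A := Algebra.FiniteType.isNoetherianRing k A
  letI : Algebra A M := ((algebraMap (A ⧸ P) M).comp (algebraMap A (A ⧸ P))).toAlgebra
  haveI : IsScalarTower A (A ⧸ P) M := IsScalarTower.of_algebraMap_eq fun _ => rfl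
  haveI : Module.Finite A (integralClosure (A ⧸ P) M) := Module.Finite.trans (A ⧸ P) _
  have hval : ∀ a : A, ((algebraMap A M a : M) : L) = algebraMap A L a := fun a =>
    (IsScalarTower.algebraMap_apply (A ⧸ P) K L _).symm.trans (IsScalarTower.algebraMap_apply A (A ⧸ P) L a).symm
  let f : M →ₐ[A] L := { M.val.toRingHom with commutes' := hval }
  have hmem : ∀ x : integralClosure A L, (x : L) ∈ M := fun x =>
    mem_algebraicClosure_iff.2 (((x.2 : IsIntegral A (x : L)).tower_top (A := A ⧸ P)).tower_top (A := K)).isAlgebraic
  let F : integralClosure A L →ₗ[A] integralClosure (A ⧸ P) M :=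
    { toFun := fun x => ⟨⟨x, hmem x⟩,
        ((isIntegral_algHom_iff f Subtype.val_injective (x := ⟨x, hmem x⟩)).1 x.2).tower_top⟩
      map_add' := fun _ _ => rfl
      map_smul' := fun a x => Subtype.ext (Subtype.ext (by
        show a • (x : L) = f (a • ⟨x, hmem x⟩)
        rw [map_smul]
        rfl)) }
  exact Module.Finite.of_injective F fun x y h =>
    Subtype.ext (congrArg (fun z : integralClosure (A ⧸ P) M => f (z : M)) h)

end Alg

/-- Let k be a field, A a finitely generated k-algebra and G a group scheme over k acting on an integral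
k-scheme Y of finite type; let p : Y → Spec A be a morphism over k which is G-universally closed
(invariant under the action, and for every discrete valuation ring over k with fraction field K
every commutative square of a K-point of Y and a point of Spec A with values in that ring lifts, up
to translation of the K-point by a K-point of G, to a point of Y with values in the ring). Call a
global function s on Y invariant when its pullbacks along the action morphism and along the
projection G ×_k Y → Y agree. Then the invariant global functions form a finite A-module: there are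
finitely many invariant functions such that every invariant function is a linear combination of them
with coefficients from A (acting on Γ(Y, O_Y) through p). (The published statement is for an
integral G-stable closed subscheme Y of a G-universally closed scheme over Spec A, with k the
complex numbers and G a connected algebraic group; such a Y is itself G-universally closed over Spec
A, and the printed argument uses only a field k and a group scheme G.) -/
theorem result (k : Type u) [Field k]
    (G Y : Over (Spec (CommRingCat.of k))) [GrpObj G]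
    [LocallyOfFiniteType Y.hom] [CompactSpace ↥Y.left] [IsIntegral Y.left]
    (A : Type u) [CommRing A] [Algebra k A] [Algebra.FiniteType k A]
    (a : AlgGrp.Action G Y)
    (p : Y ⟶ Over.mk (Spec.map (CommRingCat.ofHom (algebraMap k A))))
    (hp : W4c2lssmoduli.IsGUnivClosed a p) :
    ∃ t : Finset ↑Γ(Y.left, ⊤),
      (∀ s ∈ t, a.act.left.appTop s = (CartesianMonoidalCategory.snd G Y).left.appTop s) ∧
      ∀ s : ↑Γ(Y.left, ⊤), a.act.left.appTop s = (CartesianMonoidalCategory.snd G Y).left.appTop s →
        ∃ c : ↑Γ(Y.left, ⊤) → A,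
          s = ∑ x ∈ t, ((Scheme.ΓSpecIso (CommRingCat.of A)).inv ≫ p.left.appTop) (c x) * x := by
  let η' := genericPoint ↥Y.left
  let L : Type u := Y.left.functionField
  let ge : Γ(Y.left, ⊤) ⟶ Y.left.functionField := Y.left.presheaf.germ ⊤ η' trivial
  let pA : CommRingCat.of A ⟶ Γ(Y.left, ⊤) := (Scheme.ΓSpecIso (CommRingCat.of A)).inv ≫ p.left.appTop
  have hp' : Y.left.toSpecΓ ≫ Spec.map pA = p.left := by
    rw [Spec.map_comp, ← Scheme.toSpecΓ_naturality_assoc]
    simp
  let ψ : CommRingCat.of A ⟶ Y.left.functionField := pA ≫ ge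
  letI : Algebra A Y.left.functionField := ψ.hom.toAlgebra
  haveI : IsNoetherianRing A := Algebra.FiniteType.isNoetherianRing k A
  have hY : Y.left.fromSpecStalk η' ≫ p.left = Spec.map ψ := by
    rw [← hp', Scheme.fromSpecStalk_toSpecΓ_assoc, ← Spec.map_comp]
  -- generators of the function field
  obtain ⟨_, ⟨U, hU, rfl⟩, hηU, -⟩ := Y.left.isBasis_affineOpens.exists_subset_of_mem_open (Set.mem_univ η') isOpen_univ
  haveI : Nonempty U := ⟨⟨η', hηU⟩⟩
  haveI := functionField_isFractionRing_of_isAffineOpen Y.left U hU
  let c : CommRingCat.of k ⟶ Γ(Y.left, U) :=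
    (Scheme.ΓSpecIso (CommRingCat.of k)).inv ≫ Y.hom.appLE ⊤ U le_top
  have hc : c.hom.FiniteType :=
    (RingHom.FiniteType.comp ((HasRingHomProperty.appLE @LocallyOfFiniteType Y.hom ‹_› ⟨⊤, isAffineOpen_top _⟩
      ⟨U, hU⟩ le_top)) (RingHom.FiniteType.of_surjective _
        (ConcreteCategory.bijective_of_isIso (Scheme.ΓSpecIso (CommRingCat.of k)).inv).2))
  obtain ⟨T, hT⟩ := hc
  classical
  let s : Finset Y.left.functionField := T.image (algebraMap Γ(Y.left, U) Y.left.functionField)
  have hk : ∀ r : k, algebraMap Γ(Y.left, U) Y.left.functionField (c r) = ψ (algebraMap k A r) := by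
    have e : c ≫ Y.left.germToFunctionField U = CommRingCat.ofHom (algebraMap k A) ≫ ψ := by
      have e1 : CommRingCat.ofHom (algebraMap k A) ≫ pA =
          (Scheme.ΓSpecIso (CommRingCat.of k)).inv ≫ Y.hom.appTop := by
        show CommRingCat.ofHom (algebraMap k A) ≫ (Scheme.ΓSpecIso (CommRingCat.of A)).inv ≫ p.left.appTop = _
        rw [Scheme.ΓSpecIso_inv_naturality_assoc, ← Scheme.Hom.comp_appTop]
        exact congrArg (fun z => (Scheme.ΓSpecIso (CommRingCat.of k)).inv ≫ Scheme.Hom.appTop z) (Over.w p)
      show _ = CommRingCat.ofHom (algebraMap k A) ≫ pA ≫ ge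
      rw [reassoc_of% e1]
      show ((Scheme.ΓSpecIso (CommRingCat.of k)).inv ≫ Y.hom.appLE ⊤ U le_top) ≫
        Y.left.presheaf.germ U η' hηU = _
      rw [Category.assoc, Scheme.Hom.appLE, Category.assoc]
      congr 2
      exact Y.left.presheaf.germ_res _ η' hηU
    exact fun r => congrArg (fun z : CommRingCat.of k ⟶ Y.left.functionField => z r) e
  have hs : Subfield.closure (Set.range (algebraMap A Y.left.functionField) ∪ s) = ⊤ := by
    refine eq_top_iff.2 fun x _ => ?_
    let S := Subfield.closure (Set.range (algebraMap A Y.left.functionField) ∪ s)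
    have hall : ∀ b : Γ(Y.left, U), algebraMap Γ(Y.left, U) Y.left.functionField b ∈ S := by
      intro b
      letI := c.hom.toAlgebra
      have hb : b ∈ Algebra.adjoin k (T : Set Γ(Y.left, U)) := hT ▸ Algebra.mem_top
      induction hb using Algebra.adjoin_induction with
      | mem y hy => exact Subfield.subset_closure (Or.inr (Finset.mem_image_of_mem _ hy))
      | algebraMap r => exact Subfield.subset_closure (Or.inl ⟨_, (hk r).symm⟩)
      | add u v _ _ hu hv => rw [map_add]; exact add_mem hu hv
      | mul u v _ _ hu hv => rw [map_mul]; exact mul_mem hu hv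
    obtain ⟨b, d, -, rfl⟩ := IsFractionRing.div_surjective Γ(Y.left, U) x
    exact div_mem (hall b) (hall d)
  -- invariant functions are integral over the base
  have hint : ∀ f : Γ(Y.left, ⊤), a.act.left.appTop f = (CartesianMonoidalCategory.snd G Y).left.appTop f →
      IsIntegral A (ge f) := by
    intro f hf
    by_contra hni
    obtain ⟨R, hR, hAR, hfR⟩ := DvrDomLib.exists_dvr_not_mem s hs (ge f) hni
    let ρ : A →+* R := (algebraMap A Y.left.functionField).codRestrict R.toSubring hAR
    let sR : Spec (CommRingCat.of R) ⟶ Spec (CommRingCat.of k) :=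
      Spec.map (CommRingCat.ofHom ρ) ≫ Spec.map (CommRingCat.ofHom (algebraMap k A))
    let incl : CommRingCat.of R ⟶ CommRingCat.of Y.left.functionField :=
      CommRingCat.ofHom (algebraMap R Y.left.functionField)
    have hρ : CommRingCat.ofHom ρ ≫ incl = ψ := rfl
    let g : Over.mk (Spec.map incl ≫ sR) ⟶ Y := Over.homMk (Y.left.fromSpecStalk η') (by
      show Y.left.fromSpecStalk η' ≫ Y.hom = Spec.map incl ≫ sR
      rw [← Over.w p, reassoc_of% hY, ← hρ, Spec.map_comp_assoc]
      rfl)
    let h : Over.mk sR ⟶ Over.mk (Spec.map (CommRingCat.ofHom (algebraMap k A))) :=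
      Over.homMk (Spec.map (CommRingCat.ofHom ρ)) rfl
    obtain ⟨i, γ, -, hi⟩ := hp.2 R Y.left.functionField sR g h (Over.OverMorphism.ext (by
      show Y.left.fromSpecStalk η' ≫ p.left = Spec.map incl ≫ Spec.map (CommRingCat.ofHom ρ)
      rw [hY, ← hρ, Spec.map_comp]))
    have h1 := congrArg (fun z => z.left.appTop f) hi
    simp only [Over.comp_left, Over.homMk_left, Scheme.Hom.comp_appTop, ConcreteCategory.comp_apply] at h1
    have h1' := h1.trans (congrArg (CartesianMonoidalCategory.lift γ g).left.appTop.hom hf)
    have h1'' := h1'.trans (congrArg (fun z => z.left.appTop f) (CartesianMonoidalCategory.lift_snd γ g))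
    have h2 : (Scheme.ΓSpecIso Y.left.functionField).hom ((Y.left.fromSpecStalk η').appTop f) = ge f := by
      rw [Scheme.fromSpecStalk_appTop]
      have h4 := congrArg (fun z => z ((Scheme.ΓSpecIso Γ(Y.left, ⊤)).inv f)) (Scheme.ΓSpecIso_naturality ge)
      simp only [ConcreteCategory.comp_apply, Iso.inv_hom_id_apply] at h4
      simp [ge]
      exact h4
    apply hfR
    rw [← h2, show (Y.left.fromSpecStalk η').appTop f = g.left.appTop f from rfl, ← h1'']
    have h3 := congrArg (fun z => z (i.left.appTop f)) (Scheme.ΓSpecIso_naturality incl)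
    simp only [ConcreteCategory.comp_apply] at h3
    exact h3 ▸ ((Scheme.ΓSpecIso (CommRingCat.of R)).hom (i.left.appTop f)).2
  -- the module of invariants
  letI : Algebra A Γ(Y.left, ⊤) := pA.hom.toAlgebra
  have hinv : ∀ c : A, a.act.left.appTop (pA c) = (CartesianMonoidalCategory.snd G Y).left.appTop (pA c) := by
    intro c
    exact congrArg (fun z => z.left.appTop ((Scheme.ΓSpecIso (CommRingCat.of A)).inv c)) hp.1
  let N : Submodule A Γ(Y.left, ⊤) :=
    { carrier := {f | a.act.left.appTop f = (CartesianMonoidalCategory.snd G Y).left.appTop f}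
      add_mem' := fun hu hv => by
        simp only [Set.mem_setOf_eq, map_add] at hu hv ⊢
        rw [hu, hv]
      zero_mem' := by simp
      smul_mem' := fun c f hf => by
        simp only [Set.mem_setOf_eq] at hf ⊢
        rw [Algebra.smul_def, map_mul, map_mul, hf, show algebraMap A Γ(Y.left, ⊤) c = pA c from rfl, hinv] }
  haveI := finite_intClosure k A Y.left.functionField s hs
  let F : N →ₗ[A] integralClosure A Y.left.functionField :=
    { toFun := fun f => ⟨ge f.1, hint f.1 f.2⟩
      map_add' := fun u v => Subtype.ext (map_add ge.hom u.1 v.1)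
      map_smul' := fun c f => Subtype.ext (by
        show ge (c • f.1) = c • ge f.1
        rw [Algebra.smul_def, Algebra.smul_def, map_mul]
        rfl) }
  haveI : Nonempty (⊤ : Y.left.Opens) := ⟨⟨η', trivial⟩⟩
  haveI : Module.Finite A N := Module.Finite.of_injective F fun u v h =>
    Subtype.ext (Y.left.germToFunctionField_injective ⊤ (congrArg Subtype.val h))
  obtain ⟨t, ht⟩ := (Module.Finite.iff_fg.1 ‹Module.Finite A N›)
  refine ⟨t, fun x hx => (ht ▸ Submodule.subset_span hx : x ∈ N), fun x hx => ?_⟩
  have hxN : x ∈ N := hx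
  rw [← ht, Submodule.mem_span_finset] at hxN
  obtain ⟨c, -, hc⟩ := hxN
  exact ⟨c, hc.symm.trans (Finset.sum_congr rfl fun y _ => Algebra.smul_def _ _)⟩

end Groth.Agent.S14999
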