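import Groth.Statements.S1500
import Groth.Agent.RGFlatLib.AmpleBlowUp
import Groth.Agent.MiscFlat6.AmpleFamily
import Groth.Agent.AmpleThLib.FiniteSet

set_option autoImplicit false
universe u
open FlatMor

namespace Groth.Agent.S1500

open AlgebraicGeometry CategoryTheory Limits in
/-- Let D_1, …, D_m be effective Cartier divisors on X (ideal sheaves locally generated by a
nonzerodivisor) with empty common support, and L_1, …, L_m invertible O_X-modules with L_i ample on
the open complement of D_i. Then X has an ample family of invertible modules. -/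
theorem result {X : Scheme.{u}} {m : ℕ} (D : Fin m → X.IdealSheafData)
    (hD : ∀ i, BlowUp.IsEffCartierIdeal (D i)) (hcap : ⋂ i, ((D i).support : Set ↑X) = ∅)
    (L : Fin m → X.Modules) (hL : ∀ i, PicF.IsInvertible (L i)) (hamp : ∀ i, CohB1.IsAmple ((L i).restrict (Scheme.Opens.ι (D i).support.compl))) :
    MoreMor.HasAmpleFamily X := by
  classical
  let U : Fin m → X.Opens := fun i => (D i).support.compl
  have hsec : ∀ i, ∃ (K : X.Modules) (hK : PicF.IsInvertible K) (t : Γ(K, ⊤)), TwistLib.genSet hK t = U i := by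
    intro i
    have hJ := IntMultLib.isInvertible_idealMod (D i) (hD i)
    obtain ⟨eJ⟩ := MiscFlat6.nonempty_dualIso hJ
    obtain ⟨σ, hσ⟩ := AVAmpleLib.exists_section (MiscFlat6.dual_isInvertible hJ)
      (I := D i) ⟨AmpleDevLib.tensComm _ _ ≪≫ eJ⟩
    exact ⟨_, MiscFlat6.dual_isInvertible hJ, σ, TopologicalSpace.Opens.ext hσ⟩
  choose K hK t ht using hsec
  have hcov : ∀ x : X, ∃ i, x ∈ U i := fun x => by
    by_contra h
    push Not at h
    exact (Set.mem_empty_iff_false x).1 (hcap ▸ Set.mem_iInter.2 fun i => not_not.1 (h i))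
  have hUc : ∀ i, IsCompact (U i : Set X) := fun i => isCompact_iff_compactSpace.2 (hamp i).2.1
  haveI : CompactSpace X := ⟨by
    rw [show (Set.univ : Set X) = ⋃ i, (U i : Set X) from
      (Set.eq_univ_of_forall fun x => Set.mem_iUnion.2 (hcov x)).symm]
    exact isCompact_iUnion hUc⟩
  have hUqs : ∀ i, IsQuasiSeparated (U i : Set X) := fun i => by
    have h : QuasiSeparatedSpace (U i).toScheme := AmpleThLib.quasiSeparatedSpace_of_isAmple (hamp i)
    exact isQuasiSeparated_iff_quasiSeparatedSpace _ (U i).2 |>.2 h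
  haveI : QuasiSeparatedSpace X := by
    refine Scheme.quasiSeparatedSpace_of_isOpenCover (fun A : X.affineOpens => A.1)
      (TopologicalSpace.IsOpenCover.mk (iSup_affineOpens_eq_top X)) (fun A => A.2) fun A B => ?_
    have e : ((A.1 : Set X) ∩ (B.1 : Set X)) = ⋃ i, ((A.1 : Set X) ∩ U i) ∩ ((B.1 : Set X) ∩ U i) := by
      ext x
      simp only [Set.mem_inter_iff, Set.mem_iUnion]
      exact ⟨fun h => (hcov x).imp fun i hi => ⟨⟨h.1, hi⟩, h.2, hi⟩, fun ⟨i, h⟩ => ⟨h.1.1, h.2.1⟩⟩
    have hc : ∀ (C : X.affineOpens) (i : Fin m), IsCompact ((C.1 : Set X) ∩ U i) := fun C i => by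
      rw [← ht i]
      exact MiscFlat6.isCompact_inter_genSet (hK i) (t i) C.2
    rw [e]
    exact isCompact_iUnion fun i => hUqs i _ _ Set.inter_subset_right (A.1.2.inter (U i).2) (hc A i)
      Set.inter_subset_right (B.1.2.inter (U i).2) (hc B i)
  refine ⟨inferInstance, fun x => ?_⟩
  obtain ⟨i, hi⟩ := hcov x
  exact RGFlatLib.exists_affine_locus (hL i) (hK i) (t i) ((ht i).symm ▸ hi) (by rw [ht i]; exact hamp i)

end Groth.Agent.S1500
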