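import Groth.Statements.S15003
import Groth.Agent.UnrNormalLib.Basic
import Groth.Agent.NormalLib.Regular
import Groth.Agent.SweepSix.NormSect
import Mathlib.RingTheory.RamificationInertia.Basic

set_option autoImplicit false
universe u
open CategoryTheory CategoryTheory.Limits AlgebraicGeometry
open Harb

namespace Groth.Agent.S15003

section Alg

/-- The number of primes over a maximal ideal with algebraically closed residue field. -/
theorem natCard_primesOver (k : Type u) [Field k] [IsAlgClosed k] {A B : Type u} [CommRing A] [IsDomain A]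
    [Algebra k A] [Algebra.FiniteType k A] [IsIntegrallyClosed A]
    [CommRing B] [IsDomain B] [Algebra A B] [Module.Finite A B] [Algebra.FormallyUnramified A B]
    (hinj : Function.Injective (algebraMap A B)) (m : Ideal A) [m.IsMaximal] :
    Nat.card (m.primesOver B) = Module.finrank A B := by
  haveI : Algebra.Etale A B := UnrNormalLib.etale_of_unramified hinj
  haveI : Fintype (m.primesOver B) := (Algebra.QuasiFinite.finite_primesOver m).fintype
  rw [← Ideal.sum_ramification_inertia_eq_finrank m B, Nat.card_eq_fintype_card, ← Finset.card_univ,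
    Finset.card_eq_sum_ones]
  refine Finset.sum_congr rfl fun q _ => ?_
  haveI := q.2.1
  haveI := q.2.2
  haveI : q.1.IsMaximal := Ideal.IsMaximal.of_liesOver_isMaximal q.1 m
  haveI : Algebra.IsUnramifiedAt A q.1 := Algebra.FormallyUnramified.comp A B (Localization.AtPrime q.1)
  rw [Ideal.ramificationIdx_eq_one, Ideal.inertiaDeg_eq_of_isMaximal (p := m)]
  let : Field (A ⧸ m) := Ideal.Quotient.field m
  haveI : Module.Finite k (A ⧸ m) := finite_of_finite_type_of_isJacobsonRing k (A ⧸ m)
  haveI : IsAlgClosed (A ⧸ m) := IsAlgClosed.of_ringEquiv k (A ⧸ m)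
    (RingEquiv.ofBijective (algebraMap k (A ⧸ m)) IsAlgClosed.algebraMap_bijective_of_isIntegral)
  have hb : Function.Bijective (algebraMap (A ⧸ m) (B ⧸ q.1)) :=
    IsAlgClosed.algebraMap_bijective_of_isIntegral
  rw [one_mul, ← (AlgEquiv.ofBijective (Algebra.ofId (A ⧸ m) (B ⧸ q.1)) hb).toLinearEquiv.finrank_eq,
    Module.finrank_self]

end Alg


/-- Let k be an algebraically closed field and let π : Y → X be a finite, surjective and unramified
k-morphism of smooth varieties over k (X and Y integral, separated and of finite type over k with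
all local rings regular) which sends the generic point of Y to the generic point of X, so that the
function field k(X) embeds in k(Y). Then for every closed point p of X the fibre π⁻¹(p) consists of
exactly deg π points, where deg π = [k(Y) : k(X)] is the degree of that field extension. -/
theorem result (k : Type u) [Field k] [IsAlgClosed k]
    (X Y : Scheme.{u}) [X.Over (Spec (CommRingCat.of k))] [Y.Over (Spec (CommRingCat.of k))]
    [IsIntegral X] [IsIntegral Y]
    [IsSeparated (X ↘ (Spec (CommRingCat.of k)))] [LocallyOfFiniteType (X ↘ (Spec (CommRingCat.of k)))]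
    [QuasiCompact (X ↘ (Spec (CommRingCat.of k)))]
    [IsSeparated (Y ↘ (Spec (CommRingCat.of k)))] [LocallyOfFiniteType (Y ↘ (Spec (CommRingCat.of k)))]
    [QuasiCompact (Y ↘ (Spec (CommRingCat.of k)))]
    (hregX : ∀ x : X, IsRegularLocalRing (X.presheaf.stalk x))
    (hregY : ∀ y : Y, IsRegularLocalRing (Y.presheaf.stalk y))
    (π : Y ⟶ X) (hπ : π ≫ (X ↘ (Spec (CommRingCat.of k))) = (Y ↘ (Spec (CommRingCat.of k))))
    [AlgebraicGeometry.IsFinite π] [AlgebraicGeometry.Surjective π] [AlgebraicGeometry.FormallyUnramified π]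
    (e : π.base (genericPoint Y) = genericPoint X) (p : X) (hp : IsClosed ({p} : Set X)) :
    Nat.card {q : Y // π.base q = p} =
      Models.homDegree (X.presheaf.stalkSpecializes (specializes_of_eq e) ≫ π.stalkMap (genericPoint Y)).hom := by
  have hpcl := hp
  obtain ⟨U, hU, hpU, -⟩ := exists_isAffineOpen_mem_and_subset (x := p) (U := ⊤) trivial
  let V := π ⁻¹ᵁ U
  have hV : IsAffineOpen V := hU.preimage π
  obtain ⟨q₀, hq₀⟩ := π.surjective p
  have hq₀V : q₀ ∈ V := by show π.base q₀ ∈ U; rwa [hq₀]
  haveI : Nonempty U := ⟨⟨p, hpU⟩⟩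
  haveI : Nonempty V := ⟨⟨q₀, hq₀V⟩⟩
  haveI : Nonempty (U : Scheme.{u}) := ⟨⟨p, hpU⟩⟩
  haveI : Nonempty (V : Scheme.{u}) := ⟨⟨q₀, hq₀V⟩⟩
  have hgX : genericPoint X ∈ U :=
    (genericPoint_spec X).mem_open_set_iff U.2 |>.mpr (by simpa using ⟨p, hpU⟩)
  have hgY : genericPoint Y ∈ V := by show π.base (genericPoint Y) ∈ U; rwa [e]
  algebraize [(π.app U).hom]
  have hfin : (π.app U).hom.Finite := π.finite_app U hU
  haveI : Module.Finite Γ(X, U) Γ(Y, V) := hfin
  haveI : Algebra.FormallyUnramified Γ(X, U) Γ(Y, V) := by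
    have := π.formallyUnramified_appLE hU hV le_rfl
    rwa [← Scheme.Hom.app_eq_appLE] at this
  haveI : IsIntegrallyClosed Γ(X, U) :=
    SweepSix.NormSect.isIntegrallyClosed_of_stalk hU fun x =>
      ⟨inferInstance, by haveI := hregX x; exact NormalLib.isIntegrallyClosed_of_isRegularLocalRing _⟩
  let ψ : X.presheaf.stalk (genericPoint X) ⟶ Y.presheaf.stalk (genericPoint Y) :=
    X.presheaf.stalkSpecializes (specializes_of_eq e) ≫ π.stalkMap (genericPoint Y)
  have hcomm : X.presheaf.germ U (genericPoint X) hgX ≫ ψ =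
      π.app U ≫ Y.presheaf.germ V (genericPoint Y) hgY := by
    simp only [ψ]
    rw [TopCat.Presheaf.germ_stalkSpecializes_assoc, Scheme.Hom.germ_stalkMap]
  haveI : IsFractionRing Γ(X, U) X.functionField := functionField_isFractionRing_of_isAffineOpen X U hU
  haveI : IsFractionRing Γ(Y, V) Y.functionField := functionField_isFractionRing_of_isAffineOpen Y V hV
  have hinj : Function.Injective (algebraMap Γ(X, U) Γ(Y, V)) := by
    intro a b hab
    apply IsFractionRing.injective Γ(X, U) X.functionField
    apply ψ.hom.injective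
    have h1 := congr($(congrArg CommRingCat.Hom.hom hcomm) a)
    have h2 := congr($(congrArg CommRingCat.Hom.hom hcomm) b)
    exact h1.trans ((congrArg (Y.presheaf.germ V (genericPoint Y) hgY) hab).trans h2.symm)
  haveI : FaithfulSMul Γ(X, U) Γ(Y, V) := (faithfulSMul_iff_algebraMap_injective _ _).2 hinj
  let m := (hU.primeIdealOf ⟨p, hpU⟩).asIdeal
  haveI : m.IsMaximal := hU.primeIdealOf_isMaximal_of_isClosed ⟨p, hpU⟩ hpcl
  have hft := LocallyOfFiniteType.finiteType_appLE (f := X ↘ Spec (CommRingCat.of k))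
      (isAffineOpen_top _) hU (by simp)
  let φ : CommRingCat.of k ⟶ Γ(X, U) :=
      (Scheme.ΓSpecIso (CommRingCat.of k)).inv ≫ (X ↘ Spec (CommRingCat.of k)).appLE ⊤ U (by simp)
  have hφ : φ.hom.FiniteType :=
    hft.comp (RingHom.FiniteType.of_surjective _
      (Scheme.ΓSpecIso (CommRingCat.of k)).symm.commRingCatIsoToRingEquiv.surjective)
  letI : Algebra k Γ(X, U) := φ.hom.toAlgebra
  haveI : Algebra.FiniteType k Γ(X, U) := hφ
  let eq : {q : Y // π.base q = p} ≃ m.primesOver Γ(Y, V) :=
    { toFun := fun q =>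
        ⟨(hV.primeIdealOf ⟨q.1, show π.base q.1 ∈ U by rw [q.2]; exact hpU⟩).asIdeal,
          (hV.primeIdealOf _).2, ⟨by
            have := IsAffineOpen.comap_primeIdealOf_appLE U hU V hV le_rfl
              (show q.1 ∈ V by show π.base q.1 ∈ U; rw [q.2]; exact hpU)
            rw [← Scheme.Hom.app_eq_appLE] at this
            refine Eq.trans ?_ congr($(this).asIdeal).symm
            show (hU.primeIdealOf ⟨p, hpU⟩).asIdeal = _
            congr 2
            exact Subtype.ext q.2.symm⟩⟩
      invFun := fun Q =>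
        haveI := Q.2.1
        ⟨hV.fromSpec ⟨Q.1, Q.2.1⟩, by
          have hmem : hV.fromSpec ⟨Q.1, Q.2.1⟩ ∈ V := hV.range_fromSpec.le ⟨_, rfl⟩
          have := IsAffineOpen.comap_primeIdealOf_appLE U hU V hV le_rfl hmem
          rw [← Scheme.Hom.app_eq_appLE] at this
          have hp' : hV.primeIdealOf ⟨_, hmem⟩ = ⟨Q.1, Q.2.1⟩ :=
            hV.fromSpec.isOpenEmbedding.injective (hV.fromSpec_primeIdealOf ⟨_, hmem⟩)
          rw [hp'] at this
          have h2 : hU.primeIdealOf ⟨p, hpU⟩ = hU.primeIdealOf ⟨π.base (hV.fromSpec ⟨Q.1, Q.2.1⟩), hmem⟩ :=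
            (PrimeSpectrum.ext Q.2.2.over).trans this
          exact ((hU.fromSpec_primeIdealOf ⟨p, hpU⟩).symm.trans
            ((congrArg hU.fromSpec h2).trans (hU.fromSpec_primeIdealOf ⟨_, hmem⟩))).symm⟩
      left_inv := fun q => Subtype.ext (hV.fromSpec_primeIdealOf _)
      right_inv := fun Q => by
        refine Subtype.ext ?_
        have := hV.fromSpec.isOpenEmbedding.injective (hV.fromSpec_primeIdealOf
          ⟨hV.fromSpec ⟨Q.1, Q.2.1⟩, hV.range_fromSpec.le ⟨_, rfl⟩⟩)
        exact congrArg PrimeSpectrum.asIdeal this }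
  rw [Nat.card_congr eq, natCard_primesOver k hinj m]
  show Module.finrank Γ(X, U) Γ(Y, V) = Models.homDegree ψ.hom
  letI : Algebra X.functionField Y.functionField := ψ.hom.toAlgebra
  letI : Algebra Γ(X, U) Y.functionField :=
    ((algebraMap Γ(Y, V) Y.functionField).comp (algebraMap Γ(X, U) Γ(Y, V))).toAlgebra
  haveI : IsScalarTower Γ(X, U) Γ(Y, V) Y.functionField := IsScalarTower.of_algebraMap_eq' rfl
  haveI : IsScalarTower Γ(X, U) X.functionField Y.functionField :=
    IsScalarTower.of_algebraMap_eq' (congrArg CommRingCat.Hom.hom hcomm).symm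
  haveI : Algebra.IsAlgebraic Γ(X, U) Γ(Y, V) := inferInstance
  exact (IsFractionRing.finrank_eq Γ(X, U) X.functionField Γ(Y, V) Y.functionField).symm

end Groth.Agent.S15003
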