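import Groth.Statements.S15004
import Mathlib.Combinatorics.Enumerative.DoubleCounting
import Mathlib.Algebra.BigOperators.Finprod
import Mathlib.Data.Set.Card

set_option autoImplicit false
universe u v
open Harb

namespace Groth.Agent.S15004

/-- Let C be a finite family of d curves, recorded as an incidence relation between a type of points and
a finite index type, such that any two distinct curves of the family meet in exactly h points; for a
point p write r_p for the number of curves of the family through p. Then for every curve C_i of the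
family, Σ_{p ∈ C_i} (r_p − 1) = h (d − 1), the sum being finitely supported. (The published
statement is for a transversal arrangement of curves on a geometrically ruled surface with invariant
e, all numerically equivalent to a C₀ + b f, where any two of the curves meet transversally in h =
2ab − a²e points; only this common pairwise intersection count enters the proof, and this row states
the identity for an abstract incidence relation.) -/
theorem result (P : Type u) (ι : Type v) [Fintype ι]
    (inc : P → ι → Prop) (h : ℕ)
    (hfin : ∀ i j : ι, i ≠ j → {p : P | inc p i ∧ inc p j}.Finite)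
    (hcount : ∀ i j : ι, i ≠ j → {p : P | inc p i ∧ inc p j}.ncard = h) (i : ι) :
    ∑ᶠ p ∈ {p : P | inc p i}, (Nat.card {j : ι // inc p j} - 1) = h * (Fintype.card ι - 1) := by
  classical
  let others : Finset ι := Finset.univ.erase i
  let T : Finset P := others.attach.biUnion fun j => (hfin i j.1 (Finset.ne_of_mem_erase j.2).symm).toFinset
  have hr : ∀ p, inc p i → Nat.card {j : ι // inc p j} - 1 = (others.filter fun j => inc p j).card := by
    intro p hp
    rw [Nat.card_eq_fintype_card, Fintype.card_subtype, Finset.filter_erase,
      Finset.card_erase_of_mem (Finset.mem_filter.2 ⟨Finset.mem_univ _, hp⟩)]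
  have hT : ∀ p, p ∈ T ↔ ∃ j ∈ others, inc p i ∧ inc p j := by
    intro p
    simp [T]
    exact ⟨fun ⟨h, a, ha, hb⟩ => ⟨a, ha, h, hb⟩, fun ⟨a, ha, h, hb⟩ => ⟨h, a, ha, hb⟩⟩
  rw [finsum_mem_eq_sum_of_subset (t := T)]
  · rw [Finset.sum_congr rfl (fun p hp => hr p (by obtain ⟨j, -, h1, -⟩ := (hT p).1 hp; exact h1))]
    have h2 := Finset.sum_card_bipartiteAbove_eq_sum_card_bipartiteBelow inc (s := T) (t := others)
    simp only [Finset.bipartiteAbove, Finset.bipartiteBelow] at h2
    rw [h2, Finset.sum_congr rfl (g := fun _ => h) (fun j hj => ?_), Finset.sum_const, smul_eq_mul,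
      Finset.card_erase_of_mem (Finset.mem_univ _), Finset.card_univ, mul_comm]
    rw [← hcount i j (Finset.ne_of_mem_erase hj).symm, Set.ncard_eq_toFinset_card _ (hfin i j (Finset.ne_of_mem_erase hj).symm)]
    refine congrArg Finset.card (Finset.ext fun p => ?_)
    rw [Finset.mem_filter, hT, Set.Finite.mem_toFinset]
    exact ⟨fun ⟨⟨_, _, h1, _⟩, h2⟩ => ⟨h1, h2⟩, fun ⟨h1, h2⟩ => ⟨⟨j, hj, h1, h2⟩, h2⟩⟩
  · intro p hp
    obtain ⟨h1, h2⟩ := hp
    have h3 : (others.filter fun j => inc p j).card ≠ 0 := fun h0 => h2 ((hr p h1).trans h0)
    obtain ⟨j, hj⟩ := Finset.card_ne_zero.1 h3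
    exact (hT p).2 ⟨j, (Finset.mem_filter.1 hj).1, h1, (Finset.mem_filter.1 hj).2⟩
  · intro p hp
    obtain ⟨j, -, h1, -⟩ := (hT p).1 hp
    exact h1

end Groth.Agent.S15004
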