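import Groth.Statements.S15005
import Mathlib.Combinatorics.Enumerative.DoubleCounting
import Mathlib.Data.Set.Card
import Mathlib.Data.Finset.Prod

set_option autoImplicit false
universe u v
open Harb

namespace Groth.Agent.S15005

/-- Let C be a finite family of d curves, recorded as an incidence relation between a type of points and
a finite index type, such that any two distinct curves of the family meet in exactly h points; let
t_k be the number of k-fold points (points lying on exactly k curves of the family). Then f₂ − f₁ =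
Σ_{k ≥ 2} k(k − 1) t_k equals h d(d − 1), where f_i = Σ_{k ≥ 2} k^i t_k. (The published statement is
for a transversal arrangement of curves on a geometrically ruled surface with invariant e, all
numerically equivalent to a C₀ + b f, where any two of the curves meet transversally in h = 2ab −
a²e points; only this common pairwise intersection count enters the proof, and this row states the
identity for an abstract incidence relation.) -/
theorem result (P : Type u) (ι : Type v) [Fintype ι]
    (inc : P → ι → Prop) (h : ℕ)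
    (hfin : ∀ i j : ι, i ≠ j → {p : P | inc p i ∧ inc p j}.Finite)
    (hcount : ∀ i j : ι, i ≠ j → {p : P | inc p i ∧ inc p j}.ncard = h) :
    ∑ k ∈ Finset.Icc 2 (Fintype.card ι), k * (k - 1) * Nat.card {p : P // Nat.card {j : ι // inc p j} = k} =
      h * (Fintype.card ι * (Fintype.card ι - 1)) := by
  classical
  let r : P → ℕ := fun p => (Finset.univ.filter fun j => inc p j).card
  have hr : ∀ p, Nat.card {j : ι // inc p j} = r p := fun p => by
    rw [Nat.card_eq_fintype_card, Fintype.card_subtype]
  let pairs : Finset (ι × ι) := (Finset.univ : Finset ι).offDiag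
  let T : Finset P := pairs.attach.biUnion fun q => (hfin q.1.1 q.1.2 (Finset.mem_offDiag.1 q.2).2.2).toFinset
  have hT : ∀ p, p ∈ T ↔ ∃ a b, a ≠ b ∧ inc p a ∧ inc p b := by
    intro p
    simp [T, pairs]
    exact ⟨fun ⟨a, ha, b, hne, hb⟩ => ⟨a, b, hne, ha, hb⟩, fun ⟨a, b, hne, ha, hb⟩ => ⟨a, ha, b, hne, hb⟩⟩
  have hT2 : ∀ p, p ∈ T ↔ 2 ≤ r p := by
    intro p
    rw [hT, show 2 ≤ r p ↔ 1 < r p from Iff.rfl, Finset.one_lt_card]
    simp only [Finset.mem_filter, Finset.mem_univ, true_and]
    exact ⟨fun ⟨a, b, h1, h2, h3⟩ => ⟨a, h2, b, h3, h1⟩, fun ⟨a, h2, b, h3, h1⟩ => ⟨a, b, h1, h2, h3⟩⟩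
  have ht : ∀ k ∈ Finset.Icc 2 (Fintype.card ι),
      k * (k - 1) * Nat.card {p : P // Nat.card {j : ι // inc p j} = k} = ∑ p ∈ T.filter (fun p => r p = k), r p * (r p - 1) := by
    intro k hk
    rw [Finset.sum_congr rfl (g := fun _ => k * (k - 1)) (fun p hp => by rw [(Finset.mem_filter.1 hp).2]),
      Finset.sum_const, smul_eq_mul, mul_comm (T.filter _).card]
    congr 1
    rw [← Nat.card_eq_finsetCard]
    refine Nat.card_congr (Equiv.subtypeEquivRight fun p => ?_)
    rw [Finset.mem_filter, hT2, hr]
    exact ⟨fun h => ⟨h ▸ (Finset.mem_Icc.1 hk).1, h⟩, fun h => h.2⟩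
  rw [Finset.sum_congr rfl ht, Finset.sum_fiberwise_of_maps_to (fun p hp => Finset.mem_Icc.2 ⟨(hT2 p).1 hp, Finset.card_le_univ _⟩)]
  have h1 : ∀ p, r p * (r p - 1) = (pairs.filter fun q => inc p q.1 ∧ inc p q.2).card := by
    intro p
    rw [Nat.mul_sub, mul_one, ← Finset.offDiag_card]
    refine congrArg Finset.card (Finset.ext fun q => ?_)
    simp [pairs]
    tauto
  rw [Finset.sum_congr rfl (fun p _ => h1 p)]
  have h2 := Finset.sum_card_bipartiteAbove_eq_sum_card_bipartiteBelow (fun (p : P) (q : ι × ι) => inc p q.1 ∧ inc p q.2) (s := T) (t := pairs)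
  simp only [Finset.bipartiteAbove, Finset.bipartiteBelow] at h2
  rw [h2, Finset.sum_congr rfl (g := fun _ => h) (fun q hq => ?_), Finset.sum_const, smul_eq_mul, Finset.offDiag_card,
    Finset.card_univ, Nat.mul_sub, mul_one, mul_comm]
  have hne := (Finset.mem_offDiag.1 hq).2.2
  rw [← hcount q.1 q.2 hne, Set.ncard_eq_toFinset_card _ (hfin q.1 q.2 hne)]
  refine congrArg Finset.card (Finset.ext fun p => ?_)
  rw [Finset.mem_filter, hT, Set.Finite.mem_toFinset]
  exact ⟨fun h => h.2, fun h => ⟨⟨q.1, q.2, hne, h.1, h.2⟩, h⟩⟩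

end Groth.Agent.S15005
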