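import Groth.Statements.S15006
import Mathlib.LinearAlgebra.Dimension.Constructions
import Mathlib.LinearAlgebra.FreeModule.StrongRankCondition
import Mathlib.Algebra.Order.Field.Basic
import Mathlib.Data.Rat.Cast.Order
import Mathlib.Tactic.LinearCombination
-- import your own Groth.Agent.* helpers here

set_option autoImplicit false
universe u v
open Harb

namespace Groth.Agent.S15006

/-- Let C be a finite family of d ≥ 2 curves, recorded as an incidence relation between a type of points
and a finite index type, such that any two distinct curves of the family meet in exactly h ≥ 1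
points and no point lies on every curve of the family. Then f₀ ≥ d: the number of multiple points
(points lying on at least two of the curves) is at least the number of curves. (The published
statement is for a transversal arrangement of d ≥ 4 curves on a geometrically ruled surface with
invariant e ≥ 4, all numerically equivalent to a C₀ + b f with a ≥ 1 and b ≥ ae and with no point
common to all of them, satisfying in addition either a ≥ 2, or a = 1 with some four of the curves
having no point in common, where any two of the curves meet transversally in h = 2ab − a²e ≥ 1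
points; only d ≥ 2, h ≥ 1 and the absence of a common point enter the proof, and this row states the
bound for an abstract incidence relation.) -/
theorem result (P : Type u) (ι : Type v) [Fintype ι]
    (inc : P → ι → Prop) (h : ℕ) (hh : 0 < h) (hd : 2 ≤ Fintype.card ι)
    (hfin : ∀ i j : ι, i ≠ j → {p : P | inc p i ∧ inc p j}.Finite)
    (hcount : ∀ i j : ι, i ≠ j → {p : P | inc p i ∧ inc p j}.ncard = h)
    (hnone : ∀ p : P, ∃ i : ι, ¬ inc p i) :
    Fintype.card ι ≤ Nat.card {p : P // 2 ≤ Nat.card {j : ι // inc p j}} := by
  classical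
  let T0 : Set P := {p | 2 ≤ Nat.card {j : ι // inc p j}}
  have hT0 : T0.Finite := by
    refine (Set.finite_iUnion fun x : {x : ι × ι // x.1 ≠ x.2} => hfin x.1.1 x.1.2 x.2).subset ?_
    intro p hp
    change 2 ≤ Nat.card {j : ι // inc p j} at hp
    rw [Nat.card_eq_fintype_card] at hp
    obtain ⟨⟨i, hi⟩, ⟨j, hj⟩, hij⟩ := Fintype.one_lt_card_iff.1 hp
    exact Set.mem_iUnion.2 ⟨⟨(i, j), fun e => hij (Subtype.ext e)⟩, hi, hj⟩
  set T : Finset P := hT0.toFinset with hT
  have hmemT : ∀ p i j, i ≠ j → inc p i → inc p j → p ∈ T := by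
    intro p i j hij hi hj
    rw [hT, Set.Finite.mem_toFinset]
    change 2 ≤ Nat.card {j : ι // inc p j}
    rw [Nat.card_eq_fintype_card]
    exact Fintype.one_lt_card_iff.2 ⟨⟨i, hi⟩, ⟨j, hj⟩, fun e => hij (congrArg Subtype.val e)⟩
  have hcardT : Nat.card {p : P // 2 ≤ Nat.card {j : ι // inc p j}} = T.card :=
    (Nat.card_coe_set_eq T0).trans (Set.ncard_eq_toFinset_card _ hT0)
  rw [hcardT]
  have hN : ∀ i j : ι, i ≠ j → (T.filter fun p => inc p i ∧ inc p j).card = h := by
    intro i j hij
    rw [← hcount i j hij, Set.ncard_eq_toFinset_card _ (hfin i j hij)]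
    congr 1
    ext p
    simp only [Finset.mem_filter, Set.Finite.mem_toFinset, Set.mem_setOf_eq]
    exact ⟨fun hp => hp.2, fun hp => ⟨hmemT p i j hij hp.1 hp.2, hp⟩⟩
  have hr : ∀ i : ι, h < (T.filter fun p => inc p i).card := by
    intro i
    obtain ⟨j, hji⟩ := Fintype.exists_ne_of_one_lt_card hd i
    obtain ⟨p, hp⟩ : (T.filter fun p => inc p i ∧ inc p j).Nonempty := by
      rw [← Finset.card_pos, hN i j hji.symm]; exact hh
    rw [Finset.mem_filter] at hp
    obtain ⟨l, hl⟩ := hnone p
    have hli : l ≠ i := fun e => hl (e ▸ hp.2.1)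
    rw [← hN i l hli.symm]
    refine Finset.card_lt_card (Finset.ssubset_iff_of_subset (fun q hq => ?_) |>.2 ⟨p, ?_, ?_⟩)
    · rw [Finset.mem_filter] at hq ⊢; exact ⟨hq.1, hq.2.1⟩
    · rw [Finset.mem_filter]; exact ⟨hp.1, hp.2.1⟩
    · rw [Finset.mem_filter]; exact fun hq => hl hq.2.2
  by_contra hlt
  push Not at hlt
  let L : (ι → ℚ) →ₗ[ℚ] (T → ℚ) :=
    { toFun := fun v p => ∑ i, if inc p.1 i then v i else 0
      map_add' := fun v w => funext fun p => by
        simp only [Pi.add_apply, ← Finset.sum_add_distrib]
        exact Finset.sum_congr rfl fun i _ => by split_ifs <;> simp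
      map_smul' := fun c v => funext fun p => by
        simp only [Pi.smul_apply, smul_eq_mul, RingHom.id_apply, Finset.mul_sum, mul_ite, mul_zero] }
  have hinj : Function.Injective L := by
    refine (injective_iff_map_eq_zero L).2 fun v hv => ?_
    have h2 : ∑ p ∈ T, (∑ i, if inc p i then v i else 0) * (∑ i, if inc p i then v i else 0) = 0 :=
      Finset.sum_eq_zero fun p hp => by
        rw [show (∑ i, if inc p i then v i else 0) = 0 from congrFun hv ⟨p, hp⟩, mul_zero]
    simp only [Finset.sum_mul_sum] at h2
    rw [Finset.sum_comm] at h2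
    have h3 : ∀ i j : ι, ∑ p ∈ T, (if inc p i then v i else 0) * (if inc p j then v j else 0) =
        (h : ℚ) * (v i * v j) + if i = j then (((T.filter fun p => inc p i).card : ℚ) - h) * v i ^ 2 else 0 := by
      intro i j
      have : ∀ p ∈ T, (if inc p i then v i else 0) * (if inc p j then v j else 0) =
          if inc p i ∧ inc p j then v i * v j else 0 := fun p _ => by
        by_cases a : inc p i <;> by_cases b : inc p j <;> simp [a, b]
      rw [Finset.sum_congr rfl this, ← Finset.sum_filter, Finset.sum_const, nsmul_eq_mul]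
      by_cases hij : i = j
      · subst hij; simp only [and_self, if_true]; ring
      · rw [if_neg hij, hN i j hij, add_zero]
    have h4 : (h : ℚ) * (∑ i, v i) ^ 2 + ∑ i, (((T.filter fun p => inc p i).card : ℚ) - h) * v i ^ 2 = 0 := by
      rw [← h2, pow_two (∑ i, v i), Finset.sum_mul_sum, Finset.mul_sum, ← Finset.sum_add_distrib]
      refine Finset.sum_congr rfl fun i _ => ?_
      rw [Finset.sum_comm, Finset.mul_sum]
      simp only [h3, Finset.sum_add_distrib, Finset.sum_ite_eq, Finset.mem_univ, if_true]
    have hpos : ∀ i ∈ Finset.univ, 0 ≤ (((T.filter fun p => inc p i).card : ℚ) - h) * v i ^ 2 := fun i _ =>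
      mul_nonneg (sub_nonneg.2 (by exact_mod_cast (hr i).le)) (sq_nonneg _)
    have h5 := ((add_eq_zero_iff_of_nonneg (mul_nonneg (Nat.cast_nonneg h) (sq_nonneg _))
      (Finset.sum_nonneg hpos)).1 h4).2
    funext i
    have h6 := (Finset.sum_eq_zero_iff_of_nonneg hpos).1 h5 i (Finset.mem_univ i)
    rcases mul_eq_zero.1 h6 with h7 | h7
    · exfalso
      have : (h : ℚ) < ((T.filter fun p => inc p i).card : ℚ) := by exact_mod_cast hr i
      linarith
    · simpa using h7
  have := LinearMap.finrank_le_finrank_of_injective hinj
  simp at this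
  omega

end Groth.Agent.S15006
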