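import Groth.Statements.S15007
import Mathlib

-- import your own Groth.Agent.* helpers here

set_option autoImplicit false
universe u v
open Harb

namespace Groth.Agent.S15007

/-- Let C be a finite family of d ≥ 2 curves, recorded as an incidence relation between a type of points
and a finite index type, such that any two distinct curves of the family meet in exactly h ≥ 1
points and no point lies on every curve of the family. Then f₀ ≥ h + 2: the number of multiple
points (points lying on at least two of the curves) is at least h + 2. (The published claim reads f₀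
≥ 2ab − a²e + 2 for a transversal arrangement of d ≥ 4 curves on a geometrically ruled surface with
invariant e ≥ 4, all numerically equivalent to a C₀ + b f with a ≥ 1 and b ≥ ae and with no point
common to all of them, satisfying in addition either a ≥ 2, or a = 1 with some four of the curves
having no point in common, where any two of the curves meet transversally in h = 2ab − a²e ≥ 1
points; only d ≥ 2, h ≥ 1 and the absence of a common point enter the proof, and this row states the
bound for an abstract incidence relation.) -/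
theorem result (P : Type u) (ι : Type v) [Fintype ι]
    (inc : P → ι → Prop) (h : ℕ) (hh : 0 < h) (hd : 2 ≤ Fintype.card ι)
    (hfin : ∀ i j : ι, i ≠ j → {p : P | inc p i ∧ inc p j}.Finite)
    (hcount : ∀ i j : ι, i ≠ j → {p : P | inc p i ∧ inc p j}.ncard = h)
    (hnone : ∀ p : P, ∃ i : ι, ¬ inc p i) :
    h + 2 ≤ Nat.card {p : P // 2 ≤ Nat.card {j : ι // inc p j}} := by
  classical
  obtain ⟨i, j, hij⟩ := Fintype.exists_pair_of_one_lt_card (show 1 < Fintype.card ι by omega)
  let S : ι → ι → Set P := fun a b => {p : P | inc p a ∧ inc p b}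
  have hne : (S i j).Nonempty := Set.nonempty_of_ncard_ne_zero (by rw [hcount i j hij]; omega)
  obtain ⟨p, hpi, hpj⟩ := hne
  obtain ⟨k, hk⟩ := hnone p
  have hik : i ≠ k := by rintro rfl; exact hk hpi
  have hjk : j ≠ k := by rintro rfl; exact hk hpj
  have hnsub : ∀ a, a ≠ k → (a = i ∨ a = j) → ∃ q ∈ S a k, q ∉ S i j := by
    intro a hak ha
    by_contra hcon
    push Not at hcon
    have := Set.eq_of_subset_of_ncard_le (s := S a k) (t := S i j) hcon (by rw [hcount i j hij, hcount a k hak]) (hfin i j hij)
    have hp : p ∈ S a k := this ▸ (⟨hpi, hpj⟩ : p ∈ S i j)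
    exact hk hp.2
  obtain ⟨q₁, hq₁, hq₁'⟩ := hnsub i hik (Or.inl rfl)
  obtain ⟨q₂, hq₂, hq₂'⟩ := hnsub j hjk (Or.inr rfl)
  have hq12 : q₁ ≠ q₂ := by rintro rfl; exact hq₁' ⟨hq₁.1, hq₂.1⟩
  let T : Set P := {p : P | 2 ≤ Nat.card {l : ι // inc p l}}
  have hT : ∀ a b, a ≠ b → S a b ⊆ T := fun a b hab q hq => by
    change 2 ≤ Nat.card {l : ι // inc q l}
    rw [Nat.card_eq_fintype_card]
    exact Fintype.one_lt_card_iff.2 ⟨⟨a, hq.1⟩, ⟨b, hq.2⟩, fun h => hab (congrArg Subtype.val h)⟩
  have hTfin : T.Finite := by
    refine Set.Finite.subset (Set.finite_iUnion (fun ab : {ab : ι × ι // ab.1 ≠ ab.2} => hfin _ _ ab.2)) fun q hq => ?_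
    change 2 ≤ Nat.card {l : ι // inc q l} at hq
    rw [Nat.card_eq_fintype_card] at hq
    obtain ⟨⟨a, ha⟩, ⟨b, hb⟩, hab⟩ := Fintype.one_lt_card_iff.1 hq
    exact Set.mem_iUnion.2 ⟨⟨(a, b), fun h => hab (Subtype.ext h)⟩, ha, hb⟩
  have hsub : insert q₁ (insert q₂ (S i j)) ⊆ T :=
    Set.insert_subset (hT i k hik hq₁) (Set.insert_subset (hT j k hjk hq₂) (hT i j hij))
  have hc := Set.ncard_le_ncard hsub hTfin
  rw [Set.ncard_insert_of_notMem (fun hm => (Set.mem_insert_iff.1 hm).elim hq12 hq₁') ((hfin i j hij).insert _), Set.ncard_insert_of_notMem hq₂' (hfin i j hij), hcount i j hij] at hc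
  rw [show Nat.card {p : P // 2 ≤ Nat.card {l : ι // inc p l}} = T.ncard from Nat.card_coe_set_eq T]
  omega

end Groth.Agent.S15007
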