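import Groth.Statements.S15008
import Groth.Agent.CanonLenLib.Main

set_option autoImplicit false
universe u
open CategoryTheory
open TFCurv

namespace Groth.Agent.S15008

/-- Let O be a one-dimensional Noetherian local domain with algebraically closed residue field whose
integral closure O~ in its fraction field K is a finite O-module, and suppose O is not Gorenstein.
If w is an O-submodule of K with O ⊆ w ⊆ O~ whose injective dimension as an O-module is at most one
(a canonical ideal placed between O and O~), then length(w/O) + length(O~/C) = 2 · length(O~/O),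
where C is the conductor of O in O~. -/
theorem result (O : Type u) [CommRing O] [IsDomain O] [IsNoetherianRing O] [IsLocalRing O] (hdim : ringKrullDim O = 1) [IsAlgClosed (IsLocalRing.ResidueField O)] (K : Type u) [Field K] [Algebra O K] [IsFractionRing O K] (hfin : Module.Finite O ↥(integralClosure O K)) (hG : ¬ LocCoh.IsGorensteinLocalRing O) (ω : Submodule O K) (hω1 : (1 : Submodule O K) ≤ ω) (hω2 : ω ≤ (Subalgebra.toSubmodule (integralClosure O K))) (hωinj : HasInjectiveDimensionLT (ModuleCat.of O ↥ω) 2) : Module.length O (↥ω ⧸ Submodule.comap ω.subtype (1 : Submodule O K)) + Module.length O (↥(integralClosure O K) ⧸ ((1 : Submodule O K).colon (Subalgebra.toSubmodule (integralClosure O K))) • (⊤ : Submodule O ↥(integralClosure O K))) = 2 * Module.length O (↥(integralClosure O K) ⧸ Submodule.comap (Subalgebra.toSubmodule (integralClosure O K)).subtype (1 : Submodule O K)) := by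
  classical
  set T : Submodule O K := Subalgebra.toSubmodule (integralClosure O K) with hT
  have hTfg : T.FG := Module.Finite.iff_fg.1 hfin
  haveI := isNoetherian_of_fg_of_noetherian T hTfg
  have hωfg : ω.FG := isNoetherian_submodule.1 inferInstance ω hω2
  have h1ω : (1 : K) ∈ ω := hω1 (Submodule.mem_one.2 ⟨1, map_one _⟩)
  have h1T : (1 : K) ∈ T := (integralClosure O K).one_mem
  have hω0 : ω ≠ ⊥ := fun h => one_ne_zero ((Submodule.mem_bot O).1 (h ▸ h1ω))
  haveI : Module.Finite O ω := Module.Finite.iff_fg.2 hωfg
  haveI : Nontrivial ω := Submodule.nontrivial_iff_ne_bot.2 hω0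
  have hd : Groth.Agent.TFDualLib.Dualising O ω :=
    { ext_zero := fun N _ _ _ _ i hi => Groth.Agent.TFDualLib.ext_tf hωinj N i hi
      end_scalar := Groth.Agent.TFDualLib.exists_smul_of_end hωinj hdim hω0 hωfg }
  -- the dual of the normalisation is the conductor
  have hWT : ω / T = 1 / T := by
    refine le_antisymm (fun x hx => ?_) (fun x hx => Submodule.mem_div_iff_forall_mul_mem.2 fun y hy =>
      hω1 (Submodule.mem_div_iff_forall_mul_mem.1 hx y hy))
    refine Submodule.mem_div_iff_forall_mul_mem.2 fun t ht => ?_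
    let φ : ω →ₗ[O] ω :=
      { toFun := fun w => ⟨x * (t * (w : K)), Submodule.mem_div_iff_forall_mul_mem.1 hx _
          ((integralClosure O K).mul_mem ht (hω2 w.2))⟩
        map_add' := fun w w' => Subtype.ext (by simp [mul_add])
        map_smul' := fun r w => Subtype.ext (by simp) }
    obtain ⟨o, ho⟩ := hd.end_scalar φ
    have h := congrArg Subtype.val (ho ⟨1, h1ω⟩)
    change x * (t * 1) = o • (1 : K) at h
    rw [mul_one, Algebra.smul_def, mul_one] at h
    exact Submodule.mem_one.2 ⟨o, h.symm⟩
  have hW1 : ω / (1 : Submodule O K) = ω := by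
    ext x
    refine ⟨fun hx => by simpa using Submodule.mem_div_iff_forall_mul_mem.1 hx 1 (Submodule.mem_one.2 ⟨1, map_one _⟩),
      fun hx => Submodule.mem_div_iff_forall_mul_mem.2 fun y hy => ?_⟩
    obtain ⟨o, rfl⟩ := Submodule.mem_one.1 hy
    rw [mul_comm, ← Algebra.smul_def]
    exact ω.smul_mem o hx
  have h1T' : (1 : Submodule O K) ≤ T := hω1.trans hω2
  have hc0 : (1 : Submodule O K) / T ≠ ⊥ := by
    obtain ⟨s, hs⟩ := hTfg
    obtain ⟨b, hb⟩ := IsLocalization.exist_integer_multiples (nonZeroDivisors O) s id
    refine fun h => IsFractionRing.to_map_ne_zero_of_mem_nonZeroDivisors (K := K) b.2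
      ((Submodule.mem_bot O).1 (h ▸ (Submodule.mem_div_iff_forall_mul_mem.2 fun y hy => ?_)))
    rw [← hs] at hy
    rw [← Algebra.smul_def]
    induction hy using Submodule.span_induction with
    | mem g hg =>
      obtain ⟨r, hr⟩ := hb g hg
      exact Submodule.mem_one.2 ⟨r, hr⟩
    | zero => simp
    | add x y _ _ hx hy => rw [smul_add]; exact add_mem hx hy
    | smul r x _ hx => rw [smul_comm]; exact Submodule.smul_mem _ r hx
  have hcO : (1 : Submodule O K) / T ≤ 1 := fun x hx => by
    simpa using Submodule.mem_div_iff_forall_mul_mem.1 hx 1 h1T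
  have hdual := CanonLenLib.relLen_div hd h1T' (fun h => one_ne_zero ((Submodule.mem_bot O).1
    (h ▸ (Submodule.mem_one.2 ⟨1, map_one _⟩ : (1 : K) ∈ (1 : Submodule O K))))) hTfg (hWT ▸ hc0) (hW1.symm ▸ hωfg)
  rw [hWT, hW1, CanonLenLib.relLen_add hcO hω1] at hdual
  have hsub : ((1 : Submodule O K).colon (Subalgebra.toSubmodule (integralClosure O K))) •
      (⊤ : Submodule O ↥(integralClosure O K)) =
      Submodule.comap (T.subtype) ((1 : Submodule O K) / T) := by
    refine le_antisymm (Submodule.smul_le.2 fun r hr y _ => ?_) fun y hy => ?_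
    · refine Submodule.mem_div_iff_forall_mul_mem.2 fun z hz => ?_
      change r • (y : K) * z ∈ _
      rw [smul_mul_assoc]
      exact Submodule.mem_colon.1 hr _ ((integralClosure O K).mul_mem y.2 hz)
    · obtain ⟨o, ho⟩ := Submodule.mem_one.1 (hcO hy)
      have : y = o • (⟨1, h1T⟩ : ↥(integralClosure O K)) := Subtype.ext (by
        show (y : K) = o • (1 : K)
        rw [Algebra.smul_def, mul_one, ho]
        rfl)
      rw [this]
      refine Submodule.smul_mem_smul (Submodule.mem_colon.2 fun z hz => ?_) Submodule.mem_top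
      rw [Algebra.smul_def, ho]
      exact Submodule.mem_div_iff_forall_mul_mem.1 hy z hz
  rw [hsub]
  change CanonLenLib.relLen 1 ω + CanonLenLib.relLen (1 / T) T = 2 * CanonLenLib.relLen 1 T
  rw [CanonLenLib.relLen_add hcO h1T', two_mul, ← add_assoc, add_comm (CanonLenLib.relLen 1 ω), hdual]

end Groth.Agent.S15008
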