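import Groth.Statements.S15011
import Groth.Agent.TLenLib.Core

-- import your own Groth.Agent.* helpers here

set_option autoImplicit false
universe u
open TFCurv

namespace Groth.Agent.S15011

open IsLocalRing

theorem exists_general_element {O N : Type u} [CommRing O] [IsNoetherianRing O] [IsLocalRing O]
    [IsAlgClosed (ResidueField O)] [CommRing N] [IsDomain N] [IsDedekindDomain N] [Algebra O N]
    [FaithfulSMul O N] [Algebra.IsIntegral O N] (hm : maximalIdeal O ≠ ⊥) :
    ∃ x ∈ maximalIdeal O, Ideal.span {algebraMap O N x} = (maximalIdeal O).map (algebraMap O N) := by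
  classical
  let J := (maximalIdeal O).map (algebraMap O N)
  have hJ : J ≠ ⊥ := fun h => hm ((Ideal.map_eq_bot_iff_of_injective (FaithfulSMul.algebraMap_injective O N)).1 h)
  let T : Set (Ideal N) := {Q | Q.IsMaximal}
  have hJQ : ∀ Q : Ideal N, Q.IsMaximal → J ≤ Q := fun Q hQ => Ideal.map_le_iff_le_comap.2 (by
    haveI := hQ
    exact (IsLocalRing.eq_maximalIdeal (Ideal.isMaximal_comap_of_isIntegral_of_isMaximal (R := O) Q)).ge)
  have hT : T.Finite := (Ideal.finite_minimalPrimes_of_isNoetherianRing N J).subset fun Q hQ =>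
    ⟨⟨Ideal.IsMaximal.isPrime hQ, hJQ Q hQ⟩, fun P hP hPQ => by
      have hne : P ≠ ⊥ := fun h => hJ (le_bot_iff.1 (hP.2.trans h.le))
      haveI := hP.1
      exact ((hP.1.isMaximal hne).eq_of_le (Ideal.IsMaximal.ne_top hQ) hPQ).ge⟩
  haveI := hT.to_subtype
  haveI : Infinite (ResidueField O) := IsAlgClosed.instInfinite
  let S : Ideal N → Submodule O (maximalIdeal O) := fun Q =>
    Submodule.comap (((Algebra.linearMap O N).comp (maximalIdeal O).subtype)) ((Q * J).restrictScalars O)
  let V : T → Submodule (ResidueField O) (CotangentSpace O) := fun Q =>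
    { toAddSubmonoid := ((S Q).map (maximalIdeal O).toCotangent).toAddSubmonoid
      smul_mem' := fun r v hv => by
        obtain ⟨a, rfl⟩ := IsLocalRing.residue_surjective r
        have h := Submodule.smul_mem ((S Q).map (maximalIdeal O).toCotangent) a hv
        rw [← ResidueField.algebraMap_eq, algebraMap_smul]
        exact h }
  have hV : ∀ Q, V Q ≠ ⊤ := by
    intro Q htop
    haveI : (Q : Ideal N).IsMaximal := Q.2
    have hmQ : (maximalIdeal O).map (algebraMap O N) ≤ (Q : Ideal N) * J := by
      rw [Ideal.map_le_iff_le_comap]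
      intro z hz
      have hmem : (maximalIdeal O).toCotangent ⟨z, hz⟩ ∈ V Q := htop ▸ Submodule.mem_top
      obtain ⟨w, hw, hwz⟩ := Submodule.mem_map.1 hmem
      have hd : (w : O) - z ∈ maximalIdeal O ^ 2 := (Ideal.toCotangent_eq _).1 hwz
      have h2 : algebraMap O N ((w : O) - z) ∈ (Q : Ideal N) * J := by
        have h3 := Ideal.mem_map_of_mem (algebraMap O N) hd
        rw [pow_two, Ideal.map_mul] at h3
        exact Ideal.mul_mono_left (hJQ _ Q.2) h3
      have hw' : algebraMap O N w ∈ (Q : Ideal N) * J := hw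
      rw [Ideal.mem_comap]
      simpa [map_sub] using sub_mem hw' h2
    have hdvd : (Q : Ideal N) * J = J := le_antisymm Ideal.mul_le_right hmQ
    exact Ideal.IsMaximal.ne_top Q.2 (Ideal.isUnit_iff.1 (isUnit_iff_eq_one.2 (mul_right_cancel₀ hJ (hdvd.trans (one_mul J).symm))))
  obtain ⟨v, hv⟩ := Submodule.exists_forall_notMem_of_forall_ne_top V hV
  obtain ⟨⟨x, hx⟩, rfl⟩ := (maximalIdeal O).toCotangent_surjective v
  refine ⟨x, hx, ?_⟩
  have hle : Ideal.span {algebraMap O N x} ≤ J :=
    (Ideal.span_singleton_le_iff_mem _).2 (Ideal.mem_map_of_mem _ hx)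
  obtain ⟨I, hI⟩ := Ideal.dvd_iff_le.2 hle
  by_cases hItop : I = ⊤
  · rw [hI, hItop, Ideal.mul_top]
  · obtain ⟨Q, hQ, hIQ⟩ := Ideal.exists_le_maximal I hItop
    refine absurd ?_ (hv ⟨Q, hQ⟩)
    refine ⟨⟨x, hx⟩, ?_, rfl⟩
    show algebraMap O N x ∈ Q * J
    have h := Ideal.mem_span_singleton_self (algebraMap O N x)
    rw [hI, mul_comm] at h
    exact Ideal.mul_mono_left hIQ h

theorem length_quot_eq_mul {O : Type u} [CommRing O] [IsDomain O] [IsNoetherianRing O] [IsLocalRing O]
    (hdim : ringKrullDim O = 1) {x : O} (hx : x ∈ maximalIdeal O) (hx0 : x ≠ 0)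
    (M : Type u) [AddCommGroup M] [Module O M] [Module.Finite O M] [NoZeroSMulDivisors O M] :
    Module.length O (TLenLib.Quot x M) =
      (Module.finrank O M : ℕ∞) * Module.length O (O ⧸ Ideal.span {x}) := by
  classical
  have hmne : maximalIdeal O ≠ ⊥ := fun h => hx0 (by simpa [h] using hx)
  haveI : Ring.KrullDimLE 1 O := Ring.krullDimLE_iff.2 hdim.le
  have hOnly : TLenLib.Only (⊥ : Ideal O) x := fun P hP _ hxP =>
    IsLocalRing.eq_maximalIdeal (hP.isMaximal_of_ne_bot fun h => hx0 (by simpa [h] using hxP))
  have hmin : (⊥ : Ideal O).minimalPrimes = {⊥} := Ideal.minimalPrimes_eq_subsingleton_self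
  have hm : maximalIdeal O ∉ (⊥ : Ideal O).minimalPrimes := by simpa [hmin] using hmne
  haveI : Fintype (⊥ : Ideal O).minimalPrimes := (Ideal.finite_minimalPrimes_of_isNoetherianRing O ⊥).fintype
  have hbot : (⊥ : Ideal O) ∈ (⊥ : Ideal O).minimalPrimes := by rw [hmin]; rfl
  have hT : Subsingleton (TLenLib.Tors x M) := Submodule.subsingleton_iff_eq_bot.2
    (eq_bot_iff.2 fun y hy => (smul_eq_zero.1 ((Submodule.mem_torsionBy_iff _ _).1 hy)).resolve_left hx0)
  rw [TLenLib.length_quot_eq hOnly hx hm M bot_le, Module.length_eq_zero (M := TLenLib.Tors x M), zero_add,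
    TLenLib.wsum, Finset.sum_eq_single ⟨⊥, hbot⟩ (fun p _ hp => absurd (Subtype.ext (by simpa [hmin] using p.2)) hp)
      (by simp)]
  congr 1
  · haveI : (⊥ : Ideal O).IsPrime := Ideal.isPrime_bot
    show Module.length (Localization.AtPrime (⊥ : Ideal O)) (LocalizedModule (⊥ : Ideal O).primeCompl M) = _
    let L := Localization.AtPrime (⊥ : Ideal O)
    have hp : (⊥ : Ideal O).primeCompl = nonZeroDivisors O := by
      ext z; simp [mem_nonZeroDivisors_iff_ne_zero, Ideal.primeCompl]
    haveI : IsFractionRing O L := by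
      show IsLocalization (nonZeroDivisors O) L
      rw [← hp]; infer_instance
    letI : Field L := IsFractionRing.toField O
    haveI : Module.Finite L (LocalizedModule (⊥ : Ideal O).primeCompl M) :=
      Module.Finite.of_isLocalizedModule (⊥ : Ideal O).primeCompl
        (LocalizedModule.mkLinearMap (⊥ : Ideal O).primeCompl M)
    rw [Module.length_eq_finrank, IsLocalization.finrank_eq L (⊥ : Ideal O).primeCompl hp.le,
      IsLocalizedModule.finrank_eq (⊥ : Ideal O).primeCompl
        (LocalizedModule.mkLinearMap (⊥ : Ideal O).primeCompl M) hp.le]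
  · show Module.length O (O ⧸ ((⊥ : Ideal O) ⊔ Ideal.span {x})) = _
    rw [bot_sup_eq]


/-- Let O be a one-dimensional Noetherian local domain with maximal ideal m and algebraically closed
residue field, whose integral closure O~ in its fraction field K is a finite O-module; put e =
length(O~/m O~), the multiplicity of O. Then a finitely generated torsion-free O-module of rank n
can be generated by at most n·e elements. -/
theorem result (O : Type u) [CommRing O] [IsDomain O] [IsNoetherianRing O] [IsLocalRing O] (hdim : ringKrullDim O = 1) [IsAlgClosed (IsLocalRing.ResidueField O)] (K : Type u) [Field K] [Algebra O K] [IsFractionRing O K] (hfin : Module.Finite O ↥(integralClosure O K)) (M : Type u) [AddCommGroup M] [Module O M] [Module.Finite O M] [NoZeroSMulDivisors O M] (n : ℕ) (hn : Module.finrank K (TensorProduct O K M) = n) : ((⊤ : Submodule O M).spanFinrank : ℕ∞) ≤ (n : ℕ∞) * Module.length O (↥(integralClosure O K) ⧸ (IsLocalRing.maximalIdeal O) • (⊤ : Submodule O ↥(integralClosure O K))) := by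
  haveI : Module.Finite O ↥(integralClosure O K) := hfin
  let N := integralClosure O K
  have hmne : IsLocalRing.maximalIdeal O ≠ ⊥ := fun h => by
    rw [ringKrullDim_eq_zero_of_isField ((IsLocalRing.isField_iff_maximalIdeal_eq).2 h)] at hdim
    exact zero_ne_one hdim
  haveI : Ring.KrullDimLE 1 O := Ring.krullDimLE_iff.2 hdim.le
  haveI : Ring.DimensionLEOne O := ⟨fun {p} hp0 hpp => hpp.isMaximal_of_ne_bot hp0⟩
  haveI : IsNoetherianRing N := isNoetherianRing_iff.2 (isNoetherian_of_tower O inferInstance)
  haveI : IsIntegrallyClosed N := integralClosure.isIntegrallyClosedOfFiniteExtension K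
  haveI : Ring.DimensionLEOne N := Ring.DimensionLEOne.integralClosure O K
  haveI : IsDedekindDomain N := {}
  obtain ⟨x, hx, hxN⟩ := exists_general_element (N := N) hmne
  have hx0 : x ≠ 0 := fun h => hmne ((Ideal.map_eq_bot_iff_of_injective (FaithfulSMul.algebraMap_injective O N)).1
    (by rw [← hxN, h, map_zero, Ideal.span_singleton_eq_bot]))
  haveI : NoZeroSMulDivisors O N := ⟨fun {c z} h => by
    rw [Algebra.smul_def, mul_eq_zero] at h
    exact h.imp_left fun h' => FaithfulSMul.algebraMap_injective O N (h'.trans (map_zero _).symm)⟩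
  have hrankK : Module.rank O K = 1 := by
    rw [← IsLocalization.rank_eq K (nonZeroDivisors O) le_rfl, Module.rank_self]
  have hNrank : Module.finrank O N = 1 := by
    refine le_antisymm (Module.finrank_le_of_rank_le ?_) Module.finrank_pos
    rw [Nat.cast_one, ← hrankK]
    exact LinearMap.rank_le_of_injective N.val.toLinearMap Subtype.val_injective
  have hMrank : Module.finrank O M = n := by
    rw [← hn]
    exact ((TensorProduct.isBaseChange O M K).finrank_eq).symm
  let m := IsLocalRing.maximalIdeal O
  -- generators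
  letI : Field (O ⧸ m) := Ideal.Quotient.field m
  haveI : Module.Finite (O ⧸ m) (M ⧸ (m • (⊤ : Submodule O M))) := Module.Finite.of_restrictScalars_finite O _ _
  let b := Module.finBasis (O ⧸ m) (M ⧸ (m • (⊤ : Submodule O M)))
  choose g hg using fun i => Submodule.Quotient.mk_surjective (m • (⊤ : Submodule O M)) (b i)
  have hspan : Submodule.span O (Set.range g) = ⊤ := by
    refine top_le_iff.1 (Submodule.le_of_le_smul_of_le_jacobson_bot Module.Finite.fg_top
      (IsLocalRing.maximalIdeal_le_jacobson _) ?_)
    intro z _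
    have hz : Submodule.Quotient.mk z ∈ Submodule.span (O ⧸ m) (Set.range b) := by rw [b.span_eq]; trivial
    rw [← Submodule.restrictScalars_mem O, Submodule.restrictScalars_span O (O ⧸ m) Ideal.Quotient.mk_surjective,
      show Set.range b = Submodule.mkQ (m • (⊤ : Submodule O M)) '' Set.range g from by
        rw [← Set.range_comp]; exact congrArg Set.range (funext fun i => (hg i).symm),
      ← Submodule.map_span] at hz
    obtain ⟨w, hw, hwz⟩ := Submodule.mem_map.1 hz
    exact Submodule.mem_sup.2 ⟨w, hw, z - w, (Submodule.Quotient.eq _).1 hwz.symm, add_sub_cancel _ _⟩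
  have h1 : ((⊤ : Submodule O M).spanFinrank : ℕ∞) ≤ Module.length O (M ⧸ (m • (⊤ : Submodule O M))) := by
    rw [← hspan]
    refine le_trans (Nat.cast_le.2 (Submodule.spanFinrank_span_le_ncard_of_finite (Set.finite_range g))) ?_
    rw [hspan, Module.length_eq_of_surjective (R := O ⧸ m) (S := O) Ideal.Quotient.mk_surjective,
      Module.length_eq_finrank, Nat.cast_le, ← Set.image_univ]
    refine (Set.ncard_image_le Set.finite_univ).trans ?_
    simp [Set.ncard_univ]
  have hle : Ideal.span {x} • (⊤ : Submodule O M) ≤ m • ⊤ :=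
    Submodule.smul_mono ((Ideal.span_singleton_le_iff_mem _).2 hx) le_rfl
  refine h1.trans ((Module.length_le_of_surjective (Submodule.factor hle) (Submodule.factor_surjective hle)).trans ?_)
  have hN : (Ideal.span {x} • (⊤ : Submodule O N)) = m • ⊤ := by
    rw [Ideal.smul_top_eq_map, Ideal.smul_top_eq_map, Ideal.map_span, Set.image_singleton, hxN]
  show Module.length O (TLenLib.Quot x M) ≤ _
  rw [length_quot_eq_mul hdim hx hx0 M, hMrank, ← (Submodule.quotEquivOfEq _ _ hN).length_eq,
    show Module.length O (TLenLib.Quot x N) = _ from length_quot_eq_mul hdim hx hx0 N, hNrank, Nat.cast_one, one_mul]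

end Groth.Agent.S15011
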