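import Groth.Statements.S15015
import Groth.Agent.ValSemiLib.Basic
import Mathlib.LinearAlgebra.Dimension.Finrank
import Mathlib.LinearAlgebra.FiniteDimensional.Basic
-- import your own Groth.Agent.* helpers here

set_option autoImplicit false
universe u
open TFCurv

namespace Groth.Agent.S15015

/-- Let k be an algebraically closed field and A ≠ k[[t]] a k-subalgebra of k[[t]] that is closed in the
t-adic topology, over which k[[t]] is a finite module, and such that every power series is carried
into A by multiplication with some nonzero element of A (so k[[t]] lies in the fraction field of A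
and is its normalisation, as for the complete local ring of a unibranch curve singularity), and let
Γ ⊆ ℕ be the set of t-orders of the nonzero elements of A (its value semigroup). Then ℕ ∖ Γ is
finite and the k-dimension of k[[t]]/A equals the number of gaps of Γ. -/
theorem result (k : Type u) [Field k] [IsAlgClosed k] (A : Subalgebra k (PowerSeries k)) (hA : Module.Finite ↥A (PowerSeries k)) (hcl : ∀ f : PowerSeries k, (∀ n : ℕ, ∃ g ∈ A, (n : ℕ∞) ≤ PowerSeries.order (f - g)) → f ∈ A) (hsing : A ≠ ⊤) (hbir : ∀ f : PowerSeries k, ∃ a ∈ A, a ≠ 0 ∧ a * f ∈ A) (Γ : Set ℕ) (hΓ : ∀ n : ℕ, n ∈ Γ ↔ ∃ f ∈ A, PowerSeries.order f = n) : Γᶜ.Finite ∧ Module.finrank k (PowerSeries k ⧸ Subalgebra.toSubmodule A) = Γᶜ.ncard := by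
  classical
  obtain ⟨c, hc⟩ := ValSemiLib.exists_bound A hA hbir Γ hΓ
  have hfin : Γᶜ.Finite := (Set.finite_lt_nat c).subset fun n hn => not_le.mp fun h => hn (hc n h)
  refine ⟨hfin, ?_⟩
  haveI : Fintype ↥(Γᶜ) := hfin.fintype
  let L : (↥(Γᶜ) → k) →ₗ[k] PowerSeries k := ∑ n : ↥(Γᶜ), (LinearMap.toSpanSingleton k _ (PowerSeries.X ^ (n : ℕ))).comp (LinearMap.proj n)
  have hL : ∀ v, L v = ∑ n : ↥(Γᶜ), v n • PowerSeries.X ^ (n : ℕ) := fun v => by simp [L, LinearMap.sum_apply]
  have hcoef : ∀ v (n : ↥(Γᶜ)), PowerSeries.coeff (n : ℕ) (L v) = v n := fun v n => by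
    rw [hL, map_sum, Finset.sum_eq_single n (fun b _ hb => by
      rw [PowerSeries.coeff_smul, PowerSeries.coeff_X_pow, if_neg (fun h => hb (Subtype.ext h.symm)), smul_zero]) (by simp)]
    rw [PowerSeries.coeff_smul, PowerSeries.coeff_X_pow, if_pos rfl, smul_eq_mul, mul_one]
  have hgap : ∀ v (m : ℕ), m ∈ Γ → PowerSeries.coeff m (L v) = 0 := fun v m hm => by
    rw [hL, map_sum]
    refine Finset.sum_eq_zero fun n _ => ?_
    rw [PowerSeries.coeff_smul, PowerSeries.coeff_X_pow, if_neg (fun (h : m = (n : ℕ)) => n.2 (h ▸ hm)), smul_zero]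
  let φ : (↥(Γᶜ) → k) →ₗ[k] PowerSeries k ⧸ Subalgebra.toSubmodule A := (Submodule.mkQ _).comp L
  have hinj : Function.Injective φ := (injective_iff_map_eq_zero φ).mpr fun v hv => by
    have hmem : L v ∈ A := (Submodule.Quotient.mk_eq_zero _).mp hv
    by_contra hne
    have h0 : L v ≠ 0 := fun h => hne (funext fun n => by rw [← hcoef v n, h, map_zero]; rfl)
    obtain ⟨m, hm⟩ := ENat.ne_top_iff_exists.mp (show PowerSeries.order (L v) ≠ ⊤ from fun h => h0 (PowerSeries.order_eq_top.mp h))
    exact (PowerSeries.order_eq_nat.mp hm.symm).1 (hgap v m ((hΓ m).mpr ⟨_, hmem, hm.symm⟩))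
  have hsurj : ∀ (j : ℕ) (f : PowerSeries k), ((c - j : ℕ) : ℕ∞) ≤ PowerSeries.order f → ∃ v, φ v = Submodule.Quotient.mk f := by
    intro j
    induction j with
    | zero =>
      intro f hf
      refine ⟨0, ?_⟩
      rw [map_zero, eq_comm, Submodule.Quotient.mk_eq_zero]
      exact ValSemiLib.mem_of_order_ge A hcl Γ hΓ c hc f hf
    | succ j ih =>
      intro f hf
      by_cases hj : c ≤ j
      · refine ih f ?_
        rw [show c - j = 0 by omega]
        exact zero_le
      have hcj : c - (j + 1) + 1 = c - j := by omega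
      by_cases hm : c - (j + 1) ∈ Γ
      · obtain ⟨g, hg, -, hord⟩ := ValSemiLib.exists_improve A Γ hΓ hm f hf
        rw [hcj] at hord
        obtain ⟨v, hv⟩ := ih _ hord
        refine ⟨v, ?_⟩
        rw [hv, Submodule.Quotient.eq]
        rw [show f - g - f = -g by ring]
        exact neg_mem hg
      · let a := PowerSeries.coeff (c - (j + 1)) f
        let e : ↥(Γᶜ) → k := Pi.single ⟨c - (j + 1), hm⟩ a
        have hord : ((c - j : ℕ) : ℕ∞) ≤ PowerSeries.order (f - L e) := by
          refine PowerSeries.nat_le_order _ _ fun i hi => ?_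
          rw [map_sub]
          by_cases hi' : i ∈ Γ
          · rw [hgap e i hi', sub_zero]
            refine PowerSeries.coeff_of_lt_order i (lt_of_lt_of_le ?_ hf)
            exact_mod_cast lt_of_le_of_ne (by omega : i ≤ c - (j + 1)) (fun h => hm (h ▸ hi'))
          · rw [hcoef e ⟨i, hi'⟩]
            rcases eq_or_lt_of_le (by omega : i ≤ c - (j + 1)) with h | h
            · subst h
              simp [e, a]
            · simp only [e]
              rw [Pi.single_eq_of_ne (fun he => h.ne (congrArg Subtype.val he)), sub_zero]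
              exact PowerSeries.coeff_of_lt_order i (lt_of_lt_of_le (by exact_mod_cast h) hf)
        obtain ⟨v, hv⟩ := ih _ hord
        refine ⟨v + e, ?_⟩
        rw [map_add, hv]
        show Submodule.Quotient.mk (f - L e) + Submodule.Quotient.mk (L e) = _
        rw [← Submodule.Quotient.mk_add, sub_add_cancel]
  have hbij : Function.Bijective φ := ⟨hinj, fun q => by
    obtain ⟨f, rfl⟩ := Submodule.Quotient.mk_surjective _ q
    exact hsurj c f (by rw [Nat.sub_self]; exact zero_le)⟩
  rw [← (LinearEquiv.ofBijective φ hbij).finrank_eq, Module.finrank_fintype_fun_eq_card, Set.ncard_eq_toFinset_card', Set.toFinset_card]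

end Groth.Agent.S15015
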