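import Groth.Statements.S15017
-- import your own Groth.Agent.* helpers here

set_option autoImplicit false
open TFCurv

namespace Groth.Agent.S15017

/-- Let Γ be a numerical semigroup (a submonoid of (ℕ, +) with finite complement), Γ ≠ ℕ, with conductor
c (every n ≥ c lies in Γ, c − 1 does not). If Γ is symmetric (for x < c, x is a gap exactly when c −
1 − x ∈ Γ) and has multiplicity greater than 2 (neither 1 nor 2 lies in Γ), then Γ is generated by
its elements smaller than c: every minimal generator of Γ is less than the conductor. -/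
theorem result (Γ : AddSubmonoid ℕ) (c : ℕ) (hc : ∀ n : ℕ, c ≤ n → n ∈ Γ) (hc0 : c ≠ 0) (hc1 : c - 1 ∉ Γ) (hsymm : ∀ x : ℕ, x < c → (x ∉ Γ ↔ c - 1 - x ∈ Γ)) (he : (1 : ℕ) ∉ Γ ∧ (2 : ℕ) ∉ Γ) : AddSubmonoid.closure {γ : ℕ | γ ∈ Γ ∧ γ < c} = Γ := by
  classical
  obtain ⟨h1, h2⟩ := he
  have h3 : 3 ≤ c := by
    by_contra h'
    exact h2 (hc 2 (by omega))
  have hex : ∃ e, e ∈ Γ ∧ e ≠ 0 := ⟨c, hc c le_rfl, hc0⟩
  set e := Nat.find hex with he'
  obtain ⟨heΓ, he0⟩ := Nat.find_spec hex
  have hmin : ∀ γ : ℕ, γ ∈ Γ → γ ≠ 0 → e ≤ γ := fun γ h h' => Nat.find_min' hex ⟨h, h'⟩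
  rw [← he'] at heΓ he0
  have hc2 : c - 2 ∈ Γ := by
    have := (hsymm 1 (by omega)).mp h1
    rwa [show c - 1 - 1 = c - 2 by omega] at this
  have hc3 : c - 3 ∈ Γ := by
    have := (hsymm 2 (by omega)).mp h2
    rwa [show c - 1 - 2 = c - 3 by omega] at this
  have hec : e < c := by have := hmin _ hc2 (by omega); omega
  refine le_antisymm (AddSubmonoid.closure_le.mpr fun γ hγ => hγ.1) ?_
  intro n
  induction n using Nat.strong_induction_on with
  | _ n ih =>
    intro hn
    by_cases hlt : n < c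
    · exact AddSubmonoid.subset_closure ⟨hn, hlt⟩
    by_cases hdec : ∃ a, a ∈ Γ ∧ a ≠ 0 ∧ a < n ∧ n - a ∈ Γ
    · obtain ⟨a, ha, ha0, han, hna⟩ := hdec
      have := AddSubmonoid.add_mem _ (ih a han ha) (ih (n - a) (by omega) hna)
      rwa [show a + (n - a) = n by omega] at this
    exfalso
    push_neg at hdec
    have hne : n - e ∉ Γ := hdec e heΓ he0 (by omega)
    have hlt' : n - e < c := by
      by_contra h'
      exact hne (hc _ (by omega))
    have hn' : n = c - 1 + e := by
      have h5 := (hsymm _ hlt').mp hne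
      by_contra hne'
      have := hmin _ h5 (by omega)
      omega
    have hdvd : ∀ γ : ℕ, γ ∈ Γ → γ < c → e ∣ γ := by
      intro γ
      induction γ using Nat.strong_induction_on with
      | _ γ ihγ =>
        intro hγ hγc
        rcases eq_or_ne γ 0 with rfl | h0
        · exact dvd_zero e
        have hge := hmin γ hγ h0
        have h6 : n - γ ∉ Γ := hdec γ hγ h0 (by omega)
        have h7 := (hsymm (n - γ) (by omega)).mp h6
        rw [show c - 1 - (n - γ) = γ - e by omega] at h7
        have := Nat.dvd_add (ihγ (γ - e) (by omega) h7 (by omega)) (dvd_refl e)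
        rwa [show γ - e + e = γ by omega] at this
    have := Nat.dvd_sub (hdvd _ hc2 (by omega)) (hdvd _ hc3 (by omega))
    rw [show c - 2 - (c - 3) = 1 by omega] at this
    exact h1 (Nat.dvd_one.mp this ▸ heΓ)

end Groth.Agent.S15017
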