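import Groth.Statements.S15018
import Mathlib.Data.Finset.Max
-- import your own Groth.Agent.* helpers here

set_option autoImplicit false
open TFCurv

namespace Groth.Agent.S15018

/-- Let Γ be a numerical semigroup (a submonoid of (ℕ, +) with finite complement), Γ ≠ ℕ, with conductor
c (every n ≥ c lies in Γ, c − 1 does not). Then Γ is symmetric (for x < c, x is a gap exactly when c
− 1 − x ∈ Γ) if and only if there is exactly one gap n of Γ such that Γ ∪ {n} is again stable under
adding elements of Γ, i.e. n + γ ∈ Γ for every nonzero γ ∈ Γ. -/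
theorem result (Γ : AddSubmonoid ℕ) (c : ℕ) (hc : ∀ n : ℕ, c ≤ n → n ∈ Γ) (hc0 : c ≠ 0) (hc1 : c - 1 ∉ Γ) : (∀ x : ℕ, x < c → (x ∉ Γ ↔ c - 1 - x ∈ Γ)) ↔ ∃! n : ℕ, n ∉ Γ ∧ ∀ γ : ℕ, γ ∈ Γ → γ ≠ 0 → n + γ ∈ Γ := by
  have key : ∀ γ : ℕ, γ ∈ Γ → γ ≠ 0 → c - 1 + γ ∈ Γ := fun γ _ h0 => hc _ (by omega)
  constructor
  · intro hs
    refine ⟨c - 1, ⟨hc1, key⟩, ?_⟩
    rintro n ⟨hn, hpf⟩
    by_contra hne
    have hlt : n < c := by
      by_contra h'
      exact hn (hc n (by omega))
    have h1 := (hs n hlt).mp hn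
    have h2 := hpf _ h1 (by omega)
    exact hc1 (by rwa [show n + (c - 1 - n) = c - 1 by omega] at h2)
  · rintro ⟨n0, -, huniq⟩ x hx
    constructor
    · intro hgap
      by_contra hno
      classical
      let S := (Finset.range c).filter fun y => y ∉ Γ ∧ c - 1 - y ∉ Γ
      have hxS : x ∈ S := by simp [S, hx, hgap, hno]
      have hne : S.Nonempty := ⟨x, hxS⟩
      obtain ⟨y, hyS, hmax⟩ : ∃ y ∈ S, ∀ z ∈ S, z ≤ y := ⟨S.max' hne, S.max'_mem hne, fun z hz => S.le_max' z hz⟩
      simp only [S, Finset.mem_filter, Finset.mem_range] at hyS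
      have hy : y ∉ Γ ∧ ∀ γ : ℕ, γ ∈ Γ → γ ≠ 0 → y + γ ∈ Γ := by
        refine ⟨hyS.2.1, fun γ hγ h0 => ?_⟩
        by_contra hg
        have hlt : y + γ < c := by
          by_contra h'
          exact hg (hc _ (by omega))
        have hin : c - 1 - (y + γ) ∈ Γ := by
          by_contra h'
          have := hmax (y + γ) (by simp [S, hlt, hg, h'])
          simp at this
          exact h0 this
        exact hyS.2.2 (by
          have := Γ.add_mem hin hγ
          rwa [show c - 1 - (y + γ) + γ = c - 1 - y by omega] at this)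
      have e1 := huniq y hy
      have e2 := huniq (c - 1) ⟨hc1, key⟩
      exact hyS.2.2 (by rw [e1, ← e2]; simp)
    · intro h1 h2
      exact hc1 (by
        have := Γ.add_mem h2 h1
        rwa [show x + (c - 1 - x) = c - 1 by omega] at this)

end Groth.Agent.S15018
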