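import Groth.Statements.S15019
import Mathlib.Algebra.Group.Submonoid.Basic
import Mathlib.Algebra.Group.Submonoid.Operations
import Mathlib.Data.Set.Card
-- import your own Groth.Agent.* helpers here

set_option autoImplicit false
open TFCurv

namespace Groth.Agent.S15019

/-- Let Γ be a numerical semigroup (a submonoid of (ℕ, +) with finite complement), Γ ≠ ℕ, with conductor
c (every n ≥ c lies in Γ, c − 1 does not), let e be its multiplicity (the least nonzero element of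
Γ), and let S ⊆ ℕ be a Γ-module in normal form: 0 ∈ S and γ + s ∈ S for all γ ∈ Γ, s ∈ S. Then the
set of gaps n of S with S ∪ {n} again a Γ-module (n + γ ∈ S for every nonzero γ ∈ Γ) has at most e −
1 elements, and so does the set of nonzero s ∈ S with S ∖ {s} again a Γ-module (s − γ ∉ S for every
nonzero γ ∈ Γ with γ ≤ s). -/
theorem result (Γ : AddSubmonoid ℕ) (c : ℕ) (hc : ∀ n : ℕ, c ≤ n → n ∈ Γ) (hc0 : c ≠ 0) (hc1 : c - 1 ∉ Γ) (e : ℕ) (he : e ∈ Γ) (he0 : e ≠ 0) (hemin : ∀ γ : ℕ, γ ∈ Γ → γ ≠ 0 → e ≤ γ) (S : Set ℕ) (hS0 : (0 : ℕ) ∈ S) (hS : ∀ γ : ℕ, γ ∈ Γ → ∀ s : ℕ, s ∈ S → γ + s ∈ S) : {n : ℕ | n ∉ S ∧ ∀ γ : ℕ, γ ∈ Γ → γ ≠ 0 → n + γ ∈ S}.encard ≤ ((e - 1 : ℕ) : ℕ∞) ∧ {s : ℕ | s ∈ S ∧ s ≠ 0 ∧ ∀ γ : ℕ, γ ∈ Γ → γ ≠ 0 → γ ≤ s → s - γ ∉ S}.encard ≤ ((e - 1 : ℕ) : ℕ∞) := by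
  classical
  have hmul : ∀ q : ℕ, q * e ∈ Γ := fun q => by simpa using Γ.nsmul_mem he q
  let R : Finset ℕ := (Finset.range e).erase 0
  have hR : (R : Set ℕ).encard = ((e - 1 : ℕ) : ℕ∞) := by
    rw [Set.encard_coe_eq_coe_finsetCard, Finset.card_erase_of_mem (Finset.mem_range.mpr (by omega)), Finset.card_range]
  have hmap : ∀ T : Set ℕ, (∀ n ∈ T, ∀ q, n ≠ q * e) → (∀ a ∈ T, ∀ b ∈ T, a < b → ∀ q, b ≠ a + q * e) →
      T.encard ≤ ((e - 1 : ℕ) : ℕ∞) := fun T h0 hinj => by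
    rw [← hR]
    refine Set.encard_le_encard_of_injOn (f := fun n => n % e) (fun n hn => ?_) (fun a ha b hb h => ?_)
    · refine Finset.mem_coe.mpr (Finset.mem_erase.mpr ⟨fun h => ?_, Finset.mem_range.mpr (Nat.mod_lt _ (by omega))⟩)
      exact h0 n hn (n / e) (Nat.div_mul_cancel (Nat.dvd_of_mod_eq_zero h)).symm
    · rcases lt_trichotomy a b with hab | hab | hab
      · obtain ⟨q, hq⟩ := (Nat.modEq_iff_dvd' hab.le).mp h
        exact absurd (by rw [mul_comm]; omega : b = a + q * e) (hinj a ha b hb hab q)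
      · exact hab
      · obtain ⟨q, hq⟩ := (Nat.modEq_iff_dvd' hab.le).mp h.symm
        exact absurd (by rw [mul_comm]; omega : a = b + q * e) (hinj b hb a ha hab q)
  refine ⟨hmap _ ?_ ?_, hmap _ ?_ ?_⟩
  · rintro n ⟨hn, -⟩ q rfl
    exact hn (by simpa using hS _ (hmul q) 0 hS0)
  · rintro a ⟨-, ha⟩ b ⟨hb, -⟩ hab q rfl
    exact hb (ha _ (hmul q) (by omega))
  · rintro s ⟨hs, hs0, hs'⟩ q rfl
    exact hs' _ (hmul q) hs0 le_rfl (by rw [Nat.sub_self]; exact hS0)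
  · rintro a ⟨ha, -, -⟩ b ⟨-, -, hb⟩ hab q rfl
    exact hb _ (hmul q) (by omega) (by omega) (by rw [Nat.add_sub_cancel]; exact ha)

end Groth.Agent.S15019
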