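import Groth.Statements.S15022
import Groth.Agent.CanonDualLib.Basic

set_option backward.isDefEq.respectTransparency false
set_option synthInstance.maxHeartbeats 400000

set_option autoImplicit false
universe u
open CategoryTheory
open TFCurv

namespace Groth.Agent.S15022

/-- Let k be an algebraically closed field and A ≠ k[[t]] a k-subalgebra of k[[t]] that is closed in the
t-adic topology and over which k[[t]] is a finite module (as for the complete local ring of a
unibranch curve singularity inside its normalisation), and let Γ ⊆ ℕ be the set of t-orders of the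
nonzero elements of A (its value semigroup); let c be the conductor of Γ (every n ≥ c lies in Γ, c −
1 does not) and suppose A is not Gorenstein. If w is an A-submodule of k[[t]] with 1 ∈ w whose
injective dimension as an A-module is at most one (a canonical ideal of A placed between A and
k[[t]]), then the value set of w is the dual of Γ: a natural number n is the t-order of some element
of w exactly when n ≥ c or c − 1 − n is a gap of Γ. (The published statement does not exclude the
Gorenstein case; this row assumes that A is not Gorenstein.) -/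
theorem result (k : Type u) [Field k] [IsAlgClosed k] (A : Subalgebra k (PowerSeries k)) (hA : Module.Finite ↥A (PowerSeries k)) (hcl : ∀ f : PowerSeries k, (∀ n : ℕ, ∃ g ∈ A, (n : ℕ∞) ≤ PowerSeries.order (f - g)) → f ∈ A) (hsing : A ≠ ⊤) (Γ : Set ℕ) (hΓ : ∀ n : ℕ, n ∈ Γ ↔ ∃ f ∈ A, PowerSeries.order f = n) (c : ℕ) (hc : ∀ n : ℕ, c ≤ n → n ∈ Γ) (hc0 : c ≠ 0) (hc1 : c - 1 ∉ Γ) (hG : ¬ LocCoh.IsGorensteinLocalRing ↥A) (ω : Submodule ↥A (PowerSeries k)) (hω1 : (1 : PowerSeries k) ∈ ω) (hωfg : ω.FG) (hωinj : HasInjectiveDimensionLT (ModuleCat.of ↥A ↥ω) 2) (n : ℕ) : (∃ f ∈ ω, PowerSeries.order f = n) ↔ (c ≤ n ∨ c - 1 - n ∉ Γ) := by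
  have key := CanonDualLib.value_dual' A (ValSemiLib.mem_of_order_ge A hcl Γ hΓ c hc) hω1 hωinj hc0
    (fun f hf h => hc1 ((hΓ _).2 ⟨f, hf, h⟩)) 1 (Submodule.one_le.1 le_rfl) n
  have h1 : (∃ f ∈ (1 : Submodule ↥A (PowerSeries k)), PowerSeries.order f = ((c - 1 - n : ℕ) : ℕ∞)) ↔
      c - 1 - n ∈ Γ := by
    rw [hΓ]
    constructor
    · rintro ⟨f, hf, ho⟩
      obtain ⟨a, rfl⟩ := Submodule.mem_one.1 hf
      exact ⟨_, a.2, ho⟩
    · rintro ⟨f, hf, ho⟩
      exact ⟨f, Submodule.mem_one.2 ⟨⟨f, hf⟩, rfl⟩, ho⟩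
  rw [h1] at key
  rw [← key]
  constructor
  · rintro ⟨u, hu, ho⟩
    refine ⟨u, ho, fun f hf => ?_⟩
    obtain ⟨a, rfl⟩ := Submodule.mem_one.1 hf
    rw [mul_comm]
    exact ω.smul_mem a hu
  · rintro ⟨u, ho, hu⟩
    refine ⟨u, ?_, ho⟩
    simpa using hu 1 (Submodule.one_le.1 le_rfl)

end Groth.Agent.S15022
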