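import Groth.Statements.S15025
import Groth.Agent.TFTorLib.Basic

set_option autoImplicit false
universe u
open CategoryTheory
open TFCurv

namespace Groth.Agent.S15025

/-- Let O be a one-dimensional Noetherian local domain with algebraically closed residue field whose
integral closure O~ in its fraction field K is a finite O-module, M a finitely generated
torsion-free O-module and g : M → O^n an injective O-linear map whose cokernel T' has finite length.
Then the torsion submodule of O~ ⊗_O M is O-linearly isomorphic to Tor_1^O(O~, T') (existence of an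
isomorphism only). -/
theorem result (O : Type u) [CommRing O] [IsDomain O] [IsNoetherianRing O] [IsLocalRing O] (hdim : ringKrullDim O = 1) [IsAlgClosed (IsLocalRing.ResidueField O)] (K : Type u) [Field K] [Algebra O K] [IsFractionRing O K] (hfin : Module.Finite O ↥(integralClosure O K)) (M : Type u) [AddCommGroup M] [Module O M] [Module.Finite O M] [NoZeroSMulDivisors O M] (n : ℕ) (g : M →ₗ[O] (Fin n → O)) (hg : Function.Injective g) (hT : IsFiniteLength O ((Fin n → O) ⧸ LinearMap.range g)) : Nonempty (↥(Submodule.torsion O (TensorProduct O ↥(integralClosure O K) M)) ≃ₗ[O] ↑(((Tor (ModuleCat.{u} O) 1).obj (ModuleCat.of O ↥(integralClosure O K))).obj (ModuleCat.of O ((Fin n → O) ⧸ LinearMap.range g)))) := by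
  haveI : Module.Flat O K := IsLocalization.flat K (nonZeroDivisors O)
  haveI := IsFractionRing.injective O K
  haveI : FaithfulSMul O K := (faithfulSMul_iff_algebraMap_injective O K).2 this
  have htor : ∀ t : (Fin n → O) ⧸ LinearMap.range g, ∃ a : O, a ≠ 0 ∧ a • t = 0 := fun t => by
    by_contra hne
    push_neg at hne
    obtain ⟨-, hart⟩ := isFiniteLength_iff_isNoetherian_isArtinian.1 hT
    have hinj : Function.Injective (LinearMap.toSpanSingleton O _ t) := (injective_iff_map_eq_zero _).2 fun a ha => by
      by_contra ha'
      exact hne a ha' ha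
    haveI := hart
    haveI : IsArtinianRing O := isArtinian_of_injective _ hinj
    have h0 : ringKrullDim O ≤ 0 := Ring.krullDimLE_iff.1 inferInstance
    rw [hdim] at h0
    exact absurd h0 (by decide)
  choose a ha hat using fun i => htor (Submodule.Quotient.mk (Pi.single i 1))
  obtain ⟨e⟩ := TFTorLib.nonempty_torsion_iso (integralClosure O K).toSubmodule n g hg (∏ i, a i)
    (Finset.prod_ne_zero_iff.2 fun i _ => ha i) (fun v => by
      rw [← (Pi.basisFun O (Fin n)).sum_repr v, Finset.smul_sum]
      refine Submodule.sum_mem _ fun i _ => ?_
      rw [smul_comm]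
      refine Submodule.smul_mem _ _ ?_
      obtain ⟨c, hc⟩ := Finset.dvd_prod_of_mem a (Finset.mem_univ i)
      rw [hc, mul_comm, mul_smul]
      refine Submodule.smul_mem _ _ ?_
      rw [← Submodule.Quotient.mk_eq_zero, Submodule.Quotient.mk_smul, Pi.basisFun_apply]
      exact hat i)
  exact ⟨e⟩

end Groth.Agent.S15025
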