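import Groth.Statements.S15029
import Mathlib.Algebra.Group.Submonoid.Basic
import Mathlib.Data.Set.Finite.Basic
import Mathlib.Data.Finset.Max
-- import your own Groth.Agent.* helpers here

set_option autoImplicit false
open TFCurv

namespace Groth.Agent.S15029

/-- Let Γ be a numerical semigroup (a submonoid of (ℕ, +) with finite complement), Γ ≠ ℕ, with conductor
c (every n ≥ c lies in Γ, c − 1 does not), and let S ⊆ ℕ be a Γ-module in normal form (0 ∈ S and γ +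
s ∈ S for γ ∈ Γ, s ∈ S). If S ≠ ℕ then some gap n of S can be added (n + γ ∈ S for every nonzero γ ∈
Γ, so S ∪ {n} is a Γ-module), and if S ≠ Γ then some s ∈ S outside Γ can be removed (s − γ ∉ S for
every nonzero γ ∈ Γ with γ ≤ s, so S ∖ {s} is a Γ-module containing Γ); iterating, S is joined to ℕ
and to Γ by chains in the diagram of Γ-modules, which is therefore connected. -/
theorem result (Γ : AddSubmonoid ℕ) (c : ℕ) (hc : ∀ n : ℕ, c ≤ n → n ∈ Γ) (hc0 : c ≠ 0) (hc1 : c - 1 ∉ Γ) (S : Set ℕ) (hS0 : (0 : ℕ) ∈ S) (hS : ∀ γ : ℕ, γ ∈ Γ → ∀ s : ℕ, s ∈ S → γ + s ∈ S) : (S ≠ Set.univ → ∃ n : ℕ, n ∉ S ∧ ∀ γ : ℕ, γ ∈ Γ → γ ≠ 0 → n + γ ∈ S) ∧ ((↑Γ : Set ℕ) ≠ S → ∃ s : ℕ, s ∈ S ∧ s ∉ Γ ∧ ∀ γ : ℕ, γ ∈ Γ → γ ≠ 0 → γ ≤ s → s - γ ∉ S) := by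
  classical
  refine ⟨fun hne => ?_, fun hne => ?_⟩
  · have hsub : ∀ n, n ∉ S → n < c := fun n hn => by
      by_contra h
      exact hn (by simpa using hS n (hc n (by omega)) 0 hS0)
    obtain ⟨n0, hn0⟩ := (Set.ne_univ_iff_exists_notMem S).mp hne
    let F := (Finset.range c).filter (fun n => n ∉ S)
    have hF : F.Nonempty := ⟨n0, Finset.mem_filter.mpr ⟨Finset.mem_range.mpr (hsub n0 hn0), hn0⟩⟩
    refine ⟨F.max' hF, (Finset.mem_filter.mp (F.max'_mem hF)).2, fun γ _ hγ => ?_⟩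
    by_contra h
    have := F.le_max' _ (Finset.mem_filter.mpr ⟨Finset.mem_range.mpr (hsub _ h), h⟩)
    omega
  · have hex : ∃ s, s ∈ S ∧ s ∉ Γ := by
      by_contra h
      push Not at h
      exact hne (Set.Subset.antisymm (fun γ hγ => by simpa using hS γ hγ 0 hS0) h)
    obtain ⟨h1, h2⟩ := Nat.find_spec hex
    refine ⟨Nat.find hex, h1, h2, fun γ hγ hγ0 hle hmem => ?_⟩
    have h3 : Nat.find hex - γ ∈ Γ := of_not_not fun hn => Nat.find_min hex (by omega) ⟨hmem, hn⟩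
    have := Γ.add_mem h3 hγ
    rw [Nat.sub_add_cancel hle] at this
    exact h2 this

end Groth.Agent.S15029
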