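import Groth.Statements.S15036
import Mathlib.Data.Nat.Nth
import Mathlib.Order.Interval.Set.Infinite
import Mathlib.Algebra.Group.Submonoid.Basic
import Mathlib.Data.Set.Finite.Basic
-- import your own Groth.Agent.* helpers here

set_option autoImplicit false
open TFCurv

namespace Groth.Agent.S15036

/-- Let Γ be a numerical semigroup (a submonoid of (ℕ, +) with finite complement), Γ ≠ ℕ, with conductor
c (every n ≥ c lies in Γ, c − 1 does not); let S ⊆ ℕ be a Γ-module in normal form (0 ∈ S, γ + s ∈ S
for γ ∈ Γ, s ∈ S) with conductor c(S) (all n ≥ c(S) in S, c(S) − 1 ∉ S), and let s be a gap of S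
such that S ∪ {s} is again a Γ-module. Enumerate S increasingly as s_0 < s_1 < ⋯ and put τ_i(S) =
s_i + ℓ(S), where ℓ counts the gaps of Γ filled; since ℓ(S ∪ {s}) = ℓ(S) + 1, the termwise
comparison τ(S) ≤ τ(S ∪ {s}) says that the i-th element of S is at most one more than the i-th
element of S ∪ {s} for every i. This holds if and only if s = c(S) − 1, the largest gap of S. -/
theorem result (Γ : AddSubmonoid ℕ) (c : ℕ) (hc : ∀ n : ℕ, c ≤ n → n ∈ Γ) (hc0 : c ≠ 0) (hc1 : c - 1 ∉ Γ) (S : Set ℕ) (hS0 : (0 : ℕ) ∈ S) (hS : ∀ γ : ℕ, γ ∈ Γ → ∀ s : ℕ, s ∈ S → γ + s ∈ S) (cS : ℕ) (hcS : ∀ n : ℕ, cS ≤ n → n ∈ S) (hcS0 : cS ≠ 0) (hcS1 : cS - 1 ∉ S) (s : ℕ) (hs : s ∉ S) (hs' : ∀ γ : ℕ, γ ∈ Γ → γ ≠ 0 → s + γ ∈ S) : (∀ i : ℕ, Nat.nth (fun m => m ∈ S) i ≤ Nat.nth (fun m => m ∈ insert s S) i + 1) ↔ s + 1 = cS := by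
  classical
  have hinfS : (Set.ofPred fun m => m ∈ S).Infinite := (Set.Ici_infinite cS).mono fun m hm => hcS m hm
  have hinfS' : (Set.ofPred fun m => m ∈ insert s S).Infinite := hinfS.mono fun m hm => Set.mem_insert_of_mem _ hm
  let P : ℕ → Prop := fun m => m ∈ S
  let P' : ℕ → Prop := fun m => m ∈ insert s S
  have hcount : ∀ m, Nat.count P' m = Nat.count P m + if s < m then 1 else 0 := by
    intro m
    induction m with
    | zero => simp
    | succ m ih =>
      rw [Nat.count_succ, Nat.count_succ, ih]
      by_cases hms : m = s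
      · subst hms
        simp [P, P', hs]
      · have e : (m ∈ insert s S) ↔ m ∈ S := by simp [Set.mem_insert_iff, hms]
        simp only [P', P, e]
        split_ifs <;> omega
  have hcS2 : ∀ m, m ∈ S → cS ≤ m + 1 → cS ≤ m := fun m hm h => by
    by_contra hlt
    exact hcS1 (by rwa [show cS - 1 = m by omega])
  constructor
  · intro h
    have hall : ∀ m, s ≤ m → m ∈ insert s S → m + 1 ∈ S := fun m hsm hm => by
      have h1 := h (Nat.count P' m)
      rw [Nat.nth_count (p := P') hm] at h1
      by_contra hm1
      have h2 : Nat.count P (m + 2) ≤ Nat.count P' m := by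
        rw [Nat.count_succ, Nat.count_succ, hcount]
        simp only [P, hm1, if_false, add_zero]
        rcases eq_or_lt_of_le hsm with rfl | hlt
        · simp [hs]
        · rw [if_pos hlt]
          have : m ∈ S := by
            rcases Set.mem_insert_iff.mp hm with rfl | hm
            · exact absurd rfl hlt.ne'
            · exact hm
          simp [this]
      have := (Nat.count_le_iff_le_nth hinfS).mp h2
      omega
    have hge : ∀ j, s + 1 + j ∈ S := fun j => by
      induction j with
      | zero => exact hall s le_rfl (Set.mem_insert _ _)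
      | succ j ih => exact hall (s + 1 + j) (Nat.le_trans (Nat.le_succ s) (Nat.le_add_right _ _)) (Set.mem_insert_of_mem _ ih)
    by_contra hne
    rcases Nat.lt_or_gt_of_ne hne with h1 | h1
    · exact hcS1 (by simpa [show s + 1 + (cS - 1 - (s + 1)) = cS - 1 by omega] using hge (cS - 1 - (s + 1)))
    · exact hs (hcS s (by omega))
  · intro hsc i
    set m := Nat.nth (fun m => m ∈ insert s S) i with hm
    have hmem : m ∈ insert s S := Nat.nth_mem_of_infinite hinfS' i
    have hi : Nat.count P' m = i := Nat.count_nth_of_infinite hinfS' i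
    suffices i < Nat.count P (m + 2) by
      have := Nat.nth_lt_of_lt_count this
      simp only [P] at this
      omega
    rw [← hi, hcount, Nat.count_succ, Nat.count_succ]
    by_cases h1 : s < m
    · have h2 : m ∈ S := (Set.mem_insert_iff.mp hmem).resolve_left h1.ne'
      have h3 : m + 1 ∈ S := hcS _ (by omega)
      simp [P, h1, h2, h3]
    · rw [if_neg h1]
      by_cases h2 : m ∈ S
      · simp only [P, h2, if_true]
        split_ifs <;> omega
      · have : m = s := (Set.mem_insert_iff.mp hmem).resolve_right h2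
        have h3 : m + 1 ∈ S := hcS _ (by omega)
        simp [P, h2, h3]

end Groth.Agent.S15036
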