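import Groth.Statements.S15038
import Mathlib.Algebra.Group.Submonoid.Basic
import Mathlib.Algebra.Group.Submonoid.Operations
import Mathlib.Data.Finset.Card
-- import your own Groth.Agent.* helpers here

set_option autoImplicit false
open TFCurv

namespace Groth.Agent.S15038

/-- Let Γ be a numerical semigroup (a submonoid of (ℕ, +) with finite complement), Γ ≠ ℕ, with conductor
c (every n ≥ c lies in Γ, c − 1 does not). If Γ is symmetric (for x < c, x is a gap exactly when c −
1 − x ∈ Γ) and its multiplicity e, the least nonzero element of Γ, is greater than 2, then Γ is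
generated as an additive monoid by at most e − 1 elements. -/
theorem result (Γ : AddSubmonoid ℕ) (c : ℕ) (hc : ∀ n : ℕ, c ≤ n → n ∈ Γ) (hc0 : c ≠ 0) (hc1 : c - 1 ∉ Γ) (hsymm : ∀ x : ℕ, x < c → (x ∉ Γ ↔ c - 1 - x ∈ Γ)) (e : ℕ) (he : e ∈ Γ) (he0 : e ≠ 0) (hemin : ∀ γ : ℕ, γ ∈ Γ → γ ≠ 0 → e ≤ γ) (he2 : 2 < e) : ∃ G : Finset ℕ, G.card ≤ e - 1 ∧ AddSubmonoid.closure (↑G : Set ℕ) = Γ := by
  classical
  have hmul : ∀ q : ℕ, q * e ∈ Γ := fun q => by simpa using Γ.nsmul_mem he q
  let G' : Finset ℕ := (Finset.range (c + e)).filter fun γ => γ ∈ Γ ∧ e ≤ γ ∧ γ - e ∉ Γ ∧ γ ≠ c - 1 + e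
  -- residue classes
  have hmod : ∀ a b : ℕ, a ∈ Γ → e ≤ b → b - e ∉ Γ → a < b → a % e ≠ b % e := fun a b ha hb hb' hab h => by
    obtain ⟨q, hq⟩ := (Nat.modEq_iff_dvd' hab.le).mp h
    rcases q with _ | q
    · omega
    · rw [Nat.mul_succ, mul_comm] at hq
      exact hb' (by rw [show b - e = a + q * e by omega]; exact Γ.add_mem ha (hmul q))
  have hF : c - 1 + e ∈ Γ := hc _ (by omega)
  have hF' : c - 1 + e - e ∉ Γ := by rw [Nat.add_sub_cancel]; exact hc1
  let r := (c - 1 + e) % e
  have hr0 : r ≠ 0 := fun h => hmod 0 _ Γ.zero_mem (by omega) hF' (by omega) (by rw [Nat.zero_mod]; exact h.symm)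
  let T : Finset ℕ := ((Finset.range e).erase 0).erase r
  have hTcard : T.card = e - 1 - 1 := by
    rw [Finset.card_erase_of_mem (Finset.mem_erase.mpr ⟨hr0, Finset.mem_range.mpr (Nat.mod_lt _ (by omega))⟩),
      Finset.card_erase_of_mem (Finset.mem_range.mpr (by omega)), Finset.card_range]
  have hcard : G'.card ≤ e - 1 - 1 := by
    rw [← hTcard]
    refine Finset.card_le_card_of_injOn (fun γ => γ % e) (fun γ hγ => ?_) (fun a ha b hb h => ?_)
    · obtain ⟨-, h1, h2, h3, h4⟩ := Finset.mem_filter.mp hγ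
      refine Finset.mem_coe.mpr (Finset.mem_erase.mpr ⟨fun h => ?_, Finset.mem_erase.mpr ⟨fun h => ?_, Finset.mem_range.mpr (Nat.mod_lt _ (by omega))⟩⟩)
      · rcases Nat.lt_or_gt_of_ne h4 with h5 | h5
        · exact hmod _ _ h1 (by omega) hF' h5 h
        · exact hmod _ _ hF h2 h3 h5 h.symm
      · exact hmod 0 γ Γ.zero_mem h2 h3 (by omega) (by rw [Nat.zero_mod]; exact h.symm)
    · obtain ⟨-, a1, a2, a3, -⟩ := Finset.mem_filter.mp ha
      obtain ⟨-, b1, b2, b3, -⟩ := Finset.mem_filter.mp hb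
      rcases lt_trichotomy a b with h5 | h5 | h5
      · exact absurd h (hmod a b a1 b2 b3 h5)
      · exact h5
      · exact absurd h.symm (hmod b a b1 a2 a3 h5)
  refine ⟨insert e G', le_trans (Finset.card_insert_le _ _) (by omega), le_antisymm (AddSubmonoid.closure_le.mpr ?_) ?_⟩
  · intro g hg
    rcases Finset.mem_insert.mp (Finset.mem_coe.mp hg) with rfl | hg
    · exact he
    · exact (Finset.mem_filter.mp hg).2.1
  · intro γ
    induction γ using Nat.strong_induction_on with
    | _ γ ih =>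
      intro hγ
      by_cases h0 : γ = 0
      · rw [h0]; exact zero_mem _
      have hge := hemin γ hγ h0
      by_cases h1 : γ - e ∈ Γ
      · rw [show γ = (γ - e) + e by omega]
        exact add_mem (ih _ (by omega) h1) (AddSubmonoid.subset_closure (Finset.mem_coe.mpr (Finset.mem_insert_self _ _)))
      by_cases h2 : γ = c - 1 + e
      · obtain ⟨t, ht⟩ : T.Nonempty := Finset.card_pos.mp (by omega)
        rw [Finset.mem_erase, Finset.mem_erase, Finset.mem_range] at ht
        obtain ⟨htr, ht0, hte⟩ := ht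
        have hex : ∃ a, a ∈ Γ ∧ a % e = t := ⟨t + c * e, hc _ (le_trans (Nat.le_mul_of_pos_right c (by omega)) (Nat.le_add_left _ _)), by
          rw [Nat.add_mul_mod_self_right, Nat.mod_eq_of_lt hte]⟩
        obtain ⟨ha, hat⟩ := Nat.find_spec hex
        have ha0 : Nat.find hex ≠ 0 := fun h => ht0 (by rw [h, Nat.zero_mod] at hat; exact hat.symm)
        have hae := hemin _ ha ha0
        have ha' : Nat.find hex - e ∉ Γ := fun h => Nat.find_min hex (show Nat.find hex - e < Nat.find hex by omega)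
          ⟨h, by rw [← Nat.mod_eq_sub_mod hae, hat]⟩
        have hlt : Nat.find hex - e < c := not_le.mp fun h => ha' (hc _ h)
        have hb := (hsymm _ hlt).mp ha'
        have hb0 : c - 1 - (Nat.find hex - e) ≠ 0 := fun h => htr (by
          rw [← hat, show Nat.find hex = c - 1 + e by omega])
        rw [show γ = Nat.find hex + (c - 1 - (Nat.find hex - e)) by omega]
        exact add_mem (ih _ (by omega) ha) (ih _ (by omega) hb)
      · refine AddSubmonoid.subset_closure (Finset.mem_coe.mpr (Finset.mem_insert_of_mem (Finset.mem_filter.mpr ⟨?_, hγ, hge, h1, h2⟩)))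
        rw [Finset.mem_range]
        by_contra h
        exact h1 (hc _ (by omega))

end Groth.Agent.S15038
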