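import Groth.Statements.S15039
import Groth.Agent.NormStabLib.Bij

set_option autoImplicit false
set_option backward.isDefEq.respectTransparency false
set_option backward.isDefEq.respectTransparency.types false
set_option maxHeartbeats 1000000

universe u
open CategoryTheory CategoryTheory.Limits AlgebraicGeometry
open TFCurv

namespace Groth.Agent.S15039

/-- Let X be an integral proper curve (integral, proper, of dimension one) over an algebraically closed
field k, with normalisation ν : X~ → X, and write Õ_x for the integral closure of the local ring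
O_{X,x} in the function field of X. Then ν_* induces a bijection from isomorphism classes of locally
free modules of rank n on X~ to isomorphism classes of coherent O_X-modules all of whose stalks F_x
are isomorphic to Õ_x^n as O_{X,x}-modules: every such module is isomorphic to ν_*E for some locally
free E of rank n on X~, and two locally free modules of rank n on X~ with isomorphic direct images
are isomorphic. -/
theorem result (k : Type u) [Field k] [IsAlgClosed k] (X : Scheme.{u}) [X.Over (Spec (CommRingCat.of k))] [IsIntegral X] [IsProper (X ↘ Spec (CommRingCat.of k))] (hdim : topologicalKrullDim X = 1) [QuasiCompact (X.fromSpecStalk (genericPoint X))] [QuasiSeparated (X.fromSpecStalk (genericPoint X))] (n : ℕ) : (∀ F : X.Modules, Coh.IsCoh F → (∀ x : X, Nonempty (↑(F.presheaf.stalk x) ≃ₗ[↑(X.presheaf.stalk x)] (Fin n → ↥(integralClosure ↑(X.presheaf.stalk x) X.functionField)))) → ∃ E : (Curv2.normalization X).Modules, FlatMod.IsFinLocFreeOfRank n E ∧ Nonempty ((Coh.push (Curv2.normalizationι X)).obj E ≅ F)) ∧ (∀ E E' : (Curv2.normalization X).Modules, FlatMod.IsFinLocFreeOfRank n E → FlatMod.IsFinLocFreeOfRank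 n E' → Nonempty ((Coh.push (Curv2.normalizationι X)).obj E ≅ (Coh.push (Curv2.normalizationι X)).obj E') → Nonempty (E ≅ E')) := by
  refine ⟨fun F hF he => _root_.NormStab.exists_bundle (k := k) hdim n hF he, fun E E' hE hE' ⟨φ⟩ => ?_⟩
  obtain ⟨hfin, hdom, ⟨U, ⟨x, hx⟩, hiso⟩, hint, -⟩ := _root_.Groth.Agent.S1585.result k X
  haveI := hfin
  haveI := hint
  haveI := _root_.Groth.Agent.S1585.surjective_ν X
  haveI : IsNoetherian X := _root_.CurvLib.isNoetherian k (X := X)
  haveI : IsLocallyNoetherian (Curv2.normalization X) := LocallyOfFiniteType.isLocallyNoetherian (Curv2.normalizationι X)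
  haveI := (_root_.CurvLib.isCoh_of_locFree hE).1
  haveI := (_root_.CurvLib.isCoh_of_locFree hE').1
  obtain ⟨y, hy⟩ := (Curv2.normalizationι X).surjective x
  exact _root_.NormStab.nonempty_iso_of_push (Curv2.normalizationι X) ⟨y, show Curv2.normalizationι X y ∈ U from hy ▸ hx⟩
    hiso (_root_.NormStab.noTors_locFree hE) (_root_.NormStab.noTors_locFree hE') φ

end Groth.Agent.S15039
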