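import Groth.Statements.S15047
import Groth.Agent.S1156
import Mathlib.RingTheory.Flat.FaithfullyFlat.Algebra
-- import your own Groth.Agent.* helpers here

set_option autoImplicit false
universe u
open TensorProduct
open Desc

namespace Groth.Agent.S15047

/-- Let A → A' be a faithfully flat homomorphism of commutative rings and M, N any A-modules. An
A'-linear map f : A' ⊗_A M → A' ⊗_A N whose two base changes to A' ⊗_A A' (along a ↦ a ⊗ 1 and a ↦ 1
⊗ a) coincide is the base change of a unique A-linear map h : M → N. Since (A' ⊗_A A') ⊗_A M is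
generated over A' ⊗_A A' by the elements 1 ⊗ m, the agreement of the two base changes is stated on
these generators: for every m, the two images of f (1 ⊗ m) in (A' ⊗_A A') ⊗_A N agree. Equivalently,
the sequence Hom_A(M, N) → Hom_{A'}(A' ⊗ M, A' ⊗ N) ⇉ Hom_{A' ⊗ A'}(A' ⊗ A' ⊗ M, A' ⊗ A' ⊗ N) is an
equalizer diagram. -/
theorem result (A A' : Type u) [CommRing A] [CommRing A'] [Algebra A A']
    [Module.FaithfullyFlat A A'] (M N : Type u) [AddCommGroup M] [Module A M] [AddCommGroup N] [Module A N]
    (f : A' ⊗[A] M →ₗ[A'] A' ⊗[A] N)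
    (hf : ∀ m : M,
      LinearMap.rTensor N (Algebra.TensorProduct.includeLeft : A' →ₐ[A] A' ⊗[A] A').toLinearMap (f (1 ⊗ₜ[A] m)) =
        LinearMap.rTensor N (Algebra.TensorProduct.includeRight : A' →ₐ[A] A' ⊗[A] A').toLinearMap (f (1 ⊗ₜ[A] m))) :
    ∃! h : M →ₗ[A] N, h.baseChange A' = f := by
  have hinj : Function.Injective (TensorProduct.mk A A' N 1) := Module.FaithfullyFlat.tensorProduct_mk_injective N
  let as := (TensorProduct.assoc A A' A' N)
  have hl : ∀ z : A' ⊗[A] N, as (LinearMap.rTensor N
      (Algebra.TensorProduct.includeLeft : A' →ₐ[A] A' ⊗[A] A').toLinearMap z) =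
      LinearMap.lTensor A' (TensorProduct.mk A A' N 1) z := fun z => by
    induction z using TensorProduct.induction_on with
    | zero => simp
    | tmul a n => simp [as]
    | add x y hx hy => simp only [map_add, hx, hy]
  have hr : ∀ z : A' ⊗[A] N, as (LinearMap.rTensor N
      (Algebra.TensorProduct.includeRight : A' →ₐ[A] A' ⊗[A] A').toLinearMap z) =
      TensorProduct.mk A A' (A' ⊗[A] N) 1 z := fun z => by
    induction z using TensorProduct.induction_on with
    | zero => simp
    | tmul a n => simp [as]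
    | add x y hx hy => simp only [map_add, hx, hy]
  have hmem : ∀ m : M, f (1 ⊗ₜ[A] m) ∈ LinearMap.range (TensorProduct.mk A A' N 1) := fun m =>
    Groth.Agent.S1156.result A A' N _ (((hr _).symm.trans (congrArg as (hf m).symm)).trans (hl _))
  let g : M →ₗ[A] LinearMap.range (TensorProduct.mk A A' N 1) :=
    ((f.restrictScalars A).comp (TensorProduct.mk A A' M 1)).codRestrict _ hmem
  let h : M →ₗ[A] N := (LinearEquiv.ofInjective _ hinj).symm.toLinearMap.comp g
  have hh : ∀ m, (1 : A') ⊗ₜ[A] h m = f (1 ⊗ₜ[A] m) := fun m =>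
    congrArg Subtype.val ((LinearEquiv.ofInjective _ hinj).apply_symm_apply (g m))
  refine ⟨h, ?_, fun h' hh' => LinearMap.ext fun m => hinj ?_⟩
  · refine TensorProduct.AlgebraTensorModule.ext fun a m => ?_
    rw [LinearMap.baseChange_tmul, ← mul_one a, ← smul_eq_mul, ← TensorProduct.smul_tmul', ← TensorProduct.smul_tmul',
      map_smul, hh]
  · show (1 : A') ⊗ₜ[A] h' m = (1 : A') ⊗ₜ[A] h m
    rw [hh, ← hh', LinearMap.baseChange_tmul]


end Groth.Agent.S15047
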