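import Groth.Statements.S15049
import Mathlib
import Groth.Agent.LubinTateLib.Comm
-- import your own Groth.Agent.* helpers here

set_option autoImplicit false
universe u
open LubinTate

namespace Groth.Agent.S15049

/-- Let O be a discrete valuation ring with finite residue field of cardinality q, π a uniformizer of O,
and f = πT + T^q ∈ O[[T]]. Then there is a one-dimensional commutative formal group law F(X,Y) over
O for which f is an endomorphism, f(F(X,Y)) = F(f(X), f(Y)); and F is the unique power series in
O[[X,Y]] with zero constant term and linear part X + Y satisfying this identity. (The published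
statement is for the ring of integers of a finite extension of ℚ_p or of 𝔽_q((X)); completeness is
not used and any discrete valuation ring with finite residue field is allowed here.) -/
theorem result (O : Type u) [CommRing O] [IsDomain O] [IsDiscreteValuationRing O]
    [Finite (IsLocalRing.ResidueField O)] (π : O) (hπ : Irreducible π) (f : PowerSeries O)
    (hf : f = π • PowerSeries.X + PowerSeries.X ^ Nat.card (IsLocalRing.ResidueField O)) :
    ∃ F : FormalGroup O, F.IsComm ∧
      PowerSeries.subst F.toPowerSeries f =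
        MvPowerSeries.subst (fun i : Fin 2 => PowerSeries.subst (MvPowerSeries.X i : MvPowerSeries (Fin 2) O) f) F.toPowerSeries ∧
      ∀ G : MvPowerSeries (Fin 2) O, G.constantCoeff = 0 → G.coeff (Finsupp.single 0 1) = 1 →
        G.coeff (Finsupp.single 1 1) = 1 →
        PowerSeries.subst G f =
        MvPowerSeries.subst (fun i : Fin 2 => PowerSeries.subst (MvPowerSeries.X i : MvPowerSeries (Fin 2) O) f) G →
        G = F.toPowerSeries := by
  classical
  have hq : Nat.card (IsLocalRing.ResidueField O) ≠ 0 := Nat.card_pos.ne'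
  obtain ⟨G, h0, h1, hc⟩ := LubinTateLib.exists_comm hπ hf (σ := Fin 2) (fun _ => 1)
  have hX : ∀ (n : ℕ) (i : Fin n), LubinTateLib.Comm f (MvPowerSeries.X i : MvPowerSeries (Fin n) O) :=
    fun n i => LubinTateLib.comm_X hf hq i
  have two : ∀ {n : ℕ} (a b : MvPowerSeries (Fin n) O), a.constantCoeff = 0 → b.constantCoeff = 0 →
      LubinTateLib.Comm f a → LubinTateLib.Comm f b →
      (MvPowerSeries.subst ![a, b] G).constantCoeff = 0 ∧ LubinTateLib.Comm f (MvPowerSeries.subst ![a, b] G) ∧
      ∀ j, MvPowerSeries.coeff (Finsupp.single j 1) (MvPowerSeries.subst ![a, b] G) =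
        MvPowerSeries.coeff (Finsupp.single j 1) a + MvPowerSeries.coeff (Finsupp.single j 1) b := by
    intro n a b ha hb hca hcb
    have hh0 : ∀ i : Fin 2, (![a, b] i).constantCoeff = 0 := by
      intro i; fin_cases i
      · exact ha
      · exact hb
    have hhc : ∀ i : Fin 2, LubinTateLib.Comm f (![a, b] i) := by
      intro i; fin_cases i
      · exact hca
      · exact hcb
    refine ⟨MvPowerSeries.constantCoeff_subst_eq_zero (MvPowerSeries.hasSubst_of_constantCoeff_zero hh0) hh0 h0,
      LubinTateLib.Comm.subst hf hq h0 hc hh0 hhc, fun j => ?_⟩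
    rw [LubinTateLib.coeff_single_subst h0 hh0]
    simp [Fin.sum_univ_two, h1]
  have hX0 : ∀ (n : ℕ) (i : Fin n), (MvPowerSeries.X i : MvPowerSeries (Fin n) O).constantCoeff = 0 :=
    fun n i => MvPowerSeries.constantCoeff_X i
  let F : FormalGroup O :=
    { toPowerSeries := G
      zero_constantCoeff := h0
      lin_coeff_X := h1 0
      lin_coeff_Y := h1 1
      assoc := by
        obtain ⟨p0, pc, pl⟩ := two _ _ (hX0 3 0) (hX0 3 1) (hX 3 0) (hX 3 1)
        obtain ⟨q0, qc, ql⟩ := two _ _ (hX0 3 1) (hX0 3 2) (hX 3 1) (hX 3 2)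
        obtain ⟨l0, lc, ll⟩ := two _ _ p0 (hX0 3 2) pc (hX 3 2)
        obtain ⟨r0, rc, rl⟩ := two _ _ (hX0 3 0) q0 (hX 3 0) qc
        exact LubinTateLib.Comm.ext hπ hf l0 r0 (fun j => by rw [ll, rl, pl, ql, add_assoc]) lc rc }
  refine ⟨F, ⟨?_⟩, hc, fun G' g0 g1 g2 g3 => ?_⟩
  · obtain ⟨s0, sc, sl⟩ := two _ _ (hX0 2 1) (hX0 2 0) (hX 2 1) (hX 2 0)
    show G = MvPowerSeries.subst ![MvPowerSeries.X 1, MvPowerSeries.X 0] G
    refine LubinTateLib.Comm.ext hπ hf h0 s0 (fun j => ?_) hc sc
    rw [sl, h1 j, MvPowerSeries.coeff_index_single_X, MvPowerSeries.coeff_index_single_X]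
    fin_cases j <;> simp
  · refine LubinTateLib.Comm.ext hπ hf g0 h0 (fun j => ?_) g3 hc
    rw [h1 j]
    fin_cases j
    · exact g1
    · exact g2

end Groth.Agent.S15049
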