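import Groth.Statements.S15051
import Mathlib
import Groth.Agent.LubinTateLib.Comm
-- import your own Groth.Agent.* helpers here

set_option autoImplicit false
universe u
open LubinTate

namespace Groth.Agent.S15051

/-- Let O be a discrete valuation ring with finite residue field of cardinality q, π a uniformizer of O,
and f = πT + T^q ∈ O[[T]]; let F be a one-dimensional formal group law over O for which f is an
endomorphism, f(F(X,Y)) = F(f(X), f(Y)), and g ∈ O[[T]] a power series with zero constant term which
commutes with f, g(f(T)) = f(g(T)). Then g is an endomorphism of F, that is g(F(X,Y)) = F(g(X),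
g(Y)); so α ↦ [α] maps O into the endomorphisms of the Lubin–Tate formal group. (The published
statement is for the ring of integers of a finite extension of ℚ_p or of 𝔽_q((X)); completeness is
not used and any discrete valuation ring with finite residue field is allowed here.) -/
theorem result (O : Type u) [CommRing O] [IsDomain O] [IsDiscreteValuationRing O]
    [Finite (IsLocalRing.ResidueField O)] (π : O) (hπ : Irreducible π) (f : PowerSeries O)
    (hf : f = π • PowerSeries.X + PowerSeries.X ^ Nat.card (IsLocalRing.ResidueField O))
    (F : FormalGroup O)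
    (hF : PowerSeries.subst F.toPowerSeries f =
        MvPowerSeries.subst (fun i : Fin 2 => PowerSeries.subst (MvPowerSeries.X i : MvPowerSeries (Fin 2) O) f) F.toPowerSeries)
    (g : PowerSeries O) (hg0 : g.constantCoeff = 0)
    (hgf : PowerSeries.subst g f = PowerSeries.subst f g) :
    PowerSeries.subst F.toPowerSeries g =
      MvPowerSeries.subst (fun i : Fin 2 => PowerSeries.subst (MvPowerSeries.X i : MvPowerSeries (Fin 2) O) g)
        F.toPowerSeries := by
  have hq : Nat.card (IsLocalRing.ResidueField O) ≠ 0 := Nat.card_pos.ne'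
  have hg : LubinTateLib.Comm (σ := Unit) f g := (LubinTateLib.comm_unit_iff g).2 hgf
  have hF0 := F.zero_constantCoeff
  set H : Fin 2 → MvPowerSeries (Fin 2) O :=
    fun i => PowerSeries.subst (MvPowerSeries.X i : MvPowerSeries (Fin 2) O) g with hH
  have hX0 : ∀ (i : Fin 2) (_ : Unit), (MvPowerSeries.X i : MvPowerSeries (Fin 2) O).constantCoeff = 0 :=
    fun i _ => MvPowerSeries.constantCoeff_X i
  have hH0 : ∀ i, (H i).constantCoeff = 0 := fun i =>
    MvPowerSeries.constantCoeff_subst_eq_zero
      (MvPowerSeries.hasSubst_of_constantCoeff_zero (hX0 i)) (hX0 i) hg0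
  have hHc : ∀ i, LubinTateLib.Comm f (H i) := fun i =>
    hg.subst hf hq hg0 (hX0 i) (fun _ => LubinTateLib.comm_X hf hq i)
  have hlin : ∀ i, MvPowerSeries.coeff (Finsupp.single i 1) (F.toPowerSeries) = 1 := by
    intro i; fin_cases i
    · exact F.lin_coeff_X
    · exact F.lin_coeff_Y
  refine LubinTateLib.Comm.ext hπ hf ?_ ?_ ?_ ?_ ?_
  · exact MvPowerSeries.constantCoeff_subst_eq_zero
      (MvPowerSeries.hasSubst_of_constantCoeff_zero fun _ => hF0) (fun _ => hF0) hg0
  · exact MvPowerSeries.constantCoeff_subst_eq_zero
      (MvPowerSeries.hasSubst_of_constantCoeff_zero hH0) hH0 hF0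
  · intro j
    rw [PowerSeries.subst, LubinTateLib.coeff_single_subst hg0 (fun _ => hF0), LubinTateLib.coeff_single_subst hF0 hH0]
    simp only [H, PowerSeries.subst, LubinTateLib.coeff_single_subst hg0 (hX0 _), hlin, one_mul, mul_one,
      Finset.univ_unique, Finset.sum_singleton, MvPowerSeries.coeff_index_single_X]
    simp
  · exact hg.subst hf hq hg0 (fun _ => hF0) (fun _ => hF)
  · exact LubinTateLib.Comm.subst hf hq hF0 hF hH0 hHc

end Groth.Agent.S15051
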