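import Groth.Statements.S15052
import Mathlib
import Groth.Agent.LubinTateLib.Comm
-- import your own Groth.Agent.* helpers here

set_option autoImplicit false
universe u
open LubinTate

namespace Groth.Agent.S15052

/-- Let O be a discrete valuation ring with finite residue field of cardinality q, π a uniformizer of O,
and f = πT + T^q ∈ O[[T]]; let K be the fraction field of O and F a one-dimensional formal group law
over O for which f is an endomorphism, f(F(X,Y)) = F(f(X), f(Y)). Then there is a unique power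
series ℓ ∈ K[[T]] with zero constant term and linear coefficient 1 such that ℓ(f(T)) = π·ℓ(T); this
logarithm is a homomorphism to the additive formal group, ℓ(F(T,S)) = ℓ(T) + ℓ(S), and it is
O-linear in the sense that ℓ(g(T)) = α·ℓ(T) for every α ∈ O and every series g ∈ O[[T]] with zero
constant term and linear coefficient α commuting with f. (The published statement is for the ring of
integers of a finite extension of ℚ_p; completeness is not used and any discrete valuation ring with
finite residue field is allowed here.) -/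
theorem result (O : Type u) [CommRing O] [IsDomain O] [IsDiscreteValuationRing O]
    [Finite (IsLocalRing.ResidueField O)] (K : Type u) [Field K] [Algebra O K] [IsFractionRing O K]
    (π : O) (hπ : Irreducible π) (f : PowerSeries O)
    (hf : f = π • PowerSeries.X + PowerSeries.X ^ Nat.card (IsLocalRing.ResidueField O))
    (F : FormalGroup O)
    (hF : PowerSeries.subst F.toPowerSeries f =
        MvPowerSeries.subst (fun i : Fin 2 => PowerSeries.subst (MvPowerSeries.X i : MvPowerSeries (Fin 2) O) f) F.toPowerSeries) :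
    ∃ ℓ : PowerSeries K, (ℓ.constantCoeff = 0 ∧ ℓ.coeff 1 = 1 ∧
      PowerSeries.subst (PowerSeries.map (algebraMap O K) f) ℓ = algebraMap O K π • ℓ) ∧
      (∀ ℓ' : PowerSeries K, ℓ'.constantCoeff = 0 → ℓ'.coeff 1 = 1 →
        PowerSeries.subst (PowerSeries.map (algebraMap O K) f) ℓ' = algebraMap O K π • ℓ' → ℓ' = ℓ) ∧
      PowerSeries.subst ((F.toPowerSeries).map (algebraMap O K)) ℓ =
        PowerSeries.subst (MvPowerSeries.X (0 : Fin 2) : MvPowerSeries (Fin 2) K) ℓ +
          PowerSeries.subst (MvPowerSeries.X (1 : Fin 2) : MvPowerSeries (Fin 2) K) ℓ ∧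
      (∀ (α : O) (g : PowerSeries O), g.constantCoeff = 0 → g.coeff 1 = α →
        PowerSeries.subst g f = PowerSeries.subst f g →
        PowerSeries.subst (PowerSeries.map (algebraMap O K) g) ℓ = algebraMap O K α • ℓ) := by
  classical
  set q := Nat.card (IsLocalRing.ResidueField O) with hq
  have hq2 : 2 ≤ q := Finite.one_lt_card
  have hq0 : q ≠ 0 := by omega
  set φ : O →+* K := algebraMap O K with hφ
  set πK : K := φ π with hπK
  set fK : PowerSeries K := PowerSeries.map φ f with hfKdef
  have hfK : fK = πK • PowerSeries.X + PowerSeries.X ^ q := by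
    rw [hfKdef, hf, map_add, PowerSeries.smul_eq_C_mul, map_mul, PowerSeries.map_C, map_pow, PowerSeries.map_X,
      PowerSeries.smul_eq_C_mul]
  have hfK0 : fK.constantCoeff = 0 := by
    rw [hfK]; simp [hq0]
  have hπne : ∀ N, 2 ≤ N → πK ^ N ≠ πK := fun N hN h =>
    LubinTateLib.pow_ne_self hπ N hN (IsFractionRing.injective O K (by rw [map_pow]; exact h))
  have hdiv : ∀ (σ : Type) [Fintype σ] (G : MvPowerSeries σ K) (e : σ →₀ ℕ), 2 ≤ Finsupp.degree e →
      πK ^ Finsupp.degree e - πK ∣ MvPowerSeries.coeff e (LubinTateLib.defect πK q 0 G) :=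
    fun σ _ G e he => (isUnit_iff_ne_zero.2 (sub_ne_zero.2 (hπne _ he))).dvd
  obtain ⟨ℓ, hl0, hl1, hld⟩ := LubinTateLib.exists_defect_eq_zero (π := πK) (σ := Unit) hq2 0 (hdiv Unit) (fun _ => 1)
  have hdef : ∀ {σ : Type} [Fintype σ] (G : MvPowerSeries σ K),
      LubinTateLib.defect πK q 0 G = MvPowerSeries.subst (LubinTateLib.h πK q) G - πK • G := fun G => by
    rw [LubinTateLib.defect, zero_smul, sub_zero]
  have hhU : LubinTateLib.h (σ := Unit) πK q = fun _ => fK := funext fun _ => by
    rw [hfK]; rfl
  have hunit : ∀ G : PowerSeries K, LubinTateLib.defect (σ := Unit) πK q 0 G = 0 ↔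
      PowerSeries.subst fK G = πK • G := fun G => by
    rw [hdef, hhU, sub_eq_zero]; rfl
  have hℓ : PowerSeries.subst fK (ℓ : PowerSeries K) = πK • (ℓ : PowerSeries K) := (hunit ℓ).1 hld
  have hext : ∀ {σ : Type} [Fintype σ] (G G' : MvPowerSeries σ K), G.constantCoeff = 0 → G'.constantCoeff = 0 →
      (∀ i, MvPowerSeries.coeff (Finsupp.single i 1) G = MvPowerSeries.coeff (Finsupp.single i 1) G') →
      LubinTateLib.defect πK q 0 G = 0 → LubinTateLib.defect πK q 0 G' = 0 → G = G' :=
    fun G G' a b c d e => LubinTateLib.eq_of_defect_eq hq2 0 hπne a b c (d.trans e.symm)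
  -- composing the logarithm with a series commuting with `f`
  have hcomp : ∀ {σ : Type} [Fintype σ] (H : MvPowerSeries σ K), H.constantCoeff = 0 →
      MvPowerSeries.subst (LubinTateLib.h πK q) H = PowerSeries.subst H fK →
      LubinTateLib.defect πK q 0 (PowerSeries.subst H (ℓ : PowerSeries K)) = 0 := by
    intro σ _ H hH hHc
    have hs : MvPowerSeries.HasSubst (fun _ : Unit => H) := MvPowerSeries.hasSubst_of_constantCoeff_zero fun _ => hH
    have hs' : MvPowerSeries.HasSubst (fun _ : Unit => fK) :=
      MvPowerSeries.hasSubst_of_constantCoeff_zero fun _ => hfK0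
    rw [hdef, sub_eq_zero, PowerSeries.subst,
      MvPowerSeries.subst_comp_subst_apply hs (LubinTateLib.hasSubst_h hq0)]
    rw [show (fun _ : Unit => MvPowerSeries.subst (LubinTateLib.h πK q) H) =
      fun i : Unit => MvPowerSeries.subst (fun _ : Unit => H) ((fun _ : Unit => fK) i) from funext fun _ => hHc,
      ← MvPowerSeries.subst_comp_subst_apply hs' hs]
    show MvPowerSeries.subst _ (PowerSeries.subst fK (ℓ : PowerSeries K)) = _
    rw [hℓ]
    exact MvPowerSeries.subst_smul hs πK ℓ
  have hmap : ∀ {σ : Type} [Fintype σ] (i : σ),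
      MvPowerSeries.map φ (LubinTateLib.h π q i) = LubinTateLib.h πK q i := fun i => by
    simp only [LubinTateLib.h, map_add, MvPowerSeries.smul_eq_C_mul, map_mul, MvPowerSeries.map_C, map_pow,
      MvPowerSeries.map_X, hπK]
  have hcommK : ∀ {σ : Type} [Fintype σ] (H : MvPowerSeries σ O), H.constantCoeff = 0 → LubinTateLib.Comm f H →
      MvPowerSeries.subst (LubinTateLib.h πK q) (MvPowerSeries.map φ H) =
        PowerSeries.subst (MvPowerSeries.map φ H) fK := by
    intro σ _ H hH hc
    unfold LubinTateLib.Comm at hc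
    rw [LubinTateLib.h_eq hf] at hc
    have h2 := congrArg (MvPowerSeries.map φ) hc
    rw [MvPowerSeries.map_subst (LubinTateLib.hasSubst_h hq0)] at h2
    erw [PowerSeries.map_subst (LubinTateLib.hasSubst_of_zero hH)] at h2
    simp only [hmap] at h2
    exact h2.symm
  have hlin : ∀ {σ : Type} (H : MvPowerSeries σ K), H.constantCoeff = 0 → ∀ j,
      MvPowerSeries.coeff (Finsupp.single j 1) (PowerSeries.subst H (ℓ : PowerSeries K)) =
        MvPowerSeries.coeff (Finsupp.single j 1) H := by
    intro σ H hH j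
    rw [PowerSeries.subst, LubinTateLib.coeff_single_subst hl0 (fun _ => hH)]
    simp [hl1]
  have hconst : ∀ {σ : Type} (H : MvPowerSeries σ K), H.constantCoeff = 0 →
      (PowerSeries.subst H (ℓ : PowerSeries K)).constantCoeff = 0 := fun H hH =>
    MvPowerSeries.constantCoeff_subst_eq_zero (MvPowerSeries.hasSubst_of_constantCoeff_zero fun _ => hH)
      (fun _ => hH) hl0
  refine ⟨ℓ, ⟨hl0, hl1 (), hℓ⟩, fun ℓ' a b c => hext (σ := Unit) ℓ' ℓ a hl0 (fun i => ?_) ((hunit ℓ').2 c) hld, ?_, ?_⟩
  · rw [LubinTateLib.coeff_one_eq, b, hl1]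
  · have hF0 : (MvPowerSeries.map φ F.toPowerSeries).constantCoeff = 0 := by
      rw [MvPowerSeries.constantCoeff_map, F.zero_constantCoeff, map_zero]
    have hXd : ∀ i : Fin 2, LubinTateLib.defect πK q 0
        (PowerSeries.subst (MvPowerSeries.X i : MvPowerSeries (Fin 2) K) (ℓ : PowerSeries K)) = 0 := fun i => by
      refine hcomp _ (MvPowerSeries.constantCoeff_X i) ?_
      rw [MvPowerSeries.subst_X (LubinTateLib.hasSubst_h hq0), LubinTateLib.subst_f hfK (PowerSeries.HasSubst.X i)]
      rfl
    refine hext _ _ (hconst _ hF0) ?_ (fun j => ?_) (hcomp _ hF0 (hcommK _ F.zero_constantCoeff hF)) ?_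
    · rw [map_add, hconst _ (MvPowerSeries.constantCoeff_X _), hconst _ (MvPowerSeries.constantCoeff_X _), add_zero]
    · rw [hlin _ hF0, map_add, hlin _ (MvPowerSeries.constantCoeff_X _), hlin _ (MvPowerSeries.constantCoeff_X _),
        MvPowerSeries.coeff_map, MvPowerSeries.coeff_index_single_X, MvPowerSeries.coeff_index_single_X]
      fin_cases j <;> simp [F.lin_coeff_X, F.lin_coeff_Y]
    · have h0 := hXd 0
      have h1 := hXd 1
      rw [hdef, sub_eq_zero] at h0 h1 ⊢
      rw [MvPowerSeries.subst_add (LubinTateLib.hasSubst_h hq0), h0, h1, smul_add]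
  · intro α g hg0 hg1 hgf
    have hgK0 : MvPowerSeries.constantCoeff (PowerSeries.map φ g) = 0 := by
      show MvPowerSeries.constantCoeff (MvPowerSeries.map φ g) = 0
      rw [MvPowerSeries.constantCoeff_map]; erw [hg0]; exact map_zero φ
    refine hext (σ := Unit) _ _ (hconst _ hgK0) ?_ (fun j => ?_)
      (hcomp _ hgK0 (hcommK (σ := Unit) g hg0 ((LubinTateLib.comm_unit_iff g).2 hgf))) ?_
    · rw [MvPowerSeries.constantCoeff_smul, hl0, smul_zero]
    · rw [hlin _ hgK0, MvPowerSeries.coeff_smul, hl1, mul_one]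
      rw [LubinTateLib.coeff_one_eq, PowerSeries.coeff_map, hg1]
    · have hld' := hld
      rw [hdef, sub_eq_zero] at hld' ⊢
      rw [MvPowerSeries.subst_smul (LubinTateLib.hasSubst_h hq0), hld', smul_comm]

end Groth.Agent.S15052
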