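import Mathlib
import Groth.Statements.S15054
-- import your own Groth.Agent.* helpers here

set_option autoImplicit false
universe u
open CategoryTheory CategoryTheory.Limits MonoidalCategory CartesianMonoidalCategory MonObj GrpObj AlgebraicGeometry
open BTGrp

namespace Groth.Agent.S15054

/-- Let ℓ be a prime and G = (G_ν)_ν an ℓ-divisible (Barsotti–Tate) group of height h over a scheme S,
given as the system of its finite locally free layers G_ν of order ℓ^{νh} with inclusions G_ν →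
G_{ν+1} exhibiting G_ν as the ℓ^ν-torsion of G_{ν+1} and projections G_{ν+1} → G_ν (multiplication
by ℓ). Let i_t : G_1 → G_{t+1} denote the iterated inclusions, pinned by i_0 = id and i_{t+1} = i_t
followed by G_{t+1} → G_{t+2}. Then for every t, i_t identifies G_1 with the kernel of
multiplication by ℓ on G_{t+1}: the ℓ-torsion of every layer is the first layer. (The published
statement identifies G_v with the ℓ^v-torsion of G_{v+t} for all v; this row is its case v = 1. The
published base is the spectrum of a Noetherian ring; the argument is formal and any base scheme is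
allowed here.) -/
theorem result {S : Scheme.{u}} (ℓ h : ℕ) [Fact ℓ.Prime] (G : BTGrp.ProBT ℓ S h)
    (i : (t : ℕ) → (G.G 1 ⟶ G.G (t + 1))) (hi0 : i 0 = 𝟙 (G.G 1))
    (hi : ∀ t : ℕ, i (t + 1) = i t ≫ G.incl (t + 1)) (t : ℕ) :
    AlgGrp.IsKernel (i t) ((𝟙 (G.G (t + 1))) ^ ℓ) := by
  have hmono : ∀ ν, Mono (G.incl ν) := fun ν => by
    have hp : IsPullback (G.incl ν) (toUnit (G.G ν)) ((𝟙 (G.G (ν + 1))) ^ (ℓ ^ ν)) η[G.G (ν + 1)] := G.isKernel ν
    refine ⟨fun a b hab => ?_⟩
    exact hp.hom_ext hab (toUnit_unique _ _)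
  have hker : ∀ ν (T : Over S) (x : T ⟶ G.G (ν + 1)), x ^ (ℓ ^ ν) = 1 → ∃ y, y ≫ G.incl ν = x := by
    intro ν T x hx
    have hp : IsPullback (G.incl ν) (toUnit (G.G ν)) ((𝟙 (G.G (ν + 1))) ^ (ℓ ^ ν)) η[G.G (ν + 1)] := G.isKernel ν
    refine ⟨hp.lift x (toUnit T) ?_, hp.lift_fst _ _ _⟩
    rw [MonObj.comp_pow, Category.comp_id, hx, Hom.one_def]
  have h1 : ∀ (T : Over S) (x : T ⟶ G.G 1), x ^ ℓ = 1 := by
    intro T x
    have hp : IsPullback (G.incl 0) (toUnit (G.G 0)) ((𝟙 (G.G 1)) ^ (ℓ ^ 0)) η[G.G 1] := G.isKernel 0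
    have hz : G.incl 0 = 1 := by
      have := hp.w
      rw [pow_zero, pow_one, Category.comp_id] at this
      rw [this, Hom.one_def]
    calc x ^ ℓ = x ≫ ((𝟙 (G.G 1)) ^ ℓ) := by rw [MonObj.comp_pow, Category.comp_id]
      _ = x ≫ G.proj 0 ≫ G.incl 0 := by rw [G.proj_incl 0]
      _ = 1 := by rw [hz, MonObj.comp_one, MonObj.comp_one]
  have hihom : ∀ t, IsMonHom (i t) := by
    intro t
    induction t with
    | zero => rw [hi0]; infer_instance
    | succ t ih => rw [hi]; infer_instance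
  have key : ∀ t, Mono (i t) ∧ ∀ (T : Over S) (x : T ⟶ G.G (t + 1)), x ^ ℓ = 1 → ∃ y, y ≫ i t = x := by
    intro t
    induction t with
    | zero =>
      refine ⟨?_, fun T x _ => ⟨x, ?_⟩⟩
      · rw [hi0]; infer_instance
      · rw [hi0]; exact Category.comp_id x
    | succ t ih =>
      obtain ⟨hm, hex⟩ := ih
      refine ⟨?_, fun T x hx => ?_⟩
      · rw [hi]
        have := hmono (t + 1)
        exact mono_comp _ _
      · obtain ⟨y, rfl⟩ := hker (t + 1) T x (by rw [pow_succ', pow_mul, hx, one_pow])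
        have := hmono (t + 1)
        have hy : y ^ ℓ = 1 := by
          rw [← cancel_mono (G.incl (t + 1)), MonObj.pow_comp, hx, MonObj.one_comp]
        obtain ⟨z, rfl⟩ := hex T y hy
        exact ⟨z, by rw [hi, Category.assoc]⟩
  obtain ⟨hm, hex⟩ := key t
  haveI := hihom t
  have w : i t ≫ ((𝟙 (G.G (t + 1))) ^ ℓ) = toUnit (G.G 1) ≫ η[G.G (t + 1)] := by
    rw [MonObj.comp_pow, Category.comp_id, ← Hom.one_def]
    calc i t ^ ℓ = ((𝟙 (G.G 1)) ^ ℓ) ≫ i t := by rw [MonObj.pow_comp, Category.id_comp]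
      _ = 1 := by rw [h1 _ (𝟙 _), MonObj.one_comp]
  have hs : ∀ s : PullbackCone ((𝟙 (G.G (t + 1))) ^ ℓ) η[G.G (t + 1)], s.fst ^ ℓ = 1 := fun s => by
    have h := s.condition
    rw [MonObj.comp_pow, Category.comp_id] at h
    rw [h, toUnit_unique s.snd (toUnit _), ← Hom.one_def]
  exact IsPullback.of_isLimit' ⟨w⟩ (PullbackCone.IsLimit.mk _ (fun s => (hex s.pt s.fst (hs s)).choose)
    (fun s => (hex s.pt s.fst (hs s)).choose_spec) (fun s => toUnit_unique _ _)
    (fun s m hm1 _ => (cancel_mono (i t)).1 (hm1.trans (hex s.pt s.fst (hs s)).choose_spec.symm)))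

end Groth.Agent.S15054
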