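import Groth.Statements.S15055
import Groth.Agent.BTExactLib.Degree
import Groth.Agent.S15054

set_option autoImplicit false
set_option linter.style.haveILetI false
set_option backward.isDefEq.respectTransparency false
universe u
open CategoryTheory CategoryTheory.Limits MonoidalCategory CartesianMonoidalCategory MonObj GrpObj AlgebraicGeometry
open BTGrp

open Groth.Agent
attribute [-instance] CategoryTheory.Hom.commGroup

namespace Groth.Agent.S15055

/-- Let R be a Noetherian ring, ℓ a prime and G = (G_ν)_ν an ℓ-divisible (Barsotti–Tate) group of height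
h over Spec R, given as the system of its finite locally free layers G_ν of order ℓ^{νh} with
inclusions exhibiting G_ν as the ℓ^ν-torsion of G_{ν+1} and projections j_t : G_{t+1} → G_t through
which multiplication by ℓ on G_{t+1} factors. Let i_t : G_1 → G_{t+1} be the iterated inclusions
(i_0 = id, i_{t+1} = i_t followed by G_{t+1} → G_{t+2}). Then for every t the sequence 1 → G_1 →
G_{t+1} → G_t → 1 is exact: i_t is the kernel of j_t, and j_t is finite locally free of degree ℓ^h
and surjective; in particular multiplication by ℓ is an epimorphism of fppf sheaves on the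
ℓ-divisible group, with kernel of order ℓ^h. (The published statement treats the sequence 0 → G_v →
G_{v+t} → G_t → 0 for every v; this row is its case v = 1, combined with the consequence, stated
separately in the text, that multiplication by ℓ on the ℓ-divisible group is finite locally free of
degree ℓ^h and surjective.) -/
theorem result (R : Type u) [CommRing R] [IsNoetherianRing R] (ℓ h : ℕ)
    [Fact ℓ.Prime] (G : BTGrp.ProBT ℓ (Spec (CommRingCat.of R)) h)
    (i : (t : ℕ) → (G.G 1 ⟶ G.G (t + 1))) (hi0 : i 0 = 𝟙 (G.G 1))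
    (hi : ∀ t : ℕ, i (t + 1) = i t ≫ G.incl (t + 1)) (t : ℕ) :
    AlgGrp.IsKernel (i t) (G.proj t) ∧ Mor2.IsFinLocFreeOfDeg (ℓ ^ h) (G.proj t).left ∧
      Surjective (G.proj t).left := by
  haveI : ∀ ν, Mono (G.incl ν) := fun ν =>
    ⟨fun {Z} a b e => (G.isKernel ν).hom_ext e (toUnit_unique _ _)⟩
  have hl := Groth.Agent.S15054.result ℓ h G i hi0 hi t
  have hk : AlgGrp.IsKernel (i t) (G.proj t) := by
    have w : i t ≫ G.proj t = toUnit (G.G 1) ≫ η[G.G t] := by
      rw [← cancel_mono (G.incl t), Category.assoc, G.proj_incl, hl.w, Category.assoc, IsMonHom.one_hom]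
    have hs : ∀ s : PullbackCone (G.proj t) η[G.G t],
        s.fst ≫ ((𝟙 (G.G (t + 1))) ^ ℓ) = s.snd ≫ η[G.G (t + 1)] := fun s => by
      rw [← G.proj_incl, ← Category.assoc, s.condition, Category.assoc, IsMonHom.one_hom]
    exact IsPullback.of_isLimit' ⟨w⟩ (PullbackCone.IsLimit.mk _ (fun s => hl.lift s.fst s.snd (hs s))
      (fun s => hl.lift_fst _ _ _) (fun s => hl.lift_snd _ _ _)
      (fun s m h1 h2 => hl.hom_ext (h1.trans (hl.lift_fst _ _ _).symm) (h2.trans (hl.lift_snd _ _ _).symm)))
  refine ⟨hk, ?_⟩
  have hK := G.finLocFree 1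
  have hG := G.finLocFree (t + 1)
  rw [_root_.one_mul] at hK
  rw [show ℓ ^ ((t + 1) * h) = ℓ ^ h * ℓ ^ (t * h) by rw [← pow_add]; ring_nf] at hG
  exact BTExactLib.isFinLocFreeOfDeg_surjective_of_kernel (G.proj t) (i t) hk
    (pow_pos (Fact.out : ℓ.Prime).pos h) hK hG (G.finLocFree t)

end Groth.Agent.S15055
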