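import Groth.Statements.S15056
import Mathlib

set_option autoImplicit false
universe u
open scoped TensorProduct
open FrobAlg

namespace Groth.Agent.S15056

/-- Let p be a prime number, R a Noetherian ring of characteristic p and A a finitely generated
commutative Hopf algebra over R (an affine algebraic R-group G = Spec A). The n-fold relative
Frobenius of G is the trivial homomorphism exactly when a^(p^n) = 0 for every a in the augmentation
ideal; G has finite Frobenius height when this holds for some n. Then G has finite Frobenius height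
if and only if A is a finite R-module and, for every algebraically closed field K and every ring
homomorphism R → K, the base change K ⊗_R A is a local ring (G is finite over R with connected
geometric fibres). -/
theorem result (p : ℕ) [Fact p.Prime] (R : Type u) [CommRing R] [CharP R p]
    [IsNoetherianRing R] (A : Type u) [CommRing A] [HopfAlgebra R A] [Algebra.FiniteType R A] :
    (∃ n : ℕ, ∀ a : A, Bialgebra.counitAlgHom R A a = 0 → a ^ p ^ n = 0) ↔
      (Module.Finite R A ∧ ∀ (K : Type u) [Field K] [IsAlgClosed K] [Algebra R K], IsLocalRing (K ⊗[R] A)) := by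
  classical
  have hIa : ∀ a : A, Bialgebra.counitAlgHom R A (a - algebraMap R A (Bialgebra.counitAlgHom R A a)) = 0 := fun a => by
    rw [map_sub, AlgHom.commutes, Algebra.algebraMap_self, RingHom.id_apply, sub_self]
  constructor
  · rintro ⟨n, hn⟩
    have hnil : ∀ a : A, IsNilpotent (a - algebraMap R A (Bialgebra.counitAlgHom R A a)) := fun a => ⟨_, hn _ (hIa a)⟩
    have hint : ∀ a : A, IsIntegral R a := fun a => by
      obtain ⟨k, hk⟩ := hnil a
      have h1 : IsIntegral R (a - algebraMap R A (Bialgebra.counitAlgHom R A a)) :=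
        ⟨Polynomial.X ^ k, Polynomial.monic_X_pow k, by rw [Polynomial.eval₂_X_pow, hk]⟩
      simpa using h1.add (isIntegral_algebraMap (R := R) (A := A) (x := Bialgebra.counitAlgHom R A a))
    haveI : Algebra.IsIntegral R A := ⟨hint⟩
    refine ⟨Algebra.IsIntegral.finite, fun K _ _ _ => ?_⟩
    let ψ : K ⊗[R] A →ₐ[K] K :=
      Algebra.TensorProduct.lift (AlgHom.id K K) ((Algebra.ofId R K).comp (Bialgebra.counitAlgHom R A))
        (fun _ _ => Commute.all _ _)
    haveI : Nontrivial (K ⊗[R] A) := RingHom.domain_nontrivial ψ.toRingHom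
    have hz : ∀ z : K ⊗[R] A, IsNilpotent (z - algebraMap K _ (ψ z)) := fun z => by
      induction z using TensorProduct.induction_on with
      | zero => simp
      | tmul k a =>
        have h1 : k ⊗ₜ[R] a - algebraMap K (K ⊗[R] A) (ψ (k ⊗ₜ[R] a)) =
            (k ⊗ₜ[R] (1 : A)) * Algebra.TensorProduct.includeRight (a - algebraMap R A (Bialgebra.counitAlgHom R A a)) := by
          rw [Algebra.TensorProduct.includeRight_apply, Algebra.TensorProduct.tmul_mul_tmul, mul_one, one_mul,
            TensorProduct.tmul_sub, Algebra.TensorProduct.algebraMap_apply, Algebra.algebraMap_self, RingHom.id_apply]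
          congr 1
          rw [Algebra.algebraMap_eq_smul_one (R := R) (A := A), TensorProduct.tmul_smul, TensorProduct.smul_tmul',
            Algebra.smul_def, mul_comm]
          simp [ψ]
        rw [h1]
        exact (Commute.all _ _).isNilpotent_mul_left ((hnil a).map _)
      | add x y hx hy =>
        rw [map_add, map_add, add_sub_add_comm]
        exact (Commute.all _ _).isNilpotent_add hx hy
    refine IsLocalRing.of_isUnit_or_isUnit_one_sub_self fun z => ?_
    have key : ∀ w, ψ w ≠ 0 → IsUnit w := fun w hw => by
      have := IsNilpotent.isUnit_add_left_of_commute (hz w) ((isUnit_iff_ne_zero.2 hw).map (algebraMap K (K ⊗[R] A))) (Commute.all _ _)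
      rwa [add_sub_cancel] at this
    by_cases h : ψ z = 0
    · exact Or.inr (key _ (by rw [map_sub, map_one, h, sub_zero]; exact one_ne_zero))
    · exact Or.inl (key _ h)
  · rintro ⟨hfin, hloc⟩
    haveI : IsNoetherianRing A := Algebra.FiniteType.isNoetherianRing R A
    obtain ⟨m, hm⟩ := IsNoetherianRing.isNilpotent_nilradical A
    refine ⟨m, fun a ha => ?_⟩
    have hnil : a ∈ nilradical A := by
      rw [nilradical_eq_sInf, Submodule.mem_sInf]
      intro (P : Ideal A) (hP : P.IsPrime)
      haveI := hP
      let Q : Ideal R := P.under R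
      haveI : P.LiesOver Q := ⟨rfl⟩
      let K := AlgebraicClosure (FractionRing (R ⧸ Q))
      haveI := hloc K
      let η : A →ₐ[R] A ⧸ P := Ideal.Quotient.mkₐ R P
      haveI : Algebra.IsIntegral R A := inferInstance
      haveI : Module.Finite (R ⧸ Q) (A ⧸ P) := Module.Finite.of_restrictScalars_finite R _ _
      haveI : FaithfulSMul (R ⧸ Q) K :=
        (faithfulSMul_iff_algebraMap_injective _ _).2 <| by
          rw [IsScalarTower.algebraMap_eq (R ⧸ Q) (FractionRing (R ⧸ Q)) K]
          exact (algebraMap (FractionRing (R ⧸ Q)) K).injective.comp (IsFractionRing.injective _ _)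
      let j : A ⧸ P →ₐ[R ⧸ Q] K := IsAlgClosed.lift
      let φ₁ : K ⊗[R] A →ₐ[K] K := Algebra.TensorProduct.lift (AlgHom.id K K)
        ((j.restrictScalars R).comp η) (fun _ _ => Commute.all _ _)
      let φ₂ : K ⊗[R] A →ₐ[K] K := Algebra.TensorProduct.lift (AlgHom.id K K)
        ((Algebra.ofId R K).comp (Bialgebra.counitAlgHom R A)) (fun _ _ => Commute.all _ _)
      have hk : ∀ φ : K ⊗[R] A →ₐ[K] K, RingHom.ker φ = IsLocalRing.maximalIdeal (K ⊗[R] A) := fun φ =>
        IsLocalRing.eq_maximalIdeal (RingHom.ker_isMaximal_of_surjective φ fun x => ⟨algebraMap K _ x, φ.commutes x⟩)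
      have h2 : φ₂ ((1 : K) ⊗ₜ[R] a) = 0 := by simp [φ₂, ha]
      have h3 : (1 : K) ⊗ₜ[R] a ∈ RingHom.ker φ₁ := by rw [hk, ← hk φ₂]; exact h2
      rw [RingHom.mem_ker, Algebra.TensorProduct.lift_tmul, map_one, one_mul] at h3
      have hj : Function.Injective j := (RingHom.injective_iff_ker_eq_bot _).2 <| by
        have hi : ∀ x, j x = 0 → x = 0 := fun x hx => by
          by_contra hne
          obtain ⟨r, hr, hr'⟩ := Algebra.IsAlgebraic.isAlgebraic (R := R ⧸ Q) x |>.exists_nonzero_dvd (mem_nonZeroDivisors_of_ne_zero hne)
          obtain ⟨c, hc⟩ := hr'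
          refine hr ((FaithfulSMul.algebraMap_injective (R ⧸ Q) K) ?_)
          rw [map_zero, ← j.commutes, hc, map_mul, hx, zero_mul]
        exact eq_bot_iff.2 fun x hx => hi x hx
      exact (Ideal.Quotient.eq_zero_iff_mem).1 (hj (by rw [map_zero]; exact h3))
    have h4 := Ideal.pow_mem_pow hnil (p ^ m)
    have h5 := Ideal.pow_le_pow_right (I := nilradical A) (m.lt_pow_self (Fact.out : p.Prime).one_lt).le h4
    rw [hm] at h5
    exact h5

end Groth.Agent.S15056
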