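import Groth.Statements.S15058
import Mathlib
import Groth.Agent.LubinTateLib.Basic
-- import your own Groth.Agent.* helpers here

set_option autoImplicit false
universe u
open FmlGrp

namespace Groth.Agent.S15058

/-- Let R be a commutative ring and F(X,Y) ∈ R[[X,Y]] a one-dimensional formal group law (zero constant
term, linear part X + Y, associative). Then there is a power series g(X) ∈ R[[X]] with zero constant
term which is a two-sided inverse for F, F(X, g(X)) = 0 = F(g(X), X), and it is unique: every power
series with zero constant term which is a right inverse or a left inverse equals g. (The published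
text proves this for formal group laws of any finite dimension with coefficients in a complete
Noetherian local ring; the argument is a formal degree-by-degree construction, and this row states
the one-dimensional case over an arbitrary commutative ring.) -/
theorem result (R : Type u) [CommRing R] (F : FormalGroup R) :
    ∃ g : PowerSeries R, g.constantCoeff = 0 ∧
      F.toPowerSeries.subst ![PowerSeries.X, g] = (0 : PowerSeries R) ∧
      F.toPowerSeries.subst ![g, PowerSeries.X] = (0 : PowerSeries R) ∧
      ∀ k : PowerSeries R, k.constantCoeff = 0 →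
        (F.toPowerSeries.subst ![PowerSeries.X, k] = (0 : PowerSeries R) ∨
          F.toPowerSeries.subst ![k, PowerSeries.X] = (0 : PowerSeries R)) → k = g := by
  classical
  -- the effect of changing one coefficient
  have hcongr : ∀ (G : MvPowerSeries (Fin 2) R), MvPowerSeries.coeff (Finsupp.single 1 1) G = 1 →
      ∀ (g g' : PowerSeries R), g.constantCoeff = 0 → g'.constantCoeff = 0 → ∀ N,
      (∀ i, i < N → PowerSeries.coeff i g = PowerSeries.coeff i g') →
      PowerSeries.coeff N (G.subst ![PowerSeries.X, g] : PowerSeries R) -
        PowerSeries.coeff N (G.subst ![PowerSeries.X, g'] : PowerSeries R) =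
        PowerSeries.coeff N g - PowerSeries.coeff N g' := by
    intro G hG1 g g' hg hg' N hN
    have hs : ∀ k : PowerSeries R, k.constantCoeff = 0 → MvPowerSeries.HasSubst ![PowerSeries.X, k] := fun k hk =>
      MvPowerSeries.hasSubst_of_constantCoeff_zero (by
        intro i; fin_cases i
        · exact PowerSeries.constantCoeff_X
        · exact hk)
    set e : Unit →₀ ℕ := Finsupp.single () N with he
    have hdeg : Finsupp.degree e = N := Finsupp.degree_single _ _
    show MvPowerSeries.coeff e _ - MvPowerSeries.coeff e _ = MvPowerSeries.coeff e g - MvPowerSeries.coeff e g'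
    rw [MvPowerSeries.coeff_subst (hs g hg), MvPowerSeries.coeff_subst (hs g' hg'),
      ← finsum_sub_distrib (MvPowerSeries.coeff_subst_finite (hs g hg) G e)
        (MvPowerSeries.coeff_subst_finite (hs g' hg') G e),
      finsum_eq_single _ (Finsupp.single 1 1)]
    · simp [Finsupp.prod_single_index, hG1]
    · intro d hd
      rw [← smul_sub, Finsupp.prod_fintype _ _ (fun _ => pow_zero _), Finsupp.prod_fintype _ _ (fun _ => pow_zero _),
        Fin.prod_univ_two, Fin.prod_univ_two]
      simp only [Matrix.cons_val_zero, Matrix.cons_val_one]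
      refine smul_eq_zero_of_right _ ?_
      have hc : ∀ d', Finsupp.degree d' < N →
          MvPowerSeries.coeff d' (g : MvPowerSeries Unit R) = MvPowerSeries.coeff d' (g' : MvPowerSeries Unit R) := by
        intro d' hd'
        have hd'' : d' = Finsupp.single () (d' ()) := Finsupp.unique_single d'
        rw [hd''] at hd' ⊢
        rw [Finsupp.degree_single] at hd'
        exact hN _ hd'
      rcases Nat.eq_zero_or_pos (d 1) with h1 | h1
      · rw [h1, pow_zero, pow_zero, sub_self]
      rcases Nat.eq_zero_or_pos (d 0) with h0 | h0
      · rw [h0, pow_zero, one_mul, one_mul, sub_eq_zero]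
        refine LubinTateLib.coeff_pow_congr ?_ hg hg' hc hdeg.le
        by_contra hlt
        apply hd
        ext i; fin_cases i
        · simpa using h0
        · show d 1 = _
          simp only [Fin.mk_one, Finsupp.single_eq_same]
          omega
      · rw [← map_sub, ← mul_sub, mul_comm]
        refine LubinTateLib.coeff_mul_eq_zero (M := N) (MvPowerSeries.nat_le_order fun d' hd' => ?_) ?_ hdeg.le
        · rw [map_sub, sub_eq_zero]
          exact show _ = _ by
            rw [← sub_eq_zero, ← map_sub, ← geom_sum₂_mul, Finset.sum_mul, map_sum]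
            refine Finset.sum_eq_zero fun i _ => ?_
            obtain ⟨z, hz⟩ : ((g : MvPowerSeries Unit R) - g') ∣ (g : MvPowerSeries Unit R) ^ i * (g' : MvPowerSeries Unit R) ^ (d 1 - 1 - i) * ((g : MvPowerSeries Unit R) - g') :=
              Dvd.intro_left _ rfl
            rw [hz]
            refine MvPowerSeries.coeff_of_lt_order (lt_of_lt_of_le ?_ MvPowerSeries.le_order_mul)
            refine lt_of_lt_of_le ?_ (le_add_of_nonneg_right bot_le)
            refine lt_of_lt_of_le (Nat.cast_lt.2 hd') (MvPowerSeries.nat_le_order fun d'' hd'' => ?_)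
            rw [map_sub, sub_eq_zero]
            exact hc d'' hd''
        · show MvPowerSeries.constantCoeff ((PowerSeries.X : PowerSeries R) ^ d 0) = 0
          rw [map_pow]
          erw [PowerSeries.constantCoeff_X]
          rw [zero_pow (by omega)]
  -- existence and uniqueness of the solution
  have hsolve : ∀ (G : MvPowerSeries (Fin 2) R), G.constantCoeff = 0 → MvPowerSeries.coeff (Finsupp.single 1 1) G = 1 →
      ∃ g : PowerSeries R, g.constantCoeff = 0 ∧ G.subst ![PowerSeries.X, g] = (0 : PowerSeries R) ∧
        ∀ k : PowerSeries R, k.constantCoeff = 0 → G.subst ![PowerSeries.X, k] = (0 : PowerSeries R) → k = g := by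
    intro G hG0 hG1
    let Φ : PowerSeries R → ℕ → R := fun g n => PowerSeries.coeff n (G.subst ![PowerSeries.X, g] : PowerSeries R)
    let gs : ℕ → PowerSeries R := fun n => Nat.rec 0 (fun m g => g - PowerSeries.monomial (m + 1) (Φ g (m + 1))) n
    have hgs : ∀ m, gs (m + 1) = gs m - PowerSeries.monomial (m + 1) (Φ (gs m) (m + 1)) := fun m => rfl
    have hgs0 : ∀ m, (gs m).constantCoeff = 0 := by
      intro m
      induction m with
      | zero => simp [gs]
      | succ m ih =>
        rw [hgs, map_sub, ih, ← PowerSeries.coeff_zero_eq_constantCoeff_apply, PowerSeries.coeff_monomial,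
          if_neg (by omega), sub_zero]
    have hstable : ∀ N M, N ≤ M → ∀ i, i ≤ N → PowerSeries.coeff i (gs M) = PowerSeries.coeff i (gs N) := by
      intro N M hNM i hi
      induction M, hNM using Nat.le_induction with
      | base => rfl
      | succ M hM ih => rw [hgs, map_sub, ih, PowerSeries.coeff_monomial, if_neg (by omega), sub_zero]
    let g : PowerSeries R := PowerSeries.mk fun i => PowerSeries.coeff i (gs i)
    have hg : ∀ N i, i ≤ N → PowerSeries.coeff i g = PowerSeries.coeff i (gs N) := fun N i hi => by
      rw [PowerSeries.coeff_mk]; exact (hstable i N hi i le_rfl).symm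
    have hg0 : g.constantCoeff = 0 := by
      rw [← PowerSeries.coeff_zero_eq_constantCoeff_apply, hg 0 0 le_rfl, PowerSeries.coeff_zero_eq_constantCoeff_apply, hgs0]
    have hs : ∀ k : PowerSeries R, k.constantCoeff = 0 → ∀ i, MvPowerSeries.constantCoeff (![PowerSeries.X, k] i) = 0 := by
      intro k hk i; fin_cases i
      · exact PowerSeries.constantCoeff_X
      · exact hk
    refine ⟨g, hg0, ?_, fun k hk0 hk => ?_⟩
    · ext N
      rw [map_zero]
      match N with
      | 0 =>
        rw [PowerSeries.coeff_zero_eq_constantCoeff_apply]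
        exact MvPowerSeries.constantCoeff_subst_eq_zero (MvPowerSeries.hasSubst_of_constantCoeff_zero (hs g hg0)) (hs g hg0) hG0
      | m + 1 =>
        have h := hcongr G hG1 g (gs m) hg0 (hgs0 m) (m + 1) (fun i hi => hg m i (by omega))
        rw [hg (m + 1) (m + 1) le_rfl, hgs, map_sub, PowerSeries.coeff_monomial_same] at h
        linear_combination h
    · ext N
      induction N using Nat.strong_induction_on with
      | _ N ih =>
        have hh : (G.subst ![PowerSeries.X, g] : PowerSeries R) = 0 := by
          ext M
          rw [map_zero]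
          match M with
          | 0 =>
            rw [PowerSeries.coeff_zero_eq_constantCoeff_apply]
            exact MvPowerSeries.constantCoeff_subst_eq_zero (MvPowerSeries.hasSubst_of_constantCoeff_zero (hs g hg0)) (hs g hg0) hG0
          | m + 1 =>
            have h := hcongr G hG1 g (gs m) hg0 (hgs0 m) (m + 1) (fun i hi => hg m i (by omega))
            rw [hg (m + 1) (m + 1) le_rfl, hgs, map_sub, PowerSeries.coeff_monomial_same] at h
            linear_combination h
        have h := hcongr G hG1 k g hk0 hg0 N ih
        rw [hk, hh, sub_self, eq_comm, sub_eq_zero] at h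
        exact h
  obtain ⟨g, hg0, hg, hguniq⟩ := hsolve F.toPowerSeries F.zero_constantCoeff F.lin_coeff_Y
  set F' : MvPowerSeries (Fin 2) R := F.toPowerSeries.subst ![MvPowerSeries.X 1, MvPowerSeries.X 0] with hF'
  have hXX : MvPowerSeries.HasSubst ![(MvPowerSeries.X 1 : MvPowerSeries (Fin 2) R), MvPowerSeries.X 0] :=
    MvPowerSeries.HasSubst.X_X
  have hX0 : ∀ i, MvPowerSeries.constantCoeff (![(MvPowerSeries.X 1 : MvPowerSeries (Fin 2) R), MvPowerSeries.X 0] i) = 0 := by
    intro i; fin_cases i <;> simp
  have hF'1 : MvPowerSeries.coeff (Finsupp.single 1 1) F' = 1 := by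
    rw [hF', MvPowerSeries.coeff_subst hXX, finsum_eq_single _ (Finsupp.single 0 1)]
    · simp [F.lin_coeff_X]
    · intro d hd
      rw [Finsupp.prod_fintype _ _ (fun _ => pow_zero _), Fin.prod_univ_two]
      simp only [Matrix.cons_val_zero, Matrix.cons_val_one, MvPowerSeries.X_pow_eq, MvPowerSeries.monomial_mul_monomial,
        one_mul, MvPowerSeries.coeff_monomial]
      rw [if_neg, smul_zero]
      intro h
      apply hd
      have a0 := congrArg (fun v : Fin 2 →₀ ℕ => v 0) h
      have a1 := congrArg (fun v : Fin 2 →₀ ℕ => v 1) h
      simp at a0 a1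
      ext i; fin_cases i
      · simpa using a1.symm
      · simpa using a0.symm
  have hswap : ∀ k : PowerSeries R, k.constantCoeff = 0 →
      (F'.subst ![PowerSeries.X, k] : PowerSeries R) = F.toPowerSeries.subst ![k, PowerSeries.X] := by
    intro k hk
    have hs : MvPowerSeries.HasSubst ![PowerSeries.X, k] := MvPowerSeries.hasSubst_of_constantCoeff_zero (by
      intro i; fin_cases i
      · exact PowerSeries.constantCoeff_X
      · exact hk)
    rw [hF', MvPowerSeries.subst_comp_subst_apply hXX hs]
    congr 1
    funext i
    fin_cases i <;> simp [MvPowerSeries.subst_X hs]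
  obtain ⟨g₂, hg₂0, hg₂, hg₂uniq⟩ := hsolve F' (MvPowerSeries.constantCoeff_subst_eq_zero hXX hX0 F.zero_constantCoeff) hF'1
  rw [hswap g₂ hg₂0] at hg₂
  have hps : ∀ k : PowerSeries R, k.constantCoeff = 0 → PowerSeries.HasSubst k := fun k hk =>
    PowerSeries.HasSubst.of_constantCoeff_zero' hk
  have heq : g₂ = g := by
    have h1 : F.toPowerSeries.subst ![g₂, (0 : PowerSeries R)] = g₂ := F.add_zero (hps g₂ hg₂0)
    have h2 : F.toPowerSeries.subst ![(0 : PowerSeries R), g] = g := F.zero_add (hps g hg0)
    have h3 := F.assoc' (σ := Unit) (hps g₂ hg₂0) (hps PowerSeries.X PowerSeries.constantCoeff_X) (hps g hg0)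
    rw [hg₂, hg, h2, h1] at h3
    exact h3.symm
  refine ⟨g, hg0, hg, heq ▸ hg₂, fun k hk h => ?_⟩
  rcases h with h | h
  · exact hguniq k hk h
  · rw [← hswap k hk] at h
    rw [← heq]
    exact hg₂uniq k hk h

end Groth.Agent.S15058
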