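import Groth.Statements.S15060
import Mathlib
import Groth.Agent.LubinTateLib.Comm
-- import your own Groth.Agent.* helpers here

set_option autoImplicit false
universe u
open LubinTate

namespace Groth.Agent.S15060

/-- Let O be a discrete valuation ring with finite residue field of cardinality q, π a uniformizer of O,
f = πT + T^q ∈ O[[T]], and F a one-dimensional formal group law over O for which f is an
endomorphism, f(F(X,Y)) = F(f(X), f(Y)). For α ∈ O write [α] for a power series with zero constant
term and linear coefficient α commuting with f (it is unique). Then for all α, β ∈ O and all such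
series [α], [β], [αβ], [α+β] one has [α]([β](T)) = [αβ](T) and F([α](T), [β](T)) = [α+β](T): the map
α ↦ [α] is a ring homomorphism from O to the endomorphisms of F with their formal-group addition and
composition. (The published statement is for the ring of integers of a finite extension of ℚ_p or of
𝔽_q((X)); completeness is not used and any discrete valuation ring with finite residue field is
allowed here.) -/
theorem result (O : Type u) [CommRing O] [IsDomain O] [IsDiscreteValuationRing O]
    [Finite (IsLocalRing.ResidueField O)] (π : O) (hπ : Irreducible π) (f : PowerSeries O)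
    (hf : f = π • PowerSeries.X + PowerSeries.X ^ Nat.card (IsLocalRing.ResidueField O))
    (F : FormalGroup O)
    (hF : PowerSeries.subst F.toPowerSeries f =
        MvPowerSeries.subst (fun i : Fin 2 => PowerSeries.subst (MvPowerSeries.X i : MvPowerSeries (Fin 2) O) f)
          F.toPowerSeries)
    (α β : O) (gα gβ gαβ gs : PowerSeries O)
    (hα0 : gα.constantCoeff = 0) (hα1 : gα.coeff 1 = α) (hαf : PowerSeries.subst gα f = PowerSeries.subst f gα)
    (hβ0 : gβ.constantCoeff = 0) (hβ1 : gβ.coeff 1 = β) (hβf : PowerSeries.subst gβ f = PowerSeries.subst f gβ)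
    (hαβ0 : gαβ.constantCoeff = 0) (hαβ1 : gαβ.coeff 1 = α * β)
    (hαβf : PowerSeries.subst gαβ f = PowerSeries.subst f gαβ)
    (hs0 : gs.constantCoeff = 0) (hs1 : gs.coeff 1 = α + β) (hsf : PowerSeries.subst gs f = PowerSeries.subst f gs) :
    PowerSeries.subst gβ gα = gαβ ∧ F.toPowerSeries.subst ![gα, gβ] = gs := by
  have hq : Nat.card (IsLocalRing.ResidueField O) ≠ 0 := Nat.card_pos.ne'
  have ha := (LubinTateLib.comm_unit_iff gα).2 hαf
  have hb := (LubinTateLib.comm_unit_iff gβ).2 hβf
  constructor
  · refine LubinTateLib.Comm.ext (σ := Unit) hπ hf ?_ hαβ0 (fun i => ?_) ?_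
      ((LubinTateLib.comm_unit_iff gαβ).2 hαβf)
    · exact MvPowerSeries.constantCoeff_subst_eq_zero
        (MvPowerSeries.hasSubst_of_constantCoeff_zero fun _ => hβ0) (fun _ => hβ0) hα0
    · rw [PowerSeries.subst, LubinTateLib.coeff_single_subst hα0 (fun _ => hβ0)]
      simp only [LubinTateLib.coeff_one_eq, hα1, hβ1, hαβ1, Finset.univ_unique, Finset.sum_singleton]
    · exact ha.subst hf hq hα0 (fun _ => hβ0) (fun _ => hb)
  · have h0 : ∀ i : Fin 2, MvPowerSeries.constantCoeff (![gα, gβ] i) = 0 := by
      intro i; fin_cases i
      · exact hα0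
      · exact hβ0
    have hc : ∀ i : Fin 2, LubinTateLib.Comm (σ := Unit) f (![gα, gβ] i) := by
      intro i; fin_cases i
      · exact ha
      · exact hb
    refine LubinTateLib.Comm.ext (σ := Unit) hπ hf ?_ hs0 (fun i => ?_) ?_ ((LubinTateLib.comm_unit_iff gs).2 hsf)
    · exact MvPowerSeries.constantCoeff_subst_eq_zero
        (MvPowerSeries.hasSubst_of_constantCoeff_zero h0) h0 F.zero_constantCoeff
    · rw [LubinTateLib.coeff_single_subst F.zero_constantCoeff h0]
      simp only [Fin.sum_univ_two, F.lin_coeff_X, F.lin_coeff_Y, one_mul, Matrix.cons_val_zero, Matrix.cons_val_one,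
        LubinTateLib.coeff_one_eq, hα1, hβ1, hs1]
    · exact LubinTateLib.Comm.subst hf hq F.zero_constantCoeff hF h0 hc

end Groth.Agent.S15060
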