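import Groth.Statements.S15063
import Groth.Agent.HopfConnLib.Basic
import Groth.Agent.DynLib.Basic
-- import your own Groth.Agent.* helpers here

set_option autoImplicit false
universe u
open Hopf
open scoped TensorProduct

namespace Groth.Agent.S15063

/-- Let R be a henselian Noetherian local ring and A a commutative Hopf algebra over R which is finite
and flat as an R-module (a finite flat R-group G = Spec A, not assumed commutative); let e ∈ A be an
idempotent with ε(e) = 1 such that A/(1 − e) is a local ring, so that Spec A/(1 − e) is the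
connected component G⁰ of G containing the unit section. Then G⁰ is normal in G: for every
commutative R-algebra T, every T-valued point g of G and every T-valued point h of G killing the
ideal (1 − e), the conjugate g·h·g⁻¹ again kills (1 − e). (The published statement is for a flat
affine algebraic R-group and also asserts that G⁰ is an open and closed flat subgroup; this row
states the normality clause for finite flat G.) -/
theorem result (R : Type u) [CommRing R] [HenselianLocalRing R] [IsNoetherianRing R]
    (A : Type u) [CommRing A] [HopfAlgebra R A] [Module.Finite R A] [Module.Flat R A]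
    (e : A) (he : IsIdempotentElem e) (hε : Bialgebra.counitAlgHom R A e = 1)
    [IsLocalRing (A ⧸ Ideal.span ({1 - e} : Set A))] :
    SGA3.IsNormalHopfIdeal R A (Ideal.span ({1 - e} : Set A)) := by
  intro T _ _ g₀ h₀ hh₀ a ha
  letI : Group (WithConv (A →ₐ[R] T)) := Groth.Agent.DynLib.pointsGroup
  let E : Ideal A := Ideal.span {1 - e}
  let B := A ⧸ E
  haveI : Module.Finite R B :=
    Module.Finite.of_surjective (Ideal.Quotient.mkₐ R E).toLinearMap Ideal.Quotient.mk_surjective
  have hEε : ∀ a ∈ E, Bialgebra.counitAlgHom R A a = 0 := fun a ha => by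
    obtain ⟨c, rfl⟩ := Ideal.mem_span_singleton'.1 ha
    rw [map_mul, map_sub, map_one, hε, sub_self, mul_zero]
  let εE : B →ₐ[R] R := Ideal.Quotient.liftₐ E (Bialgebra.counitAlgHom R A) hEε
  let g : A →ₐ[R] A ⊗[R] B := Algebra.TensorProduct.includeLeft
  let h : A →ₐ[R] A ⊗[R] B := Algebra.TensorProduct.includeRight.comp (Ideal.Quotient.mkₐ R E)
  let x : A ⊗[R] B := Dyn.conv3 R A g h (g.comp (HopfAlgebra.antipodeAlgHom R A)) e
  have hnat : ∀ (C : Type u) [CommRing C] [Algebra R C] (φ : A ⊗[R] B →ₐ[R] C),
      φ x = Dyn.conv3 R A (φ.comp g) (φ.comp h) ((φ.comp g).comp (HopfAlgebra.antipodeAlgHom R A)) e := by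
    intro C _ _ φ
    simp only [x, Groth.Agent.DynLib.conv3_eq]
    exact congrArg (fun F : WithConv (A →ₐ[R] C) => F e) (((Groth.Agent.DynLib.push φ).map_mul _ _).trans
      (congrArg₂ (· * ·) ((Groth.Agent.DynLib.push φ).map_mul _ _) rfl))
  have hx1 : x = 1 := by
    refine HopfConnLib.eq_one_of_counit A B εE (he.map _) ?_
    rw [hnat, Groth.Agent.DynLib.conv3_eq]
    let θ := Algebra.TensorProduct.lift (AlgHom.id R A) ((Algebra.ofId R A).comp εE) (fun _ _ => Commute.all _ _)
    letI : Group (WithConv (A →ₐ[R] A)) := Groth.Agent.DynLib.pointsGroup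
    have hh : WithConv.toConv (θ.comp h) = 1 := WithConv.ext (AlgHom.ext fun a => by
      change θ ((1 : A) ⊗ₜ[R] Ideal.Quotient.mk E a) = algebraMap R A (Bialgebra.counitAlgHom R A a)
      rw [Algebra.TensorProduct.lift_tmul, map_one, one_mul]
      rfl)
    rw [hh, mul_one]
    have hmul := mul_inv_cancel (WithConv.toConv (θ.comp g))
    rw [Groth.Agent.DynLib.inv_def] at hmul
    refine (congrArg (fun F : WithConv (A →ₐ[R] A) => F.ofConv e) hmul).trans ?_
    change algebraMap R A (Bialgebra.counitAlgHom R A e) = 1
    rw [hε, map_one]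
  let h₁ : B →ₐ[R] T := Ideal.Quotient.liftₐ E h₀ hh₀
  let φ : A ⊗[R] B →ₐ[R] T := Algebra.TensorProduct.lift g₀ h₁ (fun _ _ => Commute.all _ _)
  have hg : φ.comp g = g₀ := AlgHom.ext fun a => by simp [φ, g]
  have hh : φ.comp h = h₀ := AlgHom.ext fun a => by
    change φ ((1 : A) ⊗ₜ[R] Ideal.Quotient.mk E a) = _
    rw [Algebra.TensorProduct.lift_tmul, map_one, one_mul]
    rfl
  have hkey := hnat T φ
  rw [hx1, map_one, hg, hh] at hkey
  obtain ⟨c, rfl⟩ := Ideal.mem_span_singleton'.1 ha
  rw [map_mul, map_sub, map_one, ← hkey, sub_self, mul_zero]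

end Groth.Agent.S15063
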