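import Groth.Statements.S15061
import Groth.Agent.GrpQuotLib.Normal
import Groth.Agent.HopfConnLib.Basic
import Groth.Agent.S13404
import Groth.Agent.S15063
import Mathlib.RingTheory.Unramified.Finite
import Mathlib.RingTheory.Smooth.Fiber
-- import your own Groth.Agent.* helpers here

set_option autoImplicit false
set_option maxHeartbeats 400000
universe u
open scoped TensorProduct
open Hopf
open Algebra.TensorProduct (includeLeft includeRight)

namespace Groth.Agent.S15061

theorem idem_mem (R : Type u) [CommRing R] [IsLocalRing R] (A : Type u) [CommRing A] [HopfAlgebra R A]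
    [Module.Finite R A] (e : A) (he : IsIdempotentElem e) (hε : Bialgebra.counitAlgHom R A e = 1)
    [IsLocalRing (A ⧸ Ideal.span ({1 - e} : Set A))] :
    e ∈ GrpQuotLib.invB R (Ideal.span ({1 - e} : Set A)) := by
  let I : Ideal A := Ideal.span {1 - e}
  let ε := Bialgebra.counitAlgHom R A
  haveI : Module.Finite R (A ⧸ I) :=
    Module.Finite.of_surjective (Ideal.Quotient.mkₐ R I).toLinearMap Ideal.Quotient.mk_surjective
  have hεI : ∀ a ∈ I, ε a = 0 := fun a ha => by
    obtain ⟨c, rfl⟩ := Ideal.mem_span_singleton'.1 ha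
    rw [map_mul, map_sub, map_one, hε, sub_self, mul_zero]
  let εI : A ⧸ I →ₐ[R] R := Ideal.Quotient.liftₐ I ε hεI
  let θ := Algebra.TensorProduct.lift (AlgHom.id R A) ((Algebra.ofId R A).comp εI) (fun _ _ => Commute.all _ _)
  let y := GrpQuotLib.δ R I e
  let f : A ⊗[R] (A ⧸ I) := e ⊗ₜ[R] 1
  have hy : IsIdempotentElem y := he.map _
  have hf : IsIdempotentElem f :=
    he.map (includeLeft : A →ₐ[R] A ⊗[R] (A ⧸ I))
  have hθy : θ y = e := by
    change θ (Algebra.TensorProduct.map (AlgHom.id R A) (Ideal.Quotient.mkₐ R I) (Coalgebra.comul (R := R) e)) = e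
    have key : ∀ z : A ⊗[R] A, θ (Algebra.TensorProduct.map (AlgHom.id R A) (Ideal.Quotient.mkₐ R I) z) =
        TensorProduct.rid R A (LinearMap.lTensor A (Coalgebra.counit (R := R) (A := A)) z) := by
      intro z
      induction z using TensorProduct.induction_on with
      | zero => simp
      | tmul p q =>
        rw [Algebra.TensorProduct.map_tmul, Algebra.TensorProduct.lift_tmul, LinearMap.lTensor_tmul,
          TensorProduct.rid_tmul, Algebra.smul_def, mul_comm]
        rfl
      | add p q hp hq => simp only [map_add, hp, hq]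
    rw [key, Coalgebra.lTensor_counit_comul, TensorProduct.rid_tmul, one_smul]
  have hθf : θ f = e := by rw [Algebra.TensorProduct.lift_tmul, map_one, mul_one]; rfl
  have hz : IsIdempotentElem (y * f + (1 - y) * (1 - f)) := by
    unfold IsIdempotentElem
    linear_combination (4 * f * f - 4 * f + 1) * hy.eq + (1 : A ⊗[R] (A ⧸ I)) * hf.eq
  have h1 := HopfConnLib.eq_one_of_counit A (A ⧸ I) εI hz (by
    change θ _ = 1
    rw [map_add, map_mul, map_mul, map_sub, map_sub, map_one, hθy, hθf]
    linear_combination 2 * he.eq)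
  change y = f
  linear_combination (f - y) * h1 + (2 * f - 1) * hy.eq + (1 - 2 * y) * hf.eq

theorem augIdealSpan_eq (R : Type u) [CommRing R] (A : Type u) [CommRing A] [HopfAlgebra R A]
    (e : A) (he : e ∈ GrpQuotLib.invB R (Ideal.span ({1 - e} : Set A)))
    (hε : Bialgebra.counitAlgHom R A e = 1) [(Ideal.span ({1 - e} : Set A)).IsHopfIdeal R] :
    SGA3.augIdealSpan R A (GrpQuotLib.invB R (Ideal.span ({1 - e} : Set A))) = Ideal.span {1 - e} := by
  let I : Ideal A := Ideal.span {1 - e}
  refine le_antisymm (Ideal.span_le.2 fun x ⟨hx, hx0⟩ => ?_) (Ideal.span_le.2 ?_)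
  · have h := GrpQuotLib.point_apply hx (T := A ⧸ I) 1 (AlgHom.id R (A ⧸ I))
    rw [one_mul, AlgHom.id_comp] at h
    rw [SetLike.mem_coe, ← Ideal.Quotient.eq_zero_iff_mem]
    refine h.trans ?_
    change algebraMap R (A ⧸ I) (CoalgebraStruct.counit x) = 0
    rw [hx0, map_zero]
  · rintro _ rfl
    refine Ideal.subset_span ⟨sub_mem (one_mem _) he, ?_⟩
    change Bialgebra.counitAlgHom R A (1 - e) = 0
    rw [map_sub, map_one, hε, sub_self]

theorem mul_idem_eq {R : Type u} [CommRing R] {A : Type u} [CommRing A] [HopfAlgebra R A] {e : A}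
    (he : IsIdempotentElem e) [(Ideal.span ({1 - e} : Set A)).IsHopfIdeal R] {b : A}
    (hb : b ∈ GrpQuotLib.invB R (Ideal.span ({1 - e} : Set A))) :
    b * e = algebraMap R A (Bialgebra.counitAlgHom R A b) * e := by
  let I : Ideal A := Ideal.span {1 - e}
  have h := GrpQuotLib.point_apply hb (T := A ⧸ I) 1 (AlgHom.id R (A ⧸ I))
  rw [one_mul, AlgHom.id_comp] at h
  have h1 : Ideal.Quotient.mk I b = Ideal.Quotient.mk I (algebraMap R A (Bialgebra.counitAlgHom R A b)) :=
    h.trans rfl
  obtain ⟨c, hc⟩ := Ideal.mem_span_singleton'.1 (Ideal.Quotient.eq.1 h1)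
  linear_combination (-e) * hc - c * he.eq

theorem etale_invB (R : Type u) [CommRing R] [IsNoetherianRing R] (A : Type u) [CommRing A] [HopfAlgebra R A]
    [Module.Finite R A] [Module.Projective R A] (e : A) (he : IsIdempotentElem e)
    (hε : Bialgebra.counitAlgHom R A e = 1) (hmem : e ∈ GrpQuotLib.invB R (Ideal.span ({1 - e} : Set A)))
    [(Ideal.span ({1 - e} : Set A)).IsHopfIdeal R] [Module.Projective R (A ⧸ Ideal.span ({1 - e} : Set A))]
    (hH : SGA3.IsHopfSubalgebra R A (GrpQuotLib.invB R (Ideal.span ({1 - e} : Set A)))) :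
    Algebra.Etale R ↥(GrpQuotLib.invB R (Ideal.span ({1 - e} : Set A))) := by
  let I : Ideal A := Ideal.span {1 - e}
  let B := GrpQuotLib.invB R I
  haveI := GrpQuotLib.faithfullyFlat_invB R I
  haveI := GrpQuotLib.finite_invB R I
  haveI := GrpQuotLib.projective_invB_A R I
  haveI := GrpQuotLib.finite_invB_self R I
  haveI := GrpQuotLib.projective_invB_self R I
  let Φ := Algebra.TensorProduct.map B.val B.val
  have hΦ : Function.Injective Φ := by
    change Function.Injective (TensorProduct.map B.val.toLinearMap B.val.toLinearMap)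
    rw [← LinearMap.lTensor_comp_rTensor, LinearMap.coe_comp]
    exact (Module.Flat.lTensor_preserves_injective_linearMap (M := A) _ Subtype.val_injective).comp
      (Module.Flat.rTensor_preserves_injective_linearMap (M := B) _ Subtype.val_injective)
  let Δ := Bialgebra.comulAlgHom R A
  let ε := Bialgebra.counitAlgHom R A
  let S := HopfAlgebra.antipodeAlgHom R A
  let g : A →ₐ[R] A ⊗[R] A := (Algebra.TensorProduct.map S (AlgHom.id R A)).comp Δ
  let Ψ : A ⊗[R] A →ₐ[R] A ⊗[R] A :=
    Algebra.TensorProduct.lift includeLeft g (fun _ _ => Commute.all _ _)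
  have hΨΔ : ∀ s, Ψ (Δ s) = (1 : A) ⊗ₜ[R] s := fun s => by
    have hpt : Ψ.comp Δ = includeRight := by
      let a : WithConv (A →ₐ[R] A ⊗[R] A) := WithConv.toConv includeLeft
      let b : WithConv (A →ₐ[R] A ⊗[R] A) := WithConv.toConv includeRight
      have hg : WithConv.toConv g = a⁻¹ * b := WithConv.ext (AlgHom.ext fun x => by
        change g x = (a⁻¹ * b) x
        rw [AlgHom.convMul_apply]
        change Algebra.TensorProduct.map S (AlgHom.id R A) (Coalgebra.comul (R := R) x) = _
        induction (Coalgebra.comul (R := R) x : A ⊗[R] A) using TensorProduct.induction_on with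
        | zero => simp
        | tmul p q =>
          rw [Algebra.TensorProduct.lift_tmul, Algebra.TensorProduct.map_tmul]
          change S p ⊗ₜ[R] q = (S p ⊗ₜ[R] (1 : A)) * ((1 : A) ⊗ₜ[R] q)
          rw [Algebra.TensorProduct.tmul_mul_tmul, mul_one, one_mul]
        | add p q hp hq => simp only [map_add, hp, hq])
      have h2 : Ψ.comp Δ = (a * WithConv.toConv g).ofConv := AlgHom.ext fun x => by
        change Ψ (Coalgebra.comul (R := R) x) = (a * WithConv.toConv g) x
        rw [AlgHom.convMul_apply]
      rw [h2, hg]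
      exact congrArg (fun F : WithConv (A →ₐ[R] A ⊗[R] A) => F.ofConv) (mul_inv_cancel_left a b)
    exact AlgHom.congr_fun hpt s
  have hg : ∀ b ∈ B, g b * g e = algebraMap R (A ⊗[R] A) (ε b) * g e := fun b hb => by
    rw [← map_mul, mul_idem_eq he hb, map_mul, AlgHom.commutes]
  obtain ⟨z, hz⟩ := hH.1 e hmem
  have hmapS : ∀ w : B ⊗[R] B, ∃ w', Φ w' = Algebra.TensorProduct.map S (AlgHom.id R A) (Φ w) := by
    intro w
    induction w using TensorProduct.induction_on with
    | zero => exact ⟨0, by simp⟩
    | tmul p q => exact ⟨⟨S p, hH.2 p p.2⟩ ⊗ₜ q, rfl⟩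
    | add p q hp hq =>
      obtain ⟨p', hp'⟩ := hp
      obtain ⟨q', hq'⟩ := hq
      exact ⟨p' + q', by simp only [map_add, hp', hq']⟩
  obtain ⟨t, ht⟩ := hmapS z
  have htg : Φ t = g e := ht.trans (congrArg (Algebra.TensorProduct.map S (AlgHom.id R A)) hz)
  haveI : Algebra.FormallyUnramified R B := by
    rw [Algebra.FormallyUnramified.iff_exists_tensorProduct]
    refine ⟨t, fun s => hΦ ?_, ?_⟩
    · obtain ⟨w, hw⟩ := hH.1 s s.2
      have hx : ∀ w : B ⊗[R] B, Ψ (Φ w) * g e =
          ((TensorProduct.rid R A (LinearMap.lTensor A (Coalgebra.counit (R := R) (A := A)) (Φ w)))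
            ⊗ₜ[R] (1 : A)) * g e := by
        intro w
        induction w using TensorProduct.induction_on with
        | zero => simp
        | tmul p q =>
          rw [show Φ (p ⊗ₜ q) = (p : A) ⊗ₜ[R] (q : A) from rfl, LinearMap.lTensor_tmul, TensorProduct.rid_tmul,
            show Ψ ((p : A) ⊗ₜ[R] (q : A)) = ((p : A) ⊗ₜ[R] (1 : A)) * g q from
              Algebra.TensorProduct.lift_tmul _ _ _ _ _,
            mul_assoc, hg q q.2, ← mul_assoc, Algebra.smul_def]
          congr 1
          rw [Algebra.TensorProduct.algebraMap_apply, Algebra.TensorProduct.tmul_mul_tmul, mul_one, mul_comm]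
          rfl
        | add p q hp hq => simp only [map_add, TensorProduct.add_tmul, add_mul, hp, hq]
      have h := hx w
      rw [show Φ w = Δ s from hw, hΨΔ, Bialgebra.comulAlgHom_apply, Coalgebra.lTensor_counit_comul,
        TensorProduct.rid_tmul, one_smul] at h
      rw [map_mul, map_sub, htg, map_zero, sub_mul, sub_eq_zero]
      exact h
    · apply Subtype.val_injective
      have key : ∀ w : B ⊗[R] B,
          ((Algebra.TensorProduct.lmul' R w : B) : A) = Algebra.TensorProduct.lmul' R (Φ w) := by
        intro w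
        induction w using TensorProduct.induction_on with
        | zero => simp
        | tmul p q => simp [Φ]
        | add p q hp hq => simp only [map_add, Subalgebra.coe_add, hp, hq]
      rw [key, htg]
      refine (HopfAlgebra.mul_antipode_rTensor_comul_apply (R := R) e).trans ?_
      change algebraMap R A (Bialgebra.counitAlgHom R A e) = 1
      rw [hε, map_one]
  haveI : Algebra.FinitePresentation R B := Algebra.FinitePresentation.of_finiteType.1 inferInstance
  exact Algebra.Etale.of_formallyUnramified_of_flat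

theorem result (R : Type u) [CommRing R] [HenselianLocalRing R] [IsNoetherianRing R]
    (A : Type u) [CommRing A] [HopfAlgebra R A] [Module.Finite R A] [Module.Flat R A]
    (e : A) (he : IsIdempotentElem e) (hε : Bialgebra.counitAlgHom R A e = 1)
    [IsLocalRing (A ⧸ Ideal.span ({1 - e} : Set A))] :
    SGA3.IsHopfSubalgebra R A
        (AlgHom.equalizer
          ((Algebra.TensorProduct.map (AlgHom.id R A) (Ideal.Quotient.mkₐ R (Ideal.span ({1 - e} : Set A)))).comp
            (Bialgebra.comulAlgHom R A))
          (Algebra.TensorProduct.includeLeft : A →ₐ[R] A ⊗[R] (A ⧸ Ideal.span ({1 - e} : Set A)))) ∧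
      Algebra.Etale R ↥(AlgHom.equalizer
          ((Algebra.TensorProduct.map (AlgHom.id R A) (Ideal.Quotient.mkₐ R (Ideal.span ({1 - e} : Set A)))).comp
            (Bialgebra.comulAlgHom R A))
          (Algebra.TensorProduct.includeLeft : A →ₐ[R] A ⊗[R] (A ⧸ Ideal.span ({1 - e} : Set A)))) ∧
      Module.FaithfullyFlat ↥(AlgHom.equalizer
          ((Algebra.TensorProduct.map (AlgHom.id R A) (Ideal.Quotient.mkₐ R (Ideal.span ({1 - e} : Set A)))).comp
            (Bialgebra.comulAlgHom R A))
          (Algebra.TensorProduct.includeLeft : A →ₐ[R] A ⊗[R] (A ⧸ Ideal.span ({1 - e} : Set A)))) A ∧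
      SGA3.augIdealSpan R A
        (AlgHom.equalizer
          ((Algebra.TensorProduct.map (AlgHom.id R A) (Ideal.Quotient.mkₐ R (Ideal.span ({1 - e} : Set A)))).comp
            (Bialgebra.comulAlgHom R A))
          (Algebra.TensorProduct.includeLeft : A →ₐ[R] A ⊗[R] (A ⧸ Ideal.span ({1 - e} : Set A)))) =
        Ideal.span ({1 - e} : Set A) := by
  obtain ⟨hI, -, -, hflat⟩ := Groth.Agent.S13404.result R A e he hε
  haveI := hI
  haveI := hflat
  haveI : Module.Finite R (A ⧸ Ideal.span ({1 - e} : Set A)) :=
    Module.Finite.of_surjective (Ideal.Quotient.mkₐ R (Ideal.span ({1 - e} : Set A))).toLinearMap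
      Ideal.Quotient.mk_surjective
  haveI : Module.Free R (A ⧸ Ideal.span ({1 - e} : Set A)) := Module.free_of_flat_of_isLocalRing
  haveI : Module.Free R A := Module.free_of_flat_of_isLocalRing
  have hH := GrpQuotLib.isHopfSubalgebra_invB (Groth.Agent.S15063.result R A e he hε)
  have hmem := idem_mem R A e he hε
  exact ⟨hH, etale_invB R A e he hε hmem hH, GrpQuotLib.faithfullyFlat_invB R _,
    augIdealSpan_eq R A e hmem hε⟩

end Groth.Agent.S15061
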