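import Groth.Statements.S15062
import Groth.Agent.HopfConnLib.Basic
-- import your own Groth.Agent.* helpers here

set_option autoImplicit false
universe u
open scoped TensorProduct
open Hopf

namespace Groth.Agent.S15062

/-- Let R be a henselian Noetherian local ring and A a commutative Hopf algebra over R which is finite
and flat as an R-module (a finite flat R-group G = Spec A, not assumed commutative); let e ∈ A be an
idempotent with ε(e) = 1 such that A/(1 − e) is a local ring, so that G⁰ = Spec A/(1 − e) is the
connected component of the unit section, and let B ⊆ A be the subalgebra of functions invariant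
under right translation by G⁰: the equaliser of a ↦ (id ⊗ π)(Δ a) and a ↦ a ⊗ 1 into A ⊗_R A/(1 − e)
(so Spec B = G^ét). Then: (2) for every commutative Hopf algebra C over R which is finite étale over
R (a finite étale R-group H) and every bialgebra homomorphism φ : C → A (a homomorphism G → H), the
image of φ lies in B — the homomorphism factors (necessarily uniquely, A being faithfully flat over
B) through G → G^ét; (3) for every commutative Hopf algebra D over R which is finite and flat over R
and a local ring (a connected finite flat R-group H) and every bialgebra homomorphism ψ : A → D (a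
homomorphism H → G), ψ(e) = 1, i.e. ψ kills the ideal (1 − e) and the homomorphism factors
(uniquely) through G⁰ → G. -/
theorem result (R : Type u) [CommRing R] [HenselianLocalRing R] [IsNoetherianRing R]
    (A : Type u) [CommRing A] [HopfAlgebra R A] [Module.Finite R A] [Module.Flat R A]
    (e : A) (he : IsIdempotentElem e) (hε : Bialgebra.counitAlgHom R A e = 1)
    [IsLocalRing (A ⧸ Ideal.span ({1 - e} : Set A))] :
    (∀ (C : Type u) [CommRing C] [HopfAlgebra R C] [Module.Finite R C] [Algebra.Etale R C] (φ : C →ₐc[R] A) (c : C),
        φ c ∈ (AlgHom.equalizer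
          ((Algebra.TensorProduct.map (AlgHom.id R A) (Ideal.Quotient.mkₐ R (Ideal.span ({1 - e} : Set A)))).comp
            (Bialgebra.comulAlgHom R A))
          (Algebra.TensorProduct.includeLeft : A →ₐ[R] A ⊗[R] (A ⧸ Ideal.span ({1 - e} : Set A))))) ∧
      ∀ (D : Type u) [CommRing D] [HopfAlgebra R D] [Module.Finite R D] [Module.Flat R D] [IsLocalRing D]
        (ψ : A →ₐc[R] D), ψ e = 1 := by
  let E : Ideal A := Ideal.span {1 - e}
  let π := Ideal.Quotient.mkₐ R E
  have hEε : ∀ a ∈ E, Bialgebra.counitAlgHom R A a = 0 := fun a ha => by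
    obtain ⟨c, rfl⟩ := Ideal.mem_span_singleton'.1 ha
    rw [map_mul, map_sub, map_one, hε, sub_self, mul_zero]
  let εE : A ⧸ E →ₐ[R] R := Ideal.Quotient.liftₐ E (Bialgebra.counitAlgHom R A) hEε
  refine ⟨?_, ?_⟩
  · intro C _ _ _ _ φ c
    haveI : IsNoetherianRing C := IsNoetherianRing.of_finite R C
    let φ' : C →ₐ[R] A := φ
    have hconst : ∀ c, π (φ' c) = algebraMap R (A ⧸ E) (Bialgebra.counitAlgHom R C c) := fun c =>
      HopfConnLib.eq_algebraMap_of_unramified C (A ⧸ E) (Bialgebra.counitAlgHom R C) εE (π.comp φ')
        (AlgHom.ext fun x => (CoalgHomClass.counit_comp_apply φ x : _)) c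
    rw [AlgHom.mem_equalizer]
    change Algebra.TensorProduct.map (AlgHom.id R A) π (Coalgebra.comul (φ c)) = φ c ⊗ₜ[R] 1
    rw [← CoalgHomClass.map_comp_comul_apply φ c]
    have key : ∀ z : C ⊗[R] C, Algebra.TensorProduct.map (AlgHom.id R A) π
        (TensorProduct.map (φ : C →ₗ[R] A) (φ : C →ₗ[R] A) z) =
        φ' (TensorProduct.rid R C (LinearMap.lTensor C (Coalgebra.counit (R := R) (A := C)) z)) ⊗ₜ[R] 1 := by
      intro z
      induction z using TensorProduct.induction_on with
      | zero => simp
      | tmul x y =>
        rw [TensorProduct.map_tmul, Algebra.TensorProduct.map_tmul, LinearMap.lTensor_tmul, TensorProduct.rid_tmul,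
          map_smul, AlgHom.id_apply]
        change φ' x ⊗ₜ[R] π (φ' y) = _
        rw [hconst, Algebra.algebraMap_eq_smul_one, TensorProduct.tmul_smul, TensorProduct.smul_tmul']
        rfl
      | add x y hx hy => simp only [map_add, TensorProduct.add_tmul, hx, hy]
    rw [key, Coalgebra.lTensor_counit_comul, TensorProduct.rid_tmul, one_smul]
    rfl
  · intro D _ _ _ _ _ ψ
    let ψ' : A →ₐ[R] D := ψ
    change ψ' e = 1
    have hεψ : Bialgebra.counitAlgHom R D (ψ' e) = 1 := (CoalgHomClass.counit_comp_apply ψ e).trans hε
    rcases IsLocalRing.isUnit_or_isUnit_one_sub_self (ψ' e) with h | h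
    · refine h.mul_left_cancel ?_
      rw [(he.map ψ').eq, mul_one]
    · have h1 := h.map (Bialgebra.counitAlgHom R D)
      rw [map_sub, map_one, hεψ, sub_self] at h1
      exact absurd h1 not_isUnit_zero

end Groth.Agent.S15062
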