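import Groth.Statements.S15064
import Mathlib.RingTheory.Coalgebra.Convolution
import Mathlib.RingTheory.Artinian.Module
import Mathlib.RingTheory.HopkinsLevitzki
import Mathlib.RingTheory.Nakayama
import Mathlib.RingTheory.KrullDimension.Zero
import Mathlib.LinearAlgebra.Dual.Lemmas
import Mathlib.RingTheory.TensorProduct.Finite
import Mathlib.RingTheory.TensorProduct.Nontrivial
import Mathlib.Algebra.CharP.Algebra
import Mathlib.LinearAlgebra.TensorProduct.Basis
-- import your own Groth.Agent.* helpers here

set_option autoImplicit false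
universe u
open scoped TensorProduct
open Hopf

namespace Groth.Agent.S15064

open scoped TensorProduct

/-- A bi-infinitesimal Hopf algebra of dimension `> 1` has a nonzero primitive element. -/
theorem exists_primitive (k : Type u) [Field k] (A : Type u) [CommRing A] [HopfAlgebra k A]
    [Coalgebra.IsCocomm k A] [FiniteDimensional k A] (hdual : IsLocalRing (WithConv (A →ₗ[k] k)))
    (hA : 1 < Module.finrank k A) :
    ∃ x : A, x ≠ 0 ∧ Coalgebra.counit (R := k) x = 0 ∧
      Coalgebra.comul x = x ⊗ₜ[k] (1 : A) + (1 : A) ⊗ₜ[k] x := by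
  classical
  haveI := hdual
  haveI : Module.Finite k (WithConv (A →ₗ[k] k)) := Module.Finite.equiv (WithConv.linearEquiv k (A →ₗ[k] k)).symm
  haveI : IsArtinianRing (WithConv (A →ₗ[k] k)) := IsArtinianRing.of_finite k _
  let D := WithConv (A →ₗ[k] k)
  let ev : D →ₐ[k] k :=
    { toFun := fun f => f.ofConv 1
      map_one' := by change algebraMap k k (Coalgebra.counit (R := k) (1 : A)) = 1; simp
      map_mul' := fun f g => by
        change LinearMap.mul' k k (TensorProduct.map f.ofConv g.ofConv (Coalgebra.comul (R := k) (1 : A))) = _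
        rw [Bialgebra.comul_one, Algebra.TensorProduct.one_def, TensorProduct.map_tmul, LinearMap.mul'_apply]
      map_zero' := rfl
      map_add' := fun _ _ => rfl
      commutes' := fun c => by
        change c • algebraMap k k (Coalgebra.counit (R := k) (1 : A)) = algebraMap k k c
        simp }
  let M : Ideal D := RingHom.ker ev
  have hM : M ≠ ⊥ := fun h => by
    have hinj : Function.Injective ev.toLinearMap :=
      (injective_iff_map_eq_zero ev.toLinearMap).2 fun f hf => (Submodule.eq_bot_iff _).1 h f hf
    have h1 := LinearMap.finrank_le_finrank_of_injective hinj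
    rw [(WithConv.linearEquiv k (A →ₗ[k] k)).finrank_eq, Subspace.dual_finrank_eq, Module.finrank_self] at h1
    omega
  have hM2 : ¬ M ≤ M * M := fun h => hM (Submodule.eq_bot_of_le_smul_of_le_jacobson_bot M M
    (IsNoetherian.noetherian _) h ((IsLocalRing.le_maximalIdeal (RingHom.ker_ne_top ev)).trans
      (IsLocalRing.jacobson_eq_maximalIdeal ⊥ bot_ne_top).ge))
  obtain ⟨f₀, hf₀, hf₀2⟩ := SetLike.not_le_iff_exists.1 hM2
  let N : Submodule k D := Submodule.span k {1} ⊔ (M * M).restrictScalars k
  have hf₀N : f₀ ∉ N := fun h => by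
    obtain ⟨a, ha, b, hb, hab⟩ := Submodule.mem_sup.1 h
    obtain ⟨c, rfl⟩ := Submodule.mem_span_singleton.1 ha
    have hb0 : ev b = 0 := RingHom.mem_ker.1 (Ideal.mul_le_right (I := M) hb)
    have h0 : ev f₀ = 0 := hf₀
    rw [← hab, map_add, map_smul, map_one, hb0, add_zero, smul_eq_mul, mul_one] at h0
    exact hf₀2 (by rw [← hab, h0, zero_smul, zero_add]; exact hb)
  obtain ⟨φ, hφ0, hφN⟩ := Submodule.exists_dual_map_eq_bot_of_notMem hf₀N inferInstance
  obtain ⟨x, hx⟩ := (Module.evalEquiv k A).surjective
    (φ.comp (WithConv.linearEquiv k (A →ₗ[k] k)).symm.toLinearMap)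
  have hev : ∀ ξ : A →ₗ[k] k, φ (WithConv.toConv ξ) = ξ x := fun ξ => (LinearMap.congr_fun hx ξ).symm
  have hN : ∀ f ∈ N, φ f = 0 := fun f hf => (Submodule.mem_bot k).1 (hφN ▸ Submodule.mem_map_of_mem hf)
  refine ⟨x, fun h => hφ0 ?_, ?_, ?_⟩
  · have := hev f₀.ofConv
    rw [h, map_zero] at this
    exact this
  · have := hev (1 : D).ofConv
    rw [show WithConv.toConv (1 : D).ofConv = (1 : D) from rfl,
      hN 1 (Submodule.mem_sup_left (Submodule.mem_span_singleton_self _))] at this
    simpa using this.symm
  · let b := Module.finBasis k A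
    refine (b.tensorProduct b).ext_elem fun ⟨i, j⟩ => ?_
    have hrep : ∀ t : A ⊗[k] A, (b.tensorProduct b).repr t (i, j) =
        LinearMap.mul' k k (TensorProduct.map (b.coord i) (b.coord j) t) := by
      intro t
      induction t using TensorProduct.induction_on with
      | zero => simp
      | tmul x y => simp [Module.Basis.tensorProduct_repr_tmul_apply, mul_comm]
      | add x y hx hy => simp only [map_add, Finsupp.add_apply, hx, hy]
    rw [hrep, hrep, map_add, TensorProduct.map_tmul, TensorProduct.map_tmul, map_add, LinearMap.mul'_apply,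
      LinearMap.mul'_apply, ← hev (b.coord i), ← hev (b.coord j)]
    set F : D := WithConv.toConv (b.coord i)
    set G : D := WithConv.toConv (b.coord j)
    have hmm : ∀ E : D, E - algebraMap k D (ev E) ∈ M := fun E => by
      rw [RingHom.mem_ker, map_sub, AlgHom.commutes]; exact sub_self _
    have hFG : φ (F * G) = φ F * ev G + ev F * φ G := by
      have h := hN _ (Submodule.mem_sup_right (Ideal.mul_mem_mul (hmm F) (hmm G)) :
        (F - algebraMap k D (ev F)) * (G - algebraMap k D (ev G)) ∈ N)
      rw [sub_mul, mul_sub, mul_sub, ← Algebra.commutes, ← Algebra.smul_def, ← Algebra.smul_def,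
        ← map_mul, Algebra.algebraMap_eq_smul_one (ev F * ev G), map_sub, map_sub, map_sub, map_smul,
        map_smul, map_smul, hN 1 (Submodule.mem_sup_left (Submodule.mem_span_singleton_self _)),
        smul_zero, sub_zero, smul_eq_mul, smul_eq_mul] at h
      linear_combination h
    exact ((hev (F * G).ofConv).symm).trans hFG

/-- Let k be a field of characteristic p > 0 and A a finite-dimensional commutative and cocommutative
Hopf algebra over k (a finite commutative k-group G = Spec A) which is bi-infinitesimal — A is a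
local ring and so is the dual algebra Hom_k(A, k) with the convolution product (G and its Cartier
dual are connected) — with dim_k A > 1, and assume G is simple: every Hopf ideal of A is either zero
or the augmentation ideal (G has no closed subgroup schemes other than G and 1). Then G is
isomorphic to α_p: A has a primitive element x (Δ(x) = x ⊗ 1 + 1 ⊗ x) with x^p = 0 whose powers 1,
x, …, x^(p−1) are linearly independent over k, and dim_k A = p (so A = k[x]/(x^p) with x primitive). -/
theorem result (k : Type u) [Field k] (p : ℕ) [Fact p.Prime] [CharP k p]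
    (A : Type u) [CommRing A] [HopfAlgebra k A] [Coalgebra.IsCocomm k A] [FiniteDimensional k A] [IsLocalRing A]
    (hdual : IsLocalRing (WithConv (A →ₗ[k] k))) (hA : 1 < Module.finrank k A)
    (hsimple : ∀ I : Ideal A, I.IsHopfIdeal k → I = ⊥ ∨ I = RingHom.ker (Bialgebra.counitAlgHom k A)) :
    ∃ x : A, Coalgebra.comul x = x ⊗ₜ[k] (1 : A) + (1 : A) ⊗ₜ[k] x ∧ x ^ p = 0 ∧
      LinearIndependent k (fun i : Fin p => x ^ (i : ℕ)) ∧ Module.finrank k A = p := by
  classical
  have hp : p.Prime := Fact.out
  haveI : Nontrivial A := (IsLocalRing.toNontrivial)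
  haveI : IsArtinianRing A := IsArtinianRing.of_finite k A
  haveI : CharP A p := charP_of_injective_algebraMap (algebraMap k A).injective p
  haveI : CharP (A ⊗[k] A) p := charP_of_injective_algebraMap (algebraMap k (A ⊗[k] A)).injective p
  let ε := Bialgebra.counitAlgHom k A
  obtain ⟨x₀, hx₀, hεx₀, hΔx₀⟩ := exists_primitive k A hdual hA
  have hnil : ∀ y : A, ε y = 0 → IsNilpotent y := fun y hy => by
    rw [← mem_nilradical, Ring.KrullDimLE.nilradical_eq_maximalIdeal]
    exact IsLocalRing.le_maximalIdeal (RingHom.ker_ne_top ε) hy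
  have hprim_pow : ∀ {y : A}, Coalgebra.comul y = y ⊗ₜ[k] (1 : A) + (1 : A) ⊗ₜ[k] y → ∀ m : ℕ,
      Coalgebra.comul (R := k) (y ^ p ^ m) = (y ^ p ^ m) ⊗ₜ[k] (1 : A) + (1 : A) ⊗ₜ[k] (y ^ p ^ m) := by
    intro y hy m
    rw [Bialgebra.comul_pow, hy, add_pow_char_pow, Algebra.TensorProduct.tmul_pow,
      Algebra.TensorProduct.tmul_pow, one_pow]
  -- a primitive element with vanishing `p`-th power
  obtain ⟨N, hN⟩ := hnil x₀ hεx₀
  have hex : ∃ m, x₀ ^ p ^ m = 0 := ⟨N, pow_eq_zero_of_le (Nat.lt_pow_self hp.one_lt).le hN⟩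
  have hm : Nat.find hex ≠ 0 := fun h0 => by
    have := Nat.find_spec hex
    rw [h0, pow_zero, pow_one] at this
    exact hx₀ this
  obtain ⟨m, hm'⟩ := Nat.exists_eq_succ_of_ne_zero hm
  obtain ⟨x, hxdef⟩ : ∃ x, x = x₀ ^ p ^ m := ⟨_, rfl⟩
  have hx0 : x ≠ 0 := hxdef ▸ Nat.find_min hex (by omega)
  have hxp : x ^ p = 0 := by
    rw [hxdef, ← pow_mul, ← pow_succ, show m + 1 = Nat.find hex from hm'.symm]
    exact Nat.find_spec hex
  have hΔ : Coalgebra.comul x = x ⊗ₜ[k] (1 : A) + (1 : A) ⊗ₜ[k] x := hxdef ▸ hprim_pow hΔx₀ m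
  have hεx : ε x = 0 := by
    rw [hxdef, map_pow, show ε x₀ = 0 from hεx₀, zero_pow (pow_ne_zero _ hp.ne_zero)]
  let I : Ideal A := Ideal.span {x}
  have hI : I.IsHopfIdeal k := by
    have hS : HopfAlgebra.antipodeAlgHom k A x = -x := by
      have h := HopfAlgebra.mul_antipode_lTensor_comul_apply (R := k) x
      rw [hΔ, map_add, LinearMap.lTensor_tmul, LinearMap.lTensor_tmul, map_add, LinearMap.mul'_apply,
        LinearMap.mul'_apply, HopfAlgebra.antipode_one, mul_one, one_mul,
        show Coalgebra.counit (R := k) x = 0 from hεx, map_zero] at h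
      exact eq_neg_of_add_eq_zero_right h
    refine { toIsCoideal := ⟨fun a ha => ?_, fun a ha => ?_⟩, antipode_mem := fun a ha => ?_ }
    · obtain ⟨c, rfl⟩ := Ideal.mem_span_singleton'.1 ha
      change ε (c * x) = 0
      rw [map_mul, hεx, mul_zero]
    · obtain ⟨c, rfl⟩ := Ideal.mem_span_singleton'.1 ha
      let q : A →ₗ[k] A ⧸ I.restrictScalars k := (I.restrictScalars k).mkQ
      have hq : ∀ z : A, q (z * x) = 0 := fun z => (Submodule.Quotient.mk_eq_zero _).2
        (Ideal.mem_span_singleton'.2 ⟨z, rfl⟩ : z * x ∈ I)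
      rw [Bialgebra.comul_mul, hΔ]
      induction (Coalgebra.comul c : A ⊗[k] A) using TensorProduct.induction_on with
      | zero => simp
      | tmul a b =>
        rw [mul_add, Algebra.TensorProduct.tmul_mul_tmul, Algebra.TensorProduct.tmul_mul_tmul, map_add,
          TensorProduct.map_tmul, TensorProduct.map_tmul, hq, hq, TensorProduct.zero_tmul,
          TensorProduct.tmul_zero, add_zero]
      | add a b ha hb => rw [add_mul, map_add, ha, hb, add_zero]
    · obtain ⟨c, rfl⟩ := Ideal.mem_span_singleton'.1 ha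
      change HopfAlgebra.antipodeAlgHom k A (c * x) ∈ I
      rw [map_mul, hS]
      exact I.mul_mem_left _ (I.neg_mem (Ideal.mem_span_singleton_self x))
  have hIeq : I = RingHom.ker ε := (hsimple I hI).resolve_left fun h =>
    hx0 ((Submodule.eq_bot_iff _).1 h _ (Ideal.mem_span_singleton_self x))
  have hexn : ∃ n, x ^ n = 0 := ⟨p, hxp⟩
  obtain ⟨n, hn⟩ : ∃ n, n = Nat.find hexn := ⟨_, rfl⟩
  have hnz : x ^ n = 0 := hn ▸ Nat.find_spec hexn
  have hnm : ∀ i, i < n → x ^ i ≠ 0 := fun i hi => Nat.find_min hexn (hn ▸ hi)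
  -- powers below the nilpotency index are independent
  have hli : LinearIndependent k (fun i : Fin n => x ^ (i : ℕ)) := by
    rw [Fintype.linearIndependent_iff]
    intro c hc i
    induction hi : (i : ℕ) using Nat.strong_induction_on generalizing i with
    | _ t ih =>
      subst hi
      by_contra hci
      have h := congrArg (· * x ^ (n - 1 - i)) hc
      simp only [Finset.sum_mul, zero_mul, smul_mul_assoc, ← pow_add] at h
      rw [Finset.sum_eq_single i] at h
      · rw [show (i : ℕ) + (n - 1 - i) = n - 1 by omega] at h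
        exact hci ((smul_eq_zero.1 h).resolve_right (hnm _ (by have := i.2; omega)))
      · intro j _ hji
        rcases lt_or_gt_of_ne (Fin.val_ne_of_ne hji) with hlt | hgt
        · rw [ih j hlt j rfl, zero_smul]
        · rw [pow_eq_zero_of_le (by omega) hnz, smul_zero]
      · exact fun h => absurd (Finset.mem_univ i) h
  have hspan : Submodule.span k (Set.range fun i : Fin n => x ^ (i : ℕ)) = ⊤ := by
    let S : Submodule k A := Submodule.span k (Set.range fun i : Fin n => x ^ (i : ℕ))
    have hpowS : ∀ i, x ^ i ∈ S := fun i => by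
      by_cases h : i < n
      · exact Submodule.subset_span ⟨⟨i, h⟩, rfl⟩
      · rw [pow_eq_zero_of_le (by omega) hnz]; exact S.zero_mem
    have key : ∀ r : ℕ, ∀ a : A, ∃ b, a - x ^ r * b ∈ S := by
      intro r
      induction r with
      | zero => exact fun a => ⟨a, by rw [pow_zero, one_mul, sub_self]; exact S.zero_mem⟩
      | succ r ih =>
        intro a
        obtain ⟨b, hb⟩ := ih a
        have hmem : b - algebraMap k A (ε b) ∈ I := by
          rw [hIeq, RingHom.mem_ker, map_sub, AlgHom.commutes]; exact sub_self _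
        obtain ⟨c, hc⟩ := Ideal.mem_span_singleton'.1 hmem
        refine ⟨c, ?_⟩
        rw [show a - x ^ (r + 1) * c = (a - x ^ r * b) + algebraMap k A (ε b) * x ^ r by
          linear_combination (-(x ^ r)) * hc, ← Algebra.smul_def]
        exact S.add_mem hb (S.smul_mem _ (hpowS r))
    refine eq_top_iff.2 fun a _ => ?_
    obtain ⟨b, hb⟩ := key n a
    rwa [hnz, zero_mul, sub_zero] at hb
  let B : Module.Basis (Fin n) k A := Module.Basis.mk hli hspan.ge
  have hB : ∀ i, B i = x ^ (i : ℕ) := fun i => by simp [B]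
  have hn2 : 2 ≤ n := by
    by_contra h
    exact hx0 (by rw [← pow_one x]; exact pow_eq_zero_of_le (by omega) hnz)
  have hnp : n = p := by
    have hle : n ≤ p := hn ▸ Nat.find_min' hexn hxp
    have hcast : (n : k) = 0 := by
      have h : Coalgebra.comul (R := k) (x ^ n) = 0 := by rw [hnz, map_zero]
      rw [Bialgebra.comul_pow, hΔ, add_pow] at h
      have h' := congrArg (fun t => (B.tensorProduct B).repr t (⟨1, by omega⟩, ⟨n - 1, by omega⟩)) h
      simp only [map_sum, Finsupp.finsetSum_apply, map_zero, Finsupp.zero_apply,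
        Algebra.TensorProduct.tmul_pow, one_pow, Algebra.TensorProduct.tmul_mul_tmul, mul_one, one_mul] at h'
      rw [Finset.sum_eq_single 1] at h'
      · rw [← nsmul_eq_mul', map_nsmul, Finsupp.smul_apply, Nat.choose_one_right,
          show x ^ 1 = B ⟨1, by omega⟩ from (hB ⟨1, by omega⟩).symm, show x ^ (n - 1) = B ⟨n - 1, by omega⟩ from (hB ⟨n - 1, by omega⟩).symm,
          ← Module.Basis.tensorProduct_apply, Module.Basis.repr_self, Finsupp.single_eq_same,
          nsmul_eq_mul, mul_one] at h'
        exact h'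
      · intro i hi hne
        rw [← nsmul_eq_mul', map_nsmul, Finsupp.smul_apply]
        rw [Finset.mem_range] at hi
        by_cases hin : i = n
        · rw [hin, hnz, TensorProduct.zero_tmul, map_zero, Finsupp.zero_apply, smul_zero]
        · by_cases hi0 : i = 0
          · rw [hi0, Nat.sub_zero, hnz, TensorProduct.tmul_zero, map_zero, Finsupp.zero_apply, smul_zero]
          · rw [show x ^ i = B ⟨i, by omega⟩ from (hB ⟨i, by omega⟩).symm,
              show x ^ (n - i) = B ⟨n - i, by omega⟩ from (hB ⟨n - i, by omega⟩).symm,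
              ← Module.Basis.tensorProduct_apply, Module.Basis.repr_self, Finsupp.single_eq_of_ne, smul_zero]
            exact fun heq => hne (Fin.mk.inj (congrArg Prod.fst heq)).symm
      · exact fun h => absurd (Finset.mem_range.2 (by omega)) h
    rcases hle.lt_or_eq with hlt | heq
    · exact absurd (Nat.le_of_dvd (by omega) ((CharP.cast_eq_zero_iff k p n).1 hcast)) (by omega)
    · exact heq
  subst hnp
  exact ⟨x, hΔ, hxp, hli, by rw [Module.finrank_eq_card_basis B, Fintype.card_fin]⟩

end Groth.Agent.S15064
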