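import Mathlib
import Groth.Statements.S15065
import Groth.Agent.FinPtsLib.Basic
import Groth.Agent.HopfFFLib.Stab.Basic

-- import your own Groth.Agent.* helpers here

set_option autoImplicit false
universe u
open Hopf

namespace Groth.Agent.S15065

/-- Let k be an algebraically closed field and A a finite-dimensional commutative and cocommutative Hopf
algebra over k which is reduced (a finite étale commutative k-group G = Spec A), with dim_k A > 1,
and assume G is simple: every Hopf ideal of A is either zero or the augmentation ideal (no closed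
subgroup schemes other than G and 1). Then the order dim_k A is a prime number ℓ, so that G is the
constant group ℤ/ℓℤ. (The published statement lists the simple finite commutative groups over an
algebraically closed field of characteristic p > 0; the étale case does not use the characteristic
and is stated here for any algebraically closed field.) -/
theorem result (k : Type u) [Field k] [IsAlgClosed k] (A : Type u) [CommRing A] [HopfAlgebra k A]
    [Coalgebra.IsCocomm k A] [FiniteDimensional k A] [IsReduced A] (hA : 1 < Module.finrank k A)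
    (hsimple : ∀ I : Ideal A, I.IsHopfIdeal k → I = ⊥ ∨ I = RingHom.ker (Bialgebra.counitAlgHom k A)) :
    (Module.finrank k A).Prime := by
  classical
  obtain ⟨b, hb, hfin, hcard⟩ := Groth.Agent.FinPts.exists_basis k A
  haveI := Fintype.ofFinite (A →ₐ[k] k)
  let N := WithConv (A →ₐ[k] k)
  haveI : Finite N := Finite.of_injective _ (WithConv.ofConv_injective)
  haveI : Nontrivial N := by
    rw [← Finite.one_lt_card_iff_nontrivial, Nat.card_congr (⟨WithConv.ofConv, WithConv.toConv, fun _ => rfl, fun _ => rfl⟩ : N ≃ (A →ₐ[k] k)), hcard]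
    exact hA
  suffices h : IsSimpleGroup N by
    rw [← hcard, ← Nat.card_congr (⟨WithConv.ofConv, WithConv.toConv, fun _ => rfl, fun _ => rfl⟩ : N ≃ (A →ₐ[k] k))]
    exact IsSimpleGroup.prime_card
  refine ⟨fun H _ => ?_⟩
  let J : Ideal A := ⨅ χ : H, RingHom.ker (χ.1.ofConv : A →ₐ[k] k)
  have hJ : ∀ a : A, a ∈ J ↔ ∀ χ : N, χ ∈ H → χ.ofConv a = 0 := by
    intro a
    simp only [J, Ideal.mem_iInf, RingHom.mem_ker]
    exact ⟨fun h χ hχ => h ⟨χ, hχ⟩, fun h χ => h χ.1 χ.2⟩
  have hbJ : ∀ ψ : A →ₐ[k] k, WithConv.toConv ψ ∉ H → b ψ ∈ J := by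
    intro ψ hψ
    rw [hJ]
    intro χ hχ
    rw [hb, if_neg]
    rintro rfl
    exact hψ hχ
  have hrepr : ∀ (a : A) (ψ : A →ₐ[k] k), b.repr a ψ = ψ a := by
    intro a ψ
    conv_rhs => rw [← b.sum_repr a]
    rw [map_sum]
    simp only [map_smul, hb, smul_eq_mul, mul_ite, mul_one, mul_zero, Finset.sum_ite_eq, Finset.mem_univ, if_true]
  let S : Finset (A →ₐ[k] k) := Finset.univ.filter fun ψ => WithConv.toConv ψ ∈ H
  have hS : ∀ ψ, ψ ∈ S → WithConv.toConv ψ ∈ H := fun ψ h => (Finset.mem_filter.1 h).2
  have hexp : ∀ (R : Type u) [CommRing R] [Algebra k R] (f : A →ₐ[k] R), (∀ a ∈ J, f a = 0) → ∀ a,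
      f a = ∑ ψ ∈ S, ψ a • f (b ψ) := by
    intro R _ _ f hf a
    conv_lhs => rw [← b.sum_repr a]
    rw [map_sum]
    refine (Finset.sum_subset (Finset.subset_univ S) fun ψ _ h => ?_).symm.trans
      (Finset.sum_congr rfl fun ψ _ => by rw [map_smul, hrepr])
    rw [map_smul, hf _ (hbJ ψ fun h' => h (Finset.mem_filter.2 ⟨Finset.mem_univ _, h'⟩)), smul_zero]
  have hHopf : J.IsHopfIdeal k := by
    refine Groth.Agent.HopfFF.isHopfIdeal_of_subgroup J (fun a ha => ?_) ?_ ?_
    · simpa using (hJ a).1 ha 1 H.one_mem
    · intro R _ _ f g hf hg a ha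
      show (f * g) a = 0
      rw [AlgHom.convMul_apply]
      have key : ∀ z : TensorProduct k A A, Algebra.TensorProduct.lift f.ofConv g.ofConv (fun _ _ => .all _ _) z =
          ∑ x ∈ S, ∑ y ∈ S,
            (Algebra.TensorProduct.lift x y (fun _ _ => .all _ _) z) • (f.ofConv (b x) * g.ofConv (b y)) := by
        intro z
        induction z using TensorProduct.induction_on with
        | zero => simp only [map_zero, zero_smul, Finset.sum_const_zero]
        | add u v hu hv =>
          simp only [map_add, hu, hv, add_smul, Finset.sum_add_distrib]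
        | tmul u v =>
          simp only [Algebra.TensorProduct.lift_tmul]
          rw [hexp R f.ofConv hf u, hexp R g.ofConv hg v, Finset.sum_mul_sum]
          refine Finset.sum_congr rfl fun x _ => Finset.sum_congr rfl fun y _ => ?_
          rw [smul_mul_smul_comm]
      refine (key _).trans (Finset.sum_eq_zero fun x hx => Finset.sum_eq_zero fun y hy => ?_)
      have h0 := (hJ a).1 ha _ (H.mul_mem (hS x hx) (hS y hy))
      rw [AlgHom.convMul_apply] at h0
      rw [show Algebra.TensorProduct.lift x y (fun _ _ => .all _ _) _ = 0 from h0, zero_smul]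
    · intro R _ _ f hf a ha
      show f.ofConv (HopfAlgebra.antipodeAlgHom k A a) = 0
      rw [hexp R f.ofConv hf]
      refine Finset.sum_eq_zero fun x hx => ?_
      rw [show x (HopfAlgebra.antipodeAlgHom k A a) = 0 from (hJ a).1 ha _ (H.inv_mem (hS x hx)), zero_smul]
  rcases hsimple J hHopf with h | h
  · right
    rw [Subgroup.eq_top_iff']
    intro χ
    by_contra hχ
    have := hbJ χ.ofConv hχ
    rw [h, Ideal.mem_bot] at this
    exact b.ne_zero _ this
  · left
    rw [Subgroup.eq_bot_iff_forall]
    intro χ hχ
    apply WithConv.ofConv_injective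
    ext a
    have hmem : a - algebraMap k A (CoalgebraStruct.counit (R := k) a) ∈ J := by
      rw [h, RingHom.mem_ker]; simp
    have := (hJ _).1 hmem χ hχ
    rw [map_sub, AlgHom.commutes, sub_eq_zero] at this
    simpa using this

end Groth.Agent.S15065
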