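import Groth.Statements.S15066
import Mathlib.RingTheory.Bialgebra.GroupLike
import Mathlib.RingTheory.Coalgebra.Convolution
import Mathlib.RingTheory.Artinian.Module
import Mathlib.LinearAlgebra.Dual.Lemmas
import Mathlib.RingTheory.TensorProduct.Finite
import Mathlib.Algebra.CharP.Algebra
import Mathlib.RingTheory.KrullDimension.Zero
import Mathlib.RingTheory.HopkinsLevitzki
-- import your own Groth.Agent.* helpers here

set_option autoImplicit false
universe u
open Hopf

namespace Groth.Agent.S15066

open scoped TensorProduct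

/-- For a reduced dual algebra over an algebraically closed field the group-like elements span. -/
theorem span_groupLike (k : Type u) [Field k] [IsAlgClosed k] (A : Type u) [CommRing A] [HopfAlgebra k A]
    [Coalgebra.IsCocomm k A] [FiniteDimensional k A] (hdual : IsReduced (WithConv (A →ₗ[k] k))) :
    Submodule.span k {g : A | IsGroupLikeElem k g} = ⊤ := by
  classical
  haveI : Module.Finite k (WithConv (A →ₗ[k] k)) := Module.Finite.equiv (WithConv.linearEquiv k (A →ₗ[k] k)).symm
  haveI : IsArtinianRing (WithConv (A →ₗ[k] k)) := IsArtinianRing.of_finite k _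
  have hchar : ∀ χ : WithConv (A →ₗ[k] k) →ₐ[k] k, ∃ g : A, IsGroupLikeElem k g ∧
      ∀ ξ : A →ₗ[k] k, χ (WithConv.toConv ξ) = ξ g := by
    intro χ
    let l : Module.Dual k (A →ₗ[k] k) := χ.toLinearMap.comp (WithConv.linearEquiv k (A →ₗ[k] k)).symm.toLinearMap
    obtain ⟨g, hg⟩ := (Module.evalEquiv k A).surjective l
    have hev : ∀ ξ : A →ₗ[k] k, χ (WithConv.toConv ξ) = ξ g := fun ξ => (LinearMap.congr_fun hg ξ).symm
    have h1 : Coalgebra.counit (R := k) g = 1 := by
      rw [← hev]
      refine Eq.trans ?_ (map_one χ)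
      congr 1
    refine ⟨g, ⟨h1, ?_⟩, hev⟩
    let b := Module.finBasis k A
    refine (b.tensorProduct b).ext_elem fun ⟨i, j⟩ => ?_
    have hrep : ∀ t : A ⊗[k] A, (b.tensorProduct b).repr t (i, j) =
        LinearMap.mul' k k (TensorProduct.map (b.coord i) (b.coord j) t) := by
      intro t
      induction t using TensorProduct.induction_on with
      | zero => simp
      | tmul x y => simp [Module.Basis.tensorProduct_repr_tmul_apply, mul_comm]
      | add x y hx hy => simp only [map_add, Finsupp.add_apply, hx, hy]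
    rw [hrep, hrep, TensorProduct.map_tmul, LinearMap.mul'_apply, ← hev (b.coord i), ← hev (b.coord j), ← map_mul]
    exact (hev (WithConv.toConv (b.coord i) * WithConv.toConv (b.coord j)).ofConv).symm
  by_contra hne
  obtain ⟨ξ, hξ0, hξ⟩ := Submodule.exists_dual_map_eq_bot_of_lt_top
    (lt_top_iff_ne_top.2 hne) inferInstance
  refine hξ0 ?_
  have hmax : ∀ P : Ideal (WithConv (A →ₗ[k] k)), P.IsMaximal → WithConv.toConv ξ ∈ P := by
    intro P hP
    letI : Field (WithConv (A →ₗ[k] k) ⧸ P) := Ideal.Quotient.field P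
    haveI : Module.Finite k (WithConv (A →ₗ[k] k) ⧸ P) :=
      Module.Finite.of_surjective (Ideal.Quotient.mkₐ k P).toLinearMap Ideal.Quotient.mk_surjective
    have hbij := (IsAlgClosed.algebraMap_bijective_of_isIntegral (k := k) (K := WithConv (A →ₗ[k] k) ⧸ P))
    let e : k ≃ₐ[k] (WithConv (A →ₗ[k] k) ⧸ P) := AlgEquiv.ofBijective (Algebra.ofId k _) hbij
    obtain ⟨g, hg, hev⟩ := hchar (e.symm.toAlgHom.comp (Ideal.Quotient.mkₐ k P))
    have h0 : ξ g = 0 := (Submodule.mem_bot k).1 (hξ ▸ Submodule.mem_map_of_mem (Submodule.subset_span hg))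
    rw [← hev] at h0
    exact Ideal.Quotient.eq_zero_iff_mem.1 ((map_eq_zero_iff e.symm e.symm.injective).1 h0)
  have h2 : WithConv.toConv ξ ∈ nilradical (WithConv (A →ₗ[k] k)) := by
    rw [nilradical_eq_sInf, Submodule.mem_sInf]
    intro Q hQ
    haveI : Ideal.IsPrime Q := hQ
    exact hmax Q (IsArtinianRing.isMaximal_of_isPrime Q)
  rw [nilradical_eq_zero] at h2
  exact WithConv.toConv_injective ((Submodule.mem_bot _).1 h2)

/-- Let k be an algebraically closed field of characteristic p > 0 and A a finite-dimensional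
commutative and cocommutative Hopf algebra over k (a finite commutative k-group G = Spec A) which is
a local ring (G connected) and whose dual algebra Hom_k(A, k) with the convolution product is
reduced (the Cartier dual of G is étale, i.e. G is multiplicative), with dim_k A > 1, and assume G
is simple: every Hopf ideal of A is either zero or the augmentation ideal (no closed subgroup
schemes other than G and 1). Then G is isomorphic to μ_p: A has a group-like element g (Δ(g) = g ⊗
g, ε(g) = 1) with g^p = 1 whose powers 1, g, …, g^(p−1) are linearly independent over k, and dim_k A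
= p (so A = k[g]/(g^p − 1)). -/
theorem result (k : Type u) [Field k] [IsAlgClosed k] (p : ℕ) [Fact p.Prime]
    [CharP k p] (A : Type u) [CommRing A] [HopfAlgebra k A] [Coalgebra.IsCocomm k A] [FiniteDimensional k A]
    [IsLocalRing A] (hdual : IsReduced (WithConv (A →ₗ[k] k))) (hA : 1 < Module.finrank k A)
    (hsimple : ∀ I : Ideal A, I.IsHopfIdeal k → I = ⊥ ∨ I = RingHom.ker (Bialgebra.counitAlgHom k A)) :
    ∃ g : A, IsGroupLikeElem k g ∧ g ^ p = 1 ∧ LinearIndependent k (fun i : Fin p => g ^ (i : ℕ)) ∧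
      Module.finrank k A = p := by
  classical
  have hp : p.Prime := Fact.out
  have hspan := span_groupLike k A hdual
  let G : Set A := {g : A | IsGroupLikeElem k g}
  have hliG : LinearIndepOn k id G := linearIndepOn_isGroupLikeElem
  let B : Module.Basis G k A := Module.Basis.mk hliG (by simpa [G] using hspan.ge)
  have hB : ∀ g : G, B g = g := fun g => by simp [B]
  let ε := Bialgebra.counitAlgHom k A
  haveI : IsArtinianRing A := IsArtinianRing.of_finite k A
  -- group-like elements are unipotent
  have hunip : ∀ g ∈ G, ∃ m : ℕ, g ^ p ^ m = 1 := by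
    intro g hg
    have hmem : g - 1 ∈ nilradical A := by
      rw [Ring.KrullDimLE.nilradical_eq_maximalIdeal]
      refine IsLocalRing.le_maximalIdeal (RingHom.ker_ne_top ε) ?_
      rw [RingHom.mem_ker, map_sub, map_one]
      exact sub_eq_zero.2 hg.counit_eq_one
    obtain ⟨N, hN⟩ := mem_nilradical.1 hmem
    refine ⟨N, ?_⟩
    haveI : CharP A p := charP_of_injective_algebraMap (algebraMap k A).injective p
    have h := sub_pow_char_pow g (1 : A) (p := p) (n := N)
    rw [one_pow, pow_eq_zero_of_le (Nat.lt_pow_self hp.one_lt).le hN] at h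
    exact sub_eq_zero.1 h.symm
  -- an element of order `p`
  obtain ⟨g₀, hg₀, hg₀1⟩ : ∃ g ∈ G, g ≠ 1 := by
    by_contra h
    have hG : G ⊆ {1} := fun g hg => not_not.1 fun hne => h ⟨g, hg, hne⟩
    have h1 := Submodule.finrank_mono (hspan.ge.trans (Submodule.span_mono hG))
    rw [finrank_top] at h1
    exact absurd (h1.trans (finrank_span_singleton (one_ne_zero (α := A))).le) (not_le.2 hA)
  obtain ⟨g, hg, hgp, hg1⟩ : ∃ g ∈ G, g ^ p = 1 ∧ g ≠ 1 := by
    have hex := hunip g₀ hg₀
    have hm : Nat.find hex ≠ 0 := fun h0 => by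
      have := Nat.find_spec hex
      rw [h0, pow_zero, pow_one] at this
      exact hg₀1 this
    obtain ⟨m, hm'⟩ := Nat.exists_eq_succ_of_ne_zero hm
    refine ⟨g₀ ^ p ^ m, IsGroupLikeElem.pow hg₀, ?_, Nat.find_min hex (by omega)⟩
    rw [← pow_mul, ← pow_succ, show m + 1 = Nat.find hex from hm'.symm]
    exact Nat.find_spec hex
  have hper : ∀ i : ℕ, g ^ (i % p) = g ^ i := fun i => by
    conv_rhs => rw [← Nat.div_add_mod i p, pow_add, pow_mul, hgp, one_pow, one_mul]
  have hinj : ∀ i j : ℕ, i < j → j < p → g ^ i ≠ g ^ j := by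
    intro i j hij hjp he
    have h1 : g ^ (j - i) = 1 := by
      have hu : IsUnit (g ^ i) := (IsUnit.of_mul_eq_one (g ^ (p - 1))
        (by rw [← pow_succ', Nat.sub_add_cancel hp.one_le, hgp])).pow i
      refine hu.mul_left_cancel ?_
      rw [← pow_add, Nat.add_sub_cancel' hij.le, mul_one, he]
    have h2 := pow_gcd_eq_one.2 ⟨h1, hgp⟩
    rw [Nat.gcd_comm, (hp.coprime_iff_not_dvd.2 fun hd => absurd (Nat.le_of_dvd (by omega) hd) (by omega)).gcd_eq_one, pow_one] at h2
    exact hg1 h2
  have hinj' : Function.Injective (fun i : Fin p => (⟨g ^ (i : ℕ), IsGroupLikeElem.pow hg⟩ : G)) := by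
    intro i j h
    have h' := congrArg Subtype.val h
    rcases lt_trichotomy (i : ℕ) j with hlt | heq | hgt
    · exact absurd h' (hinj _ _ hlt j.2)
    · exact Fin.ext heq
    · exact absurd h'.symm (hinj _ _ hgt i.2)
  have hli : LinearIndependent k (fun i : Fin p => g ^ (i : ℕ)) := by
    have h := B.linearIndependent.comp _ hinj'
    convert h using 1
    funext i
    exact (hB ⟨_, IsGroupLikeElem.pow hg⟩).symm
  -- the quotient by `g - 1`
  let I : Ideal A := Ideal.span {g - 1}
  have hI : I.IsHopfIdeal k := by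
    have hεI : ∀ a ∈ I, ε a = 0 := fun a ha => by
      obtain ⟨c, rfl⟩ := Ideal.mem_span_singleton'.1 ha
      rw [map_mul, map_sub, map_one, show ε g = 1 from hg.counit_eq_one, sub_self, mul_zero]
    have hS : HopfAlgebra.antipodeAlgHom k A g = g ^ (p - 1) := by
      have h := HopfAlgebra.mul_antipode_lTensor_comul_apply (R := k) g
      rw [hg.comul_eq_tmul_self, LinearMap.lTensor_tmul, LinearMap.mul'_apply, hg.counit_eq_one, map_one] at h
      refine (IsUnit.of_mul_eq_one (g ^ (p - 1)) (by rw [← pow_succ', Nat.sub_add_cancel hp.one_le, hgp])).mul_left_cancel ?_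
      rw [← pow_succ', Nat.sub_add_cancel hp.one_le, hgp]
      exact h
    refine { toIsCoideal := ⟨fun a ha => hεI a ha, fun a ha => ?_⟩, antipode_mem := fun a ha => ?_ }
    · obtain ⟨c, rfl⟩ := Ideal.mem_span_singleton'.1 ha
      let q : A →ₗ[k] A ⧸ I.restrictScalars k := (I.restrictScalars k).mkQ
      have key : ∀ x y : A, TensorProduct.map q q ((x ⊗ₜ[k] y) * ((g ⊗ₜ[k] g) - (1 : A) ⊗ₜ[k] (1 : A))) = 0 := by
        intro x y
        rw [mul_sub, Algebra.TensorProduct.tmul_mul_tmul, Algebra.TensorProduct.tmul_mul_tmul, mul_one, mul_one,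
          map_sub, TensorProduct.map_tmul, TensorProduct.map_tmul, sub_eq_zero]
        have hq : ∀ z : A, q (z * g) = q z := fun z => (Submodule.Quotient.eq _).2
          (Ideal.mem_span_singleton'.2 ⟨z, by ring⟩ : z * g - z ∈ I)
        rw [hq, hq]
      rw [Bialgebra.comul_mul, map_sub, hg.comul_eq_tmul_self, Bialgebra.comul_one, Algebra.TensorProduct.one_def]
      induction (Coalgebra.comul c : A ⊗[k] A) using TensorProduct.induction_on with
      | zero => simp
      | tmul x y => exact key x y
      | add x y hx hy => rw [add_mul, map_add, hx, hy, add_zero]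
    · obtain ⟨c, rfl⟩ := Ideal.mem_span_singleton'.1 ha
      change HopfAlgebra.antipodeAlgHom k A (c * (g - 1)) ∈ I
      rw [map_mul, map_sub, map_one, hS]
      exact I.mul_mem_left _ (Ideal.mem_span_singleton.2 (sub_one_dvd_pow_sub_one g _))
  have hIeq : I = RingHom.ker ε := (hsimple I hI).resolve_left fun h => hg1
    (sub_eq_zero.1 ((Submodule.eq_bot_iff _).1 h _ (Ideal.mem_span_singleton_self (g - 1))))
  -- every group-like element is a power of `g`
  have hpow : ∀ h : G, ∃ i : Fin p, (h : A) = g ^ (i : ℕ) := by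
    intro h
    by_contra hcon
    let φ : A →ₗ[k] k := B.constr k fun x : G => if ∃ i : ℕ, (x : A) = g ^ i then 1 else 0
    have hφ : ∀ x : G, φ (x : A) = if ∃ i : ℕ, (x : A) = g ^ i then 1 else 0 := fun x => by
      conv_lhs => rw [← hB x]
      exact B.constr_basis k _ x
    have hvan : ∀ a : A, φ (a * (g - 1)) = 0 := by
      intro a
      have h0 : φ.comp (LinearMap.mulRight k (g - 1)) = 0 := B.ext fun x => by
        change φ (B x * (g - 1)) = 0
        rw [hB, mul_sub, mul_one, map_sub, hφ, show (x : A) * g = ((⟨(x : A) * g, IsGroupLikeElem.mul x.2 hg⟩ : G) : A) from rfl,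
          hφ, sub_eq_zero]
        refine if_congr ⟨?_, ?_⟩ rfl rfl
        · rintro ⟨i, hi⟩
          refine ⟨i + (p - 1), ?_⟩
          rw [pow_add, ← hi]
          change (x : A) = (x : A) * g * g ^ (p - 1)
          rw [mul_assoc, ← pow_succ', Nat.sub_add_cancel hp.one_le, hgp, mul_one]
        · rintro ⟨i, hi⟩
          exact ⟨i + 1, by change (x : A) * g = _; rw [hi, pow_succ]⟩
      exact LinearMap.congr_fun h0 a
    have hmem : (h : A) - 1 ∈ I := by
      rw [hIeq, RingHom.mem_ker, map_sub, map_one]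
      exact sub_eq_zero.2 h.2.counit_eq_one
    obtain ⟨c, hc⟩ := Ideal.mem_span_singleton'.1 hmem
    have h3 := hvan c
    rw [hc, map_sub, hφ, show (1 : A) = ((⟨1, IsGroupLikeElem.one⟩ : G) : A) from rfl, hφ,
      if_pos (⟨0, (pow_zero g).symm⟩ : ∃ i : ℕ, ((⟨1, IsGroupLikeElem.one⟩ : G) : A) = g ^ i),
      if_neg (fun ⟨i, hi⟩ => hcon ⟨⟨i % p, Nat.mod_lt _ hp.pos⟩, hi.trans (hper i).symm⟩)] at h3
    simp at h3
  refine ⟨g, hg, hgp, hli, ?_⟩
  have hbij : Function.Bijective (fun i : Fin p => (⟨g ^ (i : ℕ), IsGroupLikeElem.pow hg⟩ : G)) :=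
    ⟨hinj', fun h => (hpow h).imp fun i hi => Subtype.ext hi.symm⟩
  rw [Module.finrank_eq_nat_card_basis B, ← Nat.card_congr (Equiv.ofBijective _ hbij), Nat.card_fin]

end Groth.Agent.S15066
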