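import Groth.Statements.S15067
import Mathlib.RingTheory.HopfAlgebra.Convolution
import Mathlib.RingTheory.Smooth.Fiber
import Mathlib.RingTheory.Unramified.Finite
import Mathlib.RingTheory.Ideal.IdempotentFG
import Mathlib.RingTheory.Ideal.GoingUp
import Mathlib.RingTheory.Adjoin.Tower
-- import your own Groth.Agent.* helpers here

set_option autoImplicit false
universe u
open scoped TensorProduct
open Hopf

namespace Groth.Agent.S15067

open Algebra.TensorProduct (includeLeft includeRight)

/-- In a commutative Hopf algebra, `(a ⊗ 1) · (S ⊗ id) Δ b` sends `Δ s` to `1 ⊗ s`. -/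
theorem shear_comul (R A : Type u) [CommRing R] [CommRing A] [HopfAlgebra R A] :
    (Algebra.TensorProduct.lift (includeLeft : A →ₐ[R] A ⊗[R] A)
      ((Algebra.TensorProduct.map (HopfAlgebra.antipodeAlgHom R A) (AlgHom.id R A)).comp
        (Bialgebra.comulAlgHom R A)) (fun _ _ => Commute.all _ _)).comp (Bialgebra.comulAlgHom R A) =
      includeRight := by
  let S := HopfAlgebra.antipodeAlgHom R A
  let Δ := Bialgebra.comulAlgHom R A
  let ε := Bialgebra.counitAlgHom R A
  let m : A →ₐ[R] A := (Algebra.TensorProduct.lmul' R).comp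
    ((Algebra.TensorProduct.map (AlgHom.id R A) S).comp Δ)
  have hm : m = (Algebra.ofId R A).comp ε := AlgHom.ext fun a =>
    HopfAlgebra.mul_antipode_lTensor_comul_apply (R := R) a
  let L : A ⊗[R] (A ⊗[R] A) →ₐ[R] A ⊗[R] A :=
    Algebra.TensorProduct.lift includeLeft (Algebra.TensorProduct.map S (AlgHom.id R A))
      (fun _ _ => Commute.all _ _)
  refine AlgHom.ext fun s => ?_
  have h1 : ∀ x : A ⊗[R] A, Algebra.TensorProduct.lift (includeLeft : A →ₐ[R] A ⊗[R] A)
      ((Algebra.TensorProduct.map S (AlgHom.id R A)).comp Δ) (fun _ _ => Commute.all _ _) x =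
      L (LinearMap.lTensor A (Coalgebra.comul (R := R) (A := A)) x) := by
    intro x
    induction x using TensorProduct.induction_on with
    | zero => simp
    | tmul a b => simp [L, Δ]
    | add x y hx hy => simp only [map_add, hx, hy]
  have h2 : ∀ y : (A ⊗[R] A) ⊗[R] A, L (TensorProduct.assoc R A A A y) =
      Algebra.TensorProduct.map ((Algebra.TensorProduct.lmul' R).comp
        (Algebra.TensorProduct.map (AlgHom.id R A) S)) (AlgHom.id R A) y := by
    intro y
    induction y using TensorProduct.induction_on with
    | zero => simp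
    | tmul ab c =>
      induction ab using TensorProduct.induction_on with
      | zero => simp
      | tmul a b => simp [L]
      | add x y hx hy => simp only [TensorProduct.add_tmul, map_add, hx, hy]
    | add x y hx hy => simp only [map_add, hx, hy]
  have h3 : ∀ y : A ⊗[R] A, Algebra.TensorProduct.map ((Algebra.TensorProduct.lmul' R).comp
        (Algebra.TensorProduct.map (AlgHom.id R A) S)) (AlgHom.id R A)
        (LinearMap.rTensor A (Coalgebra.comul (R := R) (A := A)) y) =
      Algebra.TensorProduct.map m (AlgHom.id R A) y := by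
    intro y
    induction y using TensorProduct.induction_on with
    | zero => simp
    | tmul a b => simp [m, Δ]
    | add x y hx hy => simp only [map_add, hx, hy]
  have h4 : ∀ y : A ⊗[R] A, Algebra.TensorProduct.map m (AlgHom.id R A) y =
      Algebra.TensorProduct.map (Algebra.ofId R A) (AlgHom.id R A)
        (LinearMap.rTensor A (Coalgebra.counit (R := R) (A := A)) y) := by
    intro y
    induction y using TensorProduct.induction_on with
    | zero => simp
    | tmul a b => simp [hm, ε]
    | add x y hx hy => simp only [map_add, hx, hy]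
  change Algebra.TensorProduct.lift (includeLeft : A →ₐ[R] A ⊗[R] A) ((Algebra.TensorProduct.map S (AlgHom.id R A)).comp Δ) (fun _ _ => Commute.all _ _) (Coalgebra.comul s) = 1 ⊗ₜ[R] s
  rw [h1, ← Coalgebra.coassoc_apply, h2, h3, h4, Coalgebra.rTensor_counit_comul]
  simp

/-- Let R be a henselian Noetherian local ring, A and A'' commutative Hopf algebras over R which are
finite and flat as R-modules (finite flat R-groups G = Spec A, G'' = Spec A''), and A'' → A an
R-algebra homomorphism compatible with the comultiplications and counits (a homomorphism π : G →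
G'') making A a faithfully flat A''-module (π faithfully flat). Let J ⊆ A be the ideal generated by
the image of the augmentation ideal of A'', so that G' = Spec A/J is the kernel of π and 1 → G' → G
→ G'' → 1 is an exact sequence of finite flat R-groups. Then: (2) if A'' and A/J are local rings
(G'' and G' connected), A is a local ring (G is connected); (3) if A'' and A/J are étale over R (G''
and G' finite étale), A is étale over R (G is finite étale). -/
theorem result (R : Type u) [CommRing R] [HenselianLocalRing R] [IsNoetherianRing R]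
    (A A'' : Type u) [CommRing A] [HopfAlgebra R A] [Module.Finite R A] [Module.Flat R A]
    [CommRing A''] [HopfAlgebra R A''] [Module.Finite R A''] [Module.Flat R A'']
    [Algebra A'' A] [IsScalarTower R A'' A] [Module.FaithfullyFlat A'' A]
    (hΔ : (Bialgebra.comulAlgHom R A).comp (IsScalarTower.toAlgHom R A'' A) =
      (Algebra.TensorProduct.map (IsScalarTower.toAlgHom R A'' A) (IsScalarTower.toAlgHom R A'' A)).comp
        (Bialgebra.comulAlgHom R A''))
    (hε : (Bialgebra.counitAlgHom R A).comp (IsScalarTower.toAlgHom R A'' A) = Bialgebra.counitAlgHom R A'') :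
    ((IsLocalRing A'' ∧
        IsLocalRing (A ⧸ (RingHom.ker (Bialgebra.counitAlgHom R A'')).map (algebraMap A'' A))) → IsLocalRing A) ∧
      ((Algebra.Etale R A'' ∧
        Algebra.Etale R (A ⧸ (RingHom.ker (Bialgebra.counitAlgHom R A'')).map (algebraMap A'' A))) →
        Algebra.Etale R A) := by
  let φ := IsScalarTower.toAlgHom R A'' A
  let J : Ideal A := (RingHom.ker (Bialgebra.counitAlgHom R A'')).map (algebraMap A'' A)
  let ε := Bialgebra.counitAlgHom R A
  have hεφ : ∀ c : A'', ε (algebraMap A'' A c) = Bialgebra.counitAlgHom R A'' c := fun c =>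
    AlgHom.congr_fun hε c
  haveI : Nontrivial A := ε.toRingHom.domain_nontrivial
  haveI : Module.Finite A'' A := Module.Finite.of_restrictScalars_finite R A'' A
  refine ⟨fun ⟨hl'', hlq⟩ => ?_, fun ⟨he'', heq⟩ => ?_⟩
  · haveI := hl''
    haveI := hlq
    have hJP : ∀ P : Ideal A, P.IsMaximal → J ≤ P := fun P hP => by
      haveI := hP
      rw [Ideal.map_le_iff_le_comap,
        IsLocalRing.eq_maximalIdeal (Ideal.isMaximal_comap_of_isIntegral_of_isMaximal (R := A'') P)]
      exact IsLocalRing.le_maximalIdeal (RingHom.ker_ne_top _)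
    refine IsLocalRing.of_unique_max_ideal
      ⟨(IsLocalRing.maximalIdeal (A ⧸ J)).comap (Ideal.Quotient.mk J),
        Ideal.comap_isMaximal_of_surjective _ Ideal.Quotient.mk_surjective, fun P hP => ?_⟩
    haveI := hP
    refine hP.eq_of_le (Ideal.IsMaximal.ne_top (Ideal.comap_isMaximal_of_surjective _
      Ideal.Quotient.mk_surjective)) ?_
    rw [← Ideal.map_le_iff_le_comap]
    refine IsLocalRing.le_maximalIdeal fun htop => hP.ne_top ?_
    have h := congrArg (Ideal.comap (Ideal.Quotient.mk J)) htop
    rw [Ideal.comap_map_of_surjective _ Ideal.Quotient.mk_surjective, Ideal.comap_top,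
      show Ideal.comap (Ideal.Quotient.mk J) ⊥ = J from Ideal.mk_ker, sup_eq_left.2 (hJP P hP)] at h
    exact h
  · haveI := he''
    haveI := heq
    haveI : IsNoetherianRing A := IsNoetherianRing.of_finite R A
    haveI : IsNoetherianRing A'' := IsNoetherianRing.of_finite R A''
    let Δ := Bialgebra.comulAlgHom R A
    let S := HopfAlgebra.antipodeAlgHom R A
    let q : A ⊗[R] A →ₐ[R] A ⊗[A''] A :=
      Algebra.TensorProduct.lift (includeLeft : A →ₐ[R] A ⊗[A''] A)
        ((includeRight : A →ₐ[A''] A ⊗[A''] A).restrictScalars R) (fun _ _ => Commute.all _ _)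
    have hq : ∀ a b : A, q (a ⊗ₜ[R] b) = a ⊗ₜ[A''] b := fun a b => by simp [q]
    let μ : A ⊗[R] A →ₐ[R] A :=
      (Algebra.TensorProduct.lmul' R).comp (Algebra.TensorProduct.map S (AlgHom.id R A))
    have hμ : ∀ b : A, μ (Δ b) = algebraMap R A (ε b) := fun b =>
      HopfAlgebra.mul_antipode_rTensor_comul_apply (R := R) b
    let g : A →ₐ[R] A ⊗[A''] A :=
      q.comp ((Algebra.TensorProduct.map S (AlgHom.id R A)).comp Δ)
    have hgμ : ∀ b : A, Algebra.TensorProduct.lmul' A'' (g b) = algebraMap R A (ε b) := by
      intro b
      rw [← hμ]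
      change Algebra.TensorProduct.lmul' A'' (q (Algebra.TensorProduct.map S (AlgHom.id R A) (Δ b))) =
        Algebra.TensorProduct.lmul' R (Algebra.TensorProduct.map S (AlgHom.id R A) (Δ b))
      induction (Algebra.TensorProduct.map S (AlgHom.id R A) (Δ b)) using TensorProduct.induction_on with
      | zero => simp
      | tmul x y => simp [hq]
      | add x y hx hy => simp only [map_add, hx, hy]
    -- `g` kills `J`
    have hgJ : ∀ b ∈ J, g b = 0 := by
      intro b hb
      refine RingHom.mem_ker.1 ((Ideal.map_le_iff_le_comap.2 fun c hc => ?_ : J ≤ RingHom.ker g.toRingHom) hb)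
      rw [Ideal.mem_comap, RingHom.mem_ker]
      change g (algebraMap A'' A c) = 0
      have h1 : Δ (algebraMap A'' A c) =
          Algebra.TensorProduct.map φ φ (Bialgebra.comulAlgHom R A'' c) := AlgHom.congr_fun hΔ c
      have key : ∀ z : A'' ⊗[R] A'',
          q (Algebra.TensorProduct.map S (AlgHom.id R A) (Algebra.TensorProduct.map φ φ z)) =
            μ (Algebra.TensorProduct.map φ φ z) ⊗ₜ[A''] (1 : A) := by
        intro z
        induction z using TensorProduct.induction_on with
        | zero => simp
        | tmul x y =>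
          simp only [Algebra.TensorProduct.map_tmul, hq, μ, AlgHom.comp_apply, AlgHom.id_apply,
            Algebra.TensorProduct.lmul'_apply_tmul, φ, IsScalarTower.coe_toAlgHom']
          rw [mul_comm, ← Algebra.smul_def, TensorProduct.smul_tmul, Algebra.smul_def, mul_one]
        | add x y hx hy => simp only [map_add, TensorProduct.add_tmul, hx, hy]
      change q (Algebra.TensorProduct.map S (AlgHom.id R A) (Δ (algebraMap A'' A c))) = 0
      rw [h1, key, ← h1, hμ, hεφ, RingHom.mem_ker.1 hc, map_zero, TensorProduct.zero_tmul]
    let Ψ : A ⊗[R] A →ₐ[R] A ⊗[A''] A :=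
      Algebra.TensorProduct.lift includeLeft g (fun _ _ => Commute.all _ _)
    have hΨ : ∀ a b : A, Ψ (a ⊗ₜ[R] b) = (a ⊗ₜ[A''] (1 : A)) * g b := fun a b => by simp [Ψ]
    have hΨΔ : ∀ s : A, Ψ (Δ s) = (1 : A) ⊗ₜ[A''] s := by
      intro s
      have h := AlgHom.congr_fun (shear_comul R A) s
      have hx : ∀ x : A ⊗[R] A, Ψ x = q (Algebra.TensorProduct.lift (includeLeft : A →ₐ[R] A ⊗[R] A)
          ((Algebra.TensorProduct.map S (AlgHom.id R A)).comp Δ) (fun _ _ => Commute.all _ _) x) := by
        intro x
        induction x using TensorProduct.induction_on with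
        | zero => simp
        | tmul a b => simp [hΨ, g, hq]
        | add x y hx hy => simp only [map_add, hx, hy]
      rw [hx]
      refine (congrArg q h).trans ?_
      exact hq 1 s
    -- the idempotent of the kernel of the counit of `A / J`
    have hJε : ∀ a ∈ J, ε a = 0 := fun a ha => RingHom.mem_ker.1
      ((Ideal.map_le_iff_le_comap.2 fun c hc => by
        rw [Ideal.mem_comap, RingHom.mem_ker, hεφ]
        exact hc : J ≤ RingHom.ker ε) ha)
    let εb : A ⧸ J →ₐ[R] R := Ideal.Quotient.liftₐ J ε hJε
    let K : Ideal (A ⧸ J) := RingHom.ker εb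
    have hK : IsIdempotentElem K := by
      let B := (A ⧸ J) ⧸ (K * K)
      have hext : Ideal.Quotient.mkₐ R (K * K) = (Algebra.ofId R B).comp εb := by
        refine Algebra.FormallyUnramified.ext (I := K.map (Ideal.Quotient.mk (K * K))) ⟨2, ?_⟩ fun x => ?_
        · rw [← Ideal.map_pow, pow_two, Ideal.map_quotient_self]
          rfl
        · rw [Ideal.Quotient.eq]
          change Ideal.Quotient.mk (K * K) x - algebraMap R B (εb x) ∈ _
          rw [IsScalarTower.algebraMap_apply R (A ⧸ J) B, Ideal.Quotient.algebraMap_eq, ← map_sub]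
          refine Ideal.mem_map_of_mem _ ?_
          rw [RingHom.mem_ker, map_sub, AlgHom.commutes, Algebra.algebraMap_self_apply, sub_self]
      refine le_antisymm Ideal.mul_le_left fun x hx => Ideal.Quotient.eq_zero_iff_mem.1 ?_
      refine (AlgHom.congr_fun hext x).trans ?_
      rw [AlgHom.comp_apply, RingHom.mem_ker.1 hx, map_zero]
    obtain ⟨e, he, hKe⟩ := (K.isIdempotentElem_iff_of_fg (IsNoetherian.noetherian K)).1 hK
    obtain ⟨e₀, rfl⟩ := Ideal.Quotient.mk_surjective e
    have hkill : ∀ b : A, (b - algebraMap R A (ε b)) * (1 - e₀) ∈ J := by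
      intro b
      have hb : Ideal.Quotient.mk J (b - algebraMap R A (ε b)) ∈ K := by
        change εb (Ideal.Quotient.mk J _) = 0
        change ε (b - algebraMap R A (ε b)) = 0
        rw [map_sub, AlgHom.commutes, Algebra.algebraMap_self_apply, sub_self]
      rw [hKe, Ideal.submodule_span_eq, Ideal.mem_span_singleton'] at hb
      obtain ⟨y, hy⟩ := hb
      rw [← Ideal.Quotient.eq_zero_iff_mem, map_mul, ← hy, map_sub, map_one, mul_assoc,
        mul_sub, mul_one, he.eq, sub_self, mul_zero]
    let t : A ⊗[A''] A := g (1 - e₀)
    have ht : ∀ b : A, g b * t = algebraMap R (A ⊗[A''] A) (ε b) * t := by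
      intro b
      rw [← sub_eq_zero, ← sub_mul, ← g.commutes, ← map_sub, ← map_mul]
      exact hgJ _ (hkill b)
    have hu : Algebra.FormallyUnramified A'' A := by
      rw [Algebra.FormallyUnramified.iff_exists_tensorProduct]
      refine ⟨t, fun s => ?_, ?_⟩
      · have hx : ∀ x : A ⊗[R] A, Ψ x * t =
            ((TensorProduct.rid R A (LinearMap.lTensor A (Coalgebra.counit (R := R) (A := A)) x))
              ⊗ₜ[A''] (1 : A)) * t := by
          intro x
          induction x using TensorProduct.induction_on with
          | zero => simp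
          | tmul a b =>
            rw [hΨ, mul_assoc, ht, LinearMap.lTensor_tmul, TensorProduct.rid_tmul, ← mul_assoc]
            congr 1
            rw [Algebra.TensorProduct.algebraMap_apply, Algebra.TensorProduct.tmul_mul_tmul, mul_one,
              Algebra.smul_def, mul_comm]
            rfl
          | add x y hx hy => simp only [map_add, TensorProduct.add_tmul, add_mul, hx, hy]
        have h := hx (Δ s)
        rw [hΨΔ, Bialgebra.comulAlgHom_apply, Coalgebra.lTensor_counit_comul, TensorProduct.rid_tmul,
          one_smul] at h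
        rw [sub_mul, h, sub_self]
      · rw [hgμ, map_sub, map_one]
        have h0 : ε e₀ = 0 := by
          have : Ideal.Quotient.mk J e₀ ∈ K := by
            rw [hKe]; exact Submodule.mem_span_singleton_self _
          exact this
        rw [h0, sub_zero, map_one]
    haveI := hu
    haveI : Algebra.FinitePresentation A'' A := Algebra.FinitePresentation.of_finiteType.1 inferInstance
    haveI : Algebra.Etale A'' A := Algebra.Etale.of_formallyUnramified_of_flat
    exact Algebra.Etale.comp R A'' A

end Groth.Agent.S15067
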