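import Groth.Statements.S15068
import Mathlib.RingTheory.Nakayama
import Mathlib.RingTheory.LocalRing.Module
import Mathlib.RingTheory.Unramified.Basic
import Mathlib.RingTheory.Ideal.IdempotentFG
import Mathlib.RingTheory.Flat.Stability
-- import your own Groth.Agent.* helpers here

set_option autoImplicit false
universe u
open scoped TensorProduct
open Hopf

namespace Groth.Agent.S15068

/-- Let R be a henselian Noetherian local ring, A and A'' commutative Hopf algebras over R which are
finite and flat as R-modules, and A'' → A an R-algebra homomorphism compatible with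
comultiplications and counits making A faithfully flat over A'' (a faithfully flat homomorphism π :
G → G'' of finite flat R-groups); let J ⊆ A be the ideal generated by the image of the augmentation
ideal of A'' (G' = Spec A/J = ker π, so 1 → G' → G → G'' → 1 is exact). Assume A'' is a local ring
(G'' connected) and A/J is étale over R (G' finite étale), and let e ∈ A be an idempotent with ε(e)
= 1 such that A/(1 − e) is local (G⁰ = Spec A/(1 − e), the unit component of G). Then the composite
A'' → A → A/(1 − e) is bijective: the restriction G⁰ → G'' of π is an isomorphism, whose inverse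
splits the extension, G ≅ G' × G''. -/
theorem result (R : Type u) [CommRing R] [HenselianLocalRing R]
    [IsNoetherianRing R] (A A'' : Type u) [CommRing A] [HopfAlgebra R A] [Module.Finite R A] [Module.Flat R A]
    [CommRing A''] [HopfAlgebra R A''] [Module.Finite R A''] [Module.Flat R A'']
    [Algebra A'' A] [IsScalarTower R A'' A] [Module.FaithfullyFlat A'' A]
    (hΔ : (Bialgebra.comulAlgHom R A).comp (IsScalarTower.toAlgHom R A'' A) =
      (Algebra.TensorProduct.map (IsScalarTower.toAlgHom R A'' A) (IsScalarTower.toAlgHom R A'' A)).comp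
        (Bialgebra.comulAlgHom R A''))
    (hε : (Bialgebra.counitAlgHom R A).comp (IsScalarTower.toAlgHom R A'' A) = Bialgebra.counitAlgHom R A'')
    [IsLocalRing A''] [Algebra.Etale R (A ⧸ (RingHom.ker (Bialgebra.counitAlgHom R A'')).map (algebraMap A'' A))]
    (e : A) (he : IsIdempotentElem e) (heε : Bialgebra.counitAlgHom R A e = 1)
    [IsLocalRing (A ⧸ Ideal.span ({1 - e} : Set A))] :
    Function.Bijective ((Ideal.Quotient.mkₐ R (Ideal.span ({1 - e} : Set A))).comp (IsScalarTower.toAlgHom R A'' A)) := by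
  let φ := IsScalarTower.toAlgHom R A'' A
  let J : Ideal A := (RingHom.ker (Bialgebra.counitAlgHom R A'')).map (algebraMap A'' A)
  let ε := Bialgebra.counitAlgHom R A
  let E : Ideal A := Ideal.span {1 - e}
  have hεφ : ∀ c : A'', ε (algebraMap A'' A c) = Bialgebra.counitAlgHom R A'' c := fun c =>
    AlgHom.congr_fun hε c
  haveI : IsNoetherianRing A := IsNoetherianRing.of_finite R A
  have hJε : ∀ a ∈ J, ε a = 0 := fun a ha => RingHom.mem_ker.1
    ((Ideal.map_le_iff_le_comap.2 fun c hc => by
      rw [Ideal.mem_comap, RingHom.mem_ker, hεφ]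
      exact hc : J ≤ RingHom.ker ε) ha)
  -- the idempotent of the kernel of the counit of `A / J`
  let εb : A ⧸ J →ₐ[R] R := Ideal.Quotient.liftₐ J ε hJε
  let K : Ideal (A ⧸ J) := RingHom.ker εb
  have hK : IsIdempotentElem K := by
    let B := (A ⧸ J) ⧸ (K * K)
    have hext : Ideal.Quotient.mkₐ R (K * K) = (Algebra.ofId R B).comp εb := by
      refine Algebra.FormallyUnramified.ext (I := K.map (Ideal.Quotient.mk (K * K))) ⟨2, ?_⟩ fun x => ?_
      · rw [← Ideal.map_pow, pow_two, Ideal.map_quotient_self]
        rfl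
      · rw [Ideal.Quotient.eq]
        change Ideal.Quotient.mk (K * K) x - algebraMap R B (εb x) ∈ _
        rw [IsScalarTower.algebraMap_apply R (A ⧸ J) B, Ideal.Quotient.algebraMap_eq, ← map_sub]
        refine Ideal.mem_map_of_mem _ ?_
        rw [RingHom.mem_ker, map_sub, AlgHom.commutes, Algebra.algebraMap_self_apply, sub_self]
    refine le_antisymm Ideal.mul_le_left fun x hx => Ideal.Quotient.eq_zero_iff_mem.1 ?_
    refine (AlgHom.congr_fun hext x).trans ?_
    rw [AlgHom.comp_apply, RingHom.mem_ker.1 hx, map_zero]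
  obtain ⟨f, hf, hKf⟩ := (K.isIdempotentElem_iff_of_fg (IsNoetherian.noetherian K)).1 hK
  obtain ⟨f₀, rfl⟩ := Ideal.Quotient.mk_surjective f
  -- modulo `J + (1 - e)` every function is constant
  have hEε : ∀ a ∈ E, ε a = 0 := fun a ha => by
    obtain ⟨c, rfl⟩ := Ideal.mem_span_singleton'.1 ha
    rw [map_mul, map_sub, map_one, show ε e = 1 from heε, sub_self, mul_zero]
  have hJEε : ∀ a ∈ J ⊔ E, ε a = 0 := fun a ha => by
    obtain ⟨u, hu, v, hv, rfl⟩ := Submodule.mem_sup.1 ha
    rw [map_add, hJε u hu, hEε v hv, add_zero]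
  haveI : Nontrivial (A ⧸ (J ⊔ E)) := Ideal.Quotient.nontrivial_iff.2 fun h => by
    have := hJEε 1 (h ▸ Submodule.mem_top)
    rw [map_one] at this
    exact one_ne_zero this
  haveI : IsLocalRing (A ⧸ (J ⊔ E)) := IsLocalRing.of_surjective'
    (Ideal.Quotient.factor (le_sup_right : E ≤ J ⊔ E)) (Ideal.Quotient.factor_surjective _)
  have hf0 : f₀ ∈ J ⊔ E := by
    have hidem : IsIdempotentElem (Ideal.Quotient.mk (J ⊔ E) f₀) := by
      have h : f₀ * f₀ - f₀ ∈ J := Ideal.Quotient.eq.1 (by rw [map_mul]; exact hf)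
      change _ * _ = _
      rw [← map_mul, Ideal.Quotient.eq]
      exact Ideal.mem_sup_left h
    rw [← Ideal.Quotient.eq_zero_iff_mem]
    rcases IsLocalRing.isUnit_or_isUnit_one_sub_self (Ideal.Quotient.mk (J ⊔ E) f₀) with h | h
    · exfalso
      let εQ : A ⧸ (J ⊔ E) →ₐ[R] R := Ideal.Quotient.liftₐ _ ε hJEε
      have h1 : IsUnit (εQ (Ideal.Quotient.mk (J ⊔ E) f₀)) := h.map εQ
      have h2 : εQ (Ideal.Quotient.mk (J ⊔ E) f₀) = 0 :=
        RingHom.mem_ker.1 (hKf ▸ Submodule.mem_span_singleton_self _ : Ideal.Quotient.mk J f₀ ∈ K)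
      rw [h2] at h1
      exact not_isUnit_zero h1
    · refine h.mul_left_cancel ?_
      rw [sub_mul, one_mul, hidem.eq, sub_self, mul_zero]
  have hconst : ∀ x : A, x - algebraMap R A (ε x) ∈ J ⊔ E := by
    intro x
    have hx : Ideal.Quotient.mk J (x - algebraMap R A (ε x)) ∈ K := by
      change ε (x - algebraMap R A (ε x)) = 0
      rw [map_sub, AlgHom.commutes, Algebra.algebraMap_self_apply, sub_self]
    rw [hKf, Ideal.submodule_span_eq, Ideal.mem_span_singleton'] at hx
    obtain ⟨y, hy⟩ := hx
    obtain ⟨y, rfl⟩ := Ideal.Quotient.mk_surjective y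
    rw [← map_mul, Ideal.Quotient.eq] at hy
    have := (J ⊔ E).sub_mem ((J ⊔ E).mul_mem_left y hf0) (Ideal.mem_sup_left hy)
    rwa [sub_sub_cancel] at this
  -- surjectivity, by Nakayama
  haveI : Module.Finite A'' A := Module.Finite.of_restrictScalars_finite R A'' A
  let mkE : A →ₗ[A''] A ⧸ E := (Ideal.Quotient.mkₐ A'' E).toLinearMap
  haveI : Module.Finite A'' (A ⧸ E) := Module.Finite.of_surjective mkE Ideal.Quotient.mk_surjective
  let Ψ := (Ideal.Quotient.mkₐ R E).comp φ
  let L : A'' →ₗ[A''] A ⧸ E := Algebra.linearMap A'' (A ⧸ E)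
  have hL : ∀ c, L c = Ψ c := fun c => rfl
  have hsurj : Function.Surjective Ψ := by
    have htop : (⊤ : Submodule A'' (A ⧸ E)) ≤ LinearMap.range L := by
      refine Submodule.le_of_le_smul_of_le_jacobson_bot Module.Finite.fg_top
        (IsLocalRing.maximalIdeal_le_jacobson ⊥) fun z _ => ?_
      obtain ⟨x, rfl⟩ := Ideal.Quotient.mk_surjective z
      obtain ⟨u, hu, v, hv, huv⟩ := Submodule.mem_sup.1 (hconst x)
      refine Submodule.mem_sup.2 ⟨Ψ (algebraMap R A'' (ε x)), ⟨_, hL _⟩, mkE u, ?_, ?_⟩
      · have hmem : u ∈ (IsLocalRing.maximalIdeal A'' • ⊤ : Submodule A'' A) := by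
          rw [Ideal.smul_top_eq_map]
          exact Ideal.map_mono (IsLocalRing.le_maximalIdeal (RingHom.ker_ne_top _)) hu
        have hle : (IsLocalRing.maximalIdeal A'' • ⊤ : Submodule A'' A).map mkE ≤
            IsLocalRing.maximalIdeal A'' • ⊤ := by
          rw [Submodule.map_smul'']
          exact Submodule.smul_mono le_rfl le_top
        exact hle (Submodule.mem_map_of_mem hmem)
      · rw [AlgHom.commutes, show mkE u = Ideal.Quotient.mk E u from rfl]
        change Ideal.Quotient.mk E (algebraMap R A (ε x)) + Ideal.Quotient.mk E u = Ideal.Quotient.mk E x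
        rw [← map_add, Ideal.Quotient.eq,
          show algebraMap R A (ε x) + u - x = -v by linear_combination huv]
        exact E.neg_mem hv
    intro z
    obtain ⟨c, hc⟩ := htop (Submodule.mem_top (x := z))
    exact ⟨c, (hL c).symm.trans hc⟩
  refine ⟨?_, hsurj⟩
  -- injectivity: `A / (1 - e)` is a nonzero free module over `A''`
  haveI : Nontrivial (A ⧸ E) := Ideal.Quotient.nontrivial_iff.2 fun h => by
    have := hEε 1 (h ▸ Submodule.mem_top)
    rw [map_one] at this
    exact one_ne_zero this
  haveI : Module.Flat A'' (A ⧸ E) := by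
    let s : A ⧸ E →ₗ[A''] A :=
      Submodule.liftQ (E.restrictScalars A'') (LinearMap.mulLeft A'' e) (fun a ha => by
        obtain ⟨c, rfl⟩ := Ideal.mem_span_singleton'.1 ha
        rw [LinearMap.mem_ker, LinearMap.mulLeft_apply, mul_left_comm, mul_sub, mul_one, he.eq, sub_self,
          mul_zero])
    refine Module.Flat.of_retract s mkE (LinearMap.ext fun z => ?_)
    obtain ⟨a, rfl⟩ := Ideal.Quotient.mk_surjective z
    change Ideal.Quotient.mk E (e * a) = Ideal.Quotient.mk E a
    rw [Ideal.Quotient.eq, show e * a - a = -a * (1 - e) by ring]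
    exact Ideal.mem_span_singleton'.2 ⟨-a, rfl⟩
  haveI : Module.Free A'' (A ⧸ E) := Module.free_of_flat_of_isLocalRing
  intro c₁ c₂ h
  obtain ⟨i⟩ := (Module.Free.chooseBasis A'' (A ⧸ E)).index_nonempty
  let b := Module.Free.chooseBasis A'' (A ⧸ E)
  have h' : c₁ • b i = c₂ • b i := by
    rw [Algebra.smul_def, Algebra.smul_def]
    exact congrArg (· * b i) h
  simpa using congrArg (fun v => b.repr v i) h'

end Groth.Agent.S15068
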