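import Groth.Statements.S1507
import Groth.Agent.PerfModLib.Indep
import Groth.Agent.PerfModLib.Trans

-- import your own Groth.Agent.* helpers here

set_option autoImplicit false
universe u
attribute [local instance] HasDerivedCategory.standard
open FlatMor

namespace Groth.Agent.S1507



/-- Let A → B be flat and of finite presentation and I an ideal of B. Then A → B/I is a pseudo-coherent
ring map if and only if I is a pseudo-coherent B-module. -/
theorem result {A B : Type u} [CommRing A] [CommRing B] [Algebra A B] [Module.Flat A B] [Algebra.FinitePresentation A B] (I : Ideal B) :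
    MoreMor.IsPseudoCoherentHom A (B ⧸ I) ↔ DRing.IsPseudoCoherentModule' B ↥I := by
  let g : B →ₗ[B] B ⧸ I := Submodule.mkQ I
  have hg : Function.Surjective g := Submodule.mkQ_surjective I
  have hB : ∀ m, DRing.IsPseudoCoherentModule B m B := (PerfModLib.perfect_iff.1 PerfModLib.perfect_of_finite_free).1
  have key : MoreMor.IsPseudoCoherentHom A (B ⧸ I) ↔ DRing.IsPseudoCoherentModule' B (B ⧸ I) :=
    ⟨PerfModLib.pcoh'_of_pcohHom Ideal.Quotient.mk_surjective, PerfModLib.pcohHom_of_surjective Ideal.Quotient.mk_surjective⟩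
  let e : LinearMap.ker g ≃ₗ[B] I := LinearEquiv.ofEq _ _ (Submodule.ker_mkQ I)
  rw [key]
  constructor
  · intro h
    refine PerfModLib.pcoh'_iff.2 fun m => PerfModLib.pcoh_of_equiv e ?_
    have := PerfModLib.pcoh_ker (m := m - 1) g hg (hB _) (PerfModLib.pcoh'_iff.1 h _)
    rwa [sub_add_cancel] at this
  · intro h
    exact PerfModLib.pcoh'_iff.2 fun m => PerfModLib.pcoh_of_ker g hg (hB _)
      (PerfModLib.pcoh_of_equiv e.symm (PerfModLib.pcoh'_iff.1 h _))


end Groth.Agent.S1507
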