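import Groth.Statements.S15070
import Mathlib
import Groth.Agent.SurfExtLib.Elem
import Groth.Agent.S1688
-- import your own Groth.Agent.* helpers here

set_option autoImplicit false
universe u
open CategoryTheory CategoryTheory.Limits AlgebraicGeometry
open OrdSurf

namespace Groth.Agent.S15070

/-- Let k be an algebraically closed field of characteristic zero and X a smooth projective surface over
k (an integral k-scheme, smooth over k, of dimension two, admitting a closed immersion over k into
some projective space P^n_k). Let N be a coherent O_X-module all of whose stalks are torsion-free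
modules over the local rings, M a finite locally free O_X-module and φ : M → N an epimorphism of
O_X-modules. Then the kernel of φ is a finite locally free O_X-module. -/
theorem result (k : Type u) [Field k] [IsAlgClosed k] [CharZero k]
    (X : Scheme.{u}) [X.Over (Spec (CommRingCat.of k))] [IsIntegral X]
    [Smooth (X ↘ Spec (CommRingCat.of k))] (hdim : topologicalKrullDim X = 2)
    (hproj : ∃ (n : ℕ) (ι : X ⟶ CohB1.ProjSpace n k), IsClosedImmersion ι ∧
      ι ≫ CohB1.ProjSpace.toSpec n k = X ↘ Spec (CommRingCat.of k))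
    (N : X.Modules) (hN : Coh.IsCoh N) (hNtf : TorSh.IsTorsionFree N)
    (M : X.Modules) (hM : FlatMod.IsFinLocFree M) (φ : M ⟶ N) [Epi φ] :
    FlatMod.IsFinLocFree (kernel φ) := by
  haveI : IsLocallyNoetherian X := LocallyOfFiniteType.isLocallyNoetherian (X ↘ Spec (CommRingCat.of k))
  have hreg : ∀ x : X, IsRegularLocalRing (X.presheaf.stalk x) := fun x => Groth.Agent.S1535.result k X x
  have hK : Coh.IsCoh (kernel φ) := QCohLib.isCoh_kernel φ (LocSuppLib.isCoh_of_isFinLocFree hM) hN.1
  refine Groth.Agent.S1688.isFinLocFree_of_isFP_of_flat (QCohLib.isFP_of_isCoh _ hK) fun x => ?_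
  haveI := hreg x
  haveI : Coh.IsQCoh N := hN.1
  haveI : Module.Finite (X.presheaf.stalk x) ((DerSch.stalkFunctor X x).obj N) := DepthLib.finite_stalk _ hN.2 x
  have hp : CommAlgDim.PDLT (X.presheaf.stalk x) ((DerSch.stalkFunctor X x).obj N) 2 := by
    obtain ⟨d, hd⟩ := EquidimLib.exists_stalk_dim_eq_nat x
    have hd2 : d ≤ 2 := by
      have h := (DimIneqLib.stalk_dim_le_dim x).trans hdim.le
      rw [hd] at h
      exact_mod_cast h
    rcases le_or_gt d 1 with h1 | h1
    · exact CommAlgDim.PDLT.mono (by omega) ((DepthLib.le_depth_iff_pdlt _ _ hd (Nat.zero_le d)).1 zero_le')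
    obtain rfl : d = 2 := by omega
    suffices h : ((1 : ℕ) : ℕ∞) ≤ LocCoh.depth (X.presheaf.stalk x) ((DerSch.stalkFunctor X x).obj N) from
      (DepthLib.le_depth_iff_pdlt _ _ hd (by omega)).1 h
    have hnf : ¬ IsField (X.presheaf.stalk x) := fun hf => by
      rw [ringKrullDim_eq_zero_of_isField hf] at hd
      exact absurd hd (by norm_num)
    obtain ⟨b, hb0, hbu⟩ : ∃ b : X.presheaf.stalk x, b ≠ 0 ∧ ¬ IsUnit b := by
      by_contra h
      refine hnf ⟨⟨0, 1, zero_ne_one⟩, mul_comm, fun {b} hb0 => ?_⟩
      obtain ⟨u, rfl⟩ := not_not.1 fun hbu => h ⟨b, hb0, hbu⟩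
      exact ⟨↑u⁻¹, u.mul_inv⟩
    refine InvLib.HasSeq.le_depth ⟨[b], rfl, fun r hr => ?_, ?_⟩
    · rw [List.mem_singleton.1 hr, IsLocalRing.mem_maximalIdeal]
      exact hbu
    · rw [RingTheory.Sequence.isWeaklyRegular_cons_iff]
      refine ⟨?_, RingTheory.Sequence.IsWeaklyRegular.nil _ _⟩
      haveI := hNtf x
      exact Module.IsTorsionFree.isSMulRegular (M := N.presheaf.stalk x) (isRegular_of_ne_zero hb0)
  let T : ShortComplex X.Modules := ShortComplex.mk (kernel.ι φ) φ (kernel.condition φ)
  have hT : T.ShortExact := { exact := ShortComplex.exact_of_f_is_kernel _ (kernelIsKernel φ) }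
  have hTx := VBResLib.shortExact_stalk hT x
  haveI : CategoryTheory.HasProjectiveDimensionLT (T.map (DevissLib.St x)).X₃ 2 := hp
  haveI : CategoryTheory.HasProjectiveDimensionLT (T.map (DevissLib.St x)).X₂ 1 := by
    haveI := MiscFlat6.free_stalk_of_isFinLocFree hM x
    exact CommAlgDim.pdlt_one_iff.2 (Module.Projective.of_free (R := X.presheaf.stalk x) (P := M.presheaf.stalk x))
  have h1 : CategoryTheory.HasProjectiveDimensionLT (T.map (DevissLib.St x)).X₁ 1 :=
    hTx.hasProjectiveDimensionLT_X₁ 1 inferInstance inferInstance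
  haveI : Module.Projective (X.presheaf.stalk x) ((kernel φ).presheaf.stalk x) := CommAlgDim.pdlt_one_iff.1 h1
  exact Module.Flat.of_projective

end Groth.Agent.S15070
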