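import Groth.Statements.S15075
import Groth.Agent.BlowRegLib.GermInjTf

set_option autoImplicit false
set_option backward.isDefEq.respectTransparency false
set_option backward.isDefEq.respectTransparency.types false
set_option maxHeartbeats 1000000
set_option synthInstance.maxHeartbeats 400000
universe u
open CategoryTheory CategoryTheory.Limits AlgebraicGeometry TopologicalSpace Opposite
open OrdSurf

namespace Groth.Agent.S15075

/-- Let k be an algebraically closed field of characteristic zero and X a smooth projective surface over
k (an integral k-scheme, smooth over k, of dimension two, admitting a closed immersion over k into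
some projective space P^n_k), with generic point η. Let A be a sheaf of rings on X with a morphism φ
: O_X → A of sheaves of rings with central image (a sheaf of O_X-algebras) whose generic stalk A_η
is a division ring, i.e. simple as a left module over itself. Let M and N be sheaves of A-modules
whose underlying O_X-modules (through φ) are coherent with torsion-free stalks, and whose generic
stalks M_η and N_η are simple A_η-modules (one-dimensional over the division ring A_η). Then every
nonzero morphism of sheaves of A-modules M → N is a monomorphism. (The published statement takes A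
to be an order on X — coherent and torsion-free over O_X with A_η a central division algebra over
k(X) — and M, N torsion-free A-modules of rank one; of these hypotheses only the ones listed are
assumed here, the others playing no role in the argument.) -/
theorem result (k : Type u) [Field k] [IsAlgClosed k] [CharZero k]
    (X : Scheme.{u}) [X.Over (Spec (CommRingCat.of k))] [IsIntegral X]
    [Smooth (X ↘ Spec (CommRingCat.of k))] (hdim : topologicalKrullDim X = 2)
    (hproj : ∃ (n : ℕ) (ι : X ⟶ CohB1.ProjSpace n k), IsClosedImmersion ι ∧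
      ι ≫ CohB1.ProjSpace.toSpec n k = X ↘ Spec (CommRingCat.of k))
    (A : Sheaf (Opens.grothendieckTopology X) RingCat.{u}) (φ : X.ringCatSheaf ⟶ A)
    (hcen : ∀ (U : (Opens X)ᵒᵖ) (s : X.ringCatSheaf.obj.obj U) (a : A.obj.obj U),
      φ.hom.app U s * a = a * φ.hom.app U s)
    (hAη : IsSimpleModule (↑(TopCat.Presheaf.stalk (C := RingCat.{u}) (X := X.carrier) A.obj (genericPoint X))) (↑(TopCat.Presheaf.stalk (C := RingCat.{u}) (X := X.carrier) A.obj (genericPoint X))))
    (M N : SheafOfModules.{u} A)
    (hMc : Coh.IsCoh (X := X) ((SheafOfModules.restrictScalars φ).obj M))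
    (hNc : Coh.IsCoh (X := X) ((SheafOfModules.restrictScalars φ).obj N))
    (hMt : TorSh.IsTorsionFree (X := X) ((SheafOfModules.restrictScalars φ).obj M))
    (hNt : TorSh.IsTorsionFree (X := X) ((SheafOfModules.restrictScalars φ).obj N))
    (hMη : IsSimpleModule (↑(TopCat.Presheaf.stalk (C := RingCat.{u}) (X := X.carrier) A.obj (genericPoint X))) (↑(TopCat.Presheaf.stalk (C := Ab.{u}) (X := X.carrier) M.val.presheaf (genericPoint X))))
    (hNη : IsSimpleModule (↑(TopCat.Presheaf.stalk (C := RingCat.{u}) (X := X.carrier) A.obj (genericPoint X))) (↑(TopCat.Presheaf.stalk (C := Ab.{u}) (X := X.carrier) N.val.presheaf (genericPoint X))))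
    (ψ : M ⟶ N) (hψ : ψ ≠ 0) : Mono ψ := by
  haveI : IsLocallyNoetherian X := LocallyOfFiniteType.isLocallyNoetherian (X ↘ Spec (CommRingCat.of k))
  have hgen : ∀ y : X, IsField (X.presheaf.stalk y) → genericPoint X ∈ closure ({y} : Set X) := by
    intro y hy
    have h : genericPoint X ⤳ y := (genericPoint_spec X).specializes trivial
    have h' : genericPoint X ∈ Set.range (X.fromSpecStalk y) := by rw [Scheme.range_fromSpecStalk]; exact h
    obtain ⟨w, hw⟩ := h'
    haveI : Subsingleton ↥(Spec (X.presheaf.stalk y)) :=
      (PrimeSpectrum.subsingleton_iff_isField_of_isReduced (R := X.presheaf.stalk y)).2 hy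
    rw [← hw, Subsingleton.elim w (IsLocalRing.closedPoint _), Scheme.fromSpecStalk_closedPoint]
    exact subset_closure rfl
  have hinjM : ∀ (U : X.Opens) (hU : genericPoint X ∈ U),
      Function.Injective (TopCat.Presheaf.germ (C := Ab.{u}) (X := X.carrier) M.val.presheaf U (genericPoint X) hU) :=
    fun U hU => BlowRegLib.germ_injective_of_tf hMc hMt hU fun y _ hy => hgen y hy
  have hinjN : ∀ (U : X.Opens) (hU : genericPoint X ∈ U),
      Function.Injective (TopCat.Presheaf.germ (C := Ab.{u}) (X := X.carrier) N.val.presheaf U (genericPoint X) hU) :=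
    fun U hU => BlowRegLib.germ_injective_of_tf hNc hNt hU fun y _ hy => hgen y hy
  let f := (TopCat.Presheaf.stalkFunctor Ab.{u} (genericPoint X)).map ((PresheafOfModules.toPresheaf _).map ψ.val)
  have hf : ∀ (U : X.Opens) (hU : genericPoint X ∈ U) (m : M.val.obj (op U)),
      f (TopCat.Presheaf.germ (C := Ab.{u}) (X := X.carrier) M.val.presheaf U (genericPoint X) hU m) =
        TopCat.Presheaf.germ (C := Ab.{u}) (X := X.carrier) N.val.presheaf U (genericPoint X) hU (ψ.val.app (op U) m) :=
    fun U hU m => TopCat.Presheaf.stalkFunctor_map_germ_apply U (genericPoint X) hU ((PresheafOfModules.toPresheaf _).map ψ.val) m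
  let fl : (↑(TopCat.Presheaf.stalk (C := Ab.{u}) (X := X.carrier) M.val.presheaf (genericPoint X))) →ₗ[↑(TopCat.Presheaf.stalk (C := RingCat.{u}) (X := X.carrier) A.obj (genericPoint X))] (↑(TopCat.Presheaf.stalk (C := Ab.{u}) (X := X.carrier) N.val.presheaf (genericPoint X))) :=
    { toFun := f
      map_add' := fun a b => map_add f.hom a b
      map_smul' := fun r m => by
        obtain ⟨U, hU, r, rfl⟩ := TopCat.Presheaf.exists_germ_eq (X := X.carrier) A.obj r
        obtain ⟨V, hV, m, rfl⟩ := TopCat.Presheaf.exists_germ_eq (X := X.carrier) M.val.presheaf m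
        have hUV : genericPoint X ∈ U ⊓ V := ⟨hU, hV⟩
        rw [← TopCat.Presheaf.germ_res_apply A.obj (homOfLE inf_le_left) (genericPoint X) hUV r,
          ← TopCat.Presheaf.germ_res_apply M.val.presheaf (homOfLE inf_le_right) (genericPoint X) hUV m]
        generalize (A.obj.map (homOfLE (inf_le_left : U ⊓ V ≤ U)).op) r = r'
        generalize (M.val.presheaf.map (homOfLE (inf_le_right : U ⊓ V ≤ V)).op) m = m'
        rw [RingHom.id_apply, ← PresheafOfModules.germ_ringCat_smul M.val (genericPoint X) (U ⊓ V) hUV r' m', hf, hf,
          map_smul, PresheafOfModules.germ_ringCat_smul N.val (genericPoint X) (U ⊓ V) hUV] }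
  have hcases := eq_bot_or_eq_top (LinearMap.ker fl)
  rcases hcases with hk | hk
  · refine ⟨fun {Z} g g' e => SheafOfModules.Hom.ext (PresheafOfModules.hom_ext fun U => ?_)⟩
    refine ModuleCat.hom_ext (LinearMap.ext fun z => ?_)
    rcases Classical.em (genericPoint X ∈ U.unop) with hU | hU
    · refine hinjM U.unop hU (LinearMap.ker_eq_bot.1 hk ?_)
      show f _ = f _
      rw [hf, hf]
      exact congrArg _ (congrArg (fun (φ : Z ⟶ N) => φ.val.app U z) e)
    · have hemp : U.unop = ⊥ := by
        by_contra hne
        obtain ⟨y, hy⟩ := U.unop.ne_bot_iff_nonempty.1 hne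
        exact hU (((genericPoint_spec X).specializes trivial).mem_open U.unop.isOpen hy)
      refine TopCat.Presheaf.section_ext (⟨M.val.presheaf, M.isSheaf⟩ : TopCat.Sheaf Ab.{u} X.carrier) U.unop _ _ fun y hy => ?_
      rw [hemp] at hy
      exact hy.elim
  · refine absurd ?_ hψ
    refine SheafOfModules.Hom.ext (PresheafOfModules.hom_ext fun U => ?_)
    refine ModuleCat.hom_ext (LinearMap.ext fun z => ?_)
    rcases Classical.em (genericPoint X ∈ U.unop) with hU | hU
    · refine hinjN U.unop hU ?_
      rw [← hf]
      show f _ = TopCat.Presheaf.germ (C := Ab.{u}) (X := X.carrier) N.val.presheaf U.unop (genericPoint X) hU 0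
      rw [map_zero]
      exact LinearMap.mem_ker.1 (hk.symm ▸ Submodule.mem_top)
    · have hemp : U.unop = ⊥ := by
        by_contra hne
        obtain ⟨y, hy⟩ := U.unop.ne_bot_iff_nonempty.1 hne
        exact hU (((genericPoint_spec X).specializes trivial).mem_open U.unop.isOpen hy)
      refine TopCat.Presheaf.section_ext (⟨N.val.presheaf, N.isSheaf⟩ : TopCat.Sheaf Ab.{u} X.carrier) U.unop _ _ fun y hy => ?_
      rw [hemp] at hy
      exact hy.elim

end Groth.Agent.S15075
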