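import Groth.Statements.S15077
import Groth.Agent.SimpleCokerLib.Main
import Groth.Agent.CohCmpLib.RankOne
import Groth.Agent.ProjDegLib.Criterion

set_option autoImplicit false
set_option backward.isDefEq.respectTransparency false
set_option backward.isDefEq.respectTransparency.types false
set_option maxHeartbeats 1000000
set_option synthInstance.maxHeartbeats 400000
universe u
open CategoryTheory CategoryTheory.Limits AlgebraicGeometry
open OrdSurf

namespace Groth.Agent.S15077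

section Perm
open CategoryTheory CategoryTheory.Limits
variable {C : Type*} [Category C] [Preadditive C] [HasBinaryBiproducts C]

noncomputable def swap12 (a b c d : C) : (a ⊞ (b ⊞ (c ⊞ d))) ≅ (b ⊞ (a ⊞ (c ⊞ d))) :=
  (biprod.associator a b (c ⊞ d)).symm ≪≫ biprod.mapIso (biprod.braiding a b) (Iso.refl _) ≪≫
    biprod.associator b a (c ⊞ d)

noncomputable def swap23 (a b c d : C) : (a ⊞ (b ⊞ (c ⊞ d))) ≅ (a ⊞ (c ⊞ (b ⊞ d))) :=
  biprod.mapIso (Iso.refl _) ((biprod.associator b c d).symm ≪≫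
    biprod.mapIso (biprod.braiding b c) (Iso.refl _) ≪≫ biprod.associator c b d)

noncomputable def swap34 (a b c d : C) : (a ⊞ (b ⊞ (c ⊞ d))) ≅ (a ⊞ (b ⊞ (d ⊞ c))) :=
  biprod.mapIso (Iso.refl _) (biprod.mapIso (Iso.refl _) (biprod.braiding c d))

noncomputable def mapFour {a a' b b' c c' d d' : C} (p : a ≅ a') (q : b ≅ b') (r : c ≅ c') (t : d ≅ d') :
    (a ⊞ (b ⊞ (c ⊞ d))) ≅ (a' ⊞ (b' ⊞ (c' ⊞ d'))) :=
  biprod.mapIso p (biprod.mapIso q (biprod.mapIso r t))

end Perm

/-- Let k be an algebraically closed field of characteristic zero and X a smooth projective surface over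
k (an integral k-scheme, smooth over k, of dimension two, admitting a closed immersion over k into
some projective space P^n_k). Let I and J be invertible O_X-modules that are two-torsion, I ⊗ I ≅
O_X and J ⊗ J ≅ O_X, let K = I ⊗ J, and let F = O_X ⊕ I ⊕ J ⊕ K (so that O_X, I, J, K form a Klein
four-group of classes in Pic X when I, J, K are nontrivial and distinct). Then for every invertible
O_X-module L, the O_X-modules F ⊗ L and F are isomorphic if and only if L is isomorphic to one of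
O_X, I, J, K. (The published statement is for the abelian surface E_1 × E_2, with I and J pulled
back from two-torsion line bundles on the two elliptic curves and F the underlying module of the
quaternion algebra built from them; this row is stated on any smooth projective surface for any
two-torsion invertible I and J.) -/
theorem result (k : Type u) [Field k] [IsAlgClosed k] [CharZero k]
    (X : Scheme.{u}) [X.Over (Spec (CommRingCat.of k))] [IsIntegral X]
    [Smooth (X ↘ Spec (CommRingCat.of k))] (hdim : topologicalKrullDim X = 2)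
    (hproj : ∃ (n : ℕ) (ι : X ⟶ CohB1.ProjSpace n k), IsClosedImmersion ι ∧
      ι ≫ CohB1.ProjSpace.toSpec n k = X ↘ Spec (CommRingCat.of k))
    (I J : X.Modules) (hI : PicF.IsInvertible I) (hJ : PicF.IsInvertible J)
    (hI2 : Nonempty (CohB1.tensorMod I I ≅ Coh.structureModule X))
    (hJ2 : Nonempty (CohB1.tensorMod J J ≅ Coh.structureModule X))
    (L : X.Modules) (hL : PicF.IsInvertible L) :
    Nonempty (CohB1.tensorMod (Coh.structureModule X ⊞ I ⊞ J ⊞ CohB1.tensorMod I J) L ≅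
        Coh.structureModule X ⊞ I ⊞ J ⊞ CohB1.tensorMod I J) ↔
      (Nonempty (L ≅ Coh.structureModule X) ∨ Nonempty (L ≅ I) ∨ Nonempty (L ≅ J) ∨
        Nonempty (L ≅ CohB1.tensorMod I J)) := by
  classical
  obtain ⟨n, ι, hι, hιw⟩ := hproj
  haveI : IsProper (CohB1.ProjSpace.toSpec n k) := ProjDegLib.toSpec_isProper k n
  haveI : IsProper (X ↘ Spec (CommRingCat.of k)) := hιw ▸ inferInstance
  let O := Coh.structureModule X
  let K := CohB1.tensorMod I J
  let T := CurvLib.tensorLeft' L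
  haveI : T.Additive := inferInstance
  let dist : ∀ a b c d : X.Modules, CohB1.tensorMod (a ⊞ (b ⊞ (c ⊞ d))) L ≅
      (CohB1.tensorMod a L ⊞ (CohB1.tensorMod b L ⊞ (CohB1.tensorMod c L ⊞ CohB1.tensorMod d L))) :=
    fun a b c d =>
      haveI : ∀ P Q : X.Modules, PreservesBinaryBiproduct P Q T := fun P Q =>
        preservesBinaryBiproduct_of_preservesBiproduct _ _ _
      HilbPolyLib.swapIso _ _ ≪≫ T.mapBiprod a _ ≪≫ biprod.mapIso (HilbPolyLib.swapIso L a)
        (T.mapBiprod b _ ≪≫ biprod.mapIso (HilbPolyLib.swapIso L b)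
          (T.mapBiprod c d ≪≫ biprod.mapIso (HilbPolyLib.swapIso L c) (HilbPolyLib.swapIso L d)))
  have hK : PicF.IsInvertible K := HilbPolyLib.isInvertible_tensor hI hJ
  have hO : PicF.IsInvertible O := CurvLib.isInvertible_structureModule
  constructor
  · rintro ⟨e⟩
    have key : ∀ A : X.Modules, PicF.IsInvertible A → ∀ (a : L ⟶ A) (b : A ⟶ L), a ≫ b ≠ 0 → Nonempty (L ≅ A) := by
      intro A hA a b hab
      obtain ⟨c, hc⟩ := SimpleCokerLib.exists_scalar (k := k) hL (a ≫ b)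
      have hc0 : c ≠ 0 := fun h => hab (by rw [hc, h, SimpleCokerLib.sc_zero])
      let a' : L ⟶ A := SimpleCokerLib.sc L c⁻¹ ≫ a
      have h1 : a' ≫ b = 𝟙 L := by
        rw [Category.assoc, hc, SimpleCokerLib.sc_mul, inv_mul_cancel₀ hc0, SimpleCokerLib.sc_one]
      haveI : IsSplitEpi b := IsSplitEpi.mk' ⟨a', h1⟩
      haveI : Coh.IsQCoh L := (CurvLib.isCoh_of_isInvertible hL).1
      haveI : Coh.IsQCoh A := (CurvLib.isCoh_of_isInvertible hA).1
      haveI := CohCmpLib.isIso_of_epi_rank_one (CurvLib.locFree_of_isInvertible hA)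
        (CurvLib.locFree_of_isInvertible hL) b
      exact ⟨(asIso b).symm⟩
    let w : CohB1.tensorMod O L ≅ L := HilbPolyLib.unitLeft L
    let inj : L ⟶ O ⊞ (I ⊞ (J ⊞ K)) := w.inv ≫ biprod.inl ≫ (dist O I J K).inv ≫ e.hom
    let pr : O ⊞ (I ⊞ (J ⊞ K)) ⟶ L := e.inv ≫ (dist O I J K).hom ≫ biprod.fst ≫ w.hom
    have hid : inj ≫ pr = 𝟙 L := by simp [inj, pr]
    by_contra hne
    push Not at hne
    obtain ⟨h1, h2, h3, h4⟩ := hne
    have z1 : (inj ≫ biprod.fst) ≫ (biprod.inl ≫ pr) = 0 := by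
      by_contra h; exact (key O hO _ _ h).elim fun i => h1.false i
    have z2 : (inj ≫ biprod.snd ≫ biprod.fst) ≫ (biprod.inl ≫ biprod.inr ≫ pr) = 0 := by
      by_contra h; exact (key I hI _ _ h).elim fun i => h2.false i
    have z3 : (inj ≫ biprod.snd ≫ biprod.snd ≫ biprod.fst) ≫ (biprod.inl ≫ biprod.inr ≫ biprod.inr ≫ pr) = 0 := by
      by_contra h; exact (key J hJ _ _ h).elim fun i => h3.false i
    have z4 : (inj ≫ biprod.snd ≫ biprod.snd ≫ biprod.snd) ≫ (biprod.inr ≫ biprod.inr ≫ biprod.inr ≫ pr) = 0 := by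
      by_contra h; exact (key K hK _ _ h).elim fun i => h4.false i
    have hz : inj ≫ pr = 0 := by
      have t0 : inj ≫ pr = inj ≫ (biprod.fst ≫ biprod.inl + biprod.snd ≫
          (biprod.fst ≫ biprod.inl + biprod.snd ≫
            (biprod.fst ≫ biprod.inl + biprod.snd ≫ biprod.inr) ≫ biprod.inr) ≫ biprod.inr) ≫ pr := by
        simp [biprod.total]
      rw [t0]
      simp only [Category.assoc, Preadditive.add_comp, Preadditive.comp_add] at z1 z2 z3 z4 ⊢
      simp [z1, z2, z3, z4]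
    have hL0 : IsZero L := (IsZero.iff_id_eq_zero L).2 (hid.symm.trans hz)
    obtain ⟨φ⟩ := CurvLib.nonempty_stalk_pi_of_locFree (CurvLib.locFree_of_isInvertible hL) (genericPoint X)
    haveI := ModuleCat.subsingleton_of_isZero ((DevissLib.St (genericPoint X)).map_isZero hL0)
    exact not_subsingleton _ φ.toEquiv.symm.subsingleton
  · intro h
    obtain ⟨i2⟩ := hI2
    obtain ⟨j2⟩ := hJ2
    let u := fun A : X.Modules => HilbPolyLib.unitLeft A
    let u' := fun A : X.Modules => HilbPolyLib.swapIso A O ≪≫ HilbPolyLib.unitLeft A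
    let kI : CohB1.tensorMod K I ≅ J :=
      HilbPolyLib.congrLeft (HilbPolyLib.swapIso I J) I ≪≫ HilbPolyLib.assocIso J I I ≪≫
        HilbPolyLib.congrRight J i2 ≪≫ u' J
    let kJ : CohB1.tensorMod K J ≅ I :=
      HilbPolyLib.assocIso I J J ≪≫ HilbPolyLib.congrRight I j2 ≪≫ u' I
    let kK : CohB1.tensorMod K K ≅ O :=
      (HilbPolyLib.assocIso K I J).symm ≪≫ HilbPolyLib.congrLeft kI J ≪≫ j2
    let iK : CohB1.tensorMod I K ≅ J := HilbPolyLib.swapIso _ _ ≪≫ kI
    let jK : CohB1.tensorMod J K ≅ I := HilbPolyLib.swapIso _ _ ≪≫ kJ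
    let tw : ∀ {A : X.Modules}, (L ≅ A) → ∀ B : X.Modules, CohB1.tensorMod B L ≅ CohB1.tensorMod B A :=
      fun l B => HilbPolyLib.congrRight B l
    rcases h with ⟨⟨l⟩⟩ | ⟨⟨l⟩⟩ | ⟨⟨l⟩⟩ | ⟨⟨l⟩⟩
    · exact ⟨dist O I J K ≪≫ mapFour (tw l O ≪≫ u O) (tw l I ≪≫ u' I) (tw l J ≪≫ u' J) (tw l K ≪≫ u' K)⟩
    · exact ⟨dist O I J K ≪≫ mapFour (tw l O ≪≫ u I) (tw l I ≪≫ i2) (tw l J ≪≫ HilbPolyLib.swapIso J I)
        (tw l K ≪≫ kI) ≪≫ swap12 I O K J ≪≫ swap34 O I K J⟩
    · exact ⟨dist O I J K ≪≫ mapFour (tw l O ≪≫ u J) (tw l I) (tw l J ≪≫ j2) (tw l K ≪≫ kJ) ≪≫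
        swap23 J K O I ≪≫ swap12 J O K I ≪≫ swap34 O J K I ≪≫ swap23 O J I K⟩
    · exact ⟨dist O I J K ≪≫ mapFour (tw l O ≪≫ u K) (tw l I ≪≫ iK) (tw l J ≪≫ jK) (tw l K ≪≫ kK) ≪≫
        swap34 K J I O ≪≫ swap23 K J O I ≪≫ swap12 K O J I ≪≫ swap34 O K J I ≪≫ swap23 O K I J ≪≫ swap34 O I K J⟩

end Groth.Agent.S15077
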