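import Mathlib

namespace Groth.Agent.ShuffleLib

open Equiv

variable {a N : ℕ} (ι : Fin a → Fin N) (ext : Perm (Fin a) → Perm (Fin N))

theorem inv_ext (hι : Function.Injective ι) (h1 : ∀ σ i, ext σ (ι i) = ι (σ i)) (h2 : ∀ σ x, x ∉ Set.range ι → ext σ x = x)
    (σ ρ : Perm (Fin a)) : ext σ * ext ρ = ext (σ * ρ) := by
  ext x : 1
  by_cases hx : x ∈ Set.range ι
  · obtain ⟨i, rfl⟩ := hx
    simp [h1]
  · simp [h2 _ _ hx]

theorem ext_one (h1 : ∀ σ i, ext σ (ι i) = ι (σ i)) (h2 : ∀ σ x, x ∉ Set.range ι → ext σ x = x) : ext 1 = 1 := by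
  ext x : 1
  by_cases hx : x ∈ Set.range ι
  · obtain ⟨i, rfl⟩ := hx
    simp [h1]
  · simp [h2 _ _ hx]

/-- sort one block of a permutation. -/
theorem exists_factor (hι : Function.Injective ι) (h1 : ∀ σ i, ext σ (ι i) = ι (σ i)) (h2 : ∀ σ x, x ∉ Set.range ι → ext σ x = x)
    (ν : Perm (Fin N)) : ∃ τ σ, ν = τ * ext σ ∧ StrictMono (τ ∘ ι) ∧ ∀ x, x ∉ Set.range ι → τ x = ν x := by
  let ρ := Tuple.sort (ν ∘ ι)
  refine ⟨ν * ext ρ, ρ⁻¹, ?_, ?_, fun x hx => by simp [h2 _ _ hx]⟩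
  · rw [mul_assoc, inv_ext ι ext hι h1 h2, mul_inv_cancel, ext_one ι ext h1 h2, mul_one]
  · have : (ν * ext ρ : Perm (Fin N)) ∘ ι = (ν ∘ ι) ∘ ρ := funext fun i => by simp [h1]
    rw [this]
    exact (Tuple.monotone_sort (ν ∘ ι)).strictMono_of_injective ((ν.injective.comp hι).comp ρ.injective)

theorem factor_unique (hι : Function.Injective ι) (h1 : ∀ σ i, ext σ (ι i) = ι (σ i)) (h2 : ∀ σ x, x ∉ Set.range ι → ext σ x = x)
    (τ τ' : Perm (Fin N)) (σ σ' : Perm (Fin a)) (hτ : Monotone (τ ∘ ι)) (hτ' : Monotone (τ' ∘ ι))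
    (h : τ * ext σ = τ' * ext σ') : τ = τ' ∧ σ = σ' := by
  have hc : τ' = τ * ext (σ * σ'⁻¹) := by
    rw [← inv_ext ι ext hι h1 h2, ← mul_assoc, h, mul_assoc, inv_ext ι ext hι h1 h2, mul_inv_cancel, ext_one ι ext h1 h2, mul_one]
  have he : τ' ∘ ι = (τ ∘ ι) ∘ (σ * σ'⁻¹ : Perm (Fin a)) := funext fun i => by rw [hc]; simp [h1]
  have heq : (τ ∘ ι) ∘ (1 : Perm (Fin a)) = (τ ∘ ι) ∘ (σ * σ'⁻¹ : Perm (Fin a)) :=
    Tuple.unique_monotone (by simpa using hτ) (he ▸ hτ')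
  have hσ : σ * σ'⁻¹ = 1 := Equiv.ext fun i => (τ.injective.comp hι) (congrFun heq i).symm
  obtain rfl : σ = σ' := mul_inv_eq_one.1 hσ
  exact ⟨mul_right_cancel h, rfl⟩

theorem mono_block (h1 : ∀ σ i, ext σ (ι i) = ι (σ i)) (τ : Perm (Fin N)) (σ : Perm (Fin a)) (hτ : StrictMono (τ ∘ ι))
    {m : ℕ} (b : Fin m → Fin a) : Monotone (fun i => (τ * ext σ) (ι (b i))) ↔ Monotone (fun i => σ (b i)) := by
  constructor <;> intro h i j hij
  · have := h hij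
    simp only [Perm.mul_apply, h1] at this
    exact hτ.le_iff_le.1 this
  · simp only [Perm.mul_apply, h1]
    exact hτ.le_iff_le.2 (h hij)

end Groth.Agent.ShuffleLib
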