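import Groth.Statements.S15080
import Mathlib
import Mathlib
import Groth.Agent.ShuffleLib
-- import your own Groth.Agent.* helpers here

set_option autoImplicit false
open W4c2movlemaddchow

namespace Groth.Agent.S15080

/-- Let r, s, t ≥ 1. For an (r+s, t)-shuffle τ of r+s+t letters and an (r, s)-shuffle σ of the first r+s
letters, the composite τ ∘ (σ × id), where σ × id acts as σ on the first r+s letters and fixes the
last t, is an (r, s, t)-shuffle, and (τ, σ) ↦ τ ∘ (σ × id) is a bijection from such pairs onto the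
set of all (r, s, t)-shuffles. (A (p₁, …, p_s)-shuffle is a permutation that is monotone on each of
the consecutive blocks of sizes p₁, …, p_s; composites apply the right-hand factor first.) -/
theorem result (r s t : ℕ) (hr : 1 ≤ r) (hs : 1 ≤ s) (ht : 1 ≤ t) :
    Set.BijOn
      (fun p : Equiv.Perm (Fin (r + s + t)) × Equiv.Perm (Fin (r + s)) =>
        p.1 * W4c2movlemaddchow.extRight (r + s) t p.2)
      ({τ | W4c2movlemaddchow.IsShuffle₂ (r + s) t τ} ×ˢ {σ | W4c2movlemaddchow.IsShuffle₂ r s σ})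
      {ν | W4c2movlemaddchow.IsShuffle₃ r s t ν} := by
  classical
  set ι : Fin (r + s) → Fin (r + s + t) := Fin.castAdd t with hι
  have hi : Function.Injective ι := Fin.castAdd_injective (r + s) t
  have hr : ∀ x, x ∉ Set.range ι → ∃ j, x = Fin.natAdd (r + s) j := fun x hx => by
    induction x using Fin.addCases with
    | left i => exact absurd ⟨i, rfl⟩ hx
    | right j => exact ⟨j, rfl⟩
  have hn : ∀ j : Fin t, Fin.natAdd (r + s) j ∉ Set.range ι := by
    rintro j ⟨i, hij⟩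
    have := congrArg Fin.val hij
    simp [ι] at this; omega
  have h1 : ∀ σ i, W4c2movlemaddchow.extRight (r + s) t σ (ι i) = ι (σ i) := fun σ i => by
    simp [W4c2movlemaddchow.extRight, ι]
  have h2 : ∀ σ x, x ∉ Set.range ι → W4c2movlemaddchow.extRight (r + s) t σ x = x := fun σ x hx => by
    obtain ⟨j, rfl⟩ := hr x hx
    simp [W4c2movlemaddchow.extRight]
  refine ⟨fun p ⟨hτ, hσ⟩ => ?_, fun p ⟨hτ, hσ⟩ p' ⟨hτ', hσ'⟩ h => ?_, fun ν ⟨n1, n2, n3⟩ => ?_⟩
  · have hsm : StrictMono (p.1 ∘ ι) := hτ.1.strictMono_of_injective (p.1.injective.comp hi)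
    refine ⟨(Groth.Agent.ShuffleLib.mono_block ι _ h1 p.1 p.2 hsm (Fin.castAdd s)).2 hσ.1,
      (Groth.Agent.ShuffleLib.mono_block ι _ h1 p.1 p.2 hsm (Fin.natAdd r)).2 hσ.2, fun i j hij => ?_⟩
    show p.1 (W4c2movlemaddchow.extRight (r + s) t p.2 _) ≤ p.1 (W4c2movlemaddchow.extRight (r + s) t p.2 _)
    rw [h2 _ _ (hn i), h2 _ _ (hn j)]
    exact hτ.2 hij
  · obtain ⟨e1, e2⟩ := Groth.Agent.ShuffleLib.factor_unique ι _ hi h1 h2 _ _ _ _ hτ.1 hτ'.1 h
    exact Prod.ext e1 e2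
  · obtain ⟨τ, σ, hν, hsm, hfix⟩ := Groth.Agent.ShuffleLib.exists_factor ι _ hi h1 h2 ν
    subst hν
    refine ⟨(τ, σ), ⟨⟨hsm.monotone, fun i j hij => ?_⟩, ?_, ?_⟩, rfl⟩
    · show τ _ ≤ τ _
      rw [hfix _ (hn i), hfix _ (hn j)]
      exact n3 hij
    · exact (Groth.Agent.ShuffleLib.mono_block ι _ h1 τ σ hsm (Fin.castAdd s)).1 n1
    · exact (Groth.Agent.ShuffleLib.mono_block ι _ h1 τ σ hsm (Fin.natAdd r)).1 n2

end Groth.Agent.S15080
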