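import Groth.Statements.S15081
import Mathlib
import Mathlib
import Groth.Agent.ShuffleLib
-- import your own Groth.Agent.* helpers here

set_option autoImplicit false
open W4c2movlemaddchow

namespace Groth.Agent.S15081

/-- Let r, s, t ≥ 1. For an (r, s+t)-shuffle τ' of r+s+t letters and an (s, t)-shuffle σ' of the last
s+t letters, the composite τ' ∘ (id × σ'), where id × σ' fixes the first r letters and acts as σ' on
the last s+t, is an (r, s, t)-shuffle, and (τ', σ') ↦ τ' ∘ (id × σ') is a bijection from such pairs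
onto the set of all (r, s, t)-shuffles. (Shuffles are permutations monotone on each consecutive
block; composites apply the right-hand factor first.) -/
theorem result (r s t : ℕ) (hr : 1 ≤ r) (hs : 1 ≤ s) (ht : 1 ≤ t) :
    Set.BijOn
      (fun p : Equiv.Perm (Fin (r + s + t)) × Equiv.Perm (Fin (s + t)) =>
        p.1 * W4c2movlemaddchow.extLeft r s t p.2)
      ({τ | W4c2movlemaddchow.IsShuffle₂ r (s + t) ((finCongr (Nat.add_assoc r s t)).permCongr τ)} ×ˢ
        {σ | W4c2movlemaddchow.IsShuffle₂ s t σ})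
      {ν | W4c2movlemaddchow.IsShuffle₃ r s t ν} := by
  classical
  set c : Fin (r + (s + t)) → Fin (r + s + t) := Fin.cast (Nat.add_assoc r s t).symm with hc
  set ι : Fin (s + t) → Fin (r + s + t) := fun i => c (Fin.natAdd r i) with hι
  have hi : Function.Injective ι := (Fin.cast_injective _).comp (Fin.natAdd_injective _ r)
  have hn : ∀ j : Fin r, c (Fin.castAdd (s + t) j) ∉ Set.range ι := by
    rintro j ⟨i, hij⟩
    have := congrArg Fin.val hij
    simp [ι, c] at this; omega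
  have hr : ∀ x, x ∉ Set.range ι → ∃ j, x = c (Fin.castAdd (s + t) j) := fun x hx => by
    obtain ⟨y, rfl⟩ : ∃ y, c y = x := ⟨Fin.cast (Nat.add_assoc r s t) x, by simp [c]⟩
    induction y using Fin.addCases with
    | left i => exact ⟨i, rfl⟩
    | right j => exact absurd ⟨j, rfl⟩ hx
  have h1 : ∀ σ i, W4c2movlemaddchow.extLeft r s t σ (ι i) = ι (σ i) := fun σ i => by
    simp [W4c2movlemaddchow.extLeft, ι, c]
  have h2 : ∀ σ x, x ∉ Set.range ι → W4c2movlemaddchow.extLeft r s t σ x = x := fun σ x hx => by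
    obtain ⟨j, rfl⟩ := hr x hx
    simp [W4c2movlemaddchow.extLeft, c]
  have hb2 : ∀ j : Fin s, Fin.castAdd t (Fin.natAdd r j) = ι (Fin.castAdd t j) := fun j => Fin.ext (by simp [ι, c])
  have hb3 : ∀ l : Fin t, Fin.natAdd (r + s) l = ι (Fin.natAdd s l) := fun l => Fin.ext (by simp [ι, c]; omega)
  have hb1 : ∀ i : Fin r, Fin.castAdd t (Fin.castAdd s i) = c (Fin.castAdd (s + t) i) := fun i => Fin.ext (by simp [c])
  have hsh : ∀ τ : Equiv.Perm (Fin (r + s + t)),
      W4c2movlemaddchow.IsShuffle₂ r (s + t) ((finCongr (Nat.add_assoc r s t)).permCongr τ) ↔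
        Monotone (fun i : Fin r => τ (c (Fin.castAdd (s + t) i))) ∧ Monotone (τ ∘ ι) := by
    intro τ
    simp [W4c2movlemaddchow.IsShuffle₂, Monotone, ι, c]
  refine ⟨fun p ⟨hτ, hσ⟩ => ?_, fun p ⟨hτ, hσ⟩ p' ⟨hτ', hσ'⟩ h => ?_, fun ν ⟨n1, n2, n3⟩ => ?_⟩
  · obtain ⟨hτ1, hτ2⟩ := (hsh _).1 hτ
    have hsm : StrictMono (p.1 ∘ ι) := hτ2.strictMono_of_injective (p.1.injective.comp hi)
    refine ⟨fun i j hij => ?_, ?_, ?_⟩
    · show p.1 (W4c2movlemaddchow.extLeft r s t p.2 _) ≤ p.1 (W4c2movlemaddchow.extLeft r s t p.2 _)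
      rw [hb1, hb1, h2 _ _ (hn i), h2 _ _ (hn j)]
      exact hτ1 hij
    · simp only [hb2]; exact (Groth.Agent.ShuffleLib.mono_block ι _ h1 p.1 p.2 hsm (Fin.castAdd t)).2 hσ.1
    · simp only [hb3]; exact (Groth.Agent.ShuffleLib.mono_block ι _ h1 p.1 p.2 hsm (Fin.natAdd s)).2 hσ.2
  · obtain ⟨e1, e2⟩ := Groth.Agent.ShuffleLib.factor_unique ι _ hi h1 h2 _ _ _ _ ((hsh _).1 hτ).2 ((hsh _).1 hτ').2 h
    exact Prod.ext e1 e2
  · obtain ⟨τ, σ, hν, hsm, hfix⟩ := Groth.Agent.ShuffleLib.exists_factor ι _ hi h1 h2 ν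
    subst hν
    simp only [hb2] at n2
    simp only [hb3] at n3
    refine ⟨(τ, σ), ⟨(hsh _).2 ⟨fun i j hij => ?_, hsm.monotone⟩, ?_, ?_⟩, rfl⟩
    · show τ _ ≤ τ _
      rw [hfix _ (hn i), hfix _ (hn j), ← hb1, ← hb1]
      exact n1 hij
    · exact (Groth.Agent.ShuffleLib.mono_block ι _ h1 τ σ hsm (Fin.castAdd t)).1 n2
    · exact (Groth.Agent.ShuffleLib.mono_block ι _ h1 τ σ hsm (Fin.natAdd s)).1 n3

end Groth.Agent.S15081
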