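import Groth.Statements.S15083
import Mathlib


-- import your own Groth.Agent.* helpers here

set_option autoImplicit false
universe u
open MovLem

namespace Groth.Agent.S15083

/-- Let K be a field and r ≥ 1. For every element A of the special linear group SL_{r+1}(K) there is an
algebraic path in SL_{r+1} from the identity to A defined over K: a matrix M of determinant 1 with
entries in the polynomial ring K[y] such that M(0) is the identity matrix and M(1) = A. (The
published statement takes K to be the function field of SL_{r+1} over the ground field, A its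
generic point viewed as a K-rational point, and the parameter space to be the projective line minus
the point 1, with endpoints 0 and ∞; this row gives the path for an arbitrary K-point A on the
affine line with endpoints 0 and 1, which is what the published construction provides before
composing with the coordinate change y ↦ y/(y − 1).) -/
theorem result
    (K : Type u) [Field K] (r : ℕ) (hr : 1 ≤ r)
    (A : Matrix.SpecialLinearGroup (Fin (r + 1)) K) :
    ∃ M : Matrix.SpecialLinearGroup (Fin (r + 1)) (Polynomial K),
      Matrix.SpecialLinearGroup.map (Polynomial.evalRingHom (0 : K)) M = 1 ∧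
      Matrix.SpecialLinearGroup.map (Polynomial.evalRingHom (1 : K)) M = A := by
  classical
  let G : Subgroup (Matrix.SpecialLinearGroup (Fin (r + 1)) K) :=
    { carrier := {A | ∃ M : Matrix.SpecialLinearGroup (Fin (r + 1)) (Polynomial K), Matrix.SpecialLinearGroup.map (Polynomial.evalRingHom (0 : K)) M = 1 ∧ Matrix.SpecialLinearGroup.map (Polynomial.evalRingHom (1 : K)) M = A}
      one_mem' := ⟨1, map_one _, map_one _⟩
      mul_mem' := by
        rintro _ _ ⟨M, hM, rfl⟩ ⟨N, hN, rfl⟩
        exact ⟨M * N, by rw [map_mul, hM, hN, one_mul], map_mul _ _ _⟩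
      inv_mem' := by
        rintro _ ⟨M, hM, rfl⟩
        exact ⟨M⁻¹, by rw [map_inv, hM, inv_one], map_inv _ _⟩ }
  let S : Set (Matrix (Fin (r + 1)) (Fin (r + 1)) K) := (fun A : Matrix.SpecialLinearGroup (Fin (r + 1)) K => (A : Matrix (Fin (r + 1)) (Fin (r + 1)) K)) '' (G : Set _)
  have hSmul : ∀ a ∈ S, ∀ b ∈ S, a * b ∈ S := by
    rintro _ ⟨a, ha, rfl⟩ _ ⟨b, hb, rfl⟩
    exact ⟨a * b, G.mul_mem ha hb, rfl⟩
  have htr : ∀ (i j : Fin (r + 1)) (_ : i ≠ j) (c : K), Matrix.transvection i j c ∈ S := by
    intro i j hij c
    refine ⟨⟨Matrix.transvection i j c, Matrix.det_transvection_of_ne i j hij c⟩,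
      ⟨⟨Matrix.transvection i j (Polynomial.C c * Polynomial.X), Matrix.det_transvection_of_ne i j hij _⟩, ?_, ?_⟩, rfl⟩
    · ext a b
      simp [Matrix.transvection, Matrix.one_apply, Matrix.single_apply, apply_ite (Polynomial.eval (0 : K))]
    · ext a b
      simp [Matrix.transvection, Matrix.one_apply, Matrix.single_apply, apply_ite (Polynomial.eval (1 : K))]
  have hlist : ∀ L : List (Matrix.TransvectionStruct (Fin (r + 1)) K), (L.map Matrix.TransvectionStruct.toMatrix).prod ∈ S := by
    intro L
    induction L with
    | nil => exact ⟨1, G.one_mem, rfl⟩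
    | cons t L ih => rw [List.map_cons, List.prod_cons]; exact hSmul _ (htr t.i t.j t.hij t.c) _ ih
  have hh : ∀ (i j : Fin (r + 1)) (_ : i ≠ j) (u : K), u ≠ 0 →
      Matrix.diagonal (fun a => if a = i then u else if a = j then u⁻¹ else 1) ∈ S := by
    intro i j hij u hu
    have e : Matrix.diagonal (fun a => if a = i then u else if a = j then u⁻¹ else 1) =
        Matrix.transvection i j u * Matrix.transvection j i (-u⁻¹) * Matrix.transvection i j u *
          (Matrix.transvection i j (-1 : K) * Matrix.transvection j i 1 * Matrix.transvection i j (-1)) := by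
      simp only [Matrix.transvection, mul_add, add_mul, one_mul, mul_one, Matrix.single_mul_single_same,
        Matrix.single_mul_single_of_ne, hij, hij.symm, ne_eq, not_false_eq_true, add_zero, zero_add, zero_mul, mul_zero]
      ext a b
      simp only [Matrix.add_apply, Matrix.single_apply, Matrix.diagonal_apply, Matrix.one_apply]
      by_cases hai : a = i <;> by_cases haj : a = j <;> by_cases hbi : b = i <;> by_cases hbj : b = j <;>
        subst_vars <;> simp_all [eq_comm] <;> ring
    rw [e]
    exact hSmul _ (hSmul _ (hSmul _ (htr i j hij u) _ (htr j i hij.symm _)) _ (htr i j hij u)) _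
      (hSmul _ (hSmul _ (htr i j hij _) _ (htr j i hij.symm _)) _ (htr i j hij _))
  obtain ⟨L, L', D, hA⟩ := Matrix.Pivot.exists_list_transvec_mul_diagonal_mul_list_transvec (A : Matrix (Fin (r + 1)) (Fin (r + 1)) K)
  have hD : ∏ a, D a = 1 := by
    have := congrArg Matrix.det hA
    rw [A.det_coe, Matrix.det_mul, Matrix.det_mul, Matrix.det_diagonal, Matrix.TransvectionStruct.det_toMatrix_prod,
      Matrix.TransvectionStruct.det_toMatrix_prod, one_mul, mul_one] at this
    exact this.symm
  have hD0 : ∀ a, D a ≠ 0 := fun a h0 => by
    rw [Finset.prod_eq_zero (Finset.mem_univ a) h0] at hD; exact zero_ne_one hD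
  have key : ∀ s : Finset (Fin r), Matrix.diagonal (Fin.snoc (fun a => if a ∈ s then D a.castSucc else 1) (∏ a ∈ s, (D a.castSucc)⁻¹)) ∈ S := by
    intro s
    induction s using Finset.induction_on with
    | empty => exact ⟨1, G.one_mem, by ext a b; induction a using Fin.lastCases <;> simp [Matrix.one_apply, Matrix.diagonal_apply]⟩
    | insert c s hc ih =>
      have := hSmul _ ih _ (hh c.castSucc (Fin.last r) (Fin.castSucc_lt_last c).ne (D c.castSucc) (hD0 _))
      rw [Matrix.diagonal_mul_diagonal] at this
      convert this using 2
      funext a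
      induction a using Fin.lastCases with
      | last => simp [(Fin.castSucc_lt_last c).ne', Finset.prod_insert hc, mul_comm]
      | cast a =>
        by_cases hac : a = c
        · subst hac; simp [hc]
        · simp [hac, (Fin.castSucc_lt_last a).ne]
  have hDS : Matrix.diagonal D ∈ S := by
    convert key Finset.univ using 2
    funext a
    induction a using Fin.lastCases with
    | last =>
      rw [Fin.prod_univ_castSucc] at hD
      simp [Finset.prod_inv_distrib]
      exact eq_inv_of_mul_eq_one_right hD
    | cast a => simp
  obtain ⟨B, hB, hBA⟩ : (A : Matrix (Fin (r + 1)) (Fin (r + 1)) K) ∈ S := hA ▸ hSmul _ (hSmul _ (hlist L) _ hDS) _ (hlist L')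
  rw [Subtype.ext hBA] at hB
  exact hB

end Groth.Agent.S15083
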