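import Groth.Statements.S15084
import Mathlib
import Mathlib
-- import your own Groth.Agent.* helpers here

set_option autoImplicit false
universe u
open MovLem

namespace Groth.Agent.S15084

/-- Let A be a Noetherian integrally closed domain with fraction field K, let B be a domain with
fraction field L, and let A → B be an injective ring homomorphism, with K → L the induced map of
fraction fields, such that Spec B → Spec A is surjective (every prime ideal of A is the contraction
of a prime ideal of B). If a ∈ K is such that its image in L lies in B, then a ∈ A. (The published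
statement: for a surjective morphism f : Y → X of normal integral separated schemes of finite type
over a perfect field and a Cartier divisor D on X, if f^*D is effective then D is effective; a
Cartier divisor is locally the divisor of a nonzero rational function a, effectivity of div(a) on a
normal scheme means that a is a regular function, and this row is that local statement, which is
what the published proof establishes.) -/
theorem result
    (A B K L : Type u) [CommRing A] [IsDomain A] [IsNoetherianRing A] [IsIntegrallyClosed A]
    [CommRing B] [IsDomain B] [Field K] [Field L]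
    [Algebra A B] [Algebra A K] [IsFractionRing A K] [Algebra B L] [IsFractionRing B L]
    [Algebra K L] [Algebra A L] [IsScalarTower A K L] [IsScalarTower A B L]
    (hinj : Function.Injective (algebraMap A B))
    (hsurj : ∀ p : Ideal A, p.IsPrime → ∃ q : Ideal B, q.IsPrime ∧ q.comap (algebraMap A B) = p)
    (a : K) (ha : algebraMap K L a ∈ (algebraMap B L).range) :
    a ∈ (algebraMap A K).range := by
  classical
  by_contra hA
  let colon : K → Ideal A := fun x =>
    { carrier := {t | algebraMap A K t * x ∈ (algebraMap A K).range}
      zero_mem' := ⟨0, by simp⟩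
      add_mem' := fun {s t} ⟨u, hu⟩ ⟨v, hv⟩ => ⟨u + v, by rw [map_add, hu, hv, map_add, add_mul]⟩
      smul_mem' := fun c t ⟨u, hu⟩ => ⟨c * u, by rw [map_mul, hu, smul_eq_mul, map_mul, mul_assoc]⟩ }
  let S : Set (Ideal A) := {J | ∃ c : A, algebraMap A K c * a ∉ (algebraMap A K).range ∧ J = colon (algebraMap A K c * a)}
  obtain ⟨P, ⟨c, hcA, rfl⟩, hmax⟩ := set_has_maximal_iff_noetherian.2 (inferInstance : IsNoetherian A A) S
    ⟨_, 1, by rwa [map_one, one_mul], rfl⟩
  set a' := algebraMap A K c * a
  have hprime : (colon a').IsPrime := by
    refine ⟨?_, fun {s t} hst => ?_⟩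
    · rw [Ideal.ne_top_iff_one]
      intro h
      apply hcA
      have : algebraMap A K 1 * a' ∈ (algebraMap A K).range := h
      rwa [map_one, one_mul] at this
    · by_contra hcon
      push_neg at hcon
      obtain ⟨hs, ht⟩ := hcon
      have hle : colon a' ≤ colon (algebraMap A K (s * c) * a) := fun u ⟨v, hv⟩ => ⟨s * v, by
        rw [map_mul, hv, map_mul]; simp only [a']; ring⟩
      have hnA : algebraMap A K (s * c) * a ∉ (algebraMap A K).range := by
        intro h; apply hs
        show algebraMap A K s * a' ∈ (algebraMap A K).range
        simpa [a', map_mul, mul_assoc] using h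
      refine hmax _ ⟨s * c, hnA, rfl⟩ (lt_of_le_of_ne hle fun he => ht (he ▸ ?_))
      show algebraMap A K t * (algebraMap A K (s * c) * a) ∈ (algebraMap A K).range
      have h' : algebraMap A K (s * t) * a' ∈ (algebraMap A K).range := hst
      rw [show algebraMap A K t * (algebraMap A K (s * c) * a) = algebraMap A K (s * t) * a' by simp only [a', map_mul]; ring]
      exact h'
  obtain ⟨t, w, ht, hw, hwP⟩ : ∃ t w : A, t ∈ colon a' ∧ algebraMap A K w = algebraMap A K t * a' ∧ w ∉ colon a' := by
    by_contra hcon
    push_neg at hcon
    obtain ⟨n, d, hd, hnd⟩ := IsFractionRing.div_surjective (A := A) a'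
    have hd0 : algebraMap A K d ≠ 0 := IsFractionRing.to_map_ne_zero_of_mem_nonZeroDivisors hd
    have hdP : d ∈ colon a' := ⟨n, by rw [← hnd, mul_div_cancel₀ _ hd0]⟩
    let N : Submodule A K := Submodule.map (Algebra.linearMap A K) (colon a')
    have hN : N ≠ ⊥ := fun h => hd0 ((Submodule.mem_bot A).1 (h.le ⟨d, hdP, rfl⟩))
    have hNfg : N.FG := (IsNoetherian.noetherian _).map _
    have hint : IsIntegral A a' := by
      refine isIntegral_of_smul_mem_submodule N hN hNfg a' ?_
      rintro _ ⟨u, hu, rfl⟩
      have hu' : u ∈ colon a' := hu
      obtain ⟨v, hv⟩ := hu'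
      refine ⟨v, hcon u v hu hv, ?_⟩
      show algebraMap A K v = a' • algebraMap A K u
      rw [hv, smul_eq_mul, mul_comm]
    exact hcA (IsIntegrallyClosed.isIntegral_iff.1 hint)
  obtain ⟨q, hq, hqP⟩ := hsurj _ hprime
  obtain ⟨b, hb⟩ := ha
  have hkey : algebraMap A B w = algebraMap A B t * (algebraMap A B c * b) := by
    apply IsFractionRing.injective B L
    simp only [map_mul, ← IsScalarTower.algebraMap_apply, hb]
    rw [IsScalarTower.algebraMap_apply A K L, hw]
    simp only [a', map_mul, ← IsScalarTower.algebraMap_apply]
  apply hwP
  rw [← hqP, Ideal.mem_comap, hkey]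
  exact q.mul_mem_right _ (show t ∈ q.comap (algebraMap A B) by rw [hqP]; exact ht)

end Groth.Agent.S15084
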