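import Groth.Statements.S15085
import Groth.Agent.S10830
import Groth.Agent.S9683

set_option autoImplicit false
set_option linter.style.haveILetI false
set_option backward.isDefEq.respectTransparency false
set_option backward.isDefEq.respectTransparency.types false

set_option autoImplicit false
universe u
open CategoryTheory CategoryTheory.Limits AlgebraicGeometry
open MovLem

namespace Groth.Agent.S15085

/-- Let k be a field, X an affine scheme of finite type over k which is equidimensional (all irreducible
components have the same dimension), B̂ a proper smooth geometrically integral k-scheme and B ⊆ B̂ a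
nonempty affine open subscheme. Let Z be an integral closed subscheme of X ×_k B of dimension dim X
(that is, of codimension dim B, the product X ×_k B being equidimensional of dimension dim X + dim
B). Then the projection Z → X is finite and maps Z onto an irreducible component of X if and only if
Z is closed in X ×_k B̂. (The published statement allows X to be essentially of finite type, i.e.
also a localization of such a scheme at finitely many points, takes B̂ projective of positive
dimension, and phrases the dimension condition as codimension dim B; this row is the finite-type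
case with properness in place of projectivity.) -/
theorem result
    {k : Type u} [Field k] {X Bhat Z : Scheme.{u}}
    (sX : X ⟶ Spec (CommRingCat.of k)) (sB : Bhat ⟶ Spec (CommRingCat.of k))
    [IsAffine X] [LocallyOfFiniteType sX]
    (hXeq : ∀ T ∈ irreducibleComponents (X : Type u), topologicalKrullDim T = topologicalKrullDim X)
    [IsProper sB] [Smooth sB] [GeometricallyIntegral sB]
    (B : Bhat.Opens) (hB : IsAffineOpen B) (hBne : (B : Set Bhat).Nonempty)
    [IsIntegral Z] (ι : Z ⟶ ((pullback.snd sX sB) ⁻¹ᵁ B).toScheme) [IsClosedImmersion ι]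
    (hZ : topologicalKrullDim Z = topologicalKrullDim X)
    (j : Z ⟶ pullback sX sB) (hj : j = ι ≫ ((pullback.snd sX sB) ⁻¹ᵁ B).ι) :
    (IsFinite (j ≫ pullback.fst sX sB) ∧
        Set.range (j ≫ pullback.fst sX sB).base ∈ irreducibleComponents (X : Type u)) ↔
      IsClosed (Set.range j.base) := by
  have hfin : topologicalKrullDim X ≠ ⊤ := by
    rw [IsHomeomorph.topologicalKrullDim_eq _ X.isoSpec.hom.homeomorph.isHomeomorph]
    erw [PrimeSpectrum.topologicalKrullDim_eq_ringKrullDim]
    let φ := (Scheme.ΓSpecIso (CommRingCat.of k)).inv ≫ sX.appTop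
    letI : Algebra k Γ(X, ⊤) := φ.hom.toAlgebra
    haveI : Algebra.FiniteType k Γ(X, ⊤) :=
      RingHom.FiniteType.comp (HasRingHomProperty.appTop @LocallyOfFiniteType sX inferInstance)
        (RingHom.FiniteType.of_surjective _
          (ConcreteCategory.bijective_of_isIso (Scheme.ΓSpecIso (CommRingCat.of k)).inv).2)
    obtain ⟨n, π, hπ⟩ := Algebra.FiniteType.iff_quotient_mvPolynomial''.1 ‹Algebra.FiniteType k Γ(X, ⊤)›
    refine (lt_of_le_of_lt ((ringKrullDim_le_of_surjective π.toRingHom hπ).trans
      MvPolynomial.ringKrullDim_of_isNoetherianRing.le) ?_).ne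
    rw [ringKrullDim_eq_zero_of_field, zero_add]
    exact WithBot.coe_lt_coe.2 (ENat.coe_lt_top _)
  haveI : IsAffineHom sX := isAffineHom_of_isAffine sX
  haveI : IsAffineHom (pullback.snd sX sB) := MorphismProperty.pullback_snd (P := @IsAffineHom) sX sB inferInstance
  have hU : IsAffineOpen ((pullback.snd sX sB) ⁻¹ᵁ B) := hB.preimage _
  haveI : IsAffine ((pullback.snd sX sB) ⁻¹ᵁ B).toScheme := hU
  haveI : IsAffine Z := isAffine_of_isAffineHom ι
  haveI : IsPreimmersion j := hj ▸ inferInstance
  constructor
  · rintro ⟨hf, -⟩
    haveI : UniversallyClosed (j ≫ pullback.fst sX sB) := inferInstance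
    haveI : UniversallyClosed j := UniversallyClosed.of_comp_of_isSeparated j (pullback.fst sX sB)
    exact j.isClosedMap.isClosed_range
  · intro hc
    haveI : IsClosedImmersion j := IsClosedImmersion.of_isPreimmersion j hc
    haveI : IsAffineHom (j ≫ pullback.fst sX sB) := isAffineHom_of_isAffine _
    haveI hfinite : IsFinite (j ≫ pullback.fst sX sB) :=
      IsFinite.iff_isProper_and_isAffineHom.2 ⟨inferInstance, inferInstance⟩
    refine ⟨hfinite, ?_⟩
    set p := j ≫ pullback.fst sX sB
    have hRc : IsClosed (Set.range p.base) := p.isClosedMap.isClosed_range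
    have hRi : IsIrreducible (Set.range p.base) := by
      rw [← Set.image_univ]
      exact (IrreducibleSpace.isIrreducible_univ _).image _ p.continuous.continuousOn
    obtain ⟨T, hT, hRT⟩ := exists_mem_irreducibleComponents_subset_of_isIrreducible _ hRi
    by_cases hEq : Set.range p.base = T
    · rwa [hEq]
    exfalso
    haveI : IrreducibleSpace ↥T := Subtype.irreducibleSpace hT.1
    let Y : Set ↥T := Subtype.val ⁻¹' Set.range p.base
    have hlt := Groth.Agent.S10830.result ↥T (hXeq T hT ▸ hfin) Y
      (hRc.preimage continuous_subtype_val) (fun h => hEq (hRT.antisymm fun t ht =>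
        show (⟨t, ht⟩ : ↥T) ∈ Y from h ▸ trivial))
    have h1 : topologicalKrullDim Z ≤ topologicalKrullDim ↥(Set.range p.base) := by
      haveI : IsIntegralHom (p.toImage ≫ p.imageι) := by rw [Scheme.Hom.toImage_imageι]; infer_instance
      haveI : IsIntegralHom p.toImage := IsIntegralHom.of_comp p.toImage p.imageι
      refine (Groth.Agent.S9683.result p.toImage).1.trans ?_
      have hr : ∀ y, p.imageι.base y ∈ Set.range p.base := fun y => by
        have : p.imageι.base y ∈ Set.range p.imageι.base := ⟨y, rfl⟩
        rwa [Scheme.IdealSheafData.range_subschemeι, Scheme.Hom.support_ker, hRc.closure_eq] at this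
      exact ((p.imageι.isEmbedding.codRestrict _ hr).isInducing).topologicalKrullDim_le
    have h2 : topologicalKrullDim ↥(Set.range p.base) ≤ topologicalKrullDim ↥Y :=
      Topology.IsInducing.topologicalKrullDim_le
        (f := fun r => (⟨⟨r.1, hRT r.2⟩, r.2⟩ : ↥Y))
        (((Topology.IsEmbedding.subtypeVal.codRestrict _ fun r => hRT r.2).codRestrict _ fun r => r.2).isInducing)
    exact (lt_irrefl (topologicalKrullDim X)) (((hZ ▸ h1).trans h2).trans_lt (hXeq T hT ▸ hlt))

end Groth.Agent.S15085
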