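import Groth.Statements.S15086
import Mathlib.FieldTheory.PrimitiveElement
import Mathlib.FieldTheory.Perfect
-- import your own Groth.Agent.* helpers here

set_option autoImplicit false
set_option maxHeartbeats 2000000
set_option backward.isDefEq.respectTransparency false
universe u
open CategoryTheory CategoryTheory.Limits AlgebraicGeometry
open MovLem

namespace Groth.Agent.S15086

open TensorProduct in
theorem natCard_primeSpectrum_tensor {k L K : Type u} [Field k] [Field L] [Field K] [Algebra k L]
    [Algebra k K] [Module.Finite k L] [Algebra.IsSeparable k L] [IsAlgClosed K] :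
    Nat.card (PrimeSpectrum (K ⊗[k] L)) = Module.finrank k L := by
  let Ψ : (L →ₐ[k] K) → (K ⊗[k] L →ₐ[K] K) := fun ψ =>
    Algebra.TensorProduct.lift (AlgHom.id K K) ψ (fun _ _ => Commute.all _ _)
  let F : (L →ₐ[k] K) → PrimeSpectrum (K ⊗[k] L) := fun ψ =>
    ⟨RingHom.ker (Ψ ψ).toRingHom, RingHom.ker_isPrime _⟩
  have hF : Function.Bijective F := by
    constructor
    · intro ψ φ h
      ext l
      have h1 : ((1 : K) ⊗ₜ[k] l - ψ l ⊗ₜ[k] (1 : L)) ∈ (F ψ).asIdeal := by
        change Ψ ψ _ = 0
        simp [Ψ]
      rw [h] at h1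
      replace h1 : Ψ φ ((1 : K) ⊗ₜ[k] l - ψ l ⊗ₜ[k] (1 : L)) = 0 := h1
      simp [Ψ, sub_eq_zero] at h1
      exact h1.symm
    · intro p
      have hb : Function.Bijective (algebraMap K ((K ⊗[k] L) ⧸ p.asIdeal)) :=
        IsAlgClosed.algebraMap_bijective_of_isIntegral
      let π : K ⊗[k] L →ₐ[K] K :=
        ((AlgEquiv.ofBijective (Algebra.ofId K _) hb).symm : _ →ₐ[K] K).comp
          (Ideal.Quotient.mkₐ K p.asIdeal)
      refine ⟨(π.restrictScalars k).comp Algebra.TensorProduct.includeRight, ?_⟩
      have hπ : Ψ ((π.restrictScalars k).comp Algebra.TensorProduct.includeRight) = π := by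
        refine Algebra.TensorProduct.ext (AlgHom.ext fun c => ?_) (AlgHom.ext fun l => ?_)
        · simp [Ψ]
          exact (π.commutes c).symm
        · simp [Ψ]
      ext1
      change RingHom.ker (Ψ _).toRingHom = p.asIdeal
      rw [hπ]
      ext z
      simp [π, RingHom.mem_ker, Ideal.Quotient.eq_zero_iff_mem]
  rw [← Nat.card_eq_of_bijective F hF, Nat.card_eq_fintype_card, AlgHom.card]

theorem encard_fibre {k : Type u} [Field k] [PerfectField k] {X : Scheme.{u}}
    (sX : X ⟶ Spec (CommRingCat.of k)) [LocallyOfFiniteType sX] (x : X) (hx : IsClosed ({x} : Set X))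
    (φ : CommRingCat.of k ⟶ X.residueField x) (hφ : Spec.map φ = X.fromSpecResidueField x ≫ sX)
    (K : Type u) [Field K] [Algebra k K] [IsAlgClosed K] :
    letI := φ.hom.toAlgebra
    Module.Finite k (X.residueField x) ∧
    ((pullback.fst sX (Spec.map (CommRingCat.ofHom (algebraMap k K)))) ⁻¹' {x}).encard =
      (Module.finrank k (X.residueField x) : ℕ∞) := by
  letI := φ.hom.toAlgebra
  haveI : IsClosedImmersion (X.fromSpecResidueField x) := isClosed_singleton_iff_isClosedImmersion.mp hx
  have hft : φ.hom.FiniteType := by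
    rw [← HasRingHomProperty.Spec_iff (P := @LocallyOfFiniteType), hφ]
    infer_instance
  haveI : Algebra.FiniteType k (X.residueField x) := hft
  haveI : Module.Finite k (X.residueField x) := finite_of_finite_type_of_isJacobsonRing _ _
  refine ⟨this, ?_⟩
  let i := Spec.map (CommRingCat.ofHom (algebraMap k K))
  let j := X.fromSpecResidueField x
  have hrange : Set.range (pullback.snd j (pullback.fst sX i)) = pullback.fst sX i ⁻¹' {x} := by
    rw [Scheme.Pullback.range_snd, Scheme.range_fromSpecResidueField]
  let e1 : pullback j (pullback.fst sX i) ≅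
      Spec (CommRingCat.of (TensorProduct k (X.residueField x) K)) :=
    pullbackRightPullbackFstIso sX i j ≪≫ pullback.congrHom hφ.symm rfl ≪≫
      pullbackSpecIso k (X.residueField x) K
  let e2 : TensorProduct k (X.residueField x) K ≃+* TensorProduct k K (X.residueField x) :=
    (Algebra.TensorProduct.comm k (X.residueField x) K).toRingEquiv
  let eq : ↥(pullback j (pullback.fst sX i)) ≃ PrimeSpectrum (TensorProduct k K (X.residueField x)) :=
    e1.hom.homeomorph.toEquiv.trans (PrimeSpectrum.comapEquiv e2).toEquiv
  haveI : Finite ↥(pullback j (pullback.fst sX i)) := by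
    apply Nat.finite_of_card_ne_zero
    rw [Nat.card_congr eq, natCard_primeSpectrum_tensor]
    exact Module.finrank_pos.ne'
  rw [← hrange, ← Set.image_univ,
    (pullback.snd j (pullback.fst sX i)).isEmbedding.injective.encard_image, Set.encard_univ,
    ENat.card_eq_coe_natCard, Nat.card_congr eq, natCard_primeSpectrum_tensor]


/-- Let k be an infinite perfect field with algebraic closure k̄, let φ : X → Y be a finite morphism of
k-schemes locally of finite type, let x be a closed point of X and y = φ(x). Let π_X : X_{k̄} → X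
and π_Y : Y_{k̄} → Y be the base-change projections and φ_{k̄} : X_{k̄} → Y_{k̄} the induced
morphism. Then the number of points of π_Y⁻¹(y) is at most the number of points of π_X⁻¹(x);
equality holds if and only if the residue field extension k(y) → k(x) is an isomorphism; and
equality holds whenever φ_{k̄} is injective on π_X⁻¹(x). (Cardinalities are taken in ℕ ∪ {∞}; both
fibres are in fact finite.) -/
theorem result
    {k : Type u} [Field k] [Infinite k] [PerfectField k] {X Y : Scheme.{u}}
    (sX : X ⟶ Spec (CommRingCat.of k)) (sY : Y ⟶ Spec (CommRingCat.of k))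
    [LocallyOfFiniteType sX] [LocallyOfFiniteType sY]
    (φ : X ⟶ Y) (hφ : φ ≫ sY = sX) [IsFinite φ]
    (i : Spec (CommRingCat.of (AlgebraicClosure k)) ⟶ Spec (CommRingCat.of k))
    (hi : i = Spec.map (CommRingCat.ofHom (algebraMap k (AlgebraicClosure k))))
    (φbar : pullback sX i ⟶ pullback sY i)
    (h1 : φbar ≫ pullback.fst sY i = pullback.fst sX i ≫ φ)
    (h2 : φbar ≫ pullback.snd sY i = pullback.snd sX i)
    (x : X) (hx : IsClosed ({x} : Set X)) :
    ((pullback.fst sY i).base ⁻¹' {φ.base x}).encard ≤ ((pullback.fst sX i).base ⁻¹' {x}).encard ∧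
      (((pullback.fst sY i).base ⁻¹' {φ.base x}).encard = ((pullback.fst sX i).base ⁻¹' {x}).encard ↔
          Function.Bijective (φ.residueFieldMap x).hom) ∧
      (Set.InjOn φbar.base ((pullback.fst sX i).base ⁻¹' {x}) →
        ((pullback.fst sY i).base ⁻¹' {φ.base x}).encard = ((pullback.fst sX i).base ⁻¹' {x}).encard) := by
  subst hi
  let y := φ x
  have hy : IsClosed ({y} : Set Y) := by
    have := φ.isClosedMap {x} hx
    rwa [Set.image_singleton] at this
  obtain ⟨φx, hφx⟩ : ∃ a : CommRingCat.of k ⟶ X.residueField x,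
      Spec.map a = X.fromSpecResidueField x ≫ sX := ⟨Spec.preimage _, Spec.map_preimage _⟩
  obtain ⟨φy, hφy⟩ : ∃ a : CommRingCat.of k ⟶ Y.residueField y,
      Spec.map a = Y.fromSpecResidueField y ≫ sY := ⟨Spec.preimage _, Spec.map_preimage _⟩
  obtain ⟨hfx, hcx⟩ := encard_fibre sX x hx φx hφx (AlgebraicClosure k)
  obtain ⟨hfy, hcy⟩ := encard_fibre sY y hy φy hφy (AlgebraicClosure k)
  letI := φx.hom.toAlgebra
  letI := φy.hom.toAlgebra
  have hcomp : φy ≫ φ.residueFieldMap x = φx := by
    apply Spec.map_injective
    rw [Spec.map_comp, hφy, hφx, φ.SpecMap_residueFieldMap_fromSpecResidueField_assoc x, hφ]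
  let L : Y.residueField y →ₗ[k] X.residueField x :=
    { toFun := (φ.residueFieldMap x).hom
      map_add' := map_add _
      map_smul' := fun c z => by
        rw [RingHom.id_apply, Algebra.smul_def, map_mul, Algebra.smul_def]
        exact congrArg (fun a => a.hom c * (φ.residueFieldMap x).hom z) hcomp }
  have hinj : Function.Injective L := (φ.residueFieldMap x).hom.injective
  haveI := hfx
  haveI := hfy
  have hle : Module.finrank k (Y.residueField y) ≤ Module.finrank k (X.residueField x) :=
    LinearMap.finrank_le_finrank_of_injective hinj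
  have hiff : Module.finrank k (Y.residueField y) = Module.finrank k (X.residueField x) ↔
      Function.Bijective (φ.residueFieldMap x).hom :=
    ⟨fun h => ⟨hinj, (LinearMap.injective_iff_surjective_of_finrank_eq_finrank h).mp hinj⟩,
      fun h => LinearEquiv.finrank_eq (LinearEquiv.ofBijective L h)⟩
  refine ⟨?_, ?_, fun hI => ?_⟩
  · rw [hcx, hcy]
    exact_mod_cast hle
  · rw [hcx, hcy, Nat.cast_inj, hiff]
  · refine le_antisymm (by rw [hcx, hcy]; exact_mod_cast hle) (Set.encard_le_encard_of_injOn (fun p hp => ?_) hI)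
    change pullback.fst sY _ (φbar p) = y
    rw [← Scheme.Hom.comp_apply, h1, Scheme.Hom.comp_apply]
    exact congrArg φ hp

end Groth.Agent.S15086
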