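import Groth.Statements.S15087
import Groth.Agent.EtaEtLib.Fibres
import Mathlib.RingTheory.Jacobson.Ring
import Mathlib.RingTheory.Ideal.GoingUp
-- import your own Groth.Agent.* helpers here

set_option autoImplicit false
universe u v w
open MovLem

namespace Groth.Agent.S15087

theorem dimLe_of_isIntegral (S R : Type*) [CommRing S] [CommRing R] [Algebra S R]
    [Algebra.IsIntegral S R] : ringKrullDim R ≤ ringKrullDim S := by
  refine Order.krullDim_le_of_strictMono
    (fun q => (⟨q.asIdeal.comap (algebraMap S R), Ideal.comap_isPrime _ _⟩ : PrimeSpectrum S)) ?_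
  intro q q' h
  obtain ⟨x, hx', hx⟩ := SetLike.exists_of_lt (show q.asIdeal < q'.asIdeal from h)
  exact Ideal.comap_lt_comap_of_integral_mem_sdiff (le_of_lt h) ⟨hx', hx⟩ (Algebra.IsIntegral.isIntegral x)

section
open MvPolynomial

variable {k : Type u} [Field k] {σ : Type} [Finite σ] {r : ℕ}

/-- the relation between the translation parameters -/
theorem exists_relation (J : Ideal (MvPolynomial σ k)) (hJ : ringKrullDim (MvPolynomial σ k ⧸ J) < (r : WithBot ℕ∞))
    (τ : σ) (xi : Fin r → σ) (N : ℕ) (hτ : J ⊔ Ideal.span {X τ} = ⊤)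
    (μ : Fin r → Polynomial k) (hμ : ∀ i, (μ i).Monic) :
    ∃ h : MvPolynomial (Fin r) k, h ≠ 0 ∧
      ∀ (L : Type w) [Field L] [Algebra k L] (pt : σ → L) (g : Fin r → L), (∀ q ∈ J, aeval pt q = 0) →
        (∀ i, Polynomial.aeval (pt (xi i) - pt τ ^ N * g i) (μ i) = 0) → aeval g h = 0 := by
  classical
  let inl : MvPolynomial σ k →ₐ[k] MvPolynomial (σ ⊕ Fin r) k := rename Sum.inl
  let rel : Fin r → MvPolynomial (σ ⊕ Fin r) k := fun i =>
    Polynomial.aeval (X (Sum.inl (xi i)) - X (Sum.inl τ) ^ N * X (Sum.inr i) : MvPolynomial (σ ⊕ Fin r) k) (μ i)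
  let J' : Ideal (MvPolynomial (σ ⊕ Fin r) k) := J.map inl ⊔ Ideal.span (Set.range rel)
  let ι : MvPolynomial σ k ⧸ J →+* MvPolynomial (σ ⊕ Fin r) k ⧸ J' :=
    Ideal.quotientMap J' inl.toRingHom (Ideal.map_le_iff_le_comap.1 le_sup_left)
  let mk : MvPolynomial (σ ⊕ Fin r) k →ₐ[k] MvPolynomial (σ ⊕ Fin r) k ⧸ J' := Ideal.Quotient.mkₐ k J'
  letI := ι.toAlgebra
  have hal : ∀ b, ι.IsIntegralElem (mk (inl b)) := fun b =>
    RingHom.isIntegralElem_map ι (x := Ideal.Quotient.mk J b)
  have hG : ∀ i, ι.IsIntegralElem (mk (X (Sum.inr i))) := fun i => by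
    have h1 : ι.IsIntegralElem (mk (X (Sum.inl (xi i)) - X (Sum.inl τ) ^ N * X (Sum.inr i))) := by
      refine ⟨(μ i).map (algebraMap k _), (hμ i).map _, ?_⟩
      have e : ι.comp (algebraMap k (MvPolynomial σ k ⧸ J)) = algebraMap k (MvPolynomial (σ ⊕ Fin r) k ⧸ J') :=
        RingHom.ext fun c => by
          show mk (inl (algebraMap k _ c)) = _
          rw [AlgHom.commutes, AlgHom.commutes]
      rw [Polynomial.eval₂_map, e, ← Polynomial.aeval_def, Polynomial.aeval_algHom_apply]
      exact Ideal.Quotient.eq_zero_iff_mem.2 (le_sup_right (a := J.map inl) (Ideal.subset_span ⟨i, rfl⟩))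
    obtain ⟨q, hq, hqτ⟩ : ∃ q, q - 1 ∈ J ∧ q ∈ Ideal.span {(X τ : MvPolynomial σ k)} := by
      obtain ⟨u, hu, v, hv, huv⟩ := Submodule.mem_sup.1 (hτ ▸ Submodule.mem_top (x := (1 : MvPolynomial σ k)))
      exact ⟨v, by rw [← huv, sub_add_cancel_right]; exact J.neg_mem hu, hv⟩
    obtain ⟨w, rfl⟩ := Ideal.mem_span_singleton'.1 hqτ
    have hw : mk (inl w) * mk (X (Sum.inl τ)) = 1 := by
      rw [← map_mul, ← sub_eq_zero, ← map_one mk, ← map_sub]
      refine Ideal.Quotient.eq_zero_iff_mem.2 (le_sup_left (b := Ideal.span (Set.range rel)) ?_)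
      simpa [inl] using Ideal.mem_map_of_mem inl hq
    have h2 : ι.IsIntegralElem (mk (inl (w ^ N)) * (mk (inl (X (xi i))) -
        mk (X (Sum.inl (xi i)) - X (Sum.inl τ) ^ N * X (Sum.inr i)))) :=
      RingHom.IsIntegralElem.mul ι (hal _) (RingHom.IsIntegralElem.sub ι (hal _) h1)
    convert h2 using 1
    rw [show inl (X (xi i)) = X (Sum.inl (xi i)) from rename_X _ _, ← map_sub, sub_sub_cancel, map_mul, ← mul_assoc,
      map_pow inl, map_pow mk, map_pow mk, ← mul_pow, hw, one_pow, one_mul]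
  haveI : Algebra.IsIntegral (MvPolynomial σ k ⧸ J) (MvPolynomial (σ ⊕ Fin r) k ⧸ J') := ⟨fun z => by
    obtain ⟨f, rfl⟩ := Ideal.Quotient.mk_surjective z
    show ι.IsIntegralElem (mk f)
    induction f using MvPolynomial.induction_on with
    | C c =>
      rw [show (C c : MvPolynomial (σ ⊕ Fin r) k) = inl (C c) from (rename_C _ _).symm]
      exact hal _
    | add a b ha hb => rw [map_add]; exact RingHom.IsIntegralElem.add ι ha hb
    | mul_X a j ha =>
      rw [map_mul]
      refine RingHom.IsIntegralElem.mul ι ha ?_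
      rcases j with j | j
      · rw [show (X (Sum.inl j) : MvPolynomial (σ ⊕ Fin r) k) = inl (X j) from (rename_X _ _).symm]
        exact hal _
      · exact hG j⟩
  haveI : Algebra.FiniteType k (MvPolynomial (σ ⊕ Fin r) k ⧸ J') :=
    Algebra.FiniteType.of_surjective mk Ideal.Quotient.mk_surjective
  have hinj : ¬ Function.Injective (aeval (fun i => mk (X (Sum.inr i))) : MvPolynomial (Fin r) k →ₐ[k] _) :=
    fun h => ((EtaEtLib.le_ringKrullDim_of_injective _ h).trans
      (dimLe_of_isIntegral (MvPolynomial σ k ⧸ J) _)).not_gt hJ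
  rw [injective_iff_map_eq_zero] at hinj
  push Not at hinj
  obtain ⟨h, hh, hh0⟩ := hinj
  refine ⟨h, hh0, fun L _ _ pt g hpt hrel => ?_⟩
  let Φ : MvPolynomial (σ ⊕ Fin r) k →ₐ[k] L := aeval (Sum.elim pt g)
  have hle : J' ≤ RingHom.ker Φ := by
    refine sup_le (Ideal.map_le_iff_le_comap.2 fun q hq => ?_) (Ideal.span_le.2 ?_)
    · simpa [Φ, inl, aeval_rename, Function.comp_def] using hpt q hq
    · rintro _ ⟨i, rfl⟩
      show Φ (rel i) = 0
      rw [← Polynomial.aeval_algHom_apply]
      simpa [Φ] using hrel i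
  have h3 : h.rename Sum.inr ∈ J' := by
    refine Ideal.Quotient.eq_zero_iff_mem.1 ?_
    show mk (h.rename Sum.inr) = 0
    have e : mk.comp (rename Sum.inr) = aeval (fun i => mk (X (Sum.inr i))) := algHom_ext fun i => by simp
    exact (DFunLike.congr_fun e h).trans hh
  simpa [Φ, aeval_rename, Function.comp_def] using hle h3

end

/-- Let k be an infinite perfect field, r, m, s ≥ 1 and d ≥ 0, and put N = s(m+1). In affine space with
coordinates x_1, …, x_r, t, y_1, …, y_d (the cube of dimension d taken as affine d-space with faces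
given by setting some coordinates equal to 0 or 1), let Z = V(I) be an integral closed subscheme of
dimension r which does not meet the hyperplane t = 0 and which meets every face {y_i = ε_i for i ∈
S} (S nonempty, ε_i ∈ {0, 1}) in dimension at most r − |S|. Let Σ be a finite set of closed points
of affine r-space over k. Then there is a nonzero polynomial h in k[g_1, …, g_r] such that for every
field K over k and every g ∈ K^r with h(g) ≠ 0, the translate of Z_K by x ↦ x + t^N g meets no set
{x ∈ Σ} × A^1 × F with F a proper face: for every field L over K, every point ξ of affine r-space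
over L lying on a point of Σ, every t ∈ L and every y ∈ L^d lying on a proper face, the point (ξ +
t^N g, t, y) is not a zero of I. (The published statement assumes that Z is an irreducible
admissible additive cycle meeting the faces through Σ properly; the two consequences of
admissibility that its proof uses — Z misses t = 0, and Z meets all faces properly — are the
hypotheses here, and the dense open subset of affine r-space is given as the locus h ≠ 0.) -/
theorem result
    {k : Type u} [Field k] [Infinite k] [PerfectField k] (r m s d : ℕ) (hr : 1 ≤ r) (hm : 1 ≤ m) (hs : 1 ≤ s)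
    (I : Ideal (MvPolynomial (Fin r ⊕ (Unit ⊕ Fin d)) k)) (hI : I.IsPrime)
    (hdim : ringKrullDim (MvPolynomial (Fin r ⊕ (Unit ⊕ Fin d)) k ⧸ I) = r)
    (ht0 : I ⊔ Ideal.span {MvPolynomial.X (Sum.inr (Sum.inl ()))} = ⊤)
    (hface : ∀ (S : Finset (Fin d)), S.Nonempty → ∀ (ε : Fin d → k), (∀ i, ε i = 0 ∨ ε i = 1) →
      ringKrullDim (MvPolynomial (Fin r ⊕ (Unit ⊕ Fin d)) k ⧸
        (I ⊔ Ideal.span ((fun i => MvPolynomial.X (Sum.inr (Sum.inr i)) - MvPolynomial.C (ε i)) '' (S : Set (Fin d))))) ≤ (r - S.card : ℕ))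
    (Sigma : Finset (Ideal (MvPolynomial (Fin r) k))) (hSigma : ∀ P ∈ Sigma, P.IsMaximal) :
    ∃ h : MvPolynomial (Fin r) k, h ≠ 0 ∧
      ∀ (K : Type v) [Field K] [Algebra k K] (g : Fin r → K), MvPolynomial.aeval g h ≠ 0 →
        ∀ (L : Type w) [Field L] [Algebra k L] [Algebra K L] [IsScalarTower k K L]
          (ξ : Fin r → L) (t : L) (y : Fin d → L),
          ∀ P ∈ Sigma, (∀ p ∈ P, MvPolynomial.aeval ξ p = 0) →
            ∀ (S : Finset (Fin d)), S.Nonempty → ∀ (ε : Fin d → k), (∀ i, ε i = 0 ∨ ε i = 1) →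
              (∀ i ∈ S, y i = algebraMap k L (ε i)) →
                ¬ (∀ q ∈ I, MvPolynomial.aeval
                    (Sum.elim (fun i => ξ i + t ^ (s * (m + 1)) * algebraMap K L (g i))
                      (Sum.elim (fun _ : Unit => t) y)) q = 0) := by
  classical
  let τ : Fin r ⊕ (Unit ⊕ Fin d) := Sum.inr (Sum.inl ())
  have hμ : ∀ (P : Ideal (MvPolynomial (Fin r) k)) (i : Fin r), ∃ μ : Polynomial k, μ.Monic ∧
      (P ∈ Sigma → Polynomial.aeval (MvPolynomial.X i : MvPolynomial (Fin r) k) μ ∈ P) := fun P i => by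
    by_cases hP : P ∈ Sigma
    · haveI := hSigma P hP
      letI : Field (MvPolynomial (Fin r) k ⧸ P) := Ideal.Quotient.field P
      haveI : Module.Finite k (MvPolynomial (Fin r) k ⧸ P) := finite_of_finite_type_of_isJacobsonRing k _
      refine ⟨minpoly k (Ideal.Quotient.mk P (MvPolynomial.X i)),
        minpoly.monic (Algebra.IsIntegral.isIntegral _), fun _ => Ideal.Quotient.eq_zero_iff_mem.1 ?_⟩
      exact ((Polynomial.aeval_algHom_apply (Ideal.Quotient.mkₐ k P) _ _).symm.trans (minpoly.aeval _ _))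
    · exact ⟨1, Polynomial.monic_one, fun h => absurd h hP⟩
  choose μ hμm hμP using hμ
  let ee : Finset (Fin d) → Fin d → k := fun T i => if i ∈ T then 1 else 0
  have hrel : ∀ (P : Ideal (MvPolynomial (Fin r) k)) (S T : Finset (Fin d)), ∃ h : MvPolynomial (Fin r) k, h ≠ 0 ∧
      (S.Nonempty → ∀ (L : Type w) [Field L] [Algebra k L] (pt : Fin r ⊕ (Unit ⊕ Fin d) → L) (g : Fin r → L),
        (∀ q ∈ I, MvPolynomial.aeval pt q = 0) → (∀ i ∈ S, pt (Sum.inr (Sum.inr i)) = algebraMap k L (ee T i)) →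
        (∀ i, Polynomial.aeval (pt (Sum.inl i) - pt τ ^ (s * (m + 1)) * g i) (μ P i) = 0) →
        MvPolynomial.aeval g h = 0) := fun P S T => by
    by_cases hS : S.Nonempty
    · have hd := hface S hS (ee T) fun i => by by_cases h : i ∈ T <;> simp [ee, h]
      have hlt : ((r - S.card : ℕ) : WithBot ℕ∞) < (r : WithBot ℕ∞) := by
        have := hS.card_pos
        exact_mod_cast (show r - S.card < r by omega)
      obtain ⟨h, h0, hh⟩ := exists_relation.{u, w} _ (hd.trans_lt hlt) τ Sum.inl (s * (m + 1))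
        (top_le_iff.1 (ht0.symm.le.trans (sup_le_sup_right le_sup_left _))) (μ P) (hμm P)
      refine ⟨h, h0, fun _ L _ _ pt g hI' hy hg => hh L pt g (fun q hq => ?_) hg⟩
      have hle : I ⊔ Ideal.span ((fun i => MvPolynomial.X (Sum.inr (Sum.inr i)) - MvPolynomial.C (ee T i)) ''
          (S : Set (Fin d))) ≤ RingHom.ker (MvPolynomial.aeval (R := k) pt) :=
        sup_le (fun q hq => hI' q hq) (Ideal.span_le.2 (by
          rintro _ ⟨i, hi, rfl⟩
          simp [hy i hi]))
      exact hle hq
    · exact ⟨1, one_ne_zero, fun h => absurd h hS⟩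
  choose H hH0 hH using hrel
  refine ⟨∏ P ∈ Sigma, ∏ S : Finset (Fin d), ∏ T : Finset (Fin d), H P S T,
    Finset.prod_ne_zero_iff.2 fun P _ => Finset.prod_ne_zero_iff.2 fun S _ =>
      Finset.prod_ne_zero_iff.2 fun T _ => hH0 P S T, ?_⟩
  intro K _ _ g hg L _ _ _ _ ξ t y P hP hξ S hS ε hε hy hzero
  simp only [map_prod, Finset.prod_ne_zero_iff] at hg
  let T : Finset (Fin d) := Finset.univ.filter fun i => ε i = 1
  have hT : ∀ i, ee T i = ε i := fun i => by
    rcases hε i with h | h <;> simp [ee, T, h]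
  refine hg P hP S (Finset.mem_univ _) T (Finset.mem_univ _) ((algebraMap K L).injective ?_)
  rw [map_zero, ← MvPolynomial.aeval_algebraMap_apply]
  refine hH P S T hS L (Sum.elim (fun i => ξ i + t ^ (s * (m + 1)) * algebraMap K L (g i))
    (Sum.elim (fun _ : Unit => t) y)) _ hzero (fun i hi => by simp [hy i hi, hT]) fun i => ?_
  simp only [τ, Sum.elim_inl, Sum.elim_inr, Function.comp_apply, add_sub_cancel_right]
  have := hξ _ (hμP P i hP)
  rwa [← Polynomial.aeval_algHom_apply, MvPolynomial.aeval_X] at this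

end Groth.Agent.S15087
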