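import Groth.Statements.S15088
import Mathlib.RingTheory.Ideal.GoingUp
import Mathlib.RingTheory.Jacobson.Ring
import Mathlib.FieldTheory.IsAlgClosed.AlgebraicClosure
import Mathlib.RingTheory.Algebraic.Integral
-- import your own Groth.Agent.* helpers here

set_option autoImplicit false
universe u v
open MovLem

namespace Groth.Agent.S15088

/-- Let k be an infinite perfect field, r, m, s ≥ 1 and d ≥ 0, and put N = s(m+1). In affine space with
coordinates x_1, …, x_r, t, y_1, …, y_d let Z = V(I) be an integral closed subscheme of dimension r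
which does not meet t = 0 and such that neither the projection of Z to the x-coordinates nor its
projection to the t-line is dominant (I contains a nonzero polynomial in the x's alone and a nonzero
polynomial in t alone). Let Σ be a finite set of closed points of affine r-space over k. Then there
is a nonzero polynomial h in k[g_1, …, g_r] such that for every field K over k and every g ∈ K^r
with h(g) ≠ 0 the translate Z_g = {(x, t, y) : (x + t^N g, t, y) ∈ Z_K} of Z_K is empty over an open
neighbourhood of the points of affine r-space over K lying over Σ: the closure of the image of Z_g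
in affine r-space over K (the zero set of the contraction to K[x_1, …, x_r] of the ideal of Z_g)
contains no point lying over a point of Σ. (The published statement assumes that Z is an irreducible
admissible additive cycle meeting the faces through Σ properly; of this its proof uses only that Z
misses t = 0, which is a hypothesis here, and the dense open subset of affine r-space is given as
the locus h ≠ 0.) -/
theorem result
    {k : Type u} [Field k] [Infinite k] [PerfectField k] (r m s d : ℕ) (hr : 1 ≤ r) (hm : 1 ≤ m) (hs : 1 ≤ s)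
    (I : Ideal (MvPolynomial (Fin r ⊕ (Unit ⊕ Fin d)) k)) (hI : I.IsPrime)
    (hdim : ringKrullDim (MvPolynomial (Fin r ⊕ (Unit ⊕ Fin d)) k ⧸ I) = r)
    (ht0 : I ⊔ Ideal.span {MvPolynomial.X (Sum.inr (Sum.inl ()))} = ⊤)
    (hx : Ideal.comap (MvPolynomial.rename (Sum.inl : Fin r → Fin r ⊕ (Unit ⊕ Fin d)) :
        MvPolynomial (Fin r) k →ₐ[k] MvPolynomial (Fin r ⊕ (Unit ⊕ Fin d)) k) I ≠ ⊥)
    (ht : Ideal.comap (MvPolynomial.rename (fun _ : Unit => (Sum.inr (Sum.inl ()) : Fin r ⊕ (Unit ⊕ Fin d))) :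
        MvPolynomial Unit k →ₐ[k] MvPolynomial (Fin r ⊕ (Unit ⊕ Fin d)) k) I ≠ ⊥)
    (Sigma : Finset (Ideal (MvPolynomial (Fin r) k))) (hSigma : ∀ P ∈ Sigma, P.IsMaximal) :
    ∃ h : MvPolynomial (Fin r) k, h ≠ 0 ∧
      ∀ (K : Type v) [Field K] [Algebra k K] (g : Fin r → K), MvPolynomial.aeval g h ≠ 0 →
        ∀ P ∈ Sigma,
          Ideal.comap (MvPolynomial.rename (Sum.inl : Fin r → Fin r ⊕ (Unit ⊕ Fin d)) :
              MvPolynomial (Fin r) K →ₐ[K] MvPolynomial (Fin r ⊕ (Unit ⊕ Fin d)) K)
            (Ideal.map (MvPolynomial.aeval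
                (Sum.elim (fun i : Fin r => MvPolynomial.X (Sum.inl i) +
                    MvPolynomial.X (Sum.inr (Sum.inl ())) ^ (s * (m + 1)) * MvPolynomial.C (g i))
                  (fun j : Unit ⊕ Fin d => MvPolynomial.X (Sum.inr j))) :
                MvPolynomial (Fin r ⊕ (Unit ⊕ Fin d)) k →ₐ[k] MvPolynomial (Fin r ⊕ (Unit ⊕ Fin d)) K) I) ⊔
            Ideal.map (MvPolynomial.map (algebraMap k K) : MvPolynomial (Fin r) k →+* MvPolynomial (Fin r) K) P = ⊤ := by
  classical
  obtain ⟨p, hpI, hp0⟩ := Submodule.exists_mem_ne_zero_of_ne_bot hx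
  obtain ⟨u0, huI, hu0⟩ := Submodule.exists_mem_ne_zero_of_ne_bot ht
  let σv := Fin r ⊕ (Unit ⊕ Fin d)
  let τ : σv := Sum.inr (Sum.inl ())
  let q0 : Polynomial k := MvPolynomial.uniqueAlgEquiv k Unit u0
  have hq0 : q0 ≠ 0 := fun h => hu0 ((MvPolynomial.uniqueAlgEquiv k Unit).injective (h.trans (map_zero _).symm))
  have hq0I : Polynomial.aeval (MvPolynomial.X τ : MvPolynomial σv k) q0 ∈ I := by
    have e : (Polynomial.aeval (MvPolynomial.X τ : MvPolynomial σv k)).comp
        (MvPolynomial.uniqueAlgEquiv k Unit).toAlgHom = MvPolynomial.rename (fun _ : Unit => τ) :=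
      MvPolynomial.algHom_ext fun i => by simp
    exact (congrArg (· ∈ I) (DFunLike.congr_fun e u0)).mpr huI
  obtain ⟨q1, hq1, hndvd⟩ := Polynomial.exists_eq_pow_rootMultiplicity_mul_and_not_dvd q0 hq0 0
  have hτI : (MvPolynomial.X τ : MvPolynomial σv k) ∉ I := fun h => hI.ne_top (by
    rw [← ht0]; exact (sup_eq_left.2 ((Ideal.span_singleton_le_iff_mem _).2 h)).symm)
  have hq1I : Polynomial.aeval (MvPolynomial.X τ : MvPolynomial σv k) q1 ∈ I := by
    rw [hq1, map_mul] at hq0I
    refine (hI.mem_or_mem hq0I).resolve_left fun h => hτI (hI.mem_of_pow_mem (Polynomial.rootMultiplicity 0 q0) ?_)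
    simpa using h
  have hq10 : q1 ≠ 0 := fun h => hndvd (h ▸ dvd_zero _)
  let q : Polynomial k := q1 * Polynomial.C q1.leadingCoeff⁻¹
  have hqm : q.Monic := Polynomial.monic_mul_leadingCoeff_inv hq10
  have hqI : Polynomial.aeval (MvPolynomial.X τ : MvPolynomial σv k) q ∈ I := by
    rw [map_mul]; exact Ideal.mul_mem_right _ _ hq1I
  have hq_zero : q.eval 0 ≠ 0 := by
    have h1 : q1.eval 0 ≠ 0 := fun h => hndvd (Polynomial.dvd_iff_isRoot.2 h)
    simp [q, h1, Polynomial.leadingCoeff_eq_zero, hq10]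
  let kb := AlgebraicClosure k
  let N := s * (m + 1)
  have hμ : ∀ (P : Ideal (MvPolynomial (Fin r) k)) (i : Fin r), ∃ μ : Polynomial k,
      (P ∈ Sigma → μ ≠ 0 ∧ Polynomial.aeval (MvPolynomial.X i : MvPolynomial (Fin r) k) μ ∈ P) := fun P i => by
    by_cases hP : P ∈ Sigma
    · haveI := hSigma P hP
      letI : Field (MvPolynomial (Fin r) k ⧸ P) := Ideal.Quotient.field P
      haveI : Module.Finite k (MvPolynomial (Fin r) k ⧸ P) := finite_of_finite_type_of_isJacobsonRing k _
      refine ⟨minpoly k (Ideal.Quotient.mk P (MvPolynomial.X i)), fun _ =>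
        ⟨minpoly.ne_zero (Algebra.IsIntegral.isIntegral _), Ideal.Quotient.eq_zero_iff_mem.1 ?_⟩⟩
      exact ((Polynomial.aeval_algHom_apply (Ideal.Quotient.mkₐ k P) _ _).symm.trans (minpoly.aeval _ _))
    · exact ⟨0, fun h => absurd h hP⟩
  choose μ hμ using hμ
  let idx : Finset ((Fin r → kb) × kb) :=
    (Sigma.biUnion fun P => Fintype.piFinset fun i => ((μ P i).aroots kb).toFinset) ×ˢ (q.aroots kb).toFinset
  let fac : (Fin r → kb) × kb → MvPolynomial (Fin r) kb := fun z =>
    MvPolynomial.aeval (fun i => MvPolynomial.C (z.1 i) + MvPolynomial.C (z.2 ^ N) * MvPolynomial.X i) p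
  let H : MvPolynomial (Fin r) kb := ∏ z ∈ idx, fac z
  have hH : H ≠ 0 := Finset.prod_ne_zero_iff.2 fun z hz h => by
    have hz2 : z.2 ^ N ≠ 0 := pow_ne_zero _ fun h0 => by
      have hr := (Polynomial.mem_aroots'.1 (Multiset.mem_toFinset.1 (Finset.mem_product.1 hz).2)).2
      rw [h0, Polynomial.aeval_def, Polynomial.eval₂_at_zero] at hr
      exact hq_zero ((Polynomial.coeff_zero_eq_eval_zero q).symm.trans
        ((algebraMap k kb).injective (hr.trans (map_zero _).symm)))
    let inv : MvPolynomial (Fin r) kb →ₐ[k] MvPolynomial (Fin r) kb :=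
      (MvPolynomial.aeval (fun i => MvPolynomial.C (z.2 ^ N)⁻¹ * (MvPolynomial.X i - MvPolynomial.C (z.1 i))) :
        MvPolynomial (Fin r) kb →ₐ[kb] MvPolynomial (Fin r) kb).restrictScalars k
    have e : inv.comp (MvPolynomial.aeval
        (fun i => MvPolynomial.C (z.1 i) + MvPolynomial.C (z.2 ^ N) * MvPolynomial.X i)) =
        (MvPolynomial.aeval (fun i => (MvPolynomial.X i : MvPolynomial (Fin r) kb)) :
          MvPolynomial (Fin r) k →ₐ[k] MvPolynomial (Fin r) kb) := MvPolynomial.algHom_ext fun i => by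
      simp only [AlgHom.comp_apply, MvPolynomial.aeval_X, inv, AlgHom.restrictScalars_apply, map_add, map_mul,
        MvPolynomial.aeval_C]
      simp only [MvPolynomial.algebraMap_eq]
      rw [← mul_assoc, ← map_mul, mul_inv_cancel₀ hz2, map_one, one_mul, add_sub_cancel]
    have h1 := DFunLike.congr_fun e p
    rw [AlgHom.comp_apply, show MvPolynomial.aeval
        (fun i => MvPolynomial.C (z.1 i) + MvPolynomial.C (z.2 ^ N) * MvPolynomial.X i) p = 0 from h, map_zero] at h1
    exact hp0 (MvPolynomial.map_injective _ (algebraMap k kb).injective (by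
      rw [map_zero]
      have e2 : (MvPolynomial.aeval (fun i => (MvPolynomial.X i : MvPolynomial (Fin r) kb)) :
          MvPolynomial (Fin r) k →ₐ[k] MvPolynomial (Fin r) kb).toRingHom = MvPolynomial.map (algebraMap k kb) :=
        MvPolynomial.ringHom_ext (fun c => by simp) (fun i => by simp)
      exact (RingHom.congr_fun e2 p).symm.trans h1.symm))
  letI : Algebra (MvPolynomial (Fin r) k) (MvPolynomial (Fin r) kb) :=
    (MvPolynomial.map (algebraMap k kb)).toAlgebra
  haveI : Algebra.IsIntegral (MvPolynomial (Fin r) k) (MvPolynomial (Fin r) kb) := ⟨fun f => by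
    induction f using MvPolynomial.induction_on with
    | C c =>
      have hc : IsIntegral k c := Algebra.IsIntegral.isIntegral c
      exact hc.map_of_comp_eq
        (MvPolynomial.C : k →+* MvPolynomial (Fin r) k) (MvPolynomial.C : kb →+* MvPolynomial (Fin r) kb)
        (RingHom.ext fun a => by simp [RingHom.algebraMap_toAlgebra])
    | add a b ha hb => exact ha.add hb
    | mul_X a i ha =>
      refine ha.mul ?_
      have : (MvPolynomial.X i : MvPolynomial (Fin r) kb) =
          algebraMap (MvPolynomial (Fin r) k) (MvPolynomial (Fin r) kb) (MvPolynomial.X i) := by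
        simp [RingHom.algebraMap_toAlgebra]
      rw [this]; exact isIntegral_algebraMap⟩
  obtain ⟨h, hh0, hdvd⟩ := IsAlgebraic.exists_nonzero_dvd
    ((Algebra.IsIntegral.isIntegral H).isAlgebraic : IsAlgebraic (MvPolynomial (Fin r) k) H)
    (mem_nonZeroDivisors_of_ne_zero hH)
  refine ⟨h, hh0, fun K _ _ g hg P hP => ?_⟩
  by_contra hne
  obtain ⟨mm, hmm, hle⟩ := Ideal.exists_le_maximal _ hne
  obtain ⟨hle1, hle2⟩ := sup_le_iff.1 hle
  let A := MvPolynomial (Fin r) K
  let B := MvPolynomial σv K
  let ψ : MvPolynomial σv k →ₐ[k] B := MvPolynomial.aeval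
    (Sum.elim (fun i : Fin r => MvPolynomial.X (Sum.inl i) + MvPolynomial.X τ ^ N * MvPolynomial.C (g i))
      (fun j : Unit ⊕ Fin d => MvPolynomial.X (Sum.inr j)))
  let φ : Polynomial A →+* B := Polynomial.eval₂RingHom (MvPolynomial.rename Sum.inl : A →ₐ[K] B).toRingHom (MvPolynomial.X τ)
  let pp : Polynomial A := MvPolynomial.aeval
    (fun i => Polynomial.C (MvPolynomial.X i) + Polynomial.X ^ N * Polynomial.C (MvPolynomial.C (g i))) p
  let q' : Polynomial A := q.map (algebraMap k A)
  let φa : Polynomial A →ₐ[k] B := { φ with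
    commutes' := fun a => by
      show φ (Polynomial.C (algebraMap k A a)) = _
      simp [φ, IsScalarTower.algebraMap_apply k K A, IsScalarTower.algebraMap_apply k K B, A, B, MvPolynomial.algebraMap_eq] }
  have hpp : φ pp ∈ Ideal.map ψ I := by
    have e : φa.comp (MvPolynomial.aeval (fun i => Polynomial.C (MvPolynomial.X i) +
        Polynomial.X ^ N * Polynomial.C (MvPolynomial.C (g i)))) = ψ.comp (MvPolynomial.rename Sum.inl) :=
      MvPolynomial.algHom_ext fun i => by
        simp [φa, φ, ψ]
        erw [MvPolynomial.rename_X, MvPolynomial.rename_C]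
        ring
    exact (congrArg (· ∈ Ideal.map ψ I) (DFunLike.congr_fun e p)).mpr (Ideal.mem_map_of_mem ψ hpI)
  have hqq : φ q' ∈ Ideal.map ψ I := by
    have e : φ q' = ψ (Polynomial.aeval (MvPolynomial.X τ) q) := by
      show φa q' = _
      rw [← Polynomial.aeval_algHom_apply, show q' = Polynomial.aeval (Polynomial.X : Polynomial A) q from
        (Polynomial.aeval_X_left_eq_map q).symm, ← Polynomial.aeval_algHom_apply]
      congr 2
      simp [φa, φ, ψ, τ]
    rw [e]; exact Ideal.mem_map_of_mem ψ hqI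
  let J : Ideal (Polynomial A) := Ideal.span {q', pp}
  haveI : Algebra.IsIntegral A (Polynomial A ⧸ J) := ⟨fun z => by
    obtain ⟨f, rfl⟩ := Ideal.Quotient.mk_surjective z
    have hX : IsIntegral A (Ideal.Quotient.mk J Polynomial.X) := ⟨q', hqm.map _, by
      rw [← Polynomial.aeval_def, show Ideal.Quotient.mk J Polynomial.X = Ideal.Quotient.mkₐ A J Polynomial.X from rfl,
        Polynomial.aeval_algHom_apply, Polynomial.aeval_X_left_apply]
      exact Ideal.Quotient.eq_zero_iff_mem.2 (Ideal.subset_span (by simp))⟩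
    induction f using Polynomial.induction_on with
    | C a => exact isIntegral_algebraMap
    | add a b ha hb =>
      rw [map_add]
      exact RingHom.IsIntegralElem.add (algebraMap A (Polynomial A ⧸ J)) ha hb
    | monomial n a ha =>
      rw [pow_succ, ← mul_assoc, map_mul]
      exact RingHom.IsIntegralElem.mul (algebraMap A (Polynomial A ⧸ J)) ha hX⟩
  obtain ⟨Q, -, hQ, hQm⟩ := Ideal.exists_ideal_over_prime_of_isIntegral (R := A) (S := Polynomial A ⧸ J) mm ⊥ (fun a ha => by
    refine hle1 ?_
    have ha' : Polynomial.C a ∈ J := Ideal.Quotient.eq_zero_iff_mem.1 (Ideal.mem_bot.1 (Ideal.mem_comap.1 ha))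
    have hJ : J ≤ Ideal.comap φ (Ideal.map ψ I) := Ideal.span_le.2 (by
      rintro x (rfl | rfl)
      exacts [hqq, hpp])
    have h1 := hJ ha'
    rw [Ideal.mem_comap] at h1 ⊢
    simpa [φ] using h1)
  let R := (Polynomial A ⧸ J) ⧸ Q
  let Ω := AlgebraicClosure (FractionRing R)
  let θ : Polynomial A →ₐ[k] Ω := ((IsScalarTower.toAlgHom k R Ω).comp (Ideal.Quotient.mkₐ k Q)).comp
    (Ideal.Quotient.mkₐ k J)
  have hθJ : ∀ f ∈ J, θ f = 0 := fun f hf => by
    show (IsScalarTower.toAlgHom k R Ω) (Ideal.Quotient.mkₐ k Q (Ideal.Quotient.mkₐ k J f)) = 0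
    rw [show Ideal.Quotient.mkₐ k J f = 0 from Ideal.Quotient.eq_zero_iff_mem.2 hf, map_zero, map_zero]
  let θA : A →ₐ[k] Ω := θ.comp (IsScalarTower.toAlgHom k A (Polynomial A))
  have hθm : ∀ a ∈ mm, θA a = 0 := fun a ha => by
    rw [← hQm] at ha
    show (IsScalarTower.toAlgHom k R Ω) (Ideal.Quotient.mk Q (Ideal.Quotient.mk J (Polynomial.C a))) = 0
    rw [Ideal.Quotient.eq_zero_iff_mem.2 (show Ideal.Quotient.mk J (Polynomial.C a) ∈ Q from ha), map_zero]
  let ξ : Fin r → Ω := fun i => θA (MvPolynomial.X i)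
  let t : Ω := θ Polynomial.X
  let jk : kb →ₐ[k] Ω := IsAlgClosed.lift
  have hroot : ∀ (f : Polynomial k), f ≠ 0 → ∀ z : Ω, Polynomial.aeval z f = 0 → ∃ a ∈ (f.aroots kb).toFinset, jk a = z := by
    intro f hf z hz
    have h1 : z ∈ f.aroots Ω := Polynomial.mem_aroots.2 ⟨hf, hz⟩
    rw [Polynomial.aroots_def, ← jk.comp_algebraMap, ← Polynomial.map_map,
      Polynomial.Splits.roots_map (IsAlgClosed.splits _), Multiset.mem_map] at h1
    obtain ⟨a, ha, rfl⟩ := h1
    exact ⟨a, Multiset.mem_toFinset.2 ha, rfl⟩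
  have hξ : ∀ i, ∃ a ∈ ((μ P i).aroots kb).toFinset, jk a = ξ i := fun i => by
    refine hroot _ (hμ P i hP).1 _ ?_
    have h1 : θA ((MvPolynomial.aeval (MvPolynomial.X : Fin r → A)) (Polynomial.aeval (MvPolynomial.X i : MvPolynomial (Fin r) k) (μ P i))) = 0 := by
      refine hθm _ (hle2 ?_)
      rw [show (MvPolynomial.aeval (MvPolynomial.X : Fin r → A)) (Polynomial.aeval (MvPolynomial.X i : MvPolynomial (Fin r) k) (μ P i)) =
        MvPolynomial.map (algebraMap k K) (Polynomial.aeval (MvPolynomial.X i : MvPolynomial (Fin r) k) (μ P i)) from ?_]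
      · exact Ideal.mem_map_of_mem _ (hμ P i hP).2
      · exact RingHom.congr_fun (f := (MvPolynomial.aeval (MvPolynomial.X : Fin r → A) :
          MvPolynomial (Fin r) k →ₐ[k] A).toRingHom) (MvPolynomial.ringHom_ext (fun c => by simp [A, MvPolynomial.algebraMap_apply]) (fun i => by simp [A])) _
    rw [← Polynomial.aeval_algHom_apply, MvPolynomial.aeval_X, ← Polynomial.aeval_algHom_apply] at h1
    exact h1
  choose a ha haξ using hξ
  obtain ⟨t0, ht0', htj⟩ := hroot q hqm.ne_zero t (by
    rw [show t = θ Polynomial.X from rfl, Polynomial.aeval_algHom_apply, Polynomial.aeval_X_left_eq_map]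
    exact hθJ _ (Ideal.subset_span (by simp [q'])))
  let gΩ : Fin r → Ω := fun i => θA (MvPolynomial.C (g i))
  let ev : MvPolynomial (Fin r) kb →+* Ω := MvPolynomial.eval₂Hom jk.toRingHom gΩ
  have hfac : ev (fac (a, t0)) = 0 := by
    let eva : MvPolynomial (Fin r) kb →ₐ[k] Ω := { ev with
      commutes' := fun c => by
        show ev (MvPolynomial.C (algebraMap k kb c)) = _
        simp [ev] }
    have e : eva.comp (MvPolynomial.aeval
        (fun i => MvPolynomial.C (a i) + MvPolynomial.C (t0 ^ N) * MvPolynomial.X i)) =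
        θ.comp (MvPolynomial.aeval (fun i => Polynomial.C (MvPolynomial.X i) +
          Polynomial.X ^ N * Polynomial.C (MvPolynomial.C (g i)))) := MvPolynomial.algHom_ext fun i => by
      simp [eva, ev, haξ, htj, ξ, t, gΩ, θA]
      ring
    exact (DFunLike.congr_fun e p).trans (hθJ _ (Ideal.subset_span (by simp [pp])))
  have hHev : ev H = 0 := by
    rw [map_prod]
    exact Finset.prod_eq_zero (Finset.mem_product.2
      ⟨Finset.mem_biUnion.2 ⟨P, hP, Fintype.mem_piFinset.2 ha⟩, ht0'⟩) hfac
  obtain ⟨c, hc⟩ := hdvd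
  have h2 : ev (MvPolynomial.map (algebraMap k kb) h) = 0 := by
    rw [show MvPolynomial.map (algebraMap k kb) h = H * c from hc, map_mul, hHev, zero_mul]
  apply hg
  let θK : K →ₐ[k] Ω := θA.comp (IsScalarTower.toAlgHom k K A)
  refine θK.toRingHom.injective ?_
  show θK (MvPolynomial.aeval g h) = θK 0
  rw [map_zero, MvPolynomial.comp_aeval_apply, ← h2, MvPolynomial.coe_eval₂Hom, MvPolynomial.eval₂_map,
    MvPolynomial.aeval_def]
  congr 1
  exact jk.comp_algebraMap.symm

end Groth.Agent.S15088
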