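import Groth.Statements.S15092
import Groth.Agent.SurfAmpleLib.Ramanujam
import Groth.Agent.SurfAmpleLib.Adj
import Groth.Agent.SurfAmpleLib.Fib
import Groth.Agent.CohCmpLib.OmegaRank
import Groth.Agent.S16491

set_option autoImplicit false
universe u
open CategoryTheory CategoryTheory.Limits AlgebraicGeometry TopologicalSpace
open Surf

set_option backward.isDefEq.respectTransparency false
set_option backward.isDefEq.respectTransparency.types false
set_option maxHeartbeats 800000

namespace Groth.Agent.S15092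

/-- Let k be an algebraically closed field, X a smooth projective surface over k (integral, proper and
smooth, of dimension 2), C a smooth projective curve over k (integral, proper and smooth, of
dimension 1) and f : X → C a semi-stable fibration: a surjective k-morphism with O_C → f_*O_X an
isomorphism which is an at-worst-nodal family (flat, of finite presentation, all fibres
one-dimensional with at worst nodal singularities), whose fibre over some closed point q₀ is smooth
with χ(O) = 1 − g for some g ≥ 2 (computed on X through the direct image of the structure sheaf of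
the fibre), and with no exceptional curve of the first kind in a fibre (no integral vertical curve E
with χ(O_E) = 1 and E² = −1). Let ω_{X/C} = ω_X ⊗ (f^*Ω_{C/k})^{-1} be the relative dualizing
module, ω_X a second exterior power of Ω_{X/k} and (f^*Ω_{C/k})^{-1} a tensor inverse of f^*Ω_{C/k}.
Let D ⊆ X be an integral curve (integral closed subscheme of dimension 1) lying in a fibre of f, and
O_X(D) a tensor inverse of its ideal sheaf. Then (ω_{X/C}·O_X(D)) ≥ 0; and if (ω_{X/C}·O_X(D)) = 0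
then χ(O_D) = 1 and (D·D) = −2, that is, D is a smooth rational curve of self-intersection −2. Here
(L·L') = χ(O_X) − χ(L) − χ(L') + χ(L ⊗ L') for invertible L, L'. -/
theorem result (k : Type u) [Field k] [IsAlgClosed k]
    (X : Scheme.{u}) [X.Over (Spec (CommRingCat.of k))] [IsProper (X ↘ (Spec (CommRingCat.of k)))]
    [Smooth (X ↘ (Spec (CommRingCat.of k)))] [IsIntegral X] (hdim : topologicalKrullDim X = 2)
    (C : Scheme.{u}) [C.Over (Spec (CommRingCat.of k))] [IsProper (C ↘ (Spec (CommRingCat.of k)))]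
    [Smooth (C ↘ (Spec (CommRingCat.of k)))] [IsIntegral C] (hdimC : topologicalKrullDim C = 1)
    (f : X ⟶ C) [f.IsOver (Spec (CommRingCat.of k))] [Surjective f] (hconn : IsIso (ClSub.unitToPush f))
    (hss : Curv2.IsNodalFamily f)
    (q₀ : C) (hq₀ : IsClosed ({q₀} : Set C)) (hsm : Smooth (f.fiberToSpecResidueField q₀))
    (g : ℕ) (hg2 : 2 ≤ g) (hg : Curv2.euler k X (ClSub.quotMod (f.fiberι q₀).ker) = 1 - (g : ℤ))
    (hmin : ∀ E : X.IdealSheafData, IsIntegral E.subscheme → topologicalKrullDim (E.support : Set X) = 1 →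
      (∃ c : C, ∀ x : X, x ∈ E.support → f.base x = c) → Curv2.euler k X (ClSub.quotMod E) = 1 →
      FGA.intNum k X 2 ![ClSub.idealMod E, ClSub.idealMod E] (Coh.structureModule X) ≠ -1)
    (WX : X.Modules) (hWX : ExtPow.IsExtPow 2 (Omega.sheaf (X ↘ (Spec (CommRingCat.of k)))) WX)
    (M : X.Modules) (hM : ClSub.IsInverseOf M ((Scheme.Modules.pullback f).obj (Omega.sheaf (C ↘ (Spec (CommRingCat.of k))))))
    (D : X.IdealSheafData) (hD : IsIntegral D.subscheme) (hD1 : topologicalKrullDim (D.support : Set X) = 1)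
    (hDv : ∃ c : C, ∀ x : X, x ∈ D.support → f.base x = c)
    (LD : X.Modules) (hLD : ClSub.IsInverseOf LD (ClSub.idealMod D)) :
    0 ≤ FGA.intNum k X 2 ![(CohB1.tensorMod WX M), LD] (Coh.structureModule X) ∧
      (FGA.intNum k X 2 ![(CohB1.tensorMod WX M), LD] (Coh.structureModule X) = 0 →
        Curv2.euler k X (ClSub.quotMod D) = 1 ∧ FGA.intNum k X 2 ![LD, LD] (Coh.structureModule X) = -2) := by
  haveI := CurvLib.isNoetherian k (X := X)
  have hX : topologicalKrullDim X = ((2 : ℕ) : WithBot ℕ∞) := hdim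
  haveI := hD
  have hJ := SurfAmpleLib.isEffCartier_fibre k hdimC f hq₀
  set J := (f.fiberι q₀).ker with hJdef
  have hIJ := IntMultLib.isInvertible_idealMod J hJ
  have hWi := SurfAmpleLib.isInvertible_canonical hX hWX
  have hDc := SurfAmpleLib.isEffCartier_curve' k hX D hD1
  have hID := IntMultLib.isInvertible_idealMod D hDc
  -- pullbacks from the base are trivial on vertical curves
  have hJN : ∀ (B : C.Modules), PicF.IsInvertible B → ∀ c₁ : X, ∀ q : C,
      topologicalKrullDim (closure ({c₁} : Set X)) = ((1 : ℕ) : WithBot ℕ∞) →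
      (∀ z ∈ closure ({c₁} : Set X), f.base z = q) →
      IntFunLib.N k [(Scheme.Modules.pullback f).obj B] (IntFunLib.Fpt c₁) = 0 := fun B hB c₁ q hc₁ hz =>
    SurfAmpleLib.N_pb_vertical f hB hc₁ (q := q) hz
  obtain ⟨c, hcD⟩ := hDv
  have hDpt := IntFunLib.eq_ptIdeal D
  have hvD : ∀ (B : C.Modules), PicF.IsInvertible B →
      HodgeIdxLib.pr k (ClSub.idealMod D) ((Scheme.Modules.pullback f).obj B) = 0 := fun B hB => by
    rw [SurfNumLib.pr_ideal D (CurvLib.isCoh_of_isInvertible hID) (AmpleDevLib.isInvertible_pb f hB), neg_eq_zero]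
    rw [hDpt]
    refine hJN B hB _ c ?_ fun z hz => ?_
    · rw [← IntFunLib.dim_ptIdeal, ← hDpt, hD1, Nat.cast_one]
    · refine hcD z ?_
      rw [hDpt]
      refine SetLike.mem_coe.1 ?_
      rwa [Scheme.IdealSheafData.coe_support_vanishingIdeal]
  obtain ⟨eF⟩ := SurfAmpleLib.nonempty_fibreIdeal_iso k hdimC f hq₀
  have hDF : HodgeIdxLib.pr k (ClSub.idealMod D) (ClSub.idealMod J) = 0 := by
    rw [HodgeIdxLib.pr_comm]
    refine (HodgeIdxLib.N_congr_head eF _ _).trans ?_
    exact (HodgeIdxLib.pr_comm _ _).trans (hvD _ (SurfAmpleLib.isInvertible_ptIdeal k hdimC hq₀))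
  have hFF : HodgeIdxLib.pr k (ClSub.idealMod J) (ClSub.idealMod J) = 0 := by
    have hz : ∀ c₁ : X, topologicalKrullDim (closure ({c₁} : Set X)) = ((1 : ℕ) : WithBot ℕ∞) → c₁ ∈ J.support →
        IntFunLib.N k [ClSub.idealMod J] (IntFunLib.Fpt c₁) = 0 := fun c₁ hc₁ hm₁ => by
      rw [HodgeIdxLib.N_congr_head eF]
      refine hJN _ (SurfAmpleLib.isInvertible_ptIdeal k hdimC hq₀) c₁ q₀ hc₁ fun z hz => ?_
      have h1 : z ∈ (J.support : Set X) :=
        J.support.isClosed.closure_subset_iff.mpr (Set.singleton_subset_iff.mpr hm₁) hz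
      rw [hJdef, SurfAmpleLib.ker_fiberι_eq f hq₀, Scheme.IdealSheafData.support_comap] at h1
      change f.base z ∈ ((GenusZeroLib.ptIdeal hq₀).support : Set C) at h1
      rwa [Scheme.IdealSheafData.coe_support_vanishingIdeal] at h1
    by_contra hne
    rcases lt_or_gt_of_ne hne with hlt | hgt
    · obtain ⟨e⟩ := MiscFlat6.nonempty_dualIso hIJ
      obtain ⟨c₁, hc₁, hm₁, hn⟩ := SurfAmpleLib.exists_curve_neg (k := k) hX hJ
        (MiscFlat6.dual_isInvertible hIJ) (by
          rw [HodgeIdxLib.pr_comm, HodgeIdxLib.pr_inverse hX.le hIJ (MiscFlat6.dual_isInvertible hIJ) hIJ e]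
          omega)
      rw [HodgeIdxLib.N_inv_head (l := []) hIJ (MiscFlat6.dual_isInvertible hIJ) e (by simp)
        (IntFunLib.coh_Fpt k c₁) (by rw [IntFunLib.supp_Fpt k]; simpa using hc₁.le), hz c₁ hc₁ hm₁] at hn
      omega
    · obtain ⟨c₁, hc₁, hm₁, hn⟩ := SurfAmpleLib.exists_curve_neg (k := k) hX hJ hIJ hgt
      rw [hz c₁ hc₁ hm₁] at hn
      omega
  have hJne : J ≠ ⊤ := fun h => by
    obtain ⟨x, hx⟩ := (inferInstance : Surjective f).surj q₀
    have : x ∈ (J.support : Set X) := by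
      rw [hJdef, SurfAmpleLib.ker_fiberι_eq f hq₀, Scheme.IdealSheafData.support_comap]
      change f.base x ∈ ((GenusZeroLib.ptIdeal hq₀).support : Set C)
      rw [Scheme.IdealSheafData.coe_support_vanishingIdeal]
      exact hx
    rw [h, Scheme.IdealSheafData.support_top] at this
    exact this
  -- adjunction
  have hadjF := SurfAmpleLib.adjunction hX hWX hJ
  have hgF : Curv2.euler k X (ClSub.quotMod J) = 1 - (g : ℤ) := hg
  rw [hFF, hgF] at hadjF
  have hadjD := SurfAmpleLib.adjunction hX hWX hDc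
  have hchi : Curv2.euler k X (ClSub.quotMod D) ≤ 1 := by
    rw [HodgeIdxLib.euler_eq_of_dim_one (CurvLib.isCoh_quotMod D)
      (by rw [SurfNumLib.support_quotMod_eq, hD1, Nat.cast_one]), SurfNumLib.h0_quot]
    push_cast; linarith [Int.natCast_nonneg (HodgeIdxLib.hh k (ClSub.quotMod D) 1)]
  -- the index theorem on the span of the curve and the fibre
  obtain ⟨H, hH⟩ := SurfAmpleLib.exists_ample_of_smooth k hX
  have hdH := SurfNumLib.pr_effCartier_pos (k := k) hX hDc (SurfNumLib.ne_top_of_dim hD1) hH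
  have hfH := SurfNumLib.pr_effCartier_pos (k := k) hX hJ hJne hH
  have hh0 := HodgeIdxLib.pr_ample_pos (k := k) hX hH
  obtain ⟨V, hV, hVe⟩ := HodgeIdxLib.exists_comb (k := k) hX.le hID hIJ
    (HodgeIdxLib.pr k (ClSub.idealMod J) H) (-HodgeIdxLib.pr k (ClSub.idealMod D) H)
  have hVH : HodgeIdxLib.pr k V H = 0 := by rw [hVe H hH.1]; ring
  have hVV : HodgeIdxLib.pr k V V = HodgeIdxLib.pr k (ClSub.idealMod J) H * HodgeIdxLib.pr k (ClSub.idealMod J) H *
      HodgeIdxLib.pr k (ClSub.idealMod D) (ClSub.idealMod D) := by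
    rw [hVe V hV, HodgeIdxLib.pr_comm (ClSub.idealMod D) V, HodgeIdxLib.pr_comm (ClSub.idealMod J) V,
      hVe _ hID, hVe _ hIJ, HodgeIdxLib.pr_comm (ClSub.idealMod J) (ClSub.idealMod D), hDF, hFF]
    ring
  have hle := SurfNumLib.neg_semidef hX hH.1 hV hh0 hVH
  have hsq : HodgeIdxLib.pr k (ClSub.idealMod D) (ClSub.idealMod D) ≤ 0 := by
    rw [hVV] at hle
    nlinarith [mul_pos_of_neg_of_neg hfH hfH]
  have hzero : HodgeIdxLib.pr k (ClSub.idealMod D) (ClSub.idealMod D) = 0 →
      HodgeIdxLib.pr k (ClSub.idealMod D) WX < 0 := fun h0 => by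
    have h := HodgeIdxLib.index (k := k) hX hH hH.1 hV hh0 hVH (by rw [hVV, h0, mul_zero]) hWi
    rw [hVe _ hWi] at h
    nlinarith [mul_pos_of_neg_of_neg hdH (show (2 - 2 * (g : ℤ)) < 0 by omega)]
  -- degrees of the relative dualizing module
  have hCone : SmoothOfRelativeDimension 1 (C ↘ Spec (CommRingCat.of k)) :=
    SurfNumLib.smoothRel_of_dim (k := k) (n := 1) hdimC
  have hΩC : PicF.IsInvertible (Omega.sheaf (C ↘ Spec (CommRingCat.of k))) :=
    Groth.Agent.S16491.isInvertible_of_rank_one (CohCmpLib.rank_omega _ 1)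
  have hfΩ := AmpleDevLib.isInvertible_pb f hΩC
  obtain ⟨eM⟩ := hM
  have hMi : PicF.IsInvertible M := CohCmpLib.isInvertible_of_inverse' hfΩ (HilbPolyLib.swapIso _ _ ≪≫ eM)
  obtain ⟨eD⟩ := hLD
  have hLDi : PicF.IsInvertible LD := CohCmpLib.isInvertible_of_inverse' hID (HilbPolyLib.swapIso _ _ ≪≫ eD)
  have hMD : HodgeIdxLib.pr k (ClSub.idealMod D) M = 0 := by
    rw [HodgeIdxLib.pr_comm, HodgeIdxLib.pr_inverse hX.le hfΩ hMi hID (HilbPolyLib.swapIso _ _ ≪≫ eM),
      HodgeIdxLib.pr_comm]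
    have h := hvD _ hΩC
    rw [show HodgeIdxLib.pr k (ClSub.idealMod D) (KFlatLib.pb f (Omega.sheaf (C ↘ Spec (CommRingCat.of k)))) = 0 from h]
    rfl
  rw [SurfNumLib.intNum_eq_pr_two hdim, SurfNumLib.intNum_eq_pr_two hdim,
    SurfNumLib.pr_inv_inv (k := k) hX.le hID hID (HilbPolyLib.swapIso _ _ ≪≫ eD) (HilbPolyLib.swapIso _ _ ≪≫ eD),
    HodgeIdxLib.pr_comm (CohB1.tensorMod WX M) LD,
    HodgeIdxLib.pr_inverse hX.le hID hLDi (HilbPolyLib.isInvertible_tensor hWi hMi) (HilbPolyLib.swapIso _ _ ≪≫ eD),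
    HodgeIdxLib.pr_comm (ClSub.idealMod D) (CohB1.tensorMod WX M), HodgeIdxLib.pr_tensor hX.le hWi hMi hID,
    HodgeIdxLib.pr_comm M (ClSub.idealMod D), hMD, add_zero, HodgeIdxLib.pr_comm WX (ClSub.idealMod D)]
  have hexc : Curv2.euler k X (ClSub.quotMod D) = 1 →
      HodgeIdxLib.pr k (ClSub.idealMod D) (ClSub.idealMod D) ≠ -1 := fun h1 => by
    have := hmin D hD hD1 ⟨c, hcD⟩ h1
    rwa [SurfNumLib.intNum_eq_pr_two hdim] at this
  refine ⟨?_, fun h => ?_⟩
  · by_contra hneg
    push Not at hneg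
    by_cases h0 : HodgeIdxLib.pr k (ClSub.idealMod D) (ClSub.idealMod D) = 0
    · have := hzero h0
      omega
    · exact hexc (by omega) (by omega)
  · by_cases h0 : HodgeIdxLib.pr k (ClSub.idealMod D) (ClSub.idealMod D) = 0
    · have := hzero h0
      omega
    · exact ⟨by omega, by omega⟩

end Groth.Agent.S15092
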