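import Groth.Statements.S15094
import Groth.Agent.FrobSplitCohLib.CartierH1
import Groth.Agent.PnDualLib.Embed
import Groth.Agent.CurveVBLib.Basic
import Groth.Agent.NormalLib.Regular

set_option autoImplicit false
universe u
open CategoryTheory CategoryTheory.Limits AlgebraicGeometry TopologicalSpace
open KodV

set_option backward.isDefEq.respectTransparency false
set_option backward.isDefEq.respectTransparency.types false
set_option maxHeartbeats 800000

namespace Groth.Agent.S15094

/-- Let k be an algebraically closed field of characteristic p > 0, X a smooth proper integral scheme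
over k, and L an invertible O_X-module with tensor inverse L⁻¹. If H⁰(X, (L⁻¹)^{⊗p^n} ⊗ Ω¹_{X/k}) =
0 for every n ≥ 1 and H¹(X, (L⁻¹)^{⊗p^{n₀}}) = 0 for some n₀, then H¹(X, L⁻¹) = 0. (The published
statement says smooth projective variety over a field of characteristic p; smooth, proper and
integral over an algebraically closed field is assumed here, the setting of the proposition it is
deduced from.) -/
theorem result (k : Type u) [Field k] [IsAlgClosed k] (p : ℕ) [Fact p.Prime] [CharP k p]
    (X : Scheme.{u}) [X.Over (Spec (CommRingCat.of k))] [IsProper (X ↘ (Spec (CommRingCat.of k)))] [Smooth (X ↘ (Spec (CommRingCat.of k)))] [IsIntegral X]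
    (L Linv : X.Modules) (hL : PicF.IsInvertible L) (hLinv : ClSub.IsInverseOf Linv L)
    (h0 : ∀ n : ℕ, 1 ≤ n → Subsingleton (Coh.HH X (CohB1.tensorMod (CohB1.tensorPow Linv (p ^ n)) (Omega.sheaf (X ↘ (Spec (CommRingCat.of k))))) 0))
    (h1 : ∃ n₀ : ℕ, Subsingleton (Coh.HH X (CohB1.tensorPow Linv (p ^ n₀)) 1)) :
    Subsingleton (Coh.HH X Linv 1) := by
  obtain ⟨e0⟩ : ClSub.IsInverseOf Linv L := hLinv
  have hI : PicF.IsInvertible Linv :=
    CohCmpLib.isInvertible_of_inverse' hL (CategoryTheory.Iso.trans (HilbPolyLib.swapIso L Linv) e0)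
  have hXn : Pi1.IsNormalScheme X := fun x => by
    haveI := CurveVBLib.regular_stalk (k := k) x
    exact ⟨CommAlgDim.isDomain_of_isRegularLocalRing _, NormalLib.isIntegrallyClosed_of_isRegularLocalRing _⟩
  obtain ⟨n₀, hn₀⟩ := h1
  have key : ∀ d j : ℕ, j + d = n₀ → Subsingleton (Coh.HH X (CohB1.tensorPow Linv (p ^ j)) 1) := fun d => by
    induction d with
    | zero => intro j hj; rw [show j = n₀ from hj]; exact hn₀
    | succ d ih =>
      intro j hj
      have hI' := AmpleThLib.tensorPow_isInvertible hI (p ^ j)
      let e : CohB1.tensorPow (CohB1.tensorPow Linv (p ^ j)) p ≅ CohB1.tensorPow Linv (p ^ (j + 1)) :=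
        CategoryTheory.Iso.trans (AmpleThLib.exists_powIso hI (p ^ j) p).choose (eqToIso (by rw [pow_succ]))
      exact FrobSplitCohLib.h1_step k p hXn hI'
        ((CurvLib.hIso (k := k) (HilbPolyLib.congrLeft e _) 0).toEquiv.subsingleton_congr.2 (h0 (j + 1) (by omega)))
        ((CurvLib.hIso (k := k) e 1).toEquiv.subsingleton_congr.2 (ih (j + 1) (by omega)))
  haveI := key n₀ 0 (by omega)
  exact (CurvLib.hIso (k := k) (HilbPolyLib.unitLeft Linv) 1).toEquiv.subsingleton_congr.1 this

end Groth.Agent.S15094
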