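import Groth.Statements.S15095
import Groth.Agent.NefBigVanLib.Main

set_option autoImplicit false
universe u
open CategoryTheory CategoryTheory.Limits AlgebraicGeometry TopologicalSpace
open Surf

set_option backward.isDefEq.respectTransparency false
set_option backward.isDefEq.respectTransparency.types false

namespace Groth.Agent.S15095

/-- Let k be an algebraically closed field of characteristic p > 0 and X a smooth projective surface
over k (integral, proper and smooth, of dimension 2); let L be an invertible O_X-module with tensor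
inverse L⁻¹, L numerically positive: (L·L) > 0 and deg(L|_Γ) = χ(O_Γ ⊗ L) − χ(O_Γ) ≥ 0 for every
integral curve Γ ⊆ X, where (L·L) = χ(O_X) − 2χ(L) + χ(L ⊗ L). Then there is n₀ such that H¹(X,
(L⁻¹)^{⊗n}) = 0 for all n ≥ n₀. -/
theorem result (k : Type u) [Field k] [IsAlgClosed k] (p : ℕ) [Fact p.Prime] [CharP k p]
    (X : Scheme.{u}) [X.Over (Spec (CommRingCat.of k))] [IsProper (X ↘ (Spec (CommRingCat.of k)))]
    [Smooth (X ↘ (Spec (CommRingCat.of k)))] [IsIntegral X] (hdim : topologicalKrullDim X = 2)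
    (L Linv : X.Modules) (hL : PicF.IsInvertible L) (hLinv : ClSub.IsInverseOf Linv L)
    (hpos : 0 < FGA.intNum k X 2 ![L, L] (Coh.structureModule X))
    (hnef : ∀ Γ : X.IdealSheafData, IsIntegral Γ.subscheme → topologicalKrullDim (Γ.support : Set X) = 1 →
      0 ≤ Curv2.euler k X (CohB1.tensorMod (ClSub.quotMod Γ) L) - Curv2.euler k X (ClSub.quotMod Γ)) :
    ∃ n₀ : ℕ, ∀ n : ℕ, n₀ ≤ n → Subsingleton (Coh.HH X (CohB1.tensorPow Linv n) 1) := by
  have hX : topologicalKrullDim X = ((2 : ℕ) : WithBot ℕ∞) := hdim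
  obtain ⟨e⟩ : ClSub.IsInverseOf Linv L := hLinv
  rw [SurfNumLib.intNum_eq_pr_two hdim] at hpos
  have hn : ∀ c : X, topologicalKrullDim (closure ({c} : Set X)) = ((1 : ℕ) : WithBot ℕ∞) →
      0 ≤ IntFunLib.N k [L] (IntFunLib.Fpt c) := fun c hc => by
    have h := hnef (IntMultLib.ptIdeal c) (IntMultLib.isIntegral_ptIdeal c)
      (by rw [IntFunLib.dim_ptIdeal, hc, Nat.cast_one])
    rw [CurvLib.euler_congr (k := k) (HilbPolyLib.swapIso _ _)] at h
    exact h
  obtain ⟨n₀, h⟩ := NefBigVanLib.exists_vanishing (k := k) hX hL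
    (HilbPolyLib.swapIso L Linv ≪≫ e) hn hpos
  refine ⟨n₀, fun n hn' => ?_⟩
  haveI := CurvLib.isNoetherian k (X := X)
  have hI := IntMultLib.isInvertible_of_inverse hL (HilbPolyLib.swapIso L Linv ≪≫ e)
  haveI := CurvLib.finite_HH (k := k)
    (CurvLib.isCoh_of_isInvertible (AmpleThLib.tensorPow_isInvertible hI n)) 1
  exact (Module.finrank_zero_iff (R := k)).1 (h n hn')

end Groth.Agent.S15095
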