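import Groth.Statements.S15097
import Groth.Agent.S15096
import Groth.Agent.NefBigVanLib.Curve
import Groth.Agent.NefBigVanLib.Component

set_option autoImplicit false
universe u
open CategoryTheory CategoryTheory.Limits AlgebraicGeometry TopologicalSpace
open Surf

set_option backward.isDefEq.respectTransparency false
set_option backward.isDefEq.respectTransparency.types false
set_option maxHeartbeats 800000

namespace Groth.Agent.S15097

/-- Let k be an algebraically closed field of characteristic p > 0 and X a smooth projective surface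
over k (integral, proper and smooth, of dimension 2), C a smooth projective curve over k (integral,
proper and smooth, of dimension 1) and f : X → C a surjective k-morphism all of whose fibres are
reduced, at least one closed fibre being smooth, and whose closed fibres have arithmetic genus at
least 2 (χ(O_F) ≤ −1 for the fibre F over every closed point, computed on X through the direct image
of O_F). Let ω_{X/C} = ω_X ⊗ (f^*Ω_{C/k})^{-1} be the relative dualizing module, ω_X a second
exterior power of Ω_{X/k} and (f^*Ω_{C/k})^{-1} a tensor inverse of f^*Ω_{C/k}; let m ≥ 1, A an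
invertible O_C-module, and L = ω_{X/C}^{⊗m} ⊗ f^*A, assumed L numerically positive: (L·L) > 0 and
deg(L|_Γ) = χ(O_Γ ⊗ L) − χ(O_Γ) ≥ 0 for every integral curve Γ ⊆ X; let L⁻¹ be a tensor inverse of
L. Then H¹(X, L⁻¹) = 0. (The published statement asks only that the fibres be geometrically reduced
of genus at least 2, and over an algebraically closed field geometric reducedness of all fibres is
reducedness of all fibres; its argument uses that the module of relative differentials Ω_{X/C}
embeds in ω_{X/C}, which also needs the generic fibre to be smooth, so a smooth closed fibre is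
assumed here in addition.) -/
theorem result (k : Type u) [Field k] [IsAlgClosed k] (p : ℕ) [Fact p.Prime] [CharP k p]
    (X : Scheme.{u}) [X.Over (Spec (CommRingCat.of k))] [IsProper (X ↘ (Spec (CommRingCat.of k)))]
    [Smooth (X ↘ (Spec (CommRingCat.of k)))] [IsIntegral X] (hdim : topologicalKrullDim X = 2)
    (C : Scheme.{u}) [C.Over (Spec (CommRingCat.of k))] [IsProper (C ↘ (Spec (CommRingCat.of k)))]
    [Smooth (C ↘ (Spec (CommRingCat.of k)))] [IsIntegral C] (hdimC : topologicalKrullDim C = 1)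
    (f : X ⟶ C) [f.IsOver (Spec (CommRingCat.of k))] [Surjective f]
    (hred : ∀ c : C, IsReduced (f.fiber c))
    (hsm1 : ∃ c : C, IsClosed ({c} : Set C) ∧ Smooth (f.fiberToSpecResidueField c))
    (hgen : ∀ c : C, IsClosed ({c} : Set C) → Curv2.euler k X (ClSub.quotMod (f.fiberι c).ker) ≤ -1)
    (WX : X.Modules) (hWX : ExtPow.IsExtPow 2 (Omega.sheaf (X ↘ (Spec (CommRingCat.of k)))) WX)
    (M : X.Modules) (hM : ClSub.IsInverseOf M ((Scheme.Modules.pullback f).obj (Omega.sheaf (C ↘ (Spec (CommRingCat.of k))))))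
    (m : ℕ) (hm : 1 ≤ m) (A : C.Modules) (hA : PicF.IsInvertible A)
    (Linv : X.Modules) (hLinv : ClSub.IsInverseOf Linv (CohB1.tensorMod (CohB1.tensorPow (CohB1.tensorMod WX M) m) ((Scheme.Modules.pullback f).obj A)))
    (hpos : 0 < FGA.intNum k X 2 ![(CohB1.tensorMod (CohB1.tensorPow (CohB1.tensorMod WX M) m) ((Scheme.Modules.pullback f).obj A)), (CohB1.tensorMod (CohB1.tensorPow (CohB1.tensorMod WX M) m) ((Scheme.Modules.pullback f).obj A))] (Coh.structureModule X))
    (hnef : ∀ Γ : X.IdealSheafData, IsIntegral Γ.subscheme → topologicalKrullDim (Γ.support : Set X) = 1 →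
      0 ≤ Curv2.euler k X (CohB1.tensorMod (ClSub.quotMod Γ) (CohB1.tensorMod (CohB1.tensorPow (CohB1.tensorMod WX M) m) ((Scheme.Modules.pullback f).obj A))) - Curv2.euler k X (ClSub.quotMod Γ)) :
    Subsingleton (Coh.HH X Linv 1) := by
  haveI := CurvLib.isNoetherian k (X := X)
  have hX : topologicalKrullDim X = ((2 : ℕ) : WithBot ℕ∞) := hdim
  obtain ⟨c, hc, hsm⟩ := hsm1
  have hJ := SurfAmpleLib.isEffCartier_fibre k hdimC f hc
  set J := (f.fiberι c).ker with hJdef
  have hIJ := IntMultLib.isInvertible_idealMod J hJ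
  -- vertical modules
  have hvert : ∀ (B : C.Modules), PicF.IsInvertible B → ∀ c₁ : X,
      topologicalKrullDim (closure ({c₁} : Set X)) = ((1 : ℕ) : WithBot ℕ∞) → c₁ ∈ J.support →
      IntFunLib.N k [(Scheme.Modules.pullback f).obj B] (IntFunLib.Fpt c₁) = 0 := fun B hB c₁ hc₁ hm₁ => by
    refine SurfAmpleLib.N_pb_vertical f hB hc₁ (q := c) fun z hz => ?_
    have h1 : z ∈ (J.support : Set X) :=
      J.support.isClosed.closure_subset_iff.mpr (Set.singleton_subset_iff.mpr hm₁) hz
    rw [hJdef, SurfAmpleLib.ker_fiberι_eq f hc, Scheme.IdealSheafData.support_comap] at h1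
    change f.base z ∈ ((GenusZeroLib.ptIdeal hc).support : Set C) at h1
    rwa [Scheme.IdealSheafData.coe_support_vanishingIdeal] at h1
  have hJN : ∀ c₁ : X, topologicalKrullDim (closure ({c₁} : Set X)) = ((1 : ℕ) : WithBot ℕ∞) → c₁ ∈ J.support →
      IntFunLib.N k [ClSub.idealMod J] (IntFunLib.Fpt c₁) = 0 := fun c₁ hc₁ hm₁ => by
    obtain ⟨eF⟩ := SurfAmpleLib.nonempty_fibreIdeal_iso k hdimC f hc
    rw [HodgeIdxLib.N_congr_head eF]
    exact hvert _ (SurfAmpleLib.isInvertible_ptIdeal k hdimC hc) c₁ hc₁ hm₁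
  have hdual : ∀ (A' : X.Modules), PicF.IsInvertible A' → ∀ c₁ : X,
      topologicalKrullDim (closure ({c₁} : Set X)) = ((1 : ℕ) : WithBot ℕ∞) →
      IntFunLib.N k [MiscFlat6.dual A'] (IntFunLib.Fpt c₁) = -IntFunLib.N k [A'] (IntFunLib.Fpt c₁) :=
    fun A' hA' c₁ hc₁ => by
      obtain ⟨e⟩ := MiscFlat6.nonempty_dualIso hA'
      exact HodgeIdxLib.N_inv_head (l := []) hA' (MiscFlat6.dual_isInvertible hA') e (by simp)
        (IntFunLib.coh_Fpt k c₁) (by rw [IntFunLib.supp_Fpt k]; simpa using hc₁.le)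
  -- the fibre has square zero and a component of positive canonical degree
  have hsq : HodgeIdxLib.pr k (ClSub.idealMod J) (ClSub.idealMod J) = 0 := by
    by_contra hne
    rcases lt_or_gt_of_ne hne with hlt | hgt
    · obtain ⟨e⟩ := MiscFlat6.nonempty_dualIso hIJ
      obtain ⟨c₁, hc₁, hm₁, hn⟩ := SurfAmpleLib.exists_curve_neg (k := k) hX hJ
        (MiscFlat6.dual_isInvertible hIJ) (by
          rw [HodgeIdxLib.pr_comm, HodgeIdxLib.pr_inverse hX.le hIJ (MiscFlat6.dual_isInvertible hIJ) hIJ e]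
          omega)
      rw [hdual _ hIJ c₁ hc₁, hJN c₁ hc₁ hm₁] at hn
      omega
    · obtain ⟨c₁, hc₁, hm₁, hn⟩ := SurfAmpleLib.exists_curve_neg (k := k) hX hJ hIJ hgt
      rw [hJN c₁ hc₁ hm₁] at hn
      omega
  have hWi := SurfAmpleLib.isInvertible_canonical hX hWX
  obtain ⟨c₁, hc₁, hm₁, hw⟩ := SurfAmpleLib.exists_curve_neg (k := k) hX hJ (MiscFlat6.dual_isInvertible hWi) (by
    obtain ⟨e⟩ := MiscFlat6.nonempty_dualIso hWi
    rw [HodgeIdxLib.pr_comm, HodgeIdxLib.pr_inverse hX.le hWi (MiscFlat6.dual_isInvertible hWi) hIJ e,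
      HodgeIdxLib.pr_comm]
    have h := SurfAmpleLib.adjunction hX hWX hJ
    have : Curv2.euler k X (ClSub.quotMod J) ≤ -1 := hgen c hc
    omega)
  rw [hdual _ hWi c₁ hc₁] at hw
  obtain ⟨hC2, hCsm⟩ := NefBigVanLib.component_smooth_square_zero k hX hdimC f hc hsm hc₁ hm₁
  haveI := IntMultLib.isIntegral_ptIdeal c₁
  have hd : topologicalKrullDim ((IntMultLib.ptIdeal c₁).support : Set X) = 1 := by
    rw [IntFunLib.dim_ptIdeal, hc₁, Nat.cast_one]
  have hFd : topologicalKrullDim (CohB1.support (IntFunLib.Fpt c₁)) ≤ ((([] : List X.Modules).length + 1 : ℕ) : WithBot ℕ∞) := by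
    rw [IntFunLib.supp_Fpt k]; simpa using hc₁.le
  -- the degree of `L` on the component
  have hCone : SmoothOfRelativeDimension 1 (C ↘ Spec (CommRingCat.of k)) :=
    SurfNumLib.smoothRel_of_dim (k := k) (n := 1) hdimC
  have hΩC : PicF.IsInvertible (Omega.sheaf (C ↘ Spec (CommRingCat.of k))) :=
    Groth.Agent.S16491.isInvertible_of_rank_one (CohCmpLib.rank_omega _ 1)
  have hfΩ : PicF.IsInvertible ((Scheme.Modules.pullback f).obj (Omega.sheaf (C ↘ Spec (CommRingCat.of k)))) :=
    AmpleDevLib.isInvertible_pb f hΩC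
  have hfA : PicF.IsInvertible ((Scheme.Modules.pullback f).obj A) := AmpleDevLib.isInvertible_pb f hA
  obtain ⟨eM⟩ := hM
  have hMi : PicF.IsInvertible M := CohCmpLib.isInvertible_of_inverse' hfΩ (HilbPolyLib.swapIso _ _ ≪≫ eM)
  have hM0 : IntFunLib.N k [M] (IntFunLib.Fpt c₁) = 0 := by
    rw [HodgeIdxLib.N_inv_head (l := []) hfΩ hMi (HilbPolyLib.swapIso _ _ ≪≫ eM) (by simp)
      (IntFunLib.coh_Fpt k c₁) hFd, hvert _ hΩC c₁ hc₁ hm₁, neg_zero]
  have hWM := HilbPolyLib.isInvertible_tensor hWi hMi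
  have hWMm := AmpleThLib.tensorPow_isInvertible hWM m
  set L := CohB1.tensorMod (CohB1.tensorPow (CohB1.tensorMod WX M) m) ((Scheme.Modules.pullback f).obj A) with hLdef
  have hL : PicF.IsInvertible L := HilbPolyLib.isInvertible_tensor hWMm hfA
  have hLN : IntFunLib.N k [L] (IntFunLib.Fpt c₁) = (m : ℤ) * IntFunLib.N k [WX] (IntFunLib.Fpt c₁) := by
    rw [hLdef, IntFunLib.N_tensor (l := []) (by simp) hWMm hfA (IntFunLib.coh_Fpt k c₁) hFd,
      IntFunLib.N_pow (l := []) (by simp) hWM (IntFunLib.coh_Fpt k c₁) hFd,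
      IntFunLib.N_tensor (l := []) (by simp) hWi hMi (IntFunLib.coh_Fpt k c₁) hFd, hM0,
      hvert _ hA c₁ hc₁ hm₁, add_zero, add_zero]
  obtain ⟨eL⟩ : ClSub.IsInverseOf Linv L := hLinv
  have hLi : PicF.IsInvertible Linv :=
    CohCmpLib.isInvertible_of_inverse' hL (HilbPolyLib.swapIso L Linv ≪≫ eL)
  refine Groth.Agent.S15096.result k p X hdim L Linv hL ⟨eL⟩ hpos hnef fun n hn => ?_
  have hP := AmpleThLib.tensorPow_isInvertible hLi (p ^ n)
  have hPN : IntFunLib.N k [CohB1.tensorPow Linv (p ^ n)] (IntFunLib.Fpt c₁) =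
      -((p ^ n : ℕ) : ℤ) * ((m : ℤ) * IntFunLib.N k [WX] (IntFunLib.Fpt c₁)) := by
    rw [IntFunLib.N_pow (l := []) (by simp) hLi (IntFunLib.coh_Fpt k c₁) hFd,
      HodgeIdxLib.N_inv_head (l := []) hL hLi (HilbPolyLib.swapIso L Linv ≪≫ eL) (by simp)
        (IntFunLib.coh_Fpt k c₁) hFd, hLN]
    ring
  have hq : (2 : ℤ) ≤ ((p ^ n : ℕ) : ℤ) := by
    exact_mod_cast (Fact.out : p.Prime).two_le.trans (Nat.le_self_pow (by omega) p)
  have hm' : (1 : ℤ) ≤ (m : ℤ) := by exact_mod_cast hm
  have h2qm : (2 : ℤ) ≤ ((p ^ n : ℕ) : ℤ) * m := by nlinarith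
  have h := NefBigVanLib.h0_omega_eq_zero k hX hWX hP (IntMultLib.ptIdeal c₁) hd hCsm hC2
    (by
      change IntFunLib.N k [CohB1.tensorPow Linv (p ^ n)] (IntFunLib.Fpt c₁) < 0
      rw [hPN]; nlinarith)
    (by
      change IntFunLib.N k [CohB1.tensorPow Linv (p ^ n)] (IntFunLib.Fpt c₁) +
        IntFunLib.N k [WX] (IntFunLib.Fpt c₁) < 0
      rw [hPN]; nlinarith)
  haveI := SurfNumLib.smoothRel_of_dim (k := k) hX
  haveI := CurvLib.finite_HH (k := k) (CurvLib.isCoh_of_locFree
    (HopfIneqLib.locFree_tensor (CurvLib.locFree_of_isInvertible hP)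
      (CohCmpLib.rank_omega (X ↘ Spec (CommRingCat.of k)) 2))) 0
  exact (Module.finrank_zero_iff (R := k)).1 h

end Groth.Agent.S15097
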