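import Groth.Statements.S15098
import Mathlib
import Groth.Agent.SurfNumLib.Proper
-- import your own Groth.Agent.* helpers here

set_option autoImplicit false
universe u
open CategoryTheory CategoryTheory.Limits AlgebraicGeometry TopologicalSpace
open Surf

namespace Groth.Agent.S15098

/-- Let k be an algebraically closed field, X a smooth projective surface over k (integral, proper and
smooth, of dimension 2) and D an effective Cartier divisor on X, given by its ideal sheaf I_D, which
is numerically positive: (D·D) > 0 and (D·Γ) ≥ 0 for every integral curve Γ ⊆ X, that is χ(O_Γ ⊗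
I_D) − χ(O_Γ) ≤ 0. Then D is numerically connected: whenever D = D₁ + D₂ with D₁, D₂ non-zero
effective Cartier divisors (I_D = I_{D₁}·I_{D₂} with both ideal sheaves different from O_X), (D₁·D₂)
> 0. Intersection numbers of divisors are computed on their ideal sheaves: (D₁·D₂) = χ(O_X) −
χ(I_{D₁}) − χ(I_{D₂}) + χ(I_{D₁} ⊗ I_{D₂}). (The published lemma sits in a positive-characteristic
setting; its argument does not use the characteristic, so none is assumed here.) -/
theorem result (k : Type u) [Field k] [IsAlgClosed k]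
    (X : Scheme.{u}) [X.Over (Spec (CommRingCat.of k))] [IsProper (X ↘ (Spec (CommRingCat.of k)))]
    [Smooth (X ↘ (Spec (CommRingCat.of k)))] [IsIntegral X] (hdim : topologicalKrullDim X = 2)
    (D : X.IdealSheafData) (hD : FGA.IsEffCartier D)
    (hpos : 0 < FGA.intNum k X 2 ![(ClSub.idealMod D), (ClSub.idealMod D)] (Coh.structureModule X))
    (hnef : ∀ Γ : X.IdealSheafData, IsIntegral Γ.subscheme → topologicalKrullDim (Γ.support : Set X) = 1 →
      Curv2.euler k X (CohB1.tensorMod (ClSub.quotMod Γ) (ClSub.idealMod D)) - Curv2.euler k X (ClSub.quotMod Γ) ≤ 0)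
    (D₁ D₂ : X.IdealSheafData) (hD₁ : FGA.IsEffCartier D₁) (hD₂ : FGA.IsEffCartier D₂)
    (hne₁ : D₁ ≠ ⊤) (hne₂ : D₂ ≠ ⊤) (hsum : D = D₁ * D₂) :
    0 < FGA.intNum k X 2 ![(ClSub.idealMod D₁), (ClSub.idealMod D₂)] (Coh.structureModule X) := by
  haveI := CurvLib.isNoetherian k (X := X)
  have hI₁ := IntMultLib.isInvertible_idealMod D₁ hD₁
  have hI₂ := IntMultLib.isInvertible_idealMod D₂ hD₂
  have hID := IntMultLib.isInvertible_idealMod D hD
  subst hsum
  obtain ⟨e⟩ := SurfNumLib.nonempty_idealMod_mul hD₁ hD₂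
  simp only [SurfNumLib.intNum_eq_pr_two hdim] at hpos ⊢
  have hadd : ∀ T : X.Modules, PicF.IsInvertible T → HodgeIdxLib.pr k (ClSub.idealMod (D₁ * D₂)) T =
      HodgeIdxLib.pr k (ClSub.idealMod D₁) T + HodgeIdxLib.pr k (ClSub.idealMod D₂) T := by
    intro T hT
    rw [← HodgeIdxLib.pr_tensor hdim.le hI₁ hI₂ hT]
    exact HodgeIdxLib.N_congr_head e.symm _ _
  have hnn : ∀ J : X.IdealSheafData, BlowUp.IsEffCartierIdeal J →
      0 ≤ HodgeIdxLib.pr k (ClSub.idealMod J) (ClSub.idealMod (D₁ * D₂)) := by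
    intro J hJ
    have hJI := IntMultLib.isInvertible_idealMod J hJ
    rw [SurfNumLib.pr_ideal J (CurvLib.isCoh_of_isInvertible hJI) hID, neg_nonneg]
    obtain ⟨eD⟩ := MiscFlat6.nonempty_dualIso hID
    have hdual := MiscFlat6.dual_isInvertible hID
    have hJd : topologicalKrullDim (CohB1.support (ClSub.quotMod J)) ≤ (([ClSub.idealMod (D₁ * D₂)] : List X.Modules).length : ℕ) := by
      have hJb := SurfNumLib.effCartier_ne_bot hJ
      rw [List.length_singleton, SurfNumLib.support_quotMod_eq]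
      refine IntFunLib.dim_le_iff.mp (HilbPolyLib.dim_lt_of_notMem J.support.isClosed
        (η := genericPoint X) (fun w _ => ?_) (fun hgen => hJb ?_) (Y := Set.univ) (Set.subset_univ _)
        (IntFunLib.dim_le_iff.mpr ((topologicalKrullDim_subspace_le _ _).trans hdim.le)))
      · rw [(genericPoint_spec X).def]; exact trivial
      · refine (Scheme.IdealSheafData.support_eq_top_iff (I := J)).mp (SetLike.ext fun w => iff_of_true ?_ trivial)
        exact J.support.isClosed.closure_subset_iff.mpr (Set.singleton_subset_iff.mpr hgen)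
          (specializes_iff_mem_closure.mp ((genericPoint_spec X).specializes trivial))
    have h := IntFunLib.N_nonneg (k := k) (l := [MiscFlat6.dual (ClSub.idealMod (D₁ * D₂))]) (by simpa using hdual)
      (CurvLib.isCoh_quotMod J) hJd fun ξ _ hξ => by
        rw [HodgeIdxLib.N_inv_head (l := []) hID hdual eD (by simp) (IntFunLib.coh_Fpt k ξ)
          (by rw [IntFunLib.supp_Fpt k, hξ]; simp), neg_nonneg]
        have := hnef (IntMultLib.ptIdeal ξ) (IntMultLib.isIntegral_ptIdeal ξ)
          (by rw [IntFunLib.dim_ptIdeal, hξ]; simp)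
        rw [CurvLib.euler_congr (k := k) (HilbPolyLib.swapIso _ _)] at this
        exact this
    rw [HodgeIdxLib.N_inv_head (l := []) hID hdual eD (by simp) (CurvLib.isCoh_quotMod J) hJd] at h
    omega
  have ha := hnn D₁ hD₁
  have hb := hnn D₂ hD₂
  by_contra hx
  push Not at hx
  have hdd := hadd _ hID
  rw [HodgeIdxLib.pr_comm (ClSub.idealMod D₁) (ClSub.idealMod (D₁ * D₂)), hadd _ hI₁,
    HodgeIdxLib.pr_comm (ClSub.idealMod D₂) (ClSub.idealMod D₁)] at ha
  rw [HodgeIdxLib.pr_comm (ClSub.idealMod D₂) (ClSub.idealMod (D₁ * D₂)), hadd _ hI₂] at hb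
  have ea : HodgeIdxLib.pr k (ClSub.idealMod D₁) (ClSub.idealMod (D₁ * D₂)) =
      HodgeIdxLib.pr k (ClSub.idealMod D₁) (ClSub.idealMod D₁) +
        HodgeIdxLib.pr k (ClSub.idealMod D₁) (ClSub.idealMod D₂) := by
    rw [HodgeIdxLib.pr_comm, hadd _ hI₁, HodgeIdxLib.pr_comm (ClSub.idealMod D₂)]
  have eb : HodgeIdxLib.pr k (ClSub.idealMod D₂) (ClSub.idealMod (D₁ * D₂)) =
      HodgeIdxLib.pr k (ClSub.idealMod D₁) (ClSub.idealMod D₂) +
        HodgeIdxLib.pr k (ClSub.idealMod D₂) (ClSub.idealMod D₂) := by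
    rw [HodgeIdxLib.pr_comm, hadd _ hI₂]
  have hq := SurfNumLib.mul_le_sq_proper (k := k) hdim hID hI₁ hpos
  rw [hdd, ea, eb] at hq
  set p := HodgeIdxLib.pr k (ClSub.idealMod D₁) (ClSub.idealMod D₁) with hp
  set x := HodgeIdxLib.pr k (ClSub.idealMod D₁) (ClSub.idealMod D₂) with hxdef
  set r := HodgeIdxLib.pr k (ClSub.idealMod D₂) (ClSub.idealMod D₂) with hr
  have hcase : p + x = 0 ∨ x + r = 0 := by
    by_contra hc
    push Not at hc
    have h1 : 0 < p + x := lt_of_le_of_ne ha (Ne.symm hc.1)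
    have h2 : 0 < x + r := lt_of_le_of_ne hb (Ne.symm hc.2)
    nlinarith [mul_pos h1 h2]
  rcases hcase with h0 | h0
  · exact SurfNumLib.curve_ne_zero_of_effCartier (k := k) hdim hD₁ hne₁ fun c hc =>
      SurfNumLib.curve_zero hdim hID hI₁ hpos (by rw [ea, h0]) (by omega) hc
  · exact SurfNumLib.curve_ne_zero_of_effCartier (k := k) hdim hD₂ hne₂ fun c hc =>
      SurfNumLib.curve_zero hdim hID hI₂ hpos (by rw [eb, h0]) (by omega) hc

end Groth.Agent.S15098
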