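import Groth.Statements.S15100
import Mathlib.RingTheory.Kaehler.Basic
import Mathlib.RingTheory.Ideal.KrullsHeightTheorem
import Mathlib.RingTheory.KrullDimension.Basic
import Mathlib.Algebra.Module.LocalizedModule.Exact
import Mathlib.LinearAlgebra.Dimension.Finrank
import Mathlib.RingTheory.Finiteness.Basic

set_option autoImplicit false
universe u
open TensorProduct
open CAlg

namespace Groth.Agent.S15100

/-- Let V be a discrete valuation ring with uniformizer u and V → R → A commutative V-algebras with A an
R-algebra compatibly; assume A is a Noetherian local domain of Krull dimension 3 with u in its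
maximal ideal, that Ω_{A/V} is a free A-module of rank 2 and that A ⊗_R Ω_{R/V} is a free A-module
of rank 1. Suppose that on the special fibre Ω_{A/R} is locally free exactly away from the closed
point: for every prime P of A containing u other than the maximal ideal the localization (Ω_{A/R})_P
is free over A_P, while Ω_{A/R} is not free over A. Then Ω_{A/R} is not locally free on the generic
fibre: there is a prime Q of A not containing u with (Ω_{A/R})_Q not free over A_Q. (In the
published statement R is a regular local ring of dimension 2 and A a local ring of dimension 3, both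
smooth over V, which yields the two freeness hypotheses used here, and the hypothesis is phrased as
local freeness of Ω of the special fibre of A over that of R away from the closed point.) -/
theorem result
    (V R A : Type u) [CommRing V] [IsDomain V] [IsDiscreteValuationRing V] [CommRing R] [CommRing A]
    [IsDomain A] [IsNoetherianRing A] [IsLocalRing A]
    [Algebra V R] [Algebra V A] [Algebra R A] [IsScalarTower V R A]
    (u : V) (hu : Irreducible u) (huA : algebraMap V A u ∈ IsLocalRing.maximalIdeal A)
    (hdimA : ringKrullDim A = 3)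
    (hΩA : Module.Free A (Ω[A⁄V])) (hrkA : Module.finrank A (Ω[A⁄V]) = 2)
    (hΩR : Module.Free A (A ⊗[R] Ω[R⁄V])) (hrkR : Module.finrank A (A ⊗[R] Ω[R⁄V]) = 1)
    (h0 : ∀ P : PrimeSpectrum A, algebraMap V A u ∈ P.asIdeal → P.asIdeal ≠ IsLocalRing.maximalIdeal A →
      Module.Free (Localization.AtPrime P.asIdeal) (LocalizedModule P.asIdeal.primeCompl (Ω[A⁄R])))
    (hm : ¬ Module.Free A (Ω[A⁄R])) :
    ∃ Q : PrimeSpectrum A, algebraMap V A u ∉ Q.asIdeal ∧
      ¬ Module.Free (Localization.AtPrime Q.asIdeal) (LocalizedModule Q.asIdeal.primeCompl (Ω[A⁄R])) := by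
  classical
  haveI : Module.Finite A (Ω[A⁄V]) := Module.finite_of_finrank_pos (by omega)
  haveI : Module.Finite A (A ⊗[R] Ω[R⁄V]) := Module.finite_of_finrank_pos (by omega)
  let b1 := Module.finBasisOfFinrankEq A (A ⊗[R] Ω[R⁄V]) hrkR
  let b2 := Module.finBasisOfFinrankEq A (Ω[A⁄V]) hrkA
  let f := KaehlerDifferential.mapBaseChange V R A
  let g := KaehlerDifferential.map V R A A
  have hex : Function.Exact f g := KaehlerDifferential.exact_mapBaseChange_map V R A
  have hg : Function.Surjective g := KaehlerDifferential.map_surjective V R A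
  let v := f (b1 0)
  have hrange : LinearMap.range f = Submodule.span A {v} := by
    rw [← Submodule.map_top, ← b1.span_eq, Submodule.map_span]
    congr 1
    rw [← Set.range_comp, Set.range_unique]
    rfl
  let c : Fin 2 → A := fun j => b2.repr v j
  let I : Ideal A := Ideal.span (Set.range c)
  have hv : v ≠ 0 := by
    intro hv
    refine hm ?_
    have hinj : Function.Injective g := (injective_iff_map_eq_zero g).2 fun x hx => by
      obtain ⟨y, rfl⟩ := (hex x).1 hx
      have := hrange ▸ LinearMap.mem_range_self f y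
      simpa [hv] using this
    exact Module.Free.of_equiv (LinearEquiv.ofBijective g ⟨hinj, hg⟩)
  have key : ∀ P : PrimeSpectrum A, I ≤ P.asIdeal →
      ¬ Module.Free (Localization.AtPrime P.asIdeal) (LocalizedModule P.asIdeal.primeCompl (Ω[A⁄R])) := by
    intro P hIP hfree
    let S := P.asIdeal.primeCompl
    let m0 := LocalizedModule.mkLinearMap S (A ⊗[R] Ω[R⁄V])
    let m2 := LocalizedModule.mkLinearMap S (Ω[A⁄V])
    let f' := IsLocalizedModule.mapExtendScalars S m0 m2 (Localization.AtPrime P.asIdeal) f
    let g' := IsLocalizedModule.mapExtendScalars S m2 (LocalizedModule.mkLinearMap S (Ω[A⁄R])) (Localization.AtPrime P.asIdeal) g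
    have hex' : Function.Exact f' g' := IsLocalizedModule.map_exact S m0 m2 _ f g hex
    have hg' : Function.Surjective g' := IsLocalizedModule.map_surjective S m2 _ g hg
    haveI : Module.Projective (Localization.AtPrime P.asIdeal) (LocalizedModule S (Ω[A⁄R])) := Module.Projective.of_free
    obtain ⟨σ, hσ⟩ := Module.projective_lifting_property g' LinearMap.id hg'
    have hvj : ∀ x : LocalizedModule S (Ω[A⁄V]), ∃ a : Localization.AtPrime P.asIdeal, x - σ (g' x) = a • m2 v := by
      intro x
      have h0 : g' (x - σ (g' x)) = 0 := by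
        rw [map_sub, show g' (σ (g' x)) = g' x from LinearMap.congr_fun hσ (g' x), sub_self]
      obtain ⟨y, hy⟩ := (hex' _).1 h0
      obtain ⟨⟨z, s⟩, rfl⟩ := IsLocalizedModule.mk'_surjective S m0 y
      obtain ⟨t, ht⟩ : ∃ t : A, f z = t • v :=
        (Submodule.mem_span_singleton.1 (hrange ▸ LinearMap.mem_range_self f z)).imp fun t ht => ht.symm
      refine ⟨IsLocalization.mk' (Localization.AtPrime P.asIdeal) t s, ?_⟩
      rw [← hy]
      show IsLocalizedModule.map S m0 m2 f (IsLocalizedModule.mk' m0 z s) = _
      rw [IsLocalizedModule.map_mk', ht, ← IsLocalizedModule.mk'_one S m2 v, IsLocalizedModule.mk'_smul_mk', mul_one]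
    choose a ha using hvj
    have hv0 : g' (m2 v) = 0 := by
      refine (hex' _).2 ⟨m0 (b1 0), ?_⟩
      show IsLocalizedModule.map S m0 m2 f (m0 (b1 0)) = m2 v
      rw [IsLocalizedModule.map_apply]
    have hsum : m2 v = (∑ j, algebraMap A (Localization.AtPrime P.asIdeal) (c j) * a (m2 (b2 j))) • m2 v := by
      rw [Finset.sum_smul]
      simp only [mul_smul, ← ha, algebraMap_smul, ← map_smul, smul_sub, Finset.sum_sub_distrib]
      simp only [← LinearMap.map_smul_of_tower, ← map_sum]
      rw [b2.sum_repr v, hv0, map_zero, sub_zero]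
    have hmem : (∑ j, algebraMap A (Localization.AtPrime P.asIdeal) (c j) * a (m2 (b2 j))) ∈
        IsLocalRing.maximalIdeal (Localization.AtPrime P.asIdeal) :=
      Ideal.sum_mem _ fun j _ => Ideal.mul_mem_right _ _
        ((IsLocalization.AtPrime.to_map_mem_maximal_iff _ P.asIdeal (c j)).2 (hIP (Ideal.subset_span ⟨j, rfl⟩)))
    have h1 : m2 v = 0 := by
      have h2 : (1 - ∑ j, algebraMap A (Localization.AtPrime P.asIdeal) (c j) * a (m2 (b2 j))) • m2 v = 0 := by
        rw [sub_smul, one_smul, ← hsum, sub_self]
      exact (IsUnit.smul_eq_zero (IsLocalRing.isUnit_one_sub_self_of_mem_nonunits _ hmem)).1 h2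
    obtain ⟨s, hs⟩ := (IsLocalizedModule.eq_zero_iff S m2).1 h1
    refine hv (b2.repr.injective (Finsupp.ext fun j => ?_))
    have h3 := congrArg (fun x => b2.repr x j) hs
    simp only [Submonoid.smul_def, map_smul, Finsupp.smul_apply, smul_eq_mul, map_zero, Finsupp.zero_apply] at h3
    rw [map_zero, Finsupp.zero_apply]
    exact (mul_eq_zero.1 h3).resolve_left fun h => s.2 (h ▸ P.asIdeal.zero_mem)
  have hIm : I ≤ IsLocalRing.maximalIdeal A := by
    by_contra hnot
    obtain ⟨j, hj⟩ : ∃ j, IsUnit (c j) := by
      by_contra hall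
      push_neg at hall
      exact hnot (Ideal.span_le.2 (by rintro _ ⟨j, rfl⟩; exact (IsLocalRing.mem_maximalIdeal _).2 (hall j)))
    obtain ⟨w, hw⟩ := hj
    refine hm ?_
    have hnz : ∀ i : Fin 2, i ≠ j → i = j + 1 := fun i => (by decide : ∀ i j : Fin 2, i ≠ j → i = j + 1) i j
    refine Module.Free.of_basis (Module.Basis.mk (v := fun _ : Fin 1 => g (b2 (j + 1))) ?_ ?_)
    · rw [Fintype.linearIndependent_iff]
      intro t ht i
      rw [Fin.sum_univ_one, ← map_smul] at ht
      obtain ⟨y, hy⟩ := (hex _).1 ht
      obtain ⟨r, hr⟩ := Submodule.mem_span_singleton.1 (hrange ▸ hy ▸ LinearMap.mem_range_self f y)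
      have hj' := congrArg (fun x => b2.repr x j) hr
      have hj1 := congrArg (fun x => b2.repr x (j + 1)) hr
      have hne : j + 1 ≠ j := (by decide : ∀ j : Fin 2, j + 1 ≠ j) j
      simp only [map_smul, Finsupp.smul_apply, Module.Basis.repr_self, smul_eq_mul, Finsupp.single_eq_same,
        Finsupp.single_eq_of_ne hne.symm, mul_zero, mul_one] at hj' hj1
      have hr0 : r = 0 := by
        change r * c j = 0 at hj'
        rwa [← hw, Units.mul_left_eq_zero] at hj'
      rw [hr0, zero_mul] at hj1
      fin_cases i
      exact hj1.symm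
    · intro x _
      obtain ⟨x, rfl⟩ := hg x
      have hvz : g v = 0 := (hex _).2 ⟨_, rfl⟩
      have hsp : ∀ i, g (b2 i) ∈ Submodule.span A (Set.range fun _ : Fin 1 => g (b2 (j + 1))) := by
        intro i
        by_cases hi : i = j
        · subst hi
          rw [← b2.sum_repr v, map_sum] at hvz
          have he : g (b2 i) = -((↑w⁻¹ : A) * c (i + 1)) • g (b2 (i + 1)) := by
            rw [← Finset.sum_erase_add _ _ (Finset.mem_univ i), map_smul,
              (by decide : ∀ i : Fin 2, (Finset.univ.erase i : Finset (Fin 2)) = {i + 1}) i, Finset.sum_singleton, map_smul,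
              add_eq_zero_iff_eq_neg] at hvz
            rw [neg_smul, mul_smul, show c (i + 1) • g (b2 (i + 1)) = -(b2.repr v i • g (b2 i)) from hvz,
              smul_neg, neg_neg, smul_smul, show (↑w⁻¹ : A) * b2.repr v i = 1 by
                rw [show b2.repr v i = (w : A) from hw.symm, Units.inv_mul], one_smul]
          rw [he]
          exact Submodule.smul_mem _ _ (Submodule.subset_span ⟨0, rfl⟩)
        · rw [hnz i hi]
          exact Submodule.subset_span ⟨0, rfl⟩
      rw [← b2.sum_repr x, map_sum]
      exact Submodule.sum_mem _ fun i _ => by rw [map_smul]; exact Submodule.smul_mem _ _ (hsp i)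
  obtain ⟨Q, hQ, -⟩ := Ideal.exists_minimalPrimes_le hIm
  haveI : Q.IsPrime := hQ.1.1
  refine ⟨⟨Q, inferInstance⟩, fun huQ => ?_, key ⟨Q, inferInstance⟩ hQ.1.2⟩
  have hQm : Q ≠ IsLocalRing.maximalIdeal A := by
    intro h
    have h1 := Ideal.height_le_card_of_mem_minimalPrimes_span (s := Set.range c) (Set.finite_range c) hQ
    rw [h] at h1
    have h2 := IsLocalRing.maximalIdeal_height_eq_ringKrullDim (R := A)
    rw [hdimA] at h2
    have h3 : (IsLocalRing.maximalIdeal A).height = 3 := WithBot.coe_eq_coe.1 h2
    have h4 : (Set.range c).ncard ≤ 2 := by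
      rw [← Set.image_univ]
      exact (Set.ncard_image_le Set.finite_univ).trans (by simp [Set.ncard_univ])
    rw [h3] at h1
    have h5 : (3 : ℕ∞) ≤ ((2 : ℕ) : ℕ∞) := h1.trans (by exact_mod_cast h4)
    norm_num at h5
  exact key ⟨Q, inferInstance⟩ hQ.1.2 (h0 ⟨Q, inferInstance⟩ huQ hQm)

end Groth.Agent.S15100
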