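import Groth.Statements.S15104
import Groth.Agent.VertChiLib.Mono
import Groth.Agent.VertChiLib.CurveH0
import Groth.Agent.VertChiLib.CurveLen
-- import your own Groth.Agent.* helpers here

set_option autoImplicit false
universe u
open CategoryTheory CategoryTheory.Limits AlgebraicGeometry
open Models

set_option backward.isDefEq.respectTransparency false

namespace Groth.Agent.S15104

/-- Let R be a discrete valuation ring with algebraically closed residue field k and fraction field K, C
a smooth proper curve over K with H⁰(C, O_C) = K and dim_K H¹(C, O_C) = g ≥ 2, and X → Spec R a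
minimal regular model of C: a regular proper model none of whose vertical prime divisors is an
exceptional curve of the first kind. Let Γ₁, …, Γ_n enumerate the irreducible components of the
closed fibre, with multiplicities r_i having gcd 1, and suppose the closed fibre is not reduced
(some r_i ≥ 2). Then dim_k H¹((X_k)_red, O) < g, the left side computed as the R-length of H¹(X, O_X
/ I) for I the ideal sheaf of the reduced closed fibre. (The published lemma states this for any
regular model with gcd(r_i) = 1; its proof uses, in the last step, that the component added last is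
not an exceptional curve, the standing hypothesis of the result it serves, and the inequality fails
after blowing up a node of a reduced semi-stable fibre, so minimality is assumed here.) -/
theorem result
    (R : Type u) [CommRing R] [IsDomain R] [IsDiscreteValuationRing R]
    (hk : IsAlgClosed (IsLocalRing.ResidueField R))
    (C : Scheme.{u}) (fC : C ⟶ (Spec (CommRingCat.of (FractionRing R)))) [IsProper fC] [Smooth fC]
    (hC0 : Models.hRank (FractionRing R) C fC (Coh.structureModule C) 0 = 1)
    (g : ℕ) (hg2 : 2 ≤ g) (hg : Models.curveGenus (FractionRing R) C fC = g)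
    (X : Scheme.{u}) (p : X ⟶ (Spec (CommRingCat.of R))) (hX : Models.IsMinimalModel R X p C fC)
    {n : ℕ} (Γ : Fin n → ArSurf.VertComp R (Over.mk p)) (hΓ : Models.IsComponentList R (Over.mk p) Γ)
    (hgcd : Models.multGcd R (Over.mk p) Γ = 1) (hnr : ∃ i, 2 ≤ Models.mult R (Over.mk p) (Γ i)) :
    Models.lengthH R (Over.mk p) (ClSub.quotMod (Models.redFibreIdeal R (Over.mk p))) 1 < g := by
  classical
  obtain ⟨i₀, hi₀⟩ := hnr
  have hH0 := VertChiLib.isIso_appTop_of_h0 fC hC0
  haveI := VertChiLib.isIntegral_of_appTop fC hH0
  have hC := VertChiLib.isSmoothProperCurve_of_list hX.1 hΓ i₀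
  obtain ⟨⟨hMod, hp, hreg⟩, hmin⟩ := hX
  haveI := hp
  haveI : IsIntegral (Over.mk p).left := VertIntLib.isIntegral_of_model hC hMod hreg
  haveI : Flat (Over.mk p).hom := hMod.1
  haveI : IsProper (Over.mk p).hom := hp
  obtain ⟨g', hg'⟩ := hMod.2.2.2
  have hconn := VertIntLib.isPreconnected_fibre hC hH0 hMod
  haveI : IsLocallyNoetherian (Over.mk p).left := LocallyOfFiniteType.isLocallyNoetherian (Over.mk p).hom
  have hC' := VertChiLib.isEffCartier_list (X := Over.mk p) hreg hΓ
  choose L hL using fun k => VertIntLib.exists_inverse (IntMultLib.isInvertible_idealMod _ (hC' k))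
  have hK := VertChiLib.isField_one (X := Over.mk p) hreg hΓ hL hconn i₀
  have hlen : VertChiLib.len R (ClSub.quotMod (VertChiLib.J (X := Over.mk p) Γ 1)) 0 = 1 :=
    VertChiLib.len_zero_eq_one hk (VertChiLib.fin1_J hC' 1) hK
  obtain ⟨r0, -, hlt⟩ := VertChiLib.h1_mono (X := Over.mk p) hreg hΓ hL hconn hgcd _ (1 : Fin n → ℕ) rfl
    (fun j => VertIntLib.mult_pos (X := Over.mk p) hreg hΓ j) (fun h => by simpa using congrFun h i₀) hK hlen
  have hlt' := hlt (fun h => by have := congrFun h i₀; simp only [Pi.one_apply] at this; omega)
    (fun i => hmin (Γ i))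
  have hχ := VertChiLib.χ_mult (X := Over.mk p) hreg hΓ hC hH0 hg'
  rw [← VertChiLib.J_one_eq (X := Over.mk p) hreg hΓ]
  exact VertChiLib.lt_of_χ r0 hχ hg hlt'

end Groth.Agent.S15104
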