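import Groth.Statements.S15108
import Groth.Agent.PrimeThetaLib.Main

set_option autoImplicit false
set_option backward.isDefEq.respectTransparency false
set_option backward.isDefEq.respectTransparency.types false
set_option maxHeartbeats 1000000
set_option synthInstance.maxHeartbeats 400000
universe u
open CategoryTheory CategoryTheory.Limits MonoidalCategory CartesianMonoidalCategory MonObj GrpObj AlgebraicGeometry
open GrpSch
open CoactBr (sp)
open scoped MonObj
attribute [local instance] CoactBr.braidedAlgSpecOf
attribute [-instance] CategoryTheory.Hom.commGroup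

namespace Groth.Agent.S15108

/-- Let k be an algebraically closed field and 1 → G_m → G → K → 1 a theta group over k: u : G_m → G and
v : G → K are homomorphisms of k-group schemes forming a sequence exact for the fppf topology (u ≫ v
trivial, G a pseudo-torsor over K under G_m acting by right translations through u, v acquiring
sections fppf-locally on K), with K commutative and u(G_m) central in G. If K is finite of prime
order ℓ — K is k-isomorphic to Spec B for a k-algebra B of dimension ℓ over k, ℓ a prime number,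
possibly the characteristic — then G is commutative: g h = h g for all points g, h of G with values
in any k-scheme T. -/
theorem result (k : Type u) [Field k] [IsAlgClosed k]
    (G K : Over (Spec (CommRingCat.of k))) [GrpObj G] [GrpObj K] [IsCommMonObj K]
    (u : Red.Gm (Spec (CommRingCat.of k)) ⟶ G) (v : G ⟶ K) (hex : NonAbH1.IsExactSeq Scheme.fppfPrecoverage u v)
    (hcentral : ∀ (T : Over (Spec (CommRingCat.of k))) (g : T ⟶ G) (t : T ⟶ Red.Gm (Spec (CommRingCat.of k))), g * (t ≫ u) = (t ≫ u) * g)
    (B : Type u) [CommRing B] [Algebra k B] [Module.Finite k B] (ℓ : ℕ) (hℓ : ℓ.Prime)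
    (hB : Module.finrank k B = ℓ)
    (e : K.left ≅ Spec (CommRingCat.of B)) (he : e.hom ≫ Spec.map (CommRingCat.ofHom (algebraMap k B)) = K.hom) :
    ∀ (T : Over (Spec (CommRingCat.of k))) (g h : T ⟶ G), g * h = h * g := by
  haveI : IsAffine K.left := IsAffine.of_isIso e.hom
  obtain ⟨A, _, _, w, hw, hw'⟩ := DeligneKillLib.exists_sp K
  haveI := hw; haveI := hw'
  haveI : IsMonHom w.symm.hom := hw'
  haveI : IsIso w.hom.left := ((Over.forget _).mapIso w).isIso_hom
  let i : sp k A ≅ sp k B := w ≪≫ Over.isoMk e he
  obtain ⟨φ, hφ⟩ := Groth.Agent.DiagRep.exists_pt i.hom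
  obtain ⟨ψ, hψ⟩ := Groth.Agent.DiagRep.exists_pt i.inv
  have h1 : φ.comp ψ = AlgHom.id k A := CoactBr.pt_injective (R := k) (B := A) (K := A) (by
    rw [CoactBr.pt_comp, CoactBr.pt_id, ← hφ, ← hψ, Iso.hom_inv_id])
  have h2 : ψ.comp φ = AlgHom.id k B := CoactBr.pt_injective (R := k) (B := B) (K := B) (by
    rw [CoactBr.pt_comp, CoactBr.pt_id, ← hφ, ← hψ, Iso.inv_hom_id])
  let E : A ≃ₐ[k] B := AlgEquiv.ofAlgHom ψ φ h2 h1
  haveI : Module.Finite k A := Module.Finite.equiv E.symm.toLinearEquiv
  haveI : Fact ℓ.Prime := ⟨hℓ⟩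
  have hA : Module.finrank k A = ℓ := E.toLinearEquiv.finrank_eq.trans hB
  have hu := hex.1
  haveI : IsMonHom (Iso.refl (Red.Gm (Spec (CommRingCat.of k)))).hom := inferInstanceAs (IsMonHom (𝟙 _))
  have h := ExtGm.isExt_iso (ExtGm.isExt_of_isExactSeq hex) (Iso.refl _) w.symm
  rw [Iso.refl_hom, Category.id_comp] at h
  have hQ : ∀ (T : Over (Spec (CommRingCat.of k))) (a c : T ⟶ CoactBr.sp k A), a * c = c * a := fun T a c => by
    rw [← cancel_mono w.hom, MonObj.mul_comp, MonObj.mul_comp]
    exact ExtGm.commute _ _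
  exact Groth.Agent.PrimeTheta.comm_of_prime ℓ hA h hcentral hQ

end Groth.Agent.S15108
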