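import Groth.Statements.S15112
import Groth.Agent.FrobVBLib.Basic

set_option autoImplicit false
set_option backward.isDefEq.respectTransparency false
set_option backward.isDefEq.respectTransparency.types false
universe u
open CategoryTheory CategoryTheory.Limits AlgebraicGeometry TopologicalSpace
open KodV

namespace Groth.Agent.S15112

/-- Let k be an algebraically closed field of characteristic p > 0, X a proper integral scheme over k
all of whose local rings are integrally closed domains (a normal variety), F : X → X its absolute
Frobenius endomorphism, and E a finite locally free O_X-module. If H⁰(X, F^*E ⊗ Ω¹_{X/k}) = 0, then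
the homomorphism H¹(X, E) → H¹(X, F_*F^*E) induced on cohomology by the unit E → F_*F^*E of the
adjunction between F^* and F_* is injective. (The published statement is for a normal projective
variety; properness is all that is assumed here, the argument being local and cohomological.) -/
theorem result (k : Type u) [Field k] [IsAlgClosed k] (p : ℕ) [Fact p.Prime] [CharP k p]
    (X : Scheme.{u}) [X.Over (Spec (CommRingCat.of k))] [IsProper (X ↘ (Spec (CommRingCat.of k)))] [IsIntegral X] (hXn : Pi1.IsNormalScheme X)
    [FrobSch.IsCharP X p]
    (E : X.Modules) (hE : FlatMod.IsFinLocFree E)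
    (h0 : Subsingleton (Coh.HH X (CohB1.tensorMod ((Scheme.Modules.pullback (FrobSch.frob X p)).obj E) (Omega.sheaf (X ↘ (Spec (CommRingCat.of k))))) 0)) :
    Function.Injective
      (Sheaf.H.map ((SheafOfModules.toSheaf X.ringCatSheaf).map
        ((Scheme.Modules.pullbackPushforwardAdjunction (FrobSch.frob X p)).unit.app E)) 1) := by
  haveI : PerfectRing k p := PerfectField.toPerfectRing p
  refine (injective_iff_map_eq_zero _).2 fun x hx => FrobVBLib.eta_H1_injective k p hE hXn h0 x ?_
  let U := (Scheme.Modules.pullbackPushforwardAdjunction (FrobSch.frob X p)).unit.app E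
  let P := (Scheme.Modules.pullback (FrobSch.frob X p)).obj E
  let β : Coh.toAb ((Scheme.Modules.pushforward (FrobSch.frob X p)).obj P) ⟶ Coh.toAb P :=
    ⟨{ app := fun V => AddCommGrpCat.ofHom (AddMonoidHom.mk' (fun m => m) fun _ _ => rfl)
       naturality := fun _ _ _ => rfl }⟩
  have he : (SheafOfModules.toSheaf X.ringCatSheaf).map U ≫ β = FrobVBLib.eta p E := by
    ext V m
    rfl
  rw [← he, Sheaf.H.map_comp_apply]
  refine (congrArg (Sheaf.H.map β 1) hx).trans ?_
  exact map_zero _

end Groth.Agent.S15112
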