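import Groth.Statements.S15115
import Mathlib
import Groth.Agent.GLinFinLib.Trig
-- import your own Groth.Agent.* helpers here

set_option autoImplicit false
universe u
open HopfRep

open scoped TensorProduct
open scoped ComodLib
namespace Groth.Agent.S15115

open TensorProduct in
/-- Let k be an algebraically closed field, H a finite-dimensional commutative Hopf algebra over k all
of whose finite-dimensional comodules are semisimple (a finite linearly reductive group scheme G
over k), A a commutative k-algebra, and M an A-module with an H-coaction that is A-linear (G acts on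
M by A-module maps, A carrying the trivial action). Let A' be a commutative A-algebra and N = A' ⊗_A
M its base change, exhibited by an A-linear map φ : M → N, with the induced coaction: A'-linear and
compatible with φ. Then invariants commute with this base change: writing M^G for the A-submodule of
coinvariant elements of M, the natural map A' ⊗_A M^G → N, a' ⊗ m ↦ a' φ(m), is injective and its
image is exactly the set of coinvariant elements of N. (The published statement is the isomorphism
ρ^* π_* F → π'_* σ^* F for a tame Deligne–Mumford stack with coarse moduli space π and any base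
change ρ of the coarse space; this row is the statement about invariants to which its proof reduces
it, for modules that need not be finitely generated.) -/
theorem result (k : Type u) [Field k] [IsAlgClosed k]
    (H : Type u) [CommRing H] [HopfAlgebra k H] [Module.Finite k H] (hred : HopfRep.IsLinearlyReductive k H)
    (A : Type u) [CommRing A] [Algebra k A]
    (M : Type u) [AddCommGroup M] [Module k M] [Module A M] [IsScalarTower k A M] [HopfRep.Comod k H M]
    (hlin : ∀ (a : A) (m : M), HopfRep.Comod.coact (k := k) (A := H) (a • m) = a • HopfRep.Comod.coact (k := k) (A := H) m)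
    (A' : Type u) [CommRing A'] [Algebra k A'] [Algebra A A'] [IsScalarTower k A A']
    (N : Type u) [AddCommGroup N] [Module k N] [Module A N] [Module A' N]
    [IsScalarTower k A N] [IsScalarTower A A' N] [IsScalarTower k A' N] [HopfRep.Comod k H N]
    (φ : M →ₗ[A] N) (hφ : IsBaseChange A' φ)
    (hcomp : ∀ m : M, HopfRep.Comod.coact (k := k) (A := H) (φ m) =
      LinearMap.rTensor H (φ.restrictScalars k) (HopfRep.Comod.coact (k := k) (A := H) m))
    (hlinN : ∀ (a' : A') (n : N), HopfRep.Comod.coact (k := k) (A := H) (a' • n) = a' • HopfRep.Comod.coact (k := k) (A := H) n)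
    (P : Submodule A M) (hP : (P : Set M) = (HopfRep.fixedPts k H M : Set M)) :
    Function.Injective (TensorProduct.lift (((Algebra.lsmul A A N : A' →ₐ[A] Module.End A N).toLinearMap).compl₂ (φ ∘ₗ P.subtype))) ∧
      Set.range (TensorProduct.lift (((Algebra.lsmul A A N : A' →ₐ[A] Module.End A N).toLinearMap).compl₂ (φ ∘ₗ P.subtype))) =
        (HopfRep.fixedPts k H N : Set N) := by
  classical
  obtain ⟨β, hβ, hβ1⟩ := ComodLib.exists_invariant_of_isLinearlyReductive hred
  have hlinR : ∀ (a : A) (m : M), ComodLib.reynolds M β (a • m) = a • ComodLib.reynolds M β m := fun a m => by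
    simp only [ComodLib.reynolds, LinearMap.comp_apply, hlin]
    generalize HopfRep.Comod.coact (k := k) (A := H) m = z
    induction z with
    | zero => simp
    | add p q hp hq => simp only [map_add, smul_add, hp, hq]
    | tmul p q => rw [TensorProduct.smul_tmul', ComodLib.slice_tmul, ComodLib.slice_tmul, smul_comm]
  have hlinRN : ∀ (a : A') (m : N), ComodLib.reynolds N β (a • m) = a • ComodLib.reynolds N β m := fun a m => by
    simp only [ComodLib.reynolds, LinearMap.comp_apply, hlinN]
    generalize HopfRep.Comod.coact (k := k) (A := H) m = z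
    induction z with
    | zero => simp
    | add p q hp hq => simp only [map_add, smul_add, hp, hq]
    | tmul p q => rw [TensorProduct.smul_tmul', ComodLib.slice_tmul, ComodLib.slice_tmul, smul_comm]
  have hnat : ∀ m, φ (ComodLib.reynolds M β m) = ComodLib.reynolds N β (φ m) := fun m =>
    ComodLib.reynolds_natural (φ := φ.restrictScalars k) β (LinearMap.ext hcomp) m
  have hmem : ∀ m, ComodLib.reynolds M β m ∈ P := fun m => by
    rw [← SetLike.mem_coe, hP]; exact ComodLib.reynolds_mem hβ m
  let R : M →ₗ[A] P :=
    { toFun := fun m => ⟨ComodLib.reynolds M β m, hmem m⟩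
      map_add' := fun x y => Subtype.ext (by simp)
      map_smul' := fun a x => Subtype.ext (hlinR a x) }
  have hR : ∀ p : P, R p = p := fun p => Subtype.ext (ComodLib.reynolds_fixed hβ1 (by
    have := p.2; rw [← SetLike.mem_coe, hP] at this; exact this))
  set μ := TensorProduct.lift (((Algebra.lsmul A A N : A' →ₐ[A] Module.End A N).toLinearMap).compl₂ (φ ∘ₗ P.subtype))
  have hμ : ∀ (a : A') (p : P), μ (a ⊗ₜ[A] p) = a • φ (p : M) := fun a p => rfl
  let Q : N →ₗ[A] A' ⊗[A] P := R.lTensor A' ∘ₗ (hφ.equiv.symm.toLinearMap.restrictScalars A)
  have hQμ : ∀ t, Q (μ t) = t := fun t => by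
    induction t with
    | zero => simp
    | add x y hx hy => simp only [map_add, hx, hy]
    | tmul a p =>
      rw [hμ]
      show R.lTensor A' (hφ.equiv.symm (a • φ (p : M))) = _
      rw [← IsBaseChange.equiv_tmul hφ a (p : M), LinearEquiv.symm_apply_apply, LinearMap.lTensor_tmul, hR]
  have hμQ : ∀ x, μ (Q x) = ComodLib.reynolds N β x := fun x => by
    obtain ⟨t, rfl⟩ := hφ.equiv.surjective x
    show μ (R.lTensor A' (hφ.equiv.symm (hφ.equiv t))) = _
    rw [LinearEquiv.symm_apply_apply]
    induction t with
    | zero => simp
    | add x y hx hy => simp only [map_add, hx, hy]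
    | tmul a m =>
      rw [LinearMap.lTensor_tmul, hμ, IsBaseChange.equiv_tmul, hlinRN, ← hnat]
      rfl
  refine ⟨Function.LeftInverse.injective hQμ, Set.Subset.antisymm ?_ fun x hx => ⟨Q x, ?_⟩⟩
  · rintro _ ⟨t, rfl⟩
    rw [← hQμ t, hμQ]
    exact ComodLib.reynolds_mem hβ _
  · rw [hμQ]; exact ComodLib.reynolds_fixed hβ1 hx

end Groth.Agent.S15115
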