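import Groth.Statements.S15116
import Mathlib
import Mathlib
-- import your own Groth.Agent.* helpers here

set_option autoImplicit false
universe u v
open NRGIT

namespace Groth.Agent.S15116

/-- Let k be a characteristic-zero field and A a commutative k-algebra, graded by the integers with all
pieces of positive degree zero, and D a k-derivation of A that raises degrees by a fixed positive
integer l. If no maximal ideal of A contains both every piece of negative degree and the image of D,
then there is f with D f = 1. (The published statement is for an affine variety with an action of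
the semidirect product of the additive and multiplicative groups, the multiplicative group acting on
the coordinate ring with non-positive weights and on the Lie algebra of the additive group with
positive weight: the derivation is a generator of that Lie algebra, the maximal ideals containing
the pieces of negative degree are the limit points under the multiplicative group, and a limit point
has trivial additive stabiliser exactly when the image of D is not contained in its ideal; this row
keeps only this algebraic content, for any such graded algebra. The first assertion of the published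
lemma, that every point has a limit in the variety under the multiplicative group as t → 0, is not
part of this row.) -/
theorem result (k : Type u) [Field k] [CharZero k]
    (A : Type v) [CommRing A] [Algebra k A] (𝒜 : ℤ → Submodule k A) [GradedAlgebra 𝒜]
    (hpos : ∀ i : ℤ, 0 < i → 𝒜 i = ⊥)
    (D : Derivation k A A) (l : ℤ) (hl : 0 < l)
    (hD : ∀ (i : ℤ) (a : A), a ∈ 𝒜 i → D a ∈ 𝒜 (i + l))
    (hfree : ∀ m : Ideal A, m.IsMaximal → (∀ i : ℤ, i < 0 → (𝒜 i : Set A) ⊆ m) → ∃ a : A, D a ∉ m) :
    ∃ f : A, D f = 1 := by
  classical
  let π : A →ₗ[k] A := GradedAlgebra.proj 𝒜 0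
  have hπ : ∀ {i : ℤ} {a : A}, a ∈ 𝒜 i → π a = if i = 0 then a else 0 := by
    intro i a ha
    show GradedAlgebra.proj 𝒜 0 a = _
    rw [GradedAlgebra.proj_apply]
    split_ifs with h
    · subst h; exact DirectSum.decompose_of_mem_same 𝒜 ha
    · exact DirectSum.decompose_of_mem_ne 𝒜 ha h
  have hπmul : ∀ a b : A, π (a * b) = π a * π b := by
    intro a b
    induction a using DirectSum.Decomposition.inductionOn 𝒜 with
    | zero => simp
    | add a a' ha ha' => rw [add_mul, map_add, map_add, ha, ha', add_mul]
    | @homogeneous i a =>
      induction b using DirectSum.Decomposition.inductionOn 𝒜 with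
      | zero => simp
      | add b b' hb hb' => rw [mul_add, map_add, map_add, hb, hb', mul_add]
      | @homogeneous j b =>
        rw [hπ (SetLike.mul_mem_graded a.2 b.2), hπ a.2, hπ b.2]
        rcases lt_trichotomy i 0 with hi | hi | hi
        · rcases lt_trichotomy j 0 with hj | hj | hj
          · rw [if_neg (by omega), if_neg hi.ne, zero_mul]
          · rw [if_neg (by omega), if_neg hi.ne, zero_mul]
          · have : (b : A) = 0 := (Submodule.mem_bot k).1 ((hpos j hj).le b.2)
            simp [this]
        · subst hi
          rcases eq_or_ne j 0 with hj | hj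
          · subst hj; simp
          · simp [hj]
        · have : (a : A) = 0 := (Submodule.mem_bot k).1 ((hpos i hi).le a.2)
          simp [this]
  have hπ1 : π 1 = 1 := by rw [hπ (SetLike.one_mem_graded 𝒜), if_pos rfl]
  let A₀ : Subalgebra k A := SetLike.GradeZero.subalgebra 𝒜
  have hπmem : ∀ a, π a ∈ 𝒜 0 := fun a => by
    show GradedAlgebra.proj 𝒜 0 a ∈ 𝒜 0
    rw [GradedAlgebra.proj_apply]; exact Subtype.mem _
  let P : A →+* A₀ :=
    { toFun := fun a => ⟨π a, hπmem a⟩
      map_one' := Subtype.ext hπ1
      map_mul' := fun a b => Subtype.ext (hπmul a b)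
      map_zero' := Subtype.ext (map_zero π)
      map_add' := fun a b => Subtype.ext (map_add π a b) }
  have hD0 : ∀ c ∈ 𝒜 0, D c = 0 := fun c hc => by
    have := hD 0 c hc
    rw [hpos (0 + l) (by omega), Submodule.mem_bot] at this; exact this
  let J : Ideal A₀ :=
    { carrier := {x | ∃ f ∈ 𝒜 (-l), D f = (x : A)}
      zero_mem' := ⟨0, Submodule.zero_mem _, by simp⟩
      add_mem' := fun {x y} ⟨f, hf, hx⟩ ⟨g, hg, hy⟩ => ⟨f + g, Submodule.add_mem _ hf hg, by rw [map_add, hx, hy]; rfl⟩
      smul_mem' := fun c x ⟨f, hf, hx⟩ => ⟨(c : A) * f, by simpa using SetLike.mul_mem_graded c.2 hf, by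
        rw [Derivation.leibniz, hD0 _ c.2, smul_zero, add_zero, hx]; rfl⟩ }
  by_cases hJ : J = ⊤
  · obtain ⟨f, -, hf⟩ := (Ideal.eq_top_iff_one J).1 hJ
    exact ⟨f, hf⟩
  exfalso
  obtain ⟨M, hM, hJM⟩ := Ideal.exists_le_maximal J hJ
  have hPsurj : Function.Surjective P := fun x => ⟨x.1, Subtype.ext ((hπ x.2).trans (if_pos rfl))⟩
  haveI : (M.comap P).IsMaximal := Ideal.comap_isMaximal_of_surjective P hPsurj
  obtain ⟨a, ha⟩ := hfree (M.comap P) inferInstance fun i hi b hb => by
    show P b ∈ M
    rw [show P b = 0 from Subtype.ext ((hπ hb).trans (if_neg hi.ne))]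
    exact M.zero_mem
  apply ha
  clear ha
  induction a using DirectSum.Decomposition.inductionOn 𝒜 with
  | zero => simp
  | add a b ha hb => rw [map_add]; exact Ideal.add_mem _ ha hb
  | @homogeneous i a =>
    show P (D a) ∈ M
    rcases eq_or_ne (i + l) 0 with h | h
    · refine hJM ⟨a, ?_, ?_⟩
      · have := a.2; rwa [show -l = i by omega]
      · exact ((hπ (hD i a a.2)).trans (if_pos h)).symm
    · rw [show P (D a) = 0 from Subtype.ext ((hπ (hD i a a.2)).trans (if_neg h))]
      exact M.zero_mem

end Groth.Agent.S15116
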