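import Groth.Statements.S15117
import Mathlib
import Groth.Agent.ComodLib.LinRed
-- import your own Groth.Agent.* helpers here

set_option autoImplicit false
universe u v w
open TensorProduct
open NRGIT

namespace Groth.Agent.S15117

/-- Let k be a field, π : A → B a map of commutative bialgebras over k, W a right A-comodule and V ⊆ W a
subcomodule all of whose elements are coinvariant for the B-coaction induced through π. Then the
coaction of every v ∈ V lies in V ⊗ A' ⊆ W ⊗ A, where A' ⊆ A is the set of elements a with (π ⊗
id)(Δ a) = 1 ⊗ a, i.e. coinvariant for the coaction of B on A through π on the left factor; the row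
states membership in the span of the pure tensors w ⊗ a with w ∈ V and a ∈ A'. (The published
statement is for a linear algebraic group H over an algebraically closed field of characteristic
zero, a normal subgroup N and an H-stable space V of N-invariant sections of a linearised line
bundle, with the coaction landing in O(H)^N ⊗ V, where O(H)^N is the ring of functions on H
invariant under N acting by right multiplication; this row is the comodule form, for any bialgebra
map over a field, where normality of N is not needed.) -/
theorem result (k : Type u) [Field k]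
    (A B : Type v) [CommRing A] [CommRing B] [Bialgebra k A] [Bialgebra k B] (π : A →ₐc[k] B)
    (W : Type w) [AddCommGroup W] [Module k W] [HopfRep.Comod k A W]
    (V : Submodule k W) (hV : HopfRep.IsSubcomod (k := k) (A := A) V)
    (hfix : ∀ v ∈ V, (π.toLinearMap.lTensor W) (HopfRep.Comod.coact (k := k) (A := A) v) = v ⊗ₜ[k] (1 : B))
    (v : W) (hv : v ∈ V) :
    HopfRep.Comod.coact (k := k) (A := A) v ∈
      Submodule.span k {x : W ⊗[k] A | ∃ w ∈ V, ∃ a : A,
        (π.toLinearMap.rTensor A) (Coalgebra.comul (R := k) a) = (1 : B) ⊗ₜ[k] a ∧ x = w ⊗ₜ[k] a} := by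
  classical
  let b := Module.Free.chooseBasis k V
  obtain ⟨t, ht⟩ := hV v hv
  obtain ⟨c, hc⟩ := TensorProduct.eq_repr_basis_left b t
  have hv' : HopfRep.Comod.coact (k := k) (A := A) v = c.sum fun j a => (b j : W) ⊗ₜ[k] a := by
    rw [← ht, ← hc, map_finsuppSum]
    rfl
  rw [hv']
  refine Submodule.sum_mem _ fun j hj => Submodule.subset_span ⟨_, (b j).2, c j, ?_, rfl⟩
  obtain ⟨g, hg⟩ := LinearMap.exists_extend (b.coord j)
  have hgb : ∀ i, g (b i : W) = if i = j then 1 else 0 := fun i => by
    rw [show g (b i : W) = b.coord j (b i) from LinearMap.congr_fun hg (b i), Module.Basis.coord_apply,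
      Module.Basis.repr_self, Finsupp.single_apply]
  have ha : ComodLib.sliceL g (HopfRep.Comod.coact (k := k) (A := A) v) = c j := by
    rw [hv', map_finsuppSum, Finsupp.sum, Finset.sum_eq_single j]
    · simp [hgb]
    · intro i _ hne; simp [hgb, hne]
    · intro h; exact absurd hj h
  let Ψ : W ⊗[k] (A ⊗[k] A) →ₗ[k] B ⊗[k] A :=
    (TensorProduct.lid k (B ⊗[k] A)).toLinearMap ∘ₗ TensorProduct.map g (π.toLinearMap.rTensor A)
  let Φ : W ⊗[k] A →ₗ[k] B ⊗[k] A :=
    Ψ ∘ₗ (TensorProduct.assoc k W A A).toLinearMap ∘ₗ (HopfRep.Comod.coact (k := k) (A := A) (V := W)).rTensor A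
  have key : ∀ s : V ⊗[k] A, Φ (V.subtype.rTensor A s) =
      (1 : B) ⊗ₜ[k] ComodLib.sliceL g (V.subtype.rTensor A s) := fun s => by
    induction s with
    | zero => simp
    | add s s' hs hs' => simp only [map_add, TensorProduct.tmul_add, hs, hs']
    | tmul q a =>
      have e2 : ∀ z : W ⊗[k] A, Ψ (TensorProduct.assoc k W A A (z ⊗ₜ[k] a)) =
          ((TensorProduct.lid k B).toLinearMap ∘ₗ g.rTensor B) (π.toLinearMap.lTensor W z) ⊗ₜ[k] a := fun z => by
        induction z with
        | zero => simp
        | add z z' hz hz' => simp only [TensorProduct.add_tmul, map_add, hz, hz']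
        | tmul x y => simp [Ψ, TensorProduct.smul_tmul']
      show Ψ (TensorProduct.assoc k W A A
        (HopfRep.Comod.coact (k := k) (A := A) (q : W) ⊗ₜ[k] a)) = _
      rw [e2, hfix q q.2]
      simp [TensorProduct.smul_tmul]
  have h2 := key t
  rw [ht, ha] at h2
  rw [← h2]
  show _ = Ψ (TensorProduct.assoc k W A A ((HopfRep.Comod.coact (k := k) (A := A)).rTensor A
    (HopfRep.Comod.coact (k := k) (A := A) v)))
  rw [ComodLib.coassoc_apply (k := k) (A := A) (V := W) v, hv', map_finsuppSum, map_finsuppSum, Finsupp.sum,
    Finset.sum_eq_single j]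
  · simp [Ψ, hgb]
  · intro i _ hne; simp [Ψ, hgb, hne]
  · intro h; exact absurd hj h

end Groth.Agent.S15117
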