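import Groth.Statements.S15120
import Groth.Agent.GITAffLib.Setup
import Groth.Agent.GITAffLib.NormalQuot
-- import your own Groth.Agent.* helpers here

set_option autoImplicit false
universe u
open CategoryTheory MonoidalCategory CartesianMonoidalCategory MonObj GrpObj AlgebraicGeometry Topology
open NRGIT

attribute [-instance] CategoryTheory.ReflQuiver.toQuiver CompletePartialOrder.toPartialOrder CompletePartialOrder.toOrderBot

namespace Groth.Agent.S15120

/-- Over an algebraically closed field k of characteristic zero, let H be a linear algebraic group
(affine, reduced, of finite type) with a closed normal subgroup N and quotient q : H → Q (a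
surjective homomorphism with kernel N), acting on a variety X (reduced, separated, of finite type);
let the restricted action of N have a geometric quotient π : X → Y with Y a variety, and let Q act
on Y so that π is equivariant along q; assume Y affine and Q connected reductive. Then Y admits a
geometric quotient by Q whose target is a variety (separated, reduced, of finite type) exactly when
every orbit of a geometric point of X under H is closed. (The published lemma allows any reductive
Q, not necessarily connected, and assumes in addition that the stabilisers of the N-action are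
finite, which this part does not use; geometric quotients there are affine good quotients that are
orbit spaces, while this row uses universally submersive geometric quotients that need not be
affine, and the induced action of Q on Y is taken as a datum together with the equivariance of π;
this row takes Q connected reductive.) -/
theorem result (k : Type u) [Field k] [IsAlgClosed k] [CharZero k]
    (H N Q X Y : Over (Spec (CommRingCat.of k))) [GrpObj H] [GrpObj N] [GrpObj Q]
    [IsAffine H.left] [LocallyOfFiniteType H.hom] [IsReduced H.left]
    [IsAffine N.left] [LocallyOfFiniteType N.hom] [IsReduced N.left]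
    [IsAffine Q.left] [LocallyOfFiniteType Q.hom] [IsReduced Q.left]
    [LocallyOfFiniteType X.hom] [QuasiCompact X.hom] [IsSeparated X.hom] [IsReduced X.left]
    [LocallyOfFiniteType Y.hom] [QuasiCompact Y.hom] [IsSeparated Y.hom] [IsReduced Y.left]
    (i : N ⟶ H) [IsMonHom i] [IsClosedImmersion i.left] (hnorm : AlgGrp.IsNormalHom i)
    (q : H ⟶ Q) [IsMonHom q] [Surjective q.left] (hker : AlgGrp.IsKernel i q)
    (a : AlgGrp.Action H X) (aN : AlgGrp.Action N X) (haN : aN.act = (i ▷ X) ≫ a.act)
    (π : X ⟶ Y) (hπ : GIT.IsGeomQuot aN π)
    (aQ : AlgGrp.Action Q Y) (hequiv : (q ⊗ₘ π) ≫ aQ.act = a.act ≫ π)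
    [IsAffine Y.left] (hQ : Red.IsReductive Q) :
    (∃ (Z : Over (Spec (CommRingCat.of k))) (ψ : Y ⟶ Z), LocallyOfFiniteType Z.hom ∧ QuasiCompact Z.hom ∧
        IsSeparated Z.hom ∧ IsReduced Z.left ∧ GIT.IsGeomQuot aQ ψ) ↔ GIT.IsClosedAction a := by
  haveI : LocallyOfFiniteType π.left := by
    haveI : LocallyOfFiniteType (π.left ≫ Y.hom) := by rw [Over.w π]; infer_instance
    exact locallyOfFiniteType_of_comp π.left Y.hom
  have hiff := GITAffLib.isClosedAction_iff_of_normal haN hπ q.left.surjective hequiv
  refine ⟨fun ⟨Z, ψ, _, _, hZs, _, hgq⟩ => ?_, fun ha => ?_⟩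
  · haveI := hZs
    exact hiff.1 (GITAffLib.isClosedAction_of_isGeomQuot hgq)
  · obtain ⟨A, _, _, w, _, _, β, hβ, h1, hlr⟩ := GITAffLib.exists_setup Q hQ
    obtain ⟨Z, ψ, hZ, hinv, hgood⟩ := GITAffLib.exists_isGood (w := w) hβ aQ
    obtain ⟨huniv, hsub⟩ := hgood.main hβ h1 hinv
    have hP := hgood.props w hβ h1
    haveI := hZ
    haveI : _root_.IsReduced Γ(Z.left, ⊤) := isReduced_of_injective ψ.left.appTop.hom hP.inj
    haveI : IsReduced (Spec Γ(Z.left, ⊤)) := inferInstance
    refine ⟨Z, ψ, GITAffLib.locallyOfFiniteType_of_isGood h1 hlr hgood inferInstance, inferInstance,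
      inferInstance, isReduced_of_isOpenImmersion Z.left.isoSpec.hom, hinv, GITQuotLib.univCat_surjective huniv,
      GITAffLib.psiY_surjective_of_isClosedAction hβ h1 hgood hinv (hiff.2 ha), hsub,
      GITQuotLib.univCat_sections huniv⟩

end Groth.Agent.S15120
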