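import Groth.Statements.S15121
import Mathlib.RingTheory.GradedAlgebra.Basic
import Mathlib.RingTheory.Ideal.Maximal
import Mathlib.RingTheory.Derivation.Basic

set_option autoImplicit false
universe u v w
open InvQ

namespace Groth.Agent.S15121

/-- Let k be a field of characteristic zero and A a commutative k-algebra graded by a finitely generated
free abelian group Λ (the character group of a torus acting on Spec A) whose grading monoid is
positive: if the pieces of degrees w and −w are both non-zero then w = 0. Let δ be a locally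
nilpotent k-derivation of A (an action of the additive group) that is homogeneous of degree d, with
the piece of degree d equal to zero (the graded condition on the Lie algebra weight). Suppose that
no maximal ideal of A contains both all graded pieces of non-zero degree and the image of δ (every
torus-fixed closed point has trivial stabiliser under the additive group). Then δ has a homogeneous
slice: some s of degree −d with δ s = 1. (The published statement is for the coordinate ring of an
affine variety over an algebraically closed field of characteristic zero and concludes moreover that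
the quotient map by the additive group is a trivial principal bundle, which follows from the slice
by a standard argument not restated here; this row keeps the algebraic content, for any such graded
algebra.) -/
theorem result
    (k : Type u) [Field k] [CharZero k]
    (A : Type v) [CommRing A] [Algebra k A]
    (Λ : Type w) [AddCommGroup Λ] [DecidableEq Λ] [Module.Free ℤ Λ] [Module.Finite ℤ Λ]
    (𝒜 : Λ → Submodule k A) [GradedAlgebra 𝒜]
    (hpos : ∀ w : Λ, 𝒜 w ≠ ⊥ → 𝒜 (-w) ≠ ⊥ → w = 0)
    (δ : Derivation k A A) (hnil : ∀ a : A, ∃ n : ℕ, ((δ : A →ₗ[k] A) ^ n) a = 0)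
    (d : Λ) (hhom : ∀ (w : Λ) (a : A), a ∈ 𝒜 w → δ a ∈ 𝒜 (w + d)) (hd : 𝒜 d = ⊥)
    (hfix : ∀ m : Ideal A, m.IsMaximal → (∀ w : Λ, w ≠ 0 → (𝒜 w : Set A) ⊆ m) → ¬ (Set.range δ ⊆ m)) :
    ∃ s ∈ 𝒜 (-d), δ s = 1 := by
  classical
  let P : A → A := fun x => GradedRing.proj 𝒜 0 x
  have P0 : ∀ {w : Λ} {x : A}, x ∈ 𝒜 w → w ≠ 0 → P x = 0 := fun hx hw => by
    simp only [P, GradedRing.proj_apply]
    exact DirectSum.decompose_of_mem_ne 𝒜 hx hw
  have P1 : ∀ {x : A}, x ∈ 𝒜 0 → P x = x := fun hx => by
    simp only [P, GradedRing.proj_apply]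
    exact DirectSum.decompose_of_mem_same 𝒜 hx
  have Padd : ∀ x y, P (x + y) = P x + P y := fun x y => map_add _ x y
  have Pzero : P 0 = 0 := map_zero _
  -- products landing in degree zero
  have hJ : ∀ (a : A) {w : Λ}, w ≠ 0 → ∀ x ∈ 𝒜 w, P (a * x) = 0 := by
    intro a w hw x hx
    induction a using DirectSum.Decomposition.inductionOn 𝒜 with
    | zero => rw [zero_mul]; exact Pzero
    | homogeneous a =>
      rename_i u
      by_cases h : u + w = 0
      · by_cases ha : (a : A) = 0
        · rw [ha, zero_mul]; exact Pzero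
        by_cases hx0 : x = 0
        · rw [hx0, mul_zero]; exact Pzero
        refine absurd (hpos w (Submodule.ne_bot_iff _ |>.2 ⟨x, hx, hx0⟩) ?_) hw
        rw [← eq_neg_of_add_eq_zero_left h]
        exact Submodule.ne_bot_iff _ |>.2 ⟨a, a.2, ha⟩
      · exact P0 (SetLike.mul_mem_graded a.2 hx) h
    | add a b ha hb => rw [add_mul, Padd, ha, hb, add_zero]
  have hδ : ∀ a b : A, ∃ s ∈ 𝒜 (-d), δ s = P (a * δ b) := by
    intro a b
    induction b using DirectSum.Decomposition.inductionOn 𝒜 with
    | zero => exact ⟨0, zero_mem _, by rw [map_zero, mul_zero, Pzero]⟩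
    | homogeneous b =>
      rename_i v
      induction a using DirectSum.Decomposition.inductionOn 𝒜 with
      | zero => exact ⟨0, zero_mem _, by rw [map_zero, zero_mul, Pzero]⟩
      | homogeneous a =>
        rename_i u
        have hmem := SetLike.mul_mem_graded a.2 (hhom v b b.2)
        by_cases h : u + (v + d) = 0
        · by_cases ha : (a : A) = 0
          · exact ⟨0, zero_mem _, by rw [map_zero, ha, zero_mul, Pzero]⟩
          by_cases hb : δ (b : A) = 0
          · exact ⟨0, zero_mem _, by rw [map_zero, hb, mul_zero, Pzero]⟩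
          have hu : u = 0 := by
            refine hpos u (Submodule.ne_bot_iff _ |>.2 ⟨a, a.2, ha⟩) ?_
            rw [← eq_neg_of_add_eq_zero_right h]
            exact Submodule.ne_bot_iff _ |>.2 ⟨δ b, hhom v b b.2, hb⟩
          subst hu
          have hv : v = -d := eq_neg_of_add_eq_zero_left (by simpa using h)
          subst hv
          refine ⟨(a : A) * b, by simpa using SetLike.mul_mem_graded a.2 b.2, ?_⟩
          have hda : δ (a : A) = 0 := by
            have := hhom 0 a a.2
            rwa [zero_add, hd, Submodule.mem_bot] at this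
          rw [Derivation.leibniz, hda, smul_zero, add_zero, smul_eq_mul, P1 (by simpa using hmem)]
        · exact ⟨0, zero_mem _, by rw [map_zero, P0 hmem h]⟩
      | add a a' ha ha' =>
        obtain ⟨s, hs, hs'⟩ := ha
        obtain ⟨t, ht, ht'⟩ := ha'
        exact ⟨s + t, add_mem hs ht, by rw [map_add, hs', ht', add_mul, Padd]⟩
    | add b b' hb hb' =>
      obtain ⟨s, hs, hs'⟩ := hb
      obtain ⟨t, ht, ht'⟩ := hb'
      exact ⟨s + t, add_mem hs ht, by rw [map_add, hs', ht', map_add, mul_add, Padd]⟩
  let S : Set A := (⋃ (w : Λ) (_ : w ≠ 0), (𝒜 w : Set A)) ∪ Set.range δ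
  have htop : Ideal.span S = ⊤ := by
    by_contra hne
    obtain ⟨m, hm, hle⟩ := Ideal.exists_le_maximal _ hne
    exact hfix m hm (fun w hw x hx => hle (Ideal.subset_span (Or.inl (Set.mem_iUnion₂.2 ⟨w, hw, hx⟩))))
      fun x hx => hle (Ideal.subset_span (Or.inr hx))
  have key : ∀ x ∈ Ideal.span S, ∀ a : A, ∃ s ∈ 𝒜 (-d), δ s = P (a * x) := by
    intro x hx
    induction hx using Submodule.span_induction with
    | mem x hx =>
      intro a
      rcases hx with hx | ⟨b, rfl⟩
      · obtain ⟨w, hw, hx⟩ := Set.mem_iUnion₂.1 hx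
        exact ⟨0, zero_mem _, by rw [map_zero, hJ a hw x hx]⟩
      · exact hδ a b
    | zero => exact fun a => ⟨0, zero_mem _, by rw [map_zero, mul_zero, Pzero]⟩
    | add x y _ _ hx hy =>
      intro a
      obtain ⟨s, hs, hs'⟩ := hx a
      obtain ⟨t, ht, ht'⟩ := hy a
      exact ⟨s + t, add_mem hs ht, by rw [map_add, hs', ht', mul_add, Padd]⟩
    | smul c x _ hx => exact fun a => by rw [smul_eq_mul, ← mul_assoc]; exact hx _
  obtain ⟨s, hs, hs'⟩ := key 1 (htop ▸ trivial) 1
  exact ⟨s, hs, by rw [hs', mul_one, P1 SetLike.GradedOne.one_mem]⟩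

end Groth.Agent.S15121
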