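import Groth.Statements.S15123
import Groth.Agent.TorusLib.Weights
import Mathlib


-- import your own Groth.Agent.* helpers here

set_option autoImplicit false
universe u v w
open InvQ

namespace Groth.Agent.S15123

/-- Let k be an algebraically closed field of characteristic zero, Λ a finitely generated free abelian
group and k[Λ] its group algebra, the coordinate Hopf algebra of the torus with character group Λ.
Let R be a reduced finitely generated commutative k-algebra with a multiplicative coaction of k[Λ]
(an action of the torus on the affine variety Spec R), and suppose the grading monoid is positive: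
if R has a non-zero eigenvector of weight w and one of weight −w then w = 0. Then for every k-point
x of Spec R, the orbit of x is closed if and only if x is a fixed point. (The published statement
also asserts that the fixed-point subvariety is affine and is a good quotient for the action; only
the description of the closed orbits is stated here.) -/
theorem result
    (k : Type u) [Field k] [IsAlgClosed k] [CharZero k]
    (Λ : Type v) [AddCommGroup Λ] [Module.Free ℤ Λ] [Module.Finite ℤ Λ]
    (R : Type w) [CommRing R] [Algebra k R] [Algebra.FiniteType k R] [IsReduced R]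
    [HopfRep.Comod k (AddMonoidAlgebra k Λ) R] [GLin.IsCoactAlg k (AddMonoidAlgebra k Λ) R]
    (hpos : ∀ w : Λ, HopfRep.eigenspace k (AddMonoidAlgebra k Λ) R (AddMonoidAlgebra.single w 1) ≠ ⊥ →
      HopfRep.eigenspace k (AddMonoidAlgebra k Λ) R (AddMonoidAlgebra.single (-w) 1) ≠ ⊥ → w = 0)
    (x : R →ₐ[k] k) :
    GLin.IsClosedOrbit k (AddMonoidAlgebra k Λ) x ↔ GLin.IsFixedPt k (AddMonoidAlgebra k Λ) x := by
  open Groth.Agent.TorusW in
  open scoped TensorProduct in
  classical
  have horb : ∀ (f : R) (s : Finset Λ), HopfRep.Comod.coact (k := k) (A := AddMonoidAlgebra k Λ) f =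
      ∑ z ∈ s, proj (k := k) z f ⊗ₜ[k] (AddMonoidAlgebra.single z (1 : k)) →
      GLin.orbitHom k (AddMonoidAlgebra k Λ) x f = ∑ z ∈ s, x (proj (k := k) z f) • AddMonoidAlgebra.single z (1 : k) := by
    intro f s hs
    rw [GLin.orbitHom, AlgHom.comp_apply, AlgHom.comp_apply, GLin.coactAlgHom_apply, hs]
    simp
  have hone : AddMonoidAlgebra.single (0 : Λ) (1 : k) = (1 : AddMonoidAlgebra k Λ) := rfl
  constructor
  · intro hcl
    have hJ : ∀ f ∈ posIdeal k Λ R, proj (k := k) (0 : Λ) f = 0 := fun f hf => proj_zero_eq_zero_of_mem hpos hf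
    have hmul : ∀ f g : R, proj (k := k) (0 : Λ) (f * g) = proj (k := k) (0 : Λ) f * proj (k := k) (0 : Λ) g := by
      intro f g
      have h1 : f * g = (f - proj (k := k) (0 : Λ) f) * g + proj (k := k) (0 : Λ) f * g := by ring
      conv_lhs => rw [h1, map_add, hJ _ (Ideal.mul_mem_right g _ (sub_proj_zero_mem f)), zero_add,
        proj_mul (coact_proj 0 f), sub_zero]
    let y : R →ₐ[k] k := x.comp (AlgHom.ofLinearMap (proj (k := k) (0 : Λ)) proj_zero_one hmul)
    have hyker : RingHom.ker (GLin.orbitHom k (AddMonoidAlgebra k Λ) x) ≤ RingHom.ker y := by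
      intro f hf
      obtain ⟨s, hs0, hs, -⟩ := exists_coact_eq (k := k) (Λ := Λ) f
      rw [RingHom.mem_ker, horb f s hs] at hf
      rw [RingHom.mem_ker]
      show x (proj (k := k) (0 : Λ) f) = 0
      by_cases h0 : (0 : Λ) ∈ s
      · have := congrArg (coef (k := k) (0 : Λ)) hf
        simpa [map_sum, coef_apply, Finsupp.single_apply, Finset.sum_ite_eq', h0] using this
      · rw [hs0 0 h0, map_zero]
    haveI : (RingHom.ker y).IsPrime := RingHom.ker_isPrime y
    let P0 : PrimeSpectrum R := ⟨RingHom.ker y, inferInstance⟩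
    have hP0 : P0 ∈ Set.range (PrimeSpectrum.comap (GLin.orbitHom k (AddMonoidAlgebra k Λ) x).toRingHom) := by
      rw [← hcl.closure_eq, PrimeSpectrum.closure_range_comap, PrimeSpectrum.mem_zeroLocus]
      exact hyker
    obtain ⟨P, hP⟩ := hP0
    have hnz : ∀ (w : Λ), w ≠ 0 → ∀ f : R, x (proj (k := k) w f) = 0 := by
      intro w hw f
      by_contra hne
      have hy : y (proj (k := k) w f) = 0 := by
        show x (proj (k := k) (0 : Λ) (proj (k := k) w f)) = 0
        rw [proj_of_coact (coact_proj w f), if_neg hw, map_zero]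
      have hmem : proj (k := k) w f ∈ P0.asIdeal := RingHom.mem_ker.2 hy
      rw [← hP, PrimeSpectrum.comap_asIdeal, Ideal.mem_comap] at hmem
      change GLin.orbitHom k (AddMonoidAlgebra k Λ) x (proj (k := k) w f) ∈ P.asIdeal at hmem
      have he : GLin.orbitHom k (AddMonoidAlgebra k Λ) x (proj (k := k) w f) =
          x (proj (k := k) w f) • AddMonoidAlgebra.single w (1 : k) := by
        rw [GLin.orbitHom, AlgHom.comp_apply, AlgHom.comp_apply, GLin.coactAlgHom_apply, coact_proj]
        simp
      rw [he] at hmem
      refine P.2.ne_top (Ideal.eq_top_of_isUnit_mem _ hmem ?_)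
      rw [Algebra.smul_def]
      refine ((isUnit_iff_ne_zero.2 hne).map _).mul (.of_mul_eq_one (AddMonoidAlgebra.single (-w) (1 : k)) ?_)
      rw [AddMonoidAlgebra.single_mul_single, add_neg_cancel, one_mul, hone]
    refine AlgHom.ext fun f => ?_
    obtain ⟨s, hs0, hs, hsum⟩ := exists_coact_eq (k := k) (Λ := Λ) f
    rw [horb f s hs, AlgHom.comp_apply]
    have hx : x f = ∑ z ∈ s, x (proj (k := k) z f) := by rw [← map_sum, hsum]
    rw [Algebra.ofId_apply, hx, map_sum]
    refine Finset.sum_congr rfl fun z _ => ?_
    by_cases hz : z = 0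
    · subst hz; rw [hone, Algebra.algebraMap_eq_smul_one]
    · rw [hnz z hz f, zero_smul, map_zero]
  · intro hfix
    show IsClosed (Set.range (PrimeSpectrum.comap (GLin.orbitHom k (AddMonoidAlgebra k Λ) x).toRingHom))
    haveI : (RingHom.ker x).IsMaximal := RingHom.ker_isMaximal_of_surjective x fun c => ⟨algebraMap k R c, x.commutes c⟩
    have hker : RingHom.ker (GLin.orbitHom k (AddMonoidAlgebra k Λ) x) = RingHom.ker x := by
      ext f
      rw [RingHom.mem_ker, RingHom.mem_ker, hfix, AlgHom.comp_apply, Algebra.ofId_apply, map_eq_zero_iff]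
      exact FaithfulSMul.algebraMap_injective k (AddMonoidAlgebra k Λ)
    let x0 : PrimeSpectrum R := ⟨RingHom.ker x, inferInstance⟩
    suffices h : Set.range (PrimeSpectrum.comap (GLin.orbitHom k (AddMonoidAlgebra k Λ) x).toRingHom) = {x0} by
      rw [h]
      exact (PrimeSpectrum.isClosed_singleton_iff_isMaximal x0).2 (by assumption)
    ext p
    constructor
    · rintro ⟨P, rfl⟩
      refine PrimeSpectrum.ext (Ideal.IsMaximal.eq_of_le inferInstance (Ideal.IsPrime.ne_top inferInstance) ?_).symm
      show RingHom.ker x ≤ _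
      rw [← hker]
      exact Ideal.comap_mono bot_le
    · rintro rfl
      obtain ⟨P, hP⟩ := (inferInstance : Nonempty (PrimeSpectrum (AddMonoidAlgebra k Λ)))
      refine ⟨⟨P, hP⟩, PrimeSpectrum.ext (Ideal.IsMaximal.eq_of_le inferInstance (Ideal.IsPrime.ne_top inferInstance) ?_).symm⟩
      show RingHom.ker x ≤ _
      rw [← hker]
      exact Ideal.comap_mono bot_le

end Groth.Agent.S15123
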