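import Groth.Statements.S15124
import Groth.Agent.TorusLib.Weights
import Mathlib


-- import your own Groth.Agent.* helpers here

set_option autoImplicit false
universe u v w
open InvQ

namespace Groth.Agent.S15124

/-- Let k be an algebraically closed field of characteristic zero, Λ a finitely generated free abelian
group with group algebra k[Λ] (the coordinate Hopf algebra of a torus T), and R a reduced finitely
generated commutative k-algebra with a multiplicative coaction of k[Λ] (an action of T on the affine
variety X = Spec R) whose grading monoid is positive: if R has non-zero eigenvectors of weights w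
and −w then w = 0. Let I be the ideal of R generated by all eigenvectors of non-zero weight (the
ideal of the fixed-point subscheme X^T). Then the composite of the inclusion of the ring of
invariants R^T into R with the projection R → R/I is bijective: the fixed-point subscheme maps
isomorphically onto the affine quotient Spec R^T. (The published statement phrases this as: X^T is
affine and X → X^T is a good quotient; the good-quotient property itself is not restated here.) -/
theorem result
    (k : Type u) [Field k] [IsAlgClosed k] [CharZero k]
    (Λ : Type v) [AddCommGroup Λ] [Module.Free ℤ Λ] [Module.Finite ℤ Λ]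
    (R : Type w) [CommRing R] [Algebra k R] [Algebra.FiniteType k R] [IsReduced R]
    [HopfRep.Comod k (AddMonoidAlgebra k Λ) R] [GLin.IsCoactAlg k (AddMonoidAlgebra k Λ) R]
    (hpos : ∀ w : Λ, HopfRep.eigenspace k (AddMonoidAlgebra k Λ) R (AddMonoidAlgebra.single w 1) ≠ ⊥ →
      HopfRep.eigenspace k (AddMonoidAlgebra k Λ) R (AddMonoidAlgebra.single (-w) 1) ≠ ⊥ → w = 0) :
    Function.Bijective
      ((Ideal.Quotient.mkₐ k (Ideal.span {f : R | ∃ w : Λ, w ≠ 0 ∧
          f ∈ HopfRep.eigenspace k (AddMonoidAlgebra k Λ) R (AddMonoidAlgebra.single w 1)})).comp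
        (GLin.invariants k (AddMonoidAlgebra k Λ) R).val) := by
  open Groth.Agent.TorusW in
  open scoped TensorProduct in
  classical
  have hfix : ∀ a ∈ GLin.invariants k (AddMonoidAlgebra k Λ) R, proj (k := k) (0 : Λ) a = a := fun a ha => by
    rw [proj_of_coact (w := (0 : Λ)) ((GLin.mem_invariants_iff k _ R a).1 ha), if_pos rfl]
  constructor
  · intro a b hab
    have h : (a : R) - b ∈ posIdeal k Λ R := (Ideal.Quotient.mk_eq_mk_iff_sub_mem _ _).1 hab
    have h2 := proj_zero_eq_zero_of_mem hpos h
    rw [map_sub, hfix a a.2, hfix b b.2, sub_eq_zero] at h2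
    exact Subtype.ext h2
  · intro y
    obtain ⟨f, rfl⟩ := Ideal.Quotient.mk_surjective y
    refine ⟨⟨proj (k := k) (0 : Λ) f, (GLin.mem_invariants_iff k _ R _).2 (coact_proj 0 f)⟩, ?_⟩
    refine ((Ideal.Quotient.mk_eq_mk_iff_sub_mem _ _).2 ?_).symm
    exact sub_proj_zero_mem f

end Groth.Agent.S15124
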