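import Groth.Statements.S15125
import Mathlib


-- import your own Groth.Agent.* helpers here

set_option autoImplicit false
universe u
open scoped TensorProduct
open Fields

namespace Groth.Agent.S15125

/-- Let L be a finitely generated field extension of K, and I ⊆ L ⊗_K L the kernel of multiplication L
⊗_K L → L. An element x of L has the property that x ⊗ 1 and 1 ⊗ x have the same image in the I-adic
completion of L ⊗_K L if and only if x is separable algebraic over K. Equivalently, the equaliser of
the two natural maps from L to that completion is the separable algebraic closure of K in L. -/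
theorem result
    (K L : Type u) [Field K] [Field L] [Algebra K L]
    (hfg : (⊤ : IntermediateField K L).FG) (x : L) :
    AdicCompletion.of (KaehlerDifferential.ideal K L) (L ⊗[K] L) (x ⊗ₜ[K] (1 : L)) =
        AdicCompletion.of (KaehlerDifferential.ideal K L) (L ⊗[K] L) ((1 : L) ⊗ₜ[K] x) ↔
      x ∈ separableClosure K L := by
  classical
  have hcrit : ∀ y : L ⊗[K] L, (∀ n, y ∈ KaehlerDifferential.ideal K L ^ n) ↔
      AdicCompletion.of (KaehlerDifferential.ideal K L) (L ⊗[K] L) y = 0 := by
    intro y
    simp [AdicCompletion.ext_iff, Ideal.Quotient.eq_zero_iff_mem]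
  rw [← sub_eq_zero, ← map_sub, ← hcrit]
  set I := KaehlerDifferential.ideal K L
  set d : L ⊗[K] L := x ⊗ₜ[K] (1 : L) - (1 : L) ⊗ₜ[K] x with hd
  have hdI : d ∈ I := by
    have := I.neg_mem (KaehlerDifferential.one_smul_sub_smul_one_mem_ideal K (S := L) x)
    rwa [neg_sub] at this
  rw [mem_separableClosure_iff]
  haveI : Algebra.EssFiniteType K L := IntermediateField.fg_top_iff.1 hfg
  haveI : IsNoetherianRing (L ⊗[K] L) := Algebra.EssFiniteType.isNoetherianRing L (L ⊗[K] L)
  constructor
  · intro hall
    obtain ⟨⟨i, hi⟩, hid⟩ := (Ideal.mem_iInf_smul_pow_eq_bot_iff I d).1 (by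
      rw [Submodule.mem_iInf]
      intro n
      simpa using hall n)
    by_contra hx
    set E := IntermediateField.adjoin K ({x} : Set L) with hE
    haveI : Algebra.EssFiniteType K E :=
      IntermediateField.essFiniteType_iff.2 (IntermediateField.fg_adjoin_of_finite (Set.finite_singleton x))
    let gx : E := ⟨x, IntermediateField.mem_adjoin_simple_self K x⟩
    let D := KaehlerDifferential.D K E
    have hdx : D gx ≠ 0 := by
      intro h0
      have hker : ∀ e : E, D e = 0 := fun ⟨y, hy⟩ => by
        induction hy using IntermediateField.adjoin_induction with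
        | mem z hz =>
          obtain rfl : z = x := hz
          exact h0
        | algebraMap r => exact D.map_algebraMap r
        | add a b ha hb h1 h2 =>
          rw [show (⟨a + b, add_mem ha hb⟩ : E) = ⟨a, ha⟩ + ⟨b, hb⟩ from rfl, map_add, h1, h2, add_zero]
        | inv a ha h1 =>
          rw [show (⟨a⁻¹, inv_mem ha⟩ : E) = (⟨a, ha⟩ : E)⁻¹ from rfl, D.leibniz_inv, h1, smul_zero]
        | mul a b ha hb h1 h2 =>
          rw [show (⟨a * b, mul_mem ha hb⟩ : E) = ⟨a, ha⟩ * ⟨b, hb⟩ from rfl, D.leibniz, h1, h2, smul_zero, smul_zero, add_zero]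
      haveI : Algebra.FormallyUnramified K E := ⟨by
        refine subsingleton_of_forall_eq 0 fun w => ?_
        have hw : w ∈ Submodule.span E (Set.range (KaehlerDifferential.D K E)) := by
          rw [KaehlerDifferential.span_range_derivation]; trivial
        refine (Submodule.span_le.2 ?_ hw : w ∈ (⊥ : Submodule E _))
        rintro _ ⟨e, rfl⟩
        exact hker e⟩
      have := (Algebra.FormallyUnramified.iff_isSeparable K E).1 inferInstance
      exact hx ((IntermediateField.isSeparable_adjoin_simple_iff_isSeparable K L).1 this)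
    obtain ⟨φ, hφ⟩ : ∃ φ : Module.Dual E (KaehlerDifferential K E), φ (D gx) ≠ 0 := by
      by_contra! h
      exact hdx ((Module.forall_dual_apply_eq_zero_iff E _).1 h)
    let δ : E → L := fun e => algebraMap E L (φ (D e))
    let θ : E →ₐ[K] DualNumber L :=
      { toFun := fun e => TrivSqZeroExt.inl (e : L) + TrivSqZeroExt.inr (δ e)
        map_one' := by simp [δ]
        map_mul' := fun a b => by
          refine TrivSqZeroExt.ext ?_ ?_ <;> simp [δ, D.leibniz] <;> ring
        map_zero' := by simp [δ]
        map_add' := fun a b => by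
          refine TrivSqZeroExt.ext ?_ ?_ <;> simp [δ]
        commutes' := fun r => by
          refine TrivSqZeroExt.ext ?_ ?_ <;> simp [δ, TrivSqZeroExt.algebraMap_eq_inl'] }
    let Θ : E ⊗[K] L →ₐ[K] DualNumber L :=
      Algebra.TensorProduct.lift θ (IsScalarTower.toAlgHom K L (DualNumber L)) (fun _ _ => Commute.all _ _)
    let b := Module.Free.chooseBasis E L
    let Λ : (Module.Free.ChooseBasisIndex E L) → (L ⊗[K] L →ₗ[K] E ⊗[K] L) := fun j => ((b.coord j).restrictScalars K).rTensor L
    let d' : E ⊗[K] L := gx ⊗ₜ[K] (1 : L) - (1 : E) ⊗ₜ[K] x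
    have hΛ : ∀ j y, Λ j (d * y) = d' * Λ j y := by
      intro j y
      induction y using TensorProduct.induction_on with
      | zero => simp
      | add u v hu hv => rw [mul_add, map_add, map_add, mul_add, hu, hv]
      | tmul l m =>
        have h1 : b.coord j (x * l) = gx * b.coord j l := by
          rw [← smul_eq_mul gx, ← map_smul]; rfl
        simp only [hd, d', sub_mul, Algebra.TensorProduct.tmul_mul_tmul, one_mul, Λ, map_sub,
          LinearMap.rTensor_tmul, LinearMap.coe_restrictScalars, h1]
    have hzero : ∀ j, d' * Λ j (1 - i) = 0 := fun j => by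
      have h2 : d * (1 - i) = 0 := by
        have : i • d = d := hid
        rw [mul_sub, mul_one, mul_comm, ← smul_eq_mul, this, sub_self]
      rw [← hΛ, h2, map_zero]
    let μE : E ⊗[K] L →ₐ[K] L := Algebra.TensorProduct.lift E.val (AlgHom.id K L) (fun _ _ => Commute.all _ _)
    have hfst : ∀ s, (Θ s).fst = μE s := fun s => by
      induction s using TensorProduct.induction_on with
      | zero => simp
      | add u v hu hv => simp [hu, hv]
      | tmul e l => simp [Θ, μE, θ, IsScalarTower.algebraMap_apply K L (DualNumber L), TrivSqZeroExt.algebraMap_eq_inl]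
    have hμ : ∀ j, μE (Λ j (1 - i)) = 0 := fun j => by
      have h3 := congrArg (fun z => (Θ z).snd) (hzero j)
      have hδ1 : δ 1 = 0 := by simp [δ]
      have hd' : Θ d' = TrivSqZeroExt.inr (δ gx) := by
        refine TrivSqZeroExt.ext ?_ ?_ <;> simp [Θ, θ, d', gx, hδ1, TrivSqZeroExt.algebraMap_eq_inl]
      simp only [map_mul, map_zero, hd', TrivSqZeroExt.snd_mul, TrivSqZeroExt.fst_inr, TrivSqZeroExt.snd_inr,
        TrivSqZeroExt.snd_zero, zero_smul, zero_add, MulOpposite.smul_eq_mul_unop, MulOpposite.unop_op, hfst] at h3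
      exact (mul_eq_zero.1 h3).resolve_left (by simpa [δ] using hφ)
    let μ : L ⊗[K] L →ₐ[K] L := Algebra.TensorProduct.lmul' K
    have hsum : ∀ y, (∀ j, μE (Λ j y) = 0) → μ y = 0 := by
      intro y hy
      have key : ∀ y : L ⊗[K] L, ∃ s : Finset (Module.Free.ChooseBasisIndex E L), ∀ t, s ⊆ t → μ y = ∑ j ∈ t, b j * μE (Λ j y) := by
        intro y
        induction y using TensorProduct.induction_on with
        | zero => exact ⟨∅, fun t _ => by simp⟩
        | add u v hu hv =>
          obtain ⟨s, hs⟩ := hu
          obtain ⟨s', hs'⟩ := hv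
          exact ⟨s ∪ s', fun t ht => by
            rw [map_add, hs t (Finset.union_subset_left ht), hs' t (Finset.union_subset_right ht), ← Finset.sum_add_distrib]
            simp [mul_add]⟩
        | tmul l m =>
          refine ⟨(b.repr l).support, fun t ht => ?_⟩
          have : ∑ j ∈ t, (b.repr l j) • b j = l := by
            rw [← Finset.sum_subset ht (fun j _ hj => by rw [Finsupp.notMem_support_iff.1 hj, zero_smul])]
            exact b.linearCombination_repr l
          simp only [μ, μE, Λ, Algebra.TensorProduct.lmul'_apply_tmul, LinearMap.rTensor_tmul,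
            LinearMap.coe_restrictScalars, Algebra.TensorProduct.lift_tmul, Module.Basis.coord_apply]
          conv_lhs => rw [← this, Finset.sum_mul]
          refine Finset.sum_congr rfl fun j _ => ?_
          show ((b.repr l j : E) : L) * b j * m = b j * (((b.repr l j : E) : L) * m)
          ring
      obtain ⟨s, hs⟩ := key y
      rw [hs s le_rfl]
      exact Finset.sum_eq_zero fun j _ => by rw [hy j, mul_zero]
    have h1 := hsum _ hμ
    have hi0 : μ i = 0 := hi
    rw [map_sub, map_one, hi0, sub_zero] at h1
    exact one_ne_zero h1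
  · intro hx n
    set P := minpoly K x
    obtain ⟨c, hc⟩ := Polynomial.binomExpansion (P.map (algebraMap K (L ⊗[K] L))) ((1 : L) ⊗ₜ[K] x) d
    have hev : ∀ (Q : Polynomial K), Polynomial.aeval ((1 : L) ⊗ₜ[K] x) Q = (1 : L) ⊗ₜ[K] Polynomial.aeval x Q := fun Q => by
      rw [← Algebra.TensorProduct.includeRight_apply (R := K) (A := L), Polynomial.aeval_algHom_apply]; rfl
    have hev' : Polynomial.aeval (x ⊗ₜ[K] (1 : L)) P = 0 := by
      rw [← Algebra.TensorProduct.includeLeft_apply (R := K) (S := K) (B := L), Polynomial.aeval_algHom_apply,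
        minpoly.aeval, map_zero]
    rw [show (1 : L) ⊗ₜ[K] x + d = x ⊗ₜ[K] (1 : L) by rw [hd]; abel, Polynomial.derivative_map,
      Polynomial.eval_map_algebraMap, Polynomial.eval_map_algebraMap, Polynomial.eval_map_algebraMap,
      hev', hev, hev, minpoly.aeval, TensorProduct.tmul_zero, zero_add] at hc
    set u : L := Polynomial.aeval x (Polynomial.derivative P)
    have hu : u ≠ 0 := Polynomial.Separable.aeval_derivative_ne_zero hx (minpoly.aeval K x)
    have hfix : d = -(((1 : L) ⊗ₜ[K] u⁻¹) * c * d) * d := by
      have h1 : ((1 : L) ⊗ₜ[K] u⁻¹) * ((1 : L) ⊗ₜ[K] u) = 1 := by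
        rw [Algebra.TensorProduct.tmul_mul_tmul, one_mul, inv_mul_cancel₀ hu]; rfl
      linear_combination (-((1 : L) ⊗ₜ[K] u⁻¹)) * hc - d * h1
    induction n with
    | zero => simp
    | succ n ih =>
      rw [hfix, pow_succ']
      exact Ideal.mul_mem_mul (I.neg_mem (I.mul_mem_left _ hdI)) ih

end Groth.Agent.S15125
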