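import Groth.Statements.S15126
import Mathlib
import Mathlib
-- import your own Groth.Agent.* helpers here

set_option autoImplicit false
universe u
open Formal

namespace Groth.Agent.S15126

/-- Affine case. Let k be a field, n > 0, and R a commutative algebra over the power series ring
k[[z_1,…,z_n]]; for a commutative k-algebra Q regard Q[[z_1,…,z_n]] as a k[[z]]-algebra
coefficientwise. Then the functor Q ↦ Hom_{k[[z]]-alg}(R, Q[[z]]) on commutative k-algebras is
corepresentable: there exist a commutative k-algebra P and a k[[z]]-algebra homomorphism u : R →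
P[[z]] such that every k[[z]]-algebra homomorphism R → Q[[z]] arises from u by applying a unique
k-algebra homomorphism P → Q coefficientwise. If moreover R is countably generated as a
k[[z]]-algebra, P may be taken countably generated over k. (The published statement is for an adic
formal scheme Y over the formal disc Spf k[[z]], asserting that the sheaf of sections of Y over the
disc is a scheme, affine over the fibre of Y at the origin, and of pro-finite type when Y is; this
row is the case Y = Spf R, to which the published argument reduces, stated for the underlying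
algebra R; k is algebraically closed there, which is not used.) -/
theorem result
    (k : Type u) [Field k] (n : ℕ) (hn : 0 < n)
    (R : Type u) [CommRing R] [Algebra (MvPowerSeries (Fin n) k) R] :
    ∃ (P : Type u) (_ : CommRing P) (_ : Algebra k P)
      (u : R →ₐ[MvPowerSeries (Fin n) k] MvPowerSeries (Fin n) P),
      (∀ (Q : Type u) [CommRing Q] [Algebra k Q]
          (f : R →ₐ[MvPowerSeries (Fin n) k] MvPowerSeries (Fin n) Q),
          ∃! g : P →ₐ[k] Q,
            (MvPowerSeries.map (σ := Fin n) (g : P →+* Q)).comp (u : R →+* MvPowerSeries (Fin n) P) =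
              (f : R →+* MvPowerSeries (Fin n) Q)) ∧
      ((∃ s : Set R, s.Countable ∧ Algebra.adjoin (MvPowerSeries (Fin n) k) s = ⊤) →
        ∃ t : Set P, t.Countable ∧ Algebra.adjoin k t = ⊤) := by
  classical
  let Pol := MvPolynomial (R × (Fin n →₀ ℕ)) k
  let U : R → MvPowerSeries (Fin n) Pol := fun r d => MvPolynomial.X (r, d)
  have hU : ∀ r d, MvPowerSeries.coeff d (U r) = MvPolynomial.X (r, d) := fun r d => rfl
  let S : Set Pol :=
    (Set.range fun p : (R × R) × (Fin n →₀ ℕ) =>
      MvPowerSeries.coeff p.2 (U (p.1.1 + p.1.2) - (U p.1.1 + U p.1.2))) ∪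
    (Set.range fun p : (R × R) × (Fin n →₀ ℕ) =>
      MvPowerSeries.coeff p.2 (U (p.1.1 * p.1.2) - (U p.1.1 * U p.1.2))) ∪
    (Set.range fun p : MvPowerSeries (Fin n) k × (Fin n →₀ ℕ) =>
      MvPowerSeries.coeff p.2 (U (algebraMap _ R p.1) - MvPowerSeries.map MvPolynomial.C p.1))
  let I : Ideal Pol := Ideal.span S
  have hz : ∀ s ∈ S, Ideal.Quotient.mk I s = 0 :=
    fun s hs => Ideal.Quotient.eq_zero_iff_mem.2 (Ideal.subset_span hs)
  let M := MvPowerSeries.map (σ := Fin n) (Ideal.Quotient.mk I)
  have hadd : ∀ r s, M (U (r + s)) = M (U r) + M (U s) := fun r s => by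
    rw [← sub_eq_zero, ← map_add, ← map_sub]
    ext d
    rw [MvPowerSeries.coeff_map, map_zero]
    exact hz _ (Or.inl (Or.inl ⟨((r, s), d), rfl⟩))
  have hmul : ∀ r s, M (U (r * s)) = M (U r) * M (U s) := fun r s => by
    rw [← sub_eq_zero, ← map_mul, ← map_sub]
    ext d
    rw [MvPowerSeries.coeff_map, map_zero]
    exact hz _ (Or.inl (Or.inr ⟨((r, s), d), rfl⟩))
  have halg : ∀ f : MvPowerSeries (Fin n) k, M (U (algebraMap _ R f)) =
      algebraMap (MvPowerSeries (Fin n) k) (MvPowerSeries (Fin n) (Pol ⧸ I)) f := fun f => by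
    have h1 : M (U (algebraMap _ R f)) = M (MvPowerSeries.map MvPolynomial.C f) := by
      rw [← sub_eq_zero, ← map_sub]
      ext d
      rw [MvPowerSeries.coeff_map, map_zero]
      exact hz _ (Or.inr ⟨(f, d), rfl⟩)
    rw [h1, MvPowerSeries.map_map]
    rfl
  let u : R →ₐ[MvPowerSeries (Fin n) k] MvPowerSeries (Fin n) (Pol ⧸ I) :=
    { toFun := fun r => M (U r)
      map_one' := by
        have := halg 1
        rwa [map_one, map_one] at this
      map_mul' := hmul
      map_zero' := by
        have := halg 0
        rwa [map_zero, map_zero] at this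
      map_add' := hadd
      commutes' := halg }
  have hu : ∀ r d, MvPowerSeries.coeff d (u r) = Ideal.Quotient.mk I (MvPolynomial.X (r, d)) :=
    fun r d => (MvPowerSeries.coeff_map (Ideal.Quotient.mk I) d (U r)).trans (by rw [hU])
  refine ⟨Pol ⧸ I, inferInstance, inferInstance, u, fun Q _ _ f => ?_, ?_⟩
  · let g₀ : Pol →ₐ[k] Q := MvPolynomial.aeval fun p => MvPowerSeries.coeff p.2 (f p.1)
    have hgU : ∀ r, MvPowerSeries.map (g₀ : Pol →+* Q) (U r) = f r := fun r => by
      ext d
      rw [MvPowerSeries.coeff_map, hU]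
      exact MvPolynomial.aeval_X _ _
    have hI : I ≤ RingHom.ker (g₀ : Pol →+* Q) := by
      refine Ideal.span_le.2 ?_
      rintro x ((⟨p, rfl⟩ | ⟨p, rfl⟩) | ⟨p, rfl⟩)
      · rw [SetLike.mem_coe, RingHom.mem_ker, ← MvPowerSeries.coeff_map, map_sub, map_add, hgU, hgU,
          hgU, map_add, sub_self, map_zero]
      · rw [SetLike.mem_coe, RingHom.mem_ker, ← MvPowerSeries.coeff_map, map_sub, map_mul, hgU, hgU, hgU, map_mul,
          sub_self, map_zero]
      · rw [SetLike.mem_coe, RingHom.mem_ker, ← MvPowerSeries.coeff_map, map_sub, hgU, f.commutes,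
          MvPowerSeries.map_map]
        have : (g₀ : Pol →+* Q).comp MvPolynomial.C = algebraMap k Q := RingHom.ext g₀.commutes
        rw [this]
        simp [MvPowerSeries.algebraMap_apply'']
    refine ⟨Ideal.Quotient.liftₐ I g₀ (fun a ha => hI ha), ?_, fun g hg => ?_⟩
    · refine RingHom.ext fun r => MvPowerSeries.ext fun d => ?_
      rw [RingHom.comp_apply]
      simp only [RingHom.coe_coe, MvPowerSeries.coeff_map, hu]
      exact MvPolynomial.aeval_X _ _
    · refine Ideal.Quotient.algHom_ext k (MvPolynomial.algHom_ext fun p => ?_)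
      have := congrArg (MvPowerSeries.coeff p.2) (RingHom.congr_fun hg p.1)
      simp only [RingHom.comp_apply, MvPowerSeries.coeff_map] at this
      simp only [RingHom.coe_coe, hu] at this
      exact this.trans (MvPolynomial.aeval_X (fun p => MvPowerSeries.coeff p.2 (f p.1)) p).symm
  · rintro ⟨s, hs, htop⟩
    refine ⟨(fun p : R × (Fin n →₀ ℕ) => Ideal.Quotient.mk I (MvPolynomial.X p)) '' (s ×ˢ Set.univ),
      (hs.prod Set.countable_univ).image _, ?_⟩
    set Q0 : Subalgebra k (Pol ⧸ I) := Algebra.adjoin k ((fun p : R × (Fin n →₀ ℕ) => Ideal.Quotient.mk I (MvPolynomial.X p)) '' (s ×ˢ Set.univ)) with hQ0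
    have key : ∀ r ∈ Algebra.adjoin (MvPowerSeries (Fin n) k) s, ∀ d, MvPowerSeries.coeff d (u r) ∈ Q0 := by
      intro r hr
      induction hr using Algebra.adjoin_induction with
      | mem x hx => exact fun d => by rw [hu]; exact Algebra.subset_adjoin ⟨(x, d), ⟨hx, trivial⟩, rfl⟩
      | algebraMap f =>
        intro d
        rw [u.commutes, MvPowerSeries.algebraMap_apply'']
        rw [MvPowerSeries.coeff_map]
        exact Q0.algebraMap_mem _
      | add x y _ _ hx hy => exact fun d => by rw [map_add, map_add]; exact Q0.add_mem (hx d) (hy d)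
      | mul x y _ _ hx hy =>
        intro d
        rw [map_mul, MvPowerSeries.coeff_mul]
        exact Q0.sum_mem fun p _ => Q0.mul_mem (hx _) (hy _)
    refine eq_top_iff.2 ?_
    rintro x -
    obtain ⟨x, rfl⟩ := Ideal.Quotient.mk_surjective x
    induction x using MvPolynomial.induction_on with
    | C a => exact Q0.algebraMap_mem a
    | add p q hp hq => rw [map_add]; exact Q0.add_mem hp hq
    | mul_X p i hp =>
      rw [map_mul]
      refine Q0.mul_mem hp ?_
      rw [← hu]
      exact key _ (htop ▸ Algebra.mem_top) _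

end Groth.Agent.S15126
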