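import Groth.Statements.S15128
import Mathlib.RingTheory.Flat.Basic
import Mathlib.RingTheory.Artinian.Module
import Mathlib.RingTheory.FiniteLength
import Mathlib.LinearAlgebra.TensorProduct.Quotient
import Mathlib.RingTheory.LocalRing.ResidueField.Basic
import Mathlib.RingTheory.TensorProduct.Basic
import Mathlib.RingTheory.HopkinsLevitzki
-- import your own Groth.Agent.* helpers here

set_option autoImplicit false
universe u v
open CAlg
open scoped TensorProduct

namespace Groth.Agent.S15128

/-- Over an Artinian local ring A with residue field k, a linear map h between flat A-modules (of any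
size) is injective, resp. surjective, as soon as its reduction k ⊗_A h is. (The published statement
is for local Artinian algebras over an algebraically closed field of characteristic zero having that
field as residue field; this row allows any Artinian local ring.) -/
theorem result
    (A : Type u) [CommRing A] [IsLocalRing A] [IsArtinianRing A]
    (P L : Type v) [AddCommGroup P] [Module A P] [AddCommGroup L] [Module A L]
    [Module.Flat A P] [Module.Flat A L] (h : P →ₗ[A] L) :
    (Function.Injective (h.lTensor (IsLocalRing.ResidueField A)) → Function.Injective h) ∧
    (Function.Surjective (h.lTensor (IsLocalRing.ResidueField A)) → Function.Surjective h) := by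
  constructor
  · intro hk
    have hfl : ∀ (N : Type u) (_ : AddCommGroup N) (_ : Module A N), IsFiniteLength A N →
        Function.Injective (h.lTensor N) := by
      intro N _ _ hN
      induction hN with
      | of_subsingleton => exact Function.injective_of_subsingleton _
      | @of_simple_quotient M _ _ N' hs _ ih =>
        have hqinj : Function.Injective (h.lTensor (M ⧸ N')) := by
          obtain ⟨I, hI, ⟨e⟩⟩ := isSimpleModule_iff_quot_maximal.mp hs
          obtain rfl := IsLocalRing.eq_maximalIdeal hI
          have e' : (M ⧸ N') ≃ₗ[A] IsLocalRing.ResidueField A := e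
          have hc : ∀ z, TensorProduct.congr e' (LinearEquiv.refl A L) (h.lTensor (M ⧸ N') z) =
              h.lTensor (IsLocalRing.ResidueField A) (TensorProduct.congr e' (LinearEquiv.refl A P) z) := by
            intro z
            induction z using TensorProduct.induction_on with
            | zero => simp
            | add a b ha hb => simp only [map_add, ha, hb]
            | tmul a b => simp
          intro x y hxy
          apply (TensorProduct.congr e' (LinearEquiv.refl A P)).injective
          apply hk
          rw [← hc, ← hc, hxy]
        rw [← LinearMap.ker_eq_bot]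
        rw [eq_bot_iff]
        intro z hz
        rw [LinearMap.mem_ker] at hz
        have hzq : (N'.mkQ).rTensor P z = 0 := by
          apply hqinj
          rw [map_zero, ← LinearMap.comp_apply, LinearMap.lTensor_comp_rTensor,
            ← LinearMap.rTensor_comp_lTensor, LinearMap.comp_apply, hz, map_zero]
        obtain ⟨w, rfl⟩ := (rTensor_exact P (LinearMap.exact_subtype_mkQ N') N'.mkQ_surjective z).mp hzq
        have hw : h.lTensor N' w = 0 := by
          apply Module.Flat.rTensor_preserves_injective_linearMap (M := L) N'.subtype N'.injective_subtype
          rw [map_zero, ← LinearMap.comp_apply, LinearMap.rTensor_comp_lTensor,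
            ← LinearMap.lTensor_comp_rTensor, LinearMap.comp_apply]
          exact hz
        have : w = 0 := ih (by rw [hw, map_zero])
        simp [this]
    have h1 := hfl A inferInstance inferInstance (((isArtinianRing_iff_isFiniteLength (R := A)).mp inferInstance))
    intro x y hxy
    have := h1 (a₁ := (1 : A) ⊗ₜ[A] x) (a₂ := (1 : A) ⊗ₜ[A] y) (by simp [hxy])
    simpa using congr_arg (TensorProduct.lid A P) this
  · intro hk
    obtain ⟨n, hn⟩ := IsArtinianRing.isNilpotent_jacobson_bot (R := A)
    rw [IsLocalRing.jacobson_eq_maximalIdeal ⊥ bot_ne_top] at hn
    rw [← LinearMap.range_eq_top, ← Submodule.Quotient.subsingleton_iff]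
    set Q := L ⧸ LinearMap.range h
    have hex := lTensor_exact (IsLocalRing.ResidueField A) (LinearMap.exact_map_mkQ_range h)
      (Submodule.mkQ_surjective _)
    have h0 : Subsingleton (IsLocalRing.ResidueField A ⊗[A] Q) := by
      refine subsingleton_of_forall_eq 0 fun w => ?_
      obtain ⟨v, rfl⟩ := LinearMap.lTensor_surjective (IsLocalRing.ResidueField A)
        (Submodule.mkQ_surjective (LinearMap.range h)) w
      exact (hex v).mpr (hk v)
    have : Subsingleton ((A ⧸ IsLocalRing.maximalIdeal A) ⊗[A] Q) := h0
    have : Subsingleton (Q ⧸ IsLocalRing.maximalIdeal A • (⊤ : Submodule A Q)) :=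
      (TensorProduct.quotTensorEquivQuotSMul Q (IsLocalRing.maximalIdeal A)).symm.toEquiv.injective.subsingleton
    have h1 := Submodule.Quotient.subsingleton_iff.mp this
    have h2 : ∀ k : ℕ, IsLocalRing.maximalIdeal A ^ k • (⊤ : Submodule A Q) = ⊤ := by
      intro k
      induction k with
      | zero => simp
      | succ k ih => rw [pow_succ, ← smul_eq_mul, Submodule.smul_assoc, h1, ih]
    have h3 := h2 n
    rw [hn] at h3
    refine subsingleton_of_forall_eq 0 fun x => ?_
    have hx : x ∈ (⊥ : Ideal A) • (⊤ : Submodule A Q) := by rw [show (⊥ : Ideal A) = 0 from rfl, h3]; trivial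
    simpa using hx

end Groth.Agent.S15128
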