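import Groth.Statements.S15129
import Groth.Agent.SemiRankLib.ArtMod
import Mathlib.RingTheory.Flat.Basic
import Mathlib.Algebra.Module.Projective
-- import your own Groth.Agent.* helpers here

set_option autoImplicit false
universe u v
open CAlg

namespace Groth.Agent.S15129

/-- Over an Artinian local ring A with residue field k, for an exact sequence 0 → M → N → P → 0 of
A-modules with N flat: if k ⊗_A M → k ⊗_A N is injective then P is flat; if P is flat then M is flat
and k ⊗_A M → k ⊗_A N is injective. (The published statement is for local Artinian algebras over an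
algebraically closed field of characteristic zero having that field as residue field; this row
allows any Artinian local ring.) -/
theorem result
    (A : Type u) [CommRing A] [IsLocalRing A] [IsArtinianRing A]
    (M N P : Type v) [AddCommGroup M] [Module A M] [AddCommGroup N] [Module A N]
    [AddCommGroup P] [Module A P] [Module.Flat A N] (f : M →ₗ[A] N) (g : N →ₗ[A] P)
    (hf : Function.Injective f) (hg : Function.Surjective g) (hfg : Function.Exact f g) :
    (Function.Injective (f.lTensor (IsLocalRing.ResidueField A)) → Module.Flat A P) ∧
    (Module.Flat A P → Module.Flat A M ∧ Function.Injective (f.lTensor (IsLocalRing.ResidueField A))) := by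
  have hnil := SemiRankLib.isNilpotent_maximalIdeal (C := A)
  let e : (N ⧸ LinearMap.range f) ≃ₗ[A] P :=
    (Submodule.quotEquivOfEq _ _ (hfg.linearMap_ker_eq).symm).trans (g.quotKerEquivOfSurjective hg)
  refine ⟨fun h => ?_, fun h => ?_⟩
  · haveI := (DefLib.splitInjective_of_injective_mod hnil f ((SemiRankLib.lTensor_residueField_injective_iff f).mp h)).2
    exact Module.Flat.of_linearEquiv e.symm
  · have h2 : ∀ x, f x ∈ IsLocalRing.maximalIdeal A • (⊤ : Submodule A N) → x ∈ IsLocalRing.maximalIdeal A • (⊤ : Submodule A M) := by
      intro x hx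
      have := DefLib.ker_inf_smul_le g hg _ ⟨hfg.apply_apply_eq_zero x, hx⟩
      rw [hfg.linearMap_ker_eq, LinearMap.range_eq_map, ← Submodule.map_smul''] at this
      obtain ⟨y, hy, hxy⟩ := this
      rwa [hf hxy] at hy
    refine ⟨?_, (SemiRankLib.lTensor_residueField_injective_iff f).mpr h2⟩
    haveI := DefLib.free_of_flat_of_nilpotent (M := P) hnil
    obtain ⟨s, hs⟩ := Module.projective_lifting_property g LinearMap.id hg
    obtain ⟨e', he'⟩ := hfg.splitSurjectiveEquiv hf ⟨s, hs⟩
    exact Module.Flat.of_retract (e'.symm.toLinearMap ∘ₗ LinearMap.inl A M P) ((LinearMap.fst A M P) ∘ₗ e'.toLinearMap) (LinearMap.ext fun x => by simp)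

end Groth.Agent.S15129
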