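import Groth.Statements.S15130
import Groth.Agent.SemiRankLib.ArtMod
import Mathlib.RingTheory.Flat.Basic
import Mathlib.LinearAlgebra.Isomorphisms
-- import your own Groth.Agent.* helpers here

set_option autoImplicit false
universe u v
open CAlg

namespace Groth.Agent.S15130

/-- Let A be an Artinian local ring with residue field k and P → Q → R → M → 0 a complex of A-modules
with P, Q, R flat which is exact at R and at M. If the reduced complex k ⊗ P → k ⊗ Q → k ⊗ R is
exact (the rest of the reduced sequence is then automatically exact), then M is flat and the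
original complex is exact at Q as well. (The published statement is for local Artinian algebras over
an algebraically closed field of characteristic zero having that field as residue field; this row
allows any Artinian local ring.) -/
theorem result
    (A : Type u) [CommRing A] [IsLocalRing A] [IsArtinianRing A]
    (P Q R M : Type v) [AddCommGroup P] [Module A P] [AddCommGroup Q] [Module A Q]
    [AddCommGroup R] [Module A R] [AddCommGroup M] [Module A M]
    [Module.Flat A P] [Module.Flat A Q] [Module.Flat A R]
    (f : P →ₗ[A] Q) (g : Q →ₗ[A] R) (h : R →ₗ[A] M)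
    (hfg : g ∘ₗ f = 0) (hgh : Function.Exact g h) (hh : Function.Surjective h)
    (hred : Function.Exact (f.lTensor (IsLocalRing.ResidueField A)) (g.lTensor (IsLocalRing.ResidueField A))) :
    Module.Flat A M ∧ Function.Exact f g := by
  have hnil := SemiRankLib.isNilpotent_maximalIdeal (C := A)
  have hgf : LinearMap.range f ≤ LinearMap.ker g := LinearMap.range_le_ker_iff.mpr hfg
  let gb : (Q ⧸ LinearMap.range f) →ₗ[A] R := (LinearMap.range f).liftQ g hgf
  have hmod : ∀ x, gb x ∈ IsLocalRing.maximalIdeal A • (⊤ : Submodule A R) →
      x ∈ IsLocalRing.maximalIdeal A • (⊤ : Submodule A (Q ⧸ LinearMap.range f)) := by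
    intro x hx
    obtain ⟨q, rfl⟩ := Submodule.Quotient.mk_surjective _ x
    have h0 : g.lTensor (IsLocalRing.ResidueField A) ((1 : IsLocalRing.ResidueField A) ⊗ₜ[A] q) = 0 := by
      rw [LinearMap.lTensor_tmul, SemiRankLib.one_tmul_eq_zero_iff]; exact hx
    obtain ⟨z, hz⟩ := (hred _).mp h0
    obtain ⟨p, rfl⟩ := TensorProduct.mk_surjective A P (IsLocalRing.ResidueField A) Ideal.Quotient.mk_surjective z
    rw [TensorProduct.mk_apply, LinearMap.lTensor_tmul] at hz
    have hd : q - f p ∈ IsLocalRing.maximalIdeal A • (⊤ : Submodule A Q) := by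
      rw [← SemiRankLib.one_tmul_eq_zero_iff, TensorProduct.tmul_sub, hz, sub_self]
    have := Submodule.mem_map_of_mem (f := (LinearMap.range f).mkQ) hd
    rw [Submodule.map_smul'', map_sub, Submodule.mkQ_apply, Submodule.mkQ_apply, (Submodule.Quotient.mk_eq_zero _).mpr (LinearMap.mem_range_self f p), sub_zero] at this
    exact Submodule.smul_mono le_rfl le_top this
  obtain ⟨hinj, hflat⟩ := DefLib.splitInjective_of_injective_mod hnil gb hmod
  haveI := hflat
  have hr : LinearMap.range gb = LinearMap.ker h := by rw [Submodule.range_liftQ, hgh.linearMap_ker_eq]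
  refine ⟨Module.Flat.of_linearEquiv ((Submodule.quotEquivOfEq _ _ hr).trans (h.quotKerEquivOfSurjective hh)).symm, ?_⟩
  intro q
  refine ⟨fun hq => ?_, ?_⟩
  · exact (Submodule.Quotient.mk_eq_zero _).mp (hinj (show gb (Submodule.Quotient.mk q) = gb 0 by rw [map_zero]; exact hq))
  · rintro ⟨p, rfl⟩
    exact LinearMap.congr_fun hfg p

end Groth.Agent.S15130
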