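import Groth.Statements.S15134
import Mathlib
-- import your own Groth.Agent.* helpers here

set_option autoImplicit false
set_option maxHeartbeats 2000000
set_option backward.isDefEq.respectTransparency false
universe u v
open CategoryTheory
open ArtFun

namespace Groth.Agent.S15134

/-- Let k be a field and F a functor on local Artinian k-algebras with residue field k with F(k) a
point. If F satisfies (H2') — the comparison map F(A₁ ×_k A₂) → F(A₁) × F(A₂) is bijective for every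
pair of objects — then F satisfies condition (L): for every small extension f : B → A with kernel J,
writing P = B ×_k B, Q = A ×_k A, r : P → Q for the map induced by f, and C = P/K with K the ideal
of P consisting of the pairs (b, b) with b ∈ J, every element of F(Q) whose two images in F(A) agree
lifts along F(C) → F(Q). Here P and Q are pinned as fibre products over k, K is described through
the two projections, and the two inequalities on K (it lies in the maximal ideal of P and is killed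
by r), which always hold, are taken as hypotheses so that the quotient object and the factored map
can be named. -/
theorem result
    {k : Type u} [Field k] (F : ArtFun.Art k k ⥤ Type v) (h0 : ArtFun.H0 F)
    (h2' : ∀ ⦃P A' A'' : ArtFun.Art k k⦄ (p' : P ⟶ A') (p'' : P ⟶ A'')
      (h : ArtFun.Art.IsFibreProd p' p'' (ArtFun.Art.toBase A') (ArtFun.Art.toBase A'')),
      Function.Bijective (ArtFun.cmp F h))
    ⦃B A : ArtFun.Art k k⦄ (f : B ⟶ A) (hf : ArtFun.Art.IsSmallExt f)
    ⦃P : ArtFun.Art k k⦄ (p₁ p₂ : P ⟶ B)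
    (hP : ArtFun.Art.IsFibreProd p₁ p₂ (ArtFun.Art.toBase B) (ArtFun.Art.toBase B))
    ⦃Q : ArtFun.Art k k⦄ (q₁ q₂ : Q ⟶ A)
    (hQ : ArtFun.Art.IsFibreProd q₁ q₂ (ArtFun.Art.toBase A) (ArtFun.Art.toBase A))
    (r : P ⟶ Q) (hr₁ : r ≫ q₁ = p₁ ≫ f) (hr₂ : r ≫ q₂ = p₂ ≫ f)
    (hK : Ideal.span {z : P | p₁ z = p₂ z ∧ f (p₁ z) = 0} ≤ IsLocalRing.maximalIdeal P)
    (hKr : Ideal.span {z : P | p₁ z = p₂ z ∧ f (p₁ z) = 0} ≤ RingHom.ker r.toAlgHom)
    (y : F.obj Q) (hy : F.map q₁ y = F.map q₂ y) :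
    ∃ z : F.obj (ArtFun.Art.quot P (Ideal.span {z : P | p₁ z = p₂ z ∧ f (p₁ z) = 0}) hK),
      F.map (ArtFun.Art.quotFactor hK r hKr) z = y := by
  obtain ⟨hs, -, -, -⟩ := hf
  choose dg hd using fun b : B => hP.surj b b rfl
  let D : B →ₐ[k] P :=
    { toFun := dg
      map_one' := hP.inj _ _ (by rw [(hd 1).1]; exact (map_one p₁.toAlgHom).symm) (by rw [(hd 1).2]; exact (map_one p₂.toAlgHom).symm)
      map_mul' := fun a b => hP.inj _ _
        (by rw [(hd _).1]; exact ((map_mul p₁.toAlgHom _ _).trans (congrArg₂ (· * ·) (hd a).1 (hd b).1)).symm)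
        (by rw [(hd _).2]; exact ((map_mul p₂.toAlgHom _ _).trans (congrArg₂ (· * ·) (hd a).2 (hd b).2)).symm)
      map_zero' := hP.inj _ _ (by rw [(hd 0).1]; exact (map_zero p₁.toAlgHom).symm) (by rw [(hd 0).2]; exact (map_zero p₂.toAlgHom).symm)
      map_add' := fun a b => hP.inj _ _
        (by rw [(hd _).1]; exact ((map_add p₁.toAlgHom _ _).trans (congrArg₂ (· + ·) (hd a).1 (hd b).1)).symm)
        (by rw [(hd _).2]; exact ((map_add p₂.toAlgHom _ _).trans (congrArg₂ (· + ·) (hd a).2 (hd b).2)).symm)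
      commutes' := fun c => hP.inj _ _ (by rw [(hd _).1]; exact (p₁.toAlgHom.commutes c).symm)
        (by rw [(hd _).2]; exact (p₂.toAlgHom.commutes c).symm) }
  let Dq : B →ₐ[k] (P ⧸ Ideal.span {z : P | p₁ z = p₂ z ∧ f (p₁ z) = 0}) := (Ideal.Quotient.mkₐ k _).comp D
  have hDq : ∀ b ∈ RingHom.ker f.toAlgHom, Dq b = 0 := fun b hb => Ideal.Quotient.eq_zero_iff_mem.2
    (Ideal.subset_span ⟨(hd b).1.trans (hd b).2.symm, by exact ((congrArg f (hd b).1).trans hb)⟩)
  let e := Ideal.quotientKerAlgEquivOfSurjective hs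
  let δ₀ : A →ₐ[k] (P ⧸ Ideal.span {z : P | p₁ z = p₂ z ∧ f (p₁ z) = 0}) :=
    (Ideal.Quotient.liftₐ _ Dq hDq).comp e.symm.toAlgHom
  have hδ₀ : ∀ b : B, δ₀ (f b) = Dq b := fun b => by
    show Ideal.Quotient.liftₐ _ Dq hDq (e.symm (f b)) = _
    rw [show e.symm (f b) = Ideal.Quotient.mk _ b from (AlgEquiv.symm_apply_eq e).2 rfl]
    rfl
  let δ : A ⟶ ArtFun.Art.quot P (Ideal.span {z : P | p₁ z = p₂ z ∧ f (p₁ z) = 0}) hK := ArtFun.Art.homMk δ₀ (by
    apply AlgHom.ext
    intro a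
    obtain ⟨b, rfl⟩ := hs a
    show (ArtFun.Art.quot P _ hK).res (δ₀ (f b)) = A.res (f b)
    rw [hδ₀, ArtFun.Art.res_app f b]
    show P.res (D b) = _
    rw [← ArtFun.Art.res_app p₁, show p₁ (D b) = b from (hd b).1])
  refine ⟨F.map δ (F.map q₁ y), (h2' q₁ q₂ hQ).1 (Subtype.ext (Prod.ext ?_ ?_))⟩
  · have h1 : δ ≫ ArtFun.Art.quotFactor hK r hKr ≫ q₁ = 𝟙 A := by
      apply ArtFun.Art.hom_ext
      apply AlgHom.ext
      intro a
      obtain ⟨b, rfl⟩ := hs a
      show q₁ (ArtFun.Art.quotFactor hK r hKr (δ₀ (f b))) = f b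
      rw [hδ₀]
      show (r ≫ q₁) (D b) = _
      rw [hr₁]
      exact congrArg f (hd b).1
    show F.map q₁ (F.map (ArtFun.Art.quotFactor hK r hKr) (F.map δ (F.map q₁ y))) = F.map q₁ y
    conv_rhs => rw [← FunctorToTypes.map_id_apply F (F.map q₁ y), ← h1]
    simp only [FunctorToTypes.map_comp_apply]
  · have h2 : δ ≫ ArtFun.Art.quotFactor hK r hKr ≫ q₂ = 𝟙 A := by
      apply ArtFun.Art.hom_ext
      apply AlgHom.ext
      intro a
      obtain ⟨b, rfl⟩ := hs a
      show q₂ (ArtFun.Art.quotFactor hK r hKr (δ₀ (f b))) = f b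
      rw [hδ₀]
      show (r ≫ q₂) (D b) = _
      rw [hr₂]
      exact congrArg f (hd b).2
    show F.map q₂ (F.map (ArtFun.Art.quotFactor hK r hKr) (F.map δ (F.map q₁ y))) = F.map q₂ y
    rw [← hy]
    conv_rhs => rw [← FunctorToTypes.map_id_apply F (F.map q₁ y), ← h2]
    simp only [FunctorToTypes.map_comp_apply]

end Groth.Agent.S15134
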