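import Groth.Statements.S15135
import Mathlib


-- import your own Groth.Agent.* helpers here

set_option autoImplicit false
universe u v
open Deform

namespace Groth.Agent.S15135

/-- For R-modules M ⊆ N, the first-order embedded deformations of M in N are in canonical bijection with
Hom_R(M, N/M). Writing N ⊗ k[ε] = N ⊕ εN as N × N (the pair (x, y) standing for x + εy), such a
deformation is an R-submodule L of N × N which is stable under multiplication by ε (if (x, y) ∈ L
then (0, x) ∈ L), reduces to M (x ∈ M exactly when (x, y) ∈ L for some y) and is flat over the dual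
numbers, flatness being stated elementwise as: (0, y) ∈ L only if y ∈ M (for a submodule reducing to
M this is the equality of the kernel and the image of ε on L, i.e. flatness over k[ε] when R is an
algebra over a field k). To φ : M → N/M corresponds the submodule of all (x, y) with x ∈ M and y ≡
φ(x) mod M. The first clause says this rule defines exactly one submodule for each φ; the second
says that a submodule has the three properties precisely when its membership is given by this rule
for some φ. (The published statement is a linear isomorphism t_G ≅ Hom_R(M, N/M) for the functor G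
of flat deformations of M inside N ⊗ A over local Artinian algebras A; this row states only the
underlying bijection, and the obstruction half is not stated here.) -/
theorem result
    (R : Type u) [CommRing R] (N : Type v) [AddCommGroup N] [Module R N] (M : Submodule R N) :
    (∀ φ : M →ₗ[R] (N ⧸ M), ∃! L : Submodule R (N × N),
        ∀ x y : N, (x, y) ∈ L ↔ ∃ h : x ∈ M, Submodule.Quotient.mk y = φ ⟨x, h⟩) ∧
    (∀ L : Submodule R (N × N),
      ((∀ x y : N, (x, y) ∈ L → ((0 : N), x) ∈ L) ∧
        (∀ x : N, x ∈ M ↔ ∃ y : N, (x, y) ∈ L) ∧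
        (∀ y : N, ((0 : N), y) ∈ L → y ∈ M)) ↔
      ∃ φ : M →ₗ[R] (N ⧸ M), ∀ x y : N, (x, y) ∈ L ↔ ∃ h : x ∈ M, Submodule.Quotient.mk y = φ ⟨x, h⟩) := by
  classical
  refine ⟨fun φ => ?_, fun L => ⟨?_, ?_⟩⟩
  · let L : Submodule R (N × N) :=
      { carrier := {z | ∃ h : z.1 ∈ M, Submodule.Quotient.mk z.2 = φ ⟨z.1, h⟩}
        add_mem' := fun {a b} ⟨ha, ha'⟩ ⟨hb, hb'⟩ => ⟨add_mem ha hb, by
          rw [Prod.snd_add, Submodule.Quotient.mk_add, ha', hb', ← map_add]; rfl⟩
        zero_mem' := ⟨zero_mem M, by rw [Prod.snd_zero, Submodule.Quotient.mk_zero]; exact (map_zero φ).symm⟩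
        smul_mem' := fun r a ⟨ha, ha'⟩ => ⟨M.smul_mem r ha, by
          rw [Prod.smul_snd, Submodule.Quotient.mk_smul, ha', ← map_smul]; rfl⟩ }
    exact ⟨L, fun x y => Iff.rfl, fun L' hL' => Submodule.ext fun ⟨x, y⟩ => (hL' x y).trans Iff.rfl⟩
  · rintro ⟨h1', h2, h3⟩
    choose f hf using fun x : M => (h2 x).1 x.2
    have wd : ∀ (x : M) y, ((x : N), y) ∈ L → (Submodule.Quotient.mk y : N ⧸ M) = Submodule.Quotient.mk (f x) := fun x y hy =>
      (Submodule.Quotient.eq M).2 (h3 _ (by simpa using L.sub_mem hy (hf x)))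
    let φ : M →ₗ[R] (N ⧸ M) :=
      { toFun := fun x => Submodule.Quotient.mk (f x)
        map_add' := fun a b => by rw [← Submodule.Quotient.mk_add]; exact (wd (a + b) _ (by simpa using L.add_mem (hf a) (hf b))).symm
        map_smul' := fun r a => by rw [RingHom.id_apply, ← Submodule.Quotient.mk_smul]; exact (wd (r • a) _ (by simpa using L.smul_mem r (hf a))).symm }
    refine ⟨φ, fun x y => ⟨fun hxy => ⟨(h2 x).2 ⟨y, hxy⟩, wd ⟨x, (h2 x).2 ⟨y, hxy⟩⟩ y hxy⟩, ?_⟩⟩
    rintro ⟨hx, he⟩
    have hm : y - f ⟨x, hx⟩ ∈ M := (Submodule.Quotient.eq M).1 he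
    obtain ⟨w, hw⟩ := (h2 _).1 hm
    have h0 : ((0 : N), y - f ⟨x, hx⟩) ∈ L := h1' _ _ hw
    simpa using L.add_mem (hf ⟨x, hx⟩) h0
  · rintro ⟨φ, hφ⟩
    refine ⟨fun x y h => ?_, fun x => ⟨fun hx => ?_, fun ⟨y, h⟩ => ((hφ x y).1 h).1⟩, fun y h => ?_⟩
    · obtain ⟨hx, -⟩ := (hφ x y).1 h
      exact (hφ 0 x).2 ⟨zero_mem M, by rw [(Submodule.Quotient.mk_eq_zero M).2 hx]; exact (map_zero φ).symm⟩
    · obtain ⟨y, hy⟩ := Submodule.Quotient.mk_surjective M (φ ⟨x, hx⟩)
      exact ⟨y, (hφ x y).2 ⟨hx, hy⟩⟩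
    · obtain ⟨h0, he⟩ := (hφ 0 y).1 h
      exact (Submodule.Quotient.mk_eq_zero M).1 (he.trans (map_zero φ))

end Groth.Agent.S15135
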