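import Groth.Statements.S15136
import Groth.Agent.CurvLib.Divisor
import Groth.Agent.S4666
import Groth.Agent.AtlasCohLib.FiniteCoh

set_option autoImplicit false
universe u
open CategoryTheory CategoryTheory.Limits AlgebraicGeometry Opposite
open Models

namespace Groth.Agent.S15136

section Aux

open DevissLib

variable {R : Type u} [CommRing R] [IsDomain R] [IsDiscreteValuationRing R] {X : Scheme.{u}} [X.Over (Spec (CommRingCat.of R))]

/-- the scalar on an open -/
noncomputable abbrev sc (c : R) (V : X.Opens) : Γ(X, V) :=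
  X.presheaf.map (homOfLE (le_top : V ≤ ⊤)).op (Coh.toGlobal (X ↘ Spec (CommRingCat.of R)) c)

theorem smulMod_app (M : X.Modules) (c : R) (V : X.Opens) (m : Γ(M, V)) :
    (Formal.smulMod R M c).app V m = sc c V • m := rfl

theorem smul_app_injective [Flat (X ↘ Spec (CommRingCat.of R))] {c : R} (hc : c ≠ 0)
    {V : X.Opens} (hV : IsAffineOpen V) (t : Γ(X, V)) (h : sc c V * t = 0) : t = 0 := by
  let φ : R →+* Γ(X, V) := (X.presheaf.map (homOfLE (le_top : V ≤ ⊤)).op).hom.comp
    (Coh.toGlobal (X ↘ Spec (CommRingCat.of R)))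
  have hflat : φ.Flat := by
    have h1 := (X ↘ Spec (CommRingCat.of R)).flat_appLE (isAffineOpen_top _) hV (by simp)
    have h2 : ((Scheme.ΓSpecIso (CommRingCat.of R)).inv.hom).Flat :=
      RingHom.Flat.of_bijective (ConcreteCategory.bijective_of_isIso _)
    have e : φ = ((X ↘ Spec (CommRingCat.of R)).appLE ⊤ V (by simp)).hom.comp
        (Scheme.ΓSpecIso (CommRingCat.of R)).inv.hom := by
      ext c
      rfl
    rw [e]
    exact RingHom.Flat.comp h2 h1
  letI := φ.toAlgebra
  haveI : Module.Flat R Γ(X, V) := hflat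
  have h3 := Module.Flat.isSMulRegular_of_nonZeroDivisors (M := Γ(X, V)) (mem_nonZeroDivisors_of_ne_zero hc)
  refine h3 (show c • t = c • 0 from ?_)
  rw [smul_zero, Algebra.smul_def]
  exact h

theorem fibre_ideal {π : R} (hπ : IsLocalRing.maximalIdeal R = Ideal.span {π}) (V : X.affineOpens) :
    (Models.specialFibreIdeal R (Over.mk (X ↘ Spec (CommRingCat.of R)))).ideal V = Ideal.span {sc π V.1} := by
  unfold Models.specialFibreIdeal
  refine (Groth.Agent.S4666.ideal_comap_eq _ _ ⟨⊤, isAffineOpen_top _⟩ V (by simp)).trans ?_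
  rw [Curv2.idealSheaf, Scheme.IdealSheafData.ofIdealTop_ideal]
  simp only [Ideal.map_map, hπ, Ideal.map_span, Set.image_singleton]
  rfl

theorem seq_shortExact [Flat (X ↘ Spec (CommRingCat.of R))] {π : R} (hπ0 : π ≠ 0)
    (hπ : IsLocalRing.maximalIdeal R = Ideal.span {π}) :
    ∃ h : Formal.smulMod R (Coh.structureModule X) π ≫
        ClSub.toSubscheme (Models.specialFibreIdeal R (Over.mk (X ↘ Spec (CommRingCat.of R)))) = 0,
      (ShortComplex.mk _ _ h).ShortExact := by
  let I : X.IdealSheafData := Models.specialFibreIdeal R (Over.mk (X ↘ Spec (CommRingCat.of R)))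
  have hkerV : ∀ (V : X.affineOpens) (t : Γ(X, V.1)),
      (ClSub.toSubscheme I).app V.1 t = 0 ↔ ∃ c, t = sc π V.1 * c := fun V t => by
    show t ∈ RingHom.ker (I.subschemeι.app V.1).hom ↔ _
    rw [Scheme.IdealSheafData.ker_subschemeι_app, fibre_ideal hπ V, Ideal.mem_span_singleton]
    exact Iff.rfl
  have h0 : Formal.smulMod R (Coh.structureModule X) π ≫ ClSub.toSubscheme I = 0 := by
    refine Scheme.Modules.hom_ext _ _ fun U => ConcreteCategory.hom_ext _ _ fun t => ?_
    refine TopCat.Presheaf.section_ext ((QCohLib.toAbF X).obj (ClSub.quotMod I) : TopCat.Sheaf AddCommGrpCat X.toTopCat) U _ _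
      fun x hxU => ?_
    show gm (ClSub.quotMod I) x hxU ((Formal.smulMod R (Coh.structureModule X) π ≫ ClSub.toSubscheme I).app U t) =
      gm (ClSub.quotMod I) x hxU 0
    rw [← gm_app, gm_zero]
    obtain ⟨V, hV, hxV, hVU⟩ := (TopologicalSpace.Opens.isBasis_iff_nbhd).mp X.isBasis_affineOpens hxU
    rw [← gm_map (Coh.structureModule X) hVU x hxV t]
    refine (gm_app _ x hxV _).trans ((congrArg (gm _ x hxV) ?_).trans (gm_zero _ x hxV))
    exact (hkerV ⟨V, hV⟩ _).mpr ⟨(Coh.structureModule X).presheaf.map (homOfLE hVU).op t, rfl⟩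
  refine ⟨h0, CurvLib.shortExact_of_stalks _ fun x => ?_⟩
  haveI := CurvLib.epi_toSubscheme I
  refine { exact := ?_, mono_f := ?_, epi_g := inferInstanceAs (Epi ((St x).map (ClSub.toSubscheme I))) }
  · rw [ShortComplex.moduleCat_exact_iff]
    intro a ha
    obtain ⟨U, hxU, t, rfl⟩ := exists_gm_eq (Coh.structureModule X) x a
    have ha' : gm (ClSub.quotMod I) x hxU ((ClSub.toSubscheme I).app U t) =
        gm (ClSub.quotMod I) x hxU 0 := ((gm_app _ x hxU t).symm.trans ha).trans (gm_zero _ x hxU).symm
    obtain ⟨W, hxW, i, j, hW⟩ := (ClSub.quotMod I).presheaf.germ_eq x hxU hxU _ _ ha'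
    obtain ⟨V, hV, hxV, hVW⟩ := (TopologicalSpace.Opens.isBasis_iff_nbhd).mp X.isBasis_affineOpens hxW
    have hz : (ClSub.toSubscheme I).app V ((Coh.structureModule X).presheaf.map (homOfLE (hVW.trans i.le)).op t) = 0 := by
      rw [QCohLib.app_map]
      have := congrArg ((ClSub.quotMod I).presheaf.map (homOfLE hVW).op) hW
      rw [QCohLib.map_map', QCohLib.map_map', map_zero] at this
      exact this
    obtain ⟨c, hc⟩ : ∃ c : Γ(Coh.structureModule X, V),
        (show Γ(X, V) from (Coh.structureModule X).presheaf.map (homOfLE (hVW.trans i.le)).op t) = sc π V * (show Γ(X, V) from c) :=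
      (hkerV ⟨V, hV⟩ _).mp hz
    refine ⟨gm (Coh.structureModule X) x hxV c, ?_⟩
    refine (gm_app _ x hxV c).trans ?_
    rw [← gm_map (Coh.structureModule X) (hVW.trans i.le) x hxV t]
    exact congrArg (gm _ x hxV) hc.symm
  · refine (ModuleCat.mono_iff_injective _).mpr ?_
    refine (injective_iff_map_eq_zero _).mpr fun a ha => ?_
    obtain ⟨U, hxU, t, rfl⟩ := exists_gm_eq (Coh.structureModule X) x a
    have ha' : gm (Coh.structureModule X) x hxU ((Formal.smulMod R (Coh.structureModule X) π).app U t) =
        gm (Coh.structureModule X) x hxU 0 := ((gm_app _ x hxU t).symm.trans ha).trans (gm_zero _ x hxU).symm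
    obtain ⟨W, hxW, i, j, hW⟩ := (Coh.structureModule X).presheaf.germ_eq x hxU hxU _ _ ha'
    obtain ⟨V, hV, hxV, hVW⟩ := (TopologicalSpace.Opens.isBasis_iff_nbhd).mp X.isBasis_affineOpens hxW
    have hz : (Formal.smulMod R (Coh.structureModule X) π).app V
        ((Coh.structureModule X).presheaf.map (homOfLE (hVW.trans i.le)).op t) = 0 := by
      rw [QCohLib.app_map]
      have := congrArg ((Coh.structureModule X).presheaf.map (homOfLE hVW).op) hW
      rw [QCohLib.map_map', QCohLib.map_map', map_zero] at this
      exact this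
    rw [← gm_map (Coh.structureModule X) (hVW.trans i.le) x hxV t, smul_app_injective hπ0 hV _ hz]
    exact gm_zero _ x hxV

theorem smulMod_toAb (M : X.Modules) (c : R) (p : ℕ) (x : Coh.HH X M p) :
    Sheaf.H.map ((SheafOfModules.toSheaf X.ringCatSheaf).map (Formal.smulMod R M c)) p x = c • x := by
  have e : (SheafOfModules.toSheaf X.ringCatSheaf).map (Formal.smulMod R M c) =
      Coh.smulAb M (Coh.toGlobal (X ↘ Spec (CommRingCat.of R)) c) := by
    apply Sheaf.hom_ext
    ext V a
    rfl
  rw [e]
  rfl

end Aux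

/-- Let R be a discrete valuation ring with residue field k and let X be a scheme proper and flat over
Spec R, with closed fibre X_s = X ×_R Spec k, the closed subscheme cut out by the ideal sheaf 𝔪_R ·
O_X. Then X is cohomologically flat over R in dimension 0, in the sense that the restriction map
H^0(X, O_X) → H^0(X_s, O_{X_s}) is surjective (equivalently H^0(X, O_X) ⊗_R k ≅ H^0(X_s, O_{X_s})),
precisely when H^1(X, O_X) has no R-torsion. (The published statement is for a proper relative curve
over R, normal with smooth geometrically connected generic fibre and with the fraction field of R of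
characteristic zero, and phrases cohomological flatness as the formation of the direct image of O_X
commuting with every base change; the argument uses only properness and flatness, and for X proper
and flat over R that condition amounts to surjectivity onto the sections of the closed fibre, which
is the form taken here.) -/
theorem result (R : Type u) [CommRing R] [IsDomain R]
    [IsDiscreteValuationRing R] (X : Scheme.{u}) [X.Over (Spec (CommRingCat.of R))]
    [IsProper (X ↘ Spec (CommRingCat.of R))] [Flat (X ↘ Spec (CommRingCat.of R))] :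
    Function.Surjective (Sheaf.H.map ((SheafOfModules.toSheaf X.ringCatSheaf).map
      (ClSub.toSubscheme (Models.specialFibreIdeal R (Over.mk (X ↘ Spec (CommRingCat.of R)))))) 0) ↔
      NoZeroSMulDivisors R (Coh.HH X (Coh.structureModule X) 1) := by
  obtain ⟨π, hπ⟩ := IsDiscreteValuationRing.exists_irreducible R
  obtain ⟨h0, hS⟩ := seq_shortExact (X := X) hπ.ne_zero hπ.maximalIdeal_eq
  have hT := QCohLib.toAbF_shortExact hS
  constructor
  · intro hsurj
    have hinj : ∀ x : Coh.HH X (Coh.structureModule X) 1, π • x = 0 → x = 0 := fun x hx => by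
      obtain ⟨y, rfl⟩ := AtlasCoh.hExact₁ hT 0 x ((smulMod_toAb (Coh.structureModule X) π 1 x).trans hx)
      obtain ⟨z, rfl⟩ := hsurj y
      exact (Abelian.Ext.comp_assoc_of_second_deg_zero ..).trans
        ((congrArg (fun e => Abelian.Ext.comp z e rfl) hT.comp_extClass).trans (Abelian.Ext.comp_zero ..))
    refine ⟨fun {c x} hcx => or_iff_not_imp_left.mpr fun hc => ?_⟩
    obtain ⟨n, u, rfl⟩ := IsDiscreteValuationRing.eq_unit_mul_pow_irreducible hc hπ
    rw [mul_smul] at hcx
    have h1 : π ^ n • x = 0 := by
      have e : π ^ n • x = (↑u⁻¹ : R) • ((↑u : R) • π ^ n • x) :=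
        (one_smul R _).symm.trans (((congrArg (fun r : R => r • (π ^ n • x)) u.inv_mul).symm).trans (mul_smul _ _ _))
      rw [e, hcx]
      exact smul_zero _
    clear hcx hc
    induction n with
    | zero => exact (one_smul R x).symm.trans ((congrArg (fun r : R => r • x) (pow_zero π).symm).trans h1)
    | succ n ih =>
      refine ih (hinj _ ?_)
      exact (mul_smul _ _ _).symm.trans ((congrArg (fun r : R => r • x) (pow_succ' π n).symm).trans h1)
  · intro htf y
    refine AtlasCoh.hExact₃ hT 0 y ?_
    let d : Coh.HH X (Coh.structureModule X) 1 := AtlasCoh.hδ hT 0 y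
    have h1 : π • d = 0 := by
      rw [← smulMod_toAb (Coh.structureModule X) π 1 d]
      exact (Abelian.Ext.comp_assoc_of_third_deg_zero ..).trans
        ((congrArg (fun e => Abelian.Ext.comp y e (add_zero (0 + 1))) hT.extClass_comp).trans
          (Abelian.Ext.comp_zero ..))
    exact (htf.eq_zero_or_eq_zero_of_smul_eq_zero h1).resolve_left hπ.ne_zero

end Groth.Agent.S15136
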