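import Groth.Statements.S15137
import Mathlib
import Groth.Agent.RatModLib.LerayEquiv
import Groth.Agent.CurveVBLib.Integral
-- import your own Groth.Agent.* helpers here

set_option autoImplicit false
universe u
open CategoryTheory CategoryTheory.Limits AlgebraicGeometry Opposite
open Models

namespace Groth.Agent.S15137

/-- Let R be a discrete valuation ring whose fraction field K has characteristic zero, let C be a proper
K-curve, smooth of relative dimension 1 and geometrically connected over K, and let X be a model of
C over R (flat and of finite type over R with generic fibre C) which is proper over R and normal, so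
that X is a proper relative curve over R; assume X has rational singularities: the local ring of X
at every closed point defines a rational singularity (every proper morphism onto its spectrum from
an integral normal scheme which is an isomorphism over a nonempty open has H^1 of the structure
sheaf zero). Let ρ : X' → X be a proper morphism over R from an integral normal scheme X' which is
an isomorphism over some nonempty open of X (a proper birational morphism). Then the first higher
direct image R^1ρ_*O_{X'} (of abelian sheaves) vanishes, the map H^1(X, O_X) → H^1(X, ρ_*O_{X'})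
induced by the canonical map O_X → ρ_*O_{X'} is bijective, and consequently the R-modules H^1(X,
O_X) and H^1(X', O_{X'}) are isomorphic (the published statement asserts that the canonical pullback
map is an isomorphism; this row records the existence of an R-linear isomorphism only). -/
theorem result (R : Type u) [CommRing R]
    [IsDomain R] [IsDiscreteValuationRing R] [CharZero (FractionRing R)]
    (X C : Scheme.{u}) [X.Over (Spec (CommRingCat.of R))]
    (f : C ⟶ Spec (CommRingCat.of (FractionRing R)))
    [SmoothOfRelativeDimension 1 f] [IsProper f] [GeometricallyConnected f]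
    (hX : Models.IsModel R X (X ↘ Spec (CommRingCat.of R)) C f)
    [IsProper (X ↘ Spec (CommRingCat.of R))] (hn : Pi1.IsNormalScheme X)
    (hrat : ∀ x : X, IsClosed ({x} : Set X) → Curv2.IsRationalSing (X.presheaf.stalk x))
    (X' : Scheme.{u}) [X'.Over (Spec (CommRingCat.of R))] (ρ : X' ⟶ X) [IsProper ρ]
    (hρ : ρ ≫ (X ↘ Spec (CommRingCat.of R)) = X' ↘ Spec (CommRingCat.of R))
    [IsIntegral X'] (hn' : Pi1.IsNormalScheme X')
    (hbir : ∃ U : X.Opens, (U : Set X).Nonempty ∧ IsIso (ρ ∣_ U)) :
    IsZero ((Coh.RpushAb ρ 1).obj (Coh.toAb (Coh.structureModule X'))) ∧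
      Function.Bijective (Sheaf.H.map ((SheafOfModules.toSheaf X.ringCatSheaf).map (ClSub.unitToPush ρ)) 1) ∧
      Nonempty (Coh.HH X (Coh.structureModule X) 1 ≃ₗ[R] Coh.HH X' (Coh.structureModule X') 1) := by
  obtain ⟨hflat, hlft, hqc, g, hg⟩ := hX
  haveI := hflat
  haveI : IsLocallyNoetherian X := LocallyOfFiniteType.isLocallyNoetherian (X ↘ Spec (CommRingCat.of R))
  haveI : CompactSpace X := QuasiCompact.compactSpace_of_compactSpace (X ↘ Spec (CommRingCat.of R))
  haveI : IsNoetherian X := {}
  haveI : ∀ x : X, IsDomain (X.presheaf.stalk x) := fun x => (hn x).1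
  haveI : ConnectedSpace C := GeometricallyConnected.connectedSpace_of_subsingleton f
  have hdense : Dense (Set.range g) := fun x => by
    have hle : genericPoint (Spec (CommRingCat.of R)) ⤳ (X ↘ Spec (CommRingCat.of R)) x := genericPoint_specializes _
    obtain ⟨x', hx', hx'e⟩ := Flat.generalizingMap (X ↘ Spec (CommRingCat.of R)) hle
    refine hx'.mem_closed isClosed_closure (subset_closure ?_)
    have hη : genericPoint (Spec (CommRingCat.of R)) = (Spec.map (CommRingCat.ofHom (algebraMap R (FractionRing R))))
        (genericPoint (Spec (CommRingCat.of (FractionRing R)))) := by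
      rw [genericPoint_eq_bot_of_affine, genericPoint_eq_bot_of_affine]
      refine PrimeSpectrum.ext ?_
      show ⊥ = Ideal.comap (algebraMap R (FractionRing R)) ⊥
      rw [← RingHom.ker_eq_comap_bot]
      exact ((RingHom.injective_iff_ker_eq_bot _).1 (IsFractionRing.injective R (FractionRing R))).symm
    obtain ⟨c, hc, -⟩ := Scheme.exists_preimage_of_isPullback hg x'
      (genericPoint (Spec (CommRingCat.of (FractionRing R)))) (hx'e.trans hη)
    exact ⟨c, hc⟩
  haveI : ConnectedSpace X := connectedSpace_iff_univ.2 (by
    rw [← hdense.closure_eq]
    exact (isConnected_range g.continuous).closure)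
  haveI : IsIntegral X := CurveVBLib.isIntegral_of_connected
  haveI : IsLocallyNoetherian X' := LocallyOfFiniteType.isLocallyNoetherian ρ
  haveI : CompactSpace X' := QuasiCompact.compactSpace_of_compactSpace ρ
  haveI : IsNoetherian X' := {}
  haveI : HasInjectiveResolutions X'.Modules := inferInstance
  have hm : RatModLib.Mod ρ := ⟨inferInstance, hbir⟩
  haveI := hm.isIso_unitToPush hn
  have hz : IsZero ((Coh.Rpush ρ 1).obj (Coh.structureModule X')) :=
    RatModLib.Van.isZero ρ (RatModLib.van_of_rational hm hn' hrat)
  refine ⟨(EulerRpushLib.isZero_rpushAb_iff ρ _ 1).2 hz, ?_, ?_⟩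
  · exact (ModifLib.hLIso (A := R) (asIso (ClSub.unitToPush ρ)) 1).bijective
  · obtain ⟨e⟩ := RatModLib.exists_equiv_H1 (A := R) ρ hρ (Coh.structureModule X') hz
    exact ⟨ModifLib.hLIso (A := R) (asIso (ClSub.unitToPush ρ)) 1 ≪≫ₗ e⟩

end Groth.Agent.S15137
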