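import Groth.Statements.S15148
import Groth.Agent.HilbZetaLib.Basic
-- import your own Groth.Agent.* helpers here

set_option autoImplicit false
universe u
open HilbZeta

namespace Groth.Agent.S15148

/-- Let k be a field, s a natural number and R a k-subalgebra of the product of s copies of the power
series ring k[[x]], of finite codimension δ over k and local with residue field k (all components of
an element of R have the same constant term); write v_i for the x-adic order of the i-th component
of an s-tuple, and let c = (c_1, …, c_s) be the conductor exponents, so that an s-tuple f satisfies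
f·g ∈ R for every s-tuple g exactly when v_i(f) ≥ c_i for all i (over an algebraically closed field
such an R is precisely the completed local ring of a reduced curve singularity having s branches
sitting inside its normalisation, δ is its delta invariant and the conductor ideal is generated by
the x_i^{c_i}), and put C = c_1 + ⋯ + c_s. Let I be an ideal of R of finite colength d with
branch-length vector a (for every i the ideal of k[[x]] generated by the i-th components of the
elements of I is (x^{a_i})). Then −δ ≤ d − Σ a_i ≤ C − δ, and the second inequality is strict when R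
is not the whole product (the singularity is not smooth). (The published statement is over an
algebraically closed field; this row allows any field.) -/
theorem result (k : Type u) [Field k] (s : ℕ)
    (R : Subalgebra k (Fin s → PowerSeries k))
    (hfin : Module.Finite k ((Fin s → PowerSeries k) ⧸ Subalgebra.toSubmodule R))
    (hloc : ∀ f ∈ R, ∀ i j : Fin s, PowerSeries.constantCoeff (f i) = PowerSeries.constantCoeff (f j))
    (c : Fin s → ℕ)
    (hc : ∀ f : Fin s → PowerSeries k,
      (∀ g : Fin s → PowerSeries k, g * f ∈ R) ↔ ∀ i, ((c i : ℕ) : ℕ∞) ≤ (f i).order)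
    (I : Ideal ↥R) (hI : Module.Finite k (↥R ⧸ I)) (a : Fin s → ℕ)
    (ha : (∀ i : Fin s, Ideal.map ((Pi.evalAlgHom k (fun _ : Fin s => PowerSeries k) i).comp R.val) I = Ideal.span {PowerSeries.X ^ (a i)})) :
    (∑ i, a i) ≤ Module.finrank k (↥R ⧸ I) + Module.finrank k ((Fin s → PowerSeries k) ⧸ Subalgebra.toSubmodule R) ∧
    Module.finrank k (↥R ⧸ I) + Module.finrank k ((Fin s → PowerSeries k) ⧸ Subalgebra.toSubmodule R) ≤ (∑ i, a i) + ∑ i, c i ∧
    (R ≠ ⊤ → Module.finrank k (↥R ⧸ I) + Module.finrank k ((Fin s → PowerSeries k) ⧸ Subalgebra.toSubmodule R) < (∑ i, a i) + ∑ i, c i) := by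
  classical
  let Rl : ↥R →ₗ[k] (Fin s → PowerSeries k) := R.val.toLinearMap
  let N : Submodule k (Fin s → PowerSeries k) := (I.restrictScalars k).map Rl
  have hupper : N ≤ HilbZetaLib.tail a := by
    rintro _ ⟨f, hf, rfl⟩ i
    exact (HilbZetaLib.le_order_iff _ _).1 ((HilbZetaLib.branch_spec R I (a i) i (ha i)).1 f hf)
  have hlower : HilbZetaLib.tail (fun i => a i + c i) ≤ N := by
    intro g hg
    obtain ⟨hgR, hgI⟩ := HilbZetaLib.mem_of_le_order R c hc I a
      (fun i => (HilbZetaLib.branch_spec R I (a i) i (ha i)).2) g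
      (fun i => (HilbZetaLib.le_order_iff _ _).2 (hg i))
    exact ⟨⟨g, hgR⟩, hgI, rfl⟩
  obtain ⟨-, ha'⟩ := HilbZetaLib.finrank_quotient_tail (k := k) a
  obtain ⟨hfac, hac⟩ := HilbZetaLib.finrank_quotient_tail (k := k) (fun i => a i + c i)
  obtain ⟨hfN, hle1, heq1⟩ := HilbZetaLib.finrank_quotient_le hlower hfac
  obtain ⟨-, hle2, -⟩ := HilbZetaLib.finrank_quotient_le hupper hfN
  have hNrank : Module.finrank k ((Fin s → PowerSeries k) ⧸ N) =
      Module.finrank k (↥R ⧸ I) + Module.finrank k ((Fin s → PowerSeries k) ⧸ Subalgebra.toSubmodule R) := by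
    have hNle : N ≤ Subalgebra.toSubmodule R := by
      rintro _ ⟨f, -, rfl⟩
      exact f.2
    haveI := hfN
    let π : ((Fin s → PowerSeries k) ⧸ N) →ₗ[k] (Fin s → PowerSeries k) ⧸ Subalgebra.toSubmodule R :=
      Submodule.mapQ N _ LinearMap.id hNle
    have hπ : Function.Surjective π := fun z => by
      obtain ⟨m, rfl⟩ := Submodule.mkQ_surjective _ z
      exact ⟨Submodule.Quotient.mk m, rfl⟩
    let g : (↥R ⧸ I.restrictScalars k) →ₗ[k] (Fin s → PowerSeries k) ⧸ N :=
      Submodule.mapQ _ N Rl (Submodule.le_comap_map Rl _)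
    have hg : Function.Injective g := by
      rw [← LinearMap.ker_eq_bot, Submodule.eq_bot_iff]
      intro z hz
      obtain ⟨m, rfl⟩ := Submodule.mkQ_surjective _ z
      obtain ⟨x, hx, hxm⟩ := (Submodule.Quotient.mk_eq_zero N).1 (LinearMap.mem_ker.1 hz)
      rw [Submodule.mkQ_apply, Submodule.Quotient.mk_eq_zero, ← Subtype.val_injective hxm]
      exact hx
    have hk : LinearMap.ker π = LinearMap.range g := by
      ext z
      obtain ⟨m, rfl⟩ := Submodule.mkQ_surjective _ z
      constructor
      · intro hz
        exact ⟨Submodule.Quotient.mk ⟨m, (Submodule.Quotient.mk_eq_zero _).1 (LinearMap.mem_ker.1 hz)⟩, rfl⟩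
      · rintro ⟨w, hw⟩
        obtain ⟨x, rfl⟩ := Submodule.mkQ_surjective _ w
        rw [← hw, LinearMap.mem_ker]
        exact (Submodule.Quotient.mk_eq_zero _).2 x.2
    rw [← LinearMap.finrank_range_add_finrank_ker π, LinearMap.range_eq_top.2 hπ, finrank_top, hk,
      LinearMap.finrank_range_of_inj hg, (Submodule.Quotient.restrictScalarsEquiv k I).finrank_eq, add_comm]
  rw [ha'] at hle2
  rw [hac, hNrank] at hle1
  rw [hNrank] at hle2
  rw [Finset.sum_add_distrib] at hle1
  refine ⟨hle2, hle1, fun hR => lt_of_le_of_ne hle1 fun he => ?_⟩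
  obtain ⟨i, hi⟩ : ∃ i, c i ≠ 0 := by
    by_contra! h0
    refine hR (Algebra.eq_top_iff.2 fun f => ?_)
    have := (hc f).2 (fun i => by simp [h0 i]) 1
    rwa [one_mul] at this
  obtain ⟨f, hf, hfo⟩ := (HilbZetaLib.branch_spec R I (a i) i (ha i)).2
  have hN : N = HilbZetaLib.tail (fun i => a i + c i) := heq1 (by
    rw [hNrank, hac, Finset.sum_add_distrib]; exact he)
  have hmem : (f : Fin s → PowerSeries k) ∈ HilbZetaLib.tail (fun i => a i + c i) :=
    hN ▸ (⟨f, hf, rfl⟩ : (f : Fin s → PowerSeries k) ∈ N)
  have h := (HilbZetaLib.le_order_iff _ _).2 (hmem i)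
  rw [hfo, ENat.coe_le_coe] at h
  change a i + c i ≤ a i at h
  omega

end Groth.Agent.S15148
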