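import Groth.Statements.S15149
import Mathlib.LinearAlgebra.Dimension.RankNullity
import Mathlib.RingTheory.PowerSeries.Order
import Mathlib.RingTheory.PowerSeries.NoZeroDivisors
import Mathlib.RingTheory.Finiteness.Basic
import Mathlib.LinearAlgebra.Isomorphisms
import Mathlib.LinearAlgebra.FiniteDimensional.Lemmas
-- import your own Groth.Agent.* helpers here

set_option autoImplicit false
universe u
open HilbZeta

namespace Groth.Agent.S15149

/-- Index formula for an injective linear map. -/
theorem finrank_quotient_map {k M M' : Type u} [Field k] [AddCommGroup M] [Module k M] [AddCommGroup M']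
    [Module k M'] (f : M →ₗ[k] M') (hf : Function.Injective f) (N : Submodule k M)
    (h1 : Module.Finite k (M' ⧸ LinearMap.range f)) :
    (Module.Finite k (M' ⧸ N.map f) ↔ Module.Finite k (M ⧸ N)) ∧
      (Module.Finite k (M ⧸ N) → Module.finrank k (M' ⧸ N.map f) =
        Module.finrank k (M' ⧸ LinearMap.range f) + Module.finrank k (M ⧸ N)) := by
  let g : M ⧸ N →ₗ[k] M' ⧸ N.map f := Submodule.mapQ N (N.map f) f (Submodule.le_comap_map f N)
  have hg : Function.Injective g := by
    rw [← LinearMap.ker_eq_bot, Submodule.eq_bot_iff]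
    intro z hz
    obtain ⟨m, rfl⟩ := Submodule.mkQ_surjective N z
    simp only [g, LinearMap.mem_ker, Submodule.mkQ_apply, Submodule.mapQ_apply,
      Submodule.Quotient.mk_eq_zero, Submodule.mem_map] at hz
    obtain ⟨x, hx, hxm⟩ := hz
    rw [Submodule.mkQ_apply, Submodule.Quotient.mk_eq_zero, ← hf hxm]
    exact hx
  have hle : N.map f ≤ LinearMap.range f := LinearMap.map_le_range
  let π : M' ⧸ N.map f →ₗ[k] M' ⧸ LinearMap.range f :=
    Submodule.mapQ (N.map f) (LinearMap.range f) LinearMap.id hle
  have hπ : Function.Surjective π := fun z => by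
    obtain ⟨m, rfl⟩ := Submodule.mkQ_surjective _ z
    exact ⟨Submodule.Quotient.mk m, rfl⟩
  have hex : Function.Exact g π := by
    intro z
    obtain ⟨m, rfl⟩ := Submodule.mkQ_surjective _ z
    simp only [π, Submodule.mkQ_apply, Submodule.mapQ_apply, LinearMap.id_apply,
      Submodule.Quotient.mk_eq_zero]
    refine ⟨fun ⟨x, hx⟩ => ⟨Submodule.Quotient.mk x, by rw [← hx]; rfl⟩, fun ⟨w, hw⟩ => ?_⟩
    obtain ⟨x, rfl⟩ := Submodule.mkQ_surjective _ w
    simp only [g, Submodule.mkQ_apply, Submodule.mapQ_apply, Submodule.Quotient.eq] at hw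
    obtain ⟨y, hy⟩ := hle hw
    exact ⟨x - y, by rw [map_sub, hy, sub_sub_cancel]⟩
  refine ⟨⟨fun h => Module.Finite.of_injective g hg, fun h => ?_⟩, fun h => ?_⟩
  · exact Module.Finite.of_exact (f := g) (g := π) hex hπ
  · haveI : Module.Finite k (M' ⧸ N.map f) := Module.Finite.of_exact (f := g) (g := π) hex hπ
    rw [← LinearMap.finrank_range_add_finrank_ker π, LinearMap.range_eq_top.2 hπ, finrank_top,
      hex.linearMap_ker_eq, LinearMap.finrank_range_of_inj hg]

/-- Let k be a field, s a natural number and R a k-subalgebra of the product of s copies of the power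
series ring k[[x]], of finite codimension δ over k and local with residue field k (all components of
an element of R have the same constant term); write v_i for the x-adic order of the i-th component
of an s-tuple, and let c = (c_1, …, c_s) be the conductor exponents, so that an s-tuple f satisfies
f·g ∈ R for every s-tuple g exactly when v_i(f) ≥ c_i for all i (over an algebraically closed field
such an R is precisely the completed local ring of a reduced curve singularity having s branches
sitting inside its normalisation, δ is its delta invariant and the conductor ideal is generated by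
the x_i^{c_i}). Fix a branch j, a colength d and a branch-length vector a = (a_1, …, a_s) with a_j ≥
c_j, and let ξ be the s-tuple with x in the j-th place and 1 elsewhere. Call an ideal I of R of type
(d, a) when it has colength d and, for every i, the ideal of k[[x]] generated by the i-th components
of its elements is (x^{a_i}). Then multiplication by ξ is a bijection from the ideals of type (d, a)
onto the ideals of type (d + 1, a + e_j), where a + e_j is a with its j-th entry raised by one: for
every ideal I of type (d, a) the set ξ·I is (the image of) an ideal of type (d + 1, a + e_j), and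
every ideal of type (d + 1, a + e_j) is ξ·I for some ideal I of type (d, a). (The published
statement is the equality, in the Grothendieck ring of varieties, of the classes of the two
corresponding branch-length strata of the punctual Hilbert scheme; this row states the bijection on
ideals underlying it, which is what the argument establishes; the published statement is over an
algebraically closed field, and this row allows any field.) -/
theorem result (k : Type u) [Field k] (s : ℕ)
    (R : Subalgebra k (Fin s → PowerSeries k))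
    (hfin : Module.Finite k ((Fin s → PowerSeries k) ⧸ Subalgebra.toSubmodule R))
    (hloc : ∀ f ∈ R, ∀ i j : Fin s, PowerSeries.constantCoeff (f i) = PowerSeries.constantCoeff (f j))
    (c : Fin s → ℕ)
    (hc : ∀ f : Fin s → PowerSeries k,
      (∀ g : Fin s → PowerSeries k, g * f ∈ R) ↔ ∀ i, ((c i : ℕ) : ℕ∞) ≤ (f i).order)
    (j : Fin s) (d : ℕ) (a : Fin s → ℕ) (hj : c j ≤ a j) :
    (∀ I ∈ {I : Ideal ↥R | Module.Finite k (↥R ⧸ I) ∧ Module.finrank k (↥R ⧸ I) = d ∧ (∀ i : Fin s, Ideal.map ((Pi.evalAlgHom k (fun _ : Fin s => PowerSeries k) i).comp R.val) I = Ideal.span {PowerSeries.X ^ (a i)})},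
      ∃ J ∈ {I : Ideal ↥R | Module.Finite k (↥R ⧸ I) ∧ Module.finrank k (↥R ⧸ I) = d + 1 ∧ (∀ i : Fin s, Ideal.map ((Pi.evalAlgHom k (fun _ : Fin s => PowerSeries k) i).comp R.val) I = Ideal.span {PowerSeries.X ^ ((Function.update a j (a j + 1)) i)})},
        (Subtype.val '' (J : Set ↥R)) = (fun f => Pi.mulSingle j PowerSeries.X * f) '' (Subtype.val '' (I : Set ↥R))) ∧
    (∀ J ∈ {I : Ideal ↥R | Module.Finite k (↥R ⧸ I) ∧ Module.finrank k (↥R ⧸ I) = d + 1 ∧ (∀ i : Fin s, Ideal.map ((Pi.evalAlgHom k (fun _ : Fin s => PowerSeries k) i).comp R.val) I = Ideal.span {PowerSeries.X ^ ((Function.update a j (a j + 1)) i)})},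
      ∃ I ∈ {I : Ideal ↥R | Module.Finite k (↥R ⧸ I) ∧ Module.finrank k (↥R ⧸ I) = d ∧ (∀ i : Fin s, Ideal.map ((Pi.evalAlgHom k (fun _ : Fin s => PowerSeries k) i).comp R.val) I = Ideal.span {PowerSeries.X ^ (a i)})},
        (Subtype.val '' (J : Set ↥R)) = (fun f => Pi.mulSingle j PowerSeries.X * f) '' (Subtype.val '' (I : Set ↥R))) := by
  classical
  let X : PowerSeries k := PowerSeries.X
  let ξ : (Fin s → PowerSeries k) := Pi.mulSingle j X
  let R₀ : Submodule k (Fin s → PowerSeries k) := Subalgebra.toSubmodule R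
  have hξj : ξ j = X := Pi.mulSingle_eq_same (M := fun _ : Fin s => PowerSeries k) j X
  have hξi : ∀ i, i ≠ j → ξ i = 1 := fun i hi => Pi.mulSingle_eq_of_ne (M := fun _ : Fin s => PowerSeries k) hi X
  have hXne : X ≠ 0 := PowerSeries.X_ne_zero
  have hξinj : Function.Injective (fun f : (Fin s → PowerSeries k) => ξ * f) := by
    intro f g h
    funext i
    have h' := congrFun h i
    simp only [Pi.mul_apply] at h'
    rcases eq_or_ne i j with rfl | hi
    · rw [hξj] at h'
      exact mul_left_cancel₀ hXne h'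
    · rwa [hξi i hi, one_mul, one_mul] at h'
  have hord : ∀ (n : ℕ) (φ : PowerSeries k), (n : ℕ∞) ≤ φ.order ↔ X ^ n ∣ φ := fun n φ =>
    ⟨fun h => PowerSeries.X_pow_dvd_iff.2 fun m hm =>
        PowerSeries.coeff_of_lt_order m (lt_of_lt_of_le (by exact_mod_cast hm) h),
      fun h => PowerSeries.nat_le_order φ n (PowerSeries.X_pow_dvd_iff.1 h)⟩
  -- elements supported on the `j`-th branch beyond the conductor
  have hsupp : ∀ u : (Fin s → PowerSeries k), (∀ i, i ≠ j → u i = 0) → X ^ c j ∣ u j → u ∈ R := by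
    intro u hu huj
    have h := (hc u).2 (fun i => ?_) 1
    · rwa [one_mul] at h
    rcases eq_or_ne i j with rfl | hi
    · exact (hord _ _).2 huj
    · rw [hu i hi, PowerSeries.order_zero]; exact le_top
  let L : (Fin s → PowerSeries k) →ₗ[k] (Fin s → PowerSeries k) := LinearMap.mulLeft k ξ
  let κ : (Fin s → PowerSeries k) →ₗ[k] k := (PowerSeries.coeff 0).comp (LinearMap.proj j)
  have hκ : LinearMap.ker κ = LinearMap.range L := by
    ext f
    simp only [κ, LinearMap.mem_ker, LinearMap.comp_apply, LinearMap.proj_apply,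
      PowerSeries.coeff_zero_eq_constantCoeff, LinearMap.mem_range, L, LinearMap.mulLeft_apply]
    refine ⟨fun h => ?_, fun ⟨g, hg⟩ => by simp [← hg, hξj, X]⟩
    obtain ⟨g, hg⟩ := PowerSeries.X_dvd_iff.2 h
    refine ⟨Function.update f j g, funext fun i => ?_⟩
    rcases eq_or_ne i j with rfl | hi
    · simp [hξj, X, hg]
    · simp [hξi i hi, hi]
  have hκs : Function.Surjective κ := fun a => ⟨fun _ => PowerSeries.C a, by simp [κ]⟩
  let eκ : ((Fin s → PowerSeries k) ⧸ LinearMap.range L) ≃ₗ[k] k :=
    (Submodule.quotEquivOfEq _ _ hκ.symm).trans (κ.quotKerEquivOfSurjective hκs)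
  haveI hLfin : Module.Finite k ((Fin s → PowerSeries k) ⧸ LinearMap.range L) := Module.Finite.equiv eκ.symm
  have hLrank : Module.finrank k ((Fin s → PowerSeries k) ⧸ LinearMap.range L) = 1 := by rw [eκ.finrank_eq, Module.finrank_self]
  let ev : ∀ i : Fin s, ↥R →ₐ[k] PowerSeries k := fun i =>
    (Pi.evalAlgHom k (fun _ : Fin s => PowerSeries k) i).comp R.val
  have hevd : ∀ i (f : ↥R), ev i f = (f : (Fin s → PowerSeries k)) i := fun _ _ => rfl
  have hdiv : ∀ (I : Ideal ↥R) (i : Fin s) (m : ℕ), Ideal.map (ev i) I = Ideal.span {X ^ m} →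
      ∀ f ∈ I, X ^ m ∣ (f : (Fin s → PowerSeries k)) i := fun I i m hI f hf =>
    Ideal.mem_span_singleton.1 (hI ▸ Ideal.mem_map_of_mem (ev i) hf)
  -- the colength of the image
  let Rl : ↥R →ₗ[k] (Fin s → PowerSeries k) := R.val.toLinearMap
  have hRrange : LinearMap.range Rl = R₀ := by
    ext f; simp [Rl, R₀]
  haveI hRfin : Module.Finite k ((Fin s → PowerSeries k) ⧸ LinearMap.range Rl) := hRrange.symm ▸ hfin
  have hrank : ∀ I J : Ideal ↥R,
      Subtype.val '' (J : Set ↥R) = (fun f : (Fin s → PowerSeries k) => ξ * f) '' (Subtype.val '' (I : Set ↥R)) →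
      (Module.Finite k (↥R ⧸ J) ↔ Module.Finite k (↥R ⧸ I)) ∧
        (Module.Finite k (↥R ⧸ I) → Module.finrank k (↥R ⧸ J) = Module.finrank k (↥R ⧸ I) + 1) := by
    intro I J hIJ
    have heq : (J.restrictScalars k).map Rl = ((I.restrictScalars k).map Rl).map L := by
      refine SetLike.coe_injective ?_
      simp only [Submodule.map_coe]
      exact hIJ
    obtain ⟨hJ1, hJ2⟩ := finrank_quotient_map Rl Subtype.val_injective (J.restrictScalars k) hRfin
    obtain ⟨hI1, hI2⟩ := finrank_quotient_map Rl Subtype.val_injective (I.restrictScalars k) hRfin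
    obtain ⟨hL1, hL2⟩ := finrank_quotient_map L hξinj ((I.restrictScalars k).map Rl) hLfin
    have eI : (↥R ⧸ I.restrictScalars k) ≃ₗ[k] (↥R ⧸ I) := Submodule.Quotient.restrictScalarsEquiv k I
    have eJ : (↥R ⧸ J.restrictScalars k) ≃ₗ[k] (↥R ⧸ J) := Submodule.Quotient.restrictScalarsEquiv k J
    rw [heq] at hJ1 hJ2
    refine ⟨⟨fun h => ?_, fun h => ?_⟩, fun h => ?_⟩
    · exact @Module.Finite.equiv _ _ _ _ _ _ _ _ (hI1.1 (hL1.1 (hJ1.2 (Module.Finite.equiv eJ.symm)))) eI
    · exact @Module.Finite.equiv _ _ _ _ _ _ _ _ (hJ1.1 (hL1.2 (hI1.2 (Module.Finite.equiv eI.symm)))) eJ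
    · have hI : Module.Finite k (↥R ⧸ I.restrictScalars k) := Module.Finite.equiv eI.symm
      have hIP := hI1.2 hI
      have hJR : Module.Finite k (↥R ⧸ J.restrictScalars k) := hJ1.1 (hL1.2 hIP)
      have e1 := hJ2 hJR
      rw [hL2 hIP, hI2 hI, hLrank, eJ.finrank_eq, eI.finrank_eq] at e1
      omega
  -- branch lengths
  have hbr : ∀ I J : Ideal ↥R,
      Subtype.val '' (J : Set ↥R) = (fun f : (Fin s → PowerSeries k) => ξ * f) '' (Subtype.val '' (I : Set ↥R)) →
      ∀ i, Ideal.map (ev i) J = Ideal.span {ξ i} * Ideal.map (ev i) I := by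
    intro I J hIJ i
    have e : ⇑(ev i) '' (J : Set ↥R) = (fun φ => ξ i * φ) '' (⇑(ev i) '' (I : Set ↥R)) := by
      have h := congrArg (fun S : Set (Fin s → PowerSeries k) => (fun f : (Fin s → PowerSeries k) => f i) '' S) hIJ
      simp only [Set.image_image] at h ⊢
      exact h
    change Ideal.span (⇑(ev i) '' (J : Set ↥R)) = Ideal.span {ξ i} * Ideal.span (⇑(ev i) '' (I : Set ↥R))
    rw [e, Ideal.span_mul_span', Set.singleton_mul]
  have hup : ∀ i, Ideal.span {ξ i} * Ideal.span {X ^ a i} =
      Ideal.span ({X ^ Function.update a j (a j + 1) i} : Set (PowerSeries k)) := by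
    intro i
    rw [Ideal.span_singleton_mul_span_singleton]
    rcases eq_or_ne i j with rfl | hi
    · rw [hξj, Function.update_self, pow_succ']
    · rw [hξi i hi, one_mul, Function.update_of_ne hi]
  refine ⟨fun I hI => ?_, fun J hJ => ?_⟩
  · obtain ⟨hIf, hId, hIa⟩ := hI
    have hmem : ∀ f ∈ I, ξ * (f : (Fin s → PowerSeries k)) ∈ R := by
      intro f hf
      have hu : ξ * (f : (Fin s → PowerSeries k)) - (f : (Fin s → PowerSeries k)) ∈ R := hsupp _ (fun i hi => by simp [hξi i hi]) (by
        simp only [Pi.sub_apply, Pi.mul_apply]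
        exact dvd_sub (((pow_dvd_pow X hj).trans (hdiv I j _ (hIa j) f hf)).mul_left _)
          ((pow_dvd_pow X hj).trans (hdiv I j _ (hIa j) f hf)))
      have := R.add_mem hu f.2
      rwa [sub_add_cancel] at this
    let J : Ideal ↥R :=
      { carrier := {g | ∃ f ∈ I, (g : (Fin s → PowerSeries k)) = ξ * (f : (Fin s → PowerSeries k))}
        zero_mem' := ⟨0, I.zero_mem, by simp⟩
        add_mem' := fun ⟨f, hf, e⟩ ⟨f', hf', e'⟩ => ⟨f + f', I.add_mem hf hf', by simp [e, e', mul_add]⟩
        smul_mem' := fun r g ⟨f, hf, e⟩ => ⟨r * f, I.mul_mem_left r hf, by simp [e, mul_left_comm]⟩ }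
    have hIJ : Subtype.val '' (J : Set ↥R) = (fun f : (Fin s → PowerSeries k) => ξ * f) '' (Subtype.val '' (I : Set ↥R)) := by
      ext g
      constructor
      · rintro ⟨g, ⟨f, hf, e⟩, rfl⟩
        exact ⟨f, ⟨f, hf, rfl⟩, e.symm⟩
      · rintro ⟨_, ⟨f, hf, rfl⟩, rfl⟩
        exact ⟨⟨_, hmem f hf⟩, ⟨f, hf, rfl⟩, rfl⟩
    obtain ⟨h1, h2⟩ := hrank I J hIJ
    refine ⟨J, ⟨h1.2 hIf, by rw [h2 hIf, hId], fun i => ?_⟩, hIJ⟩
    change Ideal.map (ev i) J = _
    rw [hbr I J hIJ i, show Ideal.map (ev i) I = Ideal.span {X ^ a i} from hIa i, hup]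
  · obtain ⟨hJf, hJd, hJa⟩ := hJ
    let I : Ideal ↥R :=
      { carrier := {f | ∃ g ∈ J, (g : (Fin s → PowerSeries k)) = ξ * (f : (Fin s → PowerSeries k))}
        zero_mem' := ⟨0, J.zero_mem, by simp⟩
        add_mem' := fun ⟨g, hg, e⟩ ⟨g', hg', e'⟩ => ⟨g + g', J.add_mem hg hg', by simp [e, e', mul_add]⟩
        smul_mem' := fun r f ⟨g, hg, e⟩ => ⟨r * g, J.mul_mem_left r hg, by simp [e, mul_left_comm]⟩ }
    have hIJ : Subtype.val '' (J : Set ↥R) = (fun f : (Fin s → PowerSeries k) => ξ * f) '' (Subtype.val '' (I : Set ↥R)) := by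
      ext g
      constructor
      · rintro ⟨g, hg, rfl⟩
        have hgj : X ^ (a j + 1) ∣ (g : (Fin s → PowerSeries k)) j := by
          have h := hdiv J j _ (hJa j) g hg
          rwa [Function.update_self] at h
        obtain ⟨z, hz⟩ := hgj
        let f : (Fin s → PowerSeries k) := Function.update (g : (Fin s → PowerSeries k)) j (X ^ a j * z)
        have hf : f ∈ R := by
          have hu : f - (g : (Fin s → PowerSeries k)) ∈ R := hsupp _ (fun i hi => by simp [f, hi]) (by
            simp only [Pi.sub_apply, f, Function.update_self, hz]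
            exact dvd_sub ((pow_dvd_pow X hj).trans (dvd_mul_right _ _))
              ((pow_dvd_pow X (hj.trans (Nat.le_succ _))).trans (dvd_mul_right _ _)))
          have := R.add_mem hu g.2
          rwa [sub_add_cancel] at this
        have e : (g : (Fin s → PowerSeries k)) = ξ * f := funext fun i => by
          rcases eq_or_ne i j with rfl | hi
          · simp only [f, Pi.mul_apply, Function.update_self, hξj, hz]; ring
          · simp [f, hξi i hi, hi]
        exact ⟨f, ⟨⟨f, hf⟩, ⟨g, hg, e⟩, rfl⟩, e.symm⟩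
      · rintro ⟨_, ⟨f, ⟨g, hg, e⟩, rfl⟩, rfl⟩
        exact ⟨g, hg, e⟩
    obtain ⟨h1, h2⟩ := hrank I J hIJ
    have hIf := h1.1 hJf
    refine ⟨I, ⟨hIf, ?_, fun i => ?_⟩, hIJ⟩
    · have := h2 hIf; omega
    · have h := hbr I J hIJ i
      rw [show Ideal.map (ev i) J = Ideal.span {X ^ Function.update a j (a j + 1) i} from hJa i, ← hup] at h
      refine ((Ideal.span_singleton_mul_right_inj ?_).1 h).symm
      rcases eq_or_ne i j with rfl | hi
      · rw [hξj]; exact hXne
      · rw [hξi i hi]; exact one_ne_zero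

end Groth.Agent.S15149
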