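import Groth.Statements.S15150
import Mathlib


-- import your own Groth.Agent.* helpers here

set_option autoImplicit false
universe u
open HilbZeta

namespace Groth.Agent.S15150

/-- Let A be a reduced commutative ring, S an A-algebra together with an A-algebra homomorphism π : S →
A (a section of Spec S → Spec A), with kernel m, and I an ideal of S such that S/I is a finite
projective A-module of constant rank d and m is contained in the radical of I (the finite flat
subscheme Spec S/I of degree d lies, as a set, on the section). Then m^d ⊆ I: the subscheme lies in
the (d−1)-st infinitesimal neighbourhood of the section. (The published statement is for a closed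
subscheme, flat and proper of degree d over a Noetherian base, of a family of reduced curve
singularities with a section, with no reducedness assumption on the base; over the dual numbers k[ε]
the ideal (x − ε) of k[ε][x] has quotient free of rank one and radical containing x but does not
contain x, so the base is taken reduced here, and the statement is given in its affine form, to
which the argument reduces at once; the curve hypotheses play no role and are dropped; the condition
that Spec S/I lies set-theoretically on the section, which the published argument deduces from
properness of Z inside the germ, is a hypothesis here.) -/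
theorem result (A : Type u) [CommRing A] [IsReduced A]
    (S : Type u) [CommRing S] [Algebra A S] (π : S →ₐ[A] A) (I : Ideal S) (d : ℕ)
    [Module.Finite A (S ⧸ I)] [Module.Projective A (S ⧸ I)]
    (hrank : ∀ p : PrimeSpectrum A, Module.rankAtStalk (R := A) (S ⧸ I) p = d)
    (hsupp : RingHom.ker π ≤ I.radical) :
    RingHom.ker π ^ d ≤ I := by
  classical
  intro x hx
  rw [← Ideal.Quotient.eq_zero_iff_mem]
  set M := S ⧸ I
  obtain ⟨emb, hemb⟩ := (Module.projective_def' (R := A) (P := M)).1 inferInstance
  have hinj : Function.Injective emb := Function.LeftInverse.injective (g := Finsupp.linearCombination A id) (fun v => LinearMap.congr_fun hemb v)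
  apply hinj
  rw [map_zero]
  ext v
  refine IsNilpotent.eq_zero (nilpotent_iff_mem_prime.2 fun p hp => ?_)
  haveI := hp
  let K := p.ResidueField
  let B := TensorProduct A K M
  haveI : Module.Finite K B := inferInstance
  let ι : S →ₐ[A] B := (Algebra.TensorProduct.includeRight : M →ₐ[A] B).comp (Ideal.Quotient.mkₐ A I)
  let J : Ideal B := (RingHom.ker π).map ι
  haveI : IsArtinianRing B := IsArtinianRing.of_finite K B
  have hJnil : J ≤ nilradical B := by
    rw [Ideal.map_le_iff_le_comap]
    intro s hs
    obtain ⟨N, hN⟩ := hsupp hs
    exact ⟨N, by rw [← map_pow]; change Algebra.TensorProduct.includeRight (Ideal.Quotient.mk I (s ^ N)) = 0; rw [Ideal.Quotient.eq_zero_iff_mem.2 hN, map_zero]⟩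
  obtain ⟨N, hN⟩ := IsArtinianRing.isNilpotent_nilradical (R := B)
  have hd : Module.finrank K B = d := by
    rw [← hrank ⟨p, hp⟩, Module.rankAtStalk_eq]
  have hstep : ∀ i, Module.finrank K ((J ^ i).restrictScalars K) ≤ d - i := by
    intro i
    induction i with
    | zero => simpa using (Submodule.finrank_le _).trans hd.le
    | succ i ih =>
      by_cases he : J ^ (i + 1) = J ^ i
      · have hall : ∀ l : ℕ, J ^ (i + l) = J ^ i := fun l => by
          induction l with
          | zero => rfl
          | succ l ihl =>
            rw [← add_assoc]
            exact (pow_succ J (i + l)).trans ((congrArg (· * J) ihl).trans ((pow_succ J i).symm.trans he))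
        have h0 : J ^ i = ⊥ := by
          rw [eq_bot_iff, ← hall N]
          exact (Ideal.pow_le_pow_right (Nat.le_add_left N i)).trans ((Ideal.pow_right_mono hJnil N).trans hN.le)
        rw [he, h0, Submodule.restrictScalars_bot, finrank_bot]
        exact Nat.zero_le _
      · have hlt : (J ^ (i + 1)).restrictScalars K < (J ^ i).restrictScalars K :=
          lt_of_le_of_ne (Ideal.pow_le_pow_right (Nat.le_succ i)) fun h => he (Submodule.restrictScalars_injective K _ _ h)
        have := Submodule.finrank_lt_finrank_of_lt hlt
        omega
  have hJd : (J ^ d).restrictScalars K = ⊥ := Submodule.finrank_eq_zero.1 (by have := hstep d; omega)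
  have hx0 : ι x = 0 := by
    have h1 : ι x ∈ J ^ d := by rw [← Ideal.map_pow]; exact Ideal.mem_map_of_mem ι hx
    have h2 : ι x ∈ (J ^ d).restrictScalars K := h1
    rw [hJd] at h2
    exact h2
  let φ : M →ₗ[A] A := Finsupp.lapply v ∘ₗ emb
  have h3 := congrArg (fun z => TensorProduct.rid A K (φ.lTensor K z)) hx0
  simp only [map_zero] at h3
  rw [← Ideal.algebraMap_residueField_eq_zero (I := p)]
  refine Eq.trans ?_ h3
  change _ = TensorProduct.rid A K (φ.lTensor K ((1 : K) ⊗ₜ[A] Ideal.Quotient.mk I x))
  rw [LinearMap.lTensor_tmul, TensorProduct.rid_tmul, Algebra.smul_def, mul_one]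
  rfl

end Groth.Agent.S15150
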