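import Groth.Statements.S15151
import Mathlib
-- helpers

set_option autoImplicit false
universe u
open CategoryTheory AlgebraicGeometry
open HilbZeta

namespace Groth.Agent.S15151

/-- Let k be a field, and let f : X → Y and g : Y → Spec k[t] be morphisms of schemes with f
quasi-compact and with zero kernel ideal sheaf (Y is the scheme-theoretic image of f), such that the
composite X → Spec k[t] is flat. Then g is flat; in particular a k[t]-subalgebra of a flat
k[t]-algebra is flat. (The published statement has no quasi-compactness hypothesis on f and is over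
an algebraically closed field; this row assumes f quasi-compact and allows any field.) -/
theorem result (k : Type u) [Field k]
    (X Y : Scheme.{u}) (f : X ⟶ Y) (g : Y ⟶ Spec (CommRingCat.of (Polynomial k)))
    [QuasiCompact f] (hker : f.ker = ⊥) [Flat (f ≫ g)] : Flat g := by
  rw [HasRingHomProperty.iff_of_iSup_eq_top (P := @Flat) (fun W : Y.affineOpens => W) (iSup_affineOpens_eq_top Y)]
  intro V
  let φ : (Polynomial k) →+* Γ(Y, V.1) := ((Scheme.ΓSpecIso (CommRingCat.of (Polynomial k))).inv ≫ g.appLE ⊤ V.1 (by simp)).hom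
  suffices h : φ.Flat by
    have e : (g.appLE ⊤ V.1 (by simp)).hom = φ.comp (Scheme.ΓSpecIso (CommRingCat.of (Polynomial k))).hom.hom := by
      rw [← CommRingCat.hom_comp, Iso.hom_inv_id_assoc]
    rw [e]
    exact (RingHom.Flat.of_bijective
      (ConcreteCategory.bijective_of_isIso (Scheme.ΓSpecIso (CommRingCat.of (Polynomial k))).hom)).comp h
  letI := φ.toAlgebra
  rw [RingHom.Flat]
  rw [IsDedekindDomain.flat_iff_torsion_eq_bot, Submodule.eq_bot_iff]
  rintro r ⟨⟨q, hq⟩, hqr⟩
  have hqr' : φ q * r = 0 := hqr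
  have hinj : Function.Injective (f.app V.1).hom := by
    rw [RingHom.injective_iff_ker_eq_bot, ← Scheme.Hom.ker_apply, hker]
    rfl
  apply hinj
  rw [map_zero]
  apply TopCat.Presheaf.section_ext X.sheaf (f ⁻¹ᵁ V.1) _ _
  intro x hx
  obtain ⟨W, hW, hxW, hWV⟩ := exists_isAffineOpen_mem_and_subset (U := f ⁻¹ᵁ V.1) (x := x) hx
  let ψ : (Polynomial k) →+* Γ(X, W) :=
    ((Scheme.ΓSpecIso (CommRingCat.of (Polynomial k))).inv ≫ (f ≫ g).appLE ⊤ W (by simp)).hom
  have hflat : ψ.Flat := by
    have h1 := HasRingHomProperty.appLE (P := @Flat) (f ≫ g) ‹_› ⟨⊤, isAffineOpen_top _⟩ ⟨W, hW⟩ (by simp)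
    exact RingHom.Flat.comp (RingHom.Flat.of_bijective
      (ConcreteCategory.bijective_of_isIso (Scheme.ΓSpecIso (CommRingCat.of (Polynomial k))).inv)) h1
  letI := ψ.toAlgebra
  haveI : Module.Flat (Polynomial k) Γ(X, W) := hflat
  have e2 : ψ = (f.appLE V.1 W hWV).hom.comp φ := by
    show _ = (((Scheme.ΓSpecIso (CommRingCat.of (Polynomial k))).inv ≫ g.appLE ⊤ V.1 (by simp)) ≫ f.appLE V.1 W hWV).hom
    rw [Category.assoc, Scheme.Hom.appLE_comp_appLE]
  have hz : ψ q * f.appLE V.1 W hWV r = 0 := by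
    rw [e2, RingHom.comp_apply, ← map_mul, hqr', map_zero]
  have hr : f.appLE V.1 W hWV r = 0 :=
    (Module.Flat.isSMulRegular_of_nonZeroDivisors hq) (show q • f.appLE V.1 W hWV r = q • 0 by
      rw [smul_zero]; exact hz)
  show X.presheaf.germ (f ⁻¹ᵁ V.1) x hx (f.app V.1 r) = X.presheaf.germ (f ⁻¹ᵁ V.1) x hx 0
  rw [← X.presheaf.germ_res_apply (homOfLE hWV) x hxW, map_zero]
  show X.presheaf.germ W x hxW (f.appLE V.1 W hWV r) = 0
  rw [hr, map_zero]

end Groth.Agent.S15151
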