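import Groth.Statements.S15152
import Mathlib
-- import your own Groth.Agent.* helpers here

set_option autoImplicit false
set_option maxHeartbeats 2000000
set_option backward.isDefEq.respectTransparency false
universe u
open HilbZeta

namespace Groth.Agent.S15152

/-- Let k be a field, s a natural number and R a k-subalgebra of the product of s copies of the power
series ring k[[x]], of finite codimension δ over k and local with residue field k (all components of
an element of R have the same constant term); write v_i for the x-adic order of the i-th component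
of an s-tuple, and let c = (c_1, …, c_s) be the conductor exponents, so that an s-tuple f satisfies
f·g ∈ R for every s-tuple g exactly when v_i(f) ≥ c_i for all i (over an algebraically closed field
such an R is precisely the completed local ring of a reduced curve singularity having s branches
sitting inside its normalisation, δ is its delta invariant and the conductor ideal is generated by
the x_i^{c_i}). Let A be the k-subalgebra of the product of s polynomial rings k[x] consisting of
the tuples whose image in the power series product lies in R, and m₀ its ideal of tuples with zero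
constant terms. Then: A is of finite type over k and has no idempotents besides 0 and 1; the product
of polynomial rings is a finite A-module, and for some N every product of N elements of m₀
multiplies all of it into A; every element of R is approximated to any x-adic order by elements of
A; and for every N there is an M such that every element of A whose components are all divisible by
x^M lies in m₀^N. In words: Y = Spec A is a connected affine curve whose normalisation is the
disjoint union of s affine lines and is an isomorphism away from the origin, and the completed local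
ring of Y at the origin is R, compatibly with the inclusion of the polynomial product in the power
series product. (The published statement asserts the existence of such a curve Y and is over an
algebraically closed field; this row names Y and allows any field.) -/
theorem result (k : Type u) [Field k] (s : ℕ)
    (R : Subalgebra k (Fin s → PowerSeries k))
    (hfin : Module.Finite k ((Fin s → PowerSeries k) ⧸ Subalgebra.toSubmodule R))
    (hloc : ∀ f ∈ R, ∀ i j : Fin s, PowerSeries.constantCoeff (f i) = PowerSeries.constantCoeff (f j))
    (c : Fin s → ℕ)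
    (hc : ∀ f : Fin s → PowerSeries k,
      (∀ g : Fin s → PowerSeries k, g * f ∈ R) ↔ ∀ i, ((c i : ℕ) : ℕ∞) ≤ (f i).order)
    (A : Subalgebra k (Fin s → Polynomial k))
    (hA : ∀ g : Fin s → Polynomial k, g ∈ A ↔ (fun i => ((g i : Polynomial k) : PowerSeries k)) ∈ R) :
    Algebra.FiniteType k ↥A ∧
    (∀ e ∈ A, e * e = e → e = 0 ∨ e = 1) ∧
    Module.Finite ↥A (Fin s → Polynomial k) ∧
    (∃ N : ℕ, ∀ g : Fin N → (Fin s → Polynomial k),
      (∀ n, g n ∈ A ∧ ∀ i, (g n i).coeff 0 = 0) → ∀ p : Fin s → Polynomial k, p * ∏ n, g n ∈ A) ∧
    (∀ f ∈ R, ∀ N : ℕ, ∃ g ∈ A, ∀ i : Fin s, (N : ℕ∞) ≤ (f i - ((g i : Polynomial k) : PowerSeries k)).order) ∧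
    (∀ N : ℕ, ∃ M : ℕ, ∀ g : ↥A, (∀ i : Fin s, Polynomial.X ^ M ∣ (g : Fin s → Polynomial k) i) →
      g ∈ (Ideal.span {h : ↥A | ∀ i : Fin s, ((h : Fin s → Polynomial k) i).coeff 0 = 0}) ^ N) := by
  classical
  obtain ⟨C, hC, hCpos⟩ : ∃ C : ℕ, (∀ i, c i < C) ∧ 0 < C := ⟨Finset.univ.sup c + 1, fun i =>
    Nat.lt_succ_of_le (Finset.le_sup (Finset.mem_univ i)), Nat.succ_pos _⟩
  have hord : ∀ (q : Polynomial k) (n : ℕ),
      Polynomial.X ^ n ∣ q → (n : ℕ∞) ≤ (q : PowerSeries k).order := by
    intro q n hq
    refine PowerSeries.nat_le_order _ _ fun j hj => ?_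
    rw [Polynomial.coeff_coe]
    exact Polynomial.X_pow_dvd_iff.1 hq j hj
  have hdeep : ∀ q : Fin s → Polynomial k, (∀ i, Polynomial.X ^ C ∣ q i) → q ∈ A := by
    intro q hq
    rw [hA]
    have := (hc (fun i => (q i : PowerSeries k))).2 (fun i =>
      le_trans (by exact_mod_cast (hC i).le) (hord _ _ (hq i))) 1
    rwa [one_mul] at this
  let y : Fin s → Polynomial k := fun _ => Polynomial.X ^ C
  have hy : y ∈ A := hdeep y fun _ => dvd_rfl
  have hsingle : ∀ i j, C ≤ j → Pi.single i (Polynomial.X ^ j : Polynomial k) ∈ A := fun i j hj =>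
    hdeep _ fun l => by
      by_cases hl : l = i
      · subst hl; rw [Pi.single_eq_same]; exact pow_dvd_pow _ hj
      · rw [Pi.single_eq_of_ne hl]; exact dvd_zero _
  have hsplit : ∀ (i : Fin s) (j : ℕ), C ≤ j → (Pi.single i (Polynomial.X ^ j) : Fin s → Polynomial k) =
      y * Pi.single i (Polynomial.X ^ (j - C)) := by
    intro i j hj
    funext l
    by_cases hl : l = i
    · subst hl; simp [y, ← pow_add, Nat.add_sub_cancel' hj]
    · simp [y, Pi.single_eq_of_ne hl]
  have hdec : ∀ q : Fin s → Polynomial k, q = ∑ i, ∑ j ∈ Finset.range ((q i).natDegree + 1),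
      (q i).coeff j • Pi.single i (Polynomial.X ^ j : Polynomial k) := by
    intro q
    funext l
    rw [Finset.sum_apply, Finset.sum_eq_single l]
    · rw [Finset.sum_apply]
      conv_lhs => rw [(q l).as_sum_range_C_mul_X_pow]
      refine Finset.sum_congr rfl fun j _ => ?_
      simp [Polynomial.smul_eq_C_mul]
    · intro i _ hi
      rw [Finset.sum_apply]
      refine Finset.sum_eq_zero fun j _ => ?_
      simp [Pi.single_eq_of_ne (Ne.symm hi)]
    · exact fun h => absurd (Finset.mem_univ l) h
  refine ⟨?_, ?_, ?_, ?_, ?_, ?_⟩
  · let T : ↥A →ₗ[k] (Fin s → Fin C → k) :=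
      { toFun := fun g i j => ((g : Fin s → Polynomial k) i).coeff j
        map_add' := fun g g' => by funext i j; simp
        map_smul' := fun t g => by funext i j; simp }
    obtain ⟨W, hW⟩ := (IsNoetherian.noetherian (LinearMap.range T) : (LinearMap.range T).FG)
    choose σ hσ using fun w : (W : Set (Fin s → Fin C → k)) =>
      (show (w : Fin s → Fin C → k) ∈ LinearMap.range T from hW ▸ Submodule.subset_span w.2)
    let G : Finset (Fin s → Polynomial k) := Finset.univ.image (fun w => (σ w : Fin s → Polynomial k)) ∪
      (insert y ((Finset.univ : Finset (Fin s × Fin C)).image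
        fun ij => Pi.single ij.1 (Polynomial.X ^ (C + ij.2 : ℕ))))
    refine (Subalgebra.fg_iff_finiteType A).1 ⟨G, le_antisymm (Algebra.adjoin_le ?_) ?_⟩
    · intro q hq
      simp only [G, Finset.coe_union, Finset.coe_insert, Finset.coe_image, Set.mem_union, Set.mem_insert_iff,
        Set.mem_image] at hq
      rcases hq with ⟨w, _, rfl⟩ | rfl | ⟨ij, _, rfl⟩
      · exact (σ w).2
      · exact hy
      · exact hsingle _ _ (Nat.le_add_right _ _)
    have hG : ∀ i j, C ≤ j → (Pi.single i (Polynomial.X ^ j) : Fin s → Polynomial k) ∈
        Algebra.adjoin k (G : Set (Fin s → Polynomial k)) := by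
      intro i j
      induction j using Nat.strong_induction_on with
      | _ j ih =>
        intro hj
        rcases Nat.lt_or_ge j (C + C) with h | h
        · refine Algebra.subset_adjoin ?_
          refine Finset.mem_coe.2 (Finset.mem_union_right _ (Finset.mem_insert_of_mem
            (Finset.mem_image.2 ⟨(i, ⟨j - C, by omega⟩), Finset.mem_univ _, ?_⟩)))
          simp [Nat.add_sub_cancel' hj]
        · rw [hsplit i j hj]
          exact mul_mem (Algebra.subset_adjoin (Finset.mem_coe.2 (Finset.mem_union_right _
            (Finset.mem_insert_self _ _)))) (ih _ (by omega) (by omega))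
    intro g hg
    have hTg : T ⟨g, hg⟩ ∈ Submodule.span k (W : Set (Fin s → Fin C → k)) := hW ▸ ⟨_, rfl⟩
    rw [Submodule.mem_span_finset'] at hTg
    obtain ⟨t, ht⟩ := hTg
    set g' : Fin s → Polynomial k := g - ∑ w : (W : Set (Fin s → Fin C → k)), t w • (σ w : Fin s → Polynomial k) with hg'
    have hlow : ∀ i, ∀ j < C, (g' i).coeff j = 0 := by
      intro i j hj
      have h1 := congrFun (congrFun ht i) ⟨j, hj⟩
      simp only [hg', Pi.sub_apply, Finset.sum_apply, Pi.smul_apply, Polynomial.coeff_sub,
        Polynomial.finsetSum_coeff, Polynomial.coeff_smul]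
      rw [sub_eq_zero]
      refine h1.symm.trans ?_
      simp only [Finset.sum_apply, Pi.smul_apply]
      refine Finset.sum_congr rfl fun w _ => ?_
      exact congrArg (t w • ·) (congrFun (congrFun (hσ w) i) ⟨j, hj⟩).symm
    rw [show g = g' + ∑ w : (W : Set (Fin s → Fin C → k)), t w • (σ w : Fin s → Polynomial k) by
      rw [hg']; abel]
    refine add_mem ?_ (sum_mem fun w _ => Subalgebra.smul_mem _ (Algebra.subset_adjoin
      (Finset.mem_coe.2 (Finset.mem_union_left _ (Finset.mem_image_of_mem _ (Finset.mem_univ _))))) _)
    rw [hdec g']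
    refine sum_mem fun i _ => sum_mem fun j _ => ?_
    rcases Nat.lt_or_ge j C with h | h
    · rw [hlow i j h, zero_smul]; exact zero_mem _
    · exact Subalgebra.smul_mem _ (hG i j h) _
  · intro e he hee
    have hi : ∀ i, e i = 0 ∨ e i = 1 := fun i => by
      have := congrFun hee i
      simp only [Pi.mul_apply] at this
      exact IsIdempotentElem.iff_eq_zero_or_one.1 this
    by_cases h : ∃ i, e i = 1
    · obtain ⟨i, h⟩ := h
      refine Or.inr (funext fun j => ?_)
      have := hloc _ ((hA e).1 he) i j
      rcases hi j with hj | hj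
      · simp [h, hj] at this
      · exact hj
    · exact Or.inl (funext fun i => (hi i).resolve_right fun h' => h ⟨i, h'⟩)
  · refine ⟨⟨(Finset.univ : Finset (Fin s × Fin C)).image
      fun ij => (Pi.single ij.1 (Polynomial.X ^ (ij.2 : ℕ)) : Fin s → Polynomial k), ?_⟩⟩
    set M := Submodule.span ↥A ((((Finset.univ : Finset (Fin s × Fin C)).image
      fun ij => (Pi.single ij.1 (Polynomial.X ^ (ij.2 : ℕ)) : Fin s → Polynomial k))) : Set (Fin s → Polynomial k))
    have hM : ∀ i j, (Pi.single i (Polynomial.X ^ j) : Fin s → Polynomial k) ∈ M := by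
      intro i j
      induction j using Nat.strong_induction_on with
      | _ j ih =>
        rcases Nat.lt_or_ge j C with h | h
        · exact Submodule.subset_span (Finset.mem_coe.2 (Finset.mem_image.2
            ⟨(i, ⟨j, h⟩), Finset.mem_univ _, rfl⟩))
        · rw [hsplit i j h]
          exact M.smul_mem (⟨y, hy⟩ : ↥A) (ih _ (by omega))
    rw [eq_top_iff]
    rintro q -
    rw [hdec q]
    refine sum_mem fun i _ => sum_mem fun j _ => ?_
    rw [← IsScalarTower.algebraMap_smul ↥A ((q i).coeff j)]
    exact M.smul_mem _ (hM i j)
  · refine ⟨C, fun g hg p => hdeep _ fun i => ?_⟩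
    rw [Pi.mul_apply, Finset.prod_apply]
    refine Dvd.dvd.mul_left ?_ _
    have := Finset.prod_dvd_prod_of_dvd (fun _ : Fin C => (Polynomial.X : Polynomial k))
      (fun n => g n i) (s := Finset.univ) fun n _ => Polynomial.X_dvd_iff.2 ((hg n).2 i)
    simpa using this
  · intro f hf N
    let g : Fin s → Polynomial k := fun i => PowerSeries.trunc (max N C) (f i)
    have hfg : ∀ i, ((max N C : ℕ) : ℕ∞) ≤ (f i - (g i : PowerSeries k)).order := fun i =>
      PowerSeries.nat_le_order _ _ fun j hj => by
        rw [map_sub, Polynomial.coeff_coe, PowerSeries.coeff_trunc, if_pos hj, sub_self]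
    refine ⟨g, (hA g).2 ?_, fun i => le_trans (by exact_mod_cast le_max_left N C) (hfg i)⟩
    have := (hc (f - fun i => (g i : PowerSeries k))).2 (fun i =>
      le_trans (by exact_mod_cast (hC i).le.trans (le_max_right N C)) (hfg i)) 1
    rw [one_mul] at this
    simpa using R.sub_mem hf this
  · intro N
    refine ⟨(N + 1) * C, fun g hg => ?_⟩
    set I := Ideal.span {h : ↥A | ∀ i : Fin s, ((h : Fin s → Polynomial k) i).coeff 0 = 0}
    choose q hq using hg
    have hq' : (fun i => Polynomial.X ^ C * q i) ∈ A := hdeep _ fun i => dvd_mul_right _ _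
    have hyI : (⟨y, hy⟩ : ↥A) ∈ I := Ideal.subset_span fun i => by
      have : C ≠ 0 := fun h => Nat.not_lt_zero _ (h ▸ hC i)
      simp [y, Polynomial.coeff_X_pow, Ne.symm this]
    have e : g = (⟨_, hq'⟩ : ↥A) * (⟨y, hy⟩ : ↥A) ^ N := by
      refine Subtype.ext (funext fun i => ?_)
      rw [hq i]
      simp [y]
      ring
    rw [e]
    exact Ideal.mul_mem_left _ _ (Ideal.pow_mem_pow hyI N)

end Groth.Agent.S15152
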