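import Mathlib.Topology.Constructible
import Mathlib.Topology.NoetherianSpace
import Mathlib.RingTheory.Spectrum.Prime.Noetherian
import Mathlib.RingTheory.LocalRing.ResidueField.Ideal
import Mathlib.RingTheory.Flat.Basic
import Mathlib.RingTheory.Finiteness.Projective
import Mathlib.RingTheory.Flat.EquationalCriterion
import Mathlib.Algebra.Module.FinitePresentation
import Mathlib.LinearAlgebra.TensorProduct.Pi
import Mathlib.LinearAlgebra.Matrix.Nondegenerate
import Mathlib.LinearAlgebra.Matrix.ToLin
import Mathlib.Algebra.Module.LocalizedModule.Basic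
import Mathlib.Tactic

/-! The dimension of the span of finitely many fibre vectors is lower semicontinuous. -/

namespace Groth.Agent.SpanRankLib
open TensorProduct Module

universe u

variable {A : Type u} [CommRing A]

/-- image of a vector in a fibre -/
noncomputable def img (p : PrimeSpectrum A) {m : Type*} (v : m → A) : m → p.asIdeal.ResidueField :=
  fun j => algebraMap A p.asIdeal.ResidueField (v j)

theorem residue_eq_zero_iff (p : PrimeSpectrum A) (a : A) :
    algebraMap A p.asIdeal.ResidueField a = 0 ↔ a ∈ p.asIdeal := Ideal.algebraMap_residueField_eq_zero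

theorem li_open {m : Type*} [Fintype m] {n : ℕ} (v : Fin n → (m → A)) :
    IsOpen {p : PrimeSpectrum A | LinearIndependent p.asIdeal.ResidueField fun i => img p (v i)} := by
  classical
  rw [isOpen_iff_forall_mem_open]
  intro p hp
  set κ := p.asIdeal.ResidueField
  have hker : LinearMap.ker (Fintype.linearCombination κ fun i => img p (v i)) = ⊥ :=
    Fintype.linearIndependent_iff.1 hp |> fun h => LinearMap.ker_eq_bot'.2 fun c hc => funext (h c hc)
  obtain ⟨L, hL⟩ := LinearMap.exists_leftInverse_of_injective _ hker
  have hfrac : ∀ x : κ, ∃ a s : A, s ∉ p.asIdeal ∧ algebraMap A κ s * x = algebraMap A κ a := by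
    intro x
    obtain ⟨y, rfl⟩ := IsLocalRing.residue_surjective x
    obtain ⟨a, s, rfl⟩ := IsLocalization.exists_mk'_eq p.asIdeal.primeCompl y
    refine ⟨a, s, s.2, ?_⟩
    show IsLocalRing.residue _ (algebraMap A _ (s : A)) * IsLocalRing.residue _ _ = IsLocalRing.residue _ (algebraMap A _ a)
    rw [← map_mul, IsLocalization.mk'_spec'_mk]
  choose a s hs hsa using hfrac
  let c : A := ∏ ij : Fin n × m, s (L (Pi.single ij.2 1) ij.1)
  have hc : c ∉ p.asIdeal := by
    intro h
    obtain ⟨ij, -, hij⟩ := (p.2.prod_mem_iff).1 h
    exact hs _ hij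
  let L' : Fin n → m → A := fun i j => a (L (Pi.single j 1) i) * ∏ ij ∈ Finset.univ.erase (i, j), s (L (Pi.single ij.2 1) ij.1)
  have hL' : ∀ i j, algebraMap A κ (L' i j) = algebraMap A κ c * L (Pi.single j 1) i := by
    intro i j
    show algebraMap A κ (_ * _) = algebraMap A κ (∏ ij : Fin n × m, _) * _
    rw [← Finset.mul_prod_erase Finset.univ _ (Finset.mem_univ (i, j)), map_mul, map_mul, ← hsa]
    ring
  let M : Matrix (Fin n) (Fin n) A := fun i l => ∑ j, L' i j * v l j
  refine ⟨PrimeSpectrum.basicOpen M.det, fun q hq => ?_, (PrimeSpectrum.basicOpen M.det).2, ?_⟩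
  · show LinearIndependent q.asIdeal.ResidueField fun i => img q (v i)
    rw [Fintype.linearIndependent_iff]
    intro g hg
    have hdet : ((algebraMap A q.asIdeal.ResidueField).mapMatrix M).det ≠ 0 := by
      rw [← RingHom.map_det, Ne, residue_eq_zero_iff]
      exact hq
    have hzero : ((algebraMap A q.asIdeal.ResidueField).mapMatrix M).mulVec g = 0 := by
      funext i
      simp only [Matrix.mulVec, dotProduct, RingHom.mapMatrix_apply, Matrix.map_apply, M, map_sum, map_mul, Finset.sum_mul, Pi.zero_apply]
      rw [Finset.sum_comm]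
      refine Finset.sum_eq_zero fun j _ => ?_
      have := congr_fun hg j
      simp only [Finset.sum_apply, Pi.smul_apply, smul_eq_mul, img, Pi.zero_apply] at this
      calc _ = algebraMap A q.asIdeal.ResidueField (L' i j) * ∑ l, g l * algebraMap A q.asIdeal.ResidueField (v l j) := by
            rw [Finset.mul_sum]; exact Finset.sum_congr rfl fun l _ => by ring
        _ = 0 := by rw [this, mul_zero]
    exact congr_fun (Matrix.eq_zero_of_mulVec_eq_zero hdet hzero)
  · show M.det ∉ p.asIdeal
    rw [← residue_eq_zero_iff, RingHom.map_det]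
    have hM : (algebraMap A κ).mapMatrix M = (algebraMap A κ c) • (1 : Matrix (Fin n) (Fin n) κ) := by
      ext i l
      simp only [RingHom.mapMatrix_apply, Matrix.map_apply, M, map_sum, map_mul, hL', mul_assoc, ← Finset.mul_sum,
        Matrix.smul_apply, smul_eq_mul]
      congr 1
      have h1 := congr_fun (LinearMap.congr_fun hL (Pi.single l 1)) i
      rw [LinearMap.comp_apply, Fintype.linearCombination_apply_single, one_smul, LinearMap.id_apply] at h1
      rw [Matrix.one_apply, ← Pi.single_apply, ← h1]
      conv_rhs => rw [pi_eq_sum_univ' (img p (v l))]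
      simp only [map_sum, map_smul, Finset.sum_apply, Pi.smul_apply, smul_eq_mul, img]
      exact Finset.sum_congr rfl fun j _ => mul_comm _ _
    rw [hM, Matrix.det_smul, Matrix.det_one, mul_one]
    exact pow_ne_zero _ fun h => hc ((residue_eq_zero_iff p c).1 h)

theorem rank_ge_open {m : Type*} [Fintype m] {r : ℕ} (w : Fin r → (m → A)) (n : ℕ) :
    IsOpen {p : PrimeSpectrum A | n ≤ finrank p.asIdeal.ResidueField
      (Submodule.span p.asIdeal.ResidueField (Set.range fun i => img p (w i)))} := by
  have h : {p : PrimeSpectrum A | n ≤ finrank p.asIdeal.ResidueField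
      (Submodule.span p.asIdeal.ResidueField (Set.range fun i => img p (w i)))} =
      ⋃ e : Fin n → Fin r, {p : PrimeSpectrum A | LinearIndependent p.asIdeal.ResidueField fun i => img p (w (e i))} := by
    ext p
    simp only [Set.mem_setOf_eq, Set.mem_iUnion]
    constructor
    · intro hn
      obtain ⟨b, hb, hsp, hli⟩ := exists_linearIndependent p.asIdeal.ResidueField (Set.range fun i => img p (w i))
      have : Fintype b := ((Set.finite_range _).subset hb).fintype
      rw [← hsp, finrank_span_set_eq_card hli] at hn
      obtain ⟨f⟩ : Nonempty (Fin n ↪ b) := Function.Embedding.nonempty_of_card_le (by rwa [Fintype.card_fin, ← Set.toFinset_card])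
      choose e he using fun i => hb (f i).2
      refine ⟨e, ?_⟩
      rw [show (fun i => img p (w (e i))) = (fun i => ((f i : b) : m → p.asIdeal.ResidueField)) from funext he]
      exact hli.comp f f.injective
    · rintro ⟨e, he⟩
      calc n = finrank p.asIdeal.ResidueField (Submodule.span p.asIdeal.ResidueField (Set.range fun i => img p (w (e i)))) := by
            rw [finrank_span_eq_card he, Fintype.card_fin]
        _ ≤ _ := Submodule.finrank_mono (Submodule.span_mono (by rintro _ ⟨i, rfl⟩; exact ⟨e i, rfl⟩))
  rw [h]
  exact isOpen_iUnion fun e => li_open fun i => w (e i)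

/-- the colength function of a family of endomorphisms is constructible -/
theorem constructible [IsNoetherianRing A] {S : Type*} (Q : Type u) [AddCommGroup Q] [Module A Q] [Module.Finite A Q]
    [Module.Flat A Q] (f : S → Module.End A Q) (n : ℕ) :
    Topology.IsConstructible {p : PrimeSpectrum A | finrank p.asIdeal.ResidueField
      (Submodule.span p.asIdeal.ResidueField (Set.range fun s : S => LinearMap.baseChange p.asIdeal.ResidueField (f s))) = n} := by
  classical
  haveI : Module.FinitePresentation A Q := Module.finitePresentation_of_finite A Q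
  haveI : Module.Projective A Q := Module.Flat.projective_of_finitePresentation
  obtain ⟨N, π, i, -, -, hπi⟩ := Module.Finite.exists_comp_eq_id_of_projective A Q
  let Mt : S → (Fin N × Fin N → A) := fun s jl => (i ∘ₗ f s ∘ₗ π) (Pi.single jl.2 1) jl.1
  obtain ⟨T, hT, hTspan⟩ := Submodule.fg_span_iff_fg_span_finset_subset (R := A) (Set.range Mt) |>.1 (IsNoetherian.noetherian (Submodule.span A (Set.range Mt)))
  let w : Fin T.card → (Fin N × Fin N → A) := fun t => (T.equivFin.symm t : _)
  have key : ∀ p : PrimeSpectrum A, finrank p.asIdeal.ResidueField (Submodule.span p.asIdeal.ResidueField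
      (Set.range fun s : S => LinearMap.baseChange p.asIdeal.ResidueField (f s))) =
      finrank p.asIdeal.ResidueField (Submodule.span p.asIdeal.ResidueField (Set.range fun t => img p (w t))) := by
    intro p
    set κ := p.asIdeal.ResidueField
    set E := TensorProduct.piScalarRight A κ κ (Fin N)
    let Ψ : Module.End κ (κ ⊗[A] Q) →ₗ[κ] (Fin N × Fin N → κ) :=
      { toFun := fun g jl => E ((i.baseChange κ) (g ((π.baseChange κ) (1 ⊗ₜ Pi.single jl.2 1)))) jl.1
        map_add' := fun g h => by funext jl; simp
        map_smul' := fun c g => by funext jl; simp }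
    have hπs : Function.Surjective (π.baseChange κ) := by
      intro x
      refine ⟨i.baseChange κ x, ?_⟩
      rw [← LinearMap.comp_apply, ← LinearMap.baseChange_comp, hπi, LinearMap.baseChange_id, LinearMap.id_apply]
    have hii : Function.Injective (i.baseChange κ) := Function.LeftInverse.injective (g := π.baseChange κ) fun x => by
      rw [← LinearMap.comp_apply, ← LinearMap.baseChange_comp, hπi, LinearMap.baseChange_id, LinearMap.id_apply]
    have hΨ : Function.Injective Ψ := by
      rw [injective_iff_map_eq_zero]
      intro g hg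
      apply LinearMap.ext
      intro x
      obtain ⟨y, rfl⟩ := hπs x
      have h0 : (g ∘ₗ π.baseChange κ) = 0 := by
        refine ((Pi.basisFun A (Fin N)).baseChange κ).ext fun l => ?_
        rw [Basis.baseChange_apply, Pi.basisFun_apply, LinearMap.zero_apply]
        refine hii (E.injective (funext fun j => ?_))
        rw [map_zero, map_zero]
        exact congr_fun hg (j, l)
      exact LinearMap.congr_fun h0 y
    have himg : ∀ s, Ψ (LinearMap.baseChange κ (f s)) = img p (Mt s) := by
      intro s
      funext jl
      show E ((i.baseChange κ) ((f s).baseChange κ ((π.baseChange κ) (1 ⊗ₜ Pi.single jl.2 1)))) jl.1 = _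
      rw [LinearMap.baseChange_tmul, LinearMap.baseChange_tmul, LinearMap.baseChange_tmul, piScalarRight_apply, piScalarRightHom_tmul]
      show (_ : A) • (1 : κ) = algebraMap A κ _
      rw [← Algebra.algebraMap_eq_smul_one]
      rfl
    rw [(Submodule.equivMapOfInjective Ψ hΨ _).finrank_eq, Submodule.map_span, ← Set.range_comp,
      show (Ψ ∘ fun s : S => LinearMap.baseChange κ (f s)) = fun s => img p (Mt s) from funext himg]
    suffices hsp : Submodule.span κ (Set.range fun s => img p (Mt s)) = Submodule.span κ (Set.range fun t => img p (w t)) by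
      rw [hsp]
    refine le_antisymm (Submodule.span_le.2 ?_) (Submodule.span_mono ?_)
    · rintro _ ⟨s, rfl⟩
      have hmem : Mt s ∈ Submodule.span A (T : Set (Fin N × Fin N → A)) := hTspan ▸ Submodule.subset_span ⟨s, rfl⟩
      let φ : (Fin N × Fin N → A) →ₗ[A] (Fin N × Fin N → κ) := LinearMap.pi fun j => (Algebra.linearMap A κ) ∘ₗ LinearMap.proj j
      have h := Submodule.mem_map_of_mem (f := φ) hmem
      rw [Submodule.map_span] at h
      refine Submodule.span_le_restrictScalars A κ _ (Submodule.span_mono ?_ h)
      rintro _ ⟨x, hx, rfl⟩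
      exact ⟨T.equivFin ⟨x, hx⟩, by show img p ((T.equivFin.symm (T.equivFin ⟨x, hx⟩) : T) : Fin N × Fin N → A) = _; rw [Equiv.symm_apply_apply]; rfl⟩
    · rintro _ ⟨t, rfl⟩
      obtain ⟨s, hs⟩ := hT (T.equivFin.symm t).2
      exact ⟨s, by show img p (Mt s) = img p (w t); rw [hs]⟩
  have heq : {p : PrimeSpectrum A | finrank p.asIdeal.ResidueField
      (Submodule.span p.asIdeal.ResidueField (Set.range fun s : S => LinearMap.baseChange p.asIdeal.ResidueField (f s))) = n} =
      {p | n ≤ finrank p.asIdeal.ResidueField (Submodule.span p.asIdeal.ResidueField (Set.range fun t => img p (w t)))} \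
      {p | n + 1 ≤ finrank p.asIdeal.ResidueField (Submodule.span p.asIdeal.ResidueField (Set.range fun t => img p (w t)))} := by
    ext p
    simp only [Set.mem_setOf_eq, Set.mem_sdiff, key p]
    omega
  rw [heq]
  have hop : ∀ k, Topology.IsConstructible {p : PrimeSpectrum A | k ≤ finrank p.asIdeal.ResidueField
      (Submodule.span p.asIdeal.ResidueField (Set.range fun t => img p (w t)))} := fun k =>
    IsRetrocompact.isConstructible (rank_ge_open w k) (fun _ _ _ => TopologicalSpace.NoetherianSpace.isCompact _)
  exact (hop n).sdiff (hop (n + 1))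

end Groth.Agent.SpanRankLib
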