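import Groth.Statements.S15155
import Groth.Agent.QuadGrpL.Pf
import Mathlib.LinearAlgebra.Matrix.Charpoly.Basic
import Mathlib.Data.Complex.Basic
-- import your own Groth.Agent.* helpers here

set_option autoImplicit false
open CAlg

namespace Groth.Agent.S15155

/-- Let J be the 2m × 2m block matrix with blocks 0, I_m in the first row and −I_m, 0 in the second,
over the complex numbers. On the set of complex 2m × 2m matrices A with ᵗA · J = J · A (equivalently
ᵗA = J A J⁻¹, J being invertible), the characteristic polynomial is the square of a single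
polynomial in the entries of A with coefficients in ℂ[X], and the determinant is the square of a
single polynomial in the entries of A. -/
theorem result (m : ℕ) :
    (∃ P : MvPolynomial ((Fin m ⊕ Fin m) × (Fin m ⊕ Fin m)) (Polynomial ℂ),
      ∀ A : Matrix (Fin m ⊕ Fin m) (Fin m ⊕ Fin m) ℂ,
        A.transpose * Matrix.fromBlocks 0 1 (-1) 0 = Matrix.fromBlocks 0 1 (-1) 0 * A →
        A.charpoly = (MvPolynomial.eval (fun ij => Polynomial.C (A ij.1 ij.2)) P) ^ 2) ∧
    (∃ Q : MvPolynomial ((Fin m ⊕ Fin m) × (Fin m ⊕ Fin m)) ℂ,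
      ∀ A : Matrix (Fin m ⊕ Fin m) (Fin m ⊕ Fin m) ℂ,
        A.transpose * Matrix.fromBlocks 0 1 (-1) 0 = Matrix.fromBlocks 0 1 (-1) 0 * A →
        A.det = (MvPolynomial.eval (fun ij => A ij.1 ij.2) Q) ^ 2) := by
  classical
  let J : ∀ (R : Type) [CommRing R], Matrix (Fin m ⊕ Fin m) (Fin m ⊕ Fin m) R := fun R _ => Matrix.fromBlocks 0 1 (-1) 0
  have hJT : ∀ (R : Type) [CommRing R], (J R).transpose = -J R := fun R _ => by
    simp [J, Matrix.fromBlocks_transpose, Matrix.fromBlocks_neg]
  have hJdet : ∀ (R : Type) [CommRing R], (J R).det ^ 2 = 1 ∧ (J R).det = 1 := fun R _ => by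
    have h : J R = Matrix.fromBlocks 1 1 0 1 * Matrix.fromBlocks 1 0 (-1) 1 * Matrix.fromBlocks 1 1 0 1 := by
      simp [J, Matrix.fromBlocks_multiply]
    have h1 : (J R).det = 1 := by
      rw [h, Matrix.det_mul, Matrix.det_mul, Matrix.det_fromBlocks_zero₂₁, Matrix.det_fromBlocks_zero₁₂]
      simp
    exact ⟨by rw [h1, one_pow], h1⟩
  have hJmap : ∀ (R S : Type) [CommRing R] [CommRing S] (f : R →+* S), (J R).map f = J S := fun R S _ _ f => by
    simp [J, Matrix.fromBlocks_map, Matrix.map_one, Matrix.map_neg]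
  let e : Fin (m + m) ≃ Fin m ⊕ Fin m := finSumFinEquiv.symm
  let pfJ : ∀ (R : Type) [CommRing R], Matrix (Fin m ⊕ Fin m) (Fin m ⊕ Fin m) R → R := fun R _ B =>
    QuadGrpLib.pf ((J R * B).submatrix e e)
  have hmap : ∀ (R S : Type) [CommRing R] [CommRing S] (f : R →+* S) (B), f (pfJ R B) = pfJ S (B.map f) := by
    intro R S _ _ f B
    show f (QuadGrpLib.pf _) = _
    rw [QuadGrpLib.map_pf, ← Matrix.submatrix_map, Matrix.map_mul, hJmap]
  have hsq : ∀ (R : Type) [CommRing R] (B : Matrix (Fin m ⊕ Fin m) (Fin m ⊕ Fin m) R), (∀ x : R, x = -x → x = 0) →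
      B.transpose * J R = J R * B → B.det = pfJ R B ^ 2 := by
    intro R _ B h2 hB
    have hT : (J R * B).transpose = -(J R * B) := by
      rw [Matrix.transpose_mul, hJT, Matrix.mul_neg, hB]
    have halt : QuadGrpLib.IsAltMat ((J R * B).submatrix e e) :=
      ⟨fun i => h2 _ (by simpa using congrFun (congrFun hT (e i)) (e i)), fun i j => by
        simpa using congrFun (congrFun hT (e i)) (e j)⟩
    rw [QuadGrpLib.pf_sq halt, Matrix.det_submatrix_equiv_self, Matrix.det_mul, (hJdet R).2, one_mul]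
  let ι := (Fin m ⊕ Fin m) × (Fin m ⊕ Fin m)
  constructor
  · let G : Matrix (Fin m ⊕ Fin m) (Fin m ⊕ Fin m) (MvPolynomial ι (Polynomial ℂ)) :=
      Matrix.of fun i j => (if i = j then MvPolynomial.C Polynomial.X else 0) - MvPolynomial.X (i, j)
    refine ⟨pfJ _ G, fun A hA => ?_⟩
    let f := MvPolynomial.eval (fun ij : ι => Polynomial.C (A ij.1 ij.2))
    have hG : G.map f = A.charmatrix := by
      ext i j
      by_cases h : i = j <;> simp [G, f, h, Matrix.charmatrix_apply, Matrix.diagonal]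
    show A.charpoly = f (pfJ _ G) ^ 2
    rw [hmap _ _ f, hG, Matrix.charpoly]
    refine hsq _ _ (fun x hx => ?_) ?_
    · exact (mul_eq_zero.1 (show (2 : Polynomial ℂ) * x = 0 by rw [two_mul]; exact eq_neg_iff_add_eq_zero.1 hx)).resolve_left two_ne_zero
    · have hA' := congrArg (fun M : Matrix (Fin m ⊕ Fin m) (Fin m ⊕ Fin m) ℂ => M.map (Polynomial.C : ℂ →+* Polynomial ℂ)) hA
      simp only [Matrix.map_mul, ← Matrix.transpose_map] at hA'
      rw [show (Matrix.fromBlocks 0 1 (-1) 0 : Matrix (Fin m ⊕ Fin m) (Fin m ⊕ Fin m) ℂ) = J ℂ from rfl, hJmap] at hA'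
      show ((Matrix.scalar (Fin m ⊕ Fin m)) Polynomial.X - A.map Polynomial.C).transpose * J _ = J _ * ((Matrix.scalar (Fin m ⊕ Fin m)) Polynomial.X - A.map Polynomial.C)
      rw [Matrix.transpose_sub, Matrix.sub_mul, Matrix.mul_sub, ← Matrix.transpose_map, hA']
      congr 1
      rw [Matrix.scalar_apply, Matrix.diagonal_transpose]
      exact (Matrix.scalar_commute _ (fun _ => Commute.all _ _) _).eq
  · let G : Matrix (Fin m ⊕ Fin m) (Fin m ⊕ Fin m) (MvPolynomial ι ℂ) := Matrix.of fun i j => MvPolynomial.X (i, j)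
    refine ⟨pfJ _ G, fun A hA => ?_⟩
    let f := MvPolynomial.eval (fun ij : ι => A ij.1 ij.2)
    have hG : G.map f = A := by ext i j; simp [G, f]
    show A.det = f (pfJ _ G) ^ 2
    rw [hmap _ _ f, hG]
    exact hsq _ _ (fun x hx => CharZero.eq_neg_self_iff.1 hx) hA

end Groth.Agent.S15155
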