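import Groth.Statements.S15159
import Mathlib.LinearAlgebra.FiniteDimensional.Lemmas
import Mathlib.LinearAlgebra.Dimension.Constructions
import Mathlib.Algebra.DirectSum.Module
import Mathlib.Data.Finset.Lattice.Fold
import Mathlib.Tactic.LinearCombination
import Mathlib.Tactic.Ring
import Mathlib.Algebra.Order.BigOperators.Group.Finset
import Mathlib.Algebra.BigOperators.Fin
-- import your own Groth.Agent.* helpers here

set_option autoImplicit false
open CAlg

namespace Groth.Agent.S15159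

/-- Let W be a finite-dimensional complex vector space with an involution s, H a finite-dimensional
complex vector space and q : H → H → W a nonzero bilinear map with q(x)(y) = s(q(y)(x)). Write V^⊥ =
{x | q(x)(y) = 0 for all y ∈ V} and call V totally isotropic when q vanishes on V × V. The pair (H,
q) is semistable (dim V + dim V^⊥ ≤ dim H for every nonzero totally isotropic subspace V),
respectively stable (strict inequality), if and only if the line of q is semistable, respectively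
stable, for the action of SL(H), the latter being expressed through one-parameter subgroups: for
every decomposition H = ⊕_i H_i into subspaces with integer weights m_i such that Σ_i m_i dim H_i =
0 and some nonzero H_i has nonzero weight, there are indices i, j with q(H_i, H_j) ≠ 0 and m_i + m_j
≤ 0, respectively m_i + m_j < 0. (The published statement speaks of semistability and stability of
the point of the projective space of such forms under SL(H); this row states the numerical condition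
on one-parameter subgroups to which that is equivalent and which the published argument verifies.) -/
theorem result
    (W : Type) [AddCommGroup W] [Module ℂ W] [FiniteDimensional ℂ W]
    (s : W →ₗ[ℂ] W) (hs : s ∘ₗ s = LinearMap.id)
    (H : Type) [AddCommGroup H] [Module ℂ H] [FiniteDimensional ℂ H]
    (q : H →ₗ[ℂ] H →ₗ[ℂ] W) (hq : ∀ x y : H, q x y = s (q y x)) (hq0 : q ≠ 0) :
    ((∀ V : Submodule ℂ H, V ≠ ⊥ → (∀ x ∈ V, ∀ y ∈ V, q x y = 0) →
        Module.finrank ℂ V + Module.finrank ℂ ↥(⨅ (y : H) (_ : y ∈ V), LinearMap.ker (q.flip y) : Submodule ℂ H) ≤ Module.finrank ℂ H) ↔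
      (∀ (ι : Type) [Fintype ι] [DecidableEq ι] (Hs : ι → Submodule ℂ H) (m : ι → ℤ),
        DirectSum.IsInternal Hs → (∑ i, m i * (Module.finrank ℂ (Hs i) : ℤ)) = 0 →
        (∃ i, m i ≠ 0 ∧ Hs i ≠ ⊥) →
        ∃ i j, (∃ x ∈ Hs i, ∃ y ∈ Hs j, q x y ≠ 0) ∧ m i + m j ≤ 0)) ∧
    ((∀ V : Submodule ℂ H, V ≠ ⊥ → (∀ x ∈ V, ∀ y ∈ V, q x y = 0) →
        Module.finrank ℂ V + Module.finrank ℂ ↥(⨅ (y : H) (_ : y ∈ V), LinearMap.ker (q.flip y) : Submodule ℂ H) < Module.finrank ℂ H) ↔
      (∀ (ι : Type) [Fintype ι] [DecidableEq ι] (Hs : ι → Submodule ℂ H) (m : ι → ℤ),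
        DirectSum.IsInternal Hs → (∑ i, m i * (Module.finrank ℂ (Hs i) : ℤ)) = 0 →
        (∃ i, m i ≠ 0 ∧ Hs i ≠ ⊥) →
        ∃ i j, (∃ x ∈ Hs i, ∃ y ∈ Hs j, q x y ≠ 0) ∧ m i + m j < 0)) := by
  classical
  let N := Module.finrank ℂ H
  let perp : Submodule ℂ H → Submodule ℂ H := fun V => ⨅ (y : H) (_ : y ∈ V), LinearMap.ker (q.flip y)
  have hmem : ∀ V x, x ∈ perp V ↔ ∀ y ∈ V, q x y = 0 := fun V x => by simp [perp, Submodule.mem_iInf]
  have hsymm : ∀ x y, q x y = 0 → q y x = 0 := fun x y h => by rw [hq, h, map_zero]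
  have hsup : ∀ {ι : Type} (Hs : ι → Submodule ℂ H) (S T : Finset ι),
      (∀ i ∈ S, ∀ j ∈ T, ∀ x ∈ Hs i, ∀ y ∈ Hs j, q x y = 0) → T.sup Hs ≤ perp (S.sup Hs) := by
    intro ι Hs S T h
    refine Finset.sup_le fun j hj y hy => (hmem _ _).2 fun x hx => hsymm _ _ ?_
    have : S.sup Hs ≤ LinearMap.ker (q.flip y) := Finset.sup_le fun i hi x hx => h i hi j hj x hx y hy
    exact this hx
  have hdim : ∀ {ι : Type} [Fintype ι] [DecidableEq ι] (Hs : ι → Submodule ℂ H), DirectSum.IsInternal Hs →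
      ∀ S : Finset ι, Module.finrank ℂ ↥(S.sup Hs) = ∑ i ∈ S, Module.finrank ℂ (Hs i) := by
    intro ι _ _ Hs hi S
    induction S using Finset.induction_on with
    | empty => rw [Finset.sup_empty, Finset.sum_empty]; exact finrank_bot ℂ H
    | insert a S ha ih =>
      rw [Finset.sup_insert, Finset.sum_insert ha, ← ih]
      have hd : Disjoint (Hs a) (S.sup Hs) :=
        (hi.submodule_iSupIndep a).mono_right (Finset.sup_le fun j hj => le_iSup₂_of_le j (fun e : j = a => ha (e ▸ hj)) le_rfl)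
      have := Submodule.finrank_sup_add_finrank_inf_eq (Hs a) (S.sup Hs)
      rw [disjoint_iff.1 hd, finrank_bot, add_zero] at this
      exact this
  -- from semistability to weights
  have hfwd : ∀ {ι : Type} [Fintype ι] [DecidableEq ι] (Hs : ι → Submodule ℂ H) (m : ι → ℤ),
      DirectSum.IsInternal Hs → (∑ i, m i * (Module.finrank ℂ (Hs i) : ℤ)) = 0 → (∃ i, m i ≠ 0 ∧ Hs i ≠ ⊥) →
      let n : ℤ → ℤ := fun a => ∑ i ∈ Finset.univ.filter (fun i => m i ≤ a), (Module.finrank ℂ (Hs i) : ℤ)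
      ((∀ a b : ℤ, a < 0 → a + b ≤ 0 → n a + n b ≤ N) ∨
        (∀ a b : ℤ, a < 0 → a + b < 0 → n a + n b ≤ N ∧ (0 < n a → n a + n b < N))) → False := by
    intro ι _ _ Hs m hi hsum hnz n hN
    have hNsum : (N : ℤ) = ∑ i, (Module.finrank ℂ (Hs i) : ℤ) := by
      have h1 := hdim Hs hi Finset.univ
      rw [Finset.sup_univ_eq_iSup, hi.submodule_iSup_eq_top, finrank_top] at h1
      exact_mod_cast h1
    have hn0 : ∀ a, 0 ≤ n a := fun a => Finset.sum_nonneg fun i _ => Int.natCast_nonneg _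
    have hnN : ∀ a, n a ≤ N := fun a => hNsum ▸ Finset.sum_le_univ_sum_of_nonneg fun i => Int.natCast_nonneg _
    have hmono : ∀ a b, a ≤ b → n a ≤ n b := fun a b hab =>
      Finset.sum_le_sum_of_subset_of_nonneg
        (fun i hi => by
          simp only [Finset.mem_filter, Finset.mem_univ, true_and] at hi ⊢
          omega) (fun i _ _ => Int.natCast_nonneg _)
    let M : ℕ := Finset.univ.sup fun i => (m i).natAbs
    have hM : ∀ i, (m i).natAbs ≤ M := fun i => Finset.le_sup (f := fun i => (m i).natAbs) (Finset.mem_univ i)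
    have hid : ∑ k ∈ Finset.range (M + 1), ((N : ℤ) - n k - n (-(k : ℤ) - 1)) = 0 := by
      rw [← hsum]
      have e : ∀ a, n a = ∑ i, if m i ≤ a then (Module.finrank ℂ (Hs i) : ℤ) else 0 := fun a => Finset.sum_filter _ _
      simp only [e, hNsum, ← Finset.sum_sub_distrib]
      rw [Finset.sum_comm]
      refine Finset.sum_congr rfl fun i _ => ?_
      set d : ℤ := (Module.finrank ℂ (Hs i) : ℤ)
      have hMi := hM i
      rw [Finset.sum_congr rfl (g := fun k : ℕ => (if k < (m i).toNat then d else 0) - if k < (-m i).toNat then d else 0)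
        (fun k _ => by split_ifs <;> omega), Finset.sum_sub_distrib,
        ← Finset.sum_filter, ← Finset.sum_filter, Finset.sum_const, Finset.sum_const]
      have c1 : ∀ t : ℕ, t ≤ M + 1 → ((Finset.range (M + 1)).filter (fun k => k < t)).card = t := fun t ht => by
        rw [show (Finset.range (M + 1)).filter (fun k => k < t) = Finset.range t by ext k; simp; omega, Finset.card_range]
      rw [c1 _ (by omega), c1 _ (by omega), nsmul_eq_mul, nsmul_eq_mul, ← sub_mul]
      congr 1
      omega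
    have hterm : ∀ k : ℕ, 0 ≤ (N : ℤ) - n k - n (-(k : ℤ) - 1) := by
      intro k
      rcases hN with h | h
      · have := h (-(k : ℤ) - 1) k (by omega) (by omega); omega
      · have := (h (-(k : ℤ) - 1) k (by omega) (by omega)).1; omega
    have hzero : ∀ k ∈ Finset.range (M + 1), (N : ℤ) - n k - n (-(k : ℤ) - 1) = 0 :=
      (Finset.sum_eq_zero_iff_of_nonneg fun k _ => hterm k).1 hid
    have hneg : n (-1) = 0 := by
      rcases hN with h | h
      · have key : ∀ j : ℕ, n (-1) ≤ n (-(j : ℤ) - 1) ∨ M < j := by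
          intro j
          induction j with
          | zero => left; simp
          | succ j ih =>
            rcases Nat.lt_or_ge M (j + 1) with h' | h'
            · exact Or.inr h'
            have h1 := hzero (j + 1) (Finset.mem_range.2 (by omega))
            have h2 := h (-((j + 1 : ℕ) : ℤ)) ((j + 1 : ℕ) : ℤ) (by omega) (by omega)
            have h3 : (-(j : ℤ) - 1) = -((j + 1 : ℕ) : ℤ) := by omega
            rw [h3] at ih
            left
            omega
        have hlast : n (-(M : ℤ) - 1) = 0 := Finset.sum_eq_zero fun i hi => by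
          have := (Finset.mem_filter.1 hi).2
          have := hM i
          omega
        have := (key M).resolve_right (lt_irrefl _)
        have := hn0 (-1)
        omega
      · by_contra hc
        have h1 := hzero 0 (Finset.mem_range.2 (by omega))
        have h2 := (h (-1) 0 (by omega) (by omega)).2 (lt_of_le_of_ne (hn0 _) (Ne.symm hc))
        simp only [Nat.cast_zero, neg_zero, zero_sub] at h1
        omega
    obtain ⟨i, hi0, hib⟩ := hnz
    have hd : ∀ j, m j < 0 → (Module.finrank ℂ (Hs j) : ℤ) = 0 := fun j hj =>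
      (Finset.sum_eq_zero_iff_of_nonneg fun j _ => Int.natCast_nonneg _).1 hneg j (Finset.mem_filter.2 ⟨Finset.mem_univ j, by omega⟩)
    have hpos : ∀ j ∈ Finset.univ, 0 ≤ m j * (Module.finrank ℂ (Hs j) : ℤ) := fun j _ => by
      rcases lt_or_ge (m j) 0 with hj | hj
      · rw [hd j hj, mul_zero]
      · exact mul_nonneg hj (Int.natCast_nonneg _)
    rcases mul_eq_zero.1 ((Finset.sum_eq_zero_iff_of_nonneg hpos).1 hsum i (Finset.mem_univ i)) with h | h
    · exact hi0 h
    · exact hib (Submodule.finrank_eq_zero.1 (by exact_mod_cast h))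
  -- from weights to semistability
  have hbwd : ∀ V : Submodule ℂ H, (∀ x ∈ V, ∀ y ∈ V, q x y = 0) → ∃ W1 U : Submodule ℂ H,
      DirectSum.IsInternal ![V, W1, U] ∧ Module.finrank ℂ V + Module.finrank ℂ W1 = Module.finrank ℂ (perp V) ∧
      Module.finrank ℂ (perp V) + Module.finrank ℂ U = N ∧ (∀ x ∈ W1, ∀ y ∈ V, q x y = 0) := by
    intro V hV
    have hVP : V ≤ perp V := fun x hx => (hmem _ _).2 fun y hy => hV x hx y hy
    obtain ⟨C, hC⟩ := exists_isCompl V
    obtain ⟨U, hU⟩ := exists_isCompl (perp V)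
    let W1 := C ⊓ perp V
    have hsup1 : V ⊔ W1 = perp V := by
      rw [← sup_inf_assoc_of_le _ hVP, hC.sup_eq_top, top_inf_eq]
    have hd1 : Module.finrank ℂ V + Module.finrank ℂ W1 = Module.finrank ℂ (perp V) := by
      have := Submodule.finrank_sup_add_finrank_inf_eq V W1
      rw [hsup1, disjoint_iff.1 (hC.disjoint.mono_right inf_le_left), finrank_bot, add_zero] at this
      exact this.symm
    have hd2 : Module.finrank ℂ (perp V) + Module.finrank ℂ U = N := Submodule.finrank_add_eq_of_isCompl hU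
    refine ⟨W1, U, ?_, hd1, hd2, fun x hx => (hmem V x).1 hx.2⟩
    have hsurj : Function.Surjective (DirectSum.coeLinearMap ![V, W1, U]) := by
      rw [← LinearMap.range_eq_top, DirectSum.range_coeLinearMap, eq_top_iff, ← hU.sup_eq_top, ← hsup1]
      exact sup_le (sup_le (le_iSup ![V, W1, U] 0) (le_iSup ![V, W1, U] 1)) (le_iSup ![V, W1, U] 2)
    haveI : ∀ i, FiniteDimensional ℂ ↥(![V, W1, U] i) := fun i => inferInstance
    haveI : FiniteDimensional ℂ (DirectSum (Fin 3) fun i => ↥(![V, W1, U] i)) :=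
      Module.Finite.equiv (DirectSum.linearEquivFunOnFintype ℂ (Fin 3) fun i => ↥(![V, W1, U] i)).symm
    refine ⟨(LinearMap.injective_iff_surjective_of_finrank_eq_finrank ?_).2 hsurj, hsurj⟩
    rw [Module.finrank_directSum, Fin.sum_univ_three]
    show Module.finrank ℂ V + Module.finrank ℂ W1 + Module.finrank ℂ U = N
    omega
  have hmk : ∀ (W1 U V : Submodule ℂ H), (∀ x ∈ V, ∀ y ∈ V, q x y = 0) → (∀ x ∈ W1, ∀ y ∈ V, q x y = 0) →
      ∀ (m : Fin 3 → ℤ) (P : ℤ → Prop), ¬ P (m 0 + m 2) → ¬ P (m 1 + m 1) → ¬ P (m 1 + m 2) → ¬ P (m 2 + m 2) →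
        ¬ ∃ i j, (∃ x ∈ ![V, W1, U] i, ∃ y ∈ ![V, W1, U] j, q x y ≠ 0) ∧ P (m i + m j) := by
    rintro W1 U V hV hW m P p02 p11 p12 p22 ⟨i, j, ⟨x, hx, y, hy, hxy⟩, hp⟩
    fin_cases i <;> fin_cases j
    · exact hxy (hV x hx y hy)
    · exact hxy (hsymm _ _ (hW y hy x hx))
    · exact p02 hp
    · exact hxy (hW x hx y hy)
    · exact p11 hp
    · exact p12 hp
    · exact p02 (add_comm (m 2) (m 0) ▸ hp)
    · exact p12 (add_comm (m 2) (m 1) ▸ hp)
    · exact p22 hp
  have hbad : ∀ (ι : Type) [Fintype ι] (Hs : ι → Submodule ℂ H) (m : ι → ℤ) (a b : ℤ),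
      (∀ i j, m i ≤ a → m j ≤ b → ∀ x ∈ Hs i, ∀ y ∈ Hs j, q x y = 0) →
      (Finset.univ.filter (fun j => m j ≤ b)).sup Hs ≤ perp ((Finset.univ.filter (fun i => m i ≤ a)).sup Hs) :=
    fun ι _ Hs m a b h => hsup Hs _ _ fun i hi j hj => h i j (Finset.mem_filter.1 hi).2 (Finset.mem_filter.1 hj).2
  have hiso : ∀ {ι : Type} [Fintype ι] (Hs : ι → Submodule ℂ H) (m : ι → ℤ) (a : ℤ),
      (∀ i j, m i ≤ a → m j ≤ a → ∀ x ∈ Hs i, ∀ y ∈ Hs j, q x y = 0) →
      ∀ x ∈ (Finset.univ.filter (fun j => m j ≤ a)).sup Hs, ∀ y ∈ (Finset.univ.filter (fun j => m j ≤ a)).sup Hs, q x y = 0 :=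
    fun Hs m a h x hx y hy => (hmem _ _).1 (hbad _ Hs m a a h hx) y hy
  have hcontra : ∀ V : Submodule ℂ H, (∀ x ∈ V, ∀ y ∈ V, q x y = 0) → N < Module.finrank ℂ V + Module.finrank ℂ (perp V) →
      (∀ (ι : Type) [Fintype ι] [DecidableEq ι] (Hs : ι → Submodule ℂ H) (m : ι → ℤ),
        DirectSum.IsInternal Hs → (∑ i, m i * (Module.finrank ℂ (Hs i) : ℤ)) = 0 → (∃ i, m i ≠ 0 ∧ Hs i ≠ ⊥) →
        ∃ i j, (∃ x ∈ Hs i, ∃ y ∈ Hs j, q x y ≠ 0) ∧ m i + m j ≤ 0) → False := by
    intro V hiV hlt hw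
    obtain ⟨W1, U, hint, h1, h2, hW⟩ := hbwd V hiV
    have hbc : 0 < Module.finrank ℂ W1 + Module.finrank ℂ U := by
      by_contra hc
      have hV : V = ⊤ := Submodule.eq_top_of_finrank_eq (show Module.finrank ℂ V = N by omega)
      exact hq0 (LinearMap.ext fun x => LinearMap.ext fun y => hiV x (hV ▸ trivial) y (hV ▸ trivial))
    have hP : (Module.finrank ℂ (perp V) : ℕ) ≤ N := Submodule.finrank_le _
    set a : ℤ := (Module.finrank ℂ V : ℤ)
    set b : ℤ := (Module.finrank ℂ W1 : ℤ)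
    set c : ℤ := (Module.finrank ℂ U : ℤ)
    let m : Fin 3 → ℤ := ![-(b + c), a - c, (a - c) + (b + c)]
    refine hmk W1 U V hiV hW m (fun z => z ≤ 0) ?_ ?_ ?_ ?_ (hw (Fin 3) ![V, W1, U] m hint ?_ ⟨0, ?_, ?_⟩)
    · show ¬ (-(b + c) + ((a - c) + (b + c)) ≤ 0); omega
    · show ¬ (a - c + (a - c) ≤ 0); omega
    · show ¬ (a - c + ((a - c) + (b + c)) ≤ 0); omega
    · show ¬ ((a - c) + (b + c) + ((a - c) + (b + c)) ≤ 0); omega
    · rw [Fin.sum_univ_three]
      show -(b + c) * a + (a - c) * b + ((a - c) + (b + c)) * c = 0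
      ring
    · show -(b + c) ≠ 0; omega
    · intro e
      have h0 : a = 0 := Int.natCast_eq_zero.2 (Submodule.finrank_eq_zero.2 e)
      omega
  constructor <;> constructor
  · intro h ι _ _ Hs m hint hsum hnz
    by_contra hc
    refine hfwd Hs m hint hsum hnz (Or.inl fun a b ha hab => ?_)
    rcases eq_or_ne ((Finset.univ.filter (fun i => m i ≤ a)).sup Hs) ⊥ with h0 | h0
    · have e1 := hdim Hs hint (Finset.univ.filter fun i => m i ≤ a)
      have e2 := hdim Hs hint (Finset.univ.filter fun i => m i ≤ b)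
      rw [h0, finrank_bot] at e1
      have := Submodule.finrank_le ((Finset.univ.filter fun i => m i ≤ b).sup Hs)
      simp only []
      rw [← Nat.cast_sum, ← Nat.cast_sum, ← e1, ← e2]
      push_cast
      omega
    · have hz : ∀ i j, m i + m j ≤ 0 → ∀ x ∈ Hs i, ∀ y ∈ Hs j, q x y = 0 := fun i j hij x hx y hy => by
        by_contra hxy; exact hc ⟨i, j, ⟨x, hx, y, hy, hxy⟩, hij⟩
      have h1 := h _ h0 (hiso Hs m a fun i j hi hj => hz i j (by omega))
      have h2 := Submodule.finrank_mono (hbad _ Hs m a b fun i j hi hj => hz i j (by omega))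
      simp only []
      rw [← Nat.cast_sum, ← Nat.cast_sum, ← hdim Hs hint, ← hdim Hs hint, ← Nat.cast_add, Nat.cast_le]
      exact le_trans (Nat.add_le_add_left h2 _) h1
  · intro hw V hV hiV
    by_contra hc
    exact hcontra V hiV (not_le.1 hc) hw
  · intro h ι _ _ Hs m hint hsum hnz
    by_contra hc
    refine hfwd Hs m hint hsum hnz (Or.inr fun a b ha hab => ?_)
    have hz : ∀ i j, m i + m j < 0 → ∀ x ∈ Hs i, ∀ y ∈ Hs j, q x y = 0 := fun i j hij x hx y hy => by
      by_contra hxy; exact hc ⟨i, j, ⟨x, hx, y, hy, hxy⟩, hij⟩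
    rcases eq_or_ne ((Finset.univ.filter (fun i => m i ≤ a)).sup Hs) ⊥ with h0 | h0
    · have e1 := hdim Hs hint (Finset.univ.filter fun i => m i ≤ a)
      have e2 := hdim Hs hint (Finset.univ.filter fun i => m i ≤ b)
      rw [h0, finrank_bot] at e1
      have := Submodule.finrank_le ((Finset.univ.filter fun i => m i ≤ b).sup Hs)
      simp only []
      rw [← Nat.cast_sum, ← Nat.cast_sum, ← e1, ← e2]
      exact ⟨by push_cast; omega, fun hh => absurd hh (by simp)⟩
    · have h1 := h _ h0 (hiso Hs m a fun i j hi hj => hz i j (by omega))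
      have h2 := Submodule.finrank_mono (hbad _ Hs m a b fun i j hi hj => hz i j (by omega))
      simp only []
      rw [← Nat.cast_sum, ← Nat.cast_sum, ← hdim Hs hint, ← hdim Hs hint, ← Nat.cast_add, Nat.cast_le, Nat.cast_pos, Nat.cast_lt]
      exact ⟨(Nat.lt_of_le_of_lt (Nat.add_le_add_left h2 _) h1).le, fun _ => Nat.lt_of_le_of_lt (Nat.add_le_add_left h2 _) h1⟩
  · intro hw V hV hiV
    by_contra hc
    rcases (not_lt.1 hc).lt_or_eq with hlt | heq
    · exact hcontra V hiV hlt (fun ι _ _ Hs m a b c => (hw ι Hs m a b c).imp fun i hi => hi.imp fun j hj => ⟨hj.1, hj.2.le⟩)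
    obtain ⟨W1, U, hint, h1, h2, hW⟩ := hbwd V hiV
    have hVpos : 0 < Module.finrank ℂ V := Nat.pos_of_ne_zero fun h0 => hV (Submodule.finrank_eq_zero.1 h0)
    have heq' : N = Module.finrank ℂ V + Module.finrank ℂ (perp V) := heq
    let m : Fin 3 → ℤ := ![-(Module.finrank ℂ U : ℤ), 0, (Module.finrank ℂ V : ℤ)]
    refine hmk W1 U V hiV hW m (fun z => z < 0) ?_ ?_ ?_ ?_ (hw (Fin 3) ![V, W1, U] m hint ?_ ⟨2, ?_, ?_⟩)
    · show ¬ (-(Module.finrank ℂ U : ℤ) + (Module.finrank ℂ V : ℤ) < 0); omega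
    · show ¬ ((0 : ℤ) + 0 < 0); omega
    · show ¬ ((0 : ℤ) + (Module.finrank ℂ V : ℤ) < 0); omega
    · show ¬ ((Module.finrank ℂ V : ℤ) + (Module.finrank ℂ V : ℤ) < 0); omega
    · rw [Fin.sum_univ_three]
      show -(Module.finrank ℂ U : ℤ) * (Module.finrank ℂ V : ℤ) + 0 * (Module.finrank ℂ W1 : ℤ) + (Module.finrank ℂ V : ℤ) * (Module.finrank ℂ U : ℤ) = 0
      ring
    · show (Module.finrank ℂ V : ℤ) ≠ 0; omega
    · intro e
      have h0 : Module.finrank ℂ U = 0 := Submodule.finrank_eq_zero.2 e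
      omega

end Groth.Agent.S15159
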