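import Groth.Statements.S1516
import Mathlib.AlgebraicGeometry.Morphisms.ClosedImmersion

set_option autoImplicit false
universe u
open FlatMor

namespace Groth.Agent.S1516

open AlgebraicGeometry CategoryTheory Limits

section

variable {X S T T' : Scheme.{u}} (f : X ⟶ S) (t : T ⟶ T') (a : T ⟶ X) (b : T' ⟶ S)

/-- A lift over an open piece of the thickening. -/
def IsLift {W : Scheme.{u}} (j : W ⟶ T') (l : W ⟶ X) : Prop :=
  l ≫ f = j ≫ b ∧ ∀ (Z : Scheme.{u}) (z : Z ⟶ T) (z' : Z ⟶ W), z ≫ t = z' ≫ j → z' ≫ l = z ≫ a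

variable {f t a b}

theorem IsLift.comp {W W' : Scheme.{u}} {j : W ⟶ T'} {l : W ⟶ X} (h : IsLift f t a b j l) (k : W' ⟶ W) :
    IsLift f t a b (k ≫ j) (k ≫ l) :=
  ⟨by rw [Category.assoc, h.1, Category.assoc], fun Z z z' e => by
    rw [← Category.assoc]; exact h.2 Z z (z' ≫ k) (by rw [Category.assoc]; exact e)⟩

variable (hf : MoreMor.IsFormallyEtaleHom f) (ht : MoreMor.IsFirstOrderThickening t) (w : t ≫ b = a ≫ f)
include hf ht w

theorem existsUnique_affine (U : T'.affineOpens) :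
    ∃! l : Spec Γ(T', U.1) ⟶ X, IsLift f t a b U.2.fromSpec l := by
  haveI : IsClosedImmersion t := ht.1.1
  have hV : IsAffineOpen (t ⁻¹ᵁ U.1) := U.2.preimage t
  let φ := t.app U.1
  have hφ : Function.Surjective φ.hom := t.app_surjective U.1 U.2
  let J := RingHom.ker φ.hom
  have hJ : J ^ 2 = ⊥ := by
    have h := congrArg (fun I => Scheme.IdealSheafData.ideal I U) ht.2
    simp only [Scheme.IdealSheafData.ideal_mul, Pi.mul_apply, Scheme.Hom.ker_apply] at h
    rw [pow_two]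
    exact h.trans (by simp)
  let e := RingHom.quotientKerEquivOfSurjective hφ
  let q : Spec (CommRingCat.of (Γ(T', U.1) ⧸ J)) ⟶ Spec Γ(T, t ⁻¹ᵁ U.1) := Spec.map (CommRingCat.ofHom e.symm.toRingHom)
  let q' : Spec Γ(T, t ⁻¹ᵁ U.1) ⟶ Spec (CommRingCat.of (Γ(T', U.1) ⧸ J)) := Spec.map (CommRingCat.ofHom e.toRingHom)
  have hq'q : q' ≫ q = 𝟙 _ := by
    rw [← Spec.map_comp, ← CommRingCat.ofHom_comp, show e.toRingHom.comp e.symm.toRingHom = RingHom.id _ from
      RingHom.ext fun x => e.apply_symm_apply x]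
    exact Spec.map_id _
  have hqq' : q ≫ q' = 𝟙 _ := by
    rw [← Spec.map_comp, ← CommRingCat.ofHom_comp, show e.symm.toRingHom.comp e.toRingHom = RingHom.id _ from
      RingHom.ext fun x => e.symm_apply_apply x]
    exact Spec.map_id _
  have hφq : Spec.map φ = q' ≫ Spec.map (CommRingCat.ofHom (Ideal.Quotient.mk J)) := by
    rw [← Spec.map_comp, ← CommRingCat.ofHom_comp]
    rfl
  have hsq : Spec.map φ ≫ U.2.fromSpec = hV.fromSpec ≫ t := by
    rw [show φ = t.appLE U.1 (t ⁻¹ᵁ U.1) le_rfl from (Scheme.Hom.appLE_eq_app t).symm]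
    exact IsAffineOpen.SpecMap_appLE_fromSpec t U.2 hV le_rfl
  have hmk : Spec.map (CommRingCat.ofHom (Ideal.Quotient.mk J)) = q ≫ Spec.map φ := by
    rw [hφq, ← Category.assoc, hqq', Category.id_comp]
  obtain ⟨l, ⟨hl1, hl2⟩, hlu⟩ := hf Γ(T', U.1) J hJ (q ≫ hV.fromSpec ≫ a) (U.2.fromSpec ≫ b) (by
    rw [hmk, Category.assoc, reassoc_of% hsq, w]; simp only [Category.assoc])
  have hla : Spec.map φ ≫ l = hV.fromSpec ≫ a := by
    rw [hmk] at hl1
    have h := congrArg (q' ≫ ·) hl1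
    simp only [← Category.assoc, hq'q, Category.id_comp] at h
    exact h
  refine ⟨l, ⟨hl2, fun Z z z' hz => ?_⟩, fun l' hl' => hlu l' ⟨?_, hl'.1⟩⟩
  · have hr : Set.range z ⊆ Set.range hV.fromSpec := by
      rw [hV.range_fromSpec]
      rintro _ ⟨x, rfl⟩
      change t (z x) ∈ U.1
      rw [← Scheme.Hom.comp_apply, hz, Scheme.Hom.comp_apply]
      exact U.2.range_fromSpec.le (Set.mem_range_self (z' x))
    obtain ⟨y, hy⟩ : ∃ y, y ≫ hV.fromSpec = z := ⟨_, IsOpenImmersion.lift_fac hV.fromSpec z hr⟩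
    have hz' : z' = y ≫ Spec.map φ := by
      rw [← cancel_mono U.2.fromSpec, ← hz, ← hy, Category.assoc, Category.assoc, hsq]
    rw [hz', Category.assoc, hla, reassoc_of% hy]
  · rw [hmk, Category.assoc]
    refine congrArg (q ≫ ·) ?_
    exact hl'.2 _ _ _ hsq.symm

theorem lift_unique {W : Scheme.{u}} (j : W ⟶ T') [IsOpenImmersion j] {l l' : W ⟶ X}
    (h : IsLift f t a b j l) (h' : IsLift f t a b j l') : l = l' := by
  refine W.affineCover.hom_ext _ _ fun i => ?_
  let k := W.affineCover.f i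
  let U : T'.affineOpens := ⟨(k ≫ j).opensRange, isAffineOpen_opensRange (k ≫ j)⟩
  let e := IsOpenImmersion.lift U.2.fromSpec (k ≫ j) (by
    rw [U.2.range_fromSpec]; exact subset_rfl)
  let e' := IsOpenImmersion.lift (k ≫ j) U.2.fromSpec (by
    rw [U.2.range_fromSpec]; exact subset_rfl)
  have he : e ≫ U.2.fromSpec = k ≫ j := IsOpenImmersion.lift_fac _ _ _
  have he' : e' ≫ k ≫ j = U.2.fromSpec := IsOpenImmersion.lift_fac _ _ _
  have hee : e ≫ e' = 𝟙 _ := by
    rw [← cancel_mono (k ≫ j), Category.assoc, he', he, Category.id_comp]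
  obtain ⟨l₀, -, hu⟩ := existsUnique_affine hf ht w U
  have h1 : e' ≫ k ≫ l = l₀ := hu _ (he' ▸ (h.comp k).comp e')
  have h2 : e' ≫ k ≫ l' = l₀ := hu _ (he' ▸ (h'.comp k).comp e')
  calc k ≫ l = (e ≫ e') ≫ k ≫ l := by rw [hee, Category.id_comp]
    _ = (e ≫ e') ≫ k ≫ l' := by rw [Category.assoc, h1, ← h2, Category.assoc]
    _ = k ≫ l' := by rw [hee, Category.id_comp]

theorem existsUnique_lift : ∃! l : T' ⟶ X, t ≫ l = a ∧ l ≫ f = b := by
  let 𝒰 := T'.openCoverOfIsOpenCover (fun U : T'.affineOpens => U.1) (iSup_affineOpens_eq_top T')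
  choose l hl using fun U : T'.affineOpens => (existsUnique_affine hf ht w U).exists
  let g : ∀ U : T'.affineOpens, (U.1 : Scheme.{u}) ⟶ X := fun U => U.2.isoSpec.hom ≫ l U
  have hg : ∀ U : T'.affineOpens, IsLift f t a b U.1.ι (g U) := fun U => by
    have h := (hl U).comp U.2.isoSpec.hom
    rwa [IsAffineOpen.isoSpec_hom_fromSpec] at h
  let L : T' ⟶ X := 𝒰.glueMorphisms g fun U V => lift_unique hf ht w (pullback.fst U.1.ι V.1.ι ≫ U.1.ι)
    ((hg U).comp _) (by
      rw [pullback.condition]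
      exact (hg V).comp _)
  have hL : ∀ U : T'.affineOpens, U.1.ι ≫ L = g U := fun U => 𝒰.ι_glueMorphisms g _ U
  have hLf : L ≫ f = b := 𝒰.hom_ext _ _ fun U => by
    show U.1.ι ≫ L ≫ f = U.1.ι ≫ b
    rw [← Category.assoc, hL, (hg U).1]
  have hta : t ≫ L = a := by
    refine (T.openCoverOfIsOpenCover (fun U : T'.affineOpens => t ⁻¹ᵁ U.1) ?_).hom_ext _ _ fun U => ?_
    · rw [TopologicalSpace.IsOpenCover, ← Scheme.Hom.preimage_iSup, iSup_affineOpens_eq_top, Scheme.Hom.preimage_top]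
    · show (t ⁻¹ᵁ U.1).ι ≫ t ≫ L = (t ⁻¹ᵁ U.1).ι ≫ a
      rw [← morphismRestrict_ι_assoc, hL]
      exact (hg U).2 _ _ _ (morphismRestrict_ι t U.1).symm
  refine ⟨L, ⟨hta, hLf⟩, fun L' ⟨h1, h2⟩ => ?_⟩
  have key : ∀ M : T' ⟶ X, t ≫ M = a → M ≫ f = b → IsLift f t a b (𝟙 T') M := fun M e1 e2 =>
    ⟨by rw [e2, Category.id_comp], fun Z z z' e => by
      rw [Category.comp_id] at e
      rw [← e, Category.assoc, e1]⟩
  exact lift_unique hf ht w (𝟙 T') (key L' h1 h2) (key L hta hLf)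

end

open AlgebraicGeometry CategoryTheory Limits in
/-- Let f : X → S be formally étale (unique infinitesimal lifting against first order thickenings of
affine schemes). Then for every first order thickening t : T → T' of schemes and every commutative
square with T → X on top and T' → S at the bottom there is exactly one lift T' → X. -/
theorem result {X S : Scheme.{u}} (f : X ⟶ S) (hf : MoreMor.IsFormallyEtaleHom f)
    {T T' : Scheme.{u}} (t : T ⟶ T') (ht : MoreMor.IsFirstOrderThickening t) (a : T ⟶ X) (b : T' ⟶ S) (w : t ≫ b = a ≫ f) :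
    ∃! l : T' ⟶ X, t ≫ l = a ∧ l ≫ f = b := by
  exact existsUnique_lift hf ht w

end Groth.Agent.S1516
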