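import Groth.Statements.S15160
import Groth.Agent.DblDescLib.Main
-- import your own Groth.Agent.* helpers here

set_option autoImplicit false
set_option maxHeartbeats 2000000
set_option backward.isDefEq.respectTransparency false
open CategoryTheory CategoryTheory.Limits AlgebraicGeometry
open VBCurve

namespace Groth.Agent.S15160

theorem isQCoh_of_isFinLocFree {X : Scheme.{0}} {M : X.Modules} (h : FlatMod.IsFinLocFree M) : Coh.IsQCoh M := by
  choose U n hU e using h
  refine QCohLib.isQCoh_of_cover M U (eq_top_iff.2 fun p _ => TopologicalSpace.Opens.mem_iSup.2 ⟨p, hU p⟩) fun p => ?_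
  haveI : Coh.IsQCoh (FlatMod.freeMod (↑(U p) : Scheme.{0}) (n p)) :=
    QCohLib.isQCoh_of_isColimit (fun _ => inferInstance) (fun _ => QCohLib.isQCoh_unit) (colimit.isColimit _)
  exact QCohLib.isQCoh_of_iso (e p).some.symm


/-- Let π : X → Y be a ramified double cover of smooth proper integral curves over the complex numbers
(π finite flat of constant rank 2 over the complex numbers and not étale) with covering involution σ
(σ ∘ σ = id, σ ≠ id, π ∘ σ = π), E a finite locally free module of rank r ≥ 1 on Y and i : F → π^*E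
a subbundle (a monomorphism whose cokernel is finite locally free). Then F descends to Y as a
subbundle of E — there are a monomorphism i' : F' → E and an isomorphism π^*F' ≅ F carrying π^*i' to
i — if and only if the canonical linearization σ^*π^*E ≅ π^*E, induced by π ∘ σ = π, restricts to a
morphism σ^*F → F. -/
theorem result
    (X Y : Scheme.{0}) [X.Over (Spec (CommRingCat.of ℂ))] [Y.Over (Spec (CommRingCat.of ℂ))]
    [IsIntegral X] [IsProper (X ↘ Spec (CommRingCat.of ℂ))] [Smooth (X ↘ Spec (CommRingCat.of ℂ))] (hdimX : topologicalKrullDim X = 1)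
    [IsIntegral Y] [IsProper (Y ↘ Spec (CommRingCat.of ℂ))] [Smooth (Y ↘ Spec (CommRingCat.of ℂ))] (hdimY : topologicalKrullDim Y = 1)
    (π : X ⟶ Y) [IsFinite π] [Flat π] (hπ : π ≫ (Y ↘ Spec (CommRingCat.of ℂ)) = X ↘ Spec (CommRingCat.of ℂ))
    (hrk : ∀ y : ↥Y, Scheme.Hom.finrank π y = 2) (hram : ¬ Etale π)
    (σ : X ⟶ X) (hσS : σ ≫ (X ↘ Spec (CommRingCat.of ℂ)) = X ↘ Spec (CommRingCat.of ℂ)) (hσ : σ ≫ σ = 𝟙 X) (hσ1 : σ ≠ 𝟙 X) (hσπ : σ ≫ π = π)
    (r : ℕ) (hr : 0 < r) (E : Y.Modules) (hE : FlatMod.IsFinLocFreeOfRank r E)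
    (F : X.Modules) (i : F ⟶ (Scheme.Modules.pullback π).obj E) [Mono i]
    (hsub : FlatMod.IsFinLocFree (cokernel i)) :
    (∃ (F' : Y.Modules) (i' : F' ⟶ E) (e : (Scheme.Modules.pullback π).obj F' ≅ F),
        Mono i' ∧ e.hom ≫ i = (Scheme.Modules.pullback π).map i') ↔
    ∃ j : (Scheme.Modules.pullback σ).obj F ⟶ F,
      j ≫ i = (Scheme.Modules.pullback σ).map i ≫ (Scheme.Modules.pullbackComp σ π).hom.app E ≫
        (Scheme.Modules.pullbackCongr hσπ).hom.app E := by
  haveI : IsLocallyNoetherian Y := LocallyOfFiniteType.isLocallyNoetherian (Y ↘ Spec (CommRingCat.of ℂ))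
  haveI : Surjective π := (Scheme.Hom.one_le_finrank_iff_surjective π).1 fun y => by rw [hrk]; simp
  have h2 : IsUnit (2 : Γ(Y, ⊤)) := by
    rw [← map_ofNat ((Scheme.ΓSpecIso (CommRingCat.of ℂ)).inv ≫ (Y ↘ Spec (CommRingCat.of ℂ)).appTop).hom 2]
    exact (two_ne_zero (α := ℂ)).isUnit.map _
  haveI : Coh.IsQCoh E := (CurvLib.isCoh_of_locFree hE).1
  haveI : Coh.IsQCoh (cokernel i) := isQCoh_of_isFinLocFree hsub
  refine ⟨?_, ?_⟩
  · rintro ⟨F', i', e, -, he⟩
    exact DblDescLib.stable_of_descends hσπ i i' e he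
  · rintro ⟨j, hj⟩
    exact DblDescLib.descends_of_stable hrk h2 (X ↘ Spec (CommRingCat.of ℂ)) hσS hσ1 hσπ E i hsub j hj

end Groth.Agent.S15160
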