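import Groth.Statements.S15162
import Mathlib


-- import your own Groth.Agent.* helpers here

set_option autoImplicit false
open Matrix
open BddFin

namespace Groth.Agent.S15162

/-- Let Γ be a finite subgroup of GL_2(ℤ) acting on ℤ² by matrix multiplication. If every element of Γ
has a non-zero fixed vector in ℤ², then there is a non-zero vector of ℤ² fixed by all of Γ. -/
theorem result
    (Γ : Subgroup (Matrix.GeneralLinearGroup (Fin 2) ℤ)) [Finite Γ]
    (h : ∀ γ ∈ Γ, ∃ v : Fin 2 → ℤ, v ≠ 0 ∧ (γ : Matrix (Fin 2) (Fin 2) ℤ) *ᵥ v = v) :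
    ∃ v : Fin 2 → ℤ, v ≠ 0 ∧ ∀ γ ∈ Γ, (γ : Matrix (Fin 2) (Fin 2) ℤ) *ᵥ v = v := by
  classical
  have hfix : ∀ γ ∈ Γ, (1 : ℤ) - Matrix.trace (γ : Matrix (Fin 2) (Fin 2) ℤ) + (γ : Matrix (Fin 2) (Fin 2) ℤ).det = 0 := by
    intro γ hγ
    obtain ⟨v, hv0, hv⟩ := h γ hγ
    have : ((γ : Matrix (Fin 2) (Fin 2) ℤ) - 1).det = 0 :=
      Matrix.exists_mulVec_eq_zero_iff.1 ⟨v, hv0, by rw [Matrix.sub_mulVec, hv, Matrix.one_mulVec, sub_self]⟩
    rw [Matrix.det_fin_two] at this ⊢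
    rw [Matrix.trace_fin_two]
    simp at this
    linear_combination this
  have huni : ∀ γ ∈ Γ, (γ : Matrix (Fin 2) (Fin 2) ℤ).det = 1 → γ = 1 := by
    intro γ hγ hdet
    set A := (γ : Matrix (Fin 2) (Fin 2) ℤ) with hA
    have ht := hfix γ hγ
    rw [← hA, hdet] at ht
    have hN : (A - 1) * (A - 1) = 0 := by
      rw [Matrix.det_fin_two] at hdet
      rw [Matrix.trace_fin_two] at ht
      ext i j
      fin_cases i <;> fin_cases j <;> simp [Matrix.mul_apply, Fin.sum_univ_two] <;>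
        first
        | linear_combination (-(A 0 0)) * ht - hdet
        | linear_combination (-(A 1 1)) * ht - hdet
        | linear_combination (-(A 0 1)) * ht
        | linear_combination (-(A 1 0)) * ht
    have hpow : ∀ m : ℕ, A ^ m = 1 + (m : ℤ) • (A - 1) := by
      intro m
      induction m with
      | zero => simp
      | succ m ih =>
        rw [pow_succ, ih]
        calc (1 + (m : ℤ) • (A - 1)) * A = (1 + (m : ℤ) • (A - 1)) * (1 + (A - 1)) := by rw [add_sub_cancel]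
          _ = _ := by
            rw [mul_add, mul_one, add_mul, one_mul, smul_mul_assoc, hN, smul_zero, add_zero]
            push_cast
            rw [add_smul, one_smul, add_assoc]
    have hfin : IsOfFinOrder (⟨γ, hγ⟩ : Γ) := isOfFinOrder_of_finite _
    obtain ⟨m, hm, hm1⟩ := isOfFinOrder_iff_pow_eq_one.1 hfin
    have : A ^ m = 1 := by
      have h2 := congrArg (fun g : Γ => ((g : Matrix.GeneralLinearGroup (Fin 2) ℤ) : Matrix (Fin 2) (Fin 2) ℤ)) hm1
      simpa [hA] using h2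
    rw [hpow m] at this
    have h3 : (m : ℤ) • (A - 1) = 0 := by simpa using this
    rcases smul_eq_zero.1 h3 with h4 | h4
    · omega
    · exact Units.ext (sub_eq_zero.1 h4)
  by_cases hall : ∀ γ ∈ Γ, γ = 1
  · refine ⟨![1, 0], by simp, fun γ hγ => ?_⟩
    rw [hall γ hγ]; simp
  · push_neg at hall
    obtain ⟨γ₀, hγ₀, hne⟩ := hall
    obtain ⟨v, hv0, hv⟩ := h γ₀ hγ₀
    refine ⟨v, hv0, fun γ hγ => ?_⟩
    have hd : ∀ δ ∈ Γ, δ ≠ 1 → (δ : Matrix (Fin 2) (Fin 2) ℤ).det = -1 := by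
      intro δ hδ hδne
      have hu : IsUnit (δ : Matrix (Fin 2) (Fin 2) ℤ).det := (Matrix.isUnit_iff_isUnit_det _).1 δ.isUnit
      rcases Int.isUnit_iff.1 hu with h1 | h1
      · exact absurd (huni δ hδ h1) hδne
      · exact h1
    by_cases hγ1 : γ = 1
    · subst hγ1; simp
    · have : γ * γ₀ = 1 := huni _ (mul_mem hγ hγ₀) (by simp [hd γ hγ hγ1, hd γ₀ hγ₀ hne])
      calc (γ : Matrix (Fin 2) (Fin 2) ℤ) *ᵥ v = (γ : Matrix (Fin 2) (Fin 2) ℤ) *ᵥ ((γ₀ : Matrix (Fin 2) (Fin 2) ℤ) *ᵥ v) := by rw [hv]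
        _ = v := by rw [Matrix.mulVec_mulVec, ← Units.val_mul, this]; simp

end Groth.Agent.S15162
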