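import Groth.Statements.S15163
import Mathlib
-- import your own Groth.Agent.* helpers here

set_option autoImplicit false
open Matrix
open BddFin

namespace Groth.Agent.S15163

/-- Let Γ be a finite subgroup of GL_2(ℤ) and d > 6 an integer. Suppose some vector w of (ℤ/dℤ)², with
m·w ≠ 0 for all 0 < m < d, is fixed by the reduction modulo d of every element of Γ. Then some
non-zero vector of ℤ² is fixed by all of Γ. -/
theorem result
    (Γ : Subgroup (Matrix.GeneralLinearGroup (Fin 2) ℤ)) [Finite Γ] (d : ℕ) (hd : 6 < d)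
    (w : Fin 2 → ZMod d) (hw : ∀ m : ℕ, 0 < m → m < d → m • w ≠ 0)
    (hfix : ∀ γ ∈ Γ, ((γ : Matrix (Fin 2) (Fin 2) ℤ).map (Int.castRingHom (ZMod d))) *ᵥ w = w) :
    ∃ v : Fin 2 → ℤ, v ≠ 0 ∧ ∀ γ ∈ Γ, (γ : Matrix (Fin 2) (Fin 2) ℤ) *ᵥ v = v := by
  classical
  have : Fact (1 < d) := ⟨by omega⟩
  haveI : NeZero d := ⟨by omega⟩
  have hdet : ∀ γ ∈ Γ, ((γ : Matrix (Fin 2) (Fin 2) ℤ) - 1).det = 0 := by
    intro γ hγ
    obtain ⟨N, hN, hγN⟩ : ∃ N : ℕ, 0 < N ∧ (γ : Matrix (Fin 2) (Fin 2) ℤ) ^ N = 1 := by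
      refine ⟨orderOf γ, ?_, ?_⟩
      · rw [← Subgroup.orderOf_mk γ hγ]; exact orderOf_pos _
      · rw [← Units.val_pow_eq_pow_val, pow_orderOf_eq_one]; rfl
    set G := (γ : Matrix (Fin 2) (Fin 2) ℤ)
    set Gc : Matrix (Fin 2) (Fin 2) ℂ := G.map (Int.castRingHom ℂ) with hGc
    have hGcN : Gc ^ N = 1 := by
      rw [hGc, ← RingHom.mapMatrix_apply, ← map_pow, hγN, map_one]
    have hroot : ∀ r ∈ Gc.charpoly.roots, ‖r‖ = 1 := by
      intro r hr
      have h1 : r ∈ spectrum ℂ Gc := Matrix.mem_spectrum_iff_isRoot_charpoly.2 (Polynomial.isRoot_of_mem_roots hr)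
      have h2 := spectrum.pow_mem_pow Gc N h1
      rw [hGcN, spectrum.one_eq, Set.mem_singleton_iff] at h2
      exact Complex.norm_eq_one_of_pow_eq_one h2 hN.ne'
    have htr : |G.trace| ≤ 2 := by
      have h1 : (G.trace : ℂ) = Gc.charpoly.roots.sum := by
        rw [← Matrix.trace_eq_sum_roots_charpoly, hGc]
        simp [Matrix.trace_fin_two, Matrix.map_apply]
      have h2 : ‖(G.trace : ℂ)‖ ≤ 2 := by
        rw [h1]
        refine (norm_multiset_sum_le _).trans ?_
        rw [Multiset.map_congr rfl hroot, Multiset.map_const', Multiset.sum_replicate, nsmul_one]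
        have : Multiset.card Gc.charpoly.roots ≤ 2 := by
          refine (Polynomial.card_roots' _).trans ?_
          rw [Matrix.charpoly_natDegree_eq_dim, Fintype.card_fin]
        exact_mod_cast this
      rw [Complex.norm_intCast] at h2
      exact_mod_cast h2
    have hdet1 : |G.det| = 1 := Int.isUnit_iff_abs_eq.1 ((Matrix.isUnit_iff_isUnit_det G).1 γ.isUnit)
    have hformula : (G - 1).det = G.det - G.trace + 1 := by
      simp [Matrix.det_fin_two, Matrix.trace_fin_two, Matrix.sub_apply]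
      ring
    have hdvd : (d : ℤ) ∣ (G - 1).det := by
      rw [← ZMod.intCast_zmod_eq_zero_iff_dvd]
      set M := (G - 1).map (Int.castRingHom (ZMod d)) with hM
      have hMw : M *ᵥ w = 0 := by
        rw [hM, Matrix.map_sub _ (map_sub _), Matrix.map_one _ (map_zero _) (map_one _),
          Matrix.sub_mulVec, Matrix.one_mulVec, hfix γ hγ, sub_self]
      have h0 : M.det • w = 0 := by
        rw [← Matrix.one_mulVec w, ← Matrix.smul_mulVec, ← Matrix.adjugate_mul, ← Matrix.mulVec_mulVec,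
          hMw, Matrix.mulVec_zero]
      have h2 : M.det = 0 := by
        by_contra hne
        refine hw M.det.val (Nat.pos_of_ne_zero (fun h => hne ((ZMod.val_eq_zero _).1 h))) (ZMod.val_lt _) ?_
        rw [← Nat.cast_smul_eq_nsmul (ZMod d), ZMod.natCast_zmod_val]
        exact h0
      rwa [hM, ← RingHom.mapMatrix_apply, ← RingHom.map_det] at h2
    refine Int.eq_zero_of_abs_lt_dvd hdvd ?_
    rw [hformula]
    rw [abs_le] at htr
    have := (abs_eq (by norm_num : (0:ℤ) ≤ 1)).1 hdet1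
    rw [abs_lt]
    rcases this with h | h <;> rw [h] <;> omega
  have hone : ∀ γ ∈ Γ, (γ : Matrix (Fin 2) (Fin 2) ℤ).det = 1 → γ = 1 := by
    intro γ hγ hd1
    set G := (γ : Matrix (Fin 2) (Fin 2) ℤ) with hG
    have h0 := hdet γ hγ
    rw [← hG, Matrix.det_fin_two] at h0
    rw [Matrix.det_fin_two] at hd1
    simp [Matrix.sub_apply] at h0
    have h11 : G 1 1 = 2 - G 0 0 := by linarith
    rw [h11] at hd1
    have hsq : (G - 1) * (G - 1) = 0 := by
      ext i j
      fin_cases i <;> fin_cases j <;>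
        simp [Matrix.mul_apply, Fin.sum_univ_two, Matrix.sub_apply, h11] <;> nlinarith
    have hpow : ∀ n : ℕ, G ^ n = 1 + n • (G - 1) := by
      intro n
      induction n with
      | zero => simp
      | succ n ih =>
        calc G ^ (n + 1) = (1 + n • (G - 1)) * (1 + (G - 1)) := by
              rw [pow_succ, ih, add_sub_cancel]
          _ = 1 + n • (G - 1) + ((G - 1) + n • ((G - 1) * (G - 1))) := by
              rw [mul_add, mul_one, add_mul, one_mul, smul_mul_assoc]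
          _ = 1 + (n + 1) • (G - 1) := by rw [hsq, smul_zero, add_zero, succ_nsmul, add_assoc]
    obtain ⟨N, hN, hγN⟩ : ∃ N : ℕ, 0 < N ∧ G ^ N = 1 := by
      refine ⟨orderOf γ, ?_, ?_⟩
      · rw [← Subgroup.orderOf_mk γ hγ]; exact orderOf_pos _
      · rw [hG, ← Units.val_pow_eq_pow_val, pow_orderOf_eq_one]; rfl
    rw [hpow, add_eq_left] at hγN
    refine Units.ext ?_
    show G = 1
    rw [← sub_eq_zero]
    rw [← Nat.cast_smul_eq_nsmul ℤ] at hγN
    exact (smul_eq_zero.1 hγN).resolve_left (by exact_mod_cast hN.ne')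
  by_cases hall : ∀ γ ∈ Γ, γ = 1
  · refine ⟨![1, 0], by simp, fun γ hγ => ?_⟩
    rw [hall γ hγ]
    simp
  push Not at hall
  obtain ⟨γ₀, hγ₀, hne⟩ := hall
  obtain ⟨v, hv0, hv⟩ := Matrix.exists_mulVec_eq_zero_iff.2 (hdet γ₀ hγ₀)
  rw [Matrix.sub_mulVec, Matrix.one_mulVec, sub_eq_zero] at hv
  refine ⟨v, hv0, fun γ hγ => ?_⟩
  have hunit : ∀ δ : Matrix.GeneralLinearGroup (Fin 2) ℤ, (δ : Matrix (Fin 2) (Fin 2) ℤ).det = 1 ∨
      (δ : Matrix (Fin 2) (Fin 2) ℤ).det = -1 := fun δ =>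
    Int.isUnit_iff.1 ((Matrix.isUnit_iff_isUnit_det _).1 δ.isUnit)
  rcases hunit γ with h | h
  · rw [hone γ hγ h]; simp
  · have h0 : (γ₀ : Matrix (Fin 2) (Fin 2) ℤ).det = -1 :=
      (hunit γ₀).resolve_left fun h' => hne (hone γ₀ hγ₀ h')
    have hprod : γ * γ₀ = 1 := hone _ (mul_mem hγ hγ₀) (by rw [Units.val_mul, Matrix.det_mul, h, h0]; norm_num)
    have h3 : (γ : Matrix (Fin 2) (Fin 2) ℤ) * (γ₀ : Matrix (Fin 2) (Fin 2) ℤ) = 1 :=
      congrArg Units.val hprod
    conv_lhs => rw [← hv]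
    rw [Matrix.mulVec_mulVec, h3, Matrix.one_mulVec]

end Groth.Agent.S15163
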