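import Groth.Statements.S15164
import Mathlib


-- import your own Groth.Agent.* helpers here

set_option autoImplicit false
universe u v
open BddFin

namespace Groth.Agent.S15164

/-- Let K be a field of characteristic p > 2, V a finite-dimensional K-vector space and q a quadratic
form on V that does not represent zero (q x = 0 only for x = 0). Then the group of K-linear
automorphisms of V preserving q has no element of order p: if g preserves q and g ^ p = 1 then g =
1. (Non-degeneracy of q, also assumed in the published statement, follows from anisotropy since 2 is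
invertible, so it is not repeated here.) -/
theorem result
    (K : Type u) [Field K] (p : ℕ) [Fact p.Prime] [CharP K p] (hp : p ≠ 2)
    (V : Type v) [AddCommGroup V] [Module K V] [FiniteDimensional K V]
    (q : QuadraticForm K V) (hq : q.Anisotropic)
    (g : V ≃ₗ[K] V) (hg : ∀ x : V, q (g x) = q x) (hgp : g ^ p = 1) : g = 1 := by
  have hp3 : (2 : K) ≠ 0 := by
    intro h
    have h2 : p ∣ 2 := (CharP.cast_eq_zero_iff K p 2).mp (by exact_mod_cast h)
    exact hp ((Nat.prime_dvd_prime_iff_eq Fact.out Nat.prime_two).mp h2)
  let D : Module.End K V := (g : V →ₗ[K] V) - 1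
  haveI : Fact (ringExpChar K = p) := ⟨ringExpChar.eq K p⟩
  have hgpow : (g : V →ₗ[K] V) ^ p = 1 := by
    rw [← LinearEquiv.automorphismGroup.toLinearMapMonoidHom_apply, ← map_pow, hgp, map_one]
  have hD : D ^ p = 0 := by
    rcases subsingleton_or_nontrivial V with hV | hV
    · exact LinearMap.ext fun x => Subsingleton.elim _ _
    haveI : CharP (Module.End K V) p :=
      charP_of_injective_algebraMap (algebraMap K (Module.End K V)).injective p
    rw [sub_pow_char_of_commute p (Commute.one_right _), hgpow, one_pow, sub_self]
  by_contra hne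
  have hD0 : D ≠ 0 := fun h => hne (LinearEquiv.ext fun x => by
    have := LinearMap.congr_fun h x
    simp [D, sub_eq_zero] at this
    simpa using this)
  obtain ⟨m, hm1, hm2⟩ : ∃ m, D ^ (m + 1) ≠ 0 ∧ D ^ (m + 2) = 0 := by
    have hex : ∃ m, D ^ (m + 1) = 0 := ⟨p, by rw [pow_succ, hD, zero_mul]⟩
    classical
    have hpos : Nat.find hex ≠ 0 := fun h => hD0 (by have := Nat.find_spec hex; rwa [h, zero_add, pow_one] at this)
    refine ⟨Nat.find hex - 1, ?_, ?_⟩
    · exact Nat.find_min hex (by omega)
    · have := Nat.find_spec hex
      rwa [show Nat.find hex - 1 + 2 = Nat.find hex + 1 by omega]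
  obtain ⟨u, hu⟩ : ∃ u, (D ^ (m + 1)) u ≠ 0 := by
    by_contra h; push Not at h; exact hm1 (LinearMap.ext h)
  let v := (D ^ m) u
  let w := (D ^ (m + 1)) u
  have hw : g v = v + w := by
    have : w = D v := by simp only [w, v, pow_succ']; rfl
    rw [this]; simp [D]
  have hgw : g w = w := by
    have h : D w = 0 := by
      have := LinearMap.congr_fun hm2 u
      rw [pow_succ'] at this
      exact this
    simpa [D, sub_eq_zero] using h
  have e1 := hg v
  rw [hw] at e1
  have e2 := hg (v + w)
  rw [map_add, hw, hgw] at e2
  have hq1 : q (v + w) = q v + q w + QuadraticMap.polar q v w := by rw [QuadraticMap.polar]; ring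
  have hq2 : q (v + w + w) = q v + 2 * 2 * q w + 2 * QuadraticMap.polar q v w := by
    have h := QuadraticMap.map_add q v ((2 : K) • w)
    rw [QuadraticMap.map_smul, QuadraticMap.polar_smul_right, smul_eq_mul, smul_eq_mul] at h
    rw [add_assoc, ← two_smul K w, h]
  have h0 : q w = 0 := by
    have : (2 : K) * q w = 0 := by linear_combination e2 - hq2 + e1 - 2 * (e1 - hq1) 
    exact (mul_eq_zero.mp this).resolve_left hp3
  exact hu (hq w h0)

end Groth.Agent.S15164
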