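import Groth.Statements.S15165
import Mathlib
import Mathlib
-- import your own Groth.Agent.* helpers here

set_option autoImplicit false
universe u v
open Polynomial
open BddFin

namespace Groth.Agent.S15165

/-- Let K be a field of characteristic different from 2 such that K contains all roots of unity (for
every n ≥ 1 the polynomial X^n − 1 splits into linear factors over K), V a finite-dimensional
K-vector space and q a quadratic form on V that does not represent zero. If a K-linear automorphism
g of V preserves q and has finite order (g ^ d = 1 for some d ≥ 1), then g ^ 2 = 1. (The published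
statement also covers perfect fields of characteristic 2; this row is the case of characteristic ≠
2.) -/
theorem result
    (K : Type u) [Field K] (hK : ∀ n : ℕ, 0 < n → (X ^ n - 1 : K[X]).Splits) (h2 : (2 : K) ≠ 0)
    (V : Type v) [AddCommGroup V] [Module K V] [FiniteDimensional K V]
    (q : QuadraticForm K V) (hq : q.Anisotropic)
    (g : V ≃ₗ[K] V) (hg : ∀ x : V, q (g x) = q x) (d : ℕ) (hd : 0 < d) (hgd : g ^ d = 1) :
    g ^ 2 = 1 := by
  classical
  have hchar := h2
  have h4 : ∀ (c : K) (v : V), q (c • v) = c * c * q v := fun c v => QuadraticMap.map_smul q c v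
  -- eigenvalues
  have hev : ∀ r : K, r ^ 2 ≠ 1 → Function.Injective (aeval (g : V →ₗ[K] V) (X - C r)) := by
    intro r hr
    refine (injective_iff_map_eq_zero _).2 fun v hv => hq v ?_
    rw [map_sub, aeval_X, aeval_C, LinearMap.sub_apply, Module.algebraMap_end_apply, sub_eq_zero] at hv
    have h := hg v
    rw [show g v = r • v from hv, h4] at h
    by_contra hne
    exact hr (by rw [pow_two]; exact mul_right_cancel₀ hne (h.trans (one_mul _).symm))
  let T : V →ₗ[K] V := (g : V →ₗ[K] V)
  have hpow : ∀ (n : ℕ) (v : V), (T ^ n) v = (g ^ n : V ≃ₗ[K] V) v := by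
    intro n
    induction n with
    | zero => intro v; rfl
    | succ n ih => intro v; rw [pow_succ, pow_succ]; exact ih (g v)
  have key : ∀ s : Multiset K, Function.Injective (aeval T ((s.filter fun r => r ^ 2 ≠ 1).map fun r => X - C r).prod) := by
    intro s
    induction s using Multiset.induction_on with
    | empty => rw [Multiset.filter_zero, Multiset.map_zero, Multiset.prod_zero, map_one]; exact fun _ _ h => h
    | cons r s ih =>
      by_cases hr : r ^ 2 ≠ 1
      · rw [Multiset.filter_cons_of_pos (p := fun r : K => r ^ 2 ≠ 1) _ hr, Multiset.map_cons, Multiset.prod_cons, map_mul]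
        exact (hev r hr).comp ih
      · rwa [Multiset.filter_cons_of_neg (p := fun r : K => r ^ 2 ≠ 1) _ hr]
  set P : K[X] := X ^ d - 1 with hP
  have hmon : P.Monic := by rw [hP, ← C_1]; exact monic_X_pow_sub_C 1 hd.ne'
  have hprod := (hK d hd).eq_prod_roots_of_monic hmon
  set s := P.roots
  have hzero : aeval T P = 0 := by
    ext v
    rw [hP, map_sub, map_pow, aeval_X, map_one, LinearMap.sub_apply, hpow, hgd, LinearMap.zero_apply]
    exact sub_self v
  rw [← Multiset.filter_add_not (fun r => r ^ 2 ≠ 1) s, Multiset.map_add, Multiset.prod_add] at hprod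
  set u := s.filter fun r => ¬ r ^ 2 ≠ 1 with hu
  have hdvd : (u.map fun r => X - C r).prod ∣ (X ^ 2 - 1 : K[X]) ^ Multiset.card u := by
    rw [← Multiset.card_map (fun r => X - C r) u, ← Multiset.prod_replicate, ← Multiset.map_const, Multiset.map_map]
    refine Multiset.prod_dvd_prod_of_dvd _ _ fun r hr => ?_
    rw [dvd_iff_isRoot]
    have : r ^ 2 = 1 := not_not.1 (Multiset.mem_filter.1 hr).2
    simp [this]
  have hnil : ((T ^ 2 - 1 : Module.End K V) ^ Multiset.card u) = 0 := by
    obtain ⟨w, hw⟩ := hdvd
    have hu0 : aeval T ((u.map fun r => X - C r).prod) = 0 := by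
      refine LinearMap.ext fun v => key s ?_
      rw [LinearMap.zero_apply, map_zero, ← Module.End.mul_apply, ← map_mul, ← hprod, hzero, LinearMap.zero_apply]
    have := congrArg (aeval T) hw
    rw [map_mul, hu0, zero_mul, map_pow, map_sub, map_pow, aeval_X, map_one] at this
    exact this
  have hN : ∀ (k : ℕ) (v : V), ((T ^ 2 - 1 : Module.End K V) ^ k) v = 0 → (T ^ 2 - 1 : Module.End K V) v = 0 := by
    intro k
    induction k with
    | zero =>
      intro v hv
      rw [pow_zero, Module.End.one_apply] at hv
      rw [hv, map_zero]
    | succ k ih =>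
      intro v hv
      set w := v with hw
      have h2 : (T ^ 2 - 1 : Module.End K V) ((T ^ 2 - 1 : Module.End K V) v) = 0 := ih _ (by rwa [← Module.End.mul_apply, ← pow_succ])
      set b := (T ^ 2 - 1 : Module.End K V) v with hb
      have hTv : T (T v) = v + b := by
        rw [hb, LinearMap.sub_apply, pow_two, Module.End.mul_apply, Module.End.one_apply, add_sub_cancel]
      have hTb : T (T b) = b := by
        rw [LinearMap.sub_apply, pow_two, Module.End.mul_apply, Module.End.one_apply, sub_eq_zero] at h2
        exact h2
      have q1 : q (v + b) = q v := by rw [← hTv]; exact (hg _).trans (hg _)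
      have q2 : q (v + b + b) = q v := by
        have : T (T (v + b)) = v + b + b := by rw [map_add, map_add, hTv, hTb]
        rw [← this]; exact ((hg _).trans (hg _)).trans q1
      refine hq b ?_
      have e1 := QuadraticMap.map_add q v b
      have e2 := QuadraticMap.map_add q v ((2 : K) • b)
      rw [show v + (2 : K) • b = v + b + b by rw [two_smul, add_assoc], q2, QuadraticMap.polar_smul_right, h4,
        smul_eq_mul] at e2
      rw [q1] at e1
      refine (mul_eq_zero.1 (?_ : (2 : K) * q b = 0)).resolve_left hchar
      linear_combination (2 : K) * e1 - e2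
  refine LinearEquiv.ext fun v => ?_
  have h := hN (Multiset.card u) v (by rw [hnil]; rfl)
  rw [LinearMap.sub_apply, Module.End.one_apply, sub_eq_zero, hpow] at h
  exact h

end Groth.Agent.S15165
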