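import Groth.Statements.S15166
import Mathlib
import Groth.Agent.S15165
import Groth.Agent.InvolLib.Basic
-- import your own Groth.Agent.* helpers here

set_option autoImplicit false
universe u v
open Polynomial
open BddFin

namespace Groth.Agent.S15166

/-- Let K be a field of characteristic different from 2 such that K contains all roots of unity (for
every n ≥ 1 the polynomial X^n − 1 splits into linear factors over K), V a finite-dimensional
K-vector space and q a quadratic form on V that does not represent zero. Then every finite subgroup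
of the group of K-linear automorphisms of V preserving q is abelian and has order at most 2 ^ (dim
V). (The published statement also covers perfect fields of characteristic 2; this row is the case of
characteristic ≠ 2.) -/
theorem result
    (K : Type u) [Field K] (hK : ∀ n : ℕ, 0 < n → (X ^ n - 1 : K[X]).Splits) (h2 : (2 : K) ≠ 0)
    (V : Type v) [AddCommGroup V] [Module K V] [FiniteDimensional K V]
    (q : QuadraticForm K V) (hq : q.Anisotropic)
    (G : Subgroup (V ≃ₗ[K] V)) [Finite G] (hG : ∀ g ∈ G, ∀ x : V, q (g x) = q x) :
    (∀ g ∈ G, ∀ h ∈ G, g * h = h * g) ∧ Nat.card G ≤ 2 ^ Module.finrank K V := by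
  classical
  have hsq : ∀ g ∈ G, g ^ 2 = 1 := fun g hg => by
    haveI : Finite G := inferInstance
    obtain ⟨d, hd, hgd⟩ := (isOfFinOrder_of_finite (⟨g, hg⟩ : G)).exists_pow_eq_one
    exact S15165.result K hK h2 V q hq g (hG g hg) d hd (by simpa using congrArg Subtype.val hgd)
  have hcomm : ∀ g ∈ G, ∀ h ∈ G, g * h = h * g := by
    intro g hg h hh
    have e1 := hsq g hg
    have e2 := hsq h hh
    have e3 := hsq (g * h) (G.mul_mem hg hh)
    rw [pow_two] at e1 e2 e3
    have hginv : g⁻¹ = g := inv_eq_of_mul_eq_one_right e1
    have hhinv : h⁻¹ = h := inv_eq_of_mul_eq_one_right e2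
    rw [← inv_eq_of_mul_eq_one_right e3, mul_inv_rev, hginv, hhinv]
  refine ⟨hcomm, ?_⟩
  let F : G → (V →ₗ[K] V) := fun g => ((g : V ≃ₗ[K] V) : V →ₗ[K] V)
  have hF : Function.Injective F := fun a b h => Subtype.ext (LinearEquiv.toLinearMap_injective h)
  haveI := Fintype.ofFinite G
  have h := InvolLib.card_le h2 _ V rfl (Finset.univ.image F)
    (fun a ha => by
      obtain ⟨g, -, rfl⟩ := Finset.mem_image.1 ha
      refine LinearMap.ext fun x => ?_
      have := LinearEquiv.congr_fun (hsq g g.2) x
      rwa [pow_two] at this)
    (fun a ha b hb => by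
      obtain ⟨g, -, rfl⟩ := Finset.mem_image.1 ha
      obtain ⟨g', -, rfl⟩ := Finset.mem_image.1 hb
      exact LinearMap.ext fun x => LinearEquiv.congr_fun (hcomm g g.2 g' g'.2) x)
  rwa [Finset.card_image_of_injective _ hF, Finset.card_univ, ← Nat.card_eq_fintype_card] at h

end Groth.Agent.S15166
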