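import Groth.Statements.S15167
import Mathlib
import Groth.Agent.CSALib.RedNorm
import Groth.Agent.CSALib.Split
-- import your own Groth.Agent.* helpers here

set_option autoImplicit false
universe u v
open Polynomial
open BddFin

open scoped TensorProduct
namespace Groth.Agent.S15167

/-- Let K be a field such that K contains all roots of unity (for every n ≥ 1 the polynomial X^n − 1
splits into linear factors over K), A a central simple K-algebra of dimension n ^ 2, and x an
invertible element of A some power x ^ m (m ≥ 1) of which lies in K. Then there are a positive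
integer r dividing n and elements a_i of K such that the minimal polynomial of x over K is the
product of the polynomials X ^ r − a_i. -/
theorem result
    (K : Type u) [Field K] (hK : ∀ n : ℕ, 0 < n → (X ^ n - 1 : K[X]).Splits)
    (A : Type v) [Ring A] [Algebra K A] [Algebra.IsCentral K A] [IsSimpleRing A] [FiniteDimensional K A]
    (n : ℕ) (hn : Module.finrank K A = n ^ 2)
    (x : A) (hx : IsUnit x) (hxm : ∃ m : ℕ, 0 < m ∧ x ^ m ∈ (algebraMap K A).range) :
    ∃ r : ℕ, 0 < r ∧ r ∣ n ∧ ∃ s : Multiset K, minpoly K x = (s.map fun a : K => X ^ r - C a).prod := by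
  classical
  obtain ⟨m, hm, c, hc⟩ := hxm
  haveI : Nontrivial A := inferInstance
  have hc0 : c ≠ 0 := by
    intro h
    rw [h, map_zero] at hc
    exact (hx.pow m).ne_zero hc.symm
  let Ω := AlgebraicClosure K
  let ι := algebraMap K Ω
  have hroots : ∀ z : Ω, z ^ m = 1 → z ∈ Set.range ι := by
    intro z hz
    have hne : (X ^ m - 1 : K[X]) ≠ 0 := by simpa using (Polynomial.monic_X_pow_sub_C (1 : K) hm.ne').ne_zero
    obtain ⟨w, hw⟩ := (hK m hm).mem_range_of_isRoot hne (i := ι) (x := z) (by simp [hz])
    exact ⟨w, hw⟩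
  obtain ⟨θ₀, hθ₀⟩ := IsAlgClosed.exists_pow_nat_eq (ι c) hm
  have hex : ∃ i, 0 < i ∧ θ₀ ^ i ∈ Set.range ι := ⟨m, hm, c, hθ₀.symm⟩
  set r := Nat.find hex with hr
  obtain ⟨hr0, hrmem⟩ := Nat.find_spec hex
  have hι0 : ι c ≠ 0 := by rw [Ne, map_eq_zero]; exact hc0
  have hθ₀0 : θ₀ ≠ 0 := fun h => hι0 (by rw [← hθ₀, h, zero_pow hm.ne'])
  have hfac : ∀ g : K[X], g.Monic → Irreducible g → g ∣ X ^ m - C c → ∃ a : K, g = X ^ r - C a := by
    intro g hg hgirr hdvd
    obtain ⟨θ, hθ⟩ := IsAlgClosed.exists_aeval_eq_zero Ω g (Polynomial.degree_pos_of_irreducible hgirr).ne'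
    have hmin : g = minpoly K θ := minpoly.eq_of_irreducible_of_monic hgirr hθ hg
    have hroot : ∀ t : Ω, Polynomial.aeval t g = 0 → t ^ m = ι c := by
      intro t ht
      obtain ⟨q, hq⟩ := hdvd
      have := congrArg (Polynomial.aeval t) hq
      simp [ht, sub_eq_zero] at this
      exact this
    have hθm := hroot θ hθ
    have hθ0 : θ ≠ 0 := fun h => hι0 (by rw [← hθm, h, zero_pow hm.ne'])
    obtain ⟨z, hz⟩ := hroots (θ / θ₀) (by rw [div_pow, hθm, hθ₀, div_self hι0])
    have hz0 : z ≠ 0 := fun h => by
      rw [h, map_zero, eq_comm, div_eq_zero_iff] at hz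
      exact hz.elim hθ0 hθ₀0
    have hθeq : θ = ι z * θ₀ := by rw [hz, div_mul_cancel₀ _ hθ₀0]
    obtain ⟨a₀, ha₀⟩ := hrmem
    have hθr : θ ^ r = ι (z ^ r * a₀) := by rw [hθeq, mul_pow, map_mul, map_pow, ha₀]
    have hle1 : g.natDegree ≤ r := by
      have : g ∣ X ^ r - C (z ^ r * a₀) := by
        rw [hmin]; exact minpoly.dvd K θ (by simp [hθr, ι])
      exact (Polynomial.natDegree_le_of_dvd this (Polynomial.monic_X_pow_sub_C _ hr0.ne').ne_zero).trans
        (le_of_eq Polynomial.natDegree_X_pow_sub_C)
    set d := g.natDegree with hd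
    have hle2 : r ≤ d := by
      apply Nat.find_min' hex
      refine ⟨hgirr.natDegree_pos, ?_⟩
      have hsp : (g.map ι).Splits := IsAlgClosed.splits _
      have hprod := hsp.coeff_zero_eq_prod_roots_of_monic (hg.map ι)
      rw [Polynomial.natDegree_map, Polynomial.coeff_map] at hprod
      have hcard : Multiset.card (g.map ι).roots = d := by
        rw [← hsp.natDegree_eq_card_roots, Polynomial.natDegree_map]
      have hallroots : ∀ t ∈ (g.map ι).roots, t / θ ∈ Set.range ι := by
        intro t ht
        rw [Polynomial.mem_roots (hg.map ι).ne_zero, Polynomial.IsRoot.def, Polynomial.eval_map] at ht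
        exact hroots _ (by rw [div_pow, hroot t ht, hθm, div_self hι0])
      have hP : ∀ s : Multiset Ω, (∀ t ∈ s, t / θ ∈ Set.range ι) → ∃ u : K, s.prod = ι u * θ ^ Multiset.card s := by
        intro s
        induction s using Multiset.induction with
        | empty => intro _; exact ⟨1, by simp⟩
        | cons t s ih =>
          intro h
          obtain ⟨u, hu⟩ := ih fun t' ht' => h t' (Multiset.mem_cons_of_mem ht')
          obtain ⟨v, hv⟩ := h t (Multiset.mem_cons_self t s)
          refine ⟨v * u, ?_⟩
          have hv' : ι v * θ = t := by rw [hv, div_mul_cancel₀ _ hθ0]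
          rw [Multiset.prod_cons, hu, Multiset.card_cons, map_mul, pow_succ]
          linear_combination -(ι u * θ ^ Multiset.card s) * hv'
      obtain ⟨u, hu⟩ := hP _ hallroots
      rw [hu, hcard] at hprod
      have hg0 : g.coeff 0 ≠ 0 := by
        intro h0
        have hXg : X ∣ g := Polynomial.X_dvd_iff.mpr h0
        have h1 : (X : K[X]) ∣ X ^ m - C c := hXg.trans hdvd
        rw [Polynomial.X_dvd_iff] at h1
        simp [coeff_X_pow, hm.ne] at h1
        exact hc0 h1
      have hu0 : u ≠ 0 := fun h => hg0 (by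
        rw [h, map_zero, zero_mul, mul_zero, map_eq_zero] at hprod
        exact hprod)
      have hd' : θ ^ d = ι ((-1) ^ d * g.coeff 0 / u) := by
        rw [map_div₀, map_mul, map_pow, map_neg, map_one, eq_div_iff (by rwa [Ne, map_eq_zero]), hprod,
          ← mul_assoc, ← mul_pow, neg_one_mul, neg_neg, one_pow, one_mul, mul_comm]
      refine ⟨((-1) ^ d * g.coeff 0 / u) / z ^ d, ?_⟩
      rw [map_div₀, ← hd', map_pow, hθeq, mul_pow, mul_div_cancel_left₀ _ (pow_ne_zero _ (by rwa [Ne, map_eq_zero]))]
    have hdr : d = r := le_antisymm hle1 hle2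
    exact ⟨z ^ r * a₀, (Polynomial.eq_of_monic_of_dvd_of_natDegree_le hg (Polynomial.monic_X_pow_sub_C _ hr0.ne')
      (by rw [hmin]; exact minpoly.dvd K θ (by rw [map_sub, Polynomial.aeval_X_pow, Polynomial.aeval_C, hθr, sub_self])) (by rw [Polynomial.natDegree_X_pow_sub_C]; omega)).symm⟩
  -- the minimal polynomial
  set μ := minpoly K x with hμdef
  have hint : IsIntegral K x := Algebra.IsIntegral.isIntegral x
  have hμdvd : μ ∣ X ^ m - C c := minpoly.dvd K x (by simp [hc])
  have hμfac : ∀ g ∈ UniqueFactorizationMonoid.normalizedFactors μ, ∃ a : K, g = X ^ r - C a := by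
    intro g hg
    have hirr := UniqueFactorizationMonoid.irreducible_of_normalized_factor g hg
    have hmon : g.Monic := by
      have := Polynomial.monic_normalize hirr.ne_zero
      rwa [UniqueFactorizationMonoid.normalize_normalized_factor g hg] at this
    exact hfac g hmon hirr ((UniqueFactorizationMonoid.dvd_of_mem_normalizedFactors hg).trans hμdvd)
  -- the reduced characteristic polynomial
  obtain ⟨L, _, _, hsplit⟩ := CSALib.exists_galois_splitting_field (k := K) A
  obtain ⟨n', hn', ⟨φ⟩⟩ := hsplit
  have hn'' : n' = n := by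
    have := (CSALib.card_eq_finrank φ).symm.trans hn
    exact Nat.pow_left_injective (by norm_num) this
  subst hn''
  set P := (φ (1 ⊗ₜ[K] x)).charpoly with hP
  have hPpow := CSALib.charpoly_mulLeft_map φ x
  have hPeq : ∀ σ : L ≃ₐ[K] L, P.map (σ : L →+* L) = P := by
    intro σ
    have h1 : (P.map (σ : L →+* L)) ^ n' = P ^ n' := by
      rw [← Polynomial.map_pow, hP, ← hPpow, Polynomial.map_map]
      congr 1
      exact RingHom.ext fun a => σ.commutes a
    have hm1 : (P.map (σ : L →+* L)).Monic := (Matrix.charpoly_monic _).map _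
    have h2 := congrArg UniqueFactorizationMonoid.normalizedFactors h1
    rw [UniqueFactorizationMonoid.normalizedFactors_pow, UniqueFactorizationMonoid.normalizedFactors_pow] at h2
    have h3 : UniqueFactorizationMonoid.normalizedFactors (P.map (σ : L →+* L)) = UniqueFactorizationMonoid.normalizedFactors P :=
      Multiset.ext.mpr fun a => by
        have h4 := congrArg (Multiset.count a) h2
        rw [Multiset.count_nsmul, Multiset.count_nsmul] at h4
        exact Nat.eq_of_mul_eq_mul_left (Nat.pos_of_ne_zero hn') h4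
    exact Polynomial.eq_of_monic_of_associated hm1 (Matrix.charpoly_monic _)
      ((UniqueFactorizationMonoid.associated_iff_normalizedFactors_eq_normalizedFactors hm1.ne_zero (Matrix.charpoly_monic _).ne_zero).mpr h3)
  obtain ⟨q, hq⟩ : P ∈ Polynomial.lifts (algebraMap K L) := by
    rw [Polynomial.lifts_iff_coeff_lifts]
    intro i
    rw [IsGalois.mem_range_algebraMap_iff_fixed]
    intro σ
    conv_rhs => rw [← hPeq σ, Polynomial.coeff_map]
    rfl
  have hqP : q.map (algebraMap K L) = P := hq
  have hqmon : q.Monic := Polynomial.monic_of_injective (algebraMap K L).injective (hqP ▸ Matrix.charpoly_monic _)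
  have hqdeg : q.natDegree = n' := by
    rw [← Polynomial.natDegree_map (algebraMap K L), hqP, hP, Matrix.charpoly_natDegree_eq_dim, Fintype.card_fin]
  let Λ := AlgebraicClosure L
  let ψ : A →ₐ[K] Matrix (Fin n') (Fin n') Λ :=
    ((IsScalarTower.toAlgHom K L Λ).mapMatrix).comp ((φ.toAlgHom.restrictScalars K).comp Algebra.TensorProduct.includeRight)
  have hψ : (ψ x).charpoly = q.map (algebraMap K Λ) := by
    rw [IsScalarTower.algebraMap_eq K L Λ, ← Polynomial.map_map, hqP, hP, ← Matrix.charpoly_map]
    rfl
  have hqfac : ∀ g ∈ UniqueFactorizationMonoid.normalizedFactors q, g.natDegree = r := by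
    intro g hg
    have hirr := UniqueFactorizationMonoid.irreducible_of_normalized_factor g hg
    have hmon : g.Monic := by
      have := Polynomial.monic_normalize hirr.ne_zero
      rwa [UniqueFactorizationMonoid.normalize_normalized_factor g hg] at this
    obtain ⟨t, ht⟩ := IsAlgClosed.exists_aeval_eq_zero Λ g (Polynomial.degree_pos_of_irreducible hirr).ne'
    have htq : (ψ x).charpoly.IsRoot t := by
      obtain ⟨w, hw⟩ := UniqueFactorizationMonoid.dvd_of_mem_normalizedFactors hg
      rw [hψ, Polynomial.IsRoot.def, Polynomial.eval_map, ← Polynomial.aeval_def, hw, map_mul, ht, zero_mul]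
    have hspec := Matrix.mem_spectrum_iff_isRoot_charpoly.mpr htq
    have h5 := spectrum.subset_polynomial_aeval (ψ x) (μ.map (algebraMap K Λ)) ⟨t, hspec, rfl⟩
    rw [Polynomial.aeval_map_algebraMap, Polynomial.aeval_algHom_apply, (minpoly.aeval K x : Polynomial.aeval x μ = 0), map_zero] at h5
    haveI : Nonempty (Fin n') := ⟨⟨0, Nat.pos_of_ne_zero hn'⟩⟩
    rw [spectrum.zero_eq, Set.mem_singleton_iff] at h5
    have hμt : Polynomial.aeval t μ = 0 := by
      rw [Polynomial.aeval_def, ← Polynomial.eval_map]
      exact h5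
    have hgμ : g ∣ μ := by
      rw [minpoly.eq_of_irreducible_of_monic hirr ht hmon]
      exact minpoly.dvd K t hμt
    obtain ⟨a, ha⟩ := hfac g hmon hirr (hgμ.trans hμdvd)
    rw [ha, Polynomial.natDegree_X_pow_sub_C]
  have hprodq : (UniqueFactorizationMonoid.normalizedFactors q).prod = q := by
    rw [UniqueFactorizationMonoid.prod_normalizedFactors_eq hqmon.ne_zero, hqmon.normalize_eq_self]
  refine ⟨r, hr0, ?_, ?_⟩
  · rw [← hqdeg, ← hprodq, Polynomial.natDegree_multiset_prod _ (UniqueFactorizationMonoid.zero_notMem_normalizedFactors q)]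
    exact Multiset.dvd_sum fun d hd => by
      obtain ⟨g, hg, rfl⟩ := Multiset.mem_map.mp hd
      rw [hqfac g hg]
  · choose! a ha using hμfac
    refine ⟨(UniqueFactorizationMonoid.normalizedFactors μ).map a, ?_⟩
    rw [Multiset.map_map]
    calc μ = (UniqueFactorizationMonoid.normalizedFactors μ).prod := by
          rw [UniqueFactorizationMonoid.prod_normalizedFactors_eq (minpoly.ne_zero hint)]
          exact ((minpoly.monic hint).normalize_eq_self).symm
      _ = _ := by
          conv_lhs => rw [← Multiset.map_id' (UniqueFactorizationMonoid.normalizedFactors μ)]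
          exact congrArg Multiset.prod (Multiset.map_congr rfl fun g hg => ha g hg)

end Groth.Agent.S15167
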