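import Groth.Statements.S15168
import Groth.Agent.CSALib.Modules
import Groth.Agent.BddFinAS.DegTwoThree
-- import your own Groth.Agent.* helpers here

set_option autoImplicit false
universe u v
open Polynomial
open BddFin

namespace Groth.Agent.S15168


open Polynomial

theorem pow_natDegree_minpoly_mem {K : Type*} [Field K] (hK : ∀ n : ℕ, 0 < n → (X ^ n - 1 : K[X]).Splits)
    {A : Type*} [DivisionRing A] [Algebra K A] (x : A) (hx : IsIntegral K x) (m : ℕ) (hm : 0 < m)
    (c : K) (hc0 : c ≠ 0) (hc : x ^ m = algebraMap K A c) :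
    x ^ (minpoly K x).natDegree ∈ (algebraMap K A).range := by
  let Ω := AlgebraicClosure K
  let f := minpoly K x
  have hdvd : f ∣ X ^ m - C c := minpoly.dvd K x (by simp [hc])
  have hroot : ∀ s : Ω, aeval s f = 0 → s ^ m = algebraMap K Ω c := by
    intro s hs
    obtain ⟨g, hg⟩ := hdvd
    have := congrArg (aeval s) hg
    rw [map_mul, hs, zero_mul, map_sub, map_pow, aeval_X, aeval_C, sub_eq_zero] at this
    exact this
  obtain ⟨s₀, hs₀⟩ := IsAlgClosed.exists_aeval_eq_zero Ω f (minpoly.degree_pos hx).ne'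
  have hs₀ne : s₀ ≠ 0 := by
    intro h
    have := hroot s₀ hs₀
    rw [h, zero_pow hm.ne', eq_comm, map_eq_zero] at this
    exact hc0 this
  let S := (f.map (algebraMap K Ω)).roots
  have hsplit : (f.map (algebraMap K Ω)).Splits := IsAlgClosed.splits _
  have hcard : S.card = f.natDegree := by
    rw [← natDegree_map (algebraMap K Ω) (p := f)]
    exact (hsplit.natDegree_eq_card_roots).symm
  have hfrac : ∀ s ∈ S, s / s₀ ∈ (algebraMap K Ω).range := by
    intro s hs
    rw [mem_roots', IsRoot.def, eval_map_algebraMap] at hs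
    have h1 : (s / s₀) ^ m = 1 := by
      rw [div_pow, hroot s hs.2, hroot s₀ hs₀, div_self ((_root_.map_ne_zero _).2 hc0)]
    exact (hK m hm).mem_range_of_isRoot (X_pow_sub_C_ne_zero hm 1) (by simp [h1])
  obtain ⟨ξ, hξ⟩ : (S.map (fun s => s / s₀)).prod ∈ (algebraMap K Ω).range :=
    Subring.multiset_prod_mem _ _ fun t ht => by
      obtain ⟨s, hs, rfl⟩ := Multiset.mem_map.1 ht
      exact hfrac s hs
  have hprod := hsplit.coeff_zero_eq_prod_roots_of_monic ((minpoly.monic hx).map _)
  rw [natDegree_map, coeff_map] at hprod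
  have hS : S.prod = algebraMap K Ω ξ * s₀ ^ f.natDegree := by
    rw [hξ, ← hcard, ← Multiset.prod_replicate, ← Multiset.map_const', ← Multiset.prod_map_mul]
    conv_lhs => rw [← Multiset.map_id S]
    refine congrArg _ (Multiset.map_congr rfl fun s _ => ?_)
    exact (div_mul_cancel₀ _ hs₀ne).symm
  have hξ0 : ξ ≠ 0 := by
    rintro rfl
    rw [map_zero, eq_comm, Multiset.prod_eq_zero_iff, Multiset.mem_map] at hξ
    obtain ⟨s, hs, hs'⟩ := hξ
    rw [div_eq_zero_iff, or_iff_left hs₀ne] at hs'
    have := hroot s (by rw [mem_roots', IsRoot.def, eval_map_algebraMap] at hs; exact hs.2)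
    rw [hs', zero_pow hm.ne', eq_comm, map_eq_zero] at this
    exact hc0 this
  obtain ⟨q, hq⟩ : ∃ q : K, s₀ ^ f.natDegree = algebraMap K Ω q := by
    refine ⟨(-1) ^ f.natDegree * f.coeff 0 / ξ, ?_⟩
    rw [map_div₀, map_mul, map_pow, map_neg, map_one, hprod, ← mul_assoc, ← mul_pow, neg_one_mul, neg_neg,
      one_pow, one_mul, eq_div_iff ((_root_.map_ne_zero _).2 hξ0), mul_comm]
    exact hS.symm
  refine ⟨q, ?_⟩
  have hmin : f = minpoly K s₀ := minpoly.eq_of_irreducible_of_monic (minpoly.irreducible hx) hs₀ (minpoly.monic hx)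
  have hd : f ∣ X ^ f.natDegree - C q := by
    conv_lhs => rw [hmin]
    exact minpoly.dvd K s₀ (by simp [hq])
  obtain ⟨g, hg⟩ := hd
  have := congrArg (aeval x) hg
  rw [map_mul, minpoly.aeval, zero_mul, map_sub, map_pow, aeval_X, aeval_C, sub_eq_zero] at this
  exact this.symm


/-- Let K be a field such that K contains all roots of unity (for every n ≥ 1 the polynomial X^n − 1
splits into linear factors over K), A a central division algebra of dimension n ^ 2 over K, and x an
element of A some power x ^ m (m ≥ 1) of which lies in K. Then x ^ n lies in K; that is, the order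
of the class of x in the quotient of the unit group of A by that of K divides n. -/
theorem result
    (K : Type u) [Field K] (hK : ∀ n : ℕ, 0 < n → (X ^ n - 1 : K[X]).Splits)
    (A : Type v) [DivisionRing A] [Algebra K A] [Algebra.IsCentral K A] [FiniteDimensional K A]
    (n : ℕ) (hn : Module.finrank K A = n ^ 2)
    (x : A) (hxm : ∃ m : ℕ, 0 < m ∧ x ^ m ∈ (algebraMap K A).range) :
    x ^ n ∈ (algebraMap K A).range := by
  classical
  obtain ⟨m, hm, c, hc⟩ := hxm
  have hn0 : n ≠ 0 := by
    intro h
    rw [h, zero_pow two_ne_zero] at hn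
    exact Module.finrank_pos.ne' hn
  rcases eq_or_ne x 0 with rfl | hx0
  · rw [zero_pow hn0]
    exact zero_mem _
  have hc0 : c ≠ 0 := fun h => by
    rw [h, map_zero] at hc
    exact pow_ne_zero m hx0 hc.symm
  have hxi : IsIntegral K x := IsIntegral.of_finite K x
  let r := (minpoly K x).natDegree
  have hr : x ^ r ∈ (algebraMap K A).range := pow_natDegree_minpoly_mem hK x hxi m hm c hc0 hc.symm
  -- `r` divides the degree
  let L := Algebra.adjoin K {x}
  haveI : IsSimpleRing L := by
    letI := divisionRingOfFiniteDimensional K L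
    infer_instance
  haveI : Algebra.IsCentral K A := inferInstance
  obtain ⟨-, hC⟩ := CSALib.centralizer_simple_and_finrank (L.val)
  let Cs := Subalgebra.centralizer K (L.val.range : Set A)
  have hLC : ∀ l : L, (l : A) ∈ Cs := fun l => by
    refine (Subalgebra.mem_centralizer_iff K).2 ?_
    rintro _ ⟨b, rfl⟩
    exact (Algebra.commute_of_mem_adjoin_of_forall_mem_commute b.2 fun c hc => by
      rw [Set.mem_singleton_iff] at hc
      subst hc
      exact (Algebra.commute_of_mem_adjoin_self l.2).symm).eq.symm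
  let C' : Submodule L A :=
    { carrier := Cs
      add_mem' := fun ha hb => add_mem ha hb
      zero_mem' := zero_mem _
      smul_mem' := fun l a ha => mul_mem (hLC l) ha }
  letI := divisionRingOfFiniteDimensional K L
  have hdvd : Module.finrank K L ∣ Module.finrank K Cs :=
    ⟨Module.finrank L C', by
      rw [Module.finrank_mul_finrank K L C']
      exact ((LinearEquiv.ofEq (C'.restrictScalars K) Cs.toSubmodule (SetLike.ext fun _ => Iff.rfl)).finrank_eq).symm⟩
  have hrn : r ∣ n := by
    rw [← Nat.pow_dvd_pow_iff (two_ne_zero : (2 : ℕ) ≠ 0), ← hn, ← hC, sq]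
    have hLr : Module.finrank K L = r := BddFinASLib.finrank_adjoin_singleton x
    exact mul_dvd_mul (dvd_of_eq hLr.symm) (hLr ▸ hdvd)
  obtain ⟨t, rfl⟩ := hrn
  rw [pow_mul]
  exact pow_mem hr t


end Groth.Agent.S15168
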