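import Groth.Statements.S15169
import Mathlib.LinearAlgebra.FiniteDimensional.Basic
import Mathlib.FieldTheory.Separable
import Mathlib.Algebra.Polynomial.Expand
import Mathlib.FieldTheory.Minpoly.Field
import Mathlib.RingTheory.Adjoin.Basic
import Mathlib.Algebra.Algebra.Subalgebra.Tower
import Mathlib.RingTheory.IntegralDomain
import Mathlib.LinearAlgebra.Dimension.Free
import Mathlib.RingTheory.Algebraic.Integral
import Mathlib.Algebra.Algebra.Bilinear
import Mathlib.Algebra.Central.Defs
import Mathlib.Tactic.NoncommRing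
import Mathlib.RingTheory.Ideal.Quotient.Operations
import Mathlib.RingTheory.AdjoinRoot
import Mathlib.Algebra.CharP.Algebra
import Mathlib.Algebra.CharP.Lemmas
import Mathlib.RingTheory.Adjoin.PowerBasis
-- import your own Groth.Agent.* helpers here

set_option autoImplicit false
universe u v
open BddFin

namespace Groth.Agent.S15169

/-- (1) ⇒ (2): let K be a field with char K = p > 0 and A a central division K-algebra with dim_K A = p
^ 2. If some element of A is not separable over K, then there are v, u in A with v ^ p and u ^ p in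
K and v * u - u * v = 1 which generate A as a K-algebra. -/
theorem result
    (K : Type u) [Field K] (p : ℕ) [Fact p.Prime] [CharP K p]
    (A : Type v) [DivisionRing A] [Algebra K A] [Algebra.IsCentral K A] [FiniteDimensional K A]
    (hA : Module.finrank K A = p ^ 2) (h : ∃ v : A, ¬ IsSeparable K v) :
    ∃ v u : A, v ^ p ∈ (algebraMap K A).range ∧ u ^ p ∈ (algebraMap K A).range ∧ v * u - u * v = 1 ∧
      Algebra.adjoin K {v, u} = ⊤ := by
  classical
  have hp : p.Prime := Fact.out
  obtain ⟨v, hv⟩ := h
  -- dimensions of subalgebras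
  have hdim : ∀ B : Subalgebra K A, Module.finrank K B ∣ p ^ 2 ∧ (Module.finrank K B = p ^ 2 → B = ⊤) := fun B => by
    letI : DivisionRing B := divisionRingOfFiniteDimensional K B
    refine ⟨?_, fun h => Algebra.toSubmodule_eq_top.mp (Submodule.eq_top_of_finrank_eq (h.trans hA.symm))⟩
    exact ⟨Module.finrank B A, by rw [← hA, Module.finrank_mul_finrank K B A]⟩
  have hnc : ∀ B : Subalgebra K A, (∀ x ∈ B, ∀ y ∈ B, x * y = y * x) → Module.finrank K B ∣ p := fun B hB => by
    obtain ⟨i, hi, hBi⟩ := (Nat.dvd_prime_pow hp).mp (hdim B).1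
    rcases Nat.lt_or_ge i 2 with h2 | h2
    · rw [hBi]
      exact (pow_dvd_pow p (by omega : i ≤ 1)).trans (pow_one p).dvd
    have htop := (hdim B).2 (by rw [hBi, show i = 2 by omega])
    subst htop
    exfalso
    have hc : Subalgebra.center K A = ⊤ := eq_top_iff.mpr fun x _ => Subalgebra.mem_center_iff.mpr fun y => hB y trivial x trivial
    rw [eq_bot_iff.mpr (Algebra.IsCentral.out (K := K) (D := A))] at hc
    have h1 : Module.finrank K (⊥ : Subalgebra K A) = Module.finrank K (⊤ : Subalgebra K A) := by rw [hc]
    rw [Subalgebra.finrank_bot, (Subalgebra.topEquiv (R := K) (A := A)).toLinearEquiv.finrank_eq, hA] at h1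
    exact absurd h1.symm (Nat.one_lt_pow two_ne_zero hp.one_lt).ne'
  -- the minimal polynomial of `v`
  have hint : IsIntegral K v := Algebra.IsIntegral.isIntegral v
  have hirr := minpoly.irreducible hint
  have hadj : Module.finrank K (Algebra.adjoin K {v}) = (minpoly K v).natDegree := by
    rw [Algebra.adjoin_singleton_eq_range_aeval,
      ← (Ideal.quotientKerAlgEquivOfSurjective (f := (Polynomial.aeval (R := K) v).rangeRestrict) (AlgHom.rangeRestrict_surjective _)).toLinearEquiv.finrank_eq]
    have hk : RingHom.ker (Polynomial.aeval (R := K) v).rangeRestrict = Ideal.span {minpoly K v} := by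
      refine Eq.trans ?_ (minpoly.ker_aeval_eq_span_minpoly K v)
      ext g
      simp only [RingHom.mem_ker]
      exact Subtype.ext_iff
    exact (Ideal.quotientEquivAlgOfEq K hk).toLinearEquiv.finrank_eq.trans finrank_quotient_span_eq_natDegree
  have hdeg : (minpoly K v).natDegree ∣ p := by
    have hcomm : ∀ x ∈ Algebra.adjoin K {v}, ∀ y ∈ Algebra.adjoin K {v}, x * y = y * x := fun x hx y hy => by
      have := congrArg Subtype.val (mul_comm (⟨x, hx⟩ : Algebra.adjoin K {v}) ⟨y, hy⟩)
      exact this
    have := hnc _ hcomm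
    rwa [hadj] at this
  have hder : Polynomial.derivative (minpoly K v) = 0 := by
    by_contra h0
    exact hv ((Polynomial.separable_iff_derivative_ne_zero hirr).mpr h0)
  have hexp := Polynomial.expand_contract p hder hp.ne_zero
  have hd : (minpoly K v).natDegree = p := (Nat.dvd_prime hp).mp hdeg |>.resolve_left fun h1 => by
    rw [← hexp, Polynomial.natDegree_expand] at h1
    exact absurd (Nat.eq_one_of_mul_eq_one_left h1) hp.ne_one
  obtain ⟨a, b, hab⟩ : ∃ a b : K, Polynomial.contract p (minpoly K v) = Polynomial.C a * Polynomial.X + Polynomial.C b := by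
    refine ⟨_, _, Polynomial.eq_X_add_C_of_natDegree_le_one ?_⟩
    have := hd
    rw [← hexp, Polynomial.natDegree_expand] at this
    exact ((mul_eq_right₀ hp.ne_zero).mp this).le
  have hvp : v ^ p ∈ (algebraMap K A).range := by
    have h0 := minpoly.aeval K v
    rw [← hexp, hab] at h0
    simp only [map_add, map_mul, Polynomial.expand_C, Polynomial.expand_X, map_pow, Polynomial.aeval_C, Polynomial.aeval_X] at h0
    have ha : a ≠ 0 := fun ha => by
      have := hd
      rw [← hexp, Polynomial.natDegree_expand, hab, ha] at this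
      simp [hp.ne_zero.symm] at this
    refine ⟨-(b / a), ?_⟩
    have h1 : v ^ p = (algebraMap K A a)⁻¹ * -algebraMap K A b := by
      rw [← eq_neg_of_add_eq_zero_left h0, ← mul_assoc, inv_mul_cancel₀ (by simpa using ha), one_mul]
    rw [h1, ← map_inv₀, ← map_neg, ← map_mul]
    congr 1
    field_simp
  -- a commutator equal to one
  haveI : CharP A p := charP_of_injective_algebraMap (algebraMap K A).injective p
  let D : Module.End K A := LinearMap.mulLeft K v - LinearMap.mulRight K v
  have hD : ∀ x, D x = v * x - x * v := fun x => rfl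
  have hDp : D ^ p = 0 := by
    haveI : CharP (Module.End K A) p := charP_of_injective_algebraMap (algebraMap K (Module.End K A)).injective p
    obtain ⟨c, hc⟩ := hvp
    rw [show D ^ p = LinearMap.mulLeft K v ^ p - LinearMap.mulRight K v ^ p from
      sub_pow_char_of_commute p (LinearMap.commute_mulLeft_right v v), LinearMap.pow_mulLeft, LinearMap.pow_mulRight, ← hc]
    ext x
    simp [Algebra.commutes]
  have hD0 : D ≠ 0 := fun h0 => by
    have hvc : v ∈ Subalgebra.center K A := Subalgebra.mem_center_iff.mpr fun x => (sub_eq_zero.mp ((hD x).symm.trans (LinearMap.congr_fun h0 x))).symm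
    rw [eq_bot_iff.mpr (Algebra.IsCentral.out (K := K) (D := A)), Algebra.mem_bot] at hvc
    obtain ⟨c, rfl⟩ := hvc
    rw [minpoly.eq_X_sub_C, Polynomial.natDegree_X_sub_C] at hd
    exact hp.ne_one hd.symm
  obtain ⟨k, hk, hk'⟩ : ∃ k, D ^ (k + 1) ≠ 0 ∧ D ^ (k + 2) = 0 := by
    have hex : ∃ k, D ^ (k + 2) = 0 := ⟨p - 2, by rw [show p - 2 + 2 = p by have := hp.two_le; omega]; exact hDp⟩
    refine ⟨Nat.find hex, ?_, Nat.find_spec hex⟩
    rcases Nat.eq_zero_or_pos (Nat.find hex) with h0 | h0
    · rw [h0, zero_add, pow_one]; exact hD0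
    · have := Nat.find_min hex (Nat.sub_lt h0 one_pos)
      rwa [show Nat.find hex - 1 + 2 = Nat.find hex + 1 by omega] at this
  obtain ⟨z, hz⟩ : ∃ z, (D ^ (k + 1)) z ≠ 0 := by
    by_contra hall
    push Not at hall
    exact hk (LinearMap.ext hall)
  set x := (D ^ k) z
  set y := D x with hy
  have hy0 : y ≠ 0 := by rw [hy]; rwa [pow_succ', Module.End.mul_apply] at hz
  have hDy : v * y = y * v := by
    rw [← sub_eq_zero, ← hD, hy]
    have := LinearMap.congr_fun hk' z
    rw [pow_succ', pow_succ', Module.End.mul_apply, Module.End.mul_apply] at this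
    exact this
  let u := x * y⁻¹
  have hvu : v * u - u * v = 1 := by
    have hyi : v * y⁻¹ = y⁻¹ * v := (Commute.inv_right₀ (hDy : Commute v y)).eq
    show v * (x * y⁻¹) - x * y⁻¹ * v = 1
    rw [mul_assoc x, ← hyi, ← mul_assoc, ← mul_assoc, ← sub_mul, ← hD, ← hy, mul_inv_cancel₀ hy0]
  have hup : v * u ^ p = u ^ p * v := by
    have key : ∀ n : ℕ, v * u ^ n - u ^ n * v = (n : A) * u ^ (n - 1) := fun n => by
      induction n with
      | zero => simp
      | succ n ih =>
        rcases Nat.eq_zero_or_pos n with rfl | hn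
        · simpa using hvu
        calc v * u ^ (n + 1) - u ^ (n + 1) * v = (v * u ^ n - u ^ n * v) * u + u ^ n * (v * u - u * v) := by
              rw [pow_succ]; noncomm_ring
          _ = _ := by
              rw [ih, hvu, mul_one, mul_assoc, ← pow_succ, Nat.sub_add_cancel hn, Nat.add_sub_cancel, Nat.cast_succ, add_mul, one_mul]
    have := key p
    rwa [CharP.cast_eq_zero, zero_mul, sub_eq_zero] at this
  have htop : Algebra.adjoin K {v, u} = ⊤ := by
    set B := Algebra.adjoin K {v, u} with hB
    obtain ⟨i, hi, hBi⟩ := (Nat.dvd_prime_pow hp).mp (hdim B).1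
    rcases Nat.lt_or_ge i 2 with h2 | h2
    · exfalso
      have hle : Algebra.adjoin K {v} ≤ B := Algebra.adjoin_mono (by simp)
      have heq : Algebra.adjoin K {v} = B := by
        refine Subalgebra.toSubmodule_injective (Submodule.eq_of_le_of_finrank_le (fun z hz => hle hz) ?_)
        show Module.finrank K B ≤ Module.finrank K (Algebra.adjoin K {v})
        rw [hBi, hadj, hd]
        exact (Nat.pow_le_pow_right hp.pos (by omega : i ≤ 1)).trans (pow_one p).le
      have hu : u ∈ Algebra.adjoin K {v} := heq.symm ▸ Algebra.subset_adjoin (by simp)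
      have hcom := congrArg Subtype.val (mul_comm (⟨v, Algebra.self_mem_adjoin_singleton K v⟩ : Algebra.adjoin K {v}) ⟨u, hu⟩)
      simp only [MulMemClass.coe_mul] at hcom
      exact one_ne_zero (α := A) (hvu ▸ sub_eq_zero.mpr hcom)
    · exact (hdim B).2 (by rw [hBi, show i = 2 by omega])
  refine ⟨v, u, hvp, ?_, hvu, htop⟩
  have hc : u ^ p ∈ Subalgebra.center K A := Subalgebra.mem_center_iff.mpr fun z => by
    have hz : z ∈ Algebra.adjoin K {v, u} := htop ▸ Algebra.mem_top
    induction hz using Algebra.adjoin_induction with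
    | mem w hw =>
      rcases hw with rfl | rfl
      · exact hup
      · exact ((Commute.refl u).pow_right p).eq
    | algebraMap r => exact Algebra.commutes r _
    | add a b _ _ ha hb => rw [add_mul, mul_add, ha, hb]
    | mul a b _ _ ha hb => rw [mul_assoc, hb, ← mul_assoc, ha, mul_assoc]
  rw [eq_bot_iff.mpr (Algebra.IsCentral.out (K := K) (D := A)), Algebra.mem_bot] at hc
  exact hc

end Groth.Agent.S15169
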