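import Groth.Statements.S1517
import Groth.Agent.CSALib.Basic

set_option autoImplicit false
universe u
open Brauer

namespace Groth.Agent.S1517

/-- Let A be a ring with no nontrivial two-sided ideals and M a nonzero right ideal, viewed as a right
A-module with endomorphism ring A'. Then every A'-linear endomorphism of M is right multiplication
by exactly one element of A; that is, the natural map from A to the bicommutant of M is a bijection. -/
theorem result (A : Type u) [Ring A] [IsSimpleRing A]
    (M : Submodule Aᵐᵒᵖ A) (hM : M ≠ ⊥)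
    (g : Module.End (Module.End Aᵐᵒᵖ M) M) :
    ∃! a : A, ∀ m : M, (g m : A) = (m : A) * a := by
  let N : Ideal A := Submodule.span A (M : Set A)
  have hNr : ∀ z ∈ N, ∀ b : A, z * b ∈ N := fun z hz b => by
    induction hz using Submodule.span_induction with
    | mem m hm => exact Submodule.subset_span (M.smul_mem (MulOpposite.op b) hm)
    | zero => rw [zero_mul]; exact N.zero_mem
    | add p q _ _ hp hq => rw [add_mul]; exact N.add_mem hp hq
    | smul a p _ hp => rw [smul_eq_mul, mul_assoc]; exact N.mul_mem_left a hp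
  obtain ⟨m₀, hm₀, hm₀0⟩ := (Submodule.ne_bot_iff M).1 hM
  let J : TwoSidedIdeal A := TwoSidedIdeal.mk' (N : Set A) N.zero_mem
    (fun hx hy => N.add_mem hx hy) (fun hx => N.neg_mem hx)
    (fun hy => N.mul_mem_left _ hy) (fun hx => hNr _ hx _)
  have h1 : (1 : A) ∈ N := by
    have := IsSimpleRing.one_mem_of_ne_zero_mem J hm₀0
      ((TwoSidedIdeal.mem_mk' ..).2 (Submodule.subset_span hm₀))
    rwa [TwoSidedIdeal.mem_mk'] at this
  have hP : ∀ z ∈ N, ∃ c : A, ∀ (m : M) (hmem : (m : A) * z ∈ M),
      (g ⟨(m : A) * z, hmem⟩ : A) = (m : A) * c := by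
    intro z hz
    have hMr : ∀ (m : M) (b : A), (m : A) * b ∈ M := fun m b => M.smul_mem (MulOpposite.op b) m.2
    let lm : M → Module.End Aᵐᵒᵖ M := fun m =>
      { toFun := fun x => ⟨(m : A) * (x : A), hMr m x⟩
        map_add' := fun x y => Subtype.ext (mul_add _ _ _)
        map_smul' := fun a x => Subtype.ext (mul_assoc _ _ _).symm }
    induction hz using Submodule.span_induction with
    | mem x hx =>
      exact ⟨(g ⟨x, hx⟩ : A), fun m hmem => congrArg Subtype.val (g.map_smul (lm m) ⟨x, hx⟩)⟩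
    | zero =>
      refine ⟨0, fun m hmem => ?_⟩
      rw [show (⟨(m : A) * 0, hmem⟩ : M) = 0 from Subtype.ext (mul_zero _), map_zero, mul_zero]
      rfl
    | add p q _ _ hp hq =>
      obtain ⟨cp, hcp⟩ := hp
      obtain ⟨cq, hcq⟩ := hq
      refine ⟨cp + cq, fun m hmem => ?_⟩
      rw [show (⟨(m : A) * (p + q), hmem⟩ : M) = ⟨(m : A) * p, hMr m p⟩ + ⟨(m : A) * q, hMr m q⟩ from
        Subtype.ext (mul_add _ _ _), map_add, mul_add, ← hcp m, ← hcq m]
      rfl
    | smul a p _ hp =>
      obtain ⟨cp, hcp⟩ := hp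
      refine ⟨a * cp, fun m hmem => ?_⟩
      rw [show (⟨(m : A) * (a • p), hmem⟩ : M) = ⟨((⟨(m : A) * a, hMr m a⟩ : M) : A) * p,
        hMr ⟨(m : A) * a, hMr m a⟩ p⟩ from Subtype.ext (by simp [mul_assoc]), hcp, ← mul_assoc]
  obtain ⟨c, hc⟩ := hP 1 h1
  refine ⟨c, fun m => ?_, fun c' hc' => ?_⟩
  · have h := hc m (by rw [mul_one]; exact m.2)
    simpa using h
  · have hann : ∀ z ∈ N, z * (c' - c) = 0 := fun z hz => by
      induction hz using Submodule.span_induction with
      | mem m hm =>
        have h := hc ⟨m, hm⟩ (by simpa using hm)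
        simp only [mul_one] at h
        rw [mul_sub, ← hc' ⟨m, hm⟩, ← h, sub_self]
      | zero => rw [zero_mul]
      | add p q _ _ hp hq => rw [add_mul, hp, hq, add_zero]
      | smul a p _ hp => rw [smul_eq_mul, mul_assoc, hp, mul_zero]
    exact sub_eq_zero.1 ((one_mul _).symm.trans (hann 1 h1))

end Groth.Agent.S1517
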