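import Groth.Statements.S15170
import Mathlib
-- import your own Groth.Agent.* helpers here

set_option autoImplicit false
universe u v
open BddFin

namespace Groth.Agent.S15170


/-- (2) ⇒ (3): let K be a field with char K = p > 0 and A a central division K-algebra with dim_K A = p
^ 2. If v, u in A satisfy v ^ p ∈ K, u ^ p ∈ K and v * u - u * v = 1, then some Galois extension L
of K with [L : K] = p admits a K-algebra embedding into A (so A has a Galois subfield of degree p
over K). -/
theorem result
    (K : Type u) [Field K] (p : ℕ) [Fact p.Prime] [CharP K p]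
    (A : Type v) [DivisionRing A] [Algebra K A] [Algebra.IsCentral K A] [FiniteDimensional K A]
    (hA : Module.finrank K A = p ^ 2) (v u : A) (hv : v ^ p ∈ (algebraMap K A).range)
    (hu : u ^ p ∈ (algebraMap K A).range) (hvu : v * u - u * v = 1) :
    ∃ (L : Type v) (_ : Field L) (_ : Algebra K L), IsGalois K L ∧ Module.finrank K L = p ∧
      Nonempty (L →ₐ[K] A) := by
  classical
  have hv0 : v ≠ 0 := by
    rintro rfl
    simp at hvu
  let w := u * v
  have hvw : v * w * v⁻¹ = w + 1 := by
    have : v * w = (w + 1) * v := by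
      rw [add_mul, one_mul, ← mul_assoc, eq_add_of_sub_eq' hvu, add_mul, one_mul]
    rw [this, mul_assoc, mul_inv_cancel₀ hv0, mul_one]
  let σ : A →ₐ[K] A :=
    { toFun := fun x => v * x * v⁻¹
      map_one' := by rw [mul_one, mul_inv_cancel₀ hv0]
      map_mul' := fun x y => by simp only [mul_assoc, inv_mul_cancel_left₀ hv0]
      map_zero' := by rw [mul_zero, zero_mul]
      map_add' := fun x y => by rw [mul_add, add_mul]
      commutes' := fun r => by rw [← Algebra.commutes r v, mul_assoc, mul_inv_cancel₀ hv0, mul_one] }
  let L : Subalgebra K A := Algebra.adjoin K {w}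
  have hcomm : ∀ a b : L, a * b = b * a := fun a b => Subtype.ext
    (Algebra.commute_of_mem_adjoin_of_forall_mem_commute b.2 fun c hc => by
      rw [Set.mem_singleton_iff] at hc
      subst hc
      exact (Algebra.commute_of_mem_adjoin_self a.2).symm).eq
  letI : CommRing L := { (inferInstance : Ring L) with mul_comm := hcomm }
  haveI : FiniteDimensional K L := FiniteDimensional.finiteDimensional_submodule L.toSubmodule
  have hF : IsField L := isField_of_isIntegral_of_isField' (R := K) (Field.toIsField K)
  letI : Field L := hF.toField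
  let τ : L →ₐ[K] L := (σ.comp L.val).codRestrict L fun x => by
    have h : L.map σ ≤ L := by
      rw [AlgHom.map_adjoin, Algebra.adjoin_le_iff, Set.image_singleton, Set.singleton_subset_iff]
      show v * w * v⁻¹ ∈ L
      rw [hvw]
      exact add_mem (Algebra.self_mem_adjoin_singleton K w) (one_mem _)
    exact h ⟨x.1, x.2, rfl⟩
  let e : L ≃ₐ[K] L := AlgEquiv.ofBijective τ τ.bijective
  let wL : L := ⟨w, Algebra.self_mem_adjoin_singleton K w⟩
  have hτ : e wL = wL + 1 := Subtype.ext hvw
  have hpow : ∀ i : ℕ, (e ^ i) wL = wL + (i : L) := by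
    intro i
    induction i with
    | zero => simp
    | succ i ih => rw [pow_succ', AlgEquiv.mul_apply, ih, map_add, hτ, map_natCast, Nat.cast_succ]; ring
  haveI : CharP L p := charP_of_injective_algebraMap (algebraMap K L).injective p
  have hge : p ≤ Fintype.card (L ≃ₐ[K] L) := by
    refine le_trans (Fintype.card_fin p).ge (Fintype.card_le_of_injective (fun i : Fin p => e ^ (i : ℕ)) fun i j h => ?_)
    have h1 := congrArg (fun f : L ≃ₐ[K] L => f wL) h
    simp only [hpow, add_right_inj] at h1
    exact Fin.ext (CharP.natCast_injOn_Iio L p i.2 j.2 h1)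
  have hle : Fintype.card (L ≃ₐ[K] L) ≤ Module.finrank K L := AlgEquiv.card_le
  have hd : Module.finrank K L * Module.finrank L A = p ^ 2 :=
    (Module.finrank_mul_finrank K L A).trans hA
  have hne : Module.finrank K L ≠ p ^ 2 := by
    intro h
    have htop : L = ⊤ := Algebra.toSubmodule_eq_top.1 (Submodule.eq_top_of_finrank_eq (h.trans hA.symm))
    have := congrArg Subtype.val (hcomm ⟨v, htop ▸ Algebra.mem_top⟩ ⟨u, htop ▸ Algebra.mem_top⟩)
    simp only [Subalgebra.coe_mul] at this
    rw [this, sub_self] at hvu
    exact zero_ne_one hvu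
  have hp : p.Prime := Fact.out
  obtain ⟨k, hk, hk'⟩ := (Nat.dvd_prime_pow hp).1 (Dvd.intro _ hd)
  have hLp : Module.finrank K L = p := by
    match k, hk, hk' with
    | 0, _, h => rw [pow_zero] at h; have := hp.two_le; omega
    | 1, _, h => rwa [pow_one] at h
    | 2, _, h => exact absurd h hne
  have hcard : Fintype.card (L ≃ₐ[K] L) = Module.finrank K L := le_antisymm hle (hLp ▸ hge)
  exact ⟨L, inferInstance, inferInstance, IsGalois.of_card_aut_eq_finrank K L
    (by rw [Nat.card_eq_fintype_card]; exact hcard), hLp, ⟨L.val⟩⟩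


end Groth.Agent.S15170
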