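import Groth.Statements.S15171
import Groth.Agent.BddFinAS.Core

set_option autoImplicit false
universe u v w
open BddFin

namespace Groth.Agent.S15171

/-- (3) ⇒ (1): let K be a field with char K = p > 0 and A a central division K-algebra with dim_K A = p
^ 2. If some Galois extension L of K with [L : K] = p admits a K-algebra embedding into A, then some
element of A is not separable over K. -/
theorem result
    (K : Type u) [Field K] (p : ℕ) [Fact p.Prime] [CharP K p]
    (A : Type v) [DivisionRing A] [Algebra K A] [Algebra.IsCentral K A] [FiniteDimensional K A]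
    (hA : Module.finrank K A = p ^ 2) (L : Type w) [Field L] [Algebra K L] [IsGalois K L]
    (hL : Module.finrank K L = p) (ι : L →ₐ[K] A) :
    ∃ v : A, ¬ IsSeparable K v := by
  haveI : FiniteDimensional K L := Module.finite_of_finrank_pos (hL ▸ (Fact.out : p.Prime).pos)
  haveI : CharP L p := charP_of_injective_algebraMap (algebraMap K L).injective p
  have hp : p.Prime := Fact.out
  have hcard : Nat.card (L ≃ₐ[K] L) = p := hL ▸ IsGalois.card_aut_eq_finrank K L
  obtain ⟨σ, hσ⟩ : ∃ σ : L ≃ₐ[K] L, σ ≠ 1 := by
    have : Nontrivial (L ≃ₐ[K] L) := Finite.one_lt_card_iff_nontrivial.mp (hcard ▸ hp.one_lt)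
    exact exists_ne 1
  have hσp : σ ^ p = 1 := hcard ▸ pow_card_eq_one'
  -- δ = σ - 1
  let δ : Module.End K L := σ.toLinearMap - 1
  have hfix : ∀ y : L, σ y = y → y ∈ Set.range (algebraMap K L) := by
    intro y hy
    have htop : Subgroup.zpowers σ = ⊤ := zpowers_eq_top_of_prime_card hcard hσ
    refine (IsGalois.mem_range_algebraMap_iff_fixed y).mpr fun g => ?_
    obtain ⟨n, rfl⟩ : g ∈ Subgroup.zpowers σ := htop ▸ Subgroup.mem_top g
    exact MulAction.mem_stabilizer_iff.mp
      ((MulAction.stabilizer (L ≃ₐ[K] L) y).zpow_mem (MulAction.mem_stabilizer_iff.mpr hy) n)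
  haveI : CharP (Module.End K L) p :=
    charP_of_injective_algebraMap (algebraMap K (Module.End K L)).injective p
  have hnil : δ ^ p = 0 := by
    rw [sub_pow_char_of_commute p (Commute.one_right _), one_pow, sub_eq_zero]
    ext y
    have hpw : ∀ n : ℕ, (σ.toLinearMap ^ n) y = (σ ^ n) y := by
      intro n
      induction n with
      | zero => simp
      | succ n ih => rw [pow_succ', pow_succ']; simp [ih, AlgEquiv.mul_apply]
    simp [hpw, hσp]
  -- x with σ x = x + 1
  obtain ⟨x, hx⟩ : ∃ x : L, σ x = x + 1 := by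
    classical
    obtain ⟨w, hw⟩ : ∃ w, δ w ≠ 0 := by
      by_contra! h
      exact hσ (AlgEquiv.ext fun y => sub_eq_zero.mp (by simpa [δ] using h y))
    have hex : ∃ n, (δ ^ n) w = 0 := ⟨p, by simp [hnil]⟩
    have hN : 2 ≤ Nat.find hex := by
      refine (Nat.le_find_iff hex 2).mpr fun m hm => ?_
      interval_cases m
      · simp only [pow_zero, Module.End.one_apply]
        rintro rfl
        exact hw (map_zero _)
      · simpa using hw
    obtain ⟨n, hn⟩ : ∃ n, Nat.find hex = n + 2 := ⟨_, (Nat.sub_add_cancel hN).symm⟩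
    set v := (δ ^ n) w
    have hv1 : δ v ≠ 0 := by
      have := Nat.find_min hex (m := n + 1) (by omega)
      rwa [pow_succ', Module.End.mul_apply] at this
    have hv2 : δ (δ v) = 0 := by
      have := Nat.find_spec hex
      rwa [hn, pow_succ', pow_succ', Module.End.mul_apply, Module.End.mul_apply] at this
    obtain ⟨r, hr⟩ := hfix (δ v) (sub_eq_zero.mp (by simpa [δ] using hv2))
    refine ⟨v / δ v, ?_⟩
    have hσv : σ v = v + δ v := by simp [δ]
    rw [map_div₀, ← hr, AlgEquiv.commutes, hr, hσv, add_div, div_self hv1]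
  obtain ⟨a, ha⟩ := hfix (x ^ p - x) (by
    rw [map_sub, map_pow, hx, add_pow_char, one_pow, add_sub_add_right_eq_sub])
  have hdeg : (minpoly K x).natDegree = p := by
    refine ((Nat.dvd_prime hp).mp (hL ▸ minpoly.degree_dvd (IsIntegral.of_finite K x))).resolve_left ?_
    intro h
    obtain ⟨r, rfl⟩ := minpoly.natDegree_eq_one_iff.mp h
    simp at hx
  refine BddFinASLib.exists_not_isSeparable_of_artinSchreier p hA (ι x) a ?_ ?_
  · rw [← map_pow, ← map_sub, ← ha, AlgHom.commutes]
  · rw [minpoly.algHom_eq ι ι.toRingHom.injective, hdeg]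

end Groth.Agent.S15171
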