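import Groth.Statements.S15172
import Mathlib.LinearAlgebra.Lagrange
-- import your own Groth.Agent.* helpers here

set_option autoImplicit false
universe u v
open Polynomial
open BddFin

namespace Groth.Agent.S15172


/-- Let L be a field of characteristic p > 0 and s a finite subset of L containing 0 and closed under
addition (a finite additive subgroup). Then the polynomial f = ∏_{a ∈ s} (X - a) is additive: f (x +
y) = f x + f y for all x, y in any commutative L-algebra (equivalently, as an identity of
polynomials in two variables). -/
theorem result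
    (L : Type u) [Field L] (p : ℕ) [Fact p.Prime] [CharP L p] (s : Finset L) (h0 : (0 : L) ∈ s)
    (hadd : ∀ a ∈ s, ∀ b ∈ s, a + b ∈ s) (R : Type v) [CommRing R] [Algebra L R] (x y : R) :
    aeval (x + y) (∏ a ∈ s, (X - C a)) = aeval x (∏ a ∈ s, (X - C a)) + aeval y (∏ a ∈ s, (X - C a)) := by
  classical
  set f : L[X] := ∏ a ∈ s, (X - C a) with hf
  set fR : R[X] := f.map (algebraMap L R)
  have hroot : ∀ a ∈ s, f.eval a = 0 := fun a ha => by
    rw [hf, eval_prod]
    exact Finset.prod_eq_zero ha (by simp)
  have hperm : ∀ a ∈ s, f.comp (X + C a) = f := by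
    intro a ha
    have himg : s.image (fun b => b + a) = s := by
      refine Finset.eq_of_subset_of_card_le (fun x hx => ?_) ?_
      · obtain ⟨b, hb, rfl⟩ := Finset.mem_image.1 hx
        exact hadd b hb a ha
      · rw [Finset.card_image_of_injective _ (add_left_injective a)]
    rw [hf, prod_comp]
    conv_lhs => rw [← himg]
    rw [Finset.prod_image (fun x _ y _ h => add_left_injective a h)]
    refine Finset.prod_congr rfl fun b _ => ?_
    rw [sub_comp, X_comp, C_comp, map_add]
    ring
  -- the polynomial identity over `L[X]`
  have key : (f.map C).comp (X + C X) = f.map C + C f := by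
    refine eq_of_degrees_lt_of_eval_finset_eq (f := (f.map C).comp (X + C X) - f.map C) (g := C f)
      (s.image (C : L → L[X])) ?_ ?_ ?_ |>.trans rfl |> eq_add_of_sub_eq'
    · have hm : (f.map (C : L →+* L[X])).Monic := (monic_prod_of_monic _ _ fun a _ => monic_X_sub_C a).map _
      have hm2 : ((f.map (C : L →+* L[X])).comp (X + C X)).Monic := hm.comp_X_add_C X
      have hdeg : (f.map (C : L →+* L[X])).degree = (s.card : WithBot ℕ) := by
        rw [degree_map_eq_of_injective C_injective, hf, degree_prod]
        simp
      rw [Finset.card_image_of_injective _ C_injective]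
      by_cases h : (f.map C).comp (X + C X) - f.map C = 0
      · rw [h, degree_zero]
        exact WithBot.bot_lt_coe _
      · have hd : ((f.map (C : L →+* L[X])).comp (X + C X)).degree = (f.map (C : L →+* L[X])).degree := by
          rw [degree_eq_natDegree hm2.ne_zero, degree_eq_natDegree hm.ne_zero, natDegree_comp,
            natDegree_X_add_C, mul_one]
        exact (degree_sub_lt hd hm2.ne_zero (by rw [hm2.leadingCoeff, hm.leadingCoeff])).trans_eq
          (hd.trans hdeg)
    · rw [Finset.card_image_of_injective _ C_injective]
      exact degree_C_le.trans_lt (WithBot.coe_lt_coe.2 (Finset.card_pos.2 ⟨0, h0⟩))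
    · intro x hx
      obtain ⟨a, ha, rfl⟩ := Finset.mem_image.1 hx
      have h1 : ((f.map C).comp (X + C X)).eval (C a) = f := by
        rw [eval_comp, eval_add, eval_X, eval_C, eval_map, add_comm]
        exact hperm a ha
      rw [eval_sub, eval_C, h1, eval_map, eval₂_at_apply, hroot a ha, map_zero, sub_zero]
  have h := congrArg (fun g : L[X][X] => (g.map (aeval x : L[X] →ₐ[L] R).toRingHom).eval y) key
  simp only [Polynomial.map_add, map_comp, map_map, map_X, map_C, eval_add, eval_comp, eval_X, eval_C] at h
  have hc : ((aeval x : L[X] →ₐ[L] R).toRingHom).comp C = algebraMap L R :=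
    RingHom.ext fun a => aeval_C x a
  rw [hc] at h
  simp only [AlgHom.toRingHom_eq_coe, RingHom.coe_coe, aeval_X, eval_map_algebraMap] at h
  rw [add_comm x y, h, add_comm]


end Groth.Agent.S15172
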