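import Groth.Statements.S15173
import Mathlib

set_option autoImplicit false
set_option backward.isDefEq.respectTransparency false
set_option backward.isDefEq.respectTransparency.types false
set_option maxHeartbeats 1000000
set_option synthInstance.maxHeartbeats 400000
universe u v
open Polynomial
open BddFin

namespace Groth.Agent.S15173

/-- Let K be a field of characteristic p > 0 such that K contains all roots of unity (for every n ≥ 1
the polynomial X^n − 1 splits into linear factors over K), and A a finite-dimensional central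
division algebra over K. If A contains an element w not in K with w ^ p in K, then the quotient of
the unit group of A by that of K has unbounded finite subgroups: for every N there is a subgroup H
of the units of A containing the units of K as a subgroup of finite index greater than N. (The
published statement assumes only that some element of A is inseparable over K and passes at once to
a purely inseparable subfield of degree p; this row assumes an element generating such a subfield
directly, which is what the rest of the printed argument uses.) -/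
theorem result
    (K : Type u) [Field K] (p : ℕ) [Fact p.Prime] [CharP K p] (hK : ∀ n : ℕ, 0 < n → (X ^ n - 1 : K[X]).Splits)
    (A : Type v) [DivisionRing A] [Algebra K A] [Algebra.IsCentral K A] [FiniteDimensional K A]
    (w : A) (hw : w ^ p ∈ (algebraMap K A).range) (hwK : w ∉ (algebraMap K A).range) (N : ℕ) :
    ∃ H : Subgroup Aˣ, (Units.map (algebraMap K A : K →* A)).range ≤ H ∧
      N < ((Units.map (algebraMap K A : K →* A)).range).relIndex H := by
  classical
  -- the ground field is infinite
  have hKinf : Infinite K := by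
    refine ⟨fun hfin => ?_⟩
    haveI := Fintype.ofFinite K
    obtain ⟨m, hm, hcop⟩ : ∃ m, Fintype.card K < m ∧ ¬ p ∣ m :=
      ⟨p * Fintype.card K + 1, by nlinarith [(Fact.out : p.Prime).two_le, Fintype.card_pos (α := K)], fun h =>
        (Fact.out : p.Prime).one_lt.ne' (Nat.dvd_one.1 ((Nat.dvd_add_right (dvd_mul_right p _)).1 h))⟩
    have hm0 : (m : K) ≠ 0 := fun h => hcop ((CharP.cast_eq_zero_iff K p m).1 h)
    have hsep : (X ^ m - C (1 : K)).Separable := separable_X_pow_sub_C 1 hm0 one_ne_zero
    rw [map_one] at hsep
    have hcard : (X ^ m - 1 : K[X]).roots.card = m := by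
      rw [← (hK m (Nat.zero_lt_of_lt hm)).natDegree_eq_card_roots, ← map_one (C : K →+* K[X]), natDegree_X_pow_sub_C]
    have hle : (X ^ m - 1 : K[X]).roots.toFinset.card ≤ Fintype.card K := Finset.card_le_univ _
    rw [Multiset.toFinset_card_of_nodup (nodup_roots hsep), hcard] at hle
    omega
  -- the purely inseparable subfield
  let L : Subalgebra K A := Algebra.adjoin K {w}
  letI : CommRing L := Algebra.adjoinCommRingOfComm K (fun a ha b hb => by
    rw [Set.mem_singleton_iff] at ha hb; rw [ha, hb])
  haveI : CharP A p := charP_of_injective_algebraMap (algebraMap K A).injective p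
  haveI : CharP L p := (RingHom.charP_iff L.val.toRingHom Subtype.val_injective p).2 inferInstance
  have hpow : ∀ x : L, ∃ c : K, ((x ^ p : L) : A) = algebraMap K A c := by
    rintro ⟨x, hx⟩
    induction hx using Algebra.adjoin_induction with
    | mem x hx =>
      obtain ⟨c, hc⟩ := hw
      rw [Set.mem_singleton_iff] at hx
      refine ⟨c, ?_⟩
      show x ^ p = _
      rw [hx]; exact hc.symm
    | algebraMap r => exact ⟨r ^ p, by rw [SubmonoidClass.coe_pow, map_pow]⟩
    | add x y hx hy ihx ihy =>
      obtain ⟨c, hc⟩ := ihx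
      obtain ⟨d, hd⟩ := ihy
      refine ⟨c + d, ?_⟩
      rw [show (⟨x + y, add_mem hx hy⟩ : L) = ⟨x, hx⟩ + ⟨y, hy⟩ from rfl, add_pow_char, Subalgebra.coe_add, hc, hd,
        map_add]
    | mul x y hx hy ihx ihy =>
      obtain ⟨c, hc⟩ := ihx
      obtain ⟨d, hd⟩ := ihy
      refine ⟨c * d, ?_⟩
      rw [show (⟨x * y, mul_mem hx hy⟩ : L) = ⟨x, hx⟩ * ⟨y, hy⟩ from rfl, mul_pow, Subalgebra.coe_mul, hc, hd,
        map_mul]
  have hunit : ∀ x : L, (x : A) ≠ 0 → IsUnit x := by
    intro x hx
    obtain ⟨c, hc⟩ := hpow x
    have hc0 : c ≠ 0 := by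
      rintro rfl
      rw [map_zero, SubmonoidClass.coe_pow] at hc
      exact hx (pow_eq_zero_iff (Fact.out : p.Prime).ne_zero |>.1 hc)
    refine (isUnit_pow_iff (Fact.out : p.Prime).ne_zero).1 ?_
    have : x ^ p = algebraMap K L c := Subtype.ext hc
    rw [this]
    exact (isUnit_iff_ne_zero.2 hc0).map (algebraMap K L)
  let j : Lˣ →* Aˣ := Units.map (L.val : L →* A)
  have hj : Function.Injective j := Units.map_injective Subtype.val_injective
  let R : Subgroup Lˣ := (Units.map (algebraMap K L : K →* L)).range
  have hR : (Units.map (algebraMap K A : K →* A)).range = R.map j := by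
    rw [MonoidHom.map_range]
    exact congrArg MonoidHom.range (MonoidHom.ext fun c => Units.ext rfl)
  -- many classes
  let u : K → Lˣ := fun t => (hunit ⟨1 + t • w, add_mem (one_mem _) (Subalgebra.smul_mem _ (Algebra.self_mem_adjoin_singleton K w) t)⟩
    (fun h => hwK (by
      by_cases ht : t = 0
      · subst ht; simp at h
      · refine ⟨-t⁻¹, ?_⟩
        have h' : t • w = -1 := eq_neg_of_add_eq_zero_right h
        rw [Algebra.algebraMap_eq_smul_one, neg_smul, ← smul_neg, ← h', smul_smul, inv_mul_cancel₀ ht, one_smul]))).unit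
  have hu : ∀ t, ((u t : L) : A) = 1 + t • w := fun t => by simp [u]
  have hinj : Function.Injective fun t => (QuotientGroup.mk (u t) : Lˣ ⧸ R) := by
    intro s t hst
    obtain ⟨c, hc⟩ := QuotientGroup.eq.1 hst
    have h : (u t : L) = (u s : L) * algebraMap K L (c : K) := by
      have hcv : algebraMap K L (c : K) = (((u s)⁻¹ * u t : Lˣ) : L) := congrArg Units.val hc
      rw [hcv, ← Units.val_mul, mul_inv_cancel_left]
    have h' : (1 : A) + t • w = (1 + s • w) * algebraMap K A (c : K) := by
      rw [← hu, ← hu, h]; rfl
    rw [← Algebra.commutes, ← Algebra.smul_def, smul_add, smul_smul] at h'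
    by_contra hne
    by_cases hcs : t - (c : K) * s = 0
    · rw [sub_eq_zero.1 hcs, add_left_inj] at h'
      have hc1 : (c : K) = 1 := by
        apply (algebraMap K A).injective
        rw [map_one, Algebra.algebraMap_eq_smul_one, ← h']
      rw [hc1, one_mul, sub_eq_zero] at hcs
      exact hne hcs.symm
    · refine hwK ⟨((c : K) - 1) / (t - c * s), ?_⟩
      have e : (t - (c : K) * s) • w = ((c : K) - 1) • (1 : A) := by
        rw [sub_smul, sub_smul, one_smul, sub_eq_sub_iff_add_eq_add, add_comm]
        rw [h', add_comm]
      rw [Algebra.algebraMap_eq_smul_one, div_eq_inv_mul, ← smul_smul, ← e, smul_smul, inv_mul_cancel₀ hcs, one_smul]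
  obtain ⟨T, hT⟩ : ∃ T : Finset K, T.card = N + 1 := Infinite.exists_subset_card_eq K (N + 1)
  let S : Subgroup (Lˣ ⧸ R) := Subgroup.closure ↑(T.image fun t => (QuotientGroup.mk (u t) : Lˣ ⧸ R))
  haveI : Group.FG S := (Group.fg_iff_subgroup_fg S).2 ⟨_, rfl⟩
  have htors : ∀ x : Lˣ ⧸ R, x ^ p = 1 := by
    intro x
    induction x using QuotientGroup.induction_on with
    | H y =>
      rw [← QuotientGroup.mk_pow, QuotientGroup.eq_one_iff]
      obtain ⟨c, hc⟩ := hpow y.1
      have hc0 : c ≠ 0 := by
        rintro rfl
        rw [map_zero] at hc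
        exact (y ^ p).ne_zero (Subtype.ext hc)
      exact ⟨Units.mk0 c hc0, Units.ext (Subtype.ext hc.symm)⟩
  haveI : Finite S := CommGroup.finite_of_fg_isMulTorsion S
    (fun x => isOfFinOrder_iff_pow_eq_one.2 ⟨p, (Fact.out : p.Prime).pos, Subtype.ext (htors x.1)⟩)
  refine ⟨(S.comap (QuotientGroup.mk' R)).map j, hR ▸ Subgroup.map_mono ?_, ?_⟩
  · intro x hx
    rw [Subgroup.mem_comap, show QuotientGroup.mk' R x = 1 from (QuotientGroup.eq_one_iff x).2 hx]
    exact one_mem S
  rw [hR, Subgroup.relIndex_map_map_of_injective _ _ hj]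
  have hidx : R.relIndex (S.comap (QuotientGroup.mk' R)) = Nat.card S := by
    have h1 := Subgroup.relIndex_ker (K := S.comap (QuotientGroup.mk' R)) (QuotientGroup.mk' R)
    rwa [QuotientGroup.ker_mk', Subgroup.map_comap_eq_self_of_surjective (QuotientGroup.mk'_surjective R)] at h1
  rw [hidx]
  have hle : (T.image fun t => (QuotientGroup.mk (u t) : Lˣ ⧸ R)).card ≤ Nat.card S := by
    rw [← Nat.card_eq_finsetCard]
    exact Nat.card_le_card_of_injective (fun x => (⟨x.1, Subgroup.subset_closure (Finset.mem_coe.2 x.2)⟩ : S))
      fun a b h => Subtype.ext (congrArg (fun z : S => (z : Lˣ ⧸ R)) h)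
  rw [Finset.card_image_of_injective _ hinj, hT] at hle
  omega

end Groth.Agent.S15173
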