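import Groth.Statements.S15177
import Groth.Agent.UnipHopfLib.Filtration
import Groth.Agent.UnipHopfLib.Socle
import Groth.Agent.UnipHopfLib.Points


-- import your own Groth.Agent.* helpers here

set_option autoImplicit false
universe u v
open BddFin

namespace Groth.Agent.S15177

/-- Let K be a field and Γ a unipotent linear algebraic group over K, given here by its coordinate Hopf
algebra A (a finitely generated, formally smooth commutative Hopf algebra over K all of whose
non-zero finite-dimensional comodules have a non-zero fixed vector). Then the group Γ(K) of K-points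
(K-algebra maps A → K under convolution) has no non-trivial element of finite order coprime to the
characteristic of K: an element of finite order whose order is non-zero in K is the identity. -/
theorem result
    (K : Type u) [Field K] (A : Type v) [CommRing A] [HopfAlgebra K A] [Algebra.FiniteType K A]
    [Algebra.FormallySmooth K A] (hU : HopfRep.IsUnipotent K A)
    (g : WithConv (A →ₐ[K] K)) (hg : IsOfFinOrder g) (hcop : ((orderOf g : ℕ) : K) ≠ 0) : g = 1 := by
  open Groth.Agent.UnipHopf ComodLib in
  open scoped ComodLib in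
  have hK := exhaustive_of_isUnipotent hU
  set n := orderOf g with hn
  let x : ComodLib.Dual' K A := pointF g - 1
  have hpow : (1 + x) ^ n = 1 := by
    rw [add_sub_cancel, ← pointF_pow, hn, pow_orderOf_eq_one]
    rfl
  have hT : ∀ m : ℕ, ∃ T : ComodLib.Dual' K A, Commute x T ∧ (1 + x) ^ m = 1 + (m : K) • x + x ^ 2 * T := by
    intro m
    induction m with
    | zero => exact ⟨0, Commute.zero_right x, by simp⟩
    | succ m ih =>
      obtain ⟨T, hxT, hT⟩ := ih
      refine ⟨(m : K) • 1 + T + T * x, (((Commute.one_right x).smul_right _).add_right hxT).add_right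
        (hxT.mul_right (Commute.refl x)), ?_⟩
      rw [pow_succ, hT, Nat.cast_succ, add_smul, one_smul]
      simp only [mul_add, add_mul, mul_one, one_mul, smul_mul_assoc, mul_smul_comm, pow_two, mul_assoc]
      abel
  obtain ⟨T, hxT, hT⟩ := hT n
  rw [hpow, add_assoc, left_eq_add, ← eq_neg_iff_add_eq_zero] at hT
  let w : ComodLib.Dual' K A := -((n : K)⁻¹ • T)
  have hxw : Commute x w := (hxT.smul_right _).neg_right
  have hx : x = x ^ 2 * w := by
    show x = x ^ 2 * -((n : K)⁻¹ • T)
    calc x = (n : K)⁻¹ • ((n : K) • x) := by rw [smul_smul, inv_mul_cancel₀ hcop, one_smul]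
      _ = _ := by rw [hT, smul_neg, ← mul_smul_comm]; exact (mul_neg (α := WithConv (A →ₗ[K] K)) _ _).symm
  have hxj : ∀ j : ℕ, x = w ^ j * x ^ (j + 1) := by
    intro j
    induction j with
    | zero => simp
    | succ j ih =>
      calc x = w ^ j * x ^ (j + 1) := ih
        _ = w ^ j * (x ^ j * x) := by rw [pow_succ]
        _ = w ^ j * (x ^ j * (x ^ 2 * w)) := by rw [← hx]
        _ = w ^ j * (x ^ (j + 2) * w) := by rw [← mul_assoc (x ^ j), ← pow_add]
        _ = w ^ (j + 1) * x ^ (j + 1 + 1) := by rw [(hxw.pow_left _).eq, ← mul_assoc, ← pow_succ]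
  refine WithConv.ext (AlgHom.ext fun a => ?_)
  obtain ⟨m, hm⟩ := hK a
  have hxa : x a = 0 := by
    rw [hxj m, ← ComodLib.counit_smul, mul_smul]
    have h := pow_smul_mem_K x (point_sub_one g) (m + 1) 0 a (K_mono (by omega) hm)
    rw [K_zero, Submodule.mem_bot] at h
    rw [h, smul_zero, map_zero]
  have h1 : pointF g a - (1 : ComodLib.Dual' K A) a = 0 := hxa
  show g a = (1 : WithConv (A →ₐ[K] K)) a
  rw [AlgHom.convOne_apply]
  rw [sub_eq_zero, LinearMap.convOne_apply] at h1
  exact h1

end Groth.Agent.S15177
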