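import Groth.Statements.S15181
import Groth.Agent.RosCrossLib.Main
-- import your own Groth.Agent.* helpers here

set_option autoImplicit false
universe u
open CategoryTheory MonoidalCategory CartesianMonoidalCategory MonObj GrpObj AlgebraicGeometry
open BddFin

namespace Groth.Agent.S15181
open CategoryTheory.Limits
attribute [-instance] CategoryTheory.Hom.commGroup


/-- Let K be a field, G a K-group scheme isomorphic (as a group scheme) to 𝔾_a or to 𝔾_m, and X an
integral separated K-scheme of finite type with an action of G that is not the trivial action. Then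
X is birational over K to ℙ¹ × Y for some K-variety Y: there are an integral K-scheme Y locally of
finite type, a non-empty open subscheme U of X and an open subscheme V of the affine line over Y,
with U and V isomorphic over K. -/
theorem result
    (K : Type u) [Field K] (G X : Over (Spec (CommRingCat.of K))) [GrpObj G]
    (hG : Nonempty (Grp.mk G ≅ Grp.mk (Red.Ga (Spec (CommRingCat.of K)))) ∨
      Nonempty (Grp.mk G ≅ Grp.mk (Red.Gm (Spec (CommRingCat.of K)))))
    [IsIntegral X.left] [LocallyOfFiniteType X.hom] [QuasiCompact X.hom] [IsSeparated X.hom]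
    (a : AlgGrp.Action G X) (ha : a.act ≠ snd G X) :
    ∃ (Y : Over (Spec (CommRingCat.of K))) (_ : IsIntegral Y.left) (_ : LocallyOfFiniteType Y.hom)
      (U : X.left.Opens) (V : (𝔸(ULift.{u} (Fin 1); Y.left)).Opens), (U : Set X.left).Nonempty ∧
      Nonempty (Over.mk (U.ι ≫ X.hom) ≅
        Over.mk (V.ι ≫ (𝔸(ULift.{u} (Fin 1); Y.left) ↘ Y.left) ≫ Y.hom)) := by
  have main : ∃ (L : IntermediateField K (RosCrossLib.Kx X)) (s : RosCrossLib.Kx X),
      Transcendental L s ∧ IntermediateField.adjoin L {s} = ⊤ := by
    rcases hG with ⟨⟨e⟩⟩ | ⟨⟨e⟩⟩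
    · let θ : Red.Ga (Spec (CommRingCat.of K)) ≅ G := ((Grp.forget _).mapIso e).symm
      haveI : IsMonHom θ.hom := e.inv.hom.isMonHom_hom
      exact RosCrossLib.exists_cross_ga a θ ha
    · let θ : Red.Gm (Spec (CommRingCat.of K)) ≅ G := ((Grp.forget _).mapIso e).symm
      haveI : IsMonHom θ.hom := e.inv.hom.isMonHom_hom
      exact RosCrossLib.exists_cross_gm a θ ha
  obtain ⟨L, s, hs, htop⟩ := main
  exact RosCrossLib.exists_birational L s hs htop


end Groth.Agent.S15181
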