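import Groth.Statements.S15182
import Groth.Agent.UnipGaLib.Main
import Groth.Agent.OrbitClosureLib.Basic
import Groth.Agent.RosCrossLib.Main
-- import your own Groth.Agent.* helpers here

set_option autoImplicit false
universe u
open CategoryTheory MonoidalCategory CartesianMonoidalCategory MonObj GrpObj AlgebraicGeometry
open BddFin
open Groth.Agent

namespace Groth.Agent.S15182
open CategoryTheory.Limits
attribute [-instance] CategoryTheory.Hom.commGroup


/-- Let K be a perfect field, Γ a connected linear algebraic group over K (affine, smooth, connected, of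
finite type) which is not reductive, and X an integral separated K-scheme of finite type with a
faithful action of Γ (a point of Γ with values in a K-scheme T acting trivially on all points of X
over T is the identity). Then X is birational over K to ℙ¹ × Y for some K-variety Y: there are an
integral K-scheme Y locally of finite type, a non-empty open subscheme U of X and an open subscheme
V of the affine line over Y, with U and V isomorphic over K. -/
theorem result
    (K : Type u) [Field K] [PerfectField K] (Γ X : Over (Spec (CommRingCat.of K))) [GrpObj Γ]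
    [IsAffine Γ.left] [Smooth Γ.hom] [ConnectedSpace Γ.left] [LocallyOfFiniteType Γ.hom]
    (hnr : ¬ Red.IsReductive Γ)
    [IsIntegral X.left] [LocallyOfFiniteType X.hom] [QuasiCompact X.hom] [IsSeparated X.hom]
    (a : AlgGrp.Action Γ X)
    (hfaith : ∀ (T : Over (Spec (CommRingCat.of K))) (g : T ⟶ Γ),
      (∀ (T' : Over (Spec (CommRingCat.of K))) (f : T' ⟶ T) (x : T' ⟶ X), lift (f ≫ g) x ≫ a.act = x) → g = 1) :
    ∃ (Y : Over (Spec (CommRingCat.of K))) (_ : IsIntegral Y.left) (_ : LocallyOfFiniteType Y.hom)
      (U : X.left.Opens) (V : (𝔸(ULift.{u} (Fin 1); Y.left)).Opens), (U : Set X.left).Nonempty ∧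
      Nonempty (Over.mk (U.ι ≫ X.hom) ≅
        Over.mk (V.ι ≫ (𝔸(ULift.{u} (Fin 1); Y.left) ↘ Y.left) ≫ Y.hom)) := by
  obtain ⟨j, hj, hjc⟩ := Groth.Agent.UnipGa.exists_ga_of_not_isReductive Γ hnr
  haveI := hj; haveI := hjc
  haveI : Mono j := Over.mono_of_mono_left j
  have hb : (Groth.Agent.OrbitClosure.restrict a j).act ≠ snd _ X := fun h => by
    have h1 : j = 1 := hfaith _ j fun T' f x => by
      rw [← lift_whiskerRight_assoc]
      exact (congrArg (lift f x ≫ ·) h).trans (lift_snd f x)
    exact Groth.Agent.VecGrp.not_const_of_mono j η[Γ] (h1.trans (Hom.one_def ..))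
  haveI : IsMonHom (Iso.refl (Red.Ga (Spec (CommRingCat.of K)))).hom :=
    inferInstanceAs (IsMonHom (𝟙 (Red.Ga (Spec (CommRingCat.of K)))))
  obtain ⟨L, s, hs, htop⟩ := RosCrossLib.exists_cross_ga (Groth.Agent.OrbitClosure.restrict a j) (Iso.refl _) hb
  exact RosCrossLib.exists_birational L s hs htop


end Groth.Agent.S15182
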