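import Groth.Statements.S15185
import Mathlib
import Mathlib
-- import your own Groth.Agent.* helpers here

set_option autoImplicit false
universe u v
open Polynomial
open BddFin

open scoped TensorProduct

namespace Groth.Agent.S15185

/-- Let K be a field of characteristic p > 0 such that K contains all roots of unity (for every n ≥ 1
the polynomial X^n − 1 splits into linear factors over K), A a central division algebra of dimension
n ^ 2 over K, and write n = n' · p ^ m with n' prime to p; let N be the reduced norm of A. Consider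
the kernel of the homomorphism from the units of A modulo those of K to Kˣ/(Kˣ)^(p^m) induced by N.
Every element of finite order of that kernel has order dividing n': if x ≠ 0 in A has x ^ r in K for
some r ≥ 1 and N x is a (p ^ m)-th power of a non-zero element of K, then x ^ n' lies in K. -/
theorem result
    (K : Type u) [Field K] (p : ℕ) [Fact p.Prime] [CharP K p] (hK : ∀ n : ℕ, 0 < n → (X ^ n - 1 : K[X]).Splits)
    (A : Type v) [DivisionRing A] [Algebra K A] [Algebra.IsCentral K A] [FiniteDimensional K A]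
    (n n' m : ℕ) (hA : Module.finrank K A = n ^ 2) (hn : n = n' * p ^ m) (hn' : ¬ p ∣ n')
    (N : A →* K) (hN : CSAGal.IsRedNorm K A N)
    (x : A) (hx : x ≠ 0) (hxr : ∃ r : ℕ, 0 < r ∧ x ^ r ∈ (algebraMap K A).range)
    (hNx : ∃ b : K, b ≠ 0 ∧ N x = b ^ (p ^ m)) :
    x ^ n' ∈ (algebraMap K A).range := by
  classical
  obtain ⟨K', iK, iA, iF, n0, φ, hφ⟩ := hN
  have hn0 : n0 = n := by
    have h1 := φ.toLinearEquiv.finrank_eq
    rw [Module.finrank_baseChange, Module.finrank_matrix, Fintype.card_fin, hA, Module.finrank_self, mul_one] at h1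
    exact (Nat.pow_left_injective two_ne_zero (by simpa [sq] using h1.symm))
  have hNalg : ∀ a : K, N (algebraMap K A a) = a ^ n := by
    intro a
    apply (algebraMap K K').injective
    rw [hφ, map_pow]
    have h1 : (1 : K') ⊗ₜ[K] algebraMap K A a = algebraMap K' (K' ⊗[K] A) (algebraMap K K' a) := by
      rw [Algebra.TensorProduct.algebraMap_apply, Algebra.algebraMap_self, RingHom.id_apply, Algebra.algebraMap_eq_smul_one, TensorProduct.tmul_smul, TensorProduct.smul_tmul', Algebra.smul_def, mul_one]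
    rw [h1, AlgEquiv.commutes, Matrix.algebraMap_eq_diagonal, Matrix.det_diagonal, hn0]
    simp
  obtain ⟨r, hr, a, ha⟩ := hxr
  obtain ⟨b, hb, hNb⟩ := hNx
  have hp := (Fact.out : p.Prime)
  have hcb : algebraMap K A (b ^ p ^ m) ≠ 0 := (_root_.map_ne_zero _).mpr (pow_ne_zero _ hb)
  have hNr : (b ^ p ^ m) ^ r = a ^ n := by
    rw [← hNb, ← map_pow, ← ha, hNalg]
  set w : A := x ^ n * (algebraMap K A (b ^ p ^ m))⁻¹ with hw
  have hwr : w ^ r = 1 := by
    have hc : Commute (x ^ n) (algebraMap K A ((b ^ p ^ m)⁻¹)) := (Algebra.commutes _ _).symm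
    rw [hw, ← map_inv₀, hc.mul_pow r, ← pow_mul, mul_comm n r, pow_mul, ← ha, ← map_pow, ← map_pow, ← map_mul, inv_pow, hNr, mul_inv_cancel₀ (hNr ▸ pow_ne_zero _ (pow_ne_zero _ hb)), map_one]
  obtain ⟨η, hη⟩ : w ∈ (algebraMap K A).range := by
    have hint : IsIntegral K w := IsIntegral.of_finite K w
    have hdvd : minpoly K w ∣ X ^ r - 1 := minpoly.dvd K w (by simp [hwr])
    have hspl : (minpoly K w).Splits := Polynomial.Splits.of_dvd (hK r hr) (by simpa using X_pow_sub_C_ne_zero hr (1 : K)) hdvd
    exact minpoly.mem_range_of_degree_eq_one K w (hspl.degree_eq_one_of_irreducible (minpoly.irreducible hint))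
  have hηr : η ^ r = 1 := (algebraMap K A).injective (by rw [map_pow, hη, hwr, map_one])
  have hcop : Nat.Coprime (p ^ m) (orderOf η) := by
    refine Nat.Coprime.pow_left m (hp.coprime_iff_not_dvd.mpr fun hdvd => ?_)
    have hpos : 0 < orderOf η := orderOf_pos_iff.mpr (isOfFinOrder_iff_pow_eq_one.mpr ⟨r, hr, hηr⟩)
    obtain ⟨o, ho⟩ := hdvd
    have ho0 : o ≠ 0 := fun h => by rw [h, mul_zero] at ho; omega
    have h1 : (η ^ o - 1) ^ p = 0 := by
      rw [sub_pow_char, one_pow, ← pow_mul, mul_comm, ← ho, pow_orderOf_eq_one, sub_self]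
    have h2 := orderOf_dvd_of_pow_eq_one (sub_eq_zero.mp (pow_eq_zero_iff hp.ne_zero |>.mp h1))
    have h3 := Nat.le_of_dvd (Nat.pos_of_ne_zero ho0) h2
    rw [ho] at h3
    have := hp.two_le
    nlinarith [Nat.pos_of_ne_zero ho0]
  obtain ⟨j, hj⟩ := exists_pow_eq_self_of_coprime hcop
  haveI : CharP A p := charP_of_injective_algebraMap (algebraMap K A).injective p
  refine ⟨η ^ j * b, ?_⟩
  have hxn : x ^ n = algebraMap K A (η * b ^ p ^ m) := by
    rw [map_mul, hη, hw, mul_assoc, inv_mul_cancel₀ hcb, mul_one]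
  have h1 : (x ^ n' - algebraMap K A (η ^ j * b)) ^ p ^ m = 0 := by
    rw [sub_pow_char_pow_of_commute (p := p) (n := m) (Algebra.commutes _ _).symm, ← pow_mul, ← hn, hxn, ← map_pow, ← map_sub, mul_pow, ← pow_mul, mul_comm j, pow_mul, hj, sub_self, map_zero]
  exact (sub_eq_zero.mp (pow_eq_zero_iff (pow_ne_zero _ hp.ne_zero) |>.mp h1)).symm

end Groth.Agent.S15185
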