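import Groth.Statements.S15188
import Mathlib
import Groth.Agent.SBActLib.Act
import Groth.Agent.SBAutLib.Descent
import Groth.Agent.S15168
-- import your own Groth.Agent.* helpers here

set_option autoImplicit false
universe u
open CategoryTheory CategoryTheory.Limits AlgebraicGeometry Polynomial
open BddFin

namespace Groth.Agent.S15188

/-- Let k be a field such that k contains all roots of unity (for every m ≥ 1 the polynomial X^m − 1
splits into linear factors over k), A a central division algebra of dimension n² over k with the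
characteristic of k not dividing n, and X → Spec k the Severi–Brauer variety of A (X represents the
functor of left ideals of A with projective quotient of corank n² − n). Then every automorphism g of
X over k of finite order satisfies g ^ n = 1. -/
theorem result
    (k : Type u) [Field k] (hk : ∀ m : ℕ, 0 < m → (X ^ m - 1 : k[X]).Splits)
    (A : Type u) [DivisionRing A] [Algebra k A] [Algebra.IsCentral k A]
    (n : ℕ) (hn : 0 < n) (hnk : (n : k) ≠ 0) (hA : Module.finrank k A = n * n)
    {X : Scheme.{u}} (f : X ⟶ Spec (CommRingCat.of k)) (hX : BrSev.IsSBOf k A (n * n - n) f)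
    (g : Aut (Over.mk f)) (hg : IsOfFinOrder g) : g ^ n = 1 := by
  classical
  obtain ⟨σ⟩ := hX
  haveI : Module.Finite k A := Module.finite_of_finrank_pos (by rw [hA]; exact Nat.mul_pos hn hn)
  obtain ⟨u, rfl⟩ := SBAutLib.autHom_surjective hn hA σ g
  obtain ⟨r, hr, hgr⟩ := isOfFinOrder_iff_pow_eq_one.1 hg
  rw [← map_pow, ← MonoidHom.mem_ker, SBActLib.ker_autHom n hn hA σ] at hgr
  obtain ⟨c, hc⟩ := hgr
  have hxm : ∃ m : ℕ, 0 < m ∧ (u : A) ^ m ∈ (algebraMap k A).range :=
    ⟨r, hr, (c : k), by simpa using congrArg Units.val hc⟩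
  obtain ⟨d, hd⟩ := Groth.Agent.S15168.result k hk A n (by rw [hA, sq]) (u : A) hxm
  have hd0 : d ≠ 0 := by
    intro h
    rw [h, map_zero] at hd
    exact pow_ne_zero n u.ne_zero hd.symm
  rw [← map_pow, ← MonoidHom.mem_ker, SBActLib.ker_autHom n hn hA σ]
  exact ⟨Units.mk0 d hd0, Units.ext (by simpa using hd)⟩

end Groth.Agent.S15188
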