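import Groth.Statements.S15189
import Mathlib
import Groth.Agent.SBActLib.Act
import Groth.Agent.BddFinAS.DegTwoThree
import Groth.Agent.S15184
-- import your own Groth.Agent.* helpers here

set_option autoImplicit false
universe u
open CategoryTheory CategoryTheory.Limits AlgebraicGeometry
open BddFin

namespace Groth.Agent.S15189

/-- Let p be 2 or 3, k an infinite field of characteristic p, A a central simple k-algebra of dimension
p², and X → Spec k the Severi–Brauer variety of A (X represents the functor of left ideals of A with
projective quotient of corank p² − p; X has dimension p − 1). Then the group of automorphisms of X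
over k has unbounded finite subgroups: for every N it has a finite subgroup of order greater than N. -/
theorem result
    (k : Type u) [Field k] [Infinite k] (p : ℕ) [Fact p.Prime] [CharP k p] (hp : p = 2 ∨ p = 3)
    (A : Type u) [Ring A] [Algebra k A] [Algebra.IsCentral k A] [IsSimpleRing A]
    (hA : Module.finrank k A = p * p)
    {X : Scheme.{u}} (f : X ⟶ Spec (CommRingCat.of k)) (hX : BrSev.IsSBOf k A (p * p - p) f) (N : ℕ) :
    ∃ G : Subgroup (Aut (Over.mk f)), Finite G ∧ N < Nat.card G := by
  classical
  obtain ⟨σ⟩ := hX
  have hp1 : 1 < p := (Fact.out : p.Prime).one_lt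
  haveI : Module.Finite k A := Module.finite_of_finrank_pos (by rw [hA]; exact Nat.mul_pos (by omega) (by omega))
  haveI : Nontrivial A := inferInstance
  -- a purely inseparable element
  obtain ⟨v, hvK, a, hva⟩ : ∃ v : A, v ∉ (algebraMap k A).range ∧ ∃ a : k, v ^ p = algebraMap k A a := by
    by_cases hdiv : ∀ x : A, IsUnit x ∨ x = 0
    · letI : DivisionRing A := DivisionRing.ofIsUnitOrEqZero hdiv
      have hA2 : Module.finrank k A = p ^ 2 := by rw [hA, sq]
      obtain ⟨v, hv⟩ := Groth.Agent.S15184.result k p A hA2 hp
      have hvK : v ∉ Set.range (algebraMap k A) := by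
        rintro ⟨b, rfl⟩
        refine hv ?_
        rw [IsSeparable, minpoly.eq_X_sub_C_of_algebraMap_inj b (algebraMap k A).injective]
        exact Polynomial.separable_X_sub_C
      refine ⟨v, hvK, ?_⟩
      have hint : IsIntegral k v := IsIntegral.of_finite k v
      have hirr := minpoly.irreducible hint
      have hd := (BddFinASLib.degree_and_centralizer p hA2 v hvK).1
      have h0 : Polynomial.derivative (minpoly k v) = 0 :=
        of_not_not fun h => hv ((Polynomial.separable_iff_derivative_ne_zero hirr).2 h)
      have he := Polynomial.expand_contract p h0 (Fact.out : p.Prime).ne_zero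
      have hc1 : (Polynomial.contract p (minpoly k v)).natDegree = 1 := by
        have := congrArg Polynomial.natDegree he
        rw [Polynomial.natDegree_expand, hd] at this
        exact (Nat.mul_eq_right (by omega)).1 this
      have hcm : (Polynomial.contract p (minpoly k v)).Monic := by
        have h1 := minpoly.monic hint
        rwa [← he, Polynomial.monic_expand_iff (by omega)] at h1
      refine ⟨-(Polynomial.contract p (minpoly k v)).coeff 0, ?_⟩
      have h2 := minpoly.aeval k v
      rw [← he, Polynomial.expand_aeval, hcm.eq_X_add_C hc1, map_add, Polynomial.aeval_X, Polynomial.aeval_C] at h2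
      rw [map_neg]
      exact eq_neg_of_add_eq_zero_left h2
    · push Not at hdiv
      obtain ⟨x, hxu, hx0⟩ := hdiv
      have hinj : ¬ Function.Injective (LinearMap.mulLeft k x) := fun hi => by
        obtain ⟨y, hy⟩ := LinearMap.injective_iff_surjective.1 hi 1
        have hy' : x * y = 1 := hy
        exact hxu ⟨⟨x, y, hy', hi (show x * (y * x) = x * 1 by rw [← mul_assoc, hy', one_mul, mul_one])⟩, rfl⟩
      rw [← LinearMap.ker_eq_bot, ← ne_eq, Submodule.ne_bot_iff] at hinj
      obtain ⟨y, hy, hy0⟩ := hinj
      have hxy : x * y = 0 := hy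
      obtain ⟨r, hr⟩ : ∃ r, y * r * x ≠ 0 := by
        by_contra! h
        have htop : TwoSidedIdeal.span ({y} : Set A) = ⊤ := by
          rcases IsSimpleOrder.eq_bot_or_eq_top (TwoSidedIdeal.span ({y} : Set A)) with h' | h'
          · have h3 : y ∈ TwoSidedIdeal.span ({y} : Set A) := TwoSidedIdeal.subset_span rfl
            rw [h', TwoSidedIdeal.mem_bot] at h3
            exact absurd h3 hy0
          · exact h'
        let J : TwoSidedIdeal A := TwoSidedIdeal.mk' {z | ∀ r, z * r * x = 0} (fun r => by simp)
          (fun {a b} ha hb r => by rw [add_mul, add_mul, ha r, hb r, add_zero])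
          (fun {a} ha r => by rw [neg_mul, neg_mul, ha r, neg_zero])
          (fun {a b} hb r => by
            rw [show a * b * r * x = a * (b * r * x) by simp only [mul_assoc], hb r, mul_zero])
          (fun {a b} ha r => by rw [mul_assoc a b r]; exact ha (b * r))
        have hJ : TwoSidedIdeal.span ({y} : Set A) ≤ J := TwoSidedIdeal.span_le.2 (by
          rintro _ rfl
          rw [SetLike.mem_coe, TwoSidedIdeal.mem_mk']
          exact h)
        have h1 : (1 : A) ∈ J := hJ (htop.ge trivial)
        rw [TwoSidedIdeal.mem_mk'] at h1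
        exact hx0 (by simpa using h1 1)
      have hsq : (y * r * x) * (y * r * x) = 0 := by
        rw [show (y * r * x) * (y * r * x) = y * r * (x * y) * (r * x) by simp only [mul_assoc], hxy]
        simp
      refine ⟨y * r * x, fun ⟨b, hb⟩ => hr ?_, 0, ?_⟩
      · rw [← hb, ← map_mul, map_eq_zero_iff _ (algebraMap k A).injective, mul_self_eq_zero] at hsq
        rw [← hb, hsq, map_zero]
      · rw [map_zero]
        exact pow_eq_zero_of_le hp1 (by rw [sq]; exact hsq)
  haveI : CharP A p := charP_of_injective_algebraMap (algebraMap k A).injective p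
  -- the units `1 + t v`
  obtain ⟨T, hT⟩ : ∃ T : Finset k, N < T.card ∧ ∀ t ∈ T, 1 + t ^ p * a ≠ 0 := by
    obtain ⟨T, hT⟩ := Infinite.exists_subset_card_eq k (N + 2)
    refine ⟨T.filter fun t => 1 + t ^ p * a ≠ 0, ?_, fun t ht => (Finset.mem_filter.1 ht).2⟩
    have h1 := Finset.card_filter_add_card_filter_not (s := T) (fun t => 1 + t ^ p * a ≠ 0)
    have h2 : (T.filter fun t => ¬ (1 + t ^ p * a ≠ 0)).card ≤ 1 := by
      rw [Finset.card_le_one]
      intro s hs t ht
      simp only [Finset.mem_filter, not_not] at hs ht
      have ha0 : a ≠ 0 := fun h => by simp [h] at hs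
      have h3 : s ^ p = t ^ p := mul_right_cancel₀ ha0 (by linear_combination hs.2 - ht.2)
      exact frobenius_inj k p h3
    omega
  obtain ⟨hT1, hT2⟩ := hT
  have hpow : ∀ t : k, (1 + algebraMap k A t * v) ^ p = algebraMap k A (1 + t ^ p * a) := fun t => by
    rw [add_pow_char_of_commute p (Commute.one_left _), one_pow, (show Commute (algebraMap k A t) v from Algebra.commutes t v).mul_pow,
      hva, map_add, map_one, map_mul, map_pow]
  have hu : ∀ t : T, IsUnit (1 + algebraMap k A (t : k) * v) := fun t =>
    (isUnit_pow_iff (Fact.out : p.Prime).ne_zero).1 ?_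
  · let U : T → Aˣ := fun t => (hu t).unit
    let ξ := SBActLib.autHom σ
    have hker := SBActLib.ker_autHom p (by omega) hA σ
    let S : Set (Aut (Over.mk f)) := Set.range fun t : T => ξ (U t)
    have hcomm : ∀ s t : T, Commute (U s) (U t) := fun s t => by
      refine Units.ext ?_
      show (1 + algebraMap k A (s : k) * v) * (1 + algebraMap k A (t : k) * v) = (1 + algebraMap k A (t : k) * v) * (1 + algebraMap k A (s : k) * v)
      have hc : Commute (algebraMap k A (s : k) * v) (algebraMap k A (t : k) * v) :=
        (Commute.mul_left (Algebra.commutes _ _) ((show Commute v (algebraMap k A (t : k)) from (Algebra.commutes _ v).symm).mul_right (Commute.refl v)))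
      exact ((Commute.one_left _).add_left (((Commute.one_right _).add_right hc))).eq
    have hUp : ∀ t : T, ξ (U t) ^ p = 1 := fun t => by
      rw [← map_pow, ← MonoidHom.mem_ker, hker]
      exact ⟨Units.mk0 _ (hT2 t t.2), Units.ext (hpow t).symm⟩
    have hinjU : Function.Injective fun t : T => ξ (U t) := by
      intro s t hst
      have h1 : (U t)⁻¹ * U s ∈ ξ.ker := by
        rw [MonoidHom.mem_ker, map_mul, map_inv]
        exact inv_mul_eq_one.2 hst.symm
      rw [hker] at h1
      obtain ⟨c, hc⟩ := h1
      have h2 : (1 + algebraMap k A (s : k) * v) = (1 + algebraMap k A (t : k) * v) * algebraMap k A (c : k) := by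
        have h2' : U s = U t * Units.map (algebraMap k A : k →* A) c := by rw [hc, mul_inv_cancel_left]
        exact congrArg Units.val h2'
      by_cases hcs : (s : k) - (t : k) * (c : k) = 0
      · have hc1 : (c : k) = 1 := by
          apply (algebraMap k A).injective
          have h3 : (algebraMap k A (s : k)) = algebraMap k A (t : k) * algebraMap k A (c : k) := by
            rw [← map_mul, sub_eq_zero.1 hcs]
          rw [h3, add_mul, one_mul, mul_assoc _ v, ← Algebra.commutes (c : k) v, ← mul_assoc] at h2
          rw [map_one]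
          exact (add_right_cancel h2).symm
        rw [hc1, mul_one, sub_eq_zero] at hcs
        exact Subtype.ext hcs
      · refine absurd ⟨((c : k) - 1) / ((s : k) - t * c), ?_⟩ hvK
        rw [add_mul, one_mul, mul_assoc _ v, ← Algebra.commutes (c : k) v, ← mul_assoc, ← map_mul] at h2
        have h4 : algebraMap k A ((s : k) - t * c) * v = algebraMap k A ((c : k) - 1) := by
          rw [map_sub, map_sub, map_one, sub_mul, sub_eq_sub_iff_add_eq_add, add_comm, h2]
        rw [div_eq_inv_mul, map_mul, ← h4, ← mul_assoc, ← map_mul, inv_mul_cancel₀ hcs, map_one, one_mul]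
    let G : Subgroup (Aut (Over.mk f)) := Subgroup.closure S
    have hScomm : ∀ x ∈ S, ∀ y ∈ S, x * y = y * x := by
      rintro _ ⟨s, rfl⟩ _ ⟨t, rfl⟩
      exact ((hcomm s t).map ξ).eq
    letI : CommGroup G := Subgroup.closureCommGroupOfComm hScomm
    have hfg : Group.FG G := (Group.fg_iff_subgroup_fg G).2 ((Subgroup.fg_iff G).2 ⟨S, rfl, Set.finite_range _⟩)
    have hexp : ∀ g : G, g ^ p = 1 := by
      rintro ⟨g, hg⟩
      refine Subtype.ext ?_
      show g ^ p = 1
      induction hg using Subgroup.closure_induction with
      | mem x hx => obtain ⟨t, rfl⟩ := hx; exact hUp t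
      | one => exact one_pow _
      | mul x y hx hy hx' hy' =>
        rw [(show Commute x y from congrArg Subtype.val (mul_comm (⟨x, hx⟩ : G) ⟨y, hy⟩)).mul_pow, hx', hy', one_mul]
      | inv x _ hx' => rw [inv_pow, hx', inv_one]
    haveI := hfg
    haveI : Finite G := CommGroup.finite_of_fg_torsion G fun g =>
      isOfFinOrder_iff_pow_eq_one.2 ⟨p, (Fact.out : p.Prime).pos, hexp g⟩
    refine ⟨G, inferInstance, ?_⟩
    calc N < T.card := hT1
      _ = Nat.card T := by simp
      _ ≤ Nat.card G := Nat.card_le_card_of_injective
          (fun t : T => (⟨ξ (U t), Subgroup.subset_closure ⟨t, rfl⟩⟩ : G))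
          fun s t h => hinjU (congrArg Subtype.val h)
  · rw [hpow]
    exact (Ne.isUnit (hT2 t t.2)).map _

end Groth.Agent.S15189
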