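import Groth.Statements.S15190
import Mathlib
import Groth.Agent.SBActLib.Act
import Groth.Agent.SBAutLib.Descent
import Groth.Agent.SBAutLib.RedNorm
import Groth.Agent.S15185
-- import your own Groth.Agent.* helpers here

set_option autoImplicit false
universe u
open CategoryTheory CategoryTheory.Limits AlgebraicGeometry Polynomial
open BddFin

namespace Groth.Agent.S15190

/-- Let k be a field of characteristic p > 0 such that k contains all roots of unity (for every r ≥ 1
the polynomial X^r − 1 splits into linear factors over k), A a central division algebra of dimension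
n² over k with n = n' · p ^ m and n' prime to p, and X → Spec k the Severi–Brauer variety of A (X
represents the functor of left ideals of A with projective quotient of corank n² − n). Then every
finite subgroup G of the group of automorphisms of X over k is a semidirect product: there are
subgroups H and S of G with H normal in G, H ∩ S trivial and H S = G, such that every element of H
has order prime to p and S is abelian with s ^ (p ^ m) = 1 for all s in S. (The published statement
also bounds the order of H; that bound is not part of this row.) -/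
theorem result
    (k : Type u) [Field k] (p : ℕ) [Fact p.Prime] [CharP k p]
    (hk : ∀ r : ℕ, 0 < r → (X ^ r - 1 : k[X]).Splits)
    (A : Type u) [DivisionRing A] [Algebra k A] [Algebra.IsCentral k A]
    (n n' m : ℕ) (hn0 : 0 < n) (hA : Module.finrank k A = n * n) (hn : n = n' * p ^ m) (hn' : ¬ p ∣ n')
    {X : Scheme.{u}} (f : X ⟶ Spec (CommRingCat.of k)) (hX : BrSev.IsSBOf k A (n * n - n) f)
    (G : Subgroup (Aut (Over.mk f))) [Finite G] :
    ∃ H S : Subgroup (Aut (Over.mk f)), H ≤ G ∧ S ≤ G ∧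
      (∀ g ∈ G, ∀ h ∈ H, g * h * g⁻¹ ∈ H) ∧ H ⊓ S = ⊥ ∧ H ⊔ S = G ∧
      (∀ h ∈ H, ((orderOf h : ℕ) : k) ≠ 0) ∧
      (∀ s ∈ S, ∀ t ∈ S, s * t = t * s) ∧ (∀ s ∈ S, s ^ (p ^ m) = 1) := by
  classical
  obtain ⟨σ⟩ := hX
  haveI : Module.Finite k A := Module.finite_of_finrank_pos (by rw [hA]; exact Nat.mul_pos hn0 hn0)
  have hp := (Fact.out : p.Prime)
  obtain ⟨N, hN⟩ := SBAutLib.exists_redNorm (k := k) (A := A)
  have hξ := SBAutLib.autHom_surjective hn0 hA σ
  have hker := SBActLib.ker_autHom n hn0 hA σ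
  let P : Subgroup kˣ := (powMonoidHom (p ^ m) : kˣ →* kˣ).range
  let ψ : Aˣ →* kˣ ⧸ P := (QuotientGroup.mk' P).comp (Units.map N)
  have hψ : (SBActLib.autHom σ).ker ≤ ψ.ker := by
    rw [hker]
    rintro _ ⟨c, rfl⟩
    rw [MonoidHom.mem_ker]
    refine (QuotientGroup.eq_one_iff _).2 ⟨c ^ n', Units.ext ?_⟩
    show ((c ^ n') ^ p ^ m : kˣ).val = N (algebraMap k A c)
    rw [SBAutLib.redNorm_algebraMap hN hA, ← pow_mul, ← hn, Units.val_pow_eq_pow_val]
  let Φ : Aut (Over.mk f) →* kˣ ⧸ P := (SBActLib.autHom σ).liftOfSurjective hξ ⟨ψ, hψ⟩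
  have hΦ : ∀ u : Aˣ, Φ (SBActLib.autHom σ u) = ψ u := fun u =>
    MonoidHom.liftOfRightInverse_comp_apply _ _ _ _ u
  have hQ : ∀ q : kˣ ⧸ P, q ^ p ^ m = 1 := by
    intro q
    induction q using QuotientGroup.induction_on with
    | H c => rw [← QuotientGroup.mk_pow]; exact (QuotientGroup.eq_one_iff _).2 ⟨c, rfl⟩
  have hord : ∀ h : G, Φ (h : Aut (Over.mk f)) = 1 → orderOf h ∣ n' := by
    intro h hh
    obtain ⟨u, hu⟩ := hξ (h : Aut (Over.mk f))
    have h1 : ψ u = 1 := by rw [← hΦ, hu]; exact hh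
    obtain ⟨b, hb⟩ := (QuotientGroup.eq_one_iff _).1 h1
    obtain ⟨r, hr, hhr⟩ := isOfFinOrder_iff_pow_eq_one.1 (isOfFinOrder_of_finite h)
    have h2 : SBActLib.autHom σ (u ^ r) = 1 := by
      rw [map_pow, hu, ← Subgroup.coe_pow, hhr, Subgroup.coe_one]
    rw [← MonoidHom.mem_ker, hker] at h2
    obtain ⟨c, hc⟩ := h2
    obtain ⟨d, hd⟩ := Groth.Agent.S15185.result k p hk A n n' m (by rw [hA, sq]) hn hn' N hN (u : A) u.ne_zero
      ⟨r, hr, (c : k), by simpa using congrArg Units.val hc⟩
      ⟨(b : k), b.ne_zero, by simpa using (congrArg Units.val hb).symm⟩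
    have hd0 : d ≠ 0 := by
      intro h
      rw [h, map_zero] at hd
      exact pow_ne_zero n' u.ne_zero hd.symm
    refine orderOf_dvd_of_pow_eq_one (Subtype.ext ?_)
    rw [Subgroup.coe_pow, ← hu, ← map_pow, Subgroup.coe_one, ← MonoidHom.mem_ker, hker]
    exact ⟨Units.mk0 d hd0, Units.ext (by simpa using hd)⟩
  have hc : ∀ a b : kˣ ⧸ P, a * b = b * a := by
    intro a b
    induction a using QuotientGroup.induction_on with
    | H a => induction b using QuotientGroup.induction_on with
      | H b => rw [← QuotientGroup.mk_mul, ← QuotientGroup.mk_mul, mul_comm]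
  obtain ⟨H, S, h1, h2, h3, h4, h5, h6, h7, h8⟩ := SBAutLib.semidirect_of_hom hc Φ G p n' m hn' hQ hord
  exact ⟨H, S, h1, h2, h3, h4, h5, fun h hh => by rw [Ne, CharP.cast_eq_zero_iff k p]; exact h6 h hh, h7, h8⟩

end Groth.Agent.S15190
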