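import Groth.Statements.S15225
import Mathlib
import Groth.Agent.HiggsLib.VeryStable
import Groth.Agent.CurveDualLib.Canon
-- import your own Groth.Agent.* helpers here

set_option autoImplicit false
open CategoryTheory CategoryTheory.Limits AlgebraicGeometry MonoidalCategory
open VBCurve

namespace Groth.Agent.S15225

/-- Let X be a smooth proper integral curve over ℂ of genus at least 2 which is non-hyperelliptic (no
invertible module of degree 2 has two independent global sections), K a module isomorphic to its
sheaf of differentials, and E a slope-stable finite locally free module of rank 2 and degree 0 or 1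
(degrees are χ(−) minus rank times χ(O_X)). Call E very stable when every O_X-linear map α : E → E ⊗
K with α ∘ α = 0 (the composite E → E ⊗ K → (E ⊗ K) ⊗ K) is zero; for rank 2 this is the absence of
non-zero nilpotent K-valued endomorphisms. Then E fails to be very stable exactly when E has a line
subbundle L, i.e. an invertible submodule whose quotient E/L is invertible, together with a non-zero
O_X-linear map E/L → L ⊗ K. (With det E = Λ and L the dual of a line bundle L₀ the space of such
maps is H^0(K ⊗ L₀^{-2} ⊗ Λ^{-1}), which is how the criterion is usually written.) -/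
theorem result
    (X : Scheme.{0}) [X.Over (Spec (CommRingCat.of ℂ))] [IsIntegral X]
    [IsProper (X ↘ Spec (CommRingCat.of ℂ))] [Smooth (X ↘ Spec (CommRingCat.of ℂ))]
    (hdim : topologicalKrullDim X = 1) (hg : 2 ≤ Curv2.genus ℂ X)
    (hnh : ∀ M : X.Modules, PicF.IsInvertible M → Curv2.deg ℂ X M 1 = 2 →
      Module.finrank ℂ (Coh.HH X M 0) ≤ 1)
    (K : X.Modules) (eK : K ≅ Omega.sheaf (X ↘ Spec (CommRingCat.of ℂ)))
    (E : X.Modules) (hE : FlatMod.IsFinLocFreeOfRank 2 E)
    (hdegE : Curv2.deg ℂ X E 2 = 0 ∨ Curv2.deg ℂ X E 2 = 1)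
    (hst : ModFun.IsSlopeStable ℂ X E 2) :
    (¬ ∀ α : E ⟶ CohB1.tensorMod E K,
        α ≫ (CohB1.sheafifyMod X).map
          (MonoidalCategoryStruct.whiskerRight (C := CohB1.PMod X) α.val (CohB1.toPMod K)) = 0 → α = 0) ↔
      ∃ (L : X.Modules) (j : L ⟶ E), PicF.IsInvertible L ∧ Mono j ∧ PicF.IsInvertible (cokernel j) ∧
        ∃ β : cokernel j ⟶ CohB1.tensorMod L K, β ≠ 0 := by
  have hK : PicF.IsInvertible K :=
    HilbPolyLib.isInvertible_of_iso eK.symm (CurveDualLib.omega_invertible (k := ℂ) hdim)
  constructor
  · intro h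
    obtain ⟨α, hα⟩ := not_forall.1 h
    obtain ⟨hα0, hne⟩ := Classical.not_imp.1 hα
    exact HiggsLib.exists_subbundle hK (k := ℂ) hdim hE α hne hα0
  · rintro ⟨L, j, hL, hj, hC, β, hβ⟩ h
    haveI := hj
    have hst' : j ≫ cokernel.π j ≫ β = 0 := by rw [← Category.assoc, cokernel.condition, zero_comp]
    refine HiggsLib.ne_zero_of_mono hK j (cokernel.π j ≫ β) (fun h0 => hβ ?_)
      (h _ (HiggsLib.twist_comp_self_zero hK j (cokernel.π j ≫ β) hst'))
    rw [← cancel_epi (cokernel.π j), comp_zero]
    exact h0

end Groth.Agent.S15225
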