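import Groth.Statements.S15228
import Mathlib
import Groth.Agent.SecantLib.Main
import Groth.Agent.AlbLib.AlgClosed
import Groth.Agent.H0Lib.Apply
-- import your own Groth.Agent.* helpers here

set_option autoImplicit false
open CategoryTheory CategoryTheory.Limits AlgebraicGeometry MonoidalCategory
open VBCurve

namespace Groth.Agent.S15228

/-- Let X be a smooth proper integral curve over ℂ of genus g ≥ 3 which is non-hyperelliptic, K a module
isomorphic to its sheaf of differentials, and N an invertible module of degree g with h^0(N) ≤ 1, so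
that the complete linear system of K ⊗ N maps X to a projective space of dimension 2g − 2 as a curve
of degree 3g − 2. An effective divisor D of degree d, recorded through its invertible ideal sheaf I
⊂ O_X (of degree −d), is a d-secant when its linear span has dimension d − 2, i.e. h^0(I ⊗ K ⊗ N) =
h^0(K ⊗ N) − d + 1. Then X has exactly one g-secant: some invertible ideal I ⊂ O_X of degree −g
satisfies h^0(I ⊗ K ⊗ N) + (g − 1) = h^0(K ⊗ N), and any two such ideals are equal as subobjects of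
O_X (an isomorphism between them commutes with the inclusions). -/
theorem result
    (X : Scheme.{0}) [X.Over (Spec (CommRingCat.of ℂ))] [IsIntegral X]
    [IsProper (X ↘ Spec (CommRingCat.of ℂ))] [Smooth (X ↘ Spec (CommRingCat.of ℂ))]
    (hdim : topologicalKrullDim X = 1) (hg : 2 ≤ Curv2.genus ℂ X)
    (hnh : ∀ M : X.Modules, PicF.IsInvertible M → Curv2.deg ℂ X M 1 = 2 →
      Module.finrank ℂ (Coh.HH X M 0) ≤ 1)
    (K : X.Modules) (eK : K ≅ Omega.sheaf (X ↘ Spec (CommRingCat.of ℂ)))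
    (g : ℕ) (hg3 : 3 ≤ g) (hgen : Curv2.genus ℂ X = g)
    (N : X.Modules) (hN : PicF.IsInvertible N) (hdN : Curv2.deg ℂ X N 1 = (g : ℤ))
    (h0 : Module.finrank ℂ (Coh.HH X N 0) ≤ 1) :
    (∃ (I : X.Modules) (ι : I ⟶ Coh.structureModule X),
        PicF.IsInvertible I ∧ Mono ι ∧ Curv2.deg ℂ X I 1 = -((g : ℤ)) ∧
        Module.finrank ℂ (Coh.HH X (CohB1.tensorMod I (CohB1.tensorMod K N)) 0) + (g - 1) =
          Module.finrank ℂ (Coh.HH X (CohB1.tensorMod K N) 0)) ∧
      ∀ (I I' : X.Modules) (ι : I ⟶ Coh.structureModule X) (ι' : I' ⟶ Coh.structureModule X),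
        (PicF.IsInvertible I ∧ Mono ι ∧ Curv2.deg ℂ X I 1 = -((g : ℤ)) ∧
        Module.finrank ℂ (Coh.HH X (CohB1.tensorMod I (CohB1.tensorMod K N)) 0) + (g - 1) =
          Module.finrank ℂ (Coh.HH X (CohB1.tensorMod K N) 0)) →
        (PicF.IsInvertible I' ∧ Mono ι' ∧ Curv2.deg ℂ X I' 1 = -((g : ℤ)) ∧
        Module.finrank ℂ (Coh.HH X (CohB1.tensorMod I' (CohB1.tensorMod K N)) 0) + (g - 1) =
          Module.finrank ℂ (Coh.HH X (CohB1.tensorMod K N) 0)) →
        ∃ φ : I' ≅ I, φ.hom ≫ ι = ι' := by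
  haveI : LocallyOfFiniteType (Over.mk (X ↘ Spec (CommRingCat.of ℂ))).hom :=
    inferInstanceAs (LocallyOfFiniteType (X ↘ Spec (CommRingCat.of ℂ)))
  haveI : IsIntegral (Over.mk (X ↘ Spec (CommRingCat.of ℂ))).left := inferInstanceAs (IsIntegral X)
  haveI : GeometricallyIntegral (X ↘ Spec (CommRingCat.of ℂ)) :=
    AlbLib.geometricallyIntegral_of_isIntegral (Over.mk (X ↘ Spec (CommRingCat.of ℂ)))
  haveI := H0Lib.geometricallyConnected_of_integral (X ↘ Spec (CommRingCat.of ℂ))
  have h1 := SecantLib.h0_twist (k := ℂ) hdim eK hN (by omega)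
  refine ⟨?_, ?_⟩
  · have hpos : 0 < Module.finrank ℂ (Coh.HH X N 0) := by
      have h3 := CurvLib.deg_curve (k := ℂ) hdim N (FibVALib.finrank_h0_structure ℂ X hdim)
      omega
    obtain ⟨ι, hι⟩ := SecantLib.exists_mono (k := ℂ) hdim hN hpos
    have hd := SecantLib.deg_dual (k := ℂ) hdim hN
    exact ⟨MiscFlat6.dual N, ι, MiscFlat6.dual_isInvertible hN, hι, by omega,
      by rw [SecantLib.h0_secant (k := ℂ) hdim eK hN (Iso.refl _)]; omega⟩
  rintro I I' ι ι' ⟨hI, hι, hd, hh⟩ ⟨hI', hι', hd', hh'⟩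
  obtain ⟨eI⟩ := SecantLib.key (k := ℂ) hdim eK hN hI (by omega) (by omega)
  obtain ⟨eI'⟩ := SecantLib.key (k := ℂ) hdim eK hN hI' (by omega) (by omega)
  have hne : ∀ {J : X.Modules} (j : J ⟶ Coh.structureModule X), PicF.IsInvertible J → Mono j → j ≠ 0 := fun {J} j hJ hj h => by
    haveI := hj
    have hz : IsZero J := (IsZero.iff_id_eq_zero _).mpr (by rw [← cancel_mono j, h, comp_zero, comp_zero])
    have := CurveVBLib.genRank_of_isZero hz
    rw [CurveVBLib.genRank_eq (CurvLib.locFree_of_isInvertible hJ)] at this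
    omega
  let e := eI ≪≫ eI'.symm
  obtain ⟨φ, hφ⟩ := SecantLib.unique (k := ℂ) hdim hN h0 eI' (e.inv ≫ ι) ι' (fun h => hne ι hI hι (by
    rw [← cancel_epi e.inv, h, comp_zero])) (hne ι' hI' hι')
  exact ⟨φ ≪≫ e.symm, by rw [← hφ, Iso.trans_hom, Iso.symm_hom, Category.assoc]⟩

end Groth.Agent.S15228
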