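import Groth.Statements.S15229
import Mathlib


-- import your own Groth.Agent.* helpers here

set_option autoImplicit false
open Finset
open W4c2rk2extmaps

namespace Groth.Agent.S15229

/-- In a commutative ℚ-algebra R let θ, η be elements and g a natural number, and put c_k = (4θ)^k / k!.
Suppose θ^(g+1) = 0 and that η satisfies the relation η^(g+1) = Σ_{i=1}^{g+1} (-1)^(i-1) c_i
η^(g+1-i). Then η^(g+k) θ^(g-k) = c_k η^g θ^(g-k) for every 1 ≤ k ≤ g. (The published statement
concerns the first Chern class η of the tautological line bundle on a projective bundle P(U) over a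
g-dimensional Jacobian, with c_k the Chern classes of U, which are (4θ)^k / k!; there θ^(g+1)
vanishes for dimension reasons and the displayed relation is the projective-bundle relation, and the
printed argument derives the identity from exactly these three inputs, which is the form stated
here.) -/
theorem result (R : Type*) [CommRing R] [Algebra ℚ R]
    (θ η : R) (g : ℕ) (c : ℕ → R) (hc : ∀ k : ℕ, c k = ((Nat.factorial k : ℚ)⁻¹) • ((4 : R) * θ) ^ k)
    (hθ : θ ^ (g + 1) = 0)
    (hrel : η ^ (g + 1) = ∑ i ∈ Finset.Ico 1 (g + 2), (-1 : R) ^ (i - 1) * c i * η ^ (g + 1 - i))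
    (k : ℕ) (hk1 : 1 ≤ k) (hkg : k ≤ g) :
    η ^ (g + k) * θ ^ (g - k) = c k * η ^ g * θ ^ (g - k) := by
  classical
  induction k using Nat.strong_induction_on with
  | _ k ih =>
    obtain ⟨j, rfl⟩ : ∃ j, k = j + 1 := ⟨k - 1, by omega⟩
    have hcc : ∀ a b, c a * c b = ((a + b).choose a : R) * c (a + b) := by
      intro a b
      rw [hc, hc, hc, smul_mul_smul_comm, ← pow_add, ← nsmul_eq_mul, ← Nat.cast_smul_eq_nsmul ℚ, smul_smul]
      congr 1
      rw [Nat.cast_add_choose]
      have h1 : ((a + b).factorial : ℚ) ≠ 0 := by positivity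
      field_simp
    have hkill : ∀ i, j + 1 < i → c i * θ ^ (g - (j + 1)) = 0 := by
      intro i hi
      rw [hc, smul_mul_assoc, mul_pow, mul_assoc, ← pow_add, show i + (g - (j + 1)) = g + 1 + (i - (j + 1) - 1) by omega, pow_add, hθ, zero_mul, mul_zero, smul_zero]
    have e1 : η ^ (g + (j + 1)) = η ^ j * η ^ (g + 1) := by rw [← pow_add]; congr 1; omega
    rw [e1, hrel, Finset.mul_sum, Finset.sum_mul]
    have hterm : ∀ i ∈ Finset.Ico 1 (g + 2), η ^ j * ((-1 : R) ^ (i - 1) * c i * η ^ (g + 1 - i)) * θ ^ (g - (j + 1)) =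
        if i ≤ j + 1 then (-1 : R) ^ (i - 1) * ((j + 1).choose i : R) * (c (j + 1) * η ^ g * θ ^ (g - (j + 1))) else 0 := by
      intro i hi
      obtain ⟨hi1, hi2⟩ := Finset.mem_Ico.1 hi
      split_ifs with hle
      · have e2 : η ^ j * ((-1 : R) ^ (i - 1) * c i * η ^ (g + 1 - i)) * θ ^ (g - (j + 1)) =
            (-1 : R) ^ (i - 1) * (((4 : R) ^ i * ((Nat.factorial i : ℚ)⁻¹ • (1 : R))) * (η ^ (g + (j + 1 - i)) * θ ^ (g - (j + 1 - i)))) := by
          rw [show g + (j + 1 - i) = j + (g + 1 - i) by omega, show g - (j + 1 - i) = g - (j + 1) + i by omega, pow_add, pow_add, hc, mul_pow]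
          simp only [smul_mul_assoc, mul_smul_comm, mul_one]
          congr 1; ring
        rw [e2]
        by_cases hij : i = j + 1
        · subst hij
          rw [Nat.sub_self, Nat.add_zero, Nat.sub_zero, Nat.choose_self, Nat.cast_one, mul_one, hc, mul_pow]
          conv_lhs => rw [show θ ^ g = θ ^ (j + 1) * θ ^ (g - (j + 1)) by rw [← pow_add]; congr 1; omega]
          simp only [smul_mul_assoc, mul_smul_comm, mul_one]
          congr 1; ring
        · rw [ih (j + 1 - i) (by omega) (by omega) (by omega)]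
          have e3 := hcc i (j + 1 - i)
          rw [Nat.add_sub_cancel' hle] at e3
          rw [show g - (j + 1 - i) = i + (g - (j + 1)) by omega, pow_add]
          calc (-1 : R) ^ (i - 1) * (((4 : R) ^ i * ((Nat.factorial i : ℚ)⁻¹ • (1 : R))) * (c (j + 1 - i) * η ^ g * (θ ^ i * θ ^ (g - (j + 1)))))
              = (-1 : R) ^ (i - 1) * ((c i * c (j + 1 - i)) * η ^ g * θ ^ (g - (j + 1))) := by
                rw [hc i, mul_pow]
                simp only [smul_mul_assoc, mul_smul_comm, mul_one]
                congr 1; ring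
            _ = _ := by rw [e3]; ring
      · rw [show η ^ j * ((-1 : R) ^ (i - 1) * c i * η ^ (g + 1 - i)) * θ ^ (g - (j + 1)) =
          η ^ j * (-1 : R) ^ (i - 1) * η ^ (g + 1 - i) * (c i * θ ^ (g - (j + 1))) by ring, hkill i (by omega), mul_zero]
    rw [Finset.sum_congr rfl hterm, ← Finset.sum_filter, ← Finset.sum_mul]
    have hs : (Finset.Ico 1 (g + 2)).filter (fun i => i ≤ j + 1) = Finset.Ico 1 (j + 2) := by
      ext i; simp; omega
    rw [hs, Finset.sum_Ico_eq_sum_range, show j + 2 - 1 = j + 1 by omega]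
    have hb : ∑ i ∈ Finset.range (j + 1), (-1 : R) ^ (1 + i - 1) * ((j + 1).choose (1 + i) : R) = 1 := by
      have h := add_pow (-1 : R) 1 (j + 1)
      rw [neg_add_cancel, zero_pow (Nat.succ_ne_zero j), Finset.sum_range_succ'] at h
      simp only [one_pow, mul_one, pow_zero, Nat.choose_zero_right, Nat.cast_one] at h
      have h2 : ∀ i : ℕ, (-1 : R) ^ (i + 1) * ((j + 1).choose (i + 1) : R) = -((-1 : R) ^ (1 + i - 1) * ((j + 1).choose (1 + i) : R)) := fun i => by
        rw [Nat.add_sub_cancel_left, add_comm 1 i]; ring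
      rw [Finset.sum_congr rfl (fun i _ => h2 i), Finset.sum_neg_distrib] at h
      linear_combination h
    rw [hb, one_mul]

end Groth.Agent.S15229
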