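import Groth.Statements.S15231
import Groth.Agent.DRingLib.Amplitude
import Groth.Agent.DRingLib.AmplitudeTri

set_option autoImplicit false
universe u
open CategoryTheory CategoryTheory.Limits
attribute [local instance] HasDerivedCategory.standard
open DRing

namespace Groth.Agent.S15231

/-- Let R be a Noetherian local commutative ring with residue field κ, let P be any object of D(R) and
a, b integers. Suppose that H^i(P ⊗^L_R κ) = 0 for every i outside [a, b] (over the field κ this
says exactly that P ⊗^L_R κ has tor amplitude in [a, b] as an object of D(κ)). Then for every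
R-module N of finite length, H^i(P ⊗^L_R N) = 0 for every i outside [a, b]. The derived base change
to κ and the derived tensor products with R-modules are the total left derived functors on D(R),
assumed to exist for every R-module (as they do). -/
theorem result (R : Type u) [CommRing R] [IsNoetherianRing R]
    [IsLocalRing R] [DRing.HasLBaseChange (IsLocalRing.residue R)] [∀ M : ModuleCat.{u} R, DRing.HasLTensor R M]
    (P : Dual.D R) (a b : ℤ)
    (h : ∀ i : ℤ, (i < a ∨ b < i) →
      Subsingleton (Dual.HD (IsLocalRing.ResidueField R) ((DRing.LBaseChange (IsLocalRing.residue R)).obj P) i))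
    (N : Type u) [AddCommGroup N] [Module R N] (hN : IsFiniteLength R N) (i : ℤ) (hi : i < a ∨ b < i) :
    Subsingleton (Dual.HD R ((DRing.LTensor R (ModuleCat.of R N)).obj P) i) := by
  obtain ⟨C, hC, ⟨e⟩⟩ := Groth.Agent.DRingLib.exists_good_rep P
  let Z : ∀ (X : Type u) [AddCommGroup X] [Module R X], Prop := fun X _ _ =>
    ∀ i : ℤ, (i < a ∨ b < i) →
      Limits.IsZero ((KFlatLib.tensorN C (ModuleCat.of R X)).homology i)
  suffices hZ : Z N by
    refine ModuleCat.subsingleton_of_isZero ((hZ i hi).of_iso ?_)
    exact (DerivedCategory.homologyFunctor (ModuleCat.{u} R) i).mapIso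
      ((DRing.LTensor R (ModuleCat.of R N)).mapIso e.symm ≪≫ Groth.Agent.DRingLib.leftDerivedObjIso
        (Φ := MonoidalCategory.tensorRight (ModuleCat.of R N)) (fun _ _ α hP hQ hα =>
          haveI := hα
          Groth.Agent.DRingLib.quasiIso_tensorN α hP hQ _) C hC.1) ≪≫
      (DerivedCategory.homologyFunctorFactors (ModuleCat.{u} R) i).app _
  have key : ∀ (X : Type u) [AddCommGroup X] [Module R X] (i : ℤ),
      Limits.IsZero ((KFlatLib.tensorN C (ModuleCat.of R X)).homology i) ↔
        Function.Exact ((C.d (i - 1) i).hom.rTensor X) ((C.d i (i + 1)).hom.rTensor X) := by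
    intro X _ _ i
    rw [← HomologicalComplex.exactAt_iff_isZero_homology,
      HomologicalComplex.exactAt_iff' _ (i - 1) i (i + 1) (by simp) (by simp),
      CategoryTheory.ShortComplex.ShortExact.moduleCat_exact_iff_function_exact]
    rfl
  let κ := IsLocalRing.ResidueField R
  have hκ : Z κ := by
    intro i hi
    have h0 : Limits.IsZero ((((ModuleCat.extendScalars.{u, u, u} (IsLocalRing.residue R)).mapHomologicalComplex
        (ComplexShape.up ℤ)).obj C).homology i) :=
      (@ModuleCat.isZero_of_subsingleton _ _ _ (h i hi)).of_iso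
        ((DerivedCategory.homologyFunctor (ModuleCat.{u} κ) i).mapIso
          ((DRing.LBaseChange (IsLocalRing.residue R)).mapIso e.symm ≪≫
            Groth.Agent.DRingLib.lBaseChangeObjIso (IsLocalRing.residue R) C hC.1) ≪≫
          (DerivedCategory.homologyFunctorFactors (ModuleCat.{u} κ) i).app _).symm
    rw [← HomologicalComplex.exactAt_iff_isZero_homology,
      HomologicalComplex.exactAt_iff' _ (i - 1) i (i + 1) (by simp) (by simp),
      CategoryTheory.ShortComplex.ShortExact.moduleCat_exact_iff_function_exact] at h0
    rw [key]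
    have h1 : Function.Exact ((C.d (i - 1) i).hom.lTensor κ) ((C.d i (i + 1)).hom.lTensor κ) := by
      exact h0
    refine Function.Exact.of_ladder_addEquiv_of_exact
      (e₁ := (TensorProduct.comm R κ _).toAddEquiv) (e₂ := (TensorProduct.comm R κ _).toAddEquiv)
      (e₃ := (TensorProduct.comm R κ _).toAddEquiv)
      (f₁₂ := ((C.d (i - 1) i).hom.lTensor κ).toAddMonoidHom)
      (f₂₃ := ((C.d i (i + 1)).hom.lTensor κ).toAddMonoidHom)
      (g₁₂ := ((C.d (i - 1) i).hom.rTensor κ).toAddMonoidHom)
      (g₂₃ := ((C.d i (i + 1)).hom.rTensor κ).toAddMonoidHom) ?_ ?_ h1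
    all_goals
      ext x
      induction x using TensorProduct.induction_on with
      | zero => simp
      | add x y hx hy => simp_all
      | tmul m y => simp
  have hiso : ∀ {X Y : Type u} [AddCommGroup X] [Module R X] [AddCommGroup Y] [Module R Y],
      (X ≃ₗ[R] Y) → Z X → Z Y := fun {X Y} _ _ _ _ f hX i hi =>
    (hX i hi).of_iso ((HomologicalComplex.homologyFunctor (ModuleCat.{u} R) (ComplexShape.up ℤ) i).mapIso
      ((NatIso.mapHomologicalComplex
        ((MonoidalCategory.tensoringRight (ModuleCat.{u} R)).mapIso f.toModuleIso)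
        (ComplexShape.up ℤ)).app C)).symm
  clear hi i
  induction hN with
  | @of_subsingleton M =>
    intro i hi
    rw [key]
    intro x
    have : Subsingleton (TensorProduct R (C.X i) M) := inferInstance
    exact ⟨fun _ => ⟨0, Subsingleton.elim _ _⟩, fun _ => Subsingleton.elim _ _⟩
  | @of_simple_quotient M _ _ S _ _ ih =>
    intro i hi
    let f₁ : ModuleCat.of R S ⟶ ModuleCat.of R M := ModuleCat.ofHom S.subtype
    let f₂ : ModuleCat.of R M ⟶ ModuleCat.of R (M ⧸ S) := ModuleCat.ofHom S.mkQ
    let g : ∀ {A B : ModuleCat.{u} R}, (A ⟶ B) →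
        (KFlatLib.tensorN C A ⟶ KFlatLib.tensorN C B) := fun f =>
      (NatTrans.mapHomologicalComplex ((MonoidalCategory.tensoringRight (ModuleCat.{u} R)).map f)
        (ComplexShape.up ℤ)).app C
    let T : ShortComplex (CochainComplex (ModuleCat.{u} R) ℤ) := ShortComplex.mk (g f₁) (g f₂) (by
      ext n : 1
      apply ModuleCat.hom_ext
      refine TensorProduct.ext' fun x y => ?_
      show x ⊗ₜ[R] (Submodule.Quotient.mk (y : M) : M ⧸ S) = 0
      rw [(Submodule.Quotient.mk_eq_zero S).2 y.2, TensorProduct.tmul_zero])
    have hT : T.ShortExact := by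
      rw [HomologicalComplex.shortExact_iff_degreewise_shortExact]
      intro n
      haveI := hC.2 n
      have hex := Module.Flat.lTensor_exact (C.X n) (R := R) (f := S.subtype) (g := S.mkQ)
        (LinearMap.exact_subtype_mkQ S)
      refine { exact := ?_, mono_f := ?_, epi_g := ?_ }
      · rw [CategoryTheory.ShortComplex.ShortExact.moduleCat_exact_iff_function_exact]
        exact hex
      · exact (ModuleCat.mono_iff_injective _).2
          (Module.Flat.lTensor_preserves_injective_linearMap _ S.injective_subtype)
      · exact (ModuleCat.epi_iff_surjective _).2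
          (LinearMap.lTensor_surjective _ S.mkQ_surjective)
    obtain ⟨I, hI, ⟨eI⟩⟩ := isSimpleModule_iff_quot_maximal.1 (inferInstance : IsSimpleModule R (M ⧸ S))
    have hq : Z (M ⧸ S) := by
      refine hiso eI.symm ?_
      obtain rfl := IsLocalRing.eq_maximalIdeal hI
      exact hκ
    exact (hT.homology_exact₂ i).isZero_X₂ ((ih i hi).eq_of_src _ _) ((hq i hi).eq_of_tgt _ _)

end Groth.Agent.S15231
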