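import Groth.Statements.S15232
import Groth.Agent.TwoTermLib.Fibre

set_option autoImplicit false
universe u
open CategoryTheory CategoryTheory.Limits
attribute [local instance] HasDerivedCategory.standard
open DRing

namespace Groth.Agent.S15232

/-- Let R be a Noetherian commutative ring and I an ideal contained in the Jacobson radical of R, and
assume the derived base change D(R) → D(R/I) exists. Let P be a pseudo-coherent object of D(R) and
a, b integers. If P ⊗^L_R R/I has tor amplitude in [a, b] as an object of D(R/I), then P has tor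
amplitude in [a, b] as an object of D(R). Tor amplitude is taken in the flat-representative form
(isomorphic in the derived category to a complex of flat modules vanishing outside [a, b]). -/
theorem result (R : Type u) [CommRing R] [IsNoetherianRing R]
    (I : Ideal R) (hI : I ≤ Ideal.jacobson (⊥ : Ideal R)) [DRing.HasLBaseChange (Ideal.Quotient.mk I)]
    (P : Dual.D R) (hP : DRing.IsPseudoCoherent' R P) (a b : ℤ)
    (h : DRing.HasTorAmplitudeIn (R ⧸ I) a b ((DRing.LBaseChange (Ideal.Quotient.mk I)).obj P)) :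
    DRing.HasTorAmplitudeIn R a b P := by
  obtain ⟨Q, b', hb, hQ, ⟨e⟩⟩ := hP
  have hflat : DRing.IsKFlat R Q :=
    Groth.Agent.DRingLib.isKFlat_of_free Q b' hb fun j => (hQ j).2
  have hQI : DRing.IsKFlat (R ⧸ I) ((Groth.Agent.DRingLib.extCx (Ideal.Quotient.mk I)).obj Q) :=
    Groth.Agent.DRingLib.isKFlat_of_free _ b'
      (fun i hi => (ModuleCat.extendScalars.{u, u, u} (Ideal.Quotient.mk I)).map_isZero (hb i hi))
      fun i => Groth.Agent.DRingLib.free_extCx _ i (hQ i).2
  have hA := (Groth.Agent.DRingLib.hasTorAmplitudeIn_iff_amp hQI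
    ((Groth.Agent.DRingLib.lBaseChangeObjIso (Ideal.Quotient.mk I) Q hflat).symm ≪≫
      (DRing.LBaseChange (Ideal.Quotient.mk I)).mapIso e)).1 h
  refine (Groth.Agent.TwoTermLib.Fibre.perfect_of_amp hb (fun i => hQ i)
    (Groth.Agent.TwoTermLib.Fibre.amp_of_fibres (fun i => hQ i) fun m hm i hi => ?_) e).2
  haveI := hm
  have hIm : I ≤ m := hI.trans (sInf_le ⟨bot_le, hm⟩)
  letI : Field (R ⧸ m) := Ideal.Quotient.field m
  letI : Algebra (R ⧸ I) (R ⧸ m) := (Ideal.Quotient.factor hIm).toAlgebra
  refine ⟨R ⧸ m, inferInstance, inferInstance, Ideal.Quotient.mk_surjective, Ideal.mk_ker, ?_⟩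
  haveI : IsScalarTower R (R ⧸ I) (R ⧸ m) := IsScalarTower.of_algebraMap_eq fun _ => rfl
  have h0 := hA (ModuleCat.of (R ⧸ I) (R ⧸ m)) i hi
  rw [← HomologicalComplex.exactAt_iff_isZero_homology,
    HomologicalComplex.exactAt_iff' _ (i - 1) i (i + 1) (by simp) (by simp),
    CategoryTheory.ShortComplex.ShortExact.moduleCat_exact_iff_function_exact] at h0
  replace h0 : Function.Exact (((Q.d (i - 1) i).hom.baseChange (R ⧸ I)).rTensor (R ⧸ m))
      (((Q.d i (i + 1)).hom.baseChange (R ⧸ I)).rTensor (R ⧸ m)) := h0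
  let c : ∀ (X : Type u) [AddCommGroup X] [Module R X],
      TensorProduct (R ⧸ I) (TensorProduct R (R ⧸ I) X) (R ⧸ m) ≃+ TensorProduct R (R ⧸ m) X :=
    fun X _ _ => (TensorProduct.comm (R ⧸ I) _ _).toAddEquiv.trans
      (TensorProduct.AlgebraTensorModule.cancelBaseChange R (R ⧸ I) (R ⧸ I) (R ⧸ m) X).toAddEquiv
  refine Function.Exact.of_ladder_addEquiv_of_exact (e₁ := c _) (e₂ := c _) (e₃ := c _)
    (f₁₂ := (((Q.d (i - 1) i).hom.baseChange (R ⧸ I)).rTensor (R ⧸ m)).toAddMonoidHom)
    (f₂₃ := (((Q.d i (i + 1)).hom.baseChange (R ⧸ I)).rTensor (R ⧸ m)).toAddMonoidHom)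
    (g₁₂ := ((Q.d (i - 1) i).hom.baseChange (R ⧸ m)).toAddMonoidHom)
    (g₂₃ := ((Q.d i (i + 1)).hom.baseChange (R ⧸ m)).toAddMonoidHom) ?_ ?_ h0
  all_goals
    ext x
    induction x using TensorProduct.induction_on with
    | zero => simp
    | add x y hx hy => simp_all
    | tmul z m =>
      induction z using TensorProduct.induction_on with
      | zero => simp
      | add x y hx hy => simp_all [TensorProduct.add_tmul]
      | tmul b z => simp [c]

end Groth.Agent.S15232
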