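import Groth.Statements.S15233
import Mathlib
-- import your own Groth.Agent.* helpers here

set_option autoImplicit false
set_option linter.style.haveILetI false
universe u
open CategoryTheory CategoryTheory.Limits Opposite
open CohSite

namespace Groth.Agent.S15233

/-- Let C be a small category with a Grothendieck topology J, and let B be a class of objects forming a
prebasis: for every object V and every covering sieve S of V, the arrows of S whose domain lies in B
generate a covering sieve of V. If F is a presheaf of abelian groups on C such that F(U) = 0 for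
every object U in B, then the sheafification of F is zero. -/
theorem result {C : Type u} [SmallCategory C] (J : GrothendieckTopology C)
    (B : ObjectProperty C)
    (hB : ∀ (V : C) (S : Sieve V), S ∈ J V →
      Sieve.generate (fun (U : C) => {g : U ⟶ V | S.arrows g ∧ B U}) ∈ J V)
    (F : Cᵒᵖ ⥤ AddCommGrpCat.{u}) (hF : ∀ U : C, B U → IsZero (F.obj (op U))) :
    IsZero ((presheafToSheaf J AddCommGrpCat.{u}).obj F) := by
  set G := (presheafToSheaf J AddCommGrpCat.{u}).obj F with hG
  have key : toSheafify J F = 0 := by
    refine NatTrans.ext (funext fun X => ?_)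
    have hcov := hB X.unop ⊤ (J.top_mem _)
    refine ((presheafToSheaf J AddCommGrpCat.{u}).obj F).2.hom_ext ⟨_, hcov⟩ _ _ ?_
    rintro ⟨W, f, U, p, g, ⟨-, hU⟩, rfl⟩
    rw [op_comp, Functor.map_comp]
    have h0 : (toSheafify J F).app X ≫ (sheafify J F).map g.op = 0 := by
      rw [← NatTrans.naturality, (hF U hU).eq_of_tgt (F.map g.op) 0, zero_comp]
    rw [← Category.assoc, h0]
    simp
  rw [IsZero.iff_id_eq_zero]
  apply Sheaf.hom_ext
  refine sheafify_hom_ext J _ _ G.2 ?_
  rw [key, zero_comp, zero_comp]

end Groth.Agent.S15233
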