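import Groth.Statements.S15235
import Groth.Agent.MittagLeffler.Seq
-- import your own Groth.Agent.* helpers here

set_option autoImplicit false
universe u
open CategoryTheory Opposite
open HomAlg3

namespace Groth.Agent.S15235

/-- Let (G_j) be an inverse system of abelian groups indexed by the natural numbers, with transition
maps G_{j+1} → G_j, and let j₀ be a natural number such that the transition map G_{j+1} → G_j is
surjective for every j ≥ j₀. Then: (a) the system satisfies the Mittag-Leffler condition; (b) the
evaluation map from the inverse limit (realised as the set of compatible families) to G_{j₀} is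
surjective; (c) if in addition the transition maps G_{j+1} → G_j are injective for every j ≥ j₀,
that evaluation map is bijective. (The published statement indexes the system by the negative
integers and assumes j₀ ≥ 1; this row indexes it by the natural numbers and allows j₀ = 0, which
changes nothing.) -/
theorem result (G : ℕᵒᵖ ⥤ AddCommGrpCat.{u})
    (j₀ : ℕ) (hs : ∀ j : ℕ, j₀ ≤ j → Function.Surjective (G.map (homOfLE (Nat.le_succ j)).op).hom) :
    (G ⋙ forget AddCommGrpCat.{u}).IsMittagLeffler ∧
      Function.Surjective (fun s : (G ⋙ forget AddCommGrpCat.{u}).sections => s.1 (op j₀)) ∧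
      ((∀ j : ℕ, j₀ ≤ j → Function.Injective (G.map (homOfLE (Nat.le_succ j)).op).hom) →
        Function.Bijective (fun s : (G ⋙ forget AddCommGrpCat.{u}).sections => s.1 (op j₀))) := by
  have hs' : ∀ i j (hij : i ≤ j), j₀ ≤ i → Function.Surjective (G.map (homOfLE hij).op).hom := by
    intro i j hij hi
    induction j, hij using Nat.le_induction with
    | base => intro x; exact ⟨x, MittagLefflerLib.map_refl (F := G ⋙ forget _) _ x⟩
    | succ j hij ih =>
      intro x
      obtain ⟨y, rfl⟩ := ih x
      obtain ⟨z, rfl⟩ := hs j (hi.trans hij) y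
      exact ⟨z, (MittagLefflerLib.map_map_eq (F := G ⋙ forget _) hij (Nat.le_succ j) _ z).symm⟩
  have hML : (G ⋙ forget AddCommGrpCat.{u}).IsMittagLeffler := by
    rw [Functor.isMittagLeffler_iff_subset_range_comp]
    rintro ⟨j⟩
    refine ⟨op (max j j₀), (homOfLE (le_max_left j j₀)).op, ?_⟩
    rintro ⟨k⟩ g _ ⟨y, rfl⟩
    obtain ⟨z, hz⟩ := hs' _ k (leOfHom g.unop) (le_max_right j j₀) y
    refine ⟨z, ?_⟩
    rw [Functor.map_comp_apply, ← hz]
    rfl
  have hsurj : Function.Surjective
      (fun s : (G ⋙ forget AddCommGrpCat.{u}).sections => s.1 (op j₀)) := fun x =>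
    MittagLefflerLib.exists_section hML x
      (MittagLefflerLib.mem_eventualRange_iff.2 fun k hk => hs' _ k hk le_rfl x)
  refine ⟨hML, hsurj, fun hi => ⟨fun s t hst => ?_, hsurj⟩⟩
  have hge : ∀ n, j₀ ≤ n → s.1 (op n) = t.1 (op n) := by
    intro n hn
    induction n, hn using Nat.le_induction with
    | base => exact hst
    | succ n hn ih =>
      apply hi n hn
      exact ((s.2 (homOfLE (Nat.le_succ n)).op).trans ih).trans (t.2 (homOfLE (Nat.le_succ n)).op).symm
  refine Subtype.ext (funext fun ⟨n⟩ => ?_)
  rw [← s.2 (homOfLE (le_max_left n j₀)).op, ← t.2 (homOfLE (le_max_left n j₀)).op,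
    hge _ (le_max_right n j₀)]

end Groth.Agent.S15235
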