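import Groth.Statements.S15236
import Groth.Agent.DescFP.Main
import Groth.Agent.ConsLib.FGSystem
import Groth.Agent.GenPointLib.Basic
import Mathlib

set_option autoImplicit false
set_option backward.isDefEq.respectTransparency false
set_option backward.isDefEq.respectTransparency.types false
open CategoryTheory CategoryTheory.Limits AlgebraicGeometry
universe u
open Variety

namespace Groth.Agent.S15236

open scoped Cardinal

/-- Algebraically closed uncountable fields of the same cardinality over a countable domain. -/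
theorem exists_equiv_over {B K L : Type u} [CommRing B] [IsDomain B] (hB : #B ≤ ℵ₀) [Field K] [IsAlgClosed K]
    [Field L] [IsAlgClosed L] (hK : ℵ₀ < #K) (hKL : #K = #L) (a : B →+* K) (b : B →+* L)
    (ha : Function.Injective a) (hb : Function.Injective b) :
    ∃ e : K ≃+* L, e.toRingHom.comp a = b := by
  letI := a.toAlgebra
  letI := b.toAlgebra
  haveI : FaithfulSMul B K := (faithfulSMul_iff_algebraMap_injective _ _).2 ha
  haveI : FaithfulSMul B L := (faithfulSMul_iff_algebraMap_injective _ _).2 hb
  obtain ⟨s, hs⟩ := exists_isTranscendenceBasis B K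
  obtain ⟨t, ht⟩ := exists_isTranscendenceBasis B L
  have h1 := IsAlgClosed.cardinal_eq_cardinal_transcendence_basis_of_aleph0_lt' _ hs hB hK
  have h2 := IsAlgClosed.cardinal_eq_cardinal_transcendence_basis_of_aleph0_lt' _ ht hB (hKL ▸ hK)
  obtain ⟨e, he⟩ := GenPointLib.exists_ringEquiv (R := B) (K := K) (L := L)
    (by rw [← hs.cardinalMk_eq_trdeg, ← ht.cardinalMk_eq_trdeg, ← h1, ← h2, hKL])
  exact ⟨e, RingHom.ext he⟩

/-- A point with values in a field which lands in an affine open. -/
theorem exists_point_hom {T : Scheme.{u}} {U : T.Opens} (hU : IsAffineOpen U) {F : Type u} [Field F]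
    (P : Spec (CommRingCat.of F) ⟶ T) (t : T) (ht : ∀ x, P x = t) (htU : t ∈ U) :
    ∃ φ : Γ(T, U) ⟶ CommRingCat.of F, Spec.map φ ≫ hU.fromSpec = P ∧
      ∀ a : Γ(T, U), t ∈ T.basicOpen a → φ a ≠ 0 := by
  have hr : Set.range P ⊆ Set.range hU.fromSpec := by
    rintro _ ⟨x, rfl⟩
    rw [hU.range_fromSpec, ht]
    exact htU
  refine ⟨Spec.preimage (IsOpenImmersion.lift hU.fromSpec P hr), ?_, fun a ha h0 => ?_⟩
  · rw [Spec.map_preimage, IsOpenImmersion.lift_fac]
  · let x : Spec (CommRingCat.of F) := (⟨⊥, Ideal.isPrime_bot⟩ : PrimeSpectrum F)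
    let φ := Spec.preimage (IsOpenImmersion.lift hU.fromSpec P hr)
    have hx : hU.fromSpec (Spec.map φ x) = t := by
      rw [← Scheme.Hom.comp_apply, Spec.map_preimage, IsOpenImmersion.lift_fac, ht]
    have h1 : Spec.map φ x ∈ hU.fromSpec ⁻¹ᵁ T.basicOpen a := by
      show hU.fromSpec (Spec.map φ x) ∈ T.basicOpen a
      rw [hx]; exact ha
    rw [hU.fromSpec_preimage_basicOpen] at h1
    exact h1 (show φ a ∈ (⊥ : Ideal F) from by rw [show φ a = 0 from h0]; exact zero_mem _)

theorem lfp_of_lft {X S : Scheme.{u}} (f : X ⟶ S) [IsLocallyNoetherian S] [LocallyOfFiniteType f] :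
    LocallyOfFinitePresentation f := ⟨fun {U} hU {V} hV e => by
  haveI : IsNoetherianRing Γ(S, U) := IsLocallyNoetherian.component_noetherian ⟨U, hU⟩
  exact RingHom.FinitePresentation.of_finiteType.mp (LocallyOfFiniteType.finiteType_appLE f hU hV e)⟩

noncomputable def uliftIntAlgebra (A : Type u) [CommRing A] : Algebra (ULift.{u} ℤ) A :=
  ((Int.castRingHom A).comp (ULift.ringEquiv : ULift.{u} ℤ ≃+* ℤ).toRingHom).toAlgebra

theorem countable_of_fg {A : Type u} [CommRing A] [Algebra (ULift.{u} ℤ) A] (B : Subalgebra (ULift.{u} ℤ) A) (hB : B.FG) : #B ≤ ℵ₀ := by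
  obtain ⟨s, hs⟩ := hB
  have h : B = (MvPolynomial.aeval ((↑) : s → A) : MvPolynomial s (ULift.{u} ℤ) →ₐ[ULift.{u} ℤ] A).range := by
    rw [← hs, Algebra.adjoin_eq_range]
    rfl
  rw [h]
  refine (Cardinal.mk_le_of_surjective (AlgHom.rangeRestrict_surjective _)).trans ?_
  refine MvPolynomial.cardinalMk_le_max_lift.trans ?_
  simp only [Cardinal.lift_id]
  exact max_le (max_le Cardinal.mk_le_aleph0 Cardinal.mk_le_aleph0) le_rfl

/-- Let k be an uncountable algebraically closed field of characteristic zero, T an integral k-scheme of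
finite type and f : X → T a flat morphism of finite type. Then there are countably many closed
subsets Z₀, Z₁, … of T, none of them equal to T, such that for every closed point t of T lying in no
Zₙ the fibre X_t = X ×_T Spec κ(t) is isomorphic, as a scheme, to the geometric generic fibre X ×_T
Spec L, where L is an algebraic closure of the residue field of T at its generic point (existence of
an isomorphism of schemes only; that such an isomorphism preserves rational equivalence of algebraic
cycles, as the published statement adds, is automatic and is not restated). (The published statement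
fixes the countable family of closed subsets before the family X → T and allows any flat T-scheme X
over any integral k-scheme T. Both fail: for T the affine line and X the spectrum of its function
field every closed fibre is empty while the geometric generic fibre is a point, and for any fixed
countable family of proper closed subsets of the affine line, X the complement of a closed point
outside all of them has an empty fibre there. This row takes T and f of finite type and lets the
closed subsets depend on f.) -/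
theorem result (k : Type u) [Field k] [IsAlgClosed k]
    [CharZero k] [Uncountable k] (T X : Scheme.{u}) (sT : T ⟶ Spec (CommRingCat.of k)) [IsIntegral T]
    [LocallyOfFiniteType sT] [QuasiCompact sT] (f : X ⟶ T) [Flat f] [LocallyOfFiniteType f]
    [QuasiCompact f] :
    ∃ Z : ℕ → TopologicalSpace.Closeds T, (∀ n, (Z n : Set T) ≠ Set.univ) ∧
      ∀ t : T, IsClosed ({t} : Set T) → (∀ n, t ∉ Z n) →
        Nonempty (f.fiber t ≅ pullback f (Spec.map (CommRingCat.ofHom (algebraMap
          (T.residueField (genericPoint T)) (AlgebraicClosure (T.residueField (genericPoint T))))) ≫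
            T.fromSpecResidueField (genericPoint T))) := by
  classical
  let η := genericPoint T
  let L := AlgebraicClosure (T.residueField η)
  obtain ⟨_, ⟨U, hU, rfl⟩, hηU, -⟩ :=
    T.isBasis_affineOpens.exists_subset_of_mem_open (Set.mem_univ η) isOpen_univ
  replace hU : IsAffineOpen U := hU
  haveI : IsLocallyNoetherian T := LocallyOfFiniteType.isLocallyNoetherian sT
  haveI : IsNoetherianRing Γ(T, U) := IsLocallyNoetherian.component_noetherian ⟨U, hU⟩
  haveI : Nonempty U := ⟨⟨η, hηU⟩⟩
  haveI : IsDomain Γ(T, U) := inferInstance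
  -- the model
  letI := uliftIntAlgebra Γ(T, U)
  let fU := pullback.snd f hU.fromSpec
  haveI : LocallyOfFiniteType fU := MorphismProperty.pullback_snd _ _ inferInstance
  haveI : QuasiCompact fU := MorphismProperty.pullback_snd _ _ inferInstance
  haveI : LocallyOfFinitePresentation fU := lfp_of_lft fU
  haveI : IsLocallyNoetherian (pullback f hU.fromSpec) := LocallyOfFiniteType.isLocallyNoetherian fU
  haveI : QuasiSeparated fU := QuasiSeparated.of_quasiSeparatedSpace fU
  let c : Cone ((ConsLib.fgDiag (ULift.{u} ℤ) Γ(T, U)).op ⋙ Scheme.Spec) :=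
    Scheme.Spec.mapCone (ConsLib.fgCocone (ULift.{u} ℤ) Γ(T, U)).op
  have hc : IsLimit c := isLimitOfPreserves Scheme.Spec (ConsLib.fgCocone_isColimit (ULift.{u} ℤ) Γ(T, U)).some.op
  haveI : ∀ (i j : (ConsLib.FGSub (ULift.{u} ℤ) Γ(T, U))ᵒᵖ) (h : i ⟶ j),
      IsAffineHom (((ConsLib.fgDiag (ULift.{u} ℤ) Γ(T, U)).op ⋙ Scheme.Spec).map h) := fun i j h =>
    haveI : IsAffine (((ConsLib.fgDiag (ULift.{u} ℤ) Γ(T, U)).op ⋙ Scheme.Spec).obj i) :=
      inferInstanceAs (IsAffine (Spec (CommRingCat.of i.unop.1)))
    haveI : IsAffine (((ConsLib.fgDiag (ULift.{u} ℤ) Γ(T, U)).op ⋙ Scheme.Spec).obj j) :=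
      inferInstanceAs (IsAffine (Spec (CommRingCat.of j.unop.1)))
    isAffineHom_of_isAffine _
  haveI : ∀ i : (ConsLib.FGSub (ULift.{u} ℤ) Γ(T, U))ᵒᵖ,
      IsAffine (((ConsLib.fgDiag (ULift.{u} ℤ) Γ(T, U)).op ⋙ Scheme.Spec).obj i) := fun i =>
    inferInstanceAs (IsAffine (Spec (CommRingCat.of i.unop.1)))
  obtain ⟨i, ⟨M⟩⟩ := DescFP.exists_model (c := c) hc (fU : pullback f hU.fromSpec ⟶ c.pt)
  let B := i.unop.1
  let incl : CommRingCat.of B ⟶ Γ(T, U) := CommRingCat.ofHom B.val.toRingHom
  have hBc : #B ≤ ℵ₀ := countable_of_fg B i.unop.2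
  haveI : Countable B := Cardinal.mk_le_aleph0_iff.1 hBc
  haveI : Nonempty B := ⟨0⟩
  have hBinj : Function.Injective incl := fun x y h => Subtype.ext h
  haveI : IsDomain B := hBinj.isDomain incl.hom
  obtain ⟨e, he⟩ := exists_surjective_nat B
  let Z : ℕ → TopologicalSpace.Closeds T := fun n =>
    if e n = 0 then U.compl else (T.basicOpen (incl (e n))).compl
  have hne : ∀ b : B, b ≠ 0 → η ∈ T.basicOpen (incl b) := fun b hb => by
    refine ((genericPoint_spec T).mem_open_set_iff (T.basicOpen (incl b)).2).2 ?_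
    rw [Set.univ_inter]
    refine (TopologicalSpace.Opens.ne_bot_iff_nonempty _).1 fun h => hb (hBinj ?_)
    rw [map_zero]
    exact (basicOpen_eq_bot_iff _).1 h
  refine ⟨Z, fun n => ?_, fun t ht htZ => ?_⟩
  · intro h
    have h2 : η ∈ (Z n : Set T) := h.symm ▸ Set.mem_univ η
    simp only [Z] at h2
    split_ifs at h2 with h3
    · exact h2 hηU
    · exact h2 (hne _ h3)
  have htU : t ∈ U := by
    obtain ⟨n, hn⟩ := he 0
    have h := htZ n
    simp only [Z, hn, if_true] at h
    exact not_not.1 h
  have htb : ∀ b : B, b ≠ 0 → t ∈ T.basicOpen (incl b) := fun b hb => by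
    obtain ⟨n, hn⟩ := he b
    have h := htZ n
    simp only [Z, hn, if_neg hb] at h
    exact not_not.1 h
  -- the two geometric points
  let Pt := pointOfClosedPoint sT t ht
  let Pη := Spec.map (CommRingCat.ofHom (algebraMap (T.residueField η) L)) ≫ T.fromSpecResidueField η
  obtain ⟨φt, hφt, hφt0⟩ := exists_point_hom hU Pt t (pointOfClosedPoint_apply sT t ht) htU
  obtain ⟨φη, hφη, hφη0⟩ := exists_point_hom hU Pη η (fun x => by
    rw [Scheme.Hom.comp_apply]; exact T.fromSpecResidueField_apply η _) hηU
  have hinj1 : Function.Injective (φη.hom.comp incl.hom) := (injective_iff_map_eq_zero _).2 fun b hb =>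
    by_contra fun hb0 => hφη0 _ (hne b hb0) hb
  have hinj2 : Function.Injective (φt.hom.comp incl.hom) := (injective_iff_map_eq_zero _).2 fun b hb =>
    by_contra fun hb0 => hφt0 _ (htb b hb0) hb
  -- cardinalities
  have hk : ℵ₀ < #k := Cardinal.aleph0_lt_mk
  letI : Algebra k Γ(T, U) := (Spec.preimage (hU.fromSpec ≫ sT)).hom.toAlgebra
  haveI : Algebra.FiniteType k Γ(T, U) := by
    have h : LocallyOfFiniteType (Spec.map (Spec.preimage (hU.fromSpec ≫ sT))) := by
      rw [Spec.map_preimage]; infer_instance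
    exact (HasRingHomProperty.Spec_iff (P := @LocallyOfFiniteType)).mp h
  have hcard : #k = #L := by
    obtain ⟨m, g, hg⟩ := Algebra.FiniteType.iff_quotient_mvPolynomial''.1 ‹Algebra.FiniteType k Γ(T, U)›
    have hA : #Γ(T, U) ≤ #k := by
      refine (Cardinal.mk_le_of_surjective hg).trans (MvPolynomial.cardinalMk_le_max_lift.trans ?_)
      simp only [Cardinal.lift_id, Cardinal.lift_uzero, Cardinal.mk_fintype, Cardinal.lift_natCast]
      exact max_le (max_le le_rfl ((Cardinal.natCast_lt_aleph0.trans hk).le)) hk.le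
    haveI := functionField_isFractionRing_of_isAffineOpen T U hU
    have hF : #T.functionField ≤ #k :=
      (Cardinal.mk_le_of_surjective (f := fun p : Γ(T, U) × nonZeroDivisors Γ(T, U) =>
        IsLocalization.mk' T.functionField p.1 p.2) fun z => by
          obtain ⟨a, b, h⟩ := IsLocalization.exists_mk'_eq (nonZeroDivisors Γ(T, U)) z
          exact ⟨(a, b), h⟩).trans (by
        rw [Cardinal.mk_prod, Cardinal.lift_id, Cardinal.lift_id]
        exact (mul_le_mul' hA ((Cardinal.mk_subtype_le _).trans hA)).trans (Cardinal.mul_eq_self hk.le).le)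
    have hres : #(T.residueField η) ≤ #k :=
      (Cardinal.mk_le_of_surjective (T.residue_surjective η)).trans hF
    refine le_antisymm ?_ ?_
    · exact Cardinal.mk_le_of_injective
        (φη.hom.comp (algebraMap k Γ(T, U))).injective
    · exact (Algebra.IsAlgebraic.cardinalMk_le_max (T.residueField η) L).trans (max_le hres hk.le)
  obtain ⟨σ, hσ⟩ := exists_equiv_over hBc hk hcard (φt.hom.comp incl.hom) (φη.hom.comp incl.hom) hinj2 hinj1
  -- the isomorphisms
  have base : ∀ {F : Type u} [Field F] (φ : Γ(T, U) ⟶ CommRingCat.of F),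
      Nonempty (pullback f (Spec.map φ ≫ hU.fromSpec) ≅ pullback M.p (Spec.map (incl ≫ φ))) := fun {F} _ φ => by
    have h1 : IsPullback (pullback.fst fU (Spec.map φ) ≫ pullback.fst f hU.fromSpec) (pullback.snd fU (Spec.map φ))
        f (Spec.map φ ≫ hU.fromSpec) :=
      (IsPullback.of_hasPullback fU (Spec.map φ)).paste_horiz (IsPullback.of_hasPullback f hU.fromSpec)
    have h2 : IsPullback (pullback.fst fU (Spec.map φ) ≫ M.g) (pullback.snd fU (Spec.map φ))
        M.p (Spec.map φ ≫ c.π.app i) :=
      (IsPullback.of_hasPullback fU (Spec.map φ)).paste_horiz M.sq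
    exact ⟨h1.isoPullback.symm ≪≫ h2.isoPullback ≪≫ pullback.congrHom rfl (Spec.map_comp incl φ).symm⟩
  obtain ⟨e1⟩ := base φt
  obtain ⟨e2⟩ := base φη
  let ι : CommRingCat.of k ≅ CommRingCat.of L := RingEquiv.toCommRingCatIso σ
  have hι : (incl ≫ φt) ≫ ι.hom = incl ≫ φη := CommRingCat.hom_ext hσ
  refine ⟨?_ ≪≫ pullback.congrHom rfl hφt.symm ≪≫ e1 ≪≫ ?_ ≪≫ e2.symm ≪≫ pullback.congrHom rfl hφη⟩
  · exact (asIso (pullback.map f Pt f (T.fromSpecResidueField t) (𝟙 X)
      (Spec.map (residueFieldIsoBase sT t ht).hom) (𝟙 T) (by simp) (by simp [Pt, pointOfClosedPoint]))).symm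
  · exact (asIso (pullback.map M.p (Spec.map (incl ≫ φη)) M.p (Spec.map (incl ≫ φt)) (𝟙 _)
      (Spec.map ι.hom) (𝟙 _) (by simp) (by rw [Category.comp_id, ← Spec.map_comp, hι]))).symm

end Groth.Agent.S15236
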