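import Groth.Statements.S15240
import Groth.Agent.AlbLib.AVBasic
import Mathlib.AlgebraicGeometry.PullbackCarrier

set_option autoImplicit false
universe u
open CategoryTheory CategoryTheory.Limits MonoidalCategory CartesianMonoidalCategory MonObj GrpObj AlgebraicGeometry
open AGF

namespace Groth.Agent.S15240

noncomputable section

section

variable {k : Type u} [Field k]

/-- The image of a rational point. -/
def P {A : Over (Spec (CommRingCat.of k))} (x : 𝟙_ (Over (Spec (CommRingCat.of k))) ⟶ A) : A.left :=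
  x.left (IsLocalRing.closedPoint k)

lemma P_comp {A A' : Over (Spec (CommRingCat.of k))} (x : 𝟙_ (Over (Spec (CommRingCat.of k))) ⟶ A) (f : A ⟶ A') :
    P (x ≫ f) = f.left (P x) := rfl

/-- Closed sets are contained in one another as soon as their rational points are. -/
lemma subset_of_pts [IsAlgClosed k] {A : Over (Spec (CommRingCat.of k))} [LocallyOfFiniteType A.hom] {F F' : Set A.left}
    (hF : IsClosed F) (hF' : IsClosed F') (h : ∀ x, P x ∈ F → P x ∈ F') : F ⊆ F' := by
  haveI : JacobsonSpace A.left := LocallyOfFiniteType.jacobsonSpace A.hom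
  refine (closure_inter_closedPoints hF).symm.subset.trans (closure_minimal ?_ hF')
  rintro z ⟨hz, hzc⟩
  let x : 𝟙_ (Over (Spec (CommRingCat.of k))) ⟶ A :=
    Over.homMk (pointOfClosedPoint A.hom z hzc) (pointOfClosedPoint_comp _ _ _)
  have hx : P x = z := by simp [P, x]
  exact hx ▸ h x (hx.symm ▸ hz)

variable {B X : Over (Spec (CommRingCat.of k))} [GrpObj B] (a : AlgGrp.Action B X)

lemma act_mul {T : Over (Spec (CommRingCat.of k))} (g g' : T ⟶ B) (x : T ⟶ X) :
    lift (g * g') x ≫ a.act = lift g (lift g' x ≫ a.act) ≫ a.act := by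
  rw [Hom.mul_def, ← lift_whiskerRight_assoc, a.mul_act, lift_lift_associator_hom_assoc, lift_whiskerLeft_assoc]

lemma act_one (x : 𝟙_ (Over (Spec (CommRingCat.of k))) ⟶ X) :
    lift (η[B]) x ≫ a.act = x := by
  have e : lift (η[B]) x = lift (𝟙 _) x ≫ (η[B] ▷ X) := by rw [lift_whiskerRight, Category.id_comp]
  rw [e, Category.assoc, a.one_act, leftUnitor_hom, lift_snd]

lemma comp_orbit {T : Over (Spec (CommRingCat.of k))} (g : T ⟶ B) (x : 𝟙_ (Over (Spec (CommRingCat.of k))) ⟶ X) :
    g ≫ a.orbitMap x = lift g (toUnit T ≫ x) ≫ a.act := by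
  rw [AlgGrp.Action.orbitMap, comp_lift_assoc, Category.comp_id, ← Category.assoc g, toUnit_unique (g ≫ toUnit B) (toUnit T)]

/-- Translation by a point. -/
abbrev tr (b : 𝟙_ (Over (Spec (CommRingCat.of k))) ⟶ B) : X ⟶ X := lift (toUnit X ≫ b) (𝟙 X) ≫ a.act

lemma orbit_tr (b : 𝟙_ (Over (Spec (CommRingCat.of k))) ⟶ B) (x : 𝟙_ (Over (Spec (CommRingCat.of k))) ⟶ X) :
    a.orbitMap x ≫ tr a b = ((toUnit B ≫ b) * 𝟙 B) ≫ a.orbitMap x := by
  rw [comp_orbit a ((toUnit B ≫ b) * 𝟙 B) x, act_mul, ← comp_orbit a (𝟙 B) x, Category.id_comp]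
  simp only [tr]
  rw [comp_lift_assoc, Category.comp_id, ← Category.assoc (a.orbitMap x), toUnit_unique (a.orbitMap x ≫ toUnit X) (toUnit B)]

lemma pt_tr (x b : 𝟙_ (Over (Spec (CommRingCat.of k))) ⟶ _) :
    (x : _ ⟶ X) ≫ tr a b = lift b x ≫ a.act := by
  rw [tr, comp_lift_assoc, Category.comp_id, ← Category.assoc x, toUnit_unique (x ≫ toUnit X) (𝟙 _), Category.id_comp]

end

/-- Let k be an algebraically closed field, B a connected solvable affine algebraic group over k
(affine, smooth, connected, solvable k-group scheme) acting on a complete k-scheme X (separated, of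
finite type and proper over k) with finitely many orbits (finitely many subsets of X arise as images
of orbit maps of k-points), and Y a separated k-scheme of finite type on which B acts trivially.
Then every closed irreducible subset Z of X ×_k Y which is stable under the translations by all
k-points of B (acting on the first factor) is of the form V × W: there are a B-stable closed
irreducible subset V of X and a closed irreducible subset W of Y with Z equal to the set of points
whose two projections lie in V and in W. -/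
theorem result (k : Type u) [Field k] [IsAlgClosed k]
    (B X Y : Over (Spec (CommRingCat.of k))) [GrpObj B] [IsAffine B.left] [Smooth B.hom] [ConnectedSpace ↥B.left]
    (hsolv : Red.IsSolvableGrp B)
    [IsProper X.hom]
    [IsSeparated Y.hom] [LocallyOfFiniteType Y.hom] [QuasiCompact Y.hom]
    (a : AlgGrp.Action B X)
    (hfin : Set.Finite {S : Set ↥X.left | ∃ x : 𝟙_ (Over (Spec (CommRingCat.of k))) ⟶ X, S = Set.range ⇑(a.orbitMap x).left.base})
    (Z : Set ↥(X ⊗ Y).left) (hZc : IsClosed Z) (hZi : IsIrreducible Z)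
    (hZs : ∀ b : 𝟙_ (Over (Spec (CommRingCat.of k))) ⟶ B,
      ⇑(CartesianMonoidalCategory.lift (CartesianMonoidalCategory.toUnit (X ⊗ Y) ≫ b) (𝟙 (X ⊗ Y)) ≫
          (α_ B X Y).inv ≫ (a.act ▷ Y)).left.base '' Z ⊆ Z) :
    ∃ (V : Set ↥X.left) (W : Set ↥Y.left), IsClosed V ∧ IsIrreducible V ∧ IsClosed W ∧ IsIrreducible W ∧
      (∀ b : 𝟙_ (Over (Spec (CommRingCat.of k))) ⟶ B,
        ⇑(CartesianMonoidalCategory.lift (CartesianMonoidalCategory.toUnit X ≫ b) (𝟙 X) ≫ a.act).left.base '' V ⊆ V) ∧
      Z = ⇑(CartesianMonoidalCategory.fst X Y).left.base ⁻¹' V ∩ ⇑(CartesianMonoidalCategory.snd X Y).left.base ⁻¹' W := by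
  classical
  haveI : QuasiCompact B.hom := inferInstance
  haveI : GeometricallyIntegral B.hom := AlbLib.geometricallyIntegral_grp B
  haveI : Subsingleton ↥(Spec (CommRingCat.of k)) := inferInstanceAs (Subsingleton (PrimeSpectrum k))
  haveI : IsIntegral B.left := GeometricallyIntegral.isIntegral_of_subsingleton B.hom
  haveI : LocallyOfFiniteType (X ⊗ Y).hom := by
    show LocallyOfFiniteType (pullback.fst X.hom Y.hom ≫ X.hom)
    haveI : LocallyOfFiniteType (pullback.fst X.hom Y.hom) := MorphismProperty.pullback_fst _ _ inferInstance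
    infer_instance
  let F := fun z : ↥(X ⊗ Y).left => (fst X Y).left z
  let G := fun z : ↥(X ⊗ Y).left => (snd X Y).left z
  let sX : (𝟙_ (Over (Spec (CommRingCat.of k))) ⟶ X) → (Y ⟶ X ⊗ Y) := fun x => lift (toUnit Y ≫ x) (𝟙 Y)
  let sY : (𝟙_ (Over (Spec (CommRingCat.of k))) ⟶ Y) → (X ⟶ X ⊗ Y) := fun y => lift (𝟙 X) (toUnit X ≫ y)
  have hsX : ∀ x y, y ≫ sX x = lift x y := fun x y => by
    simp only [sX]
    rw [comp_lift, Category.comp_id, ← Category.assoc, toUnit_unique (y ≫ toUnit Y) (𝟙 _), Category.id_comp]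
  have hsY : ∀ x y, x ≫ sY y = lift x y := fun x y => by
    simp only [sY]
    rw [comp_lift, Category.comp_id, ← Category.assoc, toUnit_unique (x ≫ toUnit X) (𝟙 _), Category.id_comp]
  let Vs : Set X.left → Set X.left := fun S => closure S
  let Ws : Set X.left → Set Y.left := fun S =>
    ⋂ x ∈ {x : 𝟙_ (Over (Spec (CommRingCat.of k))) ⟶ X | P x ∈ closure S}, (sX x).left ⁻¹' Z
  let R : Set X.left → Set ↥(X ⊗ Y).left := fun S => F ⁻¹' closure S ∩ G ⁻¹' Ws S
  have hWc : ∀ S, IsClosed (Ws S) := fun S => isClosed_biInter fun x _ => hZc.preimage (sX x).left.continuous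
  have hRc : ∀ S, IsClosed (R S) := fun S =>
    (isClosed_closure.preimage (fst X Y).left.continuous).inter ((hWc S).preimage (snd X Y).left.continuous)
  -- the rectangles lie inside `Z`
  have hRZ : ∀ S, R S ⊆ Z := fun S => subset_of_pts (hRc S) hZc fun z ⟨hz1, hz2⟩ => by
    have h1 : P (z ≫ fst X Y) ∈ closure S := hz1
    have h2 : P (z ≫ snd X Y) ∈ (sX (z ≫ fst X Y)).left ⁻¹' Z := Set.mem_iInter₂.1 hz2 _ h1
    rw [Set.mem_preimage, ← P_comp, hsX, ← comp_lift, lift_fst_snd, Category.comp_id] at h2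
    exact h2
  -- and cover it
  have hcov : ∀ z, P z ∈ Z → P z ∈ R (Set.range ⇑(a.orbitMap (z ≫ fst X Y)).left.base) := by
    intro z hz
    set x := z ≫ fst X Y
    set y := z ≫ snd X Y
    have hxy : lift x y = z := by rw [← comp_lift, lift_fst_snd, Category.comp_id]
    have hsub : closure (Set.range ⇑(a.orbitMap x).left.base) ⊆ (sY y).left ⁻¹' Z := by
      refine closure_minimal ?_ (hZc.preimage (sY y).left.continuous)
      rintro _ ⟨c, rfl⟩
      suffices h : (Set.univ : Set B.left) ⊆ (a.orbitMap x ≫ sY y).left ⁻¹' Z from h (Set.mem_univ c)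
      refine subset_of_pts isClosed_univ (hZc.preimage (a.orbitMap x ≫ sY y).left.continuous) fun b _ => ?_
      rw [Set.mem_preimage, ← P_comp, ← Category.assoc, comp_orbit, toUnit_unique (toUnit (𝟙_ (Over (Spec (CommRingCat.of k))))) (𝟙 _),
        Category.id_comp, hsY]
      have e : z ≫ lift (toUnit (X ⊗ Y) ≫ b) (𝟙 (X ⊗ Y)) ≫ (α_ B X Y).inv ≫ (a.act ▷ Y) =
          lift (lift b x ≫ a.act) y := by
        rw [comp_lift_assoc, Category.comp_id, ← Category.assoc z, toUnit_unique (z ≫ toUnit (X ⊗ Y)) (𝟙 _),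
          Category.id_comp, ← hxy, lift_lift_associator_inv_assoc, lift_whiskerRight]
      rw [← e, P_comp]
      exact hZs b ⟨P z, hz, rfl⟩
    refine ⟨subset_closure ⟨P η[B], ?_⟩, Set.mem_iInter₂.2 fun x' hx' => ?_⟩
    · show (a.orbitMap x).left (P η[B]) = P x
      rw [← P_comp, comp_orbit, toUnit_unique (toUnit (𝟙_ (Over (Spec (CommRingCat.of k))))) (𝟙 _), Category.id_comp,
        act_one]
    · show (sX x').left (P y) ∈ Z
      rw [← P_comp, hsX, ← hsY, P_comp]
      exact hsub hx'
  obtain ⟨O, hO, hZO⟩ : ∃ O ∈ hfin.toFinset.image R, Z ⊆ O := by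
    refine isIrreducible_iff_sUnion_isClosed.1 hZi _ (fun O hO => ?_) ?_
    · obtain ⟨S, -, rfl⟩ := Finset.mem_image.1 hO
      exact hRc S
    · refine subset_of_pts hZc (by
        rw [Set.sUnion_eq_biUnion]
        exact (Finset.finite_toSet _).isClosed_biUnion fun O hO => by
          obtain ⟨S, -, rfl⟩ := Finset.mem_image.1 (Finset.mem_coe.1 hO)
          exact hRc S) fun z hz => ?_
      exact ⟨_, Finset.mem_coe.2 (Finset.mem_image.2 ⟨_, hfin.mem_toFinset.2 ⟨_, rfl⟩, rfl⟩), hcov z hz⟩
  obtain ⟨S, hS, rfl⟩ := Finset.mem_image.1 hO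
  obtain ⟨x, rfl⟩ := hfin.mem_toFinset.1 hS
  set S := Set.range ⇑(a.orbitMap x).left.base
  have hZe : Z = R S := hZO.antisymm (hRZ S)
  have hV : IsIrreducible (closure S) := by
    refine IsIrreducible.closure ?_
    rw [show S = (a.orbitMap x).left '' Set.univ from Set.image_univ.symm]
    exact (IrreducibleSpace.isIrreducible_univ B.left).image _ (a.orbitMap x).left.continuous.continuousOn
  refine ⟨closure S, Ws S, isClosed_closure, hV, hWc S, ?_, fun b => ?_, hZe⟩
  · have e : Ws S = G '' Z := by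
      refine Set.Subset.antisymm (fun w hw => ?_) ?_
      · obtain ⟨v, hv⟩ := hV.1
        obtain ⟨z, hz1, hz2⟩ := Scheme.Pullback.exists_preimage_pullback (f := X.hom) (g := Y.hom) v w (Subsingleton.elim _ _)
        have h1 : F z = v := hz1
        have h2 : G z = w := hz2
        exact ⟨z, hRZ S ⟨show F z ∈ closure S by rw [h1]; exact hv, show G z ∈ Ws S by rw [h2]; exact hw⟩, h2⟩
      · rintro _ ⟨z, hz, rfl⟩
        exact (hZO hz).2
    rw [e]
    exact hZi.image _ (snd X Y).left.continuous.continuousOn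
  · refine (image_closure_subset_closure_image (tr a b).left.continuous).trans (closure_mono ?_)
    rintro _ ⟨_, ⟨c, rfl⟩, rfl⟩
    refine ⟨((toUnit B ≫ b) * 𝟙 B).left c, ?_⟩
    have h := congrArg (fun f => f.left c) (orbit_tr a b x)
    simp only [Over.comp_left, Scheme.Hom.comp_apply] at h
    exact h.symm

end

end Groth.Agent.S15240
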