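import Groth.Statements.S15245
import Groth.Agent.RootSys.Inversion
-- import your own Groth.Agent.* helpers here

set_option autoImplicit false
universe u
open CategoryTheory AlgebraicGeometry
open RedSub

namespace Groth.Agent.S15245

open RootSysLib RootBasicLib RootPairing

/-- Let Φ be a finite reduced root system (a reduced root pairing over ℤ on a finite index set) with a
base b, w an element of its Weyl group, given as the product of the reflections along a word l and
acting on the roots, and γ a positive root. Writing ℓ(u) for the number of positive roots a with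
u(a) negative, one has ℓ(w) < ℓ(σ_γ w) if and only if w⁻¹(γ) is positive. (Here the length is taken
as the number of inverted positive roots.) -/
theorem result {idx M N : Type}
    [AddCommGroup M] [AddCommGroup N] [Finite idx]
    (P : RootPairing idx ℤ M N) [P.IsReduced] (b : P.Base) (l : List idx) (c : idx)
    (hc : c ∈ RedSub.posRoots P b) :
    Set.ncard {a : idx | a ∈ RedSub.posRoots P b ∧ RedSub.wordPerm P l a ∈ RedSub.negRoots P b} <
        Set.ncard {a : idx | a ∈ RedSub.posRoots P b ∧
          (P.reflectionPerm c * RedSub.wordPerm P l) a ∈ RedSub.negRoots P b} ↔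
      (RedSub.wordPerm P l)⁻¹ c ∈ RedSub.posRoots P b := by
  classical
  let S : Set idx := RootD.posOf P (b.support : Set idx)
  have hS : RootD.IsPosSys P S := isPosSys_posOf (isSimpleSys_base b)
  have hposR : RedSub.posRoots P b = S := rfl
  have hnegR : RedSub.negRoots P b = Sᶜ := by
    ext a
    rw [Set.mem_compl_iff, notMem_iff hS]
    show -P.root a ∈ RootD.natSpan P (b.support : Set idx) ↔ P.root (P.reflectionPerm a a) ∈ RootD.natSpan P (b.support : Set idx)
    rw [root_neg]
  let u : P.Aut := (l.map fun a => RootPairing.Equiv.reflection P a).prod
  have hu : ∀ a, RedSub.wordPerm P l a = u • a := by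
    intro a
    show (l.map P.reflectionPerm).prod a = (l.map fun a => RootPairing.Equiv.reflection P a).prod • a
    clear_value u
    clear hposR hnegR hc u
    induction l with
    | nil => simp
    | cons x t ih =>
      simp only [List.map_cons, List.prod_cons, Equiv.Perm.mul_apply, ih, mul_smul, reflection_smul_idx]
  have hinv : (RedSub.wordPerm P l)⁻¹ c = u⁻¹ • c := by
    rw [Equiv.Perm.inv_eq_iff_eq, hu, smul_inv_smul]
  simp only [hposR, hnegR, Set.mem_compl_iff, hinv, Equiv.Perm.mul_apply, hu, ← reflection_smul_idx, ← mul_smul] at *
  have hconj : ∀ d, RootPairing.Equiv.reflection P (u • d) * u = u * RootPairing.Equiv.reflection P d :=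
    fun d => by rw [← aut_mul_reflection_mul_inv, inv_mul_cancel_right]
  constructor
  · intro h
    by_contra hd
    have hd' : u⁻¹ • P.reflectionPerm c c ∈ S := by
      rw [smul_neg_idx]
      exact (notMem_iff hS).1 hd
    have hcc := smul_inv_smul u (P.reflectionPerm c c)
    have := inversions_lt hS (RootPairing.Equiv.reflection P c * u) hd' (by
      rw [mul_smul, hcc, reflection_smul_idx, P.reflectionPerm_self]
      exact hc)
    rw [mul_assoc, ← hconj, hcc, ← mul_assoc] at this
    have hr : RootPairing.Equiv.reflection P c * RootPairing.Equiv.reflection P (P.reflectionPerm c c) = 1 := by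
      rw [reflection_eq_of_smul (i := P.reflectionPerm c c) (j := c) (a := 1) (b := -1) one_ne_zero
        (by norm_num) (by rw [one_smul, neg_smul, one_smul, root_neg]), mul_eq_one_iff_eq_inv,
        RootSysLib.reflection_inv]
    rw [hr, one_mul] at this
    exact lt_asymm h this
  · intro hd
    have := inversions_lt hS u hd (by rw [smul_inv_smul]; exact hc)
    rwa [← hconj, smul_inv_smul] at this


end Groth.Agent.S15245
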