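import Groth.Statements.S19416
import Groth.Agent.DiagTorLib.CutDim
import Groth.Agent.DiagTorLib.Prod
import Groth.Agent.AmpleDevLib.Components

set_option autoImplicit false
set_option backward.isDefEq.respectTransparency false
set_option backward.isDefEq.respectTransparency.types false
universe u
open CategoryTheory AlgebraicGeometry
open IntMult CategoryTheory.Limits

namespace Groth.Agent.S19416
theorem exists_generic {α : Type*} [TopologicalSpace α] [QuasiSober α] [T0Space α] (T : Set α)
    (hT : T ∈ irreducibleComponents α) :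
    ∃ t, closure ({t} : Set α) = T ∧ ∀ t', t' ⤳ t → t' = t := by
  have hi : IsIrreducible T := hT.1
  have hc : IsClosed T := isClosed_of_mem_irreducibleComponents T hT
  have hg : IsGenericPoint hi.genericPoint T := by
    have := hi.isGenericPoint_genericPoint_closure
    rwa [hc.closure_eq] at this
  refine ⟨hi.genericPoint, hg, fun t' ht' => ?_⟩
  have hle : T ⊆ closure {t'} := by
    rw [← hg]
    exact closure_minimal (Set.singleton_subset_iff.2 ht'.mem_closure) isClosed_closure
  have h2 : IsGenericPoint t' T :=
    Set.Subset.antisymm (hT.2 isIrreducible_singleton.closure hle) hle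
  exact h2.eq hg

theorem dim_closure_image {α β : Type*} [TopologicalSpace α] [TopologicalSpace β] (j : α → β)
    (hj : Topology.IsClosedEmbedding j) (a : α) :
    topologicalKrullDim ↥(closure ({j a} : Set β)) = topologicalKrullDim ↥(closure ({a} : Set α)) := by
  have h : closure ({j a} : Set β) = j '' closure {a} := by
    rw [← hj.closure_image_eq, Set.image_singleton]
  rw [h]
  let e := hj.isEmbedding.homeomorphImage (closure {a})
  exact (IsHomeomorph.topologicalKrullDim_eq e e.isHomeomorph).symm


/-- Let k be a field and X a smooth variety over k (the structure morphism X → Spec k smooth, separated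
and quasi-compact, X integral) of dimension n, and let V, W ⊆ X be closed irreducible subsets of
dimensions r and s. Then every irreducible component Z of V ∩ W has dimension at least r + s − n,
stated as r + s ≤ dim Z + n with Krull dimensions of the subspaces; equivalently the codimension of
Z is at most the sum of the codimensions of V and W. The base field is arbitrary here; the same
statement over an algebraically closed field is the classical dimension count for intersections on a
nonsingular variety. -/
theorem result (k : Type u) [Field k] (X : Scheme.{u})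
    (f : X ⟶ Spec (CommRingCat.of k)) [Smooth f] [IsSeparated f] [QuasiCompact f] [IsIntegral X]
    (n r s : ℕ) (hn : topologicalKrullDim X = n) (V W : Set X) (hVc : IsClosed V)
    (hVi : IsIrreducible V) (hWc : IsClosed W) (hWi : IsIrreducible W)
    (hr : topologicalKrullDim ↥V = r) (hs : topologicalKrullDim ↥W = s) (Z : Set ↥(V ∩ W))
    (hZ : Z ∈ irreducibleComponents ↥(V ∩ W)) :
    ((r + s : ℕ) : WithBot ℕ∞) ≤ topologicalKrullDim ↥Z + n := by
  haveI : QuasiSober ↥(V ∩ W) := (hVc.inter hWc).isClosedEmbedding_subtypeVal.quasiSober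
  obtain ⟨⟨ξ, hξV, hξW⟩, hZξ, hmax⟩ := exists_generic Z hZ
  let IV := Scheme.IdealSheafData.vanishingIdeal (X := X) ⟨V, hVc⟩
  let IW := Scheme.IdealSheafData.vanishingIdeal (X := X) ⟨W, hWc⟩
  have hV : (IV.support : Set X) = V := by rw [Scheme.IdealSheafData.coe_support_vanishingIdeal]; rfl
  have hW : (IW.support : Set X) = W := by rw [Scheme.IdealSheafData.coe_support_vanishingIdeal]; rfl
  haveI : IsIntegral IV.subscheme := AmpleDevLib.isIntegral_vanishingIdeal ⟨V, hVc⟩ hVi
  haveI : IsIntegral IW.subscheme := AmpleDevLib.isIntegral_vanishingIdeal ⟨W, hWc⟩ hWi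
  let gV := IV.subschemeι ≫ f
  let gW := IW.subschemeι ≫ f
  let m := pullback.map gV gW f f IV.subschemeι IW.subschemeι (𝟙 _) (Category.comp_id _) (Category.comp_id _)
  let Δ := pullback.diagonal f
  haveI : IsClosedImmersion m := MorphismProperty.pullbackMap (P := @IsClosedImmersion) inferInstance inferInstance rfl rfl
  have hmem : ∀ z, z ∈ Set.range m ↔ pullback.fst f f z ∈ V ∧ pullback.snd f f z ∈ W := fun z => by
    rw [← DiagTorLib.coe_support_ker m, DiagTorLib.ker_map, Scheme.IdealSheafData.support_sup,
      Scheme.IdealSheafData.support_comap, Scheme.IdealSheafData.support_comap, ← hV, ← hW]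
    rfl
  have hΔ1 : ∀ x, pullback.fst f f (Δ x) = x := fun x => DiagTorLib.base_eq _ _ (pullback.diagonal_fst f) x
  have hΔ2 : ∀ x, pullback.snd f f (Δ x) = x := fun x => DiagTorLib.base_eq _ _ (pullback.diagonal_snd f) x
  obtain ⟨y, hy⟩ := (hmem (Δ ξ)).2 ⟨(hΔ1 ξ).symm ▸ hξV, (hΔ2 ξ).symm ▸ hξW⟩
  let g := pullback.fst gV gW ≫ gV
  haveI : IsLocallyNoetherian (pullback gV gW) := LocallyOfFiniteType.isLocallyNoetherian g
  obtain ⟨U, hxU, hcl, rs, hlen, -, hker⟩ := (DiagTorLib.regularOfCodim_diagonal f n hn).2 ξ
  have h1 := DiagTorLib.stalk_dim_le_of_max Δ m y ξ hy U hxU hcl rs hker (fun z' hz' hr => by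
    obtain ⟨x', hx'⟩ := hr
    have h := (hmem (Δ x')).1 ⟨z', hx'.symm⟩
    rw [hΔ1, hΔ2] at h
    have hsp : x' ⤳ ξ := Δ.isClosedEmbedding.isEmbedding.isInducing.specializes_iff.1
      (by rw [hx', ← hy]; exact hz'.map m.continuous)
    have e : x' = ξ := congrArg Subtype.val (hmax ⟨x', h⟩ ((subtype_specializes_iff _ _).2 hsp))
    exact m.isClosedEmbedding.injective (by rw [← hx', e, hy]))
  rw [hlen] at h1
  -- a component of the product through `y`
  obtain ⟨T, hT, hyT⟩ : ∃ T ∈ irreducibleComponents ↥(pullback gV gW), y ∈ T :=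
    ⟨irreducibleComponent y, irreducibleComponent_mem_irreducibleComponents y, mem_irreducibleComponent⟩
  obtain ⟨t, ht, -⟩ := exists_generic T hT
  have hty : t ⤳ y := specializes_iff_mem_closure.2 (ht ▸ hyT)
  have hdimV : topologicalKrullDim ↥IV.subscheme = (r : WithBot ℕ∞) := by
    rw [← DiagTorLib.dim_support_ker IV.subschemeι, Scheme.IdealSheafData.ker_subschemeι, hV, hr]
  have hdimW : topologicalKrullDim ↥IW.subscheme = (s : WithBot ℕ∞) := by
    rw [← DiagTorLib.dim_support_ker IW.subschemeι, Scheme.IdealSheafData.ker_subschemeι, hW, hs]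
  have hT' : ((r + s : ℕ) : WithBot ℕ∞) = UOpenLib.fibreClosureDim g y + EquidimLib.dimBetween t y := by
    rw [← IntMultRegLib.fibreClosureDim_add g hty, IntMultRegLib.fibreClosureDim_eq, ht,
      Groth.Agent.S4662.result gV gW T hT, hdimV, hdimW]
    push_cast
    rfl
  have hy' : UOpenLib.fibreClosureDim g y = topologicalKrullDim ↥Z := by
    rw [IntMultRegLib.fibreClosureDim_eq, ← dim_closure_image m m.isClosedEmbedding y, hy,
      dim_closure_image Δ Δ.isClosedEmbedding ξ, ← hZξ]
    exact dim_closure_image (Subtype.val : ↥(V ∩ W) → X) (hVc.inter hWc).isClosedEmbedding_subtypeVal ⟨ξ, hξV, hξW⟩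
  rw [hT', hy']
  exact add_le_add le_rfl ((EquidimLib.dimBetween_le_stalk t y).trans h1)

end Groth.Agent.S19416
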