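import Groth.Statements.S15246
import Groth.Agent.KleimanOrbitLib.Main
import Groth.Agent.S19416
-- import your own Groth.Agent.* helpers here

set_option autoImplicit false
set_option maxHeartbeats 2000000
set_option backward.isDefEq.respectTransparency false
universe u
open CategoryTheory CategoryTheory.Limits MonoidalCategory CartesianMonoidalCategory MonObj GrpObj AlgebraicGeometry
open AGF

namespace Groth.Agent.S15246

/-- Let k be an algebraically closed field of characteristic zero, G a group variety over k (integral,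
separated, of finite type k-group scheme) acting on a smooth variety X over k (integral, separated,
smooth of finite type) of dimension n with finitely many orbits (finitely many subsets of X arise as
images of orbit maps of k-points), and let Y₁, Y₂ be closed irreducible subsets of X of dimensions r
and s which meet every orbit closure properly: for every k-point x of X whose orbit closure has
dimension d, every irreducible component of Y₁ ∩ closure(orbit), resp. Y₂ ∩ closure(orbit), has
dimension r + d − n, resp. s + d − n. Then there is a nonempty open V ⊆ G such that for every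
k-point g of G lying in V the translate g · Y₁ meets Y₂ properly — every irreducible component of g
· Y₁ ∩ Y₂ has dimension r + s − n — and g · Y₁ ∩ Y₂ meets every orbit closure properly — for every
k-point x whose orbit closure has dimension d, every irreducible component of (g · Y₁ ∩ Y₂) ∩
closure(orbit) has dimension r + s + d − 2n. (The published statement also asserts multiplicity one
along each component of g · Y₁ ∩ Y₂, which is not stated here. The published setting is over the
complex numbers with G affine; this row assumes an algebraically closed field of characteristic zero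
and any group variety, which is all the printed argument uses.) -/
theorem result (k : Type u) [Field k] [IsAlgClosed k]
    [CharZero k] (G X : Over (Spec (CommRingCat.of k))) [GrpObj G] (a : AlgGrp.Action G X)
    [IsIntegral G.left] [IsSeparated G.hom] [LocallyOfFiniteType G.hom] [QuasiCompact G.hom]
    [IsIntegral X.left] [IsSeparated X.hom] [Smooth X.hom] [QuasiCompact X.hom]
    (hfin : Set.Finite {S : Set ↥X.left | ∃ x : 𝟙_ (Over (Spec (CommRingCat.of k))) ⟶ X, S = Set.range ⇑(a.orbitMap x).left.base})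
    (Y₁ Y₂ : Set ↥X.left) (h₁c : IsClosed Y₁) (h₁i : IsIrreducible Y₁) (h₂c : IsClosed Y₂) (h₂i : IsIrreducible Y₂)
    (n r s : ℕ) (hn : topologicalKrullDim ↥X.left = n) (hr : topologicalKrullDim ↥Y₁ = r)
    (hs : topologicalKrullDim ↥Y₂ = s)
    (hproper : ∀ (x : 𝟙_ (Over (Spec (CommRingCat.of k))) ⟶ X) (d : ℕ), topologicalKrullDim ↥(closure (Set.range ⇑(a.orbitMap x).left.base)) = d →
      (∀ C ∈ irreducibleComponents ↥(Y₁ ∩ closure (Set.range ⇑(a.orbitMap x).left.base)),
          n ≤ r + d ∧ topologicalKrullDim ↥C = ((r + d - n : ℕ) : WithBot ℕ∞)) ∧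
      (∀ C ∈ irreducibleComponents ↥(Y₂ ∩ closure (Set.range ⇑(a.orbitMap x).left.base)),
          n ≤ s + d ∧ topologicalKrullDim ↥C = ((s + d - n : ℕ) : WithBot ℕ∞))) :
    ∃ V : G.left.Opens, (V : Set ↥G.left).Nonempty ∧
      ∀ σ : 𝟙_ (Over (Spec (CommRingCat.of k))) ⟶ G, Set.range ⇑σ.left.base ⊆ (V : Set ↥G.left) →
        (∀ C ∈ irreducibleComponents ↥(⇑(CartesianMonoidalCategory.lift (CartesianMonoidalCategory.toUnit X ≫ σ) (𝟙 X) ≫ a.act).left.base '' Y₁ ∩ Y₂),
          n ≤ r + s ∧ topologicalKrullDim ↥C = ((r + s - n : ℕ) : WithBot ℕ∞)) ∧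
        ∀ (x : 𝟙_ (Over (Spec (CommRingCat.of k))) ⟶ X) (d : ℕ), topologicalKrullDim ↥(closure (Set.range ⇑(a.orbitMap x).left.base)) = d →
          ∀ C ∈ irreducibleComponents ↥((⇑(CartesianMonoidalCategory.lift (CartesianMonoidalCategory.toUnit X ≫ σ) (𝟙 X) ≫ a.act).left.base '' Y₁ ∩ Y₂) ∩ closure (Set.range ⇑(a.orbitMap x).left.base)),
            2 * n ≤ r + s + d ∧ topologicalKrullDim ↥C = ((r + s + d - 2 * n : ℕ) : WithBot ℕ∞) := by
  haveI : LocallyOfFiniteType X.hom := inferInstance
  have h₁ : KleimanOrbitLib.ProperOrbits a n r Y₁ := fun x d hd => (hproper x d hd).1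
  have h₂ : KleimanOrbitLib.ProperOrbits a n s Y₂ := fun x d hd => (hproper x d hd).2
  obtain ⟨V, hV, hb⟩ := KleimanOrbitLib.exists_bound a hfin n r s Y₁ Y₂ h₁c h₂c hn h₁ h₂
  refine ⟨V, hV, fun σ hσ => ?_⟩
  let τ := KleimanFlatLib.tr a σ
  haveI : IsIso τ.left := inferInstanceAs (IsIso ((Over.forget _).map τ))
  have himg : ∀ A : Set X.left, IsClosed A → IsClosed (τ.left.base '' A) := fun A hA =>
    τ.left.isClosedEmbedding.isClosedMap _ hA
  have hdim : ∀ A : Set X.left, topologicalKrullDim ↥(τ.left.base '' A) = topologicalKrullDim ↥A := fun A =>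
    ((τ.left.isClosedEmbedding.isEmbedding.comp Topology.IsEmbedding.subtypeVal).toHomeomorph.trans
      (Homeomorph.setCongr (by rw [Set.range_comp, Subtype.range_coe]))).isHomeomorph.topologicalKrullDim_eq _ |>.symm
  -- generic points of components
  have hgen : ∀ (S : Set X.left), IsClosed S → ∀ C ∈ irreducibleComponents ↥S, ∃ p ∈ S,
      Subtype.val '' C = closure ({p} : Set X.left) ∧
        topologicalKrullDim ↥C = topologicalKrullDim ↥(closure ({p} : Set X.left)) := by
    intro S hS C hC
    obtain ⟨p, hp⟩ := QuasiSober.sober (hC.1.image _ continuous_subtype_val.continuousOn)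
      (hS.isClosedEmbedding_subtypeVal.isClosedMap _ (isClosed_of_mem_irreducibleComponents C hC))
    obtain ⟨p', -, hp'⟩ := hp.mem
    refine ⟨p, hp' ▸ p'.2, hp.def.symm, ?_⟩
    rw [hp.def, KleimanOrbitLib.dim_image_val]
  refine ⟨fun C hC => ?_, fun x d hd C hC => ?_⟩
  · obtain ⟨p, hpW, -, hCd⟩ := hgen _ ((himg Y₁ h₁c).inter h₂c) C hC
    obtain ⟨x, d, m, -, -, hdn, hm, hmd⟩ := hb σ hσ p hpW
    have hlow := Groth.Agent.S19416.result k X.left X.hom n r s hn (τ.left.base '' Y₁) Y₂ (himg Y₁ h₁c)
      (h₁i.image _ τ.left.continuous.continuousOn) h₂c h₂i ((hdim Y₁).trans hr) hs C hC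
    rw [hCd, hm] at hlow
    have hlow' : r + s ≤ m + n := by exact_mod_cast hlow
    refine ⟨by omega, ?_⟩
    rw [hCd, hm, show m = r + s - n by omega]
  · let Ob := closure (OrbitLib.orbit a x)
    have hOb : OrbitLib.Invariant a Ob := (OrbitLib.invariant_orbit a x).closure a
    obtain ⟨p, hpW, hpC, hCd⟩ := hgen _ (((himg Y₁ h₁c).inter h₂c).inter isClosed_closure) C hC
    obtain ⟨x', d', m, hpx', hd', -, hm, hmd⟩ := hb σ hσ p hpW.1
    have hd'd : d' ≤ d := by
      have h := KleimanOrbitLib.dim_mono (closure_minimal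
        (KleimanOrbitLib.orbit_subset_of_mem a hOb x' hpx' hpW.2) isClosed_closure)
      rw [hd'] at h
      have h' : (d' : WithBot ℕ∞) ≤ (d : WithBot ℕ∞) := h.trans hd.le
      exact_mod_cast h'
    obtain ⟨⟨y, hy, hyp⟩, hp₂⟩ := hpW.1
    have hyO : y ∈ Ob := by
      have h := KleimanOrbitLib.invariant_tr a hOb σ⁻¹ hpW.2
      rw [← hyp] at h
      rwa [show (KleimanFlatLib.tr a σ⁻¹).left (τ.left y) = y by
        rw [← Scheme.Hom.comp_apply, ← Over.comp_left, KleimanFlatLib.tr_comp, inv_mul_cancel,
          KleimanFlatLib.tr_one]; rfl] at h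
    let S₁ : Set X.left := Y₁ ∩ Ob
    let A : Set X.left := Subtype.val '' irreducibleComponent (⟨y, hy, hyO⟩ : ↥S₁)
    have hAcomp := irreducibleComponent_mem_irreducibleComponents (⟨y, hy, hyO⟩ : ↥S₁)
    obtain ⟨hnr, hAd⟩ := (hproper x d hd).1 _ hAcomp
    have hAc : IsClosed A :=
      (h₁c.inter isClosed_closure).isClosedEmbedding_subtypeVal.isClosedMap _ isClosed_irreducibleComponent
    have hAi : IsIrreducible A := hAcomp.1.image _ continuous_subtype_val.continuousOn
    have hAsub : A ⊆ S₁ := by rintro _ ⟨q, -, rfl⟩; exact q.2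
    have hsub : τ.left.base '' A ∩ Y₂ ⊆ (τ.left.base '' Y₁ ∩ Y₂) ∩ Ob := by
      rintro _ ⟨⟨q, hq, rfl⟩, hq₂⟩
      exact ⟨⟨⟨q, (hAsub hq).1, rfl⟩, hq₂⟩, KleimanOrbitLib.invariant_tr a hOb σ (hAsub hq).2⟩
    obtain ⟨D, hD, hDd⟩ := KleimanOrbitLib.component_of_subset hsub hC (by
      refine fun c hc => (?_ : closure ({p} : Set X.left) ⊆ _) (hpC.subset hc)
      refine closure_minimal (Set.singleton_subset_iff.mpr ?_) ((himg A hAc).inter h₂c)
      exact ⟨⟨y, ⟨_, mem_irreducibleComponent, rfl⟩, hyp⟩, hp₂⟩)
    have hlow := Groth.Agent.S19416.result k X.left X.hom n (r + d - n) s hn (τ.left.base '' A) Y₂ (himg A hAc)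
      (hAi.image _ τ.left.continuous.continuousOn) h₂c h₂i
      ((hdim A).trans ((KleimanOrbitLib.dim_image_val _).trans hAd)) hs D hD
    rw [hDd, hCd, hm] at hlow
    have hlow' : r + d - n + s ≤ m + n := by exact_mod_cast hlow
    refine ⟨by omega, ?_⟩
    rw [hCd, hm, show m = r + s + d - 2 * n by omega]

end Groth.Agent.S15246
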