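import Groth.Statements.S15251
import Groth.Agent.AlgStSetoidLib.Etale

set_option autoImplicit false
set_option linter.all false
set_option backward.isDefEq.respectTransparency false
set_option backward.isDefEq.respectTransparency.types false
open CategoryTheory AlgebraicGeometry
universe u
open AlgSt

namespace Groth.Agent.S15251

/-- Let S be a scheme and f : 𝒳 → 𝒴 a 1-morphism of stacks in groupoids over the category of schemes
over S. If 𝒴 is a Deligne–Mumford stack and for every scheme U over S and every 1-morphism g : U → 𝒴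
the 2-fibre product U ×_𝒴 𝒳 is a Deligne–Mumford stack, then 𝒳 is a Deligne–Mumford stack. All
stacks here are for the étale topology on schemes over S; an algebraic stack is a stack in groupoids
whose diagonal is representable by algebraic spaces and which has a smooth surjective atlas from a
scheme, and a Deligne–Mumford stack is an algebraic stack with an étale surjective atlas from a
scheme. (The published statement asks the fibre-product condition only for affine schemes U and uses
Deligne–Mumford stacks whose diagonal is moreover separated and quasi-compact; this row asks the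
condition for every scheme U over S and uses Deligne–Mumford stacks with no condition on the
diagonal beyond representability by algebraic spaces.) -/
theorem result {S : Scheme.{u}} {𝒳 𝒴 : AlgSt.Cat S}
    (h𝒳 : Stk.IsStack (QuotSh.J Scheme.etalePrecoverage S) 𝒳)
    (h𝒴 : AlgSt.IsDM Scheme.etalePrecoverage 𝒴) (f : 𝒳 ⥤ᵇ 𝒴)
    (hf : ∀ (U : Over S) (g : FibCat.overCat U ⥤ᵇ 𝒴),
      AlgSt.IsDM Scheme.etalePrecoverage (FibCat.fp g f)) :
    AlgSt.IsDM Scheme.etalePrecoverage 𝒳 := by
  haveI := h𝒳.1
  haveI := h𝒴.1.isStack.1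
  obtain ⟨V, y, hy, hys⟩ := h𝒴.1.atlas
  haveI := AlgStBig.isFibGrpd_overCat V
  haveI := (hf V y).1.isStack.1
  obtain ⟨U, x, hx, hxs⟩ := (hf V y).1.atlas
  haveI := AlgStBig.isFibGrpd_overCat U
  refine ⟨AlgStSetoidLib.isAlgStack_et_of_cover h𝒳 (AlgStBig.repByAlgSp_overCat U)
    (BasedFunctor.comp x (FibCat.fpSnd y f))
    (AlgStBig.repByAlgSpWith_comp' AlgStBig.good_smooth hx (AlgStBig.repByAlgSpWith_fpSnd f hy))
    (AlgStBig.repByAlgSpWith_comp' AlgStBig.good_surjective hxs (AlgStBig.repByAlgSpWith_fpSnd f hys)), ?_⟩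
  obtain ⟨V', y', hy', hys'⟩ := h𝒴.2
  haveI := AlgStBig.isFibGrpd_overCat V'
  haveI := (hf V' y').1.isStack.1
  obtain ⟨U', x', hx', hxs'⟩ := (hf V' y').2
  haveI := AlgStBig.isFibGrpd_overCat U'
  exact ⟨U', BasedFunctor.comp x' (FibCat.fpSnd y' f),
    AlgStBig.repByAlgSpWith_comp' AlgStBig.good_isEtaleMor hx' (AlgStBig.repByAlgSpWith_fpSnd f hy'),
    AlgStBig.repByAlgSpWith_comp' AlgStBig.good_surjective hxs' (AlgStBig.repByAlgSpWith_fpSnd f hys')⟩

end Groth.Agent.S15251
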