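import Groth.Statements.S15252
import Groth.Agent.FanoCodimLib.CommonZero
-- import your own Groth.Agent.* helpers here

set_option autoImplicit false
set_option maxHeartbeats 2000000
set_option backward.isDefEq.respectTransparency false
open Fano

namespace Groth.Agent.S15252

open MvPolynomial

theorem eval_smul' {σ : Type*} {F : MvPolynomial σ ℂ} {d : ℕ} (hF : F.IsHomogeneous d)
    (c : ℂ) (x : σ → ℂ) : eval (c • x) F = c ^ d * eval x F := by
  rw [eval_eq, eval_eq, Finset.mul_sum]
  refine Finset.sum_congr rfl fun e he => ?_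
  simp only [Pi.smul_apply, smul_eq_mul, mul_pow, Finset.prod_mul_distrib, Finset.prod_pow_eq_pow_sum]
  rw [show ∑ i ∈ e.support, e i = d from (hF.degree_eq_sum_deg_support he).symm]
  ring

theorem finite_roots {σ : Type*} (f : MvPolynomial σ ℂ) {d : ℕ} (hf : f.IsHomogeneous d) (p q : σ → ℂ)
    (hp : eval p f ≠ 0) : {t : ℂ | eval (q + t • p) f = 0}.Finite := by
  let P : Polynomial ℂ := MvPolynomial.aeval (fun i => Polynomial.C (q i) + Polynomial.C (p i) * Polynomial.X) f
  have hP : ∀ t, P.eval t = eval (q + t • p) f := fun t => by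
    show Polynomial.aeval t (MvPolynomial.aeval _ f) = _
    rw [MvPolynomial.comp_aeval_apply, MvPolynomial.aeval_eq_eval]
    congr 2
    funext i
    simp only [map_add, map_mul, Polynomial.aeval_C, Polynomial.aeval_X, Pi.add_apply, Pi.smul_apply, smul_eq_mul,
      Algebra.algebraMap_self, RingHom.id_apply]
    ring
  have hP0 : P ≠ 0 := by
    intro h0
    let Q : Polynomial ℂ := MvPolynomial.aeval (fun i => Polynomial.C (p i) + Polynomial.C (q i) * Polynomial.X) f
    have hQ : ∀ t, Q.eval t = eval (p + t • q) f := fun t => by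
      show Polynomial.aeval t (MvPolynomial.aeval _ f) = _
      rw [MvPolynomial.comp_aeval_apply, MvPolynomial.aeval_eq_eval]
      congr 2
      funext i
      simp only [map_add, map_mul, Polynomial.aeval_C, Polynomial.aeval_X, Pi.add_apply, Pi.smul_apply, smul_eq_mul,
        Algebra.algebraMap_self, RingHom.id_apply]
      ring
    have hQ0 : Q = 0 := by
      refine Polynomial.eq_zero_of_infinite_isRoot Q (Set.Infinite.mono (s := ({0} : Set ℂ)ᶜ) (fun s hs => ?_)
        (Set.Finite.infinite_compl (Set.finite_singleton 0)))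
      show Q.eval s = 0
      rw [hQ, show p + s • q = s • (q + s⁻¹ • p) by
        rw [smul_add, smul_smul, mul_inv_cancel₀ hs, one_smul, add_comm], eval_smul' hf, ← hP, h0]
      simp
    have := hQ 0
    rw [hQ0] at this
    simp at this
    exact hp this.symm
  refine (Polynomial.finite_setOfPred_isRoot hP0).subset fun t ht => ?_
  show P.eval t = 0
  rw [hP]; exact ht

theorem exists_mem_line {M : Type*} [AddCommGroup M] [Module ℂ M] [FiniteDimensional ℂ M] {P' L : Submodule ℂ M}
    (h3 : Module.finrank ℂ P' = 3) (hL2 : Module.finrank ℂ L = 2) (hle : L ≤ P') {p q : M} (hp : p ∈ P')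
    (hq : q ∈ P') (hpL : p ∉ L) : ∃ t : ℂ, q + t • p ∈ L := by
  have hlt : L < L ⊔ Submodule.span ℂ {p} := lt_of_le_of_ne le_sup_left fun h =>
    hpL (h ▸ Submodule.mem_sup_right (Submodule.mem_span_singleton_self p))
  have hle' : L ⊔ Submodule.span ℂ {p} ≤ P' := sup_le hle ((Submodule.span_singleton_le_iff_mem _ _).2 hp)
  have heq : L ⊔ Submodule.span ℂ {p} = P' := Submodule.eq_of_le_of_finrank_le hle' (by
    have := Submodule.finrank_lt_finrank_of_lt hlt
    omega)
  rw [← heq] at hq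
  obtain ⟨l, hl, z, hz, rfl⟩ := Submodule.mem_sup.1 hq
  obtain ⟨c, rfl⟩ := Submodule.mem_span_singleton.1 hz
  exact ⟨-c, by simpa⟩



/-- Let X be a smooth cubic hypersurface in projective 4-space over ℂ and let L₁, L₂ be two distinct
lines on X which meet. Then there is a finite set G of points of L₁ such that every line on X
meeting both L₁ and L₂ passes through a point of G. Here X is given by a cubic form f in five
variables satisfying the Jacobian smoothness condition at every nonzero zero, a line on X is a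
2-dimensional subspace of ℂ^5 on which f vanishes, two lines meet when the subspaces intersect
non-trivially, and a point of L₁ is a 1-dimensional subspace of it. (The published statement also
covers two disjoint lines; this row assumes that L₁ and L₂ meet.) -/
theorem result
    (f : MvPolynomial (Fin 5) ℂ) (hf : f.IsHomogeneous 3)
    (hsm : ∀ u : Fin 5 → ℂ, u ≠ 0 → MvPolynomial.eval u f = 0 →
      ∃ i : Fin 5, MvPolynomial.eval u (MvPolynomial.pderiv i f) ≠ 0)
    (L₁ L₂ : Submodule ℂ (Fin 5 → ℂ)) (h₁ : Module.finrank ℂ ↥L₁ = 2) (h₂ : Module.finrank ℂ ↥L₂ = 2)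
    (hf₁ : ∀ u ∈ L₁, MvPolynomial.eval u f = 0) (hf₂ : ∀ u ∈ L₂, MvPolynomial.eval u f = 0)
    (hne : L₁ ≠ L₂) (hmeet : L₁ ⊓ L₂ ≠ ⊥) :
    ∃ G : Set (Submodule ℂ (Fin 5 → ℂ)), G.Finite ∧ (∀ g ∈ G, Module.finrank ℂ ↥g = 1 ∧ g ≤ L₁) ∧
      ∀ L : Submodule ℂ (Fin 5 → ℂ), Module.finrank ℂ ↥L = 2 → (∀ u ∈ L, MvPolynomial.eval u f = 0) →
        L ⊓ L₁ ≠ ⊥ → L ⊓ L₂ ≠ ⊥ → ∃ g ∈ G, g ≤ L := by
  classical
  let ℓ₀ := L₁ ⊓ L₂
  have hℓ : Module.finrank ℂ ℓ₀ = 1 := by
    have h1 : 0 < Module.finrank ℂ ℓ₀ :=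
      Nat.pos_of_ne_zero fun h => hmeet (Submodule.finrank_eq_zero.1 h)
    have h2 : ℓ₀ < L₁ := lt_of_le_of_ne inf_le_left fun h => hne (Submodule.eq_of_le_of_finrank_le (h ▸ inf_le_right) (by omega))
    have := Submodule.finrank_lt_finrank_of_lt h2
    omega
  let P := L₁ ⊔ L₂
  have hP3 : Module.finrank ℂ P = 3 := by
    have := Submodule.finrank_sup_add_finrank_inf_eq L₁ L₂
    show Module.finrank ℂ ↥(L₁ ⊔ L₂) = 3
    have : Module.finrank ℂ ↥(L₁ ⊓ L₂) = 1 := hℓ
    omega
  obtain ⟨p, hpP, hp⟩ : ∃ p ∈ P, MvPolynomial.eval p f ≠ 0 := by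
    by_contra hall
    push Not at hall
    have := FanoCodimLib.two_mul_finrank_le (k := ℂ) (n := 4) (d := 3) (by norm_num) f hf P hall
      fun u hu hu0 => hsm u hu0 (hall u hu)
    exact absurd ((Nat.mul_le_mul_left 2 hP3.ge).trans this) (by norm_num)
  have hp0 : p ≠ 0 := fun h => hp (by
    rw [h, MvPolynomial.eval_zero, MvPolynomial.constantCoeff_eq, hf.coeff_eq_zero (by simp)])
  obtain ⟨q, hqP, hq⟩ : ∃ q ∈ P, q ∉ Submodule.span ℂ {p} := by
    by_contra hall
    push Not at hall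
    have := Submodule.finrank_mono (show P ≤ Submodule.span ℂ {p} from hall)
    rw [finrank_span_singleton hp0] at this
    omega
  obtain ⟨q', hqP', hq'⟩ : ∃ q' ∈ P, q' ∉ Submodule.span ℂ ({p, q} : Set (Fin 5 → ℂ)) := by
    by_contra hall
    push Not at hall
    have h1 := Submodule.finrank_mono (show P ≤ Submodule.span ℂ ({p, q} : Set (Fin 5 → ℂ)) from hall)
    have h2 := finrank_span_finset_le_card ({p, q} : Finset (Fin 5 → ℂ)) (R := ℂ)
    rw [Finset.coe_pair] at h2
    have h3 : ({p, q} : Finset (Fin 5 → ℂ)).card ≤ 2 := Finset.card_le_two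
    simp only [Set.finrank] at h2
    omega
  let lines := {L : Submodule ℂ (Fin 5 → ℂ) | L ≤ P ∧ Module.finrank ℂ L = 2 ∧ ∀ u ∈ L, MvPolynomial.eval u f = 0}
  have hlines : lines.Finite := by
    refine Set.Finite.subset (((finite_roots f hf p q hp).prod (finite_roots f hf p q' hp)).image
      fun ts => Submodule.span ℂ ({q + ts.1 • p, q' + ts.2 • p} : Set (Fin 5 → ℂ))) ?_
    rintro L ⟨hLP, hL2, hLf⟩
    have hpL : p ∉ L := fun h => hp (hLf p h)
    obtain ⟨t, ht⟩ := exists_mem_line hP3 hL2 hLP hpP hqP hpL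
    obtain ⟨s, hs⟩ := exists_mem_line hP3 hL2 hLP hpP hqP' hpL
    refine ⟨(t, s), ⟨hLf _ ht, hLf _ hs⟩, ?_⟩
    show Submodule.span ℂ ({q + t • p, q' + s • p} : Set (Fin 5 → ℂ)) = L
    have hle : Submodule.span ℂ ({q + t • p, q' + s • p} : Set (Fin 5 → ℂ)) ≤ L :=
      Submodule.span_le.2 (by simp [Set.insert_subset_iff, ht, hs])
    refine Submodule.eq_of_le_of_finrank_le hle ?_
    rw [hL2]
    have hind : LinearIndependent ℂ ![q + t • p, q' + s • p] := by
      rw [LinearIndependent.pair_iff]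
      intro a b hab
      have hb : b = 0 := by
        by_contra hb
        refine hq' ?_
        have e : q' = b⁻¹ • (b • (q' + s • p)) - s • p := by
          rw [smul_smul, inv_mul_cancel₀ hb, one_smul, add_sub_cancel_right]
        have e2 : b • (q' + s • p) = -(a • (q + t • p)) := eq_neg_of_add_eq_zero_right hab
        rw [e, e2]
        have hpm : p ∈ Submodule.span ℂ ({p, q} : Set (Fin 5 → ℂ)) := Submodule.subset_span (by simp)
        have hqm : q ∈ Submodule.span ℂ ({p, q} : Set (Fin 5 → ℂ)) := Submodule.subset_span (by simp)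
        exact sub_mem (Submodule.smul_mem _ _ (neg_mem (Submodule.smul_mem _ _ (add_mem hqm (Submodule.smul_mem _ _ hpm)))))
          (Submodule.smul_mem _ _ hpm)
      refine ⟨?_, hb⟩
      rw [hb, zero_smul, add_zero] at hab
      rcases smul_eq_zero.1 hab with h | h
      · exact h
      · exact absurd (Submodule.mem_span_singleton.2 ⟨-t, by rw [neg_smul]; exact (eq_neg_of_add_eq_zero_left h).symm⟩) hq
    have := finrank_span_eq_card hind
    simp only [Fintype.card_fin] at this
    rw [show ({q + t • p, q' + s • p} : Set (Fin 5 → ℂ)) = Set.range ![q + t • p, q' + s • p] by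
      simp [Matrix.range_cons, Set.pair_comm, Set.union_comm]]
    omega
  let G := insert ℓ₀ ((fun L => L ⊓ L₁) '' {L ∈ lines | Module.finrank ℂ ↥(L ⊓ L₁) = 1})
  refine ⟨G, ((hlines.subset (Set.sep_subset _ _)).image _).insert _, ?_, ?_⟩
  · rintro g (rfl | ⟨L, ⟨-, hL⟩, rfl⟩)
    exacts [⟨hℓ, inf_le_left⟩, ⟨hL, inf_le_right⟩]
  · intro L hL2 hLf hm₁ hm₂
    by_cases hℓL : ℓ₀ ≤ L
    · exact ⟨ℓ₀, Or.inl rfl, hℓL⟩
    have hdim : ∀ Li : Submodule ℂ (Fin 5 → ℂ), ℓ₀ ≤ Li → Module.finrank ℂ Li = 2 → L ⊓ Li ≠ ⊥ →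
        Module.finrank ℂ ↥(L ⊓ Li) = 1 := by
      intro Li hli h2' hm
      have h1 : 0 < Module.finrank ℂ ↥(L ⊓ Li) := Nat.pos_of_ne_zero fun h => hm (Submodule.finrank_eq_zero.1 h)
      have hlt : L ⊓ Li < L := lt_of_le_of_ne inf_le_left fun h => hℓL (hli.trans
        (Submodule.eq_of_le_of_finrank_le (h ▸ inf_le_right : L ≤ Li) (by omega)).ge)
      have := Submodule.finrank_lt_finrank_of_lt hlt
      omega
    have d1 := hdim L₁ inf_le_left h₁ hm₁
    have d2 := hdim L₂ inf_le_right h₂ hm₂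
    have hsum : (L ⊓ L₁) ⊔ (L ⊓ L₂) = L := by
      refine Submodule.eq_of_le_of_finrank_le (sup_le inf_le_left inf_le_left) ?_
      have h0 : (L ⊓ L₁) ⊓ (L ⊓ L₂) = ⊥ := by
        by_contra hb
        have hle : (L ⊓ L₁) ⊓ (L ⊓ L₂) ≤ ℓ₀ := le_inf (inf_le_left.trans inf_le_right) (inf_le_right.trans inf_le_right)
        have := Submodule.eq_of_le_of_finrank_le hle (by
          have : 0 < Module.finrank ℂ ↥((L ⊓ L₁) ⊓ (L ⊓ L₂)) := Nat.pos_of_ne_zero fun h => hb (Submodule.finrank_eq_zero.1 h)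
          omega)
        exact hℓL (this ▸ inf_le_left.trans inf_le_left)
      have h := Submodule.finrank_sup_add_finrank_inf_eq (L ⊓ L₁) (L ⊓ L₂)
      rw [h0, finrank_bot] at h
      omega
    have hLP : L ≤ P := hsum ▸ sup_le (inf_le_right.trans le_sup_left) (inf_le_right.trans le_sup_right)
    exact ⟨L ⊓ L₁, Or.inr ⟨L, ⟨⟨hLP, hL2, hLf⟩, d1⟩, rfl⟩, inf_le_left⟩

end Groth.Agent.S15252
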