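import Groth.Statements.S15253
import Groth.Agent.ProVanLib.Formal
import Groth.Agent.DefClassLib.Basic
import Groth.Agent.PtBlowLib.Stalk
import Groth.Agent.DegPullLib.H0
import Groth.Agent.KFlatLib.StalkTensor
import Groth.Agent.KoszIntLib.Stalk
-- import your own Groth.Agent.* helpers here

set_option autoImplicit false
set_option maxHeartbeats 1000000
set_option backward.isDefEq.respectTransparency false
set_option backward.isDefEq.respectTransparency.types false
universe u
open CategoryTheory CategoryTheory.Limits AlgebraicGeometry TopologicalSpace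
open W4c2seshadripos

namespace Groth.Agent.S15253


open DevissLib (St)
open CohCmpLib (stk)
open _root_.ProjFormLib (ger ger_res ger_map exists_ger)
open scoped TensorProduct

/-- Bilinear images of scaled submodules. -/
theorem map₂_smul_top {R M N T : Type u} [CommRing R] [AddCommGroup M] [Module R M] [AddCommGroup N] [Module R N]
    [AddCommGroup T] [Module R T] (μ : M →ₗ[R] N →ₗ[R] T) (hμ : Submodule.map₂ μ ⊤ ⊤ = ⊤) (I J : Ideal R) :
    Submodule.map₂ μ (I • ⊤) (J • ⊤) = (I * J) • ⊤ := by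
  refine le_antisymm ?_ ?_
  · refine Submodule.map₂_le.2 fun a ha b hb => ?_
    refine Submodule.smul_induction_on ha (fun r hr a _ => ?_) (fun a a' h h' => ?_)
    · refine Submodule.smul_induction_on hb (fun s hs b _ => ?_) (fun b b' h h' => ?_)
      · simp only [map_smul, LinearMap.smul_apply, smul_smul]
        exact Submodule.smul_mem_smul (by rw [mul_comm s r]; exact Ideal.mul_mem_mul hr hs) trivial
      · rw [map_add]; exact add_mem h h'
    · rw [map_add, LinearMap.add_apply]; exact add_mem h h'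
  · refine Submodule.smul_le.2 fun r hr t _ => ?_
    have ht : t ∈ Submodule.map₂ μ ⊤ ⊤ := by rw [hμ]; trivial
    rw [Submodule.map₂_eq_span_image2] at ht
    refine Submodule.span_induction ?_ ?_ ?_ ?_ ht
    · rintro _ ⟨a, -, b, -, rfl⟩
      refine Submodule.mul_induction_on hr (fun p hp q hq => ?_) (fun p q h h' => ?_)
      · have : (p * q) • μ a b = μ (p • a) (q • b) := by
          simp only [map_smul, LinearMap.smul_apply, smul_smul]
          rw [mul_comm]
        rw [this]
        exact Submodule.apply_mem_map₂ μ (Submodule.smul_mem_smul hp trivial) (Submodule.smul_mem_smul hq trivial)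
      · rw [add_smul]; exact add_mem h h'
    · rw [smul_zero]; exact zero_mem _
    · intro a b _ _ ha hb; rw [smul_add]; exact add_mem ha hb
    · intro c a _ ha; rw [smul_comm]; exact Submodule.smul_mem _ c ha

/-- The key filtration argument. -/
theorem approx {R M N T : Type u} [CommRing R] [AddCommGroup M] [Module R M] [AddCommGroup N] [Module R N]
    [AddCommGroup T] [Module R T] (μ : M →ₗ[R] N →ₗ[R] T) (hμ : Submodule.map₂ μ ⊤ ⊤ = ⊤) (m : Ideal R)
    (A : Set M) (B : Set N) (C : AddSubgroup T) (i j : ℕ)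
    (hA : ∀ v : M, ∃ a ∈ A, v - a ∈ m ^ (i + 1) • (⊤ : Submodule R M))
    (hB : ∀ v : N, ∃ b ∈ B, v - b ∈ m ^ (j + 1) • (⊤ : Submodule R N))
    (hAB : ∀ a ∈ A, ∀ b ∈ B, μ a b ∈ C) (z : T) :
    ∃ c ∈ C, z - c ∈ m ^ (i + j + 1) • (⊤ : Submodule R T) := by
  let Z := C ⊔ (m ^ (i + j + 1) • (⊤ : Submodule R T)).toAddSubgroup
  have hmul : ∀ (p q : ℕ), Submodule.map₂ μ (m ^ p • ⊤) (m ^ q • ⊤) = m ^ (p + q) • ⊤ := by
    intro p q
    rw [map₂_smul_top μ hμ, ← pow_add]
  have key : ∀ (e : ℕ) (n : ℕ), i + j + 1 ≤ n + e → ∀ w ∈ m ^ n • (⊤ : Submodule R T), w ∈ Z := by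
    intro e
    induction e with
    | zero =>
      intro n hn w hw
      exact AddSubgroup.mem_sup_right
        (Submodule.smul_mono_left (Ideal.pow_le_pow_right (by omega)) hw)
    | succ e ih =>
      intro n hn w hw
      by_cases hbig : i + j + 1 ≤ n
      · exact ih n (by omega) w hw
      obtain ⟨p, q, hpq, hp, hq⟩ : ∃ p q : ℕ, p + q = n ∧ p ≤ i ∧ q ≤ j :=
        ⟨min n i, n - min n i, by omega, by omega, by omega⟩
      rw [← hpq, ← hmul] at hw
      have hgen : ∀ f ∈ m ^ p • (⊤ : Submodule R M), ∀ g ∈ m ^ q • (⊤ : Submodule R N), μ f g ∈ Z := by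
        intro f hf g hg
        obtain ⟨a, ha, hfa⟩ := hA f
        obtain ⟨b, hb, hgb⟩ := hB g
        have hap : a ∈ m ^ p • (⊤ : Submodule R M) := by
          have := sub_mem hf (Submodule.smul_mono_left (Ideal.pow_le_pow_right (show p ≤ i + 1 by omega)) hfa)
          rwa [sub_sub_cancel] at this
        have h1 : μ a (g - b) ∈ m ^ (p + (j + 1)) • (⊤ : Submodule R T) := by
          rw [← hmul]; exact Submodule.apply_mem_map₂ μ hap hgb
        have h2 : μ (f - a) g ∈ m ^ (i + 1 + q) • (⊤ : Submodule R T) := by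
          rw [← hmul]; exact Submodule.apply_mem_map₂ μ hfa hg
        have e : μ f g = μ a b + μ a (g - b) + μ (f - a) g := by
          rw [map_sub, map_sub, LinearMap.sub_apply]; abel
        rw [e]
        exact add_mem (add_mem (AddSubgroup.mem_sup_left (hAB a ha b hb)) (ih _ (by omega) _ h1))
          (ih _ (by omega) _ h2)
      rw [Submodule.map₂_eq_span_image2] at hw
      have h := Submodule.span_induction (p := fun w _ => ∀ r : R, r • w ∈ Z) ?_ ?_ ?_ ?_ hw
      · simpa using h 1
      · rintro _ ⟨f, hf, g, hg, rfl⟩ r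
        rw [← LinearMap.smul_apply, ← map_smul]
        exact hgen _ (Submodule.smul_mem _ r hf) g hg
      · intro r; rw [smul_zero]; exact zero_mem _
      · intro a b _ _ ha hb r; rw [smul_add]; exact add_mem (ha r) (hb r)
      · intro c a _ ha r; rw [smul_smul]; exact ha _
  obtain ⟨c, hc, d, hd, rfl⟩ := AddSubgroup.mem_sup.1
    (key (i + j + 1) 0 (by omega) z (by rw [pow_zero, Ideal.one_eq_top, Submodule.top_smul]; trivial))
  exact ⟨c, hc, by rw [add_sub_cancel_left]; exact hd⟩

theorem e0_nat {X : Scheme.{u}} {M N : X.Modules} (φ : M ⟶ N) (y : Coh.HH X M 0) :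
    DegPullLib.e0 N (Sheaf.H.map ((SheafOfModules.toSheaf X.ringCatSheaf).map φ) 0 y) =
      φ.app ⊤ (DegPullLib.e0 M y) := by
  have h1 := QCohLib.hEquiv_map ((QCohLib.toAbF X).map φ) 0 y
  have h2 := QCohLib.h0_comp (QCohLib.hEquiv ((QCohLib.toAbF X).obj M) 0 y) ((QCohLib.toAbF X).map φ)
  exact (congrArg (QCohLib.h0 (U := (⊤ : Opens X.toTopCat))) h1).trans h2

/-- Separating jets, read on the stalk. -/
theorem separatesJets_iff {X : Scheme.{u}} (F : X.Modules) (x : X) (hx : IsClosed ({x} : Set X)) (l : ℕ) :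
    W4c2seshadripos.SeparatesJets F x hx l ↔ ∀ v : stk F x, ∃ s : Γ(F, (⊤ : X.Opens)),
      v - ger F x (U := ⊤) trivial s ∈
        IsLocalRing.maximalIdeal (X.presheaf.stalk x) ^ (l + 1) • (⊤ : Submodule (X.presheaf.stalk x) (stk F x)) := by
  let J := W4c2seshadripos.pointIdeal x hx ^ (l + 1)
  let Q := (Scheme.Modules.pushforward J.subschemeι).obj ((Scheme.Modules.pullback J.subschemeι).obj F)
  let η : F ⟶ Q := (Scheme.Modules.pullbackPushforwardAdjunction J.subschemeι).unit.app F
  haveI : Epi η := DefClassLib.epi_unit J.subschemeι F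
  have hker : ∀ v : stk F x, FLI.sMap η x v = 0 ↔
      v ∈ IsLocalRing.maximalIdeal (X.presheaf.stalk x) ^ (l + 1) • (⊤ : Submodule (X.presheaf.stalk x) (stk F x)) := by
    intro v
    refine (ProVanLib.mem_ker_unit_iff J.subschemeι F x v).trans ?_
    rw [Scheme.IdealSheafData.ker_subschemeι, ProVanLib.stalkIdeal_pow', W4c2seshadripos.pointIdeal,
      PtBlowLib.stalkIdeal_vanishing_point]
  have hoff : ∀ y : X, y ≠ x → Subsingleton (stk Q y) := fun y hy => not_not.mp fun h => by
    have h1 := DevissLib.support_push_subset J.subschemeι ((Scheme.Modules.pullback J.subschemeι).obj F) h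
    rw [J.range_subschemeι] at h1
    have h2 := KoszIntLib.stalkIdeal_le_maximal J h1
    rw [ProVanLib.stalkIdeal_pow', W4c2seshadripos.pointIdeal, KoszIntLib.stalkIdeal_eq_top _ (fun h3 => hy (by
      rw [Scheme.IdealSheafData.coe_support_vanishingIdeal] at h3
      exact h3)), Ideal.top_pow] at h2
    exact (IsLocalRing.maximalIdeal.isMaximal _).ne_top (top_le_iff.1 h2)
  have hext : ∀ s t : Γ(Q, (⊤ : X.Opens)), ger Q x (U := ⊤) trivial s = ger Q x (U := ⊤) trivial t → s = t :=
    fun s t h => TwistLib.mod_ext Q fun y hy => by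
      by_cases e : y = x
      · subst e; exact h
      · exact @Subsingleton.elim _ (hoff y e) _ _
  have hlift : ∀ q : stk Q x, ∃ t : Γ(Q, (⊤ : X.Opens)), ger Q x (U := ⊤) trivial t = q := by
    intro q
    obtain ⟨V, hV, t₀, rfl⟩ := exists_ger Q x q
    let W : X.Opens := ⟨({x} : Set X)ᶜ, hx.isOpen_compl⟩
    obtain ⟨t, ht, -⟩ := TopCat.Sheaf.existsUnique_gluing' (⟨Q.presheaf, Q.isSheaf⟩ : TopCat.Sheaf Ab X.toTopCat)
      (fun b : Bool => cond b V W) ⊤ (fun b => homOfLE le_top)
      (fun y _ => by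
        by_cases e : y = x
        · exact Opens.mem_iSup.2 ⟨true, e ▸ hV⟩
        · exact Opens.mem_iSup.2 ⟨false, e⟩)
      (fun b => match b with
        | true => t₀
        | false => 0)
      (fun b b' => by
        refine TopCat.Presheaf.section_ext (⟨Q.presheaf, Q.isSheaf⟩ : TopCat.Sheaf Ab X.toTopCat) _ _ _ fun y hy => ?_
        cases b <;> cases b'
        · rfl
        · exact @Subsingleton.elim _ (hoff y hy.1) _ _
        · exact @Subsingleton.elim _ (hoff y hy.2) _ _
        · rfl)
    refine ⟨t, ?_⟩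
    rw [← ger_res Q (le_top : V ≤ ⊤) x hV t]
    exact congrArg _ (ht true)
  have hnat : ∀ y, DegPullLib.e0 Q (W4c2seshadripos.resH J F y) = η.app ⊤ (DegPullLib.e0 F y) := fun y => e0_nat η y
  constructor
  · intro h v
    obtain ⟨t, ht⟩ := hlift (FLI.sMap η x v)
    obtain ⟨y, hy⟩ := h ((DegPullLib.e0 Q).symm t)
    refine ⟨DegPullLib.e0 F y, (hker _).1 ?_⟩
    have h1 : FLI.sMap η x (ger F x (U := ⊤) trivial (DegPullLib.e0 F y)) = FLI.sMap η x v := by
      refine (ger_map η x (U := ⊤) trivial _).trans ?_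
      rw [← hnat, hy, AddEquiv.apply_symm_apply, ht]
    rw [map_sub, h1, sub_self]
  · intro h q
    obtain ⟨v, hv⟩ := (ModuleCat.epi_iff_surjective ((St x).map η)).1 inferInstance
      (ger Q x (U := ⊤) trivial (DegPullLib.e0 Q q))
    obtain ⟨s, hs⟩ := h v
    refine ⟨(DegPullLib.e0 F).symm s, (DegPullLib.e0 Q).injective (hext _ _ ?_)⟩
    have h1 := (hker _).2 hs
    rw [map_sub, sub_eq_zero] at h1
    rw [hnat, AddEquiv.apply_symm_apply]
    exact ((ger_map η x (U := ⊤) trivial s).symm.trans h1.symm).trans hv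

/-- Let X be a scheme, x a closed point of X with ideal sheaf m_x, and F, G quasi-coherent O_X-modules
of finite type (coherent modules when X is locally Noetherian). A module M separates l-jets at x
when the restriction map H^0(X, M) → H^0(X, M / m_x^(l+1) M) is surjective. If F separates i-jets at
x and G separates j-jets at x, with i, j ≥ 0, then F ⊗ G separates (i+j)-jets at x; in other words
s(F; x) + s(G; x) ≤ s(F ⊗ G; x) whenever both terms are ≥ 0, where s(M; x) is the largest l such
that M separates l-jets at x. -/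
theorem result (X : Scheme.{u}) (x : X) (hx : IsClosed ({x} : Set X))
    (F G : X.Modules) (hF : Coh.IsCoh F) (hG : Coh.IsCoh G) (i j : ℕ)
    (hi : W4c2seshadripos.SeparatesJets F x hx i) (hj : W4c2seshadripos.SeparatesJets G x hx j) :
    W4c2seshadripos.SeparatesJets (CohB1.tensorMod F G) x hx (i + j) := by
  rw [separatesJets_iff] at hi hj ⊢
  intro z
  let R := X.presheaf.stalk x
  let μ : (stk F x) →ₗ[R] (stk G x) →ₗ[R] stk (CohB1.tensorMod F G) x :=
    (TensorProduct.mk R (stk F x) (stk G x)).compr₂ (KFlatLib.stalkTensorLin F G x)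
  have hμ : Submodule.map₂ μ ⊤ ⊤ = ⊤ := by
    refine eq_top_iff.2 fun w _ => ?_
    obtain ⟨w, rfl⟩ := (KFlatLib.stalkTensorLin_bijective F G x).2 w
    induction w using TensorProduct.induction_on with
    | zero => rw [map_zero]; exact zero_mem _
    | tmul a b => exact Submodule.apply_mem_map₂ μ (p := ⊤) (q := ⊤) trivial trivial
    | add a b ha hb => rw [map_add]; exact add_mem (ha trivial) (hb trivial)
  let C : AddSubgroup (stk (CohB1.tensorMod F G) x) :=
    ((CohB1.tensorMod F G).presheaf.germ ⊤ x trivial).hom.range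
  obtain ⟨c, ⟨t, rfl⟩, hc⟩ := approx μ hμ (IsLocalRing.maximalIdeal R)
    (Set.range fun s : Γ(F, (⊤ : X.Opens)) => ger F x (U := ⊤) trivial s)
    (Set.range fun s : Γ(G, (⊤ : X.Opens)) => ger G x (U := ⊤) trivial s) C i j
    (fun v => by obtain ⟨s, hs⟩ := hi v; exact ⟨_, ⟨s, rfl⟩, hs⟩)
    (fun v => by obtain ⟨s, hs⟩ := hj v; exact ⟨_, ⟨s, rfl⟩, hs⟩)
    (by
      rintro _ ⟨a, rfl⟩ _ ⟨b, rfl⟩
      exact ⟨KFlatLib.shTm a b, (KFlatLib.stalkTensorLin_germ (M := F) (N := G) (U := ⊤) (x := x) trivial a b).symm⟩) z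
  exact ⟨t, hc⟩

end Groth.Agent.S15253
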