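import Groth.Statements.S15255
import Groth.Agent.BlowRegLib.PointIdealVan
import Groth.Agent.OmegaAffLib.Affine

set_option autoImplicit false
universe u
open CategoryTheory CategoryTheory.Limits AlgebraicGeometry TopologicalSpace
open W4c2seshadripos

namespace Groth.Agent.S15255

theorem app_eq_zero {A B C : Scheme.{u}} {f : A ⟶ C} {a : A ⟶ B} {b : B ⟶ C} (e : a ≫ b = f)
    (W : C.Opens) (x : Γ(C, W)) (h : b.app W x = 0) : f.app W x = 0 := by
  subst e
  rw [Scheme.Hom.comp_app]
  change a.app _ (b.app W x) = 0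
  rw [h]
  exact map_zero _

/-- Let X be an integral scheme proper over a field k (the published statement: a projective variety), x
a closed point of X with ideal sheaf m_x, L an invertible O_X-module and a, m > 0 integers. If
H^1(X, m_x^a ⊗ L^{⊗m}) is nonzero then so is H^1(X, m_x^(a+1) ⊗ L^{⊗m}) (the ideal sheaves m_x^a
being taken as O_X-modules, so that m_x^a ⊗ L^{⊗m} = m_x^a · L^{⊗m}). -/
theorem result (k : Type u) [Field k]
    (X : Scheme.{u}) [X.Over (Spec (CommRingCat.of k))] [IsProper (X ↘ (Spec (CommRingCat.of k)))]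
    [IsIntegral X] (x : X) (hx : IsClosed ({x} : Set X)) (L : X.Modules) (hL : PicF.IsInvertible L)
    (a m : ℕ) (ha : 0 < a) (hm : 0 < m)
    (h : Nontrivial (Coh.HH X (CohB1.tensorMod (ClSub.idealMod ((W4c2seshadripos.pointIdeal x hx) ^ a))
      (CohB1.tensorPow L m)) 1)) :
    Nontrivial (Coh.HH X (CohB1.tensorMod (ClSub.idealMod ((W4c2seshadripos.pointIdeal x hx) ^ (a + 1)))
      (CohB1.tensorPow L m)) 1) := by
  haveI := CurvLib.isNoetherian k (X := X)
  let N := CohB1.tensorPow L m
  have hN : PicF.IsInvertible N := AmpleThLib.tensorPow_isInvertible hL m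
  let P := W4c2seshadripos.pointIdeal x hx
  let I := P ^ a
  let J := P ^ (a + 1)
  have hle : J ≤ I := by
    intro U
    simp only [J, I, Scheme.IdealSheafData.ideal_pow]
    exact Ideal.pow_le_pow_right (Nat.le_succ a)
  have hsupp : ∀ b : ℕ, 0 < b → ((P ^ b).support : Set X) ⊆ {x} := fun b hb y hy => by
    rw [Scheme.IdealSheafData.support_pow _ _ hb.ne'] at hy
    rwa [show P = W4c2seshadripos.pointIdeal x hx from rfl, W4c2seshadripos.pointIdeal,
      Scheme.IdealSheafData.coe_support_vanishingIdeal] at hy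
  have hzero : ClSub.idealModι J ≫ ClSub.toSubscheme I = 0 := by
    apply Scheme.Modules.hom_ext
    intro W
    ext n
    let b : Γ(X, W) := OmegaAffLib.idealIncl X J W n
    show I.subschemeι.app W b = 0
    have h1 : J.subschemeι.app W b = 0 :=
      congr($(congrArg (fun t => Scheme.Modules.Hom.app t W) (kernel.condition (ClSub.toSubscheme J))) n)
    exact app_eq_zero (Scheme.IdealSheafData.inclusion_subschemeι hle) W b h1
  let ι : ClSub.idealMod J ⟶ ClSub.idealMod I := kernel.lift _ (ClSub.idealModι J) hzero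
  have hι : ι ≫ ClSub.idealModι I = ClSub.idealModι J := kernel.lift_ι _ _ _
  haveI : Mono (ClSub.idealModι J) := (CurvLib.idealSeq_shortExact J).mono_f
  haveI : Mono (ι ≫ ClSub.idealModι I) := by rw [hι]; infer_instance
  haveI : Mono ι := mono_of_mono ι (ClSub.idealModι I)
  let S : ShortComplex X.Modules := ShortComplex.mk ι (cokernel.π ι) (cokernel.condition ι)
  have hS : S.ShortExact :=
    { exact := ShortComplex.exact_of_g_is_cokernel _ (cokernelIsCokernel ι)
      mono_f := inferInstanceAs (Mono ι)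
      epi_g := inferInstanceAs (Epi (cokernel.π ι)) }
  have hQ : CohB1.support (cokernel ι) ⊆ ({x} : Set X) := by
    intro y hy
    by_contra hyx
    have hiso : ∀ b : ℕ, 0 < b → IsIso ((DevissLib.St y).map (ClSub.idealModι (P ^ b))) := fun b hb =>
      ((CurvLib.idealSeq_shortExact (P ^ b)).map_of_exact (DevissLib.St y)).isIso_f_iff.mpr
        ((DevissLib.notMem_support_iff _ y).mp fun h =>
          hyx (hsupp b hb (CurvLib.support_quotMod_subset _ h)))
    haveI : IsIso ((DevissLib.St y).map (ClSub.idealModι I)) := hiso a ha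
    haveI : IsIso ((DevissLib.St y).map ι ≫ (DevissLib.St y).map (ClSub.idealModι I)) := by
      rw [← Functor.map_comp, hι]; exact hiso (a + 1) a.succ_pos
    haveI : IsIso ((DevissLib.St y).map ι) := IsIso.of_isIso_comp_right _ ((DevissLib.St y).map (ClSub.idealModι I))
    exact DevissLib.notMem_support_cokernel ι y ((ModuleCat.epi_iff_surjective _).mp inferInstance) hy
  have hT := HilbPolyLib.shortExact_tensor hN hS
  haveI h3 : Subsingleton (Coh.HH X (CohB1.tensorMod N (cokernel ι)) 1) :=
    CurvLib.subsingleton_HH_of_support _ hx (by rw [HilbPolyLib.support_tensor hN]; exact hQ)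
      (d := 0) ((topologicalKrullDim_zero_of_discreteTopology ({x} : Set X)).trans (by simp)) 1 one_pos
  by_contra hn
  rw [not_nontrivial_iff_subsingleton] at hn
  haveI h1 : Subsingleton (Coh.HH X (S.map (CurvLib.tensorLeft' N)).X₁ 1) :=
    SerreVanLib.subsingleton_HH_of_iso (HilbPolyLib.swapIso N (ClSub.idealMod J)) _ hn
  have h2 : Subsingleton (Coh.HH X (CohB1.tensorMod (ClSub.idealMod I) N) 1) := by
    refine SerreVanLib.subsingleton_HH_of_iso (HilbPolyLib.swapIso (ClSub.idealMod I) N) _ ?_
    show Subsingleton (Coh.HH X (S.map (CurvLib.tensorLeft' N)).X₂ 1)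
    have key : ∀ z : Coh.HH X (S.map (CurvLib.tensorLeft' N)).X₂ 1, z = 0 := fun z => by
      have hz : z ∈ LinearMap.ker (CurvLib.hMap (k := k) (S.map (CurvLib.tensorLeft' N)).g 1) :=
        LinearMap.mem_ker.2 (h3.elim _ _)
      rw [← CurvLib.exact₂ hT] at hz
      obtain ⟨w, rfl⟩ := hz
      exact (congrArg _ (h1.elim w 0)).trans (map_zero _)
    exact ⟨fun z z' => by rw [key z, key z']⟩
  exact not_nontrivial _ h

end Groth.Agent.S15255
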