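import Groth.Statements.S15268
import Groth.Agent.StabLib.InfFibre
import Groth.Agent.PnCohLib.FlatCriterion
import Groth.Agent.AmpleDevLib.Components
import Groth.Agent.ChowLib.Embed
import Groth.Agent.HilbPolyLib.Twist
-- import your own Groth.Agent.* helpers here

set_option autoImplicit false
set_option backward.isDefEq.respectTransparency false
set_option backward.isDefEq.respectTransparency.types false
set_option maxHeartbeats 1600000
set_option synthInstance.maxHeartbeats 400000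
open CategoryTheory CategoryTheory.Limits AlgebraicGeometry
open Coherent

namespace Groth.Agent.S15268

/-- Over the complex numbers, let S be a separated scheme of finite type, X a closed subscheme of
projective n-space over S which is flat over S and whose fibre X_t over every complex point t of S
is irreducible of dimension d, and ξ a section of X over S. Let E and F be coherent sheaves on X,
flat over S, such that for every complex point t of S, on the fibre X_t polarised by the pull-back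
of O(1): the restrictions E_t and F_t are semistable of dimension d (nonzero, pure of dimension d,
reduced Hilbert polynomials of nonzero proper coherent subsheaves at most that of the sheaf for
large arguments) with the same reduced Hilbert polynomial (r(F_t)·p_{E_t} = r(E_t)·p_{F_t}, r
denoting d! times the degree-d coefficient), and each of E_t, F_t has a filtration by coherent
subsheaves with stable d-dimensional successive quotients of that reduced Hilbert polynomial whose
associated graded sheaf is finite locally free on an open neighbourhood of the point ξ(t). Then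
every morphism φ from E to F whose pull-back along ξ is the zero map is zero. (The published
statement is for modules over a sheaf of rings of differential operators and imposes the fibre
conditions at the closed points of the base; this row is the case of the structure sheaf, with the
conditions at complex points, which are the closed points here.) -/
theorem result
    (S : Scheme.{0}) (sS : S ⟶ Spec (CommRingCat.of ℂ)) [LocallyOfFiniteType sS] [QuasiCompact sS] [IsSeparated sS]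
    (n : ℕ) (X : Scheme.{0}) (i : X ⟶ CohB1.ProjSpaceOver n S) [IsClosedImmersion i] [Flat (i ≫ (CohB1.ProjSpaceOver n S ↘ S))] (d : ℕ)
    (ξ : S ⟶ X) (hξ : ξ ≫ (i ≫ (CohB1.ProjSpaceOver n S ↘ S)) = 𝟙 S)
    (hfib : ∀ (t : Spec (CommRingCat.of ℂ) ⟶ S), t ≫ sS = 𝟙 (Spec (CommRingCat.of ℂ)) →
      IrreducibleSpace (PicF.XT (i ≫ (CohB1.ProjSpaceOver n S ↘ S)) (Over.mk t)) ∧ topologicalKrullDim (PicF.XT (i ≫ (CohB1.ProjSpaceOver n S ↘ S)) (Over.mk t)) = (d : WithBot ℕ∞))
    (E F : X.Modules) (hE : Coh.IsCoh E) (hF : Coh.IsCoh F)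
    (hEfl : FlatMod.IsFlatOver (i ≫ (CohB1.ProjSpaceOver n S ↘ S)) E) (hFfl : FlatMod.IsFlatOver (i ≫ (CohB1.ProjSpaceOver n S ↘ S)) F)
    (hss : ∀ (t : Spec (CommRingCat.of ℂ) ⟶ S), t ≫ sS = 𝟙 (Spec (CommRingCat.of ℂ)) →
      @ShStab.IsSemistable ℂ _ (PicF.XT (i ≫ (CohB1.ProjSpaceOver n S ↘ S)) (Over.mk t)) ⟨PicF.XTproj (i ≫ (CohB1.ProjSpaceOver n S ↘ S)) (Over.mk t)⟩ ((Scheme.Modules.pullback (pullback.fst (i ≫ (CohB1.ProjSpaceOver n S ↘ S)) (Over.mk t).hom ≫ i)).obj (Twist.twistOver n S 1)) ((Scheme.Modules.pullback (pullback.fst (i ≫ (CohB1.ProjSpaceOver n S ↘ S)) (Over.mk t).hom)).obj E) d ∧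
      @ShStab.IsSemistable ℂ _ (PicF.XT (i ≫ (CohB1.ProjSpaceOver n S ↘ S)) (Over.mk t)) ⟨PicF.XTproj (i ≫ (CohB1.ProjSpaceOver n S ↘ S)) (Over.mk t)⟩ ((Scheme.Modules.pullback (pullback.fst (i ≫ (CohB1.ProjSpaceOver n S ↘ S)) (Over.mk t).hom ≫ i)).obj (Twist.twistOver n S 1)) ((Scheme.Modules.pullback (pullback.fst (i ≫ (CohB1.ProjSpaceOver n S ↘ S)) (Over.mk t).hom)).obj F) d ∧
      ∀ pE pF : Polynomial ℚ, @ShStab.IsHilbPoly ℂ _ (PicF.XT (i ≫ (CohB1.ProjSpaceOver n S ↘ S)) (Over.mk t)) ⟨PicF.XTproj (i ≫ (CohB1.ProjSpaceOver n S ↘ S)) (Over.mk t)⟩ ((Scheme.Modules.pullback (pullback.fst (i ≫ (CohB1.ProjSpaceOver n S ↘ S)) (Over.mk t).hom ≫ i)).obj (Twist.twistOver n S 1)) ((Scheme.Modules.pullback (pullback.fst (i ≫ (CohB1.ProjSpaceOver n S ↘ S)) (Over.mk t).hom)).obj E) pE →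
        @ShStab.IsHilbPoly ℂ _ (PicF.XT (i ≫ (CohB1.ProjSpaceOver n S ↘ S)) (Over.mk t)) ⟨PicF.XTproj (i ≫ (CohB1.ProjSpaceOver n S ↘ S)) (Over.mk t)⟩ ((Scheme.Modules.pullback (pullback.fst (i ≫ (CohB1.ProjSpaceOver n S ↘ S)) (Over.mk t).hom ≫ i)).obj (Twist.twistOver n S 1)) ((Scheme.Modules.pullback (pullback.fst (i ≫ (CohB1.ProjSpaceOver n S ↘ S)) (Over.mk t).hom)).obj F) pF → StabCat.RedEq d pE pF)
    (hLF : ∀ (t : Spec (CommRingCat.of ℂ) ⟶ S), t ≫ sS = 𝟙 (Spec (CommRingCat.of ℂ)) →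
      (∃ sE : LTSeries (Subobject ((Scheme.Modules.pullback (pullback.fst (i ≫ (CohB1.ProjSpaceOver n S ↘ S)) (Over.mk t).hom)).obj E)), @ShStab.IsJHFiltration ℂ _ (PicF.XT (i ≫ (CohB1.ProjSpaceOver n S ↘ S)) (Over.mk t)) ⟨PicF.XTproj (i ≫ (CohB1.ProjSpaceOver n S ↘ S)) (Over.mk t)⟩ ((Scheme.Modules.pullback (pullback.fst (i ≫ (CohB1.ProjSpaceOver n S ↘ S)) (Over.mk t).hom ≫ i)).obj (Twist.twistOver n S 1)) ((Scheme.Modules.pullback (pullback.fst (i ≫ (CohB1.ProjSpaceOver n S ↘ S)) (Over.mk t).hom)).obj E) d sE ∧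
          ∀ x ∈ Set.range (PicF.secT (i ≫ (CohB1.ProjSpaceOver n S ↘ S)) ξ hξ (Over.mk t)).base, ∃ U : (PicF.XT (i ≫ (CohB1.ProjSpaceOver n S ↘ S)) (Over.mk t)).Opens, x ∈ U ∧ FlatMod.IsFinLocFree ((StabCat.grObj sE).restrict U.ι)) ∧
      (∃ sF : LTSeries (Subobject ((Scheme.Modules.pullback (pullback.fst (i ≫ (CohB1.ProjSpaceOver n S ↘ S)) (Over.mk t).hom)).obj F)), @ShStab.IsJHFiltration ℂ _ (PicF.XT (i ≫ (CohB1.ProjSpaceOver n S ↘ S)) (Over.mk t)) ⟨PicF.XTproj (i ≫ (CohB1.ProjSpaceOver n S ↘ S)) (Over.mk t)⟩ ((Scheme.Modules.pullback (pullback.fst (i ≫ (CohB1.ProjSpaceOver n S ↘ S)) (Over.mk t).hom ≫ i)).obj (Twist.twistOver n S 1)) ((Scheme.Modules.pullback (pullback.fst (i ≫ (CohB1.ProjSpaceOver n S ↘ S)) (Over.mk t).hom)).obj F) d sF ∧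
          ∀ x ∈ Set.range (PicF.secT (i ≫ (CohB1.ProjSpaceOver n S ↘ S)) ξ hξ (Over.mk t)).base, ∃ U : (PicF.XT (i ≫ (CohB1.ProjSpaceOver n S ↘ S)) (Over.mk t)).Opens, x ∈ U ∧ FlatMod.IsFinLocFree ((StabCat.grObj sF).restrict U.ι)))
    (φ : E ⟶ F) (hφ : (Scheme.Modules.pullback ξ).map φ = 0) : φ = 0 := by
  let f := i ≫ (CohB1.ProjSpaceOver n S ↘ S)
  haveI : IsLocallyNoetherian (Spec (CommRingCat.of ℂ)) := inferInstance
  haveI : IsLocallyNoetherian S := LocallyOfFiniteType.isLocallyNoetherian sS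
  haveI : IsProper (CohB1.ProjSpaceOver n S ↘ S) := ChowLib.isProper_toBase n S
  haveI : IsProper f := inferInstanceAs (IsProper (i ≫ (CohB1.ProjSpaceOver n S ↘ S)))
  haveI : IsLocallyNoetherian X := LocallyOfFiniteType.isLocallyNoetherian f
  haveI : JacobsonSpace (Spec (CommRingCat.of ℂ)) := inferInstance
  haveI : JacobsonSpace S := LocallyOfFiniteType.jacobsonSpace sS
  haveI : JacobsonSpace X := LocallyOfFiniteType.jacobsonSpace f
  suffices hcl : ∀ x : X, IsClosed ({x} : Set X) → ∀ e, ((DevissLib.St x).map φ).hom e = 0 by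
    refine StabLib.hom_eq_zero_of_stalk φ fun y e => ?_
    obtain ⟨U, hy, s, rfl⟩ := DevissLib.exists_gm_eq E y e
    obtain ⟨x, ⟨hxy, hxU⟩, hx⟩ := nonempty_inter_closedPoints
      (Z := closure {y} ∩ (U : Set X)) ⟨y, subset_closure rfl, hy⟩ (isClosed_closure.isLocallyClosed.inter U.isOpen.isLocallyClosed)
    have h0 := hcl x hx (DevissLib.gm E x hxU s)
    rw [DevissLib.gm_app, ← DevissLib.gm_zero F x hxU] at h0
    obtain ⟨W, hxW, iU, iU', hW⟩ := TopCat.Presheaf.germ_eq F.presheaf x hxU hxU _ _ h0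
    have hyW : y ∈ W := (specializes_iff_mem_closure.mpr hxy).mem_open W.isOpen hxW
    rw [DevissLib.gm_app, ← DevissLib.gm_map F iU.le y hyW]
    refine (congrArg (DevissLib.gm F y hyW) hW).trans ?_
    rw [map_zero]
    exact DevissLib.gm_zero F y hyW
  intro x hx e
  have hs : IsClosed ({f x} : Set S) := by
    have := f.isClosedMap {x} hx
    rwa [Set.image_singleton] at this
  let t := pointOfClosedPoint sS (f x) hs
  have ht : t ≫ sS = 𝟙 _ := pointOfClosedPoint_comp sS (f x) hs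
  have htp : t (IsLocalRing.closedPoint ℂ) = f x := pointOfClosedPoint_apply sS (f x) hs _
  haveI : IsClosedImmersion t := by
    haveI : IsClosedImmersion (t ≫ sS) := by rw [ht]; infer_instance
    exact IsClosedImmersion.of_comp t sS
  let Xt := pullback f t
  let c := pullback.fst f t
  letI : Xt.Over (Spec (CommRingCat.of ℂ)) := ⟨pullback.snd f t⟩
  haveI : IsProper (Xt ↘ Spec (CommRingCat.of ℂ)) := inferInstanceAs (IsProper (pullback.snd f t))
  haveI := CurvLib.isNoetherian ℂ (X := Xt)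
  obtain ⟨hirr, hdim⟩ := hfib t ht
  haveI : IrreducibleSpace Xt := hirr
  let L : Xt.Modules := (Scheme.Modules.pullback (c ≫ i)).obj (Twist.twistOver n S 1)
  -- ampleness of the polarisation
  have hL : CohB1.IsAmple L := by
    obtain ⟨V, hV, hsV, -⟩ := exists_isAffineOpen_mem_and_subset (x := f x) (U := ⊤) trivial
    haveI : QuasiCompact (i ≫ CohB1.ProjSpaceOver.toBase n S) := inferInstanceAs (QuasiCompact f)
    have hA := PnCohLib.isAmple_twist_restrict (i := i) hV
    let W : X.Opens := (i ≫ CohB1.ProjSpaceOver.toBase n S) ⁻¹ᵁ V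
    have hr : Set.range c ⊆ Set.range W.ι := by
      rintro _ ⟨z, rfl⟩
      rw [Scheme.Opens.range_ι]
      show f (c z) ∈ V
      have := congrArg (fun q => q z) (pullback.condition (f := f) (g := t))
      simp only [Scheme.Hom.comp_apply] at this
      rw [this, Subsingleton.elim (pullback.snd f t z) (IsLocalRing.closedPoint ℂ), htp]
      exact hsV
    let h := IsOpenImmersion.lift W.ι c hr
    have hh : h ≫ W.ι = c := IsOpenImmersion.lift_fac _ _ _
    haveI : IsClosedImmersion (h ≫ W.ι) := by rw [hh]; infer_instance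
    haveI : IsClosedImmersion h := IsClosedImmersion.of_comp h W.ι
    have hiT := PicPnLib.twistOver_inv n S 1
    let eW := (Scheme.Modules.restrictFunctorIsoPullback W.ι).app
      ((Scheme.Modules.pullback i).obj (Twist.twistOver n S 1))
    have hinv : PicF.IsInvertible ((Scheme.Modules.pullback W.ι).obj
      ((Scheme.Modules.pullback i).obj (Twist.twistOver n S 1))) :=
      AmpleDevLib.isInvertible_pb _ (AmpleDevLib.isInvertible_pb _ hiT)
    have hA' := AmpleDevLib.isAmple_of_iso (HilbPolyLib.isInvertible_of_iso eW.symm hinv) hinv eW hA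
    refine AmpleDevLib.isAmple_of_iso (AmpleDevLib.isInvertible_pb h hinv)
      (AmpleDevLib.isInvertible_pb (c ≫ i) hiT) ?_ (AmpleDevLib.isAmple_pb h hinv hA')
    exact (Scheme.Modules.pullbackComp h W.ι).app _ ≪≫ (Scheme.Modules.pullbackCongr hh).app _ ≪≫
      (Scheme.Modules.pullbackComp c i).app _
  obtain ⟨hssE, hssF, hred⟩ := hss t ht
  obtain ⟨⟨sE, hsE, -⟩, ⟨sF, hsF, hgrF⟩⟩ := hLF t ht
  let σ := PicF.secT f ξ hξ (Over.mk t)
  let z₀ : ↥Xt := σ (IsLocalRing.closedPoint ℂ)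
  obtain ⟨V₀, hzV, hV₀⟩ := hgrF z₀ ⟨_, rfl⟩
  haveI hPgr := StabLib.projective_stalk_of_restrict V₀ hV₀ hzV
  haveI hP : Module.Projective ((pullback f t).presheaf.stalk z₀)
      ((DevissLib.St z₀).obj ((Scheme.Modules.pullback (pullback.fst f t)).obj F)) :=
    StabLib.projective_stalk_of_series sF hsF.1 hsF.2.1 z₀
    (fun j => StabLib.projective_stalk_factor sF j)
  have hz₀ : c z₀ = ξ (t (IsLocalRing.closedPoint ℂ)) :=
    congrArg (fun q => q (IsLocalRing.closedPoint ℂ)) (pullback.lift_fst _ _ _ : σ ≫ c = t ≫ ξ)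
  haveI : @IsProper Xt (Spec (CommRingCat.of ℂ))
      (@CategoryTheory.over Scheme _ Xt (Spec (CommRingCat.of ℂ))
        ⟨PicF.XTproj (i ≫ (CohB1.ProjSpaceOver n S ↘ S)) (Over.mk t)⟩) :=
    inferInstanceAs (IsProper (pullback.snd f t))
  refine StabLib.stalk_eq_zero_over_point f ξ hξ hF hFfl t z₀ hz₀ (fun ψ hψ => ?_) φ hφ x htp.symm e
  refine @StabLib.eq_zero_of_zeroAt Xt ℂ _ ⟨pullback.snd f t⟩ ‹_› L hL d z₀ _ _ hssE hssF ?_ (fun H hH => ?_) sE hsE sF hsF hPgr ψ hψ
  · exact (StabLib.redEq_iff d).mp (hred _ _ (StabLib.hPoly_spec hL hssE.1) (StabLib.hPoly_spec hL hssF.1))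
  · rw [StabLib.eq_univ_of_dim_eq hdim (QCohLib.isClosed_support _ hH.1.2)
      (hH.2.2.1 H (𝟙 H) inferInstance hH.1 hH.2.1)]
    trivial

end Groth.Agent.S15268
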