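import Groth.Statements.S15271
import Mathlib
import Groth.Agent.StabLib.RedSub
-- import your own Groth.Agent.* helpers here

set_option autoImplicit false
open CategoryTheory CategoryTheory.Limits AlgebraicGeometry
open Coherent

namespace Groth.Agent.S15271

/-- Over the complex numbers, let X be a proper scheme with an ample invertible sheaf L and let ξ be a
complex point of X. Let E be a coherent sheaf on X which is semistable of dimension d with respect
to L (nonzero, pure of dimension d, and the reduced Hilbert polynomial of every nonzero proper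
coherent subsheaf is at most that of E for large arguments) and which has a filtration by coherent
subsheaves with stable d-dimensional successive quotients of the reduced Hilbert polynomial of E
whose associated graded sheaf (the direct sum of the quotients) is finite locally free on an open
neighbourhood of ξ. Let G be a coherent subsheaf of E whose reduced Hilbert polynomial equals that
of E (r(E)·p_G = r(G)·p_E for Hilbert polynomials p_G, p_E with respect to L, r denoting d! times
the degree-d coefficient). Then G, and likewise the quotient E/G, has a filtration by coherent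
subsheaves with stable d-dimensional successive quotients of the same reduced Hilbert polynomial
whose associated graded sheaf is finite locally free on an open neighbourhood of ξ. (The published
statement is for modules over a sheaf of rings of differential operators on the closed fibres of a
projective flat family with a section; this row is the case of the structure sheaf on one complex
fibre, and does not assume the fibre irreducible.) -/
theorem result
    (X : Scheme.{0}) [X.Over (Spec (CommRingCat.of ℂ))] [IsProper (X ↘ Spec (CommRingCat.of ℂ))]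
    (L : X.Modules) (hL : CohB1.IsAmple L) (d : ℕ)
    (E : X.Modules) (hE : ShStab.IsSemistable ℂ X L E d)
    (ξ : Spec (CommRingCat.of ℂ) ⟶ X) (hξ : ξ ≫ (X ↘ Spec (CommRingCat.of ℂ)) = 𝟙 (Spec (CommRingCat.of ℂ)))
    (sE : LTSeries (Subobject E)) (hsE : ShStab.IsJHFiltration ℂ X L E d sE)
    (hgrE : ∀ x ∈ Set.range ξ.base, ∃ U : X.Opens, x ∈ U ∧ FlatMod.IsFinLocFree ((StabCat.grObj sE).restrict U.ι))
    (G : X.Modules) (ι : G ⟶ E) [Mono ι] (hG : Coh.IsCoh G)
    (pG pE : Polynomial ℚ) (hpG : ShStab.IsHilbPoly ℂ X L G pG) (hpE : ShStab.IsHilbPoly ℂ X L E pE)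
    (hred : StabCat.RedEq d pG pE) :
    (∃ sG : LTSeries (Subobject G), ShStab.IsJHFiltration ℂ X L G d sG ∧
        ∀ x ∈ Set.range ξ.base, ∃ U : X.Opens, x ∈ U ∧ FlatMod.IsFinLocFree ((StabCat.grObj sG).restrict U.ι)) ∧
    (∃ sQ : LTSeries (Subobject (cokernel ι)), ShStab.IsJHFiltration ℂ X L (cokernel ι) d sQ ∧
        ∀ x ∈ Set.range ξ.base, ∃ U : X.Opens, x ∈ U ∧ FlatMod.IsFinLocFree ((StabCat.grObj sQ).restrict U.ι)) := by
  haveI := CurvLib.isNoetherian ℂ (X := X)
  have hd : topologicalKrullDim (CohB1.support E) ≤ (d : ℕ) :=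
    le_of_eq (hE.2.2.1 E (𝟙 E) inferInstance hE.1 hE.2.1)
  have hr : StabLib.dd d (StabLib.HPoly ℂ L G) (StabLib.HPoly ℂ L E) = 0 := by
    rw [StabLib.hPoly_eq hL hG hpG, StabLib.hPoly_eq hL hE.1 hpE]
    exact (StabLib.redEq_iff d).mp hred
  have hQ := QCohLib.isCoh_cokernel ι hG.1 hE.1
  obtain ⟨hsG, hsQ⟩ := StabLib.semistable_sub_quot (k := ℂ) hL hE ι hG hr
  obtain ⟨tG, htG⟩ : ∃ t, ShStab.IsJHFiltration ℂ X L G d t := by
    by_cases h0 : IsZero G
    · exact StabLib.exists_jh_of_isZero h0
    · exact StabLib.exists_jhFilt hL hG ((StabLib.dim_mono (DevissLib.support_mono ι)).trans hd) (hsG h0)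
  obtain ⟨tQ, htQ⟩ : ∃ t, ShStab.IsJHFiltration ℂ X L (cokernel ι) d t := by
    by_cases h0 : IsZero (cokernel ι)
    · exact StabLib.exists_jh_of_isZero h0
    · exact StabLib.exists_jhFilt hL hQ
        ((StabLib.dim_mono (DevissLib.support_epi (cokernel.π ι))).trans hd) (hsQ h0)
  refine ⟨⟨tG, htG, fun x hx => ?_⟩, ⟨tQ, htQ, fun x hx => ?_⟩⟩ <;>
  · obtain ⟨U, hxU, hU⟩ := hgrE x hx
    haveI := StabLib.projective_stalk_of_restrict U hU hxU
    obtain ⟨h1, h2⟩ := StabLib.exists_jh_sub_quot (k := ℂ) (x := x) hL hE.1 hd hE hsE ι hG hr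
    first
      | exact StabLib.locFree_near_grObj tG (fun i => (htG.2.2 i).1.1) (h1 tG htG)
      | exact StabLib.locFree_near_grObj tQ (fun i => (htQ.2.2 i).1.1) (h2 tQ htQ)

end Groth.Agent.S15271
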