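import Groth.Statements.S15284
import Mathlib.RingTheory.RingHom.Etale
import Mathlib.FieldTheory.Minpoly.IsIntegrallyClosed
import Mathlib.Algebra.Polynomial.Lifts
import Groth.Agent.ValEtCompLib.Key
import Groth.Agent.ValEtCompLib.Approx
import Groth.Agent.ValEtCompLib.Completion
-- import your own Groth.Agent.* helpers here

set_option autoImplicit false
set_option maxHeartbeats 2000000
set_option backward.isDefEq.respectTransparency false
universe u
open CAlg

namespace Groth.Agent.S15284

open Polynomial UniformSpace Groth.Agent.ValEtCompLib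

section
variable {K L Γ₀ Γ₁ : Type u} [Field K] [Field L] [Algebra K L]
  [LinearOrderedCommGroupWithZero Γ₀] [LinearOrderedCommGroupWithZero Γ₁]
  (vK : Valuation K Γ₀) (vL : Valuation L Γ₁) [vK.HasExtension vL]

theorem coe_aeval (θ : vL.valuationSubring) (q : vK.valuationSubring[X]) :
    ((aeval θ q : vL.valuationSubring) : L) = aeval (θ : L) (q.map (algebraMap _ K)) := by
  rw [aeval_map_algebraMap]
  exact (aeval_algHom_apply (IsScalarTower.toAlgHom vK.valuationSubring vL.valuationSubring L) θ q).symm

theorem val_eq_one_iff (z : vL.valuationSubring) : IsUnit z ↔ vL (z : L) = 1 := by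
  constructor
  · rintro ⟨w, rfl⟩
    have h := congrArg (fun y : vL.valuationSubring => vL (y : L)) w.mul_inv
    simp only [MulMemClass.coe_mul, map_mul, OneMemClass.coe_one, map_one] at h
    refine le_antisymm (w : vL.valuationSubring).2 (h ▸ ?_)
    calc _ ≤ vL ((w : vL.valuationSubring) : L) * 1 := by gcongr; exact (w⁻¹ : (vL.valuationSubring)ˣ).1.2
      _ = _ := mul_one _
  · intro h
    have h0 : (z : L) ≠ 0 := fun h0 => by rw [h0, map_zero] at h; exact zero_ne_one h
    exact IsUnit.of_mul_eq_one ⟨(z : L)⁻¹, show vL (z : L)⁻¹ ≤ 1 by rw [map_inv₀, h, inv_one]⟩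
      (Subtype.ext (mul_inv_cancel₀ h0))

/-- An étale valuation ring extension is generated by a unit whose minimal polynomial has unit derivative. -/
theorem exists_unit_gen [Algebra.Etale vK.valuationSubring vL.valuationSubring] :
    ∃ t : L, vL t = 1 ∧ Algebra.adjoin K {t} = ⊤ ∧
      (∀ j, vK ((minpoly K t).coeff j) ≤ 1) ∧ vL (aeval t (derivative (minpoly K t))) = 1 := by
  obtain ⟨θ₀, f₀, hf₀, h₀, hu₀, htop₀⟩ := exists_root_of_etale vK vL
  obtain ⟨θ, f, hθ, hf, h0, hu, htop⟩ : ∃ (θ : vL.valuationSubring) (f : vK.valuationSubring[X]),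
      IsUnit θ ∧ f.Monic ∧ aeval θ f = 0 ∧ IsUnit (aeval θ (derivative f)) ∧
      Algebra.adjoin K {(θ : L)} = ⊤ := by
    by_cases h : IsUnit θ₀
    · exact ⟨θ₀, f₀, h, hf₀, h₀, hu₀, htop₀⟩
    · refine ⟨θ₀ + 1, f₀.comp (X - C 1), ?_, hf₀.comp (monic_X_sub_C 1) (by rw [natDegree_X_sub_C]; exact one_ne_zero), ?_, ?_, ?_⟩
      · by_contra h1
        exact (IsLocalRing.nonunits_add h1 (show -θ₀ ∈ nonunits _ from fun h' => h (by simpa using h'.neg)))
          (by simp)
      · simpa [aeval_comp] using h₀
      · simpa [derivative_comp, aeval_comp] using hu₀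
      · rw [eq_top_iff, ← htop₀]
        refine Algebra.adjoin_le (Set.singleton_subset_iff.2 ?_)
        simpa using Subalgebra.sub_mem _
          (Algebra.self_mem_adjoin_singleton K ((θ₀ + 1 : vL.valuationSubring) : L)) (one_mem _)
  have hint : IsIntegral vK.valuationSubring (θ : L) :=
    ⟨f, hf, show aeval (θ : L) f = 0 by
      rw [← aeval_map_algebraMap K, ← coe_aeval vK vL, h0]; rfl⟩
  have hg : minpoly K (θ : L) = (minpoly vK.valuationSubring (θ : L)).map (algebraMap _ K) :=
    minpoly.isIntegrallyClosed_eq_field_fractions' K hint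
  refine ⟨θ, (val_eq_one_iff vL θ).1 hθ, htop, fun j => ?_, ?_⟩
  · rw [hg, coeff_map]
    exact ((minpoly vK.valuationSubring (θ : L)).coeff j).2
  · obtain ⟨q, hq⟩ : minpoly vK.valuationSubring (θ : L) ∣ f :=
      minpoly.isIntegrallyClosed_dvd hint (by rw [← aeval_map_algebraMap K, ← coe_aeval vK vL, h0]; rfl)
    have hθ0 : aeval θ (minpoly vK.valuationSubring (θ : L)) = 0 := Subtype.ext (by
      rw [coe_aeval, ← hg, minpoly.aeval]; rfl)
    rw [hq, derivative_mul, map_add, map_mul, map_mul, hθ0, zero_mul, add_zero] at hu
    rw [hg, derivative_map, ← coe_aeval vK vL, ← val_eq_one_iff]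
    exact isUnit_of_mul_isUnit_left hu

end

section
variable {K L Γ₀ Γ₁ : Type u} [Field K] [Field L] [Algebra K L] [FiniteDimensional K L]
  [LinearOrderedCommGroupWithZero Γ₀] [LinearOrderedCommGroupWithZero Γ₁]
  [hK : Valued K Γ₀] [hL : Valued L Γ₁] [hK.v.RankOne] [hK.v.HasExtension hL.v]

theorem etale_completion_of_etale [Algebra (Completion K) (Completion L)]
    [(Valued.v : Valuation (Completion K) Γ₀).HasExtension (Valued.v : Valuation (Completion L) Γ₁)]
    (hcont : Continuous (algebraMap (Completion K) (Completion L)))
    (hcoe : ∀ a : K, algebraMap (Completion K) (Completion L) a = (algebraMap K L a : Completion L))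
    [Algebra.Etale hK.v.valuationSubring hL.v.valuationSubring] :
    Algebra.IsSeparable K L ∧ Algebra.Etale (Valued.v : Valuation (Completion K) Γ₀).valuationSubring
      (Valued.v : Valuation (Completion L) Γ₁).valuationSubring := by
  obtain ⟨θ, hθ, htop, hc, hd⟩ := exists_unit_gen hK.v hL.v
  have hint : IsIntegral K θ := IsIntegral.of_finite K θ
  refine ⟨isSeparable_of_root θ _ (minpoly.monic hint) (minpoly.aeval K θ)
    (fun h => by rw [h, map_zero] at hd; exact zero_ne_one hd) htop, ?_⟩
  haveI := finite_primeSpectrum_of_arch (Valued.v : Valuation (Completion K) Γ₀) arch_completion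
  let θ' : (Valued.v : Valuation (Completion L) Γ₁).valuationSubring :=
    ⟨θ, show (Valued.v (θ : Completion L) : Γ₁) ≤ 1 by rw [Valued.valuedCompletion_apply]; exact hθ.le⟩
  have hl : (minpoly K θ).map (Completion.coeRingHom : K →+* Completion K) ∈
      lifts (algebraMap (Valued.v : Valuation (Completion K) Γ₀).valuationSubring (Completion K)) := by
    rw [lifts_iff_coeff_lifts]
    intro j
    have h1 : (Valued.v (((minpoly K θ).map (Completion.coeRingHom : K →+* Completion K)).coeff j) : Γ₀) ≤ 1 := by
      rw [coeff_map]
      show (Valued.v (((minpoly K θ).coeff j : K) : Completion K) : Γ₀) ≤ 1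
      rw [Valued.valuedCompletion_apply]; exact hc j
    exact ⟨⟨_, h1⟩, rfl⟩
  obtain ⟨G, hG, -, hGm⟩ := lifts_and_natDegree_eq_and_monic hl ((minpoly.monic hint).map _)
  have hcomp : (algebraMap (Completion K) (Completion L)).comp (Completion.coeRingHom : K →+* Completion K) =
      (Completion.coeRingHom : L →+* Completion L).comp (algebraMap K L) := RingHom.ext hcoe
  have hev : ∀ q : K[X], aeval (θ : Completion L) (q.map (Completion.coeRingHom : K →+* Completion K)) =
      ((aeval θ q : L) : Completion L) := fun q => by
    rw [aeval_def, eval₂_map, hcomp]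
    exact (hom_eval₂ q (algebraMap K L) (Completion.coeRingHom : L →+* Completion L) θ).symm
  refine etale_of_root _ _ θ' G hGm (Subtype.ext ?_) ((val_eq_one_iff _ _).2 ?_) ?_
  · rw [coe_aeval, hG]
    show aeval (θ : Completion L) _ = _
    rw [hev, minpoly.aeval, Completion.coe_zero]
    rfl
  · rw [coe_aeval, ← derivative_map, hG, derivative_map]
    show (Valued.v (aeval (θ : Completion L) _) : Γ₁) = 1
    rw [hev, Valued.valuedCompletion_apply]
    exact hd
  · haveI : FiniteDimensional (Completion K) (Algebra.adjoin (Completion K) {(θ : Completion L)}) :=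
      Module.Finite.iff_fg.2 (IsIntegral.fg_adjoin_singleton ⟨(minpoly K θ).map (Completion.coeRingHom : K →+* Completion K),
        (minpoly.monic hint).map _, show aeval (θ : Completion L) _ = 0 by
          rw [hev, minpoly.aeval, Completion.coe_zero]⟩)
    refine subalgebra_eq_top hcont _ fun l => ?_
    have hl : l ∈ Algebra.adjoin K {θ} := by rw [htop]; exact Algebra.mem_top
    rw [Algebra.adjoin_singleton_eq_range_aeval] at hl
    obtain ⟨q, rfl⟩ := hl
    show ((aeval θ q : L) : Completion L) ∈ _
    rw [← hev]
    exact aeval_mem_adjoin_singleton _ _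

attribute [-instance] UniformSpace.Completion.instSMul UniformSpace.Completion.instModule in
theorem etale_of_etale_completion [Algebra.IsSeparable K L] [Algebra (Completion K) (Completion L)]
    [(Valued.v : Valuation (Completion K) Γ₀).HasExtension (Valued.v : Valuation (Completion L) Γ₁)]
    (hcont : Continuous (algebraMap (Completion K) (Completion L)))
    (hcoe : ∀ a : K, algebraMap (Completion K) (Completion L) a = (algebraMap K L a : Completion L))
    [Algebra.Etale (Valued.v : Valuation (Completion K) Γ₀).valuationSubring
      (Valued.v : Valuation (Completion L) Γ₁).valuationSubring] :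
    Algebra.Etale hK.v.valuationSubring hL.v.valuationSubring := by
  obtain ⟨t, ht, htop, hc, hd⟩ := exists_unit_gen (Valued.v : Valuation (Completion K) Γ₀)
    (Valued.v : Valuation (Completion L) Γ₁)
  letI iK : Algebra K (Completion K) := (Completion.coeRingHom : K →+* Completion K).toAlgebra
  letI iL : Algebra L (Completion L) := (Completion.coeRingHom : L →+* Completion L).toAlgebra
  letI iKL : Algebra K (Completion L) :=
    ((Completion.coeRingHom : L →+* Completion L).comp (algebraMap K L)).toAlgebra
  haveI : IsScalarTower K L (Completion L) := IsScalarTower.of_algebraMap_eq fun _ => rfl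
  haveI : IsScalarTower K (Completion K) (Completion L) := IsScalarTower.of_algebraMap_eq fun a => (hcoe a).symm
  let π := Algebra.TensorProduct.lift (Algebra.ofId (Completion K) (Completion L))
    (IsScalarTower.toAlgHom K L (Completion L)) fun x y => Commute.all _ _
  have hsurj : Function.Surjective π := by
    rw [← AlgHom.range_eq_top]
    haveI : FiniteDimensional (Completion K) π.range := Module.Finite.range π.toLinearMap
    refine subalgebra_eq_top hcont _ fun l => ⟨1 ⊗ₜ l, ?_⟩
    show π (1 ⊗ₜ l) = _
    rw [Algebra.TensorProduct.lift_tmul, map_one, one_mul]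
    rfl
  haveI := finite_primeSpectrum_of_arch hK.v (fun x y hx hy => arch_of_rankOne hK.v x y hx hy)
  let n := Module.finrank K L
  let D : (ℕ → Completion K) × Completion L → Completion L := fun p =>
    ∑ j ∈ Finset.range (n + 1), algebraMap (Completion K) (Completion L) (p.1 j) * j * p.2 ^ (j - 1)
  let U : Set ((ℕ → Completion K) × Completion L) :=
    (⋂ j ∈ Finset.range (n + 1), {p | (Valued.v (p.1 j) : Γ₀) ≤ 1}) ∩
      ({p | (Valued.v p.2 : Γ₁) ≤ 1} ∩ D ⁻¹' {x | (Valued.v x : Γ₁) = 1})
  have hD : Continuous D := continuous_finset_sum _ fun j _ =>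
    ((hcont.comp ((continuous_apply j).comp continuous_fst)).mul continuous_const).mul (continuous_snd.pow _)
  have hU : IsOpen U := by
    refine IsOpen.inter (isOpen_biInter_finset fun j _ => ?_) (IsOpen.inter ?_ (isOpen_val_eq_one.preimage hD))
    · exact (isClopen_val_le_one (R := Completion K) (Γ := Γ₀)).isOpen.preimage
        (f := fun p : (ℕ → Completion K) × Completion L => p.1 j) ((continuous_apply j).comp continuous_fst)
    · exact (isClopen_val_le_one (R := Completion L) (Γ := Γ₁)).isOpen.preimage
        (f := fun p : (ℕ → Completion K) × Completion L => p.2) continuous_snd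
  have hDeq : ∀ (G : (Completion K)[X]) (x : Completion L), G.natDegree ≤ n →
      D (fun j => G.coeff j, x) = aeval x (derivative G) := fun G x hG => by
    rw [derivative_apply, sum_over_range' _ (fun i => by simp) (n + 1) (Nat.lt_succ_of_le hG), map_sum]
    refine Finset.sum_congr rfl fun j _ => ?_
    simp [mul_assoc]
  have hint : IsIntegral (Completion K) t := by
    haveI : FiniteDimensional (Completion K) (Completion L) := Module.Finite.of_surjective π.toLinearMap hsurj
    exact IsIntegral.of_finite _ t
  obtain ⟨θ, hθ⟩ := exists_approx (K := K) (L := L) Completion.denseRange_coe hcont hsurj t htop U hU (by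
    intro r hr
    refine ⟨Set.mem_iInter₂.2 fun j _ => ?_, ht.le, ?_⟩
    · show (Valued.v ((minpoly (Completion K) t * X ^ r).coeff j) : Γ₀) ≤ 1
      rw [coeff_mul_X_pow']
      split
      · exact hc _
      · rw [map_zero]; exact zero_le
    · show (Valued.v (D _) : Γ₁) = 1
      rw [hDeq _ _ (by rw [natDegree_mul (minpoly.ne_zero hint) (pow_ne_zero _ X_ne_zero), natDegree_X_pow, hr]),
        derivative_mul, map_add, map_mul, map_mul, minpoly.aeval, zero_mul, add_zero, map_mul, map_pow,
        aeval_X, hd, map_pow, ht, one_pow, one_mul])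
  obtain ⟨hcoef, hθ1, hθd⟩ := hθ
  let G := (Algebra.lmul K L θ).charpoly
  have hdeg : G.natDegree = n := LinearMap.charpoly_natDegree _
  have hd' : hL.v (aeval θ (derivative G)) = 1 := by
    change (Valued.v (D _) : Γ₁) = 1 at hθd
    have he : (fun j => algebraMap K (Completion K) (G.coeff j)) =
        fun j => (G.map (algebraMap K (Completion K))).coeff j := funext fun j => (coeff_map _ j).symm
    rw [he, hDeq _ _ (by rw [natDegree_map, hdeg]), derivative_map, aeval_map_algebraMap,
      aeval_algebraMap_apply] at hθd
    exact (Valued.valuedCompletion_apply _).symm.trans hθd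
  have hG1 : ∀ j, hK.v (G.coeff j) ≤ 1 := fun j => by
    by_cases hj : j < n + 1
    · exact (Valued.valuedCompletion_apply _).symm.trans_le (Set.mem_iInter₂.1 hcoef j (Finset.mem_range.2 hj))
    · rw [coeff_eq_zero_of_natDegree_lt (by omega), map_zero]; exact zero_le
  let θ' : hL.v.valuationSubring := ⟨θ, (Valued.valuedCompletion_apply _).symm.trans_le hθ1⟩
  have hl : G ∈ lifts (algebraMap hK.v.valuationSubring K) := by
    rw [lifts_iff_coeff_lifts]
    exact fun j => ⟨⟨_, hG1 j⟩, rfl⟩
  obtain ⟨G₀, hG₀, -, hGm⟩ := lifts_and_natDegree_eq_and_monic hl (LinearMap.charpoly_monic _)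
  refine etale_of_root hK.v hL.v θ' G₀ hGm (Subtype.ext ?_) ((val_eq_one_iff _ _).2 ?_)
    (adjoin_eq_top_of_derivative_ne_zero θ fun h => ?_)
  · rw [coe_aeval, hG₀]
    exact aeval_charpoly_lmul θ
  · rw [coe_aeval, ← derivative_map, hG₀]
    exact hd'
  · change aeval θ (derivative G) = 0 at h
    rw [h, map_zero] at hd'
    exact zero_ne_one hd'

end


/-- Let L/K be a finite extension of valued fields of height one — rank-one valuations v_K and v_L, v_L
extending v_K up to equivalence, each field with its valuation topology and K → L continuous — with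
valuation rings K° ⊆ L°; let K̂, L̂ be the completions with the extended valuations and K̂°, L̂°
their valuation rings. Then K° → L° is étale if and only if L/K is separable and the homomorphism K̂
→ L̂ induced on completions restricts to an étale homomorphism K̂° → L̂°. (For finite extensions of
valued fields of finite height, 'unramified' is the same as the map of valuation rings being étale;
the published statement says 'unramified' on both sides.) -/
theorem result
    {K L Γ₀ Γ₁ : Type u} [Field K] [Field L] [Algebra K L] [FiniteDimensional K L]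
    [LinearOrderedCommGroupWithZero Γ₀] [LinearOrderedCommGroupWithZero Γ₁]
    [hK : Valued K Γ₀] [hL : Valued L Γ₁] [hK.v.RankOne] [hL.v.RankOne] [hK.v.HasExtension hL.v]
    (hc : Continuous (algebraMap K L)) :
    Algebra.Etale hK.v.valuationSubring hL.v.valuationSubring ↔
      (Algebra.IsSeparable K L ∧
        ∃ ψ : (Valued.v : Valuation (UniformSpace.Completion K) Γ₀).valuationSubring →+*
            (Valued.v : Valuation (UniformSpace.Completion L) Γ₁).valuationSubring,
          (∀ x, (ψ x : UniformSpace.Completion L) =
              UniformSpace.Completion.mapRingHom (algebraMap K L) hc (x : UniformSpace.Completion K)) ∧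
          ψ.Etale) := by
  letI := (UniformSpace.Completion.mapRingHom (algebraMap K L) hc).toAlgebra
  have hcont : Continuous (algebraMap (UniformSpace.Completion K) (UniformSpace.Completion L)) :=
    UniformSpace.Completion.continuous_map
  have hcoe : ∀ a : K, algebraMap (UniformSpace.Completion K) (UniformSpace.Completion L) a =
      (algebraMap K L a : UniformSpace.Completion L) := fun a => UniformSpace.Completion.mapRingHom_coe hc a
  haveI := Groth.Agent.ValEtCompLib.hasExtension_completion hcont hcoe
  constructor
  · intro h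
    obtain ⟨hs, he⟩ := etale_completion_of_etale hcont hcoe
    exact ⟨hs, algebraMap _ _, fun x => rfl, RingHom.etale_algebraMap.2 he⟩
  · rintro ⟨hs, ψ, hψ, he⟩
    have hψ' : ψ = algebraMap _ _ := RingHom.ext fun x => Subtype.ext (hψ x)
    rw [hψ', RingHom.etale_algebraMap] at he
    exact etale_of_etale_completion hcont hcoe

end Groth.Agent.S15284
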