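import Groth.Statements.S15285
import Mathlib.CategoryTheory.Monoidal.Functor
import Mathlib.CategoryTheory.Groupoid
import Mathlib.CategoryTheory.HomCongr
-- import your own Groth.Agent.* helpers here

set_option autoImplicit false
universe v v' u u'
open PicCat

namespace Groth.Agent.S15285

open CategoryTheory MonoidalCategory in
/-- Let C and D be Picard categories (monoidal groupoids in which tensoring on either side with any
object is an equivalence of categories) and F : C ⥤ D a lax monoidal functor. If F induces a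
bijection on isomorphism classes of objects (it is essentially surjective, and F X ≅ F Y only when X
≅ Y) and a bijection on endomorphisms of the unit object, then F is an equivalence of categories. -/
theorem result
    {C : Type u} [Category.{v} C] [MonoidalCategory C] [IsGroupoid C]
    {D : Type u'} [Category.{v'} D] [MonoidalCategory D] [IsGroupoid D]
    (hC : ∀ X : C, (tensorLeft X).IsEquivalence ∧ (tensorRight X).IsEquivalence)
    (hD : ∀ X : D, (tensorLeft X).IsEquivalence ∧ (tensorRight X).IsEquivalence)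
    (F : C ⥤ D) [F.LaxMonoidal] [F.EssSurj]
    (h0 : ∀ X Y : C, Nonempty (F.obj X ≅ F.obj Y) → Nonempty (X ≅ Y))
    (h1 : Function.Bijective (fun φ : 𝟙_ C ⟶ 𝟙_ C => F.map φ)) :
    F.IsEquivalence := by
  haveI : ∀ X : C, (tensorLeft X).IsEquivalence := fun X => (hC X).1
  haveI : ∀ X : D, (tensorLeft X).IsEquivalence := fun X => (hD X).1
  -- bijectivity on endomorphisms of every object
  have hend : ∀ X : C, Function.Bijective (fun φ : X ⟶ X => F.map φ) := by
    intro X
    let αC : (𝟙_ C ⟶ 𝟙_ C) → (X ⟶ X) := fun φ => (ρ_ X).inv ≫ X ◁ φ ≫ (ρ_ X).hom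
    have hαC : Function.Bijective αC := by
      have : Function.Bijective (fun φ : 𝟙_ C ⟶ 𝟙_ C => X ◁ φ) :=
        ⟨fun a b h => (tensorLeft X).map_injective h, fun b => (tensorLeft X).map_surjective b⟩
      exact ((ρ_ X).homCongr (ρ_ X)).bijective.comp this |> fun h => by
        simpa [αC, Function.comp_def, Iso.homCongr] using h
    let eI : 𝟙_ D ≅ F.obj (𝟙_ C) := asIso (Functor.LaxMonoidal.ε F)
    let eT : F.obj X ⊗ F.obj (𝟙_ C) ≅ F.obj X :=
      asIso (Functor.LaxMonoidal.μ F X (𝟙_ C)) ≪≫ F.mapIso (ρ_ X)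
    let αD : (F.obj (𝟙_ C) ⟶ F.obj (𝟙_ C)) → (F.obj X ⟶ F.obj X) := fun ψ => eT.inv ≫ F.obj X ◁ ψ ≫ eT.hom
    have hαD : Function.Bijective αD := by
      have : Function.Bijective (fun ψ : F.obj (𝟙_ C) ⟶ F.obj (𝟙_ C) => F.obj X ◁ ψ) :=
        ⟨fun a b h => (tensorLeft (F.obj X)).map_injective h, fun b => (tensorLeft (F.obj X)).map_surjective b⟩
      exact (eT.homCongr eT).bijective.comp this |> fun h => by
        simpa [αD, Function.comp_def, Iso.homCongr] using h
    have key : ∀ φ : 𝟙_ C ⟶ 𝟙_ C, F.map (αC φ) = αD (F.map φ) := by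
      intro φ
      simp only [αC, αD, eT, Iso.trans_hom, Iso.trans_inv, asIso_hom, asIso_inv, Functor.mapIso_hom, Functor.mapIso_inv,
        Functor.map_comp, Category.assoc]
      rw [Functor.LaxMonoidal.μ_natural_right_assoc, IsIso.inv_hom_id_assoc]
    have hcomp : Function.Bijective (fun φ : 𝟙_ C ⟶ 𝟙_ C => F.map (αC φ)) := by
      simp only [key]
      exact hαD.comp h1
    exact (Function.Bijective.of_comp_iff _ hαC).mp hcomp
  haveI : F.Faithful := ⟨fun {X Y} a b h => by
    have : a ≫ inv b = 𝟙 X := (hend X).1 (by simp only [Functor.map_comp, h, Functor.map_inv, IsIso.hom_inv_id, CategoryTheory.Functor.map_id])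
    calc a = (a ≫ inv b) ≫ b := by simp
      _ = b := by rw [this, Category.id_comp]⟩
  haveI : F.Full := ⟨fun {X Y} ψ => by
    obtain ⟨e⟩ := h0 X Y ⟨asIso ψ⟩
    obtain ⟨φ, hφ⟩ := (hend X).2 (ψ ≫ F.map e.inv)
    refine ⟨φ ≫ e.hom, ?_⟩
    simp only at hφ
    rw [Functor.map_comp, hφ, Category.assoc, ← Functor.map_comp, e.inv_hom_id, CategoryTheory.Functor.map_id, Category.comp_id]⟩
  exact { }

end Groth.Agent.S15285
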