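import Groth.Statements.S15286
import Mathlib.Tactic.CategoryTheory.Monoidal.Basic
import Mathlib.CategoryTheory.Monoidal.Skeleton

set_option autoImplicit false
universe v v' u u'
open PicCat

namespace Groth.Agent.S15286

section
open CategoryTheory MonoidalCategory

variable {D : Type u'} [Category.{v'} D] [MonoidalCategory D]

/-- The action of an endomorphism of the unit. -/
def act (a : 𝟙_ D ⟶ 𝟙_ D) (Z : D) : Z ⟶ Z := (λ_ Z).inv ≫ (a ▷ Z) ≫ (λ_ Z).hom

theorem act_id (Z : D) : act (𝟙 (𝟙_ D)) Z = 𝟙 Z := by simp [act]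

theorem act_comp (a b : 𝟙_ D ⟶ 𝟙_ D) (Z : D) : act (a ≫ b) Z = act a Z ≫ act b Z := by simp [act]

theorem act_natural (a : 𝟙_ D ⟶ 𝟙_ D) {Y Z : D} (f : Y ⟶ Z) : f ≫ act a Z = act a Y ≫ f := by
  simp only [act, Category.assoc]
  rw [← leftUnitor_naturality f, ← Category.assoc f, leftUnitor_inv_naturality f, Category.assoc,
    whisker_exchange_assoc]

theorem act_whiskerRight (a : 𝟙_ D ⟶ 𝟙_ D) (Y Z : D) : act a Y ▷ Z = act a (Y ⊗ Z) := by
  simp only [act]
  monoidal

theorem act_whiskerLeft [BraidedCategory D] (b : 𝟙_ D ⟶ 𝟙_ D) (Y Z : D) :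
    Y ◁ act b Z = act b (Y ⊗ Z) := by
  rw [← cancel_mono (β_ Y Z).hom, BraidedCategory.braiding_naturality_right, act_whiskerRight, act_natural]

theorem act_tensor [BraidedCategory D] (a b : 𝟙_ D ⟶ 𝟙_ D) (Y Z : D) :
    act a Y ⊗ₘ act b Z = act (b ≫ a) (Y ⊗ Z) := by
  rw [tensorHom_def', act_whiskerLeft, act_whiskerRight, act_comp]

theorem act_bijective (Z : D) (h : (tensorRight Z).IsEquivalence) :
    Function.Bijective fun a : 𝟙_ D ⟶ 𝟙_ D => act a Z := by
  haveI := h
  refine ⟨fun a b e => (tensorRight Z).map_injective ?_, fun f => ?_⟩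
  · change a ▷ Z = b ▷ Z
    have e1 : (λ_ Z).inv ≫ (a ▷ Z) ≫ (λ_ Z).hom = (λ_ Z).inv ≫ (b ▷ Z) ≫ (λ_ Z).hom := e
    rwa [cancel_epi, cancel_mono] at e1
  · obtain ⟨a, ha⟩ := (tensorRight Z).map_surjective
      (show (tensorRight Z).obj (𝟙_ D) ⟶ (tensorRight Z).obj (𝟙_ D) from (λ_ Z).hom ≫ f ≫ (λ_ Z).inv)
    refine ⟨a, ?_⟩
    have ha' : a ▷ Z = (λ_ Z).hom ≫ f ≫ (λ_ Z).inv := ha
    simp [act, ha']

end

open CategoryTheory MonoidalCategory in
/-- Let C be a Picard category, D a commutative (braided) Picard category, F, G : C ⥤ D lax monoidal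
functors and θ₀ : F ⟶ G a monoidal natural transformation. Identify an endomorphism φ of the unit of
D with the automorphism λ⁻¹ ≫ (φ ▷ Z) ≫ λ of any object Z. Then the monoidal natural transformations
F ⟶ G form a torsor under the monoid homomorphisms χ from the monoid of isomorphism classes of C to
End(𝟙_D): every monoidal θ : F ⟶ G is X ↦ θ₀_X ≫ (action of χ[X] on G X) for a unique such χ, and
for every χ this formula defines a monoidal natural transformation. (The published statement allows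
D non-commutative; for a non-braided monoidal groupoid the classes so obtained are crossed rather
than plain homomorphisms, so D is taken braided here.) -/
theorem result
    {C : Type u} [Category.{v} C] [MonoidalCategory C] [IsGroupoid C]
    {D : Type u'} [Category.{v'} D] [MonoidalCategory D] [BraidedCategory D] [IsGroupoid D]
    (hC : ∀ X : C, (tensorLeft X).IsEquivalence ∧ (tensorRight X).IsEquivalence)
    (hD : ∀ X : D, (tensorLeft X).IsEquivalence ∧ (tensorRight X).IsEquivalence)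
    (F G : C ⥤ D) [F.LaxMonoidal] [G.LaxMonoidal] (θ₀ : F ⟶ G) [NatTrans.IsMonoidal θ₀] :
    (∀ θ : F ⟶ G, NatTrans.IsMonoidal θ →
      ∃! χ : Skeleton C →* End (𝟙_ D), ∀ X : C,
        θ.app X = θ₀.app X ≫ (λ_ (G.obj X)).inv ≫
          ((χ (toSkeleton X) : 𝟙_ D ⟶ 𝟙_ D) ▷ G.obj X) ≫ (λ_ (G.obj X)).hom) ∧
    (∀ χ : Skeleton C →* End (𝟙_ D), ∃ θ : F ⟶ G, NatTrans.IsMonoidal θ ∧ ∀ X : C,
        θ.app X = θ₀.app X ≫ (λ_ (G.obj X)).inv ≫
          ((χ (toSkeleton X) : 𝟙_ D ⟶ 𝟙_ D) ▷ G.obj X) ≫ (λ_ (G.obj X)).hom) := by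
  have act_def : ∀ (a : 𝟙_ D ⟶ 𝟙_ D) (Z : D), (λ_ Z).inv ≫ (a ▷ Z) ≫ (λ_ Z).hom = act a Z := fun _ _ => rfl
  simp only [act_def]
  have bij : ∀ Z : D, Function.Bijective fun a : 𝟙_ D ⟶ 𝟙_ D => act a Z := fun Z => act_bijective Z (hD Z).2
  refine ⟨fun θ hθ => ?_, fun χ => ?_⟩
  · choose c hc using fun X => (bij (G.obj X)).2 (inv (θ₀.app X) ≫ θ.app X)
    have hθc : ∀ X, θ.app X = θ₀.app X ≫ act (c X) (G.obj X) := fun X => by
      rw [show act (c X) (G.obj X) = inv (θ₀.app X) ≫ θ.app X from hc X, IsIso.hom_inv_id_assoc]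
    have hiso : ∀ X Y : C, Nonempty (X ≅ Y) → c X = c Y := by
      rintro X Y ⟨e⟩
      apply (bij (G.obj Y)).1
      have h1 := θ.naturality e.hom
      rw [hθc, hθc, NatTrans.naturality_assoc, Category.assoc, cancel_epi, act_natural] at h1
      exact ((cancel_epi (G.map e.hom)).1 ((act_natural (c Y) (G.map e.hom)).trans h1 |>.trans
        (act_natural (c X) (G.map e.hom)).symm)).symm
    let χ : Skeleton C →* End (𝟙_ D) :=
      { toFun := Quotient.lift c fun X Y h => hiso X Y h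
        map_one' := by
          rw [Skeleton.one_eq]
          change c (𝟙_ C) = 𝟙 _
          apply (bij (G.obj (𝟙_ C))).1
          have h1 := hθ.unit
          rw [hθc, ← Category.assoc, NatTrans.IsMonoidal.unit (τ := θ₀)] at h1
          change act (c (𝟙_ C)) _ = act (𝟙 (𝟙_ D)) _
          rw [act_id, ← cancel_epi (Functor.LaxMonoidal.ε G), Category.comp_id]
          exact h1
        map_mul' := fun x y => by
          obtain ⟨X, rfl⟩ : ∃ X, toSkeleton X = x := Quotient.exists_rep x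
          obtain ⟨Y, rfl⟩ : ∃ Y, toSkeleton Y = y := Quotient.exists_rep y
          rw [← Skeleton.toSkeleton_tensorObj]
          change c (X ⊗ Y) = c Y ≫ c X
          apply (bij (G.obj (X ⊗ Y))).1
          have h1 := hθ.tensor X Y
          rw [hθc, hθc, hθc, ← Category.assoc, NatTrans.IsMonoidal.tensor (τ := θ₀), Category.assoc,
            ← tensorHom_comp_tensorHom, Category.assoc, cancel_epi, act_tensor, ← act_natural, cancel_epi] at h1
          exact h1 }
    refine ⟨χ, fun X => hθc X, fun χ' hχ' => MonoidHom.ext fun x => ?_⟩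
    obtain ⟨X, rfl⟩ : ∃ X, toSkeleton X = x := Quotient.exists_rep x
    apply (bij (G.obj X)).1
    exact (cancel_epi (θ₀.app X)).1 ((hχ' X).symm.trans (hθc X))
  · let c : C → (𝟙_ D ⟶ 𝟙_ D) := fun X => χ (toSkeleton X)
    let θ : F ⟶ G :=
      { app := fun X => θ₀.app X ≫ act (c X) (G.obj X)
        naturality := fun X Y f => by
          have hc : c X = c Y := congrArg χ (congr_toSkeleton_of_iso (asIso f))
          rw [NatTrans.naturality_assoc, Category.assoc, act_natural, hc] }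
    refine ⟨θ, ⟨?_, fun X Y => ?_⟩, fun X => rfl⟩
    · change Functor.LaxMonoidal.ε F ≫ θ₀.app _ ≫ act (χ (toSkeleton (𝟙_ C))) _ = _
      rw [← Skeleton.one_eq, map_one, show (1 : End (𝟙_ D)) = 𝟙 (𝟙_ D) from rfl, act_id, Category.comp_id,
        NatTrans.IsMonoidal.unit]
    · change _ ≫ θ₀.app _ ≫ act (χ (toSkeleton (X ⊗ Y))) _ = _
      rw [Skeleton.toSkeleton_tensorObj, map_mul, ← Category.assoc, NatTrans.IsMonoidal.tensor (τ := θ₀),
        Category.assoc, act_natural, ← Category.assoc]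
      change _ = ((θ₀.app X ≫ act (c X) _) ⊗ₘ (θ₀.app Y ≫ act (c Y) _)) ≫ _
      rw [← tensorHom_comp_tensorHom, act_tensor]
      rfl

end Groth.Agent.S15286
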