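import Groth.Statements.S15288
import Groth.Agent.ProjNatLib.AmpPush
import Groth.Agent.RelFlatLib.Absolute
import Groth.Agent.KFlatLib.TorAmp
import Groth.Agent.CohCmpLib.CanonApps
import Groth.Agent.FibVanLib.General
import Groth.Agent.FibDimLib.SchemeInv
import Groth.Agent.FibDimLib.TopLocalDim
import Groth.Agent.KiehlLib.PushFree
import Groth.Agent.EulerRpushLib.Exceptional

set_option autoImplicit false
set_option backward.isDefEq.respectTransparency false
set_option backward.isDefEq.respectTransparency.types false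
set_option maxHeartbeats 1000000
universe u
open CategoryTheory CategoryTheory.Limits AlgebraicGeometry
attribute [local instance] HasDerivedCategory.standard
open Perf

namespace Groth.Agent.S15288

/-- Let f : X ⟶ Y be locally projective (locally on Y, X is a closed subscheme of some projective space
ℙ^N_Y), flat, surjective and locally of finite presentation, with every fibre of local dimension n
at each of its points, and assume the derived direct image Rf_* exists on D(O_X). If E ∈ D(O_X) is
perfect and is represented by a complex of flat O_X-modules concentrated in degrees [a, b], then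
Rf_*E has tor amplitude in [a, b + n]: for every O_Y-module F the cohomology sheaves of Rf_*E ⊗^L F
vanish outside [a, b + n]. (Rf_*E is moreover perfect; that part is the flat proper finitely
presented case stated separately.) -/
theorem result
    {X Y : Scheme.{u}} (f : X ⟶ Y) (n : ℕ)
    (hproj : RedSub.IsLocallyProjective (Over.mk f))
    [Flat f] [Surjective f] [LocallyOfFinitePresentation f]
    (hdim : ∀ x : ↥X, FlatMor.fibreDimAt f x = n)
    [DCoh.HasRpush f] (E : DCoh.D X) (hE : DCoh.IsPerfect E) (a b : ℤ)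
    (hab : DCoh.HasFlatAmplitudeIn a b E) :
    DCoh.HasTorAmplitudeIn a (b + n) ((DCoh.Rpush f).obj E) := by
  haveI : IsProper f := CohCmpLib.isProper_of_isLocallyProjective f hproj
  have hd : ∀ y : Y, topologicalKrullDim ↥(f.fiber y) ≤ (n : WithBot ℕ∞) := fun y => by
    rw [FibDimLib.topologicalKrullDim_eq_iSup_localDim]
    refine iSup_le fun w => le_of_eq ?_
    rw [← FibDimLib.fibreDimAt_fiberι f y w]
    exact hdim _
  haveI : EnoughInjectives X.Modules := IsGrothendieckAbelian.enoughInjectives.{u}
  have hN : ∀ M : X.Modules, Coh.IsQCoh M → ∀ i : ℤ, (n : ℤ) < i →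
      IsZero (DCoh.HD ((DCoh.Rpush f).obj (DCoh.inD X M)) i) := fun M hM i hi => by
    obtain ⟨k, rfl⟩ := Int.eq_ofNat_of_zero_le (a := i) (by omega)
    obtain ⟨e⟩ := KiehlLib.nonempty_HD_rpush_inD f M k
    refine IsZero.of_iso ?_ e
    exact DevissLib.isZero_of_support_empty (Set.eq_empty_of_forall_notMem fun y =>
      EulerRpushLib.notMem_support_of_isZero_stalk f M k y
        (FibVanLib.isZero_stalk_rpushAb_qcoh f y n (hd y) M k (by omega)))
  obtain ⟨F, hF, hfl, ⟨eF⟩⟩ := hab
  have hqc : DCoh.IsQCohD E := RelFlatLib.isQCohD_of_pc_amp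
    (RelFlatLib.isPC_of_isPerfect hE _) ⟨F, hF, hfl, ⟨eF⟩⟩
  have hflO : ∀ i, FlatMod.IsFlatOver f (F.X i) := fun i x => by
    letI := (f.stalkMap x).hom.toAlgebra
    letI := FlatMod.moduleStalkOver f (F.X i) x
    haveI : IsScalarTower (Y.presheaf.stalk (f x)) (X.presheaf.stalk x) ((F.X i).presheaf.stalk x) :=
      IsScalarTower.of_algebraMap_smul fun _ _ => rfl
    haveI : Module.Flat (Y.presheaf.stalk (f x)) (X.presheaf.stalk x) := Flat.stalkMap f x
    haveI : Module.Flat (X.presheaf.stalk x) ((F.X i).presheaf.stalk x) := hfl i x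
    exact Module.Flat.trans (Y.presheaf.stalk (f x)) (X.presheaf.stalk x) ((F.X i).presheaf.stalk x)
  have hamp : DerSch.HasTorAmplitude (f ≫ 𝟙 Y) a b F := by
    rw [Category.comp_id]
    exact RelFlatLib.amp_of_relFlatAmp f ⟨F, hF, hflO, ⟨Iso.refl _⟩⟩
  refine KFlatLib.torAmplitude_of_flatAmplitude ((RelFlatLib.flatAmp_iff_ampD _ _ _).2 fun y =>
    RelFlatLib.ampD_of_iso (𝟙 Y) ((DCoh.Rpush f).mapIso eF) ?_)
  exact ProjNatLib.amp_rpush f (𝟙 Y) n hN F (KFlatLib.isQCohD_iso eF.symm hqc) hamp y

end Groth.Agent.S15288
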