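import Groth.Statements.S15292
import Mathlib


-- import your own Groth.Agent.* helpers here

set_option autoImplicit false
universe u
open DeRham

namespace Groth.Agent.S15292

open exteriorPower in
/-- Let R → A be a ring map and d a family of R-linear maps from p-forms to (p+1)-forms on the exterior
powers of the Kähler differentials of A over R, p ≥ 0, satisfying the de Rham rule d(b₀ db₁ ∧ … ∧
db_p) = db₀ ∧ db₁ ∧ … ∧ db_p for all p and all bᵢ in A. Then the composite of two consecutive d is
zero in every degree; together with the rule this says that d is a de Rham differential of the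
Kähler differentials. -/
theorem result (R A : Type u) [CommRing R] [CommRing A] [Algebra R A]
    (d : ∀ p : ℕ, ↥(⋀[A]^p (Ω[A⁄R])) →ₗ[R] ↥(⋀[A]^(p + 1) (Ω[A⁄R])))
    (hd : DeRham.IsRule (KaehlerDifferential.D R A) d) :
    DeRham.IsDiff (KaehlerDifferential.D R A) d := by
  classical
  refine ⟨hd, fun p => LinearMap.ext fun x => ?_⟩
  let D := KaehlerDifferential.D R A
  have hspan := exteriorPower.ιMulti_span_of_span A p (Ω[A⁄R]) (KaehlerDifferential.span_range_derivation R A)
  have hx := (eq_top_iff.mp hspan) (Submodule.mem_top (x := x))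
  have key : ∀ (a : A) (y : ↥(⋀[A]^p (Ω[A⁄R]))),
      y ∈ (exteriorPower.ιMulti A p) '' {v | Set.range v ⊆ Set.range D} → d (p + 1) (d p (a • y)) = 0 := by
    rintro a _ ⟨v, hv, rfl⟩
    choose b hb using fun i => hv ⟨i, rfl⟩
    obtain rfl : (fun i => D (b i)) = v := funext hb
    have h1 := hd p a b
    have h2 := hd (p + 1) 1 (Fin.cons a b)
    simp only [DeRham.gen] at h1 h2
    rw [h1]
    have h3 : (Fin.cons (D a) fun i => D (b i) : Fin (p + 1) → Ω[A⁄R]) =
        fun i => D ((Fin.cons a b : Fin (p + 1) → A) i) := by
      funext i; refine Fin.cases ?_ ?_ i <;> simp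
    rw [h3]
    rw [one_smul] at h2
    rw [h2, (KaehlerDifferential.D R A).map_one_eq_zero]
    exact (exteriorPower.ιMulti A (p + 1 + 1)).map_coord_zero 0 (by simp)
  have : ∀ a : A, d (p + 1) (d p (a • x)) = 0 := by
    induction hx using Submodule.span_induction with
    | mem y hy => exact fun a => key a y hy
    | zero => simp
    | add y z _ _ hy hz => intro a; rw [smul_add, map_add, map_add, hy, hz, add_zero]
    | smul c y _ hy => intro a; rw [smul_smul]; exact hy _
  simpa using this 1

end Groth.Agent.S15292
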