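import Groth.Statements.S15296
import Mathlib
-- import your own Groth.Agent.* helpers here

set_option autoImplicit false
universe u
open DeRham

namespace Groth.Agent.S15296

open exteriorPower in
/-- Let R → A be a ring map, π a surjective A-linear map from the Kähler differentials of A over R onto
an A-module Ω', δ = π ∘ d the induced derivation A → Ω', and d_A a de Rham differential of the
Kähler differentials. Suppose the kernel of π is generated over A by elements ω with π(ω) = 0 whose
differential d_A(ω) is killed by the second exterior power of π. Then the exterior powers of Ω' over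
A carry a de Rham differential for δ: a family of R-linear maps d from p-forms to (p+1)-forms with
d(f₀ δf₁ ∧ … ∧ δf_p) = δf₀ ∧ δf₁ ∧ … ∧ δf_p and d ∘ d = 0; moreover d is compatible with d_A through
the exterior powers of π. -/
theorem result (R A Ω' : Type u) [CommRing R] [CommRing A] [Algebra R A]
    [AddCommGroup Ω'] [Module A Ω'] [Module R Ω'] [IsScalarTower R A Ω']
    (π : Ω[A⁄R] →ₗ[A] Ω') (hπ : Function.Surjective π)
    (dA : ∀ p : ℕ, ↥(⋀[A]^p (Ω[A⁄R])) →ₗ[R] ↥(⋀[A]^(p + 1) (Ω[A⁄R])))
    (hdA : DeRham.IsDiff (KaehlerDifferential.D R A) dA)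
    (hker : LinearMap.ker π ≤ Submodule.span A {ω : Ω[A⁄R] | π ω = 0 ∧
      exteriorPower.map 2 π (dA 1 ((exteriorPower.oneEquiv A (Ω[A⁄R])).symm ω)) = 0}) :
    ∃ d : ∀ p : ℕ, ↥(⋀[A]^p Ω') →ₗ[R] ↥(⋀[A]^(p + 1) Ω'),
      DeRham.IsDiff (π.compDer (KaehlerDifferential.D R A)) d ∧
        ∀ (p : ℕ) (x : ↥(⋀[A]^p (Ω[A⁄R]))),
          d p (exteriorPower.map p π x) = exteriorPower.map (p + 1) π (dA p x) := by
  classical
  obtain ⟨hrule, hsq⟩ := hdA
  let M := Ω[A⁄R]
  let D := KaehlerDifferential.D R A
  let Φ : ∀ p : ℕ, ↥(⋀[A]^p M) → ↥(⋀[A]^(p + 1) Ω') := fun p z => exteriorPower.map (p + 1) π (dA p z)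
  have hΦadd : ∀ p y z, Φ p (y + z) = Φ p y + Φ p z := by intro p y z; simp only [Φ, map_add]
  have hΦzero : ∀ p, Φ p 0 = 0 := by intro p; simp only [Φ, map_zero]
  have hDspan : ∀ w : M, ∃ (n : ℕ) (x y : Fin n → A), w = ∑ l, x l • D (y l) := by
    intro w
    have hw : w ∈ Submodule.span A (Set.range D) := by rw [KaehlerDifferential.span_range_derivation]; trivial
    rw [Submodule.mem_span_set'] at hw
    obtain ⟨n, f, g, hfg⟩ := hw
    choose y hy using fun l : Fin n => (g l).2
    exact ⟨n, f, y, by rw [← hfg]; exact Finset.sum_congr rfl fun l _ => by rw [hy l]⟩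
  -- submodule of elements all whose multiples are killed
  let Q : ∀ p : ℕ, Submodule A ↥(⋀[A]^p M) := fun p =>
    { carrier := {z | ∀ a : A, Φ p (a • z) = 0}
      add_mem' := fun {y z} hy hz a => by rw [smul_add, hΦadd, hy a, hz a, add_zero]
      zero_mem' := fun a => by rw [smul_zero, hΦzero]
      smul_mem' := fun c z hz a => by rw [smul_smul]; exact hz _ }
  -- the key computation
  have hkey : ∀ (q : ℕ) (ω : M), ω ∈ LinearMap.ker π → ∀ u : Fin q → M,
      exteriorPower.ιMulti A (q + 1) (Fin.cons ω u) ∈ Q (q + 1) := by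
    intro q ω hω u
    let F : MultilinearMap A (fun _ : Fin q => M) ↥(⋀[A]^(q + 1) M) :=
      (exteriorPower.ιMulti A (q + 1) (M := M)).toMultilinearMap.curryLeft ω
    show F u ∈ Q (q + 1)
    choose n x y hxy using fun i => hDspan (u i)
    rw [show u = fun i => ∑ l, x i l • D (y i l) from funext hxy, MultilinearMap.map_sum]
    refine Submodule.sum_mem _ fun r _ => ?_
    rw [MultilinearMap.map_smul_univ]
    refine Submodule.smul_mem _ _ ?_
    set b : Fin q → A := fun i => y i (r i) with hb
    show exteriorPower.ιMulti A (q + 1) (Fin.cons ω fun i => D (b i)) ∈ Q (q + 1)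
    let G : M →ₗ[A] ↥(⋀[A]^(q + 1) M) :=
      { toFun := fun w => exteriorPower.ιMulti A (q + 1) (Fin.cons w fun i => D (b i))
        map_add' := fun w w' => MultilinearMap.cons_add _ _ _ _
        map_smul' := fun c w => MultilinearMap.cons_smul _ _ _ _ }
    show G ω ∈ Q (q + 1)
    have hω' := hker hω
    clear hω
    induction hω' using Submodule.span_induction with
    | zero => rw [map_zero]; exact zero_mem _
    | add w w' _ _ hw hw' => rw [map_add]; exact add_mem hw hw'
    | smul c w _ hw => rw [map_smul]; exact Submodule.smul_mem _ _ hw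
    | mem w hw =>
      obtain ⟨hw0, hw2⟩ := hw
      intro a
      obtain ⟨n, x, y, rfl⟩ := hDspan w
      show exteriorPower.map (q + 2) π (dA (q + 1) (a • G (∑ l, x l • D (y l)))) = 0
      have h1 : a • G (∑ l, x l • D (y l)) = ∑ l, DeRham.gen D (q + 1) (a * x l) (Fin.cons (y l) b) := by
        rw [map_sum, Finset.smul_sum]
        refine Finset.sum_congr rfl fun l _ => ?_
        rw [map_smul, smul_smul]
        unfold DeRham.gen
        rw [show (fun i => D ((Fin.cons (y l) b : Fin (q + 1) → A) i)) = Fin.cons (D (y l)) (fun i => D (b i)) from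
          funext fun i => by cases i using Fin.cases <;> simp]
        rfl
      have h2 : ∑ l, exteriorPower.ιMulti A 2 (fun i => π ((Fin.cons (D (x l)) (fun _ => D (y l)) : Fin 2 → M) i)) = 0 := by
        have h3 : (exteriorPower.oneEquiv A M).symm (∑ l, x l • D (y l)) = ∑ l, DeRham.gen D 1 (x l) (fun _ => y l) := by
          apply (exteriorPower.oneEquiv A M).injective
          rw [LinearEquiv.apply_symm_apply, map_sum]
          refine Finset.sum_congr rfl fun l _ => ?_
          unfold DeRham.gen
          rw [map_smul, exteriorPower.oneEquiv_ιMulti]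
        rw [h3, map_sum, map_sum] at hw2
        refine Eq.trans (Finset.sum_congr rfl fun l _ => ?_) hw2
        rw [hrule 1 (x l) (fun _ => y l), exteriorPower.map_apply_ιMulti]
        rfl
      rw [h1, map_sum, map_sum]
      apply Subtype.ext
      rw [Submodule.coe_sum, ZeroMemClass.coe_zero]
      have h4 := congrArg Subtype.val h2
      rw [Submodule.coe_sum, ZeroMemClass.coe_zero] at h4
      set Z := ExteriorAlgebra.ιMulti A q (fun i => π (D (b i))) with hZ
      have h5 : ∀ l, ((exteriorPower.map (q + 2) π (dA (q + 1) (DeRham.gen D (q + 1) (a * x l) (Fin.cons (y l) b))) : ↥(⋀[A]^(q + 2) Ω')) : ExteriorAlgebra A Ω') =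
          a • ((ExteriorAlgebra.ι A (π (D (x l))) * ExteriorAlgebra.ι A (π (D (y l)))) * Z) +
            ExteriorAlgebra.ι A (π (D a)) * (ExteriorAlgebra.ι A (x l • π (D (y l))) * Z) := by
        intro l
        rw [hrule (q + 1) (a * x l) (Fin.cons (y l) b), exteriorPower.map_apply_ιMulti, exteriorPower.ιMulti_apply_coe,
          ExteriorAlgebra.ιMulti_succ_apply, ExteriorAlgebra.ιMulti_succ_apply]
        simp only [Function.comp_apply, Fin.cons_zero, Matrix.vecTail, Fin.cons_succ, Derivation.leibniz, map_add, map_smul,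
          add_mul, smul_mul_assoc, mul_assoc, mul_smul_comm]
        rfl
      rw [Finset.sum_congr rfl fun l _ => h5 l, Finset.sum_add_distrib, ← Finset.smul_sum, ← Finset.sum_mul,
        ← Finset.mul_sum, ← Finset.sum_mul, ← map_sum]
      have h6 : ∑ l, x l • π (D (y l)) = 0 := by
        rw [← hw0, map_sum]
        simp only [map_smul]
      have h7 : ∑ l, ExteriorAlgebra.ι A (π (D (x l))) * ExteriorAlgebra.ι A (π (D (y l))) = 0 := by
        rw [← h4]
        refine Finset.sum_congr rfl fun l _ => ?_
        rw [exteriorPower.ιMulti_apply_coe, ExteriorAlgebra.ιMulti_succ_apply, ExteriorAlgebra.ιMulti_succ_apply, ExteriorAlgebra.ιMulti_zero_apply, mul_one]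
        rfl
      rw [h6, h7, zero_mul, smul_zero, map_zero, zero_mul, mul_zero, add_zero]
  -- kernel of the map of exterior powers
  have hQ : ∀ (p : ℕ) (v : Fin p → M) (j : Fin p), π (v j) = 0 → exteriorPower.ιMulti A p v ∈ Q p := by
    intro p v j hj
    match p, v, j with
    | q + 1, v, j =>
      by_cases h : j = 0
      · subst h
        rw [← Fin.cons_self_tail v]
        exact hkey q _ hj _
      · have h1 := (exteriorPower.ιMulti A (q + 1) (M := M)).map_swap v (Ne.symm h)
        have h2 : (v ∘ Equiv.swap 0 j) = Fin.cons (v j) (Fin.tail (v ∘ Equiv.swap 0 j)) := by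
          conv_lhs => rw [← Fin.cons_self_tail (v ∘ Equiv.swap 0 j)]
          simp
        rw [h2] at h1
        rw [← neg_neg (exteriorPower.ιMulti A (q + 1) v), ← h1]
        exact neg_mem (hkey q _ hj _)
  have hfac : ∀ (p : ℕ) (z : ↥(⋀[A]^p M)), exteriorPower.map p π z = 0 → Φ p z = 0 := by
    intro p z hz
    let mk := (Q p).mkQ
    have hcongr : ∀ u u' : Fin p → M, (∀ i, π (u i) = π (u' i)) →
        mk (exteriorPower.ιMulti A p u) = mk (exteriorPower.ιMulti A p u') := by
      intro u u' h
      have e : u = (u - u') + u' := by simp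
      conv_lhs => rw [e]
      rw [← AlternatingMap.coe_multilinearMap, MultilinearMap.map_add_univ, map_sum,
        Finset.sum_eq_single (∅ : Finset (Fin p))]
      · simp
      · intro S _ hS
        obtain ⟨j, hj⟩ := Finset.nonempty_iff_ne_empty.mpr hS
        rw [Submodule.mkQ_apply, Submodule.Quotient.mk_eq_zero]
        refine hQ p _ j ?_
        rw [Finset.piecewise_eq_of_mem _ _ _ hj, Pi.sub_apply, map_sub, h j, sub_self]
      · simp
    let s : Ω' → M := Function.surjInv hπ
    have hs : ∀ w, π (s w) = w := Function.surjInv_eq hπ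
    let f : Ω' [⋀^Fin p]→ₗ[A] (↥(⋀[A]^p M) ⧸ Q p) :=
      { toFun := fun v => mk (exteriorPower.ιMulti A p (s ∘ v))
        map_update_add' := by
          intro _ v i w w'
          rw [hcongr (s ∘ Function.update v i (w + w')) (Function.update (s ∘ v) i (s w + s w')) (fun m => by
            by_cases hm : m = i
            · subst hm; simp [hs]
            · simp [hm]),
            AlternatingMap.map_update_add, map_add,
            hcongr (s ∘ Function.update v i w) (Function.update (s ∘ v) i (s w)) (fun m => by rw [Function.comp_update]),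
            hcongr (s ∘ Function.update v i w') (Function.update (s ∘ v) i (s w')) (fun m => by rw [Function.comp_update])]
        map_update_smul' := by
          intro _ v i c w
          rw [hcongr (s ∘ Function.update v i (c • w)) (Function.update (s ∘ v) i (c • s w)) (fun m => by
            by_cases hm : m = i
            · subst hm; simp [hs]
            · simp [hm]),
            AlternatingMap.map_update_smul, map_smul,
            hcongr (s ∘ Function.update v i w) (Function.update (s ∘ v) i (s w)) (fun m => by rw [Function.comp_update])]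
        map_eq_zero_of_eq' := by
          intro v i j hij hne
          rw [AlternatingMap.map_eq_zero_of_eq _ _ (show (s ∘ v) i = (s ∘ v) j by simp [hij]) hne, map_zero] }
    let L := exteriorPower.alternatingMapLinearEquiv f
    have hL : L ∘ₗ exteriorPower.map p π = mk := by
      refine exteriorPower.linearMap_ext ?_
      ext v
      simp only [LinearMap.compAlternatingMap_apply, LinearMap.comp_apply, exteriorPower.map_apply_ιMulti, L,
        exteriorPower.alternatingMapLinearEquiv_apply_ιMulti]
      show mk (exteriorPower.ιMulti A p (s ∘ (π ∘ v))) = mk (exteriorPower.ιMulti A p v)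
      exact hcongr _ _ fun i => by simp [hs]
    have h1 : mk z = 0 := by rw [← hL, LinearMap.comp_apply, hz, map_zero]
    rw [Submodule.mkQ_apply, Submodule.Quotient.mk_eq_zero] at h1
    simpa using h1 1
  let sec : ∀ p : ℕ, ↥(⋀[A]^p Ω') → ↥(⋀[A]^p M) := fun p => Function.surjInv (exteriorPower.map_surjective hπ)
  have hsec : ∀ p y, exteriorPower.map p π (sec p y) = y := fun p => Function.surjInv_eq (exteriorPower.map_surjective hπ)
  have hwd : ∀ (p : ℕ) (z z' : ↥(⋀[A]^p M)), exteriorPower.map p π z = exteriorPower.map p π z' → Φ p z = Φ p z' := by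
    intro p z z' h
    have h1 := hfac p (z - z') (by rw [map_sub, h, sub_self])
    simp only [Φ, map_sub, sub_eq_zero] at h1
    exact h1
  let d : ∀ p : ℕ, ↥(⋀[A]^p Ω') →ₗ[R] ↥(⋀[A]^(p + 1) Ω') := fun p =>
    { toFun := fun y => Φ p (sec p y)
      map_add' := fun y y' => by
        rw [← hΦadd]
        exact hwd p _ _ (by rw [map_add, hsec, hsec, hsec])
      map_smul' := fun c y => by
        rw [hwd p _ (c • sec p y) (by rw [LinearMap.map_smul_of_tower, hsec, hsec]), RingHom.id_apply]
        simp only [Φ, map_smul, LinearMap.map_smul_of_tower] }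
  have hd : ∀ (p : ℕ) (z : ↥(⋀[A]^p M)), d p (exteriorPower.map p π z) = exteriorPower.map (p + 1) π (dA p z) := by
    intro p z
    exact hwd p _ z (hsec p _)
  refine ⟨d, ⟨?_, ?_⟩, hd⟩
  · intro p b₀ b
    have h1 : DeRham.gen (π.compDer D) p b₀ b = exteriorPower.map p π (DeRham.gen D p b₀ b) := by
      unfold DeRham.gen
      rw [map_smul, exteriorPower.map_apply_ιMulti]
      rfl
    rw [h1, hd, hrule p b₀ b, exteriorPower.map_apply_ιMulti]
    congr 1
    funext i
    cases i using Fin.cases <;> simp
    all_goals rfl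
  · intro p
    apply LinearMap.ext
    intro y
    rw [LinearMap.comp_apply, LinearMap.zero_apply, ← hsec p y, hd, hd]
    have := LinearMap.congr_fun (hsq p) (sec p y)
    rw [LinearMap.comp_apply, LinearMap.zero_apply] at this
    rw [this, map_zero]

end Groth.Agent.S15296
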