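import Groth.Statements.S15297
import Mathlib
import Mathlib
-- import your own Groth.Agent.* helpers here

set_option autoImplicit false
universe u
open DeRham

namespace Groth.Agent.S15297

open exteriorPower in
/-- Let R → A be a ring map and d a de Rham differential of the Kähler differentials of A over R. Then
each d from p-forms to (p+1)-forms, an R-linear map between A-modules, is a differential operator of
order at most 1 relative to R → A: every commutator of d with multiplication by an element of A is
A-linear. -/
theorem result (R A : Type u) [CommRing R] [CommRing A] [Algebra R A]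
    (d : ∀ p : ℕ, ↥(⋀[A]^p (Ω[A⁄R])) →ₗ[R] ↥(⋀[A]^(p + 1) (Ω[A⁄R])))
    (hd : DeRham.IsDiff (KaehlerDifferential.D R A) d) (p : ℕ) :
    Diff16.IsDiffOpLE R A ↥(⋀[A]^p (Ω[A⁄R])) ↥(⋀[A]^(p + 1) (Ω[A⁄R])) 1 (d p) := by
  intro a b m
  have hC : ∀ x, Diff16.commutator R A _ _ (d p) a x = d p (a • x) - a • d p x := fun x => rfl
  simp only [hC]
  clear hC
  let Q : Submodule A ↥(⋀[A]^p (Ω[A⁄R])) :=
    { carrier := {m | ∀ b : A, d p (a • b • m) - a • d p (b • m) = b • (d p (a • m) - a • d p m)}
      add_mem' := fun {x y} hx hy b => by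
        have h1 := hx b
        have h2 := hy b
        simp only [smul_add, map_add, smul_sub] at h1 h2 ⊢
        linear_combination (norm := module) h1 + h2
      zero_mem' := fun b => by simp
      smul_mem' := fun c x hx b => by
        rw [hx c, smul_smul b c x, hx (b * c), mul_smul] }
  suffices h : Q = ⊤ from (h ▸ Submodule.mem_top : m ∈ Q) b
  rw [eq_top_iff, ← exteriorPower.ιMulti_span_of_span A p (Ω[A⁄R]) (KaehlerDifferential.span_range_derivation R A), Submodule.span_le]
  rintro _ ⟨v, hv, rfl⟩ b
  choose c hc using fun i => hv (Set.mem_range_self i)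
  obtain rfl : (fun i => KaehlerDifferential.D R A (c i)) = v := funext hc
  have hg : ∀ b₀ : A, d p (b₀ • exteriorPower.ιMulti A p (fun i => KaehlerDifferential.D R A (c i))) =
      exteriorPower.ιMulti A (p + 1) (Fin.cons (KaehlerDifferential.D R A b₀) (fun i => KaehlerDifferential.D R A (c i))) :=
    fun b₀ => hd.1 p b₀ c
  have hlin : ∀ (x y : Ω[A⁄R]) (r s : A), exteriorPower.ιMulti A (p + 1) (Fin.cons (r • x + s • y) (fun i => KaehlerDifferential.D R A (c i))) =
      r • exteriorPower.ιMulti A (p + 1) (Fin.cons x (fun i => KaehlerDifferential.D R A (c i))) +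
        s • exteriorPower.ιMulti A (p + 1) (Fin.cons y (fun i => KaehlerDifferential.D R A (c i))) := fun x y r s => by
    have := (exteriorPower.ιMulti A (p + 1) (M := Ω[A⁄R])).toMultilinearMap
    rw [← AlternatingMap.coe_multilinearMap, MultilinearMap.cons_add, MultilinearMap.cons_smul, MultilinearMap.cons_smul]
  have h1 := hg (a * b)
  have h2 := hg b
  have h3 := hg a
  have h4 := hg 1
  rw [one_smul] at h4
  rw [smul_smul, h1, h2, h3, h4, Derivation.leibniz, hlin, Derivation.map_one_eq_zero]
  have h0 : exteriorPower.ιMulti A (p + 1) (Fin.cons (0 : Ω[A⁄R]) (fun i => KaehlerDifferential.D R A (c i))) = 0 :=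
    AlternatingMap.map_coord_zero _ 0 (by simp)
  rw [h0]
  module

end Groth.Agent.S15297
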