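import Groth.Statements.S15302
import Groth.Agent.RDerLib.Horseshoe
-- import your own Groth.Agent.* helpers here

set_option autoImplicit false
set_option linter.style.haveILetI false
universe v u
open HomAlg3

namespace Groth.Agent.S15302

open CategoryTheory CategoryTheory.Limits ZeroObject

variable {C : Type u} [Category.{v} C] [Abelian C] {F : C} (I : InjectiveResolution F)

/-- The shifted terms. -/
noncomputable def preX : ℕ → C
  | 0 => 0
  | k + 1 => I.cocomplex.X k

/-- The differential out of the shifted terms. -/
noncomputable def dpreX : ∀ n, preX I n ⟶ I.cocomplex.X n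
  | 0 => 0
  | k + 1 => I.cocomplex.d k (k + 1)

/-- The differential of the contractible complex. -/
noncomputable def down (n : ℕ) : I.cocomplex.X n ⟶ preX I (n + 1) := 𝟙 _

/-- Its inverse. -/
noncomputable def up (n : ℕ) : preX I (n + 1) ⟶ I.cocomplex.X n := 𝟙 _

@[reassoc (attr := simp)]
theorem down_up (n : ℕ) : down I n ≫ up I n = 𝟙 _ := Category.comp_id _

@[reassoc (attr := simp)]
theorem up_down (n : ℕ) : up I n ≫ down I n = 𝟙 _ := Category.comp_id _

@[reassoc (attr := simp)]
theorem down_dpreX (n : ℕ) : down I n ≫ dpreX I (n + 1) = I.cocomplex.d n (n + 1) :=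
  Category.id_comp _

@[reassoc (attr := simp)]
theorem dpreX_d (n : ℕ) : dpreX I n ≫ I.cocomplex.d n (n + 1) = 0 := by
  cases n with
  | zero => exact zero_comp
  | succ k => exact I.cocomplex.d_comp_d _ _ _

theorem injective_preX : ∀ n, Injective (preX I n)
  | 0 => (isZero_zero C).injective
  | k + 1 => inferInstanceAs (Injective (I.cocomplex.X k))

variable {G : C} (J : InjectiveResolution G) (φ : J.cocomplex ⟶ I.cocomplex)

/-- The enlarged resolution. -/
noncomputable abbrev XP (n : ℕ) : C := J.cocomplex.X n ⊞ (I.cocomplex.X n ⊞ preX I n)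

/-- The differential of the enlarged resolution. -/
noncomputable abbrev dP (n : ℕ) : XP I J n ⟶ XP I J (n + 1) :=
  biprod.fst ≫ J.cocomplex.d n (n + 1) ≫ biprod.inl +
    biprod.snd ≫ biprod.fst ≫ down I n ≫ biprod.inr ≫ biprod.inr

/-- The contracting homotopy. -/
noncomputable abbrev hP (n : ℕ) : XP I J (n + 1) ⟶ XP I J n :=
  biprod.snd ≫ biprod.snd ≫ up I n ≫ biprod.inl ≫ biprod.inr

/-- The projection to the given resolution. -/
noncomputable abbrev bP (n : ℕ) : XP I J n ⟶ I.cocomplex.X n :=
  biprod.fst ≫ φ.f n + biprod.snd ≫ biprod.desc (𝟙 _) (dpreX I n)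

theorem dP_dP (n : ℕ) : dP I J n ≫ dP I J (n + 1) = 0 := by simp

/-- The enlarged complex. -/
noncomputable def KP : CochainComplex C ℕ := CochainComplex.of (XP I J) (dP I J) (dP_dP I J)

theorem KP_d (n : ℕ) : (KP I J).d n (n + 1) = dP I J n := by simp [KP]

/-- Inclusion. -/
noncomputable def inlP : J.cocomplex ⟶ KP I J where
  f n := (biprod.inl : _ ⟶ XP I J n)
  comm' i j hij := by
    obtain rfl : i + 1 = j := hij
    rw [KP_d]
    change biprod.inl ≫ dP I J i = J.cocomplex.d i (i + 1) ≫ biprod.inl
    simp [Preadditive.comp_add]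

/-- Projection. -/
noncomputable def fstP : KP I J ⟶ J.cocomplex where
  f n := (biprod.fst : XP I J n ⟶ _)
  comm' i j hij := by
    obtain rfl : i + 1 = j := hij
    rw [KP_d]
    change biprod.fst ≫ J.cocomplex.d i (i + 1) = dP I J i ≫ biprod.fst
    simp [Preadditive.add_comp]

/-- The split epimorphism. -/
noncomputable def betaP : KP I J ⟶ I.cocomplex where
  f n := bP I J φ n
  comm' i j hij := by
    obtain rfl : i + 1 = j := hij
    rw [KP_d]
    change bP I J φ i ≫ I.cocomplex.d i (i + 1) = dP I J i ≫ bP I J φ (i + 1)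
    apply biprod.hom_ext'
    · simp [Preadditive.comp_add, Preadditive.add_comp, φ.comm i (i + 1)]
    · apply biprod.hom_ext' <;> simp [Preadditive.comp_add, Preadditive.add_comp]

theorem dh_zero : 𝟙 (XP I J 0) = dP I J 0 ≫ hP I J 0 + biprod.fst ≫ biprod.inl := by
  apply biprod.hom_ext'
  · simp [Preadditive.comp_add, Preadditive.add_comp]
  · apply biprod.hom_ext'
    · simp [Preadditive.comp_add, Preadditive.add_comp]
    · exact (isZero_zero C).eq_of_src _ _

theorem dh_succ (k : ℕ) : 𝟙 (XP I J (k + 1)) =
    dP I J (k + 1) ≫ hP I J (k + 1) + hP I J k ≫ dP I J k + biprod.fst ≫ biprod.inl := by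
  apply biprod.hom_ext'
  · simp [Preadditive.comp_add, Preadditive.add_comp]
  · apply biprod.hom_ext' <;> simp [Preadditive.comp_add, Preadditive.add_comp]

/-- The contraction. -/
noncomputable def homotopyP : Homotopy (𝟙 (KP I J)) (fstP I J ≫ inlP I J) where
  hom i j := if hij : j + 1 = i then eqToHom (congrArg (KP I J).X hij.symm) ≫ hP I J j else 0
  zero i j hij := dif_neg hij
  comm i := by
    rw [dNext_eq _ (show (ComplexShape.up ℕ).Rel i (i + 1) from rfl)]
    simp only [↓reduceDIte, eqToHom_refl, Category.id_comp]
    rw [KP_d]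
    cases i with
    | zero =>
      rw [prevD, AddMonoidHom.mk'_apply, (KP I J).shape _ 0 (by simp), comp_zero, add_zero]
      exact dh_zero I J
    | succ k =>
      rw [prevD_eq _ (show (ComplexShape.up ℕ).Rel k (k + 1) from rfl)]
      simp only [↓reduceDIte, eqToHom_refl, Category.id_comp]
      rw [KP_d]
      exact dh_succ I J k

/-- The splitting. -/
noncomputable def eP (p : ℕ) : XP I J p ≅ I.cocomplex.X p ⊞ (J.cocomplex.X p ⊞ preX I p) where
  hom := biprod.lift (bP I J φ p) (biprod.map (𝟙 _) biprod.snd)
  inv := biprod.desc (biprod.inl ≫ biprod.inr)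
    (biprod.desc (biprod.inl - φ.f p ≫ biprod.inl ≫ biprod.inr)
      (biprod.inr ≫ biprod.inr - dpreX I p ≫ biprod.inl ≫ biprod.inr))
  hom_inv_id := by
    apply biprod.hom_ext'
    · simp [biprod.lift_desc, Preadditive.comp_add]
    · apply biprod.hom_ext' <;> simp [biprod.lift_desc, Preadditive.comp_add]
  inv_hom_id := by
    apply biprod.hom_ext'
    · apply biprod.hom_ext <;> simp
    · apply biprod.hom_ext' <;> apply biprod.hom_ext <;> simp [Preadditive.sub_comp]

open CategoryTheory CategoryTheory.Limits in
/-- In an abelian category with enough injectives, let α : G ⟶ F be a morphism and I an injective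
resolution of F. Then G has an injective resolution J together with a morphism of cochain complexes
β : J ⟶ I lying over α (the augmentations commute with α and β) such that for every p there are an
object K^p and an isomorphism J^p ≅ I^p ⊕ K^p identifying β^p with the projection onto the first
factor (so K^p is injective as well). (The published statement is for abelian sheaves on a
topological space; its proof uses only an embedding of G into an injective object and cokernels, so
the row is stated in any abelian category with enough injectives.) -/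
theorem result {C : Type u} [Category.{v} C] [Abelian C]
    [EnoughInjectives C] {G F : C} (α : G ⟶ F) (I : InjectiveResolution F) :
    ∃ (J : InjectiveResolution G) (β : J.cocomplex ⟶ I.cocomplex),
      J.ι ≫ β = (CochainComplex.single₀ C).map α ≫ I.ι ∧
      ∀ p : ℕ, ∃ (K : C) (e : J.cocomplex.X p ≅ I.cocomplex.X p ⊞ K), β.f p = e.hom ≫ biprod.fst := by
  let J := injectiveResolution G
  let φ := InjectiveResolution.desc α I J
  let he : HomotopyEquiv J.cocomplex (KP I J) :=
    { hom := inlP I J
      inv := fstP I J
      homotopyHomInvId := Homotopy.ofEq (by ext n; exact biprod.inl_fst)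
      homotopyInvHomId := (homotopyP I J).symm }
  haveI : QuasiIso (inlP I J) := ⟨fun n => by
    rw [quasiIsoAt_iff_isIso_homologyMap]
    exact (he.toHomologyIso n).isIso_hom⟩
  haveI : ∀ n, Injective ((KP I J).X n) := fun n =>
    haveI := injective_preX I n
    inferInstanceAs (Injective (J.cocomplex.X n ⊞ (I.cocomplex.X n ⊞ preX I n)))
  refine ⟨{ cocomplex := KP I J, ι := J.ι ≫ inlP I J }, betaP I J φ, ?_, fun p =>
    ⟨_, eP I J φ p, (biprod.lift_fst _ _).symm⟩⟩
  have hφ : inlP I J ≫ betaP I J φ = φ := by
    ext n
    change biprod.inl ≫ bP I J φ n = φ.f n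
    simp [Preadditive.comp_add]
  exact (Category.assoc _ _ _).trans ((congrArg (J.ι ≫ ·) hφ).trans
    (InjectiveResolution.desc_commutes α I J))

end Groth.Agent.S15302
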