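import Groth.Statements.S15303
import Groth.Agent.EtSliceFibLib.Basic
-- import your own Groth.Agent.* helpers here

set_option autoImplicit false
universe u
open EtBase

namespace Groth.Agent.S15303

set_option backward.isDefEq.respectTransparency false

open CategoryTheory AlgebraicGeometry

/-- Finitely many sections with vanishing germ vanish on a common neighbourhood. -/
theorem exists_nhd_map_eq_zero {Z : Scheme.{u}} (z : Z) (U : Z.Opens) (hz : z ∈ U) :
    ∀ l : List Γ(Z, U), (∀ s ∈ l, Z.presheaf.germ U z hz s = 0) →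
      ∃ (V : Z.Opens) (hV : V ≤ U), z ∈ V ∧ ∀ s ∈ l, Z.presheaf.map (homOfLE hV).op s = 0
  | [], _ => ⟨U, le_rfl, hz, by simp⟩
  | s :: l, h => by
    obtain ⟨V, hV, hzV, hVl⟩ := exists_nhd_map_eq_zero z U hz l fun a ha => h a (List.mem_cons_of_mem _ ha)
    obtain ⟨W, hzW, i₁, i₂, he⟩ := TopCat.Presheaf.germ_eq Z.presheaf z hz hz s 0
      (by rw [h s (List.mem_cons_self ..), map_zero])
    rw [map_zero] at he
    refine ⟨V ⊓ W, inf_le_left.trans hV, ⟨hzV, hzW⟩, fun a ha => ?_⟩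
    rcases List.mem_cons.1 ha with rfl | ha
    · rw [show (homOfLE (inf_le_left.trans hV) : V ⊓ W ⟶ U).op = i₁.op ≫ (homOfLE (inf_le_right : V ⊓ W ≤ W)).op from rfl,
        Functor.map_comp, CommRingCat.comp_apply, he, map_zero]
    · rw [show (homOfLE (inf_le_left.trans hV) : V ⊓ W ⟶ U).op = (homOfLE hV).op ≫ (homOfLE (inf_le_left : V ⊓ W ≤ V)).op from rfl,
        Functor.map_comp, CommRingCat.comp_apply, hVl a ha, map_zero]

open CategoryTheory AlgebraicGeometry in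
/-- Let k be a field of characteristic zero, X and Y smooth k-schemes, f : X ⟶ Y a smooth k-morphism and
i : Z ⟶ X a closed immersion such that the composite Z ⟶ Y is again a closed immersion. Then for
every point z of Z there are an open neighbourhood U of i(z) in X and a closed subscheme j : W ⟶ U
of U which is étale over Y (through U ⊆ X ⟶ Y) and contains Z ∩ U, i.e. the restriction of i over U
factors through j. -/
theorem result (k : Type u) [Field k] [CharZero k]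
    {X Y Z : Scheme.{u}} [X.Over (Spec (CommRingCat.of k))] [Y.Over (Spec (CommRingCat.of k))]
    [Smooth (X ↘ Spec (CommRingCat.of k))] [Smooth (Y ↘ Spec (CommRingCat.of k))]
    (f : X ⟶ Y) [f.IsOver (Spec (CommRingCat.of k))] [Smooth f]
    (i : Z ⟶ X) [IsClosedImmersion i] [IsClosedImmersion (i ≫ f)] (z : Z) :
    ∃ (U : X.Opens) (_ : i.base z ∈ U) (W : Scheme.{u}) (j : W ⟶ (U : Scheme.{u})) (_ : IsClosedImmersion j)
      (_ : Etale (j ≫ U.ι ≫ f)) (g : ((i ⁻¹ᵁ U : Z.Opens) : Scheme.{u}) ⟶ W), g ≫ j = i ∣_ U := by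
  let x := i z
  have hsurj : Function.Surjective ((i ≫ f).stalkMap z) := (i ≫ f).stalkMap_surjective z
  let M : Ideal (X.presheaf.stalk x) := RingHom.ker (i.stalkMap z).hom
  have hM : (IsLocalRing.maximalIdeal (Y.presheaf.stalk (f x))).map (f.stalkMap x).hom ⊔ M =
      IsLocalRing.maximalIdeal (X.presheaf.stalk x) := by
    refine le_antisymm (sup_le (Ideal.map_le_iff_le_comap.2 fun a ha => map_nonunit _ a ha)
      (IsLocalRing.le_maximalIdeal (RingHom.ker_ne_top _))) fun a ha => ?_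
    obtain ⟨b, hb⟩ : ∃ b : Y.presheaf.stalk (f x), (i ≫ f).stalkMap z b = i.stalkMap z a := hsurj (i.stalkMap z a)
    rw [Scheme.Hom.stalkMap_comp, CommRingCat.comp_apply] at hb
    have hb' : b ∈ IsLocalRing.maximalIdeal (Y.presheaf.stalk (f x)) := by
      rw [IsLocalRing.mem_maximalIdeal]
      intro hu
      have h1 : IsUnit (i.stalkMap z a) := hb ▸ (hu.map (f.stalkMap x).hom).map (i.stalkMap z).hom
      exact (IsLocalRing.mem_maximalIdeal a).1 ha (isUnit_of_map_unit (i.stalkMap z).hom a h1)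
    have hd : a - (f.stalkMap x) b ∈ M := by
      show (i.stalkMap z).hom _ = 0
      rw [map_sub, sub_eq_zero]
      exact hb.symm
    have := Ideal.add_mem _ (Ideal.mem_sup_left (Ideal.mem_map_of_mem (f.stalkMap x).hom hb') : _ ∈ _ ⊔ M)
      (Ideal.mem_sup_right hd)
    simpa using this
  have hsep : @Algebra.IsSeparable (Y.residueField (f x)) (X.residueField x) _ _ (f.residueFieldMap x).hom.toAlgebra := by
    letI := (f.residueFieldMap x).hom.toAlgebra
    refine ⟨fun b => ?_⟩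
    obtain ⟨c, hc⟩ : ∃ c, f.residueFieldMap x c = b := by
      obtain ⟨a, ha⟩ := Scheme.residue_surjective _ _ (i.residueFieldMap z b)
      obtain ⟨d, rfl⟩ := hsurj a
      refine ⟨Y.residue (f x) d, (RingHom.injective (i.residueFieldMap z).hom) ?_⟩
      show i.residueFieldMap z _ = _
      rw [← ha, ← CommRingCat.comp_apply, ← Scheme.residueFieldMap_comp]
      exact congr($(Scheme.residue_residueFieldMap (i ≫ f) z) d)
    rw [← hc]
    exact isSeparable_algebraMap _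
  obtain ⟨U, hU, hx, hs', hsM, O, w, hwO, hwx, het⟩ := EtSliceFibLib.exists_slice f x M hM hsep
  let Q := Spec.map (CommRingCat.ofHom (Ideal.Quotient.mk (Ideal.ofList hs')))
  let c := Q ≫ hU.fromSpec
  haveI : IsClosedImmersion Q := IsClosedImmersion.spec_of_surjective _ Ideal.Quotient.mk_surjective
  haveI : IsImmersion c := inferInstanceAs (IsImmersion (_ ≫ _))
  obtain ⟨V₁, hV₁, hzV₁, hzero⟩ := exists_nhd_map_eq_zero z (i ⁻¹ᵁ U) hx (hs'.map (i.app U)) fun s hs => by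
    obtain ⟨g, hg, rfl⟩ := List.mem_map.1 hs
    rw [← Scheme.Hom.germ_stalkMap_apply]
    exact hsM g hg
  obtain ⟨A, hA, hAV⟩ := (i.isEmbedding.isInducing.isOpen_iff).1 V₁.2
  obtain ⟨B, hB, hBO⟩ := (c.isEmbedding.isInducing.isOpen_iff).1 O.2
  have hxA : x ∈ A := show z ∈ i ⁻¹' A from hAV.ge hzV₁
  have hxB : x ∈ B := by
    have : w ∈ c ⁻¹' B := hBO.ge hwO
    exact (show c w = x from hwx) ▸ this
  let U₂ : X.Opens := U ⊓ (⟨A, hA⟩ ⊓ ⟨B, hB⟩)
  haveI : IsIso (hU.fromSpec ∣_ U₂) := by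
    haveI : Surjective (hU.fromSpec ∣_ U₂) := ⟨fun y => by
      obtain ⟨p, hp⟩ := hU.range_fromSpec.ge y.2.1
      refine ⟨⟨p, show hU.fromSpec p ∈ U₂ from hp ▸ y.2⟩, Subtype.ext ?_⟩
      exact (morphismRestrict_base_coe _ _ _).trans hp⟩
    exact (isIso_iff_isOpenImmersion_and_epi_base _).2 ⟨inferInstance, (TopCat.epi_iff_surjective _).2 (Surjective.surj)⟩
  haveI : IsClosedImmersion (c ∣_ U₂) := by
    rw [morphismRestrict_comp]
    haveI : IsClosedImmersion (Q ∣_ (hU.fromSpec ⁻¹ᵁ U₂)) := IsZariskiLocalAtTarget.restrict ‹IsClosedImmersion Q› _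
    infer_instance
  have hle : c ⁻¹ᵁ U₂ ≤ O := fun y hy => hBO.le hy.2.2
  haveI : Etale ((c ∣_ U₂) ≫ U₂.ι ≫ f) := by
    rw [morphismRestrict_ι_assoc, ← Scheme.homOfLE_ι _ hle, Category.assoc]
    haveI : Etale (O.ι ≫ c ≫ f) := by simpa [c, Category.assoc] using het
    infer_instance
  have hVU : i ⁻¹ᵁ U₂ ≤ i ⁻¹ᵁ U := fun y hy => hy.1
  have hVV₁ : i ⁻¹ᵁ U₂ ≤ V₁ := fun y hy => hAV.le hy.2.1
  let φ := i.appLE U (i ⁻¹ᵁ U₂) hVU
  have hφ : Ideal.ofList hs' ≤ RingHom.ker φ.hom := Ideal.span_le.2 fun g hg => by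
    show φ g = 0
    have h1 : φ = i.app U ≫ Z.presheaf.map (homOfLE hV₁).op ≫ Z.presheaf.map (homOfLE hVV₁).op := by
      rw [← Functor.map_comp]; rfl
    rw [h1, CommRingCat.comp_apply, CommRingCat.comp_apply, hzero _ (List.mem_map_of_mem hg), map_zero]
  let ψ : CommRingCat.of (Γ(X, U) ⧸ Ideal.ofList hs') ⟶ Γ(Z, i ⁻¹ᵁ U₂) :=
    CommRingCat.ofHom (Ideal.Quotient.lift (Ideal.ofList hs') φ.hom fun a ha => hφ ha)
  let g₀ := (i ⁻¹ᵁ U₂).toSpecΓ ≫ Spec.map ψ
  have hψ : CommRingCat.ofHom (Ideal.Quotient.mk (Ideal.ofList hs')) ≫ ψ = φ :=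
    CommRingCat.hom_ext (RingHom.ext fun a => Ideal.Quotient.lift_mk (Ideal.ofList hs') φ.hom (fun b hb => hφ hb))
  have hg₀ : g₀ ≫ c = (i ⁻¹ᵁ U₂).ι ≫ i := by
    simp only [g₀, c, Q, Category.assoc]
    rw [← Spec.map_comp_assoc, hψ, Scheme.Opens.toSpecΓ_SpecMap_appLE_assoc, IsAffineOpen.toSpecΓ_fromSpec,
      Scheme.Hom.resLE_comp_ι]
  let g₁ : (i ⁻¹ᵁ U₂).toScheme ⟶ (c ⁻¹ᵁ U₂).toScheme := IsOpenImmersion.lift (c ⁻¹ᵁ U₂).ι g₀ (by
    rintro _ ⟨y, rfl⟩
    rw [Scheme.Opens.range_ι]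
    show (g₀ ≫ c) y ∈ U₂
    rw [hg₀]
    exact y.2)
  refine ⟨U₂, ⟨hx, hxA, hxB⟩, _, c ∣_ U₂, inferInstance, inferInstance, g₁, ?_⟩
  rw [← cancel_mono U₂.ι, Category.assoc, morphismRestrict_ι, morphismRestrict_ι, ← Category.assoc,
    IsOpenImmersion.lift_fac, hg₀]

end Groth.Agent.S15303
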