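import Groth.Statements.S8626
import Groth.Agent.RDerLib.Horseshoe
import Groth.Agent.DerLib.RightRes
import Groth.Prelude.Def_RDer
-- import your own Groth.Agent.* helpers here

set_option autoImplicit false
set_option linter.style.haveILetI false
universe v v' u u'
open CategoryTheory CategoryTheory.Limits
open SGA4h

namespace Groth.Agent.S8626

/-- Acyclicity assertion; A with enough injectives so that R^n f is the usual right derived functor: let
f : A → B be an additive functor between abelian categories and 𝒪 a class of objects of A, stable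
under binary direct sums, such that (1) f carries every acyclic bounded-below cochain complex of
objects of 𝒪 (indexed by ℕ, exact in every degree, in degree 0 meaning the first differential is a
monomorphism) to an acyclic complex, and (2) every object of A admits a monomorphism into a member
of 𝒪. Then every member of 𝒪 is right f-acyclic: R^n f(X) = 0 for all n > 0. -/
theorem result {A : Type u} [Category.{v} A] [Abelian A] [EnoughInjectives A]
    {B : Type u'} [Category.{v'} B] [Abelian B] (f : A ⥤ B) [f.Additive] (𝒪 : ObjectProperty A)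
    (h0 : ∀ X Y : A, 𝒪 X → 𝒪 Y → 𝒪 (X ⊞ Y))
    (h1 : ∀ K : CochainComplex A ℕ, (∀ i, 𝒪 (K.X i)) → K.Acyclic →
      ((f.mapHomologicalComplex (ComplexShape.up ℕ)).obj K).Acyclic)
    (h2 : ∀ X : A, ∃ (Y : A) (i : X ⟶ Y), 𝒪 Y ∧ Mono i)
    (X : A) (hX : 𝒪 X) (n : ℕ) (hn : 0 < n) :
    IsZero ((f.rightDerived n).obj X) := by
  obtain ⟨m, rfl⟩ : ∃ m, n = m + 1 := ⟨n - 1, by omega⟩
  let I := injectiveResolution X
  obtain ⟨K, α, hK, -, hα⟩ := Groth.Agent.DerLib.RightRes.exists_resolution
    (I := fun Z => 𝒪 Z) h2 I.cocomplex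
  let ι' : (CochainComplex.single₀ A).obj X ⟶ K := I.ι ≫ α
  haveI : QuasiIso ι' := inferInstanceAs (QuasiIso (I.ι ≫ α))
  let r := RDer.descToInjectives (𝟙 X) K ι' I.cocomplex I.ι
  let j : X ⟶ K.X 0 := ι'.f 0
  have hj : j ≫ K.d 0 1 = 0 := RDer.res_ι_d K ι'
  haveI : Mono j := RDer.res_mono K ι'
  let L := CochainComplex.augment K j hj
  have hL : L.Acyclic := fun i => by
    match i with
    | 0 =>
      rw [HomologicalComplex.exactAt_iff' L 0 0 1 (by simp) (by simp)]
      refine (ShortComplex.exact_iff_mono _ ?_).2 ?_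
      · exact L.shape 0 0 (by simp)
      · exact inferInstanceAs (Mono j)
    | 1 =>
      rw [HomologicalComplex.exactAt_iff' L 0 1 2 (by simp) (by simp)]
      exact RDer.res_exact₀ K ι'
    | k + 2 =>
      rw [HomologicalComplex.exactAt_iff' L (k + 1) (k + 2) (k + 3) (by simp) (by simp)]
      exact RDer.res_exact_succ K ι' k
  have hFL := h1 L (fun i => by cases i with
    | zero => exact hX
    | succ k => exact hK k) hL (m + 2)
  rw [HomologicalComplex.exactAt_iff' _ (m + 1) (m + 2) (m + 3) (by simp) (by simp)] at hFL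
  have hFK : IsZero (((f.mapHomologicalComplex (ComplexShape.up ℕ)).obj K).homology (m + 1)) := by
    rw [← HomologicalComplex.exactAt_iff_isZero_homology,
      HomologicalComplex.exactAt_iff' _ m (m + 1) (m + 2) (by simp) (by simp)]
    exact hFL
  have hcomm : I.ι ≫ (α ≫ r) = I.ι ≫ 𝟙 I.cocomplex := by
    refine HomologicalComplex.from_single_hom_ext ?_
    have e := RDer.ι_descToInjectives_f_zero (𝟙 X) K ι' I.cocomplex I.ι
    simp only [Category.comp_id]
    rw [← Category.assoc]
    exact e.trans (Category.id_comp _)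
  have hh : Nonempty (Homotopy (α ≫ r) (𝟙 I.cocomplex)) :=
    ⟨InjectiveResolution.descHomotopy (𝟙 X) (α ≫ r) (𝟙 _)
      (by rw [hcomm, Category.comp_id, CategoryTheory.Functor.map_id, Category.id_comp])
      (by rw [Category.comp_id, CategoryTheory.Functor.map_id, Category.id_comp])⟩
  obtain ⟨hh⟩ := hh
  have h3 := (f.mapHomotopy hh).homologyMap_eq (m + 1)
  rw [Functor.map_comp, HomologicalComplex.homologyMap_comp, CategoryTheory.Functor.map_id,
    HomologicalComplex.homologyMap_id, hFK.eq_of_tgt (HomologicalComplex.homologyMap _ _) 0,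
    zero_comp] at h3
  exact ((IsZero.iff_id_eq_zero _).2 h3.symm).of_iso (I.isoRightDerivedObj f (m + 1))

end Groth.Agent.S8626
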