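import Groth.Statements.S15307
import Groth.Agent.RDerLib.LeftExact
import Groth.Agent.LimHomLib.LimOne
import Groth.Agent.S8626
-- import your own Groth.Agent.* helpers here

set_option autoImplicit false
set_option linter.style.haveILetI false
universe u
open HomAlg3

namespace Groth.Agent.S15307

open CategoryTheory CategoryTheory.Limits Opposite

/-- Towers of abelian groups. -/
abbrev Tow := ℕᵒᵖ ⥤ AddCommGrpCat.{u}

/-- A tower has surjective transition maps. -/
def Surj (P : Tow.{u}) : Prop :=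
  ∀ n : ℕ, Function.Surjective (P.map (homOfLE (Nat.le_succ n)).op)

/-- The free tower on an element in degree `n`. -/
noncomputable def yo (n : ℕ) : Tow.{u} where
  obj a := AddCommGrpCat.of (FreeAbelianGroup (ULift.{u} (op n ⟶ a)))
  map f := AddCommGrpCat.ofHom (FreeAbelianGroup.map fun g => ⟨g.down ≫ f⟩)
  map_id a := by
    ext1
    refine FreeAbelianGroup.lift_ext _ _ fun g => ?_
    simp [FreeAbelianGroup.map_of_apply]
  map_comp f g := by
    ext1
    refine FreeAbelianGroup.lift_ext _ _ fun h => ?_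
    simp [FreeAbelianGroup.map_of_apply]

/-- The inclusion. -/
noncomputable def yoLE (n : ℕ) : yo.{u} n ⟶ yo.{u} (n + 1) where
  app a := AddCommGrpCat.ofHom
    (FreeAbelianGroup.map fun g => ⟨(homOfLE (Nat.le_succ n)).op ≫ g.down⟩)
  naturality a b f := by
    ext1
    refine FreeAbelianGroup.lift_ext _ _ fun h => ?_
    show FreeAbelianGroup.map _ (FreeAbelianGroup.map _ (FreeAbelianGroup.of h)) =
      FreeAbelianGroup.map _ (FreeAbelianGroup.map _ (FreeAbelianGroup.of h))
    simp only [FreeAbelianGroup.map_of_apply]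
    exact congrArg FreeAbelianGroup.of (ULift.ext _ _ (Subsingleton.elim _ _))

theorem surj_of_injective (P : Tow.{u}) [Injective P] : Surj P := by
  intro n x
  let φ : yo.{u} n ⟶ P :=
    { app := fun a => AddCommGrpCat.ofHom (FreeAbelianGroup.lift fun g => P.map g.down x)
      naturality := fun a b f => by
        ext1
        refine FreeAbelianGroup.lift_ext _ _ fun h => ?_
        simp [yo, FreeAbelianGroup.map_of_apply] }
  haveI : ∀ a, Mono ((yoLE.{u} n).app a) := fun a => by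
    have hinj : Function.Injective
        (fun g : ULift.{u} (op n ⟶ a) => (⟨(homOfLE (Nat.le_succ n)).op ≫ g.down⟩ : ULift.{u} (op (n + 1) ⟶ a))) :=
      fun g g' _ => ULift.ext _ _ (Subsingleton.elim _ _)
    haveI := (mono_iff_injective (↾fun g : ULift.{u} (op n ⟶ a) =>
      (⟨(homOfLE (Nat.le_succ n)).op ≫ g.down⟩ : ULift.{u} (op (n + 1) ⟶ a)))).2 hinj
    exact inferInstanceAs (Mono (AddCommGrpCat.free.map (↾fun g : ULift.{u} (op n ⟶ a) =>
      (⟨(homOfLE (Nat.le_succ n)).op ≫ g.down⟩ : ULift.{u} (op (n + 1) ⟶ a)))))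
  haveI : Mono (yoLE.{u} n) := NatTrans.mono_of_mono_app _
  let ψ := Injective.factorThru φ (yoLE n)
  have hψ : yoLE n ≫ ψ = φ := Injective.comp_factorThru _ _
  refine ⟨ψ.app (op (n + 1)) (FreeAbelianGroup.of ⟨𝟙 _⟩), ?_⟩
  have h1 := (ConcreteCategory.congr_hom (ψ.naturality (homOfLE (Nat.le_succ n)).op)
    (FreeAbelianGroup.of ⟨𝟙 _⟩)).symm
  refine h1.trans ?_
  have h2 := ConcreteCategory.congr_hom (congrArg (fun t => NatTrans.app t (op n)) hψ)
    (FreeAbelianGroup.of ⟨𝟙 _⟩)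
  change ψ.app (op n) (FreeAbelianGroup.map _ (FreeAbelianGroup.of _)) =
    FreeAbelianGroup.lift _ (FreeAbelianGroup.of _) at h2
  rw [FreeAbelianGroup.map_of_apply, FreeAbelianGroup.lift_apply_of] at h2
  show ψ.app (op n) (FreeAbelianGroup.map _ (FreeAbelianGroup.of _)) = x
  rw [FreeAbelianGroup.map_of_apply]
  have e : (⟨𝟙 (op (n + 1)) ≫ (homOfLE (Nat.le_succ n)).op⟩ : ULift.{u} (op (n + 1) ⟶ op n)) =
      ⟨(homOfLE (Nat.le_succ n)).op ≫ 𝟙 (op n)⟩ := ULift.ext _ _ (Subsingleton.elim _ _)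
  rw [e]
  exact h2.trans (by simp)

theorem surj_of_epi {P Q : Tow.{u}} (g : P ⟶ Q) [Epi g] (hP : Surj P) : Surj Q := by
  intro n y
  obtain ⟨x, rfl⟩ := (AddCommGrpCat.epi_iff_surjective (g.app (op n))).1 inferInstance y
  obtain ⟨x', rfl⟩ := hP n x
  exact ⟨g.app _ x', (ConcreteCategory.congr_hom (g.naturality _) x').symm⟩

theorem exact_app {S : ShortComplex (Tow.{u})} (hS : S.Exact) (a : ℕᵒᵖ) (x : S.X₂.obj a)
    (hx : S.g.app a x = 0) : ∃ y, S.f.app a y = x :=
  (ShortComplex.ab_exact_iff _).1 (hS.map ((evaluation ℕᵒᵖ AddCommGrpCat.{u}).obj a)) x hx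

theorem lim_exact {S : ShortComplex (Tow.{u})} (hS : S.Exact)
    [(lim : Tow.{u} ⥤ AddCommGrpCat.{u}).Additive]
    (h : ∀ (n : ℕ) (y : S.X₁.obj (op n)), S.f.app _ y = 0 →
      ∃ z : S.X₁.obj (op (n + 1)), S.f.app _ z = 0 ∧ S.X₁.map (homOfLE (Nat.le_succ n)).op z = y) : (S.map (lim : Tow.{u} ⥤ AddCommGrpCat.{u})).Exact := by
  rw [ShortComplex.ab_exact_iff]
  intro x hx
  let xn : ∀ n : ℕ, S.X₂.obj (op n) := fun n => limit.π S.X₂ (op n) x
  have hxn : ∀ n, S.X₂.map (homOfLE (Nat.le_succ n)).op (xn (n + 1)) = xn n := fun n =>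
    ConcreteCategory.congr_hom (limit.w S.X₂ (homOfLE (Nat.le_succ n)).op) x
  have hg : ∀ n, S.g.app (op n) (xn n) = 0 := fun n => by
    have := ConcreteCategory.congr_hom (limMap_π S.g (op n)) x
    refine this.symm.trans ?_
    change limit.π S.X₃ (op n) (((lim : Tow.{u} ⥤ AddCommGrpCat.{u}).map S.g) x) = 0
    erw [hx]
    exact map_zero _
  have step : ∀ (n : ℕ) (y : S.X₁.obj (op n)), S.f.app _ y = xn n →
      ∃ z : S.X₁.obj (op (n + 1)), S.f.app _ z = xn (n + 1) ∧
        S.X₁.map (homOfLE (Nat.le_succ n)).op z = y := by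
    intro n y hy
    obtain ⟨z, hz⟩ := exact_app hS (op (n + 1)) _ (hg (n + 1))
    have : S.f.app (op n) (y - S.X₁.map (homOfLE (Nat.le_succ n)).op z) = 0 := by
      rw [map_sub, hy, NatTrans.naturality_apply S.f, hz, hxn, sub_self]
    obtain ⟨w, hw, hw'⟩ := h n _ this
    exact ⟨z + w, by rw [map_add, hz, hw, add_zero], by rw [map_add, hw', add_sub_cancel]⟩
  choose nx hnx hnx' using step
  obtain ⟨y0, hy0⟩ := exact_app hS (op 0) _ (hg 0)
  let y : ∀ n : ℕ, {y : S.X₁.obj (op n) // S.f.app _ y = xn n} := fun n =>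
    Nat.rec ⟨y0, hy0⟩ (fun k p => ⟨nx k p.1 p.2, hnx k p.1 p.2⟩) n
  obtain ⟨z, hz⟩ := LimHomLib.exists_limit (𝟭 AddCommGrpCat.{u}) (F := S.X₁) (fun a => (y a.unop).1)
    (fun f => LimHomLib.compatible_of_succ (fun n => (y n).1) (fun n => hnx' n _ _) f)
  refine ⟨z, LimHomLib.limit_ext (𝟭 AddCommGrpCat.{u}) fun a => ?_⟩
  show limit.π S.X₂ a (((lim : Tow.{u} ⥤ AddCommGrpCat.{u}).map S.f) z) = limit.π S.X₂ a x
  have h1 := ConcreteCategory.congr_hom (limMap_π S.f a) z
  refine h1.trans ?_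
  show S.f.app a (limit.π S.X₁ a z) = _
  rw [show limit.π S.X₁ a z = (y a.unop).1 from hz a]
  exact (y a.unop).2

open CategoryTheory CategoryTheory.Limits in
/-- For abelian groups, for an inverse system (A_n) of abelian groups indexed by the natural numbers,
the right derived functors lim^(i) A_n of the inverse limit vanish for every i ≥ 2. (The two
instance hypotheses, enough injectives in the category of towers of abelian groups and additivity of
the limit functor, always hold. The published statement is made in an axiomatic setting that also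
covers quasi-coherent sheaves; this row is the case of abelian groups.) -/
theorem result
    [EnoughInjectives (ℕᵒᵖ ⥤ AddCommGrpCat.{u})]
    [(lim : (ℕᵒᵖ ⥤ AddCommGrpCat.{u}) ⥤ AddCommGrpCat.{u}).Additive]
    (A : ℕᵒᵖ ⥤ AddCommGrpCat.{u}) (i : ℕ) (hi : 2 ≤ i) :
    IsZero (((lim : (ℕᵒᵖ ⥤ AddCommGrpCat.{u}) ⥤ AddCommGrpCat.{u}).rightDerived i).obj A) := by
  have h1 : ∀ K : CochainComplex (Tow.{u}) ℕ, (∀ i, Surj (K.X i)) → K.Acyclic →
      (((lim : Tow.{u} ⥤ AddCommGrpCat.{u}).mapHomologicalComplex (ComplexShape.up ℕ)).obj K).Acyclic := by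
    intro K hK hac i
    cases i with
    | zero =>
      have h := hac 0
      rw [HomologicalComplex.exactAt_iff' _ 0 0 1 (by simp) (by simp)] at h ⊢
      refine lim_exact (S := K.sc' 0 0 1) h (fun n y _ => ⟨(hK 0 n y).choose, ?_, (hK 0 n y).choose_spec⟩)
      show (K.d 0 0).app _ _ = 0
      rw [K.shape 0 0 (by simp)]
      rfl
    | succ j =>
      have h := hac (j + 1)
      rw [HomologicalComplex.exactAt_iff' _ j (j + 1) (j + 1 + 1) (by simp) (by simp)] at h ⊢
      refine lim_exact (S := K.sc' j (j + 1) (j + 1 + 1)) h (fun n y hy => ?_)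
      change (K.d j (j + 1)).app _ y = 0 at hy
      cases j with
      | zero =>
        have h0 := hac 0
        rw [HomologicalComplex.exactAt_iff' _ 0 0 1 (by simp) (by simp)] at h0
        obtain ⟨y', hy'⟩ := exact_app h0 (op n) y hy
        change (K.d 0 0).app _ y' = y at hy'
        rw [K.shape 0 0 (by simp)] at hy'
        obtain rfl : (0 : (K.X 0).obj (op n)) = y := hy'
        exact ⟨0, map_zero _, map_zero _⟩
      | succ m =>
        have hm := hac (m + 1)
        rw [HomologicalComplex.exactAt_iff' _ m (m + 1) (m + 1 + 1) (by simp) (by simp)] at hm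
        obtain ⟨y', rfl⟩ := exact_app hm (op n) y hy
        obtain ⟨z', rfl⟩ := hK m n y'
        refine ⟨(K.d m (m + 1)).app _ z', ?_, (NatTrans.naturality_apply (K.d m (m + 1)) _ z').symm⟩
        show (K.d (m + 1) (m + 1 + 1)).app _ ((K.d m (m + 1)).app _ z') = 0
        rw [← ConcreteCategory.comp_apply, ← NatTrans.comp_app, K.d_comp_d]
        rfl
  have h0 : ∀ X Y : Tow.{u}, Surj X → Surj Y → Surj (X ⊞ Y) := fun X Y hX hY n x => by
    obtain ⟨a, ha⟩ := hX n ((biprod.fst : X ⊞ Y ⟶ X).app _ x)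
    obtain ⟨b, hb⟩ := hY n ((biprod.snd : X ⊞ Y ⟶ Y).app _ x)
    refine ⟨(biprod.inl : X ⟶ X ⊞ Y).app _ a + (biprod.inr : Y ⟶ X ⊞ Y).app _ b, ?_⟩
    rw [map_add, ← NatTrans.naturality_apply (biprod.inl : X ⟶ X ⊞ Y),
      ← NatTrans.naturality_apply (biprod.inr : Y ⟶ X ⊞ Y), ha, hb]
    exact ConcreteCategory.congr_hom (congrArg (fun t => NatTrans.app t (op n)) (biprod.total (X := X) (Y := Y))) x
  have h2 : ∀ X : Tow.{u}, ∃ (Y : Tow.{u}) (ι : X ⟶ Y), Surj Y ∧ Mono ι := fun X =>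
    ⟨_, Injective.ι X, surj_of_injective _, inferInstance⟩
  obtain ⟨k, rfl⟩ : ∃ k, i = k + 1 + 1 := ⟨i - 2, by omega⟩
  let u := Injective.ι A
  have hS : (ShortComplex.mk u (cokernel.π u) (cokernel.condition u)).ShortExact :=
    { exact := ShortComplex.exact_cokernel u }
  have hQ := Groth.Agent.S8626.result (lim : Tow.{u} ⥤ AddCommGrpCat.{u}) Surj h0 h1 h2 (cokernel u)
    (surj_of_epi (cokernel.π u) (surj_of_injective _)) (k + 1) (Nat.succ_pos k)
  refine Groth.Agent.RDerLib.isZero_X₁_succ hS (k + 1)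
    (Functor.isZero_rightDerived_obj_injective_succ _ _ _) ?_
  exact ⟨fun a b _ => hQ.eq_of_src a b⟩

end Groth.Agent.S15307
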