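import Groth.Statements.S15316
import Groth.Agent.NodeLib.Struct


-- import your own Groth.Agent.* helpers here

set_option autoImplicit false
universe u
open ArLef ArLef.NodeAlg

namespace Groth.Agent.S15316

/-- Let B be a discrete valuation ring with uniformizer π and N = B[[t, e]]/(te - π) the complete local
ring of a semi-stable arithmetic surface at a singular point of the closed fibre. A ring
automorphism σ of N with σ(π) associated to π (for instance a B-algebra automorphism, or one lying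
over an automorphism of B) either stabilizes the two branches, σ(t) = α t and σ(e) = β e for units
α, β, or switches them, σ(t) = α e and σ(e) = β t for units α, β. (The published setting has B
complete with algebraically closed residue field and σ linear over B or over an automorphism of B;
the argument uses only that σ(π) generates (π).) -/
theorem result (B : Type u) [CommRing B] [IsDomain B] [IsDiscreteValuationRing B] (π : B) (hπ : Irreducible π)
    (σ : ArLef.NodeAlg B π ≃+* ArLef.NodeAlg B π)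
    (hσ : Associated (σ (algebraMap B (ArLef.NodeAlg B π) π)) (algebraMap B (ArLef.NodeAlg B π) π)) :
    (∃ α β : (ArLef.NodeAlg B π)ˣ, σ (ArLef.NodeAlg.t π) = (α : ArLef.NodeAlg B π) * ArLef.NodeAlg.t π ∧ σ (ArLef.NodeAlg.e π) = (β : ArLef.NodeAlg B π) * ArLef.NodeAlg.e π) ∨
      (∃ α β : (ArLef.NodeAlg B π)ˣ, σ (ArLef.NodeAlg.t π) = (α : ArLef.NodeAlg B π) * ArLef.NodeAlg.e π ∧ σ (ArLef.NodeAlg.e π) = (β : ArLef.NodeAlg B π) * ArLef.NodeAlg.t π) := by
  haveI := NodeLib.isLocalRing_node π hπ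
  haveI := NodeLib.isDomain_node π hπ
  obtain ⟨u, hu⟩ := hσ
  have hprod : σ (ArLef.NodeAlg.t π) * σ (ArLef.NodeAlg.e π) * (u : ArLef.NodeAlg B π) = ArLef.NodeAlg.t π * ArLef.NodeAlg.e π := by
    rw [← map_mul, NodeLib.te_eq, hu]
  have hpt : Prime (σ (ArLef.NodeAlg.t π)) := (MulEquiv.prime_iff σ.toMulEquiv).2 (NodeLib.prime_t π hπ)
  have hd : σ (ArLef.NodeAlg.t π) ∣ ArLef.NodeAlg.t π * ArLef.NodeAlg.e π := ⟨σ (ArLef.NodeAlg.e π) * u, by rw [← hprod]; ring⟩
  rcases hpt.dvd_or_dvd hd with h | h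
  · obtain ⟨α, hα⟩ := hpt.associated_of_dvd (NodeLib.prime_t π hπ) h
    refine Or.inl ⟨α⁻¹, α * u⁻¹, ?_, ?_⟩
    · exact ((Units.eq_mul_inv_iff_mul_eq α).2 hα).trans (mul_comm _ _)
    · refine mul_left_cancel₀ hpt.ne_zero ?_
      calc σ (ArLef.NodeAlg.t π) * σ (ArLef.NodeAlg.e π)
          = σ (ArLef.NodeAlg.t π) * σ (ArLef.NodeAlg.e π) * (u : ArLef.NodeAlg B π) * ((u⁻¹ : (ArLef.NodeAlg B π)ˣ) : ArLef.NodeAlg B π) := by simp [mul_assoc]
        _ = _ := by rw [hprod]; push_cast; linear_combination -(ArLef.NodeAlg.e π * ((u⁻¹ : (ArLef.NodeAlg B π)ˣ) : ArLef.NodeAlg B π)) * hα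
  · obtain ⟨α, hα⟩ := hpt.associated_of_dvd (NodeLib.prime_e π hπ) h
    refine Or.inr ⟨α⁻¹, α * u⁻¹, ?_, ?_⟩
    · exact ((Units.eq_mul_inv_iff_mul_eq α).2 hα).trans (mul_comm _ _)
    · refine mul_left_cancel₀ hpt.ne_zero ?_
      calc σ (ArLef.NodeAlg.t π) * σ (ArLef.NodeAlg.e π)
          = σ (ArLef.NodeAlg.t π) * σ (ArLef.NodeAlg.e π) * (u : ArLef.NodeAlg B π) * ((u⁻¹ : (ArLef.NodeAlg B π)ˣ) : ArLef.NodeAlg B π) := by simp [mul_assoc]
        _ = _ := by rw [hprod]; push_cast; linear_combination -(ArLef.NodeAlg.t π * ((u⁻¹ : (ArLef.NodeAlg B π)ˣ) : ArLef.NodeAlg B π)) * hα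

end Groth.Agent.S15316
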