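import Groth.Statements.S15317
import Groth.Agent.NodeLib.Struct


-- import your own Groth.Agent.* helpers here

set_option autoImplicit false
universe u
open ArLef ArLef.NodeAlg

namespace Groth.Agent.S15317

/-- Let B be a discrete valuation ring with uniformizer π, N = B[[t, e]]/(te - π), and σ a non-trivial
B-algebra automorphism of N stabilizing both branches of the closed fibre (σ(t) associated to t,
σ(e) associated to e). Then the fixed-point ideal of σ, generated by all σ(r) - r, is g·(t, e) for a
non-zero g: the divisorial part of the fixed locus is cut out by g and its residual part is the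
reduced closed point, of multiplicity one. (Stated in the complete local ring, where the published
argument takes place; the published setting has B complete with algebraically closed residue field.) -/
theorem result (B : Type u) [CommRing B] [IsDomain B] [IsDiscreteValuationRing B] (π : B) (hπ : Irreducible π)
    (σ : ArLef.NodeAlg B π ≃ₐ[B] ArLef.NodeAlg B π) (hσ : σ ≠ AlgEquiv.refl)
    (ht : Associated (σ (ArLef.NodeAlg.t π)) (ArLef.NodeAlg.t π))
    (he : Associated (σ (ArLef.NodeAlg.e π)) (ArLef.NodeAlg.e π)) :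
    ∃ g : ArLef.NodeAlg B π, g ≠ 0 ∧
      ArLef.fixIdeal σ = Ideal.span {g} * Ideal.span ({ArLef.NodeAlg.t π, ArLef.NodeAlg.e π} : Set (ArLef.NodeAlg B π)) := by
  haveI := NodeLib.isLocalRing_node π hπ
  haveI := NodeLib.isDomain_node π hπ
  obtain ⟨α, hα⟩ := ht.symm
  obtain ⟨β, hβ⟩ := he.symm
  set t := ArLef.NodeAlg.t π
  set e := ArLef.NodeAlg.e π
  have hab : (α : ArLef.NodeAlg B π) * β = 1 := by
    refine mul_left_cancel₀ (mul_ne_zero (NodeLib.prime_t π hπ).ne_zero (NodeLib.prime_e π hπ).ne_zero) ?_
    have := σ.commutes π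
    rw [← NodeLib.te_eq, map_mul, ← hα, ← hβ] at this
    linear_combination this
  have hle : ∀ I : Ideal (ArLef.NodeAlg B π), σ t - t ∈ I → σ e - e ∈ I → ArLef.fixIdeal σ ≤ I := fun I h1 h2 =>
    NodeLib.fix_le_node π hπ σ.toRingEquiv.toRingHom I h1 h2 fun b => by
      show σ (algebraMap B _ b) - algebraMap B _ b ∈ I
      simp
  refine ⟨(α : ArLef.NodeAlg B π) - 1, fun h0 => hσ ?_, le_antisymm (hle _ ?_ ?_) ?_⟩
  · have h1 : σ t = t := by rw [← hα, sub_eq_zero.1 h0, mul_one]
    have h2 : σ e = e := by rw [sub_eq_zero.1 h0, one_mul] at hab; rw [← hβ, hab, mul_one]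
    apply AlgEquiv.ext
    intro r
    have := hle ⊥ (by simp [h1]) (by simp [h2]) (Ideal.subset_span ⟨r, rfl⟩)
    rw [Submodule.mem_bot, sub_eq_zero] at this
    exact this
  · rw [← hα, show t * (α : ArLef.NodeAlg B π) - t = ((α : ArLef.NodeAlg B π) - 1) * t by ring]
    exact Ideal.mul_mem_mul (Ideal.mem_span_singleton_self _) (Ideal.subset_span (by simp [t]))
  · rw [← hβ, show e * (β : ArLef.NodeAlg B π) - e = ((α : ArLef.NodeAlg B π) - 1) * (e * -(β : ArLef.NodeAlg B π)) by linear_combination e * hab]
    exact Ideal.mul_mem_mul (Ideal.mem_span_singleton_self _) (Ideal.mul_mem_right _ _ (Ideal.subset_span (by simp [e])))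
  · rw [Ideal.span_mul_span', Ideal.span_le]
    rintro _ ⟨x, rfl, y, (rfl | rfl), rfl⟩
    · show ((α : ArLef.NodeAlg B π) - 1) * t ∈ _
      rw [show ((α : ArLef.NodeAlg B π) - 1) * t = σ t - t by rw [← hα]; ring]
      exact Ideal.subset_span ⟨t, rfl⟩
    · show ((α : ArLef.NodeAlg B π) - 1) * e ∈ _
      rw [show ((α : ArLef.NodeAlg B π) - 1) * e = -(α : ArLef.NodeAlg B π) * (σ e - e) by rw [← hβ]; linear_combination e * hab]
      exact Ideal.mul_mem_left _ _ (Ideal.subset_span ⟨e, rfl⟩)

end Groth.Agent.S15317
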