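import Groth.Statements.S15318
import Groth.Agent.NodeLib.Struct


-- import your own Groth.Agent.* helpers here

set_option autoImplicit false
universe u
open ArLef ArLef.NodeAlg

namespace Groth.Agent.S15318

/-- Let B be a discrete valuation ring with uniformizer π, N = B[[t, e]]/(te - π), and σ a B-algebra
automorphism of N switching the two branches of the closed fibre (σ(t) associated to e, σ(e)
associated to t). Then the fixed-point ideal of σ is principal, generated by an element h of order
one (h is not in (t, e)²), and π is a non-zero-divisor modulo h: the fixed locus is a horizontal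
regular divisor through the point with empty residual part. (Stated in the complete local ring,
where the published argument takes place; the published setting has B complete with algebraically
closed residue field.) -/
theorem result (B : Type u) [CommRing B] [IsDomain B] [IsDiscreteValuationRing B] (π : B) (hπ : Irreducible π)
    (σ : ArLef.NodeAlg B π ≃ₐ[B] ArLef.NodeAlg B π)
    (ht : Associated (σ (ArLef.NodeAlg.t π)) (ArLef.NodeAlg.e π))
    (he : Associated (σ (ArLef.NodeAlg.e π)) (ArLef.NodeAlg.t π)) :
    ∃ h : ArLef.NodeAlg B π, ArLef.fixIdeal σ = Ideal.span {h} ∧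
      h ∉ (Ideal.span ({ArLef.NodeAlg.t π, ArLef.NodeAlg.e π} : Set (ArLef.NodeAlg B π))) ^ 2 ∧
      IsSMulRegular (ArLef.NodeAlg B π ⧸ Ideal.span ({h} : Set (ArLef.NodeAlg B π))) π := by
  haveI := NodeLib.isLocalRing_node π hπ
  haveI := NodeLib.isDomain_node π hπ
  obtain ⟨α, hα⟩ := ht.symm
  obtain ⟨β, hβ⟩ := he.symm
  set t := ArLef.NodeAlg.t π with htdef
  set e := ArLef.NodeAlg.e π with hedef
  have hab : (α : ArLef.NodeAlg B π) * β = 1 := by
    refine mul_left_cancel₀ (mul_ne_zero (NodeLib.prime_t π hπ).ne_zero (NodeLib.prime_e π hπ).ne_zero) ?_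
    have := σ.commutes π
    rw [← NodeLib.te_eq, map_mul, ← hα, ← hβ] at this
    linear_combination this
  set h := t - e * (α : ArLef.NodeAlg B π) with hh
  refine ⟨h, le_antisymm ?_ ?_, ?_, ?_⟩
  · refine NodeLib.fix_le_node π hπ σ.toRingEquiv.toRingHom _ ?_ ?_ fun b => ?_
    · show σ t - t ∈ _
      rw [← hα, show e * (α : ArLef.NodeAlg B π) - t = -h by rw [hh]; ring]
      exact neg_mem (Ideal.mem_span_singleton_self h)
    · show σ e - e ∈ _
      rw [← hβ, show t * (β : ArLef.NodeAlg B π) - e = β * h by rw [hh]; linear_combination e * hab]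
      exact Ideal.mul_mem_left _ _ (Ideal.mem_span_singleton_self h)
    · show σ (algebraMap B _ b) - algebraMap B _ b ∈ _
      simp
  · rw [Ideal.span_singleton_le_iff_mem, show h = -(σ t - t) by rw [hh, ← hα]; ring]
    exact neg_mem (Ideal.subset_span ⟨t, rfl⟩)
  · intro hm
    have hb := Ideal.mem_map_of_mem (NodeLib.branch π hπ 1) hm
    rw [Ideal.map_pow, Ideal.map_span, Set.image_pair, (NodeLib.branch_t π hπ).1, (NodeLib.branch_e π hπ).2,
      Ideal.span_insert_zero, Ideal.span_singleton_pow, Ideal.mem_span_singleton, hh, map_sub, map_mul,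
      (NodeLib.branch_t π hπ).1, (NodeLib.branch_e π hπ).2, zero_sub, dvd_neg, pow_two] at hb
    obtain ⟨c, hc⟩ := hb
    rw [mul_assoc] at hc
    have := mul_left_cancel₀ PowerSeries.X_ne_zero hc
    have hu : IsUnit (NodeLib.branch π hπ 1 (α : ArLef.NodeAlg B π)) := α.isUnit.map _
    rw [this] at hu
    exact PowerSeries.X_prime.not_isUnit (isUnit_of_mul_isUnit_left hu)
  · intro x y hxy
    obtain ⟨r, rfl⟩ := Ideal.Quotient.mk_surjective x
    obtain ⟨s, rfl⟩ := Ideal.Quotient.mk_surjective y
    dsimp only at hxy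
    change Ideal.Quotient.mk (Ideal.span {h}) (π • r) = Ideal.Quotient.mk (Ideal.span {h}) (π • s) at hxy
    have hsm : ∀ x : ArLef.NodeAlg B π, π • x = algebraMap B (ArLef.NodeAlg B π) π * x := fun x => by
      obtain ⟨f, rfl⟩ := Ideal.Quotient.mk_surjective x
      show Ideal.Quotient.mk _ (π • f) = Ideal.Quotient.mk _ (algebraMap B (MvPowerSeries (Fin 2) B) π) * Ideal.Quotient.mk _ f
      rw [← map_mul, Algebra.smul_def]
    rw [Ideal.Quotient.eq, Ideal.mem_span_singleton, hsm, hsm, ← mul_sub, ← NodeLib.te_eq, mul_assoc] at hxy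
    rw [Ideal.Quotient.eq, Ideal.mem_span_singleton]
    have hht : ¬ t ∣ h := fun hd => by
      have hd' : t ∣ e * (α : ArLef.NodeAlg B π) := by
        have := dvd_sub (dvd_refl t) hd
        rwa [hh, sub_sub_cancel] at this
      exact NodeLib.t_not_dvd_e π hπ (Units.dvd_mul_right.1 hd')
    have hhe : ¬ e ∣ h := fun hd => by
      have := dvd_add hd (dvd_mul_right e (α : ArLef.NodeAlg B π))
      rw [hh, sub_add_cancel] at this
      exact NodeLib.e_not_dvd_t π hπ this
    exact NodeLib.regular_of_prime (NodeLib.prime_e π hπ) hhe _ (NodeLib.regular_of_prime (NodeLib.prime_t π hπ) hht _ hxy)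

end Groth.Agent.S15318
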