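import Groth.Statements.S15319
import Groth.Agent.NodeLib.Struct


-- import your own Groth.Agent.* helpers here

set_option autoImplicit false
universe u
open ArLef ArLef.NodeAlg

namespace Groth.Agent.S15319

/-- Let B be a discrete valuation ring with uniformizer π, N = B[[t, e]]/(te - π) the complete local
ring of a semi-stable arithmetic surface over B at a singular point of the closed fibre, and σ a
ring automorphism of N sending π to π + γ π^j with γ a unit of B and j ≥ 1 (σ lies over an
automorphism τ of B with v(τ(π) - π) = j). Then the fixed-point ideal of σ is not contained in (π^j)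
= (t^j e^j): the two branches through the point cannot both occur with multiplicity j in the
divisorial part of the fixed locus. (The published setting has B complete with algebraically closed
residue field.) -/
theorem result (B : Type u) [CommRing B] [IsDomain B] [IsDiscreteValuationRing B] (π : B) (hπ : Irreducible π)
    (j : ℕ) (hj : 1 ≤ j) (γ : B) (hγ : IsUnit γ)
    (σ : ArLef.NodeAlg B π ≃+* ArLef.NodeAlg B π)
    (hσ : σ (algebraMap B (ArLef.NodeAlg B π) π) = algebraMap B (ArLef.NodeAlg B π) (π + γ * π ^ j)) :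
    ¬ ArLef.fixIdeal σ ≤ Ideal.span ({algebraMap B (ArLef.NodeAlg B π) (π ^ j)} : Set (ArLef.NodeAlg B π)) := by
  haveI := NodeLib.isLocalRing_node π hπ
  haveI := NodeLib.isDomain_node π hπ
  intro hle
  obtain ⟨a, ha⟩ := Ideal.mem_span_singleton.1 (hle (Ideal.subset_span ⟨ArLef.NodeAlg.t π, rfl⟩))
  obtain ⟨b, hb⟩ := Ideal.mem_span_singleton.1 (hle (Ideal.subset_span ⟨ArLef.NodeAlg.e π, rfl⟩))
  set P := algebraMap B (ArLef.NodeAlg B π) π with hP
  rw [map_pow] at ha hb
  have hte : ArLef.NodeAlg.t π * ArLef.NodeAlg.e π = P := NodeLib.te_eq π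
  have hs := hσ
  rw [← hte, map_mul, eq_add_of_sub_eq ha, eq_add_of_sub_eq hb, map_add, map_mul, map_pow, ← hP] at hs
  have hP0 : P ≠ 0 := hte ▸ mul_ne_zero (NodeLib.prime_t π hπ).ne_zero (NodeLib.prime_e π hπ).ne_zero
  have hγ' : algebraMap B (ArLef.NodeAlg B π) γ = a * ArLef.NodeAlg.e π + b * ArLef.NodeAlg.t π + P ^ j * a * b := by
    refine mul_left_cancel₀ (pow_ne_zero j hP0) ?_
    linear_combination hte - hs
  have hm : algebraMap B (ArLef.NodeAlg B π) γ ∈ IsLocalRing.maximalIdeal (ArLef.NodeAlg B π) := by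
    rw [hγ']
    refine add_mem (add_mem (Ideal.mul_mem_left _ _ (NodeLib.e_mem_max π hπ)) (Ideal.mul_mem_left _ _ (NodeLib.t_mem_max π hπ))) ?_
    exact Ideal.mul_mem_right _ _ (Ideal.mul_mem_right _ _ (Ideal.pow_mem_of_mem _ (NodeLib.map_pi_mem_max π hπ) j hj))
  exact (IsLocalRing.mem_maximalIdeal _).1 hm (hγ.map _)

end Groth.Agent.S15319
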