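import Groth.Statements.S15322


-- import your own Groth.Agent.* helpers here

set_option autoImplicit false
universe u
open CategoryTheory AlgebraicGeometry
open ArLef

namespace Groth.Agent.S15322

/-- Let f : D → C be a morphism, τ an automorphism of C and σ an automorphism of D with σ f = f τ; call
σ a good lifting of τ when the fixed-point scheme of σ is the full preimage of that of τ, i.e. every
morphism z : Z → D with z f τ = z f has z σ = z. If f is etale, separated and surjective with D
connected and the fixed-point scheme of τ is non-empty (some point of C, with its residue field, is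
fixed by τ), then τ has at most one good lifting. (The published statement is for a finite etale
cover of smooth projective irreducible curves over a field and a non-trivial τ; the argument uses
only the hypotheses stated here.) -/
theorem result {C D : Scheme.{u}} (f : D ⟶ C) [Etale f] [IsSeparated f] [Surjective f]
    [ConnectedSpace D] (τ : C ≅ C) (σ σ' : D ≅ D)
    (hσ : σ.hom ≫ f = f ≫ τ.hom) (hσ' : σ'.hom ≫ f = f ≫ τ.hom)
    (good : ∀ (Z : Scheme.{u}) (z : Z ⟶ D), z ≫ f ≫ τ.hom = z ≫ f → z ≫ σ.hom = z)
    (good' : ∀ (Z : Scheme.{u}) (z : Z ⟶ D), z ≫ f ≫ τ.hom = z ≫ f → z ≫ σ'.hom = z)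
    (x : C) (hx : C.fromSpecResidueField x ≫ τ.hom = C.fromSpecResidueField x) :
    σ = σ' := by
  classical
  let p := Limits.pullback.fst (Limits.pullback.lift σ.hom σ'.hom (hσ.trans hσ'.symm) : D ⟶ Limits.pullback f f) (Limits.pullback.diagonal f)
  let q := Limits.pullback.snd (Limits.pullback.lift σ.hom σ'.hom (hσ.trans hσ'.symm) : D ⟶ Limits.pullback f f) (Limits.pullback.diagonal f)
  have w : p ≫ (Limits.pullback.lift σ.hom σ'.hom (hσ.trans hσ'.symm) : D ⟶ Limits.pullback f f) = q ≫ Limits.pullback.diagonal f :=
    Limits.pullback.condition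
  have e1 : (Limits.pullback.lift σ.hom σ'.hom (hσ.trans hσ'.symm) : D ⟶ Limits.pullback f f) ≫ Limits.pullback.fst f f = σ.hom :=
    Limits.pullback.lift_fst _ _ _
  have e2 : (Limits.pullback.lift σ.hom σ'.hom (hσ.trans hσ'.symm) : D ⟶ Limits.pullback f f) ≫ Limits.pullback.snd f f = σ'.hom :=
    Limits.pullback.lift_snd _ _ _
  have h1 : p ≫ σ.hom = q := by
    have := congrArg (· ≫ Limits.pullback.fst f f) w
    erw [Category.assoc, Category.assoc, Limits.pullback.lift_fst, Limits.pullback.diagonal_fst, Category.comp_id] at this
    exact this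
  have h2 : p ≫ σ'.hom = q := by
    have := congrArg (· ≫ Limits.pullback.snd f f) w
    erw [Category.assoc, Category.assoc, Limits.pullback.lift_snd, Limits.pullback.diagonal_snd, Category.comp_id] at this
    exact this
  obtain ⟨y, rfl⟩ := f.surjective x
  have hz : D.fromSpecResidueField y ≫ f ≫ τ.hom = D.fromSpecResidueField y ≫ f := by
    rw [← Category.assoc, ← Scheme.Hom.SpecMap_residueFieldMap_fromSpecResidueField, Category.assoc, hx]
  have hzeq : D.fromSpecResidueField y ≫ (Limits.pullback.lift σ.hom σ'.hom (hσ.trans hσ'.symm) : D ⟶ Limits.pullback f f)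
      = D.fromSpecResidueField y ≫ Limits.pullback.diagonal f :=
    Limits.pullback.hom_ext
      (by rw [Category.assoc, e1]; erw [Category.assoc (D.fromSpecResidueField y) (Limits.pullback.diagonal f), Limits.pullback.diagonal_fst, Category.comp_id]; exact good _ _ hz)
      (by rw [Category.assoc, e2]; erw [Category.assoc (D.fromSpecResidueField y) (Limits.pullback.diagonal f), Limits.pullback.diagonal_snd, Category.comp_id]; exact good' _ _ hz)
  let l := Limits.pullback.lift (D.fromSpecResidueField y) (D.fromSpecResidueField y) hzeq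
  have hl : l ≫ p = D.fromSpecResidueField y := Limits.pullback.lift_fst _ _ _
  haveI : IsOpenImmersion p := MorphismProperty.pullback_fst (P := @IsOpenImmersion) _ _ inferInstance
  haveI : IsClosedImmersion p := MorphismProperty.pullback_fst (P := @IsClosedImmersion) _ _ inferInstance
  have huniv : Set.range p = Set.univ := by
    refine IsClopen.eq_univ ⟨p.isClosedEmbedding.isClosed_range, p.isOpenEmbedding.isOpen_range⟩ ⟨y, ?_⟩
    obtain ⟨s⟩ : Nonempty (Spec (D.residueField y) : Scheme.{u}) := inferInstance
    refine ⟨l s, ?_⟩
    rw [← Scheme.Hom.comp_apply, hl, Scheme.fromSpecResidueField_apply]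
  haveI : Surjective p := ⟨Set.range_eq_univ.1 huniv⟩
  haveI : Epi p.base := (TopCat.epi_iff_surjective _).2 p.surjective
  haveI : IsIso p := IsOpenImmersion.isIso p
  ext1
  rw [← cancel_epi p, h1, h2]

end Groth.Agent.S15322
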