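import Groth.Statements.S15327
import Groth.Statements.S15327
import Mathlib.LinearAlgebra.Matrix.ToLinearEquiv
import Mathlib.LinearAlgebra.Matrix.DotProduct
import Mathlib.Tactic

set_option autoImplicit false
open ArLef ArLef.BlowupGraph

namespace Groth.Agent.S15327

open Finset Matrix

variable {n : ℕ} (G : ArLef.BlowupGraph n)

/-- Proximity matrix. -/
def prox : Matrix (Fin n) (Fin n) ℚ := fun m p => if p ∈ G.par m then 1 else 0

/-- Total transforms in terms of strict transforms. -/
def tot : Matrix (Fin n) (Fin n) ℚ := fun k m => (G.tt k m : ℚ)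

theorem tot_mul : tot G * (1 - (prox G)ᵀ) = 1 := by
  ext k m
  have h : G.tt k m = (if m = k then 1 else 0) + ∑ p ∈ G.par m, G.tt k p := by
    unfold ArLef.BlowupGraph.tt
    have h0 : ∀ p ∈ G.par m, m ≤ k → G.ttN k.1 p.1 = 0 := fun p hp hm => by
      rw [ArLef.BlowupGraph.ttN, if_pos (show p.1 < k.1 from lt_of_lt_of_le (G.par_lt m p hp) hm)]
    rw [ArLef.BlowupGraph.ttN]
    rcases lt_trichotomy m.1 k.1 with h | h | h
    · rw [if_pos h, if_neg (Fin.ne_of_lt h), sum_eq_zero fun p hp => h0 p hp h.le, add_zero]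
    · rw [if_neg (by omega), if_pos h, if_pos (Fin.ext h), sum_eq_zero fun p hp => h0 p hp h.le, add_zero]
    · rw [if_neg (by omega), if_neg (by omega), if_neg (Fin.ne_of_gt h), zero_add,
        Finset.sum_attach (G.parN m.1) (fun p => G.ttN k.1 p)]
      simp [ArLef.BlowupGraph.parN, m.isLt]
  rw [Matrix.mul_sub, Matrix.mul_one, Matrix.sub_apply, Matrix.mul_apply, Matrix.one_apply]
  simp only [tot, prox, Matrix.transpose_apply, mul_ite, mul_one, mul_zero]
  rw [h, Finset.sum_ite_mem, Finset.univ_inter]
  push_cast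
  simp [eq_comm (a := m)]

theorem mult_eq : (Matrix.of fun i j => (G.mult i j : ℚ)) = (tot G)ᵀ * tot G := by
  ext i j
  simp [ArLef.BlowupGraph.mult, tot, Matrix.mul_apply]

theorem pair_lt (m p q : Fin n) (hpq : p < q) (hp : p ∈ G.par m) (hq : q ∈ G.par m) : G.par m = {p, q} := by
  refine (Finset.eq_of_subset_of_card_le ?_ ?_).symm
  · intro x hx
    rcases Finset.mem_insert.mp hx with rfl | hx
    · exact hp
    · exact Finset.mem_singleton.mp hx ▸ hq
  · simpa [hpq.ne] using G.card_le_two m

theorem mat_off (p q : Fin n) (hpq : p < q) :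
    G.mat p q = (if p ∈ G.par q then 1 else 0) -
      ∑ m, (if p ∈ G.par m then (1 : ℚ) else 0) * (if q ∈ G.par m then 1 else 0) := by
  have hqp : q ∉ G.par p := fun h => (G.par_lt p q h).not_gt hpq
  simp only [ArLef.BlowupGraph.mat, if_neg hpq.ne, ← ite_and, mul_ite, mul_one, mul_zero]
  by_cases hex : ∃ m, p ∈ G.par m ∧ q ∈ G.par m
  · obtain ⟨m, hp, hq⟩ := hex
    have hu : ∀ m', (p ∈ G.par m' ∧ q ∈ G.par m') → m' = m := by
      intro m' ⟨hp', hq'⟩
      rcases lt_trichotomy m' m with h | h | h
      · exact absurd (pair_lt G m' p q hpq hp' hq') ((G.meet_of_two m p q hp hq hpq).2 m' (G.par_lt m' q hq') h)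
      · exact h
      · exact absurd (pair_lt G m p q hpq hp hq) ((G.meet_of_two m' p q hp' hq' hpq).2 m (G.par_lt m q hq) h)
    have hadj : ¬ G.Adj p q := by
      rintro (⟨_, h⟩ | ⟨h, _⟩)
      · exact h m (G.par_lt m q hq) (pair_lt G m p q hpq hp hq)
      · exact hqp h
    rw [if_neg hadj, if_pos (G.meet_of_two m p q hp hq hpq).1, Finset.sum_eq_single m]
    · simp [hp, hq]
    · intro m' _ hm'
      rw [if_neg]
      exact fun h => hm' (hu m' ⟨h.2, h.1⟩)
    · simp
  · push Not at hex
    rw [Finset.sum_eq_zero fun m _ => by rw [if_neg fun h => hex m h.2 h.1], sub_zero]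
    by_cases h : p ∈ G.par q
    · rw [if_pos h, if_pos]
      exact Or.inl ⟨h, fun m hm e => hex m (by simp [e]) (by simp [e])⟩
    · rw [if_neg h, if_neg]
      rintro (⟨h', _⟩ | ⟨h', _⟩)
      · exact h h'
      · exact hqp h'

theorem mat_eq : G.mat = -((1 - (prox G)ᵀ) * (1 - prox G)) := by
  ext p q
  have hR : (-((1 - (prox G)ᵀ) * (1 - prox G))) p q =
      -((if p = q then 1 else 0) - (if q ∈ G.par p then 1 else 0) - (if p ∈ G.par q then 1 else 0) +
        ∑ m, (if p ∈ G.par m then (1 : ℚ) else 0) * (if q ∈ G.par m then 1 else 0)) := by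
    rw [Matrix.sub_mul, Matrix.one_mul, Matrix.mul_sub, Matrix.mul_one, Matrix.neg_apply,
      Matrix.sub_apply, Matrix.sub_apply, Matrix.sub_apply, Matrix.mul_apply, Matrix.one_apply]
    simp only [prox, Matrix.transpose_apply]
    ring
  rw [hR]
  rcases lt_trichotomy p q with h | rfl | h
  · rw [mat_off G p q h, if_neg h.ne, if_neg fun h' => (G.par_lt p q h').not_gt h]
    ring
  · rw [if_pos rfl, if_neg fun h' => lt_irrefl p (G.par_lt p p h')]
    simp only [ArLef.BlowupGraph.mat, ArLef.BlowupGraph.selfInt, if_true, ← ite_and, and_self, mul_ite,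
      mul_one, mul_zero, Finset.sum_boole]
    push_cast
    ring
  · have hs : G.mat p q = G.mat q p := by
      simp [ArLef.BlowupGraph.mat, ArLef.BlowupGraph.Adj, h.ne, h.ne', or_comm]
    rw [hs, mat_off G q p h, if_neg h.ne', if_neg fun h' => (G.par_lt q p h').not_gt h]
    rw [Finset.sum_congr rfl fun m _ => mul_comm _ _]
    ring

theorem mat_mul_mult : G.mat * (tot G)ᵀ * tot G = -1 := by
  have h1 : (1 - (prox G)ᵀ) * tot G = 1 := mul_eq_one_comm.mp (tot_mul G)
  have h2 : (1 - prox G) * (tot G)ᵀ = 1 := by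
    simpa [Matrix.transpose_mul, Matrix.transpose_sub] using congrArg Matrix.transpose (tot_mul G)
  rw [mat_eq, Matrix.neg_mul, Matrix.neg_mul, Matrix.mul_assoc (1 - (prox G)ᵀ), h2, Matrix.mul_one, h1]

theorem isUnit_det_sub (I : Finset (Fin n)) :
    IsUnit (G.mat.submatrix (fun x : I => x.1) (fun x : I => x.1)).det := by
  rw [isUnit_iff_ne_zero, Ne, ← Matrix.exists_mulVec_eq_zero_iff]
  rintro ⟨v, hv0, hv⟩
  let w : Fin n → ℚ := fun i => if h : i ∈ I then v ⟨i, h⟩ else 0
  have hw : ∀ a : I, w a = v a := fun a => by simp [w, a.2]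
  have hMw : w ⬝ᵥ (G.mat *ᵥ w) = 0 := by
    refine Finset.sum_eq_zero fun i _ => ?_
    by_cases h : i ∈ I
    · have := congrFun hv ⟨i, h⟩
      simp only [Matrix.mulVec, dotProduct, Matrix.submatrix_apply, Pi.zero_apply] at this
      have e : (G.mat *ᵥ w) i = 0 := by
        rw [← this]
        simp only [Matrix.mulVec, dotProduct]
        rw [← Finset.sum_subset (Finset.subset_univ I) fun x _ hx => by simp [w, hx],
          ← Finset.sum_coe_sort]
        exact Finset.sum_congr rfl fun a _ => by rw [hw]
      rw [e, mul_zero]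
    · simp [w, h]
  rw [mat_eq, Matrix.neg_mulVec, dotProduct_neg, neg_eq_zero, ← Matrix.mulVec_mulVec,
    Matrix.dotProduct_mulVec, ← Matrix.mulVec_transpose] at hMw
  simp only [Matrix.transpose_sub, Matrix.transpose_one, Matrix.transpose_transpose] at hMw
  have h2 : (tot G)ᵀ * (1 - prox G) = 1 := mul_eq_one_comm.mp (by
    simpa [Matrix.transpose_mul, Matrix.transpose_sub] using congrArg Matrix.transpose (tot_mul G))
  have hz : w = 0 := by
    rw [← Matrix.one_mulVec w, ← h2, ← Matrix.mulVec_mulVec, dotProduct_self_eq_zero.mp hMw,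
      Matrix.mulVec_zero]
  exact hv0 (funext fun a => by rw [← hw a, hz]; rfl)

/-- Let Φ be the labelled dual graph of the exceptional curves of n successive blow-ups of closed points
starting from a regular surface with algebraically closed residue fields (vertices = exceptional
curves in order of creation, labels = intersection numbers), I any set of vertices (the curves
contracted to a normal surface) and σ a permutation of the vertices preserving all intersection
numbers and the set I. Let e_{ij} be the multiplicity of E_i × E_j in the fibre square of the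
composite blow-down (the sum over k of c^k_i c^k_j, c^k the total transform of the k-th exceptional
curve) and (E_i · E_j)_I Mumford's rational intersection number of the images after contracting I.
Then the sum over i, j outside I of e_{ij} (σ E_i · E_j)_I equals minus the number of σ-fixed
vertices outside I. (Stated for the dual graphs realized with all residue fields equal to the base
field, which is the case the published argument realizes geometrically.) -/
theorem result (n : ℕ) (G : ArLef.BlowupGraph n) (I : Finset (Fin n))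
    (σ : Equiv.Perm (Fin n)) (hσ : ∀ i j : Fin n, G.mat (σ i) (σ j) = G.mat i j)
    (hσI : ∀ i : Fin n, σ i ∈ I ↔ i ∈ I) :
    G.lNum I σ = ArLef.BlowupGraph.rNum I σ := by
  classical
  set A := G.mat.submatrix (fun x : I => x.1) (fun x : I => x.1) with hA
  set K := (tot G)ᵀ * tot G with hK
  have hMK : G.mat * K = -1 := by rw [hK, ← Matrix.mul_assoc, mat_mul_mult]
  have hKM : K * G.mat = -1 := by
    have : G.mat * (-K) = 1 := by rw [Matrix.mul_neg, hMK, neg_neg]
    have := mul_eq_one_comm.mp this
    rw [Matrix.neg_mul] at this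
    exact neg_eq_iff_eq_neg.mp this
  have hKs : ∀ i j, K i j = K j i := fun i j => by
    simp only [hK, Matrix.mul_apply, Matrix.transpose_apply, mul_comm]
  have hAl : ∀ (p : Fin n) (b : I), p ∈ I →
      ∑ a : I, G.mat p a.1 * A⁻¹ a b = if p = b.1 then 1 else 0 := by
    intro p b hp
    have := congrFun (congrFun (Matrix.mul_nonsing_inv A (isUnit_det_sub G I)) ⟨p, hp⟩) b
    simpa [Matrix.mul_apply, Matrix.one_apply, hA, Subtype.ext_iff] using this
  have hrow : ∀ p ∈ I, ∀ j, G.pairing I p j = 0 := by
    intro p hp j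
    rw [ArLef.BlowupGraph.pairing, Finset.sum_comm]
    simp only [← Finset.sum_mul, ← hA, hAl p _ hp, ite_mul, one_mul, zero_mul, sub_eq_zero]
    rw [Finset.sum_eq_single ⟨p, hp⟩]
    · simp
    · intro b _ hb; rw [if_neg fun e => hb (Subtype.ext e.symm)]
    · simp
  have hcol : ∀ p, ∀ j ∈ I, G.pairing I p j = 0 := by
    intro p j hj
    rw [ArLef.BlowupGraph.pairing, sub_eq_zero]
    have hr : ∀ a : I, ∑ b : I, A⁻¹ a b * G.mat b.1 j = if a.1 = j then 1 else 0 := by
      intro a
      have := congrFun (congrFun (Matrix.nonsing_inv_mul A (isUnit_det_sub G I)) a) ⟨j, hj⟩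
      simpa [Matrix.mul_apply, Matrix.one_apply, hA, Subtype.ext_iff] using this
    simp only [mul_assoc, ← Finset.mul_sum, ← hA, hr, mul_ite, mul_one, mul_zero]
    rw [Finset.sum_eq_single ⟨j, hj⟩]
    · simp
    · intro b _ hb; rw [if_neg fun e => hb (Subtype.ext e)]
    · simp
  have key : ∀ i, ∑ j, K i j * G.pairing I (σ i) j = if i ∉ I ∧ σ i = i then -1 else 0 := by
    intro i
    by_cases hi : i ∈ I
    · rw [Finset.sum_eq_zero fun j _ => by rw [hrow _ ((hσI i).mpr hi), mul_zero], if_neg]
      simp [hi]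
    · have h1 : ∀ p, ∑ j, K i j * G.mat p j = if p = i then -1 else 0 := by
        intro p
        have := congrFun (congrFun hMK p) i
        rw [Matrix.mul_apply, Matrix.neg_apply, Matrix.one_apply] at this
        rw [← Finset.sum_congr rfl fun j _ => (by rw [hKs j i]; ring : G.mat p j * K j i = K i j * G.mat p j), this]
        split_ifs <;> simp
      have h2 : ∀ b : I, ∑ j, K i j * G.mat b.1 j = 0 := fun b => by
        rw [h1, if_neg fun (e : b.1 = i) => hi (e ▸ b.2)]
      simp only [ArLef.BlowupGraph.pairing, mul_sub, Finset.sum_sub_distrib, Finset.mul_sum]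
      rw [Finset.sum_comm (s := (univ : Finset (Fin n))) (t := (univ : Finset I))]
      rw [Finset.sum_eq_zero (s := (univ : Finset I)) fun a _ => ?_, sub_zero, h1]
      · by_cases he : σ i = i <;> simp [he, hi]
      · rw [Finset.sum_comm]
        refine Finset.sum_eq_zero fun b _ => ?_
        rw [← Finset.sum_congr rfl fun j _ => (by ring :
          (G.mat (σ i) a.1 * A⁻¹ a b) * (K i j * G.mat b.1 j) = K i j * (G.mat (σ i) a.1 * A⁻¹ a b * G.mat b.1 j)),
          ← Finset.mul_sum, h2, mul_zero]
  have hmult : ∀ i j, (G.mult i j : ℚ) = K i j := fun i j => congrFun (congrFun (mult_eq G) i) j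
  rw [ArLef.BlowupGraph.lNum, ArLef.BlowupGraph.rNum]
  simp only [hmult]
  rw [Finset.sum_congr rfl fun i hi => (Finset.sum_subset (Finset.filter_subset _ univ) fun j _ hj => by
    rw [hcol _ j (by simpa using hj), mul_zero]).trans (key i)]
  rw [Finset.sum_ite, Finset.sum_const_zero, add_zero, Finset.sum_const, Finset.filter_filter]
  simp [and_self_left]

end Groth.Agent.S15327
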