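import Groth.Statements.S15330
import Mathlib
import Groth.Agent.HiggsLib.Chain
-- import your own Groth.Agent.* helpers here

set_option autoImplicit false
open CategoryTheory AlgebraicGeometry CategoryTheory.Limits
open VBCurve

namespace Groth.Agent.S15330

/-- Let X be a smooth proper integral curve over the complex numbers, L an invertible module on X, and
(E, φ_E), (F, φ_F) two L-valued Higgs bundles on X of the same rank r ≥ 1 and the same degree d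
(degree = χ − rank · χ(O)), each semistable: deg G · r ≤ d · s for every finite locally free
submodule G of rank s ≥ 1 to which the Higgs field restricts. Let E_0 ⊂ E_1 ⊂ … ⊂ E_n = E with E_0 =
0 and F = F_0 ⊃ F_1 ⊃ … ⊃ F_n = 0 be chains of finite locally free submodules to which the Higgs
fields restrict, of ranks with rk E_i + rk F_i = r, which are opposite: E_{i+1}/E_i ≅ F_i/F_{i+1} as
O-modules for i < n. Then every E_i of positive rank and every F_i of positive rank has slope d/r,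
that is deg · r = d · rank, and is semistable for its restricted Higgs field; and each graded piece
E_{i+1}/E_i of positive rank is finite locally free of rank rk E_{i+1} − rk E_i, of slope d/r, and
semistable for every Higgs field on it compatible with that of E_{i+1} along the projection. (The
published statement indexes the second chain so that F_i/F_{i+1} matches E_i/E_{i−1} and takes the
isomorphisms of graded pieces as Higgs bundles; here they are assumed as O-modules only, together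
with the rank bookkeeping rk E_i + rk F_i = r that they imply.) -/
theorem result
    (X : Scheme.{0}) [X.Over (Spec (CommRingCat.of ℂ))] [IsIntegral X]
    [IsProper (X ↘ Spec (CommRingCat.of ℂ))] [Smooth (X ↘ Spec (CommRingCat.of ℂ))]
    (hdim : topologicalKrullDim X = 1)
    (L : X.Modules) (hL : PicF.IsInvertible L) (r : ℕ) (hr : 0 < r) (d : ℤ)
    (E : X.Modules) (hE : FlatMod.IsFinLocFreeOfRank r E) (φE : E ⟶ CohB1.tensorMod E L)
    (hEd : Curv2.deg ℂ X E r = d)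
    (hEss : (∀ (G : X.Modules) (s : ℕ) (j : G ⟶ E) (χ : G ⟶ CohB1.tensorMod G L), Mono j → 0 < s →
        FlatMod.IsFinLocFreeOfRank s G →
        χ ≫ (CohB1.sheafifyMod X).map (MonoidalCategoryStruct.whiskerRight (C := CohB1.PMod X) j.val (CohB1.toPMod L)) = j ≫ φE →
        Curv2.deg ℂ X G s * (r : ℤ) ≤ Curv2.deg ℂ X E r * (s : ℤ)))
    (F : X.Modules) (hF : FlatMod.IsFinLocFreeOfRank r F) (φF : F ⟶ CohB1.tensorMod F L)
    (hFd : Curv2.deg ℂ X F r = d)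
    (hFss : (∀ (G : X.Modules) (s : ℕ) (j : G ⟶ F) (χ : G ⟶ CohB1.tensorMod G L), Mono j → 0 < s →
        FlatMod.IsFinLocFreeOfRank s G →
        χ ≫ (CohB1.sheafifyMod X).map (MonoidalCategoryStruct.whiskerRight (C := CohB1.PMod X) j.val (CohB1.toPMod L)) = j ≫ φF →
        Curv2.deg ℂ X G s * (r : ℤ) ≤ Curv2.deg ℂ X F r * (s : ℤ)))
    (n : ℕ)
    (Es : ℕ → X.Modules) (rE : ℕ → ℕ) (hEs : ∀ i, FlatMod.IsFinLocFreeOfRank (rE i) (Es i))
    (ιE : ∀ i, Es i ⟶ E) (hιE : ∀ i, Mono (ιE i))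
    (ψE : ∀ i, Es i ⟶ CohB1.tensorMod (Es i) L)
    (hψE : ∀ i, ψE i ≫ (CohB1.sheafifyMod X).map (MonoidalCategoryStruct.whiskerRight (C := CohB1.PMod X) (ιE i).val (CohB1.toPMod L)) = ιE i ≫ φE)
    (a : ∀ i, Es i ⟶ Es (i + 1)) (ha : ∀ i, a i ≫ ιE (i + 1) = ιE i)
    (hE0 : IsZero (Es 0)) (hEn : IsIso (ιE n))
    (Fs : ℕ → X.Modules) (rF : ℕ → ℕ) (hFs : ∀ i, FlatMod.IsFinLocFreeOfRank (rF i) (Fs i))
    (ιF : ∀ i, Fs i ⟶ F) (hιF : ∀ i, Mono (ιF i))
    (ψF : ∀ i, Fs i ⟶ CohB1.tensorMod (Fs i) L)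
    (hψF : ∀ i, ψF i ≫ (CohB1.sheafifyMod X).map (MonoidalCategoryStruct.whiskerRight (C := CohB1.PMod X) (ιF i).val (CohB1.toPMod L)) = ιF i ≫ φF)
    (b : ∀ i, Fs (i + 1) ⟶ Fs i) (hb : ∀ i, b i ≫ ιF i = ιF (i + 1))
    (hF0 : IsIso (ιF 0)) (hFn : IsZero (Fs n))
    (hrk : ∀ i, i ≤ n → rE i + rF i = r)
    (hopp : ∀ i, i < n → Nonempty (cokernel (a i) ≅ cokernel (b i))) :
    (∀ i, i ≤ n → 0 < rE i →
      Curv2.deg ℂ X (Es i) (rE i) * (r : ℤ) = d * (rE i : ℤ) ∧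
      (∀ (G : X.Modules) (s : ℕ) (j : G ⟶ (Es i)) (χ : G ⟶ CohB1.tensorMod G L), Mono j → 0 < s →
        FlatMod.IsFinLocFreeOfRank s G →
        χ ≫ (CohB1.sheafifyMod X).map (MonoidalCategoryStruct.whiskerRight (C := CohB1.PMod X) j.val (CohB1.toPMod L)) = j ≫ ψE i →
        Curv2.deg ℂ X G s * (rE i : ℤ) ≤ Curv2.deg ℂ X (Es i) (rE i) * (s : ℤ))) ∧
    (∀ i, i ≤ n → 0 < rF i →
      Curv2.deg ℂ X (Fs i) (rF i) * (r : ℤ) = d * (rF i : ℤ) ∧
      (∀ (G : X.Modules) (s : ℕ) (j : G ⟶ (Fs i)) (χ : G ⟶ CohB1.tensorMod G L), Mono j → 0 < s →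
        FlatMod.IsFinLocFreeOfRank s G →
        χ ≫ (CohB1.sheafifyMod X).map (MonoidalCategoryStruct.whiskerRight (C := CohB1.PMod X) j.val (CohB1.toPMod L)) = j ≫ ψF i →
        Curv2.deg ℂ X G s * (rF i : ℤ) ≤ Curv2.deg ℂ X (Fs i) (rF i) * (s : ℤ))) ∧
    (∀ i, i < n → rE i < rE (i + 1) →
      FlatMod.IsFinLocFreeOfRank (rE (i + 1) - rE i) (cokernel (a i)) ∧
      Curv2.deg ℂ X (cokernel (a i)) (rE (i + 1) - rE i) * (r : ℤ) = d * ((rE (i + 1) - rE i : ℕ) : ℤ) ∧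
      ∀ (φ' : cokernel (a i) ⟶ CohB1.tensorMod (cokernel (a i)) L),
        cokernel.π (a i) ≫ φ' = ψE (i + 1) ≫ (CohB1.sheafifyMod X).map (MonoidalCategoryStruct.whiskerRight (C := CohB1.PMod X) (cokernel.π (a i)).val (CohB1.toPMod L)) →
        (∀ (G : X.Modules) (s : ℕ) (j : G ⟶ cokernel (a i)) (χ : G ⟶ CohB1.tensorMod G L), Mono j → 0 < s →
        FlatMod.IsFinLocFreeOfRank s G →
        χ ≫ (CohB1.sheafifyMod X).map (MonoidalCategoryStruct.whiskerRight (C := CohB1.PMod X) j.val (CohB1.toPMod L)) = j ≫ φ' →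
        Curv2.deg ℂ X G s * ((rE (i + 1) - rE i : ℕ) : ℤ) ≤ Curv2.deg ℂ X (cokernel (a i)) (rE (i + 1) - rE i) * (s : ℤ))) := by
  haveI := fun i => hιE i
  haveI := fun i => hιF i
  have hSE : HiggsLib.SS ℂ (L := L) φE r := fun G n j hj hn hG ⟨χ, hχ⟩ => hEss G n j χ hj hn hG hχ
  have hSF : HiggsLib.SS ℂ (L := L) φF r := fun G n j hj hn hG ⟨χ, hχ⟩ => hFss G n j χ hj hn hG hχ
  have hEd' : CurveVBLib.dg ℂ E = d := by rw [← CurveVBLib.deg_eq_dg hE, hEd]
  have hFd' : CurveVBLib.dg ℂ F = d := by rw [← CurveVBLib.deg_eq_dg hF, hFd]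
  have key := HiggsLib.chain_slopes (k := ℂ) hdim hE hF hEd' hFd' hSE hSF n Es rE hEs ιE hιE
    (fun i => ⟨ψE i, hψE i⟩) a ha hE0 Fs rF hFs ιF hιF (fun i => ⟨ψF i, hψF i⟩) b hb hF0 hrk hopp
  have hsubE : ∀ i, i ≤ n → HiggsLib.SS ℂ (L := L) (ψE i) (rE i) := fun i hi =>
    HiggsLib.sub_semistable (k := ℂ) hdim hr hE (hEs i) hSE (ιE i) (ψE i) (hψE i) (by rw [(key i hi).1, hEd'])
  have hsubF : ∀ i, i ≤ n → HiggsLib.SS ℂ (L := L) (ψF i) (rF i) := fun i hi =>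
    HiggsLib.sub_semistable (k := ℂ) hdim hr hF (hFs i) hSF (ιF i) (ψF i) (hψF i) (by rw [(key i hi).2, hFd'])
  refine ⟨fun i hi _ => ⟨?_, fun G s j χ hj hs hG hχ => hsubE i hi G s j hj hs hG ⟨χ, hχ⟩⟩,
    fun i hi _ => ⟨?_, fun G s j χ hj hs hG hχ => hsubF i hi G s j hj hs hG ⟨χ, hχ⟩⟩, fun i hi hlt => ?_⟩
  · rw [CurveVBLib.deg_eq_dg (hEs i)]; exact (key i hi).1
  · rw [CurveVBLib.deg_eq_dg (hFs i)]; exact (key i hi).2
  haveI : Mono (a i) := mono_of_mono_fac (ha i)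
  have hinv : HiggsLib.Inv (ψE (i + 1)) (a i) := by
    haveI := HiggsLib.mono_map hL (ιE (i + 1))
    refine ⟨ψE i, ?_⟩
    rw [← cancel_mono ((HiggsLib.R L).map (ιE (i + 1))), Category.assoc, ← Functor.map_comp, ha i]
    have h : ψE (i + 1) ≫ (HiggsLib.R L).map (ιE (i + 1)) = ιE (i + 1) ≫ φE := hψE (i + 1)
    refine (hψE i).trans ?_
    rw [Category.assoc]
    exact ((congrArg (a i ≫ ·) h).trans ((Category.assoc _ _ _).symm.trans (congrArg (· ≫ φE) (ha i)))).symm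
  have k0 := (key i (by omega)).1
  have k1 := (key (i + 1) (by omega)).1
  obtain ⟨-, h1, h2, h3⟩ := HiggsLib.quotient_semistable (k := ℂ) hdim hL (hEs (i + 1)) (hEs i) (by omega)
    (hsubE (i + 1) (by omega)) (a i) hinv (mul_right_cancel₀ (show (r : ℤ) ≠ 0 by omega) (by
      rw [mul_right_comm, k0, mul_right_comm (CurveVBLib.dg ℂ (Es (i + 1))), k1]; ring))
  refine ⟨h1, ?_, fun φ' hφ' G s j ψ hj hs hG hψ => h3 φ' hφ' G s j hj hs hG ⟨ψ, hψ⟩⟩
  rw [CurveVBLib.deg_eq_dg h1]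
  refine mul_right_cancel₀ (show (rE (i + 1) : ℤ) ≠ 0 by omega) ?_
  rw [mul_right_comm, h2, mul_right_comm (CurveVBLib.dg ℂ (Es (i + 1))), k1]
  ring

end Groth.Agent.S15330
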