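import Groth.Statements.S15332
import Mathlib
import Groth.Agent.CurveVBLib.Fitting
import Groth.Agent.CurveVBLib.Integral
-- import your own Groth.Agent.* helpers here

set_option autoImplicit false
universe u
open CategoryTheory CategoryTheory.Limits AlgebraicGeometry
open VBCurve

namespace Groth.Agent.S15332

/-- Let X be a smooth proper integral curve (integral, smooth and proper of dimension one) over an
algebraically closed field k. Let E be a finite locally free O_X-module of rank r ≥ 1 which is
slope-semistable (deg G · r ≤ deg E · r' for every finite locally free submodule G of rank r' ≥ 1,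
degrees being χ − rank·χ(O_X)), and F a finite locally free O_X-module of rank s ≥ 1 all of whose
finite locally free submodules G of rank r' ≥ 1 have slope strictly below that of E: deg G · r < deg
E · r' (the maximal slope of F is below the slope of E). Then every homomorphism E → F is zero. -/
theorem result (k : Type u) [Field k] [IsAlgClosed k] (X : Scheme.{u}) [X.Over (Spec (CommRingCat.of k))]
    [IsIntegral X] [IsProper (X ↘ Spec (CommRingCat.of k))] [Smooth (X ↘ Spec (CommRingCat.of k))]
    (hdim : topologicalKrullDim X = 1)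
    (r s : ℕ) (hr : 0 < r) (hs : 0 < s) (E F : X.Modules)
    (hE : FlatMod.IsFinLocFreeOfRank r E) (hF : FlatMod.IsFinLocFreeOfRank s F)
    (hEss : ModFun.IsSlopeSemistable k X E r)
    (hmax : ∀ (G : X.Modules) (r' : ℕ) (i : G ⟶ F), Mono i → 0 < r' → FlatMod.IsFinLocFreeOfRank r' G →
      Curv2.deg k X G r' * (r : ℤ) < Curv2.deg k X E r * (r' : ℤ))
    (f : E ⟶ F) : f = 0 := by
  by_contra hne
  obtain ⟨hK, hI, hrk, hdg⟩ := CurveVBLib.ker_im_data (k := k) (CurvLib.isCoh_of_locFree hE) (CurvLib.isCoh_of_locFree hF) f
  obtain ⟨hIr, -, -, -, hzI⟩ := CurveVBLib.sub_data (k := k) hdim hF (Abelian.image.ι f) hI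
  have hpos : 0 < CurvLib.genRank (Abelian.image f) := Nat.pos_of_ne_zero fun h0 => hne (by
    rw [← Abelian.image.fac f, (hzI h0).eq_of_src (Abelian.image.ι f) 0, comp_zero])
  have h1 := hmax _ _ (Abelian.image.ι f) inferInstance hpos hIr
  have h2 := CurveVBLib.image_ge (k := k) hdim hE hEss (CurvLib.isCoh_of_locFree hF) f
  rw [CurveVBLib.deg_eq_dg hIr, CurveVBLib.deg_eq_dg hE] at h1
  linarith

end Groth.Agent.S15332
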