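import Groth.Statements.S15335
import Mathlib
import Groth.Agent.CurveVBLib.Fitting
import Groth.Agent.CurveVBLib.Integral
-- import your own Groth.Agent.* helpers here

set_option autoImplicit false
universe u
open CategoryTheory CategoryTheory.Limits AlgebraicGeometry
open VBCurve

namespace Groth.Agent.S15335

/-- Let X be a smooth proper integral curve (integral, smooth and proper of dimension one) over an
algebraically closed field k, and E₁, E₂ finite locally free O_X-modules of ranks r₁ ≥ 1, r₂ ≥ 1.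
The maximal slope of E₁ ⊕ E₂ is at most the larger of the maximal slopes of E₁ and E₂: if m₁, m₂ are
rational numbers such that every finite locally free submodule of positive rank of E₁ (resp. E₂) has
slope deg/rank ≤ m₁ (resp. ≤ m₂), degree meaning χ − rank·χ(O_X), then every finite locally free
submodule F of the biproduct E₁ ⊞ E₂ of rank r' ≥ 1 has slope deg F / r' ≤ max(m₁, m₂). -/
theorem result (k : Type u) [Field k] [IsAlgClosed k] (X : Scheme.{u}) [X.Over (Spec (CommRingCat.of k))]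
    [IsIntegral X] [IsProper (X ↘ Spec (CommRingCat.of k))] [Smooth (X ↘ Spec (CommRingCat.of k))]
    (hdim : topologicalKrullDim X = 1)
    (r₁ r₂ : ℕ) (hr₁ : 0 < r₁) (hr₂ : 0 < r₂) (E₁ E₂ : X.Modules)
    (hE₁ : FlatMod.IsFinLocFreeOfRank r₁ E₁) (hE₂ : FlatMod.IsFinLocFreeOfRank r₂ E₂) (m₁ m₂ : ℚ)
    (h₁ : ∀ (G : X.Modules) (r' : ℕ) (i : G ⟶ E₁), Mono i → 0 < r' → FlatMod.IsFinLocFreeOfRank r' G →
      (Curv2.deg k X G r' : ℚ) / r' ≤ m₁)
    (h₂ : ∀ (G : X.Modules) (r' : ℕ) (i : G ⟶ E₂), Mono i → 0 < r' → FlatMod.IsFinLocFreeOfRank r' G →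
      (Curv2.deg k X G r' : ℚ) / r' ≤ m₂)
    (F : X.Modules) (r' : ℕ) (i : F ⟶ E₁ ⊞ E₂) (hi : Mono i) (hr' : 0 < r')
    (hF : FlatMod.IsFinLocFreeOfRank r' F) :
    (Curv2.deg k X F r' : ℚ) / r' ≤ max m₁ m₂ := by
  haveI := CurvLib.isNoetherian k (X := X)
  haveI := hi
  have hFc := CurvLib.isCoh_of_locFree hF
  let q : F ⟶ E₁ := i ≫ biprod.fst
  obtain ⟨hK, hI, hrk, hdg⟩ := CurveVBLib.ker_im_data (k := k) hFc (CurvLib.isCoh_of_locFree hE₁) q
  rw [CurveVBLib.genRank_eq hF] at hrk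
  let v : kernel q ⟶ E₂ := kernel.ι q ≫ i ≫ biprod.snd
  haveI : Mono v := Preadditive.mono_of_cancel_zero _ fun g hg => by
    rw [← cancel_mono (kernel.ι q ≫ i), zero_comp]
    apply biprod.hom_ext
    · simp only [Category.assoc, zero_comp]
      rw [show i ≫ biprod.fst = q from rfl, kernel.condition, comp_zero]
    · simpa [v] using hg
  have bound : ∀ {A E : X.Modules} {n : ℕ} {m : ℚ} (j : A ⟶ E) [Mono j], Coh.IsCoh A → FlatMod.IsFinLocFreeOfRank n E →
      (∀ (G : X.Modules) (r' : ℕ) (i : G ⟶ E), Mono i → 0 < r' → FlatMod.IsFinLocFreeOfRank r' G →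
        (Curv2.deg k X G r' : ℚ) / r' ≤ m) →
      (CurveVBLib.dg k A : ℚ) ≤ m * CurvLib.genRank A := by
    intro A E n m j _ hA hE h
    obtain ⟨hAr, -, -, -, hz⟩ := CurveVBLib.sub_data (k := k) hdim hE j hA
    rcases Nat.eq_zero_or_pos (CurvLib.genRank A) with h0 | hpos
    · rw [CurveVBLib.dg_of_isZero (hz h0), h0]; simp
    · have := h A _ j inferInstance hpos hAr
      rw [CurveVBLib.deg_eq_dg hAr, div_le_iff₀ (by exact_mod_cast hpos)] at this
      exact this
  have b1 := bound (Abelian.image.ι q) hI hE₁ h₁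
  have b2 := bound v hK hE₂ h₂
  rw [CurveVBLib.deg_eq_dg hF, hdg, div_le_iff₀ (by exact_mod_cast hr'), hrk]
  push_cast
  nlinarith [mul_le_mul_of_nonneg_right (le_max_left m₁ m₂) (Nat.cast_nonneg (α := ℚ) (CurvLib.genRank (Abelian.image q))),
    mul_le_mul_of_nonneg_right (le_max_right m₁ m₂) (Nat.cast_nonneg (α := ℚ) (CurvLib.genRank (kernel q)))]

end Groth.Agent.S15335
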