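import Groth.Statements.S15336
import Groth.Agent.TorsPushSqLib.Basic

set_option autoImplicit false
set_option backward.isDefEq.respectTransparency false
set_option backward.isDefEq.respectTransparency.types false
set_option maxHeartbeats 1000000
set_option synthInstance.maxHeartbeats 400000
universe u
open CategoryTheory CategoryTheory.Limits AlgebraicGeometry
open VBCurve

namespace Groth.Agent.S15336

/-- Let X be a smooth proper integral curve (integral, smooth and proper of dimension one) over an
algebraically closed field k, G a finite group scheme over k of order n, meaning dim_k H^0(G, O_G) =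
n, and j : P → X a torsor (fppf-locally trivial) under the X-group scheme G ×_k X. Put E = j_*O_P.
Then there is an isomorphism of O_X-modules E ⊗ E ≅ E ⊕ ⋯ ⊕ E (n copies); in particular E is a
finite vector bundle in the sense of Weil (two distinct polynomials in E agree). Existence of an
isomorphism only. (The published statement asserts only that E is finite in this sense; this row
states the isomorphism its argument gives, with n = dim_k H^0(G, O_G).) -/
theorem result (k : Type u) [Field k] [IsAlgClosed k] (X : Scheme.{u}) [X.Over (Spec (CommRingCat.of k))]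
    [IsIntegral X] [IsProper (X ↘ Spec (CommRingCat.of k))] [Smooth (X ↘ Spec (CommRingCat.of k))]
    (hdim : topologicalKrullDim X = 1)
    (G : Scheme.{u}) [G.Over (Spec (CommRingCat.of k))] [GrpObj (G.asOver (Spec (CommRingCat.of k)))]
    [IsFinite (G ↘ Spec (CommRingCat.of k))] (n : ℕ)
    (hn : Module.finrank k (Coh.HH G (Coh.structureModule G) 0) = n)
    (P : Over X) (a : AlgGrp.Action (Red.bc (X ↘ Spec (CommRingCat.of k)) (G.asOver (Spec (CommRingCat.of k)))) P)
    (hP : NonAbH1.IsTorsorFor Scheme.fppfPrecoverage a) :
    Nonempty (CohB1.tensorMod ((Coh.push P.hom).obj (Coh.structureModule P.left))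
        ((Coh.push P.hom).obj (Coh.structureModule P.left)) ≅
      ∐ fun _ : Fin n => (Coh.push P.hom).obj (Coh.structureModule P.left)) := by
  let T := Spec (CommRingCat.of k)
  let s := X ↘ T
  let pG := G ↘ T
  haveI : IsLocallyNoetherian X := LocallyOfFiniteType.isLocallyNoetherian s
  haveI : Flat pG := inferInstance
  let GX := Red.bc s (G.asOver T)
  haveI : IsFinite GX.hom := inferInstanceAs (IsFinite (pullback.snd pG s))
  haveI : Flat GX.hom := inferInstanceAs (Flat (pullback.snd pG s))
  obtain ⟨hfin, hflat, -⟩ := NormDescTorsLib.finite_flat_surjective a hP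
  haveI := hfin
  haveI := hflat
  haveI : LocallyOfFinitePresentation P.hom := inferInstance
  haveI : Coh.IsQCoh (Coh.structureModule P.left) := QCohLib.isQCoh_unit
  let E := (Scheme.Modules.pushforward P.hom).obj (Coh.structureModule P.left)
  have hE : FlatMod.IsFinLocFree E := ((Groth.Agent.S9716.result P.hom).2 ⟨hfin, hflat, inferInstance⟩).2
  let q : (CategoryTheory.MonoidalCategoryStruct.tensorObj GX P).left ⟶ P.left := (CartesianMonoidalCategory.snd GX P).left
  haveI hθ : IsIso (CartesianMonoidalCategory.lift a.act (CartesianMonoidalCategory.snd GX P)) := hP.1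
  have sq1 : IsPullback a.act.left q P.hom P.hom :=
    IsPullback.of_iso_pullback ⟨(Over.w a.act).trans (Over.w (CartesianMonoidalCategory.snd GX P)).symm⟩
      ((Over.forget X).mapIso (asIso (CartesianMonoidalCategory.lift a.act (CartesianMonoidalCategory.snd GX P))))
      ((Over.comp_left _ _ _ (CartesianMonoidalCategory.lift a.act (CartesianMonoidalCategory.snd GX P)) (CartesianMonoidalCategory.fst P P)).symm.trans
        (congrArg CommaMorphism.left (CartesianMonoidalCategory.lift_fst a.act (CartesianMonoidalCategory.snd GX P))))
      ((Over.comp_left _ _ _ (CartesianMonoidalCategory.lift a.act (CartesianMonoidalCategory.snd GX P)) (CartesianMonoidalCategory.snd P P)).symm.trans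
        (congrArg CommaMorphism.left (CartesianMonoidalCategory.lift_snd a.act (CartesianMonoidalCategory.snd GX P))))
  have sqA : IsPullback (CartesianMonoidalCategory.fst GX P).left q GX.hom P.hom := IsPullback.of_hasPullback _ _
  have sqB : IsPullback (pullback.fst pG s) GX.hom pG s := IsPullback.of_hasPullback _ _
  have sq2 := sqA.paste_horiz sqB
  obtain ⟨e1⟩ := TorsPushSqLib.nonempty_pullback_pushO sq1
  obtain ⟨e2⟩ := TorsPushSqLib.nonempty_pullback_pushO sq2
  obtain ⟨e3⟩ := TorsPushSqLib.nonempty_push_free_field k G n hn
  let eP : (Scheme.Modules.pullback P.hom).obj E ≅ FlatMod.freeMod P.left n :=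
    e1 ≪≫ e2.symm ≪≫ (Scheme.Modules.pullback (P.hom ≫ s)).mapIso e3 ≪≫ KFlatLib.pullFreeIso _ n
  exact ⟨((ProjFormLib.projIso' P.hom E hE).app (Coh.structureModule P.left)) ≪≫
    (Coh.push P.hom).mapIso (HilbPolyLib.swapIso _ _ ≪≫ HilbPolyLib.unitLeft _ ≪≫ eP) ≪≫
    PreservesCoproduct.iso (Coh.push P.hom) _⟩

end Groth.Agent.S15336
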