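import Groth.Statements.S15339
import Groth.Agent.FinBundleLib.Bundle
import Groth.Agent.CurveVBLib.Basic
import Groth.Agent.IntMultLib.Asymp
import Groth.Agent.MiscFlat6.AmpleTensor
-- import your own Groth.Agent.* helpers here

set_option autoImplicit false
universe u
open CategoryTheory CategoryTheory.Limits AlgebraicGeometry
open VBCurve

namespace Groth.Agent.S15339

theorem rankOf {X : Scheme.{u}} {L : X.Modules} (hL : PicF.IsInvertible L) : FlatMod.IsFinLocFreeOfRank 1 L :=
  fun x => CurvLib.locFree_of_isInvertible hL x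

theorem rank_one {X : Scheme.{u}} [IsIntegral X] {L : X.Modules} (hL : PicF.IsInvertible L) :
    CurvLib.genRank L = 1 := CurveVBLib.genRank_eq (rankOf hL)

theorem rank_iso {X : Scheme.{u}} {n : ℕ} {A B : X.Modules} (e : A ≅ B)
    (h1' : FlatMod.IsFinLocFreeOfRank n A) : FlatMod.IsFinLocFreeOfRank n B := fun x => by
  obtain ⟨U, hU, ⟨f⟩⟩ := h1' x
  exact ⟨U, hU, ⟨(Scheme.Modules.restrictFunctor U.ι).mapIso e.symm ≪≫ f⟩⟩

/-- Let X be a smooth proper integral curve (integral, smooth and proper of dimension one) over an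
algebraically closed field k and L an invertible O_X-module. Then L is finite in the sense of Weil:
there are two distinct polynomials P ≠ Q with natural-number coefficients such that P(L) ≅ Q(L),
where P(L) denotes the direct sum over i of P_i copies of the i-th tensor power L^{⊗ i} (L^{⊗ 0} =
O_X) if and only if L^{⊗ m} ≅ O_X for some m > 0. -/
theorem result (k : Type u) [Field k] [IsAlgClosed k] (X : Scheme.{u}) [X.Over (Spec (CommRingCat.of k))]
    [IsIntegral X] [IsProper (X ↘ Spec (CommRingCat.of k))] [Smooth (X ↘ Spec (CommRingCat.of k))]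
    (hdim : topologicalKrullDim X = 1)
    (L : X.Modules) (hL : PicF.IsInvertible L) :
    (∃ P Q : Polynomial ℕ, P ≠ Q ∧ Nonempty ((∐ fun i : Fin (P.natDegree + 1) => ∐ fun _ : Fin (P.coeff ↑i) => CohB1.tensorPow L ↑i) ≅
      (∐ fun i : Fin (Q.natDegree + 1) => ∐ fun _ : Fin (Q.coeff ↑i) => CohB1.tensorPow L ↑i))) ↔
    ∃ m : ℕ, 0 < m ∧ Nonempty (CohB1.tensorPow L m ≅ Coh.structureModule X) := by
  haveI := CurvLib.isNoetherian k (X := X)
  have hLv := AmpleDevLib.isFinLocFree_of_isInvertible hL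
  have hpw : ∀ n, PicF.IsInvertible (CohB1.tensorPow L n) := fun n => AmpleThLib.tensorPow_isInvertible hL n
  rw [show (∃ P Q : Polynomial ℕ, P ≠ Q ∧ Nonempty (FinBundleLib.polyMod P L ≅ FinBundleLib.polyMod Q L)) ↔
    (FinBundleLib.Occ L).Finite from FinBundleLib.isWeilFinite_iff k hLv]
  constructor
  · intro hfin
    have hmem : ∀ n, ∃ c, c ∈ FinBundleLib.cls (CohB1.tensorPow L n) ∧
        Nonempty (CohB1.tensorPow L n ≅ FinBundleLib.rep c) := fun n => by
      have hv := FinBundleLib.vb_tensorPow k hLv n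
      have h1 := rank_one (hpw n)
      have hne : FinBundleLib.cls (CohB1.tensorPow L n) ≠ 0 := fun h0 => by
        obtain ⟨m, Fs, -, -, ⟨e⟩, hcls⟩ := FinBundleLib.exists_dec (FinBundleLib.nice k) hv
        rw [hcls] at h0
        rcases m with _ | m
        · have := CurveVBLib.genRank_of_isZero ((KSMod.isZero_of_isEmpty Fs).of_iso e)
          omega
        · simpa using h0
      obtain ⟨c, hc⟩ := Multiset.exists_mem_of_ne_zero hne
      obtain ⟨hvc, hic, B, ⟨e⟩⟩ := FinBundleLib.exists_of_mem_cls (FinBundleLib.nice k) hv hc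
      refine ⟨c, hc, ⟨e ≪≫ ?_⟩⟩
      have hvB := (FinBundleLib.nice k).right ((FinBundleLib.nice k).iso e hv)
      have hadd : CurvLib.genRank (FinBundleLib.rep c ⊞ B) = CurvLib.genRank (FinBundleLib.rep c) + CurvLib.genRank B :=
        CurvLib.genRank_add (S := ShortComplex.mk (biprod.inl : FinBundleLib.rep c ⟶ _ ⊞ B) biprod.snd biprod.inl_snd)
          (K0ResLib.biprodSeq_shortExact _ B) (VBResLib.isCoh_of_vb hvc)
          (VBResLib.isCoh_of_vb ((FinBundleLib.nice k).iso e hv)) (VBResLib.isCoh_of_vb hvB)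
      have heq : CurvLib.genRank (FinBundleLib.rep c ⊞ B) = 1 :=
        CurveVBLib.genRank_eq (rank_iso e (h1' := rankOf (hpw n)))
      have hpos : 0 < CurvLib.genRank (FinBundleLib.rep c) := by
        by_contra h0
        exact hic.1 (CurveVBLib.isZero_of_genRank_zero (CurveVBLib.rank_genRank hvc) (𝟙 _)
          ((by omega : CurvLib.genRank (FinBundleLib.rep c) = 0) ▸ CurveVBLib.rank_genRank hvc))
      have hB : IsZero B := CurveVBLib.isZero_of_genRank_zero (CurveVBLib.rank_genRank hvB) (𝟙 _)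
        ((by omega : CurvLib.genRank B = 0) ▸ CurveVBLib.rank_genRank hvB)
      exact ⟨biprod.fst, biprod.inl, biprod.hom_ext' _ _ (by simp) (hB.eq_of_src _ _), biprod.inl_fst⟩
    choose c hc hiso using hmem
    haveI : Finite ↥(FinBundleLib.Occ L) := hfin.to_subtype
    obtain ⟨a, b, hab, he⟩ := Finite.exists_ne_map_eq_of_infinite
      (fun n : ℕ => (⟨c n, n, (FinBundleLib.pw_eq L n).symm ▸ hc n⟩ : FinBundleLib.Occ L))
    have he' : c a = c b := congrArg Subtype.val he
    wlog hlt : a < b generalizing a b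
    · exact this b a hab.symm he.symm he'.symm (by omega)
    obtain ⟨d, hd, rfl⟩ : ∃ d, 0 < d ∧ b = d + a := ⟨b - a, by omega, by omega⟩
    obtain ⟨ea⟩ := hiso a
    obtain ⟨eb⟩ := hiso (d + a)
    let f : CohB1.tensorPow L (d + a) ≅ CohB1.tensorPow L a := eb ≪≫ eqToIso (by rw [he']) ≪≫ ea.symm
    obtain ⟨g⟩ := IntMultLib.nonempty_tensorPow_add L d a
    obtain ⟨v⟩ := MiscFlat6.nonempty_dualIso (hpw a)
    let D := MiscFlat6.dual (CohB1.tensorPow L a)
    exact ⟨d, hd, ⟨(HilbPolyLib.unitLeft (CohB1.tensorPow L d)).symm ≪≫ HilbPolyLib.swapIso _ _ ≪≫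
      HilbPolyLib.congrRight _ v.symm ≪≫ (HilbPolyLib.assocIso _ _ _).symm ≪≫
      HilbPolyLib.congrLeft (g.symm ≪≫ f) D ≪≫ v⟩⟩
  · rintro ⟨m, hm, ⟨e⟩⟩
    refine (FinBundleLib.tens k).finite_occ_of_rel hLv (m + 1) (fun i => if i = m then 1 else 0)
      (fun i => if i = 0 then 1 else 0) ⟨0, by omega, by simp [hm.ne']; omega⟩ ?_
    simp only [ite_smul, one_smul, zero_smul, Finset.sum_ite_eq', Finset.mem_range, Nat.lt_succ_self, if_true,
      Nat.succ_pos']
    rw [FinBundleLib.pw_eq, FinBundleLib.pw_eq,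
      FinBundleLib.cls_congr (FinBundleLib.nice k) e (FinBundleLib.vb_tensorPow k hLv m)]
    rfl

end Groth.Agent.S15339
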