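import Groth.Statements.S1534
import Groth.Agent.CurveDualModLib.CM
import Groth.Agent.S1656

set_option autoImplicit false
set_option backward.isDefEq.respectTransparency false
set_option backward.isDefEq.respectTransparency.types false
set_option maxHeartbeats 1000000
set_option linter.style.haveILetI false
universe u
open CategoryTheory CategoryTheory.Limits AlgebraicGeometry
open Curves

namespace Groth.Agent.S1534

/-- A proper scheme of dimension one over a field k whose global functions are k is connected, all of
its local rings are Cohen–Macaulay, and every irreducible component has dimension one. -/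
theorem result (k : Type u) [Field k] (X : Scheme.{u}) [X.Over (Spec (CommRingCat.of k))]
    [IsProper (X ↘ (Spec (CommRingCat.of k)))] (hdim : topologicalKrullDim X = 1) (h0 : Module.finrank k (Coh.HH X (Coh.structureModule X) 0) = 1) :
    ConnectedSpace X ∧ (∀ x : X, LocCoh.IsCohenMacaulayLocalRing (X.presheaf.stalk x)) ∧
      ∀ Z ∈ irreducibleComponents (X : Type u), topologicalKrullDim Z = 1 := by
  refine ⟨?_, CurveDualModLib.isCM (k := k) h0 hdim, CurveDualModLib.equidim (k := k) h0 hdim⟩
  classical
  have hne : Nonempty X := by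
    by_contra hX
    haveI : IsEmpty X := not_nonempty_iff.mp hX
    haveI := EulerRpushLib.subsingleton_HH_of_isEmpty (X := X)
    rw [Module.finrank_zero_of_subsingleton] at h0
    omega
  refine { toNonempty := hne, isPreconnected_univ := (preconnectedSpace_iff_clopen.mpr fun s hs => ?_).isPreconnected_univ }
  by_contra hc
  push Not at hc
  obtain ⟨⟨x, hx⟩, hu⟩ := hc
  obtain ⟨y, hy⟩ := (Set.ne_univ_iff_exists_notMem s).mp hu
  let V : Bool → X.Opens := fun b => bif b then ⟨s, hs.isOpen⟩ else ⟨sᶜ, hs.isClosed.isOpen_compl⟩
  let sf : ∀ b, Γ(X, V b) := fun b => bif b then 1 else 0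
  obtain ⟨c, hc, -⟩ := X.sheaf.existsUnique_gluing' V ⊤ (fun b => homOfLE le_top) (fun z _ => by
    by_cases hz : z ∈ s
    · exact TopologicalSpace.Opens.mem_iSup.2 ⟨true, hz⟩
    · exact TopologicalSpace.Opens.mem_iSup.2 ⟨false, hz⟩) sf (by
    intro a b
    refine TopCat.Presheaf.section_ext X.sheaf _ _ _ fun z hz => ?_
    cases a <;> cases b
    · rfl
    · exact absurd hz.2 hz.1
    · exact absurd hz.1 hz.2
    · rfl)
  have h1 := congrArg (X.presheaf.germ (V false) y hy) (hc false)
  have h2 := congrArg (X.presheaf.germ (V true) x hx) (hc true)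
  have h1' : X.presheaf.germ ⊤ y trivial c = 0 :=
    (TopCat.Presheaf.germ_res_apply X.presheaf _ y hy c).symm.trans (h1.trans (map_zero _))
  have hc0 : c = 0 := CurveDualModLib.eq_zero_of_germ (k := k) h0 c y h1'
  have h2' : X.presheaf.germ ⊤ x trivial c = 1 :=
    (TopCat.Presheaf.germ_res_apply X.presheaf _ x hx c).symm.trans (h2.trans (map_one _))
  rw [hc0, map_zero] at h2'
  exact zero_ne_one h2'
end Groth.Agent.S1534
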