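import Groth.Statements.S15343
import Groth.Agent.FinBundleLib.Split
import Groth.Agent.TorsFpqcLib.Basic
import Groth.Agent.AlgSpLib.AffineDescent
import Mathlib
-- import your own Groth.Agent.* helpers here

set_option autoImplicit false
universe u
open CategoryTheory CategoryTheory.Limits AlgebraicGeometry
open VBCurve

set_option backward.isDefEq.respectTransparency false

namespace Groth.Agent.S15343

/-- Let X be a smooth proper integral curve (integral, smooth and proper of dimension one) over an
algebraically closed field k of characteristic zero, G a finite group scheme over k and j : P → X a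
torsor (fppf-locally trivial) under the X-group scheme G ×_k X. If E is a finite locally free
O_X-module of rank r with j^*E ≅ O_P^{⊕ r}, then E is finite in the sense of Weil: there are
distinct polynomials P' ≠ Q' with natural-number coefficients and P'(E) ≅ Q'(E), P'(E) being the
direct sum over i of P'_i copies of E^{⊗ i}. (The published statement says that in characteristic
zero an essentially finite bundle is finite; this row takes as hypothesis the characterisation of
essentially finite bundles as those trivialised by a torsor under a finite group scheme.) -/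
theorem result (k : Type u) [Field k] [IsAlgClosed k] (X : Scheme.{u}) [X.Over (Spec (CommRingCat.of k))]
    [IsIntegral X] [IsProper (X ↘ Spec (CommRingCat.of k))] [Smooth (X ↘ Spec (CommRingCat.of k))]
    (hdim : topologicalKrullDim X = 1) [CharZero k]
    (G : Scheme.{u}) [G.Over (Spec (CommRingCat.of k))] [GrpObj (G.asOver (Spec (CommRingCat.of k)))]
    [IsFinite (G ↘ Spec (CommRingCat.of k))]
    (P : Over X) (a : AlgGrp.Action (Red.bc (X ↘ Spec (CommRingCat.of k)) (G.asOver (Spec (CommRingCat.of k)))) P)
    (hP : NonAbH1.IsTorsorFor Scheme.fppfPrecoverage a)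
    (r : ℕ) (E : X.Modules) (hE : FlatMod.IsFinLocFreeOfRank r E)
    (htriv : Nonempty ((Scheme.Modules.pullback P.hom).obj E ≅ FlatMod.freeMod P.left r)) :
    ∃ P' Q' : Polynomial ℕ, P' ≠ Q' ∧ Nonempty ((∐ fun i : Fin (P'.natDegree + 1) => ∐ fun _ : Fin (P'.coeff ↑i) => CohB1.tensorPow E ↑i) ≅
      (∐ fun i : Fin (Q'.natDegree + 1) => ∐ fun _ : Fin (Q'.coeff ↑i) => CohB1.tensorPow E ↑i)) := by
  haveI := CurvLib.isNoetherian k (X := X)
  have h' : NonAbH1.IsTorsorFor Scheme.fpqcPrecoverage a := by
    obtain ⟨hp, R, hR, hs⟩ := hP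
    exact ⟨hp, R, Scheme.fppfPrecoverage_le_fpqcPrecoverage _ hR, hs⟩
  let q := X ↘ Spec (CommRingCat.of k)
  let G' := Red.bc q (G.asOver (Spec (CommRingCat.of k)))
  haveI : Flat (G ↘ Spec (CommRingCat.of k)) := inferInstance
  haveI : IsFinite G'.hom := MorphismProperty.pullback_snd (P := @IsFinite) _ _ ‹IsFinite (G ↘ Spec (CommRingCat.of k))›
  haveI : Flat G'.hom := MorphismProperty.pullback_snd (P := @Flat) _ _ ‹Flat (G ↘ Spec (CommRingCat.of k))›
  haveI : Surjective G'.hom := ⟨fun x => ⟨(MonObj.one (X := G')).left x, by
    rw [← Scheme.Hom.comp_apply, Over.w]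
    rfl⟩⟩
  haveI : MorphismProperty.DescendsAlong @IsFinite
      (@Surjective ⊓ @Flat ⊓ @QuasiCompact : MorphismProperty Scheme.{u}) := AlgSpLib.descendsAlong_isFinite
  haveI : IsFinite P.hom := Groth.Agent.TorsFpqc.property_of_torsor @IsFinite a h' ‹_›
  haveI : Flat P.hom := Groth.Agent.TorsFpqc.property_of_torsor @Flat a h' ‹_›
  haveI : Surjective P.hom := Groth.Agent.TorsFpqc.property_of_torsor @Surjective a h' ‹_›
  haveI : LocallyOfFinitePresentation P.hom :=
    (LocallyOfFinitePresentation.iff_locallyOfFiniteType).2 inferInstance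
  obtain ⟨e⟩ := htriv
  exact FinBundleLib.isWeilFinite_of_trivialised P.hom k (CurveVBLib.isFinLocFree_of_rank hE) e

end Groth.Agent.S15343
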