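import Groth.Statements.S15344
import Groth.Agent.DvrDom.Mono

set_option autoImplicit false
universe u
open CategoryTheory CategoryTheory.Limits AlgebraicGeometry
open Mor

namespace Groth.Agent.S15344

/-- Let f : Y ⟶ X be a monomorphism of schemes, X quasi-separated. Then the projection Y ×_X X' ⟶ X'
reflects specializations (if the image of y₁ specializes to the image of y₀ then y₁ specializes to
y₀) after every base change X' ⟶ X if and only if, for every valuation ring A with fraction field K
and every commutative square Spec K ⟶ Y, Spec A ⟶ X over f such that, in addition, some morphism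
from the spectrum of the residue field of A to Y lies over Spec A ⟶ X, the square admits a lift Spec
A ⟶ Y. -/
theorem result {X Y : Scheme.{u}} [QuasiSeparatedSpace ↥X]
    (f : Y ⟶ X) [Mono f] :
    (∀ (X' : Scheme.{u}) (g : X' ⟶ X) (y₀ y₁ : ↥(pullback f g)),
        (pullback.snd f g).base y₁ ⤳ (pullback.snd f g).base y₀ → y₁ ⤳ y₀) ↔
      ∀ S : ValuativeCommSq f,
        (∃ l₀ : Spec (CommRingCat.of (IsLocalRing.ResidueField S.R)) ⟶ Y,
            l₀ ≫ f = Spec.map (CommRingCat.ofHom (IsLocalRing.residue S.R)) ≫ S.i₂) →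
          S.commSq.HasLift := by
  constructor
  · intro H S ⟨l₀, hl₀⟩
    let P := pullback f S.i₂
    let x : Spec (CommRingCat.of S.K) ⟶ P :=
      pullback.lift S.i₁ (Spec.map (CommRingCat.ofHom (algebraMap S.R S.K))) S.commSq.w
    let z : Spec (CommRingCat.of (IsLocalRing.ResidueField S.R)) ⟶ P :=
      pullback.lift l₀ (Spec.map (CommRingCat.ofHom (IsLocalRing.residue S.R))) hl₀
    have hz : pullback.snd f S.i₂ (z (IsLocalRing.closedPoint _)) =
        (IsLocalRing.closedPoint S.R : PrimeSpectrum S.R) := by
      erw [← Scheme.Hom.comp_apply, pullback.lift_snd]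
      exact IsLocalRing.comap_closedPoint (IsLocalRing.residue S.R)
    have hsp : x (IsLocalRing.closedPoint S.K) ⤳ z (IsLocalRing.closedPoint _) := by
      refine H _ S.i₂ _ _ ?_
      exact (IsLocalRing.specializes_closedPoint (R := S.R) _).trans (specializes_of_eq hz.symm)
    obtain ⟨s, hs₁, hs₂⟩ := DvrDomLib.exists_section_of_specializes (pullback.snd f S.i₂) x
      (pullback.lift_snd _ _ _) _ hsp hz
    refine ⟨⟨⟨s ≫ pullback.fst f S.i₂, ?_, ?_⟩⟩⟩
    · rw [← Category.assoc, hs₂]
      exact pullback.lift_fst _ _ _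
    · rw [Category.assoc, pullback.condition, ← Category.assoc, hs₁, Category.id_comp]
  · intro H X' g y₀ y₁ hsp
    let θ : X'.presheaf.stalk (pullback.snd f g y₀) ⟶ X'.residueField (pullback.snd f g y₁) :=
      X'.presheaf.stalkSpecializes hsp ≫ X'.residue _
    obtain ⟨V, hV, hloc⟩ := IsLocalRing.exists_factor_valuationRing θ.hom
    let φ : X'.presheaf.stalk (pullback.snd f g y₀) →+* V := θ.hom.codRestrict V.toSubring hV
    refine DvrDomLib.exists_valuativeSquare_of_mono f g y₀ y₁ V
      (Spec.map (CommRingCat.ofHom φ) ≫ X'.fromSpecStalk _) ?_ ?_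
      fun i₁ i₂ w hl ↦ H { R := V, K := _, i₁ := i₁, i₂ := i₂, commSq := w } hl
    · erw [Scheme.Hom.comp_apply]
      refine (congrArg (X'.fromSpecStalk _) ?_).trans Scheme.fromSpecStalk_closedPoint
      have : IsLocalHom φ := hloc
      exact IsLocalRing.comap_closedPoint φ
    · rw [← Category.assoc, ← Spec.map_comp]
      show Spec.map θ ≫ _ = _
      simp only [θ, Spec.map_comp, Category.assoc, Scheme.fromSpecResidueField,
        Scheme.SpecMap_stalkSpecializes_fromSpecStalk]

end Groth.Agent.S15344
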