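import Groth.Statements.S15345
import Groth.Agent.DvrDom.Descent

set_option autoImplicit false
universe u
open CategoryTheory CategoryTheory.Limits AlgebraicGeometry
open Mor

namespace Groth.Agent.S15345

/-- Let f : Y ⟶ X be a morphism of schemes, X quasi-separated. If for every morphism X' ⟶ X locally of
finite type the projection Y ×_X X' ⟶ X' reflects specializations (the image of y₁ specializing to
the image of y₀ forces y₁ to specialize to y₀), then the same holds for every morphism X' ⟶ X. (The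
published statement assumes moreover that f is a monomorphism; this row does not.) -/
theorem result {X Y : Scheme.{u}} [QuasiSeparatedSpace ↥X]
    (f : Y ⟶ X)
    (h : ∀ (X' : Scheme.{u}) (g : X' ⟶ X) [LocallyOfFiniteType g] (y₀ y₁ : ↥(pullback f g)),
      (pullback.snd f g).base y₁ ⤳ (pullback.snd f g).base y₀ → y₁ ⤳ y₀) :
    ∀ (X' : Scheme.{u}) (g : X' ⟶ X) (y₀ y₁ : ↥(pullback f g)),
        (pullback.snd f g).base y₁ ⤳ (pullback.snd f g).base y₀ → y₁ ⤳ y₀ := by
  intro X' g y₀ y₁ hsp
  obtain ⟨_, ⟨V, hV, rfl⟩, hcV, -⟩ := X.isBasis_affineOpens.exists_subset_of_mem_open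
    (Set.mem_univ (g (pullback.snd f g y₀))) isOpen_univ
  have hV : IsAffineOpen V := hV
  obtain ⟨_, ⟨U, hU, rfl⟩, hcU, hUV⟩ := X'.isBasis_affineOpens.exists_subset_of_mem_open
    (show pullback.snd f g y₀ ∈ g ⁻¹ᵁ V from hcV) (g ⁻¹ᵁ V).isOpen
  have hU : IsAffineOpen U := hU
  let B : CommRingCat.{u} := Γ(X, V)
  let u := hU.fromSpec
  let := (g.appLE V U hUV).hom.toAlgebra
  have hu : u ≫ g = Spec.map (CommRingCat.ofHom (algebraMap B Γ(X', U))) ≫ hV.fromSpec :=
    (IsAffineOpen.SpecMap_appLE_fromSpec g hV hU hUV).symm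
  let fV := pullback.snd f hV.fromSpec
  have hbig : ∀ (D : Type u) [CommRing D] [Algebra B D], IsPullback
      (pullback.fst fV (Spec.map (CommRingCat.ofHom (algebraMap B D))) ≫ pullback.fst f hV.fromSpec)
      (pullback.snd fV (Spec.map (CommRingCat.ofHom (algebraMap B D)))) f
      (Spec.map (CommRingCat.ofHom (algebraMap B D)) ≫ hV.fromSpec) := fun D _ _ ↦
    (IsPullback.of_hasPullback _ _).paste_horiz (IsPullback.of_hasPullback f hV.fromSpec)
  have hC := hbig Γ(X', U)
  rw [← hu] at hC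
  let v := pullback.lift _ (pullback.snd fV _ ≫ u) (hC.w.trans (Category.assoc _ _ _).symm)
  have hsq : IsPullback v (pullback.snd fV _) (pullback.snd f g) u := by
    refine IsPullback.of_right ?_ (pullback.lift_snd _ _ _) (IsPullback.of_hasPullback _ _)
    rw [pullback.lift_fst]
    exact hC
  have hu1 : ∀ y : ↥(pullback f g), pullback.snd f g y ∈ U → ∃ c, u c = pullback.snd f g y :=
    fun y hy ↦ by
      have : pullback.snd f g y ∈ Set.range u := by rw [hU.range_fromSpec]; exact hy
      exact this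
  obtain ⟨c₀, hc₀⟩ := hu1 y₀ hcU
  obtain ⟨c₁, hc₁⟩ := hu1 y₁ (hsp.mem_open U.isOpen hcU)
  obtain ⟨q₀, hq₀, hq₀'⟩ := Scheme.exists_preimage_of_isPullback hsq y₀ c₀ hc₀.symm
  obtain ⟨q₁, hq₁, hq₁'⟩ := Scheme.exists_preimage_of_isPullback hsq y₁ c₁ hc₁.symm
  have hq : pullback.snd fV _ q₁ ⤳ pullback.snd fV _ q₀ := by
    rw [hq₀', hq₁', ← u.isOpenEmbedding.isInducing.specializes_iff, hc₀, hc₁]
    exact hsp
  rw [← hq₀, ← hq₁]
  refine Specializes.map ?_ v.continuous
  rw [specializes_iff_forall_open]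
  intro W hW hqW
  obtain ⟨t, O, hO, hOW⟩ := DvrDomLib.Descent.exists_local_descent fV q₀ W hW hqW
  let D : Subalgebra B Γ(X', U) := Algebra.adjoin B (t : Set Γ(X', U))
  have hDft : Algebra.FiniteType B D := D.fg_iff_finiteType.mp (Subalgebra.fg_adjoin_finset t)
  have : LocallyOfFiniteType (Spec.map (CommRingCat.ofHom (algebraMap B D))) :=
    (HasRingHomProperty.Spec_iff (P := @LocallyOfFiniteType)).mpr
      (RingHom.finiteType_algebraMap.mpr hDft)
  let g' := Spec.map (CommRingCat.ofHom (algebraMap B D)) ≫ hV.fromSpec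
  let e := (hbig D).isoPullback
  have he : e.hom ≫ pullback.snd f g' = pullback.snd fV _ := (hbig D).isoPullback_hom_snd
  let π := DvrDomLib.Descent.trans fV D.val
  have hπ : pullback.snd fV (Spec.map (CommRingCat.ofHom (algebraMap B D))) (π q₁) ⤳
      pullback.snd fV (Spec.map (CommRingCat.ofHom (algebraMap B D))) (π q₀) := by
    have hw : π ≫ pullback.snd fV _ =
        pullback.snd fV _ ≫ Spec.map (CommRingCat.ofHom D.val.toRingHom) :=
      DvrDomLib.Descent.trans_snd fV D.val
    rw [← Scheme.Hom.comp_apply, ← Scheme.Hom.comp_apply, hw, Scheme.Hom.comp_apply,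
      Scheme.Hom.comp_apply]
    exact hq.map (Scheme.Hom.continuous _)
  have := h _ g' (e.hom (π q₀)) (e.hom (π q₁)) (by
    have h' : ∀ z, pullback.snd f g' (e.hom z) =
        pullback.snd fV (Spec.map (CommRingCat.ofHom (algebraMap B D))) z := fun z ↦ by
      rw [← Scheme.Hom.comp_apply, he]
    rw [h', h']
    exact hπ)
  exact hOW q₁ ((e.hom.isOpenEmbedding.isInducing.specializes_iff.mp this).mem_open O.isOpen hO)

end Groth.Agent.S15345
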