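import Groth.Statements.S15349
import Mathlib
-- import your own Groth.Agent.* helpers here

set_option autoImplicit false
universe u
open CategoryTheory CategoryTheory.Limits AlgebraicGeometry
open Mor

namespace Groth.Agent.S15349


theorem mono_injective {X Y : Scheme.{u}} (f : Y ⟶ X) [Mono f] : Function.Injective f.base :=
  fun a b h => by
    obtain ⟨z, h1, h2⟩ := Scheme.Pullback.exists_preimage_pullback (f := f) (g := f) a b h
    rw [← h1, ← h2, fst_eq_snd_of_mono_eq f]

theorem exists_lift_residueField {X Y P : Scheme.{u}} (f : Y ⟶ X) [LocallyOfFiniteType f] [Mono f]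
    (s : P ⟶ X) (p : P) (hp : s.base p ∈ Set.range f.base) :
    ∃ l : Spec (P.residueField p) ⟶ Y, l ≫ f = P.fromSpecResidueField p ≫ s := by
  obtain ⟨y, hy⟩ := hp
  let q := pullback.fst (P.fromSpecResidueField p ≫ s) f
  haveI : Mono q := pullback.fst_of_mono
  haveI : LocallyOfFiniteType q := MorphismProperty.pullback_fst _ _ ‹LocallyOfFiniteType f›
  haveI : IsLocallyNoetherian (Spec (P.residueField p)) := inferInstance
  haveI : LocallyOfFinitePresentation q := inferInstance
  haveI : IsOpenImmersion q := IsOpenImmersion.of_flat_of_mono _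
  haveI : Surjective q := ⟨fun k => by
    obtain ⟨z, hz, -⟩ := Scheme.Pullback.exists_preimage_pullback
      (f := P.fromSpecResidueField p ≫ s) (g := f) k y
      (by rw [hy, Scheme.Hom.comp_apply, Scheme.fromSpecResidueField_apply])
    exact ⟨z, hz⟩⟩
  haveI : IsIso q := isIso_of_isOpenImmersion_of_opensRange_eq_top q
    (TopologicalSpace.Opens.ext q.surjective.range_eq)
  exact ⟨inv q ≫ pullback.snd _ _, by rw [Category.assoc, ← pullback.condition, IsIso.inv_hom_id_assoc]⟩

/-- Let X be a locally Noetherian scheme and f : Y ⟶ X a monomorphism locally of finite presentation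
such that, for every integral domain A and every morphism s : Spec A ⟶ X for which the points of a
dense subset of Spec A lift to Y (the residue field of each such point maps to Y over s), some
nonempty open subscheme of Spec A maps to Y over s. Then f is quasi-compact. (The published remark
is for a representable morphism of algebraic stacks; this row is the case of schemes.) -/
theorem result {X Y : Scheme.{u}} [IsLocallyNoetherian X]
    (f : Y ⟶ X) [LocallyOfFinitePresentation f] [Mono f]
    (hc : ∀ (A : Type u) [CommRing A] [IsDomain A] (s : Spec (CommRingCat.of A) ⟶ X) (D : Set ↥(Spec (CommRingCat.of A))),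
        Dense D →
        (∀ p ∈ D, ∃ l : Spec ((Spec (CommRingCat.of A)).residueField p) ⟶ Y,
            l ≫ f = (Spec (CommRingCat.of A)).fromSpecResidueField p ≫ s) →
          ∃ U : (Spec (CommRingCat.of A)).Opens, (U : Set ↥(Spec (CommRingCat.of A))).Nonempty ∧
            ∃ l : (U : Scheme.{u}) ⟶ Y, l ≫ f = U.ι ≫ s) :
    QuasiCompact f := by
  rw [quasiCompact_iff_forall_isAffineOpen]
  intro U hU
  let B := Γ(X, U)
  haveI : IsNoetherianRing B := IsLocallyNoetherian.component_noetherian ⟨U, hU⟩
  let s₀ : Spec B ⟶ X := hU.fromSpec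
  haveI : TopologicalSpace.NoetherianSpace (Spec B) :=
    inferInstanceAs (TopologicalSpace.NoetherianSpace (PrimeSpectrum B))
  suffices H : ∀ Z : TopologicalSpace.Closeds (Spec B),
      IsCompact (f.base ⁻¹' (s₀.base '' (Z : Set (Spec B)))) by
    have := H ⊤
    rwa [TopologicalSpace.Closeds.coe_top, show s₀.base '' Set.univ = (U : Set X) by
      rw [Set.image_univ]; exact hU.range_fromSpec] at this
  intro Z
  induction Z using WellFoundedLT.induction with
  | _ Z ih =>
    by_cases hirr : IsIrreducible (Z : Set (Spec B))
    swap
    · by_cases hne : (Z : Set (Spec B)).Nonempty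
      swap
      · rw [Set.not_nonempty_iff_eq_empty.mp hne, Set.image_empty, Set.preimage_empty]
        exact isCompact_empty
      · have hpre : ¬ IsPreirreducible (Z : Set (Spec B)) := fun h => hirr ⟨hne, h⟩
        simp only [isPreirreducible_iff_isClosed_union_isClosed, not_forall, exists_prop] at hpre
        obtain ⟨C₁, C₂, h1, h2, hsub, hn⟩ := hpre
        rw [not_or] at hn
        have key : ∀ C, IsClosed C → ¬ (Z : Set (Spec B)) ⊆ C →
            IsCompact (f.base ⁻¹' (s₀.base '' ((Z : Set (Spec B)) ∩ C))) := fun C hC hne' =>
          ih ⟨_, Z.isClosed.inter hC⟩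
            ⟨Set.inter_subset_left, fun h => hne' fun z hz => (h hz).2⟩
        have hu := (key C₁ h1 hn.1).union (key C₂ h2 hn.2)
        rwa [← Set.preimage_union, ← Set.image_union, ← Set.inter_union_distrib_left,
          Set.inter_eq_self_of_subset_left hsub] at hu
    · obtain ⟨p, hp⟩ : ∃ p : Ideal B, p.IsPrime ∧ (Z : Set (Spec B)) = PrimeSpectrum.zeroLocus p := by
        refine ⟨PrimeSpectrum.vanishingIdeal (show Set (PrimeSpectrum B) from (Z : Set (Spec B))), (PrimeSpectrum.isIrreducible_iff_vanishingIdeal_isPrime).mp hirr, ?_⟩
        exact Z.isClosed.closure_eq.symm.trans (PrimeSpectrum.zeroLocus_vanishingIdeal_eq_closure _).symm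
      haveI := hp.1
      let A := B ⧸ p
      let m : Spec (CommRingCat.of A) ⟶ Spec B := Spec.map (CommRingCat.ofHom (Ideal.Quotient.mk p))
      haveI : IsClosedImmersion m := IsClosedImmersion.spec_of_surjective _ Ideal.Quotient.mk_surjective
      have hrange : Set.range m.base = (Z : Set (Spec B)) := by
        rw [hp.2]
        exact (range_comap_of_surjective _ _ Ideal.Quotient.mk_surjective).trans
          (by rw [Ideal.mk_ker])
      let s := m ≫ s₀
      let D : Set (Spec (CommRingCat.of A)) := {P | s.base P ∈ Set.range f.base}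
      have small : ∀ C : Set (Spec (CommRingCat.of A)), IsClosed C → C ≠ Set.univ →
          IsCompact (f.base ⁻¹' (s.base '' C)) := fun C hC hne => by
        have := ih ⟨m.base '' C, m.isClosedEmbedding.isClosedMap _ hC⟩ ⟨fun z hz => by
            obtain ⟨c, -, rfl⟩ := hz
            exact hrange.le ⟨c, rfl⟩, fun h => hne (Set.eq_univ_of_forall fun c => by
            obtain ⟨c', hc', he⟩ := h (hrange.le ⟨c, rfl⟩ : m.base c ∈ (Z : Set (Spec B)))
            rwa [← m.isClosedEmbedding.injective he])⟩
        rwa [TopologicalSpace.Closeds.coe_mk, ← Set.image_comp] at this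
      have hZ : s₀.base '' (Z : Set (Spec B)) = s.base '' Set.univ := by
        rw [← hrange, Set.image_univ, ← Set.range_comp]
        rfl
      rw [hZ]
      by_cases hD : Dense D
      swap
      · have := small (closure D) isClosed_closure fun h => hD (dense_iff_closure_eq.mpr h)
        convert this using 1
        refine Set.Subset.antisymm ?_ (Set.preimage_mono (Set.image_mono (Set.subset_univ _)))
        rintro y ⟨P, -, hP⟩
        exact ⟨P, subset_closure ⟨y, hP.symm⟩, hP⟩
      · haveI : LocallyOfFiniteType f := inferInstance
        obtain ⟨V, hV, l, hl⟩ := hc A s D hD fun P hP => exists_lift_residueField f s P hP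
        haveI : IsNoetherianRing A := inferInstance
        haveI : CompactSpace (V : Scheme.{u}) := isCompact_iff_compactSpace.mp
          (TopologicalSpace.NoetherianSpace.isCompact (α := PrimeSpectrum A) _)
        have h2 := small (V : Set (Spec (CommRingCat.of A)))ᶜ V.2.isClosed_compl
          fun h => hV.ne_empty (Set.compl_univ_iff.mp h)
        have h3 := (isCompact_range l.continuous).union h2
        convert h3 using 1
        refine Set.Subset.antisymm ?_ ?_
        · rintro y ⟨P, -, hP⟩
          by_cases hPV : P ∈ V
          · refine Or.inl ⟨⟨P, hPV⟩, mono_injective f ?_⟩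
            rw [← Scheme.Hom.comp_apply, hl]
            exact hP
          · exact Or.inr ⟨P, hPV, hP⟩
        · rintro y (⟨v, rfl⟩ | ⟨P, -, hP⟩)
          · refine ⟨v.1, trivial, ?_⟩
            rw [← Scheme.Hom.comp_apply l f, hl]
            rfl
          · exact ⟨P, trivial, hP⟩

end Groth.Agent.S15349
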