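import Groth.Statements.S15348
import Mathlib
import Groth.Agent.S15346
import Groth.Agent.S15349
import Groth.Agent.DvrDom.Points
-- import your own Groth.Agent.* helpers here

set_option autoImplicit false
universe u
open CategoryTheory CategoryTheory.Limits AlgebraicGeometry
open Mor

namespace Groth.Agent.S15348

/-- Let X be a locally Noetherian scheme and f : Y ⟶ X a monomorphism locally of finite presentation.
Assume: for every discrete valuation ring A with fraction field K and every commutative square Spec
K ⟶ Y, Spec A ⟶ X over f such that some morphism from the spectrum of the residue field of A to Y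
lies over Spec A ⟶ X, the square admits a lift; and for every integral domain A and every morphism s
: Spec A ⟶ X such that the points of a dense subset of Spec A lift to Y (the residue field of each
such point maps to Y over s), some nonempty open subscheme of Spec A maps to Y over s. Then f is an
immersion (f is then also quasi-compact; that is not part of this statement). (The published
statement is for a representable morphism of algebraic stacks; this row is the case of schemes.) -/
theorem result {X Y : Scheme.{u}} [IsLocallyNoetherian X]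
    (f : Y ⟶ X) [LocallyOfFinitePresentation f] [Mono f]
    (hb : ∀ S : ValuativeCommSq f, IsDiscreteValuationRing S.R →
        (∃ l₀ : Spec (CommRingCat.of (IsLocalRing.ResidueField S.R)) ⟶ Y,
            l₀ ≫ f = Spec.map (CommRingCat.ofHom (IsLocalRing.residue S.R)) ≫ S.i₂) →
          S.commSq.HasLift)
    (hc : ∀ (A : Type u) [CommRing A] [IsDomain A] (s : Spec (CommRingCat.of A) ⟶ X) (D : Set ↥(Spec (CommRingCat.of A))),
        Dense D →
        (∀ p ∈ D, ∃ l : Spec ((Spec (CommRingCat.of A)).residueField p) ⟶ Y,
            l ≫ f = (Spec (CommRingCat.of A)).fromSpecResidueField p ≫ s) →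
          ∃ U : (Spec (CommRingCat.of A)).Opens, (U : Set ↥(Spec (CommRingCat.of A))).Nonempty ∧
            ∃ l : (U : Scheme.{u}) ⟶ Y, l ≫ f = U.ι ≫ s) :
    IsImmersion f := by
  haveI := Groth.Agent.S15349.result f hc
  haveI : LocallyQuasiFinite f := inferInstance
  let j := f.toNormalization
  let n := f.fromNormalization
  have hjn : j ≫ n = f := f.toNormalization_fromNormalization
  haveI : IsOpenImmersion j := inferInstanceAs (IsOpenImmersion f.toNormalization)
  let Δ : Y ⟶ pullback f n := pullback.lift (𝟙 Y) j (by rw [Category.id_comp, hjn])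
  haveI : IsClosedImmersion Δ := by
    haveI : IsClosedImmersion (Δ ≫ pullback.fst f n) := by
      rw [pullback.lift_fst]; infer_instance
    exact IsClosedImmersion.of_comp Δ (pullback.fst f n)
  have key : ∀ (y : Y) (w : f.normalization), n.base w = f.base y → w ∈ Set.range j.base := by
    intro y w hyw
    obtain ⟨η, hη⟩ := DvrDomLib.exists_specializes_of_mem_closure_range j w
      (by rw [f.toNormalization.denseRange.closure_range]; trivial)
    obtain ⟨z, hz1, hz2⟩ := Scheme.Pullback.exists_preimage_pullback (f := f) (g := n) y w hyw.symm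
    have hs : Δ.base η ⤳ z := Groth.Agent.S15346.result f hb _ n z (Δ.base η) (by
      rw [hz2, ← Scheme.Hom.comp_apply, pullback.lift_snd]; exact hη)
    obtain ⟨η', rfl⟩ := hs.mem_closed Δ.isClosedEmbedding.isClosed_range ⟨η, rfl⟩
    exact ⟨η', by rw [← hz2, ← Scheme.Hom.comp_apply, pullback.lift_snd]⟩
  let W : X.Opens := ⟨(n.base '' (Set.range j.base)ᶜ)ᶜ,
    (n.isClosedMap _ j.isOpenEmbedding.isOpen_range.isClosed_compl).isOpen_compl⟩
  have hW : ∀ y, f.base y ∈ W := fun y ⟨w, hw, hwy⟩ => hw (key y w hwy)
  have hpre : n ⁻¹ᵁ W ≤ j.opensRange := fun w hw => by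
    by_contra h
    exact hw ⟨w, h, rfl⟩
  have hiso : IsIso (j ∣_ n ⁻¹ᵁ W) := (isIso_iff_isOpenImmersion_and_surjective _).mpr
    ⟨inferInstance, ⟨fun w => by
      obtain ⟨y, hy⟩ := hpre w.2
      exact ⟨⟨y, show j.base y ∈ n ⁻¹ᵁ W by rw [hy]; exact w.2⟩, Subtype.ext
        ((morphismRestrict_base_coe j _ _).trans hy)⟩⟩⟩
  haveI : IsIntegralHom (f ∣_ W) := by
    have : ∀ g, g = j ≫ n → IsIntegralHom (g ∣_ W) := by
      rintro g rfl
      rw [morphismRestrict_comp]
      have hn : IsIntegralHom n := inferInstanceAs (IsIntegralHom f.fromNormalization)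
      have hnW : IsIntegralHom (n ∣_ W) := IsZariskiLocalAtTarget.restrict (P := @IsIntegralHom) hn W
      exact @MorphismProperty.RespectsIso.precomp _ _ @IsIntegralHom inferInstance _ _ _ _ hiso _ hnW
    exact this f hjn.symm
  haveI : LocallyOfFiniteType (f ∣_ W) := inferInstance
  haveI : IsFinite (f ∣_ W) := (IsFinite.iff_isIntegralHom_and_locallyOfFiniteType _).mpr ⟨inferInstance, inferInstance⟩
  haveI : Mono (f ∣_ W) := by
    haveI : Mono ((f ∣_ W) ≫ W.ι) := by rw [morphismRestrict_ι]; infer_instance
    exact mono_of_mono _ W.ι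
  haveI : IsClosedImmersion (f ∣_ W) := (IsClosedImmersion.iff_isFinite_and_mono _).mpr ⟨inferInstance, inferInstance⟩
  have htop : f ⁻¹ᵁ W = ⊤ := top_le_iff.mp fun y _ => hW y
  haveI : IsIso (f ⁻¹ᵁ W).ι := by rw [htop]; exact (Scheme.topIso Y).isIso_hom
  have : f = inv (f ⁻¹ᵁ W).ι ≫ (f ∣_ W) ≫ W.ι := by
    rw [morphismRestrict_ι, IsIso.inv_hom_id_assoc]
  rw [this]
  infer_instance

end Groth.Agent.S15348
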