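import Groth.Statements.S15352
import Groth.Agent.GrpFieldLib.Comps
open Groth.Agent.GrpField Groth.Agent.HomogDense
-- import your own Groth.Agent.* helpers here

set_option autoImplicit false
universe u
open CategoryTheory CategoryTheory.Limits MonoidalCategory CartesianMonoidalCategory MonObj GrpObj AlgebraicGeometry
open GrpSch

namespace Groth.Agent.S15352

/-- Let k be an algebraically closed field, G a group scheme locally of finite type over k, G⁰ ⊆ G the
connected component of the unit point, and U a nonempty open subscheme of G contained in G⁰. Then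
every point of G⁰ is in the image of the morphism U ×_k U ⟶ G, (g, h) ↦ g·h⁻¹. (The published
statement writes U as an open of G mapping to G⁰ × G⁰; this row makes the containment U ⊆ G⁰
explicit.) -/
theorem result (k : Type u) [Field k] [IsAlgClosed k]
    (G : Over (Spec (CommRingCat.of k))) [GrpObj G] [LocallyOfFiniteType G.hom] (U : G.left.Opens)
    (hne : (U : Set ↥G.left).Nonempty)
    (hU : (U : Set ↥G.left) ⊆ connectedComponent (η[G].left.base (IsLocalRing.closedPoint k))) :
    connectedComponent (η[G].left.base (IsLocalRing.closedPoint k)) ⊆ Set.range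
      ((((Over.homMk U.ι rfl : Over.mk (U.ι ≫ G.hom) ⟶ G) ⊗ₘ
          ((Over.homMk U.ι rfl : Over.mk (U.ι ≫ G.hom) ⟶ G) ≫ ι[G])) ≫ μ[G]).left.base) := by
  intro x hx
  rw [show connectedComponent (η[G].left.base (IsLocalRing.closedPoint k)) = Z0 G from connectedComponent_unit] at hx hU
  obtain ⟨T, p, hT, hp⟩ := exists_geomPointAt x
  obtain ⟨θ, hθ, hθ'⟩ := GrpField.exists_top (G := G) hT.fieldPt
  obtain ⟨q⟩ := hT.fieldPt.nonempty
  obtain ⟨z, hz, hze, hZ⟩ := exists_Z0_gen G
  have hzU : z ∈ U := by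
    obtain ⟨u, hu⟩ := hne
    exact (specializes_iff_mem_closure.2 (hZ.le (hU hu))).mem_open U.2 hu
  haveI := flat_fst (X := G) T
  have hθz : (fst G T).left θ = z := by
    have h1 : (fst G T).left θ ∈ Z0 G := (hθ' θ).2 specializes_rfl
    have h2 : z ⤳ (fst G T).left θ := specializes_iff_mem_closure.2 (hZ.le h1)
    exact (isMax_map _ hθ z h2).symm
  let ψ := transl (GrpShear.mulAction G) p
  have he : θ ⤳ (lift (1 : T ⟶ G) (𝟙 T)).left q :=
    (hθ' _).1 (fst_unit_sec (G := G) q ▸ unitPt_mem_Z0 G)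
  have hmap : ψ.hom.left ((lift (1 : T ⟶ G) (𝟙 T)).left q) = (lift p (𝟙 T)).left q := by
    rw [← Scheme.Hom.comp_apply, ← Over.comp_left, sec_transl]
    simp only [GrpShear.mulAction, ← Hom.mul_def]; simp
  have hpq : θ ⤳ (lift p (𝟙 T)).left q := (hθ' _).1 (by
    rw [← Scheme.Hom.comp_apply, ← Over.comp_left, lift_fst, hp]; exact hx)
  have hfix : ψ.hom.left θ = θ := uniqAt_grp_tensor hT.fieldPt _ _ _
    (isMax_homeo' (Scheme.homeoOfIso ((Over.forget _).mapIso ψ)) hθ) hθ (hmap ▸ he.map ψ.hom.left.continuous) hpq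
  let g : G ⊗ T ⟶ G := (snd G T ≫ p) * fst G T
  have hg : g.left θ ∈ U := by
    have e : g = ψ.hom ≫ fst G T := by
      simp [g, ψ, GrpField.transl, GrpShear.mulAction, ← Hom.mul_def]
    rw [e, Over.comp_left, Scheme.Hom.comp_apply, hfix, hθz]
    exact hzU
  let jU : Over.mk (U.ι ≫ G.hom) ⟶ G := Over.homMk U.ι rfl
  have hr : Set.range jU.left = U := Scheme.Opens.range_ι U
  obtain ⟨v, hv⟩ := exists_preimage_tensor jU jU ((lift g (fst G T)).left θ)
    (by rw [hr, ← Scheme.Hom.comp_apply, ← Over.comp_left, lift_fst]; exact hg)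
    (by rw [hr, ← Scheme.Hom.comp_apply, ← Over.comp_left, lift_snd, hθz]; exact hzU)
  refine ⟨v, ?_⟩
  have e1 : (jU ⊗ₘ (jU ≫ ι[G])) ≫ μ[G] = (jU ⊗ₘ jU) ≫ (fst G G * (snd G G)⁻¹) := by
    rw [MonObj.comp_mul, GrpObj.comp_inv, tensorHom_fst, tensorHom_snd, Hom.mul_def, Hom.inv_def]
    congr 1
  have e2 : lift g (fst G T) ≫ (fst G G * (snd G G)⁻¹) = snd G T ≫ p := by
    simp [g, MonObj.comp_mul, GrpObj.comp_inv]
  show ((jU ⊗ₘ (jU ≫ ι[G])) ≫ μ[G]).left.base v = x
  rw [e1, Over.comp_left, Scheme.Hom.comp_apply, hv, ← Scheme.Hom.comp_apply, ← Over.comp_left, e2,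
    Over.comp_left, Scheme.Hom.comp_apply]
  exact hp _
end Groth.Agent.S15352
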