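import Groth.Statements.S15353
import Groth.Agent.ProjLib.ProjNil
import Mathlib.RingTheory.PicardGroup
import Mathlib.RingTheory.Idempotents
import Mathlib.LinearAlgebra.Matrix.ToLin
import Mathlib.RingTheory.TensorProduct.Basic
import Mathlib.RingTheory.TensorProduct.Finite
import Mathlib.Tactic.Abel

set_option autoImplicit false
universe u
open CAlg
open scoped TensorProduct

namespace Groth.Agent.S15353
variable {A' A : Type u} [CommRing A'] [CommRing A] [Algebra A' A]

theorem mem_smul_of_tmul_eq_zero (hf : Function.Surjective (algebraMap A' A)) {X : Type u} [AddCommGroup X]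
    [Module A' X] {z : X} (h : (1 : A) ⊗ₜ[A'] z = 0) : z ∈ RingHom.ker (algebraMap A' A) • (⊤ : Submodule A' X) := by
  let e : (A' ⧸ RingHom.ker (algebraMap A' A)) ≃ₐ[A'] A :=
    Ideal.quotientKerAlgEquivOfSurjective (f := Algebra.ofId A' A) hf
  have h1 := congrArg ((TensorProduct.quotTensorEquivQuotSMul X (RingHom.ker (algebraMap A' A))).toLinearMap ∘ₗ
    e.symm.toLinearMap.rTensor X) h
  rw [map_zero, LinearMap.comp_apply, LinearMap.rTensor_tmul, AlgEquiv.toLinearMap_apply, map_one,
    LinearEquiv.coe_coe, ← TensorProduct.quotTensorEquivQuotSMul_symm_mk, LinearEquiv.apply_symm_apply,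
    Submodule.Quotient.mk_eq_zero] at h1
  exact h1

theorem nonempty_equiv_self (hf : Function.Surjective (algebraMap A' A))
    (hI : IsNilpotent (RingHom.ker (algebraMap A' A))) (X : Type u) [AddCommGroup X] [Module A' X]
    [Module.Finite A' X] [Module.Projective A' X] (e : A ⊗[A'] X ≃ₗ[A] A) : Nonempty (X ≃ₗ[A'] A') := by
  have hmk : ∀ z : A ⊗[A'] X, ∃ x : X, z = (1 : A) ⊗ₜ x := fun z => by
    induction z using TensorProduct.induction_on with
    | zero => exact ⟨0, by rw [TensorProduct.tmul_zero]⟩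
    | add a b ha hb =>
      obtain ⟨x, rfl⟩ := ha
      obtain ⟨y, rfl⟩ := hb
      exact ⟨x + y, by rw [TensorProduct.tmul_add]⟩
    | tmul a x =>
      obtain ⟨a, rfl⟩ := hf a
      exact ⟨a • x, by rw [Algebra.algebraMap_eq_smul_one, TensorProduct.smul_tmul]⟩
  obtain ⟨m, hm⟩ := hmk (e.symm 1)
  let φ := LinearMap.toSpanSingleton A' X m
  have hsurj : Function.Surjective φ := by
    rw [← LinearMap.range_eq_top]
    refine ProjLib.eq_top_of_sup_smul_eq_top hI _ (eq_top_iff.2 fun x _ => ?_)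
    obtain ⟨c, hc⟩ := hf (e ((1 : A) ⊗ₜ x))
    have h0 : (1 : A) ⊗ₜ[A'] (x - c • m) = 0 := by
      refine e.injective ?_
      rw [map_zero, TensorProduct.tmul_sub, map_sub, TensorProduct.tmul_smul, sub_eq_zero,
        ← algebraMap_smul A c ((1 : A) ⊗ₜ[A'] m), map_smul, ← hm, LinearEquiv.apply_symm_apply, hc, smul_eq_mul,
        mul_one]
    exact Submodule.mem_sup.2 ⟨c • m, ⟨c, rfl⟩, x - c • m, mem_smul_of_tmul_eq_zero hf h0, by abel⟩
  obtain ⟨ψ, hψ⟩ := Module.projective_lifting_property φ LinearMap.id hsurj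
  have hu : (ψ m) • m = m := LinearMap.congr_fun hψ m
  have hu1 : algebraMap A' A (ψ m) = 1 := by
    have h2 := congrArg (fun z => e ((1 : A) ⊗ₜ[A'] z)) hu
    simp only [TensorProduct.tmul_smul] at h2
    rwa [← algebraMap_smul A (ψ m) ((1 : A) ⊗ₜ[A'] m), map_smul, ← hm, LinearEquiv.apply_symm_apply,
      smul_eq_mul, mul_one] at h2
  have hunit : IsUnit (ψ m) := by
    obtain ⟨k, hk⟩ := hI
    have hn : IsNilpotent (ψ m - 1) := ⟨k, by
      have h3 := Ideal.pow_mem_pow (show ψ m - 1 ∈ RingHom.ker (algebraMap A' A) by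
        rw [RingHom.mem_ker, map_sub, hu1, map_one, sub_self]) k
      rwa [hk, Ideal.zero_eq_bot, Ideal.mem_bot] at h3⟩
    simpa using hn.isUnit_add_one
  refine ⟨(LinearEquiv.ofBijective φ ⟨(injective_iff_map_eq_zero _).2 fun a ha => ?_, hsurj⟩).symm⟩
  have h4 := congrArg ψ ha
  rw [LinearMap.toSpanSingleton_apply, map_smul, map_zero, smul_eq_mul] at h4
  exact hunit.mul_left_eq_zero.1 h4

theorem exists_lift_module (hf : Function.Surjective (algebraMap A' A))
    (hI : IsNilpotent (RingHom.ker (algebraMap A' A))) (M : Type u) [AddCommGroup M] [Module A M]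
    [Module.Finite A M] [Module.Projective A M] :
    ∃ (P : Type u) (_ : AddCommGroup P) (_ : Module A' P) (_ : Module.Finite A' P) (_ : Module.Projective A' P),
      Nonempty (A ⊗[A'] P ≃ₗ[A] M) := by
  classical
  letI : Module A' M := Module.compHom M (algebraMap A' A)
  haveI : IsScalarTower A' A M := IsScalarTower.of_algebraMap_smul fun _ _ => rfl
  obtain ⟨n, π, hπ⟩ := Module.Finite.exists_fin' A M
  obtain ⟨σ, hσ⟩ := Module.projective_lifting_property π LinearMap.id hπ
  have hσ' : ∀ m, π (σ m) = m := LinearMap.congr_fun hσ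
  let g := (algebraMap A' A).mapMatrix (m := Fin n)
  let ē : Matrix (Fin n) (Fin n) A := LinearMap.toMatrix' (σ.comp π)
  have hē : IsIdempotentElem ē := by
    rw [IsIdempotentElem, ← LinearMap.toMatrix'_mul]
    refine congrArg LinearMap.toMatrix' (LinearMap.ext fun v => ?_)
    rw [Module.End.mul_apply, LinearMap.comp_apply, LinearMap.comp_apply, hσ']
  have hnil : ∀ X ∈ RingHom.ker g, IsNilpotent X := by
    intro X hX
    obtain ⟨k, hk⟩ := hI
    refine ⟨k, ?_⟩
    have hent : ∀ i j, X i j ∈ RingHom.ker (algebraMap A' A) := fun i j =>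
      RingHom.mem_ker.2 (congrArg (fun Y : Matrix (Fin n) (Fin n) A => Y i j) (RingHom.mem_ker.1 hX))
    have hpow : ∀ (l : ℕ) i j, (X ^ l) i j ∈ RingHom.ker (algebraMap A' A) ^ l := by
      intro l
      induction l with
      | zero => intro i j; simp
      | succ l ih =>
        intro i j
        rw [pow_succ X, Matrix.mul_apply, pow_succ (RingHom.ker (algebraMap A' A))]
        exact sum_mem fun t _ => Ideal.mul_mem_mul (ih i t) (hent t j)
    ext i j
    have h := hpow k i j
    rwa [hk, Ideal.zero_eq_bot, Ideal.mem_bot] at h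
  have hrange : ē ∈ g.range := by
    choose E hE using fun i j => hf (ē i j)
    exact ⟨Matrix.of E, Matrix.ext fun i j => hE i j⟩
  obtain ⟨E, hE, hEe⟩ := exists_isIdempotentElem_eq_of_ker_isNilpotent g hnil ē hrange hē
  let P := LinearMap.range E.mulVecLin
  let r : (Fin n → A') →ₗ[A'] P := E.mulVecLin.rangeRestrict
  have hfix : ∀ v : P, E.mulVec (v : Fin n → A') = v := by
    rintro ⟨_, w, rfl⟩
    simp only [Matrix.mulVecLin_apply, Matrix.mulVec_mulVec]
    rw [hE.eq]
  have hrv : ∀ v : P, r (v : Fin n → A') = v := fun v => Subtype.ext (hfix v)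
  refine ⟨P, inferInstance, inferInstance, inferInstance,
    Module.Projective.of_split P.subtype r (LinearMap.ext fun v => hrv v), ?_⟩
  let cf : (Fin n → A') →ₗ[A'] (Fin n → A) := LinearMap.compLeft (Algebra.linearMap A' A) (Fin n)
  have hcE : ∀ v, cf (E.mulVec v) = σ (π (cf v)) := fun v => by
    have h1 : σ (π (cf v)) = ē.mulVec (cf v) := (LinearMap.toMatrix'_mulVec (σ.comp π) (cf v)).symm
    rw [h1, ← hEe]
    funext i
    exact RingHom.map_mulVec (algebraMap A' A) E v i
  let Φ : A ⊗[A'] P →ₗ[A] M :=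
    LinearMap.liftBaseChange A (((π.restrictScalars A').comp cf).comp P.subtype)
  let Ψ : M →ₗ[A] A ⊗[A'] P := ∑ i, ((LinearMap.proj i).comp σ).smulRight ((1 : A) ⊗ₜ[A'] r (Pi.single i 1))
  have hΦ : ∀ v : P, Φ ((1 : A) ⊗ₜ v) = π (cf v) := fun v => by
    simp [Φ]
  refine ⟨LinearEquiv.ofLinearMap Φ Ψ (LinearMap.ext fun m => ?_) (TensorProduct.AlgebraTensorModule.ext fun a v => ?_)⟩
  · simp only [Ψ, LinearMap.comp_apply, LinearMap.sum_apply, LinearMap.smulRight_apply, LinearMap.proj_apply,
      map_sum, map_smul, hΦ, LinearMap.id_apply]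
    have h5 : ∀ i, π (cf (r (Pi.single i 1))) = π (Pi.single i 1) := fun i => by
      rw [show (r (Pi.single i 1) : Fin n → A') = E.mulVec (Pi.single i 1) from rfl, hcE, hσ']
      congr 1
      funext j
      by_cases hj : j = i
      · subst hj; simp [cf]
      · simp [cf, hj]
    simp only [h5, ← map_smul, ← map_sum]
    rw [← pi_eq_sum_univ' (σ m), hσ']
  · have h6 : Ψ (Φ ((1 : A) ⊗ₜ v)) = (1 : A) ⊗ₜ v := by
      rw [hΦ]
      simp only [Ψ, LinearMap.sum_apply, LinearMap.smulRight_apply, LinearMap.comp_apply, LinearMap.proj_apply]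
      rw [← hcE, hfix]
      conv_rhs => rw [← hrv v, pi_eq_sum_univ' (v : Fin n → A'), map_sum, TensorProduct.tmul_sum]
      refine Finset.sum_congr rfl fun i _ => ?_
      rw [map_smul r, TensorProduct.tmul_smul]
      exact algebraMap_smul A ((v : Fin n → A') i) _
    have ha : a ⊗ₜ[A'] v = a • ((1 : A) ⊗ₜ[A'] v) := by rw [TensorProduct.smul_tmul', smul_eq_mul, mul_one]
    rw [LinearMap.comp_apply, LinearMap.id_apply, ha, map_smul, map_smul, h6]

/-- Let f : A' → A be a surjective ring homomorphism whose kernel is a nilpotent ideal. Then the induced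
homomorphism of Picard groups Pic(A') → Pic(A), base change of invertible modules along f, is
bijective. -/
theorem result {A' A : Type u} [CommRing A'] [CommRing A]
    (f : A' →+* A) (hf : Function.Surjective f) (hker : IsNilpotent (RingHom.ker f)) :
    Function.Bijective (CommRing.Pic.mapRingHom f) := by
  letI := f.toAlgebra
  have hf' : Function.Surjective (algebraMap A' A) := hf
  have hI : IsNilpotent (RingHom.ker (algebraMap A' A)) := hker
  rw [show f = algebraMap A' A from rfl, CommRing.Pic.mapRingHom_algebraMap]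
  refine ⟨(injective_iff_map_eq_one _).2 fun M hM => ?_, fun M => ?_⟩
  · rw [CommRing.Pic.mapAlgebra_apply, CommRing.Pic.mk_eq_one_iff] at hM
    obtain ⟨e⟩ := hM
    obtain ⟨e'⟩ := nonempty_equiv_self hf' hI M e
    rw [← CommRing.Pic.mk_eq_self (M := M), CommRing.Pic.mk_eq_one_iff]
    exact ⟨e'⟩
  · obtain ⟨P, _, _, _, _, ⟨eP⟩⟩ := exists_lift_module hf' hI (M : Type u)
    obtain ⟨Q, _, _, _, _, ⟨eQ⟩⟩ := exists_lift_module hf' hI (Module.Dual A (M : Type u))
    have e : A ⊗[A'] (Q ⊗[A'] P) ≃ₗ[A] A :=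
      TensorProduct.AlgebraTensorModule.distribBaseChange A' A Q P ≪≫ₗ TensorProduct.congr eQ eP ≪≫ₗ
        Module.Invertible.linearEquiv A (M : Type u)
    obtain ⟨e'⟩ := nonempty_equiv_self hf' hI (Q ⊗[A'] P) e
    haveI : Module.Invertible A' P := Module.Invertible.right e'
    refine ⟨CommRing.Pic.mk A' P, ?_⟩
    rw [CommRing.Pic.mapAlgebra_apply, CommRing.Pic.mk_eq_iff]
    exact ⟨TensorProduct.AlgebraTensorModule.congr (LinearEquiv.refl A A) (CommRing.Pic.mk.linearEquiv A' P) ≪≫ₗ eP⟩

end Groth.Agent.S15353
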