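import Groth.Statements.S15354
import Mathlib.AlgebraicGeometry.Morphisms.Immersion
import Mathlib.AlgebraicGeometry.Morphisms.ClosedImmersion
-- import your own Groth.Agent.* helpers here

set_option autoImplicit false
universe u
open CategoryTheory CategoryTheory.Limits AlgebraicGeometry
open Mor

namespace Groth.Agent.S15354

/-- Let f : Y ⟶ X be a morphism of schemes, A a valuation ring with fraction field K and residue field
k, and ξ, η : Spec A ⟶ Y two A-points of Y over the same A-point of X. If ξ and η restrict to the
same K-point and to the same k-point of Y, then ξ = η. (The published statement is an equivalence,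
for algebraic spaces locally of finite presentation over a Noetherian scheme, between local
separatedness of f and conditions (a), (b); this row is the necessity of (a) in the case of schemes,
where no hypothesis on f is needed.) -/
theorem result {X Y : Scheme.{u}} (f : Y ⟶ X)
    (A : Type u) [CommRing A] [IsDomain A] [ValuationRing A] (K : Type u) [Field K] [Algebra A K]
    [IsFractionRing A K] (ξ η : Spec (CommRingCat.of A) ⟶ Y) (hf : ξ ≫ f = η ≫ f)
    (hK : Spec.map (CommRingCat.ofHom (algebraMap A K)) ≫ ξ = Spec.map (CommRingCat.ofHom (algebraMap A K)) ≫ η)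
    (hk : Spec.map (CommRingCat.ofHom (IsLocalRing.residue A)) ≫ ξ =
      Spec.map (CommRingCat.ofHom (IsLocalRing.residue A)) ≫ η) :
    ξ = η := by
  let i := equalizer.ι ξ η
  have hc : IsLocalRing.closedPoint A ∈ Set.range i := by
    refine ⟨equalizer.lift _ hk default, ?_⟩
    rw [← Scheme.Hom.comp_apply, equalizer.lift_ι]
    have key : ∀ q : PrimeSpectrum (IsLocalRing.ResidueField A),
        PrimeSpectrum.comap (IsLocalRing.residue A) q = IsLocalRing.closedPoint A := fun q => by
      refine PrimeSpectrum.ext ?_
      show Ideal.comap (IsLocalRing.residue A) q.asIdeal = _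
      rw [(IsSimpleOrder.eq_bot_or_eq_top _).resolve_right q.isPrime.ne_top, ← RingHom.ker_eq_comap_bot]
      exact IsLocalRing.ker_residue (R := A)
    exact key _
  have htop : i.coborderRange = ⊤ := top_le_iff.1 fun z _ =>
    (IsLocalRing.specializes_closedPoint z).mem_open i.coborderRange.isOpen (subset_coborder hc)
  haveI : IsClosedImmersion i := by
    haveI : IsIso i.coborderRange.ι := by rw [htop]; exact inferInstanceAs (IsIso (Scheme.topIso _).hom)
    rw [← i.liftCoborder_ι]
    infer_instance
  have hr : IsDominant i := by
    refine ⟨?_⟩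
    show Dense (Set.range i)
    have hgen : (⟨⊥, Ideal.isPrime_bot⟩ : PrimeSpectrum A) ∈ Set.range i := by
      refine ⟨equalizer.lift _ hK default, ?_⟩
      rw [← Scheme.Hom.comp_apply, equalizer.lift_ι]
      have key : ∀ q : PrimeSpectrum K, PrimeSpectrum.comap (algebraMap A K) q = ⟨⊥, Ideal.isPrime_bot⟩ := fun q => by
        refine PrimeSpectrum.ext ?_
        show Ideal.comap (algebraMap A K) q.asIdeal = ⊥
        rw [(IsSimpleOrder.eq_bot_or_eq_top _).resolve_right q.isPrime.ne_top, ← RingHom.ker_eq_comap_bot,
          (RingHom.injective_iff_ker_eq_bot _).1 (IsFractionRing.injective A K)]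
      exact key _
    intro z
    exact ((PrimeSpectrum.le_iff_specializes ⟨⊥, Ideal.isPrime_bot⟩ z).1 bot_le).mem_closed isClosed_closure
      (subset_closure hgen)
  haveI : Surjective i := ⟨fun z => (i.isClosedEmbedding.isClosed_range.closure_eq ▸ hr.denseRange z :)⟩
  haveI : IsIso i := isIso_of_isClosedImmersion_of_surjective i
  exact (cancel_epi i).1 (equalizer.condition ξ η)


end Groth.Agent.S15354
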