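import Groth.Statements.S15355
import Mathlib.AlgebraicGeometry.Morphisms.Immersion
import Mathlib.AlgebraicGeometry.Morphisms.ClosedImmersion
-- import your own Groth.Agent.* helpers here

set_option autoImplicit false
universe u
open CategoryTheory CategoryTheory.Limits AlgebraicGeometry
open Mor

namespace Groth.Agent.S15355

/-- Let f : Y ⟶ X be a morphism of schemes, A an integral domain and ξ, η : Spec A ⟶ Y two A-points of Y
over the same A-point of X. If ξ and η induce the same κ(p)-point of Y at every point p of some
dense subset of Spec A, then ξ and η agree on a nonempty open subscheme of Spec A. (The published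
statement is an equivalence, for algebraic spaces locally of finite presentation over a Noetherian
scheme, between local separatedness of f and conditions (a), (b); this row is the necessity of (b)
in the case of schemes, where no hypothesis on f is needed.) -/
theorem result {X Y : Scheme.{u}} (f : Y ⟶ X)
    (A : Type u) [CommRing A] [IsDomain A] (ξ η : Spec (CommRingCat.of A) ⟶ Y) (hf : ξ ≫ f = η ≫ f)
    (D : Set ↥(Spec (CommRingCat.of A))) (hD : Dense D)
    (hpt : ∀ p ∈ D, (Spec (CommRingCat.of A)).fromSpecResidueField p ≫ ξ =
      (Spec (CommRingCat.of A)).fromSpecResidueField p ≫ η) :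
    ∃ U : (Spec (CommRingCat.of A)).Opens, (U : Set ↥(Spec (CommRingCat.of A))).Nonempty ∧ U.ι ≫ ξ = U.ι ≫ η := by
  let i := equalizer.ι ξ η
  have hD' : D ⊆ Set.range i := fun p hp => by
    refine ⟨equalizer.lift _ (hpt p hp) default, ?_⟩
    rw [← Scheme.Hom.comp_apply, equalizer.lift_ι]
    exact Scheme.fromSpecResidueField_apply _ _
  let U := i.coborderRange
  have hUne : (U : Set ↥(Spec (CommRingCat.of A))).Nonempty :=
    (hD.nonempty.mono hD').mono subset_coborder
  refine ⟨U, hUne, ?_⟩
  let j := i.liftCoborder
  haveI : Surjective j := by
    refine ⟨fun z => ?_⟩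
    have hcl : closure (Set.range j) = Set.univ := by
      rw [U.ι.isOpenEmbedding.isEmbedding.closure_eq_preimage_closure_image, ← Set.range_comp]
      have hcomp : (U.ι ∘ j : _ → _) = i := funext fun w => by
        show U.ι (j w) = i w
        rw [← Scheme.Hom.comp_apply, i.liftCoborder_ι]
      rw [hcomp, (hD.mono hD').closure_eq, Set.preimage_univ]
    exact ((j.isClosedEmbedding.isClosed_range.closure_eq.symm.trans hcl).ge (Set.mem_univ z) :)
  haveI : IsReduced U.toScheme := isReduced_of_isOpenImmersion U.ι
  haveI : IsIso j := isIso_of_isClosedImmersion_of_surjective j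
  rw [← cancel_epi j, ← Category.assoc, ← Category.assoc, i.liftCoborder_ι]
  exact equalizer.condition ξ η


end Groth.Agent.S15355
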