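import Groth.Statements.S15360
import Mathlib

set_option autoImplicit false
set_option backward.isDefEq.respectTransparency false
set_option backward.isDefEq.respectTransparency.types false
set_option maxHeartbeats 1000000
set_option synthInstance.maxHeartbeats 400000
universe u
open GalCoh

namespace Groth.Agent.S15360

open Matrix in
private theorem exists_of_map_zero {p : ℕ} [Fact p.Prime] (Z : Matrix (Fin 2) (Fin 2) ℤ_[p])
    (h : Z.map (PadicInt.toZMod (p := p)) = 0) :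
    ∃ W : Matrix (Fin 2) (Fin 2) ℤ_[p], Z = (p : ℤ_[p]) • W := by
  have : ∀ i j, ∃ w, Z i j = (p : ℤ_[p]) * w := fun i j => by
    have h1 : Z i j ∈ RingHom.ker (PadicInt.toZMod (p := p)) := by
      simpa using congrFun (congrFun h i) j
    rw [PadicInt.ker_toZMod, PadicInt.maximalIdeal_eq_span_p, Ideal.mem_span_singleton] at h1
    exact h1
  choose W hW using this
  exact ⟨Matrix.of W, by ext i j; simp [hW]⟩

private theorem isUnit_of_toZMod {p : ℕ} [Fact p.Prime] {x : ℤ_[p]} (h : PadicInt.toZMod x ≠ 0) :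
    IsUnit x := by
  rw [← IsLocalRing.notMem_maximalIdeal, ← PadicInt.ker_toZMod]
  exact h

open Matrix in
private theorem exists_lift {p : ℕ} [Fact p.Prime] (x : GL (Fin 2) (ZMod p)) :
    ∃ y : GL (Fin 2) ℤ_[p], Matrix.GeneralLinearGroup.map (PadicInt.toZMod (p := p)) y = x := by
  let Y : Matrix (Fin 2) (Fin 2) ℤ_[p] := x.val.map fun a => (a.val : ℤ_[p])
  have hY : Y.map (PadicInt.toZMod (p := p)) = x.val := by
    ext i j; simp [Y]
  have hd : IsUnit Y.det := isUnit_of_toZMod (by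
    rw [RingHom.map_det, RingHom.mapMatrix_apply, hY]
    exact (x.isUnit.map Matrix.detMonoidHom).ne_zero)
  refine ⟨GeneralLinearGroup.mk'' Y hd, Units.ext ?_⟩
  exact hY


/-- Let 𝔊 be a profinite group and ϕ : 𝔊 → GL₂(ℤ_p) a continuous homomorphism. Then ϕ is surjective if
and only if (i) the composite of ϕ with reduction modulo p, 𝔊 → GL₂(𝔽_p), is surjective, and (ii)
for every integer n ≥ 1 there is g ∈ 𝔊 such that ϕ(g) has the form [[1 + pⁿa, pⁿ⁺¹b], [pⁿ⁺¹c, 1 +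
pⁿ⁺¹d]] with a, b, c, d ∈ ℤ_p and a not divisible by p (equivalently: the image of ϕ⁻¹(1 +
pⁿM₂(ℤ_p)) in M₂(𝔽_p) under g ↦ (ϕ(g) − 1)/pⁿ contains a matrix [[x, 0], [0, 0]] with x ≠ 0).
Continuity of ϕ is expressed through its matrix entries. -/
theorem result (p : ℕ) [Fact p.Prime]
    (𝔊 : Type u) [Group 𝔊] [TopologicalSpace 𝔊] [IsTopologicalGroup 𝔊] [CompactSpace 𝔊] [T2Space 𝔊]
    [TotallyDisconnectedSpace 𝔊]
    (ϕ : 𝔊 →* GL (Fin 2) ℤ_[p])
    (hϕ : Continuous fun g => ((ϕ g : GL (Fin 2) ℤ_[p]) : Matrix (Fin 2) (Fin 2) ℤ_[p])) :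
    Function.Surjective ϕ ↔
      (Function.Surjective ((Matrix.GeneralLinearGroup.map (n := Fin 2) (PadicInt.toZMod (p := p))).comp ϕ) ∧
        ∀ n : ℕ, 1 ≤ n → ∃ (g : 𝔊) (a b c d : ℤ_[p]), ¬ ((p : ℤ_[p]) ∣ a) ∧
          ((ϕ g : GL (Fin 2) ℤ_[p]) : Matrix (Fin 2) (Fin 2) ℤ_[p]) =
            !![1 + (p : ℤ_[p]) ^ n * a, (p : ℤ_[p]) ^ (n + 1) * b;
               (p : ℤ_[p]) ^ (n + 1) * c, 1 + (p : ℤ_[p]) ^ (n + 1) * d]) := by
  constructor
  · intro h
    refine ⟨fun x => ?_, fun n hn => ?_⟩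
    · obtain ⟨y, hy⟩ := exists_lift x
      obtain ⟨g, rfl⟩ := h y
      exact ⟨g, hy⟩
    · let A : Matrix (Fin 2) (Fin 2) ℤ_[p] := !![1 + (p : ℤ_[p]) ^ n * 1, (p : ℤ_[p]) ^ (n + 1) * 0;
        (p : ℤ_[p]) ^ (n + 1) * 0, 1 + (p : ℤ_[p]) ^ (n + 1) * 0]
      have hA : IsUnit A.det := isUnit_of_toZMod (by
        simp [A, Matrix.det_fin_two, map_add, map_pow, zero_pow (by omega : n ≠ 0)])
      obtain ⟨g, hg⟩ := h (Matrix.GeneralLinearGroup.mk'' A hA)
      refine ⟨g, 1, 0, 0, 0, fun hdvd => ?_, by rw [hg]; rfl⟩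
      exact PadicInt.prime_p.not_unit (isUnit_of_dvd_one hdvd)
  rintro ⟨h1, h2⟩ u
  let q : Matrix (Fin 2) (Fin 2) ℤ_[p] →+* Matrix (Fin 2) (Fin 2) (ZMod p) := (PadicInt.toZMod (p := p)).mapMatrix
  let φ : 𝔊 → Matrix (Fin 2) (Fin 2) ℤ_[p] := fun g => (ϕ g).val
  have hmul : ∀ g g', φ (g * g') = φ g * φ g' := fun g g' => by simp [φ]
  have hinv : ∀ g, φ g * φ g⁻¹ = 1 := fun g => by rw [← hmul]; simp [φ]
  have hinv' : ∀ g, φ g⁻¹ * φ g = 1 := fun g => by rw [← hmul]; simp [φ]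
  have qp : ∀ n, 1 ≤ n → ∀ Z, q ((p : ℤ_[p]) ^ n • Z) = 0 := fun n hn Z => by
    ext i j; simp [q, zero_pow (by omega : n ≠ 0)]
  -- every layer is everything
  have layer : ∀ n, 1 ≤ n → ∀ X, ∃ g X₀, q X₀ = X ∧ φ g = 1 + (p : ℤ_[p]) ^ n • X₀ := by
    intro n hn
    let S : AddSubmonoid (Matrix (Fin 2) (Fin 2) (ZMod p)) :=
      { carrier := {X | ∃ g X₀, q X₀ = X ∧ φ g = 1 + (p : ℤ_[p]) ^ n • X₀}
        zero_mem' := ⟨1, 0, map_zero q, by simp [φ]⟩
        add_mem' := by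
          rintro _ _ ⟨g, X₀, rfl, hg⟩ ⟨g', Y₀, rfl, hg'⟩
          refine ⟨g * g', X₀ + Y₀ + (p : ℤ_[p]) ^ n • (X₀ * Y₀), ?_, ?_⟩
          · rw [map_add, map_add, qp n hn, add_zero]
          · rw [hmul, hg, hg']
            simp only [add_mul, mul_add, one_mul, mul_one, smul_mul_assoc, mul_smul_comm, smul_add]
            abel }
    have hscal : ∀ (c : ZMod p) X, X ∈ S → c • X ∈ S := fun c X hX => by
      rw [← ZMod.natCast_zmod_val c, Nat.cast_smul_eq_nsmul]
      exact S.nsmul_mem hX _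
    have hconj : ∀ (m : GL (Fin 2) (ZMod p)) X, X ∈ S → m.val * X * m⁻¹.val ∈ S := by
      rintro m _ ⟨g, X₀, rfl, hg⟩
      obtain ⟨s, hs⟩ := h1 m
      have hs1 : q (φ s) = m.val := congrArg Units.val hs
      have hs2 : q (φ s⁻¹) = m⁻¹.val := by
        rw [← hs, ← map_inv]; rfl
      refine ⟨s * g * s⁻¹, φ s * X₀ * φ s⁻¹, by rw [map_mul, map_mul, hs1, hs2], ?_⟩
      rw [hmul, hmul, hg]
      simp only [mul_add, add_mul, mul_one, hinv, mul_smul_comm, smul_mul_assoc]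
    obtain ⟨g, a, b, c, d, ha, hg⟩ := h2 n hn
    have ha' : PadicInt.toZMod a ≠ 0 := fun h0 => ha <| by
      have : a ∈ RingHom.ker (PadicInt.toZMod (p := p)) := h0
      rwa [PadicInt.ker_toZMod, PadicInt.maximalIdeal_eq_span_p, Ideal.mem_span_singleton] at this
    have hE : !![(1 : ZMod p), 0; 0, 0] ∈ S := by
      have : !![PadicInt.toZMod a, 0; 0, 0] ∈ S := by
        refine ⟨g, !![a, (p : ℤ_[p]) * b; (p : ℤ_[p]) * c, (p : ℤ_[p]) * d], ?_, hg.trans ?_⟩
        · ext i j; fin_cases i <;> fin_cases j <;> simp [q]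
        · ext i j; fin_cases i <;> fin_cases j <;> simp [pow_succ, mul_assoc]
      have := hscal (PadicInt.toZMod a)⁻¹ _ this
      convert this using 1
      ext i j; fin_cases i <;> fin_cases j <;> simp [ha']
    have cj : ∀ (m m' : Matrix (Fin 2) (Fin 2) (ZMod p)), m * m' = 1 → m' * m = 1 →
        m * !![(1 : ZMod p), 0; 0, 0] * m' ∈ S := fun m m' e e' => hconj ⟨m, m', e, e'⟩ _ hE
    intro X
    change X ∈ S
    have h11 := cj !![0, 1; 1, 0] !![0, 1; 1, 0] (by simp [Matrix.one_fin_two]) (by simp [Matrix.one_fin_two])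
    have hA := cj !![1, 1; 0, 1] !![1, -1; 0, 1] (by simp [Matrix.one_fin_two]) (by simp [Matrix.one_fin_two])
    have hB := cj !![1, 0; 1, 1] !![1, 0; -1, 1] (by simp [Matrix.one_fin_two]) (by simp [Matrix.one_fin_two])
    have := S.add_mem (S.add_mem (S.add_mem (hscal (X 0 0 + X 0 1 - X 1 0) _ hE) (hscal (X 1 1) _ h11))
      (hscal (-X 0 1) _ hA)) (hscal (X 1 0) _ hB)
    convert this using 1
    ext i j; fin_cases i <;> fin_cases j <;> simp; abel
  -- successive approximation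
  have approx : ∀ n, ∃ g Z, u.val = φ g + (p : ℤ_[p]) ^ (n + 1) • Z := by
    intro n
    induction n with
    | zero =>
      obtain ⟨g, hg⟩ := h1 (Matrix.GeneralLinearGroup.map (PadicInt.toZMod (p := p)) u)
      have hg' : q (φ g) = q u.val := congrArg Units.val hg
      obtain ⟨W, hW⟩ := exists_of_map_zero (u.val - φ g) (by
        change q (u.val - φ g) = 0
        rw [map_sub, hg', sub_self])
      exact ⟨g, W, by rw [zero_add, pow_one, ← hW]; abel⟩
    | succ n ih =>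
      obtain ⟨g, Z, hZ⟩ := ih
      obtain ⟨g', X₀, hX, hg'⟩ := layer (n + 1) (by omega) (q (φ g⁻¹ * Z))
      obtain ⟨W, hW⟩ := exists_of_map_zero (Z - φ g * X₀) (by
        change q (Z - φ g * X₀) = 0
        rw [map_sub, map_mul, hX, ← map_mul, ← mul_assoc, hinv, one_mul, sub_self])
      refine ⟨g * g', W, ?_⟩
      rw [hmul, hg', hZ, mul_add, mul_one, mul_smul_comm, pow_succ _ (n + 1), mul_smul, ← hW,
        smul_sub]
      abel
  choose G Z hGZ using approx
  have hclosed : IsClosed (Set.range φ) := (isCompact_range hϕ).isClosed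
  have hlim : Filter.Tendsto (fun n => φ (G n)) Filter.atTop (nhds u.val) := by
    refine tendsto_pi_nhds.2 fun i => tendsto_pi_nhds.2 fun j => tendsto_iff_norm_sub_tendsto_zero.2 ?_
    refine squeeze_zero (fun n => norm_nonneg _) (fun n => ?_)
      ((tendsto_pow_atTop_nhds_zero_of_lt_one (inv_nonneg.2 (Nat.cast_nonneg p))
        (inv_lt_one_of_one_lt₀ (by exact_mod_cast (Fact.out : p.Prime).one_lt))).comp (Filter.tendsto_add_atTop_nat 1))
    rw [hGZ n]
    simp only [Matrix.add_apply, Matrix.smul_apply, smul_eq_mul, sub_add_cancel_left, norm_neg, norm_mul, norm_pow,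
      PadicInt.norm_p, Function.comp_apply]
    exact mul_le_of_le_one_right (pow_nonneg (inv_nonneg.2 (Nat.cast_nonneg p)) _) (PadicInt.norm_le_one _)
  obtain ⟨g, hg⟩ := hclosed.mem_of_tendsto hlim (Filter.Eventually.of_forall fun n => ⟨G n, rfl⟩)
  exact ⟨g, Units.ext hg⟩

end Groth.Agent.S15360
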