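import Groth.Statements.S15362
import Groth.Agent.LangQLib.Field
import Mathlib.RingTheory.IntegralClosure.IsIntegralClosure.Basic
import Mathlib.RingTheory.Finiteness.Basic
import Mathlib.RingTheory.Adjoin.Basic
-- import your own Groth.Agent.* helpers here

set_option autoImplicit false
universe u v w
open CAlg

namespace Groth.Agent.S15362

/-- For an algebraically closed field L of characteristic p > 0, a commutative L-algebra R integral over
L, and a finitely presented R-module M carrying an additive endomorphism φ with φ(r·m) = r^p·φ(m)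
for r ∈ R, m ∈ M, the map m ↦ φ(m) − m is onto. (R is taken of exponential characteristic p so that
its Frobenius is a ring endomorphism; for a non-zero L-algebra this is automatic.) -/
theorem result (p : ℕ) [Fact p.Prime]
    (L : Type u) [Field L] [IsAlgClosed L] [CharP L p]
    (R : Type v) [CommRing R] [Algebra L R] [Algebra.IsIntegral L R] [ExpChar R p]
    (M : Type w) [AddCommGroup M] [Module R M] [Module.FinitePresentation R M]
    (φ : M →ₛₗ[frobenius R p] M) :
    Function.Surjective fun m : M => φ m - m := by
  classical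
  intro y
  obtain ⟨n, g, hg⟩ := Module.Finite.exists_fin (R := R) (M := M)
  have hrep : ∀ z : M, ∃ c : Fin n → R, ∑ i, c i • g i = z := fun z =>
    (Submodule.mem_span_range_iff_exists_fun R).1 (hg ▸ Submodule.mem_top)
  choose a ha using fun i => hrep (φ (g i))
  obtain ⟨b, hb⟩ := hrep y
  let G : Set R := (Set.range fun ij : Fin n × Fin n => a ij.1 ij.2) ∪ Set.range b
  let R₀ := Algebra.adjoin L G
  haveI : Module.Finite L R₀ := Module.Finite.iff_fg.2
    (fg_adjoin_of_finite ((Set.finite_range _).union (Set.finite_range _)) (fun x _ => Algebra.IsIntegral.isIntegral x))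
  let T : (Fin n → R₀) →+ (Fin n → R₀) :=
    { toFun := fun c j => ∑ i, (c i) ^ p * ⟨a i j, Algebra.subset_adjoin (Or.inl ⟨(i, j), rfl⟩)⟩
      map_zero' := by
        funext j
        exact Finset.sum_eq_zero fun i _ => by rw [Pi.zero_apply, zero_pow (Fact.out : p.Prime).ne_zero, zero_mul]
      map_add' := fun c d => by
        funext j
        rw [Pi.add_apply, ← Finset.sum_add_distrib]
        refine Finset.sum_congr rfl fun i _ => Subtype.ext ?_
        simp only [Pi.add_apply, Subalgebra.coe_mul, Subalgebra.coe_pow, Subalgebra.coe_add]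
        rw [add_pow_expChar, add_mul] }
  have hT : ∀ (l : L) (c : Fin n → R₀), T (l • c) = l ^ p ^ 1 • T c := fun l c => by
    funext j
    rw [pow_one, Pi.smul_apply]
    show ∑ i, (l • c i) ^ p * _ = l ^ p • ∑ i, (c i) ^ p * _
    rw [Finset.smul_sum]
    exact Finset.sum_congr rfl fun i _ => by rw [smul_pow, smul_mul_assoc]
  obtain ⟨c, hc⟩ := (LangQLib.main (σ := fun l : L => l ^ p ^ 1) p le_rfl (Or.inl fun _ => rfl) T hT).1
    (fun j => ⟨b j, Algebra.subset_adjoin (Or.inr ⟨j, rfl⟩)⟩)
  refine ⟨∑ i, (c i : R) • g i, ?_⟩
  show φ _ - _ = y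
  rw [← hb, map_sum]
  have hcomm : ∑ i, φ ((c i : R) • g i) = ∑ j, ((T c j : R₀) : R) • g j := by
    calc ∑ i, φ ((c i : R) • g i) = ∑ i, ∑ j, ((c i : R) ^ p * a i j) • g j := by
          refine Finset.sum_congr rfl fun i _ => ?_
          rw [φ.map_smulₛₗ, ← ha i, Finset.smul_sum]
          exact Finset.sum_congr rfl fun j _ => by rw [smul_smul, frobenius_def]
      _ = _ := by
          rw [Finset.sum_comm]
          refine Finset.sum_congr rfl fun j _ => ?_
          rw [← Finset.sum_smul]
          congr 1
          simp [T]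
  rw [hcomm, ← Finset.sum_sub_distrib]
  refine Finset.sum_congr rfl fun j _ => ?_
  rw [← sub_smul]
  congr 1
  exact congrArg Subtype.val (congrFun hc j)

end Groth.Agent.S15362
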