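import Groth.Statements.S15364
import Mathlib
import Groth.Agent.H0Lib.Main
import Groth.Agent.AbSchLib.Flat
-- import your own Groth.Agent.* helpers here

set_option autoImplicit false
universe u
open CategoryTheory CategoryTheory.Limits MonoidalCategory CartesianMonoidalCategory AlgebraicGeometry
open AbSch MonObj

namespace Groth.Agent.S15364

/-- A morphism to an affine scheme over the base factors through the structure map, provided the
structure map has a section and induces isomorphisms on sections of the structure sheaf. -/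
theorem comp_section_comp_eq {A H T : Scheme.{u}} (f : A ⟶ T) (hf : ∀ U : T.Opens, IsIso (f.app U))
    (e : T ⟶ A) (he : e ≫ f = 𝟙 T) (p : H ⟶ T) [IsAffineHom p] (g : A ⟶ H) (hg : g ≫ p = f) :
    f ≫ e ≫ g = g := by
  refine (A.openCoverOfIsOpenCover (fun U : T.affineOpens => f ⁻¹ᵁ U.1) ?_).hom_ext _ _ fun U => ?_
  · exact TopologicalSpace.IsOpenCover.comap (iSup_affineOpens_eq_top T) f.base.hom
  · let W : A.Opens := f ⁻¹ᵁ U.1
    let V : H.Opens := p ⁻¹ᵁ U.1
    show W.ι ≫ f ≫ e ≫ g = W.ι ≫ g
    haveI : IsAffine V.toScheme := U.2.preimage p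
    have hW : W ≤ g ⁻¹ᵁ V := by rw [← Scheme.Hom.comp_preimage, hg]
    have hU : U.1 ≤ e ⁻¹ᵁ W := by rw [← Scheme.Hom.comp_preimage, he]; exact le_rfl
    let g' : W.toScheme ⟶ V.toScheme := g.resLE V W hW
    let e' : U.1.toScheme ⟶ W.toScheme := e.resLE W U.1 hU
    have h1 : e' ≫ (f ∣_ U.1) = 𝟙 _ := by
      rw [← cancel_mono U.1.ι, Category.assoc, morphismRestrict_ι, Scheme.Hom.resLE_comp_ι_assoc, he,
        Category.comp_id, Category.id_comp]
    haveI : IsIso (f ∣_ U.1).appTop := by
      haveI := hf U.1
      rw [Scheme.Hom.appTop, morphismRestrict_app]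
      haveI := hf (U.1.ι ''ᵁ ⊤)
      exact IsIso.comp_isIso' (hf _) (Functor.map_isIso A.presheaf _)
    have h2 : e'.appTop ≫ (f ∣_ U.1).appTop = 𝟙 _ := by
      rw [← cancel_epi (f ∣_ U.1).appTop, ← Category.assoc, ← Scheme.Hom.comp_appTop, h1,
        Category.comp_id]
      simp
    have h3 : (f ∣_ U.1) ≫ e' ≫ g' = g' := ext_of_isAffine (by
      rw [Scheme.Hom.comp_appTop, Scheme.Hom.comp_appTop, Category.assoc, h2, Category.comp_id])
    calc W.ι ≫ f ≫ e ≫ g = (f ∣_ U.1) ≫ U.1.ι ≫ e ≫ g := by rw [morphismRestrict_ι_assoc]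
      _ = (f ∣_ U.1) ≫ e' ≫ W.ι ≫ g := by rw [Scheme.Hom.resLE_comp_ι_assoc]
      _ = ((f ∣_ U.1) ≫ e' ≫ g') ≫ V.ι := by simp only [g', Category.assoc, Scheme.Hom.resLE_comp_ι]
      _ = W.ι ≫ g := by rw [h3, Scheme.Hom.resLE_comp_ι]

/-- For an abelian scheme f : A → T (a commutative T-group scheme, proper and smooth over T with
geometrically connected fibres) and a commutative group scheme H finite and locally free over T, the
adjunction map H → f_* f^* H of fppf sheaves on T is an isomorphism, i.e. for every T-scheme U the
map H(U) → H(A ×_T U), s ↦ s ∘ pr, is bijective. This row states the case U = T, to which the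
general case reduces by base change: composition with the structure morphism A → T is a bijection
from the sections of H over T onto the T-morphisms A → H. The group structure of H plays no role and
is not assumed. (The published statement has an arbitrary base T; the published argument rests on
the rigidity lemma in its form for Noetherian schemes, so T is taken locally Noetherian here.) -/
theorem result {T : Scheme.{u}} [IsLocallyNoetherian T]
    (A : Over T) [GrpObj A] [IsCommMonObj A] [IsProper A.hom] [Smooth A.hom] [GeometricallyConnected A.hom]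
    (H : Over T) [IsFinite H.hom] [Flat H.hom] [LocallyOfFinitePresentation H.hom] :
    Function.Bijective fun s : (𝟙_ (Over T) ⟶ H) => toUnit A ≫ s := by
  haveI : GeometricallyReduced A.hom := AbSchLib.geometricallyReduced_of_smooth A.hom
  haveI : Flat A.hom := inferInstance
  haveI : LocallyOfFinitePresentation A.hom := inferInstance
  haveI : IsAffineHom H.hom := inferInstance
  have hf : ∀ U : T.Opens, IsIso (A.hom.app U) := fun U =>
    (ConcreteCategory.isIso_iff_bijective _).2 (H0Lib.bijective_app_of_geometrically A.hom U)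
  refine ⟨fun s t hst => ?_, fun g => ⟨η[A] ≫ g, ?_⟩⟩
  · have := congrArg (fun x => η[A] ≫ x) hst
    simpa [toUnit_unique (η[A] ≫ toUnit A) (𝟙 _), ← Category.assoc] using this
  · refine Over.OverMorphism.ext ?_
    show (toUnit A).left ≫ η[A].left ≫ g.left = g.left
    exact comp_section_comp_eq A.hom hf η[A].left (Over.w η[A]) H.hom g.left (Over.w g)


end Groth.Agent.S15364
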