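import Groth.Statements.S15365
import Mathlib.RingTheory.Etale.Basic
import Mathlib.RingTheory.FinitePresentation
import Mathlib.LinearAlgebra.Matrix.NonsingularInverse
import Mathlib.LinearAlgebra.Matrix.ToLinearEquiv
import Mathlib.Algebra.TrivSqZeroExt.Basic
import Mathlib.Algebra.CharP.Lemmas
-- import your own Groth.Agent.* helpers here

set_option autoImplicit false
universe u
open scoped BigOperators
open CAlg

namespace Groth.Agent.S15365

/-- Let A be a commutative ring of characteristic p > 0 and (h_{ij})_{1 ≤ i,j ≤ n} a square matrix over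
A, the matrix of a commutative p-Lie algebra (L, φ) with L free with basis e_1, …, e_n and φ(e_j) =
Σ_i h_{ij} e_i. The associated finite group scheme Spec A[X_1, …, X_n]/(X_j^p − Σ_i h_{ij} X_i)_{1 ≤
j ≤ n} is étale over A if and only if the matrix (h_{ij}) is invertible, i.e. its determinant is a
unit of A. Only the algebra structure enters this assertion. -/
theorem result (p : ℕ) [Fact p.Prime]
    (A : Type u) [CommRing A] [CharP A p] (n : ℕ) (h : Matrix (Fin n) (Fin n) A) :
    Algebra.Etale A (MvPolynomial (Fin n) A ⧸ Ideal.span (Set.range fun j : Fin n =>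
        (MvPolynomial.X j : MvPolynomial (Fin n) A) ^ p -
          ∑ i : Fin n, MvPolynomial.C (h i j) * MvPolynomial.X i)) ↔
      IsUnit h.det := by
  classical
  let r : Fin n → MvPolynomial (Fin n) A := fun j => MvPolynomial.X j ^ p - ∑ i, MvPolynomial.C (h i j) * MvPolynomial.X i
  let I := Ideal.span (Set.range r)
  let B := MvPolynomial (Fin n) A ⧸ I
  have hp2 : 2 ≤ p := (Fact.out : p.Prime).two_le
  have hpow : ∀ (C : Type u) [CommRing C] [Algebra A C] (c d : C), d * d = 0 → (c + d) ^ p = c ^ p := by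
    intro C _ _ c d hd
    have hk : ∀ k : ℕ, (c + d) ^ (k + 1) = c ^ (k + 1) + (k + 1 : ℕ) * c ^ k * d := by
      intro k
      induction k with
      | zero => simp
      | succ k ih =>
        rw [pow_succ (c + d), ih]
        push_cast
        linear_combination ((k : C) + 1) * c ^ k * hd
    obtain ⟨k, hk'⟩ : ∃ k, p = k + 1 := ⟨p - 1, by omega⟩
    have hp0 : ((p : ℕ) : C) = 0 := by
      rw [← map_natCast (algebraMap A C), CharP.cast_eq_zero, map_zero]
    rw [hk', hk, ← hk', hp0, zero_mul, zero_mul, add_zero]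
  have hrel : ∀ (C : Type u) [CommRing C] [Algebra A C] (v : Fin n → C), I ≤ RingHom.ker (MvPolynomial.aeval v) ↔
      ∀ j, v j ^ p = ∑ i, algebraMap A C (h i j) * v i := by
    intro C _ _ v
    rw [Ideal.span_le, Set.range_subset_iff]
    refine forall_congr' fun j => ?_
    simp [r, RingHom.mem_ker, sub_eq_zero]
  haveI : Algebra.FinitePresentation A B := Algebra.FinitePresentation.quotient ⟨Finset.univ.image r, by simp [I]⟩
  show Algebra.Etale A B ↔ _
  constructor
  · intro hE
    rw [← not_not (a := IsUnit h.det)]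
    intro hdet
    obtain ⟨m, hm, hle⟩ := Ideal.exists_le_maximal (Ideal.span {h.det}) (fun e => hdet (Ideal.span_singleton_eq_top.1 e))
    letI := Ideal.Quotient.field m
    let q := Ideal.Quotient.mk m
    have hdet0 : ((h.map q).transpose).det = 0 := by
      rw [Matrix.det_transpose, show h.map q = q.mapMatrix h from rfl, ← RingHom.map_det]
      exact Ideal.Quotient.eq_zero_iff_mem.2 ((Ideal.span_singleton_le_iff_mem _).1 hle)
    obtain ⟨v, hv, hv0⟩ := Matrix.exists_mulVec_eq_zero_iff.2 hdet0
    let C := TrivSqZeroExt (A ⧸ m) (A ⧸ m)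
    let φ : ∀ (v : Fin n → A ⧸ m), (∀ j, ∑ i, q (h i j) * v i = 0) → (B →ₐ[A] C) := fun v hv =>
      Ideal.Quotient.liftₐ I (MvPolynomial.aeval fun i => TrivSqZeroExt.inr (v i))
        (fun a ha => (hrel C (fun i => TrivSqZeroExt.inr (v i))).2 (fun j => by
          rw [← zero_add (TrivSqZeroExt.inr (v j) : C), hpow C 0 _ (TrivSqZeroExt.inr_mul_inr _ _ _), zero_pow (by omega)]
          refine Eq.symm ?_
          apply TrivSqZeroExt.ext
          · rw [TrivSqZeroExt.fst_sum, TrivSqZeroExt.fst_zero]
            exact Finset.sum_eq_zero fun i _ => by rw [TrivSqZeroExt.fst_mul, TrivSqZeroExt.fst_inr, mul_zero]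
          · rw [TrivSqZeroExt.snd_sum, TrivSqZeroExt.snd_zero, ← hv j]
            refine Finset.sum_congr rfl fun i _ => ?_
            rw [TrivSqZeroExt.algebraMap_eq_inl', TrivSqZeroExt.inl_mul_inr, TrivSqZeroExt.snd_inr, smul_eq_mul]
            rfl) ha)
    let J : Ideal C := RingHom.ker (TrivSqZeroExt.fstHom A (A ⧸ m) (A ⧸ m))
    have hJ : J ^ 2 = ⊥ := by
      rw [pow_two, eq_bot_iff, Ideal.mul_le]
      intro a ha b hb
      rw [Submodule.mem_bot]
      apply TrivSqZeroExt.ext
      · rw [TrivSqZeroExt.fst_mul, show a.fst = 0 from ha, zero_mul, TrivSqZeroExt.fst_zero]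
      · rw [TrivSqZeroExt.snd_mul, show a.fst = 0 from ha, show b.fst = 0 from hb, TrivSqZeroExt.snd_zero]
        simp
    have hvj : ∀ j, ∑ i, q (h i j) * v i = 0 := fun j => congrFun hv0 j
    have hφX : ∀ (v : Fin n → A ⧸ m) (hv : ∀ j, ∑ i, q (h i j) * v i = 0) (i : Fin n), φ v hv (Ideal.Quotient.mk I (MvPolynomial.X i)) = TrivSqZeroExt.inr (v i) :=
      fun v hv i => MvPolynomial.aeval_X _ i
    have h00 : ∀ j, ∑ i, q (h i j) * (0 : Fin n → A ⧸ m) i = 0 := fun j => by simp
    have heq : φ v hvj = φ 0 h00 := Algebra.FormallyUnramified.comp_injective J hJ (by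
      refine Ideal.Quotient.algHom_ext _ (MvPolynomial.algHom_ext fun i => ?_)
      show Ideal.Quotient.mk J (φ v hvj (Ideal.Quotient.mk I (MvPolynomial.X i))) = Ideal.Quotient.mk J (φ 0 h00 (Ideal.Quotient.mk I (MvPolynomial.X i)))
      rw [Ideal.Quotient.eq, hφX v hvj, hφX 0 h00, RingHom.mem_ker]
      exact sub_eq_zero.2 ((TrivSqZeroExt.fst_inr _ (v i)).trans (TrivSqZeroExt.fst_inr _ ((0 : Fin n → A ⧸ m) i)).symm) |> (map_sub _ _ _).trans)
    refine hv (funext fun i => ?_)
    have := congrArg (fun g : B →ₐ[A] C => (g (Ideal.Quotient.mk I (MvPolynomial.X i))).snd) heq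
    rw [hφX v hvj, hφX 0 h00, TrivSqZeroExt.snd_inr, TrivSqZeroExt.snd_inr] at this
    exact this
  · intro hdet
    refine ⟨Algebra.FormallyEtale.iff_comp_bijective.2 ?_, inferInstance⟩
    intro C _ _ J hJ
    have hmul : ∀ {a b : C}, a ∈ J → b ∈ J → a * b = 0 := fun ha hb => by
      have h1 := Ideal.mul_mem_mul ha hb
      rwa [← pow_two, hJ, Submodule.mem_bot] at h1
    let H : Matrix (Fin n) (Fin n) C := (h.map (algebraMap A C)).transpose
    have hH : IsUnit H.det := by
      rw [Matrix.det_transpose, show h.map (algebraMap A C) = (algebraMap A C).mapMatrix h from rfl, ← RingHom.map_det]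
      exact hdet.map _
    let val : (B →ₐ[A] C) → Fin n → C := fun g i => g (Ideal.Quotient.mk I (MvPolynomial.X i))
    have hval : ∀ g : B →ₐ[A] C, ∀ j, val g j ^ p = H.mulVec (val g) j := fun g j => by
      have h1 : g.comp (Ideal.Quotient.mkₐ A I) = MvPolynomial.aeval (val g) := MvPolynomial.algHom_ext fun i => (MvPolynomial.aeval_X (val g) i).symm
      have h2 := (hrel C (val g)).1 (fun a ha => by
        rw [RingHom.mem_ker, ← h1]
        show g (Ideal.Quotient.mk I a) = 0
        rw [Ideal.Quotient.eq_zero_iff_mem.2 ha, map_zero]) j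
      rw [h2]
      rfl
    constructor
    · intro g₁ g₂ he
      have hd : ∀ i, val g₁ i - val g₂ i ∈ J := fun i => Ideal.Quotient.eq.1 (AlgHom.congr_fun he _)
      have hz : H.mulVec (fun i => val g₁ i - val g₂ i) = H.mulVec 0 := by
        rw [Matrix.mulVec_zero]
        funext j
        show H.mulVec (val g₁ - val g₂) j = 0
        rw [Matrix.mulVec_sub, Pi.sub_apply, ← hval, ← hval,
          show val g₁ j = val g₂ j + (val g₁ j - val g₂ j) by ring, hpow C _ _ (hmul (hd j) (hd j)), sub_self]
      have hv := Matrix.mulVec_injective_of_isUnit ((Matrix.isUnit_iff_isUnit_det H).2 hH) hz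
      exact Ideal.Quotient.algHom_ext _ (MvPolynomial.algHom_ext fun i => sub_eq_zero.1 (congrFun hv i))
    · intro g
      choose c hc using fun i => Ideal.Quotient.mk_surjective (g (Ideal.Quotient.mk I (MvPolynomial.X i)))
      let d : Fin n → C := fun j => c j ^ p - H.mulVec c j
      have hg : MvPolynomial.aeval (fun i => Ideal.Quotient.mk J (c i)) = g.comp (Ideal.Quotient.mkₐ A I) :=
        MvPolynomial.algHom_ext fun i => (MvPolynomial.aeval_X _ i).trans (hc i)
      have hdJ : ∀ j, d j ∈ J := fun j => by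
        have hz : (Ideal.Quotient.mkₐ A J) (MvPolynomial.aeval c (r j)) = 0 := by
          rw [← AlgHom.comp_apply, MvPolynomial.comp_aeval]
          show MvPolynomial.aeval (fun i => Ideal.Quotient.mk J (c i)) (r j) = 0
          rw [hg]
          show g (Ideal.Quotient.mk I (r j)) = 0
          rw [Ideal.Quotient.eq_zero_iff_mem.2 (Ideal.subset_span (Set.mem_range_self j)), map_zero]
        have hd1 : MvPolynomial.aeval c (r j) = d j := by
          simp [r, d, H, Matrix.mulVec, dotProduct]
        rw [hd1] at hz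
        exact Ideal.Quotient.eq_zero_iff_mem.1 hz
      let δ := H⁻¹.mulVec d
      have hδ : ∀ i, δ i ∈ J := fun i => by
        show (∑ j, H⁻¹ i j * d j) ∈ J
        exact Ideal.sum_mem _ fun j _ => Ideal.mul_mem_left _ _ (hdJ j)
      have hsol : ∀ j, (c j + δ j) ^ p = ∑ i, algebraMap A C (h i j) * (c i + δ i) := fun j => by
        have e : H.mulVec δ = d := by rw [Matrix.mulVec_mulVec, Matrix.mul_nonsing_inv _ hH, Matrix.one_mulVec]
        rw [hpow C _ _ (hmul (hδ j) (hδ j))]
        show _ = H.mulVec (c + δ) j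
        rw [Matrix.mulVec_add, e, Pi.add_apply]
        simp [d]
      refine ⟨Ideal.Quotient.liftₐ I (MvPolynomial.aeval fun i => c i + δ i) (fun a ha => (hrel C _).2 hsol ha), ?_⟩
      refine Ideal.Quotient.algHom_ext _ (MvPolynomial.algHom_ext fun i => ?_)
      show Ideal.Quotient.mk J (MvPolynomial.aeval (fun i => c i + δ i) (MvPolynomial.X i)) = g (Ideal.Quotient.mk I (MvPolynomial.X i))
      rw [MvPolynomial.aeval_X, map_add, Ideal.Quotient.eq_zero_iff_mem.2 (hδ i), add_zero, hc]

end Groth.Agent.S15365
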