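import Groth.Statements.S15366
import Mathlib
-- import your own Groth.Agent.* helpers here

set_option autoImplicit false
set_option maxHeartbeats 2000000
set_option backward.isDefEq.respectTransparency false
universe u
open CAlg

namespace Groth.Agent.S15366

/-- Let k be an algebraically closed field of characteristic p > 0, R = k[[t₁, t₂]], and O = R_{(t₁)}
the local ring of Spec R at the generic point x of the divisor t₁ = 0 (a discrete valuation ring,
with uniformizer t₁ and residue field k((t₂))). Then O embeds, by an injective local k-algebra map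
φ, into some complete discrete valuation ring A containing k whose residue field is algebraically
closed and in which φ(t₁) is still a uniformizer. The prime ideal (t₁) is passed as an ideal P equal
to it together with its primality. -/
theorem result
    (p : ℕ) [Fact p.Prime] (k : Type u) [Field k] [IsAlgClosed k] [CharP k p]
    (P : Ideal (MvPowerSeries (Fin 2) k))
    (hP : P = Ideal.span {(MvPowerSeries.X 0 : MvPowerSeries (Fin 2) k)}) [P.IsPrime] :
    ∃ (A : Type u) (_ : CommRing A) (_ : IsDomain A) (_ : IsDiscreteValuationRing A) (_ : Algebra k A)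
      (φ : Localization.AtPrime P →ₐ[k] A),
      IsAdicComplete (IsLocalRing.maximalIdeal A) A ∧ IsAlgClosed (IsLocalRing.ResidueField A) ∧
        Function.Injective φ ∧ IsLocalHom φ.toRingHom ∧
          Irreducible (φ (algebraMap (MvPowerSeries (Fin 2) k) (Localization.AtPrime P)
            (MvPowerSeries.X 0))) := by
  let S := MvPowerSeries (Fin 1) k
  let K := AlgebraicClosure (FractionRing S)
  let h : S →ₐ[k] K := IsScalarTower.toAlgHom k S K
  have hh : Function.Injective h := by
    intro x y hxy
    have e : algebraMap (FractionRing S) K (algebraMap S (FractionRing S) x) =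
        algebraMap (FractionRing S) K (algebraMap S (FractionRing S) y) := by
      simpa [h, ← IsScalarTower.algebraMap_apply] using hxy
    exact IsFractionRing.injective S (FractionRing S) ((algebraMap (FractionRing S) K).injective e)
  let E := MvPowerSeries.finSuccEquiv k 1
  let ψ : MvPowerSeries (Fin 2) k →ₐ[k] PowerSeries K :=
    AlgHom.mk' ((PowerSeries.map h.toRingHom).comp E.toRingHom) fun c x => by
      have hc : E (MvPowerSeries.C c) = PowerSeries.C (MvPowerSeries.C c) := MvPowerSeries.finSuccEquiv_C c
      rw [Algebra.smul_def, Algebra.smul_def, map_mul]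
      congr 1
      show PowerSeries.map h.toRingHom (E (MvPowerSeries.C c)) = _
      rw [hc, PowerSeries.map_C, PowerSeries.algebraMap_apply]
      exact congrArg PowerSeries.C (h.commutes c)
  have hψapp : ∀ x, ψ x = PowerSeries.map h.toRingHom (E x) := fun _ => rfl
  have hψ : Function.Injective ψ := fun x y hxy =>
    E.injective (PowerSeries.map_injective _ hh hxy)
  have hX : ψ (MvPowerSeries.X 0) = PowerSeries.X := by
    rw [hψapp]
    simp [E]
  have hunit : ∀ f, f ∉ P → IsUnit (ψ f) := by
    intro f hf
    rw [PowerSeries.isUnit_iff_constantCoeff, hψapp]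
    refine isUnit_iff_ne_zero.2 fun h0 => hf ?_
    have h1 : PowerSeries.constantCoeff (E f) = 0 := by
      apply hh
      rw [map_zero]
      simpa [← PowerSeries.coeff_zero_eq_constantCoeff] using h0
    obtain ⟨c, hc⟩ := PowerSeries.X_dvd_iff.2 h1
    rw [hP, Ideal.mem_span_singleton]
    refine ⟨E.symm c, E.injective ?_⟩
    rw [map_mul, E.apply_symm_apply, hc]
    simp [E]
  let φ : Localization.AtPrime P →ₐ[k] PowerSeries K :=
    IsLocalization.liftAlgHom (M := P.primeCompl) (f := ψ) fun y => hunit y.1 y.2
  have hφ : ∀ x, φ (algebraMap (MvPowerSeries (Fin 2) k) _ x) = ψ x := fun x => IsLocalization.lift_eq _ x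
  haveI : IsAdicComplete (IsLocalRing.maximalIdeal (PowerSeries K)) (PowerSeries K) := by
    rw [PowerSeries.maximalIdeal_eq_span_X]
    exact
      { haus' := fun x hx => by
          refine PowerSeries.ext fun n => ?_
          have h := hx (n + 1)
          rw [SModEq.zero, Ideal.smul_eq_mul, Ideal.mul_top, Ideal.span_singleton_pow, Ideal.mem_span_singleton,
            PowerSeries.X_pow_dvd_iff] at h
          simpa using h n (by omega)
        prec' := fun f hf => by
          refine ⟨PowerSeries.mk fun n => PowerSeries.coeff n (f (n + 1)), fun n => ?_⟩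
          rw [SModEq.sub_mem, Ideal.smul_eq_mul, Ideal.mul_top, Ideal.span_singleton_pow, Ideal.mem_span_singleton,
            PowerSeries.X_pow_dvd_iff]
          intro m hm
          have h := hf (show m + 1 ≤ n by omega)
          rw [SModEq.sub_mem, Ideal.smul_eq_mul, Ideal.mul_top, Ideal.span_singleton_pow, Ideal.mem_span_singleton,
            PowerSeries.X_pow_dvd_iff] at h
          have h' := h m (by omega)
          rw [map_sub, sub_eq_zero] at h'
          rw [map_sub, PowerSeries.coeff_mk, h', sub_self] }
  refine ⟨PowerSeries K, inferInstance, inferInstance, inferInstance, inferInstance, φ, inferInstance,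
    IsAlgClosed.of_ringEquiv K _ PowerSeries.residueFieldOfPowerSeries.symm, ?_, ?_, ?_⟩
  · rw [injective_iff_map_eq_zero]
    intro x hx
    obtain ⟨r, s, rfl⟩ := IsLocalization.exists_mk'_eq P.primeCompl x
    have h1 : φ (algebraMap (MvPowerSeries (Fin 2) k) _ r) = 0 := by
      rw [← IsLocalization.mk'_spec (Localization.AtPrime P) r s, map_mul, hx, zero_mul]
    rw [hφ] at h1
    rw [hψ (h1.trans (map_zero ψ).symm), IsLocalization.mk'_zero]
  · refine ⟨fun x hx => ?_⟩
    replace hx : IsUnit (φ x) := hx
    obtain ⟨r, s, rfl⟩ := IsLocalization.exists_mk'_eq P.primeCompl x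
    rw [IsLocalization.AtPrime.isUnit_mk'_iff (Localization.AtPrime P) P]
    intro hr
    replace hr : r ∈ P := hr
    rw [hP, Ideal.mem_span_singleton] at hr
    obtain ⟨c, hc⟩ := hr
    have h1 : IsUnit (φ (algebraMap (MvPowerSeries (Fin 2) k) _ r)) := by
      rw [← IsLocalization.mk'_spec (Localization.AtPrime P) r s, map_mul, hφ]
      exact hx.mul (hunit _ s.2)
    rw [hφ, hc, map_mul, hX, IsUnit.mul_iff] at h1
    exact PowerSeries.X_irreducible.not_isUnit h1.1
  · rw [hφ, hX]
    exact PowerSeries.X_irreducible

end Groth.Agent.S15366
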