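import Groth.Statements.S15367
import Mathlib.Algebra.Module.PID
import Mathlib.RingTheory.DiscreteValuationRing.Basic
import Mathlib.LinearAlgebra.TensorProduct.Tower
import Mathlib.LinearAlgebra.Dimension.Finrank
-- import your own Groth.Agent.* helpers here

set_option autoImplicit false
set_option linter.style.haveILetI false
universe u v
open TensorProduct
open CAlg

namespace Groth.Agent.S15367

/-- Let R be a discrete valuation ring with uniformizer π and residue field k, n ≥ 0, and M₀ a finitely
generated module over R/πⁿR, viewed as an R-module killed by πⁿ; put M₀* = Hom_R(M₀, R/πⁿR). Then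
dim_k(M₀*/πM₀*) = dim_k(M₀/πM₀). The published lemma is stated for a finitely presented module over
the quotient of the ring of integers of an algebraic closure of K by the elements of valuation ≥ t,
with its dual into that quotient ring, and the published proof reduces it by descent to exactly this
statement over the valuation ring of a finite extension of K; the row states that step. -/
theorem result
    (R : Type u) [CommRing R] [IsDomain R] [IsDiscreteValuationRing R] (ϖ : R) (hϖ : Irreducible ϖ) (n : ℕ)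
    (M : Type v) [AddCommGroup M] [Module R M] [Module.Finite R M] (hM : ∀ m : M, ϖ ^ n • m = 0) :
    Module.finrank (IsLocalRing.ResidueField R)
        (IsLocalRing.ResidueField R ⊗[R] (M →ₗ[R] (R ⧸ Ideal.span {ϖ ^ n}))) =
      Module.finrank (IsLocalRing.ResidueField R) (IsLocalRing.ResidueField R ⊗[R] M) := by
  classical
  have hϖn : ϖ ^ n ≠ 0 := pow_ne_zero n hϖ.ne_zero
  have htors : Module.IsTorsion R M := fun {m} =>
    ⟨⟨ϖ ^ n, mem_nonZeroDivisors_of_ne_zero hϖn⟩, hM m⟩
  obtain ⟨ι, _, p, hp, e, ⟨E⟩⟩ := Module.equiv_directSum_of_isTorsion htors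
  let Q := R ⧸ Ideal.span {ϖ ^ n}
  have hspan : ∀ i, Ideal.span {p i ^ e i} = Ideal.span {ϖ ^ e i} := fun i =>
    Ideal.span_singleton_eq_span_singleton.mpr
      ((IsDiscreteValuationRing.associated_of_irreducible R (hp i) hϖ).pow_pow)
  have hle : ∀ i, e i ≤ n := by
    intro i
    obtain ⟨m, hm⟩ := E.surjective (DirectSum.lof R ι (fun i => R ⧸ R ∙ p i ^ e i) i
      (Submodule.Quotient.mk 1))
    have h := congrArg E (hM m)
    rw [map_smul, map_zero, hm, ← map_smul] at h
    have h2 := congrArg (DirectSum.component R ι (fun i => R ⧸ R ∙ p i ^ e i) i) h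
    rw [DirectSum.component.lof_self, map_zero, ← Submodule.Quotient.mk_smul,
      Submodule.Quotient.mk_eq_zero, smul_eq_mul, mul_one] at h2
    change ϖ ^ n ∈ Ideal.span {p i ^ e i} at h2
    rw [hspan i, Ideal.mem_span_singleton, pow_dvd_pow_iff hϖ.ne_zero hϖ.not_isUnit] at h2
    exact h2
  -- the dual of a cyclic module
  have key : ∀ i, Nonempty ((R ⧸ R ∙ p i ^ e i) ≃ₗ[R] ((R ⧸ R ∙ p i ^ e i) →ₗ[R] Q)) := by
    intro i
    set P : Submodule R R := R ∙ p i ^ e i with hP
    have hPmem : ∀ a, a ∈ P ↔ ϖ ^ e i ∣ a := fun a => by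
      rw [← Ideal.mem_span_singleton, ← hspan i]
    let g0 : (R ⧸ P) →ₗ[R] Q := Submodule.liftQ P
      ((Submodule.mkQ (Ideal.span {ϖ ^ n})) ∘ₗ LinearMap.mulLeft R (ϖ ^ (n - e i))) (by
        intro a ha
        obtain ⟨b, rfl⟩ := (hPmem a).1 ha
        rw [LinearMap.mem_ker, LinearMap.comp_apply, LinearMap.mulLeft_apply, Submodule.mkQ_apply,
          Submodule.Quotient.mk_eq_zero, ← mul_assoc, ← pow_add, Nat.sub_add_cancel (hle i)]
        exact Ideal.mem_span_singleton.2 (dvd_mul_right _ _))
    let ψ : R →ₗ[R] ((R ⧸ P) →ₗ[R] Q) := LinearMap.toSpanSingleton R _ g0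
    have hker : LinearMap.ker ψ = P := by
      ext a
      rw [LinearMap.mem_ker, hPmem]
      constructor
      · intro h
        have h1 := LinearMap.congr_fun h (Submodule.Quotient.mk 1)
        change a • (Submodule.Quotient.mk (ϖ ^ (n - e i) * 1) : Q) = 0 at h1
        rw [← Submodule.Quotient.mk_smul, Submodule.Quotient.mk_eq_zero, smul_eq_mul, mul_one,
          Ideal.mem_span_singleton] at h1
        obtain ⟨b, hb⟩ := h1
        refine ⟨b, mul_left_cancel₀ (pow_ne_zero (n - e i) hϖ.ne_zero) ?_⟩
        rw [← mul_assoc, ← pow_add, Nat.sub_add_cancel (hle i), ← hb, mul_comm]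
      · rintro ⟨b, rfl⟩
        refine LinearMap.ext fun x => ?_
        obtain ⟨x, rfl⟩ := Submodule.Quotient.mk_surjective P x
        change (ϖ ^ e i * b) • (Submodule.Quotient.mk (ϖ ^ (n - e i) * x) : Q) = 0
        rw [← Submodule.Quotient.mk_smul, Submodule.Quotient.mk_eq_zero, Ideal.mem_span_singleton,
          smul_eq_mul]
        exact ⟨b * x, by rw [← Nat.sub_add_cancel (hle i)]; rw [Nat.add_sub_cancel, pow_add]; ring⟩
    have hsurj : Function.Surjective ψ := by
      intro f
      obtain ⟨a, ha⟩ := Submodule.Quotient.mk_surjective _ (f (Submodule.Quotient.mk 1))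
      have h0 : ϖ ^ e i • f (Submodule.Quotient.mk 1) = 0 := by
        rw [← map_smul, ← Submodule.Quotient.mk_smul, (Submodule.Quotient.mk_eq_zero P).2
          ((hPmem _).2 (by simp)), map_zero]
      rw [← ha, ← Submodule.Quotient.mk_smul, Submodule.Quotient.mk_eq_zero, smul_eq_mul,
        Ideal.mem_span_singleton] at h0
      obtain ⟨b, hb⟩ : ϖ ^ (n - e i) ∣ a := by
        rw [← mul_dvd_mul_iff_left (pow_ne_zero (e i) hϖ.ne_zero), ← pow_add,
          Nat.add_sub_cancel' (hle i)]
        exact h0
      refine ⟨b, Submodule.linearMap_qext _ (LinearMap.ext_ring ?_)⟩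
      change b • (Submodule.Quotient.mk (ϖ ^ (n - e i) * 1) : Q) = f (Submodule.Quotient.mk 1)
      rw [← ha, hb, ← Submodule.Quotient.mk_smul, smul_eq_mul, mul_one, mul_comm]
    exact ⟨(Submodule.quotEquivOfEq P _ hker.symm).trans
      (ψ.quotKerEquivOfSurjective hsurj)⟩
  let E' := E.trans (DirectSum.linearEquivFunOnFintype R ι (fun i => R ⧸ R ∙ p i ^ e i))
  let D : (M →ₗ[R] Q) ≃ₗ[R] M :=
    (((E'.congrLeft Q R).trans
      (LinearMap.lsum R (fun i => R ⧸ R ∙ p i ^ e i) R).symm).trans
        (LinearEquiv.piCongrRight fun i => (key i).some.symm)).trans E'.symm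
  exact (LinearEquiv.baseChange R (IsLocalRing.ResidueField R) _ _ D).finrank_eq

end Groth.Agent.S15367
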