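import Groth.Statements.S15368
import Mathlib.RingTheory.LocalRing.Module
import Mathlib.RingTheory.DiscreteValuationRing.Basic
import Mathlib.LinearAlgebra.FreeModule.PID

set_option autoImplicit false
universe u v
open TensorProduct
open CAlg

namespace Groth.Agent.S15368

/-- Let R be a discrete valuation ring with uniformizer π and residue field k, n ≥ 0, M₀ a finitely
generated R-module killed by πⁿ and N₀ a submodule of M₀. Then dim_k(N₀/πN₀) ≤ dim_k(M₀/πM₀). The
published lemma is stated for a finitely presented submodule N of a finitely presented module M over
the quotient of the ring of integers of an algebraic closure of K by the elements of valuation ≥ t,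
and the published proof reduces it by descent to exactly this statement over the valuation ring of a
finite extension of K (comparing π-torsion with π-cotorsion by additivity of length); the row states
that step. -/
theorem result
    (R : Type u) [CommRing R] [IsDomain R] [IsDiscreteValuationRing R] (ϖ : R) (hϖ : Irreducible ϖ) (n : ℕ)
    (M : Type v) [AddCommGroup M] [Module R M] [Module.Finite R M] (hM : ∀ m : M, ϖ ^ n • m = 0)
    (N : Submodule R M) :
    Module.finrank (IsLocalRing.ResidueField R) (IsLocalRing.ResidueField R ⊗[R] N) ≤
      Module.finrank (IsLocalRing.ResidueField R) (IsLocalRing.ResidueField R ⊗[R] M) := by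
  classical
  let k := IsLocalRing.ResidueField R
  let b := Module.finBasis k (k ⊗[R] M)
  have hsurj : Function.Surjective fun m : M => (1 : k) ⊗ₜ[R] m :=
    TensorProduct.mk_surjective R M k IsLocalRing.residue_surjective
  choose f hf using fun i => hsurj (b i)
  have hspan : Submodule.span R (Set.range f) = ⊤ := IsLocalRing.span_eq_top_of_tmul_eq_basis f b hf
  let π : (Fin (Module.finrank k (k ⊗[R] M)) → R) →ₗ[R] M := Fintype.linearCombination R f
  have hπ : Function.Surjective π := by
    rw [← LinearMap.range_eq_top, Fintype.range_linearCombination, hspan]
  let N' := N.comap π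
  let ψ : N' →ₗ[R] N := (π.comp N'.subtype).codRestrict N fun x => x.2
  have hψ : Function.Surjective ψ := fun n => by
    obtain ⟨v, hv⟩ := hπ n
    exact ⟨⟨v, show π v ∈ N from hv ▸ n.2⟩, Subtype.ext hv⟩
  have h1 : Module.finrank k (k ⊗[R] N) ≤ Module.finrank k (k ⊗[R] N') :=
    LinearMap.finrank_le_finrank_of_surjective (f := ψ.baseChange k) (LinearMap.lTensor_surjective _ hψ)
  refine h1.trans ((Module.finrank_baseChange (R := k) (S := R) (M' := N')).trans_le ((Submodule.finrank_le N').trans ?_))
  rw [Module.finrank_fintype_fun_eq_card, Fintype.card_fin]

end Groth.Agent.S15368
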