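import Groth.Statements.S15376
import Mathlib
import Groth.Agent.SurfAmpleLib.Adj
import Groth.Agent.SurfNumLib.Eff
import Groth.Agent.SurfRRLib.Main
import Groth.Agent.IntFunLib.Numerical
import Groth.Agent.RRVanLib.GG
-- import your own Groth.Agent.* helpers here

set_option autoImplicit false
universe u
open CategoryTheory CategoryTheory.Limits AlgebraicGeometry
open Biell

namespace Groth.Agent.S15376

/-- Let k be an algebraically closed field and X a (quasi-)bielliptic surface over k, meaning here: X is
an integral k-scheme, proper and smooth of relative dimension 2 over k and carrying an ample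
invertible sheaf, whose canonical sheaf ω (a second exterior power of Ω_{X/k}) is numerically
trivial (degree 0 on every integral closed curve in X) and whose second ℓ-adic Betti number (the
rank of lim_ν H²(X_et, Z/ℓ^ν)) equals 2 for every prime ℓ invertible in k. Then the geometric genus
p_g(X) = dim_k H²(X, O_X) equals 1 if and only if ω ≅ O_X, i.e. ω has order 1 in Pic(X). (The
published statement is for bielliptic surfaces and has a third equivalent condition, non-reducedness
of the identity component of the Picard scheme, which is not stated here; the equivalence of the two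
conditions stated rests only on the numerical triviality of ω on an integral smooth projective
surface, so this row states it for quasi-bielliptic surfaces as well.) -/
theorem result (k : Type u) [Field k] [IsAlgClosed k] (X : Scheme.{u}) [X.Over (Spec (CommRingCat.of k))]
    [IsIntegral X] [IsProper (X ↘ Spec (CommRingCat.of k))] [SmoothOfRelativeDimension 2 (X ↘ Spec (CommRingCat.of k))]
    (hproj : ∃ H : X.Modules, CohB1.IsAmple H)
    (ω : X.Modules) (hω : Canon.IsTopDiff (X ↘ Spec (CommRingCat.of k)) 2 ω) (hnum : Pic13.IsNumEquivZero k X ω)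
    (hb2 : ∀ ℓ : ℕ, ℓ.Prime → (ℓ : k) ≠ 0 → EtAdic.betti X ℓ 2 = 2) :
    Module.finrank k (Coh.HH X (Coh.structureModule X) 2) = 1 ↔ Nonempty (ω ≅ Coh.structureModule X) := by
  haveI : Smooth (X ↘ Spec (CommRingCat.of k)) := SmoothOfRelativeDimension.smooth 2 _
  have hX : topologicalKrullDim X = ((2 : ℕ) : WithBot ℕ∞) := SurfRRLib.dim_of_smoothRel (k := k) X
  have hωi : PicF.IsInvertible ω := SurfAmpleLib.isInvertible_canonical hX hω
  obtain ⟨A, hA⟩ := hproj
  have hO : PicF.IsInvertible (Coh.structureModule X) := CurvLib.isInvertible_structureModule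
  obtain ⟨eOO⟩ : Nonempty (CohB1.tensorMod (Coh.structureModule X) (Coh.structureModule X) ≅ Coh.structureModule X) :=
    ⟨HilbPolyLib.unitLeft _⟩
  have h2 : Module.finrank k (Coh.HH X (Coh.structureModule X) 2) = HodgeIdxLib.hh k ω 0 := by
    have h := SurfAmpleLib.hh_dual hX hω hO eOO 2 le_rfl
    rw [Nat.sub_self, HodgeIdxLib.hh_congr (k := k) (HilbPolyLib.unitLeft ω) 0] at h
    exact h
  rw [h2]
  constructor
  · intro h1
    have hnt : Nontrivial (Coh.HH X ω 0) := Module.nontrivial_of_finrank_eq_succ (n := 0) h1
    obtain ⟨φ, hφ⟩ := CurvLib.exists_hom_ne_zero (L := ω) hnt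
    have hpr : HodgeIdxLib.pr k ω A = 0 := by
      rw [← HodgeIdxLib.pr_unit (k := k) A, ← SurfNumLib.intNum_eq_pr hX.le, ← SurfNumLib.intNum_eq_pr hX.le]
      refine IntFunLib.intNum_eq_of_cd hX.le 2 ![ω, A] ![Coh.structureModule X, A] ?_ ?_ ?_ _
        (CurvLib.isCoh_of_isInvertible hO) ((topologicalKrullDim_subspace_le _ _).trans hX.le)
      · intro i; fin_cases i
        · exact hωi
        · exact hA.1
      · intro i; fin_cases i
        · exact hO
        · exact hA.1
      · intro i C hCi hC; fin_cases i
        · exact (IntFunLib.cd_eq_zero_of_numZero hωi hnum hCi hC).trans (IntFunLib.cd_unit C).symm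
        · rfl
    rcases (CohB1.support (cokernel φ)).eq_empty_or_nonempty with he | hne
    · haveI : Epi φ := Preadditive.epi_of_isZero_cokernel _ (DevissLib.isZero_of_support_empty he)
      haveI : Mono φ := CurvLib.mono_of_ne_zero hO hωi hφ
      haveI : IsIso φ := isIso_of_mono_of_epi φ
      exact ⟨(asIso φ).symm⟩
    · exact absurd hpr (SurfNumLib.pos_of_section hX hωi hA hφ hne).ne'
  · rintro ⟨e⟩
    rw [HodgeIdxLib.hh_congr (k := k) e 0]
    exact RRVanLib.finrank_h0_structure (k := k)

end Groth.Agent.S15376
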