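import Groth.Statements.S15385
import Groth.Agent.StackCountLib.BCFib
import Groth.Agent.StackCountLib.BGFinite
import Groth.Agent.StackCountLib.EtaleTorsor

set_option autoImplicit false
set_option backward.isDefEq.respectTransparency false
set_option backward.isDefEq.respectTransparency.types false
set_option maxHeartbeats 1000000
set_option synthInstance.maxHeartbeats 400000
universe u
open StackCount

set_option backward.isDefEq.respectTransparency false
set_option backward.isDefEq.respectTransparency.types false
open CategoryTheory CategoryTheory.Limits AlgebraicGeometry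
namespace Groth.Agent.S15385




open CategoryTheory AlgebraicGeometry in
/-- Let k be a finite field and G a finite etale group scheme over k (in particular affine over k, so
that every G-torsor is a scheme). For every finite field extension k' of k, the point count of the
classifying stack B(G) over k' — the sum, over the isomorphism classes of the groupoid of
etale-locally trivial G-torsors over Spec k', of the inverse orders of their automorphism groups —
equals 1. The finiteness of that groupoid (finitely many classes, finite automorphism groups) is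
carried as a hypothesis. -/
theorem result (k : Type u) [Field k] [Finite k]
    (G : Over (Spec (CommRingCat.of k))) [GrpObj G] [IsFinite G.hom] [Etale G.hom]
    (k' : Type u) [Field k'] [Algebra k k'] [Module.Finite k k']
    (h : StkCnt.IsEssFinite (StkCnt.pts (AlgSt.BG Scheme.etalePrecoverage G) k')) :
    StkCnt.ptCount (AlgSt.BG Scheme.etalePrecoverage G) k' h = 1 := by
  classical
  haveI : Finite k' := Module.finite_of_finite k
  let f : Spec (CommRingCat.of k') ⟶ Spec (CommRingCat.of k) := Spec.map (CommRingCat.ofHom (algebraMap k k'))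
  let G' := Red.bc f G
  haveI : IsFinite G'.hom := inferInstanceAs (IsFinite (pullback.snd G.hom f))
  haveI : Etale G'.hom := inferInstanceAs (Etale (pullback.snd G.hom f))
  obtain ⟨-, -, h₃⟩ := StackCountLib.mass_BG G' (K' := Scheme.etalePrecoverage) le_rfl
    StackCountLib.etalePrecoverage_le_fppf
  let K := Scheme.etalePrecoverage.{u}
  let C₁ := StackCountLib.Fib (AlgSt.trivAction G') K (MonoidalCategoryStruct.tensorUnit (Over (Spec (CommRingCat.of k'))))
  let g₁ : NonAbH1.H1Sch G' K → Quotient (isIsomorphicSetoid C₁) :=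
    Quot.lift (fun P => Quotient.mk _ (StackCountLib.ofTorsor G' _ P)) fun P Q ⟨e⟩ =>
      Quotient.sound ⟨(StackCountLib.isoEquiv P Q).symm e⟩
  have hg₁ : Function.Bijective g₁ := by
    refine ⟨?_, ?_⟩
    · rintro ⟨P⟩ ⟨Q⟩ h
      exact Quot.sound ⟨StackCountLib.isoEquiv P Q (Quotient.exact h).some⟩
    · intro c
      induction c using Quotient.ind with
      | _ ξ =>
        obtain ⟨P, ⟨e⟩⟩ := StackCountLib.exists_iso_ofTorsor ξ
        exact ⟨Quot.mk _ P, Quotient.sound ⟨e⟩⟩
  let g₂ : NonAbH1.H1Sch G' K → StkCnt.IsoCl (StkCnt.pts (AlgSt.BG K G) k') :=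
    Quot.lift (fun P => StkCnt.IsoCl.mk (StackCountLib.BC.ofTorsor P : StkCnt.pts (AlgSt.BG K G) k'))
      fun P Q ⟨e⟩ => Quotient.sound ⟨(StackCountLib.BC.isoEquiv P Q).symm e⟩
  have hg₂ : Function.Bijective g₂ := by
    refine ⟨?_, ?_⟩
    · rintro ⟨P⟩ ⟨Q⟩ h
      exact Quot.sound ⟨StackCountLib.BC.isoEquiv P Q (Quotient.exact h).some⟩
    · intro c
      induction c using Quotient.ind with
      | _ ξ =>
        obtain ⟨P, ⟨e⟩⟩ := StackCountLib.BC.exists_iso_ofTorsor ξ
        exact ⟨Quot.mk _ P, Quotient.sound ⟨e⟩⟩
  haveI := h.finite_isoCl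
  letI : Fintype (StkCnt.IsoCl (StkCnt.pts (AlgSt.BG K G) k')) := Fintype.ofFinite _
  rw [← h₃, StkCnt.ptCount, StkCnt.count_eq_sum h, ← finsum_eq_sum_of_fintype]
  refine (finsum_eq_of_bijective g₂ hg₂ fun x => ?_).symm.trans (finsum_eq_of_bijective g₁ hg₁ fun _ => rfl)
  induction x using Quot.ind with
  | mk P =>
    obtain ⟨e⟩ : Nonempty ((g₁ (Quot.mk _ P)).out ≅ StackCountLib.ofTorsor G' K P) :=
      Quotient.exact (Quotient.out_eq (g₁ (Quot.mk _ P)))
    rw [Nat.card_congr (e.conjAut.toEquiv.trans (StackCountLib.isoEquiv P P))]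
    show _ = ((Nat.card (Aut (StackCountLib.BC.ofTorsor P)) : ℕ) : ℚ)⁻¹
    rw [Nat.card_congr ((show Aut (StackCountLib.BC.ofTorsor P) ≃ _ from StackCountLib.BC.isoEquiv P P))]

end Groth.Agent.S15385
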