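import Groth.Statements.S15389
import Groth.Agent.DualNormLib.Vanish
import Groth.Agent.DualNormLib.PicLaurent
import Groth.Agent.DualNormLib.EtaleDVR
import Mathlib.RingTheory.Valuation.Discrete.Basic
import Mathlib.RingTheory.RingHom.Etale
-- import your own Groth.Agent.* helpers here

set_option autoImplicit false
universe u
open TateGlob

namespace Groth.Agent.S15389
open CategoryTheory.Limits
open CategoryTheory AlgebraicGeometry
open scoped TensorProduct

/-- The valuation ring of the completion at a place is a discrete valuation ring. -/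
theorem isDVR_Ov {k K : Type u} [Field k] [Field K] [Algebra k K] (v : FunFld.Place k K) :
    IsDiscreteValuationRing (AdFn.Ov v) := by
  let w : Valuation (AdFn.Kv v) (WithZero (Multiplicative ℤ)) := Valued.v
  have hs : Function.Surjective w := fun x => by
    obtain ⟨y, hy⟩ := v.2.2 x
    exact ⟨AdFn.toKv v y, (AdFn.valued_toKv v y).trans hy⟩
  haveI : IsCyclic (MonoidWithZeroHom.valueGroup (.ofClass w : AdFn.Kv v →*₀ WithZero (Multiplicative ℤ))) :=
    Subgroup.isCyclic _
  haveI : Nontrivial (MonoidWithZeroHom.valueGroup (.ofClass w : AdFn.Kv v →*₀ WithZero (Multiplicative ℤ))) := by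
    obtain ⟨y, hy⟩ := hs (WithZero.exp (1 : ℤ))
    refine nontrivial_of_ne ⟨Units.mk0 (WithZero.exp (1 : ℤ)) WithZero.coe_ne_zero,
      MonoidWithZeroHom.mem_valueGroup _ ⟨y, hy⟩⟩ 1 fun h => ?_
    have h' := congrArg (fun g : ↥(MonoidWithZeroHom.valueGroup _) => ((g.1 : (WithZero (Multiplicative ℤ))ˣ) : WithZero (Multiplicative ℤ))) h
    simp at h'
  exact Valuation.valuationSubring_isDiscreteValuationRing w


open CategoryTheory AlgebraicGeometry in
/-- Let K be a global function field with finite constant field Fq, k'/K a finite separable extension, S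
a nonempty finite set of places of K, O_S the ring of S-integers and O' the integral closure of O_S
in k' (the ring of S'-integers of k', S' the places above S), and suppose O' is finite etale over
O_S, i.e. no place outside S ramifies in k'. Let R = R_{O'/O_S}(𝔾_m) be the Weil restriction of the
multiplicative group, as the abelian sheaf on the big fppf site of Spec O_S given by the direct
image of 𝔾_m along Spec O' → Spec O_S, and R^ its dual sheaf (internal Hom into 𝔾_m). Then for every
place v of K not in S, H^1(O_v, R^) = 0, where O_v is the valuation ring of the completion K_v and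
the group is the fppf cohomology of the restriction of R^ to Spec O_v. (The published statement is
for any global field, with S also containing the archimedean places; this row is the function-field
case.) -/
theorem result (Fq : Type u) [Field Fq] [Finite Fq] (K : Type u) [Field K] [Algebra (RatFunc Fq) K] [FunctionField Fq K]
    [Algebra Fq K] [IsScalarTower Fq (RatFunc Fq) K]
    (k' : Type u) [Field k'] [Algebra K k'] [FiniteDimensional K k'] [Algebra.IsSeparable K k']
    (S : Set (FunFld.Place Fq K)) (hS : S.Finite) (hne : S.Nonempty)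
    [Algebra (AdFn.SInt S) k'] [IsScalarTower (AdFn.SInt S) K k']
    (O' : Type u) [CommRing O'] [Algebra (AdFn.SInt S) O'] [Algebra O' k'] [IsScalarTower (AdFn.SInt S) O' k']
    [IsIntegralClosure O' (AdFn.SInt S) k']
    [IsFinite (Spec.map (CommRingCat.ofHom (algebraMap (AdFn.SInt S) O')))]
    [Etale (Spec.map (CommRingCat.ofHom (algebraMap (AdFn.SInt S) O')))]
    (v : FunFld.Place Fq K) (hv : v ∉ S) :
    Subsingleton (AdFn.HInt Scheme.fppfPrecoverage S
      (CGrpSh2.dualSh Scheme.fppfPrecoverage
        (CGrpSh3.pushGm Scheme.fppfPrecoverage (Spec.map (CommRingCat.ofHom (algebraMap (AdFn.SInt S) O'))))) 1 hv) := by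
  letI : Algebra (AdFn.SInt S) (AdFn.Ov v) := (AdFn.SInt.toOv S hv).toAlgebra
  haveI : Algebra.Etale (AdFn.SInt S) O' :=
    (RingHom.etale_algebraMap).1 ((HasRingHomProperty.Spec_iff (P := @Etale)).1 ‹_›)
  haveI : Module.Finite (AdFn.SInt S) O' := RingHom.finite_algebraMap.1 ((IsFinite.SpecMap_iff _).1 ‹_›)
  haveI := isDVR_Ov v
  haveI : Algebra.Etale (AdFn.Ov v) (AdFn.Ov v ⊗[AdFn.SInt S] O') := inferInstance
  haveI : Module.Finite (AdFn.Ov v) (AdFn.Ov v ⊗[AdFn.SInt S] O') := inferInstance
  obtain ⟨κ, D, _, _, _, ⟨e⟩⟩ := DualNormLib.exists_pid_prod (AdFn.Ov v) (AdFn.Ov v ⊗[AdFn.SInt S] O')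
  obtain ⟨_, _⟩ := DualNormLib.good_of_equiv_prod D e
  exact DualNormLib.subsingleton_H_pull_dual_push (AdFn.SInt S) (AdFn.Ov v) O'


end Groth.Agent.S15389
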