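import Groth.Statements.S15388
import Groth.Agent.DualNormLib.Vanish
import Groth.Agent.DualNormLib.PicLaurent
import Groth.Agent.DualNormLib.EtaleDVR
import Groth.Agent.S15389
import Groth.Agent.ProjLib.TensorPi
import Mathlib.RingTheory.TensorProduct.Pi
import Mathlib.RingTheory.RingHom.Etale
import Mathlib.RingTheory.Finiteness.ModuleFinitePresentation
-- import your own Groth.Agent.* helpers here

set_option autoImplicit false
universe u
open TateGlob

namespace Groth.Agent.S15388
open CategoryTheory.Limits
open CategoryTheory AlgebraicGeometry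
open scoped TensorProduct

/-- A tensor product with a product of discrete valuation rings is a product of principal ideal domains. -/
theorem good_tensor_pi {R : Type u} [CommRing R] {ι : Type u} (A : ι → Type u) [∀ i, CommRing (A i)]
    [∀ i, IsDomain (A i)] [∀ i, IsDiscreteValuationRing (A i)] [∀ i, Algebra R (A i)]
    (P : Type u) [CommRing P] [Algebra R P] (π : P ≃+* ∀ i, A i) (hπ : ∀ r i, π (algebraMap R P r) i = algebraMap R (A i) r)
    (O' : Type u) [CommRing O'] [Algebra R O'] [Algebra.Etale R O'] [Module.Finite R O'] :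
    IsReduced (P ⊗[R] O') ∧ Subsingleton (CommRing.Pic (LaurentPolynomial (P ⊗[R] O'))) := by
  haveI : Module.FinitePresentation R O' := Module.FinitePresentation.of_finite_of_finitePresentation R O'
  have key : ∀ i, ∃ (κ : Type u) (D : κ → Type u) (_ : ∀ j, CommRing (D j)) (_ : ∀ j, IsDomain (D j))
      (_ : ∀ j, IsPrincipalIdealRing (D j)), Nonempty (A i ⊗[R] O' ≃+* ∀ j, D j) :=
    fun i => DualNormLib.exists_pid_prod (A i) (A i ⊗[R] O')
  choose κ D i₁ i₂ i₃ e using key
  have hbij : Function.Bijective (Algebra.TensorProduct.piRightHom R R O' A) :=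
    ⟨ProjLib.piRightHom_injective O', ProjLib.piRightHom_surjective O'⟩
  let e₁ : (∀ i, A i) ⊗[R] O' ≃+* ∀ i, O' ⊗[R] A i :=
    (Algebra.TensorProduct.comm R (∀ i, A i) O').toRingEquiv.trans (AlgEquiv.ofBijective _ hbij).toRingEquiv
  let e₂ : (∀ i, O' ⊗[R] A i) ≃+* ∀ i, ∀ j, D i j :=
    RingEquiv.piCongrRight fun i => (Algebra.TensorProduct.comm R O' (A i)).toRingEquiv.trans (e i).some
  let e₃ : (∀ i, ∀ j, D i j) ≃+* ∀ p : Σ i, κ i, D p.1 p.2 :=
    { toFun := fun x p => x p.1 p.2
      invFun := fun y i j => y ⟨i, j⟩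
      left_inv := fun _ => rfl
      right_inv := fun _ => rfl
      map_mul' := fun _ _ => rfl
      map_add' := fun _ _ => rfl }
  let π' : P ≃ₐ[R] ∀ i, A i := AlgEquiv.ofRingEquiv (f := π) fun r => funext fun i => hπ r i
  exact DualNormLib.good_of_equiv_prod (fun p : Σ i, κ i => D p.1 p.2)
    (((Algebra.TensorProduct.congr π' (AlgEquiv.refl : O' ≃ₐ[R] O')).toRingEquiv.trans e₁).trans (e₂.trans e₃))

open CategoryTheory AlgebraicGeometry in
/-- Let K be a global function field with finite constant field Fq, k'/K a finite separable extension, S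
a nonempty finite set of places of K, O_S the ring of S-integers and O' the integral closure of O_S
in k' (the ring of S'-integers of k', S' the places above S), and suppose O' is finite etale over
O_S, i.e. no place outside S ramifies in k'. Let R = R_{O'/O_S}(𝔾_m) be the Weil restriction of the
multiplicative group, as the abelian sheaf on the big fppf site of Spec O_S given by the direct
image of 𝔾_m along Spec O' → Spec O_S, and R^ its dual sheaf (internal Hom into 𝔾_m). Then H^1(Ô_S,
R^) = 0, where Ô_S = ∏_{v ∉ S} O_v and the group is the fppf cohomology of the restriction of R^ to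
Spec Ô_S. (The published statement is for any global field, with S also containing the archimedean
places; this row is the function-field case.) -/
theorem result (Fq : Type u) [Field Fq] [Finite Fq] (K : Type u) [Field K] [Algebra (RatFunc Fq) K] [FunctionField Fq K]
    [Algebra Fq K] [IsScalarTower Fq (RatFunc Fq) K]
    (k' : Type u) [Field k'] [Algebra K k'] [FiniteDimensional K k'] [Algebra.IsSeparable K k']
    (S : Set (FunFld.Place Fq K)) (hS : S.Finite) (hne : S.Nonempty)
    [Algebra (AdFn.SInt S) k'] [IsScalarTower (AdFn.SInt S) K k']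
    (O' : Type u) [CommRing O'] [Algebra (AdFn.SInt S) O'] [Algebra O' k'] [IsScalarTower (AdFn.SInt S) O' k']
    [IsIntegralClosure O' (AdFn.SInt S) k']
    [IsFinite (Spec.map (CommRingCat.ofHom (algebraMap (AdFn.SInt S) O')))]
    [Etale (Spec.map (CommRingCat.ofHom (algebraMap (AdFn.SInt S) O')))] :
    Subsingleton (AdFn.HOHat Scheme.fppfPrecoverage S
      (CGrpSh2.dualSh Scheme.fppfPrecoverage
        (CGrpSh3.pushGm Scheme.fppfPrecoverage (Spec.map (CommRingCat.ofHom (algebraMap (AdFn.SInt S) O'))))) 1) := by
  haveI : Algebra.Etale (AdFn.SInt S) O' :=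
    (RingHom.etale_algebraMap).1 ((HasRingHomProperty.Spec_iff (P := @Etale)).1 ‹_›)
  haveI : Module.Finite (AdFn.SInt S) O' := RingHom.finite_algebraMap.1 ((IsFinite.SpecMap_iff _).1 ‹_›)
  letI := fun w : {w : FunFld.Place Fq K // w ∉ S} => (AdFn.SInt.toOv S w.2).toAlgebra
  haveI := fun w : {w : FunFld.Place Fq K // w ∉ S} => Groth.Agent.S15389.isDVR_Ov w.1
  obtain ⟨_, _⟩ := good_tensor_pi (R := AdFn.SInt S) (fun w : {w : FunFld.Place Fq K // w ∉ S} => AdFn.Ov w.1)
    (AdFn.OHat S) (RingEquiv.refl _) (fun _ _ => rfl) O'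
  exact DualNormLib.subsingleton_H_pull_dual_push (AdFn.SInt S) (AdFn.OHat S) O'


end Groth.Agent.S15388
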