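import Groth.Statements.S15391
import Mathlib


-- import your own Groth.Agent.* helpers here

set_option autoImplicit false
universe u
open TensorProduct
open TorFree

namespace Groth.Agent.S15391

/-- Let R be a reduced Noetherian commutative ring, M a finitely generated torsion-free R-module (no
non-zero element of M is annihilated by a non-zero-divisor of R), and t an element of M whose image
1 ⊗ t in the fibre κ(p) ⊗_R M vanishes for every prime ideal p of R, κ(p) being the residue field at
p. Then t = 0. This is the affine form of the claim that a global section of a coherent torsion-free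
module on a reduced Noetherian scheme which vanishes in every fibre is zero. -/
theorem result (R : Type u) [CommRing R] [IsReduced R] [IsNoetherianRing R]
    (M : Type u) [AddCommGroup M] [Module R M] [Module.Finite R M] [Module.IsTorsionFree R M]
    (t : M) (ht : ∀ p : PrimeSpectrum R, (1 : p.asIdeal.ResidueField) ⊗ₜ[R] t = (0 : p.asIdeal.ResidueField ⊗[R] M)) :
    t = 0 := by
  classical
  have hloc : ∀ p ∈ minimalPrimes R, ∃ s, s ∉ p ∧ s • t = 0 := by
    intro p hp
    haveI := Ideal.minimalPrimes_isPrime hp
    let L := Localization.AtPrime p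
    have hmax : IsLocalRing.maximalIdeal L = ⊥ := by
      rw [eq_bot_iff]
      intro x hx
      refine IsNilpotent.eq_zero (nilpotent_iff_mem_prime.2 fun Q hQ => ?_)
      haveI := hQ
      have hle : Q.comap (algebraMap R L) ≤ p := by
        intro r hr
        by_contra hrp
        exact hQ.ne_top (Ideal.eq_top_of_isUnit_mem _ hr (IsLocalization.map_units L (⟨r, hrp⟩ : p.primeCompl)))
      have hcm : Q.comap (algebraMap R L) = p := le_antisymm hle (hp.2 ⟨Ideal.comap_isPrime _ Q, bot_le⟩ hle)
      have hQm : Q = IsLocalRing.maximalIdeal L :=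
        (IsLocalization.map_under p.primeCompl L Q).symm.trans (((congrArg (Ideal.map (algebraMap R L)) (hcm.trans (IsLocalization.AtPrime.under_maximalIdeal L p).symm))).trans (IsLocalization.map_under p.primeCompl L _))
      exact hQm ▸ hx
    let g : L →ₗ[R] p.ResidueField := (IsScalarTower.toAlgHom R L p.ResidueField).toLinearMap
    have hg : Function.Bijective g := by
      constructor
      · intro a b hab
        have : a - b ∈ IsLocalRing.maximalIdeal L := Ideal.Quotient.eq.1 hab
        rw [hmax] at this
        exact sub_eq_zero.1 this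
      · exact Ideal.Quotient.mk_surjective
    have h0 : (1 : L) ⊗ₜ[R] t = (0 : TensorProduct R L M) := by
      apply (TensorProduct.congr (LinearEquiv.ofBijective g hg) (LinearEquiv.refl R M)).injective
      rw [TensorProduct.congr_tmul, map_zero, LinearEquiv.ofBijective_apply, LinearEquiv.refl_apply, show g 1 = 1 from (IsScalarTower.toAlgHom R L p.ResidueField).map_one]
      exact ht ⟨p, inferInstance⟩
    haveI : IsLocalizedModule p.primeCompl (TensorProduct.mk R L M 1) :=
      (isLocalizedModule_iff_isBaseChange p.primeCompl L _).2 (TensorProduct.isBaseChange R M L)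
    obtain ⟨⟨s, hs⟩, e⟩ := (IsLocalizedModule.eq_zero_iff p.primeCompl (TensorProduct.mk R L M 1)).1 h0
    exact ⟨s, hs, e⟩
  let I : Ideal R := LinearMap.ker (LinearMap.toSpanSingleton R M t)
  obtain ⟨x, hxI, hx⟩ : ∃ x ∈ I, ∀ p ∈ minimalPrimes R, x ∉ p := by
    by_contra hcon
    push Not at hcon
    have hfin := minimalPrimes.finite_of_isNoetherianRing R
    have hsub : (I : Set R) ⊆ ⋃ p ∈ (hfin.toFinset : Set (Ideal R)), (p : Set R) := fun x hx => by
      obtain ⟨p, hp, hxp⟩ := hcon x hx
      exact Set.mem_biUnion (hfin.mem_toFinset.2 hp) hxp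
    obtain ⟨p, hp, hle⟩ := (Ideal.subset_union_prime (f := fun p : Ideal R => p) ⊥ ⊥ fun p hp _ _ => Ideal.minimalPrimes_isPrime (hfin.mem_toFinset.1 hp)).1 hsub
    obtain ⟨s, hs, e⟩ := hloc p (hfin.mem_toFinset.1 hp)
    exact hs (hle (show s ∈ I from e))
  have hreg : IsRegular x := by
    have key : ∀ y, x * y = 0 → y = 0 := by
      intro y hy
      refine IsNilpotent.eq_zero (nilpotent_iff_mem_prime.2 fun Q hQ => ?_)
      haveI := hQ
      obtain ⟨p, hp, hpQ⟩ := Ideal.exists_minimalPrimes_le (I := (⊥ : Ideal R)) (J := Q) bot_le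
      exact hpQ ((hp.1.1.mem_or_mem (show x * y ∈ p by rw [hy]; exact zero_mem _)).resolve_left (hx p hp))
    exact ⟨fun a b h => sub_eq_zero.1 (key _ (by rw [mul_sub]; exact sub_eq_zero.2 h)), fun a b h => sub_eq_zero.1 (key _ (by rw [mul_sub, mul_comm x a, mul_comm x b]; exact sub_eq_zero.2 h))⟩
  exact hreg.isSMulRegular (show x • t = x • 0 by rw [smul_zero]; exact hxI)

end Groth.Agent.S15391
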