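import Groth.Statements.S15397
import Groth.Agent.AVMulDetLib.Main
import Groth.Agent.CurveVBLib.Integral

set_option autoImplicit false
set_option linter.style.haveILetI false
universe u
open CategoryTheory CategoryTheory.Limits MonoidalCategory CartesianMonoidalCategory MonObj GrpObj AlgebraicGeometry
open AbVar

namespace Groth.Agent.S15397

/-- Let k be an algebraically closed field of characteristic zero, A an abelian variety over k (a proper
smooth k-group scheme with geometrically connected fibres), and E a finite locally free O_A-module
of rank r which is generically globally generated: there are a non-empty open subset U of A and a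
family of global sections s_j : O_A → E such that the induced map from the direct sum of copies of
O_A to E is an epimorphism after restriction to U. Assume that r is smaller than the dimension over
k of H^0(A, E), and let D be a determinant of E, that is an r-th exterior power of E. Then the
multiplication map on global sections Γ(A, E) ⊗ Γ(A, D) → Γ(A, E ⊗ D), written as the canonical map
from the global sections of the sectionwise tensor product presheaf (the tensor being over the ring
of global functions Γ(A, O_A)) to the global sections of its sheafification, is not injective. -/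
theorem result (k : Type u) [Field k] [IsAlgClosed k] [CharZero k]
    (A : Over (Spec (CommRingCat.of k))) [GrpObj A] [IsProper A.hom] [Smooth A.hom] [GeometricallyConnected A.hom]
    (E : A.left.Modules) (r : ℕ) (hE : FlatMod.IsFinLocFreeOfRank r E)
    (hgen : ∃ (U : A.left.Opens) (J : Type u) (s : J → (Coh.structureModule A.left ⟶ E)),
      (U : Set ↥A.left).Nonempty ∧ Epi ((Scheme.Modules.restrictFunctor U.ι).map (Sigma.desc s)))
    (hlt : r < @Module.finrank k (Coh.HH A.left E 0) _ _ (@Coh.moduleOver k _ A.left ⟨A.hom⟩ E 0))
    (D : A.left.Modules) (hD : ExtPow.IsExtPow r E D) :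
    ¬ Function.Injective
      ((toSheafify (Opens.grothendieckTopology ↥A.left) (CohB1.tensorPre E D).presheaf).app (Opposite.op ⊤)) := by
  letI : A.left.Over (Spec (CommRingCat.of k)) := ⟨A.hom⟩
  haveI : IsProper (A.left ↘ Spec (CommRingCat.of k)) := ‹IsProper A.hom›
  haveI : Smooth (A.left ↘ Spec (CommRingCat.of k)) := ‹Smooth A.hom›
  haveI : GeometricallyConnected (A.left ↘ Spec (CommRingCat.of k)) := ‹GeometricallyConnected A.hom›
  haveI : IsIntegral A.left := CurveVBLib.isIntegral_of_smooth_geomConnected (X := A.left) k
  refine AVMulDetLib.not_injective k hE hgen ?_ hlt hD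
  let f := A.left ↘ Spec (CommRingCat.of k)
  let F : k →+* Γ(A.left, ⊤) := Coh.toGlobal f
  have hF : F.Finite :=
    (AlgebraicGeometry.finite_appTop_of_universallyClosed k f).comp
      (RingHom.Finite.of_surjective _ (ConcreteCategory.bijective_of_isIso (Scheme.ΓSpecIso (CommRingCat.of k)).inv).2)
  letI : Field Γ(A.left, ⊤) := (AlgebraicGeometry.isField_of_universallyClosed k f).toField
  letI : Algebra k Γ(A.left, ⊤) := F.toAlgebra
  haveI : Module.Finite k Γ(A.left, ⊤) := hF
  exact IsAlgClosed.algebraMap_bijective_of_isIntegral (k := k) (K := Γ(A.left, ⊤))

end Groth.Agent.S15397
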