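import Groth.Statements.S15399
import Groth.Agent.PicH1Lib.SqLES

set_option autoImplicit false
universe u
open CategoryTheory CategoryTheory.Limits AlgebraicGeometry
open PicGrp

namespace Groth.Agent.S15399

/-- Let X be a quasi-compact separated scheme, J a quasi-coherent ideal of O_X with J² = 0 and X₀ the
closed subscheme it cuts out, with inclusion i, and assume that the restriction of global functions
O_X(X) → O_{X₀}(X₀) is surjective. Assume the Picard group laws on X and X₀ and that pullback of
invertible classes along i is multiplicative. Then the kernel of the pullback homomorphism Pic(X) →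
Pic(X₀) is isomorphic, as a group, to the additive group H¹(X, J) (J viewed as an O_X-module),
written multiplicatively. (Existence of a group isomorphism only; the compatibility of the
isomorphism with pullback along morphisms Y → X is not stated.) -/
theorem result (X : Scheme.{u}) [CompactSpace X] [X.IsSeparated]
    (J : X.IdealSheafData) (hJ : J * J = ⊥)
    [PicGrp.Law X] [PicGrp.Law J.subscheme] (hi : PicGrp.PullMul J.subschemeι)
    (hsurj : Function.Surjective J.subschemeι.appTop.hom) :
    Nonempty ((PicGrp.pullHom J.subschemeι hi).ker ≃* Multiplicative (Coh.HH X (ClSub.idealMod J) 1)) := by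
  have hinj : Function.Injective (PicH1Lib.alphaHom hJ) := by
    rw [← MonoidHom.ker_eq_bot_iff, PicH1Lib.ker_alphaHom hJ, MonoidHom.range_eq_bot_iff]
    refine MonoidHom.ext fun v => ?_
    rw [MonoidHom.one_apply, ← MonoidHom.mem_ker, PicH1Lib.ker_delta₀ hJ]
    haveI := PicH1Lib.surjective_of_sq_zero hJ
    obtain ⟨r, hr⟩ := hsurj v.1
    have hru : IsUnit r := PicTorsLib.isUnit_of_app (i := J.subschemeι) (W := (⊤ : X.Opens)) (r := r)
      (by rw [show (J.subschemeι.app ⊤).hom r = v.1 from hr]; exact v.isUnit)
    exact ⟨hru.unit, Units.ext hr⟩
  exact ⟨(MulEquiv.subgroupCongr (PicH1Lib.ker_pullHom hJ hi)).trans (MonoidHom.ofInjective hinj).symm⟩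

end Groth.Agent.S15399
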