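import Groth.Statements.S15402
import Groth.Agent.RootAlgzLib.Main
import Groth.Agent.BddFamLib.Main
import Groth.Agent.IntFunLib.Numerical

set_option autoImplicit false
universe u
open CategoryTheory CategoryTheory.Limits AlgebraicGeometry
open PicGrp

namespace Groth.Agent.S15402

/-- Let k be an algebraically closed field, X a proper k-scheme, ℓ a prime number which is nonzero in k,
and L an invertible O_X-module; assume the Picard group law on X. Call a class c of Pic(X)
ℓ-divisible when for every n ≥ 1 it is an ℓ^n-th power. (a) If some power c^m, m ≥ 1, of the class c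
of L is ℓ-divisible, then c lies in the subgroup of Pic(X) generated by the classes of invertible
modules τ-equivalent to zero (some positive tensor power algebraically equivalent to zero). (b)
Conversely, if moreover the structure map induces an isomorphism k ≅ H⁰(X, O_X) and c lies in that
subgroup, then some power c^m, m ≥ 1, is ℓ-divisible. (The published statement lists further
equivalent conditions through the ℓ-adic first Chern class, not stated here. The published statement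
proves (a) for X proper over an arbitrary field; here k is taken algebraically closed in both parts,
the setting of the τ-equivalence notion used.) -/
theorem result (k : Type u) [Field k] [IsAlgClosed k]
    (X : Scheme.{u}) [X.Over (Spec (CommRingCat.of k))] [IsProper (X ↘ Spec (CommRingCat.of k))]
    (ℓ : ℕ) (hℓ : ℓ.Prime) (hℓk : (ℓ : k) ≠ 0) (L : X.Modules) (hL : PicF.IsInvertible L) [PicGrp.Law X] :
    ((∃ m : ℕ, 0 < m ∧ ∀ n : ℕ, ∃ d : PicLoc.PicSet X, d ^ (ℓ ^ n) = PicGrp.cls L hL ^ m) →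
        PicGrp.cls L hL ∈ PicGrp.subCl (Pic13.IsTauEquivZero k X)) ∧
      (IsIso (X ↘ Spec (CommRingCat.of k)).appTop →
        PicGrp.cls L hL ∈ PicGrp.subCl (Pic13.IsTauEquivZero k X) →
          ∃ m : ℕ, 0 < m ∧ ∀ n : ℕ, ∃ d : PicLoc.PicSet X, d ^ (ℓ ^ n) = PicGrp.cls L hL ^ m) := by
  refine ⟨?_, ?_⟩
  · rintro ⟨m, hm, hdiv⟩
    refine PicGrp.cls_mem_subCl hL (BddFamLib.tau_of_NT k ⟨hL, fun C hi hC => ?_⟩)
    have key : ∀ n : ℕ, ((ℓ ^ n : ℕ) : ℤ) ∣ (m : ℤ) * IntFunLib.cd k L C := fun n => by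
      obtain ⟨d, hd⟩ := hdiv n
      obtain ⟨D, hD, rfl⟩ := PicGrp.exists_eq_cls d
      have h1 := congrArg Subtype.val hd
      rw [PicGrp.cls_pow_val, PicGrp.cls_pow_val] at h1
      obtain ⟨e⟩ := (PicGrp.cl_eq_cl_iff _ _).1 h1
      refine ⟨IntFunLib.cd k D C, ?_⟩
      rw [← IntFunLib.cd_pow hL hC, ← IntFunLib.cd_pow hD hC, IntFunLib.cd_congr e]
    by_contra hne
    have hne' : (m : ℤ) * IntFunLib.cd k L C ≠ 0 := mul_ne_zero (by exact_mod_cast hm.ne') hne
    obtain ⟨n, hn⟩ : ∃ n, ((m : ℤ) * IntFunLib.cd k L C).natAbs < ℓ ^ n :=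
      ⟨_, Nat.lt_pow_self hℓ.one_lt⟩
    have := Nat.le_of_dvd (Int.natAbs_pos.2 hne') (Int.natCast_dvd.1 (key n))
    omega
  · intro _ hc
    let Q : PicLoc.PicSet X → Prop := fun c => ∃ m, 0 < m ∧ ∃ (P : X.Modules) (hP : PicF.IsInvertible P),
      Pic13.IsAlgEquivZero k X P ∧ c ^ m = PicGrp.cls P hP
    suffices h : ∀ c ∈ PicGrp.subCl (Pic13.IsTauEquivZero k X), Q c by
      obtain ⟨m, hm, P, hP, hPa, e⟩ := h _ hc
      refine ⟨m, hm, fun n => ?_⟩
      have hnk : ((ℓ ^ n : ℕ) : k) ≠ 0 := by push_cast; exact pow_ne_zero _ hℓk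
      obtain ⟨R, hR, -, ⟨eR⟩⟩ := RootAlgzLib.exists_root_algEquiv hnk hPa
      refine ⟨PicGrp.cls R hR, e ▸ Subtype.ext ?_⟩
      rw [PicGrp.cls_pow_val]
      exact (PicGrp.cl_eq_cl_iff _ _).2 ⟨eR⟩
    intro c hc
    induction hc using Subgroup.closure_induction with
    | mem c hc =>
      obtain ⟨M, hM, ⟨m, hm, ha⟩, rfl⟩ := hc
      refine ⟨m, hm, _, AmpleThLib.tensorPow_isInvertible hM m, ha, Subtype.ext ?_⟩
      rw [PicGrp.cls_pow_val]; rfl
    | one =>
      refine ⟨1, Nat.one_pos, Coh.structureModule X, PicLoc.isInvertible_structureModule X,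
        AlgEquivCurveLib.ae_iff.1 ?_, by rw [one_pow, PicGrp.cls_structureModule_eq_one]⟩
      rw [CubeConsLib.cl_eq_one_iff.2 ⟨Iso.refl _⟩]
      exact AlgEquivCurveLib.AE.one
    | mul a b _ _ iha ihb =>
      obtain ⟨m, hm, P, hP, hPa, ea⟩ := iha
      obtain ⟨m', hm', P', hP', hPa', eb⟩ := ihb
      refine ⟨m * m', Nat.mul_pos hm hm', CohB1.tensorMod (CohB1.tensorPow P m') (CohB1.tensorPow P' m),
        HilbPolyLib.isInvertible_tensor (AmpleThLib.tensorPow_isInvertible hP m') (AmpleThLib.tensorPow_isInvertible hP' m),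
        AlgEquivCurveLib.ae_iff.1 ?_, Subtype.ext ?_⟩
      · rw [CubeConsLib.cl_tensor, NumTrivLib.cl_tensorPow, NumTrivLib.cl_tensorPow]
        exact ((AlgEquivCurveLib.ae_iff.2 hPa).pow m').mul ((AlgEquivCurveLib.ae_iff.2 hPa').pow m)
      · rw [mul_pow, pow_mul, ea, Nat.mul_comm, pow_mul, eb, PicGrp.mul_val, PicGrp.cls_pow_val,
          PicGrp.cls_pow_val]
        rfl
    | inv a _ iha =>
      obtain ⟨m, hm, P, hP, hPa, ea⟩ := iha
      obtain ⟨d, hd, hPd⟩ := RootAlgzLib.ae_inv (AlgEquivCurveLib.ae_iff.2 hPa)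
      have hd' := hd
      obtain ⟨T', q', -, -, -, M', hM', s, -, hs, -, es, -⟩ := hd
      subst es
      refine ⟨m, hm, _, AmpleDevLib.isInvertible_pb (Pic13.sliceAt k X q' s hs) hM', AlgEquivCurveLib.ae_iff.1 hd', ?_⟩
      rw [inv_pow, ea]
      exact PicGrp.cls_inv_eq_cls _ _ (CubeConsLib.cl_eq_one_iff.1 hPd)

end Groth.Agent.S15402
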