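import Groth.Statements.S15404
import Mathlib
import Mathlib
import Groth.Agent.PinchPicLib.Glue
import Groth.Agent.DescAppLib.RigApps
import Groth.Agent.H0Lib.Main
import Groth.Agent.AlgSpLib.ReducedSmooth
-- import your own Groth.Agent.* helpers here

set_option autoImplicit false
universe u
open CategoryTheory CategoryTheory.Limits AlgebraicGeometry
open PicGrp

namespace Groth.Agent.S15404

/-- Let π : X ⟶ B be quasi-compact and separated and let X be the union of the closed subschemes Y =
V(I) and Z = V(J), I and J quasi-coherent ideals with I ∩ J = 0 (so that O_X → O_Y × O_Z is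
injective with cokernel O_W, W = Y ∩ Z = V(I + J)); assume that W is flat, proper and of finite
presentation over B, that W → B has a section, and that the geometric fibres of W → B are reduced
and connected. Assume the Picard group laws on B, X, Y, Z, W and that pullback of invertible classes
along π, along the inclusions of Y, Z in X and of W in Y, Z, and along the structure maps of Y, Z, W
is multiplicative. Then the square of groups formed by Pic(X)/π^*Pic(B), Pic(Y)/Pic(B),
Pic(Z)/Pic(B) and Pic(W)/Pic(B) under restriction is cartesian: (a) an invertible class on X whose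
restrictions to Y and to Z are pulled back from B is itself pulled back from B; (b) for invertible
classes y on Y and z on Z whose restrictions to W agree up to a class pulled back from B, there is a
class on X whose restrictions to Y and Z are y and z up to classes pulled back from B. (The
published statement asserts this for the functor T ↦ Pic(X ×_B T)/Pic(T) on all B-schemes T and
assumes only that π is quasi-compact and separated, W flat over B with a section and geometrically
reduced connected fibres; its proof uses that every global unit on W comes from B, through a lemma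
on flat proper morphisms, and without properness the assertion fails — over a field, two affine
planes glued along the hyperbola ts = 1 have non-trivial Picard group — so W is taken proper and of
finite presentation over B here (finite presentation being automatic over a locally Noetherian
base), and only the value at T = B is stated.) -/
theorem result {X B : Scheme.{u}} (π : X ⟶ B)
    [QuasiCompact π] [IsSeparated π] (I J : X.IdealSheafData) (hIJ : I ⊓ J = ⊥)
    [Flat ((I ⊔ J).subschemeι ≫ π)] [IsProper ((I ⊔ J).subschemeι ≫ π)]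
    [LocallyOfFinitePresentation ((I ⊔ J).subschemeι ≫ π)]
    (s : B ⟶ (I ⊔ J).subscheme) (hs : s ≫ (I ⊔ J).subschemeι ≫ π = 𝟙 B)
    (hfib : ∀ (K : Type u) [Field K] [IsAlgClosed K] (g : Spec (CommRingCat.of K) ⟶ B),
      IsReduced (pullback ((I ⊔ J).subschemeι ≫ π) g) ∧ ConnectedSpace ↥(pullback ((I ⊔ J).subschemeι ≫ π) g))
    [PicGrp.Law B] [PicGrp.Law X] [PicGrp.Law I.subscheme] [PicGrp.Law J.subscheme] [PicGrp.Law (I ⊔ J).subscheme]
    (hπ : PicGrp.PullMul π) (hY : PicGrp.PullMul I.subschemeι) (hZ : PicGrp.PullMul J.subschemeι)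
    (hπY : PicGrp.PullMul (I.subschemeι ≫ π)) (hπZ : PicGrp.PullMul (J.subschemeι ≫ π))
    (hπW : PicGrp.PullMul ((I ⊔ J).subschemeι ≫ π))
    (hWY : PicGrp.PullMul (Scheme.IdealSheafData.inclusion (le_sup_left : I ≤ I ⊔ J)))
    (hWZ : PicGrp.PullMul (Scheme.IdealSheafData.inclusion (le_sup_right : J ≤ I ⊔ J))) :
    (∀ c : PicLoc.PicSet X,
        (∃ b₁ : PicLoc.PicSet B, PicGrp.pullHom I.subschemeι hY c = PicGrp.pullHom (I.subschemeι ≫ π) hπY b₁) →
        (∃ b₂ : PicLoc.PicSet B, PicGrp.pullHom J.subschemeι hZ c = PicGrp.pullHom (J.subschemeι ≫ π) hπZ b₂) →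
          ∃ b : PicLoc.PicSet B, c = PicGrp.pullHom π hπ b) ∧
      (∀ (y : PicLoc.PicSet I.subscheme) (z : PicLoc.PicSet J.subscheme),
        (∃ b : PicLoc.PicSet B,
            PicGrp.pullHom (Scheme.IdealSheafData.inclusion (le_sup_left : I ≤ I ⊔ J)) hWY y =
              PicGrp.pullHom (Scheme.IdealSheafData.inclusion (le_sup_right : J ≤ I ⊔ J)) hWZ z *
                PicGrp.pullHom ((I ⊔ J).subschemeι ≫ π) hπW b) →
          ∃ (c : PicLoc.PicSet X) (b₁ b₂ : PicLoc.PicSet B),
            PicGrp.pullHom I.subschemeι hY c = y * PicGrp.pullHom (I.subschemeι ≫ π) hπY b₁ ∧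
              PicGrp.pullHom J.subschemeι hZ c = z * PicGrp.pullHom (J.subschemeι ≫ π) hπZ b₂) := by
  let k := (I ⊔ J).subschemeι
  have hgeo : ∀ ⦃K : Type u⦄ [Field K] (y : Spec (CommRingCat.of K) ⟶ B) ⦃Z : Scheme.{u}⦄ (p₁ : Z ⟶ (I ⊔ J).subscheme)
      (p₂ : Z ⟶ Spec (CommRingCat.of K)), IsPullback p₁ p₂ (k ≫ π) y → IsReduced Z ∧ ConnectedSpace ↥Z := by
    intro K _ y Z p₁ p₂ H
    let L := AlgebraicClosure K
    let t : Spec (CommRingCat.of L) ⟶ Spec (CommRingCat.of K) := Spec.map (CommRingCat.ofHom (algebraMap K L))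
    obtain ⟨hr, hc⟩ := hfib L (t ≫ y)
    haveI : Flat t := by
      rw [HasRingHomProperty.Spec_iff (P := @Flat)]
      exact RingHom.flat_algebraMap_iff.mpr inferInstance
    haveI : Surjective t := ⟨PrimeSpectrum.comap_surjective_of_faithfullyFlat (A := K) (B := L)⟩
    let m : pullback (k ≫ π) (t ≫ y) ⟶ Z := H.lift (pullback.fst _ _) (pullback.snd _ _ ≫ t)
      (pullback.condition.trans (Category.assoc _ _ _).symm)
    have Hm : IsPullback m (pullback.snd (k ≫ π) (t ≫ y)) p₂ t := by
      refine IsPullback.of_right ?_ (H.lift_snd _ _ _) H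
      rw [show m ≫ p₁ = pullback.fst (k ≫ π) (t ≫ y) from H.lift_fst _ _ _]
      exact IsPullback.of_hasPullback _ _
    haveI : Flat m := MorphismProperty.of_isPullback (P := @Flat) Hm.flip inferInstance
    haveI : Surjective m := MorphismProperty.of_isPullback (P := @Surjective) Hm.flip inferInstance
    haveI := hr
    haveI := hc
    exact ⟨AlgSpLib.isReduced_of_flat_surjective m, m.surjective.connectedSpace m.continuous⟩
  haveI : GeometricallyReduced (k ≫ π) := ⟨fun K _ y Z p₁ p₂ H => (hgeo y p₁ p₂ H).1⟩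
  haveI : GeometricallyConnected (k ≫ π) := ⟨fun K _ y Z p₁ p₂ H => (hgeo y p₁ p₂ H).2⟩
  have hW : Function.Bijective (k ≫ π).appTop := H0Lib.bijective_app_of_geometrically (k ≫ π) ⊤
  have ha : PinchPicLib.aI I J ≫ I.subschemeι = k := PinchPicLib.aI_ι I J
  have hb : PinchPicLib.bJ I J ≫ J.subschemeι = k := PinchPicLib.bJ_ι I J
  refine ⟨?_, ?_⟩
  · rintro c ⟨b₁, h₁⟩ ⟨b₂, h₂⟩
    obtain ⟨L, hL, rfl⟩ := PicGrp.exists_eq_cls c
    obtain ⟨B₁, hB₁, rfl⟩ := PicGrp.exists_eq_cls b₁
    obtain ⟨B₂, hB₂, rfl⟩ := PicGrp.exists_eq_cls b₂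
    refine ⟨PicGrp.cls B₁ hB₁, Subtype.ext ?_⟩
    have e₁ : CubeConsLib.pull I.subschemeι (CubeConsLib.cl L) = CubeConsLib.pull (I.subschemeι ≫ π) (CubeConsLib.cl B₁) :=
      congrArg Subtype.val h₁
    have e₂ : CubeConsLib.pull J.subschemeι (CubeConsLib.cl L) = CubeConsLib.pull (J.subschemeι ≫ π) (CubeConsLib.cl B₂) :=
      congrArg Subtype.val h₂
    show CubeConsLib.cl L = CubeConsLib.pull π (CubeConsLib.cl B₁)
    let D := MiscFlat6.dual B₁
    have hd : CubeConsLib.cl B₁ * CubeConsLib.cl D = 1 :=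
      CubeConsLib.cl_eq_one_iff.2 (MiscFlat6.nonempty_dualIso hB₁)
    let L' := CohB1.tensorMod L ((Scheme.Modules.pullback π).obj D)
    have hL' : PicF.IsInvertible L' :=
      HilbPolyLib.isInvertible_tensor hL (AmpleDevLib.isInvertible_pb π (MiscFlat6.dual_isInvertible hB₁))
    have hcl : CubeConsLib.cl L' = CubeConsLib.cl L * CubeConsLib.pull π (CubeConsLib.cl D) := rfl
    have hY : CubeConsLib.pull I.subschemeι (CubeConsLib.cl L') = 1 := by
      rw [hcl, map_mul, e₁, CubeConsLib.pull_comp, ← map_mul, hd, map_one]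
    have hZ' : CubeConsLib.pull J.subschemeι (CubeConsLib.cl L') =
        CubeConsLib.pull (J.subschemeι ≫ π) (CubeConsLib.cl B₂ * CubeConsLib.cl D) := by
      rw [hcl, map_mul, e₂, CubeConsLib.pull_comp, ← map_mul]
    have hk : CubeConsLib.pull (k ≫ π) (CubeConsLib.cl B₂ * CubeConsLib.cl D) = 1 := by
      rw [← hb, Category.assoc, ← CubeConsLib.pull_comp, ← hZ', CubeConsLib.pull_comp, hb, ← ha,
        ← CubeConsLib.pull_comp, hY, map_one]
    have hbd : CubeConsLib.cl B₂ * CubeConsLib.cl D = 1 := by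
      have h := congrArg (CubeConsLib.pull s) hk
      rw [CubeConsLib.pull_comp, map_one, hs, DescAppLib.pull_id] at h
      exact h
    rw [hbd, map_one] at hZ'
    obtain ⟨γY, hγY⟩ := CubeLib.exists_genOn_top (CubeConsLib.cl_eq_one_iff.1 hY)
    obtain ⟨γZ, hγZ⟩ := CubeLib.exists_genOn_top (CubeConsLib.cl_eq_one_iff.1 hZ')
    have gA := DescAppLib.genOn_pullLE L' (PinchPicLib.aI I J) ha (DescAppLib.top_le _) hγY
    have gB := DescAppLib.genOn_pullLE L' (PinchPicLib.bJ I J) hb (DescAppLib.top_le _) hγZ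
    obtain ⟨w, hw⟩ := (gB _ le_rfl).2 (QCohDescLib.pullLE L' (PinchPicLib.aI I J) ha (DescAppLib.top_le _) γY)
    simp only [AmpleLib.res_refl] at hw
    obtain ⟨v, rfl⟩ := hW.2 w
    have hvu : IsUnit v := by
      obtain ⟨x, hx⟩ := isUnit_iff_exists_inv.1 (CubeLib.isUnit_of_genOn gB (hw.symm ▸ gA))
      obtain ⟨v', rfl⟩ := hW.2 x
      exact isUnit_iff_exists_inv.2 ⟨v', hW.1 (by rw [map_mul, hx, map_one])⟩
    have htriv := PinchPicLib.trivial_union hIJ hL' hγY
      (CubeLib.genOn_unit_smul hγZ (hvu.map (J.subschemeι ≫ π).appTop.hom)) (by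
        refine hw.symm.trans ?_
        refine Eq.trans ?_ (QCohDescLib.pullLE_smul L' (PinchPicLib.bJ I J) hb (DescAppLib.top_le _) _ γZ).symm
        refine congrArg (· • _) ?_
        exact ((DescAppLib.appLE_top (PinchPicLib.bJ I J) _ _).trans
          (DescAppLib.appTop_comp (PinchPicLib.bJ I J) (J.subschemeι ≫ π) (by rw [← Category.assoc, hb]) v)).symm)
    have h1 : CubeConsLib.cl L * CubeConsLib.pull π (CubeConsLib.cl D) = 1 :=
      hcl.symm.trans (CubeConsLib.cl_eq_one_iff.2 htriv)
    calc CubeConsLib.cl L = CubeConsLib.cl L * CubeConsLib.pull π (CubeConsLib.cl B₁ * CubeConsLib.cl D) := by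
          rw [hd, map_one, mul_one]
      _ = CubeConsLib.pull π (CubeConsLib.cl B₁) * (CubeConsLib.cl L * CubeConsLib.pull π (CubeConsLib.cl D)) := by
          rw [map_mul]; ac_rfl
      _ = CubeConsLib.pull π (CubeConsLib.cl B₁) := by rw [h1, mul_one]
  · rintro y z ⟨b, h⟩
    obtain ⟨M, hM, rfl⟩ := PicGrp.exists_eq_cls y
    obtain ⟨N, hN, rfl⟩ := PicGrp.exists_eq_cls z
    obtain ⟨Bm, hBm, rfl⟩ := PicGrp.exists_eq_cls b
    have e : CubeConsLib.pull (PinchPicLib.aI I J) (CubeConsLib.cl M) =
        CubeConsLib.pull (PinchPicLib.bJ I J) (CubeConsLib.cl N) * CubeConsLib.pull (k ≫ π) (CubeConsLib.cl Bm) :=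
      (congrArg Subtype.val h).trans (PicGrp.mul_val _ _)
    let N' := CohB1.tensorMod N ((Scheme.Modules.pullback (J.subschemeι ≫ π)).obj Bm)
    have hN' : PicF.IsInvertible N' :=
      HilbPolyLib.isInvertible_tensor hN (AmpleDevLib.isInvertible_pb (J.subschemeι ≫ π) hBm)
    have hcl : CubeConsLib.cl N' = CubeConsLib.cl N * CubeConsLib.pull (J.subschemeι ≫ π) (CubeConsLib.cl Bm) := rfl
    have hφ : CubeConsLib.pull (PinchPicLib.aI I J) (CubeConsLib.cl M) =
        CubeConsLib.pull (PinchPicLib.bJ I J) (CubeConsLib.cl N') := by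
      rw [hcl, map_mul, CubeConsLib.pull_comp, ← Category.assoc, hb]
      exact e
    obtain ⟨φ⟩ := CubeConsLib.cl_eq_iff.1 hφ
    obtain ⟨L, hL, hLY, hLZ⟩ := PinchPicLib.exists_glue hIJ hM hN' φ
    refine ⟨PicGrp.cls L hL, 1, PicGrp.cls Bm hBm, ?_, ?_⟩
    · rw [map_one, mul_one]
      exact Subtype.ext (CubeConsLib.cl_eq_iff.2 hLY)
    · refine Subtype.ext ?_
      rw [PicGrp.mul_val]
      exact CubeConsLib.cl_eq_iff.2 hLZ

end Groth.Agent.S15404
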