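import Groth.Statements.S2223
import Groth.Agent.VertChiLib.RedLift
import Groth.Agent.VertChiLib.ModelList
-- import your own Groth.Agent.* helpers here

set_option autoImplicit false
universe u
open CategoryTheory AlgebraicGeometry
open Models

set_option backward.isDefEq.respectTransparency false

namespace Groth.Agent.S2223

/-- Weakened form (special fibre instead of its reduction, which follows from the source): let R be a
discrete valuation ring with fraction field K and residue field k, C a smooth proper curve over K
with H^0(C, O_C) = K, and X a regular proper model of C. Let h be a positive integer prime to the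
characteristic of k and L an invertible O_X-module whose h-th tensor power is trivial. If the
pullback of L to the special fibre is trivial then L is trivial; i.e. Pic(X)[h] -> Pic(X_k)[h] is
injective. -/
theorem result (R : Type u) [CommRing R] [IsDomain R]
    [IsDiscreteValuationRing R] (C X : Scheme.{u})
    (f : C ⟶ Spec (CommRingCat.of (FractionRing R))) (p : X ⟶ Spec (CommRingCat.of R))
    (hC : Curve.IsSmoothProperCurve (FractionRing R) C f) (hH0 : IsIso f.appTop)
    (hX : Models.IsRegularProperModel R X p C f) (h : ℕ) (hh : 0 < h)
    (hchar : ∀ q : ℕ, q.Prime → CharP (IsLocalRing.ResidueField R) q → ¬ q ∣ h)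
    (L : X.Modules) (hL : PicF.IsInvertible L)
    (htors : Nonempty (CohB1.tensorPow L h ≅ Coh.structureModule X))
    (htriv : Nonempty ((Scheme.Modules.pullback
        (Limits.pullback.fst p (Spec.map (CommRingCat.ofHom
          (algebraMap R (IsLocalRing.ResidueField R)))))).obj L ≅
        Coh.structureModule (Models.specialFibre R X p))) :
    Nonempty (L ≅ Coh.structureModule X) := by
  obtain ⟨n, Γ, hΓ⟩ := VertChiLib.exists_list_of_model hC hX
  obtain ⟨hMod, hp, hreg⟩ := hX
  haveI := hp
  haveI : IsIntegral (Over.mk p).left := VertIntLib.isIntegral_of_model hC hMod hreg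
  haveI : Flat (Over.mk p).hom := hMod.1
  haveI : IsProper (Over.mk p).hom := hp
  refine VertChiLib.trivial_of_redFibre (X := Over.mk p) hreg hΓ hh hchar hL htors ?_
  haveI : IsClosedImmersion (Spec.map (CommRingCat.ofHom (IsLocalRing.residue R))) :=
    IsClosedImmersion.spec_of_surjective _ IsLocalRing.residue_surjective
  let i := Limits.pullback.fst p (Spec.map (CommRingCat.ofHom (IsLocalRing.residue R)))
  have hle : i.ker ≤ (Models.redFibreIdeal R (Over.mk p)).subschemeι.ker := by
    rw [Scheme.IdealSheafData.ker_subschemeι, ← VertChiLib.comap_ker, VertChiLib.ker_specMap,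
      IsLocalRing.ker_residue, Models.redFibreIdeal, ← Scheme.IdealSheafData.le_support_iff_le_vanishingIdeal]
    exact fun x hx => (VertIntLib.mem_support_fibre_iff (X := Over.mk p) x).2 hx
  exact VertChiLib.nonempty_pb_factor _
    (IsClosedImmersion.lift_fac i (Models.redFibreIdeal R (Over.mk p)).subschemeι hle) htriv

end Groth.Agent.S2223
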