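import Groth.Statements.S15407
import Groth.Agent.HorizLib.Thick
import Groth.Agent.HorizLib.FibDim
import Groth.Agent.VertChiLib.CurveH0
import Groth.Agent.S2223
-- import your own Groth.Agent.* helpers here

set_option autoImplicit false
universe u
open CategoryTheory CategoryTheory.Limits AlgebraicGeometry
open Models

set_option backward.isDefEq.respectTransparency false

namespace Groth.Agent.S15407

/-- Let R be a complete discrete valuation ring with algebraically closed residue field k and fraction
field K, C a smooth proper K-scheme of Krull dimension one (a curve) with H⁰(C, O_C) = K and dim_K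
H¹(C, O_C) ≥ 2, X → Spec R a regular proper model of C, X_k = X ×_R Spec k its closed fibre with
inclusion i : X_k → X, and q ≥ 1 an integer which is nonzero in k. Assume the Picard group laws on X
and X_k and that pullback of invertible classes along i is multiplicative. Then (a) the restriction
Pic(X) → Pic(X_k) is surjective, and (b) its kernel N is uniquely q-divisible: for every c in N
there is exactly one d in N with d^q = c. (The published statement introduces N as the kernel of
Pic⁰(X) → Pic⁰(X_k), Pic⁰ denoting the classes of degree 0 on every component of the closed fibre,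
and asserts that this map is surjective; a class trivial on X_k has degree 0 on every component, so
N is the kernel in (b), and (a) is the equivalent surjectivity of the unrestricted map.) -/
theorem result
    (R : Type u) [CommRing R] [IsDomain R] [IsDiscreteValuationRing R]
    [IsAdicComplete (IsLocalRing.maximalIdeal R) R] (hk : IsAlgClosed (IsLocalRing.ResidueField R))
    (C : Scheme.{u}) (fC : C ⟶ Spec (CommRingCat.of (FractionRing R))) [IsProper fC] [Smooth fC]
    (hC0 : Models.hRank (FractionRing R) C fC (Coh.structureModule C) 0 = 1)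
    (hg2 : 2 ≤ Models.curveGenus (FractionRing R) C fC) (hC1 : topologicalKrullDim C = 1)
    (X : Scheme.{u}) (p : X ⟶ Spec (CommRingCat.of R)) (hX : Models.IsRegularProperModel R X p C fC)
    (q : ℕ) (hq : 1 ≤ q) (hqk : (q : IsLocalRing.ResidueField R) ≠ 0)
    [PicGrp.Law X]
    [PicGrp.Law (pullback p (Spec.map (CommRingCat.ofHom (algebraMap R (IsLocalRing.ResidueField R)))))]
    (hi : PicGrp.PullMul (pullback.fst p (Spec.map (CommRingCat.ofHom (algebraMap R (IsLocalRing.ResidueField R)))))) :
    Function.Surjective (PicGrp.pullHom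
        (pullback.fst p (Spec.map (CommRingCat.ofHom (algebraMap R (IsLocalRing.ResidueField R))))) hi) ∧
      ∀ c ∈ (PicGrp.pullHom
          (pullback.fst p (Spec.map (CommRingCat.ofHom (algebraMap R (IsLocalRing.ResidueField R))))) hi).ker,
        ∃! d : PicLoc.PicSet X,
          d ∈ (PicGrp.pullHom
            (pullback.fst p (Spec.map (CommRingCat.ofHom (algebraMap R (IsLocalRing.ResidueField R))))) hi).ker ∧
          d ^ q = c := by
  haveI : HenselianLocalRing R :=
    { is_henselian := fun f hf a₀ h₁ h₂ =>
        (inferInstance : HenselianRing R (IsLocalRing.maximalIdeal R)).is_henselian f hf a₀ h₁ (h₂.map _) }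
  have hH0 := VertChiLib.isIso_appTop_of_h0 fC hC0
  haveI := VertChiLib.isIntegral_of_appTop fC hH0
  have hC : Curve.IsSmoothProperCurve (FractionRing R) C fC := ⟨‹_›, ‹_›, ‹_›, hC1⟩
  obtain ⟨n, Γ, hΓ⟩ := VertChiLib.exists_list_of_model hC hX
  have hX' := hX
  obtain ⟨hMod, hp, hreg⟩ := hX
  obtain ⟨g, hg⟩ := hMod.2.2.2
  haveI := hp
  haveI : IsProper (Over.mk p).hom := hp
  letI : PicGrp.Law (Over.mk p).left := ‹PicGrp.Law X›
  letI : PicGrp.Law (pullback (Over.mk p).hom
      (Spec.map (CommRingCat.ofHom (algebraMap R (IsLocalRing.ResidueField R))))) :=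
    ‹PicGrp.Law (pullback p (Spec.map (CommRingCat.ofHom (algebraMap R (IsLocalRing.ResidueField R)))))›
  haveI : IsClosedImmersion (Spec.map (CommRingCat.ofHom (algebraMap R (IsLocalRing.ResidueField R)))) :=
    IsClosedImmersion.spec_of_surjective _ IsLocalRing.residue_surjective
  have hrel := HorizLib.fibre_dim_le (X := Over.mk p) hC1.le hg hΓ
  have hqR : IsUnit (q : R) := (IsLocalRing.notMem_maximalIdeal (R := R)).1 fun hm =>
    hqk (by rw [← map_natCast (IsLocalRing.residue R)]; exact (IsLocalRing.residue_eq_zero_iff _).2 hm)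
  refine ⟨fun c => ?_, fun c hc => ?_⟩
  · obtain ⟨d, hd, hdc⟩ := Groth.Agent.S3501.result R X p hrel _
      (pullback.fst p (Spec.map (CommRingCat.ofHom (algebraMap R (IsLocalRing.ResidueField R))))) (by
        show Set.range (pullback.fst p _) = _
        rw [Scheme.Pullback.range_fst]
        congr 1
        haveI : Subsingleton ↥(Spec (CommRingCat.of (IsLocalRing.ResidueField R))) :=
          inferInstanceAs (Subsingleton (PrimeSpectrum (IsLocalRing.ResidueField R)))
        ext q
        exact ⟨fun ⟨a, ha⟩ => by
            rw [← ha, Subsingleton.elim a (IsLocalRing.closedPoint (IsLocalRing.ResidueField R))]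
            exact IsLocalRing.comap_closedPoint (IsLocalRing.residue R),
          fun hq => ⟨IsLocalRing.closedPoint (IsLocalRing.ResidueField R),
            (IsLocalRing.comap_closedPoint (IsLocalRing.residue R)).trans hq.symm⟩⟩) c.1 c.2
    exact ⟨⟨d, hd⟩, Subtype.ext hdc⟩
  · obtain ⟨d, hd1, hd2⟩ : ∃ d : PicLoc.PicSet X, PicGrp.pullHom _ hi d = 1 ∧ d ^ q = c :=
      HorizLib.exists_root (X := Over.mk p) hrel q hqR c hc
    refine ⟨d, ⟨hd1, hd2⟩, fun d' hd' => ?_⟩
    obtain ⟨M, hM, hMe⟩ := PicGrp.exists_eq_cls (d' / d)
    have h1 : PicGrp.cls M hM = 1 := by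
      refine (PicGrp.cls_eq_one_iff hM).2 (Groth.Agent.S2223.result R C X fC p hC hH0 hX' q hq
        (fun r hr hchar hdvd => hqk ((CharP.cast_eq_zero_iff _ r q).2 hdvd)) M hM ?_ ?_)
      · have hpow : PicGrp.cls M hM ^ q = 1 := by rw [← hMe, div_pow, hd'.2, hd2, div_self']
        exact (PicGrp.cl_eq_cl_iff _ _).1 (((PicGrp.cls_pow_val hM q).symm.trans (congrArg Subtype.val hpow)).trans
          PicGrp.one_val)
      · have hker : PicGrp.pullHom _ hi (PicGrp.cls M hM) = 1 := by
          rw [← hMe, map_div, MonoidHom.mem_ker.1 hd'.1, show PicGrp.pullHom _ hi d = 1 from hd1, div_self']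
        exact (PicGrp.cl_eq_cl_iff _ _).1 ((congrArg Subtype.val hker).trans PicGrp.one_val)
    exact div_eq_one.1 (hMe.trans h1)

end Groth.Agent.S15407
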