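import Groth.Statements.S15409
import Groth.Agent.SBTwLib.Periodic
-- import your own Groth.Agent.* helpers here

set_option autoImplicit false
universe u
open CategoryTheory CategoryTheory.Limits AlgebraicGeometry
open ASBun

namespace Groth.Agent.S15409

open W4c1astiltbs12 in
/-- Let X be proper over a field k with k ≅ H⁰(X, O_X), K an algebraic closure of k with X_K connected
and projection π : X_K → X; assume the Picard group laws on X and X_K with pullback along π
multiplicative, that Pic(X_K) is infinite cyclic generated by the class of an invertible module L,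
and that J is an invertible O_X-module whose pullback to X_K has class the r-th power of the class
of L, r ≥ 1. Let j and a be integers and N, N' invertible O_{X_K}-modules with classes (cls L)^j and
(cls L)^{j'} where either j' = −j or j' = j + a·r. If W, W' are indecomposable finite locally free
O_X-modules (nonzero, and in any direct-sum decomposition one summand is zero) with π^*W ≅ N^{⊕d}
and π^*W' ≅ N'^{⊕d'}, then d = d': the rank of the indecomposable absolutely isotypical sheaf of
type L^{⊗j} depends only on ±j modulo r. (The published statement phrases this for the sheaves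
W_{L^{⊗j}}, whose existence for every j it assumes through an indecomposable absolutely isotypical
sheaf of type L; here the two sheaves are given, and r need not be minimal.) -/
theorem result (k : Type u) [Field k] {X : Scheme.{u}}
    (p : X ⟶ Spec (CommRingCat.of k)) [IsProper p] (hO : IsIso p.appTop) (K : Type u) [Field K] [Algebra k K] [IsAlgClosure k K]
    [ConnectedSpace ↥(W4bk4gw11416.baseChange p K)]
    [PicGrp.Law X] [PicGrp.Law (W4bk4gw11416.baseChange p K)] (hπ : PicGrp.PullMul (proj p K))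
    (L : (W4bk4gw11416.baseChange p K).Modules) (hL : PicF.IsInvertible L)
    (e : PicLoc.PicSet (W4bk4gw11416.baseChange p K) ≃* Multiplicative ℤ)
    (he : e (PicGrp.cls L hL) = Multiplicative.ofAdd 1)
    (r : ℕ) (hr : 1 ≤ r) (J : X.Modules) (hJ : PicF.IsInvertible J)
    (hJL : PicGrp.cls (bcMod p K J) (PicLoc.isInvertible_pullback (proj p K) hJ) = PicGrp.cls L hL ^ r)
    (j a j' : ℤ) (hj' : j' = -j ∨ j' = j + a * r)
    (N N' : (W4bk4gw11416.baseChange p K).Modules) (hN : PicF.IsInvertible N) (hN' : PicF.IsInvertible N')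
    (hNj : PicGrp.cls N hN = PicGrp.cls L hL ^ j) (hN'j : PicGrp.cls N' hN' = PicGrp.cls L hL ^ j')
    (W W' : X.Modules) (hW : FlatMod.IsFinLocFree W) (hW' : FlatMod.IsFinLocFree W')
    (hWi : (¬ IsZero W ∧ ∀ A B : X.Modules, Nonempty (W ≅ A ⊞ B) → IsZero A ∨ IsZero B)) (hW'i : (¬ IsZero W' ∧ ∀ A B : X.Modules, Nonempty (W' ≅ A ⊞ B) → IsZero A ∨ IsZero B))
    (d d' : ℕ) (eW : Nonempty (bcMod p K W ≅ pow N d)) (eW' : Nonempty (bcMod p K W' ≅ pow N' d')) :
    d = d' := by
  letI : X.Over (Spec (CommRingCat.of k)) := ⟨p⟩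
  letI : (W4bk4gw11416.baseChange p K).Over (Spec (CommRingCat.of K)) := ⟨(KSMod.bcSq p K).iY⟩
  haveI : IsProper (X ↘ Spec (CommRingCat.of k)) := ‹IsProper p›
  haveI := CurvLib.isNoetherian k (X := X)
  have hd : ∀ {V : X.Modules} {M : (W4bk4gw11416.baseChange p K).Modules} {t : ℕ}, FlatMod.IsFinLocFree V →
      ¬ IsZero V → Nonempty (bcMod p K V ≅ pow M t) → 0 < t := fun {V M t} hV hV0 ⟨eV⟩ =>
    Nat.pos_of_ne_zero fun h0 => by
      subst h0
      haveI := (Groth.Agent.PerfLib.isCoh_of_isFinLocFree hV).1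
      exact hV0 (KSMod.isZero_of_isZero_pb (KSMod.bcSq p K) ((KSMod.isZero_pow_zero M).of_iso eV))
  have hd0 := hd hW hWi.1 eW
  have hd0' := hd hW' hW'i.1 eW'
  have hc := Groth.Agent.PerfLib.isCoh_of_isFinLocFree hW
  have hc' := Groth.Agent.PerfLib.isCoh_of_isFinLocFree hW'
  rcases hj' with rfl | rfl
  · obtain ⟨u⟩ := (PicGrp.cls_mul_cls_eq_one_iff hN hN').1 (by rw [hNj, hN'j, ← zpow_add, add_neg_cancel, zpow_zero])
    have h := SBTw.cls_mul_eq_one p K rfl rfl hO hc hc' hN hN' u hd0 hd0' eW.some eW'.some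
    rw [← SBTw.ind_cls_indec p K rfl rfl hO hc hWi hN hd0 eW.some,
      ← SBTw.ind_cls_indec p K rfl rfl hO hc' hW'i hN' hd0' eW'.some, eq_inv_of_mul_eq_one_left h, SBTw.ind_inv]
  · have hJ1 : PicGrp.cls (KFlatLib.pb (proj p K) J) (AmpleDevLib.isInvertible_pb (proj p K) hJ) = PicGrp.cls L hL ^ r := hJL
    obtain ⟨M, hM, hMc⟩ := SBTw.exists_pow_rep (proj p K) hJ a
    obtain ⟨M', hM', hM'c⟩ := SBTw.exists_pow_rep (proj p K) hJ (-a)
    obtain ⟨u⟩ := SBTw.nonempty_tensor_of_cls hN (AmpleDevLib.isInvertible_pb (proj p K) hM) hN'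
      (by rw [hMc, hNj, hN'j, hJ1, ← zpow_natCast (PicGrp.cls L hL) r, ← zpow_mul, ← zpow_add, mul_comm (r : ℤ) a])
    obtain ⟨u'⟩ := SBTw.nonempty_tensor_of_cls hN' (AmpleDevLib.isInvertible_pb (proj p K) hM') hN
      (by rw [hM'c, hNj, hN'j, hJ1, ← zpow_natCast (PicGrp.cls L hL) r, ← zpow_mul, ← zpow_add]; congr 1; ring)
    exact Nat.dvd_antisymm (SBTw.dvd_of_twist p K rfl rfl hO hW' hW hWi hN hM' u' hd0' eW'.some eW.some)
      (SBTw.dvd_of_twist p K rfl rfl hO hW hW' hW'i hN' hM u hd0 eW.some eW'.some)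

end Groth.Agent.S15409
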