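import Groth.Statements.S15410
import Groth.Agent.HorizLib.RootFibre
import Groth.Agent.HorizLib.Seq
import Groth.Agent.S15407
-- import your own Groth.Agent.* helpers here

set_option autoImplicit false
universe u
open CategoryTheory CategoryTheory.Limits AlgebraicGeometry
open Models

set_option backward.isDefEq.respectTransparency false
set_option maxHeartbeats 1000000

namespace Groth.Agent.S15410

/-- Degrees of tensor powers. -/
theorem inter_pow {R : Type u} [CommRing R] [IsDomain R] [IsDiscreteValuationRing R]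
    {X : Over (Spec (CommRingCat.of R))} [IsIntegral X.left] [Flat X.hom] [IsProper X.hom] {L : X.left.Modules} (hL : PicF.IsInvertible L)
    (Γ₀ : ArSurf.VertComp R X) :
    ∀ m : ℕ, ArSurf.inter R X (CohB1.tensorPow L m) Γ₀ = m * ArSurf.inter R X L Γ₀
  | 0 => by
    rw [Nat.cast_zero, zero_mul]
    exact VertIntLib.inter_structure Γ₀
  | m + 1 => by
    rw [CohB1.tensorPow, VertIntLib.inter_tensor (AmpleThLib.tensorPow_isInvertible hL m) hL, inter_pow hL Γ₀ m]
    push_cast
    ring

/-- Let R be a complete discrete valuation ring with algebraically closed residue field k and fraction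
field K, C a smooth proper curve over K with H⁰(C, O_C) = K and dim_K H¹(C, O_C) ≥ 2, X → Spec R a
regular proper model of C with generic fibre g : C → X and closed fibre i : X_k = X ×_R Spec k → X,
Γ₁, …, Γ_n the irreducible components of the closed fibre with multiplicities of greatest common
divisor 1, L_i an invertible O_X-module inverse to the ideal sheaf of Γ_i, and q ≥ 1 an integer
which is nonzero in k. Assume the Picard group laws on X, C and X_k with pullback along g and along
i multiplicative, and let G be ℤⁿ modulo the subgroup spanned by the vectors ((L_i · Γ_j))_j. Then: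
(a) every homomorphism ψ from Pic(C) (written additively) to G with ψ(g^*L) equal to the class of
((L · Γ_j))_j for all invertible L on X maps the classes c with c^q = 1 onto the elements γ of G
with qγ = 0, and a class c with c^q = 1 and ψ(c) = 0 is g^*c' for some class c' on X with c'^q = 1;
(b) restriction along i is a bijection from the classes c' on X with c'^q = 1 onto the classes d on
X_k with d^q = 1. That is, 0 → Pic⁰(X_k)[q] → Pic(C)[q] → G[q] → 0 is exact, the q-torsion of Pic(X)
being identified with that of Pic⁰(X_k) by (b) and with that of Pic⁰(X) (q-torsion classes have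
degree 0 on every component). -/
theorem result
    (R : Type u) [CommRing R] [IsDomain R] [IsDiscreteValuationRing R]
    [IsAdicComplete (IsLocalRing.maximalIdeal R) R] (hk : IsAlgClosed (IsLocalRing.ResidueField R))
    (C : Scheme.{u}) (fC : C ⟶ Spec (CommRingCat.of (FractionRing R))) [IsProper fC] [Smooth fC]
    (hC0 : Models.hRank (FractionRing R) C fC (Coh.structureModule C) 0 = 1)
    (hg2 : 2 ≤ Models.curveGenus (FractionRing R) C fC)
    (X : Scheme.{u}) (p : X ⟶ Spec (CommRingCat.of R)) (hX : Models.IsRegularProperModel R X p C fC)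
    (g : C ⟶ X) (hg : IsPullback g fC p (Spec.map (CommRingCat.ofHom (algebraMap R (FractionRing R)))))
    {n : ℕ} (Γ : Fin n → ArSurf.VertComp R (Over.mk p)) (hΓ : Models.IsComponentList R (Over.mk p) Γ)
    (hgcd : Models.multGcd R (Over.mk p) Γ = 1)
    (LD : Fin n → X.Modules) (hLD : ∀ i, ClSub.IsInverseOf (LD i) (ClSub.idealMod (Γ i).ι.ker))
    (q : ℕ) (hq : 1 ≤ q) (hqk : (q : IsLocalRing.ResidueField R) ≠ 0)
    [PicGrp.Law X] [PicGrp.Law C]
    [PicGrp.Law (pullback p (Spec.map (CommRingCat.ofHom (algebraMap R (IsLocalRing.ResidueField R)))))]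
    (hgm : PicGrp.PullMul g)
    (hi : PicGrp.PullMul (pullback.fst p (Spec.map (CommRingCat.ofHom (algebraMap R (IsLocalRing.ResidueField R)))))) :
    (∀ ψ : Additive (PicLoc.PicSet C) →+
          ((Fin n → ℤ) ⧸ LinearMap.range (Matrix.mulVecLin
            (Matrix.of fun j i => ArSurf.inter R (Over.mk p) (LD i) (Γ j)))),
        (∀ (L : X.Modules) (hL : PicF.IsInvertible L),
            ψ (Additive.ofMul (PicGrp.pullHom g hgm (PicGrp.cls L hL))) =
              Submodule.Quotient.mk (fun j => ArSurf.inter R (Over.mk p) L (Γ j))) →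
          (∀ γ : (Fin n → ℤ) ⧸ LinearMap.range (Matrix.mulVecLin
              (Matrix.of fun j i => ArSurf.inter R (Over.mk p) (LD i) (Γ j))),
            q • γ = 0 → ∃ c : PicLoc.PicSet C, c ^ q = 1 ∧ ψ (Additive.ofMul c) = γ) ∧
          (∀ c : PicLoc.PicSet C, c ^ q = 1 → ψ (Additive.ofMul c) = 0 →
            ∃ c' : PicLoc.PicSet X, c' ^ q = 1 ∧ PicGrp.pullHom g hgm c' = c)) ∧
      (∀ d : PicLoc.PicSet (pullback p (Spec.map (CommRingCat.ofHom (algebraMap R (IsLocalRing.ResidueField R))))),
        d ^ q = 1 → ∃! c' : PicLoc.PicSet X, c' ^ q = 1 ∧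
          PicGrp.pullHom (pullback.fst p (Spec.map (CommRingCat.ofHom (algebraMap R (IsLocalRing.ResidueField R))))) hi c' = d) := by
  haveI : HenselianLocalRing R :=
    { is_henselian := fun f hf a₀ h₁ h₂ =>
        (inferInstance : HenselianRing R (IsLocalRing.maximalIdeal R)).is_henselian f hf a₀ h₁ (h₂.map _) }
  have hH0 := VertChiLib.isIso_appTop_of_h0 fC hC0
  haveI := VertChiLib.isIntegral_of_appTop fC hH0
  have i₀ : Fin n := by
    rcases n with _ | n
    · exfalso
      have : Models.multGcd R (Over.mk p) Γ = 0 := by simp [Models.multGcd]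
      rw [this] at hgcd
      exact zero_ne_one hgcd
    · exact 0
  have hC := VertChiLib.isSmoothProperCurve_of_list hX hΓ i₀
  have hX' := hX
  obtain ⟨hMod, hp, hreg⟩ := hX
  haveI := hp
  haveI : IsIntegral (Over.mk p).left := VertIntLib.isIntegral_of_model hC hMod hreg
  haveI : Flat (Over.mk p).hom := hMod.1
  haveI : IsProper (Over.mk p).hom := hp
  letI : PicGrp.Law (Over.mk p).left := ‹PicGrp.Law X›
  obtain ⟨hsurj, hker⟩ := Groth.Agent.S15407.result R hk C fC hC0 hg2 hC.2.2.2 X p hX' q hq hqk hi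
  have hrel := HorizLib.fibre_dim_le (X := Over.mk p) hC.2.2.2.le hg hΓ
  have hone : ∀ (L : X.Modules) (hL : PicF.IsInvertible L), (∀ j, ArSurf.inter R (Over.mk p) L (Γ j) = 0) →
      PicGrp.pullHom g hgm (PicGrp.cls L hL) = 1 → PicGrp.cls L hL = 1 := fun L hL hdeg h1 =>
    HorizLib.eq_one_of_deg_zero (X := Over.mk p) hreg hΓ hLD hg hgm hH0
      (VertIntLib.isPreconnected_fibre hC hH0 hMod) hgcd hL hdeg h1
  obtain ⟨ψ₀, hψ₀, hψsurj, hψker⟩ := HorizLib.exists_ψ (X := Over.mk p) hreg hΓ hLD hg hgm hk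
  refine ⟨fun ψ hψ => ?_, fun d hd => ?_⟩
  · have hψeq : ∀ c : PicLoc.PicSet C, ψ (Additive.ofMul c) = ψ₀ (Additive.ofMul c) := fun c => by
      obtain ⟨c', rfl⟩ := HorizLib.surjective_pullHom (X := Over.mk p) hreg hg hgm c
      obtain ⟨L, hL, hLe⟩ := PicGrp.exists_eq_cls c'
      rw [hLe]
      exact (hψ L hL).trans (hψ₀ L hL).symm
    refine ⟨fun γ hγ => ?_, fun c hc hψc => ?_⟩
    · obtain ⟨a, ha⟩ := hψsurj γ
      obtain ⟨L, hL, hdeg, hLc⟩ := hψker (a.toMul ^ q) (by
        rw [ofMul_pow, map_nsmul, ofMul_toMul, ha, hγ])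
      obtain ⟨D, hD⟩ : ∃ D : PicLoc.PicSet X, D ^ q = PicGrp.cls L hL :=
        HorizLib.exists_root_deg (X := Over.mk p) hreg hΓ hk hrel q hqk hL hdeg
      obtain ⟨M, hM, rfl⟩ := PicGrp.exists_eq_cls D
      have hdegM : ∀ j, ArSurf.inter R (Over.mk p) M (Γ j) = 0 := fun j => by
        have h := congrArg Subtype.val hD
        rw [PicGrp.cls_pow_val] at h
        obtain ⟨e⟩ := (PicGrp.cl_eq_cl_iff _ _).1 h
        have h2 : (q : ℤ) * ArSurf.inter R (Over.mk p) M (Γ j) = 0 := by
          rw [← inter_pow (X := Over.mk p) hM (Γ j) q]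
          exact (VertIntLib.inter_congr (CubeConsLib.cl_eq_iff.2 ⟨e⟩) (Γ j)).trans (hdeg j)
        exact (mul_eq_zero.1 h2).resolve_left (Int.natCast_ne_zero.2 (Nat.one_le_iff_ne_zero.1 hq))
      refine ⟨a.toMul / PicGrp.pullHom g hgm (PicGrp.cls M hM), ?_, ?_⟩
      · rw [div_pow, ← map_pow (PicGrp.pullHom g hgm), hD]
        exact div_eq_one.2 hLc.symm
      · rw [ofMul_div, map_sub, hψ M hM, hψeq, ofMul_toMul, ha,
          show (fun j => ArSurf.inter R (Over.mk p) M (Γ j)) = (0 : Fin n → ℤ) from funext hdegM,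
          Submodule.Quotient.mk_zero, sub_zero]
    · obtain ⟨L, hL, hdeg, rfl⟩ := hψker c (by rw [← hψeq]; exact hψc)
      refine ⟨PicGrp.cls L hL, ?_, rfl⟩
      have hPinv := AmpleThLib.tensorPow_isInvertible hL q
      have hP : PicGrp.cls (CohB1.tensorPow L q) hPinv = PicGrp.cls L hL ^ q :=
        Subtype.ext (PicGrp.cls_pow_val hL q).symm
      refine hP.symm.trans (hone _ hPinv (fun j => ?_) ?_)
      · rw [inter_pow (X := Over.mk p) hL (Γ j) q, hdeg j, mul_zero]
      · exact ((congrArg _ hP).trans (map_pow _ _ _)).trans hc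
  · obtain ⟨e, rfl⟩ := hsurj d
    have he : e ^ q ∈ (PicGrp.pullHom _ hi).ker := by rw [MonoidHom.mem_ker, map_pow]; exact hd
    obtain ⟨f, ⟨hf, hfq⟩, -⟩ := hker _ he
    refine ⟨e / f, ⟨?_, ?_⟩, fun c'' hc'' => ?_⟩
    · rw [div_pow, hfq, div_self']
    · rw [map_div, MonoidHom.mem_ker.1 hf, div_one]
    · obtain ⟨u, -, hu⟩ := hker 1 (one_mem _)
      have h1 := hu 1 ⟨one_mem _, one_pow q⟩
      have h2 := hu (c'' / (e / f)) ⟨by
        rw [MonoidHom.mem_ker, map_div, hc''.2, map_div, MonoidHom.mem_ker.1 hf, div_one, div_self'],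
        by rw [div_pow, hc''.1, div_pow, hfq, div_self', div_self']⟩
      exact div_eq_one.1 (h2.trans h1.symm)

end Groth.Agent.S15410
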