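import Groth.Statements.S15411
import Mathlib.RingTheory.Bialgebra.Equiv
import Mathlib.RingTheory.Bialgebra.TensorProduct
import Mathlib.LinearAlgebra.TensorProduct.Basis
import Mathlib.RingTheory.Flat.FaithfullyFlat.Basic
import Mathlib.LinearAlgebra.Basis.VectorSpace

set_option autoImplicit false
universe u
open scoped TensorProduct
open Hopf

namespace Groth.Agent.S15411

section
variable {K : Type u} [Field K] {ιv ιe : Type u} {Kv : ιv → Type u} [∀ i, CommRing (Kv i)] [∀ i, Algebra K (Kv i)]
    {Ke : ιe → Type u} [∀ k, CommRing (Ke k)] [∀ k, Algebra K (Ke k)]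
    {l r : ιe → ιv} {ρl : ∀ k, Kv (l k) →ₐ[K] Ke k} {ρr : ∀ k, Kv (r k) →ₐ[K] Ke k}

/-- `M` is the equalizer of the system tensored with `M`. -/
theorem existsUnique_one_tmul [Finite ιv]
    (hlim : ∀ x : (∀ i, Kv i), (∀ k, ρl k (x (l k)) = ρr k (x (r k))) →
      ∃! a : K, ∀ i, algebraMap K (Kv i) a = x i)
    (M : Type u) [AddCommGroup M] [Module K M] (y : ∀ i, Kv i ⊗[K] M)
    (hy : ∀ k, TensorProduct.map (ρl k).toLinearMap LinearMap.id (y (l k)) =
      TensorProduct.map (ρr k).toLinearMap LinearMap.id (y (r k))) :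
    ∃! m : M, ∀ i, (1 : Kv i) ⊗ₜ[K] m = y i := by
  classical
  let b := Module.Free.chooseBasis K M
  have hnat : ∀ {S T : Type u} [CommRing S] [Algebra K S] [CommRing T] [Algebra K T] (ρ : S →ₐ[K] T)
      (z : S ⊗[K] M) j, (b.baseChange T).repr (TensorProduct.map ρ.toLinearMap LinearMap.id z) j =
        ρ ((b.baseChange S).repr z j) := fun {S T} _ _ _ _ ρ z j => by
    induction z using TensorProduct.induction_on with
    | zero => simp
    | add a c ha hc => simp [ha, hc]
    | tmul s m => simp [Module.Basis.baseChange_repr_tmul, map_smul]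
  have hone : ∀ (i : ιv) (m : M) j, (b.baseChange (Kv i)).repr (1 ⊗ₜ m) j = algebraMap K (Kv i) (b.repr m j) :=
    fun i m j => by rw [Module.Basis.baseChange_repr_tmul, Algebra.algebraMap_eq_smul_one]
  have hc : ∀ j, ∃! a : K, ∀ i, algebraMap K (Kv i) a = (b.baseChange (Kv i)).repr (y i) j := fun j =>
    hlim _ fun k => by rw [← hnat, ← hnat, hy k]
  choose a ha hau using hc
  cases nonempty_fintype ιv
  let T : Finset _ := Finset.univ.biUnion fun i => ((b.baseChange (Kv i)).repr (y i)).support
  have hT : ∀ j, a j ≠ 0 → j ∈ T := fun j hj => by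
    by_contra hn
    refine hj (hau j 0 fun i => ?_).symm
    rw [map_zero, eq_comm, ← Finsupp.notMem_support_iff]
    exact fun h => hn (Finset.mem_biUnion.2 ⟨i, Finset.mem_univ i, h⟩)
  refine ⟨b.repr.symm (Finsupp.onFinset T a hT), fun i => ?_, fun m hm => ?_⟩
  · refine (b.baseChange (Kv i)).ext_elem fun j => ?_
    rw [hone, LinearEquiv.apply_symm_apply]
    exact ha j i
  · refine b.ext_elem fun j => ?_
    rw [LinearEquiv.apply_symm_apply, Finsupp.onFinset_apply]
    refine hau j _ fun i => ?_
    rw [← hone, hm i]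

end

/-- Let K be a field and let finitely many commutative K-algebras be given in two layers, K_i for each
vertex i and K_k for each edge k, with K-algebra maps from K_{l k} and from K_{r k} into K_k for
every edge k, such that K is the equalizer of the system: every family (x_i) whose two images in K_k
agree for every k comes from exactly one element of K. Let A and B be commutative K-bialgebras
(coordinate rings of affine group or monoid schemes over K) and let u_i : K_i ⊗ B ≅ K_i ⊗ A be
isomorphisms of K_i-bialgebras such that, for every edge k, the base changes of u_{l k} and u_{r k}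
to K_k agree. Then there is exactly one isomorphism of K-bialgebras v : B ≅ A inducing every u_i,
that is with u_i (1 ⊗ b) = 1 ⊗ v b. (The published statement is for the system obtained from a
finite inverse factorization system of fields by base change to a finite separable extension K, and
for linear algebraic groups; this row keeps from that setting only what the argument uses: K is a
field and is the equalizer of the finite system, and the group schemes are affine.) -/
theorem result
    (K : Type u) [Field K] (ιv ιe : Type u) [Finite ιv] [Finite ιe]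
    (Kv : ιv → Type u) [∀ i, CommRing (Kv i)] [∀ i, Algebra K (Kv i)]
    (Ke : ιe → Type u) [∀ k, CommRing (Ke k)] [∀ k, Algebra K (Ke k)]
    (l r : ιe → ιv) (ρl : ∀ k, Kv (l k) →ₐ[K] Ke k) (ρr : ∀ k, Kv (r k) →ₐ[K] Ke k)
    (hlim : ∀ x : (∀ i, Kv i), (∀ k, ρl k (x (l k)) = ρr k (x (r k))) →
      ∃! a : K, ∀ i, algebraMap K (Kv i) a = x i)
    (A B : Type u) [CommRing A] [CommRing B] [Bialgebra K A] [Bialgebra K B]
    (u : ∀ i, (Kv i ⊗[K] B) ≃ₐc[Kv i] (Kv i ⊗[K] A))
    (hu : ∀ (k : ιe) (b : B),
      Algebra.TensorProduct.map (ρl k) (AlgHom.id K A) (u (l k) (1 ⊗ₜ[K] b)) =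
        Algebra.TensorProduct.map (ρr k) (AlgHom.id K A) (u (r k) (1 ⊗ₜ[K] b))) :
    ∃! v : B ≃ₐc[K] A, ∀ (i : ιv) (b : B), u i (1 ⊗ₜ[K] b) = 1 ⊗ₜ[K] v b := by
  classical
  have inj : ∀ (M : Type u) [AddCommGroup M] [Module K M] (m m' : M),
      (∀ i, (1 : Kv i) ⊗ₜ[K] m = (1 : Kv i) ⊗ₜ[K] m') → m = m' := fun M _ _ m m' h => by
    obtain ⟨m₀, -, hu₀⟩ := existsUnique_one_tmul hlim M (fun i => (1 : Kv i) ⊗ₜ[K] m) fun k => by simp
    exact (hu₀ m fun i => rfl).trans (hu₀ m' fun i => (h i).symm).symm
  have hv0 : ∀ b : B, ∃! a : A, ∀ i, (1 : Kv i) ⊗ₜ[K] a = u i (1 ⊗ₜ[K] b) := fun b =>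
    existsUnique_one_tmul hlim A _ fun k => hu k b
  choose v hv hvu using hv0
  let V : B →ₐ[K] A :=
    { toFun := v
      map_one' := inj A _ _ fun i => by rw [hv]; exact map_one (u i)
      map_mul' := fun x y => inj A _ _ fun i => by
        rw [hv, ← one_mul (1 : Kv i), ← Algebra.TensorProduct.tmul_mul_tmul,
          ← Algebra.TensorProduct.tmul_mul_tmul, map_mul, hv, hv]
      map_zero' := inj A _ _ fun i => by rw [hv, TensorProduct.tmul_zero, TensorProduct.tmul_zero, map_zero]
      map_add' := fun x y => inj A _ _ fun i => by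
        rw [hv, TensorProduct.tmul_add, TensorProduct.tmul_add, map_add, hv, hv]
      commutes' := fun c => inj A _ _ fun i => by
        rw [hv, Algebra.algebraMap_eq_smul_one (A := B), Algebra.algebraMap_eq_smul_one (A := A),
          TensorProduct.tmul_smul, TensorProduct.tmul_smul, ← algebraMap_smul (Kv i) c, map_smul, algebraMap_smul]
        exact congrArg (c • ·) (map_one (u i)) }
  have hV : ∀ i b, u i (1 ⊗ₜ[K] b) = 1 ⊗ₜ[K] V b := fun i b => (hv b i).symm
  have hdis : ∀ (C : Type u) [CommRing C] [Bialgebra K C] (i : ιv) (x : C),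
      Coalgebra.comul (R := Kv i) ((1 : Kv i) ⊗ₜ[K] x) =
        TensorProduct.AlgebraTensorModule.distribBaseChange K (Kv i) C C (1 ⊗ₜ Coalgebra.comul (R := K) x) := by
    intro C _ _ i x
    rw [TensorProduct.comul_tmul]
    induction Coalgebra.comul (R := K) x using TensorProduct.induction_on with
    | zero => simp
    | add a c ha hc => simp only [TensorProduct.tmul_add, map_add, ha, hc]
    | tmul p q => simp
  let W : B →ₐc[K] A := BialgHom.ofAlgHom V
    (AlgHom.ext fun b => by
      obtain ⟨c₀, -, hu₀⟩ := hlim (fun i => algebraMap K (Kv i) (Coalgebra.counit (R := K) b)) fun k => by simp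
      refine (hu₀ _ fun i => ?_).trans (hu₀ _ fun i => rfl).symm
      have h := CoalgHomClass.counit_comp_apply (u i) ((1 : Kv i) ⊗ₜ[K] b)
      rw [hV, TensorProduct.counit_tmul, TensorProduct.counit_tmul] at h
      simpa [Algebra.algebraMap_eq_smul_one] using h)
    (AlgHom.ext fun b => inj (A ⊗[K] A) _ _ fun i => by
      apply (TensorProduct.AlgebraTensorModule.distribBaseChange K (Kv i) A A).injective
      have h1 : ∀ z : B ⊗[K] B, TensorProduct.AlgebraTensorModule.distribBaseChange K (Kv i) A A
          (1 ⊗ₜ Algebra.TensorProduct.map V V z) = TensorProduct.map ((u i).toLinearEquiv : _ →ₗ[Kv i] _)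
            ((u i).toLinearEquiv : _ →ₗ[Kv i] _)
            (TensorProduct.AlgebraTensorModule.distribBaseChange K (Kv i) B B (1 ⊗ₜ z)) := fun z => by
        induction z using TensorProduct.induction_on with
        | zero => simp
        | add a c ha hc => simp only [map_add, TensorProduct.tmul_add, ha, hc]
        | tmul p q => simp [← hV] <;> rfl
      change TensorProduct.AlgebraTensorModule.distribBaseChange K (Kv i) A A
          (1 ⊗ₜ Algebra.TensorProduct.map V V (Coalgebra.comul (R := K) b)) =
        TensorProduct.AlgebraTensorModule.distribBaseChange K (Kv i) A A (1 ⊗ₜ Coalgebra.comul (R := K) (V b))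
      rw [h1, ← hdis, ← hdis, ← hV]
      exact CoalgHomClass.map_comp_comul_apply (u i) _)
  obtain ⟨i₀, hi₀⟩ : ∃ i, Nontrivial (Kv i) := by
    by_contra hcon
    push Not at hcon
    obtain ⟨c₀, -, hu₀⟩ := hlim 0 fun k => by simp
    exact zero_ne_one ((hu₀ 0 fun i => (hcon i).elim _ _).trans (hu₀ 1 fun i => (hcon i).elim _ _).symm)
  have hbij : Function.Bijective V := by
    haveI := hi₀
    have he : V.toLinearMap.lTensor (Kv i₀) = ((u i₀).toLinearEquiv.restrictScalars K).toLinearMap := by
      refine TensorProduct.ext' fun c b => ?_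
      change c ⊗ₜ[K] V b = u i₀ (c ⊗ₜ[K] b)
      rw [← mul_one c, ← smul_eq_mul, ← TensorProduct.smul_tmul' c (1 : Kv i₀) b, map_smul, hV,
        TensorProduct.smul_tmul']
    have hb : Function.Bijective (V.toLinearMap.lTensor (Kv i₀)) := by
      rw [he]
      exact ((u i₀).toLinearEquiv.restrictScalars K).bijective
    exact ⟨(Module.FaithfullyFlat.lTensor_injective_iff_injective K (Kv i₀) V.toLinearMap).1 hb.1,
      (Module.FaithfullyFlat.lTensor_surjective_iff_surjective K (Kv i₀) V.toLinearMap).1 hb.2⟩
  refine ⟨BialgEquiv.ofBijective W hbij, hV, fun w hw => ?_⟩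
  ext b
  exact hvu b (w b) fun i => (hw i b).symm

end Groth.Agent.S15411
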