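import Groth.Statements.S15412
import Mathlib.Tactic.Group
-- import your own Groth.Agent.* helpers here

set_option autoImplicit false
universe w v u
open CategoryTheory Opposite
open Bitors

namespace Groth.Agent.S15412

/-- On a site, let G and H be sheaves of groups and P a sheaf of sets with a left G-action which is
simply transitive on every set of sections P(U). The right H-actions on P that are compatible with
restriction, commute with the G-action and are simply transitive on every P(U) (for P a G-torsor:
the structures of (G, H)-bitorsor on P) correspond exactly to the families of group isomorphisms φ_p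
: H(U) ≃ G(U), one for each section p of P over each U, compatible with restriction and with φ_{g·p}
= g φ_p g⁻¹ (the equivariant maps from P to the sheaf of isomorphisms from H to G); the
correspondence is the rule p · h = φ_p(h) · p, and the statement is that every right structure
arises by this rule from exactly one family and every family from exactly one right structure. (The
published statement takes P a left G-torsor; only the simple transitivity of the G-action on
sections enters, so local existence of sections is not assumed.) -/
theorem result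
    {C : Type u} [Category.{v} C] {J : GrothendieckTopology C}
    (G H : Sheaf J GrpCat.{w}) (P : NonAbH1.GSheaf G) (hP : P.IsPseudoTorsor) :
    (∀ ρ : Bitors.RightStr P H, ∃! φ : Bitors.IsomFamily P H,
        ∀ (U : Cᵒᵖ) (p : P.P.obj.obj U) (h : H.obj.obj U), ρ.rsmul p h = P.smul (φ.φ p h) p) ∧
    (∀ φ : Bitors.IsomFamily P H, ∃! ρ : Bitors.RightStr P H,
        ∀ (U : Cᵒᵖ) (p : P.P.obj.obj U) (h : H.obj.obj U), ρ.rsmul p h = P.smul (φ.φ p h) p) := by
  refine ⟨fun ρ => ?_, fun φ => ?_⟩
  · choose g hg₀ hgu₀ using fun (U : Cᵒᵖ) (p : P.P.obj.obj U) (h : H.obj.obj U) => hP U p (ρ.rsmul p h)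
    have hg : ∀ (U : Cᵒᵖ) (p : P.P.obj.obj U) (h : H.obj.obj U), P.smul (g U p h) p = ρ.rsmul p h := hg₀
    have hgu : ∀ (U : Cᵒᵖ) (p : P.P.obj.obj U) (h : H.obj.obj U) (a : G.obj.obj U),
        P.smul a p = ρ.rsmul p h → a = g U p h := hgu₀
    have hmul : ∀ (U : Cᵒᵖ) (p : P.P.obj.obj U) (h h' : H.obj.obj U), g U p (h * h') = g U p h * g U p h' := by
      intro U p h h'
      refine (hgu U p _ _ ?_).symm
      rw [P.mul_smul, hg, ρ.rsmul_mul]
      conv_rhs => rw [← hg U p h]
      rw [ρ.smul_rsmul]
    have hbij : ∀ (U : Cᵒᵖ) (p : P.P.obj.obj U), Function.Bijective (g U p) := by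
      intro U p
      refine ⟨fun h h' e => ?_, fun a => ?_⟩
      · exact (ρ.existsUnique_rsmul p (P.smul (g U p h) p)).unique (hg U p h).symm (by rw [e, hg])
      · obtain ⟨h, hh, -⟩ := ρ.existsUnique_rsmul p (P.smul a p)
        exact ⟨h, (hgu U p h a hh.symm).symm⟩
    refine ⟨{ φ := fun {U} p => MulEquiv.ofBijective (MonoidHom.mk' (g U p) (hmul U p)) (hbij U p)
              map_φ := fun {U V} f p h => hgu V _ _ _ (by
                show P.smul (G.obj.map f (g U p h)) _ = _
                rw [← P.map_smul, hg, ρ.map_rsmul])
              φ_smul := fun {U} a p h => (hgu U _ _ _ (by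
                show P.smul (a * g U p h * a⁻¹) _ = _
                rw [ρ.smul_rsmul, ← hg U p h, ← P.mul_smul, ← P.mul_smul, inv_mul_cancel_right])).symm },
      fun U p h => (hg U p h).symm, fun φ' hφ' => ?_⟩
    obtain ⟨f, hf1, hf2⟩ := φ'
    congr 1
    funext U p
    exact MulEquiv.ext fun h => hgu U p h _ (hφ' U p h).symm
  · refine ⟨{ rsmul := fun {U} p h => P.smul (φ.φ p h) p
              rsmul_one := fun p => by rw [map_one, P.one_smul]
              rsmul_mul := fun p h h' => by rw [φ.φ_smul, map_mul, ← P.mul_smul, inv_mul_cancel_right]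
              map_rsmul := fun f p h => by rw [P.map_smul, φ.map_φ]
              smul_rsmul := fun a p h => by rw [φ.φ_smul, ← P.mul_smul, ← P.mul_smul, inv_mul_cancel_right]
              existsUnique_rsmul := fun {U} p q => by
                obtain ⟨a, ha, hau⟩ := hP U p q
                refine ⟨(φ.φ p).symm a, ?_, fun h hh => ?_⟩
                · show P.smul (φ.φ p ((φ.φ p).symm a)) p = q
                  rw [MulEquiv.apply_symm_apply, ha]
                · rw [← hau _ hh, MulEquiv.symm_apply_apply] },
      fun U p h => rfl, fun ρ' hρ' => ?_⟩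
    obtain ⟨r, h1, h2, h3, h4, h5⟩ := ρ'
    congr 1
    funext U p h
    exact hρ' U p h

end Groth.Agent.S15412
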