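import Groth.Statements.S15415
import Groth.Agent.GalDescLib.Units
import Groth.Agent.CSALib.RedNormGen

set_option autoImplicit false
universe u v w
open scoped TensorProduct
attribute [local instance] CSAGal.tensorAction GpH1.unitsAction
open GalCoh

namespace Groth.Agent.S15415

/-- For a central simple algebra over a field, the first Galois cohomology set of its norm-one group is
identified with the nonzero scalars modulo the reduced norms of units, by the boundary map of the
sequence norm-one units → units → nonzero scalars. Finite-level form: let k be a field, K a finite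
Galois extension of k whose Galois group acts on K ⊗_k A through the first factor, A a
finite-dimensional central simple k-algebra split by K, N the reduced norm of A over k and N_K the
reduced norm of K ⊗_k A over K. Then (i) every 1-cocycle a with values in the units of K ⊗_k A of
reduced norm one is of the form a σ = b⁻¹ · σ(b) for a unit b whose reduced norm is an element c of
kˣ; and (ii) for units b, b' of K ⊗_k A with reduced norms c, c' in kˣ, the cocycles σ ↦ b⁻¹σ(b) and
σ ↦ b'⁻¹σ(b') are cohomologous through a unit of reduced norm one if and only if c' = N(x) · c for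
some unit x of A. (Since K splits A the reduced norm N_K takes every value in kˣ, so (i) and (ii)
say that c ↦ class of b⁻¹σ(b), N_K b = c, is a well-defined bijection from kˣ/N(Aˣ) onto the
cohomology set of the norm-one units. The published statement is for the absolute Galois group of a
field of characteristic different from 2, an assumption playing no role here; this row is the
finite-level form over a splitting field.) -/
theorem result
    (k : Type u) [Field k] (K : Type v) [Field K] [Algebra k K] [FiniteDimensional k K] [IsGalois k K]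
    (A : Type w) [Ring A] [Algebra k A] [Algebra.IsCentral k A] [IsSimpleRing A] [FiniteDimensional k A]
    (hA : Curves.Splits k A K)
    (N : A →* k) (hN : CSAGal.IsRedNorm k A N)
    (NK : (K ⊗[k] A) →* K) (hNK : CSAGal.IsRedNorm K (K ⊗[k] A) NK) :
    (∀ a : GpH1.OneCocycle (K ≃ₐ[k] K) (K ⊗[k] A)ˣ, (∀ σ, NK (a σ : K ⊗[k] A) = 1) →
        ∃ (c : kˣ) (b : (K ⊗[k] A)ˣ), NK (b : K ⊗[k] A) = algebraMap k K (c : k) ∧
          ∀ σ : K ≃ₐ[k] K, a σ = b⁻¹ * σ • b) ∧
    (∀ (c c' : kˣ) (b b' : (K ⊗[k] A)ˣ),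
        NK (b : K ⊗[k] A) = algebraMap k K (c : k) → NK (b' : K ⊗[k] A) = algebraMap k K (c' : k) →
        ((∃ s : (K ⊗[k] A)ˣ, NK (s : K ⊗[k] A) = 1 ∧
            ∀ σ : K ≃ₐ[k] K, b'⁻¹ * σ • b' = s⁻¹ * (b⁻¹ * σ • b) * σ • s) ↔
          ∃ x : Aˣ, (c' : k) = N (x : A) * (c : k))) := by
  obtain ⟨n, hn, ⟨φ⟩⟩ := hA
  have : Nonempty (Fin n) := ⟨⟨0, Nat.pos_of_ne_zero hn⟩⟩
  have : IsSimpleRing (K ⊗[k] A) := IsSimpleRing.of_ringEquiv φ.toRingEquiv.symm inferInstance
  have : Algebra.IsCentral K (K ⊗[k] A) := ⟨fun z hz => by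
    have hφz : φ z ∈ Subalgebra.center K (Matrix (Fin n) (Fin n) K) := Subalgebra.mem_center_iff.2 fun M => by
      obtain ⟨w, rfl⟩ := φ.surjective M
      rw [← map_mul, Subalgebra.mem_center_iff.1 hz w, map_mul]
    obtain ⟨r, hr⟩ := Algebra.mem_bot.1 (Algebra.IsCentral.out hφz)
    exact Algebra.mem_bot.2 ⟨r, φ.injective ((φ.commutes r).trans hr)⟩⟩
  have hdB : Module.finrank K (K ⊗[k] A) = Fintype.card (Fin n) ^ 2 := by
    rw [φ.toLinearEquiv.finrank_eq, Module.finrank_matrix, Module.finrank_self, Fintype.card_fin, mul_one, sq]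
  have hdA : Module.finrank k A = Fintype.card (Fin n) ^ 2 := by
    rw [← hdB, Module.finrank_baseChange]
  have hNK' : ∀ y, NK y = (φ y).det := fun y => CSALib.redNorm_eq_det hNK φ.toAlgHom hdB y
  have hN' : ∀ x, algebraMap k K (N x) = NK ((1 : K) ⊗ₜ[k] x) := fun x => by
    rw [hNK']
    exact CSALib.redNorm_eq_det hN ((φ.toAlgHom.restrictScalars k).comp Algebra.TensorProduct.includeRight) hdA x
  have hequiv : ∀ (σ : K ≃ₐ[k] K) (y : K ⊗[k] A), NK (σ • y) = σ (NK y) := fun σ y => by
    let f : (K ⊗[k] A) →ₐ[K] Matrix (Fin n) (Fin n) K :=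
      { toFun := fun z => (φ (σ • z)).map σ.symm
        map_one' := by rw [smul_one, map_one, Matrix.map_one _ (map_zero σ.symm) (map_one σ.symm)]
        map_mul' := fun p q => by rw [smul_mul', map_mul, Matrix.map_mul]
        map_zero' := by rw [smul_zero, map_zero, Matrix.map_zero _ (map_zero σ.symm)]
        map_add' := fun p q => by rw [smul_add, map_add, Matrix.map_add _ (map_add σ.symm)]
        commutes' := fun r => by
          have h1 : σ • algebraMap K (K ⊗[k] A) r = algebraMap K (K ⊗[k] A) (σ r) := by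
            rw [Algebra.TensorProduct.algebraMap_apply, Algebra.TensorProduct.algebraMap_apply]
            rfl
          rw [h1, φ.commutes]
          ext i j
          simp [Matrix.algebraMap_matrix_apply, apply_ite σ.symm] }
    have h := CSALib.redNorm_eq_det hNK f hdB y
    rw [hNK' (σ • y)]
    apply σ.symm.injective
    rw [σ.symm_apply_apply]
    refine Eq.trans ?_ h.symm
    exact AlgEquiv.map_det σ.symm (φ (σ • y))
  have hval : ∀ b : (K ⊗[k] A)ˣ, NK ((b⁻¹ : (K ⊗[k] A)ˣ) : K ⊗[k] A) = (NK (b : K ⊗[k] A))⁻¹ := fun b => by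
    refine eq_inv_of_mul_eq_one_left ?_
    rw [← map_mul, Units.inv_mul, map_one]
  have hne : ∀ b : (K ⊗[k] A)ˣ, NK (b : K ⊗[k] A) ≠ 0 := fun b => (b.isUnit.map NK).ne_zero
  refine ⟨fun a ha => ?_, fun c c' b b' hb hb' => ⟨?_, ?_⟩⟩
  · obtain ⟨z, hz⟩ := GalDescLib.exists_unit_of_cocycle a
    obtain ⟨d, hd⟩ := (IsGalois.mem_range_algebraMap_iff_fixed (F := k) (NK (z : K ⊗[k] A))).2 fun σ => by
      have h1 : σ • z = z * a σ := by rw [hz σ, mul_inv_cancel_left]
      have h2 := congrArg (fun t : (K ⊗[k] A)ˣ => NK (t : K ⊗[k] A)) h1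
      simp only [Units.val_mul, map_mul, ha σ, mul_one] at h2
      rw [← hequiv]
      exact h2
    refine ⟨Units.mk0 d fun h => hne z (by rw [← hd, h, map_zero]), z, hd.symm, hz⟩
  · rintro ⟨s, hs, hsσ⟩
    let t : (K ⊗[k] A)ˣ := b' * s⁻¹ * b⁻¹
    have ht : ∀ σ : K ≃ₐ[k] K, σ • t = t := fun σ => by
      have h1 : σ • b' = b' * (s⁻¹ * (b⁻¹ * σ • b) * σ • s) := by rw [← hsσ σ, mul_inv_cancel_left]
      rw [smul_mul', smul_mul', smul_inv', smul_inv', h1]
      simp only [t]
      group
    have hmap : ∀ (σ : K ≃ₐ[k] K) (z : K ⊗[k] A),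
        TensorProduct.map σ.toLinearMap LinearMap.id z = σ • z := fun σ z => by
      induction z with
      | zero => simp
      | add p q hp hq => rw [map_add, hp, hq, smul_add]
      | tmul p q => rfl
    obtain ⟨x, hx⟩ := CSALib.exists_of_fixed K (t : K ⊗[k] A) fun σ => by
      rw [hmap]; exact congrArg Units.val (ht σ)
    obtain ⟨y, hy⟩ := CSALib.exists_of_fixed K ((t⁻¹ : (K ⊗[k] A)ˣ) : K ⊗[k] A) fun σ => by
      rw [hmap]; exact congrArg Units.val ((smul_inv' σ t).trans (by rw [ht σ]))
    have hxy : x * y = 1 := CSALib.one_tmul_injective (k := k) K (by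
      change (1 : K) ⊗ₜ[k] (x * y) = 1
      rw [← one_mul (1 : K), ← Algebra.TensorProduct.tmul_mul_tmul, ← hx, ← hy, Units.mul_inv])
    have hyx : y * x = 1 := CSALib.one_tmul_injective (k := k) K (by
      change (1 : K) ⊗ₜ[k] (y * x) = 1
      rw [← one_mul (1 : K), ← Algebra.TensorProduct.tmul_mul_tmul, ← hx, ← hy, Units.inv_mul])
    refine ⟨⟨x, y, hxy, hyx⟩, (algebraMap k K).injective ?_⟩
    change algebraMap k K (c' : k) = algebraMap k K (N x * c)
    rw [map_mul, hN', ← hx, ← hb, ← hb', ← map_mul]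
    change NK (b' : K ⊗[k] A) = NK ((t * b : (K ⊗[k] A)ˣ) : K ⊗[k] A)
    rw [inv_mul_cancel_right, Units.val_mul, map_mul, hval, hs, inv_one, mul_one]
  · rintro ⟨x, hx⟩
    let X : (K ⊗[k] A)ˣ := Units.map (Algebra.TensorProduct.includeRight : A →ₐ[k] K ⊗[k] A).toMonoidHom x
    have hX : ∀ σ : K ≃ₐ[k] K, σ • X = X := fun σ => Units.ext (by
      change σ • ((1 : K) ⊗ₜ[k] (x : A)) = (1 : K) ⊗ₜ[k] (x : A)
      rw [TensorProduct.smul_tmul', smul_one])
    refine ⟨b⁻¹ * X⁻¹ * b', ?_, fun σ => ?_⟩
    · rw [Units.val_mul, Units.val_mul, map_mul, map_mul, hval, hval, hb, hb',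
        show NK (X : K ⊗[k] A) = algebraMap k K (N (x : A)) from (hN' (x : A)).symm, hx, map_mul]
      have h1 : algebraMap k K (N (x : A)) ≠ 0 := by
        rw [map_ne_zero]; exact (x.isUnit.map N).ne_zero
      have h2 : algebraMap k K (c : k) ≠ 0 := by rw [map_ne_zero]; exact c.ne_zero
      field_simp
    · rw [smul_mul', smul_mul', smul_inv', smul_inv', hX]
      group

end Groth.Agent.S15415
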