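import Groth.Statements.S15419
import Mathlib
import Groth.Agent.GrModLib.RegStd

set_option autoImplicit false
universe u
open GrLC

namespace Groth.Agent.S15419

/-- Let k be a field, S = k[x_0, …, x_r] graded by degree, 𝔪 = (x_0, …, x_r), M a finitely generated
ℤ-graded S-module and x a linear form (x ∈ S_1) that is quasi-regular on M: the submodule of
elements of M killed by x has finite length. Let N = M/xM, given as a graded module with a
surjective degree-preserving S-linear map π : M → N whose kernel is xM; graded local cohomology of M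
and of N is computed from *injective resolutions in the graded category. If M is weakly d-regular,
that is H^i_𝔪(M) vanishes in degree d − i + 1 for every i > 0, then N is weakly d-regular. -/
theorem result (k : Type u) [Field k] (r : ℕ)
    (M : Type u) [AddCommGroup M] [Module k M] [Module (MvPolynomial (Fin (r + 1)) k) M]
    [IsScalarTower k (MvPolynomial (Fin (r + 1)) k) M] [Module.Finite (MvPolynomial (Fin (r + 1)) k) M]
    (ℳ : ℤ → Submodule k M) [DirectSum.Decomposition ℳ] [SetLike.GradedSMul (GrSyz.stdGr k (Fin (r + 1))) ℳ]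
    (x : MvPolynomial (Fin (r + 1)) k) (hx : x ∈ GrSyz.stdGr k (Fin (r + 1)) 1)
    (hq : IsFiniteLength (MvPolynomial (Fin (r + 1)) k) ↥(Submodule.torsionBy (MvPolynomial (Fin (r + 1)) k) M x))
    (N : Type u) [AddCommGroup N] [Module k N] [Module (MvPolynomial (Fin (r + 1)) k) N]
    [IsScalarTower k (MvPolynomial (Fin (r + 1)) k) N] [Module.Finite (MvPolynomial (Fin (r + 1)) k) N]
    (𝒩 : ℤ → Submodule k N) [DirectSum.Decomposition 𝒩] [SetLike.GradedSMul (GrSyz.stdGr k (Fin (r + 1))) 𝒩]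
    (π : M →ₗ[MvPolynomial (Fin (r + 1)) k] N) (hπ : Function.Surjective π) (hπg : GrLC.IsGrHom ℳ 𝒩 π)
    (hker : LinearMap.ker π = LinearMap.range (x • (LinearMap.id : M →ₗ[MvPolynomial (Fin (r + 1)) k] M)))
    (E : GrLC.StarInjRes (GrSyz.stdGr k (Fin (r + 1))) ℳ) (E' : GrLC.StarInjRes (GrSyz.stdGr k (Fin (r + 1))) 𝒩) (d : ℤ)
    (hM : ∀ i : ℕ, 0 < i → E.Hcomp (GrSyz.irrel (GrSyz.stdGr k (Fin (r + 1)))) i (d - (i : ℤ) + 1) = ⊥) (i : ℕ) (hi : 0 < i) :
    E'.Hcomp (GrSyz.irrel (GrSyz.stdGr k (Fin (r + 1)))) i (d - (i : ℤ) + 1) = ⊥ := by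
  have hxa : x ∈ (GrModLib.stdIrrel k r).toIdeal := Ideal.subset_span ⟨1, one_pos, hx⟩
  have hT : GrLC.gam (GrModLib.stdIrrel k r).toIdeal (Submodule.torsionBy (MvPolynomial (Fin (r + 1)) k) M x) = ⊤ := by
    have hf : GrLC.IsGrHomDeg (GrModLib.toAdd ℳ) (GrModLib.toAdd ℳ)
        (x • (LinearMap.id : M →ₗ[MvPolynomial (Fin (r + 1)) k] M)) 1 := fun j v hv => by
      rw [add_comm]; exact GrModLib.smul_mem (GrModLib.toAdd (GrSyz.stdGr k (Fin (r + 1)))) (GrModLib.toAdd ℳ) hx hv
    let P := Submodule.torsionBy (MvPolynomial (Fin (r + 1)) k) M x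
    have hP : P.IsHomogeneous (GrModLib.toAdd ℳ) := GrModLib.ker_isHomogeneous_deg hf
    let K := GrModLib.subG (GrModLib.toAdd (GrSyz.stdGr k (Fin (r + 1)))) (ℳ := GrModLib.toAdd ℳ) P hP
    have key : ∀ G : GrLC.GMod.{u} (GrModLib.toAdd (GrSyz.stdGr k (Fin (r + 1)))),
        IsFiniteLength (MvPolynomial (Fin (r + 1)) k) G.carrier →
          GrLC.gam (GrModLib.stdIrrel k r).toIdeal G.carrier = ⊤ := fun G h =>
      GrModLib.gam_eq_top_of_finiteLength (a := GrModLib.stdIrrel k r) GrModLib.stdGr_hpos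
        (GrModLib.stdIrrel_eq_span k r) G.gr h
    exact key K hq
  have htors : ∀ z : M, x • z = 0 → z ∈ GrLC.gam (GrModLib.stdIrrel k r).toIdeal M := fun z hz => by
    have h1 : (⟨z, (Submodule.mem_torsionBy_iff x z).2 hz⟩ : Submodule.torsionBy (MvPolynomial (Fin (r + 1)) k) M x) ∈
        GrLC.gam (GrModLib.stdIrrel k r).toIdeal (Submodule.torsionBy (MvPolynomial (Fin (r + 1)) k) M x) :=
      hT.ge Submodule.mem_top
    exact h1.imp fun c hc r hr => congrArg Subtype.val (hc r hr)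
  have hM' : ∀ j : ℕ, 0 < j → GrModLib.Van (GrModLib.stdIrrel k r) (GrModLib.toAdd ℳ) j (d - (j : ℤ) + 1) :=
    fun j hj => (GrModLib.van_iff (GrModLib.resToAdd E) j _).2 fun y hy => (Submodule.eq_bot_iff _).1 (hM j hj) y hy
  have h2 : GrModLib.Van (GrModLib.stdIrrel k r) (GrModLib.toAdd 𝒩) i (d - (i : ℤ) + 1) :=
    GrModLib.van_section (GrLC.GMod.of _ M (GrModLib.toAdd ℳ)) (GrLC.GMod.of _ N (GrModLib.toAdd 𝒩)) π hx
      hπg hπ hker htors (hM' i hi)
      (by
        have := hM' (i + 1) (by omega)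
        rwa [show d - (i : ℤ) + 1 - 1 = d - ((i + 1 : ℕ) : ℤ) + 1 by push_cast; ring])
  exact (Submodule.eq_bot_iff _).2 fun y hy => h2 (GrModLib.resToAdd E') y hy

end Groth.Agent.S15419
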