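import Groth.Statements.S15421
import Mathlib
import Groth.Agent.GrModLib.RegStd

set_option autoImplicit false
universe u
open GrSyz

namespace Groth.Agent.S15421

/-- Let k be a field, S = k[x_0, …, x_r] graded by degree, 𝔪 = (x_0, …, x_r), M a finitely generated
ℤ-graded S-module, x ∈ S_1 a linear form quasi-regular on M (the elements of M killed by x form a
submodule of finite length) and N = M/xM, given as a graded module with a surjective
degree-preserving S-linear map π : M → N with kernel xM. Then reg M = max(end H^0_𝔪(M), reg N),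
where reg is the Castelnuovo–Mumford regularity in the sense of minimal graded free resolutions (as
an extended integer, −∞ for the zero module) and end H^0_𝔪(M) is the largest degree of a nonzero
piece of the graded local cohomology H^0_𝔪(M), computed from any *injective resolution of M in the
graded category. (The published statement takes x quasi-regular without repeating that it is a
linear form; a linear form is meant, as in the proposition it rests on.) -/
theorem result (k : Type u) [Field k] (r : ℕ)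
    (M : Type u) [AddCommGroup M] [Module k M] [Module (MvPolynomial (Fin (r + 1)) k) M]
    [IsScalarTower k (MvPolynomial (Fin (r + 1)) k) M] [Module.Finite (MvPolynomial (Fin (r + 1)) k) M]
    (ℳ : ℤ → Submodule k M) [DirectSum.Decomposition ℳ] [SetLike.GradedSMul (GrSyz.stdGr k (Fin (r + 1))) ℳ]
    (x : MvPolynomial (Fin (r + 1)) k) (hx : x ∈ GrSyz.stdGr k (Fin (r + 1)) 1)
    (hq : IsFiniteLength (MvPolynomial (Fin (r + 1)) k) ↥(Submodule.torsionBy (MvPolynomial (Fin (r + 1)) k) M x))
    (N : Type u) [AddCommGroup N] [Module k N] [Module (MvPolynomial (Fin (r + 1)) k) N]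
    [IsScalarTower k (MvPolynomial (Fin (r + 1)) k) N] [Module.Finite (MvPolynomial (Fin (r + 1)) k) N]
    (𝒩 : ℤ → Submodule k N) [DirectSum.Decomposition 𝒩] [SetLike.GradedSMul (GrSyz.stdGr k (Fin (r + 1))) 𝒩]
    (π : M →ₗ[MvPolynomial (Fin (r + 1)) k] N) (hπ : Function.Surjective π) (hπg : GrLC.IsGrHom ℳ 𝒩 π)
    (hker : LinearMap.ker π = LinearMap.range (x • (LinearMap.id : M →ₗ[MvPolynomial (Fin (r + 1)) k] M)))
    (E : GrLC.StarInjRes (GrSyz.stdGr k (Fin (r + 1))) ℳ) :
    GrSyz.reg (GrSyz.stdGr k (Fin (r + 1))) ℳ (GrSyz.irrel (GrSyz.stdGr k (Fin (r + 1)))).toIdeal =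
      GrLC.endDeg (E.Hgr (GrSyz.irrel (GrSyz.stdGr k (Fin (r + 1)))) 0) ⊔ GrSyz.reg (GrSyz.stdGr k (Fin (r + 1))) 𝒩 (GrSyz.irrel (GrSyz.stdGr k (Fin (r + 1)))).toIdeal := by
  have hxa : x ∈ (GrModLib.stdIrrel k r).toIdeal := Ideal.subset_span ⟨1, one_pos, hx⟩
  have hT : GrLC.gam (GrModLib.stdIrrel k r).toIdeal (Submodule.torsionBy (MvPolynomial (Fin (r + 1)) k) M x) = ⊤ := by
    have hf : GrLC.IsGrHomDeg (GrModLib.toAdd ℳ) (GrModLib.toAdd ℳ)
        (x • (LinearMap.id : M →ₗ[MvPolynomial (Fin (r + 1)) k] M)) 1 := fun j v hv => by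
      rw [add_comm]; exact GrModLib.smul_mem (GrModLib.toAdd (GrSyz.stdGr k (Fin (r + 1)))) (GrModLib.toAdd ℳ) hx hv
    let P := Submodule.torsionBy (MvPolynomial (Fin (r + 1)) k) M x
    have hP : P.IsHomogeneous (GrModLib.toAdd ℳ) := GrModLib.ker_isHomogeneous_deg hf
    let K := GrModLib.subG (GrModLib.toAdd (GrSyz.stdGr k (Fin (r + 1)))) (ℳ := GrModLib.toAdd ℳ) P hP
    have key : ∀ G : GrLC.GMod.{u} (GrModLib.toAdd (GrSyz.stdGr k (Fin (r + 1)))),
        IsFiniteLength (MvPolynomial (Fin (r + 1)) k) G.carrier →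
          GrLC.gam (GrModLib.stdIrrel k r).toIdeal G.carrier = ⊤ := fun G h =>
      GrModLib.gam_eq_top_of_finiteLength (a := GrModLib.stdIrrel k r) GrModLib.stdGr_hpos
        (GrModLib.stdIrrel_eq_span k r) G.gr h
    exact key K hq
  have htors : ∀ z : M, x • z = 0 → z ∈ GrLC.gam (GrModLib.stdIrrel k r).toIdeal M := fun z hz => by
    have h1 : (⟨z, (Submodule.mem_torsionBy_iff x z).2 hz⟩ : Submodule.torsionBy (MvPolynomial (Fin (r + 1)) k) M x) ∈
        GrLC.gam (GrModLib.stdIrrel k r).toIdeal (Submodule.torsionBy (MvPolynomial (Fin (r + 1)) k) M x) :=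
      hT.ge Submodule.mem_top
    exact h1.imp fun c hc r hr => congrArg Subtype.val (hc r hr)
  refine GrModLib.eq_of_forall_coe_iff fun d => ?_
  rw [sup_le_iff, GrModLib.reg_le_coe_iff, GrModLib.reg_le_coe_iff, GrModLib.endDeg_zero_le_iff E d]
  exact (GrModLib.regLE_section_iff (GrLC.GMod.of _ M (GrModLib.toAdd ℳ)) (GrLC.GMod.of _ N (GrModLib.toAdd 𝒩)) π hx
    hxa hπg hπ hker htors d).trans and_comm

end Groth.Agent.S15421
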