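import Groth.Statements.S15423
import Groth.Agent.GrSyzLib.MinimalPD

set_option autoImplicit false
universe u
open GrSyz

namespace Groth.Agent.S15423

/-- Let k be a field, S = k[x_0, …, x_r] graded by degree, 𝔪 = (x_0, …, x_r), M a finitely generated
ℤ-graded S-module and F a minimal graded free resolution of M by finite-rank free modules with
homogeneous bases (all matrix entries in 𝔪). Then the Castelnuovo–Mumford regularity of M (an
extended integer) is the supremum over i ≥ 0 of t_i − i, where t_i is the largest degree of a basis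
vector of F_i, that is the largest nonzero degree of Tor_i^S(M, k) (−∞ when F_i = 0). In particular
the value does not depend on the minimal resolution chosen. -/
theorem result (k : Type u) [Field k] (r : ℕ)
    (M : Type u) [AddCommGroup M] [Module k M] [Module (MvPolynomial (Fin (r + 1)) k) M]
    [IsScalarTower k (MvPolynomial (Fin (r + 1)) k) M] [Module.Finite (MvPolynomial (Fin (r + 1)) k) M]
    (ℳ : ℤ → Submodule k M) [DirectSum.Decomposition ℳ] [SetLike.GradedSMul (GrSyz.stdGr k (Fin (r + 1))) ℳ]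
    (F : GrSyz.FreeRes (GrSyz.stdGr k (Fin (r + 1))) ℳ) (hF : F.IsMinimal (GrSyz.irrel (GrSyz.stdGr k (Fin (r + 1)))).toIdeal) :
    GrSyz.reg (GrSyz.stdGr k (Fin (r + 1))) ℳ (GrSyz.irrel (GrSyz.stdGr k (Fin (r + 1)))).toIdeal =
      ⨆ i : ℕ, WithBot.map (fun t : ℤ => ((t - (i : ℤ) : ℤ) : WithTop ℤ)) (F.maxGenDeg i) := by
  classical
  have hiff : ∀ d : ℤ, GrSyz.IsRegLE (GrSyz.stdGr k (Fin (r + 1))) ℳ
      (GrSyz.irrel (GrSyz.stdGr k (Fin (r + 1)))).toIdeal d ↔ F.IsGenLE d :=
    fun d => ⟨fun ⟨F', hF', hd⟩ => (GrSyzLib.isGenLE_iff F F' hF hF' d).1 hd, fun h => ⟨F, hF, h⟩⟩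
  set s := ⨆ i : ℕ, WithBot.map (fun t : ℤ => ((t - (i : ℤ) : ℤ) : WithTop ℤ)) (F.maxGenDeg i) with hs
  have hterm : ∀ (i : ℕ) (b : Fin (F.rk i)), (((F.deg i b - i : ℤ) : WithTop ℤ) : WithBot (WithTop ℤ)) ≤ s := by
    intro i b
    refine le_trans ?_ (le_iSup (fun i : ℕ => WithBot.map (fun t : ℤ => ((t - (i : ℤ) : ℤ) : WithTop ℤ)) (F.maxGenDeg i)) i)
    have h1 : ((F.deg i b : ℤ) : WithBot ℤ) ≤ F.maxGenDeg i :=
      Finset.le_sup (f := fun b => ((F.deg i b : ℤ) : WithBot ℤ)) (Finset.mem_univ b)
    have hmono : Monotone (fun t : ℤ => ((t - (i : ℤ) : ℤ) : WithTop ℤ)) := fun x y h => WithTop.coe_le_coe.2 (by linarith)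
    have := hmono.withBot_map h1
    rwa [WithBot.map_coe] at this
  refine le_antisymm ?_ ?_
  · rw [GrSyz.reg]
    cases hsv : s using WithBot.recBotCoe with
    | bot =>
      have hall : ∀ d : ℤ, F.IsGenLE d := fun d i b => by
        have := hterm i b
        rw [hsv] at this
        exact absurd this (by simp)
      rw [le_bot_iff, iInf_eq_bot]
      intro x hx
      cases x using WithBot.recBotCoe with
      | bot => exact absurd hx (lt_irrefl _)
      | coe x =>
        cases x using WithTop.recTopCoe with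
        | top => exact ⟨0, lt_of_le_of_lt (iInf_le _ ((hiff 0).2 (hall 0))) (WithBot.coe_lt_coe.2 (WithTop.coe_lt_top _))⟩
        | coe z => exact ⟨z - 1, lt_of_le_of_lt (iInf_le _ ((hiff _).2 (hall _))) (WithBot.coe_lt_coe.2 (WithTop.coe_lt_coe.2 (by linarith)))⟩
    | coe x =>
      cases x using WithTop.recTopCoe with
      | top => exact WithBot.coe_le_coe.2 le_top |> fun h => le_trans le_top h
      | coe z =>
        refine iInf₂_le z ((hiff z).2 fun i b => ?_)
        have := hterm i b
        rw [hsv, WithBot.coe_le_coe, WithTop.coe_le_coe] at this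
        linarith
  · refine le_iInf₂ fun d hd => iSup_le fun i => ?_
    cases hm : F.maxGenDeg i using WithBot.recBotCoe with
    | bot => exact bot_le
    | coe t =>
      rw [WithBot.map_coe, WithBot.coe_le_coe, WithTop.coe_le_coe]
      have h1 : F.maxGenDeg i ≤ ((d + i : ℤ) : WithBot ℤ) :=
        Finset.sup_le fun b _ => WithBot.coe_le_coe.2 ((hiff d).1 hd i b)
      rw [hm, WithBot.coe_le_coe] at h1
      linarith

end Groth.Agent.S15423
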