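import Groth.Statements.S15427
import Groth.Agent.GrSyzLib.MinimalPD

set_option autoImplicit false
universe u
open GrSyz

namespace Groth.Agent.S15427

/-- Let k be a field, S = k[x_0, …, x_r] graded by degree, 𝔪 = (x_0, …, x_r), M a finitely generated
ℤ-graded S-module and F a graded free resolution of M by free modules of finite rank with chosen
homogeneous bases, written as matrices d_i : F_{i+1} → F_i together with the images aug b ∈ M of the
basis of F_0. Then F is a minimal complex (every matrix entry lies in 𝔪) if and only if every map of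
the resolution carries its basis to an irredundant (minimal) family of generators of its image: for
each b, aug b is not in the S-span of the remaining aug b', and for each i and each column of d_i,
that column is not in the S-span of the remaining columns. -/
theorem result (k : Type u) [Field k] (r : ℕ)
    (M : Type u) [AddCommGroup M] [Module k M] [Module (MvPolynomial (Fin (r + 1)) k) M]
    [IsScalarTower k (MvPolynomial (Fin (r + 1)) k) M] [Module.Finite (MvPolynomial (Fin (r + 1)) k) M]
    (ℳ : ℤ → Submodule k M) [DirectSum.Decomposition ℳ] [SetLike.GradedSMul (GrSyz.stdGr k (Fin (r + 1))) ℳ]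
    (F : GrSyz.FreeRes (GrSyz.stdGr k (Fin (r + 1))) ℳ) :
    F.IsMinimal (GrSyz.irrel (GrSyz.stdGr k (Fin (r + 1)))).toIdeal ↔
      ((∀ b : Fin (F.rk 0), F.aug b ∉ Submodule.span (MvPolynomial (Fin (r + 1)) k) (F.aug '' {b' | b' ≠ b})) ∧
        ∀ (i : ℕ) (b : Fin (F.rk (i + 1))),
          (fun a => F.d i a b) ∉ Submodule.span (MvPolynomial (Fin (r + 1)) k) ((fun b' a => F.d i a b') '' {b' | b' ≠ b})) := by
  classical
  have hcol : ∀ i b, F.dLin i (Pi.single b 1) = fun a => F.d i a b := fun i b => by
    funext a; simp [GrSyz.FreeRes.dLin, Matrix.mulVec_single_one]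
  have hlin : ∀ i, Fintype.linearCombination (MvPolynomial (Fin (r + 1)) k) (fun b a => F.d i a b) = F.dLin i :=
    fun i => (GrSyzLib.mulVecLin_eq _).symm
  constructor
  · intro hF
    refine ⟨fun b hb => ?_, fun i b hb => ?_⟩
    · obtain ⟨c, hc, hcb⟩ := GrSyzLib.exists_relation_of_mem_span F.aug hb
      have := GrSyzLib.small_range F hF 0 (F.exact_zero.le hc) b
      rw [hcb, map_one] at this
      exact one_ne_zero this
    · obtain ⟨c, hc, hcb⟩ := GrSyzLib.exists_relation_of_mem_span (fun b' a => F.d i a b') hb
      rw [hlin] at hc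
      have := GrSyzLib.small_range F hF (i + 1) ((F.exact_succ i).le hc) b
      rw [hcb, map_one] at this
      exact one_ne_zero this
  · rintro ⟨h0, hs⟩ i a b
    rw [GrSyzLib.mem_irrel_iff]
    by_contra hne
    cases i with
    | zero =>
      have hker : Fintype.linearCombination (MvPolynomial (Fin (r + 1)) k) F.aug (fun a => F.d 0 a b) = 0 :=
        F.exact_zero.ge ⟨Pi.single b 1, hcol 0 b⟩
      rw [Fintype.linearCombination_apply] at hker
      refine h0 a (GrSyzLib.mem_span_of_relation F.aug (F.deg 0) (fun c hc d => ?_) _ hker a hne)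
      rw [← GrSyzLib.comp_mod F.aug (F.deg 0) F.aug_mem, hc]
      simp
    | succ i =>
      have hker : F.dLin i (fun a => F.d (i + 1) a b) = 0 := (F.exact_succ i).ge ⟨Pi.single b 1, hcol (i + 1) b⟩
      rw [← hlin, Fintype.linearCombination_apply] at hker
      refine hs i a (GrSyzLib.mem_span_of_relation (fun b' a => F.d i a b') (F.deg (i + 1)) (fun c hc d => ?_) _ hker a hne)
      rw [← GrSyzLib.comp_free (fun b' a => F.d i a b') (F.deg (i + 1)) (F.deg i)
        (fun b' => (GrSyzLib.mem_piece k r).2 fun a => F.d_mem i a b'), hc]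
      funext x
      simp [GrSyzLib.proj]

end Groth.Agent.S15427
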