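import Groth.Statements.S15432
import Groth.Agent.GrSyzLib.Hilbert
import Mathlib

set_option autoImplicit false
set_option maxHeartbeats 1600000
universe u
open GrSyz

namespace Groth.Agent.S15432

/-- Let k be a field, Z a nonempty finite set of nonzero vectors of k^3, regarded as points of the
projective plane, I ⊆ S = k[x_0, x_1, x_2] the homogeneous vanishing ideal of Z (a polynomial lies
in I exactly when each of its homogeneous components vanishes at every vector of Z), M = S/I given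
as a ℤ-graded S-module with a surjective degree-preserving S-linear map π : S → M with kernel I, and
F a minimal graded free resolution of M of length at most 2 whose terms F_1 and F_2 have ranks t + 1
and t, with basis degrees a_1 ≥ … ≥ a_{t+1} for F_1 and b_1 ≥ … ≥ b_t for F_2 (non-increasing along
the chosen bases), so that the (i, j) entry of the matrix F_2 → F_1 has degree b_j − a_i. Put e_i =
b_i − a_i and f_i = b_i − a_{i+1}. Then e_i ≥ 1 and f_i ≥ 1 for every i, and Σ_i a_i = Σ_j b_j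
(equivalently a_i = Σ_{j < i} e_j + Σ_{j ≥ i} f_j for every i). (The ordering of both bases is the
standing assumption under which the published statement is made; this row carries it as the
hypotheses on the basis degrees. The further inequalities f_i ≥ e_i and f_i ≥ e_{i+1} follow at once
from the ordering and are not restated.) -/
theorem result (k : Type u) [Field k]
    (Z : Finset (Fin 3 → k)) (hZ : ∀ p ∈ Z, p ≠ 0) (hZne : Z.Nonempty) (I : Ideal (MvPolynomial (Fin 3) k))
    (hI : ∀ f : MvPolynomial (Fin 3) k, f ∈ I ↔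
      ∀ p ∈ Z, ∀ j : ℕ, MvPolynomial.eval p (MvPolynomial.homogeneousComponent j f) = 0)
    (M : Type u) [AddCommGroup M] [Module k M] [Module (MvPolynomial (Fin 3) k) M] [IsScalarTower k (MvPolynomial (Fin 3) k) M]
    (ℳ : ℤ → Submodule k M) [DirectSum.Decomposition ℳ] [SetLike.GradedSMul (GrSyz.stdGr k (Fin 3)) ℳ]
    (π : MvPolynomial (Fin 3) k →ₗ[MvPolynomial (Fin 3) k] M) (hπ : Function.Surjective π)
    (hπg : GrLC.IsGrHom (GrSyz.stdGr k (Fin 3)) ℳ π) (hker : LinearMap.ker π = I)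
    (F : GrSyz.FreeRes (GrSyz.stdGr k (Fin 3)) ℳ) (hF : F.IsMinimal (GrSyz.irrel (GrSyz.stdGr k (Fin 3))).toIdeal) (hlen : F.HasLengthLE 2)
    (t : ℕ) (h1 : F.rk 1 = t + 1) (h2 : F.rk 2 = t)
    (ha : ∀ i j : Fin (t + 1), i ≤ j → F.deg 1 (Fin.cast h1.symm j) ≤ F.deg 1 (Fin.cast h1.symm i))
    (hb : ∀ i j : Fin t, i ≤ j → F.deg 2 (Fin.cast h2.symm j) ≤ F.deg 2 (Fin.cast h2.symm i)) :
    (∀ i : Fin t, 1 ≤ F.deg 2 (Fin.cast h2.symm i) - F.deg 1 (Fin.cast h1.symm i.castSucc) ∧
        1 ≤ F.deg 2 (Fin.cast h2.symm i) - F.deg 1 (Fin.cast h1.symm i.succ)) ∧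
      ∑ i : Fin (t + 1), F.deg 1 (Fin.cast h1.symm i) = ∑ j : Fin t, F.deg 2 (Fin.cast h2.symm j) := by
  classical
  have hirr : ∀ p ∈ (GrSyz.irrel (GrSyz.stdGr k (Fin 3))).toIdeal, MvPolynomial.constantCoeff p = 0 :=
    fun p hp => GrSyzLib.constantCoeff_of_mem_irrel (r := 2) hp
  have hI1 : (1 : MvPolynomial (Fin 3) k) ∉ I := by
    intro h
    obtain ⟨p, hp⟩ := hZne
    have := (hI 1).1 h p hp 0
    rw [MvPolynomial.homogeneousComponent_zero, MvPolynomial.coeff_zero_one, map_one, map_one] at this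
    exact one_ne_zero this
  have hπ1 : π 1 ≠ 0 := fun h => hI1 (hker ▸ LinearMap.mem_ker.2 h)
  have hsmul : ∀ p : MvPolynomial (Fin 3) k, π p = p • π 1 := fun p => by
    rw [← map_smul, smul_eq_mul, mul_one]
  -- no basis vector of `F_1` maps to zero
  have hg : ∀ r : Fin (F.rk 1), ∃ a, F.d 0 a r ≠ 0 := by
    intro r
    by_contra hc
    push Not at hc
    have h0 : F.dLin 0 (Pi.single r 1) = 0 := by
      funext a
      simp only [GrSyz.FreeRes.dLin, Matrix.mulVecLin_apply, Matrix.mulVec_single_one, Matrix.col_apply,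
        Pi.zero_apply]
      exact hc a
    obtain ⟨w, hw⟩ := (F.exact_succ 0).le (LinearMap.mem_ker.2 h0)
    have h1' := congrFun hw r
    rw [Pi.single_eq_same] at h1'
    have h2' : (1 : MvPolynomial (Fin 3) k) ∈ (GrSyz.irrel (GrSyz.stdGr k (Fin 3))).toIdeal := by
      rw [← h1']
      simp only [Matrix.mulVecLin_apply, Matrix.mulVec, dotProduct]
      exact sum_mem fun j _ => Ideal.mul_mem_right _ _ (hF (0 + 1) r j)
    exact one_ne_zero ((map_one MvPolynomial.constantCoeff).symm.trans (hirr _ h2'))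
  have hinj : ∀ w : Fin (F.rk 2) → MvPolynomial (Fin 3) k, F.dLin 1 w = 0 → w = 0 := by
    intro w hw
    obtain ⟨v, hv⟩ := (F.exact_succ 1).le (LinearMap.mem_ker.2 hw)
    haveI : IsEmpty (Fin (F.rk (1 + 1 + 1))) := by
      rw [hlen 3 (by norm_num)]; exact Fin.isEmpty
    rw [← hv, Subsingleton.elim v 0, map_zero]
  have hsq : ∀ (a : Fin (F.rk 0)) (c : Fin (F.rk 2)), ∑ r, F.d 0 a r * F.d 1 r c = 0 := by
    intro a c
    have := congrFun (LinearMap.mem_ker.1 ((F.exact_succ 0).ge ⟨Pi.single c 1, rfl⟩)) a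
    simp only [Matrix.mulVecLin_apply, Matrix.mulVec_single_one, Pi.zero_apply] at this
    exact this
  have hstrict : ∀ i : Fin t, 1 ≤ F.deg 2 (Fin.cast h2.symm i) - F.deg 1 (Fin.cast h1.symm i.castSucc) := by
    intro i
    by_contra hcon
    push Not at hcon
    let m := t - (i : ℕ)
    let rI : Fin m → Fin (F.rk 1) := fun x =>
      Fin.cast h1.symm ⟨(i : ℕ) + 1 + x, by have := x.2; omega⟩
    let cI : Fin m → Fin (F.rk 2) := fun y => Fin.cast h2.symm ⟨(i : ℕ) + y, by have := y.2; omega⟩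
    have hzero : ∀ (r : Fin (F.rk 1)) (y : Fin m), (r : ℕ) ≤ i → F.d 1 r (cI y) = 0 := by
      intro r y hr
      refine GrSyzLib.eq_zero_of_mem_irrel_of_mem (r := 2) (hF 1 r (cI y)) ?_ (F.d_mem 1 r (cI y))
      have e1 := ha ⟨r, by omega⟩ i.castSucc hr
      have e2 := hb i ⟨(i : ℕ) + y, by have := y.2; omega⟩ (Nat.le_add_right _ _)
      change F.deg 2 (cI y) - F.deg 1 r ≤ 0
      change F.deg 1 (Fin.cast h1.symm i.castSucc) ≤ F.deg 1 r at e1
      change F.deg 2 (cI y) ≤ F.deg 2 (Fin.cast h2.symm i) at e2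
      omega
    have hrI : ∀ r : Fin (F.rk 1), (i : ℕ) < r → ∃ x, rI x = r := fun r hr =>
      ⟨⟨(r : ℕ) - (i + 1), by have := r.2; omega⟩, Fin.ext (by simp only [rI, Fin.val_cast]; omega)⟩
    have hrinj : Function.Injective rI := fun x y h => Fin.ext (by
      have := congrArg Fin.val h; simp only [rI, Fin.val_cast] at this; omega)
    have hcinj : Function.Injective cI := fun x y h => Fin.ext (by
      have := congrArg Fin.val h; simp only [cI, Fin.val_cast] at this; omega)
    let N : Matrix (Fin m) (Fin m) (MvPolynomial (Fin 3) k) := Matrix.of fun x y => F.d 1 (rI x) (cI y)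
    have hdet : N.det ≠ 0 := by
      intro h0
      obtain ⟨v, hv0, hv⟩ := Matrix.exists_mulVec_eq_zero_iff.2 h0
      apply hv0
      let w : Fin (F.rk 2) → MvPolynomial (Fin 3) k := Function.extend cI v 0
      have hw : F.dLin 1 w = 0 := by
        funext r
        simp only [GrSyz.FreeRes.dLin, Matrix.mulVecLin_apply, Matrix.mulVec, dotProduct, Pi.zero_apply]
        rw [← Finset.sum_subset (Finset.subset_univ (Finset.univ.image cI)) fun c _ hc => by
          rw [show w c = 0 from Function.extend_apply' _ _ _ fun ⟨y, hy⟩ => hc (hy ▸ Finset.mem_image_of_mem cI (Finset.mem_univ y)),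
            mul_zero], Finset.sum_image fun x _ y _ h => hcinj h]
        simp only [w, hcinj.extend_apply]
        by_cases hr : (r : ℕ) ≤ i
        · exact Finset.sum_eq_zero fun y _ => by rw [hzero r y hr, zero_mul]
        · obtain ⟨x, rfl⟩ := hrI r (not_le.1 hr)
          exact congrFun hv x
      have := hinj w hw
      funext y
      rw [← hcinj.extend_apply v 0 y]
      exact congrFun this (cI y)
    have hlast : (i : ℕ) + 1 + 0 < t + 1 := by have := i.2; omega
    obtain ⟨a, haz⟩ := hg (rI ⟨0, Nat.sub_pos_of_lt i.2⟩)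
    refine haz ?_
    have hv : Matrix.vecMul (fun x => F.d 0 a (rI x)) N = 0 := by
      funext y
      simp only [Matrix.vecMul, dotProduct, Pi.zero_apply, N, Matrix.of_apply]
      rw [← Finset.sum_image (f := fun r => F.d 0 a r * F.d 1 r (cI y)) fun x _ y _ h => hrinj h,
        Finset.sum_subset (Finset.subset_univ _) fun r _ hr => by
          rw [hzero r y (not_lt.1 fun hlt => hr (by
            obtain ⟨x, hx⟩ := hrI r hlt
            exact hx ▸ Finset.mem_image_of_mem rI (Finset.mem_univ x))), mul_zero]]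
      exact hsq a (cI y)
    by_contra hne
    exact hdet (Matrix.exists_vecMul_eq_zero_iff.1 ⟨_, fun h => hne (congrFun h ⟨0, Nat.sub_pos_of_lt i.2⟩), hv⟩)
  refine ⟨fun i => ⟨hstrict i, le_trans (hstrict i) ?_⟩, ?_⟩
  · have := ha i.castSucc i.succ (Fin.castSucc_le_succ i)
    omega
  -- rank one in degree zero
  choose p hp using fun b : Fin (F.rk 0) => hπ (F.aug b)
  obtain ⟨q, hq⟩ := F.aug_surjective (π 1)
  rw [Fintype.linearCombination_apply] at hq
  have hrel : ∀ b c, (if b = c then (1 : k) else 0) =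
      MvPolynomial.constantCoeff (p b) * MvPolynomial.constantCoeff (q c) := by
    intro b c
    have hv : F.augLin (fun c => (if b = c then (1 : MvPolynomial (Fin 3) k) else 0) - p b * q c) = 0 := by
      simp only [GrSyz.FreeRes.augLin, Fintype.linearCombination_apply, sub_smul, Finset.sum_sub_distrib,
        ite_smul, one_smul, zero_smul, Finset.sum_ite_eq, Finset.mem_univ, if_true, mul_smul, ← Finset.smul_sum]
      rw [hq, ← hsmul, hp, sub_self]
    obtain ⟨w, hw⟩ := F.exact_zero.le (LinearMap.mem_ker.2 hv)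
    have h0 := congrFun hw c
    have h1' : MvPolynomial.constantCoeff ((Matrix.mulVecLin (F.d 0) w) c) = 0 := by
      simp only [Matrix.mulVecLin_apply, Matrix.mulVec, dotProduct, map_sum, map_mul, hirr _ (hF 0 c _),
        zero_mul, Finset.sum_const_zero]
    rw [h0, map_sub, map_mul, sub_eq_zero] at h1'
    rw [← h1', apply_ite MvPolynomial.constantCoeff, map_one, map_zero]
  have hsub : Subsingleton (Fin (F.rk 0)) := ⟨fun b c => by
    by_contra hbc
    have e1 := hrel b b
    have e2 := hrel c c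
    have e3 := hrel b c
    rw [if_pos rfl] at e1 e2
    rw [if_neg hbc] at e3
    rcases mul_eq_zero.1 e3.symm with h | h
    · rw [h, zero_mul] at e1; exact one_ne_zero e1
    · rw [h, mul_zero] at e2; exact one_ne_zero e2⟩
  have hne : Nonempty (Fin (F.rk 0)) := by
    by_contra hc
    haveI := not_nonempty_iff.1 hc
    exact hπ1 (by rw [← hq, Finset.univ_eq_empty, Finset.sum_empty])
  obtain ⟨b0⟩ := hne
  letI := hsub
  letI : Unique (Fin (F.rk 0)) := uniqueOfSubsingleton b0
  have hdecM : ∀ (n : ℤ) (m : M), m ∈ ℳ n → ∃ s, s ∈ GrSyz.stdGr k (Fin 3) n ∧ π s = m := by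
    intro n m hm
    obtain ⟨s, rfl⟩ := hπ m
    refine ⟨DirectSum.decompose (GrSyz.stdGr k (Fin 3)) s n, SetLike.coe_mem _, ?_⟩
    have h1mem : π 1 ∈ ℳ 0 := hπg 0 1 (SetLike.GradedOne.one_mem)
    have := GrSyzLib.decompose_smul_of_mem (r := 2) (ℳ := ℳ) h1mem s n
    rw [← hsmul, DirectSum.decompose_of_mem_same _ hm, sub_zero] at this
    rw [hsmul]
    exact this.symm
  have h1mem : π 1 ∈ ℳ 0 := hπg 0 1 (SetLike.GradedOne.one_mem)
  have hdeg0 : F.deg 0 b0 = 0 := by
    have hq' : π 1 = q b0 • F.aug b0 := by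
      rw [← hq, Fintype.sum_unique]
      rfl
    have haug : F.aug b0 ≠ 0 := fun h => hπ1 (by rw [hq', h, smul_zero])
    refine le_antisymm (not_lt.1 fun hlt => hπ1 ?_) (not_lt.1 fun hlt => haug ?_)
    · have := GrSyzLib.decompose_smul_of_mem (r := 2) (ℳ := ℳ) (F.aug_mem b0) (q b0) 0
      rw [← hq', DirectSum.decompose_of_mem_same _ h1mem] at this
      rw [this, show (DirectSum.decompose (GrSyz.stdGr k (Fin 3)) (q b0) (0 - F.deg 0 b0) : MvPolynomial (Fin 3) k) = 0 from
        (Submodule.eq_bot_iff _).1 (GrSyzLib.stdGr_neg k 2 (by omega)) _ (SetLike.coe_mem _), zero_smul]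
    · obtain ⟨s, hs, hs'⟩ := hdecM _ _ (F.aug_mem b0)
      rw [← hs', show s = 0 from (Submodule.eq_bot_iff _).1 (GrSyzLib.stdGr_neg k 2 hlt) s hs, map_zero]
  -- the Hilbert function is bounded by the number of points
  have hbound : ∀ n : ℕ, Module.finrank k (ℳ (n : ℤ)) ≤ Z.card := by
    intro n
    let H := MvPolynomial.homogeneousSubmodule (Fin 3) k n
    let ev : H →ₗ[k] (Z → k) := LinearMap.pi fun p => (MvPolynomial.aeval (p : Fin 3 → k)).toLinearMap ∘ₗ H.subtype
    let φ : H →ₗ[k] ℳ (n : ℤ) := LinearMap.codRestrict _ ((π.restrictScalars k) ∘ₗ H.subtype) fun x =>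
      hπg n x.1 (by rw [GrSyzLib.stdGr_nat k 2 n]; exact x.2)
    have hφ : Function.Surjective φ := fun m => by
      obtain ⟨s, hs, hs'⟩ := hdecM n m.1 m.2
      rw [GrSyzLib.stdGr_nat k 2 n] at hs
      exact ⟨⟨s, hs⟩, Subtype.ext hs'⟩
    have hk : LinearMap.ker ev ≤ LinearMap.ker φ := by
      intro x hx
      rw [LinearMap.mem_ker]
      refine Subtype.ext ?_
      change π (x : MvPolynomial (Fin 3) k) = 0
      rw [← LinearMap.mem_ker, hker, hI]
      intro p hp j
      rw [MvPolynomial.homogeneousComponent_of_mem x.2]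
      split_ifs
      · exact congrFun hx ⟨p, hp⟩
      · exact map_zero _
    let φ' : LinearMap.range ev →ₗ[k] ℳ (n : ℤ) :=
      (LinearMap.ker ev).liftQ φ hk ∘ₗ ev.quotKerEquivRange.symm.toLinearMap
    have hφ' : Function.Surjective φ' := fun m => by
      obtain ⟨x, rfl⟩ := hφ m
      exact ⟨ev.quotKerEquivRange (Submodule.Quotient.mk x), by simp [φ']⟩
    calc Module.finrank k (ℳ (n : ℤ)) ≤ Module.finrank k (LinearMap.range ev) :=
          LinearMap.finrank_le_finrank_of_surjective hφ'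
      _ ≤ Module.finrank k (Z → k) := Submodule.finrank_le _
      _ = Z.card := by rw [Module.finrank_fintype_fun_eq_card, Fintype.card_coe]
  let e1 : Fin (t + 1) ≃ Fin (F.rk 1) := finCongr h1.symm
  let e2 : Fin t ≃ Fin (F.rk 2) := finCongr h2.symm
  set Sa := ∑ i : Fin (t + 1), F.deg 1 (Fin.cast h1.symm i)
  set Sb := ∑ j : Fin t, F.deg 2 (Fin.cast h2.symm j)
  let Qa : ℚ := ∑ i : Fin (t + 1), (F.deg 1 (Fin.cast h1.symm i) : ℚ) ^ 2
  let Qb : ℚ := ∑ j : Fin t, (F.deg 2 (Fin.cast h2.symm j) : ℚ) ^ 2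
  let C : ℚ := -Qa / 2 + 3 * Sa / 2 + Qb / 2 - 3 * Sb / 2
  have hhs : ∀ v : ℤ, -2 ≤ v → (GrSyzLib.hS 2 v : ℚ) = ((v : ℚ) + 1) * ((v : ℚ) + 2) / 2 := fun v hv => by
    rw [GrSyzLib.hS_eq_poly (r := 2) (by push_cast; omega)]
    norm_num [Finset.prod_range_succ]
  obtain ⟨D, hD⟩ : ∃ D : ℕ, ∀ n : ℕ, D ≤ n → (Module.finrank k (ℳ (n : ℤ)) : ℚ) = ((Sa : ℚ) - Sb) * n + C := by
    refine ⟨((∑ i : Fin (t + 1), |F.deg 1 (Fin.cast h1.symm i)|) +
      ∑ j : Fin t, |F.deg 2 (Fin.cast h2.symm j)|).toNat, fun n hn => ?_⟩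
    rw [Int.toNat_le] at hn
    have hA : ∀ i : Fin (t + 1), F.deg 1 (Fin.cast h1.symm i) ≤ n := fun i => by
      have h1' := Finset.single_le_sum (s := Finset.univ) (f := fun i : Fin (t + 1) => |F.deg 1 (Fin.cast h1.symm i)|)
        (fun i _ => abs_nonneg _) (Finset.mem_univ i)
      have h2' : 0 ≤ ∑ j : Fin t, |F.deg 2 (Fin.cast h2.symm j)| := Finset.sum_nonneg fun i _ => abs_nonneg _
      have := le_abs_self (F.deg 1 (Fin.cast h1.symm i))
      linarith
    have hB : ∀ j : Fin t, F.deg 2 (Fin.cast h2.symm j) ≤ n := fun j => by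
      have h1' := Finset.single_le_sum (s := Finset.univ) (f := fun j : Fin t => |F.deg 2 (Fin.cast h2.symm j)|)
        (fun i _ => abs_nonneg _) (Finset.mem_univ j)
      have h2' : 0 ≤ ∑ i : Fin (t + 1), |F.deg 1 (Fin.cast h1.symm i)| := Finset.sum_nonneg fun i _ => abs_nonneg _
      have := le_abs_self (F.deg 2 (Fin.cast h2.symm j))
      linarith
    have hsum := congrArg (fun z : ℤ => (z : ℚ)) (GrSyzLib.finrank_eq_alt_sum (r := 2) F hlen (n : ℤ))
    simp only [Finset.sum_range_succ, Finset.sum_range_zero, zero_add] at hsum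
    push_cast at hsum
    rw [hsum]
    simp only [pow_zero, pow_one, one_mul, neg_one_sq]
    rw [Fintype.sum_unique, show (default : Fin (F.rk 0)) = b0 from rfl, hdeg0, sub_zero,
      ← Equiv.sum_comp e1, ← Equiv.sum_comp e2, hhs n (by omega),
      Finset.sum_congr rfl fun i _ => hhs _ (show (-2 : ℤ) ≤ (n : ℤ) - F.deg 1 (e1 i) by
        have := hA i; change _ ≤ (n : ℤ) - F.deg 1 (Fin.cast h1.symm i); omega),
      Finset.sum_congr rfl fun j _ => hhs _ (show (-2 : ℤ) ≤ (n : ℤ) - F.deg 2 (e2 j) by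
        have := hB j; change _ ≤ (n : ℤ) - F.deg 2 (Fin.cast h2.symm j); omega)]
    simp only [e1, e2, finCongr_apply, C, Qa, Qb, Sa, Sb]
    push_cast
    ring_nf
    simp only [Finset.sum_add_distrib, Finset.sum_sub_distrib, ← Finset.mul_sum, ← Finset.sum_mul,
      Finset.sum_const, Finset.card_univ, Fintype.card_fin, nsmul_eq_mul, Finset.sum_neg_distrib]
    push_cast
    ring
  by_contra hne'
  have hs0 : ((Sa : ℚ) - Sb) ≠ 0 := sub_ne_zero.2 (by exact_mod_cast hne')
  obtain ⟨N, hN⟩ := exists_nat_gt (((Z.card : ℚ) + |C|) / |(Sa : ℚ) - Sb|)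
  have hpos := abs_pos.2 hs0
  have hbig : (Z.card : ℚ) + |C| < ((max D N : ℕ) : ℚ) * |(Sa : ℚ) - Sb| := by
    rw [div_lt_iff₀ hpos] at hN
    refine hN.trans_le ?_
    gcongr
    exact le_max_right D N
  have hval := hD (max D N) (le_max_left _ _)
  have hb' : (Module.finrank k (ℳ ((max D N : ℕ) : ℤ)) : ℚ) ≤ Z.card := by exact_mod_cast hbound (max D N)
  have hlow : |((Sa : ℚ) - Sb) * ((max D N : ℕ) : ℚ) + C| ≤ Z.card := by
    rw [← hval, abs_of_nonneg (Nat.cast_nonneg _)]
    exact hb'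
  have := abs_sub_abs_le_abs_sub (((Sa : ℚ) - Sb) * ((max D N : ℕ) : ℚ)) (-C)
  rw [abs_neg, sub_neg_eq_add, abs_mul, Nat.abs_cast] at this
  linarith [mul_comm |(Sa : ℚ) - Sb| ((max D N : ℕ) : ℚ)]

end Groth.Agent.S15432
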