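import Groth.Statements.S15433
import Groth.Agent.S15425
import Groth.Agent.GrSyzLib.CyclicLength

set_option autoImplicit false
universe u
open GrSyz

namespace Groth.Agent.S15433

/-- Let k be a field, S = k[x_0, …, x_r] graded by degree, 𝔪 = (x_0, …, x_r), and M = S/I a graded
quotient of S, given with a surjective degree-preserving S-linear map π : S → M whose kernel I
contains no nonzero linear form. Let y_0, …, y_t be linear forms forming a weakly regular sequence
on M (each a non-zerodivisor modulo the previous ones) and N = M/(y_0, …, y_t)M, given as a graded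
module with a surjective degree-preserving S-linear map σ : M → N with kernel (y_0, …, y_t)M, and
suppose N has finite length ℓ. Then reg M + (r − t) ≤ ℓ, reg being the Castelnuovo–Mumford
regularity of M in the sense of minimal graded free resolutions. (The published statement is reg S_X
≤ deg X − codim X for an arithmetically Cohen–Macaulay subvariety X of P^r not contained in a
hyperplane; this row is the algebraic statement its proof establishes, with S_X any graded quotient
of S by an ideal without linear forms, the maximal regular sequence of linear forms given, deg X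
replaced by the length of S_X/(y_0, …, y_t)S_X and codim X by r − t, which agree with the degree and
the codimension in that situation.) -/
theorem result (k : Type u) [Field k] (r : ℕ)
    (M : Type u) [AddCommGroup M] [Module k M] [Module (MvPolynomial (Fin (r + 1)) k) M]
    [IsScalarTower k (MvPolynomial (Fin (r + 1)) k) M] [Module.Finite (MvPolynomial (Fin (r + 1)) k) M]
    (ℳ : ℤ → Submodule k M) [DirectSum.Decomposition ℳ] [SetLike.GradedSMul (GrSyz.stdGr k (Fin (r + 1))) ℳ]
    (π : MvPolynomial (Fin (r + 1)) k →ₗ[MvPolynomial (Fin (r + 1)) k] M) (hπ : Function.Surjective π)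
    (hπg : GrLC.IsGrHom (GrSyz.stdGr k (Fin (r + 1))) ℳ π)
    (hlin : ∀ x : MvPolynomial (Fin (r + 1)) k, x ∈ GrSyz.stdGr k (Fin (r + 1)) 1 → π x = 0 → x = 0)
    (ys : List (MvPolynomial (Fin (r + 1)) k)) (hys : ∀ y ∈ ys, y ∈ GrSyz.stdGr k (Fin (r + 1)) 1)
    (hreg : RingTheory.Sequence.IsWeaklyRegular M ys)
    (N : Type u) [AddCommGroup N] [Module k N] [Module (MvPolynomial (Fin (r + 1)) k) N]
    [IsScalarTower k (MvPolynomial (Fin (r + 1)) k) N]
    (𝒩 : ℤ → Submodule k N) [DirectSum.Decomposition 𝒩] [SetLike.GradedSMul (GrSyz.stdGr k (Fin (r + 1))) 𝒩]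
    (σ : M →ₗ[MvPolynomial (Fin (r + 1)) k] N) (hσ : Function.Surjective σ) (hσg : GrLC.IsGrHom ℳ 𝒩 σ)
    (hker : LinearMap.ker σ = Ideal.ofList ys • (⊤ : Submodule (MvPolynomial (Fin (r + 1)) k) M))
    (ℓ : ℕ) (hℓ : Module.length (MvPolynomial (Fin (r + 1)) k) N = (ℓ : ℕ∞)) :
    GrSyz.reg (GrSyz.stdGr k (Fin (r + 1))) ℳ (GrSyz.irrel (GrSyz.stdGr k (Fin (r + 1)))).toIdeal + ((((r : ℤ) + 1 - (ys.length : ℤ) : ℤ) : WithTop ℤ) : WithBot (WithTop ℤ)) ≤
      (((ℓ : ℤ) : WithTop ℤ) : WithBot (WithTop ℤ)) := by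
  classical
  haveI : Module.Finite (MvPolynomial (Fin (r + 1)) k) N := Module.Finite.of_surjective σ hσ
  have hfl : IsFiniteLength (MvPolynomial (Fin (r + 1)) k) N :=
    Module.length_ne_top_iff.1 (by rw [hℓ]; exact ENat.coe_ne_top ℓ)
  rw [Groth.Agent.S15425.result k r M ℳ ys hys hreg N 𝒩 σ hσ hσg hker hfl]
  let v : N := σ (π 1)
  have hu : π 1 ∈ ℳ 0 := hπg 0 1 (SetLike.GradedOne.one_mem (A := GrSyz.stdGr k (Fin (r + 1))))
  have hv : v ∈ 𝒩 0 := hσg 0 _ hu
  have hρ : ∀ p : MvPolynomial (Fin (r + 1)) k, p • v = σ (π p) := fun p => by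
    rw [← map_smul, ← map_smul, smul_eq_mul, mul_one]
  have hgen : Function.Surjective (LinearMap.toSpanSingleton (MvPolynomial (Fin (r + 1)) k) N v) := fun y => by
    obtain ⟨m, rfl⟩ := hσ y
    obtain ⟨p, rfl⟩ := hπ m
    exact ⟨p, hρ p⟩
  let L : GrSyz.stdGr k (Fin (r + 1)) 1 →ₗ[k] 𝒩 1 :=
    { toFun := fun p => ⟨(p : MvPolynomial (Fin (r + 1)) k) • v, by
        have := SetLike.GradedSMul.smul_mem (A := GrSyz.stdGr k (Fin (r + 1))) (B := 𝒩) p.2 hv
        rwa [vadd_eq_add, add_zero] at this⟩
      map_add' := fun p q => Subtype.ext (add_smul _ _ v)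
      map_smul' := fun c p => Subtype.ext (smul_assoc c (p : MvPolynomial (Fin (r + 1)) k) v) }
  have hL : Function.Surjective L := fun y => by
    obtain ⟨p, hp⟩ := hgen (y : N)
    refine ⟨DirectSum.decompose (GrSyz.stdGr k (Fin (r + 1))) p 1, Subtype.ext ?_⟩
    show _ • v = (y : N)
    rw [← GrSyzLib.component_smul hv, show p • v = (y : N) from hp]
    exact DirectSum.decompose_of_mem_same 𝒩 y.2
  haveI : FiniteDimensional k (GrSyz.stdGr k (Fin (r + 1)) 1) :=
    Module.finite_of_finrank_pos (by rw [GrSyzLib.finrank_stdGr]; simp [GrSyzLib.hS])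
  haveI : FiniteDimensional k (𝒩 1) := Module.Finite.of_surjective L hL
  let T : Submodule k (MvPolynomial (Fin (r + 1)) k) := Submodule.span k {y | y ∈ ys}
  have hcomp : ∀ w ∈ Ideal.ofList ys, ∀ q : MvPolynomial (Fin (r + 1)) k,
      (DirectSum.decompose (GrSyz.stdGr k (Fin (r + 1))) (q * w) 1 : MvPolynomial (Fin (r + 1)) k) ∈ T := by
    intro w hw
    induction hw using Submodule.span_induction with
    | mem y hy =>
      intro q
      rw [mul_comm q y, GrSyzLib.decompose_mul_of_mem (hys y hy), show (1 : ℤ) - 1 = 0 from sub_self 1]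
      set a : MvPolynomial (Fin (r + 1)) k :=
        (DirectSum.decompose (GrSyz.stdGr k (Fin (r + 1))) q 0 : MvPolynomial (Fin (r + 1)) k) with ha
      have h0 : a ∈ GrSyz.stdGr k (Fin (r + 1)) 0 := SetLike.coe_mem _
      have : a = MvPolynomial.C (MvPolynomial.constantCoeff a) := by
        refine MvPolynomial.ext _ _ fun x => ?_
        rw [MvPolynomial.coeff_C]
        split_ifs with hx
        · subst hx; rw [MvPolynomial.constantCoeff_eq]
        · by_contra hne
          have := (GrSyz.mem_stdGr_iff k _ _ _).1 h0 hne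
          rw [GrSyzLib.weight_one_eq] at this
          exact hx ((Finsupp.degree_eq_zero_iff x).1 (by omega)).symm
      rw [this, mul_comm, MvPolynomial.C_mul']
      exact Submodule.smul_mem _ _ (Submodule.subset_span hy)
    | zero => intro q; simp
    | add x y _ _ hx hy =>
      intro q
      rw [mul_add, DirectSum.decompose_add, DirectSum.add_apply, Submodule.coe_add]
      exact add_mem (hx q) (hy q)
    | smul a x _ hx => intro q; rw [smul_eq_mul, ← mul_assoc]; exact hx _
  haveI : FiniteDimensional k T := FiniteDimensional.span_of_finite k (List.finite_toSet ys)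
  have hker' : Submodule.map (GrSyz.stdGr k (Fin (r + 1)) 1).subtype (LinearMap.ker L) ≤ T := by
    rintro _ ⟨⟨p, hp⟩, hpL, rfl⟩
    have h1 : π p ∈ Ideal.ofList ys • (⊤ : Submodule (MvPolynomial (Fin (r + 1)) k) M) := by
      rw [← hker, LinearMap.mem_ker, ← hρ]
      exact congrArg Subtype.val (LinearMap.mem_ker.1 hpL)
    rw [← LinearMap.range_eq_top.2 hπ, ← Submodule.map_top, ← Submodule.map_smul''] at h1
    obtain ⟨w, hw, hwp⟩ := h1
    rw [SetLike.mem_coe, smul_eq_mul, Ideal.mul_top] at hw
    have hc : (DirectSum.decompose ℳ (π w) 1 : M) =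
        π (DirectSum.decompose (GrSyz.stdGr k (Fin (r + 1))) w 1 : MvPolynomial (Fin (r + 1)) k) := by
      have h2 : ∀ q : MvPolynomial (Fin (r + 1)) k, π q = q • π 1 := fun q => by rw [← map_smul, smul_eq_mul, mul_one]
      rw [h2 w, GrSyzLib.decompose_smul_of_mem hu, sub_zero, ← h2]
    rw [hwp, DirectSum.decompose_of_mem_same ℳ (hπg 1 p hp)] at hc
    have hz : p - (DirectSum.decompose (GrSyz.stdGr k (Fin (r + 1))) w 1 : MvPolynomial (Fin (r + 1)) k) = 0 :=
      hlin _ (sub_mem hp (SetLike.coe_mem _)) (by rw [map_sub, ← hc, sub_self])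
    show p ∈ T
    rw [sub_eq_zero.1 hz]
    simpa using hcomp w hw 1
  have hdim : r + 1 ≤ Module.finrank k (𝒩 1) + ys.length := by
    have h1 := L.finrank_range_add_finrank_ker
    rw [LinearMap.range_eq_top.2 hL, finrank_top, GrSyzLib.finrank_stdGr] at h1
    have h2 : Module.finrank k (LinearMap.ker L) ≤ ys.length := by
      rw [← (GrSyz.stdGr k (Fin (r + 1)) 1).finrank_map_subtype_eq (LinearMap.ker L)]
      refine (Submodule.finrank_mono hker').trans ?_
      have := finrank_span_finset_le_card (R := k) ys.toFinset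
      rw [List.coe_toFinset] at this
      exact this.trans ys.toFinset_card_le
    simp [GrSyzLib.hS] at h1
    omega
  have key : ∀ e : ℤ, 𝒩 e ≠ ⊥ → e + ((r : ℤ) + 1 - (ys.length : ℤ)) ≤ ℓ := by
    intro e he
    obtain ⟨e', rfl⟩ := Int.eq_ofNat_of_zero_le (GrSyzLib.nonneg_of_piece_ne_bot hv hgen he)
    rcases Nat.eq_zero_or_pos e' with rfl | he1
    · by_cases h1 : 𝒩 ((1 : ℕ) : ℤ) = ⊥
      · have : Module.finrank k (𝒩 1) = 0 := by
          rw [show (1 : ℤ) = ((1 : ℕ) : ℤ) from rfl, h1]; exact finrank_bot k _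
        omega
      · have := GrSyzLib.add_finrank_le_length hv hgen hℓ le_rfl h1
        omega
    · have := GrSyzLib.add_finrank_le_length hv hgen hℓ he1 he
      omega
  have hle : GrLC.endDeg (fun n => (𝒩 n).toAddSubgroup) ≤
      (((ℓ : ℤ) - ((r : ℤ) + 1 - (ys.length : ℤ)) : ℤ) : WithTop ℤ) := by
    refine iSup₂_le fun e he => WithBot.coe_le_coe.2 (WithTop.coe_le_coe.2 ?_)
    have := key e fun h => he (by simp [h])
    omega
  refine (add_le_add_left hle _).trans (le_of_eq ?_)
  rw [← WithBot.coe_add, ← WithTop.coe_add]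
  simp

end Groth.Agent.S15433
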