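import Groth.Statements.S15435
import Groth.Agent.PnTildeLib.Cosyz
import Groth.Agent.PnTildeLib.Global

set_option autoImplicit false
universe u
open GrSyz

namespace Groth.Agent.S15435

/-- Let k be a field, S = k[x_0, …, x_r] graded by degree, 𝔪 = (x_0, …, x_r), and M a finitely generated
ℤ-graded S-module; M̃ and the M(d)~ denote the O-modules on P^r_k associated with the pieces M_n, n
≥ 0 (they depend only on the pieces of large degree), with the canonical maps M_d → H^0(P^r_k,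
M(d)~); graded local cohomology is computed from any *injective resolution in the graded category;
let d ≥ 0. Then M is d-regular, that is H^0_𝔪(M) has no nonzero piece above degree d and H^i_𝔪(M)
vanishes in degree d − i + 1 for every i > 0, if and only if: (1) the sheaf M̃ is d-regular,
H^i(P^r_k, M̃(d − i)) = 0 for 1 ≤ i ≤ r; (2) H^0_𝔪(M) vanishes in every degree e > d; and (3) the
canonical map from M_d to the global sections of M(d)~ is surjective. (The published statement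
allows any integer d; it is stated here for d ≥ 0.) -/
theorem result (k : Type u) [Field k] (r : ℕ)
    (M : Type u) [AddCommGroup M] [Module k M] [Module (MvPolynomial (Fin (r + 1)) k) M]
    [IsScalarTower k (MvPolynomial (Fin (r + 1)) k) M] [Module.Finite (MvPolynomial (Fin (r + 1)) k) M]
    (ℳ : ℤ → Submodule k M) [DirectSum.Decomposition ℳ] [SetLike.GradedSMul (GrSyz.stdGr k (Fin (r + 1))) ℳ]
    [SetLike.GradedSMul (CohB1.polyGrading r k) (fun n : ℕ => ℳ (n : ℤ))]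
    (E : GrLC.StarInjRes (GrSyz.stdGr k (Fin (r + 1))) ℳ) (d : ℕ) :
    (GrLC.endDeg (E.Hgr (GrSyz.irrel (GrSyz.stdGr k (Fin (r + 1)))) 0) ≤ (((d : ℤ) : WithTop ℤ) : WithBot (WithTop ℤ)) ∧
        ∀ i : ℕ, 0 < i → E.Hcomp (GrSyz.irrel (GrSyz.stdGr k (Fin (r + 1)))) i ((d : ℤ) - (i : ℤ) + 1) = ⊥) ↔
      (Curv2.IsMRegular k r (GrTilde.tilde (CohB1.polyGrading r k) (fun n : ℕ => ℳ (n : ℤ)) 0) (d : ℤ) ∧
        (∀ e : ℤ, (d : ℤ) < e → E.Hcomp (GrSyz.irrel (GrSyz.stdGr k (Fin (r + 1)))) 0 e = ⊥) ∧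
        Function.Surjective (fun m : ↥(ℳ ((d : ℕ) : ℤ)) => GrTilde.globalOf (CohB1.polyGrading r k) (fun n : ℕ => ℳ (n : ℤ)) m)) := by
  have h0 : GrLC.endDeg (E.Hgr (GrSyz.irrel (GrSyz.stdGr k (Fin (r + 1)))) 0) ≤ (((d : ℤ) : WithTop ℤ) : WithBot (WithTop ℤ)) ↔
      ∀ e : ℤ, (d : ℤ) < e → E.Hcomp (GrSyz.irrel (GrSyz.stdGr k (Fin (r + 1)))) 0 e = ⊥ := by
    rw [GrLC.endDeg, iSup₂_le_iff]
    constructor
    · intro h e he
      by_contra hne
      have := h e (fun h' => hne (Submodule.toAddSubgroup_injective (h'.trans Submodule.bot_toAddSubgroup.symm)))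
      exact absurd (WithTop.coe_le_coe.1 (WithBot.coe_le_coe.1 this)) (not_le.2 he)
    · intro h e hne
      refine WithBot.coe_le_coe.2 (WithTop.coe_le_coe.2 (le_of_not_gt fun he => hne ?_))
      exact (congrArg Submodule.toAddSubgroup (h e he)).trans Submodule.bot_toAddSubgroup
  have hj : ∀ j : ℕ, E.Hcomp (GrSyz.irrel (GrSyz.stdGr k (Fin (r + 1)))) (j + 2) ((d : ℤ) - ((j + 2 : ℕ) : ℤ) + 1) = ⊥ ↔
      Subsingleton (Coh.HH (CohB1.ProjSpace r k) (CohB1.tensorMod (X := CohB1.ProjSpace r k)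
        (GrTilde.tilde (CohB1.polyGrading r k) (fun n : ℕ => ℳ (n : ℤ)) 0)
        (Twist.twistProjSpace r k ((d : ℤ) - ((j + 1 : ℕ) : ℤ)))) (j + 1)) := fun j => by
    rw [PnTildeLib.subsingleton_HH_twist_iff, PnTildeLib.isZero_iff_Hcomp E j,
      show (d : ℤ) - ((j + 2 : ℕ) : ℤ) + 1 = (d : ℤ) - ((j + 1 : ℕ) : ℤ) by push_cast; ring]
  have h1 := (PnTildeLib.glue_iff_Hcomp E (d : ℤ)).symm.trans (PnTildeLib.glue_iff_globalOf ℳ d)
  constructor
  · rintro ⟨ha, hb⟩
    refine ⟨fun i hi _ => ?_, h0.1 ha, h1.1 (by simpa using hb 1 one_pos)⟩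
    obtain ⟨j, rfl⟩ : ∃ j, i = j + 1 := ⟨i - 1, by omega⟩
    exact (hj j).1 (hb (j + 2) (by omega))
  · rintro ⟨hreg, ha, hs⟩
    refine ⟨h0.2 ha, fun i hi => ?_⟩
    obtain rfl | ⟨j, rfl⟩ : i = 1 ∨ ∃ j, i = j + 2 := by
      rcases Nat.lt_or_ge i 2 with h | h
      · exact Or.inl (by omega)
      · exact Or.inr ⟨i - 2, by omega⟩
    · simpa using h1.2 hs
    · by_cases hjr : j + 1 ≤ r
      · exact (hj j).2 (hreg (j + 1) (by omega) hjr)
      · exact (PnTildeLib.isZero_iff_Hcomp E j _).1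
          (GradedCechLib.isZero_of_card_le _ _ (by simp; omega))

end Groth.Agent.S15435
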