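import Groth.Statements.S15439
import Groth.Agent.AlgEqPointLib.Main
-- import your own Groth.Agent.* helpers here

set_option autoImplicit false
set_option maxHeartbeats 2000000
set_option backward.isDefEq.respectTransparency false
universe u
open AlgEqCyc

namespace Groth.Agent.S15439

open AlgebraicGeometry CategoryTheory CategoryTheory.Limits in
/-- Let k be an algebraically closed field, X a scheme over k and C₁, …, Cₙ finitely many closed
subschemes of X, given as closed immersions ιᵢ : Cᵢ → X over k, such that each Cᵢ is smooth over k,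
projective over k, integral and of dimension one and such that the union of the ιᵢ(Cᵢ) is a
connected subset of X. Then for any two k-rational points P and Q of X lying on this union, the
zero-cycles [P] and [Q] on X are algebraically equivalent: [P] − [Q] lies in the subgroup of cycles
on X generated by the elementary algebraically trivial ones. (The published statement speaks of a
connected curve whose irreducible components are smooth and integral and of two of its points,
inside an ambient smooth projective scheme over an algebraically closed field of characteristic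
zero; this row takes any finite family of such curves with connected union in any k-scheme X, k
algebraically closed, and k-rational points.) -/
theorem result (k : Type u) [Field k]
    [IsAlgClosed k] (X : Scheme.{u}) [DecidableEq ↥X] (p : X ⟶ Spec (CommRingCat.of k)) (n : ℕ)
    (C : Fin n → Scheme.{u}) (q : (i : Fin n) → (C i ⟶ Spec (CommRingCat.of k)))
    (ι : (i : Fin n) → (C i ⟶ X)) (hι : ∀ i, IsClosedImmersion (ι i)) (hq : ∀ i, ι i ≫ p = q i)
    (hs : ∀ i, Smooth (q i)) (hpr : ∀ i, Neron.IsProjectiveOver k (Over.mk (q i)))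
    (hint : ∀ i, IsIntegral (C i)) (hd : ∀ i, topologicalKrullDim ↥(C i) = 1)
    (hconn : _root_.IsConnected (⋃ i, Set.range ⇑(ι i)))
    (P Q : Spec (CommRingCat.of k) ⟶ X) (hP : P ≫ p = 𝟙 _) (hQ : Q ≫ p = 𝟙 _)
    (hPC : P (IsLocalRing.closedPoint k) ∈ ⋃ i, Set.range ⇑(ι i))
    (hQC : Q (IsLocalRing.closedPoint k) ∈ ⋃ i, Set.range ⇑(ι i)) :
    AlgEqCyc.IsAlgEquiv p (Function.locallyFinsuppWithin.single (P (IsLocalRing.closedPoint k)) (1 : ℤ))
      (Function.locallyFinsuppWithin.single (Q (IsLocalRing.closedPoint k)) (1 : ℤ)) := by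
  haveI := fun i => hι i
  haveI := fun i => AlgEqPointLib.isProper_of_projective (hpr i)
  haveI := fun i => (AlgEqPointLib.isClosedImmersion_graph' (p := p) (q := q i) (ι i) (hq i))
  refine AlgEqPointLib.chain p (fun i => Set.range (ι i)) (fun i => (ι i).isClosedEmbedding.isClosed_range) hconn
    (fun z => ∃ R : Spec (CommRingCat.of k) ⟶ X, R ≫ p = 𝟙 _ ∧ R (IsLocalRing.closedPoint k) = z) ?_ ?_ hPC hQC
    ⟨P, hP, rfl⟩ ⟨Q, hQ, rfl⟩
  · intro i j hij
    haveI : LocallyOfFiniteType (q i) := inferInstance
    haveI : JacobsonSpace (C i) := LocallyOfFiniteType.jacobsonSpace (q i)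
    obtain ⟨w, ⟨c₀, rfl⟩, hwj⟩ := hij
    obtain ⟨c, hc, hcc⟩ := nonempty_inter_closedPoints (Z := ι i ⁻¹' Set.range (ι j)) ⟨c₀, hwj⟩
      (((ι j).isClosedEmbedding.isClosed_range).preimage (ι i).continuous).isLocallyClosed
    refine ⟨ι i c, ⟨⟨c, rfl⟩, hc⟩, pointOfClosedPoint (q i) c hcc ≫ ι i, ?_, ?_⟩
    · rw [Category.assoc, hq, pointOfClosedPoint_comp]
    · exact congrArg (fun a => ι i a) (pointOfClosedPoint_apply _ _ _ _)
  · rintro i x hx y hy ⟨Rx, hRx, rfl⟩ ⟨Ry, hRy, rfl⟩
    obtain ⟨t₁, ht₁⟩ := AlgEqPointLib.exists_lift_point (ι i) Rx hx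
    obtain ⟨t₂, ht₂⟩ := AlgEqPointLib.exists_lift_point (ι i) Ry hy
    have key := AlgEqPointLib.ptRel_of_curve p (q := q i) (ι i) (hq i) (hs i) (hpr i) (hint i) (hd i) t₁ t₂
      (by rw [← hq i, ← Category.assoc, ht₁, hRx]) (by rw [← hq i, ← Category.assoc, ht₂, hRy])
    rw [← Scheme.Hom.comp_apply, ← Scheme.Hom.comp_apply, ht₁, ht₂] at key
    exact key

end Groth.Agent.S15439
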