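import Groth.Statements.S1544
import Groth.Agent.GeomRedFieldLib.Locus
-- import your own Groth.Agent.* helpers here

set_option autoImplicit false
universe u
open CategoryTheory CategoryTheory.Limits AlgebraicGeometry
attribute [local instance] Curv2.resAlgebra Curv2.stalkAlgebra
open Variety

namespace Groth.Agent.S1544

/-- For an integral scheme over k, geometric reducedness of the scheme is equivalent to geometric
reducedness over k of the function field (the local ring at the generic point), i.e. a separable
extension of k in the sense of commutative algebra. The source states this for varieties;
integrality is what the proof uses. -/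
theorem result (k : Type u) [Field k] (X : Scheme.{u}) [X.Over (Spec (CommRingCat.of k))] [IsIntegral X] :
    GeometricallyReduced (X ↘ (Spec (CommRingCat.of k))) ↔ Algebra.IsGeometricallyReduced k X.functionField := by
  let f := X ↘ Spec (CommRingCat.of k)
  have h := GeomRedFieldLib.grAt_iff f (GeomRedFieldLib.fromSpecStalk_comp_over X (genericPoint X))
  refine ⟨fun hG ↦ h.mp (GeomRedFieldLib.grAt_of_gr f _), fun hG ↦ GeomRedFieldLib.gr_of_grAt_generic f fun x hx ↦ ?_⟩
  obtain rfl := hx (genericPoint X) (genericPoint_specializes x)
  exact h.mpr hG

end Groth.Agent.S1544
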