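import Groth.Statements.S15448
import Groth.Agent.WeilLib.Point
import Groth.Agent.WeilLib.Dim

set_option autoImplicit false
universe u v
open CategoryTheory AlgebraicGeometry
open WeilCoh

namespace Groth.Agent.S15448

/-- For a Weil cohomology theory H^* (coefficients in K of characteristic zero, on nonsingular connected
projective varieties over an algebraically closed field k), a morphism f : X → Y of such varieties
and an irreducible closed subvariety Z ⊆ X, f_*(cl(Z)) = deg(Z/f(Z)) · cl(f(Z)). Here Z is given by
its generic point ξ, f(Z) is the closed irreducible subset with generic point f(ξ), and deg(Z/f(Z))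
is the degree of κ(ξ) over κ(f(ξ)), equal to 0 when this extension is infinite, i.e. when dim f(Z) <
dim Z; both sides are read in the total cohomology ring of Y. -/
theorem result (k : Type u) [Field k] [IsAlgClosed k] (K : Type v) [Field K] [CharZero K]
    (T : WeilCoh.Theory k K) (X Y : WeilCoh.Var k) (f : X ⟶ Y)
    (ξ : ↥X.obj.left) :
    (T.push f (2 * (WeilCoh.codim X.obj.left ξ : ℤ)) ⟨T.cl X ξ, T.cl_mem X ξ⟩ : T.H Y) =
      ((WeilCoh.sm f).residueDegree ξ : K) • T.cl Y (WeilCoh.sm f ξ) := by
  have h1 := WeilLib.codim_cast X ξ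
  have h2 := WeilLib.codim_cast Y (WeilCoh.sm f ξ)
  haveI := WeilLib.locallyOfFiniteType_hom X
  haveI := WeilLib.locallyOfFiniteType_hom Y
  have key : ∀ b ∈ T.gr Y (WeilLib.top X - 2 * (WeilCoh.codim X.obj.left ξ : ℤ)),
      T.tr X (T.cl X ξ * T.pull f b) =
        ((WeilCoh.sm f).residueDegree ξ : K) * T.tr Y (T.cl Y (WeilCoh.sm f ξ) * b) :=
    fun b hb => T.cl_push f ξ b (by
      convert hb using 2
      simp only [WeilLib.top]; omega)
  by_cases hd : (WeilCoh.sm f).residueDegree ξ = 0
  · simp only [hd, Nat.cast_zero, zero_mul] at key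
    rw [hd, Nat.cast_zero, zero_smul]
    refine WeilLib.push_eq T f _ _ (Submodule.zero_mem _) fun b hb => ?_
    rw [zero_mul, map_zero]
    exact (key b hb).symm
  · have hp : WeilCoh.pdim X.obj.left ξ = WeilCoh.pdim Y.obj.left (WeilCoh.sm f ξ) :=
      WeilLib.pdim_eq_of_residueDegree_ne_zero f.hom ξ hd
    refine WeilLib.push_eq T f _ _ ?_ fun b hb => ?_
    · refine Submodule.smul_mem _ _ ?_
      convert T.cl_mem Y (WeilCoh.sm f ξ) using 2
      simp only [WeilLib.top]; omega
    · rw [smul_mul_assoc, map_smul, smul_eq_mul]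
      exact (key b hb).symm

end Groth.Agent.S15448
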