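import Groth.Statements.S15453
import Groth.Agent.S15452
-- import your own Groth.Agent.* helpers here

set_option autoImplicit false
universe u v
open CategoryTheory AlgebraicGeometry
open WeilCoh

namespace Groth.Agent.S15453

/-- Let k₀ be a finite field with q elements, k an algebraically closed field containing k₀, H^* a Weil
cohomology theory, with coefficient field K of characteristic zero, on nonsingular connected
projective varieties over k, X a scheme of finite type over k₀ whose base change X̄ = X ×_{k₀} k is
such a variety (as it is when X is nonsingular, projective and geometrically connected), and F =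
Frob_{X,q} × id the k-endomorphism of X̄ induced by the q-Frobenius of X. Then Z(X, t) ∈ ℚ(t): there
are polynomials P, Q ∈ ℚ[t], Q ≠ 0, with Z(X, t) · Q(t) = P(t) in ℚ⟦t⟧. (The existence of the Weil
cohomology theory is the hypothesis; F and the product square enter only to fix the setting of the
cohomological proof.) The q-Frobenius of X is pinned as the endomorphism that is the identity on
points and the q-th power on sections, X̄ as a cartesian square over Spec k → Spec k₀, and F by its
compatibility with the projection to X; the product X̄ ×_k X̄, on which the proof applies the trace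
formula, is given as any object of the category with a cartesian square p, q to X̄ over Spec k. (The
published statement takes k to be an algebraic closure of the prime field; this row allows any
algebraically closed field containing k₀.) -/
theorem result (k₀ : Type u) [Field k₀] [Finite k₀] (k : Type u) [Field k] [IsAlgClosed k] [Algebra k₀ k]
    (K : Type v) [Field K] [CharZero K] (T : WeilCoh.Theory k K)
    {X : Scheme.{u}} (f : X ⟶ Spec (CommRingCat.of k₀)) [LocallyOfFiniteType f] [QuasiCompact f]
    (FX : X ⟶ X) (hFb : FX.base = 𝟙 _) (hle : ∀ U : X.Opens, U ≤ FX ⁻¹ᵁ U)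
    (hFapp : ∀ (U : X.Opens) (s : Γ(X, U)), (FX.appLE U U (hle U)).hom s = s ^ Nat.card k₀)
    (Xb : WeilCoh.Var k) (π : Xb.obj.left ⟶ X)
    (hπ : IsPullback π Xb.obj.hom f (Spec.map (CommRingCat.ofHom (algebraMap k₀ k))))
    (F : Xb ⟶ Xb) (hF : WeilCoh.sm F ≫ π = π ≫ FX)
    (Pb : WeilCoh.Var k) (p q : Pb ⟶ Xb) (hP : WeilCoh.IsProd p q) :
    ∃ P Q : Polynomial ℚ, Q ≠ 0 ∧ Zeta.zetaFun f * (Q : PowerSeries ℚ) = (P : PowerSeries ℚ) := by
  have h := Groth.Agent.S15452.result k₀ k K T f FX hFb hle hFapp Xb π hπ F hF Pb p q hP
  classical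
  obtain ⟨ε, hε⟩ := LinearMap.exists_leftInverse_of_injective (Algebra.linearMap ℚ K)
    (LinearMap.ker_eq_bot.2 (algebraMap ℚ K).injective)
  have hε' : ∀ r : ℚ, ε (algebraMap ℚ K r) = r := fun r => LinearMap.congr_fun hε r
  set E : Polynomial K := ∏ i ∈ Finset.range (WeilCoh.dim Xb.obj.left + 1),
    (LinearMap.charpoly (T.pullDeg F ((2 * i : ℕ) : ℤ))).reverse
  set O : Polynomial K := ∏ i ∈ Finset.range (WeilCoh.dim Xb.obj.left),
    (LinearMap.charpoly (T.pullDeg F ((2 * i + 1 : ℕ) : ℤ))).reverse
  have hEO : PowerSeries.map (algebraMap ℚ K) (Zeta.zetaFun f) * (E : PowerSeries K) =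
      (O : PowerSeries K) := by
    simpa only [E, O, ← Polynomial.coeToPowerSeries.ringHom_apply, map_prod] using h
  let proj : Polynomial K → Polynomial ℚ := fun R =>
    ∑ i ∈ Finset.range (R.natDegree + 1), Polynomial.monomial i (ε (R.coeff i))
  have hproj : ∀ (R : Polynomial K) (n : ℕ), (proj R).coeff n = ε (R.coeff n) := fun R n => by
    simp only [proj, Polynomial.finsetSum_coeff, Polynomial.coeff_monomial, Finset.sum_ite_eq',
      Finset.mem_range]
    split_ifs with hn
    · rfl
    · rw [Polynomial.coeff_eq_zero_of_natDegree_lt (by omega), map_zero]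
  refine ⟨proj O, proj E, fun h0 => ?_, ?_⟩
  · have h1 := hproj E 0
    rw [h0, Polynomial.coeff_zero] at h1
    have hE0 : E.coeff 0 = 1 := by
      rw [← Polynomial.constantCoeff_coe, ← Polynomial.coeToPowerSeries.ringHom_apply, map_prod,
        map_prod]
      exact Finset.prod_eq_one fun i _ => WeilLib.constantCoeff_reverse_charpoly _
    rw [hE0, ← map_one (algebraMap ℚ K), hε'] at h1
    exact zero_ne_one h1
  · ext n
    have hn := congrArg (PowerSeries.coeff n) hEO
    rw [PowerSeries.coeff_mul, Polynomial.coeff_coe] at hn
    rw [PowerSeries.coeff_mul, Polynomial.coeff_coe, hproj, ← hn, map_sum]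
    refine Finset.sum_congr rfl fun p _ => ?_
    rw [Polynomial.coeff_coe, hproj, Polynomial.coeff_coe, PowerSeries.coeff_map, ← Algebra.smul_def,
      map_smul, smul_eq_mul]

end Groth.Agent.S15453
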