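import Groth.Statements.S15465
import Mathlib
-- import your own Groth.Agent.* helpers here

set_option autoImplicit false
set_option linter.style.haveILetI false
universe v u
open HomAlg

namespace Groth.Agent.S15465

open CategoryTheory CategoryTheory.Limits in
/-- In an abelian category let 0 → A₂ → B₂ → C₂ → 0 (maps i₂, π₂), 0 → A₁ → A₂ → A₃ → 0 (maps i₁, p₁)
and 0 → C₁ → C₂ → C₃ → 0 (maps j, q) be short exact sequences, let α = i₁ ≫ i₂ : A₁ → B₂ and β = π₂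
≫ q : B₂ → C₃, and let K = ker β / im α be the homology object of the complex A₁ → B₂ → C₃. Let f :
A₃ → K be the map induced by i₂ (the unique map whose composite with p₁ is the homology class of the
cycle i₂) and g : K → C₁ the map induced by π₂ (the unique map whose composite with j is the map K →
C₂ induced by π₂). Then 0 → A₃ → K → C₁ → 0, with maps f and g, is a short exact sequence. (The
hypotheses w, h₂, h₃ are consequences of i₂ ≫ π₂ = 0, carried so that the maps can be named; the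
published statement assumes in addition that the category has enough injective objects, which plays
no role in this assertion.) -/
theorem result
    {C : Type u} [Category.{v} C] [Abelian C] {A₁ A₂ A₃ B₂ C₁ C₂ C₃ : C}
    (i₁ : A₁ ⟶ A₂) (p₁ : A₂ ⟶ A₃) (wA : i₁ ≫ p₁ = 0) (hA : (ShortComplex.mk i₁ p₁ wA).ShortExact)
    (i₂ : A₂ ⟶ B₂) (π₂ : B₂ ⟶ C₂) (wB : i₂ ≫ π₂ = 0) (hB : (ShortComplex.mk i₂ π₂ wB).ShortExact)
    (j : C₁ ⟶ C₂) (q : C₂ ⟶ C₃) (wC : j ≫ q = 0) (hC : (ShortComplex.mk j q wC).ShortExact)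
    (w : (i₁ ≫ i₂) ≫ (π₂ ≫ q) = 0) (h₂ : i₂ ≫ (π₂ ≫ q) = 0) (h₃ : (i₁ ≫ i₂) ≫ π₂ = 0)
    (f : A₃ ⟶ (CategoryTheory.ShortComplex.mk (i₁ ≫ i₂) (π₂ ≫ q) w).homology)
    (g : (CategoryTheory.ShortComplex.mk (i₁ ≫ i₂) (π₂ ≫ q) w).homology ⟶ C₁)
    (hf : p₁ ≫ f = (CategoryTheory.ShortComplex.mk (i₁ ≫ i₂) (π₂ ≫ q) w).liftCycles i₂ h₂ ≫ (CategoryTheory.ShortComplex.mk (i₁ ≫ i₂) (π₂ ≫ q) w).homologyπ)
    (hg : g ≫ j = (CategoryTheory.ShortComplex.mk (i₁ ≫ i₂) (π₂ ≫ q) w).homologyι ≫ (CategoryTheory.ShortComplex.mk (i₁ ≫ i₂) (π₂ ≫ q) w).descOpcycles π₂ h₃) :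
    ∃ wfg : f ≫ g = 0, (ShortComplex.mk f g wfg).ShortExact := by
  haveI := hA.epi_g
  haveI : Mono i₂ := hB.mono_f
  haveI : Epi π₂ := hB.epi_g
  haveI : Mono j := hC.mono_f
  haveI : Epi p₁ := hA.epi_g
  have hπg : (ShortComplex.mk (i₁ ≫ i₂) (π₂ ≫ q) w).homologyπ ≫ g ≫ j = (ShortComplex.mk (i₁ ≫ i₂) (π₂ ≫ q) w).iCycles ≫ π₂ := by
    rw [hg, (ShortComplex.mk (i₁ ≫ i₂) (π₂ ≫ q) w).homology_π_ι_assoc, (ShortComplex.mk (i₁ ≫ i₂) (π₂ ≫ q) w).p_descOpcycles]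
  have wfg : f ≫ g = 0 := by
    rw [← cancel_epi p₁, ← cancel_mono j, reassoc_of% hf, Category.assoc, Category.assoc, hπg,
      (ShortComplex.mk (i₁ ≫ i₂) (π₂ ≫ q) w).liftCycles_i_assoc, wB, comp_zero, zero_comp]
  have hTπ : (ShortComplex.mk (ShortComplex.mk (i₁ ≫ i₂) (π₂ ≫ q) w).toCycles (ShortComplex.mk (i₁ ≫ i₂) (π₂ ≫ q) w).homologyπ (ShortComplex.mk (i₁ ≫ i₂) (π₂ ≫ q) w).toCycles_comp_homologyπ).Exact :=
    ShortComplex.exact_of_g_is_cokernel _ (ShortComplex.mk (i₁ ≫ i₂) (π₂ ≫ q) w).homologyIsCokernel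
  refine ⟨wfg, { exact := ?_, mono_f := ?_, epi_g := ?_ }⟩
  · rw [ShortComplex.exact_iff_exact_up_to_refinements]
    intro A z hz
    change z ≫ g = 0 at hz
    obtain ⟨A', π, hπ, c, hc⟩ := surjective_up_to_refinements_of_epi (ShortComplex.mk (i₁ ≫ i₂) (π₂ ≫ q) w).homologyπ z
    have h0 : (c ≫ (ShortComplex.mk (i₁ ≫ i₂) (π₂ ≫ q) w).iCycles) ≫ π₂ = 0 := by
      rw [Category.assoc, ← hπg, ← reassoc_of% hc, reassoc_of% hz, zero_comp, comp_zero]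
    refine ⟨A', π, hπ, hB.exact.lift _ h0 ≫ p₁, ?_⟩
    change π ≫ z = (hB.exact.lift _ h0 ≫ p₁) ≫ f
    rw [hc, Category.assoc, hf, ← Category.assoc]
    congr 1
    rw [← cancel_mono (ShortComplex.mk (i₁ ≫ i₂) (π₂ ≫ q) w).iCycles, Category.assoc, (ShortComplex.mk (i₁ ≫ i₂) (π₂ ≫ q) w).liftCycles_i]
    exact (hB.exact.lift_f _ h0).symm
  · refine Preadditive.mono_of_cancel_zero _ fun {A} a ha => ?_
    obtain ⟨A', π, hπ, x, hx⟩ := surjective_up_to_refinements_of_epi p₁ a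
    have h0 : (x ≫ (ShortComplex.mk (i₁ ≫ i₂) (π₂ ≫ q) w).liftCycles i₂ h₂) ≫ (ShortComplex.mk (i₁ ≫ i₂) (π₂ ≫ q) w).homologyπ = 0 := by
      rw [Category.assoc, ← hf, ← reassoc_of% hx, ha, comp_zero]
    obtain ⟨A₂', π', hπ', y, hy⟩ := hTπ.exact_up_to_refinements _ h0
    have hy' := congrArg (· ≫ (ShortComplex.mk (i₁ ≫ i₂) (π₂ ≫ q) w).iCycles) hy
    simp only [Category.assoc, (ShortComplex.mk (i₁ ≫ i₂) (π₂ ≫ q) w).liftCycles_i, (ShortComplex.mk (i₁ ≫ i₂) (π₂ ≫ q) w).toCycles_i] at hy'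
    have : (π' ≫ x) ≫ i₂ = (y ≫ i₁) ≫ i₂ := by simpa using hy'
    rw [cancel_mono] at this
    have h1 : π' ≫ π ≫ a = 0 := by
      rw [hx, ← Category.assoc, this, Category.assoc, wA, comp_zero]
    exact zero_of_epi_comp π (zero_of_epi_comp π' h1)
  · rw [epi_iff_surjective_up_to_refinements]
    intro A a
    obtain ⟨A', π, hπ, b, hb⟩ := surjective_up_to_refinements_of_epi π₂ (a ≫ j)
    have h0 : b ≫ (π₂ ≫ q) = 0 := by
      rw [← reassoc_of% hb, wC, comp_zero, comp_zero]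
    refine ⟨A', π, hπ, (ShortComplex.mk (i₁ ≫ i₂) (π₂ ≫ q) w).liftCycles b h0 ≫ (ShortComplex.mk (i₁ ≫ i₂) (π₂ ≫ q) w).homologyπ, ?_⟩
    rw [← cancel_mono j, Category.assoc, hb, Category.assoc, Category.assoc, hπg,
      (ShortComplex.mk (i₁ ≫ i₂) (π₂ ≫ q) w).liftCycles_i_assoc]

end Groth.Agent.S15465
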