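import Groth.Statements.S15466
import Mathlib
-- import your own Groth.Agent.* helpers here

set_option autoImplicit false
set_option linter.style.haveILetI false
universe v u
open HomAlg

namespace Groth.Agent.S15466

open CategoryTheory CategoryTheory.Limits in
theorem phi_eq {C : Type u} [Category.{v} C] [Abelian C] (S : ShortComplex C) {Q : C}
    (s : Q ⟶ S.homology) [Mono s] :
    (Subobject.map S.iCycles).obj ((Subobject.pullback S.homologyπ).obj (imageSubobject s)) =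
      Subobject.mk (pullback.snd s S.homologyπ ≫ S.iCycles) := by
  rw [imageSubobject_mono, Subobject.pullback_obj_mk (IsPullback.of_hasPullback s S.homologyπ)]
  rfl

open CategoryTheory CategoryTheory.Limits in
/-- In an abelian category let 0 → A₂ → B₂ → C₂ → 0 (maps i₂, π₂), 0 → A₁ → A₂ → A₃ → 0 (maps i₁, p₁)
and 0 → C₁ → C₂ → C₃ → 0 (maps j, q) be short exact sequences, α = i₁ ≫ i₂, β = π₂ ≫ q, K = ker β /
im α, and let f : A₃ → K and g : K → C₁ be the maps induced by i₂ and π₂ (pinned by their defining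
squares), so that 0 → A₃ → K → C₁ → 0 is short exact. Sending a section s of g to the subobject B₁
of B₂ obtained by pulling the image of s back along ker β → K and then including ker β into B₂ is a
bijection from the sections of g (equivalently, the splittings of that sequence) onto the subobjects
B₁ of B₂ that complete the data to a 3 × 3 diagram with exact rows and columns: there are maps A₁ →
B₁ → C₁ over i₁ ≫ i₂ and under π₂ forming a short exact sequence, and maps A₃ → B₂/B₁ → C₃ under i₂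
and over π₂ ≫ q forming a short exact sequence. (The hypotheses w, h₂, h₃ are consequences of i₂ ≫
π₂ = 0, carried so that the maps can be named; the published statement assumes in addition that the
category has enough injective objects, which plays no role here.) -/
theorem result
    {C : Type u} [Category.{v} C] [Abelian C] {A₁ A₂ A₃ B₂ C₁ C₂ C₃ : C}
    (i₁ : A₁ ⟶ A₂) (p₁ : A₂ ⟶ A₃) (wA : i₁ ≫ p₁ = 0) (hA : (ShortComplex.mk i₁ p₁ wA).ShortExact)
    (i₂ : A₂ ⟶ B₂) (π₂ : B₂ ⟶ C₂) (wB : i₂ ≫ π₂ = 0) (hB : (ShortComplex.mk i₂ π₂ wB).ShortExact)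
    (j : C₁ ⟶ C₂) (q : C₂ ⟶ C₃) (wC : j ≫ q = 0) (hC : (ShortComplex.mk j q wC).ShortExact)
    (w : (i₁ ≫ i₂) ≫ (π₂ ≫ q) = 0) (h₂ : i₂ ≫ (π₂ ≫ q) = 0) (h₃ : (i₁ ≫ i₂) ≫ π₂ = 0)
    (f : A₃ ⟶ (CategoryTheory.ShortComplex.mk (i₁ ≫ i₂) (π₂ ≫ q) w).homology)
    (g : (CategoryTheory.ShortComplex.mk (i₁ ≫ i₂) (π₂ ≫ q) w).homology ⟶ C₁)
    (hf : p₁ ≫ f = (CategoryTheory.ShortComplex.mk (i₁ ≫ i₂) (π₂ ≫ q) w).liftCycles i₂ h₂ ≫ (CategoryTheory.ShortComplex.mk (i₁ ≫ i₂) (π₂ ≫ q) w).homologyπ)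
    (hg : g ≫ j = (CategoryTheory.ShortComplex.mk (i₁ ≫ i₂) (π₂ ≫ q) w).homologyι ≫ (CategoryTheory.ShortComplex.mk (i₁ ≫ i₂) (π₂ ≫ q) w).descOpcycles π₂ h₃) :
    (∀ B₁ : Subobject B₂,
      (∃ (a : A₁ ⟶ (B₁ : C)) (c : (B₁ : C) ⟶ C₁) (wac : a ≫ c = 0)
         (a' : A₃ ⟶ cokernel B₁.arrow) (c' : cokernel B₁.arrow ⟶ C₃) (wac' : a' ≫ c' = 0),
         a ≫ B₁.arrow = i₁ ≫ i₂ ∧ c ≫ j = B₁.arrow ≫ π₂ ∧ (ShortComplex.mk a c wac).ShortExact ∧
         p₁ ≫ a' = i₂ ≫ cokernel.π B₁.arrow ∧ cokernel.π B₁.arrow ≫ c' = π₂ ≫ q ∧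
         (ShortComplex.mk a' c' wac').ShortExact) ↔
      ∃ s : C₁ ⟶ (CategoryTheory.ShortComplex.mk (i₁ ≫ i₂) (π₂ ≫ q) w).homology, s ≫ g = 𝟙 C₁ ∧
        (Subobject.map (CategoryTheory.ShortComplex.mk (i₁ ≫ i₂) (π₂ ≫ q) w).iCycles).obj ((Subobject.pullback (CategoryTheory.ShortComplex.mk (i₁ ≫ i₂) (π₂ ≫ q) w).homologyπ).obj (imageSubobject s)) = B₁) ∧
    (∀ s s' : C₁ ⟶ (CategoryTheory.ShortComplex.mk (i₁ ≫ i₂) (π₂ ≫ q) w).homology, s ≫ g = 𝟙 C₁ → s' ≫ g = 𝟙 C₁ →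
      (Subobject.map (CategoryTheory.ShortComplex.mk (i₁ ≫ i₂) (π₂ ≫ q) w).iCycles).obj ((Subobject.pullback (CategoryTheory.ShortComplex.mk (i₁ ≫ i₂) (π₂ ≫ q) w).homologyπ).obj (imageSubobject s)) = (Subobject.map (CategoryTheory.ShortComplex.mk (i₁ ≫ i₂) (π₂ ≫ q) w).iCycles).obj ((Subobject.pullback (CategoryTheory.ShortComplex.mk (i₁ ≫ i₂) (π₂ ≫ q) w).homologyπ).obj (imageSubobject s')) → s = s') := by
  haveI : Epi p₁ := hA.epi_g
  haveI : Mono i₁ := hA.mono_f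
  haveI : Mono i₂ := hB.mono_f
  haveI : Epi π₂ := hB.epi_g
  haveI : Mono j := hC.mono_f
  haveI : Epi q := hC.epi_g
  have hπg : (ShortComplex.mk (i₁ ≫ i₂) (π₂ ≫ q) w).homologyπ ≫ g ≫ j = (ShortComplex.mk (i₁ ≫ i₂) (π₂ ≫ q) w).iCycles ≫ π₂ := by
    rw [hg, ShortComplex.homology_π_ι_assoc, ShortComplex.p_descOpcycles]
  have hTπ : (ShortComplex.mk (ShortComplex.mk (i₁ ≫ i₂) (π₂ ≫ q) w).toCycles (ShortComplex.mk (i₁ ≫ i₂) (π₂ ≫ q) w).homologyπ (ShortComplex.mk (i₁ ≫ i₂) (π₂ ≫ q) w).toCycles_comp_homologyπ).Exact :=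
    ShortComplex.exact_of_g_is_cokernel _ (ShortComplex.mk (i₁ ≫ i₂) (π₂ ≫ q) w).homologyIsCokernel
  refine ⟨fun B₁ => ⟨?_, ?_⟩, ?_⟩
  · rintro ⟨a, c, wac, a', c', wac', ha, hc, hac, -, -, -⟩
    haveI : Epi c := hac.epi_g
    have hd : B₁.arrow ≫ (π₂ ≫ q) = 0 := by
      rw [← reassoc_of% hc, wC, comp_zero]
    set ℓ := (ShortComplex.mk (i₁ ≫ i₂) (π₂ ≫ q) w).liftCycles B₁.arrow hd with hℓdef
    have hℓ : ℓ ≫ (ShortComplex.mk (i₁ ≫ i₂) (π₂ ≫ q) w).iCycles = B₁.arrow := (ShortComplex.mk (i₁ ≫ i₂) (π₂ ≫ q) w).liftCycles_i _ _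
    have haℓ : a ≫ ℓ = (ShortComplex.mk (i₁ ≫ i₂) (π₂ ≫ q) w).toCycles := by
      rw [← cancel_mono (ShortComplex.mk (i₁ ≫ i₂) (π₂ ≫ q) w).iCycles, Category.assoc, hℓ, ShortComplex.toCycles_i]
      exact ha
    have hz : a ≫ ℓ ≫ (ShortComplex.mk (i₁ ≫ i₂) (π₂ ≫ q) w).homologyπ = 0 := by
      rw [← Category.assoc, haℓ]
      exact (ShortComplex.mk (i₁ ≫ i₂) (π₂ ≫ q) w).toCycles_comp_homologyπ
    haveI : Epi (ShortComplex.mk a c wac).g := ‹Epi c›
    obtain ⟨s, hs⟩ : ∃ s, c ≫ s = ℓ ≫ (ShortComplex.mk (i₁ ≫ i₂) (π₂ ≫ q) w).homologyπ :=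
      ⟨hac.exact.desc _ hz, hac.exact.g_desc _ hz⟩
    have hsg : s ≫ g = 𝟙 C₁ := by
      rw [← cancel_epi c, ← cancel_mono j, Category.assoc, Category.assoc, reassoc_of% hs, hπg,
        reassoc_of% hℓ, ← hc, Category.comp_id]
    haveI : IsSplitMono s := IsSplitMono.mk' ⟨g, hsg⟩
    refine ⟨s, hsg, ?_⟩
    rw [phi_eq]
    refine le_antisymm ?_ (Subobject.le_mk_of_comm (pullback.lift c ℓ hs) (by
      rw [pullback.lift_snd_assoc, hℓ]))
    set x := pullback.snd s (ShortComplex.mk (i₁ ≫ i₂) (π₂ ≫ q) w).homologyπ ≫ (ShortComplex.mk (i₁ ≫ i₂) (π₂ ≫ q) w).iCycles with hx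
    have h0 : x ≫ cokernel.π B₁.arrow = 0 := by
      obtain ⟨A', π, hπ, b, hb⟩ :=
        surjective_up_to_refinements_of_epi c (pullback.fst s (ShortComplex.mk (i₁ ≫ i₂) (π₂ ≫ q) w).homologyπ)
      have h1 : (π ≫ pullback.snd s (ShortComplex.mk (i₁ ≫ i₂) (π₂ ≫ q) w).homologyπ - b ≫ ℓ) ≫ (ShortComplex.mk (i₁ ≫ i₂) (π₂ ≫ q) w).homologyπ = 0 := by
        rw [Preadditive.sub_comp, Category.assoc, Category.assoc, ← hs, ← reassoc_of% hb,
          pullback.condition, sub_self]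
      obtain ⟨A'', π', hπ', v, hv⟩ := hTπ.exact_up_to_refinements _ h1
      have hv' := congrArg (· ≫ (ShortComplex.mk (i₁ ≫ i₂) (π₂ ≫ q) w).iCycles) hv
      simp only [Category.assoc, Preadditive.comp_sub, Preadditive.sub_comp, hℓ,
        ShortComplex.toCycles_i, sub_eq_iff_eq_add] at hv'
      have e : π' ≫ π ≫ x = v ≫ a ≫ B₁.arrow + π' ≫ b ≫ B₁.arrow := by
        rw [ha]; exact hv'
      haveI : Epi (π' ≫ π) := epi_comp _ _
      rw [← cancel_epi (π' ≫ π), comp_zero, Category.assoc,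
        ← Category.assoc π, ← Category.assoc π', e]
      simp
    exact Subobject.mk_le_of_comm
      ((ShortComplex.exact_cokernel B₁.arrow).lift x h0)
      ((ShortComplex.exact_cokernel B₁.arrow).lift_f x h0)
  · rintro ⟨s, hsg, rfl⟩
    haveI : IsSplitMono s := IsSplitMono.mk' ⟨g, hsg⟩
    rw [phi_eq]
    set m := pullback.snd s (ShortComplex.mk (i₁ ≫ i₂) (π₂ ≫ q) w).homologyπ ≫ (ShortComplex.mk (i₁ ≫ i₂) (π₂ ≫ q) w).iCycles with hm
    set B₁ := Subobject.mk m with hB₁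
    set e := Subobject.underlyingIso m with he
    have harr : B₁.arrow = e.hom ≫ m := (Subobject.underlyingIso_hom_comp_eq_mk m).symm
    have hfs : pullback.fst s (ShortComplex.mk (i₁ ≫ i₂) (π₂ ≫ q) w).homologyπ ≫ j = m ≫ π₂ := by
      rw [hm, Category.assoc, ← hπg, ← pullback.condition_assoc, reassoc_of% hsg]
    let c : (B₁ : C) ⟶ C₁ := e.hom ≫ pullback.fst s (ShortComplex.mk (i₁ ≫ i₂) (π₂ ≫ q) w).homologyπ
    have hc : c ≫ j = B₁.arrow ≫ π₂ := by
      rw [harr, Category.assoc, Category.assoc, hfs]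
    let l : A₁ ⟶ Limits.pullback s (ShortComplex.mk (i₁ ≫ i₂) (π₂ ≫ q) w).homologyπ := pullback.lift 0 (ShortComplex.mk (i₁ ≫ i₂) (π₂ ≫ q) w).toCycles
      (zero_comp.trans (ShortComplex.mk (i₁ ≫ i₂) (π₂ ≫ q) w).toCycles_comp_homologyπ.symm)
    let a : A₁ ⟶ (B₁ : C) := l ≫ e.inv
    have ha : a ≫ B₁.arrow = i₁ ≫ i₂ := by
      simp only [a, l, hm, harr, Category.assoc, Iso.inv_hom_id_assoc, pullback.lift_snd_assoc,
        ShortComplex.toCycles_i]
    have wac : a ≫ c = 0 := by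
      rw [← cancel_mono j, Category.assoc, hc, reassoc_of% ha, wB, comp_zero, zero_comp]
    have hac : (ShortComplex.mk a c wac).ShortExact := by
      refine { exact := ?_, mono_f := ?_, epi_g := ?_ }
      · rw [ShortComplex.exact_iff_exact_up_to_refinements]
        intro A z hz
        change z ≫ c = 0 at hz
        have hk : ((z ≫ e.hom) ≫ pullback.snd s (ShortComplex.mk (i₁ ≫ i₂) (π₂ ≫ q) w).homologyπ) ≫ (ShortComplex.mk (i₁ ≫ i₂) (π₂ ≫ q) w).homologyπ = 0 := by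
          simp only [Category.assoc, ← pullback.condition]
          simp only [c] at hz
          rw [reassoc_of% hz, zero_comp]
        obtain ⟨A', π, hπ, v, hv⟩ := hTπ.exact_up_to_refinements _ hk
        refine ⟨A', π, hπ, v, ?_⟩
        change π ≫ z = v ≫ a
        rw [← cancel_mono B₁.arrow, Category.assoc, Category.assoc, ha, harr]
        have hv' := congrArg (· ≫ (ShortComplex.mk (i₁ ≫ i₂) (π₂ ≫ q) w).iCycles) hv
        simp only [Category.assoc, ShortComplex.toCycles_i] at hv'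
        exact hv'
      · exact mono_of_mono_fac ha
      · exact inferInstanceAs (Epi (e.hom ≫ pullback.fst s (ShortComplex.mk (i₁ ≫ i₂) (π₂ ≫ q) w).homologyπ))
    haveI : Epi c := hac.epi_g
    have hd : B₁.arrow ≫ (π₂ ≫ q) = 0 := by rw [← reassoc_of% hc, wC, comp_zero]
    have hz : i₁ ≫ i₂ ≫ cokernel.π B₁.arrow = 0 := by
      rw [← reassoc_of% ha, cokernel.condition, comp_zero]
    haveI : Epi (ShortComplex.mk i₁ p₁ wA).g := ‹Epi p₁›
    obtain ⟨a', ha'⟩ : ∃ a', p₁ ≫ a' = i₂ ≫ cokernel.π B₁.arrow :=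
      ⟨hA.exact.desc _ hz, hA.exact.g_desc _ hz⟩
    let c' := cokernel.desc B₁.arrow (π₂ ≫ q) hd
    have hc' : cokernel.π B₁.arrow ≫ c' = π₂ ≫ q := cokernel.π_desc _ _ _
    have wac' : a' ≫ c' = 0 := by
      rw [← cancel_epi p₁, reassoc_of% ha', hc', h₂, comp_zero]
    have hcok : (ShortComplex.mk B₁.arrow (cokernel.π B₁.arrow) (cokernel.condition _)).Exact :=
      ShortComplex.exact_cokernel _
    refine ⟨a, c, wac, a', c', wac', ha, hc, hac, ha', hc',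
      { exact := ?_, mono_f := ?_, epi_g := ?_ }⟩
    · rw [ShortComplex.exact_iff_exact_up_to_refinements]
      intro A z hz
      change z ≫ c' = 0 at hz
      obtain ⟨A₁', π, hπ, x, hx⟩ := surjective_up_to_refinements_of_epi (cokernel.π B₁.arrow) z
      have h0 : (x ≫ π₂) ≫ q = 0 := by
        refine (Category.assoc _ _ _).trans ((congrArg (x ≫ ·) hc'.symm).trans ?_)
        dsimp only
        rw [← reassoc_of% hx, hz, comp_zero]
      obtain ⟨t, ht⟩ : ∃ t, t ≫ j = x ≫ π₂ := ⟨hC.exact.lift _ h0, hC.exact.lift_f _ h0⟩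
      obtain ⟨A₂', π', hπ', b, hb⟩ := surjective_up_to_refinements_of_epi c t
      have h1 : (π' ≫ x - b ≫ B₁.arrow) ≫ π₂ = 0 := by
        rw [Preadditive.sub_comp, Category.assoc, Category.assoc, ← hc, ← reassoc_of% hb, ht,
          sub_self]
      obtain ⟨y, hy⟩ : ∃ y, y ≫ i₂ = π' ≫ x - b ≫ B₁.arrow :=
        ⟨hB.exact.lift _ h1, hB.exact.lift_f _ h1⟩
      refine ⟨A₂', π' ≫ π, epi_comp _ _, y ≫ p₁, ?_⟩
      change (π' ≫ π) ≫ z = (y ≫ p₁) ≫ a'
      rw [Category.assoc, hx, Category.assoc, ha', reassoc_of% hy, Preadditive.sub_comp,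
        Category.assoc, Category.assoc, cokernel.condition, comp_zero, sub_zero]
    · refine Preadditive.mono_of_cancel_zero _ fun {A} z hz => ?_
      change z ≫ a' = 0 at hz
      obtain ⟨A₁', π, hπ, y, hy⟩ := surjective_up_to_refinements_of_epi p₁ z
      have h0 : (y ≫ i₂) ≫ cokernel.π B₁.arrow = 0 := by
        rw [Category.assoc, ← ha', ← reassoc_of% hy, hz, comp_zero]
      obtain ⟨A₂', π', hπ', b, hb⟩ := hcok.exact_up_to_refinements _ h0
      change π' ≫ y ≫ i₂ = b ≫ B₁.arrow at hb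
      have hbc : b ≫ c = 0 := by
        rw [← cancel_mono j, Category.assoc, hc, ← reassoc_of% hb, wB, comp_zero, comp_zero,
          zero_comp]
      obtain ⟨A₃', π'', hπ'', v, hv⟩ := hac.exact.exact_up_to_refinements b hbc
      change π'' ≫ b = v ≫ a at hv
      have h2 : (π'' ≫ π' ≫ y) ≫ i₂ = (v ≫ i₁) ≫ i₂ := by
        rw [Category.assoc, Category.assoc, hb, reassoc_of% hv, ha, Category.assoc]
      rw [cancel_mono] at h2
      have h3 : π'' ≫ π' ≫ π ≫ z = 0 := by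
        rw [hy, ← Category.assoc π', ← Category.assoc π'', h2, Category.assoc, wA, comp_zero]
      exact zero_of_epi_comp π (zero_of_epi_comp π' (zero_of_epi_comp π'' h3))
    · haveI : Epi (cokernel.π B₁.arrow ≫ c') := by rw [hc']; exact epi_comp _ _
      exact epi_of_epi (cokernel.π B₁.arrow) c'
  · intro s s' hs hs' h
    haveI : IsSplitMono s := IsSplitMono.mk' ⟨g, hs⟩
    haveI : IsSplitMono s' := IsSplitMono.mk' ⟨g, hs'⟩
    rw [phi_eq, phi_eq] at h
    have hu := Subobject.ofMkLEMk_comp h.le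
    set u := Subobject.ofMkLEMk _ _ h.le
    rw [← Category.assoc, cancel_mono] at hu
    have h1 : pullback.fst s (ShortComplex.mk (i₁ ≫ i₂) (π₂ ≫ q) w).homologyπ ≫ s = (u ≫ pullback.fst s' (ShortComplex.mk (i₁ ≫ i₂) (π₂ ≫ q) w).homologyπ) ≫ s' := by
      rw [pullback.condition, Category.assoc, pullback.condition, reassoc_of% hu]
    have h2 := congrArg (· ≫ g) h1
    simp only [Category.assoc, hs, hs', Category.comp_id] at h2
    rw [← h2, cancel_epi] at h1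
    exact h1

end Groth.Agent.S15466
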