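import Groth.Statements.S15470
import Groth.Agent.IsoNatLib.Charts

set_option autoImplicit false
universe u
open CategoryTheory AlgebraicGeometry
open IsoNat

namespace Groth.Agent.S15470

/-- A property of morphisms of algebraic stacks read on one square of smooth scheme charts is detected
by the induced map of presheaves of isomorphism classes. Let f : 𝒳 → 𝒴 and f' : 𝒳' → 𝒴' be morphisms
of algebraic stacks over a quasi-separated scheme S, and suppose given isomorphisms of the
presheaves of isomorphism classes of 𝒳 with 𝒳' and of 𝒴 with 𝒴' under which the maps induced by f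
and f' correspond. If there are smooth scheme charts x : U → 𝒳 (surjective) and y : V → 𝒴 and h : U
→ V with x followed by f 2-isomorphic to h followed by y and h having P, then the same holds for f'.
For P smooth local on the source-and-target, containing the smooth surjections and stable under
composition and base change, this is the statement that f has P if and only if f' has P (flat,
locally of finite type, locally of finite presentation, smooth); the transfer itself holds for every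
P. Here an algebraic stack over a quasi-separated scheme S means a stack in groupoids for the fppf
topology with a smooth surjective atlas from a scheme, whose diagonal is representable by separated
quasi-compact morphisms of algebraic spaces and whose inertia is locally of finite presentation over
it. -/
theorem result
    (S : Scheme.{u}) [QuasiSeparatedSpace S]
    (𝒳 𝒴 : AlgSt.Cat S)
    (h𝒳 : AlgSt.IsAlgStack Scheme.fppfPrecoverage 𝒳)
    (h𝒳d : AlgSt.RepByAlgSpWith (AlgSp.IsSeparatedMor ⊓ AlgSp.IsQuasiCompactMor)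
      (FibCat.diag (FibCat.toSelf 𝒳)))
    (h𝒳i : AlgSt.RepByAlgSpWith (AlgSp.LocP @LocallyOfFinitePresentation)
      (FibCat.inertiaToBase (FibCat.toSelf 𝒳)))
    (h𝒴 : AlgSt.IsAlgStack Scheme.fppfPrecoverage 𝒴)
    (h𝒴d : AlgSt.RepByAlgSpWith (AlgSp.IsSeparatedMor ⊓ AlgSp.IsQuasiCompactMor)
      (FibCat.diag (FibCat.toSelf 𝒴)))
    (h𝒴i : AlgSt.RepByAlgSpWith (AlgSp.LocP @LocallyOfFinitePresentation)
      (FibCat.inertiaToBase (FibCat.toSelf 𝒴)))
    (𝒳' 𝒴' : AlgSt.Cat S)
    (h𝒳' : AlgSt.IsAlgStack Scheme.fppfPrecoverage 𝒳')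
    (h𝒳'd : AlgSt.RepByAlgSpWith (AlgSp.IsSeparatedMor ⊓ AlgSp.IsQuasiCompactMor)
      (FibCat.diag (FibCat.toSelf 𝒳')))
    (h𝒳'i : AlgSt.RepByAlgSpWith (AlgSp.LocP @LocallyOfFinitePresentation)
      (FibCat.inertiaToBase (FibCat.toSelf 𝒳')))
    (h𝒴' : AlgSt.IsAlgStack Scheme.fppfPrecoverage 𝒴')
    (h𝒴'd : AlgSt.RepByAlgSpWith (AlgSp.IsSeparatedMor ⊓ AlgSp.IsQuasiCompactMor)
      (FibCat.diag (FibCat.toSelf 𝒴')))
    (h𝒴'i : AlgSt.RepByAlgSpWith (AlgSp.LocP @LocallyOfFinitePresentation)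
      (FibCat.inertiaToBase (FibCat.toSelf 𝒴')))
    (f : 𝒳 ⥤ᵇ 𝒴) (f' : 𝒳' ⥤ᵇ 𝒴') (φ : IsoNat.FIsoSq f f')
    (P : MorphismProperty (AlgSp.Sp S))
    (hf : AlgSt.LocQ P f) :
    AlgSt.LocQ P f' := by
  haveI := AlgStLib.isFibGrpd_of_isAlgStack h𝒳
  haveI := AlgStLib.isFibGrpd_of_isAlgStack h𝒴
  haveI := AlgStLib.isFibGrpd_of_isAlgStack h𝒳'
  haveI := AlgStLib.isFibGrpd_of_isAlgStack h𝒴'
  haveI := FibLib.isFibGrpd_overCat (C := Over S)
  obtain ⟨U, V, x, y, h, e, hx, hxs, hy, hP⟩ := hf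
  obtain ⟨x', hx'⟩ := IsoNatLib.exists_chart φ.src x
  obtain ⟨y', hy'⟩ := IsoNatLib.exists_chart φ.tgt y
  have key : IsoNat.cls (Functor.Fiber.mk (p := 𝒴'.p)
      (a := (BasedFunctor.comp x' f').obj (Over.mk (𝟙 U))) ((BasedFunctor.comp x' f').w_obj _)) =
    IsoNat.cls (Functor.Fiber.mk (p := 𝒴'.p)
      (a := (BasedFunctor.comp (AlgSt.overMap h) y').obj (Over.mk (𝟙 U)))
      ((BasedFunctor.comp (AlgSt.overMap h) y').w_obj _)) := by
    let o : (FibCat.overCat V).p.Fiber U :=
      Functor.Fiber.mk (p := (FibCat.overCat V).p) (a := (AlgSt.overMap h).obj (Over.mk (𝟙 U))) rfl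
    have h1 := (IsoNatLib.chartSq φ.tgt y y' hy').comm U (IsoNat.cls o)
    have h2 : φ.src.toEquiv U (IsoNat.objCls x) = IsoNat.objCls x' := hx'
    have h3 := φ.comm U (IsoNat.objCls x)
    rw [h2] at h3
    change φ.tgt.toEquiv U (IsoNat.mapCls y U (IsoNat.cls o)) = IsoNat.mapCls y' U (IsoNat.cls o) at h1
    refine h3.symm.trans (Eq.trans (congrArg (φ.tgt.toEquiv U) ?_) h1)
    exact IsoNatLib.cls_eq_of_vert (FibLib.appIso e (Over.mk (𝟙 U))).hom (FibLib.appIso_lift e rfl)
  obtain ⟨k, hk⟩ := IsoNatLib.exists_vert_of_cls_eq key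
  obtain ⟨α⟩ := FibLib.nonempty_iso_of_vert (BasedFunctor.comp x' f') (BasedFunctor.comp (AlgSt.overMap h) y') k hk
  exact ⟨U, V, x', y', h, α, IsoNatLib.chart_locP IsoNatLib.goodSch_smooth h𝒳' φ.src hx' hx,
    IsoNatLib.chart_surjective h𝒳' φ.src hx' hxs,
    IsoNatLib.chart_locP IsoNatLib.goodSch_smooth h𝒴' φ.tgt hy' hy, hP⟩

end Groth.Agent.S15470
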