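import Groth.Statements.S15482
import Groth.Agent.IsoNatLib.QcTransfer
import Groth.Agent.IsoNatLib.OpenSub

set_option autoImplicit false
universe u
open CategoryTheory AlgebraicGeometry
open IsoNat

namespace Groth.Agent.S15482

/-- A morphism f : 𝒳 → 𝒴 of algebraic stacks over a quasi-separated scheme S is quasi-compact (its base
change to every quasi-compact algebraic stack is quasi-compact) if and only if for every
quasi-compact algebraic stack 𝒴' and every open immersion j : 𝒴' → 𝒴 (representable by open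
immersions of algebraic spaces) the 2-fibre product 𝒴' ×_𝒴 𝒳 is quasi-compact. Here an algebraic
stack over a quasi-separated scheme S means a stack in groupoids for the fppf topology with a smooth
surjective atlas from a scheme, whose diagonal is representable by separated quasi-compact morphisms
of algebraic spaces and whose inertia is locally of finite presentation over it. -/
theorem result
    (S : Scheme.{u}) [QuasiSeparatedSpace S]
    (𝒳 𝒴 : AlgSt.Cat S)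
    (h𝒳 : AlgSt.IsAlgStack Scheme.fppfPrecoverage 𝒳)
    (h𝒳d : AlgSt.RepByAlgSpWith (AlgSp.IsSeparatedMor ⊓ AlgSp.IsQuasiCompactMor)
      (FibCat.diag (FibCat.toSelf 𝒳)))
    (h𝒳i : AlgSt.RepByAlgSpWith (AlgSp.LocP @LocallyOfFinitePresentation)
      (FibCat.inertiaToBase (FibCat.toSelf 𝒳)))
    (h𝒴 : AlgSt.IsAlgStack Scheme.fppfPrecoverage 𝒴)
    (h𝒴d : AlgSt.RepByAlgSpWith (AlgSp.IsSeparatedMor ⊓ AlgSp.IsQuasiCompactMor)
      (FibCat.diag (FibCat.toSelf 𝒴)))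
    (h𝒴i : AlgSt.RepByAlgSpWith (AlgSp.LocP @LocallyOfFinitePresentation)
      (FibCat.inertiaToBase (FibCat.toSelf 𝒴)))
    (f : 𝒳 ⥤ᵇ 𝒴) :
    AlgSt.IsQuasiCompactMor Scheme.fppfPrecoverage f ↔
      ∀ (𝒴' : AlgSt.Cat S), AlgSt.IsAlgStack Scheme.fppfPrecoverage 𝒴' → AlgSt.IsQuasiCompact 𝒴' →
        ∀ (j : 𝒴' ⥤ᵇ 𝒴), AlgSt.IsOpenImm j → AlgSt.IsQuasiCompact (FibCat.fp j f) := by
  have hqs : AlgSt.IsQuasiSeparatedOver 𝒴 := AlgStLib.repByAlgSpWith_mono (fun _ _ _ _ _ h => ⟨h.2,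
    AlgSpLib.repWith_mono (fun _ _ g (_ : IsClosedImmersion g) => (inferInstance : QuasiCompact g)) h.1⟩) h𝒴d
  haveI := AlgStLib.isFibGrpd_of_isAlgStack h𝒳
  haveI := AlgStLib.isFibGrpd_of_isAlgStack h𝒴
  refine ⟨fun hf 𝒴' h' hq j _ => hf 𝒴' h' hq j, fun H 𝒵 h𝒵 hqZ g => ?_⟩
  haveI := AlgStLib.isFibGrpd_of_isAlgStack h𝒵
  haveI := AlgStLib.compactSpace_of_isQuasiCompact h𝒵.atlas hqZ
  have hK : IsCompact (Set.range (AlgSt.Points.map g)) := isCompact_range (AlgStLib.continuous_map h𝒴.atlas g)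
  choose T hTo hTc hzT _ using fun z : AlgSt.Points 𝒴 =>
    AlgStLib.exists_compact_open h𝒴.atlas z isOpen_univ trivial
  obtain ⟨s, hs⟩ := hK.elim_finite_subcover T hTo fun z _ => Set.mem_iUnion.2 ⟨z, hzT z⟩
  let W : Set (AlgSt.Points 𝒴) := ⋃ z ∈ s, T z
  have hWo : IsOpen W := isOpen_biUnion fun z _ => hTo z
  have hWc : IsCompact W := s.finite_toSet.isCompact_biUnion fun z _ => hTc z
  let j := AlgSt.subIncl 𝒴 (AlgStLib.PtsIn W)
  have hj := AlgStLib.isOpenSubstack_ptsIn h𝒴 hWo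
  have hj2 : AlgSt.IsAlgStack Scheme.fppfPrecoverage (AlgSt.fullSub 𝒴 (AlgStLib.PtsIn W)) := hj.2.1
  haveI := AlgStLib.isFibGrpd_of_isAlgStack hj2
  have hjimm : AlgSt.IsOpenImm j := AlgStLib.isOpenImm_subIncl h𝒴.atlas hWo
  have hrange : Set.range (AlgSt.Points.map j) = W := AlgStLib.range_subIncl_ptsIn W
  have hjqc : AlgSt.IsQuasiCompact (AlgSt.fullSub 𝒴 (AlgStLib.PtsIn W)) := by
    refine AlgStLib.isQuasiCompact_of_compactSpace hj2.atlas ?_
    exact IsoNatLib.compactSpace_of_isOpenImm hj2.atlas hjimm (IsoNatLib.injective_subIncl _) (by rw [hrange]; exact hWc)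
  have h2 := AlgStLib.isAlgStack_fp' hj2 h𝒳 h𝒴 j f
  haveI := AlgStLib.isFibGrpd_of_isAlgStack h2
  have h3 := AlgStLib.isQcM_of_isQuasiCompact h2 h𝒴 (BasedFunctor.comp (FibCat.fpSnd j f) f)
    (H _ hj2 hjqc j hjimm) hqs 𝒵 h𝒵 hqZ g
  have hfp := AlgStLib.isAlgStack_fp' h𝒵 h𝒳 h𝒴 g f
  haveI := AlgStLib.isFibGrpd_of_isAlgStack hfp
  have h4 := AlgStLib.isAlgStack_fp' hfp h2 h𝒳 (FibCat.fpSnd g f) (FibCat.fpSnd j f)
  haveI := AlgStLib.isFibGrpd_of_isAlgStack h4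
  refine AlgStLib.isQuasiCompact_of_surjective h4 hfp (FibCat.fpFst _ _) (fun w => ?_)
    (AlgStLib.isQuasiCompact_of_equivTo (AlgStLib.isAlgStack_fp' h𝒵 h2 h𝒴 g _) h4
      (FibLib.equivTo_fp_comp g (FibCat.fpSnd j f) f).symm h3)
  obtain ⟨d, hd⟩ : AlgSt.Points.map f (AlgSt.Points.map (FibCat.fpSnd g f) w) ∈ Set.range (AlgSt.Points.map j) := by
    rw [hrange, ← AlgStLib.map_fpFst_fpSnd]
    exact hs ⟨_, rfl⟩
  obtain ⟨b, -, hb⟩ := AlgStLib.exists_point_fp (g := j) (f := f) d _ hd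
  obtain ⟨v, hv, -⟩ := AlgStLib.exists_point_fp (g := FibCat.fpSnd g f) (f := FibCat.fpSnd j f) w b hb.symm
  exact ⟨v, hv⟩

end Groth.Agent.S15482
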