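import Groth.Statements.S15492
import Groth.Agent.AlgStLib.Substack
import Groth.Agent.IsoNatLib.Cls
import Groth.Prelude.Def_W4c2isonaturalstkIso

set_option autoImplicit false
universe u
open CategoryTheory AlgebraicGeometry
open IsoNat

namespace Groth.Agent.S15492

open CategoryTheory.Functor (Fiber) in
theorem main {S : Scheme.{u}} {𝒴 : AlgSt.Cat S} [FibCat.IsFibGrpd 𝒴.p]
    (h𝒴 : AlgSt.IsAlgStack Scheme.fppfPrecoverage 𝒴) (W : ∀ T : Over S, Set (IsoNat.IsoCl 𝒴 T))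
    (hWpull : ∀ (T' T : Over S) (g : T' ⟶ T) (x' : 𝒴.p.Fiber T') (x : 𝒴.p.Fiber T) (a : x'.1 ⟶ x.1),
      𝒴.p.IsHomLift g a → IsoNat.cls x ∈ W T → IsoNat.cls x' ∈ W T')
    (hWopen : ∀ (T : Over S) (x : 𝒴.p.Fiber T), ∃ V : T.left.Opens,
      ∀ (T' : Over S) (g : T' ⟶ T) (x' : 𝒴.p.Fiber T') (a : x'.1 ⟶ x.1), 𝒴.p.IsHomLift g a →
        (IsoNat.cls x' ∈ W T' ↔ ∃ g' : T'.left ⟶ ↑V, g' ≫ V.ι = g.left)) :
    AlgSt.IsOpenSubstack 𝒴 (fun η => IsoNat.cls (⟨η, rfl⟩ : 𝒴.p.Fiber (𝒴.p.obj η)) ∈ W (𝒴.p.obj η))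
      Scheme.fppfPrecoverage := by
  let Q : 𝒴.obj → Prop := fun η => IsoNat.cls (⟨η, rfl⟩ : 𝒴.p.Fiber (𝒴.p.obj η)) ∈ W (𝒴.p.obj η)
  have key : ∀ {T : Over S} (x : 𝒴.p.Fiber T), Q x.1 ↔ IsoNat.cls x ∈ W T := by
    intro T x
    obtain ⟨x, rfl⟩ := x
    rfl
  have down : ∀ {a b : 𝒴.obj} (_ : b ⟶ a), Q a → Q b := fun {a b} m h =>
    hWpull _ _ (𝒴.p.map m) ⟨b, rfl⟩ ⟨a, rfl⟩ m (IsHomLift.map 𝒴.p m) h
  have up : ∀ {r q : AlgSt.FPt 𝒴} (_ : r.obj ⟶ q.obj), Q r.obj → Q q.obj := by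
    intro r q m hr
    let xq : 𝒴.p.Fiber (Over.mk q.str) := Fiber.mk (p := 𝒴.p) (a := q.obj) q.lies
    let xr : 𝒴.p.Fiber (Over.mk r.str) := Fiber.mk (p := 𝒴.p) (a := r.obj) r.lies
    let g : Over.mk r.str ⟶ Over.mk q.str := eqToHom r.lies.symm ≫ 𝒴.p.map m ≫ eqToHom q.lies
    haveI hg : 𝒴.p.IsHomLift g m := IsHomLift.of_fac _ _ _ r.lies q.lies rfl
    obtain ⟨V, hV⟩ := hWopen _ xq
    obtain ⟨g', hg'⟩ := (hV _ g xr m hg).1 ((key xr).1 hr)
    obtain ⟨t⟩ := (inferInstance : Nonempty (PrimeSpectrum r.K))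
    haveI : Subsingleton ↥(Over.mk q.str).left := inferInstanceAs (Subsingleton (PrimeSpectrum q.K))
    have hall : ∀ z : ↥(Over.mk q.str).left, z ∈ V := fun z => by
      have h1 : g.left t ∈ V := by
        rw [← hg', Scheme.Hom.comp_apply]
        exact (g' t).2
      rw [Subsingleton.elim z (g.left t)]
      exact h1
    refine (key xq).2 ((hV _ (𝟙 _) xq (𝟙 q.obj) (IsHomLift.id q.lies)).2
      ⟨IsOpenImmersion.lift V.ι (𝟙 _) ?_, IsOpenImmersion.lift_fac _ _ _⟩)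
    rintro z -
    rw [Scheme.Opens.range_ι]
    exact hall z
  let T₀ : Set (AlgSt.Points 𝒴) := {z | ∃ q : AlgSt.FPt 𝒴, Q q.obj ∧ AlgSt.Points.mk q = z}
  have congrQ : ∀ {p : AlgSt.FPt 𝒴}, AlgSt.Points.mk p ∈ T₀ → Q p.obj := by
    rintro p ⟨q, hq, e⟩
    obtain ⟨r, a, b, -⟩ := AlgStLib.mk_eq_mk_iff.mp e
    exact up b (down a hq)
  have hQT : Q = AlgStLib.PtsIn T₀ := by
    funext η
    apply propext
    refine ⟨fun h p f => ⟨p, down f h, rfl⟩, fun h => ?_⟩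
    obtain ⟨V, hV⟩ := hWopen _ (⟨η, rfl⟩ : 𝒴.p.Fiber (𝒴.p.obj η))
    have hall : ∀ t : (𝒴.p.obj η).left, t ∈ V := by
      intro t
      let str := (𝒴.p.obj η).left.fromSpecResidueField t ≫ (𝒴.p.obj η).hom
      let g : Over.mk str ⟶ 𝒴.p.obj η := Over.homMk ((𝒴.p.obj η).left.fromSpecResidueField t) rfl
      obtain ⟨b, φ, hφ⟩ := FibLib.exists_lift 𝒴.p (a := η) rfl g
      haveI := hφ
      let p : AlgSt.FPt 𝒴 := ⟨_, str, b, @IsHomLift.domain_eq _ _ _ _ 𝒴.p _ _ _ _ g φ hφ⟩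
      let xb : 𝒴.p.Fiber (Over.mk str) := Fiber.mk (p := 𝒴.p) (a := b) (@IsHomLift.domain_eq _ _ _ _ 𝒴.p _ _ _ _ g φ hφ)
      obtain ⟨g', hg'⟩ := (hV _ g xb φ hφ).1 ((key xb).1 (congrQ (h p φ)))
      have : (g' ≫ V.ι) (IsLocalRing.closedPoint _) = t := by
        rw [hg']
        exact Scheme.fromSpecResidueField_apply t _
      rw [← this, Scheme.Hom.comp_apply]
      exact (g' _).2
    refine (hV _ (𝟙 _) ⟨η, rfl⟩ (𝟙 η) (IsHomLift.id rfl)).2
      ⟨IsOpenImmersion.lift V.ι (𝟙 _) ?_, IsOpenImmersion.lift_fac _ _ _⟩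
    rintro z -
    rw [Scheme.Opens.range_ι]
    exact hall z
  have hT : IsOpen T₀ := by
    intro U x _
    let xU : 𝒴.p.Fiber U := Fiber.mk (p := 𝒴.p) (a := x.obj (Over.mk (𝟙 U))) (x.w_obj _)
    obtain ⟨V, hV⟩ := hWopen _ xU
    suffices e : AlgSt.Points.ofChart x ⁻¹' T₀ = (V : Set U.left) by rw [e]; exact V.2
    ext t
    let gt : Over.mk (U.left.fromSpecResidueField t ≫ U.hom) ⟶ U :=
      Over.homMk (U.left.fromSpecResidueField t) rfl
    let xt : 𝒴.p.Fiber (Over.mk (U.left.fromSpecResidueField t ≫ U.hom)) :=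
      Fiber.mk (p := 𝒴.p) (a := x.obj (Over.mk gt)) (x.w_obj _)
    have ht := hV _ gt xt (x.map (FibLib.toId (Over.mk gt))) (FibLib.lift_map x (FibLib.toId (Over.mk gt)))
    constructor
    · intro h
      obtain ⟨g', hg'⟩ := ht.1 ((key xt).1 (congrQ h))
      have : (g' ≫ V.ι) (IsLocalRing.closedPoint _) = t := by
        rw [hg']
        exact Scheme.fromSpecResidueField_apply t _
      rw [← this, Scheme.Hom.comp_apply]
      exact (g' _).2
    · intro h
      refine ⟨_, (key xt).2 (ht.2 ⟨IsOpenImmersion.lift V.ι gt.left ?_, IsOpenImmersion.lift_fac _ _ _⟩), rfl⟩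
      rw [Scheme.Opens.range_ι]
      rintro _ ⟨z, rfl⟩
      exact (Scheme.fromSpecResidueField_apply t z).symm ▸ h
  have hres := AlgStLib.isOpenSubstack_ptsIn h𝒴 hT
  rw [← hQT] at hres
  exact hres


/-- Open subfunctors of the presheaf of isomorphism classes come from open substacks. Let 𝒴 be an
algebraic stack over a quasi-separated scheme S and W a subfunctor of its presheaf of isomorphism
classes — a set W(T) of isomorphism classes over each T, stable under pullback — which is open: for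
every object x over T there is an open subscheme V of T such that a pullback of x along g : T' → T
has class in W(T') exactly when g factors through V. Then the strictly full subcategory of 𝒴 on the
objects whose class lies in W is an open substack (the converse direction, that an open substack
gives an open subfunctor, is immediate from the definitions, and the two constructions are mutually
inverse). Here an algebraic stack over a quasi-separated scheme S means a stack in groupoids for the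
fppf topology with a smooth surjective atlas from a scheme, whose diagonal is representable by
separated quasi-compact morphisms of algebraic spaces and whose inertia is locally of finite
presentation over it. (The published statement is for an arbitrary stack; this row takes 𝒴
algebraic.) -/
theorem result
    (S : Scheme.{u}) [QuasiSeparatedSpace S]
    (𝒴 : AlgSt.Cat S)
    (h𝒴 : AlgSt.IsAlgStack Scheme.fppfPrecoverage 𝒴)
    (h𝒴d : AlgSt.RepByAlgSpWith (AlgSp.IsSeparatedMor ⊓ AlgSp.IsQuasiCompactMor)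
      (FibCat.diag (FibCat.toSelf 𝒴)))
    (h𝒴i : AlgSt.RepByAlgSpWith (AlgSp.LocP @LocallyOfFinitePresentation)
      (FibCat.inertiaToBase (FibCat.toSelf 𝒴)))
    (W : ∀ T : Over S, Set (IsoNat.IsoCl 𝒴 T))
    (hWpull : ∀ (T' T : Over S) (g : T' ⟶ T) (x' : 𝒴.p.Fiber T') (x : 𝒴.p.Fiber T) (a : x'.1 ⟶ x.1),
      𝒴.p.IsHomLift g a → IsoNat.cls x ∈ W T → IsoNat.cls x' ∈ W T')
    (hWopen : ∀ (T : Over S) (x : 𝒴.p.Fiber T), ∃ V : T.left.Opens,
      ∀ (T' : Over S) (g : T' ⟶ T) (x' : 𝒴.p.Fiber T') (a : x'.1 ⟶ x.1), 𝒴.p.IsHomLift g a →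
        (IsoNat.cls x' ∈ W T' ↔ ∃ g' : T'.left ⟶ ↑V, g' ≫ V.ι = g.left)) :
    AlgSt.IsOpenSubstack 𝒴 (fun η => IsoNat.cls (⟨η, rfl⟩ : 𝒴.p.Fiber (𝒴.p.obj η)) ∈ W (𝒴.p.obj η))
      Scheme.fppfPrecoverage := by
  haveI := AlgStLib.isFibGrpd_of_isAlgStack h𝒴
  exact Groth.Agent.S15492.main h𝒴 W hWpull hWopen

end Groth.Agent.S15492
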