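import Groth.Statements.S15485
import Groth.Agent.IsoNatCleanOpenLib.Main
import Groth.Agent.S15492

set_option linter.style.haveILetI false
set_option backward.isDefEq.respectTransparency false
set_option backward.isDefEq.respectTransparency.types false

set_option autoImplicit false
universe u
open CategoryTheory AlgebraicGeometry
open IsoNat

namespace Groth.Agent.S15485

/-- If the inertia of an algebraic stack 𝒳 over a quasi-separated scheme S is proper over 𝒳, then the
clean locus of 𝒳 — the full subcategory of objects η such that every object with a morphism to η has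
only the identity as endomorphism over the identity of its base — is an open substack of 𝒳, and its
inclusion is (representable and) quasi-compact. Here an algebraic stack over a quasi-separated
scheme S means a stack in groupoids for the fppf topology with a smooth surjective atlas from a
scheme, whose diagonal is representable by separated quasi-compact morphisms of algebraic spaces and
whose inertia is locally of finite presentation over it. -/
theorem result
    (S : Scheme.{u}) [QuasiSeparatedSpace S]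
    (𝒳 : AlgSt.Cat S)
    (h𝒳 : AlgSt.IsAlgStack Scheme.fppfPrecoverage 𝒳)
    (h𝒳d : AlgSt.RepByAlgSpWith (AlgSp.IsSeparatedMor ⊓ AlgSp.IsQuasiCompactMor)
      (FibCat.diag (FibCat.toSelf 𝒳)))
    (h𝒳i : AlgSt.RepByAlgSpWith (AlgSp.LocP @LocallyOfFinitePresentation)
      (FibCat.inertiaToBase (FibCat.toSelf 𝒳)))
    (hpr : AlgSt.RepByAlgSpWith AlgSp.IsProperMor (FibCat.inertiaToBase (FibCat.toSelf 𝒳))) :
    AlgSt.IsOpenSubstack 𝒳 (fun η => IsoNat.IsClean η) Scheme.fppfPrecoverage ∧
      AlgSt.RepByAlgSpWith AlgSp.IsQuasiCompactMor (AlgSt.subIncl 𝒳 (fun η => IsoNat.IsClean η)) := by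
  haveI := AlgStLib.isFibGrpd_of_isAlgStack h𝒳
  have hI : AlgSt.RepByAlgSpWith (AlgSp.IsProperMor ⊓ AlgSp.LocP @LocallyOfFinitePresentation)
      (FibCat.inertiaToBase (FibCat.toSelf 𝒳)) :=
    AlgStLib.repByAlgSpWith_inf AlgStLib.good_lfp.bc.precomp_iso hpr h𝒳i
  let W : ∀ T : Over S, Set (IsoNat.IsoCl 𝒳 T) := fun T =>
    {c | ∃ x : 𝒳.p.Fiber T, IsoNat.cls x = c ∧ IsoNat.IsClean x.1}
  have hW : ∀ {T : Over S} (x : 𝒳.p.Fiber T), IsoNat.cls x ∈ W T ↔ IsoNat.IsClean x.1 := by
    intro T x
    refine ⟨fun ⟨y, hy, hc⟩ => ?_, fun h => ⟨x, rfl, h⟩⟩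
    obtain ⟨k, -⟩ := IsoNatLib.exists_vert_of_cls_eq hy.symm
    exact CleanOpenLib.isClean_of_hom k.hom hc
  have h := Groth.Agent.S15492.main h𝒳 W (fun T' T g x' x a _ hx => (hW x').2
    (CleanOpenLib.isClean_of_hom a ((hW x).1 hx))) (fun T x => by
      obtain ⟨V, hV, -⟩ := CleanOpenLib.exists_cleanLocus hI x
      exact ⟨V, fun T' g x' a ha => (hW x').trans ((hV T' g x' a ha).trans
        (CleanOpenLib.factor_iff g.left V).symm)⟩)
  have hQ : AlgSt.IsOpenSubstack 𝒳 (fun η => IsoNat.IsClean η) Scheme.fppfPrecoverage := by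
    convert h using 1
    funext η
    exact propext (hW (⟨η, rfl⟩ : 𝒳.p.Fiber (𝒳.p.obj η))).symm
  refine ⟨hQ, CleanOpenLib.qc_subIncl h𝒳 hQ fun T x hT => ?_⟩
  obtain ⟨V, hV, hc⟩ := CleanOpenLib.exists_cleanLocus hI x
  exact ⟨V, hc hT, hV⟩

end Groth.Agent.S15485
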