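import Groth.Statements.S15488
import Mathlib


-- import your own Groth.Agent.* helpers here

set_option autoImplicit false
universe u
open IsoNat

namespace Groth.Agent.S15488

/-- Let A be a nontrivial commutative ring, G a finite group, g an element of G of order ν and l an
element of A with l ^ ν = 1. In the free A-module of functions G → A (the regular representation, g
acting by translation v ↦ v(g·)), the submodule of v with v(g h) = l v(h) for all h is a direct
summand, free of rank |G| / ν (stated as: free, rank · ν = |G|, and a complementary submodule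
exists). (The published statement is over an arbitrary ring and also covers Hom(A^N, −) of the
regular representation, which follows; nontriviality of A is needed for the rank to be meaningful.) -/
theorem result
    (A : Type u) [CommRing A] [Nontrivial A] (G : Type u) [Group G] [Finite G]
    (g : G) (l : A) (hl : l ^ orderOf g = 1) :
    Module.Free A (LinearMap.ker (LinearMap.funLeft A A (fun h : G => g * h) - l • LinearMap.id)) ∧
      Module.finrank A (LinearMap.ker (LinearMap.funLeft A A (fun h : G => g * h) - l • LinearMap.id)) * orderOf g = Nat.card G ∧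
      ∃ E' : Submodule A (G → A), IsCompl (LinearMap.ker (LinearMap.funLeft A A (fun h : G => g * h) - l • LinearMap.id)) E' := by
  classical
  have : Fintype G := Fintype.ofFinite G
  let K : Submodule A (G → A) :=
    LinearMap.ker (LinearMap.funLeft A A (fun h : G => g * h) - l • LinearMap.id)
  change Module.Free A K ∧ Module.finrank A K * orderOf g = Nat.card G ∧ ∃ E', IsCompl K E'
  have hK : ∀ v : G → A, v ∈ K ↔ ∀ h, v (g * h) = l * v h := fun v => by
    simp [K, funext_iff, LinearMap.funLeft, sub_eq_zero]
  obtain ⟨T, hT, -⟩ := (Subgroup.zpowers g).exists_isComplement_right 1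
  let e : Fin (orderOf g) × T ≃ G :=
    ((finEquivZPowers (isOfFinOrder_of_finite g)).prodCongr (Equiv.refl T)).trans
      (Equiv.ofBijective _ hT)
  have he : ∀ p, e p = g ^ (p.1 : ℕ) * (p.2 : G) := fun p => rfl
  have hpow : ∀ v ∈ K, ∀ (n : ℕ) (h : G), v (g ^ n * h) = l ^ n * v h := by
    intro v hv n
    induction n with
    | zero => simp
    | succ n ih =>
      intro h
      rw [pow_succ', mul_assoc, (hK v).1 hv, ih, pow_succ', mul_assoc]
  let π : (G → A) →ₗ[A] (T → A) := LinearMap.funLeft A A (fun t : T => (t : G))
  let s : (T → A) →ₗ[A] (G → A) :=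
    LinearMap.pi fun x => (l ^ ((e.symm x).1 : ℕ)) • LinearMap.proj (e.symm x).2
  have hs : ∀ a x, s a x = l ^ ((e.symm x).1 : ℕ) * a (e.symm x).2 := fun a x => rfl
  have hν : 0 < orderOf g := orderOf_pos g
  have hsK : ∀ a, s a ∈ K := by
    intro a
    rw [hK]
    intro h
    obtain ⟨⟨i, t⟩, rfl⟩ := e.surjective h
    have hstep : g * e (i, t) = e (⟨((i : ℕ) + 1) % orderOf g, Nat.mod_lt _ hν⟩, t) := by
      rw [he, he, ← mul_assoc, ← pow_succ']
      exact congrArg (· * (t : G)) (pow_mod_orderOf g _).symm
    rw [hstep, hs, hs, e.symm_apply_apply, e.symm_apply_apply]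
    change l ^ (((i : ℕ) + 1) % orderOf g) * a t = l * (l ^ (i : ℕ) * a t)
    rw [← pow_eq_pow_mod _ hl, pow_succ', mul_assoc]
  have hπs : ∀ a, π (s a) = a := by
    intro a
    funext t
    have : (t : G) = e (⟨0, hν⟩, t) := by simp [he]
    change s a (t : G) = a t
    rw [this, hs, e.symm_apply_apply]
    simp
  have hsπ : ∀ v ∈ K, s (π v) = v := by
    intro v hv
    funext x
    obtain ⟨⟨i, t⟩, rfl⟩ := e.surjective x
    rw [hs, e.symm_apply_apply, he, hpow v hv]
    rfl
  let E : K ≃ₗ[A] (T → A) := LinearEquiv.ofLinear (π.comp K.subtype)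
    (s.codRestrict K hsK) (LinearMap.ext fun a => hπs a)
    (LinearMap.ext fun v => Subtype.ext (hsπ v v.2))
  refine ⟨Module.Free.of_equiv E.symm, ?_, LinearMap.ker π, ⟨?_, ?_⟩⟩
  · rw [E.finrank_eq, Module.finrank_pi, ← Nat.card_eq_fintype_card, ← Nat.card_congr e,
      Nat.card_prod, Nat.card_fin, mul_comm]
  · rw [Submodule.disjoint_def]
    intro v hv hv'
    rw [← hsπ v hv, LinearMap.mem_ker.1 hv', map_zero]
  · rw [codisjoint_iff, Submodule.eq_top_iff']
    intro v
    exact Submodule.mem_sup.2 ⟨s (π v), hsK _, v - s (π v),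
      by simp [LinearMap.mem_ker, hπs], by simp⟩

end Groth.Agent.S15488
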