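import Groth.Statements.S15491
import Mathlib

set_option autoImplicit false
universe v u
open CategoryTheory CategoryTheory.Functor
open IsoNat

namespace Groth.Agent.S15491

open CategoryTheory.Limits CategoricalPullback

section
variable {B A' B' A'' B'' : Type u} [Category.{v} B] [Category.{v} A'] [Category.{v} B']
    [Category.{v} A''] [Category.{v} B'']
    (r : B ⥤ B') (t' : A' ⥤ B') (l' : A' ⥤ A'') (r' : B' ⥤ B'') (t'' : A'' ⥤ B'')
    (e₂ : t' ⋙ r' ≅ l' ⋙ t'')

/-- Composition with the lower square. -/
@[simps]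
noncomputable def pasteFunctor : (r ⊡ t') ⥤ ((r ⋙ r') ⊡ t'') where
  obj p := { fst := p.fst, snd := l'.obj p.snd, iso := r'.mapIso p.iso ≪≫ e₂.app p.snd }
  map {p q} f :=
    { fst := f.fst
      snd := l'.map f.snd
      w := by
        simp only [Functor.comp_map, Iso.trans_hom, Functor.mapIso_hom, Iso.app_hom, Category.assoc]
        rw [← r'.map_comp_assoc, f.w, r'.map_comp, Category.assoc]
        exact congrArg (r'.map p.iso.hom ≫ ·) (e₂.hom.naturality f.snd) }

theorem isEquivalence_pasteFunctor (h₂ : FibCat.IsTwoCart t' l' r' t'' e₂) :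
    (pasteFunctor r t' l' r' t'' e₂).IsEquivalence := by
  let K := (CatCommSqOver.toFunctorToCategoricalPullback r' t'' A').obj ⟨t', l', e₂⟩
  haveI : K.IsEquivalence := h₂
  let Φ := pasteFunctor r t' l' r' t'' e₂
  haveI hfaith : Φ.Faithful := ⟨fun {p q} f g h => by
    have h1 : f.fst = g.fst := congrArg (fun F : Φ.obj p ⟶ Φ.obj q => F.fst) h
    have h2 : l'.map f.snd = l'.map g.snd := congrArg (fun F : Φ.obj p ⟶ Φ.obj q => F.snd) h
    have h3 : t'.map f.snd = t'.map g.snd := by
      rw [← cancel_epi p.iso.hom, ← f.w, ← g.w, h1]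
    exact CategoricalPullback.hom_ext h1 (K.map_injective (CategoricalPullback.hom_ext h3 h2))⟩
  haveI hfull : Φ.Full := ⟨fun {p q} F => by
    let F' : K.obj p.snd ⟶ K.obj q.snd :=
      { fst := p.iso.inv ≫ r.map F.fst ≫ q.iso.hom
        snd := F.snd
        w := by
          have hw := F.w
          simp only [Φ, pasteFunctor_obj_iso, Functor.comp_map, Iso.trans_hom, Functor.mapIso_hom, Iso.app_hom,
            Category.assoc] at hw
          change r'.map (p.iso.inv ≫ r.map F.fst ≫ q.iso.hom) ≫ e₂.hom.app q.snd =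
            e₂.hom.app p.snd ≫ t''.map F.snd
          rw [r'.map_comp, r'.map_comp, Category.assoc, Category.assoc]
          erw [hw]
          erw [Category.assoc, ← r'.map_comp_assoc, Iso.inv_hom_id, r'.map_id, Category.id_comp]
          rfl }
    let k := K.preimage F'
    have hk : K.map k = F' := K.map_preimage F'
    have hk1 : t'.map k = p.iso.inv ≫ r.map F.fst ≫ q.iso.hom := congrArg CategoricalPullback.Hom.fst hk
    have hk2 : l'.map k = F.snd := congrArg CategoricalPullback.Hom.snd hk
    exact ⟨{ fst := F.fst, snd := k, w := by rw [hk1, Iso.hom_inv_id_assoc]; rfl },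
      CategoricalPullback.hom_ext rfl hk2⟩⟩
  haveI hes : Φ.EssSurj := ⟨fun P => by
    let o : r' ⊡ t'' := { fst := r.obj P.fst, snd := P.snd, iso := P.iso }
    let e := K.objObjPreimageIso o
    let p : r ⊡ t' :=
      { fst := P.fst
        snd := K.objPreimage o
        iso :=
          { hom := e.inv.fst
            inv := e.hom.fst
            hom_inv_id := congrArg CategoricalPullback.Hom.fst e.inv_hom_id
            inv_hom_id := congrArg CategoricalPullback.Hom.fst e.hom_inv_id } }
    let i2 : l'.obj (K.objPreimage o) ≅ P.snd :=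
      { hom := e.hom.snd
        inv := e.inv.snd
        hom_inv_id := congrArg CategoricalPullback.Hom.snd e.hom_inv_id
        inv_hom_id := congrArg CategoricalPullback.Hom.snd e.inv_hom_id }
    refine ⟨p, ⟨CategoricalPullback.mkIso (Iso.refl _) i2 ?_⟩⟩
    have hw : r'.map e.inv.fst ≫ e₂.hom.app (K.objPreimage o) = P.iso.hom ≫ t''.map e.inv.snd := e.inv.w
    change (r ⋙ r').map (𝟙 P.fst) ≫ P.iso.hom = (r'.map e.inv.fst ≫ e₂.hom.app (K.objPreimage o)) ≫ t''.map e.hom.snd
    have h4 : e.inv.snd ≫ e.hom.snd = 𝟙 _ := congrArg CategoricalPullback.Hom.snd e.inv_hom_id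
    erw [hw, Category.assoc, ← t''.map_comp, h4, (r ⋙ r').map_id, t''.map_id, Category.id_comp]
    exact (Category.comp_id _).symm⟩
  exact { }

end

/-- Pasting of 2-cartesian squares, stated in the 2-category of categories. Consider functors t : A → B,
t' : A' → B', t'' : A'' → B'' and l : A → A', r : B → B', l' : A' → A'', r' : B' → B'' with natural
isomorphisms e₁ : t ⋙ r ≅ l ⋙ t' and e₂ : t' ⋙ r' ≅ l' ⋙ t''. If the lower square (t', l', r', t'',
e₂) is 2-cartesian (its comparison functor to the 2-fibre product is an equivalence), then the upper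
square (t, l, r, t', e₁) is 2-cartesian if and only if the outer rectangle (t, l ⋙ l', r ⋙ r', t'')
with the pasted isomorphism is. (The published statement is for an arbitrary 2-category whose
2-morphisms are invertible; this row is the case of categories, functors and natural isomorphisms.) -/
theorem result
    {A B A' B' A'' B'' : Type u} [Category.{v} A] [Category.{v} B] [Category.{v} A'] [Category.{v} B']
    [Category.{v} A''] [Category.{v} B'']
    (t : A ⥤ B) (l : A ⥤ A') (r : B ⥤ B') (t' : A' ⥤ B') (l' : A' ⥤ A'') (r' : B' ⥤ B'') (t'' : A'' ⥤ B'')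
    (e₁ : t ⋙ r ≅ l ⋙ t') (e₂ : t' ⋙ r' ≅ l' ⋙ t'')
    (h₂ : FibCat.IsTwoCart t' l' r' t'' e₂) :
    FibCat.IsTwoCart t l r t' e₁ ↔
      FibCat.IsTwoCart t (l ⋙ l') (r ⋙ r') t''
        ((Functor.associator t r r').symm ≪≫ isoWhiskerRight e₁ r' ≪≫ Functor.associator l t' r' ≪≫
          isoWhiskerLeft l e₂ ≪≫ (Functor.associator l l' t'').symm) := by
  let K₁ := (Limits.CategoricalPullback.CatCommSqOver.toFunctorToCategoricalPullback r t' A).obj ⟨t, l, e₁⟩
  let Φ := pasteFunctor r t' l' r' t'' e₂
  haveI : Φ.IsEquivalence := isEquivalence_pasteFunctor r t' l' r' t'' e₂ h₂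
  let K₃ := (Limits.CategoricalPullback.CatCommSqOver.toFunctorToCategoricalPullback (r ⋙ r') t'' A).obj
    ⟨t, l ⋙ l', (Functor.associator t r r').symm ≪≫ isoWhiskerRight e₁ r' ≪≫ Functor.associator l t' r' ≪≫
          isoWhiskerLeft l e₂ ≪≫ (Functor.associator l l' t'').symm⟩
  have he : K₁ ⋙ Φ ≅ K₃ :=
    NatIso.ofComponents (fun a => Limits.CategoricalPullback.mkIso (Iso.refl _) (Iso.refl _)
      (by
        dsimp [K₁, K₃, Φ, Limits.CategoricalPullback.CatCommSqOver.toFunctorToCategoricalPullback]
        erw [CategoryTheory.Functor.map_id, CategoryTheory.Functor.map_id, CategoryTheory.Functor.map_id, Category.id_comp, Category.comp_id]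
        simp
        exact (Category.comp_id (r'.map (e₁.hom.app a) ≫ e₂.hom.app (l.obj a))).symm))
      (by
        intros
        apply Limits.CategoricalPullback.hom_ext
        · exact (Category.comp_id _).trans (Category.id_comp _).symm
        · exact (Category.comp_id _).trans (Category.id_comp _).symm)
  change K₁.IsEquivalence ↔ K₃.IsEquivalence
  constructor
  · intro h
    exact Functor.isEquivalence_of_iso he
  · intro h
    haveI : (K₁ ⋙ Φ).IsEquivalence := Functor.isEquivalence_of_iso he.symm
    exact Functor.isEquivalence_of_comp_right K₁ Φ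

end Groth.Agent.S15491
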