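import Groth.Statements.S15493
import Groth.Agent.IsoNatLib.Cls
import Groth.Agent.AlgStLib.MonoFull
import Groth.Agent.AlgSpLib.MorPack

set_option autoImplicit false
universe u
open CategoryTheory AlgebraicGeometry
open IsoNat

namespace Groth.Agent.S15493

/-- The presheaf of isomorphism classes commutes with fibre products along an open immersion. Let f : 𝒳
→ 𝒴 be a morphism of algebraic stacks over a quasi-separated scheme S and i : 𝒴' → 𝒴 an open
immersion of algebraic stacks (representable by open immersions of algebraic spaces). If two objects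
of the 2-fibre product 𝒳 ×_𝒴 𝒴' over a scheme T have isomorphic images in 𝒳 over T and isomorphic
images in 𝒴' over T, then they are isomorphic over T. (Together with the evident surjectivity this
says that the natural map from the presheaf of isomorphism classes of 𝒳 ×_𝒴 𝒴' to the fibre product
of the presheaves of 𝒳 and 𝒴' over that of 𝒴 is an isomorphism; the published statement is for
arbitrary stacks, this row takes them algebraic.) -/
theorem result
    (S : Scheme.{u}) [QuasiSeparatedSpace S]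
    (𝒳 𝒴 𝒴' : AlgSt.Cat S)
    (h𝒳 : AlgSt.IsAlgStack Scheme.fppfPrecoverage 𝒳) (h𝒴 : AlgSt.IsAlgStack Scheme.fppfPrecoverage 𝒴)
    (h𝒴' : AlgSt.IsAlgStack Scheme.fppfPrecoverage 𝒴')
    (f : 𝒳 ⥤ᵇ 𝒴) (i : 𝒴' ⥤ᵇ 𝒴) (hi : AlgSt.IsOpenImm i)
    (T : Over S) (z₁ z₂ : (FibCat.fp f i).p.Fiber T)
    (h₁ : IsoNat.mapCls (FibCat.fpFst f i) T (IsoNat.cls z₁) = IsoNat.mapCls (FibCat.fpFst f i) T (IsoNat.cls z₂))
    (h₂ : IsoNat.mapCls (FibCat.fpSnd f i) T (IsoNat.cls z₁) = IsoNat.mapCls (FibCat.fpSnd f i) T (IsoNat.cls z₂)) :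
    IsoNat.cls z₁ = IsoNat.cls z₂ := by
  haveI := AlgStLib.isFibGrpd_of_isAlgStack h𝒳
  haveI := AlgStLib.isFibGrpd_of_isAlgStack h𝒴
  haveI := AlgStLib.isFibGrpd_of_isAlgStack h𝒴'
  haveI : FibCat.IsFibGrpd (FibCat.fp f i).p := FibLib.isFibGrpd_fp
  haveI : i.toFunctor.Full := AlgStLib.full_of_isMono (AlgStLib.repByAlgSpWith_mono (fun _ _ _ _ _ h =>
    AlgSpLib.mono_of_repWith (fun g hg => @IsOpenImmersion.mono _ _ g hg) h) hi)
  rw [IsoNatLib.mapCls_cls, IsoNatLib.mapCls_cls] at h₁ h₂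
  obtain ⟨β, hβ⟩ := IsoNatLib.exists_vert_of_cls_eq h₁
  obtain ⟨γ, hγ⟩ := IsoNatLib.exists_vert_of_cls_eq h₂
  obtain ⟨t₁, ht₁⟩ := i.toFunctor.map_surjective (z₁.1.obj.iso.inv ≫ f.map β.hom ≫ z₂.1.obj.iso.hom)
  haveI := hβ
  let a : z₁.1.obj.fst ⟶ z₂.1.obj.fst := β.hom
  let φ : z₁.1 ⟶ z₂.1 := FibLib.fpHom a t₁ (by
    erw [ht₁]
    exact (Iso.hom_inv_id_assoc _ _).symm)
  haveI : 𝒳.p.IsHomLift (𝟙 T) φ.hom.fst := hβ
  exact IsoNatLib.cls_eq_of_vert φ (FibLib.isHomLift_of_fst (𝟙 T) φ)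

end Groth.Agent.S15493
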