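import Groth.Statements.S15495
import Mathlib.RingTheory.Artinian.Ring
import Mathlib.Algebra.CharP.Lemmas

set_option autoImplicit false
universe u
open CAlg

namespace Groth.Agent.S15495

/-- In an Artinian local ring R whose maximal ideal m contains the prime number p, the multiplicative
group 1 + m is annihilated under some power of p: there is n with (1 + x)^(p^n) = 1 for every x in
m. (The published text makes this assertion inside a proof, for Artinian local algebras over the
Witt ring of a perfect field of characteristic p; only p ∈ m and the nilpotence of m are used.) -/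
theorem result
    (R : Type u) [CommRing R] [IsLocalRing R] [IsArtinianRing R]
    (p : ℕ) (hp : p.Prime) (hpm : (p : R) ∈ IsLocalRing.maximalIdeal R) :
    ∃ n : ℕ, ∀ x ∈ IsLocalRing.maximalIdeal R, (1 + x) ^ (p ^ n) = 1 := by
  set m := IsLocalRing.maximalIdeal R with hm
  obtain ⟨N, hN⟩ : IsNilpotent m := by
    rw [hm, ← IsLocalRing.jacobson_eq_maximalIdeal (⊥ : Ideal R) bot_ne_top]
    exact IsArtinianRing.isNilpotent_jacobson_bot
  refine ⟨N, fun x hx => ?_⟩
  have key : ∀ j : ℕ, (1 + x) ^ p ^ j - 1 ∈ m ^ (j + 1) := by
    intro j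
    induction j with
    | zero => simpa using hx
    | succ j ih =>
      obtain ⟨r, hr⟩ := exists_add_pow_prime_eq (R := R) hp (1 : R) ((1 + x) ^ p ^ j - 1)
      set y := (1 + x) ^ p ^ j - 1
      have h1 : (1 + x) ^ p ^ (j + 1) - 1 = y ^ p + (p : R) * y * r := by
        rw [pow_succ, pow_mul, show (1 + x) ^ p ^ j = 1 + y by simp [y], hr]
        ring
      rw [h1]
      refine add_mem ?_ ?_
      · have h2 := Ideal.pow_mem_pow ih p
        rw [← pow_mul] at h2
        refine Ideal.pow_le_pow_right ?_ h2
        have := hp.two_le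
        calc j + 1 + 1 ≤ (j + 1) * 2 := by omega
          _ ≤ (j + 1) * p := Nat.mul_le_mul_left _ this
      · refine Ideal.mul_mem_right _ _ ?_
        rw [pow_succ' m (j + 1)]
        exact Ideal.mul_mem_mul hpm ih
  have h := key N
  rw [pow_succ, hN, zero_mul, Ideal.zero_eq_bot, Ideal.mem_bot, sub_eq_zero] at h
  exact h

end Groth.Agent.S15495
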