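import Groth.Statements.S15498
import Mathlib
import Mathlib
-- import your own Groth.Agent.* helpers here

set_option autoImplicit false
open NewtonPoly

namespace Groth.Agent.S15498

/-- Let m, n ≥ 1 be coprime, h = m + n, δ the segment from (0,0) to (h,m) (the isoclinic Newton polygon
of slope m/h) and ρ the ordinary polygon with n slopes 0 followed with m slopes 1, so ρ(i) = max(0,
i − n). The integer points (i,j), 0 ≤ i ≤ h, on or above ρ and strictly below δ — that is max(0, i −
n) ≤ j and j·h < i·m — are (m−1)(n−1)/2 + (m+n−1) in number (which equals mn − r for r =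
(m−1)(n−1)/2). (The published text works under m ≥ n > 0 coprime; the inequality m ≥ n is not used
and not assumed.) -/
theorem result
    (m n : ℕ) (hm : 0 < m) (hn : 0 < n) (hmn : Nat.Coprime m n) :
    ((Finset.range (m + n + 1) ×ˢ Finset.range (m + 1)).filter
      (fun ij : ℕ × ℕ => ij.1 ≤ ij.2 + n ∧ ij.2 * (m + n) < ij.1 * m)).card
      = (m - 1) * (n - 1) / 2 + (m + n - 1) := by
  set S := ((Finset.range (m + n + 1) ×ˢ Finset.range (m + 1)).filter
      (fun ij : ℕ × ℕ => ij.1 ≤ ij.2 + n ∧ ij.2 * (m + n) < ij.1 * m)) with hS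
  set T := (Finset.Icc 1 n).sigma (fun x => Finset.range ((x * m + n - 1) / n)) with hT
  have hlt : ∀ x y : ℕ, y < (x * m + n - 1) / n ↔ y * n < x * m := fun x y => by
    rw [← Nat.succ_le_iff, Nat.le_div_iff_mul_le hn, Nat.succ_mul]; omega
  have hcard : S.card = T.card := by
    refine Finset.card_bij' (fun ij _ => (⟨ij.1 - ij.2, ij.2⟩ : Σ _ : ℕ, ℕ)) (fun p _ => (p.1 + p.2, p.2)) ?_ ?_ ?_ ?_
    · intro ⟨i, j⟩ h
      simp only [hS, Finset.mem_filter, Finset.mem_product, Finset.mem_range] at h
      obtain ⟨-, h1, h2⟩ := h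
      have hji : j < i := by
        by_contra hc
        push Not at hc
        have := Nat.mul_le_mul_right m hc
        nlinarith
      simp only [hT, Finset.mem_sigma, Finset.mem_Icc, Finset.mem_range, hlt]
      obtain ⟨x, rfl⟩ : ∃ x, i = j + x := ⟨i - j, by omega⟩
      rw [Nat.add_sub_cancel_left]
      refine ⟨⟨by omega, by omega⟩, by nlinarith⟩
    · intro ⟨x, y⟩ h
      simp only [hT, Finset.mem_sigma, Finset.mem_Icc, Finset.mem_range, hlt] at h
      simp only [hS, Finset.mem_filter, Finset.mem_product, Finset.mem_range]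
      have hy : y < m := by
        by_contra hc
        push Not at hc
        have := Nat.mul_le_mul_right n hc
        have := Nat.mul_le_mul_right m h.1.2
        nlinarith
      refine ⟨⟨by omega, by omega⟩, by omega, by nlinarith [h.2]⟩
    · intro ⟨i, j⟩ h
      simp only [hS, Finset.mem_filter, Finset.mem_product, Finset.mem_range] at h
      obtain ⟨-, h1, h2⟩ := h
      have hji : j ≤ i := by
        by_contra hc
        push Not at hc
        have := Nat.mul_le_mul_right m hc.le
        nlinarith
      ext <;> simp [Nat.sub_add_cancel hji]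
    · intro ⟨x, y⟩ h
      simp
  rw [hcard, hT, Finset.card_sigma]
  simp only [Finset.card_range]
  have hval : ∀ x ∈ Finset.Icc 1 (n - 1), (x * m + n - 1) / n = x * m / n + 1 := by
    intro x hx
    rw [Finset.mem_Icc] at hx
    have hr : 0 < x * m % n := Nat.pos_of_ne_zero fun h0 => by
      have := Nat.le_of_dvd (by omega) (hmn.symm.dvd_of_dvd_mul_right (Nat.dvd_of_mod_eq_zero h0))
      omega
    have := Nat.div_add_mod (x * m) n
    have := Nat.mod_lt (x * m) hn
    rw [Nat.div_eq_iff hn]
    have e : (x * m / n + 1) * n = n * (x * m / n) + n := by ring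
    rw [e]
    omega
  obtain ⟨N, rfl⟩ : ∃ N, n = N + 1 := ⟨n - 1, by omega⟩
  simp only [Nat.add_sub_cancel] at hval ⊢
  rw [Finset.sum_Icc_succ_top (by omega), Finset.sum_congr rfl hval, Finset.sum_add_distrib,
    Finset.sum_const, Nat.card_Icc, smul_eq_mul, mul_one]
  have htop : ((N + 1) * m + N) / (N + 1) = m := by
    rw [Nat.add_comm ((N + 1) * m), Nat.add_mul_div_left _ _ hn, Nat.div_eq_of_lt (by omega), zero_add]
  rw [show (N + 1) * m + (N + 1) - 1 = (N + 1) * m + N by omega, htop]
  have href : ∑ x ∈ Finset.Icc 1 N, x * m / (N + 1) = ∑ x ∈ Finset.Icc 1 N, (N + 1 - x) * m / (N + 1) := by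
    refine Finset.sum_nbij' (fun x => N + 1 - x) (fun x => N + 1 - x) ?_ ?_ ?_ ?_ ?_ <;>
      intro x hx <;> simp only [Finset.coe_Icc, Set.mem_Icc, Finset.mem_Icc] at hx ⊢ <;>
      first | omega | (congr 2; omega)
  have htwo : 2 * ∑ x ∈ Finset.Icc 1 N, x * m / (N + 1) = (m - 1) * N := by
    rw [two_mul]
    nth_rw 2 [href]
    rw [← Finset.sum_add_distrib, Finset.sum_congr rfl (g := fun _ => m - 1) ?_, Finset.sum_const,
      Nat.card_Icc, smul_eq_mul, Nat.add_sub_cancel, mul_comm]
    intro x hx
    rw [Finset.mem_Icc] at hx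
    have h1 := Nat.div_add_mod (x * m) (N + 1)
    have h2 := Nat.mod_lt (x * m) hn
    have h3 := Nat.div_add_mod ((N + 1 - x) * m) (N + 1)
    have h4 := Nat.mod_lt ((N + 1 - x) * m) hn
    have hsum : (N + 1 - x) * m + x * m = (N + 1) * m := by rw [← add_mul, Nat.sub_add_cancel (by omega)]
    have hr : 0 < x * m % (N + 1) := Nat.pos_of_ne_zero fun h0 => by
      have := Nat.le_of_dvd (by omega) (hmn.symm.dvd_of_dvd_mul_right (Nat.dvd_of_mod_eq_zero h0))
      omega
    set q1 := x * m / (N + 1)
    set q2 := (N + 1 - x) * m / (N + 1)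
    have hlo : q1 + q2 < m := by
      by_contra hc
      push Not at hc
      have := Nat.mul_le_mul_left (N + 1) hc
      rw [Nat.mul_add] at this
      omega
    have hhi : m - 1 ≤ q1 + q2 := by
      by_contra hc
      have : q1 + q2 + 2 ≤ m := by omega
      have := Nat.mul_le_mul_left (N + 1) this
      rw [Nat.mul_add, Nat.mul_add] at this
      omega
    omega
  have hdiv : (m - 1) * N / 2 = ∑ x ∈ Finset.Icc 1 N, x * m / (N + 1) := by omega
  omega

end Groth.Agent.S15498
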