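import Groth.Statements.S17853
import Groth.Agent.HorrocksLib.Glue
import Mathlib.LinearAlgebra.TensorProduct.Tower

set_option autoImplicit false
open Polynomial LaurentPolynomial TensorProduct
universe u
open CAlg

namespace Groth.Agent.S17853

/-- For an arbitrary commutative ring A, a finitely generated projective A[t]-module M is extended from
A (isomorphic to A[t] ⊗_A P for an A-module P) if and only if it extends to a vector bundle on the
projective line over A. The latter is stated by gluing: there are a finitely generated projective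
module N over the polynomial ring of the chart at infinity and an isomorphism over the Laurent
polynomial ring between the localisation of M and the base change of N along s ↦ t⁻¹, written as a
bijective additive map A[t,t⁻¹] ⊗ M → A[t,t⁻¹] ⊗ N that is semilinear with respect to the A-algebra
involution t ↦ t⁻¹ of A[t,t⁻¹]. (The published statement adds: for A semilocal, M is then free on
each connected component of the affine line.) -/
theorem result
    (A : Type u) [CommRing A] (M : Type u) [AddCommGroup M] [Module A[X] M]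
    [Module.Finite A[X] M] [Module.Projective A[X] M] :
    (∃ (P : Type u) (_ : AddCommGroup P) (_ : Module A P), Nonempty (M ≃ₗ[A[X]] (A[X] ⊗[A] P))) ↔
      ∃ (N : Type u) (_ : AddCommGroup N) (_ : Module A[X] N),
        Module.Finite A[X] N ∧ Module.Projective A[X] N ∧
        ∃ e : (A[T;T⁻¹] ⊗[A[X]] M) →ₛₗ[(LaurentPolynomial.invert (R := A)).toRingEquiv.toRingHom]
            (A[T;T⁻¹] ⊗[A[X]] N), Function.Bijective e := by
  classical
  haveI : IsScalarTower A A[X] A[T;T⁻¹] := IsScalarTower.of_algebraMap_eq fun a => by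
    rw [LaurentPolynomial.algebraMap_eq_toLaurent, ← Polynomial.C_eq_algebraMap, Polynomial.toLaurent_C]
    rfl
  constructor
  · rintro ⟨P, _, _, ⟨φ⟩⟩
    let ψ : (A[T;T⁻¹] ⊗[A[X]] M) ≃ₗ[A[T;T⁻¹]] (A[T;T⁻¹] ⊗[A] P) :=
      (TensorProduct.AlgebraTensorModule.congr (LinearEquiv.refl A[T;T⁻¹] A[T;T⁻¹]) φ).trans
        (TensorProduct.AlgebraTensorModule.cancelBaseChange A A[X] A[T;T⁻¹] A[T;T⁻¹] P)
    let inv' := (LaurentPolynomial.invert (R := A))
    let T₀ : (A[T;T⁻¹] ⊗[A] P) →ₗ[A] (A[T;T⁻¹] ⊗[A] P) := TensorProduct.map inv'.toLinearMap LinearMap.id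
    have hT : ∀ (c : A[T;T⁻¹]) (z : A[T;T⁻¹] ⊗[A] P), T₀ (c • z) = inv' c • T₀ z := by
      intro c z
      induction z with
      | zero => simp
      | add a b ha hb => simp only [smul_add, map_add, ha, hb]
      | tmul s x => simp [T₀, TensorProduct.smul_tmul']
    have hTT : ∀ z, T₀ (T₀ z) = z := by
      intro z
      induction z with
      | zero => simp
      | add a b ha hb => simp only [map_add, ha, hb]
      | tmul s x => simp [T₀, inv', (LaurentPolynomial.involutive_invert (R := A)) s]
    refine ⟨M, inferInstance, inferInstance, inferInstance, inferInstance,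
      { toFun := fun z => ψ.symm (T₀ (ψ z))
        map_add' := fun a b => by simp
        map_smul' := fun c z => by
          rw [map_smul, hT, map_smul]
          rfl }, ?_⟩
    exact Function.bijective_iff_has_inverse.2 ⟨fun z => ψ.symm (T₀ (ψ z)),
      fun z => by change ψ.symm (T₀ (ψ (ψ.symm (T₀ (ψ z))))) = z; simp [hTT],
      fun z => by change ψ.symm (T₀ (ψ (ψ.symm (T₀ (ψ z))))) = z; simp [hTT]⟩
  · rintro ⟨N, _, _, hNf, hNp, E, hE⟩
    obtain ⟨m, e, ⟨PM⟩⟩ := HorrocksLib.exists_pres (R := A[X]) (M := M)
    obtain ⟨k, f, ⟨PN⟩⟩ := HorrocksLib.exists_pres (R := A[X]) (M := N)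
    have hglue := HorrocksLib.eqv_of_semilinear _ (fun a => (LaurentPolynomial.involutive_invert (R := A)) a)
      (PM.baseChange A[T;T⁻¹]) (PN.baseChange A[T;T⁻¹]) E hE
    have hpatch : HorrocksLib.Eqv e ((e.map (evalRingHom (0 : A))).map Polynomial.C) := by
      refine HorrocksLib.eqv_eval_zero e PM.idem fun p _ => ?_
      let φ := algebraMap A (Localization.AtPrime p)
      let Ψ : A[T;T⁻¹] →+* (Localization.AtPrime p)[T;T⁻¹] := AddMonoidAlgebra.mapRingHom ℤ φ
      have hC : ∀ a, Ψ (LaurentPolynomial.C a) = LaurentPolynomial.C (φ a) := fun a =>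
        AddMonoidAlgebra.mapRingHom_single φ 0 a
      have hT : ∀ n, Ψ (LaurentPolynomial.T n) = LaurentPolynomial.T n := fun n => by
        rw [LaurentPolynomial.T, LaurentPolynomial.T]
        exact (AddMonoidAlgebra.mapRingHom_single φ n 1).trans (by rw [map_one])
      have h1 : Ψ.comp (algebraMap A[X] A[T;T⁻¹]) = Polynomial.toLaurent.comp (mapRingHom φ) := by
        refine Polynomial.ringHom_ext (fun a => ?_) ?_ <;>
          simp [LaurentPolynomial.algebraMap_eq_toLaurent, hC, hT]
      have h2 : Ψ.comp ((LaurentPolynomial.invert (R := A)).toRingEquiv.toRingHom.comp (algebraMap A[X] A[T;T⁻¹])) =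
          (HorrocksLib.rho (Localization.AtPrime p)).comp (mapRingHom φ) := by
        refine Polynomial.ringHom_ext (fun a => ?_) ?_ <;>
          simp [LaurentPolynomial.algebraMap_eq_toLaurent, hC, hT, HorrocksLib.rho]
      have h3 := hglue.map Ψ
      rw [Matrix.map_map, Matrix.map_map, Matrix.map_map, ← RingHom.coe_comp, ← RingHom.coe_comp,
        ← RingHom.coe_comp, h1, RingHom.comp_assoc, h2, RingHom.coe_comp, RingHom.coe_comp, ← Matrix.map_map,
        ← Matrix.map_map] at h3
      exact HorrocksLib.eqv_one_of_glue (HorrocksLib.idem_map _ PM.idem) (HorrocksLib.idem_map _ PN.idem) h3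
    have he₀ := HorrocksLib.idem_map (evalRingHom (0 : A)) PM.idem
    refine ⟨LinearMap.range (e.map (evalRingHom (0 : A))).mulVecLin, inferInstance, inferInstance, ?_⟩
    exact HorrocksLib.Pres.nonempty_equiv PM ((HorrocksLib.presRange he₀).baseChange A[X])
      (by rwa [Polynomial.algebraMap_eq])

end Groth.Agent.S17853
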