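import Groth.Statements.S15499
import Groth.Agent.S17853
import Mathlib

set_option autoImplicit false
open Polynomial LaurentPolynomial
open scoped TensorProduct
universe u
open CAlg

set_option linter.style.haveILetI false

namespace Groth.Agent.S15499

/-- Let S = Spec R be a smooth connected affine complex variety, so that R is a finitely generated
smooth ℂ-algebra and an integral domain, and let F be a locally free sheaf of finite rank on the
projective line over S, presented by its two standard charts: a finitely generated projective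
R[X]-module P on the affine line over S, a finitely generated projective R[X]-module P' on the chart
at infinity, and an identification of their base changes to R[X, X⁻¹] that is additive, bijective
and semilinear over the R-algebra involution X ↦ X⁻¹. Then S is covered by basic open sets D(g_1),
…, D(g_n) such that F restricted to the affine line over each D(g_i) is free: the localisation of P
at g_i is a free module over the localisation of R[X] at g_i. -/
theorem result
    (R : Type u) [CommRing R] [IsDomain R] [Algebra ℂ R] [Algebra.FiniteType ℂ R]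
    [Algebra.Smooth ℂ R]
    (P : Type u) [AddCommGroup P] [Module R[X] P] [Module.Finite R[X] P]
    [Module.Projective R[X] P]
    (P' : Type u) [AddCommGroup P'] [Module R[X] P'] [Module.Finite R[X] P']
    [Module.Projective R[X] P']
    (e : R[T;T⁻¹] ⊗[R[X]] P ≃+ R[T;T⁻¹] ⊗[R[X]] P')
    (he : ∀ (a : R[T;T⁻¹]) (m : R[T;T⁻¹] ⊗[R[X]] P),
      e (a • m) = LaurentPolynomial.invert a • e m) :
    ∃ (n : ℕ) (g : Fin n → R), Ideal.span (Set.range g) = ⊤ ∧
      ∀ i, Module.Free (Localization.Away (Polynomial.C (g i) : R[X]))
        (LocalizedModule (Submonoid.powers (Polynomial.C (g i) : R[X])) P) := by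
  classical
  obtain ⟨P₀, _, _, ⟨ε⟩⟩ := (Groth.Agent.S17853.result R P).2 ⟨P', inferInstance, inferInstance, inferInstance, inferInstance,
    { toFun := e
      map_add' := map_add e
      map_smul' := he }, e.bijective⟩
  -- `P₀` is finite projective
  letI : Algebra R[X] R := (Polynomial.aeval (0 : R)).toRingHom.toAlgebra
  haveI : IsScalarTower R R[X] R := IsScalarTower.of_algebraMap_eq fun r =>
    (Polynomial.aeval_C (0 : R) r).symm
  haveI : Module.Finite R[X] (R[X] ⊗[R] P₀) := Module.Finite.equiv ε
  haveI : Module.Projective R[X] (R[X] ⊗[R] P₀) := Module.Projective.of_equiv ε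
  let e₀ : R ⊗[R[X]] (R[X] ⊗[R] P₀) ≃ₗ[R] P₀ :=
    TensorProduct.AlgebraTensorModule.cancelBaseChange R R[X] R R P₀ ≪≫ₗ TensorProduct.lid R P₀
  haveI : Module.Finite R P₀ := Module.Finite.equiv e₀
  haveI : Module.Projective R P₀ := Module.Projective.of_equiv e₀
  haveI : Module.FinitePresentation R P₀ := Module.finitePresentation_of_projective R P₀
  have hx : ∀ x : PrimeSpectrum R, ∃ g : R, g ∉ x.asIdeal ∧
      Module.Free (Localization.Away g) (LocalizedModule (Submonoid.powers g) P₀) := fun x => by
    haveI : Module.Free (Localization.AtPrime x.asIdeal) (LocalizedModule x.asIdeal.primeCompl P₀) := by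
      have h := Module.freeLocus_eq_univ (R := R) (M := P₀)
      exact Module.mem_freeLocus.1 (h ▸ Set.mem_univ x : x ∈ Module.freeLocus R P₀)
    obtain ⟨r, hr, hr', -⟩ := Module.FinitePresentation.exists_free_localizedModule_powers
      x.asIdeal.primeCompl (LocalizedModule.mkLinearMap x.asIdeal.primeCompl P₀) (Localization.AtPrime x.asIdeal)
    exact ⟨r, hr, hr'⟩
  choose g hg hfree using hx
  obtain ⟨T, hT⟩ := isCompact_univ.elim_finite_subcover
    (fun x => (PrimeSpectrum.basicOpen (g x) : Set (PrimeSpectrum R))) (fun x => (PrimeSpectrum.basicOpen _).2)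
    fun x _ => Set.mem_iUnion.2 ⟨x, hg x⟩
  refine ⟨T.card, fun i => g (T.equivFin.symm i), ?_, fun i => ?_⟩
  · by_contra hne
    obtain ⟨m, hm, hle⟩ := Ideal.exists_le_maximal _ hne
    obtain ⟨x, hx, hxm⟩ := Set.mem_iUnion₂.1 (hT (Set.mem_univ ⟨m, hm.isPrime⟩))
    exact hxm (hle (Ideal.subset_span ⟨T.equivFin ⟨x, hx⟩, by simp⟩))
  · let x : PrimeSpectrum R := (T.equivFin.symm i).1
    let C := Localization.Away (Polynomial.C (g x) : R[X])
    let A := Localization.Away (g x)
    letI : Algebra A C := (IsLocalization.Away.lift (g x) (g := algebraMap R C) (by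
      rw [IsScalarTower.algebraMap_apply R R[X] C]
      exact IsLocalization.Away.algebraMap_isUnit (Polynomial.C (g x) : R[X]))).toAlgebra
    haveI : IsScalarTower R A C := IsScalarTower.of_algebraMap_eq fun r =>
      (IsLocalization.Away.lift_eq (g x) _ r).symm
    haveI : Module.Free A (A ⊗[R] P₀) :=
      haveI := hfree x
      Module.Free.of_equiv (LocalizedModule.equivTensorProduct (Submonoid.powers (g x)) P₀)
    let e₁ : LocalizedModule (Submonoid.powers (Polynomial.C (g x) : R[X])) P ≃ₗ[C] C ⊗[A] (A ⊗[R] P₀) :=
      LocalizedModule.equivTensorProduct (Submonoid.powers (Polynomial.C (g x) : R[X])) P ≪≫ₗ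
      TensorProduct.AlgebraTensorModule.congr (LinearEquiv.refl C C) ε ≪≫ₗ
      TensorProduct.AlgebraTensorModule.cancelBaseChange R R[X] C C P₀ ≪≫ₗ
      (TensorProduct.AlgebraTensorModule.cancelBaseChange R A C C P₀).symm
    exact Module.Free.of_equiv e₁.symm

end Groth.Agent.S15499
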