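import Groth.Statements.S15500
import Groth.Agent.AVAmpleLib.CartierSection
import Groth.Agent.CurveAmpLib.Affine
import Groth.Agent.HilbPtsLib.SmoothCurve
import Groth.Agent.CurvOpenLib.Smooth
import Groth.Agent.FibDimLib.Comps
import Groth.Agent.FibDimLib.FieldExt
import Groth.Agent.IntMultLib.Cartier
import Groth.Agent.CubeConsLib.IsoCls
import Groth.Agent.S0054
import Groth.Agent.ParaFLib.Basic
import Groth.Agent.ChowLib.Embed
import Groth.Agent.AlgSpLib.ReducedSmooth
-- import your own Groth.Agent.* helpers here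

set_option autoImplicit false
open CategoryTheory AlgebraicGeometry
open An

namespace Groth.Agent.S15500
open CategoryTheory.Limits
open TwistLib (genSet)

theorem fibre_irreducible_dim {Xb S : Scheme.{0}} (fb : Xb ⟶ S) [LocallyOfFiniteType fb]
    (h : ∀ (Ω : Type) [Field Ω] [IsAlgClosed Ω] (σ : Spec (CommRingCat.of Ω) ⟶ S),
      IrreducibleSpace ↥(pullback fb σ) ∧ topologicalKrullDim ↥(pullback fb σ) = 1) (s : S) :
    IrreducibleSpace ↥(fb.fiber s) ∧ topologicalKrullDim ↥(fb.fiber s) = 1 := by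
  let k := S.residueField s
  let Ω := AlgebraicClosure k
  let a : Spec (CommRingCat.of Ω) ⟶ Spec (CommRingCat.of k) := Spec.map (CommRingCat.ofHom (algebraMap k Ω))
  let σ : Spec (CommRingCat.of Ω) ⟶ S := a ≫ S.fromSpecResidueField s
  obtain ⟨hirr, hdim⟩ := h Ω σ
  let e : pullback (fb.fiberToSpecResidueField s) a ≅ pullback fb σ :=
    ((IsPullback.of_hasPullback (fb.fiberToSpecResidueField s) a).paste_horiz
      (IsPullback.of_hasPullback fb (S.fromSpecResidueField s))).isoPullback
  haveI : LocallyOfFiniteType (fb.fiberToSpecResidueField s) :=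
    MorphismProperty.pullback_snd fb _ (inferInstance : LocallyOfFiniteType fb)
  haveI : Surjective a := ⟨fun y => by
    haveI : Subsingleton ↥(Spec (CommRingCat.of k)) := inferInstanceAs (Subsingleton (PrimeSpectrum k))
    exact ⟨(inferInstance : Nonempty (PrimeSpectrum Ω)).some, Subsingleton.elim _ _⟩⟩
  have hsur : Function.Surjective (pullback.fst (fb.fiberToSpecResidueField s) a).base :=
    (MorphismProperty.pullback_fst (P := @Surjective) _ _ (inferInstance : Surjective a)).surj
  haveI := hirr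
  let g := e.inv ≫ pullback.fst (fb.fiberToSpecResidueField s) a
  have hg : Function.Surjective g.base := hsur.comp (Scheme.homeoOfIso e).symm.surjective
  refine ⟨(irreducibleSpace_def _).2 ?_, ?_⟩
  · have := (IrreducibleSpace.isIrreducible_univ ↥(pullback fb σ)).image g.base g.continuous.continuousOn
    rwa [Set.image_univ, hg.range_eq] at this
  rw [← FibDimLib.topologicalKrullDim_pullback_field k Ω (fb.fiberToSpecResidueField s : fb.fiber s ⟶ Spec (CommRingCat.of k))]
  exact ((Scheme.homeoOfIso e).isHomeomorph.topologicalKrullDim_eq).trans hdim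

theorem isIntegral_fibre {Xb S : Scheme.{0}} (fb : Xb ⟶ S) [Smooth fb] (s : S)
    [IrreducibleSpace ↥(fb.fiber s)] : IsIntegral (fb.fiber s) := by
  haveI : Smooth (fb.fiberToSpecResidueField s) := MorphismProperty.pullback_snd (P := @Smooth) _ _ ‹_›
  haveI : IsReduced (fb.fiber s) := AlgSpLib.isReduced_of_smooth (fb.fiberToSpecResidueField s)
  exact isIntegral_of_irreducibleSpace_of_isReduced _

theorem main {X S Xb Y : Scheme.{0}} [IsNoetherian S] (j : X ⟶ Xb) (fb : Xb ⟶ S) (i : Y ⟶ Xb)
    [IsOpenImmersion j] [IsClosedImmersion i] [Smooth fb] [IsProper fb]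
    (hr : Set.range j.base = (Set.range i.base)ᶜ)
    (hd : ∀ s : S, fb.base ⁻¹' {s} ⊆ closure (Set.range j.base ∩ fb.base ⁻¹' {s}))
    (hg : ∀ (Ω : Type) [Field Ω] [IsAlgClosed Ω] (σ : Spec (CommRingCat.of Ω) ⟶ S),
      IrreducibleSpace ↥(pullback fb σ) ∧ topologicalKrullDim ↥(pullback fb σ) = 1)
    [IsFinite (i ≫ fb)] [Etale (i ≫ fb)] (hs : Function.Surjective (i ≫ fb).base) :
    IsAffineHom (j ≫ fb) ∧ Surjective (j ≫ fb) := by
  have hpt : ∀ s : S, ∃ x : X, (j ≫ fb).base x = s := fun s => by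
    haveI := (fibre_irreducible_dim fb hg s).1
    obtain ⟨z⟩ : Nonempty ↥(fb.fiber s) := inferInstance
    have hz : fb.fiberι s z ∈ fb.base ⁻¹' {s} := (fb.range_fiberι s).le ⟨z, rfl⟩
    obtain ⟨w, -, ⟨x, rfl⟩, hw⟩ := mem_closure_iff.mp (hd s hz) Set.univ isOpen_univ trivial
    exact ⟨x, hw⟩
  refine ⟨?_, ⟨hpt⟩⟩
  haveI : SmoothOfRelativeDimension 1 fb := by
    refine (CurvOpenLib.smoothOfRelativeDimension_iff_forall 1 fb).2 ⟨inferInstance, fun x => ?_⟩
    obtain ⟨hirr, hdim⟩ := fibre_irreducible_dim fb hg (fb.base x)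
    haveI := hirr
    haveI : LocallyOfFiniteType (fb.fiberToSpecResidueField (fb.base x)) :=
      MorphismProperty.pullback_snd fb _ (inferInstance : LocallyOfFiniteType fb)
    show FlatMor.localDim (fb.fiber (fb.base x)) (fb.asFiber x) = _
    rw [FibDimLib.localDim_of_irreducible (k := S.residueField (fb.base x)) (fb.fiberToSpecResidueField (fb.base x)), hdim]
    rfl
  let I := i.ker
  have hI : BlowUp.IsEffCartierIdeal I := by
    refine ((HilbPts.SC.effCartier_iff fb I).2 ?_).1
    have e : i.toImage ≫ (I.subschemeι ≫ fb) = i ≫ fb := by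
      rw [← Category.assoc]; exact congrArg (· ≫ fb) i.toImage_imageι
    haveI : IsIso i.toImage := inferInstance
    have e' : I.subschemeι ≫ fb = inv i.toImage ≫ (i ≫ fb) := by rw [← e, IsIso.inv_hom_id_assoc]
    rw [e']
    exact ⟨inferInstance, inferInstance, inferInstance⟩
  have hsupp : (I.support : Set Xb) = Set.range i.base :=
    i.support_ker.trans i.isClosedEmbedding.isClosed_range.closure_eq
  let M := ClSub.idealMod I
  have hM : PicF.IsInvertible M := IntMultLib.isInvertible_idealMod _ hI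
  let L := MiscFlat6.dual M
  have hL : PicF.IsInvertible L := MiscFlat6.dual_isInvertible hM
  have hLI : ClSub.IsInverseOf L M :=
    (MiscFlat6.nonempty_dualIso hM).map fun e => HilbPolyLib.swapIso _ _ ≪≫ e
  obtain ⟨σ, hσ⟩ := AVAmpleLib.exists_section hL hLI
  have hamp : ∀ s : S, CohB1.IsAmple ((Scheme.Modules.pullback (fb.fiberι s)).obj L) := fun s => by
    obtain ⟨hirr, hdim⟩ := fibre_irreducible_dim fb hg s
    haveI := hirr
    haveI := isIntegral_fibre fb s
    letI : (fb.fiber s).Over (Spec (CommRingCat.of (S.residueField s))) := ⟨fb.fiberToSpecResidueField s⟩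
    haveI : IsProper (fb.fiber s ↘ Spec (CommRingCat.of (S.residueField s))) :=
      MorphismProperty.pullback_snd fb _ (inferInstance : IsProper fb)
    have hL' := AmpleDevLib.isInvertible_pb (fb.fiberι s) hL
    refine SerreVanLib.isAmple_of_deg_pos (k := S.residueField s) hdim hL'
      (CurveAmpLib.deg_pos_of_section (S.residueField s) hdim hL' (KFlatLib.puSec (fb.fiberι s) σ) ?_ ?_)
    · rw [AmpleDevLib.genSet_puSec (fb.fiberι s) hL σ]
      obtain ⟨x, hx⟩ := hpt s
      obtain ⟨z, hz⟩ : j.base x ∈ Set.range (fb.fiberι s).base := (fb.range_fiberι s).ge hx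
      refine ⟨z, ?_⟩
      show fb.fiberι s z ∈ (genSet hL σ : Set Xb)
      rw [hσ, hsupp, ← hr]
      exact ⟨x, hz.symm⟩
    · rw [AmpleDevLib.genSet_puSec (fb.fiberι s) hL σ]
      intro htop
      obtain ⟨y, hy⟩ := hs s
      obtain ⟨z, hz⟩ : i.base y ∈ Set.range (fb.fiberι s).base := (fb.range_fiberι s).ge hy
      have h1 : fb.fiberι s z ∈ (genSet hL σ : Set Xb) := htop.ge (show z ∈ ⊤ from trivial)
      rw [hσ, hsupp] at h1
      exact h1 ⟨y, hz.symm⟩
  choose V hyV hV using fun s => Groth.Agent.S0054.result fb L hL s (hamp s)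
  have hW : ∀ s : S, ∃ W : S.Opens, IsAffineOpen W ∧ s ∈ W ∧ W ≤ V s := fun s => by
    obtain ⟨W, hW, hsW, hWV⟩ := exists_isAffineOpen_mem_and_subset (hyV s)
    exact ⟨W, hW, hsW, hWV⟩
  choose W hWa hsW hWV using hW
  rw [HasAffineProperty.iff_of_iSup_eq_top (P := @IsAffineHom) (fun s : S => (⟨W s, hWa s⟩ : S.affineOpens))
    (eq_top_iff.mpr fun s _ => TopologicalSpace.Opens.mem_iSup.mpr ⟨s, hsW s⟩)]
  intro s
  show IsAffineOpen ((j ≫ fb) ⁻¹ᵁ W s)
  let T := fb ⁻¹ᵁ W s
  let q : T.toScheme ⟶ Spec (CommRingCat.of Γ(S, W s)) := (fb ∣_ W s) ≫ (hWa s).isoSpec.hom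
  haveI : IsProper q := inferInstanceAs (IsProper ((fb ∣_ W s) ≫ (hWa s).isoSpec.hom))
  have hA : CohB1.IsAmple ((Scheme.Modules.pullback T.ι).obj L) :=
    AmpleDevLib.isAmple_of_iso (ParaFLib.isInvertible_restrict T.ι hL) (AmpleDevLib.isInvertible_pb T.ι hL) ((Scheme.Modules.restrictFunctorIsoPullback T.ι).app L) (hV s (W s) (hWV s) (hWa s))
  have hG := (CurveAmpLib.isAffineOpen_genSet q (AmpleDevLib.isInvertible_pb T.ι hL) hA
    (KFlatLib.puSec T.ι σ)).image_of_isOpenImmersion T.ι
  rw [AmpleDevLib.genSet_puSec T.ι hL σ, T.ι.image_preimage_eq_opensRange_inf, T.opensRange_ι] at hG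
  have hle : T ⊓ genSet hL σ ≤ j.opensRange := fun x hx => by
    have h1 : x ∈ (genSet hL σ : Set Xb) := hx.2
    rw [hσ, hsupp, ← hr] at h1
    exact h1
  have he : (j ≫ fb) ⁻¹ᵁ W s = j ⁻¹ᵁ (T ⊓ genSet hL σ) := by
    ext x
    refine ⟨fun hx => ⟨hx, ?_⟩, fun hx => hx.1⟩
    show j x ∈ (genSet hL σ : Set Xb)
    rw [hσ, hsupp, ← hr]
    exact ⟨x, rfl⟩
  rw [he]
  exact hG.preimage_of_isOpenImmersion j hle


/-- An elementary fibration f : X → S of smooth complex varieties is affine and surjective, elementary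
fibration being taken in the following sense: f factors as an open immersion j : X → X̄ followed by
f̄ : X̄ → S, where f̄ is smooth and is a closed subscheme of some projective space over S with
geometrically irreducible fibres of dimension one, the complement of j(X) is the image of a closed
immersion Y → X̄ with Y finite, etale and surjective over S, and j(X) is dense in every fibre of f̄
(for smooth complex varieties the last clause is automatic, and this is the usual notion: a smooth
projective family of irreducible curves minus a finite etale multisection). -/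
theorem result (X S : Scheme.{0})
    [X.Over An.SC] [Smooth (X ↘ An.SC)] [IsSeparated (X ↘ An.SC)] [QuasiCompact (X ↘ An.SC)]
    [S.Over An.SC] [Smooth (S ↘ An.SC)] [IsSeparated (S ↘ An.SC)] [QuasiCompact (S ↘ An.SC)]
    (f : X ⟶ S) [f.IsOver An.SC] (hf : An.IsElementaryFibration f) :
    IsAffineHom f ∧ Surjective f := by
  obtain ⟨Xb, Y, j, fb, i, rfl, hj, hi, hr, hd, hsm, hproj, hg, hfin, het, hsur⟩ := hf
  haveI : IsProper fb := by
    obtain ⟨n, c, hc, hcb⟩ := hproj
    haveI : IsProper (CohB1.ProjSpaceOver.toBase n S) := ChowLib.isProper_toBase n S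
    rw [← hcb]; infer_instance
  haveI : CompactSpace S := QuasiCompact.compactSpace_of_compactSpace (S ↘ An.SC)
  haveI : IsLocallyNoetherian S := LocallyOfFiniteType.isLocallyNoetherian (S ↘ An.SC)
  haveI : IsNoetherian S := ⟨⟩
  exact main j fb i hr hd hg hsur


end Groth.Agent.S15500
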