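import Groth.Statements.S15504
import Mathlib

set_option autoImplicit false
universe u v
open FrobAlg

namespace Groth.Agent.S15504

/-- Let k be an algebraically closed field of characteristic p, W = W(k) the ring of p-typical Witt
vectors, M a finitely generated torsion W-module and φ a p⁻¹-linear endomorphism of M (additive,
with φ(a·m) = σ⁻¹(a)·φ(m) for the Frobenius automorphism σ of W). Then M = M_s ⊕ M_n for two
φ-stable submodules, with φ bijective on M_s and nilpotent on M_n (one iterate of φ kills M_n). -/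
theorem result (p : ℕ) [Fact p.Prime]
    (k : Type u) [Field k] [CharP k p] [IsAlgClosed k]
    (M : Type v) [AddCommGroup M] [Module (WittVector p k) M] [Module.Finite (WittVector p k) M]
    (hM : Module.IsTorsion (WittVector p k) M)
    (φ : M →ₛₗ[((WittVector.frobeniusEquiv p k).symm : WittVector p k →+* WittVector p k)] M) :
    ∃ Ms Mn : Submodule (WittVector p k) M, IsCompl Ms Mn ∧
      Set.MapsTo φ Ms Ms ∧ Set.MapsTo φ Mn Mn ∧ Set.BijOn φ Ms Ms ∧
      ∃ r : ℕ, ∀ x ∈ Mn, (⇑φ)^[r] x = 0 := by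
  classical
  haveI : IsDiscreteValuationRing (WittVector p k) := inferInstance
  haveI : IsFiniteLength (WittVector p k) M := by
    haveI : IsNoetherian (WittVector p k) M := inferInstance
    haveI : IsArtinian (WittVector p k) M := by
      obtain ⟨a, ha⟩ := Submodule.annihilator_top_inter_nonZeroDivisors hM
      haveI : IsArtinianRing (WittVector p k ⧸ Ideal.span {a}) :=
        isArtinian_of_tower (WittVector p k) (isFiniteLength_iff_isNoetherian_isArtinian.1
          (isFiniteLength_quotient_span_singleton (WittVector p k) ha.2)).2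
      have hI : Module.IsTorsionBySet (WittVector p k) M (Ideal.span {a}) := by
        rw [← Module.isTorsionBySet_iff_is_torsion_by_span, Module.isTorsionBySet_singleton_iff]
        exact fun x => Submodule.mem_annihilator.1 ha.1 x trivial
      letI := hI.module
      haveI : Module.Finite (WittVector p k ⧸ Ideal.span {a}) M := Module.Finite.of_restrictScalars_finite (WittVector p k) _ M
      exact isArtinian_of_surjective_algebraMap (R := WittVector p k ⧸ Ideal.span {a}) Ideal.Quotient.mk_surjective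
    exact isFiniteLength_iff_isNoetherian_isArtinian.2 ⟨inferInstance, inferInstance⟩
  haveI := (isFiniteLength_iff_isNoetherian_isArtinian.1 ‹IsFiniteLength (WittVector p k) M›).1
  haveI := (isFiniteLength_iff_isNoetherian_isArtinian.1 ‹IsFiniteLength (WittVector p k) M›).2
  have hsc : ∀ n : ℕ, ∀ c : WittVector p k, ∃ c' : WittVector p k, ∀ x : M, (⇑φ)^[n] (c' • x) = c • (⇑φ)^[n] x := by
    intro n
    induction n with
    | zero => exact fun c => ⟨c, fun x => rfl⟩
    | succ n ih =>
      intro c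
      obtain ⟨c', hc'⟩ := ih (WittVector.frobeniusEquiv p k c)
      refine ⟨c', fun x => ?_⟩
      rw [Function.iterate_succ_apply', Function.iterate_succ_apply', hc', map_smulₛₗ]
      congr 1
      exact RingEquiv.symm_apply_apply _ c
  have hsc' : ∀ n : ℕ, ∀ c : WittVector p k, ∃ c' : WittVector p k, ∀ x : M, (⇑φ)^[n] (c • x) = c' • (⇑φ)^[n] x := by
    intro n
    induction n with
    | zero => exact fun c => ⟨c, fun x => rfl⟩
    | succ n ih =>
      intro c
      obtain ⟨c', hc'⟩ := ih c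
      exact ⟨_, fun x => by rw [Function.iterate_succ_apply', Function.iterate_succ_apply', hc', map_smulₛₗ]⟩
  have hadd : ∀ (n : ℕ) (x y : M), (⇑φ)^[n] (x + y) = (⇑φ)^[n] x + (⇑φ)^[n] y := fun n x y => iterate_map_add φ n x y
  have hzero : ∀ n : ℕ, (⇑φ)^[n] (0 : M) = 0 := fun n => iterate_map_zero φ n
  let Img : ℕ → Submodule (WittVector p k) M := fun n =>
    { carrier := Set.range (⇑φ)^[n]
      add_mem' := by rintro _ _ ⟨x, rfl⟩ ⟨y, rfl⟩; exact ⟨x + y, hadd n x y⟩
      zero_mem' := ⟨0, hzero n⟩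
      smul_mem' := by
        rintro c _ ⟨x, rfl⟩
        obtain ⟨c', hc'⟩ := hsc n c
        exact ⟨c' • x, hc' x⟩ }
  let Ker : ℕ → Submodule (WittVector p k) M := fun n =>
    { carrier := {x | (⇑φ)^[n] x = 0}
      add_mem' := by
        intro x y (hx : (⇑φ)^[n] x = 0) (hy : (⇑φ)^[n] y = 0)
        show (⇑φ)^[n] (x + y) = 0
        rw [hadd, hx, hy, add_zero]
      zero_mem' := hzero n
      smul_mem' := by
        intro c x (hx : (⇑φ)^[n] x = 0)
        show (⇑φ)^[n] (c • x) = 0
        obtain ⟨c', hc'⟩ := hsc' n c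
        rw [hc', hx, smul_zero] }
  have hImg : Antitone Img := antitone_nat_of_succ_le fun n => by
    rintro _ ⟨x, rfl⟩
    exact ⟨φ x, (Function.iterate_succ_apply _ _ _).symm⟩
  have hKer : Monotone Ker := monotone_nat_of_le_succ fun n x (hx : (⇑φ)^[n] x = 0) => by
    show (⇑φ)^[n + 1] x = 0
    rw [Function.iterate_succ_apply', hx, map_zero]
  obtain ⟨r₁, hr₁⟩ := IsArtinian.monotone_stabilizes (⟨fun n => OrderDual.toDual (Img n), hImg⟩ : ℕ →o (Submodule (WittVector p k) M)ᵒᵈ)
  obtain ⟨r₂, hr₂⟩ := monotone_stabilizes_iff_noetherian.2 inferInstance (⟨Ker, hKer⟩ : ℕ →o Submodule (WittVector p k) M)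
  let r := max r₁ r₂
  have hI : ∀ n, r ≤ n → Img n = Img r := fun n hn =>
    ((hr₁ n (le_trans (le_max_left _ _) hn)).symm.trans (hr₁ r (le_max_left _ _)))
  have hK : ∀ n, r ≤ n → Ker n = Ker r := fun n hn =>
    ((hr₂ n (le_trans (le_max_right _ _) hn)).symm.trans (hr₂ r (le_max_right _ _)))
  have hinj : ∀ x ∈ Img r, ∀ j, (⇑φ)^[j] x = 0 → x = 0 := by
    rintro _ ⟨y, rfl⟩ j hj
    rw [← Function.iterate_add_apply] at hj
    exact (hK (j + r) (Nat.le_add_left _ _)).le hj
  refine ⟨Img r, Ker r, ⟨?_, ?_⟩, ?_, ?_, ⟨?_, ?_, ?_⟩, r, fun x hx => hx⟩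
  · exact disjoint_iff_inf_le.2 fun x hx => hinj x hx.1 r hx.2
  · refine codisjoint_iff_le_sup.2 fun x _ => ?_
    obtain ⟨y, hy⟩ : (⇑φ)^[r] x ∈ Img (r + r) := by rw [hI (r + r) (Nat.le_add_left _ _)]; exact ⟨x, rfl⟩
    refine Submodule.mem_sup.2 ⟨(⇑φ)^[r] y, ⟨y, rfl⟩, x - (⇑φ)^[r] y, ?_, add_sub_cancel _ _⟩
    show (⇑φ)^[r] (x - (⇑φ)^[r] y) = 0
    rw [iterate_map_sub, ← Function.iterate_add_apply, hy, sub_self]
  · rintro _ ⟨y, rfl⟩
    exact ⟨φ y, by rw [← Function.iterate_succ_apply, Function.iterate_succ_apply']⟩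
  · intro x (hx : (⇑φ)^[r] x = 0)
    show (⇑φ)^[r] (φ x) = 0
    rw [← Function.iterate_succ_apply, Function.iterate_succ_apply', hx, map_zero]
  · rintro _ ⟨y, rfl⟩
    exact ⟨φ y, by rw [← Function.iterate_succ_apply, Function.iterate_succ_apply']⟩
  · intro a ha b hb hab
    refine sub_eq_zero.1 (hinj _ (sub_mem ha hb) 1 ?_)
    show φ (a - b) = 0
    rw [map_sub, hab, sub_self]
  · intro x hx
    obtain ⟨y, hy⟩ := (hI (r + 1) (Nat.le_succ _)).ge hx
    exact ⟨(⇑φ)^[r] y, ⟨y, rfl⟩, by rw [← hy, Function.iterate_succ_apply']⟩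

end Groth.Agent.S15504
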