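import Groth.Statements.S15505
import Mathlib


-- import your own Groth.Agent.* helpers here

set_option autoImplicit false
universe u v w
open FrobAlg

namespace Groth.Agent.S15505

/-- Let k be an algebraically closed field of characteristic p, V a k-vector space, φ a p⁻¹-linear
endomorphism of V (additive, φ(a·v) = a^{1/p}·φ(v)) and b a finite basis of V consisting of vectors
fixed by φ. Then the vectors fixed by φ are exactly the combinations of the b_i with coefficients in
the prime field: v is fixed if and only if v = Σ c_i·b_i with all c_i in the image of ℤ/p. -/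
theorem result (p : ℕ) [Fact p.Prime]
    (k : Type u) [Field k] [CharP k p] [IsAlgClosed k]
    (V : Type v) [AddCommGroup V] [Module k V]
    (φ : V →ₛₗ[((frobeniusEquiv k p).symm : k →+* k)] V)
    {ι : Type w} [Fintype ι] (b : Module.Basis ι k V) (hb : ∀ i, φ (b i) = b i) (v : V) :
    φ v = v ↔ ∃ c : ι → ZMod p, v = ∑ i, (ZMod.castHom (dvd_refl p) k (c i)) • b i := by
  open Polynomial in
  focus
    classical
    have hfix : ∀ c : k, (frobeniusEquiv k p).symm c = c ↔ ∃ z : ZMod p, ZMod.castHom (dvd_refl p) k z = c := by
      intro c
      rw [RingEquiv.symm_apply_eq, frobeniusEquiv_apply, frobenius_def]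
      constructor
      · intro h
        let F : Finset k := Finset.univ.map ⟨ZMod.castHom (dvd_refl p) k, (ZMod.castHom (dvd_refl p) k).injective⟩
        by_contra hne
        push Not at hne
        have hp1 := (Fact.out : p.Prime).one_lt
        have hX : ((X : k[X]) ^ p - X) ≠ 0 := FiniteField.X_pow_card_sub_X_ne_zero k hp1
        have hsub : insert c F ⊆ ((X : k[X]) ^ p - X).roots.toFinset := by
          intro z hz
          rw [Multiset.mem_toFinset, mem_roots hX]
          simp only [IsRoot.def, eval_sub, eval_pow, eval_X, sub_eq_zero]
          rcases Finset.mem_insert.1 hz with rfl | hz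
          · exact h.symm
          · obtain ⟨w, -, rfl⟩ := Finset.mem_map.1 hz
            simp only [Function.Embedding.coeFn_mk]
            rw [← map_pow, ZMod.pow_card]
        have hc : c ∉ F := fun hc => by
          obtain ⟨w, -, hw⟩ := Finset.mem_map.1 hc
          exact hne w hw
        have h1 := (Finset.card_le_card hsub).trans ((Multiset.toFinset_card_le _).trans (card_roots' _))
        rw [Finset.card_insert_of_notMem hc, FiniteField.X_pow_card_sub_X_natDegree_eq k hp1, Finset.card_map, Finset.card_univ, ZMod.card] at h1
        omega
      · rintro ⟨z, rfl⟩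
        rw [← map_pow, ZMod.pow_card]
    constructor
    · intro h
      have hco : ∀ i, (frobeniusEquiv k p).symm (b.repr v i) = b.repr v i := by
        intro i
        have h1 : φ v = ∑ j, (frobeniusEquiv k p).symm (b.repr v j) • b j := by
          conv_lhs => rw [← b.sum_repr v]
          simp only [map_sum, map_smulₛₗ, hb]
          rfl
        have h2 := congrArg (fun w => b.repr w i) (h.symm.trans h1)
        simp only [Module.Basis.repr_sum_self] at h2
        exact h2.symm
      choose c hc using fun i => (hfix _).1 (hco i)
      exact ⟨c, by simp only [hc, b.sum_repr]⟩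
    · rintro ⟨c, rfl⟩
      simp only [map_sum, map_smulₛₗ, hb]
      exact Finset.sum_congr rfl fun i _ => by rw [show ((frobeniusEquiv k p).symm : k →+* k) (ZMod.castHom (dvd_refl p) k (c i)) = ZMod.castHom (dvd_refl p) k (c i) from (hfix _).2 ⟨c i, rfl⟩]

end Groth.Agent.S15505
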