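import Groth.Statements.S15509
import Groth.Agent.AbSchLib.MulN
import Groth.Agent.NormalLib.Regular

set_option autoImplicit false
universe u
open CategoryTheory CategoryTheory.Limits MonoidalCategory CartesianMonoidalCategory MonObj AlgebraicGeometry
open AbSch

namespace Groth.Agent.S15509

open MonoidalCategory CartesianMonoidalCategory
open scoped MonObj

variable {R : Type u} [CommRing R] (A : Over (Spec (CommRingCat.of R))) [GrpObj A]

/-- The unit section. -/
noncomputable def unit0 : Spec (CommRingCat.of R) ⟶ A.left :=
  (1 : Over.mk (𝟙 (Spec (CommRingCat.of R))) ⟶ A).left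

theorem one_left (T : Over (Spec (CommRingCat.of R))) : (1 : T ⟶ A).left = T.hom ≫ unit0 A := by
  have h1 : (Over.homMk T.hom (Category.comp_id _) : T ⟶ Over.mk (𝟙 (Spec (CommRingCat.of R)))) ≫
      (1 : Over.mk (𝟙 (Spec (CommRingCat.of R))) ⟶ A) = 1 := MonObj.comp_one _
  rw [← h1]
  rfl

theorem pow_left (m : ℕ) {T : Over (Spec (CommRingCat.of R))} (a : T ⟶ A) :
    a.left ≫ ((𝟙 A : A ⟶ A) ^ m).left = (a ^ m).left := by
  rw [← Over.comp_left, MonObj.comp_pow, Category.comp_id]

/-- Torsion points are sections of the kernel of the power map. -/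
noncomputable def torsEquiv (m : ℕ) [IsCommMonObj A] (T : Over (Spec (CommRingCat.of R))) :
    AbDual.torsPts A m T ≃
      {p : T.left ⟶ pullback ((𝟙 A : A ⟶ A) ^ m).left (unit0 A) // p ≫ pullback.snd _ _ = T.hom} where
  toFun a := ⟨pullback.lift a.1.left T.hom (by
    rw [pow_left, (AbDual.mem_torsPts A _).1 a.2, one_left]), pullback.lift_snd _ _ _⟩
  invFun p := ⟨Over.homMk (p.1 ≫ pullback.fst _ _) (by
      have h : ((𝟙 A : A ⟶ A) ^ m).left ≫ A.hom = A.hom := Over.w _
      have h2 : unit0 A ≫ A.hom = 𝟙 _ := Over.w (1 : Over.mk (𝟙 (Spec (CommRingCat.of R))) ⟶ A)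
      rw [Category.assoc, ← h, pullback.condition_assoc, h2, Category.comp_id, p.2]), (AbDual.mem_torsPts A _).2 (by
      ext1
      rw [← pow_left, one_left]
      show (p.1 ≫ pullback.fst _ _) ≫ _ = _
      rw [Category.assoc, pullback.condition, reassoc_of% p.2])⟩
  left_inv a := Subtype.ext (by ext1; exact pullback.lift_fst _ _ _)
  right_inv p := Subtype.ext (pullback.hom_ext (pullback.lift_fst _ _ _) ((pullback.lift_snd _ _ _).trans p.2.symm))

/-- Points of an affine scheme over `R` are algebra maps. -/
noncomputable def affineEquiv {P : Scheme.{u}} [IsAffine P] (v : P ⟶ Spec (CommRingCat.of R)) (F : Type u) [CommRing F] [Algebra R F] :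
    letI := ((Scheme.ΓSpecIso (CommRingCat.of R)).inv ≫ v.appTop).hom.toAlgebra
    {p : Spec (CommRingCat.of F) ⟶ P // p ≫ v = Spec.map (CommRingCat.ofHom (algebraMap R F))} ≃
      (Γ(P, ⊤) →ₐ[R] F) :=
  letI := ((Scheme.ΓSpecIso (CommRingCat.of R)).inv ≫ v.appTop).hom.toAlgebra
  have hv : P.isoSpec.hom ≫ Spec.map (CommRingCat.ofHom (algebraMap R Γ(P, ⊤))) = v := by
    show P.isoSpec.hom ≫ Spec.map ((Scheme.ΓSpecIso (CommRingCat.of R)).inv ≫ v.appTop) = v
    rw [Spec.map_comp, ← Category.assoc, Scheme.isoSpec_hom_naturality, Category.assoc,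
      Scheme.isoSpec_Spec_hom, ← Spec.map_comp, Iso.inv_hom_id, Spec.map_id, Category.comp_id]
  { toFun := fun p =>
      { (Spec.preimage (p.1 ≫ P.isoSpec.hom)).hom with
        commutes' := fun r => by
          have h : CommRingCat.ofHom (algebraMap R Γ(P, ⊤)) ≫ Spec.preimage (p.1 ≫ P.isoSpec.hom) =
              CommRingCat.ofHom (algebraMap R F) := by
            apply Spec.map_injective
            rw [Spec.map_comp, Spec.map_preimage, Category.assoc, hv, p.2]
          exact congr($(congrArg CommRingCat.Hom.hom h) r) }
    invFun := fun φ => ⟨Spec.map (CommRingCat.ofHom φ.toRingHom) ≫ P.isoSpec.inv, by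
      rw [Category.assoc]
      refine (congrArg (fun z => Spec.map (CommRingCat.ofHom φ.toRingHom) ≫ P.isoSpec.inv ≫ z) hv.symm).trans ?_
      rw [Iso.inv_hom_id_assoc, ← Spec.map_comp, ← CommRingCat.ofHom_comp]
      congr 2
      exact φ.comp_algebraMap⟩
    left_inv := fun p => Subtype.ext (by
      show Spec.map (Spec.preimage (p.1 ≫ P.isoSpec.hom)) ≫ P.isoSpec.inv = p.1
      rw [Spec.map_preimage, Category.assoc, Iso.hom_inv_id, Category.comp_id])
    right_inv := fun φ => AlgHom.ext fun c => by
      show (Spec.preimage ((Spec.map (CommRingCat.ofHom φ.toRingHom) ≫ P.isoSpec.inv) ≫ P.isoSpec.hom)).hom c = φ c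
      rw [Category.assoc, Iso.inv_hom_id, Category.comp_id, Spec.preimage_map]
      rfl }

/-- Points of a finite unramified algebra in the fraction field inject into the points in the
residue field. -/
theorem card_algHom_le {R C : Type u} [CommRing R] [IsDomain R] [IsNoetherianRing R] [IsLocalRing R] [IsIntegrallyClosed R]
    [CommRing C] [Algebra R C] [Module.Finite R C] [Algebra.FormallyUnramified R C] :
    Nat.card (C →ₐ[R] FractionRing R) ≤ Nat.card (C →ₐ[R] IsLocalRing.ResidueField R) := by
  let K := FractionRing R
  let k := IsLocalRing.ResidueField R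
  haveI : Finite (C →ₐ[R] k) := inferInstance
  have hint : ∀ (φ : C →ₐ[R] K) (c : C), ∃ r : R, algebraMap R K r = φ c := fun φ c =>
    (IsIntegrallyClosed.isIntegral_iff (R := R) (K := K)).1 ((Algebra.IsIntegral.isIntegral c).map φ)
  choose g hg using hint
  have hinj := IsFractionRing.injective R K
  let lift : (C →ₐ[R] K) → (C →ₐ[R] R) := fun φ =>
    { toFun := g φ
      map_one' := hinj (by rw [hg, map_one, map_one])
      map_mul' := fun a b => hinj (by rw [hg, map_mul, map_mul, hg, hg])
      map_zero' := hinj (by rw [hg, map_zero, map_zero])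
      map_add' := fun a b => hinj (by rw [hg, map_add, map_add, hg, hg])
      commutes' := fun r => hinj (by rw [hg, AlgHom.commutes]; rfl) }
  refine Nat.card_le_card_of_injective (fun φ => (Algebra.ofId R k |>.comp (lift φ))) fun φ₁ φ₂ h => ?_
  have : lift φ₁ = lift φ₂ :=
    Algebra.FormallyUnramified.ext_of_iInf (IsLocalRing.maximalIdeal R)
      (Ideal.iInf_pow_eq_bot_of_isLocalRing _ (IsLocalRing.maximalIdeal.isMaximal R).ne_top)
      (fun c => DFunLike.congr_fun h c)
  exact AlgHom.ext fun c => by rw [← hg φ₁ c, ← hg φ₂ c]; exact congrArg _ (DFunLike.congr_fun this c)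


/-- Let R be a regular local ring which is a domain and contains the rational numbers, with fraction
field K and residue field k, and let A be an abelian scheme over Spec R of relative dimension g (a
commutative group scheme which is smooth and proper with geometrically connected fibres of dimension
g). Then for every integer m ≥ 1 the number of K-valued points of A over Spec R killed by m is at
most the number of k-valued points of A over Spec R killed by m: the m-torsion of the rational
points of the generic fibre is no larger than the m-torsion of the rational points of the closed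
fibre. (The published statement is for an arbitrary Noetherian regular local ring R inside a paper
whose standing setting is schemes over the complex numbers; this row keeps from that setting only
that R contains the rationals, which is what the printed argument uses to make the m-torsion
subgroup scheme étale over the base.) -/
theorem result
    (R : Type u) [CommRing R] [IsDomain R] [IsRegularLocalRing R] [Algebra ℚ R]
    (A : Over (Spec (CommRingCat.of R))) [GrpObj A] [IsCommMonObj A] (g : ℕ) (hA : AgPol.IsAbSch A g)
    (m : ℕ) (hm : 1 ≤ m) :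
    Nat.card (AbDual.torsPts A m (Over.mk (Spec.map (CommRingCat.ofHom (algebraMap R (FractionRing R)))))) ≤
      Nat.card (AbDual.torsPts A m (Over.mk (Spec.map (CommRingCat.ofHom (IsLocalRing.residue R))))) := by
  haveI : Smooth A.hom := hA.smooth
  haveI : IsProper A.hom := hA.proper
  haveI : IsIntegrallyClosed R := NormalLib.isIntegrallyClosed_of_isRegularLocalRing R
  haveI := AbSchLib.geometricallyReduced_of_smooth A.hom
  have hmR : IsUnit (m : R) := by
    have := (IsUnit.mk0 (m : ℚ) (by exact_mod_cast (by omega : m ≠ 0))).map (algebraMap ℚ R)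
    simpa using this
  obtain ⟨hfin, het⟩ := AbSchLib.isFinite_etale_zpow A (m : ℤ) (by
    rw [Int.cast_natCast]
    have := hmR.map (Scheme.ΓSpecIso (CommRingCat.of R)).inv.hom
    rwa [map_natCast] at this)
  rw [zpow_natCast] at hfin het
  let v := pullback.snd ((𝟙 A : A ⟶ A) ^ m).left (unit0 A)
  haveI : IsFinite v := by haveI := hfin; infer_instance
  haveI : Etale v := by haveI := het; infer_instance
  haveI : IsAffine (pullback ((𝟙 A : A ⟶ A) ^ m).left (unit0 A)) := isAffine_of_isAffineHom v
  letI := ((Scheme.ΓSpecIso (CommRingCat.of R)).inv ≫ v.appTop).hom.toAlgebra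
  let eR := (Scheme.ΓSpecIso (CommRingCat.of R)).symm.commRingCatIsoToRingEquiv
  haveI : Module.Finite R Γ(pullback ((𝟙 A : A ⟶ A) ^ m).left (unit0 A), ⊤) :=
    RingHom.Finite.comp (v.finite_app ⊤ (isAffineOpen_top _)) (RingHom.Finite.of_surjective _ eR.surjective)
  haveI : Algebra.FormallyUnramified R Γ(pullback ((𝟙 A : A ⟶ A) ^ m).left (unit0 A), ⊤) :=
    RingHom.FormallyUnramified.stableUnderComposition _ _
      (RingHom.FormallyUnramified.of_surjective eR.surjective)
      (by have := v.formallyUnramified_appLE (isAffineOpen_top _) (isAffineOpen_top _) le_rfl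
          rw [show v.appTop = v.appLE ⊤ ⊤ le_rfl from v.app_eq_appLE]; exact this)
  rw [Nat.card_congr ((torsEquiv A m _).trans (affineEquiv v (FractionRing R))),
    Nat.card_congr ((torsEquiv A m (Over.mk (Spec.map (CommRingCat.ofHom (IsLocalRing.residue R))))).trans
      (affineEquiv v (IsLocalRing.ResidueField R)))]
  exact card_algHom_le

end Groth.Agent.S15509
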