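import Groth.Statements.S15510
import Groth.Agent.S11992
import Groth.Agent.A1AVLib.Main
import Groth.Agent.AlbLib.AVBasic
import Mathlib.AlgebraicGeometry.SpreadingOut

set_option autoImplicit false
set_option backward.isDefEq.respectTransparency false
set_option linter.style.haveILetI false
set_option maxHeartbeats 1000000
universe u
open CategoryTheory CategoryTheory.Limits MonoidalCategory CartesianMonoidalCategory MonObj AlgebraicGeometry
open AbVar

namespace Groth.Agent.S15510

attribute [-instance] CategoryTheory.Hom.commGroup

/-- Let F be a field and A a principally polarized abelian variety over F: a commutative group scheme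
over Spec F, smooth and proper with geometrically connected fibres of dimension g, given together
with a commutative group scheme At, data φ presenting At as the dual of A for the fppf topology, and
a polarization lam : A ⟶ At which is an isomorphism. Let Q = F(t_1, …, t_n) be the field of rational
functions in n variables over F. Then base change from F to Q is a bijection from the F-rational
points of A onto the Q-valued points of A over Spec F: every Q-point of A comes from exactly one
F-point. -/
theorem result
    (F : Type u) [Field F]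
    (A At : Over (Spec (CommRingCat.of F))) [GrpObj A] [IsCommMonObj A] [GrpObj At] [IsCommMonObj At]
    (g : ℕ) (hA : AgPol.IsAbSch A g)
    (φ : AgPol.DualMap A At) (hdual : AbDual.IsDualAV Scheme.fppfPrecoverage A At φ)
    (lam : A ⟶ At) (hpol : AgPol.IsPolarization A At φ lam) (hiso : IsIso lam) (n : ℕ) :
    Function.Bijective (fun x : (Over.mk (𝟙 (Spec (CommRingCat.of F))) ⟶ A) =>
      (Over.homMk (Spec.map (CommRingCat.ofHom (algebraMap F (FractionRing (MvPolynomial (Fin n) F)))))
          (Category.comp_id _) :
        Over.mk (Spec.map (CommRingCat.ofHom (algebraMap F (FractionRing (MvPolynomial (Fin n) F))))) ⟶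
          Over.mk (𝟙 (Spec (CommRingCat.of F)))) ≫ x) := by
  haveI := hA.smooth; haveI := hA.proper; haveI := hA.geomConnected
  haveI : Subsingleton ↥(Spec (CommRingCat.of F)) := inferInstanceAs (Subsingleton (PrimeSpectrum F))
  haveI : ConnectedSpace ↥A.left := GeometricallyConnected.connectedSpace_of_subsingleton A.hom
  haveI : QuasiCompact A.hom := inferInstance
  haveI : GeometricallyIntegral A.hom := AlbLib.geometricallyIntegral_grp A
  set R := MvPolynomial (Fin n) F
  set K := FractionRing R
  set j := Spec.map (CommRingCat.ofHom (algebraMap F K))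
  refine ⟨fun x y h => ?_, fun x => ?_⟩
  · haveI : Surjective j := ⟨fun y => ⟨Classical.arbitrary (PrimeSpectrum K), Subsingleton.elim (α := PrimeSpectrum F) _ _⟩⟩
    haveI : Flat j := by
      rw [HasRingHomProperty.Spec_iff (P := @Flat)]
      show RingHom.Flat (algebraMap F K)
      rw [RingHom.flat_algebraMap_iff]
      infer_instance
    exact Over.OverMorphism.ext ((cancel_epi j).1 (congrArg (fun φ => φ.left) h))
  let pX : Spec (CommRingCat.of R) ⟶ Spec (CommRingCat.of F) := Spec.map (CommRingCat.ofHom (algebraMap F R))
  let J := ULift.{u} (Fin n)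
  let e : 𝔸(J; Spec (CommRingCat.of F)) ≅ Spec (CommRingCat.of R) :=
    AffineSpace.SpecIso J (CommRingCat.of F) ≪≫
      Scheme.Spec.mapIso (MvPolynomial.renameEquiv F (Equiv.ulift.{u} : J ≃ Fin n)).symm.toRingEquiv.toCommRingCatIso.op
  have he : e.inv ≫ (𝔸(J; Spec (CommRingCat.of F)) ↘ Spec (CommRingCat.of F)) = pX := by
    simp only [e, Iso.trans_inv, Category.assoc, AffineSpace.SpecIso_inv_over, Functor.mapIso_inv, Scheme.Spec_map,
      Iso.op_inv, Quiver.Hom.unop_op]
    rw [← Spec.map_comp]
    refine congrArg Spec.map (CommRingCat.hom_ext (RingHom.ext fun r => ?_))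
    exact MvPolynomial.rename_C _ r
  haveI : GeometricallyIntegral pX := by
    rw [← he, MorphismProperty.cancel_left_of_respectsIso (P := @GeometricallyIntegral)]
    infer_instance
  haveI : Smooth pX := (HasRingHomProperty.Spec_iff (P := @Smooth)).2 (by
    show RingHom.Smooth (algebraMap F R)
    rw [RingHom.smooth_algebraMap]
    exact ⟨inferInstance, inferInstance⟩)
  haveI : IsAffine (Spec (CommRingCat.of R)) := inferInstance
  -- the morphism at the generic point
  let ξ := genericPoint ↥(Spec (CommRingCat.of R))
  letI : Algebra R (Spec (CommRingCat.of R)).functionField := instAlgebraCarrierFunctionFieldSpec (CommRingCat.of R)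
  haveI : IsFractionRing R (Spec (CommRingCat.of R)).functionField :=
    functionField_isFractionRing_of_affine (CommRingCat.of R)
  let ε : K ≃ₐ[R] (Spec (CommRingCat.of R)).functionField := FractionRing.algEquiv R _
  let s : Spec ((Spec (CommRingCat.of R)).presheaf.stalk ξ) ⟶ Spec (CommRingCat.of K) :=
    Spec.map (CommRingCat.ofHom ε.toRingHom)
  let r : Spec (CommRingCat.of K) ⟶ Spec (CommRingCat.of R) := Spec.map (CommRingCat.ofHom (algebraMap R K))
  have hr : r ≫ pX = j := by
    show Spec.map _ ≫ Spec.map _ = _
    rw [← Spec.map_comp]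
    exact congrArg Spec.map (CommRingCat.hom_ext (IsScalarTower.algebraMap_eq F R K).symm)
  have hs : s ≫ r = (Spec (CommRingCat.of R)).fromSpecStalk ξ := by
    rw [Spec.fromSpecStalk_eq']
    show Spec.map _ ≫ Spec.map _ = _
    rw [← Spec.map_comp]
    refine congrArg Spec.map (CommRingCat.hom_ext (RingHom.ext fun a => ?_))
    exact (ε.commutes a).trans rfl
  haveI : IsIso s := by
    haveI : IsIso (CommRingCat.ofHom ε.toRingHom) := inferInstanceAs (IsIso ε.toRingEquiv.toCommRingCatIso.hom)
    exact inferInstanceAs (IsIso (Spec.map _))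
  obtain ⟨U, hU, g, hg, hgo⟩ := spread_out_of_isGermInjective' pX A.hom (s ≫ x.left) (by
    rw [Category.assoc, Over.w x, ← hs, Category.assoc, hr]
    rfl)
  obtain ⟨G, hG, hUG⟩ := Groth.Agent.S11992.result F (Spec (CommRingCat.of R)) pX A U ⟨ξ, hU⟩ g hgo
  let X : Over (Spec (CommRingCat.of F)) := Over.mk pX
  let c : A1AVLib.aff F J ⟶ X := Over.homMk e.hom (by rw [← Category.id_comp (A1AVLib.aff F J).hom]; show e.hom ≫ pX = _; rw [← he, e.hom_inv_id_assoc]; exact (Category.id_comp _).symm)
  haveI : IsReduced X.left := inferInstanceAs (IsReduced (Spec (CommRingCat.of R)))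
  haveI : IsDominant c.left := inferInstanceAs (IsDominant e.hom)
  have hc := A1AVLib.eq_const_of_dominant c (Over.homMk G hG : X ⟶ A)
  refine ⟨A1AVLib.mkT (fun _ : J => 0) ≫ c ≫ (Over.homMk G hG : X ⟶ A), Over.OverMorphism.ext ?_⟩
  rw [← cancel_epi s]
  have h1 : s ≫ x.left = (s ≫ r) ≫ G := by
    rw [hs, hg, ← hUG, ← Category.assoc, Scheme.Opens.fromSpecStalkOfMem_ι]
  rw [h1, Category.assoc]
  congr 1
  have h2 := congrArg (fun φ => r ≫ φ.left) hc
  simp only [Over.comp_left, show (toUnit X).left = pX from (Category.comp_id _).symm.trans (Over.w (toUnit X))] at h2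
  rw [show (Over.homMk G hG : X ⟶ A).left = G from rfl] at h2
  rw [h2, ← Category.assoc r, hr]
  rfl

end Groth.Agent.S15510
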