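import Groth.Statements.S15511
import Groth.Agent.AVBiextLib.Lambda
import Groth.Agent.AVAmpleLib.RelMul

set_option backward.isDefEq.respectTransparency false
set_option maxHeartbeats 1000000

set_option autoImplicit false
universe u
open CategoryTheory CategoryTheory.Limits MonoidalCategory CartesianMonoidalCategory MonObj AlgebraicGeometry
open AbSch

namespace Groth.Agent.S15511

open CubeConsLib AVBiextLib AVIndexLib

/-- Let S be a connected locally Noetherian scheme, A an abelian scheme over S (a commutative group
scheme which is smooth and proper with geometrically connected fibres of dimension g) given with a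
commutative group scheme At and data φ presenting At as the dual of A for the fppf topology, L an
invertible module on A, and lam : A ⟶ At the homomorphism attached to L through φ (the morphism
sending a point x to the class of the translate of L by x tensor the inverse of L). If for some
closed point s of S the base change of lam to the fibre over s is the trivial homomorphism (the
class of L restricted to the fibre A_s has vanishing attached homomorphism, i.e. is zero in the
Néron–Severi group), then lam itself is the trivial homomorphism, the structure morphism of A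
followed by the unit section of At. (The published statement does not ask S to be connected; over a
base with two connected components, L trivial over one component and relatively ample over the other
gives an attached homomorphism vanishing on a closed fibre without vanishing identically, and the
printed proof rests on the rigidity lemma, which needs a connected base. The base is also taken
locally Noetherian, the published setting being schemes locally of finite type over ℂ.) -/
theorem result
    (S : Scheme.{u}) [IsLocallyNoetherian S] [ConnectedSpace S]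
    (A At : Over S) [GrpObj A] [IsCommMonObj A] [GrpObj At] [IsCommMonObj At]
    (g : ℕ) (hA : AgPol.IsAbSch A g)
    (φ : AgPol.DualMap A At) (hdual : AbDual.IsDualAV Scheme.fppfPrecoverage A At φ)
    (L : A.left.Modules) (hL : PicF.IsInvertible L) (lam : A ⟶ At) (hlam : AgPol.IsLambda A At φ L lam)
    (s : S) (hs : IsClosed ({s} : Set S))
    (h : (Over.pullback (S.fromSpecResidueField s)).map lam = 1) :
    lam = 1 := by
  haveI := hA.smooth
  haveI := hA.proper
  haveI := hA.geomConnected
  haveI := AbSchLib.geometricallyReduced_of_smooth A.hom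
  haveI := CubeConsLib.geometricallyIntegral_of_group A
  obtain ⟨N, hN, hiso, hφ⟩ := hlam
  have cN : (clA hN : PicA (A ⊗ A).left) = P hL (fst A A * snd A A) - P hL (fst A A) - P hL (snd A A) := by
    have g0 : PicF.IsInvertible (show (A ⊗ A).left.Modules from N) := hN
    have g1 := AmpleDevLib.isInvertible_pb (fst A A).left hL
    have g2 := AmpleDevLib.isInvertible_pb (snd A A).left hL
    have g3 := AmpleDevLib.isInvertible_pb (μ[A] : A ⊗ A ⟶ A).left hL
    unfold AgPol.IsLambdaSheaf at hiso
    have e := (clA_eq_iff (HilbPolyLib.isInvertible_tensor (HilbPolyLib.isInvertible_tensor g0 g1) g2) g3).2 hiso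
    rw [clA_tensor (HilbPolyLib.isInvertible_tensor g0 g1) g2, clA_tensor g0 g1, ← pullA_clA _ hL,
      ← pullA_clA _ hL, ← pullA_clA _ hL,
      show μ[A] = fst A A * snd A A by rw [Hom.mul_def, lift_fst_snd, Category.id_comp]] at e
    show clA g0 = _
    rw [P, P, P, ← e]
    abel
  have hev : ∀ {V : Over S} (x y : V ⟶ A),
      ev2 (clA hN : PicA (A ⊗ A).left) x y = P hL (x * y) - P hL x - P hL y := fun x y => by
    rw [ev2, cN, map_sub, map_sub, pullA_P, pullA_P, pullA_P, MonObj.comp_mul, lift_fst, lift_snd]
  have hbc : ∀ {K : Type u} [Field K] (t : Spec (CommRingCat.of K) ⟶ S),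
      ∃ (L' : (Red.bc t A).left.Modules) (hL' : PicF.IsInvertible L'),
        (∀ {V : Over (Spec (CommRingCat.of K))} (x : V ⟶ Red.bc t A), P hL' x = P hL (toDn t x)) ∧
        bc2 t (clA hN : PicA (A ⊗ A).left) = CubeConsLib.lam hL' (fst _ _) (snd _ _) := fun t => by
    refine ⟨_, AmpleDevLib.isInvertible_pb (Limits.pullback.fst A.hom t) hL, ?_, ?_⟩
    · intro V x
      rw [P, P, ← pullA_clA _ hL, pullA_comp, toDn_left]
      rfl
    · rw [← ev2_id (bc2 t _), ev2_bc2, hev, ← toDn_mul, CubeConsLib.lam, P, P, P, P, P, P, ← pullA_clA _ hL, pullA_comp,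
        pullA_comp, pullA_comp, toDn_left, toDn_left, toDn_left]
      rfl
  have hN0 : AbDual.IsPicZeroCl A.hom A (PicF.cl N) := by
    refine isPicZeroCl_of_geometric hN fun Ω _ _ t => ?_
    haveI : IsProper (Red.bc t A).hom := MorphismProperty.pullback_snd (P := @IsProper) _ _ ‹_›
    haveI : GeometricallyIntegral (Red.bc t A).hom :=
      inferInstanceAs (GeometricallyIntegral (Limits.pullback.snd A.hom t))
    obtain ⟨L', hL', -, e⟩ := hbc t
    exact isPicZeroCl_mumford hL' (hΛ := AmpleDevLib.isInvertible_pb (p2 t A).left hN)
      ((pullA_clA _ hN).symm.trans e)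
  have hone := AmpleDevLib.isInvertible_pb (1 : A ⊗ A ⟶ A).left hL
  have hN' : PicF.IsInvertible (show (A ⊗ A).left.Modules from N) := hN
  have hD := HilbPolyLib.isInvertible_tensor hN' hone
  have cD : clA hD = clA hN' + P hL (1 : A ⊗ A ⟶ A) := by
    rw [clA_tensor hN' hone, P, pullA_clA _ hL]
  have hevD : ∀ {V : Over S} (x y : V ⟶ A),
      ev2 (clA hD) x y = P hL (x * y) - P hL x - P hL y + P hL 1 := fun x y => by
    rw [cD, ev2, map_add, pullA_P, MonObj.comp_one, ← hev]
    rfl
  have h0 : clA hD = 0 := by
    refine eq_zero_of_fibre hD ?_ ?_ s ?_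
    · rw [hevD, _root_.mul_one]; abel
    · rw [hevD, _root_.one_mul]; abel
    let t := S.fromSpecResidueField s
    have ht : t (IsLocalRing.closedPoint (S.residueField s)) = s := S.fromSpecResidueField_apply s _
    haveI : IsProper (Red.bc t A).hom := MorphismProperty.pullback_snd (P := @IsProper) _ _ ‹_›
    haveI : GeometricallyIntegral (Red.bc t A).hom :=
      inferInstanceAs (GeometricallyIntegral (Limits.pullback.snd A.hom t))
    haveI : IsIntegral (Red.bc t A).left := GeometricallyIntegral.isIntegral_of_subsingleton (Red.bc t A).hom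
    obtain ⟨L', hL', hPt, e⟩ := hbc t
    have hNt := AmpleDevLib.isInvertible_pb (p2 t A).left hN
    have cNt : (clA hNt : PicA (Red.bc t A ⊗ Red.bc t A).left) = CubeConsLib.lam hL' (fst _ _) (snd _ _) :=
      (pullA_clA _ hN).symm.trans e
    have hd := isDualAV_bcDual t hdual
    have z : CubeConsLib.lam hL' (fst (Red.bc t A) (Red.bc t A)) (snd _ _) = 0 := by
      rw [← cNt]
      refine (eq_of_phi_eq hd hNt (isInvertible_one _) (isPicZeroCl_bc2 t hN0)
        (isPicZeroCl_structure _ _) ?_ (by rw [clA_one, map_zero]) ?_).trans (clA_one _)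
      · rw [secT_eq_lift]
        show pullA (lift (1 : Red.bc t A ⟶ Red.bc t A) (𝟙 _)).left
          (clA hNt : PicA (Red.bc t A ⊗ Red.bc t A).left) = 0
        rw [cNt, pullA_lam, lift_fst, lift_snd, lam_one_left]
      · rw [toDn_phi_bc2 t hdual hN0, hφ, h, phi_structure hd]
    rw [← ht]
    refine fibre_of_point hD t ?_
    rw [← ev2_id (bc2 t (clA hD)), ev2_bc2, hevD, ← toDn_mul, ← hPt, ← hPt, ← hPt, ← toDn_one t, ← hPt, P_zero,
      add_zero]
    exact z
  rw [cD, add_eq_zero_iff_eq_neg] at h0
  have e1 : pullA (AbDual.bcMap (1 : A ⟶ A) A) (clA hN) = clA hN := by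
    rw [← whiskerRight_left]
    show pullA ((1 : A ⟶ A) ▷ A).left (clA hN' : PicA (A ⊗ A).left) = clA hN'
    rw [h0, map_neg, pullA_P, MonObj.comp_one]
  have e2 : PicF.pullCl (AbDual.bcMap (1 : A ⟶ A) A) (PicF.cl N) = PicF.cl N := by
    rw [pullA_clA _ hN, clA_eq_iff] at e1
    exact Quot.sound e1
  rw [← hφ, ← e2]
  exact phi_pullCl_one hdual A hN0

end Groth.Agent.S15511
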