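import Groth.Statements.S15513
import Groth.Agent.CodimVanishLib.Ext
import Groth.Agent.CodimVanishLib.Dim
import Groth.Agent.SmoothDimLib.Chart
import Groth.Agent.FibDimLib.Smooth
import Groth.Agent.DevissLib.ClosedImm
import Groth.Agent.OmegaPnLib.Main

open AlgebraicGeometry CategoryTheory CategoryTheory.Limits

set_option autoImplicit false
set_option backward.isDefEq.respectTransparency false
set_option backward.isDefEq.respectTransparency.types false
universe u
open CategoryTheory CategoryTheory.Limits AlgebraicGeometry
open ProjDual

namespace Groth.Agent.S15513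

/-- Let k be a field, P = P^N_k, ι : X → P a closed immersion, r a natural number with dim X + r ≤ N (X
has codimension at least r), and E a finite locally free O_P-module. Then for every i < r the Ext
sheaf Ext^i_{O_P}(ι_* O_X, E) — the i-th right derived functor of the internal Hom functor Hom(ι_*
O_X, -) on O_P-modules (its existence and that of injective resolutions are the stated instance
hypotheses, both true), evaluated at E — is zero. (The published statement takes N ≥ 1 and r = N -
dim X; the case N = 0 and smaller r are trivially included.) -/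
theorem result (k : Type u) [Field k] (N : ℕ)
    {X : Scheme.{u}} (ι : X ⟶ CohB1.ProjSpace N k) [IsClosedImmersion ι] (r : ℕ)
    (hr : topologicalKrullDim ↥X + (r : WithBot ℕ∞) ≤ (N : WithBot ℕ∞))
    (E : (CohB1.ProjSpace N k).Modules) (hE : FlatMod.IsFinLocFree E)
    [ModSite.HasSheafHom (O := (CohB1.ProjSpace N k).sheaf) ((Scheme.Modules.pushforward ι).obj (Coh.structureModule X))]
    [HasInjectiveResolutions (ModSite.Mod (CohB1.ProjSpace N k).sheaf)] (i : ℕ) (hi : i < r) :
    IsZero ((ModSite.extSh (O := (CohB1.ProjSpace N k).sheaf)
      ((Scheme.Modules.pushforward ι).obj (Coh.structureModule X)) i).obj E) := by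
  let P := CohB1.ProjSpace N k
  let f : P ⟶ Spec (CommRingCat.of k) := CohB1.ProjSpace.toSpec N k
  haveI : SmoothOfRelativeDimension N f := OmegaPnLib.smoothRel_projSpace k N
  haveI : Smooth f := SmoothOfRelativeDimension.smooth N f
  haveI : IsLocallyNoetherian P := LocallyOfFiniteType.isLocallyNoetherian f
  letI : P.Over (Spec (CommRingCat.of k)) := ⟨f⟩
  haveI : Smooth (P ↘ Spec (CommRingCat.of k)) := ‹Smooth f›
  haveI : HasInjectiveResolutions P.Modules := ‹HasInjectiveResolutions (ModSite.Mod (CohB1.ProjSpace N k).sheaf)›
  let F : P.Modules := (Scheme.Modules.pushforward ι).obj (Coh.structureModule X)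
  have hF : Coh.IsCoh F := QCohLib.isCoh_push_finite ι _ (DevissLib.isCoh_structureModule X)
  haveI : (Groth.Agent.AcycCxLib.sh F).Additive := (ModSite.sheafHomAdj (O := P.sheaf) F).right_adjoint_additive
  have hs : topologicalKrullDim (CohB1.support F) + (r : WithBot ℕ∞) ≤ (N : WithBot ℕ∞) := by
    refine le_trans (add_le_add ?_ le_rfl) hr
    have h1 : CohB1.support F ⊆ Set.range ι := DevissLib.support_push_subset ι _
    refine le_trans (Topology.IsInducing.topologicalKrullDim_le (f := Set.inclusion h1)
      (Topology.IsEmbedding.inclusion h1).isInducing) ?_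
    exact (IsHomeomorph.topologicalKrullDim_eq _ ι.isClosedEmbedding.isEmbedding.toHomeomorph.isHomeomorph).symm.le
  have h0 := Groth.Agent.CodimVanishLib.isZero_extSh_of_supportDim F hF r
    (fun x => Groth.Agent.S1535.result k P x)
    (fun x => Groth.Agent.CodimVanishLib.supportDim_stalk_add_le f N F hF r x
      ((SmoothDimLib.fibreDimAt_eq_localDim f x).symm.trans (FibDimLib.fibreDimAt_smoothOfRelativeDimension N f x))
      hs) i hi
  obtain ⟨e⟩ := Groth.Agent.ExtTwistSecLib.nonempty_extSh_twist F (Coh.structureModule P) hE i
  exact (((Groth.Agent.HomTwistLib.tR E).map_isZero h0).of_iso e).of_iso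
    (((Groth.Agent.AcycCxLib.sh F).rightDerived i).mapIso (KFlatLib.tensUnitIso E)).symm


end Groth.Agent.S15513
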