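import Groth.Statements.S15514
import Groth.Agent.HomLocFreeLib.ExtSh
import Groth.Agent.TorsBCLib.Generic
import Groth.Agent.FMKLib.LocFreeHom

set_option autoImplicit false
set_option backward.isDefEq.respectTransparency false
set_option backward.isDefEq.respectTransparency.types false
set_option maxHeartbeats 1000000
universe u
open CategoryTheory CategoryTheory.Limits AlgebraicGeometry
open Coherent

namespace Groth.Agent.S15514


section Helpers

open PnDualLib (homFun)
open CohCmpLib (homMod)

theorem ext_tensor {X : Scheme.{u}} (E : X.Modules) (hE : FlatMod.IsFinLocFree E) (F G : X.Modules)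
    [ModSite.HasSheafHom (O := X.sheaf) E] [HasExt.{u} X.Modules] (i : ℕ) :
    Nonempty (Abelian.Ext (CohB1.tensorMod F E) G i ≃+
      Abelian.Ext F (CohB1.tensorMod G ((ModSite.sheafHom (O := X.sheaf) E).obj (Coh.structureModule X))) i) := by
  let T := DCoh.tensorRightMod E
  let H := homFun E
  let adj : T ⊣ H := (HomCohLib.homAdj E).ofNatIsoLeft (FMKLib.tensorSwapNat E)
  let D := homMod E (Coh.structureModule X)
  have hD : FlatMod.IsFinLocFree D :=
    CohCmpLib.isFinLocFree_homMod hE (Groth.Agent.S1063.isFinLocFree_structureModule X)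
  have hfl : ∀ (P : X.Modules) (hP : FlatMod.IsFinLocFree P) (R : X.Modules ⥤ X.Modules) [R.Additive]
      (_ : (DCoh.tensorBi (X := X)).obj P ≅ R), PreservesFiniteLimits R ∧ PreservesFiniteColimits R := by
    intro P hP R _ τ
    exact (R.exact_tfae.out 0 3 rfl rfl).mp fun Sc h =>
      ShortComplex.shortExact_of_iso (Sc.mapNatIso τ) (ProjFormLib.shortExact_tens hP h)
  haveI : H.Additive := adj.right_adjoint_additive
  obtain ⟨_, _⟩ := hfl E hE T (FMKLib.tensorSwapNat E)
  obtain ⟨_, _⟩ := hfl D hD H
    ((ExtShLib.flipIso D).symm ≪≫ Groth.Agent.HomLocFreeLib.dualTensIso hE)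
  let e0 : H.obj G ≅ CohB1.tensorMod G
      ((ModSite.sheafHom (O := X.sheaf) E).obj (Coh.structureModule X)) :=
    ((Groth.Agent.HomLocFreeLib.dualTensIso hE).app G).symm ≪≫
      ((DCoh.tensorBi (X := X)).obj G).mapIso ((ExtShLib.shIso E).app _).symm
  let α : Abelian.Ext.{u} F (H.obj G) i ≃+ Abelian.Ext.{u} (T.obj F) G i :=
    AddEquiv.ofBijective (TorsBCLib.extAdj adj F G i) (TorsBCLib.extAdj_bijective adj F i G)
  let β : Abelian.Ext.{u} F (H.obj G) i ≃+
      Abelian.Ext.{u} F (CohB1.tensorMod G
        ((ModSite.sheafHom (O := X.sheaf) E).obj (Coh.structureModule X))) i :=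
    ((Abelian.extFunctorObj F i).mapIso e0).addCommGroupIsoToAddEquiv
  exact ⟨α.symm.trans β⟩

end Helpers

/-- Let X be a scheme, E a finite locally free O_X-module with dual E^∨ = Hom_{O_X}(E, O_X), and F, G
arbitrary O_X-modules. Then for every i the group Ext^i_{O_X}(F ⊗ E, G), computed in the category of
all O_X-modules, is isomorphic to Ext^i_{O_X}(F, G ⊗ E^∨). (Existence of an additive isomorphism
only; the published identification is the natural one, and the published statement is for an
arbitrary ringed space. The published statement says only that E is locally free; finite rank, which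
its proof uses, is assumed here. The internal Hom functor of E and the Ext groups of O_X-modules are
the stated instance hypotheses, both true.) -/
theorem result (X : Scheme.{u}) (E : X.Modules)
    (hE : FlatMod.IsFinLocFree E) (F G : X.Modules) [ModSite.HasSheafHom (O := X.sheaf) E]
    [HasExt.{u} X.Modules] (i : ℕ) :
    Nonempty (Abelian.Ext (CohB1.tensorMod F E) G i ≃+
      Abelian.Ext F (CohB1.tensorMod G ((ModSite.sheafHom (O := X.sheaf) E).obj (Coh.structureModule X))) i) := by
  exact ext_tensor E hE F G i

end Groth.Agent.S15514
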