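import Groth.Statements.S15515
import Groth.Agent.PnDualLib.DualX
import Groth.Agent.S4718
import Groth.Agent.DimIneqLib.Dim

set_option backward.isDefEq.respectTransparency false
set_option backward.isDefEq.respectTransparency.types false

set_option autoImplicit false
universe u
open CategoryTheory AlgebraicGeometry
open ProjDual

namespace Groth.Agent.S15515

/-- (iii) ⇒ (i): let k be a field and X a k-scheme of dimension n with a closed immersion ι into P^N_k
over k. Let (ω, t) be a dualizing sheaf for X: ω is a coherent O_X-module and t : H^n(X, ω) → k a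
k-linear map such that for every coherent F and every k-linear form ψ on H^n(X, F) there is exactly
one φ : F → ω with ψ = t ∘ H^n(φ). Suppose that for every coherent O_X-module F and every i ≤ n, the
group Ext^i(F, ω) in the category of all O_X-modules (the Ext instance is the stated hypothesis; it
holds) vanishes if and only if H^(n-i)(X, F) vanishes. Then the local ring of X at every closed
point is Cohen–Macaulay of Krull dimension n. (The published statement assumes X connected and that
the duality maps Ext^i(F, ω) → H^(n-i)(X, F)' are bijective for all i and F, and concludes that X is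
Cohen–Macaulay; the weaker vanishing hypothesis used here suffices for the published proof, which
also yields the dimension of the local rings at closed points.) -/
theorem result
    (k : Type u) [Field k] (N n : ℕ) (X : Scheme.{u}) [X.Over (Spec (CommRingCat.of k))]
    (ι : X ⟶ CohB1.ProjSpace N k) [IsClosedImmersion ι]
    (hι : ι ≫ CohB1.ProjSpace.toSpec N k = X ↘ Spec (CommRingCat.of k))
    (hn : topologicalKrullDim ↥X = n) [HasExt.{u} X.Modules]
    (ω : X.Modules) (hω : Coh.IsCoh ω) (t : Coh.HH X ω n →ₗ[k] k)
    (hdual : ∀ F : X.Modules, Coh.IsCoh F → ∀ ψ : Coh.HH X F n →ₗ[k] k,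
        ∃! φ : F ⟶ ω, ∀ x : Coh.HH X F n,
          ψ x = t (Sheaf.H.map ((SheafOfModules.toSheaf X.ringCatSheaf).map φ) n x))
    (h : ∀ F : X.Modules, Coh.IsCoh F → ∀ i : ℕ, i ≤ n →
        (Subsingleton (Abelian.Ext F ω i) ↔ Subsingleton (Coh.HH X F (n - i)))) :
    ∀ x : X, IsClosed ({x} : Set ↥X) →
      LocCoh.IsCohenMacaulayLocalRing (X.presheaf.stalk x) ∧ ringKrullDim (X.presheaf.stalk x) = n := by
  obtain ⟨N₁, hN₁⟩ := PnDualLib.exists_serre_vanishing ι ω hω
  have hlow : ∀ q : ℕ, N₁ ≤ q → ∀ p : ℕ, p < n →
      Subsingleton (Coh.HH X (CohB1.tensorMod (Coh.structureModule X) (PnDualLib.oX ι (-(q : ℤ)))) p) :=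
    fun q hq p hp => by
      have hext : Subsingleton (Abelian.Ext (PnDualLib.negX ι q 1) ω (n - p)) := by
        obtain ⟨m, hm⟩ : ∃ m, n - p = m + 1 := ⟨n - p - 1, by omega⟩
        rw [hm]
        exact PnDualLib.subsingleton_ext_negX ι q 1 ω (hN₁ q hq) m
      have h2 := (h _ (PnDualLib.isCoh_negX ι q 1) (n - p) (Nat.sub_le _ _)).1 hext
      rw [show n - (n - p) = p by omega] at h2
      exact SerreVanLib.subsingleton_HH_of_iso ((HilbPolyLib.unitLeft _) ≪≫
        (Limits.coproductUniqueIso fun _ : Fin 1 => PnDualLib.oX ι (-(q : ℤ))).symm) p h2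
  have hO : Coh.IsCoh ((Coh.push ι).obj (Coh.structureModule X)) := by
    haveI := PnCohLib.isLocallyNoetherian_projSpace (n := N) k
    haveI : IsLocallyNoetherian X := LocallyOfFiniteType.isLocallyNoetherian ι
    exact PnDualLib.isCoh_push' ι (DevissLib.isCoh_structureModule X)
  haveI := PnCohLib.isLocallyNoetherian_projSpace (n := N) k
  haveI : IsLocallyNoetherian X := LocallyOfFiniteType.isLocallyNoetherian ι
  have hd := (PnDualLib.eventually_below_iff_depth k N _ hO n).1 ⟨(N₁ : ℤ), fun m hm p hp => by
    obtain ⟨q, rfl⟩ := Int.eq_ofNat_of_zero_le (le_trans (Int.natCast_nonneg N₁) hm)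
    exact (PnDualLib.subsingleton_twistBy_iff k N _ _ p).2
      ((PnDualLib.subsingleton_HH_iff ι _ (DevissLib.isCoh_structureModule X) _ p).1
        (hlow q (by exact_mod_cast hm) p hp))⟩
  intro x hx
  have hxd : (n : ℕ∞) ≤ LocCoh.depth (X.presheaf.stalk x) (X.presheaf.stalk x) := by
    obtain ⟨e⟩ := AVAmpleLib.nonempty_stalk_structureModule X x
    have h1 : IsClosed ({ι x} : Set (CohB1.ProjSpace N k)) := by
      have := ι.isClosedEmbedding.isClosedMap _ hx
      rwa [Set.image_singleton] at this
    have h2 := hd (ι x) h1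
    rw [PnDualLib.depth_push ι _ (DevissLib.isCoh_structureModule X) x] at h2
    exact h2.trans_eq (CommAlgDim.depth_congr e).symm
  have hub := Groth.Agent.S4718.depth_le_supportDim (X.presheaf.stalk x) (X.presheaf.stalk x)
  rw [Module.supportDim_self_eq_ringKrullDim] at hub
  have hdim : ringKrullDim (X.presheaf.stalk x) ≤ (n : WithBot ℕ∞) := hn ▸ DimIneqLib.stalk_dim_le_dim x
  have hlb : (n : WithBot ℕ∞) ≤ ((LocCoh.depth (X.presheaf.stalk x) (X.presheaf.stalk x) : ℕ∞) : WithBot ℕ∞) := by
    exact WithBot.coe_le_coe.2 hxd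
  have heq : ringKrullDim (X.presheaf.stalk x) = (n : WithBot ℕ∞) := le_antisymm hdim (hlb.trans hub)
  exact ⟨{ supportDim_eq_depth := by
            rw [Module.supportDim_self_eq_ringKrullDim]
            exact le_antisymm (hdim.trans hlb) hub }, heq⟩


end Groth.Agent.S15515
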