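import Groth.Statements.S1552
import Groth.Agent.FinPicLib.Main
import Groth.Agent.DiscExtLib.Glue

set_option autoImplicit false
universe u
open CategoryTheory CategoryTheory.Limits AlgebraicGeometry
open Variety

namespace Groth.Agent.S1552
/-- `f` is bijective on sections over opens where it is an isomorphism. -/
theorem bijective_app {X Y : Scheme.{u}} (f : X ⟶ Y) (V : Y.Opens) [IsIso (f ∣_ V)] {W : Y.Opens} (hW : W ≤ V) :
    Function.Bijective (f.app W) := by
  obtain ⟨W', rfl⟩ : ∃ W' : V.toScheme.Opens, V.ι ''ᵁ W' = W := ⟨V.ι ⁻¹ᵁ W, by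
    rw [Scheme.Hom.image_preimage_eq_opensRange_inf, Scheme.Opens.opensRange_ι]
    exact inf_eq_right.mpr hW⟩
  have h : IsIso ((f ∣_ V).app W') := inferInstance
  rw [morphismRestrict_app] at h
  haveI : IsIso (f.app (V.ι ''ᵁ W')) :=
    @IsIso.of_isIso_comp_right _ _ _ _ _ _ _ (@Functor.map_isIso _ _ _ _ _ _ X.presheaf _ (@isIso_op _ _ _ _ _ (instIsIsoEqToHom _))) h
  exact ConcreteCategory.bijective_of_isIso (f.app (V.ι ''ᵁ W'))

/-- Let f : X → Y be finite, and V ⊆ Y an open over which f is an isomorphism, with Y minus V a discrete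
space. Then every invertible O_X-module is isomorphic to the pullback of an invertible O_Y-module. -/
theorem result {X Y : Scheme.{u}} (f : X ⟶ Y) [IsFinite f]
    (V : Y.Opens) (hV : IsIso (f ∣_ V)) (hdisc : DiscreteTopology ((V : Set Y)ᶜ : Set Y))
    (L : X.Modules) (hL : PicF.IsInvertible L) :
    ∃ N : Y.Modules, PicF.IsInvertible N ∧ Nonempty ((Scheme.Modules.pullback f).obj N ≅ L) := by
  classical
  choose P t hyP ht using FinPicLib.exists_trivial_near f hL
  have hD : ∀ y : {y : Y // y ∉ V}, ∃ O : Y.Opens, y.1 ∈ O ∧ ∀ z ∈ O, z ∉ V → z = y.1 := fun y => by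
    haveI := hdisc
    obtain ⟨O, hO, hOy⟩ := isOpen_induced_iff.mp
      (isOpen_discrete ({(⟨y.1, y.2⟩ : ((V : Set Y)ᶜ : Set Y))} : Set ((V : Set Y)ᶜ : Set Y)))
    refine ⟨⟨O, hO⟩, (Set.ext_iff.mp hOy ⟨y.1, y.2⟩).mpr rfl, fun z hz hzV => ?_⟩
    exact congrArg Subtype.val ((Set.ext_iff.mp hOy ⟨z, hzV⟩).mp hz)
  choose O hyO honly using hD
  let D : {y : Y // y ∉ V} → Y.Opens := fun y => P y.1 ⊓ O y
  let A := (Scheme.Modules.pushforward f).obj L
  let E : ∀ y, Γ(A, D y) := fun y => AmpleLib.res L (f.preimage_mono inf_le_left) (t y.1)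
  have hgen : ∀ y (W : Y.Opens) (h : W ≤ P y) (_ : W ≤ V),
      Function.Bijective fun r : Γ(Y, W) => r • AmpleLib.res A le_rfl (AmpleLib.res L (f.preimage_mono h) (t y) : Γ(A, W)) := by
    intro y W h hW
    have e : (fun r : Γ(Y, W) => r • AmpleLib.res A le_rfl (AmpleLib.res L (f.preimage_mono h) (t y) : Γ(A, W))) =
        (fun s : Γ(X, f ⁻¹ᵁ W) => s • AmpleLib.res L (f.preimage_mono h) (t y)) ∘ f.app W := funext fun r => by
      rw [AmpleLib.res_refl]
      rfl
    rw [e]
    exact (ht y (f ⁻¹ᵁ W) (f.preimage_mono h)).comp (bijective_app f V hW)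
  obtain ⟨N, p, ε, hN, hp, hε, -⟩ := DiscExtLib.exists_glue_module (U := V) (D := D) (A := A) (E := E)
    (fun y W hW h => by
      have h' := hgen y.1 W (h.trans inf_le_left) hW
      have e : AmpleLib.res A h (E y) = AmpleLib.res A le_rfl
          (AmpleLib.res L (f.preimage_mono (h.trans inf_le_left)) (t y.1) : Γ(A, W)) :=
        (AmpleLib.res_res L _ _ (t y.1)).trans (AmpleLib.res_refl (M := A) _).symm
      rw [e]
      exact h')
    (fun y => (em (y ∈ V)).imp id fun hy => ⟨⟨y, hy⟩, hyP y, hyO _⟩)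
    (fun i j hij z hz => not_not.mp fun hzV =>
      hij (Subtype.ext ((honly i z hz.1.2 hzV).symm.trans (honly j z hz.2.2 hzV))))
    (fun y hy => ⟨P y ⊓ V, ⟨hyP y, hy⟩, inf_le_right, (AmpleLib.res L (f.preimage_mono inf_le_left) (t y) : Γ(A, P y ⊓ V)),
      fun W hW => by
        have h' := hgen y W (hW.trans inf_le_left) (hW.trans inf_le_right)
        have e : AmpleLib.res A hW (AmpleLib.res L (f.preimage_mono inf_le_left) (t y) : Γ(A, P y ⊓ V)) =
            AmpleLib.res A le_rfl (AmpleLib.res L (f.preimage_mono (hW.trans inf_le_left)) (t y) : Γ(A, W)) :=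
          (AmpleLib.res_res L _ _ (t y)).trans (AmpleLib.res_refl (M := A) _).symm
        rw [e]
        exact h'⟩)
  let φ := ((Scheme.Modules.pullbackPushforwardAdjunction f).homEquiv N L).symm p
  have hφ : ∀ (W : Y.Opens) (e : Γ(N, W)), φ.app (f ⁻¹ᵁ W) (KFlatLib.puSec f e) = p.app W e := fun W e => by
    have h : ((Scheme.Modules.pullbackPushforwardAdjunction f).homEquiv N L) φ = p := Equiv.apply_symm_apply _ _
    conv_rhs => rw [← h, Adjunction.homEquiv_unit]
    rfl
  haveI : IsIso φ := by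
    refine TwistLib.isIso_of_gen φ fun x => ?_
    by_cases hx : f x ∈ V
    · let W := P (f x) ⊓ V
      obtain ⟨e, he⟩ := (hp W inf_le_right).2 (AmpleLib.res L (f.preimage_mono inf_le_left) (t (f x)) : Γ(A, W))
      have heg : AmpleLib.GenOn N e := fun W' hW' => by
        refine (Function.Bijective.of_comp_iff' (hp W' (hW'.trans inf_le_right)) _).mp ?_
        have h' := hgen (f x) W' (hW'.trans inf_le_left) (hW'.trans inf_le_right)
        have e' : ((p.app W') ∘ fun r : Γ(Y, W') => r • AmpleLib.res N hW' e) = fun r => r • AmpleLib.res A le_rfl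
            (AmpleLib.res L (f.preimage_mono (hW'.trans inf_le_left)) (t (f x)) : Γ(A, W')) :=
          funext fun r => (QCohLib.app_smul p W' r _).trans (congrArg (r • ·)
            ((QCohLib.app_map p (homOfLE hW') e).trans ((congrArg _ he).trans
              ((AmpleLib.res_res L _ _ (t (f x))).trans (AmpleLib.res_refl (M := A) _).symm))))
        rw [e']
        exact h'
      refine ⟨f ⁻¹ᵁ W, ⟨hyP _, hx⟩, KFlatLib.puSec f e, TwistLib.GenAt.puSec f (heg.genAt (x := f x) ⟨hyP _, hx⟩), ?_⟩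
      rw [hφ W e, he]
      exact ((ht (f x)).res (f.preimage_mono inf_le_left)).genAt _
    · let y : {y : Y // y ∉ V} := ⟨f x, hx⟩
      refine ⟨f ⁻¹ᵁ D y, ⟨hyP _, hyO y⟩, KFlatLib.puSec f (ε y), TwistLib.GenAt.puSec f ((hε y).1.genAt (x := f x) ⟨hyP _, hyO y⟩), ?_⟩
      rw [hφ _ (ε y), (hε y).2]
      exact ((ht (f x)).res (f.preimage_mono inf_le_left)).genAt _
  exact ⟨N, hN, ⟨asIso φ⟩⟩

end Groth.Agent.S1552
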