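import Groth.Statements.S15521
import Groth.Agent.DetDegLib.Main
import Groth.Agent.WedgeLib.FiltTools
import Groth.Agent.FlagSchLib.Chart
import Groth.Agent.PinchPicLib.Gen
import Mathlib.LinearAlgebra.Matrix.Kronecker

set_option autoImplicit false
set_option backward.isDefEq.respectTransparency false
set_option backward.isDefEq.respectTransparency.types false
set_option maxHeartbeats 1000000

universe u
open CategoryTheory CategoryTheory.Limits AlgebraicGeometry
open ExtPow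

namespace Groth.Agent.S15521

open TopologicalSpace Opposite
open ProjFormLib (IsFrame ger)
open AmpleLib (res res_res res_smul GenOn shT)
open AmpleThLib (pS)

noncomputable section Aux

variable {X : Scheme.{u}}

theorem frameAt_of_isFrame {n : ℕ} {M : X.Modules} {U : X.Opens} {b : Fin n → Γ(M, U)} (hb : IsFrame M b)
    {y : X} (hy : y ∈ U) : DetDegLib.FrameAt M b hy := hb y hy

/-- The wedge of a frame generates on its open. -/
theorem wsec_genOn {n : ℕ} {E L : X.Modules} [Coh.IsQCoh E]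
    (φ : ∀ U : X.affineOpens, (L.val.obj (op U.1)) ≃ₗ[Γ(X, U.1)] ↥(⋀[Γ(X, U.1)]^n (E.val.obj (op U.1))))
    (hφ : ∀ (U V : X.affineOpens) (h : V.1 ≤ U.1) (e : Fin n → E.val.obj (op U.1)),
      L.val.map (homOfLE h).op ((φ U).symm (exteriorPower.ιMulti _ n e)) =
        (φ V).symm (exteriorPower.ιMulti _ n (fun j => E.val.map (homOfLE h).op (e j))))
    (U : X.affineOpens) (b : Fin n → Γ(E, U.1)) (hb : IsFrame E b) : GenOn L (DetDegLib.wsec φ U b) :=
  TwistLib.genOn_of_genAt fun y hy =>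
    DetDegLib.frameAt_wsec φ hφ U b (fun z hz => frameAt_of_isFrame hb hz) hy

/-- The products of two families. -/
def prodFam {E F : X.Modules} {e f : ℕ} {W : X.Opens} (a : Fin e → Γ(E, W)) (b : Fin f → Γ(F, W)) :
    Fin (e * f) → Γ(CohB1.tensorMod E F, W) :=
  fun p => shT (a (finProdFinEquiv.symm p).1) (b (finProdFinEquiv.symm p).2)

/-- Change of frames of a tensor product. -/
theorem prodFam_combo {E F : X.Modules} {e f : ℕ} {W : X.Opens} (a a' : Fin e → Γ(E, W)) (b b' : Fin f → Γ(F, W))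
    (A : Matrix (Fin e) (Fin e) Γ(X, W)) (B : Matrix (Fin f) (Fin f) Γ(X, W))
    (ha : ∀ j, a' j = ∑ i, A i j • a i) (hb : ∀ j, b' j = ∑ i, B i j • b i) (p : Fin (e * f)) :
    prodFam a' b' p = ∑ q, (Matrix.reindex finProdFinEquiv finProdFinEquiv (Matrix.kroneckerMap (· * ·) A B)) q p •
      prodFam a b q := by
  show WedgeLib.shTBil E F W (a' _) (b' _) = _
  rw [ha, hb, ← finProdFinEquiv.sum_comp, Fintype.sum_prod_type]
  refine (LinearMap.map_sum₂ _ _ _ _).trans ?_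
  refine Finset.sum_congr rfl fun i _ => ?_
  refine (map_sum _ _ _).trans ?_
  refine Finset.sum_congr rfl fun j _ => ?_
  refine (LinearMap.map_smul₂ _ _ _ _).trans ?_
  refine (congrArg (A i _ • ·) (map_smul (WedgeLib.shTBil E F W (a i)) _ _)).trans ?_
  refine (smul_smul _ _ _).trans ?_
  simp only [Matrix.reindex_apply, Matrix.submatrix_apply, Matrix.kroneckerMap_apply, Equiv.symm_apply_apply, prodFam]
  rfl

theorem res_prodFam {E F : X.Modules} {e f : ℕ} {U W : X.Opens} (h : W ≤ U) (a : Fin e → Γ(E, U))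
    (b : Fin f → Γ(F, U)) :
    (fun p => res (CohB1.tensorMod E F) h (prodFam a b p)) = prodFam (fun i => res E h (a i)) (fun i => res F h (b i)) :=
  funext fun _ => AmpleLib.shT_res h _ _

end Aux

/-- Let X be a scheme and E, F finite locally free O_X-modules of constant ranks e and f, with
determinants det E = Λ^e E, det F = Λ^f F and det(E ⊗ F) = Λ^(e f)(E ⊗ F) (given as O_X-modules DE,
DF, D satisfying the exterior-power predicate). Then det(E ⊗ F) is isomorphic to (det E)^{⊗ f} ⊗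
(det F)^{⊗ e}. (Existence of an isomorphism of O_X-modules only; the published statement is for a
ringed space.) -/
theorem result (X : Scheme.{u}) (E F : X.Modules) (e f : ℕ)
    (hE : FlatMod.IsFinLocFreeOfRank e E) (hF : FlatMod.IsFinLocFreeOfRank f F)
    (DE DF D : X.Modules) (hDE : ExtPow.IsExtPow e E DE) (hDF : ExtPow.IsExtPow f F DF)
    (hD : ExtPow.IsExtPow (e * f) (CohB1.tensorMod E F) D) :
    Nonempty (D ≅ CohB1.tensorMod (CohB1.tensorPow DE f) (CohB1.tensorPow DF e)) := by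
  haveI hEq : Coh.IsQCoh E := FlagSchLib.isQCoh_of_rank hE
  haveI hFq : Coh.IsQCoh F := FlagSchLib.isQCoh_of_rank hF
  haveI hTq : Coh.IsQCoh (CohB1.tensorMod E F) := FlagSchLib.isQCoh_of_rank (HopfIneqLib.locFree_tensor hE hF)
  obtain ⟨φE, hφE⟩ := hDE
  obtain ⟨φF, hφF⟩ := hDF
  obtain ⟨φ, hφ⟩ := hD
  let I := Σ' (U : X.affineOpens) (a : Fin e → Γ(E, U.1)) (b : Fin f → Γ(F, U.1)), PLift (IsFrame E a ∧ IsFrame F b)
  let D' : I → X.Opens := fun t => t.1.1
  let σ : ∀ t : I, Γ(D, D' t) := fun t => DetDegLib.wsec φ t.1 (prodFam t.2.1 t.2.2.1)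
  let τ : ∀ t : I, Γ(CohB1.tensorMod (CohB1.tensorPow DE f) (CohB1.tensorPow DF e), D' t) := fun t =>
    shT (pS (DetDegLib.wsec φE t.1 t.2.1) f) (pS (DetDegLib.wsec φF t.1 t.2.2.1) e)
  have hσ : ∀ t, GenOn D (σ t) := fun t =>
    wsec_genOn φ hφ t.1 _ (WedgeLib.isFrame_shT t.2.2.2.down.1 t.2.2.2.down.2)
  have hτ : ∀ t, GenOn _ (τ t) := fun t =>
    AmpleThLib.shT_genOn (AmpleThLib.pS_genOn (wsec_genOn φE hφE t.1 _ t.2.2.2.down.1) f)
      (AmpleThLib.pS_genOn (wsec_genOn φF hφF t.1 _ t.2.2.2.down.2) e)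
  refine PinchPicLib.nonempty_iso_of_gens D' (fun x => ?_) σ τ hσ hτ fun s t => ?_
  · obtain ⟨U₁, a, hU₁, hx₁, ha⟩ := FlagSchLib.exists_frame_affine hE x
    obtain ⟨U₂, b, hU₂, hx₂, hb⟩ := FlagSchLib.exists_frame_affine hF x
    obtain ⟨W, hW, hxW, hle⟩ := exists_isAffineOpen_mem_and_subset (X := X) (x := x) (U := U₁ ⊓ U₂) ⟨hx₁, hx₂⟩
    exact ⟨⟨⟨W, hW⟩, _, _, ⟨ha.res (hle.trans inf_le_left), hb.res (hle.trans inf_le_right)⟩⟩, hxW⟩
  obtain ⟨c, hc⟩ := (hσ s (D' s ⊓ D' t) inf_le_left).2 (res D inf_le_right (σ t))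
  refine ⟨c, hc.symm, WedgeLib.ext_affine _ _ fun W hW => ?_⟩
  have h₁ : W.1 ≤ D' s := hW.trans inf_le_left
  have h₂ : W.1 ≤ D' t := hW.trans inf_le_right
  let BE := WedgeLib.frameBasis s.2.2.2.down.1 h₁
  let BF := WedgeLib.frameBasis s.2.2.2.down.2 h₁
  let A : Matrix (Fin e) (Fin e) Γ(X, W.1) := fun i j => BE.repr (res E h₂ (t.2.1 j)) i
  let B : Matrix (Fin f) (Fin f) Γ(X, W.1) := fun i j => BF.repr (res F h₂ (t.2.2.1 j)) i
  have hA : ∀ j, res E h₂ (t.2.1 j) = ∑ i, A i j • res E h₁ (s.2.1 i) := fun j => by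
    refine (BE.sum_repr _).symm.trans (Finset.sum_congr rfl fun i _ => ?_)
    exact congrArg (A i j • ·) (WedgeLib.frameBasis_apply _ h₁ i)
  have hB : ∀ j, res F h₂ (t.2.2.1 j) = ∑ i, B i j • res F h₁ (s.2.2.1 i) := fun j => by
    refine (BF.sum_repr _).symm.trans (Finset.sum_congr rfl fun i _ => ?_)
    exact congrArg (B i j • ·) (WedgeLib.frameBasis_apply _ h₁ i)
  have eE : res DE h₂ (DetDegLib.wsec φE t.1 t.2.1) = A.det • res DE h₁ (DetDegLib.wsec φE s.1 s.2.1) := by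
    refine (DetDegLib.wsec_res φE hφE t.1 W h₂ _).trans ?_
    refine (DetDegLib.wsec_matrix φE W (fun i => res E h₁ (s.2.1 i)) _
      (fun y hy => frameAt_of_isFrame (s.2.2.2.down.1.res h₁) hy) A hA).trans ?_
    exact congrArg (A.det • ·) (DetDegLib.wsec_res φE hφE s.1 W h₁ _).symm
  have eF : res DF h₂ (DetDegLib.wsec φF t.1 t.2.2.1) = B.det • res DF h₁ (DetDegLib.wsec φF s.1 s.2.2.1) := by
    refine (DetDegLib.wsec_res φF hφF t.1 W h₂ _).trans ?_
    refine (DetDegLib.wsec_matrix φF W (fun i => res F h₁ (s.2.2.1 i)) _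
      (fun y hy => frameAt_of_isFrame (s.2.2.2.down.2.res h₁) hy) B hB).trans ?_
    exact congrArg (B.det • ·) (DetDegLib.wsec_res φF hφF s.1 W h₁ _).symm
  have eσ : res D h₂ (σ t) = (A.det ^ f * B.det ^ e) • res D h₁ (σ s) := by
    refine (DetDegLib.wsec_res φ hφ t.1 W h₂ _).trans ?_
    show DetDegLib.wsec φ W (fun p => res (CohB1.tensorMod E F) h₂ (prodFam t.2.1 t.2.2.1 p)) = _
    rw [res_prodFam]
    refine (DetDegLib.wsec_matrix φ W (prodFam (fun i => res E h₁ (s.2.1 i)) (fun i => res F h₁ (s.2.2.1 i))) _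
      (fun y hy => frameAt_of_isFrame (WedgeLib.isFrame_shT (s.2.2.2.down.1.res h₁) (s.2.2.2.down.2.res h₁)) hy) _
      (fun p => prodFam_combo _ _ _ _ A B hA hB p)).trans ?_
    rw [Matrix.det_reindex_self, Matrix.det_kronecker, Fintype.card_fin, Fintype.card_fin, ← res_prodFam]
    exact congrArg ((A.det ^ f * B.det ^ e) • ·) (DetDegLib.wsec_res φ hφ s.1 W h₁ _).symm
  have hcW : X.presheaf.map (homOfLE hW).op c = A.det ^ f * B.det ^ e := by
    refine (hσ s W.1 h₁).1 ?_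
    have h := congrArg (res D hW) hc
    rw [res_smul, res_res, res_res] at h
    exact h.trans eσ
  rw [res_smul, res_res, res_res, hcW]
  show res _ h₂ (shT (pS (DetDegLib.wsec φE t.1 t.2.1) f) (pS (DetDegLib.wsec φF t.1 t.2.2.1) e)) =
    _ • res _ h₁ (shT (pS (DetDegLib.wsec φE s.1 s.2.1) f) (pS (DetDegLib.wsec φF s.1 s.2.2.1) e))
  rw [AmpleLib.shT_res, AmpleLib.shT_res, AmpleThLib.pS_res, AmpleThLib.pS_res, AmpleThLib.pS_res, AmpleThLib.pS_res,
    eE, eF, AmpleThLib.pS_smul, AmpleThLib.pS_smul, AmpleLib.shT_smul]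

end Groth.Agent.S15521
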