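import Groth.Statements.S15523
import Mathlib
import Groth.Agent.HodgeIdxLib.Reduce
-- import your own Groth.Agent.* helpers here

set_option autoImplicit false
universe u
open CategoryTheory AlgebraicGeometry
open Zeta

namespace Groth.Agent.S15523

/-- Let S be a smooth, proper, geometrically irreducible surface over a field k, H an ample invertible
O_S-module and D any invertible O_S-module. Then (D·D)(H·H) ≤ (D·H)^2, where (A·B) denotes the
intersection number on S computed as the alternating sum of Euler characteristics χ(O_S) − χ(A) −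
χ(B) + χ(A ⊗ B). (The published statement is for divisors on the self-product of a smooth projective
geometrically irreducible curve over a finite field; the printed argument uses only the Hodge index
property of an ample class on a smooth projective surface, so the row is stated for any such
surface.) -/
theorem result (k : Type u) [Field k] (S : Scheme.{u})
    [S.Over (Spec (CommRingCat.of k))] [IsProper (S ↘ Spec (CommRingCat.of k))]
    [Smooth (S ↘ Spec (CommRingCat.of k))] [GeometricallyIrreducible (S ↘ Spec (CommRingCat.of k))]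
    (hdim : topologicalKrullDim S = 2) (D H : S.Modules) (hD : PicF.IsInvertible D)
    (hH : CohB1.IsAmple H) :
    FGA.intNum k S 2 ![D, D] (Coh.structureModule S) * FGA.intNum k S 2 ![H, H] (Coh.structureModule S) ≤
      FGA.intNum k S 2 ![D, H] (Coh.structureModule S) ^ 2 := by
  haveI := CurvLib.isNoetherian k (X := S)
  haveI : IrreducibleSpace S := GeometricallyIrreducible.irreducibleSpace_of_subsingleton (S ↘ Spec (CommRingCat.of k))
  have hd : topologicalKrullDim S ≤ (2 : ℕ) := hdim.le
  have hO := DevissLib.isCoh_structureModule S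
  let η := genericPoint S
  have hη : topologicalKrullDim (closure ({η} : Set S)) = ((2 : ℕ) : WithBot ℕ∞) := by
    rw [(genericPoint_spec S).def]
    exact ((Homeomorph.Set.univ _).isHomeomorph.topologicalKrullDim_eq).trans hdim
  obtain ⟨m, hm, hmult⟩ := HodgeIdxLib.exists_mult (k := k) hO (ξ := η)
    (by rw [(genericPoint_spec S).def]; exact Set.subset_univ _)
    (by rw [IntMultLib.support_structureModule']; trivial) hη
  have two : ∀ {A B : S.Modules}, PicF.IsInvertible A → PicF.IsInvertible B →
      FGA.intNum k S 2 ![A, B] (Coh.structureModule S) = m * IntFunLib.N k [A, B] (IntFunLib.Fpt η) := by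
    intro A B hA hB
    rw [← hmult [A, B] (by simp [hA, hB]) rfl]
    have h := IntFunLib.N_ofFn (k := k) hd ![A, B] (Coh.structureModule S)
    rw [show List.ofFn ![A, B] = [A, B] by simp] at h
    rw [h]; ring
  haveI := IntMultLib.isIntegral_ptIdeal η
  let W := (IntMultLib.ptIdeal η).subscheme
  let ι : W ⟶ S := (IntMultLib.ptIdeal η).subschemeι
  letI : W.Over (Spec (CommRingCat.of k)) := ⟨ι ≫ (S ↘ Spec (CommRingCat.of k))⟩
  haveI : IsProper (W ↘ Spec (CommRingCat.of k)) := inferInstanceAs (IsProper (ι ≫ (S ↘ Spec (CommRingCat.of k))))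
  have hW : topologicalKrullDim W = ((2 : ℕ) : WithBot ℕ∞) := by
    rw [← hη]
    exact (ι.isEmbedding.toHomeomorph.trans
      (Homeomorph.setCongr (IntMultLib.range_ptIdeal η))).isHomeomorph.topologicalKrullDim_eq
  have hpb : ∀ {A B : S.Modules}, PicF.IsInvertible A → PicF.IsInvertible B →
      HodgeIdxLib.pr k (KFlatLib.pb ι A) (KFlatLib.pb ι B) = IntFunLib.N k [A, B] (IntFunLib.Fpt η) := by
    intro A B hA hB
    exact HodgeIdxLib.pr_mult (l := [A, B]) (by simp [hA, hB]) (h := ι) rfl hW.le
  have h := HodgeIdxLib.mul_le_sq (k := k) hW (AmpleDevLib.isAmple_pb ι hH.1 hH)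
    (AmpleDevLib.isInvertible_pb ι hD)
  rw [hpb hD hD, hpb hH.1 hH.1, hpb hD hH.1] at h
  rw [two hD hD, two hH.1 hH.1, two hD hH.1]
  nlinarith [mul_self_nonneg m]

end Groth.Agent.S15523
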