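import Groth.Statements.S15524
import Mathlib


-- import your own Groth.Agent.* helpers here

set_option autoImplicit false
open Finset
open Zeta

namespace Groth.Agent.S15524

/-- Let q ≥ 1 and let α_1, …, α_{2g} be complex numbers permuted by α ↦ q/α, i.e. α_{σ(i)} α_i = q for a
permutation σ of the indices; these play the role of the inverse roots of the numerator of the zeta
function of a curve over a field with q elements, for which #X(F_{q^N}) = q^N + 1 − Σ_i α_i^N. If
for some d ≥ 1 and real C one has |Σ_i α_i^{dN}| ≤ C q^{dN/2} for every N ≥ 1, then |α_i|^2 = q for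
every i (the Riemann hypothesis for the curve). -/
theorem result {g : ℕ} (q : ℕ) (hq : 0 < q)
    (α : Fin (2 * g) → ℂ) (σ : Equiv.Perm (Fin (2 * g))) (hσ : ∀ i, α (σ i) * α i = q)
    (d : ℕ) (hd : 0 < d) (C : ℝ)
    (hC : ∀ N : ℕ, 1 ≤ N → ‖∑ i, α i ^ (d * N)‖ ≤ C * (q : ℝ) ^ ((d : ℝ) * N / 2))
    (i : Fin (2 * g)) : ‖α i‖ ^ 2 = q := by
  classical
  set r : ℝ := (q : ℝ) ^ ((d : ℝ) / 2) with hr
  have hq' : (0 : ℝ) < q := by exact_mod_cast hq
  have hr0 : 0 < r := Real.rpow_pos_of_pos hq' _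
  let β : Fin (2 * g) → ℂ := fun i => α i ^ d / (r : ℂ)
  have hrN : ∀ N : ℕ, (q : ℝ) ^ ((d : ℝ) * N / 2) = r ^ N := fun N => by
    rw [hr, ← Real.rpow_natCast, ← Real.rpow_mul hq'.le]; ring_nf
  have hS : ∀ N : ℕ, 1 ≤ N → ‖∑ i, β i ^ N‖ ≤ C := by
    intro N hN
    have : ∑ i, β i ^ N = (∑ i, α i ^ (d * N)) / ((r : ℂ) ^ N) := by
      rw [Finset.sum_div]; exact Finset.sum_congr rfl fun i _ => by simp [β, div_pow, pow_mul]
    rw [this, norm_div, norm_pow, Complex.norm_real, Real.norm_of_nonneg hr0.le, div_le_iff₀ (pow_pos hr0 N), ← hrN]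
    exact hC N hN
  have hβ : ∀ i, ‖β i‖ ≤ 1 := by
    intro i
    by_contra hlt
    push Not at hlt
    set γ := β i
    let G : Finset ℂ := (Finset.univ.image β).erase γ
    let L : Polynomial ℂ := ∏ z ∈ G, (Polynomial.X - Polynomial.C z)
    have hL : ∀ N : ℕ, ∑ t ∈ Finset.range (L.natDegree + 1), L.coeff t * ∑ j, β j ^ (N + t) =
        ((Finset.univ.filter fun j => β j = γ).card : ℂ) * (γ ^ N * L.eval γ) := by
      intro N
      simp only [Finset.mul_sum]
      rw [Finset.sum_comm, ← Finset.sum_filter_add_sum_filter_not Finset.univ (fun j => β j = γ)]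
      have hev : ∀ j, ∑ t ∈ Finset.range (L.natDegree + 1), L.coeff t * β j ^ (N + t) = β j ^ N * L.eval (β j) := fun j => by
        rw [Polynomial.eval_eq_sum_range, Finset.mul_sum]; exact Finset.sum_congr rfl fun t _ => by ring
      simp only [hev]
      rw [Finset.sum_congr rfl (fun j hj => by rw [(Finset.mem_filter.1 hj).2]), Finset.sum_const, nsmul_eq_mul,
        Finset.sum_eq_zero (fun j hj => ?_), add_zero]
      have : β j ∈ G := Finset.mem_erase.2 ⟨(Finset.mem_filter.1 hj).2, Finset.mem_image_of_mem _ (Finset.mem_univ j)⟩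
      simp [L, Polynomial.eval_prod, Finset.prod_eq_zero this]
    have hLne : L.eval γ ≠ 0 := by
      simp only [L, Polynomial.eval_prod, Polynomial.eval_sub, Polynomial.eval_X, Polynomial.eval_C, Finset.prod_ne_zero_iff]
      exact fun z hz => sub_ne_zero.2 (fun h => (Finset.mem_erase.1 hz).1 h.symm)
    set m := ((Finset.univ.filter fun j => β j = γ).card : ℂ)
    have hm : m ≠ 0 := Nat.cast_ne_zero.2 (Finset.card_ne_zero.2 ⟨i, by simp [γ]⟩)
    have hbd : ∀ N : ℕ, 1 ≤ N → ‖γ‖ ^ N * ‖m * L.eval γ‖ ≤ ∑ t ∈ Finset.range (L.natDegree + 1), ‖L.coeff t‖ * C := by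
      intro N hN
      rw [← norm_pow, ← norm_mul, show γ ^ N * (m * L.eval γ) = m * (γ ^ N * L.eval γ) by ring, ← hL]
      exact (norm_sum_le _ _).trans (Finset.sum_le_sum fun t _ => by
        rw [norm_mul]; exact mul_le_mul_of_nonneg_left (hS _ (by omega)) (norm_nonneg _))
    have hpos : 0 < ‖m * L.eval γ‖ := norm_pos_iff.2 (mul_ne_zero hm hLne)
    obtain ⟨N, hN⟩ := pow_unbounded_of_one_lt ((∑ t ∈ Finset.range (L.natDegree + 1), ‖L.coeff t‖ * C) / ‖m * L.eval γ‖) hlt
    have h1 := hbd (N + 1) (by omega)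
    rw [← le_div_iff₀ hpos] at h1
    exact absurd (h1.trans hN.le) (not_le.2 (pow_lt_pow_right₀ hlt (Nat.lt_succ_self N)))
  have hα : ∀ i, ‖α i‖ ^ 2 ≤ q := by
    intro i
    have h1 := hβ i
    simp only [β, norm_div, norm_pow, Complex.norm_real, Real.norm_of_nonneg hr0.le] at h1
    rw [div_le_one hr0] at h1
    refine le_of_pow_le_pow_left₀ hd.ne' hq'.le ?_
    rw [← pow_mul, mul_comm, pow_mul]
    refine (pow_le_pow_left₀ (by positivity) h1 2).trans (le_of_eq ?_)
    rw [hr, ← Real.rpow_natCast, ← Real.rpow_mul hq'.le, ← Real.rpow_natCast]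
    norm_num
  refine le_antisymm (hα i) ?_
  have h2 := congrArg (fun z : ℂ => ‖z‖ ^ 2) (hσ i)
  simp only [norm_mul, mul_pow, Complex.norm_natCast] at h2
  nlinarith [hα (σ i), sq_nonneg ‖α i‖]

end Groth.Agent.S15524
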