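import Groth.Statements.S15525
import Groth.Agent.LangQLib.Field

set_option autoImplicit false
universe u
open Zeta

namespace Groth.Agent.S15525

/-- Let L be a field with a ring embedding ι into ℂ and M an r × r matrix over L all of whose
eigenvalues, the complex roots of its characteristic polynomial mapped along ι, have absolute value
1. Then every coefficient of the characteristic polynomial of the block-diagonal matrix with blocks
M and the inverse transpose of M is mapped by ι into ℝ. This is the pointwise content of the
assertion that for a lisse sheaf F pure of weight 0 the sum of F and its dual is real, the Frobenius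
of the dual acting by the inverse transpose. -/
theorem result (L : Type u) [Field L] (ι : L →+* ℂ)
    {r : ℕ} (M : Matrix (Fin r) (Fin r) L)
    (hM : ∀ z ∈ ((Matrix.charpoly M).map ι).roots, ‖z‖ = 1) (n : ℕ) :
    (ι ((Matrix.fromBlocks M 0 0 (M⁻¹).transpose).charpoly.coeff n)).im = 0 := by
  classical
  set A : Matrix (Fin r) (Fin r) ℂ := M.map ι
  have hA : A.charpoly = M.charpoly.map ι := Matrix.charpoly_map M ι
  rw [← hA] at hM
  have hdet : A.det = A.charpoly.roots.prod := Matrix.det_eq_prod_roots_charpoly A
  have hne : ∀ z ∈ A.charpoly.roots, z ≠ 0 := fun z hz h => by have := hM z hz; simp [h] at this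
  have hAu : IsUnit A.det := by
    rw [isUnit_iff_ne_zero, hdet]
    exact Multiset.prod_ne_zero fun h => hne 0 h rfl
  have hMu : IsUnit M.det := by
    rw [isUnit_iff_ne_zero]
    intro h
    have : A.det = 0 := by
      show (ι.mapMatrix M).det = 0
      rw [← RingHom.map_det, h, map_zero]
    exact hAu.ne_zero this
  have hinv : (M⁻¹).map ι = A⁻¹ := by
    symm
    refine Matrix.inv_eq_right_inv ?_
    show ι.mapMatrix M * ι.mapMatrix M⁻¹ = 1
    rw [← map_mul, Matrix.mul_nonsing_inv _ hMu, map_one]
  have hsplit : A.charpoly = (A.charpoly.roots.map fun z => Polynomial.X - Polynomial.C z).prod :=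
    (Polynomial.prod_multiset_X_sub_C_of_monic_of_roots_card_eq (Matrix.charpoly_monic A)
      (IsAlgClosed.card_roots_eq_natDegree)).symm
  have hcard : A.charpoly.roots.card = Fintype.card (Fin r) := by
    rw [IsAlgClosed.card_roots_eq_natDegree, Matrix.charpoly_natDegree_eq_dim]
  have key : ∀ s : Multiset ℂ, (∀ z ∈ s, ‖z‖ = 1) →
      (-1 : Polynomial ℂ) ^ s.card * Polynomial.C s.prod⁻¹ *
        (s.map fun z => Polynomial.X - Polynomial.C z).prod.reverse =
      ((s.map fun z => Polynomial.X - Polynomial.C z).prod).map (starRingEnd ℂ) := by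
    intro s
    induction s using Multiset.induction with
    | empty => intro _; simp [Polynomial.reverse]
    | cons z s ih =>
      intro h
      have hz := h z (Multiset.mem_cons_self _ _)
      have hz0 : z ≠ 0 := fun h0 => by simp [h0] at hz
      have hstar : starRingEnd ℂ z = z⁻¹ := (Complex.inv_eq_conj hz).symm
      rw [Multiset.card_cons, Multiset.prod_cons, Multiset.map_cons, Multiset.prod_cons,
        Polynomial.reverse_mul_of_domain, Polynomial.map_mul, ← ih fun w hw => h w (Multiset.mem_cons_of_mem hw),
        Polynomial.map_sub, Polynomial.map_X, Polynomial.map_C, hstar, mul_inv, map_mul]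
      have hrev : (Polynomial.X - Polynomial.C z).reverse = 1 - Polynomial.C z * Polynomial.X := by
        rw [Polynomial.reverse, Polynomial.natDegree_X_sub_C]
        simp [Polynomial.reflect_sub]
      rw [hrev]
      have hc : Polynomial.C z⁻¹ * Polynomial.C z = (1 : Polynomial ℂ) := by
        rw [← Polynomial.C_mul, inv_mul_cancel₀ hz0, Polynomial.C_1]
      linear_combination ((-1 : Polynomial ℂ) ^ s.card * Polynomial.C s.prod⁻¹ *
        (s.map fun z => Polynomial.X - Polynomial.C z).prod.reverse * Polynomial.X) * hc
  have hA' : (A⁻¹).charpoly = A.charpoly.map (starRingEnd ℂ) := by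
    rw [Matrix.charpoly_inv A ((Matrix.isUnit_iff_isUnit_det A).2 hAu), ← Matrix.reverse_charpoly, hdet, ← hcard]
    conv_lhs => arg 2; rw [hsplit]
    conv_rhs => rw [hsplit]
    rw [Ring.inverse_eq_inv']
    exact key _ hM
  have hmap : (Matrix.fromBlocks M 0 0 (M⁻¹).transpose).charpoly.map ι = A.charpoly * A.charpoly.map (starRingEnd ℂ) := by
    rw [Matrix.charpoly_fromBlocks_zero₁₂, Polynomial.map_mul, Matrix.charpoly_transpose, ← hA, ← Matrix.charpoly_map,
      hinv, hA']
  have := congrArg (fun q => Polynomial.coeff q n) hmap
  simp only [Polynomial.coeff_map] at this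
  rw [this]
  refine Complex.conj_eq_iff_im.1 ?_
  rw [← Polynomial.coeff_map, Polynomial.map_mul, Polynomial.map_map,
    show (starRingEnd ℂ).comp (starRingEnd ℂ) = RingHom.id ℂ from RingHom.ext fun z => Complex.conj_conj z,
    Polynomial.map_id, mul_comm]

end Groth.Agent.S15525
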