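import Groth.Statements.S15526
import Mathlib.RingTheory.Ideal.Quotient.Basic
import Mathlib.Algebra.Polynomial.AlgebraMap

set_option autoImplicit false
universe u
open MvPolynomial
open CAlg

namespace Groth.Agent.S15526

/-- Let R be a commutative ring, P ∈ R[x] a monic polynomial of degree 2g + 1, and A = R[x, y, z]/(y^2 −
P(x), yz − 1). Then every element of A is a finite sum Σ_n Q_n(x) y^n over integers n, negative
powers of y meaning powers of z, with each Q_n ∈ R[x] of degree at most 2g: the R-submodule of A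
spanned by the classes of x^i y^n and x^i z^n with i ≤ 2g and n ≥ 0 is all of A. (The published
statement takes for R the ring of Witt vectors of a finite field and for P a lift of a separable
polynomial; the argument uses only that P is monic of degree 2g + 1.) -/
theorem result (R : Type u) [CommRing R] (g : ℕ)
    (P : Polynomial R) (hP : P.Monic) (hdeg : P.natDegree = 2 * g + 1) :
    Submodule.span R {a : MvPolynomial (Fin 3) R ⧸
        Ideal.span ({X 1 ^ 2 - Polynomial.aeval (X 0 : MvPolynomial (Fin 3) R) P, X 1 * X 2 - 1} :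
          Set (MvPolynomial (Fin 3) R)) |
        ∃ i n : ℕ, i ≤ 2 * g ∧
          (a = Ideal.Quotient.mk _ (X 0 ^ i * X 1 ^ n) ∨ a = Ideal.Quotient.mk _ (X 0 ^ i * X 2 ^ n))} =
      ⊤ := by
  classical
  set I := Ideal.span ({X 1 ^ 2 - Polynomial.aeval (X 0 : MvPolynomial (Fin 3) R) P, X 1 * X 2 - 1} :
    Set (MvPolynomial (Fin 3) R))
  let π := Ideal.Quotient.mk I
  set x := π (X 0) with hxdef
  set y := π (X 1) with hydef
  set z := π (X 2) with hzdef
  have hyz : y * z = 1 := by
    rw [hydef, hzdef, ← map_mul, ← map_one π, Ideal.Quotient.eq]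
    exact Ideal.subset_span (by simp)
  have hP' : y ^ 2 = Polynomial.aeval x P := by
    have h1 : π (Polynomial.aeval (X 0 : MvPolynomial (Fin 3) R) P) = Polynomial.aeval x P :=
      (Polynomial.aeval_algHom_apply (Ideal.Quotient.mkₐ R I) (X 0) P).symm
    rw [← h1, hydef, ← map_pow, Ideal.Quotient.eq]
    exact Ideal.subset_span (by simp)
  set T := {a : MvPolynomial (Fin 3) R ⧸ I | ∃ i n : ℕ, i ≤ 2 * g ∧
    (a = π (X 0 ^ i * X 1 ^ n) ∨ a = π (X 0 ^ i * X 2 ^ n))}
  set S := Submodule.span R T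
  have hy : ∀ i n : ℕ, i ≤ 2 * g → x ^ i * y ^ n ∈ S := fun i n hi =>
    Submodule.subset_span ⟨i, n, hi, Or.inl (by rw [map_mul, map_pow, map_pow])⟩
  have hz : ∀ i n : ℕ, i ≤ 2 * g → x ^ i * z ^ n ∈ S := fun i n hi =>
    Submodule.subset_span ⟨i, n, hi, Or.inr (by rw [map_mul, map_pow, map_pow])⟩
  have stab : ∀ c, (∀ i n : ℕ, i ≤ 2 * g → c * (x ^ i * y ^ n) ∈ S ∧ c * (x ^ i * z ^ n) ∈ S) →
      ∀ s ∈ S, c * s ∈ S := by
    intro c hc s hs
    induction hs using Submodule.span_induction with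
    | mem a ha =>
      obtain ⟨i, n, hi, rfl | rfl⟩ := ha <;> rw [map_mul, map_pow, map_pow]
      · exact (hc i n hi).1
      · exact (hc i n hi).2
    | zero => rw [mul_zero]; exact zero_mem _
    | add a b _ _ ha hb => rw [mul_add]; exact add_mem ha hb
    | smul r a _ ha => rw [mul_smul_comm]; exact Submodule.smul_mem _ _ ha
  have hyS : ∀ s ∈ S, y * s ∈ S := stab y fun i n hi => by
    refine ⟨?_, ?_⟩
    · rw [show y * (x ^ i * y ^ n) = x ^ i * y ^ (n + 1) by ring]; exact hy i _ hi
    · cases n with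
      | zero => rw [show y * (x ^ i * z ^ 0) = x ^ i * y ^ 1 by ring]; exact hy i 1 hi
      | succ m =>
        rw [show y * (x ^ i * z ^ (m + 1)) = x ^ i * z ^ m * (y * z) by ring, hyz, mul_one]
        exact hz i m hi
  have hzS : ∀ s ∈ S, z * s ∈ S := stab z fun i n hi => by
    refine ⟨?_, ?_⟩
    · cases n with
      | zero => rw [show z * (x ^ i * y ^ 0) = x ^ i * z ^ 1 by ring]; exact hz i 1 hi
      | succ m =>
        rw [show z * (x ^ i * y ^ (m + 1)) = x ^ i * y ^ m * (y * z) by ring, hyz, mul_one]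
        exact hy i m hi
    · rw [show z * (x ^ i * z ^ n) = x ^ i * z ^ (n + 1) by ring]; exact hz i _ hi
  have htop : ∀ w : MvPolynomial (Fin 3) R ⧸ I, (∀ i ≤ 2 * g, x ^ i * w ∈ S) → y ^ 2 * w ∈ S →
      x ^ (2 * g + 1) * w ∈ S := by
    intro w hw hyw
    have h1 : x ^ (2 * g + 1) = y ^ 2 - ∑ i ∈ Finset.range (2 * g + 1), P.coeff i • x ^ i := by
      rw [hP', Polynomial.aeval_eq_sum_range, hdeg, Finset.sum_range_succ, add_sub_cancel_left,
        ← hdeg, Polynomial.coeff_natDegree, hP.leadingCoeff, one_smul]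
    rw [h1, sub_mul, Finset.sum_mul]
    refine sub_mem hyw (Submodule.sum_mem _ fun i hi => ?_)
    rw [smul_mul_assoc]
    exact Submodule.smul_mem _ _ (hw i (Nat.lt_succ_iff.1 (Finset.mem_range.1 hi)))
  have hxS : ∀ s ∈ S, x * s ∈ S := stab x fun i n hi => by
    rcases hi.lt_or_eq with hlt | rfl
    · exact ⟨by rw [← mul_assoc, ← pow_succ']; exact hy (i + 1) n hlt,
        by rw [← mul_assoc, ← pow_succ']; exact hz (i + 1) n hlt⟩
    · refine ⟨?_, ?_⟩ <;> rw [← mul_assoc, ← pow_succ']
      · refine htop _ (fun j hj => hy j n hj) ?_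
        rw [pow_two, mul_assoc]
        exact hyS _ (hyS _ (by simpa using hy 0 n (Nat.zero_le _)))
      · refine htop _ (fun j hj => hz j n hj) ?_
        rw [pow_two, mul_assoc]
        exact hyS _ (hyS _ (by simpa using hz 0 n (Nat.zero_le _)))
  rw [eq_top_iff]
  rintro a -
  obtain ⟨q, rfl⟩ := Ideal.Quotient.mk_surjective a
  induction q using MvPolynomial.induction_on with
  | C r =>
    have h1 : π (C r) = r • (1 : MvPolynomial (Fin 3) R ⧸ I) := by
      exact (Algebra.algebraMap_eq_smul_one (A := MvPolynomial (Fin 3) R ⧸ I) r)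
    show π (C r) ∈ S
    rw [h1]
    exact Submodule.smul_mem _ _ (by simpa using hy 0 0 (Nat.zero_le _))
  | add p q hp hq => rw [map_add]; exact add_mem hp hq
  | mul_X p j hp =>
    rw [map_mul, mul_comm]
    fin_cases j
    · exact hxS _ hp
    · exact hyS _ hp
    · exact hzS _ hp

end Groth.Agent.S15526
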