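import Groth.Statements.S15533
import Groth.Agent.OmegaAffLib.GlobalFn
-- import your own Groth.Agent.* helpers here

set_option autoImplicit false
universe u
open OmegaSh

namespace Groth.Agent.S15533

open CategoryTheory AlgebraicGeometry in
/-- For a field k and a smooth proper k-scheme X with structure morphism f, the derivation d : O_X →
Ω_{X/k} of f vanishes on global functions: d(s) = 0 in Γ(X, Ω_{X/k}) for every s ∈ Γ(X, O_X). -/
theorem result (k : Type u) [Field k] (X : Scheme.{u})
    (f : X ⟶ Spec (CommRingCat.of k)) [IsProper f] [Smooth f] (s : Γ(X, ⊤)) :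
    (OmegaSh.dOmega f).app ⊤ s = 0 := by
  exact OmegaAffLib.app_top_eq_zero k f (OmegaAffLib.isUniversal_dOmega (f := f)) s

end Groth.Agent.S15533
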