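import Groth.Statements.S15535
import Groth.Agent.SteinLib.EtaleMain
import Groth.Agent.SteinLib.App
import Groth.Agent.AbSchLib.Flat

set_option autoImplicit false
universe u
open OmegaSh

namespace Groth.Agent.S15535
open CategoryTheory CategoryTheory.Limits AlgebraicGeometry

/-- Functions coming from an etale intermediate scheme have zero differential. -/
theorem dOmega_app_of_etale {X N S : Scheme.{u}} (f : X ⟶ S) [QuasiSeparated f] (q : X ⟶ N) (π : N ⟶ S)
    [AlgebraicGeometry.Etale π] (hq : q ≫ π = f) (U : N.Opens) (t : Γ(N, U)) :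
    (OmegaSh.dOmega f).app (q ⁻¹ᵁ U) (q.app U t) = 0 := by
  let m : pullback f f ⟶ pullback π π := pullback.lift (pullback.fst f f ≫ q) (pullback.snd f f ≫ q)
    (by rw [Category.assoc, Category.assoc, hq]; exact pullback.condition)
  have hm1 : m ≫ pullback.fst π π = pullback.fst f f ≫ q := pullback.lift_fst _ _ _
  have hm2 : m ≫ pullback.snd π π = pullback.snd f f ≫ q := pullback.lift_snd _ _ _
  let O : (pullback f f).Opens := m ⁻¹ᵁ (pullback.diagonal π).opensRange
  let g : (O : Scheme.{u}) ⟶ N := IsOpenImmersion.lift (pullback.diagonal π) (O.ι ≫ m) (by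
    rintro _ ⟨z, rfl⟩
    exact z.2)
  have hg : g ≫ pullback.diagonal π = O.ι ≫ m := IsOpenImmersion.lift_fac _ _ _
  have hfst : O.ι ≫ pullback.fst f f ≫ q = g := by
    have := congrArg (· ≫ pullback.fst π π) hg
    simp only [Category.assoc, pullback.diagonal_fst, pullback.diagonal_snd, Category.comp_id, hm1, hm2] at this
    exact this.symm
  have hsnd : O.ι ≫ pullback.snd f f ≫ q = g := by
    have := congrArg (· ≫ pullback.snd π π) hg
    simp only [Category.assoc, pullback.diagonal_fst, pullback.diagonal_snd, Category.comp_id, hm1, hm2] at this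
    exact this.symm
  let W : (pullback f f).Opens := OmegaSh.diagNbhd f (q ⁻¹ᵁ U) ⊓ O
  have hW : W ≤ OmegaSh.diagNbhd f (q ⁻¹ᵁ U) := inf_le_left
  have hzero : (pullback f f).presheaf.map (homOfLE hW).op (OmegaSh.diagDiff f (q ⁻¹ᵁ U) (q.app U t)) = 0 := by
    have hinj : Function.Injective (O.ι.app W) := by
      haveI : IsIso (O.ι.app W) := O.ι.isIso_app W (by rw [Scheme.Opens.opensRange_ι]; exact inf_le_right)
      exact ((ConcreteCategory.isIso_iff_bijective _).1 inferInstance).1
    refine hinj ?_
    show O.ι.app W ((pullback f f).presheaf.map (homOfLE hW).op (OmegaSh.diagDiff f (q ⁻¹ᵁ U) (q.app U t))) = O.ι.app W 0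
    rw [map_zero, OmegaSh.diagDiff, map_sub, map_sub, sub_eq_zero]
    simp only [← ConcreteCategory.comp_apply, Category.assoc, Scheme.Hom.appLE_map_assoc,
      Scheme.Hom.app_eq_appLE, Scheme.Hom.appLE_comp_appLE]
    refine congr($(OmegaSh.appLE_congr_hom ?_ _ _) t)
    exact hsnd.trans hfst.symm
  have hlift : (ClSub.idealMod (pullback.diagonal f).ker).presheaf.map (homOfLE hW).op
      (OmegaSh.idealLift f (q ⁻¹ᵁ U) (q.app U t)) = 0 := by
    apply OmegaSh.idealModι_app_injective
    rw [OmegaSh.idealModι_app_map, OmegaSh.ι_idealLift, ← OmegaSh.strSect_map, map_zero]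
    exact (congrArg _ hzero).trans (map_zero _)
  have hle : q ⁻¹ᵁ U ≤ pullback.diagonal f ⁻¹ᵁ W := fun x hx => by
    refine ⟨OmegaSh.le_preimage_diagNbhd f (q ⁻¹ᵁ U) hx, ?_⟩
    have h1 : pullback.diagonal f ≫ m = q ≫ pullback.diagonal π := by
      apply pullback.hom_ext <;> simp only [Category.assoc, pullback.diagonal_fst, pullback.diagonal_snd, Category.comp_id, hm1, hm2, pullback.diagonal_fst_assoc, pullback.diagonal_snd_assoc]
    exact ⟨q x, by rw [← Scheme.Hom.comp_apply, ← Scheme.Hom.comp_apply, h1]⟩
  show OmegaSh.dSect f (q ⁻¹ᵁ U) (q.app U t) = 0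
  have h2 := congrArg (OmegaSh.pullSect (pullback.diagonal f) _ W) hlift
  rw [OmegaSh.pullSect_map, map_zero] at h2
  have h3 := congrArg (((Scheme.Modules.pullback (pullback.diagonal f)).obj
    (ClSub.idealMod (pullback.diagonal f).ker)).presheaf.map (homOfLE hle).op) h2
  rw [OmegaSh.resM_resM, map_zero] at h3
  exact h3

theorem dOmega_app_eq_zero_of_eq {X S : Scheme.{u}} (f : X ⟶ S) [QuasiSeparated f] {A B : X.Opens} (e : A = B)
    (h : ∀ s : Γ(X, A), (OmegaSh.dOmega f).app A s = 0) (s : Γ(X, B)) : (OmegaSh.dOmega f).app B s = 0 := by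
  subst e; exact h s

open CategoryTheory AlgebraicGeometry in
/-- For a quasi-compact quasi-separated scheme S and a proper morphism f : X → S which is smooth of
relative dimension n with all fibres nonempty (f surjective), the map d : f_*O_X → f_*Ω_{X/S}
induced by the derivation of f is zero: d(s) = 0 for every section s of O_X over an open of the form
f⁻¹(V), V open in S. (The published lemma also asserts that f_*O_X is a finite étale O_S-algebra and
that Rf_*O_X splits off f_*O_X locally on S with perfect complement of tor amplitude in [1, ∞);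
those parts are not stated here.) -/
theorem result (S X : Scheme.{u}) (f : X ⟶ S)
    [CompactSpace ↥S] [QuasiSeparatedSpace ↥S] [IsProper f] (n : ℕ) [SmoothOfRelativeDimension n f]
    [Surjective f] (V : S.Opens) (s : Γ(X, f ⁻¹ᵁ V)) :
    (OmegaSh.dOmega f).app (f ⁻¹ᵁ V) s = 0 := by
  haveI : Smooth f := SmoothOfRelativeDimension.smooth n f
  haveI : GeometricallyReduced f := AbSchLib.geometricallyReduced_of_smooth f
  obtain ⟨-, _⟩ := SteinLib.finite_etale_fromNormalization f
  refine dOmega_app_eq_zero_of_eq f (A := f.toNormalization ⁻¹ᵁ (f.fromNormalization ⁻¹ᵁ V))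
    (by rw [← Scheme.Hom.comp_preimage, f.toNormalization_fromNormalization]) (fun a => ?_) s
  haveI := SteinLib.isIso_toNormalization_app f (f.fromNormalization ⁻¹ᵁ V)
  obtain ⟨t, rfl⟩ := ((ConcreteCategory.isIso_iff_bijective _).1 this).2 a
  exact dOmega_app_of_etale f f.toNormalization f.fromNormalization f.toNormalization_fromNormalization _ t

end Groth.Agent.S15535
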