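import Groth.Statements.S1554
import Groth.Agent.FibDimLib.GenIneq

set_option autoImplicit false
universe u
open CategoryTheory CategoryTheory.Limits AlgebraicGeometry
open Variety

namespace Groth.Agent.S1554

/-- Let f : X → Y be locally of finite type, x a point with image y such that the local ring of Y at y
is Noetherian of dimension at most one, and d a natural number such that the local fibre dimension
is d at the generic points of the irreducible components of X passing through x. Then the local
dimension at x of the fibre over y equals d. -/
theorem result {X Y : Scheme.{u}} (f : X ⟶ Y) [LocallyOfFiniteType f]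
    (x : X) [IsNoetherianRing (Y.presheaf.stalk (f.base x))] (hdimY : ringKrullDim (Y.presheaf.stalk (f.base x)) ≤ 1) (d : ℕ)
    (hgen : ∀ Z ∈ irreducibleComponents (X : Type u), x ∈ Z → ∀ η : X, IsGenericPoint η Z → FlatMor.fibreDimAt f η = d) :
    FlatMor.fibreDimAt f x = d := by
  obtain ⟨ξ, hξ, hξx, h⟩ := FibDimLib.exists_max_generization_bound f x
  have hd := hgen _ (DimIneqLib.closure_mem_components hξ) hξx.mem_closure ξ rfl
  have hge : (d : WithBot ℕ∞) ≤ FlatMor.fibreDimAt f x := hd ▸ FibDimLib.fibreDimAt_le_of_specializes f hξx
  rcases h with ⟨-, h⟩ | h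
  · exact h.trans hd
  · refine le_antisymm ?_ hge
    have h1 : FlatMor.fibreDimAt f x + 1 ≤ (d : WithBot ℕ∞) + 1 :=
      h.trans (by rw [hd]; exact add_le_add le_rfl hdimY)
    generalize FlatMor.fibreDimAt f x = a at h1 ⊢
    induction a using WithBot.recBotCoe with
    | bot => exact bot_le
    | coe a =>
      have h2 : a + 1 ≤ (d : ℕ∞) + 1 := by exact_mod_cast h1
      exact_mod_cast (ENat.add_le_add_iff_right (by simp)).mp h2

end Groth.Agent.S1554
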