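import Groth.Statements.S15546
import Mathlib
-- import your own Groth.Agent.* helpers here

set_option autoImplicit false
open scoped TensorProduct
universe u
open Unram

namespace Groth.Agent.S15546

/-- Let E be a finite extension of a field k which is not separable over k, and K an algebraic closure
of k. Then E ⊗_k K has a nonzero nilpotent element. -/
theorem result (k E K : Type u) [Field k] [Field E]
    [Algebra k E] [FiniteDimensional k E] [Field K] [Algebra k K] [IsAlgClosure k K]
    (h : ¬ Algebra.IsSeparable k E) : ∃ x : E ⊗[k] K, x ≠ 0 ∧ IsNilpotent x := by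
  classical
  by_contra hno
  push Not at hno
  haveI : IsAlgClosed K := IsAlgClosure.isAlgClosed k
  let R := K ⊗[k] E
  haveI : IsReduced R := ⟨fun y hy => by
    by_contra hne
    refine hno (Algebra.TensorProduct.comm k K E y) ?_ (hy.map _)
    exact fun h0 => hne ((map_eq_zero_iff _ (AlgEquiv.injective _)).mp h0)⟩
  haveI : IsArtinianRing R := isArtinian_of_tower K inferInstance
  haveI : Algebra.FormallyEtale K R := by
    rw [Algebra.FormallyEtale.iff_exists_algEquiv_prod]
    refine ⟨MaximalSpectrum R, inferInstance, fun m => R ⧸ m.asIdeal, fun m => Ideal.Quotient.field _, fun m => inferInstance,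
      (IsArtinianRing.equivPi R).restrictScalars K, fun m => ?_⟩
    letI := Ideal.Quotient.field m.asIdeal
    haveI : Algebra.IsAlgebraic K (R ⧸ m.asIdeal) := Algebra.IsAlgebraic.of_finite K _
    infer_instance
  haveI : Algebra.FormallyUnramified k E :=
    Algebra.FormallyUnramified.of_formallyUnramified_tensorProduct_of_faithfullyFlat K
  exact h (Algebra.FormallyUnramified.isSeparable k E)

end Groth.Agent.S15546
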