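import Groth.Statements.S15548
import Groth.Agent.TorFlatLib.Basic
import Mathlib.RingTheory.Filtration
import Mathlib.LinearAlgebra.TensorProduct.RightExactness
import Mathlib.LinearAlgebra.TensorProduct.Quotient
import Mathlib.RingTheory.Flat.Basic
-- import your own Groth.Agent.* helpers here

set_option autoImplicit false
universe u
open CategoryTheory
open CAlg
open scoped TensorProduct

namespace Groth.Agent.S15548

/-- Let R be a Noetherian commutative ring, I an ideal of R and M a finitely generated R-module. Then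
for every natural number n there is m ≥ n such that the map Tor_1^R(M, R/I^m) → Tor_1^R(M, R/I^n)
induced by the projection R/I^m → R/I^n is the zero map. Here Tor_1^R(M, -) is the first left
derived functor of M ⊗_R - (derived in the second variable). -/
theorem result (R : Type u) [CommRing R] [IsNoetherianRing R] (I : Ideal R)
    (M : Type u) [AddCommGroup M] [Module R M] [Module.Finite R M] (n : ℕ) :
    ∃ m : ℕ, n ≤ m ∧ ∀ h : I ^ m ≤ I ^ n,
      ((CategoryTheory.Tor (ModuleCat.{u} R) 1).obj (ModuleCat.of R M)).map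
        (ModuleCat.ofHom (Submodule.factor h)) = 0 := by
  classical
  obtain ⟨r, π, hπ⟩ := Module.Finite.exists_fin' R M
  let K := LinearMap.ker π
  obtain ⟨c, hc⟩ := Ideal.exists_pow_inf_eq_pow_smul I K
  refine ⟨n + c, Nat.le_add_right _ _, fun h => ?_⟩
  let N₁ := ModuleCat.of R (R ⧸ I ^ (n + c))
  let N₂ := ModuleCat.of R (R ⧸ I ^ n)
  let q : N₁ ⟶ N₂ := ModuleCat.ofHom (Submodule.factor h)
  let P := projectiveResolution N₁
  let Q := projectiveResolution N₂
  let φ := ProjectiveResolution.lift q P Q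
  have hw := ProjectiveResolution.lift_commutes q P Q
  let T := (MonoidalCategory.tensoringLeft (ModuleCat.{u} R)).obj (ModuleCat.of R M)
  show (T.leftDerived 1).map q = 0
  rw [Functor.leftDerived_map_eq T 1 q φ hw]
  suffices H : HomologicalComplex.homologyMap ((T.mapHomologicalComplex (ComplexShape.down ℕ)).map φ) 1 = 0 by
    show _ ≫ HomologicalComplex.homologyMap ((T.mapHomologicalComplex (ComplexShape.down ℕ)).map φ) 1 ≫ _ = 0
    rw [H]
    erw [Limits.zero_comp, Limits.comp_zero]
  let Kc := (T.mapHomologicalComplex (ComplexShape.down ℕ)).obj P.complex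
  let Lc := (T.mapHomologicalComplex (ComplexShape.down ℕ)).obj Q.complex
  refine ModuleCat.hom_ext (LinearMap.ext fun x => ?_)
  obtain ⟨y, rfl⟩ := (TorFlatLib.classes (K := Kc) 1).1 x
  show HomologicalComplex.homologyMap ((T.mapHomologicalComplex (ComplexShape.down ℕ)).map φ) 1 (Kc.homologyπ 1 y) = 0
  rw [← ConcreteCategory.comp_apply, HomologicalComplex.homologyπ_naturality, ConcreteCategory.comp_apply]
  refine (one_smul R _).symm.trans (((TorFlatLib.classes (K := Lc) 1).2 1 _).2 ?_)
  rw [one_smul, ← ConcreteCategory.comp_apply, HomologicalComplex.cyclesMap_i, ConcreteCategory.comp_apply]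
  let d := fun (i j : ℕ) => (P.complex.d i j).hom
  let d' := fun (i j : ℕ) => (Q.complex.d i j).hom
  let z : M ⊗[R] P.complex.X 1 := Kc.iCycles 1 y
  have hz : (d 1 0).lTensor M z = 0 := by
    show (Kc.iCycles 1 ≫ Kc.d 1 0) y = 0
    rw [HomologicalComplex.iCycles_d]
    rfl
  suffices hgoal : ∃ w : M ⊗[R] Q.complex.X 2, (d' 2 1).lTensor M w = (φ.f 1).hom.lTensor M z by
    have e : (Lc.sc 1).f = Lc.d ((ComplexShape.down ℕ).prev 1) 1 := rfl
    obtain ⟨w, hw2⟩ := hgoal
    rw [e]
    have : ∀ k, k = 2 → ∀ v, (∃ w : M ⊗[R] Q.complex.X 2, (d' 2 1).lTensor M w = v) → v ∈ LinearMap.range (Lc.d k 1).hom := by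
      rintro k rfl v ⟨w, rfl⟩
      exact ⟨w, rfl⟩
    exact this _ (by simp) _ ⟨w, hw2⟩
  have hex₀ : ∀ {Z : ModuleCat.{u} R} (S : ProjectiveResolution Z), Function.Exact ((S.complex.d 1 0).hom) (TorFlatLib.aug S) :=
    fun S => TorFlatLib.aug_exact S
  have hsq : ∀ v, TorFlatLib.aug Q (φ.f 0 v) = Submodule.factor h (TorFlatLib.aug P v) := fun v => by
    have := ProjectiveResolution.lift_commutes_zero q P Q
    exact congrArg (fun g : P.complex.X 0 ⟶ N₂ => g v) this
  obtain ⟨z', hz'⟩ := LinearMap.rTensor_surjective _ hπ z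
  have hexF := rTensor_exact (P.complex.X 0) (LinearMap.exact_subtype_ker_map π) hπ
  obtain ⟨k, hk⟩ := (hexF _).1 (show π.rTensor _ ((d 1 0).lTensor _ z') = 0 by
    rw [← LinearMap.comp_apply, LinearMap.rTensor_comp_lTensor, ← LinearMap.lTensor_comp_rTensor, LinearMap.comp_apply, hz', hz])
  let kb : K ⊗[R] (R ⧸ I ^ (n + c)) := (TorFlatLib.aug P).lTensor K k
  have hkb : (K.subtype).rTensor (R ⧸ I ^ (n + c)) kb = 0 := by
    show K.subtype.rTensor _ ((TorFlatLib.aug P).lTensor K k) = 0
    rw [← LinearMap.comp_apply, LinearMap.rTensor_comp_lTensor, ← LinearMap.lTensor_comp_rTensor, LinearMap.comp_apply, hk,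
      ← LinearMap.comp_apply, ← LinearMap.lTensor_comp, show TorFlatLib.aug P ∘ₗ d 1 0 = 0 from (hex₀ P).linearMap_comp_eq_zero,
      LinearMap.lTensor_zero, LinearMap.zero_apply]
  have hkb0 : (Submodule.factor h).lTensor K kb = 0 := by
    obtain ⟨t, ht⟩ := Submodule.Quotient.mk_surjective _ (TensorProduct.tensorQuotEquivQuotSMul K (I ^ (n + c)) kb)
    have ht : kb = t ⊗ₜ[R] Ideal.Quotient.mk (I ^ (n + c)) 1 := by
      apply (TensorProduct.tensorQuotEquivQuotSMul K (I ^ (n + c))).injective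
      rw [TensorProduct.tensorQuotEquivQuotSMul_tmul_mk, one_smul, ht]
    rw [ht] at hkb ⊢
    have h1 : (t : Fin r → R) ∈ I ^ (n + c) • (⊤ : Submodule R (Fin r → R)) := by
      rw [← Submodule.Quotient.mk_eq_zero]
      have := congrArg (TensorProduct.tensorQuotEquivQuotSMul (Fin r → R) (I ^ (n + c))) hkb
      rw [LinearMap.rTensor_tmul, map_zero] at this
      rw [← one_smul R (t : Fin r → R), ← TensorProduct.tensorQuotEquivQuotSMul_tmul_mk]
      exact this
    have h2 : (t : Fin r → R) ∈ I ^ n • K := by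
      have : (t : Fin r → R) ∈ I ^ n • (I ^ c • (⊤ : Submodule R (Fin r → R)) ⊓ K) := by
        have h3 := hc (n + c) (Nat.le_add_left _ _)
        rw [Nat.add_sub_cancel] at h3
        exact h3 ▸ ⟨h1, t.2⟩
      exact Submodule.smul_mono le_rfl inf_le_right this
    have h4 : t ∈ (I ^ n • ⊤ : Submodule R K) := by
      obtain ⟨v, hv, hvt⟩ : (t : Fin r → R) ∈ Submodule.map K.subtype (I ^ n • ⊤) := by
        rw [Submodule.map_smul'', Submodule.map_top, Submodule.range_subtype]; exact h2
      rwa [← (Subtype.ext hvt : v = t)]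
    rw [LinearMap.lTensor_tmul]
    apply (TensorProduct.tensorQuotEquivQuotSMul K (I ^ n)).injective
    rw [map_zero]
    show TensorProduct.tensorQuotEquivQuotSMul K (I ^ n) (t ⊗ₜ[R] Ideal.Quotient.mk _ 1) = 0
    rw [TensorProduct.tensorQuotEquivQuotSMul_tmul_mk, one_smul, Submodule.Quotient.mk_eq_zero]
    exact h4
  obtain ⟨k', hk'⟩ := (lTensor_exact K (hex₀ Q) (TorFlatLib.aug_surjective Q) ((φ.f 0).hom.lTensor K k)).1 (by
    have e : TorFlatLib.aug Q ∘ₗ (φ.f 0).hom = (Submodule.factor h) ∘ₗ TorFlatLib.aug P := LinearMap.ext hsq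
    rw [← LinearMap.comp_apply, ← LinearMap.lTensor_comp, e, LinearMap.lTensor_comp, LinearMap.comp_apply]
    exact hkb0)
  let z'' := (φ.f 1).hom.lTensor (Fin r → R) z' - K.subtype.rTensor _ k'
  have hz'' : (d' 1 0).lTensor (Fin r → R) z'' = 0 := by
    have hcomm : d' 1 0 ∘ₗ (φ.f 1).hom = (φ.f 0).hom ∘ₗ d 1 0 := congrArg ModuleCat.Hom.hom (φ.comm 1 0)
    rw [map_sub, ← LinearMap.comp_apply, ← LinearMap.lTensor_comp, hcomm, LinearMap.lTensor_comp, LinearMap.comp_apply, ← hk,
      ← LinearMap.comp_apply ((d' 1 0).lTensor (Fin r → R)) (K.subtype.rTensor _), LinearMap.lTensor_comp_rTensor, ← LinearMap.rTensor_comp_lTensor,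
      LinearMap.comp_apply, hk', ← LinearMap.comp_apply, LinearMap.lTensor_comp_rTensor, ← LinearMap.rTensor_comp_lTensor,
      LinearMap.comp_apply, sub_self]
  have hQex : Function.Exact (d' 2 1) (d' 1 0) :=
    (ShortComplex.ShortExact.moduleCat_exact_iff_function_exact _).1 (Q.exact_succ 0)
  obtain ⟨w, hw'⟩ := ((Module.Flat.lTensor_exact (Fin r → R) hQex) z'').1 hz''
  refine ⟨π.rTensor _ w, ?_⟩
  have h5 : π.rTensor _ (K.subtype.rTensor (Q.complex.X 1) k') = 0 := by
    rw [← LinearMap.comp_apply, ← LinearMap.rTensor_comp, show π ∘ₗ K.subtype = 0 from (LinearMap.exact_subtype_ker_map π).linearMap_comp_eq_zero,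
      LinearMap.rTensor_zero, LinearMap.zero_apply]
  rw [← LinearMap.comp_apply, LinearMap.lTensor_comp_rTensor, ← LinearMap.rTensor_comp_lTensor, LinearMap.comp_apply, hw', map_sub, h5, sub_zero,
    ← LinearMap.comp_apply, LinearMap.rTensor_comp_lTensor, ← LinearMap.lTensor_comp_rTensor, LinearMap.comp_apply, hz']

end Groth.Agent.S15548
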