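import Groth.Statements.S15549
-- import your own Groth.Agent.* helpers here

set_option autoImplicit false
universe u
open CategoryTheory AlgebraicGeometry
open LocCoh

namespace Groth.Agent.S15549

/-- Let R be a Noetherian commutative ring, positively graded by additive subgroups R_d, with irrelevant
ideal R_+ and X = Proj R, and let M be a graded R-module which is the direct sum of its pieces M_i,
i ≥ 0 (non-negatively graded here). For every i and every m ∈ M_i, the global section of M(i)~
defined by m (the value m/1 at every point) is zero if and only if some power of R_+ annihilates m.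
Equivalently, degree by degree, the kernel of the canonical map from M to the direct sum over all n
of Γ(X, M(n)~) is the R_+-power-torsion submodule H^0_{R_+}(M). -/
theorem result {R σ : Type u} [CommRing R] [IsNoetherianRing R] [SetLike σ R] [AddSubgroupClass σ R]
    (𝒜 : ℕ → σ) [GradedRing 𝒜] {M τ : Type u} [AddCommGroup M] [Module R M] [SetLike τ M] [AddSubgroupClass τ M]
    (ℳ : ℕ → τ) [SetLike.GradedSMul 𝒜 ℳ] [DirectSum.Decomposition ℳ]
    (i : ℕ) (m : ℳ i) :
    GrMod.alpha 𝒜 ℳ i m = 0 ↔
      ∃ k : ℕ, ∀ r : R, r ∈ (HomogeneousIdeal.irrelevant 𝒜).toIdeal ^ k → r • (m : M) = 0 := by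
  classical
  constructor
  · intro h
    let N : Ideal R := LinearMap.ker (LinearMap.toSpanSingleton R M (m : M))
    have hN : N.IsHomogeneous 𝒜 := by
      intro j r hr
      have hr' : r • (m : M) = 0 := hr
      show ((DirectSum.decompose 𝒜 r j : R)) • (m : M) = 0
      have hmem : ∀ l, (DirectSum.decompose 𝒜 r l : R) • (m : M) ∈ ℳ (l + i) := fun l =>
        SetLike.GradedSMul.smul_mem (DirectSum.decompose 𝒜 r l).2 m.2
      have hsum : (0 : M) = ∑ l ∈ (DirectSum.decompose 𝒜 r).support,
          (DirectSum.decompose 𝒜 r l : R) • (m : M) := by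
        rw [← Finset.sum_smul, DirectSum.sum_support_decompose 𝒜 r, hr']
      let π : M →+ M := AddMonoidHom.mk'
        (fun y => ((DirectSum.decompose ℳ y (j + i) : ℳ (j + i)) : M))
        fun y z => by rw [DirectSum.decompose_add, DirectSum.add_apply, AddMemClass.coe_add]
      have h1 := congrArg π hsum
      have hne : ∀ l, l ≠ j → π ((DirectSum.decompose 𝒜 r l : R) • (m : M)) = 0 := fun l hl =>
        DirectSum.decompose_of_mem_ne ℳ (hmem l)
          (show l + i ≠ j + i from fun hc => hl (Nat.add_right_cancel hc))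
      rw [map_zero, map_sum, Finset.sum_eq_single j (fun l _ hl => hne l hl)
        (fun hj => by
          rw [DFinsupp.notMem_support_iff.1 hj, ZeroMemClass.coe_zero, zero_smul]
          exact map_zero π)] at h1
      change (0 : M) = ((DirectSum.decompose ℳ _ (j + i) : ℳ (j + i)) : M) at h1
      rw [DirectSum.decompose_of_mem_same ℳ (hmem j)] at h1
      exact h1.symm
    have hrad : (HomogeneousIdeal.irrelevant 𝒜).toIdeal ≤ N.radical := by
      rw [hN.radical_eq]
      refine le_sInf fun P hP => ?_
      obtain ⟨hPh, hNP, hPp⟩ := hP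
      by_contra hirr
      let x : ProjectiveSpectrum 𝒜 := ⟨⟨P, hPh⟩, hPp, hirr⟩
      have h2 : LocalizedModule.mk (m : M) (1 : x.asHomogeneousIdeal.toIdeal.primeCompl) = 0 :=
        congrArg Subtype.val (congrFun (congrArg Subtype.val h) ⟨x, trivial⟩)
      rw [← LocalizedModule.zero_mk 1, LocalizedModule.mk_eq] at h2
      obtain ⟨⟨s, hs⟩, hsm⟩ := h2
      simp only [smul_zero, one_smul] at hsm
      exact hs (hNP (show s • (m : M) = 0 from hsm))
    obtain ⟨k, hk⟩ := Ideal.exists_pow_le_of_le_radical_of_fg hrad (IsNoetherian.noetherian _)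
    exact ⟨k, fun r hr => hk hr⟩
  · rintro ⟨k, hk⟩
    refine Subtype.ext (funext fun x => Subtype.ext ?_)
    obtain ⟨f, hf, hfx⟩ := Set.not_subset.1 x.1.not_irrelevant_le
    show LocalizedModule.mk (m : M) (1 : x.1.asHomogeneousIdeal.toIdeal.primeCompl) = 0
    rw [← LocalizedModule.zero_mk 1, LocalizedModule.mk_eq]
    refine ⟨⟨f ^ k, fun hc => hfx (x.1.isPrime.mem_of_pow_mem k hc)⟩, ?_⟩
    simp only [smul_zero, one_smul, Submonoid.mk_smul]
    exact hk _ (Ideal.pow_mem_pow hf k)

end Groth.Agent.S15549
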