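import Groth.Statements.S15551
import Groth.Agent.LichtLib.Conn
import Groth.Agent.CurveAmpLib.Affine
import Groth.Agent.AmpleFinGenLib.Divisor
import Groth.Agent.ClopenFFLib.Normal
import Groth.Agent.AbSchLib.DimFinite

set_option autoImplicit false
universe u
open CategoryTheory CategoryTheory.Limits AlgebraicGeometry
open Pi1

namespace Groth.Agent.S15551

/-- Let k be an algebraically closed field and X an integral normal scheme (all local rings integrally
closed domains), proper over k and of dimension at least 2, with an ample invertible module L; let s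
be a nonzero global section of L, given as a monomorphism O_X → L, and D = Z(s) ⊆ X its zero scheme
(the support of an effective ample divisor). Then for every finite étale cover Y → X with Y
connected, the fibre product Y ×_X D is connected. This is the statement that the étale fundamental
group of D maps onto that of X. (The published statement takes X projective over k; this row takes X
proper over k with an ample invertible module, which is equivalent.) -/
theorem result (k : Type u) [Field k] [IsAlgClosed k]
    (X : Scheme.{u}) (f : X ⟶ Spec (CommRingCat.of k)) [IsProper f] [IsIntegral X] (hN : Pi1.IsNormalScheme X)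
    (hdim : (2 : WithBot ℕ∞) ≤ topologicalKrullDim X)
    (L : X.Modules) (hL : CohB1.IsAmple L) (s : Coh.structureModule X ⟶ L) (hs : Mono s)
    (Y : FEt.Cat X) [ConnectedSpace Y.left] :
    ConnectedSpace ↥(pullback Y.hom (PicF2.zeroScheme L s).subschemeι) := by
  haveI := hs
  obtain ⟨g, hgY⟩ : ∃ g : Y.left ⟶ X, g = Y.hom := ⟨Y.hom, rfl⟩
  haveI : IsFinite g := hgY ▸ Y.prop.1
  haveI : Etale g := hgY ▸ Y.prop.2
  haveI : IsIntegral Y.left := ClopenFFLib.isIntegral_of_connected g hN
  haveI : Surjective g := ⟨Set.range_eq_univ.1 (IsClopen.eq_univ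
    ⟨g.isClosedMap.isClosed_range, g.isOpenMap.isOpen_range⟩ (Set.range_nonempty _))⟩
  have hM : PicF.IsInvertible L := hL.1
  have haff := CurveAmpLib.isAffineOpen_genSet f hM hL (s.app ⊤ (1 : Γ(X, ⊤)))
  rw [← AmpleThLib.genLocus_hom hM] at haff
  have hc := LichtLib.isConnected_compl' (g ≫ f)
    (by rw [AbSchLib.topologicalKrullDim_eq_of_finite_surjective g]; exact hdim) _ (haff.preimage g)
  let I := PicF2.zeroScheme L s
  have hset : Set.range I.subschemeι = ((CohB1.genLocus L s : X.Opens) : Set X)ᶜ := by
    rw [I.range_subschemeι]
    ext x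
    rw [Set.mem_compl_iff, SetLike.mem_coe, SetLike.mem_coe, ← AmpleFinGenLib.notMem_support_zeroScheme hM s x, not_not]
  have hr : Set.range (pullback.fst g I.subschemeι) =
      ((g ⁻¹ᵁ CohB1.genLocus L s : Y.left.Opens) : Set Y.left)ᶜ := by
    rw [Scheme.Pullback.range_fst, hset]
    rfl
  rw [← hr, ← Set.image_univ] at hc
  rw [← hgY, connectedSpace_iff_univ]
  exact ⟨Set.image_nonempty.1 hc.1,
    (pullback.fst g I.subschemeι).isClosedEmbedding.isInducing.isPreconnected_image.1 hc.2⟩

end Groth.Agent.S15551
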