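import Groth.Statements.S15553
import Groth.Agent.SectRestrLib.Core

-- import your own Groth.Agent.* helpers here

set_option autoImplicit false
universe v₁ v₂ v₃ u₁ u₂ u₃
open CategoryTheory
open FibCat

namespace Groth.Agent.S15553

open CategoryTheory.Functor in
theorem fib_map {C : Type u₁} [Category.{v₁} C] {D : Type u₂} [Category.{v₂} D] (f : C ⥤ D) {Y : D}
    {x x' X X' : C} (hx : f.obj x = Y) {h : Y ⟶ f.obj X} {h' : Y ⟶ f.obj X'} (m : x ⟶ X) (m' : x' ⟶ X')
    (gr : X ⟶ X') (hgr : h ≫ f.map gr = h') (hm : f.IsCartesian h m) (hm' : f.IsCartesian h' m') :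
    ∃ k : x ⟶ x', f.IsHomLift (𝟙 Y) k ∧ k ≫ m' = m ≫ gr := by
  haveI hl : f.IsHomLift h' (m ≫ gr) := by
    refine IsHomLift.of_fac' f h' (m ≫ gr) hx rfl ?_
    rw [f.map_comp, IsHomLift.fac' f h m, ← hgr]
    simp
  exact ⟨IsCartesian.map f h' m' (m ≫ gr), inferInstance, IsCartesian.fac f h' m' (m ≫ gr)⟩

open CategoryTheory.Functor in
theorem hyp {C : Type u₁} [Category.{v₁} C] {D : Type u₂} [Category.{v₂} D] (f : C ⥤ D) [f.IsFibered]
    (hf : ∀ Y : D, W4c2modmodulilect.HasContractibleNerve.{max u₁ u₂ u₃ v₁ v₂ v₃, max u₁ u₂ u₃ v₁ v₂ v₃} (f.Fiber Y)) :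
    SectRestrLib.Hyp.{v₁, v₂, v₃, u₁, u₂, u₃} f := by
  intro Y
  let L : f.Fiber Y ⥤ StructuredArrow Y f :=
    { obj := fun x => StructuredArrow.mk (eqToHom x.2.symm)
      map := fun {x x'} k => StructuredArrow.homMk k.1 (by
        haveI := k.2
        show eqToHom x.2.symm ≫ f.map k.1 = eqToHom x'.2.symm
        rw [IsHomLift.fac' f (𝟙 Y) k.1]; simp)
      map_id := fun x => by ext; rfl
      map_comp := fun k k' => by ext; rfl }
  refine ⟨(hf Y).1.map L.obj, fun G _ K => ?_⟩
  haveI := (hf Y).2 G
  let a : G := (Functor.const _).objPreimage (L ⋙ K)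
  let e : (Functor.const _).obj a ≅ L ⋙ K := (Functor.const _).objObjPreimageIso (L ⋙ K)
  choose x m hm using fun s : StructuredArrow Y f =>
    IsPreFibered.exists_isCartesian (p := f) (a := s.right) rfl s.hom
  have hx : ∀ s, f.obj (x s) = Y := fun s => haveI := hm s; IsHomLift.domain_eq f s.hom (m s)
  let arr : ∀ s, L.obj (Fiber.mk (hx s)) ⟶ s := fun s => StructuredArrow.homMk (m s) (by
    haveI := hm s
    show eqToHom (hx s).symm ≫ f.map (m s) = s.hom
    rw [IsHomLift.fac' f s.hom (m s)]; simp)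
  refine ⟨a, ⟨NatIso.ofComponents (fun s => asIso (e.hom.app (Fiber.mk (hx s)) ≫ K.map (arr s))) fun {s t} g => ?_⟩⟩
  obtain ⟨k0, hk0, hk0'⟩ := fib_map f (hx s) (m s) (m t) g.right (StructuredArrow.w g) (hm s) (hm t)
  let k : Fiber.mk (hx s) ⟶ Fiber.mk (hx t) := ⟨k0, hk0⟩
  have hk : L.map k ≫ arr t = arr s ≫ g := by
    ext
    exact hk0'
  have he : e.hom.app (Fiber.mk (hx s)) ≫ K.map (L.map k) = e.hom.app (Fiber.mk (hx t)) := by
    simpa using (e.hom.naturality k).symm
  show 𝟙 a ≫ e.hom.app (Fiber.mk (hx t)) ≫ K.map (arr t) = (e.hom.app (Fiber.mk (hx s)) ≫ K.map (arr s)) ≫ K.map g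
  rw [Category.id_comp, ← he, Category.assoc, Category.assoc, ← K.map_comp, ← K.map_comp, hk]


/-- Let f : C ⥤ D be a fibred category such that every fibre of f is non-empty and has trivial
fundamental groupoid in the sense that for every groupoid G the constant-functor functor G ⥤ (f⁻¹(Y)
⥤ G) is an equivalence; let p : F ⥤ D be a category fibred in groupoids over D. Then restriction
along f, from sections of F over D (functors D ⥤ F over D, with natural transformations over
identities) to sections of F over the diagram f (functors C ⥤ F over D), is an equivalence of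
categories. (The published statement allows any fibred category F with its cartesian sections; this
row takes F fibred in groupoids, where every arrow is cartesian and every section is a cartesian
section. The test groupoids G are taken with objects and morphisms in a universe level containing
all the categories involved.) -/
theorem result
    {C : Type u₁} [Category.{v₁} C] {D : Type u₂} [Category.{v₂} D] {F : Type u₃} [Category.{v₃} F]
    (f : C ⥤ D) [f.IsFibered] (p : F ⥤ D) [FibCat.IsFibGrpd p]
    (hf : ∀ Y : D, W4c2modmodulilect.HasContractibleNerve.{max u₁ u₂ u₃ v₁ v₂ v₃, max u₁ u₂ u₃ v₁ v₂ v₃} (f.Fiber Y)) :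
    (Stk.restr (FibCat.toSelf (BasedCategory.ofFunctor f)) (BasedCategory.ofFunctor p)).IsEquivalence := by
  exact SectRestrLib.main (hyp.{v₁, v₂, v₃, u₁, u₂, u₃} f hf)


end Groth.Agent.S15553
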