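import Groth.Statements.S15554
import Groth.Agent.BertiniJetLib.Zero
import Groth.Agent.ProjDegLib.Chart
import Groth.Agent.ChevLib.Basic
import Groth.Agent.PicPnLib.Twist
-- import your own Groth.Agent.* helpers here

set_option autoImplicit false
universe u
open CategoryTheory CategoryTheory.Limits AlgebraicGeometry
open SmVar

namespace Groth.Agent.S15554
open CategoryTheory.Limits
section helpers
open TensorProduct TopologicalSpace

/-- Affine generators containing `1` span the one-jets at a rational maximal ideal. -/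
theorem jets_of_gen {K B : Type u} [Field K] [IsAlgClosed K] [CommRing B] [Algebra K B]
    [Algebra.FiniteType K B] {m : ℕ} (b : Fin m → B) (a : Fin m) (ha : b a = 1)
    (hgen : Algebra.adjoin K (Set.range b) = ⊤) (p : Ideal B) (hp : p.IsMaximal) (t : B) :
    ∃ c : Fin m → K, t - ∑ i, algebraMap K B (c i) * b i ∈ p ^ 2 := by
  classical
  let S : Submodule K B := Submodule.span K (Set.range b) ⊔ (p ^ 2).restrictScalars K
  suffices t ∈ S by
    obtain ⟨x, hx, y, hy, rfl⟩ := Submodule.mem_sup.1 this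
    obtain ⟨c, rfl⟩ := (Submodule.mem_span_range_iff_exists_fun K).1 hx
    exact ⟨c, by simpa [Algebra.smul_def] using hy⟩
  have hb : ∀ i, b i ∈ S := fun i => Submodule.mem_sup_left (Submodule.subset_span ⟨i, rfl⟩)
  have h1 : (1 : B) ∈ S := ha ▸ hb a
  have hK : ∀ l : K, algebraMap K B l ∈ S := fun l => by
    rw [Algebra.algebraMap_eq_smul_one]; exact S.smul_mem l h1
  letI : Field (B ⧸ p) := Ideal.Quotient.field p
  haveI : Algebra.FiniteType K (B ⧸ p) :=
    Algebra.FiniteType.of_surjective (Ideal.Quotient.mkₐ K p) Ideal.Quotient.mk_surjective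
  haveI : Module.Finite K (B ⧸ p) := finite_of_finite_type_of_isJacobsonRing K (B ⧸ p)
  have hres : ∀ x : B, ∃ l : K, x - algebraMap K B l ∈ p := fun x => by
    obtain ⟨l, hl⟩ := (IsAlgClosed.algebraMap_bijective_of_isIntegral (k := K) (K := B ⧸ p)).2
      (Ideal.Quotient.mk p x)
    exact ⟨l, Ideal.Quotient.eq.1 hl.symm⟩
  have hmul : ∀ x y, x ∈ S → y ∈ S → x * y ∈ S := fun x y hx hy => by
    obtain ⟨l, hl⟩ := hres x
    obtain ⟨l', hl'⟩ := hres y
    have e : x * y = l • y + l' • x - l • algebraMap K B l' +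
        (x - algebraMap K B l) * (y - algebraMap K B l') := by
      simp only [Algebra.smul_def]; ring
    rw [e]
    refine add_mem (sub_mem (add_mem (S.smul_mem l hy) (S.smul_mem l' hx)) (S.smul_mem l (hK l')))
      (Submodule.mem_sup_right ?_)
    rw [Submodule.restrictScalars_mem, sq]
    exact Ideal.mul_mem_mul hl hl'
  have ht : t ∈ Algebra.adjoin K (Set.range b) := hgen ▸ Algebra.mem_top
  induction ht using Algebra.adjoin_induction with
  | mem x hx => obtain ⟨i, rfl⟩ := hx; exact hb i
  | algebraMap r => exact hK r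
  | add x y _ _ hx hy => exact add_mem hx hy
  | mul x y _ _ hx hy => exact hmul x y hx hy

/-- Bertini for affine generators over an arbitrary field. -/
theorem exists_good {k A : Type u} [Field k] [CommRing A] [Algebra k A] [Algebra.FiniteType k A]
    [Algebra.Smooth k A] {m : ℕ} (b : Fin m → A) (a : Fin m) (ha : b a = 1)
    (hgen : Algebra.adjoin k (Set.range b) = ⊤) :
    ∃ q : MvPolynomial (Fin m) (AlgebraicClosure k), q ≠ 0 ∧ ∀ c : Fin m → k,
      MvPolynomial.eval (fun i => algebraMap k (AlgebraicClosure k) (c i)) q ≠ 0 →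
      Algebra.Smooth k (A ⧸ Ideal.span {∑ i, algebraMap k A (c i) * b i}) := by
  classical
  let K := AlgebraicClosure k
  let β : Fin m → K ⊗[k] A := fun i => 1 ⊗ₜ b i
  have hg : Algebra.adjoin K (Set.range β) = ⊤ := by
    refine top_le_iff.1 fun x hx => ?_
    clear hx
    induction x using TensorProduct.induction_on with
    | zero => exact Subalgebra.zero_mem _
    | add x y hx hy => exact Subalgebra.add_mem _ hx hy
    | tmul l t =>
      rw [show l ⊗ₜ[k] t = l • ((1 : K) ⊗ₜ[k] t) by rw [TensorProduct.smul_tmul', smul_eq_mul, mul_one]]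
      refine Subalgebra.smul_mem _ ?_ l
      have ht : t ∈ Algebra.adjoin k (Set.range b) := hgen ▸ Algebra.mem_top
      have : (Algebra.adjoin k (Set.range b)).map Algebra.TensorProduct.includeRight ≤
          (Algebra.adjoin K (Set.range β)).restrictScalars k := by
        rw [AlgHom.map_adjoin]
        refine Algebra.adjoin_le ?_
        rintro _ ⟨_, ⟨i, rfl⟩, rfl⟩
        exact Algebra.subset_adjoin ⟨i, rfl⟩
      exact this ⟨t, ht, rfl⟩
  obtain ⟨q, hq0, hq⟩ := BertiniJetLib.exists_smooth_equation (k := K) β (0 : K ⊗[k] A)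
    (fun p hp t => jets_of_gen β a (by simp [β, ha]; rfl) hg p hp t)
  refine ⟨q, hq0, fun c hc => ?_⟩
  let F := ∑ i, algebraMap k A (c i) * b i
  have hF : (0 : K ⊗[k] A) + ∑ i, algebraMap K (K ⊗[k] A) (algebraMap k K (c i)) * β i = 1 ⊗ₜ F := by
    rw [zero_add, TensorProduct.tmul_sum]
    refine Finset.sum_congr rfl fun i _ => ?_
    rw [Algebra.TensorProduct.algebraMap_apply, Algebra.TensorProduct.tmul_mul_tmul,
      Algebra.algebraMap_self, RingHom.id_apply, mul_one, one_mul, Algebra.algebraMap_eq_smul_one,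
      Algebra.algebraMap_eq_smul_one (A := A), smul_mul_assoc, one_mul, TensorProduct.smul_tmul]
  have hs := hq _ hc
  rw [hF] at hs
  have hmap : (Ideal.span {F}).map
      (Algebra.TensorProduct.includeRight : A →ₐ[k] K ⊗[k] A) = Ideal.span {(1 : K) ⊗ₜ[k] F} := by
    rw [Ideal.map_span, Set.image_singleton]; rfl
  haveI : Algebra.Smooth K ((K ⊗[k] A) ⧸
      (Ideal.span {F}).map (Algebra.TensorProduct.includeRight : A →ₐ[k] K ⊗[k] A)) := by
    rw [hmap]; exact hs
  haveI : Algebra.Smooth K (K ⊗[k] (A ⧸ Ideal.span {F})) :=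
    Algebra.Smooth.of_equiv (Algebra.TensorProduct.tensorQuotientEquiv (R := k) K A K (Ideal.span {F})).symm
  exact Algebra.Smooth.of_smooth_tensorProduct_of_faithfullyFlat K

end helpers


/-- Let k be an infinite field and X ⊆ P^n_k a smooth projective variety, given as an integral scheme X
with a closed immersion ι into projective n-space over k through which X is smooth over k. Then X
has a smooth hyperplane section defined over k: there is a global section s of the twisting sheaf
O(1) on P^n_k whose zero scheme H, a hyperplane defined over k, does not contain X and for which the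
scheme-theoretic intersection X ∩ H = X ×_{P^n_k} H is smooth over k. (The published statement also
records that X ∩ H has dimension dim X − 1; that is automatic once X is integral and not contained
in H, so this row states smoothness together with X ⊄ H.) -/
theorem result (k : Type u) [Field k] [Infinite k] (n : ℕ)
    (X : Scheme.{u}) [IsIntegral X] (ι : X ⟶ CohB1.ProjSpace n k) [IsClosedImmersion ι]
    [Smooth (ι ≫ CohB1.ProjSpace.toSpec n k)] :
    ∃ s : Coh.structureModule (CohB1.ProjSpace n k) ⟶ Twist.twistProjSpace n k 1,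
      (∃ x : ↥X, ι.base x ∉ (PicF2.zeroScheme (Twist.twistProjSpace n k 1) s).support) ∧
      Smooth (pullback.fst ι (PicF2.zeroScheme (Twist.twistProjSpace n k 1) s).subschemeι ≫ ι ≫
        CohB1.ProjSpace.toSpec n k) := by
  classical
  let P := CohB1.ProjSpace n k
  let π := CohB1.ProjSpace.toSpec n k
  let O1 := Twist.twistProjSpace n k 1
  have hO1 : PicF.IsInvertible O1 := PicPnLib.twist_inv n k 1
  let V : Fin (n + 1) → P.affineOpens := fun a => ⟨QCohLib.stdOpen n k a, ProjDegLib.stdOpen_affine n k a⟩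
  let U : Fin (n + 1) → X.affineOpens := fun a => ⟨ι ⁻¹ᵁ (V a).1, (V a).2.preimage ι⟩
  let b : ∀ a, Fin (n + 1) → Γ(X, (U a).1) := fun a i => ι.app (V a).1 (GradedCechLib.deh n k a (MvPolynomial.X i))
  have hdehC : ∀ a (c : k), GradedCechLib.deh n k a (MvPolynomial.C c) =
      (P.presheaf.map (homOfLE (le_top (a := (V a).1))).op).hom (Coh.toGlobal π c) := fun a c =>
    GradedCechLib.deh_C n k a c
  have hcst : ∀ a (c : k), ι.app (V a).1 (GradedCechLib.deh n k a (MvPolynomial.C c)) =
      (X.presheaf.map (homOfLE (le_top (a := (U a).1))).op).hom (Coh.toGlobal (ι ≫ π) c) := fun a c => by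
    rw [hdehC]
    exact congr($(ι.naturality (homOfLE (le_top (a := (V a).1))).op) (Coh.toGlobal π c))
  have hgood : ∀ a, ∃ q : MvPolynomial (Fin (n + 1)) (AlgebraicClosure k), q ≠ 0 ∧ ∀ c : Fin (n + 1) → k,
      MvPolynomial.eval (fun i => algebraMap k (AlgebraicClosure k) (c i)) q ≠ 0 →
      letI := BertiniJetLib.algOn (ι ≫ π) (U a).1
      Algebra.Smooth k (Γ(X, (U a).1) ⧸ Ideal.span {ι.app (V a).1 (ProjDegLib.L n k a c)}) := by
    intro a
    letI := BertiniJetLib.algOn (ι ≫ π) (U a).1
    haveI : Algebra.Smooth k Γ(X, (U a).1) := BertiniJetLib.smooth_algOn (ι ≫ π) (U a)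
    haveI : Algebra.FiniteType k Γ(X, (U a).1) := inferInstance
    have hcst' : ∀ c : k, algebraMap k Γ(X, (U a).1) c =
        ι.app (V a).1 (GradedCechLib.deh n k a (MvPolynomial.C c)) := fun c => (hcst a c).symm
    have hgen : Algebra.adjoin k (Set.range (b a)) = ⊤ := by
      refine top_le_iff.1 fun t ht => ?_
      clear ht
      obtain ⟨w, rfl⟩ := ι.app_surjective (V a).1 (V a).2 t
      obtain ⟨f, rfl⟩ := GradedCechLib.deh_surjective n k a w
      induction f using MvPolynomial.induction_on with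
      | C c => rw [← hcst' c]; exact Subalgebra.algebraMap_mem _ c
      | add p q hp hq => rw [map_add, map_add]; exact Subalgebra.add_mem _ hp hq
      | mul_X p j hp => rw [map_mul, map_mul]; exact Subalgebra.mul_mem _ hp (Algebra.subset_adjoin ⟨j, rfl⟩)
    obtain ⟨q, hq0, hq⟩ := exists_good (b a) a (by simp [b, GradedCechLib.deh_X_self]) hgen
    refine ⟨q, hq0, fun c hc => ?_⟩
    have e : ι.app (V a).1 (ProjDegLib.L n k a c) = ∑ i, algebraMap k Γ(X, (U a).1) (c i) * b a i := by
      simp only [ProjDegLib.L, ProjDegLib.form, map_sum, map_mul, hcst', b]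
    rw [e]
    exact hq c hc
  choose q hq0 hq using hgood
  obtain ⟨x₀⟩ := (inferInstance : Nonempty X)
  obtain ⟨a₀, ha₀⟩ := ProjDegLib.exists_chart n k (ι x₀)
  have hx₀ : x₀ ∈ (U a₀).1 := ha₀
  haveI : Nonempty (U a₀).1 := ⟨⟨x₀, hx₀⟩⟩
  obtain ⟨φ, hφ⟩ : ∃ φ : (letI := BertiniJetLib.algOn (ι ≫ π) (U a₀).1; Γ(X, (U a₀).1) →ₗ[k] k),
      φ (1 : Γ(X, (U a₀).1)) = 1 := by
    letI := BertiniJetLib.algOn (ι ≫ π) (U a₀).1
    obtain ⟨g, hg⟩ := (LinearMap.toSpanSingleton k Γ(X, (U a₀).1) 1).exists_leftInverse_of_injective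
      (LinearMap.ker_eq_bot.2 fun r s h => (algebraMap k Γ(X, (U a₀).1)).injective (by
        simpa [Algebra.algebraMap_eq_smul_one] using h))
    exact ⟨g, by simpa using LinearMap.congr_fun hg 1⟩
  letI := BertiniJetLib.algOn (ι ≫ π) (U a₀).1
  let ℓ : MvPolynomial (Fin (n + 1)) (AlgebraicClosure k) :=
    ∑ i, MvPolynomial.C (algebraMap k (AlgebraicClosure k) (φ (b a₀ i))) * MvPolynomial.X i
  have hℓ : ℓ ≠ 0 := fun h => by
    have := congrArg (MvPolynomial.eval (Pi.single a₀ (1 : AlgebraicClosure k))) h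
    simp [ℓ, Pi.single_apply, b, GradedCechLib.deh_X_self, hφ] at this
  have hQ : (∏ a, q a) * ℓ ≠ 0 := mul_ne_zero (Finset.prod_ne_zero_iff.2 fun a _ => hq0 a) hℓ
  obtain ⟨c, hc⟩ : ∃ c : Fin (n + 1) → k,
      MvPolynomial.eval (fun i => algebraMap k (AlgebraicClosure k) (c i)) ((∏ a, q a) * ℓ) ≠ 0 := by
    by_contra h
    push Not at h
    refine hQ (MvPolynomial.funext_set (fun _ => Set.range (algebraMap k (AlgebraicClosure k)))
      (fun _ => Set.infinite_range_of_injective (algebraMap k (AlgebraicClosure k)).injective) fun x hx => ?_)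
    choose c hc using fun i => hx i (Set.mem_univ i)
    rw [← funext hc, map_zero, h c]
  rw [map_mul, map_prod, mul_ne_zero_iff] at hc
  let s := QCohLib.unitHom O1 (ProjDegLib.sec n k c)
  have hsec : ∀ a, ProjDegLib.L n k a c •
      AmpleLib.res O1 (le_top : (V a).1 ≤ ⊤) (ProjUP.coord n k a) = MeroLib.secOn s (V a).1 := fun a => by
    refine (ProjDegLib.res_sec n k a c).symm.trans ?_
    refine Eq.trans ?_ (QCohLib.unitHom_app O1 (ProjDegLib.sec n k c) (V a).1 1).symm
    exact (one_smul _ _).symm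
  have hZ : ∀ a, (PicF2.zeroScheme O1 s).ideal (V a) = Ideal.span {ProjDegLib.L n k a c} := fun a =>
    MeroLib.zeroScheme_ideal_of_genOn hO1 s
      (g := AmpleLib.res O1 (le_top : (V a).1 ≤ ⊤) (ProjUP.coord n k a))
      (by exact TwistLib.globalOf_genOn (CohB1.polyGrading n k) (GradedCechLib.X_mem n k a)) (hsec a)
  refine ⟨s, ?_, ?_⟩
  · have hF : ι.app (V a₀).1 (ProjDegLib.L n k a₀ c) ≠ 0 := fun h => hc.2 (by
      have e : ι.app (V a₀).1 (ProjDegLib.L n k a₀ c) = ∑ i, c i • b a₀ i := by
        simp only [ProjDegLib.L, ProjDegLib.form, map_sum, map_mul, hcst, b, Algebra.smul_def]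
        rfl
      have h2 : ∑ i, c i * φ (b a₀ i) = 0 := by
        simpa only [map_sum, map_smul, smul_eq_mul, map_zero] using congrArg φ (e.symm.trans h)
      rw [← map_zero (algebraMap k (AlgebraicClosure k)), ← h2]
      simp [ℓ, mul_comm])
    obtain ⟨x, hx⟩ : ∃ x, x ∈ X.basicOpen (ι.app (V a₀).1 (ProjDegLib.L n k a₀ c)) := by
      by_contra hne
      push Not at hne
      exact hF ((basicOpen_eq_bot_iff _).1 (TopologicalSpace.Opens.ext (Set.eq_empty_iff_forall_notMem.2 hne)))
    refine ⟨x, fun hmem => ?_⟩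
    have hxV : ι x ∈ (V a₀).1 := (Scheme.basicOpen_le _ _ hx : x ∈ (U a₀).1)
    have h2 := ((PicF2.zeroScheme O1 s).coe_support_inter (V a₀)).le ⟨hmem, hxV⟩
    rw [hZ a₀] at h2
    refine (Scheme.mem_zeroLocus_iff ..).1 h2.1 _ (Ideal.subset_span rfl) ?_
    rw [← Scheme.preimage_basicOpen] at hx
    exact hx
  · let J := (PicF2.zeroScheme O1 s).comap ι
    have hJ : ∀ a, J.ideal (U a) = Ideal.span {ι.app (V a).1 (ProjDegLib.L n k a c)} := fun a => by
      rw [ChevLib.ideal_comap_of_isAffineHom (PicF2.zeroScheme O1 s) ι (V a), hZ a, Ideal.map_span,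
        Set.image_singleton]
    have hcov : (⨆ a, ((U a).1 : X.Opens)) = ⊤ := top_le_iff.1 fun x _ => by
      obtain ⟨a, ha⟩ := ProjDegLib.exists_chart n k (ι x)
      exact TopologicalSpace.Opens.mem_iSup.2 ⟨a, ha⟩
    haveI hsm : Smooth (J.subschemeι ≫ ι ≫ π) := by
      refine BertiniJetLib.smooth_subschemeι_comp (ι ≫ π) J U hcov fun a => ?_
      rw [hJ a]
      exact hq a c fun h => hc.1 (Finset.prod_eq_zero (Finset.mem_univ a) h)
    rw [← Category.assoc, ← (PicF2.zeroScheme O1 s).comapIso_inv_subschemeι ι, Category.assoc, Category.assoc]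
    infer_instance


end Groth.Agent.S15554
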