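import Groth.Statements.S15556
import Groth.Agent.CycPushLib.FiniteLen
import Groth.Agent.CycPushLib.Proper
import Groth.Agent.CycPBLib.Func
import Groth.Agent.CycBivLib.Chow
import Groth.Agent.GeomIrrLib.Basic

set_option autoImplicit false
set_option backward.isDefEq.respectTransparency false
set_option backward.isDefEq.respectTransparency.types false
universe u
open CategoryTheory AlgebraicGeometry
open CategoryTheory.Limits
open Cyc

namespace Groth.Agent.S15556

/-- Let k be a field of characteristic p > 0, E a finite purely inseparable field extension of k, X a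
separated scheme of finite type over k, X' = X ×_k E with projection f : X' → X (any pullback
square), δ a dimension function on X making (X, δ) a cycle setup (X locally Noetherian with
universally catenary local rings) and δ' the induced dimension function on X' (so (X', δ') is a
cycle setup and δ' is compatible with δ along f, which has relative dimension 0). Then flat pullback
of cycles along f induces a bijection of Chow groups of i-cycles after inverting p, in the following
two-sided sense: for every i-cycle β on X' there are an i-cycle α on X, an i-cycle α' on X' with the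
flat-pullback coefficients of α, and an exponent s with [α'] = p^s · [β] in CH_i(X'); and for every
i-cycle α on X and every i-cycle α' on X' with the flat-pullback coefficients of α, if [α'] = 0 in
CH_i(X') then p^s · [α] = 0 in CH_i(X) for some s. (The published statement allows an arbitrary
purely inseparable extension E of k; this row takes E finite over k, the case the printed argument
carries out.) -/
theorem result (k E : Type u) [Field k] [Field E] [Algebra k E] (p : ℕ) [Fact p.Prime] [CharP k p] [Module.Finite k E] [IsPurelyInseparable k E] (X X' : Scheme.{u}) (g : X ⟶ Spec (CommRingCat.of k)) [IsSeparated g] [LocallyOfFiniteType g] [QuasiCompact g] (f : X' ⟶ X) (g' : X' ⟶ Spec (CommRingCat.of E)) (hsq : IsPullback f g' g (Spec.map (CommRingCat.ofHom (algebraMap k E)))) (δ : X → ℤ) (δ' : X' → ℤ) (hX : Cyc.IsSetup X δ) (hX' : Cyc.IsSetup X' δ') (hδ : Cyc.DeltaCompat f δ' δ) (i : ℤ) : (∀ (β : AlgebraicCycle X' ℤ) (hβ : β ∈ Cyc.Zk X' δ' i), ∃ (α : AlgebraicCycle X ℤ) (hα : α ∈ Cyc.Zk X δ i) (α'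 : AlgebraicCycle X' ℤ) (hα' : α' ∈ Cyc.Zk X' δ' i) (s : ℕ), ⇑α' = Cyc.pullFun f δ' δ 0 ⇑α ∧ ChowOps.cl α' hα' = p ^ s • ChowOps.cl β hβ) ∧ (∀ (α : AlgebraicCycle X ℤ) (hα : α ∈ Cyc.Zk X δ i) (α' : AlgebraicCycle X' ℤ) (hα' : α' ∈ Cyc.Zk X' δ' i), ⇑α' = Cyc.pullFun f δ' δ 0 ⇑α → ChowOps.cl α' hα' = 0 → ∃ s : ℕ, p ^ s • ChowOps.cl α hα = 0) := by
  classical
  let π := Spec.map (CommRingCat.ofHom (algebraMap k E))
  haveI : UniversallyInjective π := GeomIrrLib.universallyInjective_specMap k E
  haveI : IsFinite π := by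
    rw [IsFinite.SpecMap_iff]
    exact RingHom.finite_algebraMap.2 inferInstance
  haveI : Flat π := by
    rw [HasRingHomProperty.Spec_iff (P := @Flat)]
    exact RingHom.flat_algebraMap_iff.2 inferInstance
  haveI : UniversallyInjective f := MorphismProperty.of_isPullback hsq.flip inferInstance
  haveI : IsFinite f := MorphismProperty.of_isPullback hsq.flip inferInstance
  haveI : Flat f := MorphismProperty.of_isPullback hsq.flip inferInstance
  haveI := hX.1
  haveI := hX'.1
  obtain ⟨s, hs⟩ := IsPurelyInseparable.finrank_eq_pow k E p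
  have hrank : ∀ x : X, f.finrank x = p ^ s := fun x => by
    rw [Scheme.Hom.finrank_of_isPullback g' f π g hsq.flip x, Scheme.Hom.finrank_SpecMap_algebraMap,
      Module.rankAtStalk_eq_finrank_of_free, hs]
    rfl
  have hkey : ∀ x' : X', (f.residueDegree x' : ℤ) * ((Module.length (X'.presheaf.stalk x')
      (X'.presheaf.stalk x' ⧸ CycLimLib.fibIdeal f x')).toNat : ℤ) = (p : ℤ) ^ s := fun x' => by
    obtain ⟨-, -, h⟩ := CycPushLib.finrank_eq_sum f (f x')
    rw [show f ⁻¹' {f x'} = {x'} from Set.ext fun t => ⟨fun h => (Scheme.Hom.injective f) h,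
      fun h => congrArg _ h⟩, finsum_mem_singleton, hrank, Nat.cast_pow] at h
    exact h.symm
  have hp : (p : ℤ) ^ s ≠ 0 := pow_ne_zero _ (Nat.cast_ne_zero.2 (Fact.out : p.Prime).ne_zero)
  have hδ0 : ∀ x', δ' x' = δ (f x') := fun x' => by
    obtain ⟨a, ha, ha'⟩ := hδ x'
    letI := (f.residueFieldMap x').hom.toAlgebra
    haveI : Module.Finite (X.residueField (f x')) (X'.residueField x') := by
      refine Module.finite_of_finrank_pos (Nat.pos_of_ne_zero fun h0 => hp ?_)
      rw [← hkey x', show f.residueDegree x' = 0 from h0, Nat.cast_zero, zero_mul]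
    have h0 : Algebra.trdeg (X.residueField (f x')) (X'.residueField x') = 0 := trdeg_eq_zero
    rw [h0] at ha
    have : a = 0 := by exact_mod_cast ha.symm
    omega
  have hpull : ∀ (c : X → ℤ) x', Cyc.pullFun f δ' δ 0 c x' = c (f x') *
      ((Module.length (X'.presheaf.stalk x') (X'.presheaf.stalk x' ⧸ CycLimLib.fibIdeal f x')).toNat : ℤ) :=
    fun c x' => by
      simp only [Cyc.pullFun, add_zero]
      rw [if_pos (hδ0 x')]
  have hmap : ∀ (c : AlgebraicCycle X' ℤ) x', AlgebraicCycle.map f δ' δ c (f x') = c x' * (f.residueDegree x' : ℤ) :=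
    fun c x' => by
      show ∑ᶠ t ∈ f ⁻¹' {f x'}, c t * ((AlgebraicCycle.mapCoeff f δ' δ t : ℕ) : ℤ) = _
      rw [show f ⁻¹' {f x'} = {x'} from Set.ext fun t => ⟨fun h => (Scheme.Hom.injective f) h,
        fun h => congrArg _ h⟩, finsum_mem_singleton]
      show c x' * ((if δ' x' = δ (f x') then f.residueDegree x' else 0 : ℕ) : ℤ) = _
      rw [if_pos (hδ0 x')]
  refine ⟨fun β hβ => ?_, fun α hα α' hα' hpullα h0 => ?_⟩
  · let α := AlgebraicCycle.map f δ' δ β
    have hα : α ∈ Cyc.Zk X δ i := CycPBLib.map_mem_Zk f hβ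
    have hval : ((p ^ s) • β : AlgebraicCycle X' ℤ) ∈ Cyc.Zk X' δ' i :=
      (ChowOps.zk X' δ' i).nsmul_mem hβ (p ^ s)
    refine ⟨α, hα, (p ^ s) • β, hval, s, funext fun x' => ?_, ?_⟩
    · rw [hpull, hmap]
      show (p ^ s) • β x' = _
      rw [nsmul_eq_mul, Nat.cast_pow, ← hkey x']
      ring
    · exact map_nsmul (ChowOps.clHom X' δ' i) (p ^ s) ⟨β, hβ⟩
  · refine ⟨s, ?_⟩
    have hz : (0 : AlgebraicCycle X' ℤ) ∈ Cyc.Zk X' δ' i := (ChowOps.zk X' δ' i).zero_mem
    have h1 := CycPushLib.ratEquiv_map hX' hX f hδ (CycBivLib.ratEquiv_of_cl_eq hX' hα' hz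
      (h0.trans (map_zero (ChowOps.clHom X' δ' i)).symm))
    have hm0 : AlgebraicCycle.map f δ' δ (0 : AlgebraicCycle X' ℤ) = 0 := DFunLike.ext _ _ fun x =>
      finsum_mem_eq_zero_of_forall_eq_zero fun t _ => zero_mul _
    have hm : AlgebraicCycle.map f δ' δ α' = (p ^ s) • α := DFunLike.ext _ _ fun x => by
      obtain ⟨x', rfl⟩ : ∃ x', f x' = x := by
        obtain ⟨hfin, -, h⟩ := CycPushLib.finrank_eq_sum f x
        by_contra hne
        rw [hrank, Nat.cast_pow, show f ⁻¹' {x} = ∅ from Set.eq_empty_of_forall_notMem fun t ht => hne ⟨t, ht⟩,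
          finsum_mem_empty] at h
        exact hp h
      rw [hmap, hpullα, hpull]
      show _ = (p ^ s) • α (f x')
      rw [nsmul_eq_mul, Nat.cast_pow, ← hkey x']
      ring
    have hz' : (0 : AlgebraicCycle X ℤ) ∈ Cyc.Zk X δ i := (ChowOps.zk X δ i).zero_mem
    have hval : ((p ^ s) • α : AlgebraicCycle X ℤ) ∈ Cyc.Zk X δ i := (ChowOps.zk X δ i).nsmul_mem hα (p ^ s)
    rw [hm, hm0] at h1
    exact (map_nsmul (ChowOps.clHom X δ i) (p ^ s) ⟨α, hα⟩).symm.trans
      ((CycBivLib.cl_eq_cl hval hz' h1).trans (map_zero (ChowOps.clHom X δ i)))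

end Groth.Agent.S15556
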