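import Groth.Statements.S15558
-- import your own Groth.Agent.* helpers here

set_option autoImplicit false
set_option backward.isDefEq.respectTransparency false
set_option backward.isDefEq.respectTransparency.types false
universe u v
open CategoryTheory AlgebraicGeometry
open Lim

namespace Groth.Agent.S15558


open Opposite Limits TopologicalSpace

noncomputable section

attribute [local instance] Classical.propDecidable

variable {Λ : Type v} [PartialOrder Λ] (X : Λᵒᵖ ⥤ Scheme.{u})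

/-- the transition maps -/
abbrev pr {m l : Λ} (h : m ≤ l) : X.obj (op l) ⟶ X.obj (op m) := X.map (homOfLE h).op

theorem pr_pr {n m l : Λ} (h : n ≤ m) (h' : m ≤ l) : pr X h' ≫ pr X h = pr X (h.trans h') := by
  rw [← X.map_comp]; rfl

theorem pr_refl (l : Λ) : pr X (le_refl l) = 𝟙 _ := X.map_id _

/-- a finite affine cover of an open, if it has one -/
def cov {Z : Scheme.{u}} (W : Z.Opens) : Set Z.Opens :=
  if h : ∃ s : Set Z.Opens, s.Finite ∧ (∀ U ∈ s, IsAffineOpen U) ∧ sSup s = W then h.choose else ∅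

theorem cov_finite {Z : Scheme.{u}} (W : Z.Opens) : (cov W).Finite := by
  unfold cov; split
  · next h => exact h.choose_spec.1
  · exact Set.finite_empty

theorem cov_affine {Z : Scheme.{u}} (W : Z.Opens) : ∀ U ∈ cov W, IsAffineOpen U := by
  unfold cov; split
  · next h => exact h.choose_spec.2.1
  · exact fun U hU => hU.elim

theorem cov_le {Z : Scheme.{u}} (W : Z.Opens) : ∀ U ∈ cov W, U ≤ W := by
  unfold cov; split
  · next h => exact fun U hU => (le_sSup hU).trans h.choose_spec.2.2.le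
  · exact fun U hU => hU.elim

theorem exists_mem_cov {Z : Scheme.{u}} (W : Z.Opens) (hW : IsCompact (W : Set Z)) {z : Z} (hz : z ∈ W) :
    ∃ U ∈ cov W, z ∈ U := by
  have h : ∃ s : Set Z.Opens, s.Finite ∧ (∀ U ∈ s, IsAffineOpen U) ∧ sSup s = W := by
    obtain ⟨s, hs, e⟩ := isCompact_iff_finite_and_eq_biUnion_affineOpens.1 hW
    refine ⟨(fun U : Z.affineOpens => (U : Z.Opens)) '' s, hs.image _, ?_, ?_⟩
    · rintro _ ⟨U, -, rfl⟩; exact U.2
    · rw [sSup_image]
      exact e.symm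
  simp only [cov, dif_pos h]
  rw [← h.choose_spec.2.2] at hz
  exact Opens.mem_sSup.1 hz

section

variable (hΛ : ∀ l : Λ, (Set.Iic l).Finite)
include hΛ

theorem wf : WellFounded ((· < ·) : Λ → Λ → Prop) := by
  refine Subrelation.wf (fun {m l} h => ?_) (InvImage.wf (fun l => (hΛ l).toFinset.card) wellFounded_lt)
  refine Finset.card_lt_card ((Finset.ssubset_iff_of_subset fun a ha => ?_).2 ⟨l, ?_, ?_⟩)
  · simp only [Set.Finite.mem_toFinset, Set.mem_Iic] at ha ⊢
    exact ha.trans h.le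
  · simp
  · simp only [Set.Finite.mem_toFinset, Set.mem_Iic]
    exact h.not_ge

theorem finite_lt (l : Λ) : Finite {m : Λ // m < l} :=
  ((hΛ l).subset (fun _ (h : _ < l) => h.le)).to_subtype

/-- the common preimage of a family of opens below -/
def below {l : Λ} (t : (m : {m : Λ // m < l}) → (X.obj (op m.1)).Opens) : (X.obj (op l)).Opens :=
  haveI := finite_lt hΛ l
  haveI := Fintype.ofFinite {m : Λ // m < l}
  (Finset.univ : Finset {m : Λ // m < l}).inf fun m => pr X m.2.le ⁻¹ᵁ t m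

theorem mem_below {l : Λ} (t : (m : {m : Λ // m < l}) → (X.obj (op m.1)).Opens) (x : X.obj (op l)) :
    x ∈ below X hΛ t ↔ ∀ m : {m : Λ // m < l}, pr X m.2.le x ∈ t m := by
  unfold below
  rw [← SetLike.mem_coe, Opens.coe_finset_inf]
  simp

/-- the admissible opens at each level -/
def B : ∀ l : Λ, Set (X.obj (op l)).Opens :=
  (wf hΛ).fix fun l Bl => ⋃ t ∈ Set.pi (Set.univ : Set {m : Λ // m < l}) (fun m => Bl m.1 m.2), cov (below X hΛ t)

theorem B_eq (l : Λ) : B X hΛ l =
    ⋃ t ∈ Set.pi (Set.univ : Set {m : Λ // m < l}) (fun m => B X hΛ m.1), cov (below X hΛ t) :=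
  (wf hΛ).fix_eq _ l

theorem B_facts (l : Λ) : (B X hΛ l).Finite ∧ ∀ U ∈ B X hΛ l, IsAffineOpen U := by
  induction l using (wf hΛ).induction with
  | h l ih =>
    rw [B_eq]
    haveI := finite_lt hΛ l
    refine ⟨(Set.Finite.pi fun m => (ih m.1 m.2).1).biUnion fun t _ => cov_finite _, fun U hU => ?_⟩
    obtain ⟨t, -, hU⟩ := Set.mem_iUnion₂.1 hU
    exact cov_affine _ U hU

/-- a point lies in an admissible open lying in any admissible family below -/
theorem exists_mem_B (hqc : ∀ l : Λ, CompactSpace ↥(X.obj (op l)))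
    (hqs : ∀ l : Λ, QuasiSeparatedSpace ↥(X.obj (op l))) {l : Λ}
    (t : (m : {m : Λ // m < l}) → (X.obj (op m.1)).Opens) (ht : ∀ m, t m ∈ B X hΛ m.1) {x : X.obj (op l)}
    (hx : ∀ m, pr X m.2.le x ∈ t m) :
    ∃ U ∈ B X hΛ l, x ∈ U ∧ ∀ m : {m : Λ // m < l}, U ≤ pr X m.2.le ⁻¹ᵁ t m := by
  have := hqc l
  have := hqs l
  have hc : IsCompact (below X hΛ t : Set (X.obj (op l))) := by
    unfold below
    refine Finset.inf_induction (p := fun W : (X.obj (op l)).Opens => IsCompact (W : Set (X.obj (op l))))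
      (by simpa using isCompact_univ) (fun a ha b hb => ?_) fun m _ => ?_
    · exact QuasiSeparatedSpace.inter_isCompact _ _ a.2 ha b.2 hb
    · have := hqs m.1
      have := quasiCompact_of_compactSpace (pr X m.2.le)
      exact QuasiCompact.isCompact_preimage _ (t m).2 ((B_facts X hΛ m.1).2 _ (ht m)).isCompact
  obtain ⟨U, hU, hxU⟩ := exists_mem_cov _ hc ((mem_below X hΛ t x).2 hx)
  refine ⟨U, ?_, hxU, fun m y hy => (mem_below X hΛ t y).1 (cov_le _ U hU hy) m⟩
  rw [B_eq]
  exact Set.mem_iUnion₂.2 ⟨t, fun m _ => ht m, hU⟩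

/-- compatible families of admissible opens below `l` -/
def Fam (l : Λ) : Type (max u v) :=
  {s : (m : {m : Λ // m ≤ l}) → (X.obj (op m.1)).Opens //
    (∀ m, s m ∈ B X hΛ m.1) ∧ ∀ (m m' : {m : Λ // m ≤ l}) (h : m'.1 ≤ m.1), s m ≤ pr X h ⁻¹ᵁ s m'}

instance finite_fam (l : Λ) : Finite (Fam X hΛ l) := by
  haveI : Finite {m : Λ // m ≤ l} := (hΛ l).to_subtype
  haveI : ∀ m : {m : Λ // m ≤ l}, Finite (B X hΛ m.1) := fun m => (B_facts X hΛ m.1).1.to_subtype
  refine Finite.of_injective (fun s : Fam X hΛ l => fun m => (⟨s.1 m, s.2.1 m⟩ : B X hΛ m.1)) fun s s' h => ?_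
  exact Subtype.ext (funext fun m => congrArg Subtype.val (congrFun h m))

variable {X hΛ}

/-- restriction of families -/
def Fam.res {m l : Λ} (h : m ≤ l) (s : Fam X hΛ l) : Fam X hΛ m :=
  ⟨fun n => s.1 ⟨n.1, n.2.trans h⟩, fun n => s.2.1 _, fun n n' hn => s.2.2 _ _ hn⟩

/-- the open at the top -/
def Fam.top {l : Λ} (s : Fam X hΛ l) : (X.obj (op l)).Opens := s.1 ⟨l, le_rfl⟩

theorem Fam.top_le {m l : Λ} (h : m ≤ l) (s : Fam X hΛ l) : s.top ≤ pr X h ⁻¹ᵁ (s.res h).top :=
  s.2.2 ⟨l, le_rfl⟩ ⟨m, le_rfl.trans h⟩ h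

variable (X hΛ)

/-- the schemes of the affine system -/
def Yo (l : Λ) : Scheme.{u} := ∐ fun s : Fam X hΛ l => (s.top).toScheme

/-- the components -/
def inc {l : Λ} (s : Fam X hΛ l) : s.top.toScheme ⟶ Yo X hΛ l :=
  Sigma.ι (fun s : Fam X hΛ l => (s.top).toScheme) s

theorem comp_inc_congr {l : Λ} {s t : Fam X hΛ l} (e : s = t) {Z : Scheme.{u}} (a : Z ⟶ s.top.toScheme)
    (b : Z ⟶ t.top.toScheme) (h : a ≫ s.top.ι = b ≫ t.top.ι) : a ≫ inc X hΛ s = b ≫ inc X hΛ t := by
  subst e; rw [(cancel_mono s.top.ι).1 h]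

theorem hom_ext' {l : Λ} {Z : Scheme.{u}} {a b : Yo X hΛ l ⟶ Z} (h : ∀ s, inc X hΛ s ≫ a = inc X hΛ s ≫ b) : a = b :=
  Sigma.hom_ext _ _ h

/-- the transition maps of the affine system -/
def trans {m l : Λ} (h : m ≤ l) : Yo X hΛ l ⟶ Yo X hΛ m :=
  Sigma.desc fun s => (pr X h).resLE _ _ (s.top_le h) ≫ inc X hΛ (s.res h)

theorem inc_trans {m l : Λ} (h : m ≤ l) (s : Fam X hΛ l) :
    inc X hΛ s ≫ trans X hΛ h = (pr X h).resLE _ _ (s.top_le h) ≫ inc X hΛ (s.res h) :=
  Sigma.ι_desc _ _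

theorem trans_refl (l : Λ) : trans X hΛ (le_refl l) = 𝟙 _ := by
  refine hom_ext' X hΛ fun s => ?_
  rw [inc_trans, Category.comp_id, ← Category.id_comp (inc X hΛ s)]
  refine comp_inc_congr X hΛ (show s.res le_rfl = s from rfl) _ _ ?_
  rw [Scheme.Hom.resLE_comp_ι, pr_refl, Category.comp_id, Category.id_comp]

theorem trans_trans {n m l : Λ} (h : n ≤ m) (h' : m ≤ l) :
    trans X hΛ (h.trans h') = trans X hΛ h' ≫ trans X hΛ h := by
  refine hom_ext' X hΛ fun s => ?_
  rw [inc_trans, ← Category.assoc, inc_trans, Category.assoc, inc_trans, ← Category.assoc]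
  refine comp_inc_congr X hΛ (show s.res (h.trans h') = (s.res h').res h from rfl) _ _ ?_
  rw [Category.assoc, Scheme.Hom.resLE_comp_ι, Scheme.Hom.resLE_comp_ι, Scheme.Hom.resLE_comp_ι_assoc, pr_pr]

/-- the affine system -/
def Y : Λᵒᵖ ⥤ Scheme.{u} where
  obj l := Yo X hΛ l.unop
  map f := trans X hΛ f.unop.le
  map_id l := trans_refl X hΛ l.unop
  map_comp f g := trans_trans X hΛ g.unop.le f.unop.le

/-- the covering map at a level -/
def dsc (l : Λ) : Yo X hΛ l ⟶ X.obj (op l) := Sigma.desc (fun s : Fam X hΛ l => s.top.ι)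

theorem desc_inc {l : Λ} (s : Fam X hΛ l) : inc X hΛ s ≫ dsc X hΛ l = s.top.ι := Sigma.ι_desc _ _

/-- the covering map -/
def covering : Y X hΛ ⟶ X where
  app l := dsc X hΛ l.unop
  naturality l m f := by
    refine hom_ext' X hΛ fun s => ?_
    show inc X hΛ s ≫ trans X hΛ f.unop.le ≫ dsc X hΛ m.unop =
      inc X hΛ s ≫ dsc X hΛ l.unop ≫ X.map f
    rw [← Category.assoc, inc_trans, Category.assoc, desc_inc, Scheme.Hom.resLE_comp_ι, ← Category.assoc, desc_inc]
    rfl

end

end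

/-- Let Λ be a cofinite partially ordered set (every element has finitely many elements below it; Λ need
not be directed) and X : Λᵒᵖ ⥤ Scheme an inverse system of quasi-compact quasi-separated schemes.
Then there exist an inverse system Y : Λᵒᵖ ⥤ Scheme of affine schemes and a morphism of inverse
systems π : Y ⟶ X such that each π_λ : Y_λ → X_λ is a Zariski covering: it is surjective and Y_λ is
covered by pairwise disjoint open subschemes each of which maps to X_λ by an open immersion. (The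
published statement is for schemes over a fixed perfect field; the base field plays no role, and the
version for schemes over a base follows by composing with the structure morphisms.) -/
theorem result {Λ : Type v} [PartialOrder Λ]
    (hΛ : ∀ l : Λ, (Set.Iic l).Finite) (X : Λᵒᵖ ⥤ Scheme.{u})
    (hqc : ∀ l : Λ, CompactSpace ↥(X.obj (Opposite.op l)))
    (hqs : ∀ l : Λ, QuasiSeparatedSpace ↥(X.obj (Opposite.op l))) :
    ∃ (Y : Λᵒᵖ ⥤ Scheme.{u}) (π : Y ⟶ X), ∀ l : Λ,
      IsAffine (Y.obj (Opposite.op l)) ∧ Surjective (π.app (Opposite.op l)) ∧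
        ∃ (ι : Type u) (U : ι → (Y.obj (Opposite.op l)).Opens),
          Pairwise (fun i j => Disjoint (U i) (U j)) ∧ iSup U = ⊤ ∧
            ∀ i, IsOpenImmersion ((U i).ι ≫ π.app (Opposite.op l)) := by
  classical
  refine ⟨Y X hΛ, covering X hΛ, fun l => ?_⟩
  haveI : ∀ s : Fam X hΛ l, IsAffine (s.top).toScheme := fun s => (B_facts X hΛ l).2 _ (s.2.1 _)
  haveI : IsAffine ((Y X hΛ).obj (Opposite.op l)) :=
    inferInstanceAs (IsAffine (∐ fun s : Fam X hΛ l => (s.top).toScheme))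
  refine ⟨inferInstance, ⟨fun x => ?_⟩, ?_⟩
  · -- choose a compatible family through the images of `x`
    have step : ∀ (n : Λ) (ih : ∀ m, m < n → (h : m ≤ l) →
        {U : (X.obj (Opposite.op m)).Opens // U ∈ B X hΛ m ∧ pr X h x ∈ U}) (h : n ≤ l),
        ∃ U ∈ B X hΛ n, pr X h x ∈ U ∧
          ∀ m : {m : Λ // m < n}, U ≤ pr X m.2.le ⁻¹ᵁ (ih m.1 m.2 (m.2.le.trans h)).1 := by
      intro n ih h
      refine exists_mem_B X hΛ hqc hqs (fun m => (ih m.1 m.2 (m.2.le.trans h)).1)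
        (fun m => (ih m.1 m.2 _).2.1) fun m => ?_
      rw [← Scheme.Hom.comp_apply, pr_pr]
      exact (ih m.1 m.2 _).2.2
    let F : ∀ (n : Λ) (h : n ≤ l), {U : (X.obj (Opposite.op n)).Opens // U ∈ B X hΛ n ∧ pr X h x ∈ U} :=
      (wf hΛ).fix fun n ih h => ⟨(step n ih h).choose, (step n ih h).choose_spec.1, (step n ih h).choose_spec.2.1⟩
    have hF : ∀ (n m : Λ) (hn : n ≤ l) (hmn : m < n), (F n hn).1 ≤ pr X hmn.le ⁻¹ᵁ (F m (hmn.le.trans hn)).1 := by
      intro n m hn hmn
      simp only [F]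
      rw [WellFounded.fix_eq]
      exact (step n (fun m _ => F m) hn).choose_spec.2.2 ⟨m, hmn⟩
    let s : Fam X hΛ l := ⟨fun m => (F m.1 m.2).1, fun m => (F m.1 m.2).2.1, fun m m' h => by
      rcases h.eq_or_lt with e | hlt
      · obtain rfl : m' = m := Subtype.ext e
        rw [pr_refl]
        exact fun y hy => hy
      · exact hF m.1 m'.1 m.2 hlt⟩
    have hx : x ∈ s.top := by
      have h : pr X le_rfl x ∈ s.top := (F l le_rfl).2.2
      rwa [pr_refl] at h
    refine ⟨Limits.Sigma.ι (fun s : Fam X hΛ l => (s.top).toScheme) s ⟨x, hx⟩, ?_⟩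
    show ((Limits.Sigma.ι (fun s : Fam X hΛ l => (s.top).toScheme) s) ≫
      Limits.Sigma.desc fun s : Fam X hΛ l => s.top.ι) ⟨x, hx⟩ = x
    rw [Limits.Sigma.ι_desc]
    rfl
  · let e := Finite.equivFin (Fam X hΛ l)
    refine ⟨ULift.{u} (Fin (Nat.card (Fam X hΛ l))),
      fun i => (Limits.Sigma.ι (fun s : Fam X hΛ l => (s.top).toScheme) (e.symm i.down)).opensRange, fun i j hij => ?_, ?_, fun i => ?_⟩
    · exact disjoint_opensRange_sigmaι _ _ _ fun h => hij (ULift.ext _ _ (e.symm.injective h))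
    · refine eq_top_iff.2 fun y _ => TopologicalSpace.Opens.mem_iSup.2 ?_
      obtain ⟨s, z, hz⟩ := (sigmaOpenCover fun s : Fam X hΛ l => (s.top).toScheme).exists_eq y
      refine ⟨⟨e s⟩, ?_⟩
      show y ∈ (Limits.Sigma.ι (fun s : Fam X hΛ l => (s.top).toScheme) (e.symm (e s))).opensRange
      rw [e.symm_apply_apply]
      exact ⟨z, hz⟩
    · show IsOpenImmersion ((Limits.Sigma.ι (fun s : Fam X hΛ l => (s.top).toScheme) (e.symm i.down)).opensRange.ι ≫
        Limits.Sigma.desc fun s : Fam X hΛ l => s.top.ι)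
      rw [← (Limits.Sigma.ι (fun s : Fam X hΛ l => (s.top).toScheme) (e.symm i.down)).isoOpensRange_inv_comp,
        Category.assoc]
      show IsOpenImmersion (_ ≫ (Limits.Sigma.ι _ _ ≫ Limits.Sigma.desc fun s : Fam X hΛ l => s.top.ι))
      rw [Limits.Sigma.ι_desc]
      infer_instance

end Groth.Agent.S15558
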