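import Groth.Statements.S15559
import Groth.Agent.PerfTowerLib.Main
-- import your own Groth.Agent.* helpers here

set_option autoImplicit false
set_option maxHeartbeats 2000000
set_option backward.isDefEq.respectTransparency false
universe u
open CategoryTheory AlgebraicGeometry
open FrobSch

namespace Groth.Agent.S15559

/-- Call a morphism V → U of quasi-compact quasi-separated perfect schemes of characteristic p flat of
finite presentation in the perfect sense when it factors as V → V₀ → U with V → V₀ a perfection map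
(V perfect and universal for morphisms from perfect schemes of characteristic p into V₀) and V₀ → U
flat, locally of finite presentation, quasi-compact and quasi-separated; faithfully flat of finite
presentation when moreover V₀ → U is surjective. If Z → Y and Y → X are flat of finite presentation
in the perfect sense, so is the composite Z → X, and it is faithfully flat of finite presentation
when both are. Here the data are given as Y₀ → X with perfection map Y → Y₀ and Z₀ → Y with
perfection map Z → Z₀, and the conclusion produces W₀ → X with a perfection map Z → W₀ over X. (The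
published proposition is stated for pro-objects of perfections of schemes of finite type over a
perfect field and also for morphisms flat of profinite presentation; this row is its case of
schemes, which its proof treats first, with the base field replaced by characteristic p.) -/
theorem result (p : ℕ) [Fact p.Prime]
    {X Y Z Y₀ Z₀ : Scheme.{u}} [FrobSch.IsCharP X p] [FrobSch.IsCharP Y p] [FrobSch.IsCharP Z p]
    [FrobSch.IsCharP Y₀ p] [FrobSch.IsCharP Z₀ p]
    [CompactSpace ↥X] [QuasiSeparatedSpace ↥X] [CompactSpace ↥Y] [QuasiSeparatedSpace ↥Y]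
    [CompactSpace ↥Z] [QuasiSeparatedSpace ↥Z] (hX : FrobSch.IsPerfect X p)
    (g₀ : Y₀ ⟶ X) [Flat g₀] [LocallyOfFinitePresentation g₀] [QuasiCompact g₀] [QuasiSeparated g₀]
    (πY : Y ⟶ Y₀) (hY : FrobSch.IsPerfection πY p)
    (f₀ : Z₀ ⟶ Y) [Flat f₀] [LocallyOfFinitePresentation f₀] [QuasiCompact f₀] [QuasiSeparated f₀]
    (πZ : Z ⟶ Z₀) (hZ : FrobSch.IsPerfection πZ p) :
    ∃ (W₀ : Scheme.{u}) (h₀ : W₀ ⟶ X) (ϖ : Z ⟶ W₀),
      Flat h₀ ∧ LocallyOfFinitePresentation h₀ ∧ QuasiCompact h₀ ∧ QuasiSeparated h₀ ∧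
        FrobSch.IsPerfection ϖ p ∧ ϖ ≫ h₀ = πZ ≫ f₀ ≫ πY ≫ g₀ ∧
          (Surjective g₀ → Surjective f₀ → Surjective h₀) := by
  haveI : CompactSpace ↥Y₀ := QuasiCompact.compactSpace_of_compactSpace g₀
  haveI : QuasiSeparatedSpace ↥Y₀ := quasiSeparatedSpace_of_quasiSeparated g₀
  obtain ⟨c, hc, hpow, hperfc⟩ := Groth.Agent.PerfTowerLib.exists_tower_perfection p Y₀
  haveI : FrobSch.IsCharP c.pt p := FrobSch.IsCharP.of_hom (Groth.Agent.PerfTowerLib.proj p Y₀ c 0) p
  have hL : FrobSch.IsPerfection (Groth.Agent.PerfTowerLib.proj p Y₀ c 0) p := hperfc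
  obtain ⟨eh, heh⟩ := (hL.2 Y hY.1).2 πY
  obtain ⟨ei, hei⟩ := (hY.2 c.pt hL.1).2 (Groth.Agent.PerfTowerLib.proj p Y₀ c 0)
  simp only at heh hei
  let e : Y ≅ c.pt :=
    { hom := eh
      inv := ei
      hom_inv_id := (hY.2 Y hY.1).1 (by simp only [Category.assoc, hei, heh, Category.id_comp])
      inv_hom_id := (hL.2 c.pt hL.1).1 (by simp only [Category.assoc, hei, heh, Category.id_comp]) }
  haveI : ∀ i, CompactSpace ↥((Groth.Agent.PerfTowerLib.tower p Y₀).obj i) := fun _ => inferInstanceAs (CompactSpace ↥Y₀)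
  haveI : ∀ i, QuasiSeparatedSpace ↥((Groth.Agent.PerfTowerLib.tower p Y₀).obj i) := fun _ => inferInstanceAs (QuasiSeparatedSpace ↥Y₀)
  haveI : IsIso e.hom := Iso.isIso_hom e
  haveI : LocallyOfFinitePresentation e.hom := locallyOfFinitePresentation_of_isOpenImmersion _
  haveI : LocallyOfFinitePresentation (f₀ ≫ e.hom) := MorphismProperty.comp_mem _ _ _ ‹LocallyOfFinitePresentation f₀› ‹LocallyOfFinitePresentation e.hom›
  haveI : QuasiCompact (f₀ ≫ e.hom) := inferInstance
  haveI : QuasiSeparated (f₀ ≫ e.hom) := inferInstance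
  obtain ⟨i, Zi, fi, g, hfi, hfiqc, hfiqs, hg⟩ :=
    Groth.Agent.S0591.result (Groth.Agent.PerfTowerLib.tower p Y₀) c hc Z₀ (f₀ ≫ e.hom)
  haveI : CompactSpace ↥Zi := QuasiCompact.compactSpace_of_compactSpace fi
  haveI : QuasiSeparatedSpace ↥Zi := quasiSeparatedSpace_of_quasiSeparated fi
  obtain ⟨j, φ, Xj, Yj, fj, gj, pY, pX, hYj, hXj, hfl⟩ :=
    Groth.Agent.S2075.result (Groth.Agent.PerfTowerLib.tower p Y₀) c hc i fi (𝟙 _) (f₀ ≫ e.hom) (𝟙 c.pt)
      (c.π.app i) g (IsPullback.of_vert_isIso ⟨by simp⟩) hg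
  haveI : IsIso gj := hYj.isIso_snd_of_isIso
  have hpY : pY = gj ≫ (Groth.Agent.PerfTowerLib.tower p Y₀).map φ := by simpa using hYj.w
  have hcomb : IsPullback pX (fj ≫ gj) fi ((Groth.Agent.PerfTowerLib.tower p Y₀).map φ) := by
    have h2 : IsPullback pY gj (𝟙 _) ((Groth.Agent.PerfTowerLib.tower p Y₀).map φ) := hYj
    simpa using hXj.paste_vert h2
  have hw : g ≫ fi = ((f₀ ≫ e.hom) ≫ c.π.app j) ≫ (Groth.Agent.PerfTowerLib.tower p Y₀).map φ := by
    rw [hg.w, Category.assoc (f₀ ≫ e.hom), c.w φ]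
  let q : Z₀ ⟶ Xj := hcomb.lift g ((f₀ ≫ e.hom) ≫ c.π.app j) hw
  have hsq : IsPullback q (f₀ ≫ e.hom) (fj ≫ gj) (c.π.app j) := by
    refine IsPullback.of_right ?_ (hcomb.lift_snd _ _ _) hcomb
    rw [show q ≫ pX = g from hcomb.lift_fst _ _ _,
      show c.π.app j ≫ (Groth.Agent.PerfTowerLib.tower p Y₀).map φ = c.π.app i from c.w φ]
    exact hg
  let n : ℕ := j.unop.down
  have hex : ∃ u : Xj ⟶ Y₀, LocallyOfFinitePresentation u ∧ QuasiCompact u ∧ QuasiSeparated u ∧ Flat u ∧
      IsPullback q (f₀ ≫ e.hom) u (Groth.Agent.PerfTowerLib.proj p Y₀ c n) :=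
    ⟨fj ≫ gj, MorphismProperty.of_isPullback (P := @LocallyOfFinitePresentation) hcomb hfi,
      MorphismProperty.of_isPullback (P := @QuasiCompact) hcomb hfiqc,
      MorphismProperty.of_isPullback (P := @QuasiSeparated) hcomb hfiqs,
      by have := hfl; infer_instance, hsq⟩
  obtain ⟨u, hu1, hu2, hu3, hu4, hsq'⟩ := hex
  haveI : IsIso (Groth.Agent.PerfTowerLib.fpow p X n) := Groth.Agent.PerfTowerLib.isIso_fpow p X hX n
  have heq : (πZ ≫ q) ≫ u ≫ g₀ ≫ Groth.Agent.PerfTowerLib.fpow p X n = πZ ≫ f₀ ≫ πY ≫ g₀ := by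
    rw [Category.assoc, ← Category.assoc q u, hsq'.w, Category.assoc (f₀ ≫ e.hom),
      ← Groth.Agent.PerfTowerLib.fpow_comp p Y₀ g₀, ← Category.assoc (Groth.Agent.PerfTowerLib.proj p Y₀ c n),
      hpow, Category.assoc f₀, ← Category.assoc e.hom, show e.hom ≫ _ = πY from heh]
  haveI : FrobSch.IsCharP Xj p := FrobSch.IsCharP.of_hom u p
  have hbij : ∀ (T : Scheme.{u}) [FrobSch.IsCharP T p], FrobSch.IsPerfect T p →
      Function.Bijective fun l : T ⟶ Z₀ => l ≫ q := by
    intro T _ hT
    have hiso := Groth.Agent.PerfTowerLib.isIso_fpow p T hT n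
    constructor
    · intro l₁ l₂ h
      refine hsq'.hom_ext h ((hL.2 T hT).1 ?_)
      simp only
      have h' : (l₁ ≫ q) ≫ u ≫ Groth.Agent.PerfTowerLib.fpow p Y₀ n =
          (l₂ ≫ q) ≫ u ≫ Groth.Agent.PerfTowerLib.fpow p Y₀ n := congrArg (· ≫ _) h
      have hw' : q ≫ u ≫ Groth.Agent.PerfTowerLib.fpow p Y₀ n =
          (f₀ ≫ e.hom) ≫ Groth.Agent.PerfTowerLib.proj p Y₀ c 0 := by
        rw [← Category.assoc, hsq'.w, Category.assoc, hpow]
      rw [Category.assoc, Category.assoc, hw'] at h'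
      simpa only [Category.assoc] using h'
    · intro a
      obtain ⟨l, hl⟩ := (hL.2 T hT).2 ((a ≫ u) ≫ Groth.Agent.PerfTowerLib.fpow p Y₀ n)
      simp only at hl
      have hl' : a ≫ u = l ≫ Groth.Agent.PerfTowerLib.proj p Y₀ c n := by
        rw [← cancel_epi (Groth.Agent.PerfTowerLib.fpow p T n)]
        refine ((Groth.Agent.PerfTowerLib.fpow_comp p T _ _).trans ?_).trans
          (Groth.Agent.PerfTowerLib.fpow_comp p T _ _).symm
        rw [Category.assoc l, hpow, hl]
      exact ⟨hsq'.lift a l hl', hsq'.lift_fst _ _ _⟩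
  refine ⟨Xj, u ≫ g₀ ≫ Groth.Agent.PerfTowerLib.fpow p X n, πZ ≫ q, inferInstance, inferInstance,
    inferInstance, inferInstance, ⟨hZ.1, fun T _ hT => ?_⟩, heq, fun hg₀ hf₀ => ?_⟩
  · have := (hbij T hT).comp (hZ.2 T hT)
    simpa [Function.comp_def, Category.assoc] using this
  · haveI := hg₀
    haveI := hf₀
    haveI hs0 : Surjective (Groth.Agent.PerfTowerLib.proj p Y₀ c 0) :=
      (Groth.Agent.PerfectionLib.facts (Groth.Agent.PerfectionLib.univHomeo_of_isPerfection p Y₀ hL)).2
    haveI : Surjective (Groth.Agent.PerfTowerLib.proj p Y₀ c n) := by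
      have hid : ∀ m : ℕ, (Groth.Agent.PerfTowerLib.fpow p Y₀ m).base = 𝟙 _ := by
        intro m
        induction m with
        | zero => rfl
        | succ m ih =>
            rw [Groth.Agent.PerfTowerLib.fpow_succ, Scheme.Hom.comp_base, ih, FrobSch.frob_base, Category.comp_id]
      refine ⟨fun y => ?_⟩
      obtain ⟨x, hx⟩ := hs0.surj y
      refine ⟨x, ?_⟩
      rw [← hpow n, Scheme.Hom.comp_apply] at hx
      have h3 := congrArg (fun f => f (Groth.Agent.PerfTowerLib.proj p Y₀ c n x)) (hid n)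
      exact h3.symm.trans hx
    haveI : Surjective (q ≫ u) := by
      rw [hsq'.w]
      infer_instance
    haveI : Surjective u := Surjective.of_comp q u
    infer_instance

end Groth.Agent.S15559
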