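import Groth.Statements.S15560
import Mathlib.LinearAlgebra.Dimension.RankNullity
import Mathlib.LinearAlgebra.Pi
import Mathlib.LinearAlgebra.FiniteDimensional.Lemmas

set_option autoImplicit false
universe u v w
open KronMod

namespace Groth.Agent.S15560

/-- Let f be a Kronecker module with n arrows over a field K, from a space V of dimension d₋₁ > 0 to a
space W of dimension d₀ > 0. If n·d₋₁ < d₀ or n·d₀ < d₋₁, then f is not semistable; that is, there
are no semistable Kronecker modules of dimension vector (d₋₁, d₀). (The published statement assumes
K algebraically closed of characteristic zero and n ≥ 2; this row allows any field K and any number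
n of arrows.) -/
theorem result (K : Type u) [Field K] (V : Type v) (W : Type w)
    [AddCommGroup V] [Module K V] [FiniteDimensional K V]
    [AddCommGroup W] [Module K W] [FiniteDimensional K W]
    (n : ℕ) (f : Fin n → (V →ₗ[K] W))
    (hV : 0 < Module.finrank K V) (hW : 0 < Module.finrank K W)
    (h : n * Module.finrank K V < Module.finrank K W ∨ n * Module.finrank K W < Module.finrank K V) :
    ¬ KronMod.IsSemistable f := by
  rintro ⟨-, hss⟩
  let F : V →ₗ[K] (Fin n → W) := LinearMap.pi f
  let G : (Fin n → V) →ₗ[K] W := ∑ i, (f i).comp (LinearMap.proj i)
  rcases h with h | h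
  · have hG : ∀ i, (⊤ : Submodule K V).map (f i) ≤ LinearMap.range G := fun i => by
      rintro _ ⟨v, -, rfl⟩
      refine ⟨Pi.single i v, ?_⟩
      simp only [G, LinearMap.sum_apply, LinearMap.comp_apply, LinearMap.proj_apply]
      rw [Fintype.sum_eq_single i (fun j hj => by rw [Pi.single_eq_of_ne hj, map_zero]), Pi.single_eq_same]
    have hlt : Module.finrank K (LinearMap.range G) < Module.finrank K W := by
      refine lt_of_le_of_lt (LinearMap.finrank_range_le G) ?_
      simpa [Module.finrank_pi_fintype] using h
    have hV' : (⊤ : Submodule K V) ≠ ⊥ := fun e => by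
      have := congrArg (fun U : Submodule K V => Module.finrank K U) e
      simp at this
      omega
    have := hss ⊤ (LinearMap.range G) hG (fun e => hV' e.1) (fun e => by
      rw [e.2, finrank_top] at hlt
      exact lt_irrefl _ hlt)
    rw [finrank_top, mul_comm] at this
    exact absurd (Nat.le_of_mul_le_mul_left this hV) (not_le.mpr hlt)
  · have hker : ∀ i, (LinearMap.ker F).map (f i) ≤ (⊥ : Submodule K W) := fun i => by
      rintro _ ⟨v, hv, rfl⟩
      exact (Submodule.mem_bot K).mpr (congrFun (show F v = 0 from hv) i)
    have hr := F.finrank_range_add_finrank_ker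
    have hle : Module.finrank K (LinearMap.range F) ≤ n * Module.finrank K W := by
      refine (Submodule.finrank_le _).trans ?_
      simp [Module.finrank_pi_fintype]
    have hk : 0 < Module.finrank K (LinearMap.ker F) := by omega
    have := hss (LinearMap.ker F) ⊥ hker (fun e => by rw [e.1, finrank_bot] at hk; exact lt_irrefl _ hk)
      (fun e => by
        have := congrArg (fun U : Submodule K W => Module.finrank K U) e.2
        simp at this
        omega)
    rw [finrank_bot, mul_zero] at this
    exact absurd this (not_le.mpr (Nat.mul_pos hW hk))

end Groth.Agent.S15560
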