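import Groth.Statements.S15564
import Mathlib.LinearAlgebra.FiniteDimensional.Lemmas

set_option autoImplicit false
universe u v w
open KronMod

namespace Groth.Agent.S15564

/-- For a Kronecker module f with n arrows over a field K between one-dimensional spaces V and W,
semistability, stability and f ≠ 0 are equivalent: the semistable locus and the stable locus of
dimension vector (1, 1) are both the complement of the zero module. (The published statement assumes
K algebraically closed of characteristic zero and n ≥ 2; this row allows any field K and any n.) -/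
theorem result (K : Type u) [Field K] (V : Type v) (W : Type w)
    [AddCommGroup V] [Module K V] [FiniteDimensional K V]
    [AddCommGroup W] [Module K W] [FiniteDimensional K W]
    (n : ℕ) (f : Fin n → (V →ₗ[K] W))
    (hV : Module.finrank K V = 1) (hW : Module.finrank K W = 1) :
    (KronMod.IsSemistable f ↔ f ≠ 0) ∧ (KronMod.IsStable f ↔ f ≠ 0) := by
  classical
  have hbot : ∀ (U : Submodule K V), U = ⊥ ∨ U = ⊤ := fun U => by
    have := U.finrank_le
    rcases Nat.eq_zero_or_pos (Module.finrank K U) with h | h
    · exact Or.inl (Submodule.finrank_eq_zero.mp h)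
    · exact Or.inr (Submodule.eq_top_of_finrank_eq (by omega))
  have key : f ≠ 0 → KronMod.IsStable f := fun hf => by
    refine ⟨by omega, fun V' W' hsub h0 h1 => ?_⟩
    rw [hV, hW, one_mul, one_mul]
    rcases hbot V' with rfl | rfl
    · rw [finrank_bot]
      refine Nat.pos_of_ne_zero fun h => h0 ⟨rfl, Submodule.finrank_eq_zero.mp h⟩
    · exfalso
      refine h1 ⟨rfl, Submodule.eq_top_of_finrank_eq ?_⟩
      have := W'.finrank_le
      rcases Nat.eq_zero_or_pos (Module.finrank K W') with h | h
      · rw [Submodule.finrank_eq_zero.mp h] at hsub
        exact absurd (funext fun j => LinearMap.ext fun v =>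
          (Submodule.mem_bot K).mp (hsub j ⟨v, trivial, rfl⟩)) hf
      · omega
  have conv : KronMod.IsSemistable f → f ≠ 0 := fun hs hf => by
    have hne : (⊤ : Submodule K V) ≠ ⊥ := fun e => by
      have := congrArg (fun U : Submodule K V => Module.finrank K U) e
      simp [hV] at this
    have hne' : (⊥ : Submodule K W) ≠ ⊤ := fun e => by
      have := congrArg (fun U : Submodule K W => Module.finrank K U) e
      simp [hW] at this
    have := hs.2 ⊤ ⊥ (fun j => by rw [hf]; simp) (fun e => hne e.1) (fun e => hne' e.2)
    simp [hV, hW] at this
  have mono : KronMod.IsStable f → KronMod.IsSemistable f := fun h =>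
    ⟨h.1, fun V' W' a b c => (h.2 V' W' a b c).le⟩
  exact ⟨⟨conv, fun h => mono (key h)⟩, ⟨fun h => conv (mono h), key⟩⟩

end Groth.Agent.S15564
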