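import Groth.Statements.S15575
import Groth.Agent.AzInvLib.Branch

set_option autoImplicit false
universe u v
open scoped TensorProduct
open RInv

namespace Groth.Agent.S15575

/-- Let `R` be a commutative ring with an involution `lam` and fixed ring `S` (no finiteness assumed).
If the localisation of `R` at a prime `p` of `S` is quadratic etale over `S_p`, then there is `s ∉
p` with `R[1/s]` quadratic etale over `S[1/s]`; in particular the set of such primes is open in
`Spec S`. Localisations of `R` are written as base changes `S_p ⊗ R` and `S_s ⊗ R`. -/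
theorem result (S : Type u) (R : Type v) [CommRing S] [CommRing R]
    [Algebra S R] (lam : R ≃+* R) (hlam : Function.Involutive lam) (hS : RInv.IsFixedRing S R lam)
    (p : PrimeSpectrum S)
    (hp : RInv.IsQuadEtale (Localization.AtPrime p.asIdeal) (Localization.AtPrime p.asIdeal ⊗[S] R)) :
    ∃ s : S, s ∉ p.asIdeal ∧
      RInv.IsQuadEtale (Localization.Away s) (Localization.Away s ⊗[S] R) := by
  let L := AzInvLib.algEquivOfFixed lam hS
  have hL : RInv.IsFixedRing S R L.toRingEquiv := hS
  have : ¬ ∀ (r : R) (n : S), algebraMap S R n = (r - L r) * (r - L r) → n ∈ p.asIdeal :=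
    fun h => (AzInvLib.not_isQuadEtale_iff (lam := L) p.asIdeal hlam hL).2 h hp
  push Not at this
  obtain ⟨r, n, hn, hnp⟩ := this
  refine ⟨n, hnp, AzInvLib.isQuadEtale_of_unit (AzInvLib.bcLam_invol _ hlam)
    (AzInvLib.isFixedRing_bc (lam := L) (Localization.Away n) hlam hL
      (Or.inl (IsLocalization.flat _ (Submonoid.powers n)))) (r := 1 ⊗ₜ[S] r) ?_⟩
  show IsUnit ((1 : Localization.Away n) ⊗ₜ[S] r - AzInvLib.bcLam L _ ((1 : Localization.Away n) ⊗ₜ[S] r))
  refine isUnit_of_mul_isUnit_left (y := (1 : Localization.Away n) ⊗ₜ[S] r - AzInvLib.bcLam L _ ((1 : Localization.Away n) ⊗ₜ[S] r)) ?_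
  rw [AzInvLib.bcLam_tmul, ← TensorProduct.tmul_sub, Algebra.TensorProduct.tmul_mul_tmul, one_mul, ← hn]
  have : (1 : Localization.Away n) ⊗ₜ[S] algebraMap S R n =
      algebraMap (Localization.Away n) (Localization.Away n ⊗[S] R) (algebraMap S _ n) := by
    rw [← IsScalarTower.algebraMap_apply, Algebra.TensorProduct.algebraMap_apply,
      Algebra.algebraMap_eq_smul_one, ← TensorProduct.smul_tmul, ← Algebra.algebraMap_eq_smul_one]
  rw [this]
  exact (IsLocalization.Away.algebraMap_isUnit n).map _

end Groth.Agent.S15575
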