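import Groth.Statements.S15578
import Groth.Agent.AzInvLib.Local

set_option autoImplicit false
universe u v
open RInv

namespace Groth.Agent.S15578

/-- Let `R` be a commutative ring with an involution `lam` whose fixed ring `S` is strictly henselian
(henselian local with separably closed residue field). Then `R` is isomorphic to a product of
finitely many strictly henselian local rings (existence of a ring isomorphism with such a product). -/
theorem result (S : Type u) (R : Type v) [CommRing S] [CommRing R]
    [Algebra S R] (lam : R ≃+* R) (hlam : Function.Involutive lam) (hS : RInv.IsFixedRing S R lam)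
    [HenselianLocalRing S] [IsSepClosed (IsLocalRing.ResidueField S)] :
    ∃ (ι : Type) (_ : Fintype ι) (T : ι → Type v) (_ : ∀ i, CommRing (T i))
      (_ : ∀ i, HenselianLocalRing (T i)),
      (∀ i, IsSepClosed (IsLocalRing.ResidueField (T i))) ∧ Nonempty (R ≃+* (∀ i, T i)) := by
  rcases AzInvLib.exists_unit_or_local hlam hS with hu | ⟨hl, -⟩
  · obtain ⟨e, -⟩ := AzInvLib.exists_prod_equiv hlam hS hu
    let S' := (algebraMap S R).range
    let g : S ≃+* S' := RingEquiv.ofBijective (algebraMap S R).rangeRestrict
      ⟨fun a b h => hS.1 (Subtype.ext_iff.1 h), RingHom.rangeRestrict_surjective _⟩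
    haveI : HenselianLocalRing S' := AzInvLib.henselianLocalRing_of_ringEquiv g
    haveI : IsSepClosed (IsLocalRing.ResidueField S') :=
      AzInvLib.isSepClosed_of_ringEquiv (IsLocalRing.ResidueField.mapEquiv g)
    refine ⟨Fin 2, inferInstance, fun _ => S', fun _ => inferInstance, fun _ => inferInstance,
      fun _ => inferInstance, ⟨?_⟩⟩
    exact e.toRingEquiv.trans ((g.prodCongr g).trans (RingEquiv.piFinTwo fun _ => S').symm)
  · obtain ⟨hh, hk⟩ := AzInvLib.henselian_of_local hlam hS
    refine ⟨Fin 1, inferInstance, fun _ => R, fun _ => inferInstance, fun _ => hh, fun _ => hk, ⟨?_⟩⟩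
    exact (RingEquiv.piUnique fun _ : Fin 1 => R).symm

end Groth.Agent.S15578
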