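import Groth.Statements.S15579
import Groth.Agent.AzInvLib.Local

set_option autoImplicit false
universe u v
open RInv

namespace Groth.Agent.S15579

/-- For a local ring `S` with maximal ideal `m` and a quadratic etale `S`-algebra `R`, the Jacobson
radical of `R` is `mR`. -/
theorem result (S : Type u) (R : Type v) [CommRing S]
    [CommRing R] [Algebra S R] [IsLocalRing S] (hq : RInv.IsQuadEtale S R) :
    Ring.jacobson R = (IsLocalRing.maximalIdeal S).map (algebraMap S R) := by
  obtain ⟨hfin, -, hunr, -⟩ := hq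
  haveI := hfin; haveI := hunr
  set m := IsLocalRing.maximalIdeal S
  set I := m.map (algebraMap S R) with hI
  refine le_antisymm ?_ ?_
  · let k := S ⧸ m
    letI : Field k := Ideal.Quotient.field m
    haveI : Module.Finite S (R ⧸ I) := Module.Finite.of_surjective (Ideal.Quotient.mkₐ S I).toLinearMap
      Ideal.Quotient.mk_surjective
    haveI : Module.Finite k (R ⧸ I) := Module.Finite.of_restrictScalars_finite S k _
    haveI : Algebra.FormallyUnramified S (R ⧸ I) :=
      Algebra.FormallyUnramified.of_surjective (Ideal.Quotient.mkₐ S I) Ideal.Quotient.mk_surjective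
    haveI : Algebra.FormallyUnramified k (R ⧸ I) := Algebra.FormallyUnramified.of_restrictScalars S k (R ⧸ I)
    haveI : IsReduced (R ⧸ I) := Algebra.FormallyUnramified.isReduced_of_field k (R ⧸ I)
    haveI : IsArtinianRing (R ⧸ I) := IsArtinianRing.of_finite k (R ⧸ I)
    intro x hx
    rw [← Ideal.Quotient.eq_zero_iff_mem]
    have hj : Ring.jacobson (R ⧸ I) = ⊥ := IsArtinianRing.isSemisimpleRing_of_isReduced (R ⧸ I) |>.jacobson_eq_bot
    have h2 : Ideal.Quotient.mk I x ∈ Ring.jacobson (R ⧸ I) :=
      Ring.map_jacobson_le (Ideal.Quotient.mk I) (Submodule.mem_map.2 ⟨x, hx, rfl⟩)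
    rwa [hj, Ideal.mem_bot] at h2
  · rw [← Ideal.jacobson_bot, Ideal.jacobson, le_sInf_iff]
    rintro M ⟨-, hM⟩
    rw [hI, Ideal.map_le_iff_le_comap]
    haveI := hM
    haveI : Algebra.IsIntegral S R := inferInstance
    exact (IsLocalRing.eq_maximalIdeal (Ideal.isMaximal_comap_of_isIntegral_of_isMaximal M)).ge

end Groth.Agent.S15579
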