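import Groth.Statements.S15580
import Groth.Agent.AzInvLib.Fixed

set_option autoImplicit false
universe u v
open RInv

namespace Groth.Agent.S15580

/-- Let `S` be a local ring, `R` a quadratic etale `S`-algebra and `lam` an involution of `R` with fixed
ring `S`. Then every unit `r` of `R` with `lam r * r = 1` can be written `a⁻¹ * lam a` for a unit
`a` of `R`. -/
theorem result (S : Type u) (R : Type v) [CommRing S] [CommRing R]
    [Algebra S R] (lam : R ≃+* R) (hlam : Function.Involutive lam) (hS : RInv.IsFixedRing S R lam)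
    [IsLocalRing S] (hq : RInv.IsQuadEtale S R) (r : Rˣ) (hr : lam r * r = 1) :
    ∃ a : Rˣ, (r : R) = (a⁻¹ : Rˣ) * lam a := by
  obtain ⟨a, ha⟩ := AzInvLib.hilbert90 hlam hS (AzInvLib.exists_unit_of_isQuadEtale hlam hS hq) (r : R) hr
  exact ⟨a, by rw [ha, mul_left_comm, Units.inv_mul, mul_one]⟩

end Groth.Agent.S15580
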