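import Groth.Statements.S15581
import Groth.Agent.AzInvLib.Local

set_option autoImplicit false
universe u v
open RInv

namespace Groth.Agent.S15581

/-- Let `A` be a commutative ring with an involution `lam` whose fixed ring `B` is local with `2`
invertible. Then `Jac(A)^2 ⊆ Jac(B) A`. -/
theorem result (B : Type u) (A : Type v) [CommRing B]
    [CommRing A] [Algebra B A] (lam : A ≃+* A) (hlam : Function.Involutive lam)
    (hB : RInv.IsFixedRing B A lam) [IsLocalRing B] (h2 : IsUnit (2 : B)) :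
    (Ring.jacobson A) ^ 2 ≤ (IsLocalRing.maximalIdeal B).map (algebraMap B A) := by
  rw [pow_two, Ideal.mul_le]
  intro x hx y hy
  obtain ⟨u, hu⟩ := h2.exists_left_inv
  set v := algebraMap B A u with hv
  have hu' : v * 2 = 1 := by rw [hv, ← map_ofNat (algebraMap B A) 2, ← map_mul, hu, map_one]
  have hlv : lam v = v := AzInvLib.lam_algebraMap hB u
  have hmem : ∀ z : A, z ∈ Ring.jacobson A → z ∈ Set.range (algebraMap B A) →
      z ∈ (IsLocalRing.maximalIdeal B).map (algebraMap B A) := by
    rintro _ hz ⟨b, rfl⟩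
    refine Ideal.mem_map_of_mem _ ?_
    haveI := AzInvLib.nontrivial hB
    obtain ⟨q, hq⟩ := Ideal.exists_maximal A
    rw [← AzInvLib.comap_maximal hlam hB q]
    exact ((AzInvLib.mem_jacobson_iff hlam hB q _).1 hz).1
  have hJ : ∀ z ∈ Ring.jacobson A, v * (z + lam z) ∈ Ring.jacobson A ∧ v * (z - lam z) ∈ Ring.jacobson A :=
    fun z hz => ⟨Ideal.mul_mem_left _ _ (add_mem hz (AzInvLib.lam_mem_jacobson hlam hB hz)),
      Ideal.mul_mem_left _ _ (sub_mem hz (AzInvLib.lam_mem_jacobson hlam hB hz))⟩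
  have hfix : ∀ z : A, lam z = z → z ∈ Set.range (algebraMap B A) := fun z => (hB.2 z).1
  have hxy : x * y = v * (x + lam x) * y + v * (x - lam x) * (v * (y + lam y)) +
      v * (x - lam x) * (v * (y - lam y)) := by
    linear_combination (-x * y - v * (x - lam x) * y) * hu'
  rw [hxy]
  refine add_mem (add_mem (Ideal.mul_mem_right _ _ (hmem _ (hJ x hx).1 (hfix _ ?_)))
    (Ideal.mul_mem_left _ _ (hmem _ (hJ y hy).1 (hfix _ ?_)))) (hmem _ ?_ (hfix _ ?_))
  · rw [map_mul, map_add, hlam x, hlv, add_comm]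
  · rw [map_mul, map_add, hlam y, hlv, add_comm]
  · exact Ideal.mul_mem_left _ _ (hJ y hy).2
  · rw [map_mul, map_mul, map_mul, map_sub, map_sub, hlam x, hlam y, hlv]
    ring

end Groth.Agent.S15581
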