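import Groth.Statements.S15584
import Groth.Agent.AzInvLib.Herm

set_option autoImplicit false
universe u v
open RInv

namespace Groth.Agent.S15584

/-- Let `A` be a commutative ring with an involution `lam` whose fixed ring `B` is local; assume `lam`
is the identity modulo the Jacobson radical of `A`, that `2` is invertible in `A`, and that `h` is
an invertible `n × n` matrix with `h = -(lam h)ᵀ`. Then `n` is even and there is an invertible `v`
such that `(lam v)ᵀ h v` is a block sum of `2 × 2` blocks on the index pairs `{2k, 2k+1}`, each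
congruent to `[[0,1],[-1,0]]` modulo the Jacobson radical. (The published statement writes the
congruence with the plain transpose `vᵀ h v`; its proof computes the Gram matrix of the hermitian
form `(x, y) ↦ (lam x)ᵀ h y` in a new basis, which is `(lam v)ᵀ h v`, and that is what is stated
here.) -/
theorem result (B : Type u) (A : Type v) [CommRing B] [CommRing A]
    [Algebra B A] (lam : A ≃+* A) (hlam : Function.Involutive lam) (hB : RInv.IsFixedRing B A lam)
    [IsLocalRing B] (n : ℕ) (hid : ∀ a : A, lam a - a ∈ Ring.jacobson A) (h2 : IsUnit (2 : A))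
    (h : Matrix (Fin n) (Fin n) A) (hh : IsUnit h) (herm : -(h.map lam).transpose = h) :
    Even n ∧ ∃ v : Matrix (Fin n) (Fin n) A, IsUnit v ∧
      ∀ i j : Fin n,
        (i.val / 2 ≠ j.val / 2 → ((v.map lam).transpose * h * v) i j = 0) ∧
        (i.val / 2 = j.val / 2 → (Even i.val ↔ Even j.val) →
          ((v.map lam).transpose * h * v) i j ∈ Ring.jacobson A) ∧
        (i.val / 2 = j.val / 2 → Even i.val → ¬ Even j.val →
          ((v.map lam).transpose * h * v) i j - 1 ∈ Ring.jacobson A) ∧
        (i.val / 2 = j.val / 2 → ¬ Even i.val → Even j.val →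
          ((v.map lam).transpose * h * v) i j + 1 ∈ Ring.jacobson A) := by
  haveI := AzInvLib.nontrivial hB
  have hh' : (-1 : A) • AzInvLib.st lam h = h := by rw [neg_one_smul]; exact herm
  obtain ⟨κ, _, _, a, b, hab, p⟩ := AzInvLib.exists_symplectic hlam hB hid h2 n h (Fintype.card_fin n) hh hh'
  let e0 : Fin (Fintype.card κ * 2) ≃ κ × Fin 2 :=
    finProdFinEquiv.symm.trans (Equiv.prodCongr (Fintype.equivFin κ).symm (Equiv.refl _))
  have hn : n = Fintype.card κ * 2 := by
    have := p.card_eq
    simp only [Fintype.card_prod, Fintype.card_fin] at this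
    omega
  subst hn
  refine ⟨⟨Fintype.card κ, by ring⟩, ?_⟩
  obtain ⟨v, w, hvw, hwv, hv⟩ := p.trans (AzInvLib.cong_submatrix lam _ e0)
  refine ⟨v, isUnit_iff_exists_and_exists.2 ⟨⟨w, hvw⟩, ⟨w, hwv⟩⟩, fun i j => ?_⟩
  have hval : ((v.map lam).transpose * h * v) i j =
      if (e0 i).1 = (e0 j).1 then Matrix.of ![![a (e0 i).1, 1], ![-1, b (e0 i).1]] (e0 i).2 (e0 j).2 else 0 := by
    rw [show (v.map lam).transpose * h * v = _ from hv, Matrix.submatrix_apply, Matrix.submatrix_apply,
      Matrix.blockDiagonal_apply]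
    rfl
  have hb1 : (e0 i).1 = (e0 j).1 ↔ i.val / 2 = j.val / 2 := by
    simp [e0, finProdFinEquiv, Fin.ext_iff, Fin.divNat]
  have hb2 : ∀ k, ((e0 k).2 = 0 ↔ Even k.val) := fun k => by
    simp [e0, finProdFinEquiv, Fin.ext_iff, Fin.modNat, Nat.even_iff]
  have h01 : ∀ x : Fin 2, x ≠ 0 → x = 1 := by decide
  refine ⟨fun hne => ?_, fun he hpar => ?_, fun he hi hj => ?_, fun he hi hj => ?_⟩
  · rw [hval, if_neg (fun h => hne (hb1.1 h))]
  · rw [hval, if_pos (hb1.2 he)]
    by_cases hi : Even i.val
    · rw [(hb2 i).2 hi, (hb2 j).2 (hpar.1 hi)]; exact (hab _).1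
    · rw [h01 _ (mt (hb2 i).1 hi), h01 _ (mt (hb2 j).1 (mt hpar.2 hi))]; exact (hab _).2
  · rw [hval, if_pos (hb1.2 he), (hb2 i).2 hi, h01 _ (mt (hb2 j).1 hj)]; simp
  · rw [hval, if_pos (hb1.2 he), h01 _ (mt (hb2 i).1 hi), (hb2 j).2 hj]; simp

end Groth.Agent.S15584
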