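import Groth.Statements.S15585
import Groth.Agent.AzInvLib.Local

set_option autoImplicit false
universe u v
open RInv

namespace Groth.Agent.S15585

/-- For a local ring `S` (maximal ideal `m`, residue field `k`) and a quadratic etale `S`-algebra `R`,
the ring `R/mR` is a field that is a separable extension of `k` of degree 2, or else it is
isomorphic as a `k`-algebra to `k × k`. -/
theorem result (S : Type u) (R : Type v) [CommRing S]
    [CommRing R] [Algebra S R] [IsLocalRing S] (hq : RInv.IsQuadEtale S R) :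
    (IsField (R ⧸ (IsLocalRing.maximalIdeal S).map (algebraMap S R)) ∧
      Module.finrank (S ⧸ IsLocalRing.maximalIdeal S)
        (R ⧸ (IsLocalRing.maximalIdeal S).map (algebraMap S R)) = 2 ∧
      Algebra.IsSeparable (S ⧸ IsLocalRing.maximalIdeal S)
        (R ⧸ (IsLocalRing.maximalIdeal S).map (algebraMap S R))) ∨
    Nonempty ((R ⧸ (IsLocalRing.maximalIdeal S).map (algebraMap S R)) ≃ₐ[S ⧸ IsLocalRing.maximalIdeal S]
      ((S ⧸ IsLocalRing.maximalIdeal S) × (S ⧸ IsLocalRing.maximalIdeal S))) := by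
  obtain ⟨hfin, hproj, hunr, hrk⟩ := hq
  haveI := hfin; haveI := hunr; haveI := hproj
  letI : Field (S ⧸ IsLocalRing.maximalIdeal S) := Ideal.Quotient.field (IsLocalRing.maximalIdeal S)
  haveI : Module.Finite S (R ⧸ ((IsLocalRing.maximalIdeal S).map (algebraMap S R))) := Module.Finite.of_surjective (Ideal.Quotient.mkₐ S ((IsLocalRing.maximalIdeal S).map (algebraMap S R))).toLinearMap
    Ideal.Quotient.mk_surjective
  haveI : Module.Finite (S ⧸ IsLocalRing.maximalIdeal S) (R ⧸ ((IsLocalRing.maximalIdeal S).map (algebraMap S R))) := Module.Finite.of_restrictScalars_finite S (S ⧸ IsLocalRing.maximalIdeal S) _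
  haveI : Algebra.FormallyUnramified S (R ⧸ ((IsLocalRing.maximalIdeal S).map (algebraMap S R))) :=
    Algebra.FormallyUnramified.of_surjective (Ideal.Quotient.mkₐ S ((IsLocalRing.maximalIdeal S).map (algebraMap S R))) Ideal.Quotient.mk_surjective
  haveI : Algebra.FormallyUnramified (S ⧸ IsLocalRing.maximalIdeal S) (R ⧸ ((IsLocalRing.maximalIdeal S).map (algebraMap S R))) := Algebra.FormallyUnramified.of_restrictScalars S (S ⧸ IsLocalRing.maximalIdeal S) (R ⧸ ((IsLocalRing.maximalIdeal S).map (algebraMap S R)))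
  haveI : IsReduced (R ⧸ ((IsLocalRing.maximalIdeal S).map (algebraMap S R))) := Algebra.FormallyUnramified.isReduced_of_field (S ⧸ IsLocalRing.maximalIdeal S) (R ⧸ ((IsLocalRing.maximalIdeal S).map (algebraMap S R)))
  haveI : Module.Free S R := Module.free_of_flat_of_isLocalRing
  have h2 : Module.finrank S R = 2 := by
    have := hrk ⟨(IsLocalRing.maximalIdeal S), inferInstance⟩
    rw [Module.rankAtStalk_eq_finrank_of_free] at this
    simpa using this
  have hd : Module.finrank (S ⧸ IsLocalRing.maximalIdeal S) (R ⧸ ((IsLocalRing.maximalIdeal S).map (algebraMap S R))) = 2 := by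
    exact (IsLocalRing.finrank_quotient_map).trans h2
  by_cases hf : IsField (R ⧸ ((IsLocalRing.maximalIdeal S).map (algebraMap S R)))
  · refine Or.inl ⟨hf, hd, ?_⟩
    letI := hf.toField
    exact Algebra.FormallyUnramified.isSeparable (S ⧸ IsLocalRing.maximalIdeal S) (R ⧸ ((IsLocalRing.maximalIdeal S).map (algebraMap S R)))
  · right
    haveI : Nontrivial (R ⧸ ((IsLocalRing.maximalIdeal S).map (algebraMap S R))) := Module.nontrivial_of_finrank_pos (R := (S ⧸ IsLocalRing.maximalIdeal S)) (by omega)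
    obtain ⟨x, hx0, hxu⟩ : ∃ x : R ⧸ ((IsLocalRing.maximalIdeal S).map (algebraMap S R)), x ≠ 0 ∧ ¬ IsUnit x := by
      by_contra h
      push Not at h
      exact hf ⟨exists_pair_ne _, mul_comm, fun {a} ha => (h a ha).exists_right_inv⟩
    let Lx : (R ⧸ ((IsLocalRing.maximalIdeal S).map (algebraMap S R))) →ₗ[(S ⧸ IsLocalRing.maximalIdeal S)] (R ⧸ ((IsLocalRing.maximalIdeal S).map (algebraMap S R))) := LinearMap.mulLeft (S ⧸ IsLocalRing.maximalIdeal S) x
    have hr1 : Module.finrank (S ⧸ IsLocalRing.maximalIdeal S) (LinearMap.range Lx) ≤ 1 := by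
      have hlt : LinearMap.range Lx ≠ ⊤ := fun h => by
        obtain ⟨y, hy⟩ := LinearMap.range_eq_top.1 h 1
        exact hxu (IsUnit.of_mul_eq_one y hy)
      have := Submodule.finrank_lt hlt
      omega
    have hx1 : x ∈ LinearMap.range Lx := ⟨1, mul_one x⟩
    obtain ⟨c, hc⟩ : ∃ c : (S ⧸ IsLocalRing.maximalIdeal S), c • x = x * x := by
      have hsp : LinearMap.range Lx = Submodule.span (S ⧸ IsLocalRing.maximalIdeal S) {x} := by
        refine (Submodule.eq_of_le_of_finrank_le ((Submodule.span_singleton_le_iff_mem _ _).2 hx1) ?_).symm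
        rwa [finrank_span_singleton hx0]
      exact Submodule.mem_span_singleton.1 (hsp ▸ ⟨x, rfl⟩ : x * x ∈ Submodule.span (S ⧸ IsLocalRing.maximalIdeal S) {x})
    have hc0 : c ≠ 0 := fun h => hx0 (IsReduced.eq_zero _ ⟨2, by rw [pow_two, ← hc, h, zero_smul]⟩)
    set e := c⁻¹ • x with he
    have hee : e * e = e := by
      rw [he, smul_mul_smul_comm, ← hc, smul_smul, mul_assoc, inv_mul_cancel₀ hc0, mul_one]
    have he0 : e ≠ 0 := smul_ne_zero (inv_ne_zero hc0) hx0
    have he1 : e ≠ 1 := fun h => hxu (by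
      have : x = c • (1 : R ⧸ ((IsLocalRing.maximalIdeal S).map (algebraMap S R))) := by rw [← h, he, smul_smul, mul_inv_cancel₀ hc0, one_smul]
      rw [this, Algebra.smul_def, mul_one]
      exact (isUnit_iff_ne_zero.2 hc0).map _)
    let Φ : ((S ⧸ IsLocalRing.maximalIdeal S) × (S ⧸ IsLocalRing.maximalIdeal S)) →ₗ[(S ⧸ IsLocalRing.maximalIdeal S)] (R ⧸ ((IsLocalRing.maximalIdeal S).map (algebraMap S R))) :=
      (LinearMap.toSpanSingleton (S ⧸ IsLocalRing.maximalIdeal S) _ e).coprod (LinearMap.toSpanSingleton (S ⧸ IsLocalRing.maximalIdeal S) _ (1 - e))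
    have hΦ : ∀ a b : (S ⧸ IsLocalRing.maximalIdeal S), Φ (a, b) = a • e + b • (1 - e) := fun a b => rfl
    have hinj : Function.Injective Φ := by
      rw [injective_iff_map_eq_zero]
      rintro ⟨a, b⟩ h
      rw [hΦ] at h
      have ha := congrArg (· * e) h
      simp only [add_mul, smul_mul_assoc, zero_mul, hee, sub_mul, one_mul, mul_sub, mul_one, sub_self,
        smul_zero, add_zero, zero_add, sub_zero] at ha
      have ha0 : a = 0 := (smul_eq_zero.1 ha).resolve_right he0
      rw [ha0, zero_smul, zero_add] at h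
      have hb0 : b = 0 := (smul_eq_zero.1 h).resolve_right (sub_ne_zero.2 (Ne.symm he1))
      simp [ha0, hb0]
    refine ⟨(AlgEquiv.ofLinearEquiv (LinearEquiv.ofBijective Φ ⟨hinj, ?_⟩) ?_ ?_).symm⟩
    · exact (LinearMap.injective_iff_surjective_of_finrank_eq_finrank (by simp [hd])).1 hinj
    · show Φ ((1 : (S ⧸ IsLocalRing.maximalIdeal S)), (1 : (S ⧸ IsLocalRing.maximalIdeal S))) = 1
      rw [hΦ, one_smul, one_smul, add_sub_cancel]
    · rintro ⟨a, b⟩ ⟨a', b'⟩
      show Φ (a * a', b * b') = Φ (a, b) * Φ (a', b')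
      simp only [hΦ, add_mul, mul_add, smul_mul_smul_comm, hee, mul_sub, sub_mul, one_mul, mul_one,
        sub_self, smul_zero, add_zero, zero_add, sub_zero]

end Groth.Agent.S15585
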