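import Groth.Statements.S15587
import Groth.Agent.AzInvLib.Branch

set_option autoImplicit false
universe u v
open scoped TensorProduct
open RInv

namespace Groth.Agent.S15587

/-- (b) ⇔ (d): let `R` be a commutative ring with an involution `lam` and fixed ring `S`, so that `Spec
R → Spec S` is a good quotient by the involution, and let `p` be a prime of `S`. Then `p` is a
branch point, i.e. the localisation `S_p ⊗_S R` is not quadratic etale over `S_p`, if and only if
exactly one prime `q` of `R` lies over `p` and `lam` induces the identity on the residue field of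
`q` (equivalently `lam r - r ∈ q` for all `r`). This is the affine-local form of the statement for a
good quotient of schemes, to which the general case reduces since such quotients are affine
morphisms. -/
theorem result (S : Type u) (R : Type v) [CommRing S] [CommRing R]
    [Algebra S R] (lam : R ≃+* R) (hlam : Function.Involutive lam) (hS : RInv.IsFixedRing S R lam)
    (p : PrimeSpectrum S) :
    ¬ RInv.IsQuadEtale (Localization.AtPrime p.asIdeal) (Localization.AtPrime p.asIdeal ⊗[S] R) ↔
      ∃ q : PrimeSpectrum R, q.asIdeal.comap (algebraMap S R) = p.asIdeal ∧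
        (∀ q' : PrimeSpectrum R, q'.asIdeal.comap (algebraMap S R) = p.asIdeal → q' = q) ∧
        ∀ r : R, lam r - r ∈ q.asIdeal := by
  let L := AzInvLib.algEquivOfFixed lam hS
  have hL : RInv.IsFixedRing S R L.toRingEquiv := hS
  constructor
  · intro h
    obtain ⟨q, hq, hqp⟩ := AzInvLib.exists_isPrime_over (lam := L) p.asIdeal hlam hL
    refine ⟨⟨q, hq⟩, hqp, fun q' hq' => PrimeSpectrum.ext (AzInvLib.eq_of_mem_branch (lam := L) hlam hL h q q'.asIdeal hqp hq'), ?_⟩
    exact (AzInvLib.forall_diff_mem_iff (lam := L) p.asIdeal hlam hL q hqp).2 ((AzInvLib.not_isQuadEtale_iff (lam := L) p.asIdeal hlam hL).1 h)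
  · rintro ⟨q, hqp, -, hd⟩
    exact (AzInvLib.not_isQuadEtale_iff (lam := L) p.asIdeal hlam hL).2
      ((AzInvLib.forall_diff_mem_iff (lam := L) p.asIdeal hlam hL q.asIdeal hqp).1 hd)

end Groth.Agent.S15587
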