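import Groth.Statements.S15589
import Groth.Agent.AzInvLib.Branch

set_option autoImplicit false
universe u v
open scoped TensorProduct
open RInv

namespace Groth.Agent.S15589

/-- Let `R` be a commutative ring with an involution `lam` and fixed ring `S`, `W ⊆ Spec S` the branch
locus (primes `p` with `S_p ⊗_S R` not quadratic etale over `S_p`), `I` its vanishing ideal and `J =
rad(IR)`. Then `Spec(R/J) → Spec(S/I)` is a homeomorphism; if `2` is a unit of `S`, the ring map
`S/I → R/J` is moreover bijective, so the reduced preimage of the branch locus maps isomorphically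
onto it. Affine-local form of the statement for a good quotient of schemes by an involution (the
hypothesis `I ≤ J ∩ S` holds automatically and only serves to write down the map). -/
theorem result (S : Type u) (R : Type v) [CommRing S] [CommRing R]
    [Algebra S R] (lam : R ≃+* R) (hlam : Function.Involutive lam) (hS : RInv.IsFixedRing S R lam)
    (W : Set (PrimeSpectrum S))
    (hW : W = {p : PrimeSpectrum S | ¬ RInv.IsQuadEtale (Localization.AtPrime p.asIdeal) (Localization.AtPrime p.asIdeal ⊗[S] R)})
    (J : Ideal R) (hJ : J = ((PrimeSpectrum.vanishingIdeal W).map (algebraMap S R)).radical)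
    (hIJ : PrimeSpectrum.vanishingIdeal W ≤ J.comap (algebraMap S R)) :
    IsHomeomorph (PrimeSpectrum.comap (Ideal.quotientMap J (algebraMap S R) hIJ)) ∧
      (IsUnit (2 : S) → Function.Bijective (Ideal.quotientMap J (algebraMap S R) hIJ)) := by
  let L := AzInvLib.algEquivOfFixed lam hS
  have hL : RInv.IsFixedRing S R L.toRingEquiv := hS
  set I := PrimeSpectrum.vanishingIdeal W with hI
  have hint : (Ideal.quotientMap J (algebraMap S R) hIJ).IsIntegral := by
    refine RingHom.IsIntegral.tower_top (Ideal.Quotient.mk I) _ ?_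
    rw [Ideal.quotientMap_comp_mk]
    exact RingHom.IsIntegral.trans _ _ (AzInvLib.isIntegral hlam hS).isIntegral
      (RingHom.isIntegral_of_surjective _ Ideal.Quotient.mk_surjective)
  have hsurjS : Function.Surjective (Ideal.Quotient.mk I) := Ideal.Quotient.mk_surjective
  have hsurjR : Function.Surjective (Ideal.Quotient.mk J) := Ideal.Quotient.mk_surjective
  have hcomm : ∀ P : PrimeSpectrum (R ⧸ J),
      PrimeSpectrum.comap (Ideal.Quotient.mk I) (PrimeSpectrum.comap (Ideal.quotientMap J (algebraMap S R) hIJ) P) =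
        PrimeSpectrum.comap (algebraMap S R) (PrimeSpectrum.comap (Ideal.Quotient.mk J) P) := fun P => by
    rw [← PrimeSpectrum.comap_comp_apply, ← PrimeSpectrum.comap_comp_apply, Ideal.quotientMap_comp_mk]
  have hmem : ∀ x : PrimeSpectrum (S ⧸ I), PrimeSpectrum.comap (Ideal.Quotient.mk I) x ∈ W := fun x => by
    refine AzInvLib.mem_branch_of_le (lam := L) hlam hL hW ?_
    intro s hs
    show Ideal.Quotient.mk I s ∈ x.asIdeal
    rw [Ideal.Quotient.eq_zero_iff_mem.2 hs]
    exact x.asIdeal.zero_mem
  refine ⟨isHomeomorph_iff_continuous_isClosedMap_bijective.2 ⟨PrimeSpectrum.continuous_comap _,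
    PrimeSpectrum.isClosedMap_comap_of_isIntegral _ hint, ?_, ?_⟩, fun h2 => ⟨?_, ?_⟩⟩
  · intro P P' h
    refine PrimeSpectrum.comap_injective_of_surjective _ hsurjR (PrimeSpectrum.ext ?_)
    have hp := hmem (PrimeSpectrum.comap (Ideal.quotientMap J (algebraMap S R) hIJ) P')
    rw [hW] at hp
    refine AzInvLib.eq_of_mem_branch (lam := L) hlam hL hp _ _ ?_ ?_
    · exact congrArg PrimeSpectrum.asIdeal (hcomm P').symm
    · exact congrArg PrimeSpectrum.asIdeal ((hcomm P).symm.trans (congrArg _ h))
  · intro x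
    obtain ⟨q, hq, hqp⟩ := AzInvLib.exists_isPrime_over (lam := L)
      (PrimeSpectrum.comap (Ideal.Quotient.mk I) x).asIdeal hlam hL
    have hJq : J ≤ q := by
      rw [hJ]
      refine hq.radical_le_iff.2 (Ideal.map_le_iff_le_comap.2 ?_)
      rw [hqp]
      intro s hs
      show Ideal.Quotient.mk I s ∈ x.asIdeal
      rw [Ideal.Quotient.eq_zero_iff_mem.2 hs]
      exact x.asIdeal.zero_mem
    haveI : (q.map (Ideal.Quotient.mk J)).IsPrime :=
      Ideal.map_isPrime_of_surjective hsurjR (by rwa [Ideal.mk_ker])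
    refine ⟨⟨q.map (Ideal.Quotient.mk J), inferInstance⟩, PrimeSpectrum.comap_injective_of_surjective _ hsurjS ?_⟩
    rw [hcomm]
    refine PrimeSpectrum.ext ?_
    show ((q.map (Ideal.Quotient.mk J)).comap _).comap _ = _
    rw [Ideal.comap_map_of_surjective _ hsurjR, ← RingHom.ker_eq_comap_bot, Ideal.mk_ker, sup_eq_left.2 hJq, hqp]
  · refine Ideal.quotientMap_injective' (fun s hs => ?_)
    rw [PrimeSpectrum.mem_vanishingIdeal]
    intro p hp
    obtain ⟨q, hq, hqp⟩ := AzInvLib.exists_isPrime_over (lam := L) p.asIdeal hlam hL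
    rw [← hqp, Ideal.mem_comap]
    have hJq : J ≤ q := by
      rw [hJ]
      refine hq.radical_le_iff.2 (Ideal.map_le_iff_le_comap.2 ?_)
      rw [hqp]
      exact fun t ht => (PrimeSpectrum.mem_vanishingIdeal _ _).1 ht p hp
    exact hJq (Ideal.mem_comap.1 hs)
  · intro y
    obtain ⟨r, rfl⟩ := hsurjR y
    obtain ⟨u, hu⟩ := h2.exists_left_inv
    obtain ⟨s, hs⟩ := AzInvLib.add_mem_range hlam hS r
    refine ⟨Ideal.Quotient.mk I (u * s), ?_⟩
    rw [Ideal.quotientMap_mk, Ideal.Quotient.eq, map_mul, hs]
    have hu' : algebraMap S R u * 2 = 1 := by rw [← map_ofNat (algebraMap S R) 2, ← map_mul, hu, map_one]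
    rw [show algebraMap S R u * (r + lam r) - r = algebraMap S R u * (lam r - r) by
      linear_combination r * hu']
    exact J.mul_mem_left _ (hJ ▸ AzInvLib.map_sub_mem_radical (lam := L) hlam hL hW r)

end Groth.Agent.S15589
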