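import Groth.Statements.S15590
import Mathlib.RingTheory.Ideal.GoingUp
import Mathlib.RingTheory.Localization.FractionRing
import Mathlib.RingTheory.IntegralClosure.IntegrallyClosed
import Mathlib.RingTheory.Flat.FaithfullyFlat.Algebra
import Mathlib.RingTheory.DedekindDomain.Basic


-- import your own Groth.Agent.* helpers here

set_option autoImplicit false
universe u v
open CAlg

namespace Groth.Agent.S15590

/-- Let A → B be an injective homomorphism of commutative rings which makes B a finite flat A-module,
and suppose B is a Dedekind domain (Noetherian, integrally closed, of Krull dimension at most one; a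
field is allowed). Then A is a Dedekind domain. -/
theorem result (A : Type u) (B : Type v)
    [CommRing A] [CommRing B] [Algebra A B] [IsDedekindDomain B]
    (hinj : Function.Injective (algebraMap A B)) [Module.Finite A B] [Module.Flat A B] :
    IsDedekindDomain A := by
  classical
  have : IsDomain A := Function.Injective.isDomain _ hinj
  have : FaithfulSMul A B := (faithfulSMul_iff_algebraMap_injective A B).2 hinj
  have : Algebra.IsIntegral A B := Algebra.IsIntegral.of_finite A B
  have : Module.FaithfullyFlat A B := Module.FaithfullyFlat.of_comap_surjective fun P => by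
    obtain ⟨Q, -, hQ, hQP⟩ := Ideal.exists_ideal_over_prime_of_isIntegral P.asIdeal (⊥ : Ideal B) (by
      rw [Ideal.comap_bot_of_injective _ hinj]; exact bot_le)
    exact ⟨⟨Q, hQ⟩, PrimeSpectrum.ext hQP⟩
  have : IsNoetherianRing A := by
    have hi : Function.Injective fun I : Ideal A => I.map (algebraMap A B) :=
      Function.LeftInverse.injective (g := fun J => J.comap (algebraMap A B))
        fun I => Ideal.comap_map_eq_self_of_faithfullyFlat I
    have hm : StrictMono fun I : Ideal A => I.map (algebraMap A B) :=
      (Monotone.strictMono_of_injective (fun _ _ h => Ideal.map_mono h) hi)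
    have : WellFoundedGT (Ideal A) := hm.wellFoundedGT
    exact isNoetherian_iff'.2 this
  have : Ring.DimensionLEOne A := ⟨fun {P} hP hPp => by
    obtain ⟨Q, -, hQ, hQP⟩ := Ideal.exists_ideal_over_prime_of_isIntegral P (⊥ : Ideal B) (by
      rw [Ideal.comap_bot_of_injective _ hinj]; exact bot_le)
    have hQ0 : Q ≠ ⊥ := fun h => hP (by rw [← hQP, h, Ideal.comap_bot_of_injective _ hinj])
    have := hQ.isMaximal hQ0
    rw [← hQP]
    exact Ideal.isMaximal_comap_of_isIntegral_of_isMaximal Q⟩
  have : IsIntegrallyClosed A := by
    refine (isIntegrallyClosed_iff (FractionRing A)).2 fun {x} hx => ?_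
    obtain ⟨a, b, hb, rfl⟩ := IsFractionRing.div_surjective (A := A) x
    let φ : FractionRing A →ₐ[A] FractionRing B :=
      IsFractionRing.liftAlgHom (g := Algebra.ofId A (FractionRing B))
        (FaithfulSMul.algebraMap_injective A (FractionRing B))
    have hb0 : b ≠ 0 := nonZeroDivisors.ne_zero hb
    obtain ⟨c, hc⟩ := IsIntegrallyClosed.isIntegral_iff.1 ((hx.map φ).tower_top (A := B))
    have hbc : algebraMap A B a = algebraMap A B b * c := by
      apply IsFractionRing.injective B (FractionRing B)
      rw [map_mul, hc, map_div₀, φ.commutes, φ.commutes, ← IsScalarTower.algebraMap_apply,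
        ← IsScalarTower.algebraMap_apply, mul_div_cancel₀]
      exact (map_ne_zero_iff _ ((FaithfulSMul.algebraMap_injective A (FractionRing B)))).2 hb0
    have hmem : a ∈ ((Ideal.span {b}).map (algebraMap A B)).comap (algebraMap A B) := by
      rw [Ideal.mem_comap, Ideal.map_span, Set.image_singleton, hbc]
      exact Ideal.mem_span_singleton.2 (dvd_mul_right _ _)
    rw [Ideal.comap_map_eq_self_of_faithfullyFlat, Ideal.mem_span_singleton] at hmem
    obtain ⟨d, rfl⟩ := hmem
    exact ⟨d, by rw [map_mul, mul_div_cancel_left₀]; exact (map_ne_zero_iff _ (IsFractionRing.injective A _)).2 hb0⟩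
  exact {}

end Groth.Agent.S15590
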