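import Groth.Statements.S15591
import Groth.Agent.MaxTorusRankLib.Nearby
import Groth.Agent.MaxTorFieldLib.Apps
import Groth.Agent.BorelLib.BaseChange
import Groth.Agent.MaxTorConjLib.Main

set_option autoImplicit false
set_option backward.isDefEq.respectTransparency false
set_option backward.isDefEq.respectTransparency.types false
set_option maxHeartbeats 1000000
set_option synthInstance.maxHeartbeats 400000
universe u
open CategoryTheory MonoidalCategory CartesianMonoidalCategory MonObj GrpObj AlgebraicGeometry
open AGF

attribute [-instance] CategoryTheory.Hom.commGroup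
set_option backward.isDefEq.respectTransparency false
namespace Groth.Agent.S15591

/-- Let k be a field, G an affine smooth connected k-group scheme and T ⟶ G, T' ⟶ G two maximal k-tori
of G (each maximal among the k-subtori of G through which it factors). Then T and T' have the same
dimension. -/
theorem result (k : Type u) [Field k]
    (G : Over (Spec (CommRingCat.of k))) [GrpObj G] [IsAffine G.left] [Smooth G.hom] [ConnectedSpace ↥G.left]
    (T T' : Over (Spec (CommRingCat.of k))) [GrpObj T] [GrpObj T'] (iT : T ⟶ G) (iT' : T' ⟶ G)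
    (hT : AGF.IsMaxTorus iT) (hT' : AGF.IsMaxTorus iT') :
    topologicalKrullDim ↥T.left = topologicalKrullDim ↥T'.left := by
  let s : ↥(Spec (CommRingCat.of k)) := IsLocalRing.closedPoint k
  have h1 := BorelLib.isMaxTorus_geom s (MaxTorField.isMaximalTorus_of_maxTorus hT)
  have h2 := BorelLib.isMaxTorus_geom s (MaxTorField.isMaximalTorus_of_maxTorus hT')
  haveI : Smooth (Red.geomFibre s G).hom := MorphismProperty.pullback_snd (P := @Smooth) _ _ inferInstance
  haveI : IsAffine (Red.geomFibre s G).left := by
    haveI : IsAffineHom G.hom := inferInstance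
    haveI : IsAffineHom (Red.geomFibre s G).hom := MorphismProperty.pullback_snd (P := @IsAffineHom) _ _ inferInstance
    exact isAffine_of_isAffineHom (Red.geomFibre s G).hom
  obtain ⟨g, f, -⟩ := MaxTorusRank.exists_conj h1 h2
  haveI := MaxTorConj.smooth_of_isTorus hT.2.2.1
  haveI := MaxTorConj.smooth_of_isTorus hT'.2.2.1
  have h : topologicalKrullDim ↥(Red.bc (Red.geomPt s) T).left = topologicalKrullDim ↥(Red.bc (Red.geomPt s) T').left :=
    IsHomeomorph.topologicalKrullDim_eq _ (Scheme.homeoOfIso ((Over.forget _).mapIso f)).isHomeomorph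
  rw [MaxTorusRank.dim_bc_eq, MaxTorusRank.dim_bc_eq] at h
  have e : ∀ X : Over (Spec (CommRingCat.of k)), X.hom.base ⁻¹' {Red.geomPt s (IsLocalRing.closedPoint _)} = Set.univ :=
    fun X => Set.eq_univ_iff_forall.2 fun x => @Subsingleton.elim (PrimeSpectrum k) _ _ _
  rw [e, e, IsHomeomorph.topologicalKrullDim_eq _ (Homeomorph.Set.univ ↥T.left).isHomeomorph,
    IsHomeomorph.topologicalKrullDim_eq _ (Homeomorph.Set.univ ↥T'.left).isHomeomorph] at h
  exact h

end Groth.Agent.S15591
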