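import Groth.Statements.S15593
import Groth.Agent.S12442
import Groth.Agent.AbSchLib.Flat
import Mathlib.AlgebraicGeometry.Morphisms.FlatMono
-- import your own Groth.Agent.* helpers here

set_option autoImplicit false
universe u
open CategoryTheory MonoidalCategory CartesianMonoidalCategory MonObj GrpObj AlgebraicGeometry
open AlgGrp

namespace Groth.Agent.S15593

/-- Let k be a field and f : G ⟶ G' a homomorphism of smooth k-group schemes of finite type. If f is
surjective (on underlying topological spaces) and has trivial kernel, that is, f is a monomorphism,
then f is an isomorphism. No flatness of f is assumed. -/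
theorem result (k : Type u) [Field k]
    (G G' : Over (Spec (CommRingCat.of k))) [GrpObj G] [GrpObj G']
    [Smooth G.hom] [QuasiCompact G.hom] [Smooth G'.hom] [QuasiCompact G'.hom]
    (f : G ⟶ G') [IsMonHom f] [Mono f] [Surjective f.left] : IsIso f := by
  let q := f
  haveI := AbSchLib.geometricallyReduced_of_smooth G'.hom
  haveI : Flat q.left := AbSchLib.flat_of_surjective f
  haveI : Surjective q.left := ‹Surjective f.left›
  haveI : Mono q := ‹Mono f›
  haveI : Mono q.left := inferInstanceAs (Mono ((Over.forget _).map q))
  haveI : LocallyOfFinitePresentation G.hom := inferInstance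
  haveI : LocallyOfFinitePresentation (q.left ≫ G'.hom) := by rw [Over.w q]; infer_instance
  haveI : LocallyOfFinitePresentation q.left := Groth.Agent.S12442.lfp_of_comp_lft q.left G'.hom
  haveI := IsOpenImmersion.of_flat_of_mono q.left
  haveI : IsIso q.left := isIso_of_isOpenImmersion_of_opensRange_eq_top q.left (TopologicalSpace.Opens.ext q.left.surjective.range_eq)
  haveI : IsIso ((Over.forget _).map q) := ‹IsIso q.left›
  exact isIso_of_reflects_iso q (Over.forget _)
end Groth.Agent.S15593
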