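import Groth.Statements.S15594
import Mathlib


-- import your own Groth.Agent.* helpers here

set_option autoImplicit false
universe u
open TensorProduct
open AGF

namespace Groth.Agent.S15594

/-- Affine form. Let k ⊆ K be a field extension, A a commutative k-algebra and S a set of k-algebra
homomorphisms A → k (rational points of Spec A). The ideal ⋂_{σ ∈ S} ker σ cuts out the Zariski
closure of S with its reduced structure, and its extension to K ⊗_k A equals ⋂_{σ ∈ S} ker σ_K,
where σ_K : K ⊗_k A → K is the K-algebra map induced by σ. In words: the closure of a set of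
rational points is formed compatibly with extension of the ground field. (The published statement is
for schemes locally of finite type; this affine row assumes no finiteness, which the argument does
not use.) -/
theorem result (k K A : Type u) [Field k] [Field K] [Algebra k K]
    [CommRing A] [Algebra k A] (S : Set (A →ₐ[k] k)) :
    Ideal.map (Algebra.TensorProduct.includeRight : A →ₐ[k] K ⊗[k] A) (⨅ σ ∈ S, RingHom.ker σ) =
      ⨅ σ ∈ S, RingHom.ker ((Algebra.TensorProduct.rid k K K).toAlgHom.comp
        (Algebra.TensorProduct.map (AlgHom.id K K) σ)) := by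
  classical
  let b := Module.Free.chooseBasis k K
  let e := TensorProduct.equivFinsuppOfBasisLeft (N := A) b
  have hmap : ∀ (σ : A →ₐ[k] k) (x : TensorProduct k K A),
      (Algebra.TensorProduct.rid k K K).toAlgHom.comp (Algebra.TensorProduct.map (AlgHom.id K K) σ) x = (e x).sum fun i a => σ a • b i := by
    intro σ x
    induction x using TensorProduct.induction_on with
    | zero => simp
    | tmul c a =>
      simp only [AlgHom.comp_apply, Algebra.TensorProduct.map_tmul, AlgHom.id_apply, e]
      rw [TensorProduct.equivFinsuppOfBasisLeft_apply_tmul, Finsupp.sum_mapRange_index (fun i => by simp)]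
      simp only [map_smul, smul_eq_mul]
      conv_rhs => rw [Finsupp.sum_congr (g2 := fun i t => σ a • (t • b i)) (fun i _ => by rw [smul_smul, mul_comm]), ← Finsupp.smul_sum]
      have := b.linearCombination_repr c
      rw [Finsupp.linearCombination_apply] at this
      rw [this]
      exact Algebra.TensorProduct.rid_tmul (R := k) (S := K) (σ a) c
    | add x y hx hy =>
      rw [map_add, map_add, hx, hy, Finsupp.sum_add_index' (fun i => by simp) (fun i a a' => by rw [map_add, add_smul])]
  refine le_antisymm (Ideal.map_le_iff_le_comap.2 fun a ha => ?_) fun x hx => ?_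
  · rw [Ideal.mem_comap, Submodule.mem_iInf]
    intro σ
    rw [Submodule.mem_iInf]
    intro hσ
    have h1 : σ a = 0 := (Submodule.mem_iInf _).1 ((Submodule.mem_iInf _).1 ha σ) hσ
    simp [RingHom.mem_ker, h1]
  · rw [show x = e.symm (e x) from (e.symm_apply_apply x).symm, ← Finsupp.sum_single (e x), map_finsuppSum]
    refine Submodule.sum_mem _ fun i _ => ?_
    have hi : e x i ∈ ⨅ σ ∈ S, RingHom.ker σ := by
      rw [Submodule.mem_iInf]; intro σ; rw [Submodule.mem_iInf]; intro hσ
      have h0 : (Algebra.TensorProduct.rid k K K).toAlgHom.comp (Algebra.TensorProduct.map (AlgHom.id K K) σ) x = 0 :=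
        (Submodule.mem_iInf _).1 ((Submodule.mem_iInf _).1 hx σ) hσ
      rw [hmap] at h0
      by_cases hi : i ∈ (e x).support
      · exact linearIndependent_iff'.1 b.linearIndependent (e x).support (fun i => σ (e x i)) h0 i hi
      · rw [Finsupp.notMem_support_iff.1 hi]; exact zero_mem _
    have : e.symm (Finsupp.single i (e x i)) = (TensorProduct.tmul k (b i) (1 : A)) * (Algebra.TensorProduct.includeRight : A →ₐ[k] TensorProduct k K A) (e x i) := by
      simp [e]
    change e.symm (Finsupp.single i (e x i)) ∈ _
    rw [this]
    exact Ideal.mul_mem_left _ _ (Ideal.mem_map_of_mem _ hi)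

end Groth.Agent.S15594
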