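import Groth.Statements.S15595
import Groth.Agent.HenselDesc.Local

set_option autoImplicit false
set_option backward.isDefEq.respectTransparency false
set_option backward.isDefEq.respectTransparency.types false
universe u
open TensorProduct
attribute [local instance] RingHom.ker_isPrime
open CAlg

namespace Groth.Agent.S15595

/-- Let k ⊆ K be a field extension and A a Noetherian local k-algebra with residue field k, recorded by
a k-algebra map π : A → k whose kernel is the maximal ideal. Let π_K : K ⊗_k A → K be the induced
K-algebra map, m' its kernel, and A' the localization of K ⊗_k A at m'. Assume A' is Noetherian.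
Then A is a regular local ring if and only if A' is a regular local ring. -/
theorem result (k K A : Type u) [Field k] [Field K]
    [Algebra k K] [CommRing A] [Algebra k A] [IsLocalRing A] [IsNoetherianRing A]
    (π : A →ₐ[k] k) (hπ : RingHom.ker π = IsLocalRing.maximalIdeal A)
    [IsNoetherianRing (Localization.AtPrime (RingHom.ker
      ((Algebra.TensorProduct.rid k K K).toAlgHom.comp (Algebra.TensorProduct.map (AlgHom.id K K) π))))] :
    IsRegularLocalRing A ↔ IsRegularLocalRing (Localization.AtPrime (RingHom.ker
      ((Algebra.TensorProduct.rid k K K).toAlgHom.comp (Algebra.TensorProduct.map (AlgHom.id K K) π)))) := by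
  letI : Algebra A (K ⊗[k] A) := (Algebra.TensorProduct.includeRight (R := k) (A := K) (B := A)).toRingHom.toAlgebra
  set φ := (Algebra.TensorProduct.rid k K K).toAlgHom.comp (Algebra.TensorProduct.map (AlgHom.id K K) π) with hφdef
  have hφ : ∀ (c : K) (a : A), φ (c ⊗ₜ a) = c * algebraMap k K (π a) := fun c a => by
    simp [hφdef, Algebra.smul_def, mul_comm]
  let e := (Algebra.TensorProduct.comm k A K).toRingEquiv
  let eA : (A ⊗[k] K) ≃ₐ[A] (K ⊗[k] A) := AlgEquiv.ofRingEquiv (f := e) fun a => by
    show (Algebra.TensorProduct.comm k A K) (a ⊗ₜ[k] (1 : K)) = (1 : K) ⊗ₜ[k] a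
    simp
  haveI : Module.Flat A (K ⊗[k] A) := Module.Flat.of_linearEquiv eA.symm.toLinearEquiv
  haveI : Module.Flat A (Localization.AtPrime (RingHom.ker φ)) := by
    haveI : Module.Flat (K ⊗[k] A) (Localization.AtPrime (RingHom.ker φ)) :=
      IsLocalization.flat _ (RingHom.ker φ).primeCompl
    exact Module.Flat.trans A (K ⊗[k] A) _
  have hker : (IsLocalRing.maximalIdeal A).map (algebraMap A (K ⊗[k] A)) = RingHom.ker φ := by
    refine le_antisymm (Ideal.map_le_iff_le_comap.2 fun a ha => ?_) fun z hz => ?_
    · show φ ((1 : K) ⊗ₜ[k] a) = 0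
      rw [← hπ] at ha
      rw [hφ, RingHom.mem_ker.1 ha, map_zero, mul_zero]
    · have h : ∀ w : K ⊗[k] A, w - φ w ⊗ₜ[k] (1 : A) ∈ (IsLocalRing.maximalIdeal A).map (algebraMap A (K ⊗[k] A)) := by
        intro w
        induction w using TensorProduct.induction_on with
        | zero => simp
        | add x y hx hy =>
          rw [map_add, TensorProduct.add_tmul, add_sub_add_comm]
          exact add_mem hx hy
        | tmul c a =>
          have h1 : a - algebraMap k A (π a) ∈ IsLocalRing.maximalIdeal A := by
            rw [← hπ, RingHom.mem_ker, map_sub, AlgHom.commutes, Algebra.algebraMap_self, RingHom.id_apply, sub_self]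
          convert Ideal.mul_mem_left _ (c ⊗ₜ[k] (1 : A)) (Ideal.mem_map_of_mem (algebraMap A (K ⊗[k] A)) h1) using 1
          show c ⊗ₜ[k] a - φ (c ⊗ₜ[k] a) ⊗ₜ[k] (1 : A) = (c ⊗ₜ[k] (1 : A)) * ((1 : K) ⊗ₜ[k] (a - algebraMap k A (π a)))
          rw [hφ, Algebra.TensorProduct.tmul_mul_tmul, mul_one, one_mul, TensorProduct.tmul_sub,
            Algebra.algebraMap_eq_smul_one (A := A), TensorProduct.tmul_smul, TensorProduct.smul_tmul',
            Algebra.smul_def, mul_comm c]
      have := h z
      rwa [RingHom.mem_ker.1 hz, TensorProduct.zero_tmul, sub_zero] at this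
  refine (HenselDesc.isRegularLocalRing_iff_of_flat_unramified' A _ ?_).symm
  rw [IsScalarTower.algebraMap_eq A (K ⊗[k] A), ← Ideal.map_map, hker,
    IsLocalization.AtPrime.map_eq_maximalIdeal (RingHom.ker φ)]

end Groth.Agent.S15595
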