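import Groth.Statements.S15596
import Mathlib


-- import your own Groth.Agent.* helpers here

set_option autoImplicit false
universe u
open CategoryTheory MonoidalCategory CartesianMonoidalCategory MonObj GrpObj AlgebraicGeometry
open AlgGrp

namespace Groth.Agent.S15596

/-- Let k be an algebraically closed field, H a smooth k-group scheme of finite type, and U a dense open
subset of H. Then every k-rational point h of H is of the form u₂ · u₁⁻¹ for k-rational points u₁,
u₂ of H whose underlying points lie in U. -/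
theorem result (k : Type u) [Field k] [IsAlgClosed k]
    (H : Over (Spec (CommRingCat.of k))) [GrpObj H] [Smooth H.hom] [QuasiCompact H.hom]
    (U : H.left.Opens) (hU : Dense (U : Set ↥H.left)) (h : 𝟙_ (Over (Spec (CommRingCat.of k))) ⟶ H) :
    ∃ u₁ u₂ : 𝟙_ (Over (Spec (CommRingCat.of k))) ⟶ H,
      u₁.left.base (IsLocalRing.closedPoint k) ∈ U ∧ u₂.left.base (IsLocalRing.closedPoint k) ∈ U ∧
        h = u₂ * u₁⁻¹ := by
  haveI : LocallyOfFiniteType H.hom := inferInstance
  let e : H ⟶ H := (toUnit H ≫ h) * 𝟙 H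
  haveI : IsIso e := ⟨(toUnit H ≫ h)⁻¹ * 𝟙 H, by simp [e, MonObj.comp_mul, GrpObj.comp_inv, comp_toUnit_assoc],
    by simp [e, MonObj.comp_mul, comp_toUnit_assoc]⟩
  haveI : IsIso e.left := inferInstanceAs (IsIso ((Over.forget _).map e))
  let V : H.left.Opens := U ⊓ e.left ⁻¹ᵁ U
  have hne : Nonempty H.left := ⟨η[H].left (IsLocalRing.closedPoint k)⟩
  have hV : (V : Set H.left).Nonempty := by
    have hd : Dense ((e.left ⁻¹ᵁ U : H.left.Opens) : Set H.left) := hU.preimage e.left.isOpenEmbedding.isOpenMap
    exact (hU.inter_of_isOpen_left hd U.2).nonempty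
  haveI : JacobsonSpace H.left := LocallyOfFiniteType.jacobsonSpace H.hom
  obtain ⟨x, hxV, hx⟩ := nonempty_inter_closedPoints hV V.2.isLocallyClosed
  let a : 𝟙_ (Over (Spec (CommRingCat.of k))) ⟶ H :=
    Over.homMk (pointOfClosedPoint H.hom x hx) (pointOfClosedPoint_comp _ _ _)
  have ha : a.left (IsLocalRing.closedPoint k) ∈ V := by simpa [a] using hxV
  refine ⟨a, h * a, ha.1, ?_, by rw [mul_inv_cancel_right]⟩
  have : a ≫ e = h * a := by
    simp only [e, MonObj.comp_mul, Category.comp_id, comp_toUnit_assoc]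
    rw [show toUnit (𝟙_ (Over (Spec (CommRingCat.of k)))) = 𝟙 _ from toUnit_unique _ _, Category.id_comp]
  rw [← this]
  exact ha.2

end Groth.Agent.S15596
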