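import Groth.Statements.S15598
import Groth.Agent.HomTranslLib.Basic
import Groth.Agent.OrbitLib.Main
import Groth.Agent.OrbitLib.Smooth
import Groth.Agent.Unram17Lib.FibreMap
-- import your own Groth.Agent.* helpers here

set_option autoImplicit false
set_option backward.isDefEq.respectTransparency false
set_option maxHeartbeats 800000
universe u
open CategoryTheory MonoidalCategory CartesianMonoidalCategory MonObj GrpObj AlgebraicGeometry
open AlgGrp

namespace Groth.Agent.S15598

open CategoryTheory.Limits in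
theorem flat_orbitMap {k : Type u} [Field k] {G X : Over (Spec (CommRingCat.of k))} [GrpObj G] [Smooth X.hom]
    [Nonempty X.left] (a : AlgGrp.Action G X) (x₀ : 𝟙_ (Over (Spec (CommRingCat.of k))) ⟶ X)
    (hsurj : Surjective (a.orbitMap x₀).left) : Flat (a.orbitMap x₀).left := by
  haveI : IsReduced X.left := AlgSpLib.isReduced_of_smooth X.hom
  obtain ⟨θ, hθ, -⟩ := Groth.Agent.HomogDense.exists_isMax_specializes (Classical.arbitrary X.left)
  obtain ⟨g, hg⟩ := hsurj.surj θ
  have hF : ((a.orbitMap x₀).left.stalkMap g).hom.Flat := by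
    algebraize [((a.orbitMap x₀).left.stalkMap g).hom]
    letI := (OrbitLib.isField_stalk_of_max ((a.orbitMap x₀).left g) (hg ▸ hθ)).toField
    exact (inferInstance : Module.Flat (X.left.presheaf.stalk ((a.orbitMap x₀).left g)) (G.left.presheaf.stalk g))
  refine HomTransl.flat_of_flatAt (a := a) ?_ g hF
  have e : μ[G] = fst G G * snd G G := by rw [Hom.mul_def, lift_fst_snd, Category.id_comp]
  have e2 : G ◁ a.orbitMap x₀ = lift (fst G G) (snd G G ≫ a.orbitMap x₀) := by ext <;> simp
  rw [OrbitLib.comp_orbitMap, e, GrpShear.lift_mul_act, e2, OrbitLib.comp_orbitMap]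

/-- Let k be an algebraically closed field, G a k-group scheme of finite type, and X a smooth connected
k-scheme with an action of G. Suppose that for some k-point x₀ of X the orbit map g ↦ g · x₀ from G
to X is surjective, and that the stabilizer of x₀, a subgroup scheme H ⟶ G whose points are exactly
the points g of G with g · x₀ = x₀, is connected. Then G is connected. (Stated over an algebraically
closed field, to which the general case reduces since a k-group scheme of finite type is connected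
exactly when it is geometrically connected.) -/
theorem result (k : Type u) [Field k] [IsAlgClosed k]
    (G X : Over (Spec (CommRingCat.of k))) [GrpObj G] [LocallyOfFiniteType G.hom] [QuasiCompact G.hom]
    [Smooth X.hom] [ConnectedSpace ↥X.left] (a : AlgGrp.Action G X) (x₀ : 𝟙_ (Over (Spec (CommRingCat.of k))) ⟶ X)
    (hsurj : Surjective (a.orbitMap x₀).left)
    (H : Over (Spec (CommRingCat.of k))) [GrpObj H] (i : H ⟶ G) [IsMonHom i] [Mono i]
    (hH : ∀ (T : Over (Spec (CommRingCat.of k))) (g : T ⟶ G), (∃ h : T ⟶ H, h ≫ i = g) ↔ g ≫ a.orbitMap x₀ = toUnit T ≫ x₀)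
    [ConnectedSpace ↥H.left] : ConnectedSpace ↥G.left := by
  haveI := flat_orbitMap a x₀ hsurj
  let o := a.orbitMap x₀
  haveI : LocallyOfFinitePresentation (o.left ≫ X.hom) :=
    (Over.w o).symm ▸ (inferInstance : LocallyOfFinitePresentation G.hom)
  haveI : LocallyOfFinitePresentation o.left := Unram17Lib.lfp_of_comp_lft o.left X.hom
  haveI : UniversallyOpen o.left := inferInstance
  haveI : JacobsonSpace X.left := LocallyOfFiniteType.jacobsonSpace X.hom
  haveI : JacobsonSpace G.left := LocallyOfFiniteType.jacobsonSpace G.hom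
  haveI : Nonempty G.left := ⟨η[G].left (IsLocalRing.closedPoint k : PrimeSpectrum k)⟩
  refine (connectedSpace_iff_clopen).mpr ⟨inferInstance, fun U hU => ?_⟩
  by_contra hne
  push Not at hne
  obtain ⟨hUne, hUtop⟩ := hne
  have hUne' : U.Nonempty := hUne
  have hVne : Uᶜ.Nonempty := Set.nonempty_compl.mpr hUtop
  have hcover : o.left '' U ∪ o.left '' Uᶜ = Set.univ := by
    rw [← Set.image_union, Set.union_compl_self, Set.image_univ, Set.range_eq_univ]
    exact hsurj.surj
  obtain ⟨x, -, hxU, hxV⟩ := isPreconnected_univ (α := X.left) (o.left '' U) (o.left '' Uᶜ)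
    (o.left.isOpenMap _ hU.2) (o.left.isOpenMap _ hU.1.isOpen_compl) hcover.ge
    (by simpa using hUne'.image o.left) (by simpa using hVne.image o.left)
  obtain ⟨p, ⟨hpU, hpV⟩, hp⟩ := nonempty_inter_closedPoints (Z := o.left '' U ∩ o.left '' Uᶜ) ⟨x, hxU, hxV⟩
    ((o.left.isOpenMap _ hU.2).inter (o.left.isOpenMap _ hU.1.isOpen_compl)).isLocallyClosed
  let xp : 𝟙_ (Over (Spec (CommRingCat.of k))) ⟶ X :=
    Over.homMk (pointOfClosedPoint X.hom p hp) (pointOfClosedPoint_comp _ _ _)
  have hclosed : IsClosed (o.left ⁻¹' {p}) := (mem_closedPoints_iff.mp hp).preimage o.left.continuous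
  have hlift : ∀ y : 𝟙_ (Over (Spec (CommRingCat.of k))) ⟶ G, Set.range y.left ⊆ o.left ⁻¹' {p} → y ≫ o = xp := by
    intro y hy
    refine Over.OverMorphism.ext (ext_of_apply_closedPoint_eq X.hom (Over.w (y ≫ o)) (Over.w xp) ?_)
    rw [Over.comp_left, Scheme.Hom.comp_apply]
    exact (show _ ∈ ({p} : Set X.left) from hy ⟨_, rfl⟩).trans (pointOfClosedPoint_apply X.hom p hp _).symm
  obtain ⟨g₀, hg₀⟩ := OrbitLib.exists_rational_point (X := G) hclosed (hsurj.surj p)
  let φ : H ⟶ G := (toUnit H ≫ g₀) * i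
  have hφ : ∀ (q : H.left), o.left (φ.left q) = p := by
    intro q
    have h1 : i ≫ a.orbitMap x₀ = toUnit H ≫ x₀ := (hH H i).mp ⟨𝟙 H, Category.id_comp i⟩
    have h2 : φ ≫ o = toUnit H ≫ xp := by
      rw [← hlift g₀ hg₀, ← Category.assoc]
      show φ ≫ a.orbitMap x₀ = (toUnit H ≫ g₀) ≫ a.orbitMap x₀
      rw [OrbitLib.comp_orbitMap, OrbitLib.comp_orbitMap]
      rw [GrpShear.lift_mul_act, ← OrbitLib.comp_orbitMap, h1]
    rw [← Scheme.Hom.comp_apply, ← Over.comp_left, h2, Over.comp_left, Scheme.Hom.comp_apply]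
    exact pointOfClosedPoint_apply X.hom p hp _
  have hmeet : ∀ W : Set G.left, IsOpen W → p ∈ o.left '' W → ∃ q, φ.left q ∈ W := by
    rintro W hW ⟨w, hw, hwp⟩
    obtain ⟨z, ⟨hzW, hzp⟩, hz⟩ := nonempty_inter_closedPoints (Z := W ∩ o.left ⁻¹' {p}) ⟨w, hw, hwp⟩
      (hW.isLocallyClosed.inter hclosed.isLocallyClosed)
    let y : 𝟙_ (Over (Spec (CommRingCat.of k))) ⟶ G :=
      Over.homMk (pointOfClosedPoint G.hom z hz) (pointOfClosedPoint_comp _ _ _)
    have hy : y ≫ o = xp := hlift y (by
      rintro _ ⟨q, rfl⟩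
      exact (pointOfClosedPoint_apply G.hom z hz q).symm ▸ hzp)
    obtain ⟨h, hh⟩ := (hH _ (g₀⁻¹ * y)).mpr (by
      rw [OrbitLib.comp_orbitMap, GrpShear.lift_mul_act, ← OrbitLib.comp_orbitMap, hy, ← hlift g₀ hg₀,
        OrbitLib.comp_orbitMap, ← GrpShear.lift_mul_act, inv_mul_cancel, GrpShear.lift_one_act])
    refine ⟨h.left (IsLocalRing.closedPoint k : PrimeSpectrum k), ?_⟩
    have e : h ≫ φ = y := by
      rw [MonObj.comp_mul, hh, ← Category.assoc, toUnit_unique (h ≫ toUnit H) (𝟙 _), Category.id_comp, mul_inv_cancel_left]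
    rw [← Scheme.Hom.comp_apply, ← Over.comp_left, e]
    exact (pointOfClosedPoint_apply G.hom z hz _).symm ▸ hzW
  obtain ⟨q₁, h1⟩ := hmeet U hU.2 hpU
  obtain ⟨q₂, h2⟩ := hmeet Uᶜ hU.1.isOpen_compl hpV
  rcases isClopen_iff.mp (hU.preimage φ.left.continuous) with h | h
  · exact Set.notMem_empty q₁ (h ▸ h1)
  · exact h2 (show q₂ ∈ φ.left ⁻¹' U from h ▸ Set.mem_univ q₂)

end Groth.Agent.S15598
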