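import Groth.Statements.S15599
import Groth.Agent.BorelLib.RedUnip
import Groth.Agent.BorelLib.RedPtsMore
import Groth.Agent.BorelLib.Frame
import Groth.Agent.BorelLib.Image
-- import your own Groth.Agent.* helpers here

set_option autoImplicit false
set_option maxHeartbeats 4000000
set_option synthInstance.maxHeartbeats 400000
set_option backward.isDefEq.respectTransparency false
universe u
open CategoryTheory MonoidalCategory CartesianMonoidalCategory MonObj GrpObj AlgebraicGeometry
open AGF

attribute [-instance] CategoryTheory.Hom.commGroup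

namespace Groth.Agent.S15599

open Groth.Agent.BorelLib
attribute [local instance] BorelLib.pTop BorelLib.pTopTensor

/-- Let k be an algebraically closed field and G a smooth affine k-group scheme, not necessarily
connected, whose unipotent radical is trivial: every smooth connected normal closed subgroup scheme
of G containing no non-trivial subtorus is trivial. Let N ⟶ G be a smooth closed normal subgroup
scheme, not necessarily connected. Then N has the same property: every smooth connected closed
subgroup scheme of N which is normal in N and contains no non-trivial subtorus is trivial.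
Reductivity, in this sense allowing disconnected groups, passes to smooth normal subgroups. (The
published statement is over an arbitrary field, with reductivity defined after extension to an
algebraic closure; this row is the algebraically closed case.) -/
theorem result (k : Type u) [Field k] [IsAlgClosed k]
    (G N : Over (Spec (CommRingCat.of k))) [GrpObj G] [GrpObj N] [IsAffine G.left] [Smooth G.hom]
    (j : N ⟶ G) [IsMonHom j] (hj : IsClosedImmersion j.left) [Smooth N.hom] (hN : AlgGrp.IsNormalHom j)
    (hG : ∀ (U : Over (Spec (CommRingCat.of k))) [GrpObj U] (i : U ⟶ G) [IsMonHom i], IsClosedImmersion i.left → Smooth U.hom →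
        ConnectedSpace ↥U.left → AlgGrp.IsNormalHom i → Red.HasNoSubtorus k U → Red.IsTrivialGrp U) :
    ∀ (U : Over (Spec (CommRingCat.of k))) [GrpObj U] (i : U ⟶ N) [IsMonHom i], IsClosedImmersion i.left → Smooth U.hom →
        ConnectedSpace ↥U.left → AlgGrp.IsNormalHom i → Red.HasNoSubtorus k U → Red.IsTrivialGrp U := by
  intro U _ i _ hi hUs hUc hUn hno
  haveI := hj; haveI := hi; haveI := hUs; haveI := hUc
  obtain ⟨A, _, _, v, hv, hA, -⟩ := exists_setup G
  haveI := hv; haveI := hA
  haveI : QuasiCompact G.hom := inferInstance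
  haveI : IsClosedImmersion (i ≫ j).left := by rw [Over.comp_left]; infer_instance
  refine ptsSub_eq_bot v (i := i ≫ j) (le_bot_iff.1 ?_)
  have hu := uni_of_hasNoSubtorus v (i ≫ j) hno
  set P := ptsSub v j with hP
  set U' := ptsSub v (i ≫ j) with hU'
  have hUP : U' ≤ P := fun x hx => by
    obtain ⟨b, hb⟩ := (mem_ptsSub v).1 hx
    exact (mem_ptsSub v).2 ⟨b ≫ i, by rw [Category.assoc, hb]⟩
  have hUP' : ∀ g ∈ P, conjSub g U' ≤ U' := by
    rintro g hg _ ⟨x, hx, rfl⟩
    obtain ⟨a, ha⟩ := (mem_ptsSub v).1 hg
    obtain ⟨b, hb⟩ := (mem_ptsSub v).1 hx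
    obtain ⟨c, hc⟩ := hUn _ a b
    refine (mem_ptsSub v).2 ⟨c, ?_⟩
    show _ = ptEquiv v (g * x * g⁻¹)
    rw [map_mul, map_mul, map_inv, ← ha, ← hb, ← Category.assoc, ← hc, MonObj.mul_comp, MonObj.mul_comp, GrpObj.inv_comp,
      Category.assoc]
  set K := neut P
  have hPc : IsClosed (P : Set (Pt k A)) := isClosed_ptsSub v
  have hKc : IsClosed (K : Set (Pt k A)) := isClosed_neut hPc
  have hUK : U' ≤ K := le_neut (isPreconnected_ptsSub v) hUP
  obtain ⟨B, _, _, f, hB, hB', hf, hfind, hfinj, hfr, -⟩ := exists_frame hKc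
  haveI := hB; haveI := hB'
  have hfimg : f '' (Set.univ : Set (Pt k B)) = (K : Set (Pt k A)) := by
    rw [Set.image_univ, ← MonoidHom.coe_range, hfr]
  have hBconn : _root_.IsPreconnected (Set.univ : Set (Pt k B)) :=
    hfind.isPreconnected_image.1 (hfimg.symm ▸ isPreconnected_neut P)
  obtain ⟨hc, hp, hs, hn, -⟩ := radSub_facts (k := k) (A := B) hBconn
  set S := (radSub k B).map f
  obtain ⟨hSc, hSp⟩ := isClosed_map hf hc hp
  have hUS : U' ≤ S := fun x hx => by
    obtain ⟨y, rfl⟩ := hfr.ge (hUK hx)
    refine Subgroup.mem_map_of_mem f (le_radSub hBconn (N := U'.comap f) ?_ ?_ ?_ hx)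
    · refine hfind.isPreconnected_image.1 ?_
      rw [Subgroup.coe_comap, Set.image_preimage_eq_of_subset (fun z hz => hfr.ge (hUK hz))]
      exact isPreconnected_ptsSub v
    · rintro g _ ⟨z, hz, rfl⟩
      exact hUP' (f g) (neut_le P (hfr.le ⟨g, rfl⟩)) ⟨f z, hz, by simp⟩
    · obtain ⟨n, hn⟩ := isSol_of_uni (isClosed_ptsSub v) (isPreconnected_ptsSub v) hu
      refine ⟨n, (Subgroup.map_eq_bot_iff_of_injective _ hfinj).1 (le_bot_iff.1 ?_)⟩
      rw [← der_map, ← hn]
      exact der_mono (Subgroup.map_comap_le _ _) n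
  have hSn : ∀ g, conjSub g S ≤ S := fun g => by
    have hKn : ∀ (a : Pt k A) (x : Pt k B), ∃ y, f y = a * f x * a⁻¹ := fun a x =>
      hfr.ge (le_neut (isPreconnected_conjSub (isPreconnected_neut P))
        ((conjSub_mono (neut_le P)).trans (conjSub_le_of_normal v hN a)) ⟨f x, hfr.le ⟨x, rfl⟩, rfl⟩)
    choose c hc' using hKn
    let e : Pt k B ≃* Pt k B :=
      { toFun := c g
        invFun := c g⁻¹
        left_inv := fun x => hfinj (by rw [hc', hc']; group)
        right_inv := fun x => hfinj (by rw [hc', hc']; group)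
        map_mul' := fun x y => hfinj (by simp only [map_mul, hc']; group) }
    have he : Continuous e := hfind.continuous_iff.2 (by
      have : (f ∘ e) = fun x => g * f x * g⁻¹ := funext fun x => hc' g x
      rw [this]; exact (continuous_conjBy g).comp hf.continuous)
    rintro _ ⟨_, ⟨x, hx, rfl⟩, rfl⟩
    exact ⟨c g x, map_radSub_le hBconn e he ⟨x, hx, rfl⟩, hc' g x⟩
  obtain ⟨D, hD⟩ := exists_flag_uni hSc hSp (hs.map f)
  obtain ⟨H, _, n, hin, hic, hsm, hpts, hHc, -⟩ := exists_scheme_sub v (isClosed_neut (D.isClosed_U hSc 1) (P := D.U 1))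
  haveI := hin; haveI := hic; haveI := hsm
  haveI := hHc (isPreconnected_neut _)
  haveI : IsAffine H.left := isAffine_of_isAffineHom n.left
  have htriv : Red.IsTrivialGrp H := hG H n hic hsm inferInstance
    (isNormalHom_of_pts v fun g => by
      rw [hpts]
      refine le_neut (isPreconnected_conjSub (isPreconnected_neut _)) ((conjSub_mono (neut_le _)).trans ?_)
      rintro _ ⟨x, hx, rfl⟩
      exact (hD _).2 ⟨hSn g ⟨x, ((hD x).1 hx).1, rfl⟩, ((hD x).1 hx).2.conj g⟩)
    (hasNoSubtorus_of_uni v n fun x hx => by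
      rw [hpts] at hx
      exact ((hD x).1 (neut_le _ hx)).2)
  rw [← ptsSub_of_trivial v (i := n) htriv, hpts]
  exact le_neut (isPreconnected_ptsSub v) fun x hx => (hD x).2 ⟨hUS hx, hu x hx⟩

end Groth.Agent.S15599
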