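import Groth.Statements.S1560
import Groth.Agent.SweepSix.FieldsRed
-- import your own Groth.Agent.* helpers here

set_option autoImplicit false
universe u
open CategoryTheory CategoryTheory.Limits AlgebraicGeometry
open Variety

namespace Groth.Agent.S1560

/-- Let X be a scheme over a perfect field k and x a point whose local ring is reduced. Then X is
geometrically reduced at x. -/
theorem result (k : Type u) [Field k] (X : Scheme.{u}) [X.Over (Spec (CommRingCat.of k))] [PerfectField k] (x : X)
    [IsReduced (X.presheaf.stalk x)] : Curv2.IsGeomReducedAt k X x := by
  intro K _ _ x' hx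
  exact SweepSix.FieldsRed.isReduced_stalk_of_perfect (X ↘ Spec (CommRingCat.of k)) x ‹_› K x' hx

end Groth.Agent.S1560
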