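import Groth.Statements.S15600
import Groth.Agent.RadQuotLib.NormalGen

set_option autoImplicit false
set_option maxHeartbeats 4000000
set_option synthInstance.maxHeartbeats 400000
set_option backward.isDefEq.respectTransparency false
universe u
open CategoryTheory MonoidalCategory CartesianMonoidalCategory MonObj GrpObj AlgebraicGeometry
open AGF

attribute [-instance] CategoryTheory.Hom.commGroup

namespace Groth.Agent.S15600

open Groth.Agent CategoryTheory.Limits
attribute [local instance] BorelLib.pTop BorelLib.pTopTensor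

/-- Let k be a field, G a smooth affine k-group scheme and G⁰ ⟶ G its identity component, that is, an
open subgroup scheme whose underlying space is connected. If U ⟶ G⁰ is the k-unipotent radical of G⁰
(the largest normal closed subgroup scheme of G⁰, smooth and quasi-compact over k, with connected
geometric fibre containing no non-trivial subtorus), then the composite U ⟶ G⁰ ⟶ G is the
k-unipotent radical of G. -/
theorem result (k : Type u) [Field k]
    (G G₀ U : Over (Spec (CommRingCat.of k))) [GrpObj G] [GrpObj G₀] [GrpObj U] [IsAffine G.left] [Smooth G.hom]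
    (j : G₀ ⟶ G) [IsMonHom j] [IsOpenImmersion j.left] [ConnectedSpace ↥G₀.left]
    (u : U ⟶ G₀) (hu : Par.IsUnipotentRadical u) : Par.IsUnipotentRadical (u ≫ j) := by
  let s : ↥(Spec (CommRingCat.of k)) := IsLocalRing.closedPoint k
  obtain ⟨huM, huc, hun, hus, huq, hug, humax⟩ := hu
  haveI := huM; haveI := huc; haveI := hus
  haveI := BorelLib.connectedSpace_of_geom s U (hug s).1
  haveI : IsLocallyNoetherian G.left := LocallyOfFiniteType.isLocallyNoetherian G.hom
  haveI : QuasiCompact G.hom := inferInstance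
  haveI : LocallyOfFiniteType G₀.hom := by rw [← Over.w j]; infer_instance
  haveI : QuasiCompact G₀.hom := by rw [← Over.w j]; infer_instance
  haveI : Flat G₀.hom := GrpField.flat_field _
  haveI : Flat G.hom := GrpField.flat_field _
  haveI : IsSeparated G.hom := inferInstance
  haveI : Mono j := Over.mono_of_mono_left j
  haveI : QuasiCompact j.left := inferInstance
  haveI : IsClosedImmersion j.left := GrpHom.isClosedImmersion_of_mono_artinian j
  haveI : IsClosedImmersion (u ≫ j).left := by rw [Over.comp_left]; infer_instance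
  have hcomp := AntiAffLib.range_eq_component j
  have hsub : ∀ {X : Over (Spec (CommRingCat.of k))} [GrpObj X] [ConnectedSpace X.left] (x : X ⟶ G) [IsMonHom x],
      Set.range x.left ⊆ Set.range j.left := fun {X} _ _ x _ => by
    rw [hcomp]
    exact (isPreconnected_range x.left.continuous).subset_connectedComponent
      ⟨GrpField.unitPt X, congr($(IsMonHom.one_hom x).left (IsLocalRing.closedPoint k))⟩
  have hlift : ∀ {X : Over (Spec (CommRingCat.of k))} [GrpObj X] [ConnectedSpace X.left] (x : X ⟶ G) [IsMonHom x],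
      ∃ x₀ : X ⟶ G₀, IsMonHom x₀ ∧ x₀ ≫ j = x := fun {X} _ _ x _ => by
    let x₀ : X ⟶ G₀ := Over.homMk (IsOpenImmersion.lift j.left x.left (hsub x)) (by
      rw [← Over.w j, ← Category.assoc, IsOpenImmersion.lift_fac, Over.w x])
    have hx₀ : x₀ ≫ j = x := Over.OverMorphism.ext (IsOpenImmersion.lift_fac _ _ _)
    haveI : IsMonHom (x₀ ≫ j) := by rw [hx₀]; infer_instance
    exact ⟨x₀, DiagRep.isMonHom_of_comp_mono x₀ j, hx₀⟩
  obtain ⟨N, _, i, hiM, hic, hNs, hNc, hNn, ⟨f', hf'⟩, hr, hv⟩ := RadQuot.exists_normal_closure (u ≫ j)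
  haveI := hiM; haveI := hic; haveI := hNs; haveI := hNc
  have hgeom : ∀ s' : ↥(Spec (CommRingCat.of k)), ConnectedSpace (Red.geomFibre s' N).left ∧
      Red.HasNoSubtorus (AlgebraicClosure ((Spec (CommRingCat.of k)).residueField s')) (Red.geomFibre s' N) := fun s' =>
    RadQuot.noSubtorus_normal_closure s' j u hun (hug s') i hNn (hsub i) f' hf' hr hv
  obtain ⟨i₀, hi₀M, hi₀⟩ := hlift i
  haveI := hi₀M
  haveI : IsClosedImmersion (i₀.left ≫ j.left) := by rw [← Over.comp_left, hi₀]; exact hic
  haveI : IsClosedImmersion i₀.left := IsClosedImmersion.of_comp i₀.left j.left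
  have hi₀n : AlgGrp.IsNormalHom i₀ := fun T g n => by
    obtain ⟨n', hn'⟩ := hNn T (g ≫ j) n
    refine ⟨n', (cancel_mono j).1 ?_⟩
    rw [MonObj.mul_comp, MonObj.mul_comp, GrpObj.inv_comp, Category.assoc, Category.assoc, hi₀, hn']
  haveI : QuasiCompact N.hom := by rw [← Over.w i]; infer_instance
  obtain ⟨l, hl⟩ := humax N i₀ inferInstance hi₀n hNs inferInstance hgeom
  refine ⟨inferInstance, inferInstance, fun T g n => ⟨(lift n g ≫ f') ≫ l, ?_⟩, hus, huq, hug,
    fun U' _ u' _ hc' hn' hs' hq' hg' => ?_⟩
  · rw [Category.assoc, Category.assoc, ← Category.assoc l, hl, hi₀, hf', RadQuot.comp_conjMap, lift_fst, lift_snd]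
  haveI := hc'
  haveI := BorelLib.connectedSpace_of_geom s U' (hg' s).1
  obtain ⟨u₁, hu₁M, hu₁⟩ := hlift u'
  haveI := hu₁M
  haveI : IsClosedImmersion (u₁.left ≫ j.left) := by rw [← Over.comp_left, hu₁]; exact hc'
  haveI : IsClosedImmersion u₁.left := IsClosedImmersion.of_comp u₁.left j.left
  obtain ⟨f, hf⟩ := humax U' u₁ inferInstance (fun T g n => by
    obtain ⟨n', hn''⟩ := hn' T (g ≫ j) n
    refine ⟨n', (cancel_mono j).1 ?_⟩
    rw [MonObj.mul_comp, MonObj.mul_comp, GrpObj.inv_comp, Category.assoc, Category.assoc, hu₁, hn'']) hs' hq' hg'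
  exact ⟨f, by rw [← Category.assoc, hf, hu₁]⟩
end Groth.Agent.S15600
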