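import Groth.Statements.S15601
import Groth.Agent.S3266
import Groth.Agent.S3268
import Groth.Agent.LieKolchinLib.Basic
import Mathlib.GroupTheory.Abelianization.Defs
-- import your own Groth.Agent.* helpers here

set_option autoImplicit false
universe u v
open HopfRep

open scoped TensorProduct commutatorElement

namespace Groth.Agent.S15601

/-- Let k be an algebraically closed field and G = Spec A a smooth connected affine k-group: A is a
finitely generated commutative Hopf algebra over k which is reduced and has no idempotents other
than 0 and 1. Suppose G is solvable, i.e. the group G(k) of k-algebra maps A → k under convolution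
is solvable. Then the derived group of G is unipotent: every element of the commutator subgroup of
G(k) acts in every finite-dimensional A-comodule by an operator u with u − 1 nilpotent. (Stated over
an algebraically closed field, where the derived group is determined by the commutators of k-points;
the case of a general field reduces to this one.) -/
theorem result (k : Type u) [Field k] [IsAlgClosed k]
    (A : Type v) [CommRing A] [HopfAlgebra k A] [Algebra.FiniteType k A] [IsReduced A]
    (hconn : ∀ e : A, IsIdempotentElem e → e = 0 ∨ e = 1)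
    [Group.IsSolvable (WithConv (A →ₐ[k] k))]
    (g : WithConv (A →ₐ[k] k)) (hg : g ∈ commutator (WithConv (A →ₐ[k] k)))
    (V : Type v) [AddCommGroup V] [Module k V] [HopfRep.Comod k A V] [Module.Finite k V] :
    IsNilpotent (HopfRep.Comod.act k A V g.ofConv - 1) := by
  
  classical
  letI : Group (WithConv (A →ₐ[k] k)) := inferInstance
  obtain ⟨F, hFmono, hFsub, hFdim⟩ :=
    Groth.Agent.S3268.result k A (Groth.Agent.S3266.result k A hconn) V
  have hrep : ∀ h : WithConv (A →ₐ[k] k), LieKolchinLib.rep V h = HopfRep.Comod.act k A V h.ofConv := fun h => rfl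
  rw [← hrep]
  let ρ := LieKolchinLib.rep (k := k) (A := A) V
  have hst : ∀ h i, ∀ v ∈ F i, ρ h v ∈ F i := by
    intro h i v hv
    rw [show ρ h = _ from hrep h]
    obtain ⟨z, hz⟩ := hFsub i v hv
    show TensorProduct.rid k V (LinearMap.lTensor V h.ofConv.toLinearMap (HopfRep.Comod.coact v)) ∈ F i
    rw [← hz]
    clear hz
    induction z using TensorProduct.induction_on with
    | zero => simp
    | add x y hx hy => simp only [map_add]; exact add_mem hx hy
    | tmul x y => simpa using Submodule.smul_mem _ _ x.2
  have hone : ∀ u, ρ 1 u = u := fun u => by rw [map_one]; rfl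
  have hmul : ∀ x y u, ρ (x * y) u = ρ x (ρ y u) := fun x y u => by rw [map_mul]; rfl
  let n := Module.finrank k V
  let H : Subgroup (WithConv (A →ₐ[k] k)) :=
    { carrier := {h | ∀ i < n, ∀ v ∈ F (i + 1), ρ h v - v ∈ F i}
      one_mem' := fun i _ v _ => by rw [hone, sub_self]; exact zero_mem _
      mul_mem' := fun {x y} hx hy i hi v hv => by
        have h := add_mem (hx i hi _ (hst y _ v hv)) (hy i hi v hv)
        rwa [← hmul, sub_add_sub_cancel] at h
      inv_mem' := fun {x} hx i hi v hv => by
        have h := hx i hi _ (hst x⁻¹ _ v hv)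
        rw [← hmul, mul_inv_cancel, hone] at h
        rw [← neg_sub]
        exact neg_mem h }
  have hcomm : commutator (WithConv (A →ₐ[k] k)) ≤ H := by
    rw [commutator_eq_closure, Subgroup.closure_le]
    rintro _ ⟨x, y, rfl⟩ i hi v hv
    have hlt : F i < F (i + 1) := lt_of_le_of_ne (hFmono (Nat.le_succ i)) fun h => by
      have := hFdim (i + 1) hi
      rw [← h, hFdim i (by omega)] at this
      omega
    obtain ⟨v0, hv0, hvn⟩ := SetLike.exists_of_lt hlt
    have hspan : F i ⊔ Submodule.span k {v0} = F (i + 1) := by
      refine Submodule.eq_of_le_of_finrank_le (sup_le hlt.le ((Submodule.span_singleton_le_iff_mem _ _).2 hv0)) ?_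
      have h1 : F i < F i ⊔ Submodule.span k {v0} := lt_of_le_of_ne le_sup_left fun h =>
        hvn (h ▸ Submodule.mem_sup_right (Submodule.mem_span_singleton_self v0))
      have := Submodule.finrank_lt_finrank_of_lt h1
      rw [hFdim i (by omega)] at this
      rw [hFdim (i + 1) hi]
      omega
    have hscal : ∀ h, ∃ c : k, ∀ u ∈ F (i + 1), ρ h u - c • u ∈ F i := by
      intro h
      have h1 := hst h (i + 1) v0 hv0
      rw [← hspan, Submodule.mem_sup] at h1
      obtain ⟨a, ha, b, hb, hab⟩ := h1
      obtain ⟨c, rfl⟩ := Submodule.mem_span_singleton.1 hb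
      refine ⟨c, fun u hu => ?_⟩
      rw [← hspan, Submodule.mem_sup] at hu
      obtain ⟨a', ha', b', hb', rfl⟩ := hu
      obtain ⟨d, rfl⟩ := Submodule.mem_span_singleton.1 hb'
      have key := add_mem (sub_mem (hst h i a' ha') (Submodule.smul_mem _ c ha')) (Submodule.smul_mem _ d ha)
      rw [map_add, map_smul, ← hab]
      convert key using 1
      module
    obtain ⟨cx, hcx⟩ := hscal x
    obtain ⟨cy, hcy⟩ := hscal y
    have hprod : ∀ u ∈ F (i + 1), ρ (x * y) u - ρ (y * x) u ∈ F i := by
      intro u hu
      have h1 := add_mem (hcx _ (hst y _ u hu)) (Submodule.smul_mem _ cx (hcy u hu))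
      have h2 := add_mem (hcy _ (hst x _ u hu)) (Submodule.smul_mem _ cy (hcx u hu))
      have h3 := sub_mem h1 h2
      rw [hmul, hmul]
      convert h3 using 1
      module
    have h := hprod _ (hst (y * x)⁻¹ _ v hv)
    rw [← hmul, ← hmul, mul_inv_cancel, hone] at h
    rw [show ⁅x, y⁆ = x * y * (y * x)⁻¹ by rw [commutatorElement_def]; group]
    exact h
  have hN : ∀ j ≤ n, ∀ v ∈ F j, ((ρ g - 1) ^ j) v = 0 := by
    intro j
    induction j with
    | zero =>
      intro h v hv
      rw [(Submodule.finrank_eq_zero).1 (hFdim 0 h)] at hv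
      simpa using hv
    | succ j ih =>
      intro h v hv
      rw [pow_succ, Module.End.mul_apply]
      exact ih (by omega) _ (hcomm hg j (by omega) v hv)
  refine ⟨n, LinearMap.ext fun v => ?_⟩
  exact hN n le_rfl v (by rw [Submodule.eq_top_of_finrank_eq (hFdim n le_rfl)]; trivial)


end Groth.Agent.S15601
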