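import Groth.Statements.S15602
import Groth.Agent.GaGmKerLib.GaPts
import Groth.Agent.LineRigidLib.Basic
-- import your own Groth.Agent.* helpers here

set_option autoImplicit false
universe u
open CategoryTheory MonoidalCategory CartesianMonoidalCategory MonObj GrpObj AlgebraicGeometry
open AlgGrp

namespace Groth.Agent.S15602

/-- Additive case. Let k be a field and consider the affine line over k, taken here as the underlying
k-scheme of the additive group. Any two structures of k-group scheme on it with the same unit
section have the same multiplication; in particular a group law on the affine line whose identity is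
the origin is the usual addition. -/
theorem result (k : Type u) [Field k]
    (h₁ h₂ : GrpObj (Red.Ga (Spec (CommRingCat.of k)))) (e : h₁.one = h₂.one) : h₁.mul = h₂.mul := by
  obtain ⟨c0, hc⟩ := @Groth.Agent.LineRigidLib.exists_unit_const k _ _ h₁ (fun {_} p => Red.gaFn p)
    (fun g p => Groth.Agent.GaPts.gaFn_comp g p)
  have key : ∀ h : GrpObj (Red.Ga (Spec (CommRingCat.of k))), h.one = h₁.one →
      Red.gaFn h.mul = Red.gaFn (fst (Red.Ga _) (Red.Ga _)) + Red.gaFn (snd (Red.Ga _) (Red.Ga _)) - Groth.Agent.LineRigidLib.rho _ c0 := by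
    intro h hone
    letI := h
    have hmul : h.mul = fst (Red.Ga _) (Red.Ga _) * snd (Red.Ga _) (Red.Ga _) := by
      rw [Hom.mul_def, lift_fst_snd, Category.id_comp]
    rw [hmul]
    refine Groth.Agent.LineRigidLib.add_law (fun {_} p => Red.gaFn p)
      (fun g p => Groth.Agent.GaPts.gaFn_comp g p) (fun {_} => Groth.Agent.GaPts.gaFn_injective)
      (fun a => ⟨_, Groth.Agent.GaPts.gaFn_ptOf a⟩) c0 (fun T => ?_) _ _
    refine Eq.trans ?_ (hc T)
    change Red.gaFn (toUnit T ≫ h.one) = Red.gaFn (toUnit T ≫ h₁.one)
    rw [hone]
  exact Groth.Agent.GaPts.gaFn_injective ((key h₁ rfl).trans (key h₂ e.symm).symm)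

end Groth.Agent.S15602
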