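import Groth.Statements.S15603
import Groth.Prelude.Def_GmPts
import Groth.Agent.LineRigidLib.Basic
-- import your own Groth.Agent.* helpers here

set_option autoImplicit false
universe u
open CategoryTheory MonoidalCategory CartesianMonoidalCategory MonObj GrpObj AlgebraicGeometry
open AlgGrp

namespace Groth.Agent.S15603

theorem inj {k : Type u} [Field k] {T : Over (Spec (CommRingCat.of k))} :
    Function.Injective (fun p : T ⟶ Red.Gm (Spec (CommRingCat.of k)) => Red.gmFn p) := fun p q h => by
  rw [← GmPts.ptOfUnit_unitOfPt p, ← GmPts.ptOfUnit_unitOfPt q]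
  exact congrArg _ (Units.ext h)


/-- Multiplicative case. Let k be a field and consider the affine line minus the origin over k, taken
here as the underlying k-scheme of the multiplicative group. Any two structures of k-group scheme on
it with the same unit section have the same multiplication; in particular a group law on the
punctured line whose identity is the point 1 is the usual multiplication. -/
theorem result (k : Type u) [Field k]
    (h₁ h₂ : GrpObj (Red.Gm (Spec (CommRingCat.of k)))) (e : h₁.one = h₂.one) : h₁.mul = h₂.mul := by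
  have hnat : ∀ {T T' : Over (Spec (CommRingCat.of k))} (g : T' ⟶ T) (p : T ⟶ Red.Gm (Spec (CommRingCat.of k))),
      Red.gmFn (g ≫ p) = g.left.appTop (Red.gmFn p) := fun g p => by
    rw [← GmPts.val_unitOfPt, GmPts.unitOfPt_comp]; rfl
  obtain ⟨c0, hc⟩ := @Groth.Agent.LineRigidLib.exists_unit_const k _ _ h₁ (fun {_} p => Red.gmFn p) hnat
  have hu : ∀ {T : Over (Spec (CommRingCat.of k))} (p : T ⟶ Red.Gm (Spec (CommRingCat.of k))), IsUnit (Red.gmFn p) :=
    fun p => ⟨GmPts.unitOfPt p, rfl⟩
  have key : ∀ h : GrpObj (Red.Gm (Spec (CommRingCat.of k))), h.one = h₁.one →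
      Groth.Agent.LineRigidLib.rho _ c0 * Red.gmFn h.mul =
        Red.gmFn (fst (Red.Gm _) (Red.Gm _)) * Red.gmFn (snd (Red.Gm _) (Red.Gm _)) := by
    intro h hone
    letI := h
    have hmul : h.mul = fst (Red.Gm _) (Red.Gm _) * snd (Red.Gm _) (Red.Gm _) := by
      rw [Hom.mul_def, lift_fst_snd, Category.id_comp]
    rw [hmul]
    refine Groth.Agent.LineRigidLib.mul_law (fun {_} p => Red.gmFn p) hnat (fun {_} => inj)
      hu (fun a ha => ⟨GmPts.ptOfUnit ha.unit, congrArg Units.val (GmPts.unitOfPt_ptOfUnit ha.unit)⟩) c0 (fun T => ?_) _ _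
    refine Eq.trans ?_ (hc T)
    change Red.gmFn (toUnit T ≫ h.one) = Red.gmFn (toUnit T ≫ h₁.one)
    rw [hone]
  have hc0 : IsUnit (Groth.Agent.LineRigidLib.rho (Red.Gm (Spec (CommRingCat.of k)) ⊗ Red.Gm (Spec (CommRingCat.of k))) c0) := by
    rw [← hc]
    exact hu _
  exact inj (hc0.mul_left_cancel ((key h₁ rfl).trans (key h₂ e.symm).symm))

end Groth.Agent.S15603
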