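import Groth.Statements.S15604
import Groth.Agent.AlbLib.Albanese
import Groth.Agent.AVAmpleLib.ReducedSub
-- import your own Groth.Agent.* helpers here

set_option autoImplicit false
set_option backward.isDefEq.respectTransparency false
set_option linter.style.haveILetI false
universe u
open CategoryTheory MonoidalCategory CartesianMonoidalCategory MonObj GrpObj AlgebraicGeometry
open AlgGrp

namespace Groth.Agent.S15604

/-- Let k be a field and f : G ⟶ G' a homomorphism of k-group schemes of finite type, with G smooth over
k. The image of f is closed (not asserted here); with its reduced induced structure it is smooth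
over k: every reduced closed subscheme H of G' whose underlying set is the set-theoretic image of f
is smooth over k. -/
theorem result (k : Type u) [Field k]
    (G G' : Over (Spec (CommRingCat.of k))) [GrpObj G] [GrpObj G'] [Smooth G.hom] [QuasiCompact G.hom]
    [LocallyOfFiniteType G'.hom] [QuasiCompact G'.hom] (f : G ⟶ G') [IsMonHom f]
    (H : Scheme.{u}) (i : H ⟶ G'.left) [IsClosedImmersion i] [IsReduced H]
    (hH : Set.range i.base = Set.range f.left.base) : Smooth (i ≫ G'.hom) := by
  haveI : Flat G.hom := Groth.Agent.GrpField.flat_field _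
  haveI : IsSeparated G'.hom := Groth.Agent.GrpField.isSeparated_grp (G := G')
  haveI : QuasiCompact f.left := by
    haveI : QuasiCompact (f.left ≫ G'.hom) := by rw [Over.w f]; infer_instance
    exact QuasiCompact.of_comp f.left G'.hom
  obtain ⟨C, _, p, iC, _, _, hpi, hpf, hps, hpl, hi⟩ :=
    Groth.Agent.GrpHom.exists_fppf_image f (Groth.Agent.GrpField.flat_field _)
  haveI := hi; haveI := hpf; haveI := hps; haveI := hpl
  haveI : Smooth C.hom := by
    haveI : Smooth (p.left ≫ C.hom) := by rw [Over.w p]; infer_instance
    exact FlatLib.smooth_of_fppf_comp p.left C.hom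
  haveI : IsReduced C.left := AlgSpLib.isReduced_of_smooth C.hom
  have hr : Set.range i = Set.range iC.left := by
    show Set.range i.base = _
    rw [hH, ← hpi, Over.comp_left, Scheme.Hom.comp_base, TopCat.coe_comp, Set.range_comp,
      Set.range_eq_univ.2 p.left.surjective, Set.image_univ]
  obtain ⟨φ, hφ⟩ := AVAmpleLib.exists_lift_of_reduced iC.left i hr.le
  obtain ⟨ψ, hψ⟩ := AVAmpleLib.exists_lift_of_reduced i iC.left hr.ge
  have h1 : φ ≫ ψ = 𝟙 H := by rw [← cancel_mono i, Category.assoc, hψ, hφ, Category.id_comp]
  have h2 : ψ ≫ φ = 𝟙 C.left := by rw [← cancel_mono iC.left, Category.assoc, hφ, hψ, Category.id_comp]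
  haveI : IsIso φ := ⟨ψ, h1, h2⟩
  rw [← hφ, Category.assoc, Over.w iC]
  infer_instance
end Groth.Agent.S15604
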