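import Mathlib
import Groth.Statements.S15605

-- import your own Groth.Agent.* helpers here

set_option autoImplicit false
universe u
open TensorProduct
open AGF

namespace Groth.Agent.S15605

/-- Affine form. Let k be a field, A and A' finitely generated commutative k-algebras and S, S' sets of
k-algebra homomorphisms A → k, A' → k. The closure of a set of rational points of Spec A is cut out
by the intersection of their kernels. Compatibility of these closures with products: in A ⊗_k A',
the intersection over (σ, σ') ∈ S × S' of the kernels of σ ⊗ σ' : A ⊗_k A' → k equals the ideal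
generated by the images of ⋂_{σ} ker σ and of ⋂_{σ'} ker σ'. -/
theorem result (k A A' : Type u) [Field k] [CommRing A] [Algebra k A]
    [Algebra.FiniteType k A] [CommRing A'] [Algebra k A'] [Algebra.FiniteType k A']
    (S : Set (A →ₐ[k] k)) (S' : Set (A' →ₐ[k] k)) :
    (⨅ σ ∈ S, ⨅ σ' ∈ S', RingHom.ker ((Algebra.TensorProduct.lmul' (S := k) k).comp
        (Algebra.TensorProduct.map σ σ'))) =
      Ideal.map (Algebra.TensorProduct.includeLeft : A →ₐ[k] A ⊗[k] A') (⨅ σ ∈ S, RingHom.ker σ) ⊔
        Ideal.map (Algebra.TensorProduct.includeRight : A' →ₐ[k] A ⊗[k] A') (⨅ σ' ∈ S', RingHom.ker σ') := by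
  classical
  let I := ⨅ σ ∈ S, RingHom.ker (σ : A →ₐ[k] k)
  let I' := ⨅ σ' ∈ S', RingHom.ker (σ' : A' →ₐ[k] k)
  have hI : ∀ a, a ∈ I ↔ ∀ σ ∈ S, σ a = 0 := fun a => by simp [I, Ideal.mem_iInf]
  have hI' : ∀ a, a ∈ I' ↔ ∀ σ ∈ S', σ a = 0 := fun a => by simp [I', Ideal.mem_iInf]
  refine le_antisymm (fun z hz => ?_) ?_
  · simp only [Ideal.mem_iInf, RingHom.mem_ker] at hz
    let π := Ideal.Quotient.mkₐ k I
    let π' := Ideal.Quotient.mkₐ k I'
    show z ∈ Ideal.map _ I ⊔ Ideal.map _ I'
    rw [show I = RingHom.ker π from (Ideal.Quotient.mkₐ_ker k I).symm,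
      show I' = RingHom.ker π' from (Ideal.Quotient.mkₐ_ker k I').symm,
      ← Algebra.TensorProduct.map_ker π π' Ideal.Quotient.mk_surjective Ideal.Quotient.mk_surjective,
      RingHom.mem_ker]
    let b := Module.Free.chooseBasis k (A ⧸ I)
    refine (TensorProduct.equivFinsuppOfBasisLeft b).injective ?_
    rw [map_zero]
    ext i
    obtain ⟨a', ha'⟩ := Ideal.Quotient.mk_surjective (TensorProduct.equivFinsuppOfBasisLeft b (Algebra.TensorProduct.map π π' z) i)
    rw [Finsupp.zero_apply, ← ha', Ideal.Quotient.eq_zero_iff_mem, hI']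
    intro σ' hσ'
    let τ : A ⊗[k] A' →ₐ[k] A := Algebra.TensorProduct.lift (AlgHom.id k A) ((Algebra.ofId k A).comp σ') (fun _ _ => .all _ _)
    have hτ : τ z ∈ I := by
      rw [hI]
      intro σ hσ
      rw [← hz σ hσ σ' hσ', ← AlgHom.comp_apply σ]
      congr 1
      exact Algebra.TensorProduct.ext (by ext; simp [τ]) (by ext; simp [τ])
    let τ' : (A' ⧸ I') →ₐ[k] k := Ideal.Quotient.liftₐ I' σ' fun a ha => (hI' a).1 ha σ' hσ'
    have key : ∀ w : A ⊗[k] A', b.repr (π (τ w)) i =
        τ' (TensorProduct.equivFinsuppOfBasisLeft b (Algebra.TensorProduct.map π π' w) i) := by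
      intro w
      induction w using TensorProduct.induction_on with
      | zero => simp
      | add x y hx hy => simp only [map_add, Finsupp.add_apply, hx, hy]
      | tmul x y =>
        have e1 : π (τ (x ⊗ₜ[k] y)) = σ' y • π x := by
          simp [τ, Algebra.smul_def, mul_comm]
        rw [e1, Algebra.TensorProduct.map_tmul, TensorProduct.equivFinsuppOfBasisLeft_apply_tmul_apply, map_smul,
          Finsupp.smul_apply, map_smul]
        simp [τ', π', mul_comm]
    have h0 := key z
    rw [show π (τ z) = 0 from Ideal.Quotient.eq_zero_iff_mem.2 hτ, map_zero, Finsupp.zero_apply, ← ha'] at h0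
    exact h0.symm
  · refine sup_le (Ideal.map_le_iff_le_comap.2 fun a ha => ?_) (Ideal.map_le_iff_le_comap.2 fun a ha => ?_)
    · simp only [Ideal.mem_comap, Ideal.mem_iInf, RingHom.mem_ker]
      intro σ hσ σ' hσ'
      simp [(hI a).1 ha σ hσ]
    · simp only [Ideal.mem_comap, Ideal.mem_iInf, RingHom.mem_ker]
      intro σ hσ σ' hσ'
      simp [(hI' a).1 ha σ' hσ']

end Groth.Agent.S15605
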