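import Groth.Statements.S15606
import Groth.Agent.GaGmKerLib.Main
import Groth.Agent.AntiAffLib.Image
import Groth.Agent.AbSchLib.Flat
import Groth.Agent.GenSubLib.Smallest
import Groth.Agent.WeilResLib.Transporter
import Groth.Agent.MonoQuotLib.Orbit
import Groth.Agent.S3280

set_option autoImplicit false
set_option maxHeartbeats 1000000
set_option backward.isDefEq.respectTransparency false
universe u
open CategoryTheory MonoidalCategory CartesianMonoidalCategory MonObj GrpObj AlgebraicGeometry
open AlgGrp

namespace Groth.Agent.S15606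

attribute [-instance] CategoryTheory.Hom.commGroup

open CategoryTheory.Limits in
theorem aux {k : Type u} [Field k] {Ga H : Over (Spec (CommRingCat.of k))} [GrpObj Ga] [GrpObj H]
    [LocallyOfFiniteType Ga.hom] [QuasiCompact Ga.hom] [IsReduced H.left]
    [LocallyOfFiniteType H.hom] [QuasiCompact H.hom]
    (hmain : ∀ {K : Over (Spec (CommRingCat.of k))} [GrpObj K] (i : K ⟶ Ga) [IsMonHom i] [Mono i] [IsFinite K.hom],
      ∃ φ : Ga ⟶ Ga, IsMonHom φ ∧ AlgGrp.IsKernel i φ ∧ Flat φ.left ∧ Surjective φ.left)
    (f : Ga ⟶ H) [IsMonHom f] [IsFinite f.left] [Surjective f.left] :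
    Nonempty (Grp.mk H ≅ Grp.mk Ga) := by
  haveI : Flat f.left := AntiAffLib.flat_of_surjective f
  let K := pullback f (η[H])
  let j : K ⟶ Ga := pullback.fst f (η[H])
  have hK : IsPullback j (toUnit K) f η[H] := by
    rw [toUnit_unique (toUnit K) (pullback.snd f (η[H]))]
    exact IsPullback.of_hasPullback _ _
  have hker : ∀ {T : Over (Spec (CommRingCat.of k))} (t : T ⟶ Ga), (∃ z, z ≫ j = t) ↔ t ≫ f = 1 := by
    intro T t
    constructor
    · rintro ⟨z, rfl⟩
      rw [Category.assoc, hK.w, ← Category.assoc, toUnit_unique (z ≫ toUnit K) (toUnit T), ← Hom.one_def]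
    · intro h
      exact ⟨hK.lift t (toUnit T) (by rw [h, Hom.one_def]), hK.lift_fst _ _ _⟩
  obtain ⟨hKg, hjM⟩ := Groth.Agent.WeilRes.exists_grpObj_of_pred j (fun {T} t => t ≫ f = 1) hker
    (MonObj.one_comp f) (fun {T} a b ha hb => by rw [MonObj.mul_comp, ha, hb, _root_.one_mul])
    (fun {T} a ha => by rw [GrpObj.inv_comp, ha, inv_one])
  letI := hKg
  haveI := hjM
  haveI : IsFinite K.hom := by
    haveI : IsFinite (toUnit K).left :=
      MorphismProperty.of_isPullback (P := @IsFinite) (hK.map (Over.forget _)) ‹IsFinite f.left›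
    rw [← Over.w (toUnit K)]
    haveI : IsFinite (𝟙_ (Over (Spec (CommRingCat.of k)))).hom :=
      inferInstanceAs (IsFinite (𝟙 (Spec (CommRingCat.of k))))
    infer_instance
  haveI : Mono (η[H] : 𝟙_ _ ⟶ H) := ⟨fun a b _ => toUnit_unique a b⟩
  haveI : Mono j := inferInstance
  obtain ⟨φ, hφm, hφk, hφf, hφs⟩ := hmain j
  haveI := hφm; haveI := hφf; haveI := hφs
  obtain ⟨a, ham, ha, -⟩ := Groth.Agent.S3280.result k Ga K H Ga f j hK φ hφk.w
  obtain ⟨b, hbm, hb, -⟩ := Groth.Agent.S3280.result k Ga K Ga H φ j hφk f hK.w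
  haveI := AntiAffLib.lfp_of_lft φ
  haveI := AntiAffLib.lfp_of_lft f
  haveI : Epi φ := Groth.Agent.MonoQuot.epi_over φ
  haveI : Epi f := Groth.Agent.MonoQuot.epi_over f
  let e : H ≅ Ga := ⟨a, b, by rw [← cancel_epi f, reassoc_of% ha, hb, Category.comp_id],
    by rw [← cancel_epi φ, reassoc_of% hb, ha, Category.comp_id]⟩
  exact ⟨Grp.mkIso e (by simpa using ham.one_hom) (by simpa using ham.mul_hom)⟩

/-- Additive case. Let k be a field, H an affine smooth connected k-group scheme, and f a homomorphism
from the additive group over k to H which is finite and surjective (an isogeny onto H). Then H is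
isomorphic, as a k-group scheme, to the additive group. In particular every quotient of the additive
group by a finite k-subgroup scheme is isomorphic to the additive group over k itself, for any field
k. -/
theorem result (k : Type u) [Field k]
    (H : Over (Spec (CommRingCat.of k))) [GrpObj H] [IsAffine H.left] [Smooth H.hom] [ConnectedSpace ↥H.left]
    (f : Red.Ga (Spec (CommRingCat.of k)) ⟶ H) [IsMonHom f] [IsFinite f.left] [Surjective f.left] :
    Nonempty (Grp.mk H ≅ Grp.mk (Red.Ga (Spec (CommRingCat.of k)))) := by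
  haveI : GeometricallyReduced H.hom := AbSchLib.geometricallyReduced_of_smooth H.hom
  haveI : LocallyOfFiniteType H.hom := inferInstance
  haveI : IsReduced H.left := Groth.Agent.GenSub.isReduced_of_gr H.hom
  haveI : QuasiCompact H.hom := quasiCompact_of_compactSpace _
  haveI : LocallyOfFiniteType (Red.Ga (Spec (CommRingCat.of k))).hom := by
    haveI : LocallyOfFiniteType f.left := inferInstance
    rw [← Over.w f]; infer_instance
  haveI : QuasiCompact (Red.Ga (Spec (CommRingCat.of k))).hom := by rw [← Over.w f]; infer_instance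
  exact aux (fun i _ _ _ => Groth.Agent.GaGmKer.ga_main i) f

end Groth.Agent.S15606
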