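import Groth.Statements.S15609
import Groth.Agent.WeilResLib.MonoTangent


-- import your own Groth.Agent.* helpers here

set_option autoImplicit false
universe u
open CategoryTheory MonoidalCategory CartesianMonoidalCategory MonObj GrpObj AlgebraicGeometry
open AlgGrp

namespace Groth.Agent.S15609

/-- The implication (ii) ⇒ (i). Let k be a field and f : G ⟶ G' a homomorphism of k-group schemes of
finite type. Suppose that f is injective on K-points for every algebraically closed field K over k,
and that f is injective on tangent spaces at the identity: every point of G with values in the dual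
numbers k[ε] which restricts to the identity at ε = 0 and is sent by f to the identity point of G'
is itself the identity point. Then f has trivial kernel: it is a monomorphism. (The published
statement assumes G smooth; this implication does not use it.) -/
theorem result (k : Type u) [Field k]
    (G G' : Over (Spec (CommRingCat.of k))) [GrpObj G] [GrpObj G'] [LocallyOfFiniteType G.hom] [QuasiCompact G.hom]
    [LocallyOfFiniteType G'.hom] [QuasiCompact G'.hom] (f : G ⟶ G') [IsMonHom f]
    (hgeom : ∀ (K : Type u) [Field K] [IsAlgClosed K] [Algebra k K],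
      Function.Injective (fun g : (Over.mk (Spec.map (CommRingCat.ofHom (algebraMap k K)))) ⟶ G => g ≫ f))
    (htan : ∀ g : (Over.mk (Spec.map (CommRingCat.ofHom (algebraMap k (DualNumber k))))) ⟶ G,
      (∀ x : 𝟙_ (Over (Spec (CommRingCat.of k))) ⟶ (Over.mk (Spec.map (CommRingCat.ofHom (algebraMap k (DualNumber k))))), x ≫ g = η[G]) →
        g ≫ f = toUnit _ ≫ η[G'] → g = toUnit _ ≫ η[G]) :
    Mono f := by
  let c : Spec (CommRingCat.of k) ⟶ G'.left := (η[G'] : 𝟙_ (Over (Spec (CommRingCat.of k))) ⟶ G').left
  haveI : LocallyOfFiniteType (f.left ≫ G'.hom) := by rw [Over.w]; infer_instance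
  haveI : LocallyOfFiniteType f.left := locallyOfFiniteType_of_comp f.left G'.hom
  let q : CategoryTheory.Limits.pullback f.left c ⟶ Spec (CommRingCat.of k) := CategoryTheory.Limits.pullback.snd f.left c
  have hq : CategoryTheory.Limits.pullback.fst f.left c ≫ G.hom = q := by
    have h := congrArg (· ≫ G'.hom) (CategoryTheory.Limits.pullback.condition (f := f.left) (g := c))
    simp only [Category.assoc, Over.w] at h
    exact h.trans ((congrArg (q ≫ ·) (Over.w η[G'])).trans (Category.comp_id _))
  let σ : Spec (CommRingCat.of k) ⟶ CategoryTheory.Limits.pullback f.left c :=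
    CategoryTheory.Limits.pullback.lift (η[G] : 𝟙_ (Over (Spec (CommRingCat.of k))) ⟶ G).left (𝟙 _) (by
      rw [← Over.comp_left, IsMonHom.one_hom, Category.id_comp])
  have hσ : σ ≫ q = 𝟙 _ := CategoryTheory.Limits.pullback.lift_snd _ _ _
  have key : ∀ {T : Scheme.{u}} (st : T ⟶ Spec (CommRingCat.of k)) (x : T ⟶ CategoryTheory.Limits.pullback f.left c)
      (hx : x ≫ q = st), (Over.homMk (x ≫ CategoryTheory.Limits.pullback.fst f.left c)
        (by rw [Category.assoc, hq]; exact hx) : Over.mk st ⟶ G) ≫ f = toUnit _ ≫ η[G'] := fun st x hx => by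
    ext1
    show (x ≫ CategoryTheory.Limits.pullback.fst f.left c) ≫ f.left = (toUnit (Over.mk st)).left ≫ c
    rw [Category.assoc, CategoryTheory.Limits.pullback.condition, ← Category.assoc]
    exact congrArg (· ≫ c) hx
  have unit : ∀ {T : Scheme.{u}} (st : T ⟶ Spec (CommRingCat.of k)),
      (toUnit (Over.mk st) ≫ η[G]).left = st ≫ σ ≫ CategoryTheory.Limits.pullback.fst f.left c := fun st => by
    rw [CategoryTheory.Limits.pullback.lift_fst]; rfl
  have hone : (η[G] : 𝟙_ (Over (Spec (CommRingCat.of k))) ⟶ G) ≫ f = η[G'] := IsMonHom.one_hom f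
  haveI : IsIso q := WeilResLib.isIso_of_points_of_tangent q σ hσ (fun K _ _ _ x hx => by
      have h := @hgeom K _ _ _ (Over.homMk (x ≫ CategoryTheory.Limits.pullback.fst f.left c)
        (by rw [Category.assoc, hq]; exact hx)) (toUnit _ ≫ η[G])
        ((key _ x hx).trans (by simp only [Category.assoc, hone]))
      apply CategoryTheory.Limits.pullback.hom_ext
      · rw [Category.assoc]
        exact (congrArg Over.Hom.left h).trans (unit _)
      · rw [Category.assoc]
        exact hx.trans ((congrArg (_ ≫ ·) hσ).trans (Category.comp_id _)).symm)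
    (fun v hv hv0 => by
      have h := htan (Over.homMk (v ≫ CategoryTheory.Limits.pullback.fst f.left c)
        (by rw [Category.assoc, hq]; exact hv)) (fun x => by
          ext1
          have hx : x.left = Spec.map (CommRingCat.ofHom (TrivSqZeroExt.fstHom k k k).toRingHom) := by
            obtain ⟨ψ, hψ⟩ := Spec.map_surjective x.left
            rw [← hψ]
            congr 1
            refine CommRingCat.hom_ext (RingHom.ext fun a => ?_)
            have hw := Over.w x
            rw [← hψ] at hw
            have hψ' : CommRingCat.ofHom (algebraMap k (DualNumber k)) ≫ ψ = 𝟙 _ := Spec.map_injective (by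
              rw [Spec.map_comp, Spec.map_id]; exact hw)
            have hε : ψ.hom (DualNumber.eps : DualNumber k) = (0 : k) := by
              have h2 : (DualNumber.eps : DualNumber k) * DualNumber.eps = 0 := DualNumber.eps_mul_eps
              have := congrArg ψ.hom h2
              rw [map_mul, map_zero] at this
              exact mul_self_eq_zero.mp this
            have ha : a = algebraMap k (DualNumber k) a.fst + algebraMap k (DualNumber k) a.snd * DualNumber.eps := by
              ext <;> simp [TrivSqZeroExt.algebraMap_eq_inl]
            have hc : ∀ b : k, ψ.hom (algebraMap k (DualNumber k) b) = b := fun b =>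
              congrArg (fun m : CommRingCat.of k ⟶ CommRingCat.of k => m.hom b) hψ'
            conv_lhs => rw [ha]
            rw [map_add, map_mul, hε, mul_zero, add_zero, hc]
            rfl
          show x.left ≫ v ≫ CategoryTheory.Limits.pullback.fst f.left c = _
          rw [hx, reassoc_of% hv0, CategoryTheory.Limits.pullback.lift_fst]) (key _ v hv)
      apply CategoryTheory.Limits.pullback.hom_ext
      · rw [Category.assoc]
        exact (congrArg Over.Hom.left h).trans (unit _)
      · rw [Category.assoc]
        exact hv.trans ((congrArg (_ ≫ ·) hσ).trans (Category.comp_id _)).symm)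
  constructor
  intro T a b hab
  have hd : (a * b⁻¹) ≫ f = 1 := by rw [MonObj.mul_comp, GrpObj.inv_comp, hab, mul_inv_cancel]
  rw [← mul_inv_eq_one]
  ext1
  have hl : (a * b⁻¹).left ≫ f.left = T.hom ≫ c := by
    rw [← Over.comp_left, hd, ← MonObj.comp_one (toUnit T), ← MonObj.one_eq_one]
    rfl
  let l := CategoryTheory.Limits.pullback.lift (a * b⁻¹).left T.hom hl
  have hlq : l = T.hom ≫ σ := by
    rw [← cancel_mono q, Category.assoc, hσ, Category.comp_id]
    exact CategoryTheory.Limits.pullback.lift_snd _ _ _
  rw [← CategoryTheory.Limits.pullback.lift_fst _ _ hl]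
  show l ≫ _ = _
  rw [hlq, Category.assoc, CategoryTheory.Limits.pullback.lift_fst, ← MonObj.comp_one (toUnit T), ← MonObj.one_eq_one]
  rfl

end Groth.Agent.S15609
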