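import Groth.Statements.S1563
import Groth.Agent.S5223
import Groth.Agent.RegFlatLib.Basic

set_option autoImplicit false
set_option linter.all false
set_option backward.isDefEq.respectTransparency false
universe u
open CategoryTheory CategoryTheory.Limits AlgebraicGeometry
open Variety

namespace Groth.Agent.S1563

/-- Geometric regularity descends along a morphism f of locally Noetherian k-schemes which is flat at
the point x (the map of local rings at x is flat): if X has it at x then Y has it at f(x). -/
theorem result (k : Type u) [Field k] (X Y : Scheme.{u}) [X.Over (Spec (CommRingCat.of k))] [Y.Over (Spec (CommRingCat.of k))]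
    [IsLocallyNoetherian X] [IsLocallyNoetherian Y] (f : X ⟶ Y) (hf : f ≫ (Y ↘ (Spec (CommRingCat.of k))) = X ↘ (Spec (CommRingCat.of k)))
    (x : X) (hflat : (f.stalkMap x).hom.Flat) (hx : Curv2.IsGeomRegularAt k X x) :
    Curv2.IsGeomRegularAt k Y (f.base x) := by
  intro K _ _ hK y' hy'
  let q := Spec.map (CommRingCat.ofHom (algebraMap k K))
  haveI : Flat q := (HasRingHomProperty.Spec_iff (P := @Flat)).2 (RingHom.flat_algebraMap_iff.2 inferInstance)
  let g : Curv2.bc k X K ⟶ Curv2.bc k Y K := pullback.map _ _ _ _ f (𝟙 _) (𝟙 _)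
    (by rw [Category.comp_id, hf]) (by simp)
  have hR : IsPullback (pullback.snd (Y ↘ (Spec (CommRingCat.of k))) q) (Curv2.bcFst k Y K) q
      (Y ↘ (Spec (CommRingCat.of k))) := (IsPullback.of_hasPullback _ _).flip
  have hO : IsPullback (g ≫ pullback.snd (Y ↘ (Spec (CommRingCat.of k))) q) (Curv2.bcFst k X K) q
      (f ≫ (Y ↘ (Spec (CommRingCat.of k)))) := by
    rw [hf, show g ≫ pullback.snd (Y ↘ (Spec (CommRingCat.of k))) q =
      pullback.snd (X ↘ (Spec (CommRingCat.of k))) q by simp [g, Curv2.bc, q]]
    exact (IsPullback.of_hasPullback _ _).flip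
  have h : IsPullback g (Curv2.bcFst k X K) (Curv2.bcFst k Y K) f :=
    IsPullback.of_right hO (by simp [g, Curv2.bcFst, Curv2.bc]) hR
  haveI : Flat (Curv2.bcFst k Y K) := MorphismProperty.pullback_fst _ _ ‹Flat q›
  obtain ⟨x', hx1, hx2⟩ := Scheme.exists_preimage_of_isPullback h y' x hy'
  subst hx1
  haveI := hx K hK x' hx2
  have hg : (g.stalkMap x').hom.Flat := (Groth.Agent.S5223.result h.flip x').2 (hx2 ▸ hflat)
  algebraize [(g.stalkMap x').hom]
  haveI : Module.Flat ((Curv2.bc k Y K).presheaf.stalk (g x')) ((Curv2.bc k X K).presheaf.stalk x') := hg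
  haveI : IsLocalHom (algebraMap ((Curv2.bc k Y K).presheaf.stalk (g x')) ((Curv2.bc k X K).presheaf.stalk x')) :=
    g.toLRSHom.prop x'
  haveI : Module.FaithfullyFlat ((Curv2.bc k Y K).presheaf.stalk (g x')) ((Curv2.bc k X K).presheaf.stalk x') :=
    Module.FaithfullyFlat.of_flat_of_isLocalHom
  haveI : IsNoetherianRing ((Curv2.bc k Y K).presheaf.stalk (g x')) := by
    rw [isNoetherianRing_iff, isNoetherian_iff']
    exact (OrderEmbedding.ofMapLEIff
      (fun I : Ideal ((Curv2.bc k Y K).presheaf.stalk (g x')) =>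
        I.map (algebraMap ((Curv2.bc k Y K).presheaf.stalk (g x')) ((Curv2.bc k X K).presheaf.stalk x')))
      (fun I J => ⟨fun hIJ => by
        have := Ideal.comap_mono (f := algebraMap ((Curv2.bc k Y K).presheaf.stalk (g x')) ((Curv2.bc k X K).presheaf.stalk x')) hIJ
        rwa [Ideal.comap_map_eq_self_of_faithfullyFlat, Ideal.comap_map_eq_self_of_faithfullyFlat] at this,
        Ideal.map_mono⟩)).wellFoundedGT
  exact RegFlatLib.isRegularLocalRing_of_flat _ ((Curv2.bc k X K).presheaf.stalk x')

end Groth.Agent.S1563
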