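import Groth.Statements.S1565
import Groth.Agent.CurveFFLib.SepPoint
-- import your own Groth.Agent.* helpers here

set_option autoImplicit false
universe u
open CategoryTheory CategoryTheory.Limits AlgebraicGeometry
attribute [local instance] Curv2.resAlgebra
open Curves

namespace Groth.Agent.S1565

attribute [local instance] CurveDualLib.algFF

/-- Let X be a smooth proper curve over a field k whose global functions are k, of genus g ≥ 2. Then X
has a closed point whose residue field is a separable extension of k of degree at most 2g - 2. -/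
theorem result (k : Type u) [Field k] (X : Scheme.{u}) [X.Over (Spec (CommRingCat.of k))]
    (hX : Curve.IsSmoothProperCurve k X (X ↘ (Spec (CommRingCat.of k)))) (h0 : Module.finrank k (Coh.HH X (Coh.structureModule X) 0) = 1) (hg : 2 ≤ Curv2.genus k X) :
    ∃ x : X, IsClosed ({x} : Set X) ∧ Algebra.IsSeparable k (X.residueField x) ∧
      Module.finrank k (X.residueField x) ≤ 2 * Curv2.genus k X - 2 ∧ FiniteDimensional k (X.residueField x) := by
  classical
  obtain ⟨hp, hs, hint, hdim⟩ := hX
  haveI := hp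
  haveI := hs
  haveI := hint
  have hK := CurveDualLib.isFunctionField' (k := k) hdim h0
  obtain ⟨C, hC⟩ := Groth.Agent.FFLib.exists_canonical hK
  obtain ⟨hlC, hdC⟩ := Groth.Agent.FFLib.canonical_ell_deg hK hC
  rw [CurveDualLib.genus_eq' hdim h0] at hlC hdC
  obtain ⟨z, hz, hD⟩ := Groth.Agent.FFLib.exists_effective_of_ell_pos hK.1 (D := C) (by omega)
  set D := C + FunFld.div k z
  have hdeg : D.deg = 2 * (Curv2.genus k X : ℤ) - 2 := by
    rw [Groth.Agent.FFLib.deg_add, Groth.Agent.FFLib.deg_div hK.1, hdC, add_zero]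
  have hl : Curv2.genus k X ≤ FunFld.ell D := by rw [Groth.Agent.FFLib.ell_add_div hK.1 C hz, hlC]
  have key : ∀ (x : X) (hx : IsClosed ({x} : Set X)) (E : FunFld.Divisor k X.functionField), 0 ≤ E →
      E.deg ≤ 2 * (Curv2.genus k X : ℤ) - 2 → 0 < E (CurveDualLib.ptPlace (k := k) hdim hx) →
      Module.finrank k (X.residueField x) ≤ 2 * Curv2.genus k X - 2 := by
    intro x hx E hE0 hEd hEx
    have hle : Finsupp.single (CurveDualLib.ptPlace (k := k) hdim hx) 1 ≤ E := fun P => by
      rw [Finsupp.single_apply]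
      split_ifs with h
      · subst h; omega
      · exact hE0 P
    have h1 := Groth.Agent.FFLib.deg_mono hle
    rw [Groth.Agent.FFLib.deg_single, one_mul] at h1
    rw [ZetaCurveLib.finrank_residueField hdim hx]
    omega
  by_cases hperf : PerfectField k
  · obtain ⟨P, hP⟩ : ∃ P, 0 < D P := by
      by_contra h
      push Not at h
      have := Groth.Agent.FFLib.deg_mono (show D ≤ 0 from fun P => h P)
      rw [Groth.Agent.FFLib.deg_zero] at this
      omega
    obtain ⟨x, hx, rfl⟩ := CurveDualLib.exists_point (k := k) hdim P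
    haveI : Module.Finite k (X.residueField x) := HurwitzLib.finite_residueField (k := k) hx
    exact ⟨x, hx, inferInstance, key x hx D hD hdeg.le hP, inferInstance⟩
  haveI : Infinite k := by
    by_contra h
    rw [not_infinite_iff_finite] at h
    exact hperf inferInstance
  obtain ⟨p, hpe⟩ := ExpChar.exists k
  haveI := hpe
  haveI : Fact p.Prime := ⟨by
    rcases hpe with _ | ⟨hq⟩
    · exact absurd (PerfectField.ofCharZero : PerfectField k) hperf
    · assumption⟩
  obtain ⟨f, hfD, hdf⟩ := CurveFFLib.exists_differential_ne_zero (k := k) hdim h0 p hg hD hdeg hl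
  haveI := AbSchLib.geometricallyReduced_of_smooth (X ↘ Spec (CommRingCat.of k))
  obtain ⟨x₁, b, hb⟩ := CurveFFLib.exists_basis_D (k := k) (X := X) 1 (by rw [hdim]; rfl)
  have hspan : ∀ ω : Ω[X.functionField⁄k], ∃ c : X.functionField, ω = c • KaehlerDifferential.D k X.functionField f := by
    intro ω
    have h1 : ∀ v : Ω[X.functionField⁄k], v = b.repr v ⟨0⟩ • b ⟨0⟩ := fun v => by
      conv_lhs => rw [← b.sum_repr v]
      rw [Fintype.sum_eq_single (⟨0⟩ : ULift (Fin 1)) fun i hi => absurd (Subsingleton.elim i _) hi]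
    have ha : b.repr (KaehlerDifferential.D k X.functionField f) ⟨0⟩ ≠ 0 := fun h => hdf (by rw [h1 (KaehlerDifferential.D k _ f), h, zero_smul])
    refine ⟨b.repr ω ⟨0⟩ / b.repr (KaehlerDifferential.D k X.functionField f) ⟨0⟩, ?_⟩
    generalize hv : KaehlerDifferential.D k X.functionField f = v at ha ⊢
    obtain ⟨e, he⟩ : ∃ e, b.repr v ⟨0⟩ = e := ⟨_, rfl⟩
    have hv' := h1 v
    rw [he] at hv' ha ⊢
    rw [hv', smul_smul, div_mul_cancel₀ _ ha]
    exact h1 ω
  obtain ⟨U, hηU, hU⟩ := CurveFFLib.exists_good_open (k := k) hdim hdf hspan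
  haveI := CurvLib.isNoetherian k (X := X)
  have hfin : ((U : Set X)ᶜ).Finite :=
    (CurvLib.finite_isClosed_of_dim_le_zero U.isOpen.isClosed_compl
      (CurvLib.topologicalKrullDim_le_zero_of_lt hdim U.isOpen.isClosed_compl
        fun h => (h.ge (Set.mem_univ (genericPoint X))) hηU)).1
  let bad : X → Set k := fun x => {c | ∃ hx : IsClosed ({x} : Set X),
    0 < (CurveDualLib.ptPlace (k := k) hdim hx).ord (f - algebraMap k X.functionField c)}
  have hbad : ∀ x, (bad x).Subsingleton := by
    rintro x a ⟨hx, ha⟩ c ⟨_, hc⟩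
    by_contra hne
    have hne' : a - c ≠ 0 := sub_ne_zero.2 hne
    set P := CurveDualLib.ptPlace (k := k) hdim hx
    have ha0 : f - algebraMap k X.functionField a ≠ 0 := fun h => by rw [h] at ha; simp [FunFld.Place.ord] at ha
    have hc0 : f - algebraMap k X.functionField c ≠ 0 := fun h => by rw [h] at hc; simp [FunFld.Place.ord] at hc
    have ha' := (Groth.Agent.FFLib.v_lt_one_iff P ha0).2 ha
    have hc' := (Groth.Agent.FFLib.v_lt_one_iff P hc0).2 hc
    have hlt := lt_of_le_of_lt (P.1.map_sub (f - algebraMap k X.functionField c) (f - algebraMap k X.functionField a))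
      (max_lt hc' ha')
    rw [sub_sub_sub_cancel_left, ← map_sub, Groth.Agent.FFLib.v_const P hne'] at hlt
    exact lt_irrefl _ hlt
  obtain ⟨c, hc⟩ : ∃ c, c ∉ ⋃ x ∈ ((U : Set X)ᶜ), bad x :=
    (Set.Finite.biUnion hfin fun x _ => (hbad x).finite).exists_notMem
  have hnc : f - algebraMap k X.functionField c ∉ Set.range (algebraMap k X.functionField) := by
    rintro ⟨e, he⟩
    refine hdf ?_
    rw [show f = algebraMap k X.functionField (e + c) by rw [map_add, he]; ring, Derivation.map_algebraMap]
  have htr := Groth.Agent.FFLib.transcendental_of_notMem hK hnc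
  have htr' : Transcendental k (f - algebraMap k X.functionField c)⁻¹ := fun h => htr (inv_inv (f - _) ▸ h.inv)
  have hne : f - algebraMap k X.functionField c ≠ 0 := fun h => hnc (h ▸ ⟨0, map_zero _⟩)
  have hfin' := Groth.Agent.FFLib.finite_adjoin hK.1 htr'
  have hpos : 0 < (Groth.Agent.FFLib.pole (k := k) (f - algebraMap k X.functionField c)⁻¹).deg := by
    rw [Groth.Agent.FFLib.deg_pole hK.1 htr']
    exact_mod_cast Module.finrank_pos
  obtain ⟨P, hP⟩ : ∃ P, 0 < Groth.Agent.FFLib.pole (k := k) (f - algebraMap k X.functionField c)⁻¹ P := by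
    by_contra h
    push Not at h
    have := Groth.Agent.FFLib.deg_mono (E := 0) (fun P => h P)
    rw [Groth.Agent.FFLib.deg_zero] at this
    omega
  obtain ⟨x, hx, rfl⟩ := CurveDualLib.exists_point (k := k) hdim P
  have hord : 0 < (CurveDualLib.ptPlace (k := k) hdim hx).ord (f - algebraMap k X.functionField c) := by
    rw [Groth.Agent.FFLib.pole_apply hK.1, Groth.Agent.FFLib.ord_inv] at hP
    omega
  have hxU : x ∈ U := by
    by_contra h
    exact hc (Set.mem_biUnion (show x ∈ ((U : Set X)ᶜ) from h) ⟨hx, hord⟩)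
  have hmem : f - algebraMap k X.functionField c ∈ FunFld.L D := by
    refine sub_mem hfD fun Q => ?_
    rcases eq_or_ne c 0 with rfl | hc0
    · simp
    rw [Groth.Agent.FFLib.v_const Q hc0, ← WithZero.exp_zero, WithZero.exp_le_exp]
    exact hD Q
  have hpole : (Groth.Agent.FFLib.pole (k := k) (f - algebraMap k X.functionField c)⁻¹).deg ≤
      2 * (Curv2.genus k X : ℤ) - 2 := by
    have h1 : (Groth.Agent.FFLib.pole (k := k) (f - algebraMap k X.functionField c)).deg ≤ D.deg :=
      Groth.Agent.FFLib.deg_mono fun Q => by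
        have := (Groth.Agent.FFLib.mem_L_iff hne).1 hmem Q
        rw [Groth.Agent.FFLib.pole_apply hK.1]
        have h0' : (0 : ℤ) ≤ D Q := hD Q
        omega
    have h2 := Groth.Agent.FFLib.deg_div hK.1 (f - algebraMap k X.functionField c)
    rw [Groth.Agent.FFLib.div_eq_pole_sub hK.1, Groth.Agent.FFLib.deg_sub] at h2
    omega
  exact ⟨x, hx, hU x hx hxU c hord, key x hx _ (Groth.Agent.FFLib.pole_nonneg _) hpole hP,
    HurwitzLib.finite_residueField (k := k) hx⟩

end Groth.Agent.S1565
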