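import Groth.Statements.S15653
import Groth.Agent.TateThmLib.EndConseq

set_option linter.style.haveILetI false
set_option backward.isDefEq.respectTransparency false
set_option maxHeartbeats 1000000
-- import your own Groth.Agent.* helpers here

set_option autoImplicit false
universe u
open CategoryTheory MonoidalCategory CartesianMonoidalCategory MonObj GrpObj AlgebraicGeometry
open AbVar

namespace Groth.Agent.S15653

theorem finrank_tower {S : Type*} [Ring S] [Algebra ℚ S] (K : Subalgebra ℚ S) (hK : IsField K) :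
    Module.finrank ℚ K * Module.finrank K S = Module.finrank ℚ S := by
  letI := hK.toField
  exact Module.finrank_mul_finrank ℚ K S

/-- Let A be a simple abelian variety of dimension g over a finite field k with q elements — a proper,
geometrically integral commutative group scheme over k, of Krull dimension g, whose only abelian
subvarieties over k (geometrically integral closed subgroup schemes) are the trivial subgroup and A
itself — and π_A its q-Frobenius endomorphism (the identity on points and the q-th power map on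
sections; a homomorphism). Then End⁰(A) = ℚ ⊗_ℤ End_k(A) is finite-dimensional over ℚ and its
reduced degree [End⁰(A) : ℚ[π_A]]^(1/2) · [ℚ[π_A] : ℚ] equals 2g: there is a natural number n such
that End⁰(A) has rank n² as a module (by left multiplication) over the ℚ-subalgebra ℚ[π_A] generated
by the image of π_A — a field when A is non-trivial — and n · [ℚ[π_A] : ℚ] = 2g. -/
theorem result (k : Type u) [Field k] [Finite k]
    (A : Over (Spec (CommRingCat.of k)))
    [GrpObj A] [IsCommMonObj A] [IsProper A.hom] [GeometricallyIntegral A.hom]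
    (g : ℕ) (hg : topologicalKrullDim A.left = g)
    (hsimple : ∀ (B : Over (Spec (CommRingCat.of k))) [GrpObj B] [GeometricallyIntegral B.hom] (i : B ⟶ A) [IsMonHom i]
      [IsClosedImmersion i.left], Subsingleton B.left ∨ IsIso i)
    (πA : A ⟶ A) [IsMonHom πA] (hπAb : πA.left.base = 𝟙 _)
    (hπAle : ∀ U : A.left.Opens, U ≤ πA.left ⁻¹ᵁ U)
    (hπAapp : ∀ (U : A.left.Opens) (s : Γ(A.left, U)), (πA.left.appLE U U (hπAle U)).hom s = s ^ Nat.card k) :
    Module.Finite ℚ (EndAV.End0 A) ∧ ∃ n : ℕ,
      Module.finrank (EndAV.QAdj (EndAV.End.of πA)) (EndAV.End0 A) = n ^ 2 ∧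
      n * Module.finrank ℚ (EndAV.QAdj (EndAV.End.of πA)) = 2 * g := by
  have hA : TateThmLib.IsFrob πA := ⟨hπAb, hπAle, hπAapp⟩
  haveI := TateThmLib.finite_end0 A
  refine ⟨inferInstance, ?_⟩
  obtain ⟨l, _, hl⟩ := AVAmpleLib.exists_prime_ne_zero k
  let Ω := AlgebraicClosure k
  obtain ⟨_, _⟩ := TateThmLib.free_finite (A := A) (Ω := Ω) hl
  haveI : IsAlgClosed Ω := IsAlgClosure.isAlgClosed k
  obtain ⟨P, -, -, -, hP⟩ := AVAmpleLib.exists_charpoly_bc Ω A hg (EndAV.End.of πA)
  have hP' := hP l (TateThmLib.natCast_Ω_ne_zero hl)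
  rcases Nat.eq_zero_or_pos g with rfl | hgpos
  · have h0 : Module.finrank ℚ (EndAV.End0 A) = 0 := by
      have h := (TateThmLib.commutative_iff (Ω := Ω) (πA := πA) hA hl hP' hg).2.1
      have hdeg := TateThmLib.natDegree_PQ (Ω := Ω) (πA := πA) hl hP' hg
      exact h (by rw [(TateThmLib.monic_PQ (Ω := Ω) (πA := πA) hP').natDegree_eq_zero.1 (by simpa using hdeg)]; exact squarefree_one)
    haveI : Subsingleton (EndAV.End0 A) := Module.finrank_zero_iff.1 h0
    haveI : Subsingleton (EndAV.QAdj (EndAV.End.of πA)) := ⟨fun a b => Subtype.ext (Subsingleton.elim _ _)⟩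
    refine ⟨1, ?_, ?_⟩
    · rw [Module.finrank, rank_subsingleton, one_pow, Cardinal.one_toNat]
    · rw [Module.finrank_zero_of_subsingleton (R := ℚ)]
  obtain ⟨hsq, hint⟩ := TateThmLib.minpoly_frob hA
  haveI : Nontrivial (EndAV.End0 A) := by
    rw [← Module.finrank_pos_iff (R := ℚ), TateThmLib.finrank_end0_eq (Ω := Ω) hA hl hP']
    obtain ⟨Q, hQ⟩ : ∃ Q, Q ∈ UniqueFactorizationMonoid.normalizedFactors (P.map (Int.castRingHom ℚ)) := by
      refine UniqueFactorizationMonoid.exists_mem_normalizedFactors (TateThmLib.monic_PQ (Ω := Ω) (πA := πA) hP').ne_zero fun hu => ?_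
      have h := TateThmLib.natDegree_PQ (Ω := Ω) (πA := πA) hl hP' hg
      rw [Polynomial.natDegree_eq_zero_of_isUnit hu] at h
      omega
    classical
    refine Finset.sum_pos' (fun _ _ => Nat.zero_le _) ⟨Q, Multiset.mem_toFinset.2 hQ, ?_⟩
    exact Nat.mul_pos (Nat.mul_pos (Multiset.count_pos.2 hQ) (Multiset.count_pos.2 hQ))
      (UniqueFactorizationMonoid.irreducible_of_normalized_factor Q hQ).natDegree_pos
  haveI : NoZeroDivisors (EndAV.End0 A) := ⟨fun {a b} hab => or_iff_not_imp_left.2 fun ha =>
    (AVAmpleLib.isUnit_end0 hsimple a ha).mul_right_eq_zero.1 hab⟩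
  haveI : IsDomain (EndAV.End0 A) := NoZeroDivisors.to_isDomain _
  have hirr := minpoly.irreducible hint
  obtain ⟨d, h1, h2, -⟩ := TateThmLib.exists_index (Ω := Ω) hA hl hP' hg hirr
  refine ⟨d, ?_, h2⟩
  have h3 := finrank_tower (EndAV.QAdj (EndAV.End.of πA)) (AVAmpleLib.isField_adjoin _ hirr)
  rw [h1] at h3
  refine Nat.eq_of_mul_eq_mul_left (?_ : 0 < Module.finrank ℚ (EndAV.QAdj (EndAV.End.of πA))) h3
  rw [TateThmLib.finrank_adjoin_singleton hint]
  exact hirr.natDegree_pos

end Groth.Agent.S15653
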