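import Groth.Statements.S15681
import Groth.Agent.FreeSecLib.Main
import Groth.Agent.SurfAmpleLib.Ramanujam
import Groth.Agent.SurfAmpleLib.Divide
import Groth.Agent.EffCartLib.Basic
import Groth.Agent.HurwitzLib.SmoothCurve
import Groth.Agent.NodalLib.Marked
import Groth.Agent.DiagTorLib.ExtProd
import Groth.Agent.HopfIneqLib.Sections
import Groth.Agent.SBTautLib.IndexTwo
import Groth.Agent.AVIndexLib.Index
import Groth.Agent.NumTrivLib.BoundedProj
-- import your own Groth.Agent.* helpers here

set_option autoImplicit false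
set_option backward.isDefEq.respectTransparency false
set_option backward.isDefEq.respectTransparency.types false
set_option maxHeartbeats 1000000
universe u
open CategoryTheory CategoryTheory.Limits AlgebraicGeometry MonoidalCategory
open FreeSec

open HilbPolyLib DevissLib IntMultLib HodgeIdxLib

namespace Groth.Agent.S15681

/-- Let X be a smooth proper integral curve of genus g over an algebraically closed field k, T a finite
locally free O_X-module and D an effective Cartier divisor on X of degree m = dim_k H^0(X, O_D),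
with m ≥ 1 and m ≥ 2g. If the restriction map H^0(X, T) → H^0(X, T ⊗ O_D) (written on T ⊗ O_X ≅ T
and induced by O_X → O_D) is surjective, then H^1(X, T ⊗ I_E) = 0 for every effective Cartier
divisor E on X of degree m - 2g, I_E its ideal sheaf. (The published statement is phrased for a
family of sections of a fibration over the curve, parametrised by a base scheme, with T the
pull-back of the relative tangent sheaf along the section; this row is the case of a single section
over an algebraically closed field, to which that statement reduces, with T any finite locally free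
module, which is all the argument uses.) -/
theorem result (k : Type u) [Field k] [IsAlgClosed k]
    (X : Scheme.{u}) [X.Over (Spec (CommRingCat.of k))]
    (hX : Curve.IsSmoothProperCurve k X (X ↘ (Spec (CommRingCat.of k))))
    (T : X.Modules) (hT : FlatMod.IsFinLocFree T)
    (D : X.IdealSheafData) (hD : BlowUp.IsEffCartierIdeal D)
    (hD1 : 1 ≤ Module.finrank k (Coh.HH X (ClSub.quotMod D) 0))
    (hDg : 2 * Curv2.genus k X ≤ Module.finrank k (Coh.HH X (ClSub.quotMod D) 0))
    (hsurj : Function.Surjective (Sheaf.H.map ((SheafOfModules.toSheaf X.ringCatSheaf).map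
      ((CohB1.sheafifyMod X).map (CohB1.toPMod T ◁ (ClSub.toSubscheme D).val) :
        CohB1.tensorMod T (Coh.structureModule X) ⟶ CohB1.tensorMod T (ClSub.quotMod D))) 0))
    (E : X.IdealSheafData) (hE : BlowUp.IsEffCartierIdeal E)
    (hdegE : Module.finrank k (Coh.HH X (ClSub.quotMod E) 0) + 2 * Curv2.genus k X =
      Module.finrank k (Coh.HH X (ClSub.quotMod D) 0)) :
    Subsingleton (Coh.HH X (CohB1.tensorMod T (ClSub.idealMod E)) 1) := by
  obtain ⟨hp, hsm, hint, hdim⟩ := hX
  haveI := hp; haveI := hsm; haveI := hint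
  haveI := CurvLib.isNoetherian k (X := X)
  have hle : topologicalKrullDim X ≤ 1 := hdim.le
  have hh0 : Module.finrank k (Coh.HH X (Coh.structureModule X) 0) = 1 := RRVanLib.finrank_h0_structure
  obtain ⟨r, hTr⟩ := SBTaut.exists_rank_of_isIntegral hT
  have hdD := CurvLib.dim_support_effCartier hD hle
  have hdE := CurvLib.dim_support_effCartier hE hle
  -- a point of D
  obtain ⟨x, hxD⟩ : ∃ x, x ∈ (D.support : Set X) := by
    by_contra h
    push Not at h
    have hz : IsZero (ClSub.quotMod D) := DevissLib.isZero_of_support_empty (by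
      rw [SurfNumLib.support_quotMod_eq]
      exact Set.eq_empty_of_forall_notMem h)
    haveI : Subsingleton (Coh.HH X (ClSub.quotMod D) 0) := AVIndexLib.subsingleton_HH_isZero hz 0
    rw [Module.finrank_zero_of_subsingleton (R := k) (M := Coh.HH X (ClSub.quotMod D) 0)] at hD1
    omega
  have hxc : IsClosed ({x} : Set X) := (CurvLib.finite_isClosed_of_dim_le_zero D.support.isClosed hdD).2 x hxD
  let P : X.IdealSheafData := IntMult.ptIdeal x
  have hPs : (P.support : Set X) = {x} := by
    rw [show (P.support : Set X) = closure {x} from Scheme.IdealSheafData.coe_support_vanishingIdeal _, hxc.closure_eq]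
  have hxP : x ∈ P.support := (Set.ext_iff.1 hPs x).2 rfl
  haveI : IsDiscreteValuationRing (X.presheaf.stalk x) := HurwitzLib.dvr_stalk_closed (k := k) hdim hxc
  have hP : BlowUp.IsEffCartierIdeal P := by
    refine EffCartLib.isEffCartier_of_stalk P fun z hz U hzU => ?_
    have hzx : z = x := (Set.ext_iff.1 hPs z).1 hz
    subst hzx
    obtain ⟨t, ht⟩ := IsDiscreteValuationRing.exists_irreducible (X.presheaf.stalk z)
    refine ⟨t, mem_nonZeroDivisors_of_ne_zero ht.ne_zero, ?_⟩
    rw [← SDivLib.stalkIdeal_eq P U hzU]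
    exact (DiagTorLib.stalkIdeal_ptIdeal_self z).trans ht.maximalIdeal_eq
  have hdP := CurvLib.dim_support_effCartier hP hle
  have hdegP : Module.finrank k (Coh.HH X (ClSub.quotMod P) 0) = 1 := by
    have h := (NodalLib.h0_points k (X := X) (Set.finite_singleton x) hxc).1
    have e : (⟨closure {x}, isClosed_closure⟩ : TopologicalSpace.Closeds X) = ⟨{x}, hxc⟩ := TopologicalSpace.Closeds.ext hxc.closure_eq
    rw [Set.ncard_singleton] at h
    exact (congrArg (fun Z => Module.finrank k (Coh.HH X (ClSub.quotMod (Scheme.IdealSheafData.vanishingIdeal Z)) 0)) e).trans h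
  obtain ⟨D', hD', hDe⟩ := SurfAmpleLib.exists_eq_mul hD hP (SurfAmpleLib.le_ptIdeal hxD)
  have hdD' := CurvLib.dim_support_effCartier hD' hle
  have hID' := IntMultLib.isInvertible_idealMod _ hD'
  have hIP := IntMultLib.isInvertible_idealMod _ hP
  have hIE := IntMultLib.isInvertible_idealMod _ hE
  have hO := CurvLib.isInvertible_structureModule (X := X)
  obtain ⟨φ⟩ := SurfNumLib.nonempty_idealMod_mul hP hD'
  have hχ : ∀ (Z : X.IdealSheafData), topologicalKrullDim (Z.support : Set X) ≤ 0 →
      Curv2.euler k X (ClSub.idealMod Z) = Curv2.euler k X (Coh.structureModule X) -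
        Module.finrank k (Coh.HH X (ClSub.quotMod Z) 0) := fun Z hZ => by
    rw [← (RRVanLib.twist_data (k := k) hdim Z hZ hO).2]
    exact (CurvLib.euler_congr (k := k) (HilbPolyLib.swapIso _ _ ≪≫ HilbPolyLib.unitLeft (ClSub.idealMod Z))).symm
  have hdeg1 : Module.finrank k (Coh.HH X (ClSub.quotMod D) 0) = Module.finrank k (Coh.HH X (ClSub.quotMod D') 0) + 1 := by
    have h1 := (RRVanLib.twist_data (k := k) hdim P hdP hID').2
    rw [CurvLib.euler_congr (k := k) φ, hDe, hdegP, hχ D hdD, hχ D' hdD'] at h1
    omega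
  -- the twist
  obtain ⟨M, hM, ⟨eM⟩⟩ : ∃ M : X.Modules, PicF.IsInvertible M ∧
      Nonempty (CohB1.tensorMod (ClSub.idealMod D') M ≅ Coh.structureModule X) :=
    ⟨MiscFlat6.dual _, MiscFlat6.dual_isInvertible hID', MiscFlat6.nonempty_dualIso hID'⟩
  let L : X.Modules := CohB1.tensorMod (ClSub.idealMod E) M
  have hL : PicF.IsInvertible L := HilbPolyLib.isInvertible_tensor hIE hM
  let eL : CohB1.tensorMod (ClSub.idealMod D') L ≅ ClSub.idealMod E :=
    (assocIso _ _ _).symm ≪≫ congrLeft (HilbPolyLib.swapIso _ _) _ ≪≫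
      assocIso _ _ _ ≪≫ congrRight _ eM ≪≫ HilbPolyLib.swapIso _ _ ≪≫ HilbPolyLib.unitLeft _
  have hL1 : Subsingleton (Coh.HH X L 1) := by
    refine RRVanLib.subsingleton_h1 (k := k) hdim hh0 hL ?_
    have h1 := (RRVanLib.twist_data (k := k) hdim D' hdD' hL).2
    rw [CurvLib.euler_congr (k := k) eL, hχ E hdE] at h1
    rw [Curv2.deg, Nat.cast_one, one_mul]
    omega
  -- the module twisted down to the point
  let T' : X.Modules := CohB1.tensorMod T (ClSub.idealMod D')
  have hT' : FlatMod.IsFinLocFreeOfRank (r * 1) T' :=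
    HopfIneqLib.locFree_tensor hTr (CurvLib.locFree_of_isInvertible hID')
  have hsurj1 : ∀ {n : ℕ} {A : X.Modules}, FlatMod.IsFinLocFreeOfRank n A → ∀ Z : X.IdealSheafData,
      topologicalKrullDim (Z.support : Set X) ≤ 0 →
      Function.Surjective (CurvLib.hMap (k := k) ((CurvLib.idealSeq Z).map (CurvLib.tensorLeft' A)).f 1) := by
    intro n A hA Z hZ y
    have hS := CurvLib.shortExact_tensor_locFree hA (CurvLib.idealSeq_shortExact Z)
    have hs : CohB1.support ((CurvLib.idealSeq Z).map (CurvLib.tensorLeft' A)).X₃ ⊆ (Z.support : Set X) := fun z hz => by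
      rw [← SurfNumLib.support_quotMod_eq]
      by_contra h
      obtain ⟨e⟩ := CurvLib.nonempty_stalk_tensor_locFree hA (ClSub.quotMod Z) z
      haveI : Subsingleton ((DevissLib.St z).obj (ClSub.quotMod Z)) := not_not.mp h
      let sw : ((CurvLib.idealSeq Z).map (CurvLib.tensorLeft' A)).X₃ ≅ CohB1.tensorMod (ClSub.quotMod Z) A :=
        KFlatLib.tensSwap (ClSub.quotMod Z) A
      exact hz (((DevissLib.St z).mapIso sw).toLinearEquiv.toEquiv.trans e.toEquiv).subsingleton
    haveI := CurvLib.subsingleton_HH_of_support _ Z.support.isClosed hs (d := 0) (by exact_mod_cast hZ) 1 Nat.one_pos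
    refine LinearMap.mem_range.1 ?_
    rw [CurvLib.exact₂ (k := k) hS 1, LinearMap.mem_ker]
    exact Subsingleton.elim _ _
  let SP := (CurvLib.idealSeq P).map (CurvLib.tensorLeft' T')
  let SD := (CurvLib.idealSeq D).map (CurvLib.tensorLeft' T)
  let SD' := (CurvLib.idealSeq D').map (CurvLib.tensorLeft' T)
  have hSD : SD.ShortExact := CurvLib.shortExact_tensor_locFree hTr (CurvLib.idealSeq_shortExact D)
  have hSP : SP.ShortExact := CurvLib.shortExact_tensor_locFree hT' (CurvLib.idealSeq_shortExact P)
  have e1 : SP.X₁ ≅ SD.X₁ := assocIso T (ClSub.idealMod D') (ClSub.idealMod P) ≪≫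
    congrRight T (HilbPolyLib.swapIso _ _ ≪≫ φ ≪≫ eqToIso (congrArg ClSub.idealMod hDe))
  have e2 : SP.X₂ ≅ SD'.X₁ := HilbPolyLib.swapIso _ _ ≪≫ HilbPolyLib.unitLeft _
  have hO1 := CurvLib.locFree_of_isInvertible hO
  have hsurjP : Function.Surjective (CurvLib.hMap (k := k) SP.g 0) :=
    FreeSecLib.surjective_of_chain k (SD' := SD') hSP hSD
      (CurvLib.isCoh_of_locFree (HopfIneqLib.locFree_tensor hT' (CurvLib.locFree_of_isInvertible hIP)))
      (CurvLib.isCoh_of_locFree (HopfIneqLib.locFree_tensor hT' hO1))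
      (CurvLib.isCoh_of_locFree (HopfIneqLib.locFree_tensor hTr hO1))
      (CurvLib.isCoh_of_locFree hT') e1 e2 (Iso.refl _)
      (FreeSecLib.surjective_restrict k T D (FreeSecLib.surjective_hMap k _ hsurj)) (hsurj1 hTr D' hdD') (hsurj1 hT' P hdP)
  have hfinal := FreeSecLib.subsingleton_h1_tensor k hdim hL hL1 hT' hxP hdP hsurjP
  let ef : CohB1.tensorMod L T' ≅ CohB1.tensorMod T (ClSub.idealMod E) :=
    HilbPolyLib.swapIso _ _ ≪≫ assocIso T (ClSub.idealMod D') L ≪≫ congrRight T eL
  exact (CurvLib.hIso (k := k) ef 1).symm.toEquiv.subsingleton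

end Groth.Agent.S15681
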