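import Groth.Statements.S15686
import Groth.Agent.StackCountLib.GalCount
import Groth.Agent.StackCountLib.BGFinite
import Groth.Agent.StackCountLib.EtaleTorsor
import Groth.Agent.QuotStLib.Coarse

set_option linter.all false
set_option backward.isDefEq.respectTransparency false
set_option backward.isDefEq.respectTransparency.types false

set_option autoImplicit false
universe u
open CategoryTheory AlgebraicGeometry MonObj
open StackCount
open AlgSp AlgSpLib AlgStLib
open CategoryTheory.Limits

namespace Groth.Agent.S15686

theorem finite_pts {k : Type u} [Field k] (L : Type u) [Field L] [Algebra k L] [Finite L]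
    (X : Over (Spec (CommRingCat.of k))) [LocallyOfFiniteType X.hom] [QuasiCompact X.hom] :
    Finite (SGA7.Pts L X) := by
  haveI : LocallyOfFiniteType (GalTw.bcK L X).hom :=
    inferInstanceAs (LocallyOfFiniteType (pullback.snd X.hom (SGA7.pt (K := k) L).hom))
  haveI : QuasiCompact (GalTw.bcK L X).hom :=
    inferInstanceAs (QuasiCompact (pullback.snd X.hom (SGA7.pt (K := k) L).hom))
  haveI := StackCountLib.finite_points (GalTw.bcK L X)
  refine Finite.of_injective (fun x : SGA7.Pts L X =>
    (Over.homMk (GalTw.secOfPt L x).left (Over.w (GalTw.secOfPt L x)) :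
      Over.mk (𝟙 (Spec (CommRingCat.of L))) ⟶ GalTw.bcK L X)) fun x y h => Over.OverMorphism.ext ?_
  have h' : (GalTw.secOfPt L x).left ≫ pullback.fst _ _ = (GalTw.secOfPt L y).left ≫ pullback.fst _ _ :=
    congrArg (fun f => Over.Hom.left f ≫ pullback.fst _ _) h
  rwa [GalTw.secOfPt_left, GalTw.secOfPt_left, pullback.lift_fst, pullback.lift_fst] at h'

/-- Let k be a finite field with algebraic closure k̄, G a smooth affine algebraic group over k acting
on a variety X over k (reduced and of finite type), and [X/G] the quotient stack whose objects over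
a k-scheme T are G-torsors P → T (schemes, locally trivial for the étale topology) with a
G-equivariant morphism P → X. Suppose the Galois cohomology set H¹(k, G) (continuous cocycles of
Gal(k̄/k) with values in G(k̄), up to equivalence) is finite, and choose for every class c a
continuous cocycle z_c in it, a twist X_c of X by z_c through the action (a k-scheme whose base
change to k̄ is identified with that of X so that the Galois action becomes x ↦ z_c(σ) · σx), and
the inner form G_c of G determined by z_c. If the groupoid of k-points of [X/G] is essentially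
finite, then its point count (the sum over isomorphism classes of the inverse orders of the
automorphism groups) equals the sum over the classes c of #X_c(k) / #G_c(k). (The published
statement is for the k′-points over any finite extension k′ of k and for any smooth algebraic group
G; this row is the case k′ = k, to which the general case reduces by base change, and takes G affine
so that every torsor is a scheme.) -/
theorem result (k : Type u) [Field k] [Finite k]
    (kb : Type u) [Field kb] [Algebra k kb] [IsAlgClosure k kb]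
    (G : Over (Spec (CommRingCat.of k))) [GrpObj G] [Smooth G.hom] [IsAffineHom G.hom]
    (X : Over (Spec (CommRingCat.of k))) [LocallyOfFiniteType X.hom] [QuasiCompact X.hom]
    [IsReduced X.left] (aX : AlgGrp.Action G X)
    [Fintype (GpH1.H1lc (kb ≃ₐ[k] kb) (SGA7.Pts kb G))]
    (z : GpH1.H1lc (kb ≃ₐ[k] kb) (SGA7.Pts kb G) → GpH1.OneCocycleLC (kb ≃ₐ[k] kb) (SGA7.Pts kb G))
    (hz : ∀ c, (z c).cl = c)
    (Xz : GpH1.H1lc (kb ≃ₐ[k] kb) (SGA7.Pts kb G) → Over (Spec (CommRingCat.of k)))
    (hXz : ∀ c, GalTw.IsActTwist kb aX (z c).1 (Xz c))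
    (Gin : GpH1.H1lc (kb ≃ₐ[k] kb) (SGA7.Pts kb G) → Over (Spec (CommRingCat.of k)))
    [∀ c, GrpObj (Gin c)]
    (hGin : ∀ c, GalTw.IsInnTwist kb G (z c).1 (Gin c))
    (h : StkCnt.IsEssFinite (StkCnt.pts (AlgSt.QuotSt Scheme.etalePrecoverage G aX) k)) :
    StkCnt.ptCount (AlgSt.QuotSt Scheme.etalePrecoverage G aX) k h =
      ∑ c : GpH1.H1lc (kb ≃ₐ[k] kb) (SGA7.Pts kb G),
        (Nat.card (SGA7.Pts k (Xz c)) : ℚ) / (Nat.card (SGA7.Pts k (Gin c)) : ℚ) := by
  classical
  haveI : IsAlgClosed kb := IsAlgClosure.isAlgClosed k
  haveI : Algebra.IsAlgebraic k kb := IsAlgClosure.isAlgebraic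
  haveI : Normal k kb := IsAlgClosure.normal k kb
  haveI : IsGalois k kb := ⟨⟩
  obtain ⟨K, _, _, hN⟩ := StackCountLib.exists_normal_field z
  haveI : Finite K := Module.finite_of_finite k
  haveI : IsGalois k K := ⟨⟩
  haveI := finite_pts K G
  haveI := finite_pts K X
  haveI : IsAffine G.left := isAffine_of_isAffineHom G.hom
  have hp := StackCountLib.galCover (k := k) (K := K)
  have hone : (SGA7.pt (K := k) k).hom = 𝟙 _ := by
    show Spec.map (CommRingCat.ofHom (algebraMap k k)) = _
    rw [show CommRingCat.ofHom (algebraMap k k) = 𝟙 _ from rfl, Spec.map_id]; rfl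
  let hT : IsTerminal (SGA7.pt (K := k) k) := Over.mkIdTerminal.ofIso
    (Over.isoMk (Iso.refl _) ((Category.id_comp _).trans hone))
  have hsec : ∀ ξ : StackCountLib.Fib aX Scheme.etalePrecoverage (SGA7.pt (K := k) k),
      Nonempty (SGA7.pt (K := k) K ⟶ ξ.1.P) := by
    rintro ⟨A, hA⟩
    change A.base = _ at hA
    let A' : AlgSt.QuotObj Scheme.fppfPrecoverage G aX := StackCountLib.toFppf A
    haveI : LocallyOfFinitePresentation A.π.left :=
      (locP_yon_map_iff _).1 (QuotStLib.locP_torsor @LocallyOfFinitePresentation isLocalOnBase_fppf_lfp inferInstance A')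
    haveI : Surjective A.π.left := surjective_left_of_isSurjectiveMor (QuotStLib.isSurjectiveMor_torsor A')
    haveI : IsIso A.base.hom := by rw [hA, hone]; infer_instance
    haveI : LocallyOfFiniteType A.P.hom := by rw [← Over.w A.π]; infer_instance
    haveI : Nonempty ↥A.P.left := by
      obtain ⟨x, -⟩ := A.π.left.surjective ((inv A.base.hom) default)
      exact ⟨x⟩
    haveI := StackCountLib.isIso_shear (A := A) hT hA
    exact StackCountLib.nonempty_pts_of_lc K z hz hN A.act
  obtain ⟨_, _, hm⟩ := StackCountLib.mass_data (K := Scheme.etalePrecoverage) hp hT hsec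
  have hV : StackCountLib.realised (s := fun σ => SGA7.specAut (K := k) σ) aX Scheme.etalePrecoverage hT =
      StackCountLib.compatSet K aX := by
    ext ⟨w, x⟩
    constructor
    · rintro ⟨ξ, q, e⟩
      refine ⟨fun σ τ => ?_, fun σ => ?_⟩
      · have := StackCountLib.dataOf_cocycle (s := fun σ => SGA7.specAut (K := k) σ) hT ξ q (σ := σ) (τ := τ)
          (ρ := σ * τ) (GalTw.specAut_mul K σ τ)
        rw [e] at this
        exact this
      · have := StackCountLib.dataOf_compat (s := fun σ => SGA7.specAut (K := k) σ) hT ξ q σ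
        rw [e] at this
        exact this
    · rintro ⟨hw, hx⟩
      obtain ⟨Yt, a, _, ha, q, hq⟩ := StackCountLib.exists_torsor w hw
      refine StackCountLib.exists_obj hp hT a q w hq x hx
        ⟨_, StackCountLib.singleton_mem_etale K, ?_⟩
      rintro _ _ ⟨⟩
      refine ⟨q.left, ?_⟩
      have h₁ : q.left ≫ Yt.hom = GalTwLib.ptK k K := Over.w q
      have h₂ : (hT.from Yt).left ≫ (SGA7.pt (K := k) k).hom = Yt.hom := Over.w (hT.from Yt)
      rw [hone, Category.comp_id] at h₂
      exact (congrArg (q.left ≫ ·) h₂).trans h₁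
  rw [hV, StackCountLib.count_formula K aX z hz hN Xz hXz Gin hGin] at hm
  haveI := h.finite_isoCl
  letI : Fintype (StkCnt.IsoCl (StkCnt.pts (AlgSt.QuotSt Scheme.etalePrecoverage G aX) k)) := Fintype.ofFinite _
  rw [← hm, StkCnt.ptCount, StkCnt.count_eq_sum h, finsum_eq_sum_of_fintype]
  refine Finset.sum_congr rfl fun c _ => ?_
  conv_lhs => rw [← Quotient.out_eq c]
  rfl

end Groth.Agent.S15686
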