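import Groth.Statements.S15687
import Groth.Agent.LangGenLib.Lang
import Groth.Agent.LangGenLib.Pts
import Groth.Agent.LangGenLib.Cocycle

set_option autoImplicit false
set_option backward.isDefEq.respectTransparency false
set_option backward.isDefEq.respectTransparency.types false
set_option maxHeartbeats 1000000
set_option synthInstance.maxHeartbeats 400000
universe u
open CategoryTheory AlgebraicGeometry MonObj
open GalTw

attribute [-instance] CategoryTheory.Hom.commGroup
set_option backward.isDefEq.respectTransparency false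
set_option backward.isDefEq.respectTransparency.types false
open CategoryTheory MonoidalCategory CartesianMonoidalCategory AlgebraicGeometry
namespace Groth.Agent.S15687

/-- Let k be a finite field with algebraic closure k̄, and let A, B, C be smooth algebraic groups over k
with homomorphisms i : A → B and π : B → C forming a short exact sequence 1 → A → B → C → 1 (π ∘ i
trivial, B a pseudo-torsor over C under A acting through i, and π acquiring sections fppf-locally on
C), with A connected. Then the map H¹(k, B) → H¹(k, C) induced by π on the continuous Galois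
cohomology sets (continuous cocycles of Gal(k̄/k) with values in the k̄-points, up to equivalence)
is bijective. -/
theorem result (k : Type u) [Field k] [Finite k]
    (kb : Type u) [Field kb] [Algebra k kb] [IsAlgClosure k kb]
    (A B C : Over (Spec (CommRingCat.of k))) [GrpObj A] [GrpObj B] [GrpObj C]
    [Smooth A.hom] [Smooth B.hom] [Smooth C.hom]
    [QuasiCompact A.hom] [QuasiCompact B.hom] [QuasiCompact C.hom]
    (i : A ⟶ B) (π : B ⟶ C) [IsMonHom i] [IsMonHom π]
    (hex : NonAbH1.IsExactSeq Scheme.fppfPrecoverage i π) [ConnectedSpace A.left] :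
    Function.Bijective
      (GalTw.H1lcMap (GalTw.ptsMap (K := kb) π) (GalTw.ptsMap_smul (K := kb) π)) := by
  haveI := hex
  obtain ⟨_, _, hiπ, hcart, hloc⟩ := hex
  letI := Fintype.ofFinite k
  haveI : IsAlgClosed kb := IsAlgClosure.isAlgClosed k
  haveI : Algebra.IsAlgebraic k kb := IsAlgClosure.isAlgebraic
  haveI : Normal k kb := IsAlgClosure.normal k kb
  haveI : IsGalois k kb := ⟨⟩
  let σ : kb ≃ₐ[k] kb := FiniteField.frobeniusAlgEquivOfAlgebraic k kb
  have hσ : ∀ x : kb, σ x = x ^ Nat.card k := fun x => by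
    rw [Nat.card_eq_fintype_card]
    rfl
  obtain ⟨fr, hfr⟩ := LangGenLib.exists_isFrob k
  have cB := LangGenLib.cocycle_frob k kb σ hσ (SGA7.Pts kb B) LangGenLib.isOpen_stab LangGenLib.exists_finite_subgroup
  have cC := LangGenLib.cocycle_frob k kb σ hσ (SGA7.Pts kb C) LangGenLib.isOpen_stab LangGenLib.exists_finite_subgroup
  let P := GalTw.ptsMap (K := kb) π
  have hP : Function.Surjective P := fun y => LangGenLib.exists_pts_lift π hloc y
  refine ⟨?_, ?_⟩
  · intro c c'
    induction c using Quotient.ind with | _ z =>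
    induction c' using Quotient.ind with | _ z' =>
    intro h
    obtain ⟨g, hg⟩ := (cC.2 (GalTw.lcMap P (GalTw.ptsMap_smul (K := kb) π) z)
      (GalTw.lcMap P (GalTw.ptsMap_smul (K := kb) π) z')).1 h
    obtain ⟨b, rfl⟩ := hP g
    refine (cB.2 z z').2 ?_
    change P (z'.1 σ) = P b * P (z.1 σ) * (σ • P b)⁻¹ at hg
    rw [← GalTw.ptsMap_smul, ← map_inv, ← map_mul, ← map_mul] at hg
    let z₁ := b * z.1 σ * (σ • b)⁻¹
    have hk : (z'.1 σ * z₁⁻¹) ≫ π = 1 := by
      show P (z'.1 σ * z₁⁻¹) = 1
      rw [map_mul, hg, map_inv, mul_inv_cancel]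
    obtain ⟨a, ha, -⟩ := LangGenLib.exists_kernel_lift i π hcart _ hk
    obtain ⟨x, hx⟩ := LangGenLib.exists_lang_conj kb hfr i π hiπ hcart z₁ a
    refine ⟨(x ≫ i) * b, ?_⟩
    have h2 : σ • (x ≫ i) = (x ≫ fr A) ≫ i := by
      rw [hfr.smul_eq hσ, Category.assoc, Category.assoc, hfr.nat i]
    rw [ha] at hx
    rw [smul_mul', h2, mul_inv_rev]
    calc z'.1 σ = (z'.1 σ * z₁⁻¹) * z₁ := (inv_mul_cancel_right _ _).symm
      _ = _ := by rw [← hx]; simp only [z₁]; group
  · intro c
    induction c using Quotient.ind with | _ w =>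
    obtain ⟨b, hb⟩ := hP (w.1 σ)
    obtain ⟨z, hz⟩ := cB.1.2 b
    refine ⟨z.cl, ?_⟩
    show (GalTw.lcMap P (GalTw.ptsMap_smul (K := kb) π) z).cl = w.cl
    rw [show GalTw.lcMap P (GalTw.ptsMap_smul (K := kb) π) z = w from cC.1.1 (by
      show P (z.1 σ) = w.1 σ
      simp only at hz
      rw [hz, hb])]

end Groth.Agent.S15687
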