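import Groth.Statements.S15688
import Groth.Agent.LangGenLib.Lang
import Groth.Agent.LangGenLib.Pts
import Groth.Agent.LangGenLib.Cocycle
import Groth.Agent.StackCountLib.TwistPts

set_option autoImplicit false
set_option backward.isDefEq.respectTransparency false
set_option backward.isDefEq.respectTransparency.types false
set_option maxHeartbeats 1000000
set_option synthInstance.maxHeartbeats 400000
universe u
open CategoryTheory AlgebraicGeometry MonoidalCategory CartesianMonoidalCategory MonObj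
open StackCount

attribute [-instance] CategoryTheory.Hom.commGroup
set_option backward.isDefEq.respectTransparency false
set_option backward.isDefEq.respectTransparency.types false
open CategoryTheory MonoidalCategory CartesianMonoidalCategory AlgebraicGeometry
namespace Groth.Agent.S15688

/-- Let k be a finite field with algebraic closure k̄, and let A, B, C be smooth algebraic groups over k
with homomorphisms i : A → B and π : B → C forming a short exact sequence 1 → A → B → C → 1 (π ∘ i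
trivial, B a pseudo-torsor over C under A acting through i, and π acquiring sections fppf-locally on
C), with A connected; let c be the action of B on A by conjugation, i.e. an action with i(b · a) = b
i(a) b⁻¹. Let z be a continuous cocycle of Gal(k̄/k) with values in B(k̄), A_z a twist of A by z
through the action c, B_z an inner form of B by z, and C_z an inner form of C by the image of z
under π. Then the numbers of k-points satisfy #B_z(k) = #A_z(k) · #C_z(k). -/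
theorem result (k : Type u) [Field k] [Finite k]
    (kb : Type u) [Field kb] [Algebra k kb] [IsAlgClosure k kb]
    (A B C : Over (Spec (CommRingCat.of k))) [GrpObj A] [GrpObj B] [GrpObj C]
    [Smooth A.hom] [Smooth B.hom] [Smooth C.hom]
    [QuasiCompact A.hom] [QuasiCompact B.hom] [QuasiCompact C.hom]
    (i : A ⟶ B) (π : B ⟶ C) [IsMonHom i] [IsMonHom π]
    (hex : NonAbH1.IsExactSeq Scheme.fppfPrecoverage i π) [ConnectedSpace A.left]
    (c : AlgGrp.Action B A) (hc : c.act ≫ i = fst B A * (snd B A ≫ i) * (fst B A)⁻¹)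
    (z : GpH1.OneCocycleLC (kb ≃ₐ[k] kb) (SGA7.Pts kb B))
    (Az : Over (Spec (CommRingCat.of k))) (hAz : GalTw.IsActTwist kb c z.1 Az)
    (Bz : Over (Spec (CommRingCat.of k))) [GrpObj Bz] (hBz : GalTw.IsInnTwist kb B z.1 Bz)
    (Cz : Over (Spec (CommRingCat.of k))) [GrpObj Cz]
    (hCz : GalTw.IsInnTwist kb C
      (GalTw.lcMap (GalTw.ptsMap (K := kb) π) (GalTw.ptsMap_smul (K := kb) π) z).1 Cz) :
    Nat.card (SGA7.Pts k Bz) = Nat.card (SGA7.Pts k Az) * Nat.card (SGA7.Pts k Cz) := by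
  obtain ⟨_, _, hiπ, hcart, hloc⟩ := hex
  letI := Fintype.ofFinite k
  haveI : IsAlgClosed kb := IsAlgClosure.isAlgClosed k
  haveI : Algebra.IsAlgebraic k kb := IsAlgClosure.isAlgebraic
  haveI : Normal k kb := IsAlgClosure.normal k kb
  haveI : IsGalois k kb := ⟨⟩
  let σ₀ : kb ≃ₐ[k] kb := FiniteField.frobeniusAlgEquivOfAlgebraic k kb
  have hσ : ∀ x : kb, σ₀ x = x ^ Nat.card k := fun x => by
    rw [Nat.card_eq_fintype_card]
    rfl
  obtain ⟨fr, hfr⟩ := LangGenLib.exists_isFrob k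
  have cB := LangGenLib.cocycle_frob k kb σ₀ hσ (SGA7.Pts kb B) LangGenLib.isOpen_stab LangGenLib.exists_finite_subgroup
  have cC := LangGenLib.cocycle_frob k kb σ₀ hσ (SGA7.Pts kb C) LangGenLib.isOpen_stab LangGenLib.exists_finite_subgroup
  let P := GalTw.ptsMap (K := kb) π
  let I := GalTw.ptsMap (K := kb) i
  let w := GalTw.lcMap P (GalTw.ptsMap_smul (K := kb) π) z
  have hP : Function.Surjective P := fun y => LangGenLib.exists_pts_lift π hloc y
  have hI : Function.Injective I := fun x x' h =>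
    (LangGenLib.exists_kernel_lift i π hcart (x ≫ i) (by rw [Category.assoc, hiπ, MonObj.comp_one])).unique rfl h.symm
  obtain ⟨eA⟩ := StackCountLib.pts_actTwist c z.1 hAz
  obtain ⟨eB⟩ := StackCountLib.pts_innTwist z.1 hBz
  obtain ⟨eC⟩ := StackCountLib.pts_innTwist w.1 hCz
  rw [Nat.card_congr eA, Nat.card_congr eB, Nat.card_congr eC]
  let SB : Subgroup (SGA7.Pts kb B) :=
    { carrier := {g | ∀ σ : kb ≃ₐ[k] kb, g * z.1 σ * (σ • g)⁻¹ = z.1 σ}
      one_mem' := fun σ => by rw [smul_one, inv_one, _root_.mul_one, _root_.one_mul]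
      mul_mem' := fun {g h} hg hh σ => by
        rw [smul_mul', mul_inv_rev]
        conv_rhs => rw [← hg σ, ← hh σ]
        group
      inv_mem' := fun {g} hg σ => by
        rw [smul_inv', inv_inv]
        conv_lhs => rw [← hg σ]
        group }
  let f : SB →* SGA7.Pts kb C := P.comp SB.subtype
  -- frobenius decides
  have hfrob : ∀ y : SGA7.Pts kb C, y * w.1 σ₀ * (σ₀ • y)⁻¹ = w.1 σ₀ →
      ∀ σ : kb ≃ₐ[k] kb, y * w.1 σ * (σ • y)⁻¹ = w.1 σ := by
    intro y hy σ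
    let w' : GpH1.OneCocycleLC (kb ≃ₐ[k] kb) (SGA7.Pts kb C) := ⟨⟨fun τ => y * w.1 τ * (τ • y)⁻¹, fun τ τ' => by
        show y * w.1 (τ * τ') * ((τ * τ') • y)⁻¹ = y * w.1 τ * (τ • y)⁻¹ * τ • (y * w.1 τ' * (τ' • y)⁻¹)
        rw [w.1.2, smul_mul', smul_mul', smul_inv', mul_smul]
        group⟩, by
      refine (IsLocallyConstant.iff_exists_open _).2 fun τ => ?_
      obtain ⟨V, hV, hτ, hc'⟩ := (IsLocallyConstant.iff_exists_open _).1 w.2 τ
      refine ⟨V ∩ (fun s => τ⁻¹ * s) ⁻¹' {s : kb ≃ₐ[k] kb | s • y = y},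
        hV.inter ((LangGenLib.isOpen_stab y).preimage (continuous_const_mul _)), ⟨hτ, by simp⟩, fun s hs => ?_⟩
      show y * w.1 s * (s • y)⁻¹ = y * w.1 τ * (τ • y)⁻¹
      rw [show w.1 s = w.1 τ from hc' s hs.1]
      congr 2
      conv_lhs => rw [← mul_inv_cancel_left τ s, mul_smul, show (τ⁻¹ * s) • y = y from hs.2]⟩
    exact congrArg (fun v : GpH1.OneCocycleLC (kb ≃ₐ[k] kb) (SGA7.Pts kb C) => v.1 σ)
      (cC.1.1 (show w'.1 σ₀ = w.1 σ₀ from hy))
  have hfrobB : ∀ y : SGA7.Pts kb B, y * z.1 σ₀ * (σ₀ • y)⁻¹ = z.1 σ₀ → y ∈ SB := by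
    intro y hy σ
    let z' : GpH1.OneCocycleLC (kb ≃ₐ[k] kb) (SGA7.Pts kb B) := ⟨⟨fun τ => y * z.1 τ * (τ • y)⁻¹, fun τ τ' => by
        show y * z.1 (τ * τ') * ((τ * τ') • y)⁻¹ = y * z.1 τ * (τ • y)⁻¹ * τ • (y * z.1 τ' * (τ' • y)⁻¹)
        rw [z.1.2, smul_mul', smul_mul', smul_inv', mul_smul]
        group⟩, by
      refine (IsLocallyConstant.iff_exists_open _).2 fun τ => ?_
      obtain ⟨V, hV, hτ, hc'⟩ := (IsLocallyConstant.iff_exists_open _).1 z.2 τ
      refine ⟨V ∩ (fun s => τ⁻¹ * s) ⁻¹' {s : kb ≃ₐ[k] kb | s • y = y},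
        hV.inter ((LangGenLib.isOpen_stab y).preimage (continuous_const_mul _)), ⟨hτ, by simp⟩, fun s hs => ?_⟩
      show y * z.1 s * (s • y)⁻¹ = y * z.1 τ * (τ • y)⁻¹
      rw [show z.1 s = z.1 τ from hc' s hs.1]
      congr 2
      conv_lhs => rw [← mul_inv_cancel_left τ s, mul_smul, show (τ⁻¹ * s) • y = y from hs.2]⟩
    exact congrArg (fun v : GpH1.OneCocycleLC (kb ≃ₐ[k] kb) (SGA7.Pts kb B) => v.1 σ)
      (cB.1.1 (show z'.1 σ₀ = z.1 σ₀ from hy))
  have hrange : (f.range : Set (SGA7.Pts kb C)) = {y | ∀ σ : kb ≃ₐ[k] kb, y * w.1 σ * (σ • y)⁻¹ = w.1 σ} := by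
    ext y
    constructor
    · rintro ⟨⟨g, hg⟩, rfl⟩ σ
      show P g * P (z.1 σ) * (σ • P g)⁻¹ = P (z.1 σ)
      rw [← GalTw.ptsMap_smul, ← map_inv, ← map_mul, ← map_mul, hg σ]
    · intro hy
      obtain ⟨b, rfl⟩ := hP y
      have hy₀ : P b * P (z.1 σ₀) * (σ₀ • P b)⁻¹ = P (z.1 σ₀) := hy σ₀
      rw [← GalTw.ptsMap_smul, ← map_inv, ← map_mul, ← map_mul] at hy₀
      let z₁ := b * z.1 σ₀ * (σ₀ • b)⁻¹
      have hk : (z.1 σ₀ * z₁⁻¹) ≫ π = 1 := by
        show P (z.1 σ₀ * z₁⁻¹) = 1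
        rw [map_mul, map_inv, hy₀, mul_inv_cancel]
      obtain ⟨a, ha, -⟩ := LangGenLib.exists_kernel_lift i π hcart _ hk
      obtain ⟨x, hx⟩ := LangGenLib.exists_lang_conj kb hfr i π hiπ hcart z₁ a
      have h2 : σ₀ • (x ≫ i) = (x ≫ fr A) ≫ i := by
        rw [hfr.smul_eq hσ, Category.assoc, Category.assoc, hfr.nat i]
      rw [ha] at hx
      refine ⟨⟨(x ≫ i) * b, hfrobB _ ?_⟩, ?_⟩
      · rw [smul_mul', h2, mul_inv_rev]
        calc _ = (x ≫ i) * z₁ * ((x ≫ fr A) ≫ i)⁻¹ * z₁⁻¹ * z₁ := by simp only [z₁]; group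
          _ = z.1 σ₀ := by rw [hx, inv_mul_cancel_right]
      · show P ((x ≫ i) * b) = P b
        rw [map_mul, show P (x ≫ i) = 1 by
          show (x ≫ i) ≫ π = 1
          rw [Category.assoc, hiπ, MonObj.comp_one], _root_.one_mul]
  -- the kernel
  have hAcond : ∀ (x : SGA7.Pts kb A) (σ : kb ≃ₐ[k] kb),
      lift (z.1 σ) (σ • x) ≫ c.act = x ↔ (x ≫ i) * z.1 σ * (σ • (x ≫ i))⁻¹ = z.1 σ := by
    intro x σ
    have h1 : (lift (z.1 σ) (σ • x) ≫ c.act) ≫ i = z.1 σ * (σ • (x ≫ i)) * (z.1 σ)⁻¹ := by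
      rw [Category.assoc, hc]
      simp only [MonObj.comp_mul, GrpObj.comp_inv, lift_fst, lift_snd_assoc]
      congr 2
    refine (hI.eq_iff).symm.trans ?_
    change (lift (z.1 σ) (σ • x) ≫ c.act) ≫ i = x ≫ i ↔ _
    rw [h1, mul_inv_eq_iff_eq_mul, mul_inv_eq_iff_eq_mul]
    exact eq_comm
  have hker : Nat.card f.ker = Nat.card {x : SGA7.Pts kb A // ∀ σ : kb ≃ₐ[k] kb, lift (z.1 σ) (σ • x) ≫ c.act = x} := by
    have hmem : ∀ x : {x : SGA7.Pts kb A // ∀ σ : kb ≃ₐ[k] kb, lift (z.1 σ) (σ • x) ≫ c.act = x},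
        (x.1 ≫ i : SGA7.Pts kb B) ∈ SB := fun x σ => (hAcond x.1 σ).1 (x.2 σ)
    have hone : ∀ x : {x : SGA7.Pts kb A // ∀ σ : kb ≃ₐ[k] kb, lift (z.1 σ) (σ • x) ≫ c.act = x},
        f ⟨x.1 ≫ i, hmem x⟩ = 1 := fun x => by
      show (x.1 ≫ i) ≫ π = 1
      rw [Category.assoc, hiπ, MonObj.comp_one]
    let Φ : {x : SGA7.Pts kb A // ∀ σ : kb ≃ₐ[k] kb, lift (z.1 σ) (σ • x) ≫ c.act = x} → f.ker :=
      fun x => ⟨⟨x.1 ≫ i, hmem x⟩, MonoidHom.mem_ker.2 (hone x)⟩
    have hΦ : Function.Bijective Φ := by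
      refine ⟨fun x x' h => ?_, fun g => ?_⟩
      · have h' : I x.1 = I x'.1 := congrArg (fun t : f.ker => t.1.1) h
        exact Subtype.ext (hI h')
      · have hg : (g.1.1 : SGA7.Pts kb B) ≫ π = 1 := MonoidHom.mem_ker.1 g.2
        obtain ⟨x, hx, -⟩ := LangGenLib.exists_kernel_lift i π hcart g.1.1 hg
        have hx2 : ∀ σ : kb ≃ₐ[k] kb, lift (z.1 σ) (σ • x) ≫ c.act = x := fun σ =>
          (hAcond x σ).2 (by rw [hx]; exact g.1.2 σ)
        exact ⟨⟨x, hx2⟩, Subtype.ext (Subtype.ext hx)⟩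
    exact (Nat.card_congr (Equiv.ofBijective Φ hΦ)).symm
  have hcard : Nat.card SB = Nat.card f.ker * Nat.card f.range := by
    rw [Subgroup.card_eq_card_quotient_mul_card_subgroup f.ker,
      Nat.card_congr (QuotientGroup.quotientKerEquivRange f).toEquiv, mul_comm]
  rw [← hker, show Nat.card {y : SGA7.Pts kb C // ∀ σ : kb ≃ₐ[k] kb, y * w.1 σ * (σ • y)⁻¹ = w.1 σ} =
    Nat.card f.range from Nat.card_congr (Equiv.subtypeEquivRight fun y => (Set.ext_iff.1 hrange y).symm)]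
  exact hcard

end Groth.Agent.S15688
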