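import Groth.Statements.S1569


-- import your own Groth.Agent.* helpers here

set_option autoImplicit false
universe u
open CategoryTheory CategoryTheory.Limits AlgebraicGeometry
open Divisors

namespace Groth.Agent.S1569

/-- On a Noetherian scheme, an effective Cartier divisor which is integral as a closed subscheme has a
discrete valuation ring as the local ring of the ambient scheme at its generic point. -/
theorem result (X : Scheme.{u}) [IsNoetherian X]
    (D : X.IdealSheafData) (hD : BlowUp.IsEffCartierIdeal D) [IsIntegral D.subscheme]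
    (ξ : X) (hξ : IsGenericPoint ξ (D.support : Set X)) :
    ∃ _ : IsDomain (X.presheaf.stalk ξ), IsDiscreteValuationRing (X.presheaf.stalk ξ) := by
  have hξs : ξ ∈ (D.support : Set X) := hξ.mem
  obtain ⟨U, hxU, f, hf, hI⟩ := hD ξ
  obtain ⟨z, hz⟩ : ∃ z, D.subschemeι z = ξ := by
    rw [← D.range_subschemeι] at hξs
    exact hξs
  haveI : Nonempty (D.subschemeι ⁻¹ᵁ U.1 : D.subscheme.Opens) := ⟨⟨z, show D.subschemeι z ∈ U.1 from hz ▸ hxU⟩⟩
  have hq : (D.ideal U).IsPrime := by
    rw [← D.ker_subschemeι_app U]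
    exact RingHom.ker_isPrime _
  let P := U.2.primeIdealOf ⟨ξ, hxU⟩
  have hP : P.asIdeal = D.ideal U := by
    have him := IsAffineOpen.fromSpec_image_zeroLocus U.2 (D.ideal U : Set Γ(X, U.1))
    have hy : U.2.fromSpec ⟨D.ideal U, hq⟩ ∈ (D.support : Set X) ∩ U.1 := by
      rw [D.coe_support_inter U, ← him]
      exact ⟨⟨D.ideal U, hq⟩, fun _ h => h, rfl⟩
    have h1 : U.2.fromSpec P ⤳ U.2.fromSpec ⟨D.ideal U, hq⟩ := by
      rw [U.2.fromSpec_primeIdealOf]
      exact hξ.specializes hy.1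
    rw [U.2.fromSpec.isEmbedding.isInducing.specializes_iff] at h1
    replace h1 : P ≤ ⟨D.ideal U, hq⟩ := (PrimeSpectrum.le_iff_specializes _ _).2 h1
    refine le_antisymm h1 ?_
    have hx' : ξ ∈ (D.support : Set X) ∩ U.1 := ⟨hξs, hxU⟩
    rw [D.coe_support_inter U, ← him] at hx'
    obtain ⟨P', hP', hP''⟩ := hx'
    have : P' = P := U.2.fromSpec.isEmbedding.injective (hP''.trans (U.2.fromSpec_primeIdealOf ⟨ξ, hxU⟩).symm)
    exact this ▸ hP'
  letI := TopCat.Presheaf.algebra_section_stalk X.presheaf (⟨ξ, hxU⟩ : U.1)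
  haveI := U.2.isLocalization_stalk ⟨ξ, hxU⟩
  haveI : IsNoetherianRing Γ(X, U.1) := IsLocallyNoetherian.component_noetherian U
  haveI : IsNoetherianRing (X.presheaf.stalk ξ) := IsLocalization.isNoetherianRing P.asIdeal.primeCompl _ ‹_›
  let g := algebraMap Γ(X, U.1) (X.presheaf.stalk ξ)
  have hmax : IsLocalRing.maximalIdeal (X.presheaf.stalk ξ) = Ideal.span {g f} := by
    rw [← IsLocalization.AtPrime.map_eq_maximalIdeal P.asIdeal (X.presheaf.stalk ξ), hP, hI, Ideal.map_span, Set.image_singleton]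
  have hgf : g f ∈ nonZeroDivisors (X.presheaf.stalk ξ) :=
    IsLocalization.map_nonZeroDivisors_le P.asIdeal.primeCompl _ (Submonoid.mem_map_of_mem _ hf)
  have hfm : g f ∈ IsLocalRing.maximalIdeal (X.presheaf.stalk ξ) := hmax ▸ Ideal.mem_span_singleton_self _
  have hkrull : ⨅ n : ℕ, IsLocalRing.maximalIdeal (X.presheaf.stalk ξ) ^ n = ⊥ :=
    Ideal.iInf_pow_eq_bot_of_isLocalRing _ (IsLocalRing.maximalIdeal.isMaximal _).ne_top
  have hdec : ∀ x : X.presheaf.stalk ξ, x ≠ 0 → ∃ (n : ℕ) (u : (X.presheaf.stalk ξ)ˣ), x = g f ^ n * u := by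
    intro x hx
    have hex : ∃ n : ℕ, x ∉ IsLocalRing.maximalIdeal (X.presheaf.stalk ξ) ^ n := by
      by_contra hno
      push Not at hno
      exact hx (by rw [← Ideal.mem_bot, ← hkrull, Ideal.mem_iInf]; exact hno)
    classical
    obtain ⟨n, hn⟩ : ∃ n, Nat.find hex = n + 1 := ⟨Nat.find hex - 1, by
      have : Nat.find hex ≠ 0 := fun h0 => by simpa [h0] using Nat.find_spec hex
      omega⟩
    have h1 : x ∈ IsLocalRing.maximalIdeal (X.presheaf.stalk ξ) ^ n :=
      not_not.1 (Nat.find_min hex (by omega))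
    rw [hmax, Ideal.span_singleton_pow, Ideal.mem_span_singleton'] at h1
    obtain ⟨c, hc⟩ := h1
    have hcu : IsUnit c := by
      by_contra hcu
      have h2 : c ∈ IsLocalRing.maximalIdeal (X.presheaf.stalk ξ) := (IsLocalRing.mem_maximalIdeal c).2 hcu
      refine Nat.find_spec hex ?_
      rw [hn, pow_succ', ← hc]
      exact Ideal.mul_mem_mul h2 (Ideal.pow_mem_pow hfm n)
    exact ⟨n, hcu.unit, by rw [← hc, IsUnit.unit_spec, mul_comm]⟩
  haveI : IsDomain (X.presheaf.stalk ξ) := by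
    haveI : NoZeroDivisors (X.presheaf.stalk ξ) := ⟨fun {a b} hab => by
      by_contra h'
      push Not at h'
      obtain ⟨n, u, rfl⟩ := hdec a h'.1
      obtain ⟨m, v, rfl⟩ := hdec b h'.2
      have : g f ^ (n + m) * ((u * v : (X.presheaf.stalk ξ)ˣ) : X.presheaf.stalk ξ) = 0 := by
        rw [pow_add, Units.val_mul, mul_mul_mul_comm]; exact hab
      exact nonZeroDivisors.ne_zero (pow_mem hgf (n + m)) ((Units.mul_left_eq_zero _).1 this)⟩
    exact NoZeroDivisors.to_isDomain _
  refine ⟨inferInstance, IsDiscreteValuationRing.ofHasUnitMulPowIrreducibleFactorization ⟨g f, ?_, fun {x} hx => ?_⟩⟩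
  · have hp : Prime (g f) := by
      rw [← Ideal.span_singleton_prime (nonZeroDivisors.ne_zero hgf), ← hmax]
      exact (IsLocalRing.maximalIdeal.isMaximal _).isPrime
    exact hp.irreducible
  · obtain ⟨n, u, rfl⟩ := hdec x hx
    exact ⟨n, u, rfl⟩

end Groth.Agent.S1569
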