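import Groth.Statements.S15692
import Groth.Agent.UnipCountLib.Compat
import Groth.Agent.UnipCountLib.Mass

set_option autoImplicit false
set_option backward.isDefEq.respectTransparency false
set_option backward.isDefEq.respectTransparency.types false
set_option maxHeartbeats 1000000
set_option synthInstance.maxHeartbeats 400000
universe u
open CategoryTheory AlgebraicGeometry MonoidalCategory CartesianMonoidalCategory MonObj
open StackCount

attribute [-instance] CategoryTheory.Hom.commGroup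
set_option backward.isDefEq.respectTransparency false
set_option backward.isDefEq.respectTransparency.types false
set_option maxHeartbeats 1000000
set_option linter.all false
open Groth.Agent
namespace Groth.Agent.S15692

theorem act_mul {k : Type u} [Field k] {G X : Over (Spec (CommRingCat.of k))} [GrpObj G] (a : AlgGrp.Action G X)
    {T : Over (Spec (CommRingCat.of k))} (g g' : T ⟶ G) (x : T ⟶ X) :
    lift (g * g') x ≫ a.act = lift g (lift g' x ≫ a.act) ≫ a.act := by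
  have h := congrArg (lift (lift g g') x ≫ ·) a.mul_act
  simp only [← Category.assoc, lift_whiskerRight, lift_lift_associator_hom, lift_whiskerLeft] at h
  exact h

theorem act_one' {k : Type u} [Field k] {G X : Over (Spec (CommRingCat.of k))} [GrpObj G] (a : AlgGrp.Action G X)
    {T : Over (Spec (CommRingCat.of k))} (x : T ⟶ X) : lift (1 : T ⟶ G) x ≫ a.act = x := by
  have h := congrArg (lift (toUnit T) x ≫ ·) a.one_act
  simp only [← Category.assoc, lift_whiskerRight] at h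
  rw [Hom.one_def, h]
  simp

theorem count_compat {k : Type u} [Field k] [Finite k] {kb : Type u} [Field kb] [Algebra k kb] [IsAlgClosure k kb]
    (K : IntermediateField k kb) [FiniteDimensional k K] [Normal k K]
    {G H U X : Over (Spec (CommRingCat.of k))} [GrpObj G] [GrpObj H] [GrpObj U] [Smooth G.hom] [IsAffineHom G.hom]
    [Smooth H.hom] [IsAffineHom H.hom] [Smooth U.hom] [IsAffineHom U.hom] [ConnectedSpace U.left]
    [LocallyOfFiniteType X.hom] [QuasiCompact X.hom]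
    (iH : H ⟶ G) (iU : U ⟶ G) [IsMonHom iH] [IsMonHom iU] [Mono iH] [Mono iU] (hUn : AlgGrp.IsNormalHom iU)
    (hsd : IsIso ((fst H U ≫ iH) * (snd H U ≫ iU))) (hUu : Red.HasNoSubtorus kb (GalTw.bcK kb U))
    (d : ℕ) (hd : topologicalKrullDim ↥U.left = (d : WithBot ℕ∞))
    (aG : AlgGrp.Action G X) (aH : AlgGrp.Action H X) (haH : aH.act = (iH ▷ X) ≫ aG.act) :
    Nat.card (StackCountLib.compatSet K aG) * Nat.card k ^ d =
      Nat.card (SGA7.Pts K U) * Nat.card (StackCountLib.compatSet K aH) ∧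
    Nat.card (SGA7.Pts K G) = Nat.card (SGA7.Pts K H) * Nat.card (SGA7.Pts K U) := by
  classical
  haveI : IsAlgClosed kb := IsAlgClosure.isAlgClosed k
  haveI : Algebra.IsAlgebraic k kb := IsAlgClosure.isAlgebraic
  haveI : Normal k kb := IsAlgClosure.normal k kb
  haveI : IsGalois k kb := ⟨⟩
  haveI : Finite K := Module.finite_of_finite k
  haveI : IsGalois k K := ⟨⟩
  haveI := LangGenLib.finite_pts (k := k) K G
  haveI := LangGenLib.finite_pts (k := k) K H
  haveI := LangGenLib.finite_pts (k := k) K U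
  haveI := LangGenLib.finite_pts (k := k) K X
  haveI : IsAffine U.left := isAffine_of_isAffineHom U.hom
  obtain ⟨π, _, ρ, hdec, h1, h2, huniq, hcart⟩ := UnipCountLib.exists_proj iH iU hUn hsd
  obtain ⟨c, hc⟩ := UnipCountLib.exists_conj_action iH iU hUn
  have hcev : ∀ (h : SGA7.Pts K H) (u : SGA7.Pts K U),
      (lift h u ≫ c.act) ≫ iU = (h ≫ iH) * (u ≫ iU) * (h ≫ iH)⁻¹ := fun h u => by
    rw [Category.assoc, hc]
    simp only [MonObj.comp_mul, GrpObj.comp_inv, lift_fst_assoc, lift_snd_assoc]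
  have hH : ∀ {T : Over (Spec (CommRingCat.of k))} (h : T ⟶ H) (x : T ⟶ X),
      lift h x ≫ aH.act = lift (h ≫ iH) x ≫ aG.act := fun h x => by
    rw [haH, ← Category.assoc, lift_whiskerRight]
  have hsm : ∀ {Y Z : Over (Spec (CommRingCat.of k))} (σ : K ≃ₐ[k] K) (y : SGA7.Pts K Y) (f : Y ⟶ Z),
      σ • ((y ≫ f : SGA7.Pts K Z)) = (σ • y) ≫ f := fun σ y f => by
    rw [GalTw.pts_smul_def, GalTw.pts_smul_def, Category.assoc]
  have hsa : ∀ (σ : K ≃ₐ[k] K) (g : SGA7.Pts K G) (x : SGA7.Pts K X),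
      σ • (lift g x ≫ aG.act) = lift (σ • g) (σ • x) ≫ aG.act := fun σ g x => by
    rw [hsm]
    congr 1
    exact comp_lift (SGA7.specAut σ) g x
  -- the action of `g` on the data of a torsor
  let D : SGA7.Pts K G → (((K ≃ₐ[k] K) → SGA7.Pts K G) × SGA7.Pts K X) →
      (((K ≃ₐ[k] K) → SGA7.Pts K G) × SGA7.Pts K X) :=
    fun g d => (fun σ => g * d.1 σ * (σ • g)⁻¹, lift g d.2 ≫ aG.act)
  have hDmem : ∀ g d, d ∈ StackCountLib.compatSet K aG → D g d ∈ StackCountLib.compatSet K aG := by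
    rintro g ⟨w, x⟩ ⟨hw, hx⟩
    refine ⟨fun σ τ => ?_, fun σ => ?_⟩
    · show g * w (σ * τ) * ((σ * τ) • g)⁻¹ = g * w σ * (σ • g)⁻¹ * σ • (g * w τ * (τ • g)⁻¹)
      rw [show w (σ * τ) = w σ * σ • w τ from hw σ τ, smul_mul', smul_mul', smul_inv', mul_smul]
      group
    · show lift (g * w σ * (σ • g)⁻¹) (σ • (lift g x ≫ aG.act)) ≫ aG.act = lift g x ≫ aG.act
      rw [hsa, ← act_mul, inv_mul_cancel_right, act_mul, hx σ]
  have hDmul : ∀ g g' d, D g (D g' d) = D (g * g') d := fun g g' d => by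
    refine Prod.ext (funext fun σ => ?_) (act_mul aG g g' d.2).symm
    show g * (g' * d.1 σ * (σ • g')⁻¹) * (σ • g)⁻¹ = g * g' * d.1 σ * (σ • (g * g'))⁻¹
    rw [smul_mul', mul_inv_rev]
    group
  have hD1 : ∀ d, D 1 d = d := fun d => by
    refine Prod.ext (funext fun σ => ?_) (act_one' aG d.2)
    show 1 * d.1 σ * (σ • 1)⁻¹ = d.1 σ
    rw [smul_one, inv_one, _root_.mul_one, _root_.one_mul]
  let E : StackCountLib.compatSet K aH → StackCountLib.compatSet K aG := fun d =>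
    ⟨(fun σ => d.1.1 σ ≫ iH, d.1.2), fun σ τ => by
      show d.1.1 (σ * τ) ≫ iH = (d.1.1 σ ≫ iH) * σ • (d.1.1 τ ≫ iH)
      rw [d.2.1, MonObj.mul_comp, hsm], fun σ => by
      show lift (d.1.1 σ ≫ iH) (σ • d.1.2) ≫ aG.act = d.1.2
      rw [← hH]; exact d.2.2 σ⟩
  let Φ : SGA7.Pts K U × StackCountLib.compatSet K aH → StackCountLib.compatSet K aG :=
    fun p => ⟨D (p.1 ≫ iU) (E p.2).1, hDmem _ _ (E p.2).2⟩
  have hπD : ∀ (u : SGA7.Pts K U) (d : StackCountLib.compatSet K aH) σ,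
      (D (u ≫ iU) (E d).1).1 σ ≫ π = d.1.1 σ := fun u d σ => by
    show ((u ≫ iU) * (d.1.1 σ ≫ iH) * (σ • (u ≫ iU))⁻¹) ≫ π = _
    rw [hsm, MonObj.mul_comp, MonObj.mul_comp, GrpObj.inv_comp, Category.assoc, Category.assoc, Category.assoc, h1,
      h2, MonObj.comp_one, MonObj.comp_one, Category.comp_id, inv_one, _root_.mul_one, _root_.one_mul]
  have hΦs : Function.Surjective Φ := by
    rintro ⟨⟨w, x⟩, hwx⟩
    obtain ⟨u, hu⟩ := UnipCountLib.exists_reduce K iH iU π h1 h2 hcart w hwx.1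
    have hE : D (u ≫ iU) (w, x) = (fun σ => (w σ ≫ π) ≫ iH, lift (u ≫ iU) x ≫ aG.act) :=
      Prod.ext (funext hu) rfl
    have hmem := hDmem (u ≫ iU) _ hwx
    rw [hE] at hmem
    have hmemH : ((fun σ => w σ ≫ π, lift (u ≫ iU) x ≫ aG.act) :
        ((K ≃ₐ[k] K) → SGA7.Pts K H) × SGA7.Pts K X) ∈ StackCountLib.compatSet K aH :=
      ⟨fun σ τ => by
        show w (σ * τ) ≫ π = (w σ ≫ π) * σ • (w τ ≫ π)
        rw [show w (σ * τ) = w σ * σ • w τ from hwx.1 σ τ, MonObj.mul_comp, hsm], fun σ => by rw [hH]; exact hmem.2 σ⟩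
    refine ⟨(u⁻¹, ⟨_, hmemH⟩), Subtype.ext ?_⟩
    show D (u⁻¹ ≫ iU) (fun σ => (w σ ≫ π) ≫ iH, lift (u ≫ iU) x ≫ aG.act) = (w, x)
    rw [← hE, hDmul, GrpObj.inv_comp, inv_mul_cancel, hD1]
  have hfib : ∀ e : StackCountLib.compatSet K aG, Nat.card {p // Φ p = e} = Nat.card k ^ d := fun e => by
    obtain ⟨⟨u₀, d₀⟩, rfl⟩ := hΦs e
    let z : GpH1.OneCocycle (K ≃ₐ[k] K) (SGA7.Pts K H) := ⟨d₀.1.1, d₀.2.1⟩
    let ι₀ : K →ₐ[k] kb := IntermediateField.val K
    rw [← UnipCountLib.card_twisted iH iU c hc kb ι₀ hUu d hd z]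
    have hsh : ∀ p : SGA7.Pts K U × StackCountLib.compatSet K aH, Φ p = Φ (u₀, d₀) →
        D ((u₀⁻¹ * p.1) ≫ iU) (E p.2).1 = (E d₀).1 ∧ p.2.1.1 = d₀.1.1 := fun p hp => by
      have hp' : D (p.1 ≫ iU) (E p.2).1 = D (u₀ ≫ iU) (E d₀).1 := congrArg Subtype.val hp
      refine ⟨?_, funext fun σ => ?_⟩
      · rw [MonObj.mul_comp, GrpObj.inv_comp, ← hDmul, hp', hDmul, inv_mul_cancel, hD1]
      · rw [← hπD p.1 p.2 σ, hp', hπD]
    refine Nat.card_congr
      { toFun := fun p => ⟨u₀⁻¹ * p.1.1, fun σ => ?_⟩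
        invFun := fun t => ⟨(u₀ * t.1, ⟨(d₀.1.1, lift ((t.1)⁻¹ ≫ iU) d₀.1.2 ≫ aG.act), d₀.2.1, fun σ => ?_⟩), ?_⟩
        left_inv := fun p => ?_
        right_inv := fun t => Subtype.ext (inv_mul_cancel_left _ _) }
    · obtain ⟨hp, hh⟩ := hsh p.1 p.2
      have h := congrFun (congrArg Prod.fst hp) σ
      change ((u₀⁻¹ * p.1.1) ≫ iU) * (p.1.2.1.1 σ ≫ iH) * (σ • ((u₀⁻¹ * p.1.1) ≫ iU))⁻¹ = d₀.1.1 σ ≫ iH at h
      rw [hh, hsm] at h
      rw [← cancel_mono iU, hcev]
      show (d₀.1.1 σ ≫ iH) * ((σ • (u₀⁻¹ * p.1.1)) ≫ iU) * (d₀.1.1 σ ≫ iH)⁻¹ = _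
      rw [mul_inv_eq_iff_eq_mul] at h
      rw [← h, mul_inv_cancel_right]
    · have ht := congrArg (· ≫ iU) (t.2 σ)
      simp only [hcev] at ht
      change (d₀.1.1 σ ≫ iH) * ((σ • t.1) ≫ iU) * (d₀.1.1 σ ≫ iH)⁻¹ = t.1 ≫ iU at ht
      show lift (d₀.1.1 σ) (σ • (lift ((t.1)⁻¹ ≫ iU) d₀.1.2 ≫ aG.act)) ≫ aH.act = lift ((t.1)⁻¹ ≫ iU) d₀.1.2 ≫ aG.act
      rw [hH, hsa, hsm, ← act_mul]
      rw [show (d₀.1.1 σ ≫ iH) * ((σ • (t.1)⁻¹) ≫ iU) = ((t.1)⁻¹ ≫ iU) * (d₀.1.1 σ ≫ iH) by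
        rw [smul_inv', GrpObj.inv_comp, GrpObj.inv_comp, ← ht]; group, act_mul, ← hH, d₀.2.2 σ]
    · refine Subtype.ext ?_
      show D ((u₀ * t.1) ≫ iU) (fun σ => d₀.1.1 σ ≫ iH, lift ((t.1)⁻¹ ≫ iU) d₀.1.2 ≫ aG.act) = D (u₀ ≫ iU) (E d₀).1
      rw [MonObj.mul_comp, ← hDmul]
      congr 1
      refine Prod.ext (funext fun σ => ?_) ?_
      · have ht := congrArg (· ≫ iU) (t.2 σ)
        simp only [hcev] at ht
        show (t.1 ≫ iU) * (d₀.1.1 σ ≫ iH) * (σ • (t.1 ≫ iU))⁻¹ = d₀.1.1 σ ≫ iH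
        rw [hsm]
        change (d₀.1.1 σ ≫ iH) * ((σ • t.1) ≫ iU) * (d₀.1.1 σ ≫ iH)⁻¹ = t.1 ≫ iU at ht
        rw [← ht]
        group
      · show lift (t.1 ≫ iU) (lift ((t.1)⁻¹ ≫ iU) d₀.1.2 ≫ aG.act) ≫ aG.act = d₀.1.2
        rw [← act_mul, GrpObj.inv_comp, mul_inv_cancel, act_one']
    · obtain ⟨hp, hh⟩ := hsh p.1 p.2
      have h2' := congrArg Prod.snd hp
      refine Subtype.ext (Prod.ext (mul_inv_cancel_left _ _) (Subtype.ext (Prod.ext hh.symm ?_)))
      show lift ((u₀⁻¹ * p.1.1)⁻¹ ≫ iU) d₀.1.2 ≫ aG.act = p.1.2.1.2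
      rw [← show lift ((u₀⁻¹ * p.1.1) ≫ iU) p.1.2.1.2 ≫ aG.act = d₀.1.2 from h2', ← act_mul, GrpObj.inv_comp,
        inv_mul_cancel, act_one']
  refine ⟨?_, ?_⟩
  · haveI : Fintype (StackCountLib.compatSet K aG) := Fintype.ofFinite _
    rw [← Nat.card_prod, ← Nat.card_congr (Equiv.sigmaFiberEquiv Φ), Nat.card_sigma, Finset.sum_congr rfl fun e _ => hfib e,
      Finset.sum_const, Finset.card_univ, smul_eq_mul, Nat.card_eq_fintype_card]
  · rw [← Nat.card_prod]
    exact Nat.card_congr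
      { toFun := fun g => (g ≫ π, g ≫ ρ)
        invFun := fun p => (p.1 ≫ iH) * (p.2 ≫ iU)
        left_inv := fun g => hdec g
        right_inv := fun p => Prod.ext (huniq _ _).1 (huniq _ _).2 }



/-- Let k be a finite field with q elements and algebraic closure k̄, and G a smooth affine algebraic
group over k which is a semidirect product of closed subgroups H and U: the inclusions H → G and U →
G are homomorphisms, U is normal in G, and multiplication H × U → G, (h, u) ↦ h u, is an isomorphism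
of k-schemes. Assume U is smooth, connected and unipotent (its base change to k̄ contains no
non-trivial subtorus), of dimension d. Let G act on a variety X over k (reduced, of finite type) and
let H act on X through its inclusion. If the groupoids of k-points of the quotient stacks [X/G] and
[X/H] (G- resp. H-torsors over Spec k as schemes, locally trivial for the étale topology, with an
equivariant map to X) are essentially finite, then their point counts (sums over isomorphism classes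
of the inverse orders of the automorphism groups) satisfy #[X/G](k) · q^d = #[X/H](k). (The
published statement is for the k′-points over any finite extension k′ of k; this row is the case k′
= k, to which the general case reduces by base change, and takes the groups affine so that torsors
are schemes.) -/
theorem result (k : Type u) [Field k] [Finite k]
    (kb : Type u) [Field kb] [Algebra k kb] [IsAlgClosure k kb]
    (G H U : Over (Spec (CommRingCat.of k))) [GrpObj G] [GrpObj H] [GrpObj U]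
    [Smooth G.hom] [IsAffineHom G.hom] [Smooth H.hom] [IsAffineHom H.hom]
    [Smooth U.hom] [IsAffineHom U.hom] [ConnectedSpace U.left]
    (iH : H ⟶ G) (iU : U ⟶ G) [IsMonHom iH] [IsMonHom iU] [Mono iH] [Mono iU]
    (hUn : AlgGrp.IsNormalHom iU) (hsd : IsIso ((fst H U ≫ iH) * (snd H U ≫ iU)))
    (hUu : Red.HasNoSubtorus kb (GalTw.bcK kb U))
    (d : ℕ) (hd : topologicalKrullDim ↥U.left = (d : WithBot ℕ∞))
    (X : Over (Spec (CommRingCat.of k))) [LocallyOfFiniteType X.hom] [QuasiCompact X.hom]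
    [IsReduced X.left] (aG : AlgGrp.Action G X) (aH : AlgGrp.Action H X)
    (haH : aH.act = (iH ▷ X) ≫ aG.act)
    (hG : StkCnt.IsEssFinite (StkCnt.pts (AlgSt.QuotSt Scheme.etalePrecoverage G aG) k))
    (hH : StkCnt.IsEssFinite (StkCnt.pts (AlgSt.QuotSt Scheme.etalePrecoverage H aH) k)) :
    StkCnt.ptCount (AlgSt.QuotSt Scheme.etalePrecoverage G aG) k hG * (Nat.card k : ℚ) ^ d =
      StkCnt.ptCount (AlgSt.QuotSt Scheme.etalePrecoverage H aH) k hH := by
  classical
  haveI : IsAlgClosed kb := IsAlgClosure.isAlgClosed k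
  haveI : Algebra.IsAlgebraic k kb := IsAlgClosure.isAlgebraic
  haveI : Normal k kb := IsAlgClosure.normal k kb
  haveI : IsGalois k kb := ⟨⟩
  obtain ⟨LG, _, hLG⟩ := UnipCountLib.exists_field (kb := kb) aG hG
  obtain ⟨LH, _, hLH⟩ := UnipCountLib.exists_field (kb := kb) aH hH
  let K := IntermediateField.normalClosure k ↥(LG ⊔ LH) kb
  haveI : FiniteDimensional k K := normalClosure.is_finiteDimensional k ↥(LG ⊔ LH) kb
  haveI : Normal k K := normalClosure.normal k ↥(LG ⊔ LH) kb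
  have hle : LG ⊔ LH ≤ K := IntermediateField.le_normalClosure _
  rw [UnipCountLib.mass aG hG LG K (le_trans le_sup_left hle) hLG,
    UnipCountLib.mass aH hH LH K (le_trans le_sup_right hle) hLH]
  obtain ⟨h₁, h₂⟩ := count_compat K iH iU hUn hsd hUu d hd aG aH haH
  haveI : Finite K := Module.finite_of_finite k
  haveI := LangGenLib.finite_pts (k := k) K H
  haveI := LangGenLib.finite_pts (k := k) K U
  have hU : (Nat.card (SGA7.Pts K U) : ℚ) ≠ 0 := Nat.cast_ne_zero.2 Nat.card_pos.ne'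
  have hHn : (Nat.card (SGA7.Pts K H) : ℚ) ≠ 0 := Nat.cast_ne_zero.2 Nat.card_pos.ne'
  have h₁' : (Nat.card (StackCountLib.compatSet K aG) : ℚ) * (Nat.card k : ℚ) ^ d =
      (Nat.card (SGA7.Pts K U) : ℚ) * (Nat.card (StackCountLib.compatSet K aH) : ℚ) := by exact_mod_cast h₁
  rw [h₂, Nat.cast_mul, div_mul_eq_mul_div, h₁']
  field_simp

end Groth.Agent.S15692
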