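import Groth.Statements.S15693
import Groth.Agent.UnipStabLib.Orbits
import Groth.Agent.UnipStabLib.Data
import Groth.Agent.UnipCountLib.Mass

set_option autoImplicit false
set_option backward.isDefEq.respectTransparency false
set_option backward.isDefEq.respectTransparency.types false
set_option maxHeartbeats 1000000
set_option synthInstance.maxHeartbeats 400000
universe u
open CategoryTheory AlgebraicGeometry MonoidalCategory CartesianMonoidalCategory MonObj
open StackCount

attribute [-instance] CategoryTheory.Hom.commGroup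
set_option backward.isDefEq.respectTransparency false
set_option backward.isDefEq.respectTransparency.types false
set_option maxHeartbeats 1000000
set_option synthInstance.maxHeartbeats 400000
set_option linter.all false
open CategoryTheory.Limits Groth.Agent
namespace Groth.Agent.S15693

theorem stab_mem {k : Type u} [Field k] {kb : Type u} [Field kb] [Algebra k kb]
    {G X : Over (Spec (CommRingCat.of k))} [GrpObj G] (aX : AlgGrp.Action G X) (x : SGA7.Pts kb X)
    {S : Over (Spec (CommRingCat.of kb))} [GrpObj S] (s : S ⟶ GalTw.bcK kb G) [IsMonHom s]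
    (hS : ∀ (T : Over (Spec (CommRingCat.of kb))) (g : (Over.map (SGA7.pt (K := k) kb).hom).obj T ⟶ G),
      (∃ g' : T ⟶ S, g' ≫ s = (Over.mapPullbackAdj (SGA7.pt (K := k) kb).hom).homEquiv T G g) ↔
        lift g ((Over.homMk T.hom rfl : (Over.map (SGA7.pt (K := k) kb).hom).obj T ⟶ SGA7.pt (K := k) kb) ≫ x)
            ≫ aX.act =
          (Over.homMk T.hom rfl : (Over.map (SGA7.pt (K := k) kb).hom).obj T ⟶ SGA7.pt (K := k) kb) ≫ x)
    (h : SGA7.Pts kb G) : h ∈ (UnipStabLib.subHom s).range ↔ lift h x ≫ aX.act = x := by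
  let U : Over (Spec (CommRingCat.of kb)) := 𝟙_ _
  let j0 : (Over.map (SGA7.pt (K := k) kb).hom).obj U ⟶ SGA7.pt (K := k) kb := Over.homMk U.hom rfl
  haveI : IsIso j0 := by
    haveI : IsIso ((Over.forget (Spec (CommRingCat.of k))).map j0) :=
      inferInstanceAs (IsIso (𝟙 (Spec (CommRingCat.of kb))))
    exact isIso_of_reflects_iso _ (Over.forget (Spec (CommRingCat.of k)))
  have hh : (Over.mapPullbackAdj (SGA7.pt (K := k) kb).hom).homEquiv U G (j0 ≫ h) = UnipStabLib.bcEquiv kb G h := by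
    refine (Equiv.apply_eq_iff_eq_symm_apply _).2 (Over.OverMorphism.ext ?_)
    rw [Adjunction.homEquiv_counit]
    show 𝟙 (Spec (CommRingCat.of kb)) ≫ h.left = (AVAmpleLib.bcPt kb h).left ≫ pullback.fst G.hom _
    rw [AVAmpleLib.bcPt_left, Category.id_comp]
    exact (pullback.lift_fst _ _ _).symm
  have h0 := hS U (j0 ≫ h)
  rw [hh, ← comp_lift, Category.assoc] at h0
  have h0' : (∃ g', g' ≫ s = UnipStabLib.bcEquiv kb G h) ↔ j0 ≫ lift h x ≫ aX.act = j0 ≫ x := h0
  rw [cancel_epi] at h0'
  rw [← h0']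
  exact exists_congr fun z => UnipStabLib.subHom_eq s z h



/-- Let k be a finite field with q elements and algebraic closure k̄, G a smooth affine algebraic group
over k acting on a variety X over k (reduced, of finite type), and [X/G] the quotient stack whose
objects over a k-scheme T are G-torsors over T (schemes, locally trivial for the étale topology)
with an equivariant morphism to X. Choose k̄-points x_j of X, indexed by a finite set, lying in
pairwise distinct G(k̄)-orbits, each orbit stable under Gal(k̄/k), and such that every Galois-stable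
orbit contains some x_j. For each j let s_j : S_j → G_k̄ be the stabiliser of x_j: a monomorphic
homomorphism of k̄-group schemes such that a T-valued point of G_k̄ factors through S_j exactly when
it fixes x_j. Assume every S_j contains no non-trivial subtorus (equivalently, the identity
component of its reduced subgroup is unipotent) and has dimension d_j. If the groupoid of k-points
of [X/G] is essentially finite, then its point count (sum over isomorphism classes of the inverse
orders of the automorphism groups) equals Σ_j q^(−d_j). (The published statement is for the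
k′-points over any finite extension k′, to which this case k′ = k applies after base change; it asks
the unipotency of the stabilisers of all orbits, of which only the Galois-stable ones enter; and it
allows any algebraic group G, taken smooth and affine here so that torsors are schemes.) -/
theorem result (k : Type u) [Field k] [Finite k]
    (kb : Type u) [Field kb] [Algebra k kb] [IsAlgClosure k kb]
    (G : Over (Spec (CommRingCat.of k))) [GrpObj G] [Smooth G.hom] [IsAffineHom G.hom]
    (X : Over (Spec (CommRingCat.of k))) [LocallyOfFiniteType X.hom] [QuasiCompact X.hom]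
    [IsReduced X.left] (aX : AlgGrp.Action G X)
    (J : Type) [Fintype J] (x : J → SGA7.Pts kb X)
    (hdis : ∀ j j' : J, (∃ g : SGA7.Pts kb G, lift g (x j) ≫ aX.act = x j') → j = j')
    (hfix : ∀ (j : J) (σ : kb ≃ₐ[k] kb), ∃ g : SGA7.Pts kb G, lift g (σ • x j) ≫ aX.act = x j)
    (hall : ∀ y : SGA7.Pts kb X,
      (∀ σ : kb ≃ₐ[k] kb, ∃ g : SGA7.Pts kb G, lift g (σ • y) ≫ aX.act = y) →
        ∃ (j : J) (g : SGA7.Pts kb G), lift g (x j) ≫ aX.act = y)
    (S : J → Over (Spec (CommRingCat.of kb))) [∀ j, GrpObj (S j)]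
    (s : ∀ j, S j ⟶ GalTw.bcK kb G) [∀ j, IsMonHom (s j)] [∀ j, Mono (s j)]
    (hS : ∀ (j : J) (T : Over (Spec (CommRingCat.of kb)))
      (g : (Over.map (SGA7.pt (K := k) kb).hom).obj T ⟶ G),
      (∃ g' : T ⟶ S j, g' ≫ s j = (Over.mapPullbackAdj (SGA7.pt (K := k) kb).hom).homEquiv T G g) ↔
        lift g ((Over.homMk T.hom rfl : (Over.map (SGA7.pt (K := k) kb).hom).obj T ⟶ SGA7.pt (K := k) kb) ≫ x j)
            ≫ aX.act =
          (Over.homMk T.hom rfl : (Over.map (SGA7.pt (K := k) kb).hom).obj T ⟶ SGA7.pt (K := k) kb) ≫ x j)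
    (hSu : ∀ j, Red.HasNoSubtorus kb (S j))
    (d : J → ℕ) (hd : ∀ j, topologicalKrullDim ↥(S j).left = (d j : WithBot ℕ∞))
    (h : StkCnt.IsEssFinite (StkCnt.pts (AlgSt.QuotSt Scheme.etalePrecoverage G aX) k)) :
    StkCnt.ptCount (AlgSt.QuotSt Scheme.etalePrecoverage G aX) k h =
      ∑ j : J, ((Nat.card k : ℚ) ^ (d j))⁻¹ := by
  classical
  haveI : IsAlgClosed kb := IsAlgClosure.isAlgClosed k
  haveI : Algebra.IsAlgebraic k kb := IsAlgClosure.isAlgebraic
  haveI : Normal k kb := IsAlgClosure.normal k kb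
  haveI : IsGalois k kb := ⟨⟩
  letI := Fintype.ofFinite k
  let π₀ : kb ≃ₐ[k] kb := FiniteField.frobeniusAlgEquivOfAlgebraic k kb
  have hπ : ∀ x : kb, π₀ x = x ^ Nat.card k := fun x => by rw [Nat.card_eq_fintype_card]; rfl
  letI : MulAction (SGA7.Pts kb G) (SGA7.Pts kb G × SGA7.Pts kb X) := UnipStabLib.pairAction aX π₀
  haveI : IsAffine G.left := isAffine_of_isAffineHom G.hom
  haveI : QuasiCompact G.hom := inferInstance
  haveI hsc : ∀ j, IsClosedImmersion (s j).left := fun j =>
    UnipStabLib.isClosedImmersion_stab aX (x j) (s j) (hS j)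
  let St : J → Subgroup (SGA7.Pts kb G) := fun j => (UnipStabLib.subHom (s j)).range
  let B : J → Subgroup (SGA7.Pts kb G) := fun j => (UnipStabLib.zeroPts (S j)).map (UnipStabLib.subHom (s j))
  have hSt : ∀ j h, h ∈ St j ↔ lift h (x j) ≫ aX.act = x j := fun j h => stab_mem aX (x j) (s j) (hS j) h
  have hBS : ∀ j, B j ≤ St j := fun j => by
    rintro _ ⟨z, -, rfl⟩
    exact ⟨z, rfl⟩
  haveI : ∀ j, ((B j).subgroupOf (St j)).Normal := fun j => ⟨by
    rintro ⟨_, _⟩ hn ⟨_, a, rfl⟩
    obtain ⟨n, hn', he⟩ := Subgroup.mem_subgroupOf.1 hn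
    rw [Subgroup.mem_subgroupOf]
    refine ⟨a * n * a⁻¹, (UnipStabLib.zeroPts_normal (S j)).conj_mem n hn' a, ?_⟩
    rw [map_mul, map_mul, map_inv, he]
    rfl⟩
  haveI : ∀ j, Finite (↥(St j) ⧸ (B j).subgroupOf (St j)) := fun j => by
    haveI : LocallyOfFiniteType (S j).hom := by
      haveI : LocallyOfFiniteType (GalTw.bcK kb G).hom :=
        inferInstanceAs (LocallyOfFiniteType (pullback.snd G.hom _))
      rw [← Over.w (s j)]; infer_instance
    haveI : QuasiCompact (S j).hom := by
      haveI : QuasiCompact (GalTw.bcK kb G).hom := inferInstanceAs (QuasiCompact (pullback.snd G.hom _))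
      rw [← Over.w (s j)]; infer_instance
    haveI := UnipStabLib.finite_quot_zeroPts (S j)
    refine Finite.of_surjective (QuotientGroup.map _ ((B j).subgroupOf (St j))
      (UnipStabLib.subHom (s j)).rangeRestrict (fun z hz => ⟨z, hz, rfl⟩)) fun Q => ?_
    induction Q using QuotientGroup.induction_on with
    | _ h =>
      obtain ⟨z, hz⟩ := (UnipStabLib.subHom (s j)).rangeRestrict_surjective h
      exact ⟨QuotientGroup.mk z, congrArg QuotientGroup.mk hz⟩
  choose g₀ hg₀ using fun j => hfix j π₀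
  have hCg : ∀ j, ∀ s' ∈ St j, lift (s' * g₀ j) (π₀ • x j) ≫ aX.act = x j := fun j s' hs' => by
    rw [UnipStabLib.act_mul, hg₀, (hSt j s').1 hs']
  have hconj : ∀ j, ∀ g : SGA7.Pts kb G, lift g (π₀ • x j) ≫ aX.act = x j →
      ∀ h ∈ St j, g * π₀ • h * g⁻¹ ∈ St j := fun j g hg h hh => by
    rw [hSt] at hh ⊢
    have e : lift g⁻¹ (x j) ≫ aX.act = π₀ • x j := by
      conv_lhs => rw [← hg, ← UnipStabLib.act_mul, inv_mul_cancel, UnipStabLib.act_one]
    rw [UnipStabLib.act_mul, e, UnipStabLib.act_mul, ← UnipStabLib.smul_act, hh, hg]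
  have htw := fun (j : J) (s' : SGA7.Pts kb G) (hs' : s' ∈ St j) =>
    UnipStabLib.zero_pts_twisted π₀ hπ G (s j) (hSu j) (d j) (hd j) (s' * g₀ j)
      (fun h hh => hconj j _ (hCg j s' hs') h hh)
  -- a field over which everything is rational
  choose L hL hLd using fun p : Σ j, ↥(St j) ⧸ (B j).subgroupOf (St j) =>
    UnipStabLib.exists_datum (kb := kb) aX π₀ hπ ((p.2.out : SGA7.Pts kb G) * g₀ p.1) (x p.1)
      (hCg p.1 _ (p.2.out).2)
  haveI := hL
  obtain ⟨L₀, _, hL₀⟩ := UnipCountLib.exists_field (kb := kb) aX h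
  haveI : FiniteDimensional k ↥(⨆ p, L p) := IntermediateField.finiteDimensional_iSup_of_finite
  let K := IntermediateField.normalClosure k ↥(L₀ ⊔ ⨆ p, L p) kb
  haveI : FiniteDimensional k K := normalClosure.is_finiteDimensional k ↥(L₀ ⊔ ⨆ p, L p) kb
  haveI : Normal k K := normalClosure.normal k ↥(L₀ ⊔ ⨆ p, L p) kb
  have hle : L₀ ⊔ ⨆ p, L p ≤ K := IntermediateField.le_normalClosure _
  choose dat hdat using fun p => hLd p K (le_trans (le_trans (le_iSup L p) le_sup_right) hle)
  haveI : Finite K := Module.finite_of_finite k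
  haveI := LangGenLib.finite_pts (k := k) K G
  haveI := LangGenLib.finite_pts (k := k) K X
  rw [UnipCountLib.mass aX h L₀ K (le_trans le_sup_left hle) hL₀]
  let GK : Subgroup (SGA7.Pts kb G) := (StackCountLib.resHom (IntermediateField.val K) G).range
  haveI : Finite GK := Finite.of_surjective _ (StackCountLib.resHom (IntermediateField.val K) G).rangeRestrict_surjective
  have hGKc : Nat.card GK = Nat.card (SGA7.Pts K G) := (Nat.card_congr
    (MonoidHom.ofInjective (f := StackCountLib.resHom (IntermediateField.val K) G)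
      (StackCountLib.res_injective _ G)).toEquiv).symm
  let Dj : J → Set (((K ≃ₐ[k] K) → SGA7.Pts K G) × SGA7.Pts K X) := fun j =>
    {e | e ∈ StackCountLib.compatSet K aX ∧ ∃ g, lift g (x j) ≫ aX.act = StackCountLib.res (IntermediateField.val K) e.2}
  have hcount : ∀ j, Nat.card (Dj j) * Nat.card k ^ d j = Nat.card (SGA7.Pts K G) := fun j => by
    have hinj : Set.InjOn (UnipStabLib.img π₀ K) (Dj j) :=
      (UnipStabLib.img_injective aX π₀ K hπ).mono fun e he => he.1
    rw [← hGKc, ← Nat.card_image_of_injOn hinj]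
    refine UnipStabLib.card_data_mul (MulDistribMulAction.toMonoidHom (SGA7.Pts kb G) π₀) (St j) (B j) (hBS j) (g₀ j)
      (Nat.card k ^ d j) (fun s' hs' b hb => (htw j s' hs').1 b hb) (fun s' hs' b hb => (htw j s' hs').2.1 b hb)
      (fun s' hs' => (htw j s' hs').2.2) (fun s' hs' => hconj j _ (hg₀ j) s' hs') GK _
      (fun q => UnipStabLib.img π₀ K (dat ⟨j, q⟩).1) ?_ ?_ ?_ ?_
    · intro g q q'
      rw [hdat, hdat, hSt]
      refine ⟨fun e => ⟨congrArg Prod.snd e, congrArg Prod.fst e⟩, fun e => Prod.ext e.2 e.1⟩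
    · intro g q q' e
      exact UnipStabLib.mem_range_of_smul aX π₀ K hπ g _ _ e
    · rintro q _ ⟨h₀, rfl⟩
      have hd₀ := (dat ⟨j, q⟩).2
      refine ⟨(fun σ => h₀ * (dat ⟨j, q⟩).1.1 σ * (σ • h₀)⁻¹, lift h₀ (dat ⟨j, q⟩).1.2 ≫ aX.act),
        ⟨⟨fun σ τ => ?_, fun σ => ?_⟩, ?_⟩, Prod.ext ?_ ?_⟩
      · show h₀ * (dat ⟨j, q⟩).1.1 (σ * τ) * ((σ * τ) • h₀)⁻¹ = h₀ * (dat ⟨j, q⟩).1.1 σ * (σ • h₀)⁻¹ *
          σ • (h₀ * (dat ⟨j, q⟩).1.1 τ * (τ • h₀)⁻¹)
        rw [hd₀.1, smul_mul', smul_mul', smul_inv', mul_smul]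
        group
      · show lift (h₀ * (dat ⟨j, q⟩).1.1 σ * (σ • h₀)⁻¹) (σ • (lift h₀ (dat ⟨j, q⟩).1.2 ≫ aX.act)) ≫ aX.act =
          lift h₀ (dat ⟨j, q⟩).1.2 ≫ aX.act
        rw [UnipStabLib.smul_act, ← UnipStabLib.act_mul, inv_mul_cancel_right, UnipStabLib.act_mul, hd₀.2 σ]
      · refine ⟨StackCountLib.res (IntermediateField.val K) h₀, ?_⟩
        show _ = StackCountLib.res _ (lift h₀ (dat ⟨j, q⟩).1.2 ≫ aX.act)
        rw [StackCountLib.res_act, show StackCountLib.res (IntermediateField.val K) (dat ⟨j, q⟩).1.2 = x j from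
          congrArg Prod.snd (hdat ⟨j, q⟩)]
      · show StackCountLib.resHom (IntermediateField.val K) G (h₀ * _ * (_ • h₀)⁻¹) =
          StackCountLib.resHom (IntermediateField.val K) G h₀ * _ * (π₀ • StackCountLib.res (IntermediateField.val K) h₀)⁻¹
        rw [map_mul, map_mul, map_inv, StackCountLib.smul_res_val]
        rfl
      · exact StackCountLib.res_act _ _ _ _
    · rintro _ ⟨e, ⟨hec, g', hg'⟩, rfl⟩
      let w := StackCountLib.res (IntermediateField.val K) (e.1 (AlgEquiv.restrictNormalHom (F := k) (K₁ := kb) K π₀))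
      have hw : lift w (π₀ • StackCountLib.res (IntermediateField.val K) e.2) ≫ aX.act =
          StackCountLib.res (IntermediateField.val K) e.2 := UnipStabLib.rel_all aX K ⟨e, hec⟩ π₀
      let c := g'⁻¹ * w * π₀ • g'
      have hc : lift c (π₀ • x j) ≫ aX.act = x j := by
        rw [UnipStabLib.act_mul, ← UnipStabLib.smul_act, hg', UnipStabLib.act_mul, hw, ← hg', ← UnipStabLib.act_mul,
          inv_mul_cancel, UnipStabLib.act_one]
      have hcs : c * (g₀ j)⁻¹ ∈ St j := by
        rw [hSt, UnipStabLib.act_mul]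
        conv_lhs => arg 1; arg 2; rw [← hg₀ j, ← UnipStabLib.act_mul, inv_mul_cancel, UnipStabLib.act_one]
        exact hc
      let q : ↥(St j) ⧸ (B j).subgroupOf (St j) := QuotientGroup.mk ⟨c * (g₀ j)⁻¹, hcs⟩
      obtain ⟨b, hb, hcb⟩ : ∃ b ∈ B j, c = b * ((q.out : SGA7.Pts kb G) * g₀ j) := by
        have h1 : (QuotientGroup.mk q.out : ↥(St j) ⧸ (B j).subgroupOf (St j)) =
            QuotientGroup.mk ⟨c * (g₀ j)⁻¹, hcs⟩ := q.out_eq
        rw [QuotientGroup.eq] at h1
        have h2 := Subgroup.Normal.conj_mem inferInstance _ h1 q.out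
        rw [Subgroup.mem_subgroupOf] at h2
        refine ⟨_, h2, ?_⟩
        push_cast
        group
      obtain ⟨a, ha, hab⟩ := (htw j _ (q.out).2).2.1 b hb
      have heq : (g' * a) • UnipStabLib.img π₀ K (dat ⟨j, q⟩).1 = UnipStabLib.img π₀ K e := by
        rw [hdat]
        refine Prod.ext ?_ ?_
        · show g' * a * ((q.out : SGA7.Pts kb G) * g₀ j) * (π₀ • (g' * a))⁻¹ = w
          have e1 : a * ((q.out : SGA7.Pts kb G) * g₀ j) * (π₀ • a)⁻¹ = c := by
            rw [hcb, ← hab]; group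
          calc g' * a * ((q.out : SGA7.Pts kb G) * g₀ j) * (π₀ • (g' * a))⁻¹
              = g' * (a * ((q.out : SGA7.Pts kb G) * g₀ j) * (π₀ • a)⁻¹) * (π₀ • g')⁻¹ := by
                rw [smul_mul', mul_inv_rev]; group
            _ = w := by rw [e1]; simp only [c]; group
        · show lift (g' * a) (x j) ≫ aX.act = StackCountLib.res (IntermediateField.val K) e.2
          rw [UnipStabLib.act_mul, (hSt j a).1 (hBS j ha), hg']
      exact ⟨q, _, UnipStabLib.mem_range_of_smul aX π₀ K hπ _ (dat ⟨j, q⟩) ⟨e, hec⟩ heq, heq⟩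
  have hsum : Nat.card (StackCountLib.compatSet K aX) = ∑ j, Nat.card (Dj j) := by
    rw [← Nat.card_sigma]
    refine (Nat.card_congr (Equiv.ofBijective (fun p : Σ j, Dj j => ⟨p.2.1, p.2.2.1⟩) ⟨?_, ?_⟩)).symm
    · rintro ⟨j, e, hec, g, hg⟩ ⟨j', e', hec', g', hg'⟩ he
      obtain rfl : e = e' := congrArg Subtype.val he
      obtain rfl : j = j' := hdis j j' ⟨g'⁻¹ * g, by
        rw [UnipStabLib.act_mul, hg, ← hg', ← UnipStabLib.act_mul, inv_mul_cancel, UnipStabLib.act_one]⟩
      rfl
    · rintro ⟨e, he⟩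
      obtain ⟨j, g, hg⟩ := hall (StackCountLib.res (IntermediateField.val K) e.2) fun σ =>
        ⟨_, UnipStabLib.rel_all aX K ⟨e, he⟩ σ⟩
      exact ⟨⟨j, e, he, g, hg⟩, rfl⟩
  rw [hsum, Nat.cast_sum, Finset.sum_div]
  refine Finset.sum_congr rfl fun j _ => ?_
  have hG0 : (Nat.card (SGA7.Pts K G) : ℚ) ≠ 0 := Nat.cast_ne_zero.2 Nat.card_pos.ne'
  have hq : (Nat.card k : ℚ) ^ d j ≠ 0 := pow_ne_zero _ (Nat.cast_ne_zero.2 Nat.card_pos.ne')
  have hc' : (Nat.card (Dj j) : ℚ) * (Nat.card k : ℚ) ^ d j = (Nat.card (SGA7.Pts K G) : ℚ) := by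
    exact_mod_cast hcount j
  rw [← hc']
  have hD0 : (Nat.card (Dj j) : ℚ) ≠ 0 := fun h => hG0 (by rw [← hc', h, zero_mul])
  field_simp

end Groth.Agent.S15693
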