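import Groth.Statements.S15694
import Groth.Agent.UnipStabLib.Split
import Groth.Agent.UnipStabLib.FinOrb
import Groth.Agent.GrpFieldLib.Comps

set_option autoImplicit false
set_option backward.isDefEq.respectTransparency false
set_option backward.isDefEq.respectTransparency.types false
set_option maxHeartbeats 1000000
set_option synthInstance.maxHeartbeats 400000
universe u
open CategoryTheory AlgebraicGeometry MonoidalCategory CartesianMonoidalCategory MonObj
open StackCount

attribute [-instance] CategoryTheory.Hom.commGroup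
set_option backward.isDefEq.respectTransparency false
set_option backward.isDefEq.respectTransparency.types false
set_option maxHeartbeats 2000000
set_option synthInstance.maxHeartbeats 400000
set_option linter.all false
open CategoryTheory.Limits Groth.Agent
namespace Groth.Agent.S15694

theorem mul_mul_mul_comm_of {M : Type*} [Monoid M] {a b c d : M} (h : c * b = b * c) :
    (a * c) * (b * d) = (a * b) * (c * d) := by
  rw [_root_.mul_assoc a c, ← _root_.mul_assoc c b, h, _root_.mul_assoc b c, ← _root_.mul_assoc]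



/-- Let k be a finite field with q elements and algebraic closure k̄, and G a smooth affine algebraic
group over k of the form (F × H) ⋉ U: F, H, U are closed subgroups (monomorphic homomorphisms into
G), F and H commute elementwise, U is normal, and multiplication (f, h, u) ↦ f h u is an isomorphism
of k-schemes F × H × U → G. Assume F has unipotent identity component (its base change to k̄
contains no non-trivial subtorus) and dimension d_F, H is connected, and U is smooth, connected,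
unipotent (no non-trivial subtorus over k̄) of dimension d_U. Let X = E × V with E finite and
reduced over k and V isomorphic over k to affine n-space, and let G act on X so that the restriction
of the action to F is the product of an action of F on E and an action of F on V, the latter
factoring through a homomorphism from F to a smooth connected algebraic group acting on V. Choose
k̄-points e_j of E, indexed by a finite set J, one in each Galois-stable F(k̄)-orbit of E(k̄) and in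
pairwise distinct orbits. If the groupoid of k-points of the quotient stack [X/G] (étale G-torsors
as schemes with an equivariant map to X) is essentially finite, then its point count satisfies
#[X/G](k) · #H(k) · q^(d_U + d_F) = #J · q^n. (The published statement is for k′-points over any
finite extension k′ and reads #[X/G](k′) = #J · (#k′)^(dim V − dim U − dim F) / #H(k′); this row is
the case k′ = k with denominators cleared, and takes the groups affine so that torsors are schemes.) -/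
theorem result (k : Type u) [Field k] [Finite k]
    (kb : Type u) [Field kb] [Algebra k kb] [IsAlgClosure k kb]
    (G F H U : Over (Spec (CommRingCat.of k))) [GrpObj G] [GrpObj F] [GrpObj H] [GrpObj U]
    [Smooth G.hom] [IsAffineHom G.hom] [Smooth F.hom] [IsAffineHom F.hom]
    [Smooth H.hom] [IsAffineHom H.hom] [ConnectedSpace H.left]
    [Smooth U.hom] [IsAffineHom U.hom] [ConnectedSpace U.left]
    (iF : F ⟶ G) (iH : H ⟶ G) (iU : U ⟶ G) [IsMonHom iF] [IsMonHom iH] [IsMonHom iU]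
    [Mono iF] [Mono iH] [Mono iU]
    (hFH : (fst F H ≫ iF) * (snd F H ≫ iH) = (snd F H ≫ iH) * (fst F H ≫ iF))
    (hUn : AlgGrp.IsNormalHom iU)
    (hsd : IsIso ((fst (F ⊗ H) U ≫ fst F H ≫ iF) * (fst (F ⊗ H) U ≫ snd F H ≫ iH) * (snd (F ⊗ H) U ≫ iU)))
    (hFu : Red.HasNoSubtorus kb (GalTw.bcK kb F)) (hUu : Red.HasNoSubtorus kb (GalTw.bcK kb U))
    (dF dU : ℕ) (hdF : topologicalKrullDim ↥F.left = (dF : WithBot ℕ∞))
    (hdU : topologicalKrullDim ↥U.left = (dU : WithBot ℕ∞))
    (E V : Over (Spec (CommRingCat.of k))) [IsFinite E.hom] [IsReduced E.left]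
    (n : ℕ) (eV : V.left ≅ 𝔸(ULift.{u} (Fin n); Spec (CommRingCat.of k)))
    (heV : eV.hom ≫ (𝔸(ULift.{u} (Fin n); Spec (CommRingCat.of k)) ↘ Spec (CommRingCat.of k)) = V.hom)
    (aX : AlgGrp.Action G (E ⊗ V)) (aE : AlgGrp.Action F E) (aV : AlgGrp.Action F V)
    (haF : (iF ▷ (E ⊗ V)) ≫ aX.act =
      lift (lift (fst F (E ⊗ V)) (snd F (E ⊗ V) ≫ fst E V) ≫ aE.act)
        (lift (fst F (E ⊗ V)) (snd F (E ⊗ V) ≫ snd E V) ≫ aV.act))
    (Fc : Over (Spec (CommRingCat.of k))) [GrpObj Fc] [Smooth Fc.hom] [QuasiCompact Fc.hom]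
    [ConnectedSpace Fc.left] (ρ : F ⟶ Fc) [IsMonHom ρ] (aVc : AlgGrp.Action Fc V)
    (haV : aV.act = (ρ ▷ V) ≫ aVc.act)
    (J : Type) [Fintype J] (e : J → SGA7.Pts kb E)
    (hdis : ∀ j j' : J, (∃ g : SGA7.Pts kb F, lift g (e j) ≫ aE.act = e j') → j = j')
    (hfix : ∀ (j : J) (σ : kb ≃ₐ[k] kb), ∃ g : SGA7.Pts kb F, lift g (σ • e j) ≫ aE.act = e j)
    (hall : ∀ y : SGA7.Pts kb E,
      (∀ σ : kb ≃ₐ[k] kb, ∃ g : SGA7.Pts kb F, lift g (σ • y) ≫ aE.act = y) →
        ∃ (j : J) (g : SGA7.Pts kb F), lift g (e j) ≫ aE.act = y)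
    (h : StkCnt.IsEssFinite (StkCnt.pts (AlgSt.QuotSt Scheme.etalePrecoverage G aX) k)) :
    StkCnt.ptCount (AlgSt.QuotSt Scheme.etalePrecoverage G aX) k h *
        (Nat.card (SGA7.Pts k H) : ℚ) * (Nat.card k : ℚ) ^ (dU + dF) =
      (Fintype.card J : ℚ) * (Nat.card k : ℚ) ^ n := by
  classical
  haveI : IsAlgClosed kb := IsAlgClosure.isAlgClosed k
  haveI : Algebra.IsAlgebraic k kb := IsAlgClosure.isAlgebraic
  haveI : Normal k kb := IsAlgClosure.normal k kb
  haveI : IsGalois k kb := ⟨⟩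
  letI := Fintype.ofFinite k
  let π₀ : kb ≃ₐ[k] kb := FiniteField.frobeniusAlgEquivOfAlgebraic k kb
  have hπ : ∀ x : kb, π₀ x = x ^ Nat.card k := fun x => by rw [Nat.card_eq_fintype_card]; rfl
  haveI : IsAffine U.left := isAffine_of_isAffineHom U.hom
  haveI : LocallyOfFiniteType V.hom := by rw [← heV]; infer_instance
  haveI : QuasiCompact V.hom := by rw [← heV]; infer_instance
  haveI : LocallyOfFiniteType (E ⊗ V).hom := by
    show LocallyOfFiniteType (pullback.fst E.hom V.hom ≫ E.hom)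
    infer_instance
  haveI : QuasiCompact (E ⊗ V).hom := by
    show QuasiCompact (pullback.fst E.hom V.hom ≫ E.hom)
    infer_instance
  haveI : Smooth (F ⊗ H).hom := by
    show Smooth (pullback.fst F.hom H.hom ≫ F.hom)
    infer_instance
  haveI : IsAffineHom (F ⊗ H).hom := by
    show IsAffineHom (pullback.fst F.hom H.hom ≫ F.hom)
    haveI : IsAffineHom (pullback.fst F.hom H.hom) := MorphismProperty.pullback_fst _ _ ‹IsAffineHom H.hom›
    infer_instance
  -- the subgroup `F × H`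
  let iFH : F ⊗ H ⟶ G := (fst F H ≫ iF) * (snd F H ≫ iH)
  have hFH' : ∀ {T : Over (Spec (CommRingCat.of k))} (f : T ⟶ F) (h : T ⟶ H),
      (f ≫ iF) * (h ≫ iH) = (h ≫ iH) * (f ≫ iF) := fun f h => by
    have e := congrArg (lift f h ≫ ·) hFH
    simp only [MonObj.comp_mul, lift_fst_assoc, lift_snd_assoc] at e
    exact e
  have hiFH : ∀ {T : Over (Spec (CommRingCat.of k))} (p : T ⟶ F ⊗ H),
      p ≫ iFH = (p ≫ fst F H ≫ iF) * (p ≫ snd F H ≫ iH) := fun p => MonObj.comp_mul _ _ _
  haveI : IsMonHom iFH := by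
    refine { one_hom := ?_, mul_hom := ?_ }
    · rw [hiFH, ← Category.assoc, ← Category.assoc, IsMonHom.one_hom (fst F H), IsMonHom.one_hom (snd F H),
        IsMonHom.one_hom iF, IsMonHom.one_hom iH]
      rw [MonObj.one_eq_one, _root_.mul_one]
    · have e : μ[F ⊗ H] = fst (F ⊗ H) (F ⊗ H) * snd (F ⊗ H) (F ⊗ H) := by
        rw [Hom.mul_def, lift_fst_snd, Category.id_comp]
      have e' : (iFH ⊗ₘ iFH) ≫ μ[G] = (fst (F ⊗ H) (F ⊗ H) ≫ iFH) * (snd (F ⊗ H) (F ⊗ H) ≫ iFH) := by
        rw [Hom.mul_def]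
        congr 1
      rw [e, e', hiFH, hiFH, hiFH, ← Category.assoc, MonObj.mul_comp, MonObj.mul_comp, ← Category.assoc
        (fst (F ⊗ H) (F ⊗ H) * snd (F ⊗ H) (F ⊗ H)), MonObj.mul_comp, MonObj.mul_comp]
      simp only [Category.assoc]
      rw [mul_mul_mul_comm_of (by
        simpa only [Category.assoc] using hFH' (snd (F ⊗ H) (F ⊗ H) ≫ fst F H) (fst (F ⊗ H) (F ⊗ H) ≫ snd F H))]
  have hsd' : IsIso ((fst (F ⊗ H) U ≫ iFH) * (snd (F ⊗ H) U ≫ iU)) := by
    rw [hiFH]; exact hsd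
  haveI : Mono iFH := by
    have e : lift (𝟙 (F ⊗ H)) 1 ≫ ((fst (F ⊗ H) U ≫ iFH) * (snd (F ⊗ H) U ≫ iU)) = iFH := by
      rw [MonObj.comp_mul, lift_fst_assoc, lift_snd_assoc, Category.id_comp, MonObj.one_comp, _root_.mul_one]
    haveI := hsd'
    haveI : Mono (lift (𝟙 (F ⊗ H)) (1 : F ⊗ H ⟶ U)) := mono_of_mono_fac (lift_fst (𝟙 (F ⊗ H)) (1 : F ⊗ H ⟶ U))
    rw [← e]; infer_instance
  let iF' : F ⟶ F ⊗ H := lift (𝟙 F) 1
  let iH' : H ⟶ F ⊗ H := lift 1 (𝟙 H)
  haveI : IsMonHom (1 : F ⟶ H) := by rw [Hom.one_def]; infer_instance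
  haveI : IsMonHom (1 : H ⟶ F) := by rw [Hom.one_def]; infer_instance
  haveI : IsMonHom iF' := inferInstanceAs (IsMonHom (lift (𝟙 F) (1 : F ⟶ H)))
  haveI : IsMonHom iH' := inferInstanceAs (IsMonHom (lift (1 : H ⟶ F) (𝟙 H)))
  haveI : Mono iF' := mono_of_mono_fac (lift_fst (𝟙 F) (1 : F ⟶ H))
  haveI : Mono iH' := mono_of_mono_fac (lift_snd (1 : H ⟶ F) (𝟙 H))
  have hsdH : IsIso ((fst F H ≫ iF') * (snd F H ≫ iH')) := by
    have e : (fst F H ≫ iF') * (snd F H ≫ iH') = 𝟙 (F ⊗ H) := by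
      refine CartesianMonoidalCategory.hom_ext _ _ ?_ ?_ <;>
        simp [iF', iH', MonObj.mul_comp, MonObj.comp_one]
    rw [e]; infer_instance
  have hHn : AlgGrp.IsNormalHom iH' := fun T g n => ⟨(g ≫ snd F H) * n * (g ≫ snd F H)⁻¹, by
    refine CartesianMonoidalCategory.hom_ext _ _ ?_ ?_
    · simp only [MonObj.mul_comp, GrpObj.inv_comp, Category.assoc, iH', lift_fst, MonObj.comp_one, _root_.mul_one,
        mul_inv_cancel]
    · simp only [MonObj.mul_comp, GrpObj.inv_comp, Category.assoc, iH', lift_snd, Category.comp_id]⟩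
  let aFH : AlgGrp.Action (F ⊗ H) (E ⊗ V) := UnipStabLib.restrictAct aX iFH
  let aF : AlgGrp.Action F (E ⊗ V) := UnipStabLib.restrictAct aFH iF'
  have haF' : ∀ {T : Over (Spec (CommRingCat.of k))} (f : T ⟶ F) (y : T ⟶ E ⊗ V),
      lift f y ≫ aF.act = lift (lift f (y ≫ fst E V) ≫ aE.act) (lift f (y ≫ snd E V) ≫ aV.act) := fun {T} f y => by
    have e : iF' ≫ iFH = iF := by
      rw [hiFH, lift_fst_assoc, lift_snd_assoc, Category.id_comp, MonObj.one_comp, _root_.mul_one]
    show lift f y ≫ (iF' ▷ (E ⊗ V)) ≫ (iFH ▷ (E ⊗ V)) ≫ aX.act = _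
    rw [← comp_whiskerRight_assoc, e, haF]
    simp only [comp_lift, ← Category.assoc, lift_fst, lift_snd]
  -- the field of definition
  obtain ⟨L₀, _, hL₀⟩ := UnipCountLib.exists_field (kb := kb) aX h
  obtain ⟨L₁, _, hL₁⟩ := UnipStabLib.card_finite_orbits π₀ hπ F E aE J e hdis hfix hall hFu dF hdF
  let K := IntermediateField.normalClosure k ↥(L₀ ⊔ L₁) kb
  haveI : FiniteDimensional k K := normalClosure.is_finiteDimensional k ↥(L₀ ⊔ L₁) kb
  haveI : Normal k K := normalClosure.normal k ↥(L₀ ⊔ L₁) kb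
  have hle : L₀ ⊔ L₁ ≤ K := IntermediateField.le_normalClosure _
  haveI : Finite K := Module.finite_of_finite k
  haveI : IsGalois k K := ⟨⟩
  haveI := LangGenLib.finite_pts (k := k) K F
  haveI := LangGenLib.finite_pts (k := k) K H
  haveI := LangGenLib.finite_pts (k := k) K U
  haveI := LangGenLib.finite_pts (k := k) K E
  haveI := LangGenLib.finite_pts (k := k) K V
  haveI := LangGenLib.finite_pts (k := k) k H
  -- removing `U` and `H`
  obtain ⟨c, hc⟩ := UnipCountLib.exists_conj_action iFH iU hUn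
  have hcev : ∀ (z : SGA7.Pts K (F ⊗ H)) (u : SGA7.Pts K U),
      (lift z u ≫ c.act) ≫ iU = (z ≫ iFH) * (u ≫ iU) * (z ≫ iFH)⁻¹ := fun z u => by
    rw [Category.assoc, hc]
    simp only [MonObj.comp_mul, GrpObj.comp_inv, lift_fst_assoc, lift_snd_assoc]
  have hNU : ∀ z : GpH1.OneCocycle (K ≃ₐ[k] K) (SGA7.Pts K (F ⊗ H)), Nat.card {u : SGA7.Pts K U //
      ∀ σ : K ≃ₐ[k] K, (z σ ≫ iFH) * ((σ • u) ≫ iU) * (z σ ≫ iFH)⁻¹ = u ≫ iU} = Nat.card k ^ dU := fun z => by
    rw [← UnipCountLib.card_twisted iFH iU c hc kb (IntermediateField.val K) hUu dU hdU z]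
    exact Nat.card_congr (Equiv.subtypeEquivRight fun u => forall_congr' fun σ => by rw [← cancel_mono iU (g := lift _ _ ≫ c.act), hcev])
  have hNH : ∀ z : GpH1.OneCocycle (K ≃ₐ[k] K) (SGA7.Pts K F), Nat.card {u : SGA7.Pts K H //
      ∀ σ : K ≃ₐ[k] K, (z σ ≫ iF') * ((σ • u) ≫ iH') * (z σ ≫ iF')⁻¹ = u ≫ iH'} = Nat.card (SGA7.Pts k H) := fun z => by
    rw [← UnipStabLib.card_fixed_mid (k := k) K H]
    refine Nat.card_congr (Equiv.subtypeEquivRight fun u => forall_congr' fun σ => ?_)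
    have e : (z σ ≫ iF') * ((σ • u) ≫ iH') * (z σ ≫ iF')⁻¹ = (σ • u) ≫ iH' := by
      refine CartesianMonoidalCategory.hom_ext _ _ ?_ ?_ <;>
        simp [iF', iH', MonObj.mul_comp, GrpObj.inv_comp, MonObj.comp_one]
    rw [e, cancel_mono]
  obtain ⟨hcU, hgU⟩ := UnipStabLib.card_split K iFH iU hUn hsd' _ hNU aX aFH rfl
  obtain ⟨hcH, hgH⟩ := UnipStabLib.card_split K iF' iH' hHn hsdH _ hNH aFH aF rfl
  -- removing `V`
  have hVn := UnipStabLib.card_affine V n eV heV
  haveI : IsSeparated Fc.hom := Groth.Agent.GrpField.isSeparated_grp (G := Fc)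
  have hz : ∀ d : StackCountLib.compatSet K aE, ∀ σ τ, d.1.1 (σ * τ) ≫ ρ = (d.1.1 σ ≫ ρ) * σ • (d.1.1 τ ≫ ρ) :=
    fun d σ τ => by
      rw [d.2.1, MonObj.mul_comp, GalTw.pts_smul_def, GalTw.pts_smul_def, Category.assoc]
  let Vd : StackCountLib.compatSet K aE → Type u := fun d =>
    {v : SGA7.Pts K V // ∀ σ : K ≃ₐ[k] K, lift (d.1.1 σ) (σ • v) ≫ aV.act = v}
  have hV : ∀ d, Nat.card (Vd d) = Nat.card k ^ n := fun d => by
    rw [← hVn, ← UnipStabLib.card_fixed_twist π₀ hπ K Fc V aVc ⟨fun σ => d.1.1 σ ≫ ρ, hz d⟩]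
    refine Nat.card_congr (Equiv.subtypeEquivRight fun v => forall_congr' fun σ => ?_)
    rw [haV, ← Category.assoc, lift_whiskerRight]
  have hsm : ∀ {Y Z : Over (Spec (CommRingCat.of k))} (σ : K ≃ₐ[k] K) (y : SGA7.Pts K Y) (f : Y ⟶ Z),
      σ • ((y ≫ f : SGA7.Pts K Z)) = (σ • y) ≫ f := fun σ y f => by
    rw [GalTw.pts_smul_def, GalTw.pts_smul_def, Category.assoc]
  have hcF : Nat.card (StackCountLib.compatSet K aF) = Nat.card (StackCountLib.compatSet K aE) * Nat.card k ^ n := by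
    have hmem : ∀ (w : (K ≃ₐ[k] K) → SGA7.Pts K F) (y : SGA7.Pts K (E ⊗ V)), (w, y) ∈ StackCountLib.compatSet K aF ↔
        (w, y ≫ fst E V) ∈ StackCountLib.compatSet K aE ∧
          ∀ σ : K ≃ₐ[k] K, lift (w σ) (σ • (y ≫ snd E V)) ≫ aV.act = y ≫ snd E V := fun w y => by
      refine ⟨fun hy => ⟨⟨hy.1, fun σ => ?_⟩, fun σ => ?_⟩, fun hy => ⟨hy.1.1, fun σ => ?_⟩⟩
      · have h' := congrArg (· ≫ fst E V) (hy.2 σ)
        simp only [haF', lift_fst] at h'
        rw [hsm]; exact h'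
      · have h' := congrArg (· ≫ snd E V) (hy.2 σ)
        simp only [haF', lift_snd] at h'
        rw [hsm]; exact h'
      · show lift (w σ) (σ • y) ≫ aF.act = y
        rw [haF', ← hsm, ← hsm, hy.1.2 σ, hy.2 σ]
        exact (lift_comp_fst_snd y)
    let eq : StackCountLib.compatSet K aF ≃ Σ d : StackCountLib.compatSet K aE, Vd d :=
      { toFun := fun p => ⟨⟨(p.1.1, p.1.2 ≫ fst E V), ((hmem _ _).1 p.2).1⟩, ⟨p.1.2 ≫ snd E V, ((hmem _ _).1 p.2).2⟩⟩
        invFun := fun p => ⟨(p.1.1.1, lift p.1.1.2 p.2.1), (hmem _ _).2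
          ⟨by rw [lift_fst]; exact p.1.2, by rw [lift_snd]; exact p.2.2⟩⟩
        left_inv := fun p => Subtype.ext (Prod.ext rfl (by exact lift_comp_fst_snd p.1.2))
        right_inv := fun p => by
          obtain ⟨⟨⟨w, y⟩, hd⟩, v, hv⟩ := p
          refine Sigma.subtype_ext (Subtype.ext (Prod.ext rfl ?_)) ?_
          · show lift y v ≫ fst E V = y
            exact lift_fst _ _
          · show lift y v ≫ snd E V = v
            exact lift_snd _ _ }
    haveI : Fintype (StackCountLib.compatSet K aE) := Fintype.ofFinite _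
    haveI : ∀ d, Finite (Vd d) := fun d => Subtype.finite
    rw [Nat.card_congr eq, Nat.card_sigma, Finset.sum_congr rfl fun d _ => hV d, Finset.sum_const, Finset.card_univ,
      smul_eq_mul, ← Nat.card_eq_fintype_card]
  have hcE := hL₁ K (le_trans le_sup_right hle)
  rw [UnipCountLib.mass aX h L₀ K (le_trans le_sup_left hle) hL₀]
  have hG0 : (Nat.card (SGA7.Pts K G) : ℚ) ≠ 0 := by
    rw [hgU, hgH]; exact_mod_cast Nat.mul_ne_zero (Nat.mul_ne_zero Nat.card_pos.ne' Nat.card_pos.ne') Nat.card_pos.ne'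
  rw [div_mul_eq_mul_div, div_mul_eq_mul_div, div_eq_iff hG0]
  norm_cast
  rw [pow_add]
  calc Nat.card (StackCountLib.compatSet K aX) * Nat.card (SGA7.Pts k H) * (Nat.card k ^ dU * Nat.card k ^ dF)
      = Nat.card (StackCountLib.compatSet K aX) * Nat.card k ^ dU * (Nat.card (SGA7.Pts k H) * Nat.card k ^ dF) := by ring
    _ = Nat.card (SGA7.Pts K U) * (Nat.card (StackCountLib.compatSet K aFH) * Nat.card (SGA7.Pts k H)) * Nat.card k ^ dF := by
      rw [hcU]; ring
    _ = Nat.card (SGA7.Pts K U) * Nat.card (SGA7.Pts K H) * (Nat.card (StackCountLib.compatSet K aE) * Nat.card k ^ dF) *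
          Nat.card k ^ n := by rw [hcH, hcF]; ring
    _ = Fintype.card J * Nat.card k ^ n * Nat.card (SGA7.Pts K G) := by rw [hcE, hgU, hgH]; ring

end Groth.Agent.S15694
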