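import Groth.Statements.S15695
import Mathlib.AlgebraicGeometry.Stalk
-- import your own Groth.Agent.* helpers here

set_option autoImplicit false
set_option maxHeartbeats 2000000
set_option backward.isDefEq.respectTransparency false
universe u
open CategoryTheory AlgebraicGeometry
open RatVar

namespace Groth.Agent.S15695

variable {k : Type u} [Field k] {X : Scheme.{u}} (f : X ⟶ Spec (CommRingCat.of k))

theorem lifting_of_retract (U : X.Opens) (n : ℕ) (Y : (Spec (CommRingCat.of (MvPolynomial (Fin n) k))).Opens)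
    (a : (U : Scheme.{u}) ⟶ (Y : Scheme.{u})) (b : (Y : Scheme.{u}) ⟶ (U : Scheme.{u}))
    (hab : a ≫ b = 𝟙 (U : Scheme.{u}))
    (ha : a ≫ Y.ι ≫ Spec.map (CommRingCat.ofHom (algebraMap k (MvPolynomial (Fin n) k))) = U.ι ≫ f)
    (hb : b ≫ U.ι ≫ f = Y.ι ≫ Spec.map (CommRingCat.ofHom (algebraMap k (MvPolynomial (Fin n) k))))
    (A : Type u) [CommRing A] [IsLocalRing A] [Algebra k A]
    (g : Spec (CommRingCat.of (IsLocalRing.ResidueField A)) ⟶ (U : Scheme.{u}))
    (hg : g ≫ U.ι ≫ f = Spec.map (CommRingCat.ofHom ((IsLocalRing.residue A).comp (algebraMap k A)))) :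
    ∃ g' : Spec (CommRingCat.of A) ⟶ (U : Scheme.{u}),
      Spec.map (CommRingCat.ofHom (IsLocalRing.residue A)) ≫ g' = g ∧
      g' ≫ U.ι ≫ f = Spec.map (CommRingCat.ofHom (algebraMap k A)) := by
  let P := MvPolynomial (Fin n) k
  obtain ⟨φ, hφ⟩ : ∃ φ : CommRingCat.of P ⟶ CommRingCat.of (IsLocalRing.ResidueField A),
      Spec.map φ = g ≫ a ≫ Y.ι := ⟨Spec.preimage _, Spec.map_preimage _⟩
  have hφk : CommRingCat.ofHom (algebraMap k P) ≫ φ =
      CommRingCat.ofHom ((IsLocalRing.residue A).comp (algebraMap k A)) := by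
    apply Spec.map_injective
    rw [Spec.map_comp, hφ, ← hg, Category.assoc, Category.assoc, ha]
  choose c hc using fun i => IsLocalRing.residue_surjective (φ.hom (MvPolynomial.X i))
  let ψ : P →ₐ[k] A := MvPolynomial.aeval c
  have hψ : CommRingCat.ofHom ψ.toRingHom ≫ CommRingCat.ofHom (IsLocalRing.residue A) = φ := by
    refine CommRingCat.hom_ext (MvPolynomial.ringHom_ext (fun r => ?_) (fun i => ?_))
    · have h1 := congrArg (fun q => q.hom r) hφk
      simp only [CommRingCat.hom_comp, CommRingCat.hom_ofHom, RingHom.comp_apply] at h1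
      rw [MvPolynomial.algebraMap_eq] at h1
      change IsLocalRing.residue A (MvPolynomial.aeval c (MvPolynomial.C r)) = _
      rw [MvPolynomial.aeval_C]
      exact h1.symm
    · change IsLocalRing.residue A (MvPolynomial.aeval c (MvPolynomial.X i)) = _
      rw [MvPolynomial.aeval_X]
      exact hc i
  let L0 := Spec.map (CommRingCat.ofHom ψ.toRingHom)
  have hL0 : Spec.map (CommRingCat.ofHom (IsLocalRing.residue A)) ≫ L0 = g ≫ a ≫ Y.ι := by
    rw [← hφ, ← hψ, Spec.map_comp]
  have hrange : Set.range L0 ⊆ Set.range Y.ι := by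
    rw [Scheme.Opens.range_ι]
    have hcl : L0 (IsLocalRing.closedPoint A) ∈ Y := by
      have e : Spec.map (CommRingCat.ofHom (IsLocalRing.residue A))
          (IsLocalRing.closedPoint (IsLocalRing.ResidueField A)) = IsLocalRing.closedPoint A :=
        IsLocalRing.comap_closedPoint (IsLocalRing.residue A)
      rw [← e]
      change (Spec.map (CommRingCat.ofHom (IsLocalRing.residue A)) ≫ L0)
        (IsLocalRing.closedPoint (IsLocalRing.ResidueField A)) ∈ Y
      rw [hL0]
      exact (a (g (IsLocalRing.closedPoint (IsLocalRing.ResidueField A)))).2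
    rintro _ ⟨z, rfl⟩
    have := Scheme.preimage_eq_top_of_closedPoint_mem L0 hcl
    exact (SetLike.ext_iff.mp this z).mpr trivial
  let L := IsOpenImmersion.lift Y.ι L0 hrange
  have hL : L ≫ Y.ι = L0 := IsOpenImmersion.lift_fac _ _ _
  refine ⟨L ≫ b, ?_, ?_⟩
  · have h1 : Spec.map (CommRingCat.ofHom (IsLocalRing.residue A)) ≫ L = g ≫ a := by
      rw [← cancel_mono Y.ι, Category.assoc, hL, hL0, Category.assoc]
    rw [reassoc_of% h1, hab, Category.comp_id]
  · rw [Category.assoc, hb, reassoc_of% hL, ← Spec.map_comp]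
    congr 1
    ext r
    exact ψ.commutes r

theorem retract_of_lifting [IsIntegral X] [LocallyOfFiniteType f] (V : X.Opens) (hV : (V : Set X).Nonempty)
    (h : ∀ (A : Type u) [CommRing A] [IsLocalRing A] [Algebra k A]
        (g : Spec (CommRingCat.of (IsLocalRing.ResidueField A)) ⟶ (V : Scheme.{u})),
        g ≫ V.ι ≫ f = Spec.map (CommRingCat.ofHom ((IsLocalRing.residue A).comp (algebraMap k A))) →
        ∃ g' : Spec (CommRingCat.of A) ⟶ (V : Scheme.{u}),
          Spec.map (CommRingCat.ofHom (IsLocalRing.residue A)) ≫ g' = g ∧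
          g' ≫ V.ι ≫ f = Spec.map (CommRingCat.ofHom (algebraMap k A))) :
    ∃ (U : X.Opens) (n : ℕ) (Y : (Spec (CommRingCat.of (MvPolynomial (Fin n) k))).Opens)
        (a : (U : Scheme.{u}) ⟶ (Y : Scheme.{u})) (b : (Y : Scheme.{u}) ⟶ (U : Scheme.{u})),
        (U : Set X).Nonempty ∧ a ≫ b = 𝟙 (U : Scheme.{u}) ∧
        a ≫ Y.ι ≫ Spec.map (CommRingCat.ofHom (algebraMap k (MvPolynomial (Fin n) k))) = U.ι ≫ f ∧
        b ≫ U.ι ≫ f = Y.ι ≫ Spec.map (CommRingCat.ofHom (algebraMap k (MvPolynomial (Fin n) k))) := by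
  obtain ⟨x, hx⟩ := hV
  obtain ⟨W, hW, hxW, hWV⟩ := exists_isAffineOpen_mem_and_subset (U := V) hx
  haveI : Nonempty W := ⟨⟨x, hxW⟩⟩
  obtain ⟨φk, hφk⟩ : ∃ φk : CommRingCat.of k ⟶ Γ(X, W), Spec.map φk = hW.fromSpec ≫ f :=
    ⟨Spec.preimage _, Spec.map_preimage _⟩
  have hft : φk.hom.FiniteType := by
    rw [← HasRingHomProperty.Spec_iff (P := @LocallyOfFiniteType), hφk]
    infer_instance
  algebraize [φk.hom]
  obtain ⟨n, π, hπ⟩ := Algebra.FiniteType.iff_quotient_mvPolynomial''.mp hft
  let Q := MvPolynomial (Fin n) k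
  let P : Ideal Q := RingHom.ker π.toRingHom
  haveI : P.IsPrime := RingHom.ker_isPrime π.toRingHom
  let A := Localization.AtPrime P
  let res : Q →+* IsLocalRing.ResidueField A := (IsLocalRing.residue A).comp (algebraMap Q A)
  have hres : RingHom.ker res = P := by
    ext q
    rw [RingHom.mem_ker, RingHom.comp_apply, IsLocalRing.residue_eq_zero_iff,
      IsLocalization.AtPrime.to_map_mem_maximal_iff A P]
  let ρ : Γ(X, W) →+* IsLocalRing.ResidueField A :=
    π.toRingHom.liftOfSurjective hπ ⟨res, hres.ge⟩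
  have hρ : ρ.comp π.toRingHom = res := RingHom.liftOfRightInverse_comp _ _ _ _
  have hρinj : Function.Injective ρ := by
    rw [injective_iff_map_eq_zero]
    intro r hr
    obtain ⟨q, rfl⟩ := hπ r
    have h1 : res q = 0 := by rw [← hρ]; exact hr
    exact (hres ▸ h1 : q ∈ P)
  have hπk : ∀ r, π (algebraMap k Q r) = φk.hom r := fun r => π.commutes r
  have hρk : φk ≫ CommRingCat.ofHom ρ =
      CommRingCat.ofHom ((IsLocalRing.residue A).comp (algebraMap k A)) := by
    ext r
    change ρ (φk.hom r) = IsLocalRing.residue A (algebraMap k A r)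
    rw [← hπk, IsScalarTower.algebraMap_apply k Q A r]
    exact RingHom.congr_fun hρ (algebraMap k Q r)
  let g0 := Spec.map (CommRingCat.ofHom ρ) ≫ hW.fromSpec
  have hg0 : Set.range g0 ⊆ Set.range V.ι := by
    rintro _ ⟨z, rfl⟩
    rw [Scheme.Opens.range_ι]
    apply hWV
    change _ ∈ (W : Set X)
    rw [← hW.range_fromSpec]
    exact ⟨_, rfl⟩
  let g := IsOpenImmersion.lift V.ι g0 hg0
  have hgι : g ≫ V.ι = g0 := IsOpenImmersion.lift_fac _ _ _
  obtain ⟨g', hg', hg'f⟩ := h A g (by
    rw [reassoc_of% hgι, Category.assoc, ← hφk, ← Spec.map_comp, hρk])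
  have hcl : (g' ≫ V.ι) (IsLocalRing.closedPoint A) ∈ W := by
    have e : Spec.map (CommRingCat.ofHom (IsLocalRing.residue A))
        (IsLocalRing.closedPoint (IsLocalRing.ResidueField A)) = IsLocalRing.closedPoint A :=
      IsLocalRing.comap_closedPoint (IsLocalRing.residue A)
    rw [← e]
    change (Spec.map (CommRingCat.ofHom (IsLocalRing.residue A)) ≫ g' ≫ V.ι)
      (IsLocalRing.closedPoint (IsLocalRing.ResidueField A)) ∈ W
    rw [reassoc_of% hg', hgι]
    change _ ∈ (W : Set X)
    rw [← hW.range_fromSpec]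
    exact ⟨_, rfl⟩
  have hG : Set.range (g' ≫ V.ι) ⊆ Set.range hW.fromSpec := by
    rintro _ ⟨z, rfl⟩
    rw [hW.range_fromSpec]
    exact (SetLike.ext_iff.mp (Scheme.preimage_eq_top_of_closedPoint_mem (g' ≫ V.ι) hcl) z).mpr trivial
  obtain ⟨σ, hσ⟩ : ∃ σ : Γ(X, W) ⟶ CommRingCat.of A,
      Spec.map σ = IsOpenImmersion.lift hW.fromSpec (g' ≫ V.ι) hG :=
    ⟨Spec.preimage _, Spec.map_preimage _⟩
  have hσG : Spec.map σ ≫ hW.fromSpec = g' ≫ V.ι := by rw [hσ, IsOpenImmersion.lift_fac]
  have hσρ : σ ≫ CommRingCat.ofHom (IsLocalRing.residue A) = CommRingCat.ofHom ρ := by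
    apply Spec.map_injective
    rw [← cancel_mono hW.fromSpec, Spec.map_comp, Category.assoc, hσG, reassoc_of% hg', hgι]
  have hσk : φk ≫ σ = CommRingCat.ofHom (algebraMap k A) := by
    apply Spec.map_injective
    rw [Spec.map_comp, hφk, reassoc_of% hσG, hg'f]
  obtain ⟨⟨s, hs⟩, hden⟩ := IsLocalization.exist_integer_multiples P.primeCompl (Finset.univ : Finset (Fin n))
    (fun i => σ.hom (π (MvPolynomial.X i)))
  choose r hr using fun i => hden i (Finset.mem_univ i)
  have hs0 : s ≠ 0 := fun h0 => hs (h0 ▸ P.zero_mem)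
  let B := Localization.Away s
  have hu : IsUnit (algebraMap Q A s) := IsLocalization.map_units A (⟨s, hs⟩ : P.primeCompl)
  let j : B →+* A := IsLocalization.Away.lift (g := algebraMap Q A) s hu
  have hj : ∀ q, j (algebraMap Q B q) = algebraMap Q A q := fun q => IsLocalization.Away.lift_eq s hu q
  have hjinj : Function.Injective j := by
    refine (IsLocalization.lift_injective_iff (M := Submonoid.powers s) (S := B) (fun y => ?_)).mpr
      fun x y => ?_
    · obtain ⟨m, hm⟩ := y.2
      rw [← hm, map_pow]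
      exact hu.pow m
    · rw [(IsLocalization.injective B (powers_le_nonZeroDivisors_of_noZeroDivisors hs0)).eq_iff,
        (IsLocalization.injective A P.primeCompl_le_nonZeroDivisors).eq_iff]
  let τ0 : Q →ₐ[k] B := MvPolynomial.aeval (fun i => IsLocalization.mk' B (r i) ⟨s, Submonoid.mem_powers s⟩)
  have hjτ : ∀ q, j (τ0 q) = σ.hom (π q) := by
    intro q
    refine RingHom.congr_fun (MvPolynomial.ringHom_ext (f := j.comp τ0.toRingHom)
      (g := σ.hom.comp π.toRingHom) (fun c => ?_) (fun i => ?_)) q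
    · change j (τ0 (algebraMap k Q c)) = σ.hom (π (algebraMap k Q c))
      rw [τ0.commutes, hπk, IsScalarTower.algebraMap_apply k Q B, hj,
        ← IsScalarTower.algebraMap_apply k Q A]
      exact (congrArg (fun q => q.hom c) hσk).symm
    · change j (τ0 (MvPolynomial.X i)) = σ.hom (π (MvPolynomial.X i))
      rw [MvPolynomial.aeval_X]
      apply hu.mul_left_cancel
      rw [← hj, ← map_mul, show algebraMap Q B s * IsLocalization.mk' B (r i) ⟨s, Submonoid.mem_powers s⟩ = algebraMap Q B (r i) from IsLocalization.mk'_spec' B (r i) ⟨s, Submonoid.mem_powers s⟩, hj, hj, hr i, Algebra.smul_def]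
  have hker : RingHom.ker π.toRingHom ≤ RingHom.ker τ0.toRingHom := fun q hq => hjinj (by
    change j (τ0 q) = j 0
    rw [hjτ, map_zero]
    exact (congrArg σ.hom (hq : π q = 0)).trans (map_zero _))
  let τ : Γ(X, W) →+* B := π.toRingHom.liftOfSurjective hπ ⟨τ0.toRingHom, hker⟩
  have hτ : ∀ q, τ (π q) = τ0 q := fun q => RingHom.liftOfRightInverse_comp_apply _ _ _ _ _
  have hτk : φk ≫ CommRingCat.ofHom τ =
      CommRingCat.ofHom (algebraMap k Q) ≫ CommRingCat.ofHom (algebraMap Q B) := by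
    ext c
    change τ (φk.hom c) = algebraMap Q B (algebraMap k Q c)
    rw [← hπk, hτ, τ0.commutes, ← IsScalarTower.algebraMap_apply k Q B]
  let B' := Localization.Away (π s)
  have hπs : π s ≠ 0 := fun h0 => hs h0
  let γ : B →+* B' := IsLocalization.Away.lift (g := (algebraMap Γ(X, W) B').comp π.toRingHom) s
    (IsLocalization.Away.algebraMap_isUnit (π s))
  have hε : IsUnit (ρ (π s)) :=
    (isUnit_iff_ne_zero.mpr fun h0 => hπs (hρinj (h0.trans (map_zero ρ).symm)))
  let ε : B' →+* IsLocalRing.ResidueField A := IsLocalization.Away.lift (g := ρ) (π s) hε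
  have hεinj : Function.Injective ε := by
    refine (IsLocalization.lift_injective_iff (M := Submonoid.powers (π s)) (S := B') (fun y => ?_)).mpr
      fun x y => ?_
    · obtain ⟨m, hm⟩ := y.2
      rw [← hm, map_pow]
      exact hε.pow m
    · rw [(IsLocalization.injective B' (powers_le_nonZeroDivisors_of_noZeroDivisors hπs)).eq_iff,
        hρinj.eq_iff]
  have hεγ : ε.comp γ = (IsLocalRing.residue A).comp j := by
    refine IsLocalization.ringHom_ext (Submonoid.powers s) (RingHom.ext fun q => ?_)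
    change ε (γ (algebraMap Q B q)) = IsLocalRing.residue A (j (algebraMap Q B q))
    rw [IsLocalization.Away.lift_eq, hj]
    change ε (algebraMap Γ(X, W) B' (π q)) = _
    rw [IsLocalization.Away.lift_eq]
    exact RingHom.congr_fun hρ q
  have hγτ : CommRingCat.ofHom τ ≫ CommRingCat.ofHom γ = CommRingCat.ofHom (algebraMap Γ(X, W) B') := by
    ext w
    obtain ⟨q, rfl⟩ := hπ w
    change γ (τ (π q)) = algebraMap Γ(X, W) B' (π q)
    apply hεinj
    rw [show ε (γ (τ (π q))) = IsLocalRing.residue A (j (τ (π q))) from RingHom.congr_fun hεγ _,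
      hτ, hjτ, IsLocalization.Away.lift_eq]
    exact congrArg (fun φ => φ.hom (π q)) hσρ
  let i : Spec (CommRingCat.of B) ⟶ Spec (CommRingCat.of Q) := Spec.map (CommRingCat.ofHom (algebraMap Q B))
  haveI : IsOpenImmersion i := IsOpenImmersion.of_isLocalization s
  haveI : IsOpenImmersion (Spec.map (CommRingCat.ofHom (algebraMap Γ(X, W) B'))) :=
    IsOpenImmersion.of_isLocalization (π s)
  let u := Spec.map (CommRingCat.ofHom (algebraMap Γ(X, W) B')) ≫ hW.fromSpec
  let v := Spec.map (CommRingCat.ofHom τ) ≫ hW.fromSpec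
  have hγv : Spec.map (CommRingCat.ofHom γ) ≫ v = u := by
    simp only [v, u, ← Spec.map_comp_assoc, hγτ]
  let U := u.opensRange
  let Y := i ''ᵁ (v ⁻¹ᵁ U)
  have hYi : Set.range Y.ι ⊆ Set.range i := by
    rw [Scheme.Opens.range_ι]
    rintro _ ⟨z, -, rfl⟩
    exact ⟨z, rfl⟩
  let l := IsOpenImmersion.lift i Y.ι hYi
  have hl : l ≫ i = Y.ι := IsOpenImmersion.lift_fac _ _ _
  let a0 := u.isoOpensRange.inv ≫ Spec.map (CommRingCat.ofHom γ) ≫ i
  have ha0 : Set.range a0 ⊆ Set.range Y.ι := by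
    rw [Scheme.Opens.range_ι]
    rintro _ ⟨z, rfl⟩
    refine ⟨Spec.map (CommRingCat.ofHom γ) (u.isoOpensRange.inv z), ?_, rfl⟩
    change v (Spec.map (CommRingCat.ofHom γ) (u.isoOpensRange.inv z)) ∈ U
    rw [← Scheme.Hom.comp_apply, hγv]
    exact ⟨_, rfl⟩
  have hb0 : Set.range (l ≫ v) ⊆ Set.range U.ι := by
    rw [Scheme.Opens.range_ι]
    rintro _ ⟨z, rfl⟩
    obtain ⟨w, hw, hwz⟩ := z.2
    have : i (l z) = i w := by
      rw [← Scheme.Hom.comp_apply, hl]
      exact hwz.symm
    change v (l z) ∈ U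
    rw [i.isOpenEmbedding.injective this]
    exact hw
  let a := IsOpenImmersion.lift Y.ι a0 ha0
  let b := IsOpenImmersion.lift U.ι (l ≫ v) hb0
  have hal : a ≫ l = u.isoOpensRange.inv ≫ Spec.map (CommRingCat.ofHom γ) := by
    rw [← cancel_mono i, Category.assoc, hl, IsOpenImmersion.lift_fac, Category.assoc]
  have hvf : v ≫ f = i ≫ Spec.map (CommRingCat.ofHom (algebraMap k Q)) := by
    simp only [v, i, Category.assoc, ← hφk, ← Spec.map_comp, hτk]
  refine ⟨U, n, Y, a, b, ?_, ?_, ?_, ?_⟩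
  · haveI : Nontrivial B' := ε.domain_nontrivial
    exact ⟨u (Classical.arbitrary (PrimeSpectrum B')), ⟨_, rfl⟩⟩
  · rw [← cancel_mono U.ι, Category.assoc, IsOpenImmersion.lift_fac, reassoc_of% hal, hγv,
      Category.id_comp, u.isoOpensRange_inv_comp]
  · rw [IsOpenImmersion.lift_fac_assoc]
    simp only [a0, Category.assoc]
    rw [← hvf, reassoc_of% hγv, ← Category.assoc, u.isoOpensRange_inv_comp]
  · rw [IsOpenImmersion.lift_fac_assoc, Category.assoc, hvf, reassoc_of% hl]


/-- Let X be an integral scheme of finite type over a field k. The following are equivalent. (i) There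
are a non-empty open subscheme U of X, an open subscheme Y of an affine space Spec k[x_1, ..., x_n]
and k-morphisms U → Y → U whose composite is the identity of U. (ii) There is a non-empty open
subscheme V of X such that for every local k-algebra A with residue field κ, every k-morphism Spec κ
→ V lifts along Spec κ → Spec A to a k-morphism Spec A → V. (Local k-algebras are taken in the
universe of k.) -/
theorem result (k : Type u) [Field k] (X : Scheme.{u})
    (f : X ⟶ Spec (CommRingCat.of k)) [IsIntegral X] [LocallyOfFiniteType f] [QuasiCompact f] :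
    (∃ (U : X.Opens) (n : ℕ) (Y : (Spec (CommRingCat.of (MvPolynomial (Fin n) k))).Opens)
        (a : (U : Scheme.{u}) ⟶ (Y : Scheme.{u})) (b : (Y : Scheme.{u}) ⟶ (U : Scheme.{u})),
        (U : Set X).Nonempty ∧ a ≫ b = 𝟙 (U : Scheme.{u}) ∧
        a ≫ Y.ι ≫ Spec.map (CommRingCat.ofHom (algebraMap k (MvPolynomial (Fin n) k))) = U.ι ≫ f ∧
        b ≫ U.ι ≫ f = Y.ι ≫ Spec.map (CommRingCat.ofHom (algebraMap k (MvPolynomial (Fin n) k)))) ↔
    (∃ V : X.Opens, (V : Set X).Nonempty ∧
      ∀ (A : Type u) [CommRing A] [IsLocalRing A] [Algebra k A]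
        (g : Spec (CommRingCat.of (IsLocalRing.ResidueField A)) ⟶ (V : Scheme.{u})),
        g ≫ V.ι ≫ f = Spec.map (CommRingCat.ofHom ((IsLocalRing.residue A).comp (algebraMap k A))) →
        ∃ g' : Spec (CommRingCat.of A) ⟶ (V : Scheme.{u}),
          Spec.map (CommRingCat.ofHom (IsLocalRing.residue A)) ≫ g' = g ∧
          g' ≫ V.ι ≫ f = Spec.map (CommRingCat.ofHom (algebraMap k A))) := by
  refine ⟨fun ⟨U, n, Y, a, b, hU, hab, ha, hb⟩ => ⟨U, hU, ?_⟩,
    fun ⟨V, hV, h⟩ => retract_of_lifting f V hV h⟩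
  intro A _ _ _ g hg
  exact lifting_of_retract f U n Y a b hab ha hb A g hg

end Groth.Agent.S15695
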