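import Groth.Statements.S15697
import Groth.Agent.InvFldLib.Pure

set_option autoImplicit false
universe u
open InvFld

namespace Groth.Agent.S15697

/-- Let k be a characteristic-zero field and suppose a finite group acts k-linearly on
finite-dimensional k-vector spaces V and W, faithfully on V. Then k(V ⊕ W)^G is purely
transcendental over k(V)^G, of transcendence degree dim W. Stated with V = k^n, W = k^m inside L =
k(x_1, ..., x_n, y_1, ..., y_m): G is a finite group of k-algebra automorphisms of L sending each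
x_i into the k-span of the x's and each y_j into the k-span of the y's, such that an element of G
fixing every x_i is trivial; F is the intersection of k(x_1, ..., x_n) with the fixed field of G;
then there are y'_1, ..., y'_m in L, algebraically independent over F, with F(y'_1, ..., y'_m) equal
to the fixed field of G. -/
theorem result (k : Type u) [Field k] [CharZero k] (n m : ℕ)
    (G : Subgroup (InvFld.Fld (Fin n ⊕ Fin m) k ≃ₐ[k] InvFld.Fld (Fin n ⊕ Fin m) k)) [Finite G]
    (hx : ∀ σ ∈ G, ∀ i : Fin n, σ (InvFld.X (Sum.inl i)) ∈ Submodule.span k (Set.range fun j : Fin n => (InvFld.X (Sum.inl j) : InvFld.Fld (Fin n ⊕ Fin m) k)))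
    (hy : ∀ σ ∈ G, ∀ i : Fin m, σ (InvFld.X (Sum.inr i)) ∈ Submodule.span k (Set.range fun j : Fin m => (InvFld.X (Sum.inr j) : InvFld.Fld (Fin n ⊕ Fin m) k)))
    (hfaith : ∀ σ ∈ G, (∀ i : Fin n, σ (InvFld.X (Sum.inl i)) = InvFld.X (Sum.inl i)) → σ = 1) :
    ∃ t : Fin m → InvFld.Fld (Fin n ⊕ Fin m) k,
      AlgebraicIndependent (↥(IntermediateField.adjoin k (Set.range fun j : Fin n => (InvFld.X (Sum.inl j) : InvFld.Fld (Fin n ⊕ Fin m) k)) ⊓ IntermediateField.fixedField G)) t ∧
      IntermediateField.restrictScalars k (IntermediateField.adjoin (↥(IntermediateField.adjoin k (Set.range fun j : Fin n => (InvFld.X (Sum.inl j) : InvFld.Fld (Fin n ⊕ Fin m) k)) ⊓ IntermediateField.fixedField G)) (Set.range t)) =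
        IntermediateField.fixedField G := by
  open InvFldLib MvPolynomial in
  let L := IntermediateField.adjoin k (Set.range fun j : Fin n => (InvFld.X (Sum.inl j) : InvFld.Fld (Fin n ⊕ Fin m) k))
  have hL : ∀ g : G, ∀ z ∈ L, (g : InvFld.Fld (Fin n ⊕ Fin m) k ≃ₐ[k] _) z ∈ L := by
    intro g z hz
    induction hz using IntermediateField.adjoin_induction with
    | mem z hz =>
      obtain ⟨i, rfl⟩ := hz
      have hsp : Submodule.span k (Set.range fun j : Fin n => (InvFld.X (Sum.inl j) : InvFld.Fld (Fin n ⊕ Fin m) k)) ≤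
          Subalgebra.toSubmodule L.toSubalgebra :=
        Submodule.span_le.2 (IntermediateField.subset_adjoin k _)
      exact hsp (hx _ g.2 i)
    | algebraMap r => rw [AlgEquiv.commutes]; exact L.algebraMap_mem r
    | add a b _ _ ha hb => rw [map_add]; exact add_mem ha hb
    | inv a _ ha => rw [map_inv₀]; exact inv_mem ha
    | mul a b _ _ ha hb => rw [map_mul]; exact mul_mem ha hb
  let r : G → (L →ₐ[k] L) := fun g => ((g : InvFld.Fld (Fin n ⊕ Fin m) k ≃ₐ[k] InvFld.Fld (Fin n ⊕ Fin m) k).toAlgHom.comp L.val).codRestrict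
    L.toSubalgebra fun z => hL g z.1 z.2
  let ρ : G →* (L ≃ₐ[k] L) := MonoidHom.mk'
    (fun g => AlgEquiv.ofAlgHom (r g) (r g⁻¹)
      (AlgHom.ext fun z => Subtype.ext (show (g : InvFld.Fld (Fin n ⊕ Fin m) k ≃ₐ[k] _) (((g⁻¹ : G) : InvFld.Fld (Fin n ⊕ Fin m) k ≃ₐ[k] _) z.1) = z.1 by
        rw [← AlgEquiv.mul_apply, ← Subgroup.coe_mul, mul_inv_cancel]; rfl))
      (AlgHom.ext fun z => Subtype.ext (show ((g⁻¹ : G) : InvFld.Fld (Fin n ⊕ Fin m) k ≃ₐ[k] _) ((g : InvFld.Fld (Fin n ⊕ Fin m) k ≃ₐ[k] _) z.1) = z.1 by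
        rw [← AlgEquiv.mul_apply, ← Subgroup.coe_mul, inv_mul_cancel]; rfl)))
    fun g h => AlgEquiv.ext fun z => Subtype.ext rfl
  have hcomp : ∀ g a, G.subtype g (algebraMap L (InvFld.Fld (Fin n ⊕ Fin m) k) a) = algebraMap L _ (ρ g a) := fun g a => rfl
  have hρ : Function.Injective ρ := by
    refine (injective_iff_map_eq_one _).2 fun g hg => Subtype.ext (hfaith _ g.2 fun i => ?_)
    exact congrArg Subtype.val (DFunLike.congr_fun hg
      (⟨InvFld.X (Sum.inl i), IntermediateField.subset_adjoin k _ ⟨i, rfl⟩⟩ : L))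
  let ι := InvFldLib.inlFld k (Fin n) (Fin m)
  have hι : ι.fieldRange = L := InvFldLib.fieldRange_inlFld
  let y : Fin m → InvFld.Fld (Fin n ⊕ Fin m) k := fun j => InvFld.X (Sum.inr j)
  let f : InvFld.Fld (Fin n) k →+* L := ι.toRingHom.codRestrict L fun z => hι.le ⟨z, rfl⟩
  have hf : Function.Surjective f := fun z => by
    obtain ⟨x, hx⟩ : (z : InvFld.Fld (Fin n ⊕ Fin m) k) ∈ ι.fieldRange := hι.ge z.2
    exact ⟨x, Subtype.ext hx⟩
  letI := InvFldLib.algInl k (Fin n) (Fin m)
  have haev : ∀ p : MvPolynomial (Fin m) (InvFld.Fld (Fin n) k),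
      (aeval y (MvPolynomial.map f p) : InvFld.Fld (Fin n ⊕ Fin m) k) = aeval y p := fun p => by
    rw [aeval_def, aeval_def, eval₂_map]
    rfl
  have hyind : AlgebraicIndependent L y := by
    rw [algebraicIndependent_iff]
    intro p hp
    obtain ⟨p', rfl⟩ := MvPolynomial.map_surjective f hf p
    rw [haev] at hp
    rw [algebraicIndependent_iff.1 (InvFldLib.algIndep_inr (k := k) (σ₁ := Fin n) (σ₂ := Fin m)) p' hp, map_zero]
  have hgen : ∀ z, ∃ p q : MvPolynomial (Fin m) L, aeval y q ≠ 0 ∧ z * aeval y q = aeval y p := fun z => by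
    obtain ⟨p, q, hq, h⟩ := InvFldLib.gen_inr (k := k) (σ₁ := Fin n) (σ₂ := Fin m) z
    exact ⟨MvPolynomial.map f p, MvPolynomial.map f q, by rwa [haev], by rw [haev, haev]; exact h⟩
  have hstab : ∀ (g : G) j, G.subtype g (y j) ∈ Submodule.span L (Set.range y) := fun g j =>
    Submodule.span_le_restrictScalars k L (Set.range y) (hy _ g.2 j)
  obtain ⟨t, ht, htind, hfrac⟩ := InvFldLib.no_name_lemma ρ G.subtype hcomp hρ hyind hstab hgen
  let K := L ⊓ IntermediateField.fixedField G
  let j : K →+* L := Subring.inclusion (show K.toSubfield.toSubring ≤ L.toSubfield.toSubring from fun z hz => hz.1)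
  have hj : Function.Injective j := fun a b h => Subtype.ext (congrArg Subtype.val h :)
  have hev : ∀ p : MvPolynomial (Fin m) K,
      (aeval t (MvPolynomial.map j p) : InvFld.Fld (Fin n ⊕ Fin m) k) = aeval t p := fun p => by
    rw [aeval_def, aeval_def, eval₂_map]
    rfl
  refine ⟨t, ?_, ?_⟩
  · rw [algebraicIndependent_iff]
    intro p hp
    refine MvPolynomial.map_injective j hj ?_
    rw [map_zero]
    exact algebraicIndependent_iff.1 htind _ (by rw [hev]; exact hp)
  · refine le_antisymm ?_ fun z hz => ?_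
    · intro z hz
      rw [IntermediateField.mem_restrictScalars] at hz
      induction hz using IntermediateField.adjoin_induction with
      | mem z hz =>
        obtain ⟨i, rfl⟩ := hz
        rw [IntermediateField.mem_fixedField_iff]
        exact fun f hf => ht ⟨f, hf⟩ i
      | algebraMap r => exact r.2.2
      | add a b _ _ ha hb => exact add_mem ha hb
      | inv a _ ha => exact inv_mem ha
      | mul a b _ _ ha hb => exact mul_mem ha hb
    · rw [IntermediateField.mem_restrictScalars]
      obtain ⟨p, q, hp, hq, hq0, hzq⟩ := hfrac z fun g => (IntermediateField.mem_fixedField_iff G z).1 hz _ g.2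
      have hmem : ∀ r : MvPolynomial (Fin m) L, (∀ d g, ρ g (coeff d r) = coeff d r) →
          aeval t r ∈ IntermediateField.adjoin K (Set.range t) := by
        intro r hr
        rw [r.as_sum, map_sum]
        refine sum_mem fun d _ => ?_
        rw [aeval_monomial]
        refine mul_mem ?_ (prod_mem fun i _ => pow_mem (IntermediateField.subset_adjoin _ _ (Set.mem_range_self i)) _)
        have hK : ((coeff d r : L) : InvFld.Fld (Fin n ⊕ Fin m) k) ∈ K :=
          ⟨(coeff d r).2, (IntermediateField.mem_fixedField_iff G _).2 fun f hf =>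
            congrArg Subtype.val (hr d ⟨f, hf⟩)⟩
        exact IntermediateField.algebraMap_mem _ (⟨_, hK⟩ : K)
      have hzdiv : z = aeval t p / aeval t q := by rw [← hzq, mul_div_assoc, div_self hq0, mul_one]
      rw [hzdiv]
      exact div_mem (hmem p hp) (hmem q hq)

end Groth.Agent.S15697
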