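import Groth.Statements.S15698
import Groth.Agent.InvFldLib.Pure

set_option autoImplicit false
universe u
open InvFld

namespace Groth.Agent.S15698

/-- Let k be a characteristic-zero field; for each faithful finite-dimensional linear representation V
of the symmetric group S_n over k, the field of invariants k(V)^{S_n} is stably pure over k. Stated
with V = k^m: G is a finite group of k-algebra automorphisms of k(x_1, ..., x_m), each sending every
variable to a k-linear combination of the variables, isomorphic as an abstract group to the
symmetric group on n letters; then for some r the rational function field in r variables over the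
fixed field of G is generated over k by finitely many algebraically independent elements. -/
theorem result (k : Type u) [Field k] [CharZero k] (n m : ℕ)
    (G : Subgroup (InvFld.Fld (Fin m) k ≃ₐ[k] InvFld.Fld (Fin m) k)) [Finite G] (e : G ≃* Equiv.Perm (Fin n))
    (hG : ∀ σ ∈ G, ∀ i : Fin m, σ (InvFld.X i) ∈ Submodule.span k (Set.range fun j : Fin m => (InvFld.X j : InvFld.Fld (Fin m) k))) :
    ∃ (r N : ℕ) (t : Fin N → InvFld.Fld (Fin r) (IntermediateField.fixedField G)),
      AlgebraicIndependent k t ∧ IntermediateField.adjoin k (Set.range t) = ⊤ := by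
  let π := InvFldLib.permAct (k := k) n
  let K₂ : IntermediateField k (InvFld.Fld (Fin n) k) := IntermediateField.fixedField π.range
  have hK₂ : ∀ a, a ∈ K₂ ↔ ∀ σ, π σ a = a := fun a => by
    rw [IntermediateField.mem_fixedField_iff]
    exact ⟨fun h σ => h _ ⟨σ, rfl⟩, by rintro h _ ⟨σ, rfl⟩; exact h σ⟩
  obtain ⟨α⟩ := InvFldLib.stable_equiv (ρ₁ := G.subtype) (ρ₂ := π.comp e.toMonoidHom)
    (fun g i => hG _ g.2 i) (fun g i => InvFldLib.permAct_linear n (e g) i) Subtype.val_injective
    ((InvFldLib.permAct_injective n).comp e.injective)
    (IntermediateField.fixedField G) (fun a => by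
      rw [IntermediateField.mem_fixedField_iff]
      exact ⟨fun h g => h _ g.2, fun h f hf => h ⟨f, hf⟩⟩)
    K₂ (fun a => by
      rw [hK₂]
      exact ⟨fun h g => h (e g), fun h σ => by simpa using h (e.symm σ)⟩)
  obtain ⟨ε⟩ := InvFldLib.exists_permFixed_equiv n K₂ hK₂
  obtain ⟨t, ht, htop⟩ := InvFldLib.exists_pure_basis n m ε α.symm
  exact ⟨n, n + m, t, ht, htop⟩

end Groth.Agent.S15698
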