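import Groth.Statements.S15699
import Groth.Agent.SpecialQuotLib.Birat


set_option autoImplicit false
set_option backward.isDefEq.respectTransparency false
universe u
open CategoryTheory CategoryTheory.Limits AlgebraicGeometry
open RatVar

namespace Groth.Agent.S15699

/-- Over an infinite field a nonempty open of affine space has a rational point. -/
theorem exists_point {k : Type u} [Field k] [Infinite k] {n : ℕ}
    (W : (Spec (CommRingCat.of (MvPolynomial (Fin n) k))).Opens)
    (hW : (W : Set ↑(Spec (CommRingCat.of (MvPolynomial (Fin n) k)))).Nonempty) :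
    ∃ p : Spec (CommRingCat.of k) ⟶ (W : Scheme.{u}),
      p ≫ W.ι ≫ Spec.map (CommRingCat.ofHom (algebraMap k (MvPolynomial (Fin n) k))) = 𝟙 _ := by
  obtain ⟨x, hx⟩ := hW
  obtain ⟨_, ⟨_, ⟨f, rfl⟩, rfl⟩, hxf, hfW⟩ := PrimeSpectrum.isBasis_basic_opens.exists_subset_of_mem_open hx W.2
  have hf : f ≠ 0 := fun h => hxf (by rw [h]; exact zero_mem _)
  obtain ⟨a, ha⟩ : ∃ a, MvPolynomial.eval a f ≠ 0 := by
    by_contra h
    push Not at h
    exact hf (MvPolynomial.funext fun a => by rw [h a, map_zero])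
  let q := Spec.map (CommRingCat.ofHom (MvPolynomial.eval a))
  have hq : Set.range q ⊆ Set.range W.ι := by
    rw [Scheme.Opens.range_ι]
    rintro _ ⟨z, rfl⟩
    refine hfW ?_
    show MvPolynomial.eval a f ∉ z.asIdeal
    exact fun h => z.isPrime.ne_top (Ideal.eq_top_of_isUnit_mem _ h ha.isUnit)
  refine ⟨IsOpenImmersion.lift W.ι q hq, ?_⟩
  rw [IsOpenImmersion.lift_fac_assoc, ← Spec.map_comp, ← CommRingCat.ofHom_comp]
  have : (MvPolynomial.eval a).comp (algebraMap k (MvPolynomial (Fin n) k)) = RingHom.id k :=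
    RingHom.ext fun c => MvPolynomial.eval_C c
  rw [this, CommRingCat.ofHom_id, Spec.map_id]

/-- A direct factor of a k-rational variety is retract rational over k. Here k is an infinite field, X
and Y are integral schemes of finite type over k whose fibre product over k is integral and rational
over k (birational over k, through dense open subschemes, to an affine space over k); the conclusion
is that some non-empty open subscheme U of X admits k-morphisms U → Y' → U with composite the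
identity, Y' an open subscheme of an affine space Spec k[x_1, ..., x_n]. (The published statement
allows any field k; the argument picks a k-rational point of the given open set, so k is taken
infinite here.) -/
theorem result (k : Type u) [Field k] [Infinite k]
    (X Y : Scheme.{u}) (f : X ⟶ Spec (CommRingCat.of k)) (g : Y ⟶ Spec (CommRingCat.of k))
    [IsIntegral X] [LocallyOfFiniteType f] [QuasiCompact f]
    [IsIntegral Y] [LocallyOfFiniteType g] [QuasiCompact g] [IsIntegral (pullback f g)]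
    [Scheme.IsRationalOver (pullback.fst f g ≫ f)] :
    ∃ (U : X.Opens) (n : ℕ) (Y' : (Spec (CommRingCat.of (MvPolynomial (Fin n) k))).Opens)
        (a : (U : Scheme.{u}) ⟶ (Y' : Scheme.{u})) (b : (Y' : Scheme.{u}) ⟶ (U : Scheme.{u})),
        (U : Set X).Nonempty ∧ a ≫ b = 𝟙 (U : Scheme.{u}) ∧
        a ≫ Y'.ι ≫ Spec.map (CommRingCat.ofHom (algebraMap k (MvPolynomial (Fin n) k))) = U.ι ≫ f ∧
        b ≫ U.ι ≫ f = Y'.ι ≫ Spec.map (CommRingCat.ofHom (algebraMap k (MvPolynomial (Fin n) k))) := by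
  obtain ⟨n, P, hP⟩ := SpecialQuotLib.exists_fin k (pullback.fst f g ≫ f)
  have hne : (P.target : Set ↑(Spec (CommRingCat.of (MvPolynomial (Fin n) k)))).Nonempty :=
    P.dense_target.nonempty
  obtain ⟨p, hp⟩ := exists_point P.target hne
  have hinv : P.iso.inv ≫ P.source.ι ≫ pullback.fst f g ≫ f =
      P.target.ι ≫ Spec.map (CommRingCat.ofHom (algebraMap k (MvPolynomial (Fin n) k))) := by
    rw [← hP, Iso.inv_hom_id_assoc]
  let z : Spec (CommRingCat.of k) ⟶ pullback f g := p ≫ P.iso.inv ≫ P.source.ι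
  have hzf : z ≫ pullback.fst f g ≫ f = 𝟙 _ := by
    simp only [z, Category.assoc]
    rw [hinv]; exact hp
  have hzg : (z ≫ pullback.snd f g) ≫ g = 𝟙 _ := by rw [Category.assoc, ← pullback.condition, hzf]
  let s : X ⟶ pullback f g := pullback.lift (𝟙 X) (f ≫ z ≫ pullback.snd f g)
    (by rw [Category.id_comp, Category.assoc, hzg, Category.comp_id])
  have hs1 : s ≫ pullback.fst f g = 𝟙 X := pullback.lift_fst _ _ _
  have hs2 : (z ≫ pullback.fst f g) ≫ s = z := by
    apply pullback.hom_ext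
    · rw [Category.assoc, hs1, Category.comp_id]
    · simp only [s, Category.assoc, pullback.lift_snd]
      rw [reassoc_of% hzf]
  let U : X.Opens := s ⁻¹ᵁ P.source
  let P₁ : (P.source : Scheme.{u}).Opens := (P.source.ι ≫ pullback.fst f g) ⁻¹ᵁ U
  let W' : (P.target : Scheme.{u}).Opens := P.iso.inv ⁻¹ᵁ P₁
  let Y' : (Spec (CommRingCat.of (MvPolynomial (Fin n) k))).Opens := P.target.ι ''ᵁ W'
  have hsU : Set.range (U.ι ≫ s) ⊆ Set.range P.source.ι := by
    rw [Scheme.Opens.range_ι]
    rintro _ ⟨w, rfl⟩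
    exact w.2
  let t : (U : Scheme.{u}) ⟶ (P.source : Scheme.{u}) := IsOpenImmersion.lift P.source.ι (U.ι ≫ s) hsU
  have ht : t ≫ P.source.ι = U.ι ≫ s := IsOpenImmersion.lift_fac _ _ _
  have htU : t ≫ P.source.ι ≫ pullback.fst f g = U.ι := by
    rw [reassoc_of% ht, hs1, Category.comp_id]
  let j : (Y' : Scheme.{u}) ⟶ (P.target : Scheme.{u}) :=
    IsOpenImmersion.lift P.target.ι Y'.ι (by
      rw [Scheme.Opens.range_ι, Scheme.Opens.range_ι]; exact P.target.ι_image_le W')
  have hj : j ≫ P.target.ι = Y'.ι := IsOpenImmersion.lift_fac _ _ _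
  have hb : Set.range (j ≫ P.iso.inv ≫ P.source.ι ≫ pullback.fst f g) ⊆ Set.range U.ι := by
    rw [Scheme.Opens.range_ι]
    rintro _ ⟨w, rfl⟩
    obtain ⟨v, hv, hvw⟩ := w.2
    have hjw : j w = v := P.target.ι.isOpenEmbedding.injective (by
      rw [← Scheme.Hom.comp_apply, hj]; exact hvw.symm)
    simp only [Scheme.Hom.comp_apply, hjw]
    exact hv
  let b : (Y' : Scheme.{u}) ⟶ (U : Scheme.{u}) := IsOpenImmersion.lift U.ι _ hb
  have hbι : b ≫ U.ι = j ≫ P.iso.inv ≫ P.source.ι ≫ pullback.fst f g := IsOpenImmersion.lift_fac _ _ _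
  have ha : Set.range (t ≫ P.iso.hom ≫ P.target.ι) ⊆ Set.range Y'.ι := by
    rw [Scheme.Opens.range_ι]
    rintro _ ⟨w, rfl⟩
    refine ⟨P.iso.hom (t w), ?_, rfl⟩
    show (P.source.ι ≫ pullback.fst f g) (P.iso.inv (P.iso.hom (t w))) ∈ U
    rw [← Scheme.Hom.comp_apply P.iso.hom P.iso.inv, Iso.hom_inv_id]
    show (t ≫ P.source.ι ≫ pullback.fst f g) w ∈ U
    rw [htU]
    exact w.2
  let a : (U : Scheme.{u}) ⟶ (Y' : Scheme.{u}) := IsOpenImmersion.lift Y'.ι _ ha
  have haι : a ≫ Y'.ι = t ≫ P.iso.hom ≫ P.target.ι := IsOpenImmersion.lift_fac _ _ _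
  have haj : a ≫ j = t ≫ P.iso.hom := by
    rw [← cancel_mono P.target.ι, Category.assoc, hj, haι, Category.assoc]
  refine ⟨U, n, Y', a, b, ?_, ?_, ?_, ?_⟩
  · obtain ⟨o⟩ : Nonempty ↑(Spec (CommRingCat.of k)) := ⟨⟨⊥, Ideal.isPrime_bot⟩⟩
    refine ⟨(z ≫ pullback.fst f g) o, ?_⟩
    show ((z ≫ pullback.fst f g) ≫ s) o ∈ P.source
    rw [hs2]
    exact (P.iso.inv (p o)).2
  · rw [← cancel_mono U.ι, Category.assoc, hbι, reassoc_of% haj, Iso.hom_inv_id_assoc, htU,
      Category.id_comp]
  · rw [reassoc_of% haι, hP, reassoc_of% htU]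
  · rw [reassoc_of% hbι, hinv, reassoc_of% hj]

end Groth.Agent.S15699
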