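import Groth.Statements.S15700
import Groth.Agent.DomRatLib.Alg
import Groth.Agent.FibDimLib.Pure


set_option autoImplicit false
set_option backward.isDefEq.respectTransparency false
set_option maxHeartbeats 1000000
universe u
open CategoryTheory AlgebraicGeometry
open RatVar

namespace Groth.Agent.S15700

/-- The dimension of an integral variety is that of any nonempty affine open. -/
theorem dim_open {k : Type u} [Field k] {X : Scheme.{u}} (f : X ⟶ Spec (CommRingCat.of k)) [LocallyOfFiniteType f]
    [IsIntegral X] {V : X.Opens} (hV : IsAffineOpen V) (hne : (V : Set X).Nonempty) :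
    topologicalKrullDim X = ringKrullDim Γ(X, V) := by
  have hη : genericPoint X ∈ V :=
    (genericPoint_spec X).mem_open_set_iff V.2 |>.2 (by simpa using hne)
  haveI : LocallyOfFiniteType (Over.mk f).hom := ‹LocallyOfFiniteType f›
  have h := FibDimLib.topologicalKrullDim_closure_open (Over.mk f) V ⟨genericPoint X, hη⟩
  have hcl : closure ({genericPoint X} : Set X) = Set.univ := (genericPoint_spec X).def
  have hcl' : closure ({⟨genericPoint X, hη⟩} : Set V) = Set.univ := by
    rw [Topology.IsInducing.subtypeVal.closure_eq_preimage_closure_image, Set.image_singleton]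
    simp [hcl]
  change topologicalKrullDim ↑(closure ({⟨genericPoint X, hη⟩} : Set V)) =
    topologicalKrullDim ↑(closure ({genericPoint X} : Set X)) at h
  rw [IsHomeomorph.topologicalKrullDim_eq _ ((Homeomorph.setCongr hcl').trans (Homeomorph.Set.univ _)).isHomeomorph,
    IsHomeomorph.topologicalKrullDim_eq _ ((Homeomorph.setCongr hcl).trans (Homeomorph.Set.univ _)).isHomeomorph] at h
  rw [← h, ← PrimeSpectrum.topologicalKrullDim_eq_ringKrullDim]
  exact IsHomeomorph.topologicalKrullDim_eq (X := (V : Set X)) _ hV.isoSpec.hom.homeomorph.isHomeomorph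

/-- Over an infinite field k, an integral scheme X of finite type over k that admits a dominant
k-morphism from a k-rational variety admits one from a k-rational variety of the same dimension as
X. Stated with open subschemes of affine spaces: if a non-empty open subscheme of Spec k[x_1, ...,
x_n] maps dominantly to X over k, then some non-empty open subscheme of some Spec k[x_1, ..., x_m]
with m = dim X maps dominantly to X over k. -/
theorem result (k : Type u) [Field k] [Infinite k]
    (X : Scheme.{u}) (f : X ⟶ Spec (CommRingCat.of k)) [IsIntegral X] [LocallyOfFiniteType f] [QuasiCompact f]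
    (n : ℕ) (W : (Spec (CommRingCat.of (MvPolynomial (Fin n) k))).Opens) (hW : (W : Set ↑(Spec (CommRingCat.of (MvPolynomial (Fin n) k)))).Nonempty)
    (φ : (W : Scheme.{u}) ⟶ X) [IsDominant φ] (hφ : φ ≫ f = W.ι ≫ Spec.map (CommRingCat.ofHom (algebraMap k (MvPolynomial (Fin n) k)))) :
    ∃ (m : ℕ) (W' : (Spec (CommRingCat.of (MvPolynomial (Fin m) k))).Opens) (ψ : (W' : Scheme.{u}) ⟶ X),
      (W' : Set ↑(Spec (CommRingCat.of (MvPolynomial (Fin m) k)))).Nonempty ∧ IsDominant ψ ∧ ψ ≫ f = W'.ι ≫ Spec.map (CommRingCat.ofHom (algebraMap k (MvPolynomial (Fin m) k))) ∧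
      (m : WithBot ℕ∞) = topologicalKrullDim X := by
  classical
  -- an affine open of `X` and a basic open of affine space mapping into it
  obtain ⟨x₀⟩ : Nonempty X := inferInstance
  obtain ⟨V, hV, hx₀, -⟩ := exists_isAffineOpen_mem_and_subset (U := ⊤) (x := x₀) trivial
  have hVne : (V : Set X).Nonempty := ⟨x₀, hx₀⟩
  obtain ⟨w, hw⟩ := φ.denseRange.exists_mem_open V.2 hVne
  obtain ⟨_, ⟨_, ⟨g, rfl⟩, rfl⟩, hwg, hgW⟩ := PrimeSpectrum.isBasis_basic_opens.exists_subset_of_mem_open
    (show W.ι w ∈ (W.ι ''ᵁ (φ ⁻¹ᵁ V) : Set _) from ⟨w, hw, rfl⟩) (W.ι ''ᵁ (φ ⁻¹ᵁ V)).2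
  have hg0 : g ≠ 0 := fun h => hwg (by rw [h]; exact zero_mem _)
  let P := MvPolynomial (Fin n) k
  let j : Spec (CommRingCat.of (Localization.Away g)) ⟶ Spec (CommRingCat.of P) :=
    Spec.map (CommRingCat.ofHom (algebraMap P (Localization.Away g)))
  have hjr : Set.range j = (PrimeSpectrum.basicOpen g : Set (PrimeSpectrum P)) :=
    PrimeSpectrum.localization_away_comap_range (Localization.Away g) g
  haveI : IsDomain (Localization.Away g) :=
    IsLocalization.isDomain_localization (powers_le_nonZeroDivisors_of_noZeroDivisors hg0)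
  have hjW : Set.range j ⊆ Set.range W.ι := by
    rw [hjr]
    exact hgW.trans (by rintro _ ⟨z, -, rfl⟩; exact ⟨z, rfl⟩)
  let jW : Spec (CommRingCat.of (Localization.Away g)) ⟶ (W : Scheme.{u}) := IsOpenImmersion.lift W.ι j hjW
  have hjWι : jW ≫ W.ι = j := IsOpenImmersion.lift_fac _ _ _
  haveI : IsOpenImmersion jW := by
    haveI : IsOpenImmersion (jW ≫ W.ι) := by rw [hjWι]; infer_instance
    exact IsOpenImmersion.of_comp jW W.ι
  haveI : IsDominant jW := by
    haveI : IsIntegral (W : Scheme.{u}) := by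
      haveI : Nonempty (W : Scheme.{u}) := ⟨w⟩
      infer_instance
    obtain ⟨o⟩ : Nonempty ↑(Spec (CommRingCat.of (Localization.Away g))) := inferInstanceAs (Nonempty (PrimeSpectrum _))
    exact ⟨jW.isOpenEmbedding.isOpen_range.dense ⟨jW o, o, rfl⟩⟩
  have hjV : Set.range (jW ≫ φ) ⊆ Set.range hV.fromSpec := by
    rw [hV.range_fromSpec]
    rintro _ ⟨z, rfl⟩
    obtain ⟨w', hw', he⟩ := hgW (hjr ▸ ⟨z, rfl⟩ : j z ∈ (PrimeSpectrum.basicOpen g : Set (PrimeSpectrum P)))
    have : jW z = w' := W.ι.isOpenEmbedding.injective (by rw [← Scheme.Hom.comp_apply, hjWι]; exact he.symm)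
    simpa [this] using hw'
  let a : Spec (CommRingCat.of (Localization.Away g)) ⟶ Spec Γ(X, V) := IsOpenImmersion.lift hV.fromSpec _ hjV
  have ha : a ≫ hV.fromSpec = jW ≫ φ := IsOpenImmersion.lift_fac _ _ _
  haveI : IsDominant a := by
    refine ⟨?_⟩
    have hd : DenseRange (a ≫ hV.fromSpec) := by rw [ha]; exact (jW ≫ φ).denseRange
    intro z
    rw [hV.fromSpec.isOpenEmbedding.isInducing.closure_eq_preimage_closure_image]
    show hV.fromSpec z ∈ closure (hV.fromSpec '' Set.range a)
    rw [← Set.range_comp]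
    exact hd (hV.fromSpec z)
  -- structures over `k`
  let sA : CommRingCat.of k ⟶ Γ(X, V) := Spec.preimage (hV.fromSpec ≫ f)
  letI : Algebra k Γ(X, V) := sA.hom.toAlgebra
  haveI : Nonempty V := ⟨⟨x₀, hx₀⟩⟩
  haveI : IsDomain Γ(X, V) := inferInstance
  haveI : Algebra.FiniteType k Γ(X, V) := by
    have : LocallyOfFiniteType (Spec.map sA) := by rw [Spec.map_preimage]; infer_instance
    exact (HasRingHomProperty.Spec_iff (P := @LocallyOfFiniteType)).1 this
  have hcomm : sA ≫ Spec.preimage a =
      CommRingCat.ofHom (algebraMap k (Localization.Away g)) := by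
    apply Spec.map_injective
    rw [Spec.map_comp, Spec.map_preimage, Spec.map_preimage, reassoc_of% ha, hφ, reassoc_of% hjWι,
      ← Spec.map_comp, ← CommRingCat.ofHom_comp, ← IsScalarTower.algebraMap_eq]
  let θ : Γ(X, V) →ₐ[k] Localization.Away g :=
    { (Spec.preimage a).hom with commutes' := fun c => RingHom.congr_fun (congrArg CommRingCat.Hom.hom hcomm) c }
  have hθ : Function.Injective θ := by
    have hd : DenseRange (PrimeSpectrum.comap (Spec.preimage a).hom) := by
      have := (inferInstance : IsDominant a).denseRange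
      rw [← Spec.map_preimage a] at this
      exact this
    rw [PrimeSpectrum.denseRange_comap_iff_ker_le_nilRadical, nilradical_eq_zero] at hd
    exact (RingHom.injective_iff_ker_eq_bot _).2 (le_bot_iff.1 hd)
  obtain ⟨m, g', ψ, hg', hψ, hdim⟩ := DomRatLib.exists_param Γ(X, V) g hg0 θ hθ
  let Q := MvPolynomial (Fin m) k
  let j' : Spec (CommRingCat.of (Localization.Away g')) ⟶ Spec (CommRingCat.of Q) :=
    Spec.map (CommRingCat.ofHom (algebraMap Q (Localization.Away g')))
  let b : Spec (CommRingCat.of (Localization.Away g')) ⟶ Spec Γ(X, V) := Spec.map (CommRingCat.ofHom ψ.toRingHom)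
  haveI : IsDominant b := ⟨by
    show DenseRange (PrimeSpectrum.comap ψ.toRingHom)
    rw [PrimeSpectrum.denseRange_comap_iff_ker_le_nilRadical]
    rw [(RingHom.injective_iff_ker_eq_bot ψ.toRingHom).1 hψ]
    exact bot_le⟩
  haveI : IsDominant hV.fromSpec := ⟨by
    show Dense (Set.range hV.fromSpec)
    rw [hV.range_fromSpec]; exact V.2.dense hVne⟩
  refine ⟨m, j'.opensRange, j'.isoOpensRange.inv ≫ b ≫ hV.fromSpec, ?_, inferInstance, ?_, ?_⟩
  · haveI : IsDomain (Localization.Away g') :=
      IsLocalization.isDomain_localization (powers_le_nonZeroDivisors_of_noZeroDivisors hg')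
    obtain ⟨o⟩ : Nonempty ↑(Spec (CommRingCat.of (Localization.Away g'))) := inferInstanceAs (Nonempty (PrimeSpectrum _))
    exact ⟨j' o, o, rfl⟩
  · rw [Category.assoc, Category.assoc, ← cancel_epi j'.isoOpensRange.hom, Iso.hom_inv_id_assoc,
      Scheme.Hom.isoOpensRange_hom_ι_assoc]
    rw [show hV.fromSpec ≫ f = Spec.map sA from (Spec.map_preimage _).symm]
    simp only [b, j', ← Spec.map_comp, ← CommRingCat.ofHom_comp]
    congr 1
    ext c
    exact ψ.commutes c
  · rw [dim_open f hV hVne, hdim]

end Groth.Agent.S15700
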