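import Groth.Statements.S15703
import Groth.Agent.CommutatorLib.Main
import Groth.Agent.BorelLib.RedBridge
import Groth.Agent.BorelLib.Const
import Groth.Agent.BorelLib.Borel

set_option autoImplicit false
set_option backward.isDefEq.respectTransparency false
set_option backward.isDefEq.respectTransparency.types false
set_option maxHeartbeats 1000000
set_option synthInstance.maxHeartbeats 400000
universe u
open CategoryTheory MonoidalCategory CartesianMonoidalCategory MonObj GrpObj AlgebraicGeometry
open Red

attribute [-instance] CategoryTheory.Hom.commGroup
namespace Groth.Agent.S15703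

/-- Every central element of a connected semisimple group over an algebraically closed field of
characteristic zero is the commutator of two elements of finite order. Here K is an algebraically
closed field of characteristic zero, G is a semisimple K-group scheme in the sense used for
reductive groups over an algebraically closed field (affine, smooth, connected, trivial unipotent
radical, no non-trivial normal subtorus), and the assertion concerns the group G(K) of K-rational
points: a central element c of G(K) equals a b a⁻¹ b⁻¹ for some a, b ∈ G(K) of finite order. (The
published statement is over the complex numbers; this row takes any algebraically closed field of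
characteristic zero.) -/
theorem result (K : Type u) [Field K] [IsAlgClosed K] [CharZero K]
    (G : Over (Spec (CommRingCat.of K))) [GrpObj G] (hG : Red.IsSemisimpleOver K G)
    (c : 𝟙_ (Over (Spec (CommRingCat.of K))) ⟶ G) (hc : c ∈ Subgroup.center (𝟙_ (Over (Spec (CommRingCat.of K))) ⟶ G)) :
    ∃ a b : 𝟙_ (Over (Spec (CommRingCat.of K))) ⟶ G, IsOfFinOrder a ∧ IsOfFinOrder b ∧ c = a * b * a⁻¹ * b⁻¹ := by
  haveI : IsAffine G.left := hG.1.1
  haveI : Smooth G.hom := hG.1.2.1
  haveI : ConnectedSpace G.left := hG.1.2.2.1
  haveI : PreconnectedSpace G.left := inferInstance
  obtain ⟨A, _, _, v, hv, hA, hAr⟩ := BorelLib.exists_setup G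
  haveI := hv; haveI := hA; haveI := hAr
  let e := BorelLib.ptEquiv v
  obtain ⟨c₀, rfl⟩ := e.surjective c
  obtain ⟨a, b, ha, hb, hab⟩ := CommutatorLib.exists_commutator (BorelLib.isPreconnected_univ_of_connected v)
    (BorelLib.isRedPts_of_isReductiveOver v hG.1) (BorelLib.isSSPts_of_isSemisimpleOver v hG)
    (fun B hB x hx g => e.injective (by
      rw [map_mul, map_mul]
      refine (BorelLib.comm_of_comm_bor v (e x) (e g) hB fun b hb => ?_).symm
      rw [toUnit_unique (toUnit _) (𝟙 _), Category.id_comp, ← map_mul, hx b hb, map_mul]))
    (c := c₀) (fun g => e.injective (by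
      rw [map_mul, map_mul]
      exact Subgroup.mem_center_iff.1 hc (e g)))
  refine ⟨e a, e b, e.toMonoidHom.isOfFinOrder ha, e.toMonoidHom.isOfFinOrder hb, ?_⟩
  rw [hab, map_mul, map_mul, map_mul, map_inv, map_inv]

end Groth.Agent.S15703
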