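import Groth.Statements.S15706
import Mathlib.RingTheory.Ideal.AssociatedPrime.Finiteness
import Mathlib.RingTheory.Ideal.MinimalPrime.Localization
import Mathlib.RingTheory.Ideal.Operations

set_option autoImplicit false
universe u
open CAlg

namespace Groth.Agent.S15706

/-- Let A be a Noetherian ring with Serre's property (S_1), stated here in the equivalent form that
every associated prime of A is a minimal prime of A. Let I be an ideal of A and b an element of A/I
which is regular (a non-zero-divisor) in A/I. Then b is the image of a regular element of A. -/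
theorem result (A : Type u) [CommRing A]
    [IsNoetherianRing A] (hS1 : ∀ p ∈ associatedPrimes A A, p ∈ minimalPrimes A) (I : Ideal A)
    (b : A ⧸ I) (hb : b ∈ nonZeroDivisors (A ⧸ I)) :
    ∃ a : A, a ∈ nonZeroDivisors A ∧ Ideal.Quotient.mk I a = b := by
  classical
  obtain ⟨a, rfl⟩ := Ideal.Quotient.mk_surjective b
  let S : Finset (Ideal A) := (associatedPrimes.finite A A).toFinset
  have hSp : ∀ p ∈ S, p.IsPrime := fun p hp => ((Set.Finite.mem_toFinset _).1 hp).isPrime
  let K : Ideal A := I * ∏ p ∈ S.filter (fun p => a ∉ p), p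
  have hKq : ∀ q ∈ S.filter (fun p => a ∈ p), ¬ K ≤ q := by
    intro q hq hle
    obtain ⟨hqS, haq⟩ := Finset.mem_filter.1 hq
    have hqp := hSp q hqS
    rcases hqp.mul_le.1 hle with h | h
    · -- a prime of `A ⧸ I` containing the regular element
      let π := Ideal.Quotient.mk I
      have hqmin : q ∈ I.minimalPrimes := by
        refine ⟨⟨hqp, h⟩, fun r hr hrq => ?_⟩
        exact (hS1 q ((Set.Finite.mem_toFinset _).1 hqS)).2 ⟨hr.1, bot_le⟩ hrq
      have hpm : q.map π ∈ minimalPrimes (A ⧸ I) := by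
        have hq' : (q.map π).comap π = q := by
          rw [Ideal.comap_map_of_surjective π Ideal.Quotient.mk_surjective, ← RingHom.ker_eq_comap_bot,
            Ideal.mk_ker, sup_eq_left.2 h]
        refine ⟨⟨Ideal.map_isPrime_of_surjective Ideal.Quotient.mk_surjective (by rwa [Ideal.mk_ker]),
          bot_le⟩, fun r hr hrq => ?_⟩
        have h1 : I ≤ r.comap π := by
          intro z hz
          rw [Ideal.mem_comap, Ideal.Quotient.eq_zero_iff_mem.2 hz]
          exact r.zero_mem
        have h2 := hqmin.2 ⟨hr.1.comap π, h1⟩ (by rw [← hq']; exact Ideal.comap_mono hrq)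
        rw [← Ideal.map_comap_of_surjective π Ideal.Quotient.mk_surjective r]
        exact Ideal.map_mono h2
      exact (Ideal.disjoint_nonZeroDivisors_of_mem_minimalPrimes hpm).le_bot
        ⟨Ideal.mem_map_of_mem π haq, hb⟩
    · obtain ⟨p, hp, hpq⟩ := hqp.prod_le.1 h
      obtain ⟨hpS, hap⟩ := Finset.mem_filter.1 hp
      have := (hS1 q ((Set.Finite.mem_toFinset _).1 hqS)).2 ⟨hSp p hpS, bot_le⟩ hpq
      exact hap (this haq)
  obtain ⟨i, hiK, hi⟩ : ∃ i ∈ K, ∀ q ∈ S.filter (fun p => a ∈ p), i ∉ q := by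
    by_contra hcon
    push Not at hcon
    have hsub : (K : Set A) ⊆ ⋃ q ∈ (↑(S.filter fun p => a ∈ p) : Set (Ideal A)), (q : Set A) := fun i hi => by
      obtain ⟨q, hq, hiq⟩ := hcon i hi
      exact Set.mem_iUnion₂.2 ⟨q, hq, hiq⟩
    obtain ⟨q, hq, hle⟩ := (Ideal.subset_union_prime (⊥ : Ideal A) ⊥ fun q hq _ _ =>
      hSp q (Finset.mem_filter.1 hq).1).1 hsub
    exact hKq q hq hle
  refine ⟨a + i, ?_, ?_⟩
  · rw [mem_nonZeroDivisors_iff_right]
    intro z hz
    by_contra hz0
    have hmem : a + i ∈ ⋃ p ∈ associatedPrimes A A, (p : Set A) := by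
      rw [biUnion_associatedPrimes_eq_zero_divisors]
      exact ⟨z, hz0, by rw [smul_eq_mul, mul_comm]; exact hz⟩
    obtain ⟨p, hp, hmem⟩ := Set.mem_iUnion₂.1 hmem
    have hpS : p ∈ S := (Set.Finite.mem_toFinset _).2 hp
    by_cases hap : a ∈ p
    · exact hi p (Finset.mem_filter.2 ⟨hpS, hap⟩) ((Ideal.add_mem_iff_right _ hap).1 hmem)
    · have hle : K ≤ p := Ideal.mul_le_right.trans
        (Ideal.prod_le_inf.trans (Finset.inf_le (f := id) (Finset.mem_filter.2 ⟨hpS, hap⟩)))
      have hip : i ∈ p := hle hiK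
      exact hap ((Ideal.add_mem_iff_left _ hip).1 hmem)
  · rw [map_add, Ideal.Quotient.eq_zero_iff_mem.2 ((Ideal.mul_le_left : K ≤ I) hiK), add_zero]

end Groth.Agent.S15706
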