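import Groth.Statements.S15708
import Mathlib.RingTheory.GradedAlgebra.Radical
import Mathlib.RingTheory.GradedAlgebra.Homogeneous.Ideal

set_option autoImplicit false
universe u v
open CAlg

namespace Groth.Agent.S15708

/-- Let A be a Noetherian commutative ring graded by the natural numbers, J a homogeneous ideal, and
p_1, ..., p_r finitely many prime ideals such that no p_i contains the irrelevant ideal A_+ and no
p_i contains J. Then there is a homogeneous element z of positive degree with z in J and z in no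
p_i. -/
theorem result {R : Type u} {A : Type v} [CommRing R] [CommRing A]
    [Algebra R A] [IsNoetherianRing A] (𝒜 : ℕ → Submodule R A) [GradedRing 𝒜]
    (J : Ideal A) (hJ : J.IsHomogeneous 𝒜) (P : Finset (Ideal A))
    (hP : ∀ p ∈ P, p.IsPrime ∧ ¬ (HomogeneousIdeal.irrelevant 𝒜).toIdeal ≤ p ∧ ¬ J ≤ p) :
    ∃ (z : A) (n : ℕ), 0 < n ∧ z ∈ 𝒜 n ∧ z ∈ J ∧ ∀ p ∈ P, z ∉ p := by
  classical
  let irr := (HomogeneousIdeal.irrelevant 𝒜).toIdeal
  let cores : Finset (Ideal A) := P.image fun p => (p.homogeneousCore 𝒜).toIdeal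
  let s : Finset (Ideal A) := cores.filter fun p => ∀ q ∈ cores, p ≤ q → p = q
  have hmax : ∀ p ∈ cores, ∃ q ∈ s, p ≤ q := fun p hp => by
    obtain ⟨q, hpq, hq⟩ := cores.exists_le_maximal hp
    exact ⟨q, Finset.mem_filter.2 ⟨hq.1, fun q' hq' hle => le_antisymm hle (hq.2 hq' hle)⟩, hpq⟩
  have hps : ∀ q ∈ s, q.IsPrime ∧ q.IsHomogeneous 𝒜 ∧ ¬ irr * J ≤ q := fun q hq => by
    obtain ⟨p, hp, rfl⟩ := Finset.mem_image.1 (Finset.mem_filter.1 hq).1
    obtain ⟨h1, h2, h3⟩ := hP p hp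
    refine ⟨h1.homogeneousCore, HomogeneousIdeal.isHomogeneous _, fun hle => ?_⟩
    rcases h1.homogeneousCore.mul_le.1 hle with h | h
    · exact h2 (h.trans (p.toIdeal_homogeneousCore_le 𝒜))
    · exact h3 (h.trans (p.toIdeal_homogeneousCore_le 𝒜))
  have hsep : ∀ q ∈ s, ∀ I : Ideal A, I.IsHomogeneous 𝒜 → ¬ I ≤ q → ∃ (n : ℕ) (e : A), e ∈ 𝒜 n ∧ e ∈ I ∧ e ∉ q := by
    intro q _ I hI hIq
    obtain ⟨a, ha, haq⟩ := SetLike.not_le_iff_exists.1 hIq
    rw [← DirectSum.sum_support_decompose 𝒜 a] at haq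
    by_contra h
    push Not at h
    exact haq (Ideal.sum_mem _ fun i _ => h i _ (SetLike.coe_mem _) (hI i ha))
  have hpos : ∀ q ∈ s, ∃ (n : ℕ) (e : A), 0 < n ∧ e ∈ 𝒜 n ∧ e ∈ J ∧ e ∉ q ∧ ∀ r ∈ s, r ≠ q → e ∈ r := by
    intro q hq
    obtain ⟨hqp, -, hqJ⟩ := hps q hq
    obtain ⟨n₀, u, hun, hui, huq⟩ := hsep q hq (irr * J)
      ((HomogeneousIdeal.isHomogeneous _).mul hJ) hqJ
    have huirr : u ∈ irr := Ideal.mul_le_left hui
    have hn₀ : 0 < n₀ := by
      rcases Nat.eq_zero_or_pos n₀ with rfl | h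
      · exfalso
        change u ∈ (HomogeneousIdeal.irrelevant 𝒜).toIdeal at huirr
        rw [HomogeneousIdeal.toIdeal_irrelevant, RingHom.mem_ker, GradedRing.projZeroRingHom_apply,
          DirectSum.decompose_of_mem_same 𝒜 hun] at huirr
        exact huq (huirr ▸ q.zero_mem)
      · exact h
    choose! n e he heI heq using fun r (hr : r ∈ s.erase q) => hsep q hq r
      (hps r (Finset.mem_of_mem_erase hr)).2.1
      (fun h => Finset.ne_of_mem_erase hr ((Finset.mem_filter.1 (Finset.mem_of_mem_erase hr)).2 q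
        (Finset.mem_filter.1 hq).1 h))
    refine ⟨n₀ + ∑ r ∈ s.erase q, n r, u * ∏ r ∈ s.erase q, e r, by omega,
      SetLike.mul_mem_graded hun (SetLike.prod_mem_graded 𝒜 _ _ he),
      Ideal.mul_mem_right _ _ (Ideal.mul_le_right hui), ?_, fun r hr hrq => ?_⟩
    · intro h
      rcases hqp.mem_or_mem h with h | h
      · exact huq h
      · obtain ⟨r, hr, hre⟩ := hqp.prod_mem_iff.1 h
        exact heq r hr hre
    · exact Ideal.mul_mem_left _ _ (Ideal.mem_of_dvd _
        (Finset.dvd_prod_of_mem e (Finset.mem_erase.2 ⟨hrq, hr⟩)) (heI r (Finset.mem_erase.2 ⟨hrq, hr⟩)))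
  choose! n e hn he heJ heq heother using hpos
  rcases s.eq_empty_or_nonempty with hs | hs
  · refine ⟨0, 1, one_pos, Submodule.zero_mem _, J.zero_mem, fun p hp => ?_⟩
    obtain ⟨q, hq, -⟩ := hmax _ (Finset.mem_image_of_mem _ hp)
    rw [hs] at hq
    exact absurd hq (Finset.notMem_empty _)
  let L := ∏ q ∈ s, n q
  have hL : 0 < L := Finset.prod_pos hn
  have hpow : ∀ q ∈ s, 0 < L / n q := fun q hq =>
    Nat.div_pos (Nat.le_of_dvd hL (Finset.dvd_prod_of_mem n hq)) (hn q hq)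
  refine ⟨∑ q ∈ s, e q ^ (L / n q), L, hL, Submodule.sum_mem _ fun q hq => ?_,
    Ideal.sum_mem _ fun q hq => Ideal.pow_mem_of_mem _ (heJ q hq) _ (hpow q hq), fun p hp h => ?_⟩
  · have := SetLike.pow_mem_graded (L / n q) (he q hq)
    rwa [smul_eq_mul, Nat.div_mul_cancel (Finset.dvd_prod_of_mem n hq)] at this
  · obtain ⟨q, hq, hle⟩ := hmax _ (Finset.mem_image_of_mem _ hp)
    have hzcore : (∑ r ∈ s, e r ^ (L / n r)) ∈ (p.homogeneousCore 𝒜).toIdeal := by
      have hz : SetLike.IsHomogeneousElem 𝒜 (∑ r ∈ s, e r ^ (L / n r)) := ⟨L, Submodule.sum_mem _ fun r hr => by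
        have := SetLike.pow_mem_graded (L / n r) (he r hr)
        rwa [smul_eq_mul, Nat.div_mul_cancel (Finset.dvd_prod_of_mem n hr)] at this⟩
      exact Ideal.mem_homogeneousCore_of_homogeneous_of_mem hz h
    have h' := hle hzcore
    rw [← Finset.add_sum_erase _ _ hq] at h'
    have h2 : (∑ r ∈ s.erase q, e r ^ (L / n r)) ∈ q := Ideal.sum_mem _ fun r hr =>
      Ideal.pow_mem_of_mem _ (heother r (Finset.mem_of_mem_erase hr) q hq (Finset.ne_of_mem_erase hr).symm) _
        (hpow r (Finset.mem_of_mem_erase hr))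
    exact heq q hq ((hps q hq).1.mem_of_pow_mem _ ((Ideal.add_mem_iff_left _ h2).1 h'))

end Groth.Agent.S15708
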