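import Groth.Statements.S15713
import Groth.Agent.RegCentreLib.CM

set_option autoImplicit false
universe u
open CategoryTheory AlgebraicGeometry TopologicalSpace
open RatSing

namespace Groth.Agent.S15713

/-- Let W be a Cohen–Macaulay scheme (excellent, as the published statement assumes throughout), I an
ideal sheaf locally generated by a regular sequence, and π : T → W the blowing up of W in I. Then T
is Cohen–Macaulay. (The published statement also asserts that the closed subscheme V of I and the
exceptional divisor F are Cohen–Macaulay; this row states the assertion for T. The blowing up is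
characterised by its universal property.) -/
theorem result (W T : Scheme.{u}) [IsLocallyNoetherian W]
    (hexc : ∀ U : W.affineOpens, EGA4.IsExcellent Γ(W, U.1))
    (hcm : ∀ w : W, LocCoh.IsCohenMacaulayLocalRing (W.presheaf.stalk w))
    (I : W.IdealSheafData) (hI : RegImm.IsRegularIdeal RegImm.Kind.regular I)
    (π : T ⟶ W) (hπ : BlowUp.IsBlowUp π I) (t : T) :
    LocCoh.IsCohenMacaulayLocalRing (T.presheaf.stalk t) := by
  haveI hker : I.subschemeι.ker = I := Scheme.IdealSheafData.ker_subschemeι I
  have hi : Mor2.IsRegularClosedImmersion I.subschemeι := by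
    refine ⟨inferInstance, fun y => ?_⟩
    obtain ⟨U, hyU, rs, hrs, hU⟩ := hI (I.subschemeι y) (by
      have : I.subschemeι y ∈ Set.range I.subschemeι := ⟨y, rfl⟩
      rwa [Scheme.IdealSheafData.range_subschemeι] at this)
    exact ⟨U.1, U.2, hyU, rs, hrs, by rw [Scheme.IdealSheafData.ker_subschemeι]; exact hU⟩
  haveI : IsProper π := BlowUpLib.isProper_of_isBlowUp hπ fun U => by
    haveI : IsNoetherianRing Γ(W, U.1) := IsLocallyNoetherian.component_noetherian U
    exact IsNoetherian.noetherian _
  haveI : IsLocallyNoetherian T := LocallyOfFiniteType.isLocallyNoetherian π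
  refine (CMFlatLib.isCohenMacaulayLocalRing_iff_isCM _).mpr
    (RegCentreLib.isCM_stalk_blowUp
      (fun w => (CMFlatLib.isCohenMacaulayLocalRing_iff_isCM _).mp (hcm w)) I.subschemeι hi π ?_ t)
  rw [Scheme.IdealSheafData.ker_subschemeι]
  exact hπ

end Groth.Agent.S15713
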