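import Groth.Statements.S15717
import Groth.Agent.CatLib.CM
import Groth.Agent.SMTLib.CMQuot
-- import your own Groth.Agent.* helpers here

set_option autoImplicit false
universe u
open CAlg

namespace Groth.Agent.S15717

/-- Let R be a Cohen–Macaulay local ring and I an ideal of R with R/I equidimensional (all minimal
primes p over I have the same dim R/p). Then there is a regular sequence r_1, ..., r_n in I such
that the closed subscheme V(r_1, ..., r_n) of Spec R, a local complete intersection, contains V(I),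
has the same dimension as V(I), and has the irreducible components of V(I) among its irreducible
components: dim R/(r_1, ..., r_n) = dim R/I and every minimal prime over I is a minimal prime over
(r_1, ..., r_n). The sequence is asked to be weakly regular (each r_i a non-zero-divisor modulo the
previous ones), which for I proper is the same as regular and which also covers I = R with the
sequence (1). -/
theorem result (R : Type u) [CommRing R]
    [LocCoh.IsCohenMacaulayLocalRing R] (I : Ideal R)
    (hI : ∀ p ∈ I.minimalPrimes, ringKrullDim (R ⧸ p) = ringKrullDim (R ⧸ I)) :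
    ∃ rs : List R, RingTheory.Sequence.IsWeaklyRegular R rs ∧ Ideal.ofList rs ≤ I ∧
      ringKrullDim (R ⧸ Ideal.ofList rs) = ringKrullDim (R ⧸ I) ∧
      I.minimalPrimes ⊆ (Ideal.ofList rs).minimalPrimes := by
  have hR : CommAlgDim.IsCM R := SMTLib.isCM_of_isCohenMacaulayLocalRing R
  rcases eq_or_ne I ⊤ with rfl | hne
  · refine ⟨[1], (RingTheory.Sequence.isWeaklyRegular_singleton_iff _ _).2 (IsSMulRegular.one R), le_top, ?_, ?_⟩
    · rw [show Ideal.ofList [(1 : R)] = ⊤ by rw [Ideal.ofList_singleton, Ideal.span_singleton_one]]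
    · rw [Ideal.minimalPrimes_top]; exact Set.empty_subset _
  obtain ⟨d, hd⟩ : ∃ d : ℕ, ringKrullDim R = d := CommAlgDim.exists_ringKrullDim_eq
  obtain ⟨p0, hp0⟩ := Ideal.nonempty_minimalPrimes hne
  haveI := hp0.1.1
  obtain ⟨g, hg⟩ := ENat.ne_top_iff_exists.1 (Ideal.height_ne_top hp0.1.1.ne_top)
  haveI : IsLocalRing (R ⧸ I) := by
    haveI := Ideal.Quotient.nontrivial_iff.2 hne
    exact IsLocalRing.of_surjective' _ Ideal.Quotient.mk_surjective
  obtain ⟨e, he⟩ : ∃ e : ℕ, ringKrullDim (R ⧸ I) = e := CommAlgDim.exists_ringKrullDim_eq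
  have key : ∀ q : Ideal R, q.IsPrime → ∀ h : ℕ, q.height = h → ∀ f : ℕ, ringKrullDim (R ⧸ q) = f → f + h = d := by
    intro q hq h hh f hf
    have := CatLib.ringKrullDim_quotient_add_height hR q
    rw [hf, hh, hd] at this
    exact_mod_cast this
  have heg : e + g = d := key p0 hp0.1.1 g hg.symm e ((hI p0 hp0).trans he)
  have hmin : ∀ p ∈ I.minimalPrimes, p.height = g := by
    intro p hp
    obtain ⟨h, hh⟩ := ENat.ne_top_iff_exists.1 (Ideal.height_ne_top hp.1.1.ne_top)
    have := key p hp.1.1 h hh.symm e ((hI p hp).trans he)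
    rw [← hh, show h = g by omega]
  have hseq : CommAlgDim.HasSeqIn I R g := by
    rw [CommAlgDim.hasSeqIn_iff_forall_localization]
    intro q _ hIq
    obtain ⟨p, hp, hpq⟩ := Ideal.exists_minimalPrimes_le hIq
    obtain ⟨h, hh⟩ := ENat.ne_top_iff_exists.1 (Ideal.height_ne_top (I := q) (Ideal.IsPrime.ne_top inferInstance))
    have hgh : g ≤ h := by
      have := Ideal.height_mono hpq
      rw [hmin p hp, ← hh] at this
      exact_mod_cast this
    exact (CommAlgDim.le_depth_iff g).2 (((CatLib.hasSeqIn_prime hR q hh.symm).mono hgh).localization le_rfl)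
  obtain ⟨rs, hl, hm, hr⟩ := hseq
  have hreg := RingTheory.Sequence.IsRegular.of_isWeaklyRegular_of_mem_maximalIdeal R
    (fun r hr => IsLocalRing.le_maximalIdeal hne (hm r hr)) hr
  have hle : Ideal.ofList rs ≤ I := Ideal.span_le.2 hm
  have hdim := ringKrullDim_add_length_eq_ringKrullDim_of_isRegular rs hreg
  haveI : IsLocalRing (R ⧸ Ideal.ofList rs) := by
    haveI := Ideal.Quotient.nontrivial_iff.2 (ne_top_of_le_ne_top hne hle)
    exact IsLocalRing.of_surjective' _ Ideal.Quotient.mk_surjective
  obtain ⟨f, hf⟩ : ∃ f : ℕ, ringKrullDim (R ⧸ Ideal.ofList rs) = f := CommAlgDim.exists_ringKrullDim_eq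
  rw [hf, hl, hd] at hdim
  have hfg : f + g = d := by exact_mod_cast hdim
  refine ⟨rs, hr, hle, by rw [hf, he, show f = e by omega], fun p hp => ⟨⟨hp.1.1, hle.trans hp.1.2⟩, ?_⟩⟩
  rintro Q ⟨hQ, hQle⟩ hQp
  haveI : IsLocalRing (R ⧸ Q) := by
    haveI := Ideal.Quotient.nontrivial_iff.2 hQ.ne_top
    exact IsLocalRing.of_surjective' _ Ideal.Quotient.mk_surjective
  obtain ⟨f', hf'⟩ : ∃ f' : ℕ, ringKrullDim (R ⧸ Q) = f' := CommAlgDim.exists_ringKrullDim_eq
  obtain ⟨h', hh'⟩ := ENat.ne_top_iff_exists.1 (Ideal.height_ne_top hQ.ne_top)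
  have h1 := key Q hQ h' hh'.symm f' hf'
  have h2 := ringKrullDim_le_of_surjective (Ideal.Quotient.factor hQle) (Ideal.Quotient.factor_surjective hQle)
  rw [hf, hf'] at h2
  have h3 : f' ≤ f := by exact_mod_cast h2
  rcases hQp.eq_or_lt with h4 | h4
  · exact h4.ge
  · haveI := hQ; haveI := hp.1.1; have h5 := Ideal.height_strict_mono_of_isPrime_of_isPrime h4
    rw [hmin p hp, ← hh'] at h5
    have h6 : h' < g := by exact_mod_cast h5
    omega

end Groth.Agent.S15717
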