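import Groth.Statements.S15721
import Groth.Agent.ShriekLib.DualLocal
import Groth.Agent.ShriekLib.LowestRefl

set_option autoImplicit false
universe u
open CategoryTheory CategoryTheory.Limits AlgebraicGeometry TopologicalSpace
attribute [local instance] HasDerivedCategory.standard
open RatSing

namespace Groth.Agent.S15721

/-- Let Z be an excellent scheme of finite type over a Noetherian local scheme S admitting a dualizing
complex, with canonical sheaf ω_Z = h^{-d}(ω_Z^•), where ω_Z^• = f^! ω_S^• for the normalized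
dualizing complex ω_S^• of S and -d is the lowest degree with nonzero cohomology. Then ω_Z is
torsion-free and (S_2); if moreover Z is normal, ω_Z is reflexive of rank 1. This row states the
case Z proper over S = Spec A (so that f^! is the right adjoint of Rf_* on D_QCoh), with
torsion-freeness (no nonzero section killed by a regular element of the coordinate ring), the (S_2)
condition and reflexivity all stated for the modules of sections over affine opens, and without the
rank assertion. Existence of Rf_* and f^!, preservation of D_QCoh, and exactness of restriction to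
opens and of M ↦ M~ are carried as hypotheses. -/
theorem result (A : Type u) [CommRing A] [IsNoetherianRing A] [IsLocalRing A]
    (ωA : Dual.D A) (hω : Dual.IsDualizing A ωA) (hn : Dual.IsNormalized A ωA)
    [PreservesFiniteLimits (tilde.functor (CommRingCat.of A))]
    (Z : Scheme.{u}) [IsLocallyNoetherian Z] (hexc : ∀ U : Z.affineOpens, EGA4.IsExcellent Γ(Z, U.1))
    (f : Z ⟶ Spec (CommRingCat.of A)) [IsProper f]
    [DCoh.HasRpush f] (h : DCoh.RpushPreservesQCoh f) [DCoh.HasShriek f h]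
    (K : DCoh.DQCoh (Spec (CommRingCat.of A))) (hK : Nonempty (K.obj ≅ (DCoh.tildeD (CommRingCat.of A)).obj ωA))
    (d : ℕ) (hlow : ∀ i : ℤ, i < -(d : ℤ) → IsZero (DCoh.HD ((DCoh.shriek f h).obj K).obj i))
    (hne : ¬ IsZero (DCoh.HD ((DCoh.shriek f h).obj K).obj (-(d : ℤ)))) :
    (∀ U : Z.affineOpens, Submodule.torsion Γ(Z, U.1)
      ((DCoh.HD ((DCoh.shriek f h).obj K).obj (-(d : ℤ))).val.obj (Opposite.op U.1)) = ⊥) ∧
    (∀ U : Z.affineOpens, LocCoh.HasSk 2 Γ(Z, U.1)
      ((DCoh.HD ((DCoh.shriek f h).obj K).obj (-(d : ℤ))).val.obj (Opposite.op U.1))) ∧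
    (Pi1.IsNormalScheme Z → ∀ U : Z.affineOpens, Module.IsReflexive Γ(Z, U.1)
      ((DCoh.HD ((DCoh.shriek f h).obj K).obj (-(d : ℤ))).val.obj (Opposite.op U.1))) := by
  haveI h₁ : ∀ (U V : Scheme.{u}) (j : U ⟶ V) [IsOpenImmersion j],
      PreservesFiniteLimits (Scheme.Modules.restrictFunctor j) := fun _ _ _ _ => inferInstance
  haveI h₂ : ∀ R : CommRingCat.{u}, PreservesFiniteLimits (tilde.functor R) :=
    fun R => HensSchLib.tilde_preservesFiniteLimits R
  obtain ⟨eK⟩ := hK
  have hKd := Groth.Agent.Dual3Lib.isDualizingSch_local hω f h (DCoh.shriek f h) (DCoh.shriekAdj f h) K eK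
  have key : ∀ U : Z.affineOpens, ∃ (ω : Dual.D Γ(Z, U.1)) (hd : Dual.IsDualizing Γ(Z, U.1) ω),
      (haveI := IsLocallyNoetherian.component_noetherian U
       ∀ q, -(d : ℤ) ≤ Groth.Agent.DualCxLib.deg hd q) ∧
      Nonempty (Dual.HD Γ(Z, U.1) ω (-(d : ℤ)) ≃ₗ[Γ(Z, U.1)]
        ((DCoh.HD ((DCoh.shriek f h).obj K).obj (-(d : ℤ))).val.obj (Opposite.op U.1))) := fun U => by
    obtain ⟨ω, hd, ⟨e⟩⟩ := hKd Γ(Z, U.1) U.2.fromSpec
    exact ⟨ω, hd, Groth.Agent.DualCxLib.le_deg_of_isZero U.2 hd e _ hlow,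
      ⟨Groth.Agent.DualCxLib.sectionsHD U.2 e _⟩⟩
  refine ⟨fun U => ?_, fun U => ?_, fun hnorm U => ?_⟩
  all_goals haveI := IsLocallyNoetherian.component_noetherian U
  all_goals obtain ⟨ω, hd, hge, ⟨e⟩⟩ := key U
  · exact Groth.Agent.Dual3Lib.torsion_lowest_eq_bot hd _ hge e
  · exact Groth.Agent.Dual3Lib.hasSk_two_lowest_of_equiv hd _ hge e
  · refine Groth.Agent.Dual3Lib.isReflexive_lowest_of_normal hd _ hge (fun m hm => ?_) e
    let y : PrimeSpectrum Γ(Z, U.1) := ⟨m, hm.isPrime⟩
    have hy : U.2.fromSpec y ∈ U.1 := U.2.range_fromSpec.le ⟨y, rfl⟩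
    letI := TopCat.Presheaf.algebra_section_stalk Z.presheaf (⟨U.2.fromSpec y, hy⟩ : U.1)
    have hloc : IsLocalization.AtPrime (Z.presheaf.stalk (U.2.fromSpec y)) m := U.2.isLocalization_stalk' y hy
    have e' := (IsLocalization.algEquiv m.primeCompl (Z.presheaf.stalk (U.2.fromSpec y))
      (Localization.AtPrime m)).toRingEquiv
    obtain ⟨h3, h4⟩ := hnorm (U.2.fromSpec y)
    exact ⟨e'.symm.toMulEquiv.isDomain, IsIntegrallyClosed.of_equiv e'⟩

end Groth.Agent.S15721
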