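import Groth.Statements.S15723
import Mathlib
import Groth.Agent.S15708
import Groth.Agent.GeomHtLib.Basic

set_option autoImplicit false
universe u v
open CAlg GeomHtLib

namespace Groth.Agent.S15723

/-- Let A be a Noetherian commutative ring graded by the natural numbers, J a homogeneous ideal of
uniform geometric height h (the height of the homogeneous localization J_(f) in the degree-zero ring
A_(f) is h for every homogeneous f of positive degree outside the radical of J), and q_1, ..., q_t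
finitely many prime ideals none of which contains J or the irrelevant ideal A_+. Then there are
homogeneous elements z_1, ..., z_h of positive degree, lying in J and in no q_i, such that for every
homogeneous f of positive degree outside the radical of J and every 1 ≤ j ≤ h the ideal (z_1, ...,
z_j) has geometric height j with respect to f. (The published statement lets f range over all
homogeneous elements outside the radical of J, degree 0 included; then it fails: in A = k[t][x] with
t of degree 0 and x of degree 1, the ideal J = (t) has geometric height 1 with respect to every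
homogeneous f outside its radical, f = 1 included, while (z)_(1) = 0 has height 0 for every
homogeneous z of positive degree. This row takes f of positive degree, in the hypothesis and in the
conclusion.) -/
theorem result {R : Type u} {A : Type v} [CommRing R] [CommRing A]
    [Algebra R A] [IsNoetherianRing A] (𝒜 : ℕ → Submodule R A) [GradedRing 𝒜]
    (J : Ideal A) (hJ : J.IsHomogeneous 𝒜) (h : ℕ) (hJh : W4c2ratsingkovacs.HasUniformGeomHeight 𝒜 J h)
    (P : Finset (Ideal A)) (hP : ∀ q ∈ P, q.IsPrime ∧ ¬ J ≤ q ∧ ¬ (HomogeneousIdeal.irrelevant 𝒜).toIdeal ≤ q) :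
    ∃ zs : List A, zs.length = h ∧
      (∀ z ∈ zs, (∃ n : ℕ, 0 < n ∧ z ∈ 𝒜 n) ∧ z ∈ J ∧ ∀ q ∈ P, z ∉ q) ∧
      ∀ (f : A) (n : ℕ), 0 < n → f ∈ 𝒜 n → f ∉ J.radical →
        ∀ j : ℕ, 1 ≤ j → j ≤ h → W4c2ratsingkovacs.geomHeight 𝒜 (Ideal.ofList (zs.take j)) f = j := by
  classical
  suffices H : ∀ j ≤ h, ∃ zs : List A, zs.length = j ∧
      (∀ z ∈ zs, (∃ n : ℕ, 0 < n ∧ z ∈ 𝒜 n) ∧ z ∈ J ∧ ∀ q ∈ P, z ∉ q) ∧
      ∀ (f : A) (n : ℕ), 0 < n → f ∈ 𝒜 n → f ∉ J.radical →
        ∀ i : ℕ, i ≤ j → W4c2ratsingkovacs.geomHeight 𝒜 (Ideal.ofList (zs.take i)) f = i by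
    obtain ⟨zs, h1, h2, h3⟩ := H h le_rfl
    exact ⟨zs, h1, h2, fun f n hn hf hfJ j _ hj => h3 f n hn hf hfJ j hj⟩
  intro j
  induction j with
  | zero =>
    refine fun _ => ⟨[], rfl, by simp, fun f n hn hf hfJ i hi => ?_⟩
    obtain rfl := Nat.le_zero.1 hi
    have hne : W4c2ratsingkovacs.locIdeal 𝒜 (Ideal.ofList ([] : List A)) f ≠ ⊤ :=
      locIdeal_ne_top 𝒜 hJh hn hf hfJ (by simp)
    refine le_antisymm (height_locIdeal_le 𝒜 hf [] (by simp) hne) (by simp)
  | succ j ih =>
    intro hj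
    obtain ⟨zs, hlen, hzs, hh⟩ := ih (by omega)
    let S : Finset (Ideal A) := P ∪
      (Ideal.finite_minimalPrimes_of_isNoetherianRing A (Ideal.ofList zs)).toFinset.filter
        fun Q => ¬ J ≤ Q ∧ ¬ (HomogeneousIdeal.irrelevant 𝒜).toIdeal ≤ Q
    obtain ⟨z, m, hm, hzm, hzJ, hzS⟩ := Groth.Agent.S15708.result 𝒜 J hJ S fun q hq => by
      rcases Finset.mem_union.1 hq with hq | hq
      · exact ⟨(hP q hq).1, (hP q hq).2.2, (hP q hq).2.1⟩
      · rw [Finset.mem_filter, Set.Finite.mem_toFinset] at hq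
        exact ⟨hq.1.1.1, hq.2.2, hq.2.1⟩
    have hzs' : ∀ x ∈ zs ++ [z], (∃ n : ℕ, 0 < n ∧ x ∈ 𝒜 n) ∧ x ∈ J ∧ ∀ q ∈ P, x ∉ q := by
      intro x hx
      rcases List.mem_append.1 hx with hx | hx
      · exact hzs x hx
      · rw [List.mem_singleton] at hx
        subst hx
        exact ⟨⟨m, hm, hzm⟩, hzJ, fun q hq => hzS q (Finset.mem_union_left _ hq)⟩
    refine ⟨zs ++ [z], by simp [hlen], hzs', fun f n hn hf hfJ i hi => ?_⟩
    rcases Nat.lt_or_eq_of_le hi with hi | rfl
    · rw [List.take_append_of_le_length (by omega)]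
      exact hh f n hn hf hfJ i (by omega)
    rw [List.take_of_length_le (by simp [hlen])]
    have hne : W4c2ratsingkovacs.locIdeal 𝒜 (Ideal.ofList (zs ++ [z])) f ≠ ⊤ :=
      locIdeal_ne_top 𝒜 hJh hn hf hfJ (Ideal.span_le.2 fun x hx => (hzs' x hx).2.1)
    refine le_antisymm ?_ ?_
    · have := height_locIdeal_le 𝒜 hf (zs ++ [z]) (fun x hx => (hzs' x hx).1.imp fun a ha => ha.2) hne
      rwa [List.length_append, List.length_singleton, hlen] at this
    rw [W4c2ratsingkovacs.geomHeight, Ideal.height_eq_inf_minimalPrimes]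
    refine le_iInf₂ fun p hp => ?_
    have := hp.1.1
    have hle : W4c2ratsingkovacs.locIdeal 𝒜 (Ideal.ofList zs) f ≤ p :=
      (locIdeal_mono 𝒜 f (by rw [Ideal.ofList_append]; exact le_sup_left)).trans hp.1.2
    obtain ⟨Q, hQ, hQp⟩ := exists_minimalPrimes_locIdeal_le 𝒜 hf p hle
    have := hQ.1.1
    have hfQ : f ∉ Q := fun hfQ => Ideal.IsPrime.ne_top (I := p) inferInstance (top_le_iff.1 ((locIdeal_eq_top 𝒜 hfQ).symm.le.trans hQp))
    by_cases hJQ : J ≤ Q
    · calc ((j + 1 : ℕ) : ℕ∞) ≤ (h : ℕ∞) := by exact_mod_cast hj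
        _ = (W4c2ratsingkovacs.locIdeal 𝒜 J f).height := (hJh f n hn hf hfJ).symm
        _ ≤ p.height := Ideal.height_mono ((locIdeal_mono 𝒜 f hJQ).trans hQp)
    · have hzQ : z ∉ Q := hzS Q (Finset.mem_union_right _ (by
        rw [Finset.mem_filter, Set.Finite.mem_toFinset]
        exact ⟨hQ, hJQ, fun hle' => hfQ (hle' (HomogeneousIdeal.mem_irrelevant_of_mem 𝒜 hn hf))⟩))
      have := isPrime_locIdeal 𝒜 hf Q hfQ
      have hlt : W4c2ratsingkovacs.locIdeal 𝒜 Q f < p := by
        refine lt_of_le_of_ne hQp fun he => hzQ ?_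
        refine mem_of_wgt_mem 𝒜 hf hzm hfQ (Q := Q) ?_
        rw [he]
        refine hp.1.2 (wgt_mem 𝒜 hf hzm (I := Ideal.ofList (zs ++ [z])) (Ideal.subset_span (by simp)))
      calc ((j + 1 : ℕ) : ℕ∞) = (j : ℕ∞) + 1 := by norm_cast
        _ ≤ (W4c2ratsingkovacs.locIdeal 𝒜 Q f).height + 1 := by
          gcongr
          have := hh f n hn hf hfJ j le_rfl
          rw [List.take_of_length_le (by omega), W4c2ratsingkovacs.geomHeight] at this
          rw [← this]
          exact Ideal.height_mono (locIdeal_mono 𝒜 f hQ.1.2)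
        _ ≤ p.height := Ideal.height_add_one_le_of_lt_of_isPrime hlt

end Groth.Agent.S15723
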