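import Groth.Statements.S15724
import Groth.Agent.InvHilbLib.Basic
-- import your own Groth.Agent.* helpers here

set_option autoImplicit false
universe u
open W4c2invhilbsl2

namespace Groth.Agent.S15724

open InvHilbLib W4c2invhilbsl2 MvPolynomial

/-- Grade the polynomial ring k[X₀,…,X₄] over a field k by ℤ × ℤ/m, giving X₀ weight (1,0), X₁ and X₂
weight (−p,−1), and X₃ and X₄ weight (q,1), where 0 < p < q are coprime integers and m ≥ 1, and let
P be the principal ideal generated by the weight-zero element X₀^(q−p) − X₁X₄ + X₂X₃ (the equation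
of an affine hypersurface). Then every polynomial homogeneous of the weight of X₁ is congruent
modulo P to some a·X₁ + b·X₂ with a and b homogeneous of weight zero, and every polynomial
homogeneous of the weight of X₃ is congruent modulo P to some a·X₃ + b·X₄ with a and b homogeneous
of weight zero. Equivalently, in the coordinate ring of the hypersurface the weight pieces of the
weights of X₁ and of X₃ are generated over the weight-zero subring (the ring of invariants of the
diagonal action of a one-dimensional torus times the group of m-th roots of unity with these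
weights) by X₁, X₂ and by X₃, X₄ respectively. (For the weight of X₁ the congruence is already an
equality in the polynomial ring; for the weight of X₃ the hypersurface equation is needed, e.g.
X₀^(q+p)X₁ has that weight when m divides 2.) -/
theorem result (k : Type u) [Field k] (p q m : ℕ) (hp : 0 < p) (hpq : p < q) (hcop : Nat.Coprime p q) (hm : 0 < m) (f : MvPolynomial (Fin 5) k) :
    (f ∈ MvPolynomial.weightedHomogeneousSubmodule k (W4c2invhilbsl2.wt5 p q m) (W4c2invhilbsl2.wt5 p q m 1) →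
      ∃ a b : MvPolynomial (Fin 5) k, a ∈ MvPolynomial.weightedHomogeneousSubmodule k (W4c2invhilbsl2.wt5 p q m) 0 ∧ b ∈ MvPolynomial.weightedHomogeneousSubmodule k (W4c2invhilbsl2.wt5 p q m) 0 ∧
        f - (a * MvPolynomial.X (1 : Fin 5) + b * MvPolynomial.X (2 : Fin 5)) ∈ Ideal.span {MvPolynomial.X (0 : Fin 5) ^ (q - p) - MvPolynomial.X 1 * MvPolynomial.X 4 + MvPolynomial.X 2 * MvPolynomial.X 3}) ∧
    (f ∈ MvPolynomial.weightedHomogeneousSubmodule k (W4c2invhilbsl2.wt5 p q m) (W4c2invhilbsl2.wt5 p q m 3) →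
      ∃ a b : MvPolynomial (Fin 5) k, a ∈ MvPolynomial.weightedHomogeneousSubmodule k (W4c2invhilbsl2.wt5 p q m) 0 ∧ b ∈ MvPolynomial.weightedHomogeneousSubmodule k (W4c2invhilbsl2.wt5 p q m) 0 ∧
        f - (a * MvPolynomial.X (3 : Fin 5) + b * MvPolynomial.X (4 : Fin 5)) ∈ Ideal.span {MvPolynomial.X (0 : Fin 5) ^ (q - p) - MvPolynomial.X 1 * MvPolynomial.X 4 + MvPolynomial.X 2 * MvPolynomial.X 3}) := by
  classical
  have hqd : ((q - p : ℕ) : ℤ) = (q : ℤ) - p := by omega
  obtain ⟨d, hd⟩ : ∃ d : ℕ, q - p = d := ⟨_, rfl⟩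
  rw [hd] at hqd ⊢
  obtain ⟨H, hH⟩ : ∃ H : MvPolynomial (Fin 5) k, X (0 : Fin 5) ^ d - X 1 * X 4 + X 2 * X 3 = H := ⟨_, rfl⟩
  rw [hH]
  have w1 : wt5 p q m 1 = (-(p : ℤ), (-1 : ZMod m)) := rfl
  have w3 : wt5 p q m 3 = ((q : ℤ), (1 : ZMod m)) := rfl
  constructor
  · intro hf
    refine weighted_induction (P := fun f => ∃ a b : MvPolynomial (Fin 5) k,
      a ∈ weightedHomogeneousSubmodule k (wt5 p q m) 0 ∧ b ∈ weightedHomogeneousSubmodule k (wt5 p q m) 0 ∧
        f - (a * X (1 : Fin 5) + b * X (2 : Fin 5)) ∈ Ideal.span {H})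
      ⟨0, 0, zero_mem _, zero_mem _, by simp⟩ ?_ (fun e a he => ?_) hf
    · rintro f g ⟨a, b, ha, hb, h⟩ ⟨a', b', ha', hb', h'⟩
      exact ⟨a + a', b + b', add_mem ha ha', add_mem hb hb', by convert add_mem h h' using 1; ring⟩
    rw [w1, weight_wt5_eq_iff] at he
    obtain ⟨h1, h2⟩ := he
    push_cast at h2
    rw [monomial_eq5]
    by_cases hb : 0 < e 1
    · obtain ⟨u, hu⟩ := Nat.exists_eq_add_of_le' hb
      refine ⟨C a * (X 0 ^ e 0 * X 1 ^ u * X 2 ^ e 2 * X 3 ^ e 3 * X 4 ^ e 4), 0,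
        C_mul_mono5_mem a _ _ _ _ _ ?_ ?_, zero_mem _, ?_⟩
      · rw [hu] at h1; push_cast at h1; simp only [Prod.fst_zero]; linear_combination h1
      · rw [hu] at h2; push_cast at h2 ⊢; simp only [Prod.snd_zero]; linear_combination h2
      · rw [hu, pow_succ]; convert Submodule.zero_mem (Ideal.span {H}) using 1; ring
    by_cases hb2 : 0 < e 2
    · obtain ⟨u, hu⟩ := Nat.exists_eq_add_of_le' hb2
      refine ⟨0, C a * (X 0 ^ e 0 * X 1 ^ e 1 * X 2 ^ u * X 3 ^ e 3 * X 4 ^ e 4), zero_mem _,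
        C_mul_mono5_mem a _ _ _ _ _ ?_ ?_, ?_⟩
      · rw [hu] at h1; push_cast at h1; simp only [Prod.fst_zero]; linear_combination h1
      · rw [hu] at h2; push_cast at h2 ⊢; simp only [Prod.snd_zero]; linear_combination h2
      · rw [hu, pow_succ]; convert Submodule.zero_mem (Ideal.span {H}) using 1; ring
    exfalso
    rw [show e 1 = 0 by omega, show e 2 = 0 by omega] at h1
    push_cast at h1
    nlinarith [Int.natCast_nonneg (e 0), Int.natCast_nonneg (e 3), Int.natCast_nonneg (e 4)]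
  · intro hf
    refine weighted_induction (P := fun f => ∃ a b : MvPolynomial (Fin 5) k,
      a ∈ weightedHomogeneousSubmodule k (wt5 p q m) 0 ∧ b ∈ weightedHomogeneousSubmodule k (wt5 p q m) 0 ∧
        f - (a * X (3 : Fin 5) + b * X (4 : Fin 5)) ∈ Ideal.span {H})
      ⟨0, 0, zero_mem _, zero_mem _, by simp⟩ ?_ (fun e a he => ?_) hf
    · rintro f g ⟨a, b, ha, hb, h⟩ ⟨a', b', ha', hb', h'⟩
      exact ⟨a + a', b + b', add_mem ha ha', add_mem hb hb', by convert add_mem h h' using 1; ring⟩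
    rw [w3, weight_wt5_eq_iff] at he
    obtain ⟨h1, h2⟩ := he
    push_cast at h2
    rw [monomial_eq5]
    by_cases hb : 0 < e 3
    · obtain ⟨u, hu⟩ := Nat.exists_eq_add_of_le' hb
      refine ⟨C a * (X 0 ^ e 0 * X 1 ^ e 1 * X 2 ^ e 2 * X 3 ^ u * X 4 ^ e 4), 0,
        C_mul_mono5_mem a _ _ _ _ _ ?_ ?_, zero_mem _, ?_⟩
      · rw [hu] at h1; push_cast at h1; simp only [Prod.fst_zero]; linear_combination h1
      · rw [hu] at h2; push_cast at h2 ⊢; simp only [Prod.snd_zero]; linear_combination h2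
      · rw [hu, pow_succ]; convert Submodule.zero_mem (Ideal.span {H}) using 1; ring
    by_cases hb2 : 0 < e 4
    · obtain ⟨u, hu⟩ := Nat.exists_eq_add_of_le' hb2
      refine ⟨0, C a * (X 0 ^ e 0 * X 1 ^ e 1 * X 2 ^ e 2 * X 3 ^ e 3 * X 4 ^ u), zero_mem _,
        C_mul_mono5_mem a _ _ _ _ _ ?_ ?_, ?_⟩
      · rw [hu] at h1; push_cast at h1; simp only [Prod.fst_zero]; linear_combination h1
      · rw [hu] at h2; push_cast at h2 ⊢; simp only [Prod.snd_zero]; linear_combination h2
      · rw [hu, pow_succ]; convert Submodule.zero_mem (Ideal.span {H}) using 1; ring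
    rw [show e 3 = 0 by omega, show e 4 = 0 by omega] at h1 h2 ⊢
    push_cast at h1 h2
    obtain ⟨u, hu⟩ : ∃ u : ℕ, e 0 = u + d := by
      refine Nat.exists_eq_add_of_le' ?_
      have : (0 : ℤ) ≤ (p : ℤ) * ((e 1 : ℤ) + e 2) := by positivity
      omega
    refine ⟨-(C a * (X 0 ^ u * X 1 ^ e 1 * X 2 ^ (e 2 + 1) * X 3 ^ 0 * X 4 ^ 0)),
      C a * (X 0 ^ u * X 1 ^ (e 1 + 1) * X 2 ^ e 2 * X 3 ^ 0 * X 4 ^ 0),
      neg_mem (C_mul_mono5_mem a _ _ _ _ _ ?_ ?_), C_mul_mono5_mem a _ _ _ _ _ ?_ ?_,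
      Ideal.mem_span_singleton'.2 ⟨C a * (X 0 ^ u * X 1 ^ e 1 * X 2 ^ e 2), ?_⟩⟩
    · rw [hu] at h1; push_cast at h1 ⊢; simp only [Prod.fst_zero]; linear_combination h1 - hqd
    · push_cast; simp only [Prod.snd_zero]; linear_combination h2
    · rw [hu] at h1; push_cast at h1 ⊢; simp only [Prod.fst_zero]; linear_combination h1 - hqd
    · push_cast; simp only [Prod.snd_zero]; linear_combination h2
    · rw [hu, pow_add, ← hH]; ring


end Groth.Agent.S15724
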