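import Groth.Statements.S15725
import Groth.Agent.InvHilbLib.Basic
-- import your own Groth.Agent.* helpers here

set_option autoImplicit false
universe u
open W4c2invhilbsl2

namespace Groth.Agent.S15725

open InvHilbLib W4c2invhilbsl2 MvPolynomial

/-- Grade the polynomial ring k[X₀,X₁,X₂] over a field k by ℤ × ℤ/m, giving X₀ weight (1,0), X₁ weight
(−p,−1) and X₂ weight (q,1), where 0 < p < q are coprime integers and m ≥ 1 (this three-variable
ring stands for the subring k[X₀,X₁,Xⱼ], j = 3 or 4, of the five-variable ring with the same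
weights). Then every polynomial homogeneous of weight (q−p, 0) can be written a·X₀^(q−p) + b·X₁X₂
with a and b homogeneous of weight zero; in other words the weight-(q−p, 0) piece is generated by
X₀^(q−p) and X₁X₂ as a module over the weight-zero subring. -/
theorem result (k : Type u) [Field k] (p q m : ℕ) (hp : 0 < p) (hpq : p < q) (hcop : Nat.Coprime p q) (hm : 0 < m) (f : MvPolynomial (Fin 3) k)
    (hf : f ∈ MvPolynomial.weightedHomogeneousSubmodule k (W4c2invhilbsl2.wt3 p q m) ((q : ℤ) - (p : ℤ), (0 : ZMod m))) :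
    ∃ a b : MvPolynomial (Fin 3) k, a ∈ MvPolynomial.weightedHomogeneousSubmodule k (W4c2invhilbsl2.wt3 p q m) 0 ∧ b ∈ MvPolynomial.weightedHomogeneousSubmodule k (W4c2invhilbsl2.wt3 p q m) 0 ∧
      f = a * MvPolynomial.X (0 : Fin 3) ^ (q - p) + b * (MvPolynomial.X (1 : Fin 3) * MvPolynomial.X (2 : Fin 3)) := by
  classical
  obtain ⟨d, hd⟩ : ∃ d : ℕ, q - p = d := ⟨_, rfl⟩
  rw [hd]
  have hdz : (d : ℤ) = (q : ℤ) - p := by omega
  refine weighted_induction (P := fun f => ∃ a b : MvPolynomial (Fin 3) k,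
    a ∈ weightedHomogeneousSubmodule k (wt3 p q m) 0 ∧ b ∈ weightedHomogeneousSubmodule k (wt3 p q m) 0 ∧
      f = a * X 0 ^ d + b * (X 1 * X 2)) ⟨0, 0, zero_mem _, zero_mem _, by simp⟩ ?_ (fun e a he => ?_) hf
  · rintro f g ⟨a, b, ha, hb, rfl⟩ ⟨a', b', ha', hb', rfl⟩
    exact ⟨a + a', b + b', add_mem ha ha', add_mem hb hb', by ring⟩
  obtain ⟨h1, h2⟩ := (weight_wt3_eq_iff e _ _).1 he
  push_cast at h2
  rw [monomial_eq3]
  by_cases hsplit : 0 < e 1 ∧ 0 < e 2
  · obtain ⟨u, hu⟩ := Nat.exists_eq_add_of_le' hsplit.1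
    obtain ⟨v, hv⟩ := Nat.exists_eq_add_of_le' hsplit.2
    refine ⟨0, C a * (X 0 ^ e 0 * X 1 ^ u * X 2 ^ v), zero_mem _, C_mul_mono3_mem a _ _ _ ?_ ?_, ?_⟩
    · rw [hu, hv] at h1; push_cast at h1 ⊢; simp only [Prod.fst_zero]; linear_combination h1
    · rw [hu, hv] at h2; push_cast at h2 ⊢; simp only [Prod.snd_zero]; linear_combination h2
    · rw [hu, hv, pow_succ, pow_succ]; ring
  · have hd0 : d ≤ e 0 := by
      by_contra hlt
      rw [not_and_or, Nat.not_lt, Nat.not_lt, Nat.le_zero, Nat.le_zero] at hsplit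
      rcases hsplit with h0 | h0
      · rw [h0] at h1; push_cast at h1
        rcases Nat.eq_zero_or_pos (e 2) with h | h
        · rw [h] at h1; push_cast at h1; omega
        · nlinarith [show (1 : ℤ) ≤ (e 2 : ℤ) by omega]
      · rw [h0] at h1; push_cast at h1; nlinarith
    obtain ⟨u, hu⟩ := Nat.exists_eq_add_of_le' hd0
    refine ⟨C a * (X 0 ^ u * X 1 ^ e 1 * X 2 ^ e 2), 0, C_mul_mono3_mem a _ _ _ ?_ ?_, zero_mem _, ?_⟩
    · rw [hu] at h1; push_cast at h1 ⊢; simp only [Prod.fst_zero]; linear_combination h1 - hdz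
    · push_cast; simp only [Prod.snd_zero]; linear_combination h2
    · rw [hu, pow_add]; ring


end Groth.Agent.S15725
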