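import Groth.Statements.S15726
import Groth.Agent.InvHilbLib.Basic
-- import your own Groth.Agent.* helpers here

set_option autoImplicit false
universe u
open W4c2invhilbsl2

namespace Groth.Agent.S15726

open InvHilbLib W4c2invhilbsl2 MvPolynomial

/-- Grade the polynomial ring k[X₀,…,X₄] over a field k by ℤ × ℤ/m, giving X₀ weight (1,0), X₁ and X₂
weight (−p,−1), and X₃ and X₄ weight (q,1), where 0 < p < q are coprime integers and m ≥ 1. Then
modulo the principal ideal generated by the weight-zero element X₀^(q−p) − X₁X₄ + X₂X₃ (the equation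
of an affine hypersurface), every polynomial homogeneous of weight (q−p, 0) is congruent to a
combination a₁₃X₁X₃ + a₁₄X₁X₄ + a₂₃X₂X₃ + a₂₄X₂X₄ whose four coefficients are homogeneous of weight
zero. Equivalently, in the coordinate ring of the hypersurface the weight-(q−p, 0) piece is
generated over the weight-zero subring (the invariant ring of the diagonal action with these
weights) by the span of the four products XₐX_b with a ∈ {1,2} and b ∈ {3,4}. (The published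
statement is over the complex numbers; this row takes any field.) -/
theorem result (k : Type u) [Field k] (p q m : ℕ) (hp : 0 < p) (hpq : p < q) (hcop : Nat.Coprime p q) (hm : 0 < m) (f : MvPolynomial (Fin 5) k)
    (hf : f ∈ MvPolynomial.weightedHomogeneousSubmodule k (W4c2invhilbsl2.wt5 p q m) ((q : ℤ) - (p : ℤ), (0 : ZMod m))) :
    ∃ a₁₃ a₁₄ a₂₃ a₂₄ : MvPolynomial (Fin 5) k,
      a₁₃ ∈ MvPolynomial.weightedHomogeneousSubmodule k (W4c2invhilbsl2.wt5 p q m) 0 ∧ a₁₄ ∈ MvPolynomial.weightedHomogeneousSubmodule k (W4c2invhilbsl2.wt5 p q m) 0 ∧ a₂₃ ∈ MvPolynomial.weightedHomogeneousSubmodule k (W4c2invhilbsl2.wt5 p q m) 0 ∧ a₂₄ ∈ MvPolynomial.weightedHomogeneousSubmodule k (W4c2invhilbsl2.wt5 p q m) 0 ∧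
      f - (a₁₃ * (MvPolynomial.X (1 : Fin 5) * MvPolynomial.X 3) + a₁₄ * (MvPolynomial.X (1 : Fin 5) * MvPolynomial.X 4) +
          a₂₃ * (MvPolynomial.X (2 : Fin 5) * MvPolynomial.X 3) + a₂₄ * (MvPolynomial.X (2 : Fin 5) * MvPolynomial.X 4)) ∈
        Ideal.span {MvPolynomial.X (0 : Fin 5) ^ (q - p) - MvPolynomial.X 1 * MvPolynomial.X 4 + MvPolynomial.X 2 * MvPolynomial.X 3} := by
  classical
  have hqd : ((q - p : ℕ) : ℤ) = (q : ℤ) - p := by omega
  obtain ⟨d, hd⟩ : ∃ d : ℕ, q - p = d := ⟨_, rfl⟩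
  rw [hd] at hqd ⊢
  obtain ⟨H, hH⟩ : ∃ H : MvPolynomial (Fin 5) k, X (0 : Fin 5) ^ d - X 1 * X 4 + X 2 * X 3 = H := ⟨_, rfl⟩
  rw [hH]
  refine weighted_induction (P := fun f => ∃ a₁₃ a₁₄ a₂₃ a₂₄ : MvPolynomial (Fin 5) k,
    a₁₃ ∈ weightedHomogeneousSubmodule k (wt5 p q m) 0 ∧ a₁₄ ∈ weightedHomogeneousSubmodule k (wt5 p q m) 0 ∧
    a₂₃ ∈ weightedHomogeneousSubmodule k (wt5 p q m) 0 ∧ a₂₄ ∈ weightedHomogeneousSubmodule k (wt5 p q m) 0 ∧
    f - (a₁₃ * (X (1 : Fin 5) * X 3) + a₁₄ * (X (1 : Fin 5) * X 4) + a₂₃ * (X (2 : Fin 5) * X 3) +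
      a₂₄ * (X (2 : Fin 5) * X 4)) ∈ Ideal.span {H})
    ⟨0, 0, 0, 0, zero_mem _, zero_mem _, zero_mem _, zero_mem _, by simp⟩ ?_ (fun e a he => ?_) hf
  · rintro f g ⟨a, b, c, e, ha, hb, hc, he, h⟩ ⟨a', b', c', e', ha', hb', hc', he', h'⟩
    exact ⟨a + a', b + b', c + c', e + e', add_mem ha ha', add_mem hb hb', add_mem hc hc', add_mem he he',
      by convert add_mem h h' using 1; ring⟩
  obtain ⟨h1, h2⟩ := (weight_wt5_eq_iff e _ _).1 he
  push_cast at h2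
  rw [monomial_eq5]
  have key : ∀ (u1 u2 u3 u4 : ℕ), (e 1 : ℤ) + e 2 = u1 + u2 + 1 → (e 3 : ℤ) + e 4 = u3 + u4 + 1 →
      C a * (X (0 : Fin 5) ^ e 0 * X 1 ^ u1 * X 2 ^ u2 * X 3 ^ u3 * X 4 ^ u4) ∈
        weightedHomogeneousSubmodule k (wt5 p q m) 0 := by
    intro u1 u2 u3 u4 g1 g2
    refine C_mul_mono5_mem a _ _ _ _ _ ?_ ?_
    · simp only [Prod.fst_zero]; linear_combination h1 + (p : ℤ) * g1 - (q : ℤ) * g2
    · have g1' := congrArg (Int.cast : ℤ → ZMod m) g1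
      have g2' := congrArg (Int.cast : ℤ → ZMod m) g2
      push_cast at g1' g2' ⊢; simp only [Prod.snd_zero]; linear_combination h2 + g1' - g2'
  by_cases h13 : 0 < e 1 ∧ 0 < e 3
  · obtain ⟨u, hu⟩ := Nat.exists_eq_add_of_le' h13.1
    obtain ⟨v, hv⟩ := Nat.exists_eq_add_of_le' h13.2
    refine ⟨_, 0, 0, 0, key u (e 2) v (e 4) (by omega) (by omega), zero_mem _, zero_mem _, zero_mem _, ?_⟩
    rw [hu, hv, pow_succ, pow_succ]; convert Submodule.zero_mem (Ideal.span {H}) using 1; ring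
  by_cases h14 : 0 < e 1 ∧ 0 < e 4
  · obtain ⟨u, hu⟩ := Nat.exists_eq_add_of_le' h14.1
    obtain ⟨v, hv⟩ := Nat.exists_eq_add_of_le' h14.2
    refine ⟨0, _, 0, 0, zero_mem _, key u (e 2) (e 3) v (by omega) (by omega), zero_mem _, zero_mem _, ?_⟩
    rw [hu, hv, pow_succ, pow_succ]; convert Submodule.zero_mem (Ideal.span {H}) using 1; ring
  by_cases h23 : 0 < e 2 ∧ 0 < e 3
  · obtain ⟨u, hu⟩ := Nat.exists_eq_add_of_le' h23.1
    obtain ⟨v, hv⟩ := Nat.exists_eq_add_of_le' h23.2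
    refine ⟨0, 0, _, 0, zero_mem _, zero_mem _, key (e 1) u v (e 4) (by omega) (by omega), zero_mem _, ?_⟩
    rw [hu, hv, pow_succ, pow_succ]; convert Submodule.zero_mem (Ideal.span {H}) using 1; ring
  by_cases h24 : 0 < e 2 ∧ 0 < e 4
  · obtain ⟨u, hu⟩ := Nat.exists_eq_add_of_le' h24.1
    obtain ⟨v, hv⟩ := Nat.exists_eq_add_of_le' h24.2
    refine ⟨0, 0, 0, _, zero_mem _, zero_mem _, zero_mem _, key (e 1) u (e 3) v (by omega) (by omega), ?_⟩
    rw [hu, hv, pow_succ, pow_succ]; convert Submodule.zero_mem (Ideal.span {H}) using 1; ring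
  obtain ⟨u, hu⟩ : ∃ u : ℕ, e 0 = u + d := by
    refine Nat.exists_eq_add_of_le' ?_
    by_contra hlt
    rcases (show (e 1 + e 2 = 0) ∨ (e 3 + e 4 = 0) by omega) with h | h
    · rw [show e 1 = 0 by omega, show e 2 = 0 by omega] at h1; push_cast at h1
      rcases Nat.eq_zero_or_pos (e 3 + e 4) with h' | h'
      · rw [show e 3 = 0 by omega, show e 4 = 0 by omega] at h1; push_cast at h1; omega
      · nlinarith [show (1 : ℤ) ≤ (e 3 : ℤ) + e 4 by omega]
    · rw [show e 3 = 0 by omega, show e 4 = 0 by omega] at h1; push_cast at h1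
      nlinarith [Int.natCast_nonneg (e 1), Int.natCast_nonneg (e 2)]
  refine ⟨0, C a * (X 0 ^ u * X 1 ^ e 1 * X 2 ^ e 2 * X 3 ^ e 3 * X 4 ^ e 4),
    -(C a * (X 0 ^ u * X 1 ^ e 1 * X 2 ^ e 2 * X 3 ^ e 3 * X 4 ^ e 4)), 0, zero_mem _, ?_, neg_mem ?_, zero_mem _,
    Ideal.mem_span_singleton'.2 ⟨C a * (X 0 ^ u * X 1 ^ e 1 * X 2 ^ e 2 * X 3 ^ e 3 * X 4 ^ e 4), ?_⟩⟩
  any_goals
    refine C_mul_mono5_mem a _ _ _ _ _ ?_ ?_
    · rw [hu] at h1; push_cast at h1; simp only [Prod.fst_zero]; linear_combination h1 - hqd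
    · push_cast; simp only [Prod.snd_zero]; linear_combination h2
  rw [hu, pow_add, ← hH]; ring


end Groth.Agent.S15726
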