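import Groth.Statements.S15727
import Groth.Agent.InvHilbLib.Basic
-- import your own Groth.Agent.* helpers here

set_option autoImplicit false
universe u
open W4c2invhilbsl2

namespace Groth.Agent.S15727

open InvHilbLib W4c2invhilbsl2 MvPolynomial

/-- Let k be an algebraically closed field, 0 < p < q coprime integers and m ≥ 1, and grade k[X₀,…,X₄]
by ℤ × ℤ/m, giving X₀ weight (1,0), X₁ and X₂ weight (−p,−1), and X₃ and X₄ weight (q,1). For s ∈ k
let I_s be the ideal (X₀^(q−p) − X₁X₄, X₂, X₃, s − X₀^(mp)X₁^m), whose generators are homogeneous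
(the last one of weight zero). Then for every weight ν the image in k[X₀,…,X₄]/I_s of the
homogeneous polynomials of weight ν is a k-vector space of dimension at most 1. (The published
statement asserts that this dimension equals 1 for every ν and every s, namely that the quotient has
the Hilbert function of the regular representation of the grading group; this row states the upper
bound, the half obtained from the monomial analysis of the weight pieces, while the lower bound
there is drawn from the moduli interpretation of these ideals. The published statement is over the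
complex numbers; this row takes any algebraically closed field, which is what the reduction to s =
0, 1 by rescaling the variables uses.) -/
theorem result (k : Type u) [Field k] [IsAlgClosed k] (p q m : ℕ) (hp : 0 < p) (hpq : p < q) (hcop : Nat.Coprime p q) (hm : 0 < m) (s : k) (ν : ℤ × ZMod m) :
    Module.rank k (W4c2invhilbsl2.piece k (W4c2invhilbsl2.wt5 p q m) (W4c2invhilbsl2.idealI k p q m s) ν) ≤ 1 := by
  classical
  refine rank_piece_le_one _ _ _ fun d e hd he => ?_
  obtain ⟨I, hI⟩ : ∃ I, W4c2invhilbsl2.idealI k p q m s = I := ⟨_, rfl⟩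
  rw [hI]
  have hmem : ∀ g ∈ ({X 0 ^ (q - p) - X 1 * X 4, X 2, X 3, C s - X 0 ^ (m * p) * X 1 ^ m} : Set (MvPolynomial (Fin 5) k)),
      Ideal.Quotient.mk I g = 0 := fun g hg => Ideal.Quotient.eq_zero_iff_mem.2 (hI ▸ Ideal.subset_span hg)
  by_cases hd23 : 0 < d 2 ∨ 0 < d 3
  · left; refine ⟨0, ?_⟩
    rw [zero_smul, monomial_eq5]
    simp only [map_mul, map_pow]
    rcases hd23 with h | h
    · rw [show Ideal.Quotient.mk I (X (2 : Fin 5)) = 0 from hmem _ (by simp), zero_pow h.ne']; simp
    · rw [show Ideal.Quotient.mk I (X (3 : Fin 5)) = 0 from hmem _ (by simp), zero_pow h.ne']; simp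
  by_cases he23 : 0 < e 2 ∨ 0 < e 3
  · right; refine ⟨0, ?_⟩
    rw [zero_smul, monomial_eq5]
    simp only [map_mul, map_pow]
    rcases he23 with h | h
    · rw [show Ideal.Quotient.mk I (X (2 : Fin 5)) = 0 from hmem _ (by simp), zero_pow h.ne']; simp
    · rw [show Ideal.Quotient.mk I (X (3 : Fin 5)) = 0 from hmem _ (by simp), zero_pow h.ne']; simp
  push Not at hd23 he23
  obtain ⟨hd1, hd2⟩ := (weight_wt5_eq_iff d ν.1 ν.2).1 hd
  obtain ⟨he1, he2⟩ := (weight_wt5_eq_iff e ν.1 ν.2).1 he
  simp only [show d 2 = 0 by omega, show d 3 = 0 by omega, show e 2 = 0 by omega, show e 3 = 0 by omega,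
    Nat.cast_zero, add_zero, zero_add] at hd1 hd2 he1 he2
  obtain ⟨j, hj⟩ := (ZMod.intCast_eq_intCast_iff_dvd_sub _ _ m).1 (hd2.trans he2.symm)
  have hmo : ∀ f : Fin 5 →₀ ℕ, f 2 = 0 → f 3 = 0 → Ideal.Quotient.mk I (monomial f (1 : k)) =
      mo (Ideal.Quotient.mk I (X 0)) (Ideal.Quotient.mk I (X 1)) (Ideal.Quotient.mk I (X 4)) (f 0) (f 1) (f 4) := by
    intro f h2 h3
    rw [monomial_eq5, h2, h3]; simp [mo]
  rw [hmo d (by omega) (by omega), hmo e (by omega) (by omega)]
  have hH : Ideal.Quotient.mk I (X (0 : Fin 5)) ^ (q - p) = Ideal.Quotient.mk I (X 1) * Ideal.Quotient.mk I (X 4) := by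
    rw [← map_pow, ← map_mul, ← sub_eq_zero, ← map_sub]
    exact hmem _ (by simp)
  have hM : Ideal.Quotient.mk I (X (0 : Fin 5)) ^ (m * p) * Ideal.Quotient.mk I (X 1) ^ m = algebraMap k _ s := by
    rw [← map_pow, ← map_pow, ← map_mul, eq_comm, ← sub_eq_zero,
      show algebraMap k (MvPolynomial (Fin 5) k ⧸ I) s = Ideal.Quotient.mk I (C s) from rfl, ← map_sub]
    exact hmem _ (by simp)
  rcases le_or_gt 0 j with hj0 | hj0
  · obtain ⟨j', rfl⟩ := Int.eq_ofNat_of_zero_le hj0
    left; refine ⟨s ^ j', ?_⟩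
    rw [mo_eq_pow_mul _ _ _ hpq hH j' (m := m) (hd1.trans he1.symm) (by linear_combination hj), hM, ← map_pow]
    exact (Algebra.smul_def _ _).symm
  · obtain ⟨j', hj'⟩ := Int.eq_ofNat_of_zero_le (show 0 ≤ -j by omega)
    right; refine ⟨s ^ j', ?_⟩
    rw [mo_eq_pow_mul _ _ _ hpq hH j' (m := m) (he1.trans hd1.symm) (by linear_combination -hj + (m : ℤ) * hj'), hM, ← map_pow]
    exact (Algebra.smul_def _ _).symm


end Groth.Agent.S15727
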