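import Groth.Statements.S15728
import Groth.Agent.InvHilbLib.Extra
-- import your own Groth.Agent.* helpers here

set_option autoImplicit false
universe u
open W4c2invhilbsl2

namespace Groth.Agent.S15728

open InvHilbLib W4c2invhilbsl2 MvPolynomial

/-- Let k be an algebraically closed field, 0 < p < q coprime integers and m ≥ 1; put g = gcd(m, q−p)
and a = m/g, and grade k[X₀,…,X₄] by ℤ × ℤ/m, giving X₀ weight (1,0), X₁ and X₂ weight (−p,−1), and
X₃ and X₄ weight (q,1). For s ∈ k let J_s be the ideal (X₀^g, X₂, X₄, s − X₁^(aq)X₃^(ap)), whose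
generators are homogeneous (the last one of weight zero). Then for every weight ν the image in
k[X₀,…,X₄]/J_s of the homogeneous polynomials of weight ν is a k-vector space of dimension at most
1. (The published statement asserts that this dimension equals 1 for every ν and every s; this row
states the upper bound, the half obtained from the monomial analysis of the weight pieces, while the
lower bound there is drawn from the moduli interpretation of these ideals. The published statement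
is over the complex numbers; this row takes any algebraically closed field, which is what the
reduction to s = 0, 1 by rescaling the variables uses.) -/
theorem result (k : Type u) [Field k] [IsAlgClosed k] (p q m : ℕ) (hp : 0 < p) (hpq : p < q) (hcop : Nat.Coprime p q) (hm : 0 < m) (s : k) (ν : ℤ × ZMod m) :
    Module.rank k (W4c2invhilbsl2.piece k (W4c2invhilbsl2.wt5 p q m) (W4c2invhilbsl2.idealJ k p q m s) ν) ≤ 1 := by
  classical
  refine rank_piece_le_one _ _ _ fun d e hd he => ?_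
  obtain ⟨I, hI⟩ : ∃ I, W4c2invhilbsl2.idealJ k p q m s = I := ⟨_, rfl⟩
  rw [hI]
  have hmem : ∀ g ∈ ({X 0 ^ Nat.gcd m (q - p), X 2, X 4,
      C s - X 1 ^ (m / Nat.gcd m (q - p) * q) * X 3 ^ (m / Nat.gcd m (q - p) * p)} : Set (MvPolynomial (Fin 5) k)),
      Ideal.Quotient.mk I g = 0 := fun g hg => Ideal.Quotient.eq_zero_iff_mem.2 (hI ▸ Ideal.subset_span hg)
  have hdead : ∀ f : Fin 5 →₀ ℕ, (0 < f 2 ∨ 0 < f 4 ∨ Nat.gcd m (q - p) ≤ f 0) →
      Ideal.Quotient.mk I (monomial f (1 : k)) = 0 := by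
    intro f hf
    rw [monomial_eq5]
    simp only [map_mul, map_pow]
    rcases hf with h | h | h
    · rw [show Ideal.Quotient.mk I (X (2 : Fin 5)) = 0 from hmem _ (by simp), zero_pow h.ne']; simp
    · rw [show Ideal.Quotient.mk I (X (4 : Fin 5)) = 0 from hmem _ (by simp), zero_pow h.ne']; simp
    · obtain ⟨w, hw⟩ := Nat.exists_eq_add_of_le h
      have : Ideal.Quotient.mk I (X (0 : Fin 5)) ^ Nat.gcd m (q - p) = 0 := by rw [← map_pow]; exact hmem _ (by simp)
      rw [hw, pow_add, this]; simp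
  by_cases hdd : 0 < d 2 ∨ 0 < d 4 ∨ Nat.gcd m (q - p) ≤ d 0
  · exact Or.inl ⟨0, by rw [hdead d hdd, zero_smul]⟩
  by_cases hee : 0 < e 2 ∨ 0 < e 4 ∨ Nat.gcd m (q - p) ≤ e 0
  · exact Or.inr ⟨0, by rw [hdead e hee, zero_smul]⟩
  push Not at hdd hee
  obtain ⟨hd1, hd2⟩ := (weight_wt5_eq_iff d ν.1 ν.2).1 hd
  obtain ⟨he1, he2⟩ := (weight_wt5_eq_iff e ν.1 ν.2).1 he
  simp only [show d 2 = 0 by omega, show d 4 = 0 by omega, show e 2 = 0 by omega, show e 4 = 0 by omega,
    Nat.cast_zero, add_zero] at hd1 hd2 he1 he2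
  have hdvd := (ZMod.intCast_eq_intCast_iff_dvd_sub _ _ m).1 (hd2.trans he2.symm)
  obtain ⟨h0, u, hu1, hu2⟩ := exists_shift_of_small hp hpq hcop hm (hd1.trans he1.symm)
    (by obtain ⟨j, hj⟩ := hdvd; exact ⟨j, by linear_combination hj⟩) hdd.2.2 hee.2.2
  obtain ⟨A, hA⟩ : ∃ A : ℕ, m / Nat.gcd m (q - p) * q = A := ⟨_, rfl⟩
  obtain ⟨B, hB⟩ : ∃ A : ℕ, m / Nat.gcd m (q - p) * p = A := ⟨_, rfl⟩
  rw [hA] at hu1
  rw [hB] at hu2
  have hM : Ideal.Quotient.mk I (X (1 : Fin 5)) ^ A * Ideal.Quotient.mk I (X 3) ^ B = algebraMap k _ s := by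
    rw [← map_pow, ← map_pow, ← map_mul, eq_comm, ← sub_eq_zero,
      show algebraMap k (MvPolynomial (Fin 5) k ⧸ I) s = Ideal.Quotient.mk I (C s) from rfl, ← map_sub]
    exact hmem _ (by rw [← hA, ← hB]; simp)
  have hmo : ∀ f : Fin 5 →₀ ℕ, f 2 = 0 → f 4 = 0 → Ideal.Quotient.mk I (monomial f (1 : k)) =
      mo (Ideal.Quotient.mk I (X 0)) (Ideal.Quotient.mk I (X 1)) (Ideal.Quotient.mk I (X 3)) (f 0) (f 1) (f 3) := by
    intro f h2 h3
    rw [monomial_eq5, h2, h3]; simp [mo]
  rw [hmo d (by omega) (by omega), hmo e (by omega) (by omega)]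
  rcases le_or_gt 0 u with hu | hu
  · obtain ⟨v, rfl⟩ := Int.eq_ofNat_of_zero_le hu
    left; refine ⟨s ^ v, ?_⟩
    rw [h0, show d 1 = e 1 + A * v by zify; linear_combination hu1, show d 3 = e 3 + B * v by zify; linear_combination hu2,
      ]
    refine Eq.trans ?_ (Algebra.smul_def (A := MvPolynomial (Fin 5) k ⧸ I) (s ^ v) _).symm
    rw [map_pow, ← hM]
    simp only [mo, pow_add, mul_pow, pow_mul]; ring
  · obtain ⟨v, hv⟩ := Int.eq_ofNat_of_zero_le (show 0 ≤ -u by omega)
    right; refine ⟨s ^ v, ?_⟩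
    rw [← h0, show e 1 = d 1 + A * v by zify; linear_combination -hu1 + (A : ℤ) * hv,
      show e 3 = d 3 + B * v by zify; linear_combination -hu2 + (B : ℤ) * hv,
      ]
    refine Eq.trans ?_ (Algebra.smul_def (A := MvPolynomial (Fin 5) k ⧸ I) (s ^ v) _).symm
    rw [map_pow, ← hM]
    simp only [mo, pow_add, mul_pow, pow_mul]; ring


end Groth.Agent.S15728
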