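import Groth.Statements.S15729
import Groth.Agent.InvHilbLib.Decomp
-- import your own Groth.Agent.* helpers here

set_option autoImplicit false
universe u
open W4c2invhilbsl2

namespace Groth.Agent.S15729

open InvHilbLib W4c2invhilbsl2 MvPolynomial

/-- Let 0 < p < q be coprime integers and m ≥ 1 such that q − p does not divide m; put g = gcd(m, q−p),
b = (q−p)/g, α = ⌊mp/(q−p)⌋, β = the remainder of mp modulo q−p and t = (q−p−β)/g, so that 1 ≤ t <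
b, and let b/t = c₁ − 1/(c₂ − 1/(⋯ − 1/c_r)) be the negative-regular (Hirzebruch–Jung) continued
fraction expansion with every cᵢ ≥ 2; set P₀ = 0, P₁ = 1, Q₀ = −1, Q₁ = 0, Pᵢ = cᵢ₋₁Pᵢ₋₁ − Pᵢ₋₂, Qᵢ
= cᵢ₋₁Qᵢ₋₁ − Qᵢ₋₂ for 2 ≤ i ≤ r+1, and eᵢ = (α+1+m)Pᵢ − Qᵢ, lᵢ = (α+1)Pᵢ − Qᵢ, nᵢ = q·lᵢ − p·eᵢ,
which are non-negative integers for 0 ≤ i ≤ r+1. Grade the polynomial ring k[X₀,X₁,X₂] over a field
k by ℤ × ℤ/m with weights (1,0), (−p,−1), (q,1) (it stands for k[X₀,X₁,Xⱼ], j = 3 or 4, inside the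
five-variable ring). Then for every 1 ≤ i ≤ r, every polynomial homogeneous of weight (nᵢ, 0) can be
written a·X₀^(nᵢ) + b·X₁^(eᵢ)X₂^(lᵢ) with a and b homogeneous of weight zero; that is, the
weight-(nᵢ,0) piece is generated over the weight-zero subring by X₀^(nᵢ) and X₁^(eᵢ)X₂^(lᵢ). -/
theorem result (k : Type u) [Field k] (p q m : ℕ) (hp : 0 < p) (hpq : p < q) (hcop : Nat.Coprime p q) (hm : 0 < m) (hnt : ¬ (q - p ∣ m)) (c : List ℤ) (hc : W4c2invhilbsl2.IsHJDigits p q m c) (i : ℕ) (hi : 1 ≤ i) (hir : i ≤ c.length)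
    (f : MvPolynomial (Fin 3) k) (hf : f ∈ MvPolynomial.weightedHomogeneousSubmodule k (W4c2invhilbsl2.wt3 p q m) (W4c2invhilbsl2.nN p q m c i, (0 : ZMod m))) :
    ∃ a b : MvPolynomial (Fin 3) k, a ∈ MvPolynomial.weightedHomogeneousSubmodule k (W4c2invhilbsl2.wt3 p q m) 0 ∧ b ∈ MvPolynomial.weightedHomogeneousSubmodule k (W4c2invhilbsl2.wt3 p q m) 0 ∧
      f = a * MvPolynomial.X (0 : Fin 3) ^ (W4c2invhilbsl2.nN p q m c i).toNat +
        b * (MvPolynomial.X (1 : Fin 3) ^ (W4c2invhilbsl2.eE p q m c i).toNat * MvPolynomial.X (2 : Fin 3) ^ (W4c2invhilbsl2.lL p q m c i).toNat) := by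
  classical
  obtain ⟨hgb, ht0, htb, -, hg, -⟩ := tT_facts hp hpq hcop hm hnt
  obtain ⟨l1, -, e1, -⟩ := ll_mono hp hpq hcop hm hnt hc i hir
  have hn : 0 ≤ nN p q m c i := by
    rw [nN_eq hp hpq hcop hm hnt]; exact mul_nonneg hg.le (hjN_pos hc.1 (hval hc) ht0 htb i hir).le
  obtain ⟨n, hn'⟩ : ∃ n : ℕ, (nN p q m c i).toNat = n := ⟨_, rfl⟩
  obtain ⟨E, hE⟩ : ∃ n : ℕ, (eE p q m c i).toNat = n := ⟨_, rfl⟩
  obtain ⟨L, hL⟩ : ∃ n : ℕ, (lL p q m c i).toNat = n := ⟨_, rfl⟩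
  have hnz : (n : ℤ) = -(p : ℤ) * E + q * L := by
    have : nN p q m c i = -(p : ℤ) * eE p q m c i + q * lL p q m c i := rfl
    rw [← hn', ← hE, ← hL, Int.toNat_of_nonneg hn, Int.toNat_of_nonneg e1, Int.toNat_of_nonneg l1, this]
  have hel : ((E : ℤ) - L) = m * hjP c i := by
    rw [← hE, ← hL, Int.toNat_of_nonneg e1, Int.toNat_of_nonneg l1, eE_eq, lL_eq]; simp only [vecE, vecL]; ring
  have hel' : ((E : ZMod m) - L) = 0 := by
    have := congrArg (Int.cast : ℤ → ZMod m) hel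
    push_cast at this
    rw [this, ZMod.natCast_self, zero_mul]
  rw [hn', hE, hL]
  refine weighted_induction (P := fun f => ∃ a b : MvPolynomial (Fin 3) k,
    a ∈ weightedHomogeneousSubmodule k (wt3 p q m) 0 ∧ b ∈ weightedHomogeneousSubmodule k (wt3 p q m) 0 ∧
      f = a * X 0 ^ n + b * (X 1 ^ E * X 2 ^ L)) ⟨0, 0, zero_mem _, zero_mem _, by simp⟩ ?_ (fun e a he => ?_) hf
  · rintro f g ⟨a, b, ha, hb, rfl⟩ ⟨a', b', ha', hb', rfl⟩
    exact ⟨a + a', b + b', add_mem ha ha', add_mem hb hb', by ring⟩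
  obtain ⟨h1, h2⟩ := (weight_wt3_eq_iff e _ _).1 he
  have hdvd : (m : ℤ) ∣ (e 2 : ℤ) - e 1 := (ZMod.intCast_zmod_eq_zero_iff_dvd _ m).1 h2
  push_cast at h2
  rw [monomial_eq3]
  rcases cases_of_weight_n hp hpq hcop hm hnt hc i hi hir (e 0) (e 1) (e 2) h1 hdvd with h | ⟨g1, g2⟩
  · rw [hn'] at h
    obtain ⟨u, hu⟩ := Nat.exists_eq_add_of_le' h
    refine ⟨C a * (X 0 ^ u * X 1 ^ e 1 * X 2 ^ e 2), 0, C_mul_mono3_mem a _ _ _ ?_ ?_, zero_mem _, ?_⟩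
    · rw [hu] at h1; push_cast at h1; simp only [Prod.fst_zero]; rw [← Int.toNat_of_nonneg hn, hn'] at h1
      linear_combination h1
    · push_cast; simp only [Prod.snd_zero]; linear_combination h2
    · rw [hu, pow_add]; ring
  · rw [hE] at g1
    rw [hL] at g2
    obtain ⟨u, hu⟩ := Nat.exists_eq_add_of_le' g1
    obtain ⟨v, hv⟩ := Nat.exists_eq_add_of_le' g2
    refine ⟨0, C a * (X 0 ^ e 0 * X 1 ^ u * X 2 ^ v), zero_mem _, C_mul_mono3_mem a _ _ _ ?_ ?_, ?_⟩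
    · rw [hu, hv, ← Int.toNat_of_nonneg hn, hn'] at h1; push_cast at h1; simp only [Prod.fst_zero]
      linear_combination h1 + hnz
    · rw [hu, hv] at h2; push_cast at h2 ⊢; simp only [Prod.snd_zero]; linear_combination h2 + hel'
    · rw [hu, hv, pow_add, pow_add]; ring


end Groth.Agent.S15729
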