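import Groth.Statements.S15730
import Groth.Agent.InvHilbLib.Decomp
-- import your own Groth.Agent.* helpers here

set_option autoImplicit false
universe u
open W4c2invhilbsl2

namespace Groth.Agent.S15730

open InvHilbLib W4c2invhilbsl2 MvPolynomial

/-- Let 0 < p < q be coprime integers and m ≥ 1 such that q − p does not divide m; put g = gcd(m, q−p),
b = (q−p)/g, α = ⌊mp/(q−p)⌋, β = the remainder of mp modulo q−p and t = (q−p−β)/g, so that 1 ≤ t <
b, and let b/t = c₁ − 1/(c₂ − 1/(⋯ − 1/c_r)) be the negative-regular (Hirzebruch–Jung) continued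
fraction expansion with every cᵢ ≥ 2; set P₀ = 0, P₁ = 1, Q₀ = −1, Q₁ = 0, Pᵢ = cᵢ₋₁Pᵢ₋₁ − Pᵢ₋₂, Qᵢ
= cᵢ₋₁Qᵢ₋₁ − Qᵢ₋₂ for 2 ≤ i ≤ r+1, and eᵢ = (α+1+m)Pᵢ − Qᵢ, lᵢ = (α+1)Pᵢ − Qᵢ, nᵢ = q·lᵢ − p·eᵢ,
which are non-negative integers for 0 ≤ i ≤ r+1. Grade the polynomial ring k[X₀,X₁,X₂] over a field
k by ℤ × ℤ/m with weights (1,0), (−p,−1), (q,1) (it stands for k[X₀,X₁,Xⱼ], j = 3 or 4, inside the
five-variable ring), let K be the ideal generated by all weight-zero monomials other than 1, and for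
1 ≤ i ≤ r let L⁽ⁱ⁾₀ be the ideal (X₀^(nᵢ₋₁), X₁^(eᵢ)X₂^(lᵢ)) + K, which is generated by homogeneous
elements. Then for every weight ν the image in k[X₀,X₁,X₂]/L⁽ⁱ⁾₀ of the homogeneous polynomials of
weight ν is a k-vector space of dimension at most 1. (The published statement is over the complex
numbers and writes this ideal as (X₀^(nᵢ₋₁), s·X₀^(nᵢ) − X₁^(eᵢ)X₂^(lᵢ)) + K with s = 0; this row
takes any field.) -/
theorem result (k : Type u) [Field k] (p q m : ℕ) (hp : 0 < p) (hpq : p < q) (hcop : Nat.Coprime p q) (hm : 0 < m) (hnt : ¬ (q - p ∣ m)) (c : List ℤ) (hc : W4c2invhilbsl2.IsHJDigits p q m c) (i : ℕ) (hi : 1 ≤ i) (hir : i ≤ c.length)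
    (ν : ℤ × ZMod m) :
    Module.rank k (W4c2invhilbsl2.piece k (W4c2invhilbsl2.wt3 p q m) (W4c2invhilbsl2.idealL k p q m c i 0) ν) ≤ 1 := by
  classical
  refine rank_piece_le_one _ _ _ fun d e hd he => ?_
  obtain ⟨I, hI⟩ : ∃ I, W4c2invhilbsl2.idealL k p q m c i (0 : k) = I := ⟨_, rfl⟩
  rw [hI]
  have hgen : ∀ g ∈ ({X 0 ^ (nN p q m c (i - 1)).toNat,
      C (0 : k) * X 0 ^ (nN p q m c i).toNat - X 1 ^ (eE p q m c i).toNat * X 2 ^ (lL p q m c i).toNat} : Set (MvPolynomial (Fin 3) k)),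
      Ideal.Quotient.mk I g = 0 := fun g hg =>
    Ideal.Quotient.eq_zero_iff_mem.2 (hI ▸ Ideal.mem_sup_left (Ideal.subset_span hg))
  have hmo : ∀ f : Fin 3 →₀ ℕ, Ideal.Quotient.mk I (monomial f (1 : k)) =
      mo (Ideal.Quotient.mk I (X 0)) (Ideal.Quotient.mk I (X 1)) (Ideal.Quotient.mk I (X 2)) (f 0) (f 1) (f 2) := by
    intro f
    rw [monomial_eq3]; simp [mo]
  obtain ⟨hd1, hd2⟩ := (weight_wt3_eq_iff d ν.1 ν.2).1 hd
  obtain ⟨he1, he2⟩ := (weight_wt3_eq_iff e ν.1 ν.2).1 he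
  obtain ⟨j, hj⟩ := (ZMod.intCast_eq_intCast_iff_dvd_sub _ _ m).1 (hd2.trans he2.symm)
  rw [hmo, hmo]
  refine proportional hp hpq hcop hm hnt hc hi hir _ _ _ ((0 : k) : k) ?_ ?_ ?_ (hd1.trans he1.symm) ⟨j, by linear_combination hj⟩
  · rw [← map_pow]; exact hgen _ (by simp)
  · rw [← map_pow, ← map_pow, ← map_pow, ← map_mul, eq_comm, ← sub_eq_zero,
      show algebraMap k (MvPolynomial (Fin 3) k ⧸ I) (0 : k) = Ideal.Quotient.mk I (C (0 : k)) from rfl, ← map_mul, ← map_sub]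
    exact hgen _ (by simp)
  · intro a b f hne hw hdvd
    obtain ⟨g, hg⟩ : ∃ g : Fin 3 →₀ ℕ, g = Finsupp.equivFunOnFinite.symm ![a, b, f] := ⟨_, rfl⟩
    have := hmo g
    rw [show g 0 = a by simp [hg], show g 1 = b by simp [hg], show g 2 = f by simp [hg]] at this
    rw [← this, Ideal.Quotient.eq_zero_iff_mem, ← hI]
    refine Ideal.mem_sup_right (Ideal.subset_span ⟨g, ?_, ?_, rfl⟩)
    · intro h0
      have := DFunLike.congr_fun h0 0
      have := DFunLike.congr_fun h0 1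
      have := DFunLike.congr_fun h0 2
      simp [hg] at *
      omega
    · refine (weight_wt3_eq_iff g 0 0).2 ⟨?_, ?_⟩
      · rw [show g 0 = a by simp [hg], show g 1 = b by simp [hg], show g 2 = f by simp [hg]]; exact hw
      · rw [ZMod.intCast_zmod_eq_zero_iff_dvd, show g 1 = b by simp [hg], show g 2 = f by simp [hg]]
        obtain ⟨w, hw'⟩ := hdvd
        exact ⟨-w, by linear_combination -hw'⟩


end Groth.Agent.S15730
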