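import Groth.Statements.S15732
import Groth.Agent.InvHilbLib.Decomp
-- import your own Groth.Agent.* helpers here

set_option autoImplicit false
universe u
open W4c2invhilbsl2

namespace Groth.Agent.S15732

open InvHilbLib W4c2invhilbsl2 MvPolynomial

/-- Let 0 < p < q be coprime integers and m ≥ 1 such that q − p does not divide m; put g = gcd(m, q−p),
b = (q−p)/g, α = ⌊mp/(q−p)⌋, β = the remainder of mp modulo q−p and t = (q−p−β)/g, so that 1 ≤ t <
b, and let b/t = c₁ − 1/(c₂ − 1/(⋯ − 1/c_r)) be the negative-regular (Hirzebruch–Jung) continued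
fraction expansion with every cᵢ ≥ 2; set P₀ = 0, P₁ = 1, Q₀ = −1, Q₁ = 0, Pᵢ = cᵢ₋₁Pᵢ₋₁ − Pᵢ₋₂, Qᵢ
= cᵢ₋₁Qᵢ₋₁ − Qᵢ₋₂ for 2 ≤ i ≤ r+1, and eᵢ = (α+1+m)Pᵢ − Qᵢ, lᵢ = (α+1)Pᵢ − Qᵢ, nᵢ = q·lᵢ − p·eᵢ,
which are non-negative integers for 0 ≤ i ≤ r+1. Grade the polynomial ring k[X₀,…,X₄] over a field k
by ℤ × ℤ/m, giving X₀ weight (1,0), X₁ and X₂ weight (−p,−1), and X₃ and X₄ weight (q,1). Then for
every 1 ≤ i ≤ r, modulo the principal ideal generated by the weight-zero element X₀^(q−p) − X₁X₄ +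
X₂X₃, every polynomial homogeneous of weight (nᵢ, 0) is congruent to a combination a₀·X₀^(nᵢ) + Σ
a_{e,l}·X₁^(eᵢ−e)X₂^e X₃^(lᵢ−l)X₄^l (sum over 0 ≤ e ≤ eᵢ, 0 ≤ l ≤ lᵢ) whose coefficients a₀, a_{e,l}
are homogeneous of weight zero. Equivalently, in the coordinate ring of the hypersurface the
weight-(nᵢ,0) piece is generated over the weight-zero subring (the invariant ring) by X₀^(nᵢ)
together with the products of a degree-eᵢ monomial in X₁, X₂ and a degree-lᵢ monomial in X₃, X₄.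
(The published statement is over the complex numbers; this row takes any field.) -/
theorem result (k : Type u) [Field k] (p q m : ℕ) (hp : 0 < p) (hpq : p < q) (hcop : Nat.Coprime p q) (hm : 0 < m) (hnt : ¬ (q - p ∣ m)) (c : List ℤ) (hc : W4c2invhilbsl2.IsHJDigits p q m c) (i : ℕ) (hi : 1 ≤ i) (hir : i ≤ c.length)
    (f : MvPolynomial (Fin 5) k) (hf : f ∈ MvPolynomial.weightedHomogeneousSubmodule k (W4c2invhilbsl2.wt5 p q m) (W4c2invhilbsl2.nN p q m c i, (0 : ZMod m))) :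
    ∃ (a₀ : MvPolynomial (Fin 5) k) (a : ℕ → ℕ → MvPolynomial (Fin 5) k),
      a₀ ∈ MvPolynomial.weightedHomogeneousSubmodule k (W4c2invhilbsl2.wt5 p q m) 0 ∧ (∀ e l : ℕ, a e l ∈ MvPolynomial.weightedHomogeneousSubmodule k (W4c2invhilbsl2.wt5 p q m) 0) ∧
      f - (a₀ * MvPolynomial.X (0 : Fin 5) ^ (W4c2invhilbsl2.nN p q m c i).toNat +
          ∑ e ∈ Finset.range ((W4c2invhilbsl2.eE p q m c i).toNat + 1), ∑ l ∈ Finset.range ((W4c2invhilbsl2.lL p q m c i).toNat + 1),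
            a e l * (MvPolynomial.X (1 : Fin 5) ^ ((W4c2invhilbsl2.eE p q m c i).toNat - e) * MvPolynomial.X (2 : Fin 5) ^ e *
              MvPolynomial.X (3 : Fin 5) ^ ((W4c2invhilbsl2.lL p q m c i).toNat - l) * MvPolynomial.X (4 : Fin 5) ^ l)) ∈
        Ideal.span {MvPolynomial.X (0 : Fin 5) ^ (q - p) - MvPolynomial.X 1 * MvPolynomial.X 4 + MvPolynomial.X 2 * MvPolynomial.X 3} := by
  classical
  obtain ⟨hgb, ht0, htb, -, hg, -⟩ := tT_facts hp hpq hcop hm hnt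
  obtain ⟨l1, -, e1, -⟩ := ll_mono hp hpq hcop hm hnt hc i hir
  have hn : 0 ≤ nN p q m c i := by
    rw [nN_eq hp hpq hcop hm hnt]; exact mul_nonneg hg.le (hjN_pos hc.1 (hval hc) ht0 htb i hir).le
  obtain ⟨n, hn'⟩ : ∃ n : ℕ, (nN p q m c i).toNat = n := ⟨_, rfl⟩
  obtain ⟨E, hE⟩ : ∃ n : ℕ, (eE p q m c i).toNat = n := ⟨_, rfl⟩
  obtain ⟨L, hL⟩ : ∃ n : ℕ, (lL p q m c i).toNat = n := ⟨_, rfl⟩
  have hnz : (n : ℤ) = -(p : ℤ) * E + q * L := by
    have : nN p q m c i = -(p : ℤ) * eE p q m c i + q * lL p q m c i := rfl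
    rw [← hn', ← hE, ← hL, Int.toNat_of_nonneg hn, Int.toNat_of_nonneg e1, Int.toNat_of_nonneg l1, this]
  have hel : ((E : ℤ) - L) = m * hjP c i := by
    rw [← hE, ← hL, Int.toNat_of_nonneg e1, Int.toNat_of_nonneg l1, eE_eq, lL_eq]; simp only [vecE, vecL]; ring
  have hel' : ((E : ZMod m) - L) = 0 := by
    have := congrArg (Int.cast : ℤ → ZMod m) hel
    push_cast at this
    rw [this, ZMod.natCast_self, zero_mul]
  rw [hn', hE, hL]
  obtain ⟨H, hH⟩ : ∃ H : MvPolynomial (Fin 5) k, X (0 : Fin 5) ^ (q - p) - X 1 * X 4 + X 2 * X 3 = H := ⟨_, rfl⟩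
  rw [hH]
  refine weighted_induction (P := fun f => ∃ (a₀ : MvPolynomial (Fin 5) k) (a : ℕ → ℕ → MvPolynomial (Fin 5) k),
    a₀ ∈ weightedHomogeneousSubmodule k (wt5 p q m) 0 ∧ (∀ e l, a e l ∈ weightedHomogeneousSubmodule k (wt5 p q m) 0) ∧
    f - (a₀ * X (0 : Fin 5) ^ n + ∑ e ∈ Finset.range (E + 1), ∑ l ∈ Finset.range (L + 1),
      a e l * (X (1 : Fin 5) ^ (E - e) * X (2 : Fin 5) ^ e * X (3 : Fin 5) ^ (L - l) * X (4 : Fin 5) ^ l)) ∈ Ideal.span {H})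
    ⟨0, fun _ _ => 0, zero_mem _, fun _ _ => zero_mem _, by simp⟩ ?_ (fun d a hd => ?_) hf
  · rintro f g ⟨a, b, ha, hb, h⟩ ⟨a', b', ha', hb', h'⟩
    refine ⟨a + a', fun e l => b e l + b' e l, add_mem ha ha', fun e l => add_mem (hb e l) (hb' e l), ?_⟩
    convert add_mem h h' using 1
    simp only [add_mul, Finset.sum_add_distrib]
    ring
  obtain ⟨h1, h2⟩ := (weight_wt5_eq_iff d _ _).1 hd
  have hdvd : (m : ℤ) ∣ ((d 3 + d 4 : ℕ) : ℤ) - ((d 1 + d 2 : ℕ) : ℤ) := by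
    obtain ⟨w, hw⟩ := (ZMod.intCast_zmod_eq_zero_iff_dvd _ m).1 h2
    exact ⟨w, by push_cast; linear_combination hw⟩
  push_cast at h2
  rw [monomial_eq5]
  rw [← Int.toNat_of_nonneg hn, hn'] at h1
  rcases cases_of_weight_n hp hpq hcop hm hnt hc i hi hir (d 0) (d 1 + d 2) (d 3 + d 4)
      (by rw [← Int.toNat_of_nonneg hn, hn']; push_cast; exact h1) hdvd with h | ⟨g1, g2⟩
  · rw [hn'] at h
    obtain ⟨u, hu⟩ := Nat.exists_eq_add_of_le' h
    refine ⟨C a * (X 0 ^ u * X 1 ^ d 1 * X 2 ^ d 2 * X 3 ^ d 3 * X 4 ^ d 4), fun _ _ => 0,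
      C_mul_mono5_mem a _ _ _ _ _ ?_ ?_, fun _ _ => zero_mem _, ?_⟩
    · rw [hu] at h1; push_cast at h1; simp only [Prod.fst_zero]; linear_combination h1
    · push_cast; simp only [Prod.snd_zero]; linear_combination h2
    · rw [hu, pow_add]
      convert Submodule.zero_mem (Ideal.span {H}) using 1
      simp only [zero_mul, Finset.sum_const_zero]; ring
  · rw [hE] at g1
    rw [hL] at g2
    obtain ⟨e', he'⟩ : ∃ e', min (d 2) E = e' := ⟨_, rfl⟩
    obtain ⟨l', hl'⟩ : ∃ l', min (d 4) L = l' := ⟨_, rfl⟩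
    obtain ⟨u1, hu1⟩ := Nat.exists_eq_add_of_le' (show E - e' ≤ d 1 by omega)
    obtain ⟨u2, hu2⟩ := Nat.exists_eq_add_of_le' (show e' ≤ d 2 by omega)
    obtain ⟨u3, hu3⟩ := Nat.exists_eq_add_of_le' (show L - l' ≤ d 3 by omega)
    obtain ⟨u4, hu4⟩ := Nat.exists_eq_add_of_le' (show l' ≤ d 4 by omega)
    have s1 : (d 1 : ℤ) + d 2 = u1 + u2 + E := by omega
    have s2 : (d 3 : ℤ) + d 4 = u3 + u4 + L := by omega
    obtain ⟨M, hM⟩ : ∃ M, C a * (X (0 : Fin 5) ^ d 0 * X 1 ^ u1 * X 2 ^ u2 * X 3 ^ u3 * X 4 ^ u4) = M := ⟨_, rfl⟩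
    refine ⟨0, fun e l => if e = e' ∧ l = l' then M else 0, zero_mem _, fun e l => ?_, ?_⟩
    · dsimp only
      split_ifs
      · rw [← hM]
        refine C_mul_mono5_mem a _ _ _ _ _ ?_ ?_
        · simp only [Prod.fst_zero]; linear_combination h1 + (p : ℤ) * s1 - (q : ℤ) * s2 + hnz
        · have s1' := congrArg (Int.cast : ℤ → ZMod m) s1
          have s2' := congrArg (Int.cast : ℤ → ZMod m) s2
          push_cast at s1' s2' ⊢
          simp only [Prod.snd_zero]; linear_combination h2 + s1' - s2' + hel'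
      · exact zero_mem _
    · convert Submodule.zero_mem (Ideal.span {H}) using 1
      rw [Finset.sum_eq_single e' (fun b _ hb => Finset.sum_eq_zero fun l _ => by simp [hb])
        (fun h => absurd (Finset.mem_range.2 (by omega)) h),
        Finset.sum_eq_single l' (fun b _ hb => by simp [hb]) (fun h => absurd (Finset.mem_range.2 (by omega)) h),
        ]
      dsimp only
      rw [if_pos ⟨rfl, rfl⟩, ← hM, hu1, hu2, hu3, hu4, pow_add, pow_add, pow_add, pow_add]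
      ring


end Groth.Agent.S15732
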