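import Groth.Statements.S15734
import Groth.Agent.InvHilbLib.Decomp
-- import your own Groth.Agent.* helpers here

set_option autoImplicit false
open W4c2invhilbsl2

namespace Groth.Agent.S15734

open InvHilbLib W4c2invhilbsl2 MvPolynomial

/-- Let 0 < p < q be coprime integers and m ≥ 1 such that q − p does not divide m; put g = gcd(m, q−p),
b = (q−p)/g, α = ⌊mp/(q−p)⌋, β = the remainder of mp modulo q−p and t = (q−p−β)/g, so that 1 ≤ t <
b, and let b/t = c₁ − 1/(c₂ − 1/(⋯ − 1/c_r)) be the negative-regular (Hirzebruch–Jung) continued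
fraction expansion with every cᵢ ≥ 2; set P₀ = 0, P₁ = 1, Q₀ = −1, Q₁ = 0, Pᵢ = cᵢ₋₁Pᵢ₋₁ − Pᵢ₋₂, Qᵢ
= cᵢ₋₁Qᵢ₋₁ − Qᵢ₋₂ for 2 ≤ i ≤ r+1, and eᵢ = (α+1+m)Pᵢ − Qᵢ, lᵢ = (α+1)Pᵢ − Qᵢ, nᵢ = q·lᵢ − p·eᵢ,
which are non-negative integers for 0 ≤ i ≤ r+1; moreover g divides every nᵢ, and write tᵢ = nᵢ/g
(so t₁ = t). Then (a) for every 1 ≤ i ≤ r the remainder of t·Pᵢ on division by b equals tᵢ, and (b)
for every 1 < i ≤ r and every integer x with 0 < x < Pᵢ the remainder ρ of t·x on division by b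
satisfies tᵢ₋₁ ≤ ρ ≤ b + tᵢ − tᵢ₋₁. -/
theorem result (p q m : ℕ) (hp : 0 < p) (hpq : p < q) (hcop : Nat.Coprime p q) (hm : 0 < m) (hnt : ¬ (q - p ∣ m)) (c : List ℤ) (hc : W4c2invhilbsl2.IsHJDigits p q m c) :
    (∀ i : ℕ, 1 ≤ i → i ≤ c.length →
      Int.emod ((W4c2invhilbsl2.tT p q m : ℤ) * W4c2invhilbsl2.hjP c i) (W4c2invhilbsl2.bB p q m : ℤ) = W4c2invhilbsl2.nN p q m c i / (W4c2invhilbsl2.gcdK p q m : ℤ)) ∧
    (∀ i : ℕ, 1 < i → i ≤ c.length → ∀ x : ℤ, 0 < x → x < W4c2invhilbsl2.hjP c i →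
      W4c2invhilbsl2.nN p q m c (i - 1) / (W4c2invhilbsl2.gcdK p q m : ℤ) ≤ Int.emod ((W4c2invhilbsl2.tT p q m : ℤ) * x) (W4c2invhilbsl2.bB p q m : ℤ) ∧
      Int.emod ((W4c2invhilbsl2.tT p q m : ℤ) * x) (W4c2invhilbsl2.bB p q m : ℤ) ≤
        (W4c2invhilbsl2.bB p q m : ℤ) + W4c2invhilbsl2.nN p q m c i / (W4c2invhilbsl2.gcdK p q m : ℤ) - W4c2invhilbsl2.nN p q m c (i - 1) / (W4c2invhilbsl2.gcdK p q m : ℤ)) := by
  obtain ⟨hgb, ht0, htb, hco, hg, hpm⟩ := tT_facts hp hpq hcop hm hnt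
  have hdiv : ∀ i, nN p q m c i / (gcdK p q m : ℤ) = hjN (bB p q m) (tT p q m) c i := fun i => by
    rw [nN_eq hp hpq hcop hm hnt, Int.mul_ediv_cancel_left _ hg.ne']
  refine ⟨fun i hi hir => ?_, fun i hi hir x hx0 hx => ?_⟩
  · rw [hdiv]
    have h1 : hjN (bB p q m) (tT p q m) c i < bB p q m := by
      have := hjN_succ_lt hc.1 (hval hc) ht0 htb (i - 1) (by omega)
      rw [Nat.sub_add_cancel hi] at this
      exact this.trans_le (hjN_le hc.1 (hval hc) ht0 htb (i - 1) (by omega))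
    show ((tT p q m : ℤ) * hjP c i) % (bB p q m : ℤ) = _
    rw [show (tT p q m : ℤ) * hjP c i = hjN (bB p q m) (tT p q m) c i + (bB p q m : ℤ) * hjQ c i by simp only [hjN]; ring,
      Int.add_mul_emod_self_left, Int.emod_eq_of_lt (hjN_nonneg hc.1 (hval hc) ht0 htb i (by omega)) h1]
  · rw [hdiv, hdiv]
    obtain ⟨j, rfl⟩ := Nat.exists_eq_add_of_le' hi.le
    rw [Nat.add_sub_cancel]
    have hb0 : (0 : ℤ) < bB p q m := by omega
    have hy := Int.mul_ediv_add_emod ((tT p q m : ℤ) * x) (bB p q m)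
    have hy0 := Int.emod_nonneg ((tT p q m : ℤ) * x) hb0.ne'
    have hy1 := Int.emod_lt_of_pos ((tT p q m : ℤ) * x) hb0
    show _ ≤ ((tT p q m : ℤ) * x) % (bB p q m : ℤ) ∧ ((tT p q m : ℤ) * x) % (bB p q m : ℤ) ≤ _
    generalize ((tT p q m : ℤ) * x) % (bB p q m : ℤ) = y at *
    generalize ((tT p q m : ℤ) * x) / (bB p q m : ℤ) = z at *
    have hle := le_of_lt_hjP hc.1 (hval hc) ht0 htb j (by omega) x y z (by linarith) hy0 hx0 hx
    have hlt := hjN_succ_lt hc.1 (hval hc) ht0 htb j (by omega)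
    have hnn := hjN_nonneg hc.1 (hval hc) ht0 htb (j + 1) (by omega)
    refine ⟨hle, ?_⟩
    have h2 := le_of_lt_hjP hc.1 (hval hc) ht0 htb j (by omega) (hjP c (j + 1) - x)
      ((bB p q m : ℤ) + hjN (bB p q m) (tT p q m) c (j + 1) - y) (hjQ c (j + 1) - 1 - z)
      (by simp only [hjN]; linear_combination -hy) (by omega) (by omega) (by omega)
    omega


end Groth.Agent.S15734
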