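import Groth.Statements.S15736
import Mathlib
-- import your own Groth.Agent.* helpers here

set_option autoImplicit false
open W4c2invhilbsl2

namespace Groth.Agent.S15736


/-- For a monomial X₀^d₀X₁^d₁X₂^d₂ of the polynomial ring in X₀, X₁, X₂ (X₂ standing for Xⱼ, j = 3 or 4,
of the five-variable ring) put n = d₀ − p·d₁ + q·d₂ (its weight for the torus diag(t, t^(−p), t^q)),
c = d₁ − d₂ and ω = p·d₁ − q·d₂, so that d₀ = n + ω; here 0 < p < q are coprime integers. Then among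
all monomials X₀^d₀'X₁^d₁'X₂^d₂' with the same pair (n, c) as a given one, the maximum of ω equals
q·c when c < 0 and p·c when c ≥ 0: every such monomial has ω at most this value, and some such
monomial attains it. -/
theorem result (p q : ℕ) (hp : 0 < p) (hpq : p < q) (hcop : Nat.Coprime p q) (d0 d1 d2 : ℕ) :
    (∀ e0 e1 e2 : ℕ, (e0 : ℤ) - (p : ℤ) * e1 + (q : ℤ) * e2 = (d0 : ℤ) - (p : ℤ) * d1 + (q : ℤ) * d2 → (e1 : ℤ) - e2 = (d1 : ℤ) - d2 →
      (p : ℤ) * e1 - (q : ℤ) * e2 ≤ (if (d1 : ℤ) - d2 < 0 then (q : ℤ) * ((d1 : ℤ) - d2) else (p : ℤ) * ((d1 : ℤ) - d2))) ∧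
    (∃ e0 e1 e2 : ℕ, (e0 : ℤ) - (p : ℤ) * e1 + (q : ℤ) * e2 = (d0 : ℤ) - (p : ℤ) * d1 + (q : ℤ) * d2 ∧ (e1 : ℤ) - e2 = (d1 : ℤ) - d2 ∧
      (p : ℤ) * e1 - (q : ℤ) * e2 = (if (d1 : ℤ) - d2 < 0 then (q : ℤ) * ((d1 : ℤ) - d2) else (p : ℤ) * ((d1 : ℤ) - d2))) := by
  have hd : (0 : ℤ) ≤ (q : ℤ) - p := by omega
  constructor
  · intro e0 e1 e2 h1 h2
    rw [← h2]
    split_ifs with h
    · nlinarith [Int.natCast_nonneg e1]
    · nlinarith [Int.natCast_nonneg e2]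
  · split_ifs with h
    · obtain ⟨j, hj⟩ : ∃ j : ℕ, (j : ℤ) = (d2 : ℤ) - d1 := ⟨((d2 : ℤ) - d1).toNat, by omega⟩
      refine ⟨d0 + (q - p) * d1, 0, j, ?_, by push_cast; omega, by push_cast; linear_combination (-(q : ℤ)) * hj⟩
      rw [Nat.cast_add, Nat.cast_mul, Nat.cast_sub hpq.le]
      push_cast; linear_combination (q : ℤ) * hj
    · obtain ⟨j, hj⟩ : ∃ j : ℕ, (j : ℤ) = (d1 : ℤ) - d2 := ⟨((d1 : ℤ) - d2).toNat, by omega⟩
      refine ⟨d0 + (q - p) * d2, j, 0, ?_, by push_cast; omega, by push_cast; linear_combination (p : ℤ) * hj⟩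
      rw [Nat.cast_add, Nat.cast_mul, Nat.cast_sub hpq.le]
      push_cast; linear_combination (-(p : ℤ)) * hj


end Groth.Agent.S15736
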