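import Groth.Statements.S15738
import Groth.Agent.InvHilbLib.Basic
-- import your own Groth.Agent.* helpers here

set_option autoImplicit false
universe u
open W4c2invhilbsl2

namespace Groth.Agent.S15738

open InvHilbLib W4c2invhilbsl2 MvPolynomial

/-- Let k be a field and m ≥ 1; for a monomial X₀^d₀X₁^d₁X₂^d₂ of the polynomial ring in X₀, X₁, X₂ (X₂
standing for Xⱼ, j = 3 or 4, of the five-variable ring) put n = d₀ − p·d₁ + q·d₂ (its weight for the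
torus diag(t, t^(−p), t^q)), c = d₁ − d₂ and ω = p·d₁ − q·d₂, so that d₀ = n + ω; here 0 < p < q are
coprime integers. Take two monomials X₀^d₀X₁^d₁X₂^d₂ and X₀^e₀X₁^e₁X₂^e₂ with the same n and with
values c, c' of c congruent modulo m (so both lie in the same ℤ × ℤ/m-weight piece for the weights
(1,0), (−p,−1), (q,1)). Then: (i) if c = c', the difference of the two monomials lies in the
principal ideal (X₀^(q−p) − X₁X₂); (ii) if c' < c, the monomial X₀^d₀X₁^d₁X₂^d₂ lies in the ideal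
(X₀^(q−p) − X₁X₂, X₀^(mp)X₁^m); (iii) in all cases the difference lies in the ideal (X₀^(q−p) −
X₁X₂, 1 − X₀^(mp)X₁^m). -/
theorem result (k : Type u) [Field k] (p q m : ℕ) (hp : 0 < p) (hpq : p < q) (hcop : Nat.Coprime p q) (hm : 0 < m)
    (d0 d1 d2 e0 e1 e2 : ℕ) (hn : (e0 : ℤ) - (p : ℤ) * e1 + (q : ℤ) * e2 = (d0 : ℤ) - (p : ℤ) * d1 + (q : ℤ) * d2)
    (hc : (m : ℤ) ∣ ((d1 : ℤ) - d2) - ((e1 : ℤ) - e2)) :
    ((d1 : ℤ) - d2 = (e1 : ℤ) - e2 →
      (MvPolynomial.X (0 : Fin 3) ^ d0 * MvPolynomial.X (1 : Fin 3) ^ d1 * MvPolynomial.X (2 : Fin 3) ^ d2 - MvPolynomial.X (0 : Fin 3) ^ e0 * MvPolynomial.X (1 : Fin 3) ^ e1 * MvPolynomial.X (2 : Fin 3) ^ e2 : MvPolynomial (Fin 3) k) ∈ Ideal.span {MvPolynomial.X (0 : Fin 3) ^ (q - p) - MvPolynomial.X (1 : Fin 3) * MvPolynomial.X (2 : Fin 3)}) ∧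
    ((e1 : ℤ) - e2 < (d1 : ℤ) - d2 →
      (MvPolynomial.X (0 : Fin 3) ^ d0 * MvPolynomial.X (1 : Fin 3) ^ d1 * MvPolynomial.X (2 : Fin 3) ^ d2 : MvPolynomial (Fin 3) k) ∈ Ideal.span {MvPolynomial.X (0 : Fin 3) ^ (q - p) - MvPolynomial.X (1 : Fin 3) * MvPolynomial.X (2 : Fin 3), MvPolynomial.X (0 : Fin 3) ^ (m * p) * MvPolynomial.X (1 : Fin 3) ^ m}) ∧
    ((MvPolynomial.X (0 : Fin 3) ^ d0 * MvPolynomial.X (1 : Fin 3) ^ d1 * MvPolynomial.X (2 : Fin 3) ^ d2 - MvPolynomial.X (0 : Fin 3) ^ e0 * MvPolynomial.X (1 : Fin 3) ^ e1 * MvPolynomial.X (2 : Fin 3) ^ e2 : MvPolynomial (Fin 3) k) ∈ Ideal.span {MvPolynomial.X (0 : Fin 3) ^ (q - p) - MvPolynomial.X (1 : Fin 3) * MvPolynomial.X (2 : Fin 3), 1 - MvPolynomial.X (0 : Fin 3) ^ (m * p) * MvPolynomial.X (1 : Fin 3) ^ m}) := by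
  classical
  obtain ⟨j, hj⟩ := hc
  have hmk : ∀ (I : Ideal (MvPolynomial (Fin 3) k)) (a b c : ℕ), Ideal.Quotient.mk I (X (0 : Fin 3) ^ a * X 1 ^ b * X 2 ^ c) =
      mo (Ideal.Quotient.mk I (X 0)) (Ideal.Quotient.mk I (X 1)) (Ideal.Quotient.mk I (X 2)) a b c := by
    intro I a b c; simp [mo]
  have hH : ∀ (I : Ideal (MvPolynomial (Fin 3) k)), X (0 : Fin 3) ^ (q - p) - X 1 * X 2 ∈ I →
      (Ideal.Quotient.mk I (X (0 : Fin 3))) ^ (q - p) = Ideal.Quotient.mk I (X 1) * Ideal.Quotient.mk I (X 2) := by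
    intro I h
    rw [← map_pow, ← map_mul]
    exact Ideal.Quotient.eq.2 h
  refine ⟨fun hcc => ?_, fun hlt => ?_, ?_⟩
  · rw [← Ideal.Quotient.eq, hmk, hmk]
    exact mo_eq_of_same _ _ _ hpq (hH (Ideal.span _) (Ideal.subset_span (Set.mem_singleton _))) hn.symm hcc
  · have hj0 : 0 < j := by nlinarith
    obtain ⟨j', rfl⟩ := Int.eq_ofNat_of_zero_le hj0.le
    rw [← Ideal.Quotient.eq_zero_iff_mem, hmk,
      mo_eq_pow_mul _ _ _ hpq (hH _ (Ideal.subset_span (Set.mem_insert _ _))) j' (m := m) hn.symm (by linear_combination hj)]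
    refine mul_eq_zero_of_left ?_ _
    obtain ⟨j'', rfl⟩ := Nat.exists_eq_succ_of_ne_zero (show j' ≠ 0 by omega)
    rw [pow_succ, ← map_pow, ← map_pow, ← map_mul]
    refine mul_eq_zero_of_right _ (Ideal.Quotient.eq_zero_iff_mem.2 (Ideal.subset_span ?_))
    simp
  · rw [← Ideal.Quotient.eq, hmk, hmk]
    obtain ⟨I, hI⟩ : ∃ I, Ideal.span {X (0 : Fin 3) ^ (q - p) - X 1 * X 2, (1 : MvPolynomial (Fin 3) k) - X 0 ^ (m * p) * X 1 ^ m} = I :=
      ⟨_, rfl⟩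
    rw [hI]
    have h1 := hH I (hI ▸ Ideal.subset_span (Set.mem_insert _ _))
    have hM : Ideal.Quotient.mk I (X (0 : Fin 3)) ^ (m * p) * Ideal.Quotient.mk I (X 1) ^ m = 1 := by
      rw [← map_pow, ← map_pow, ← map_mul, ← map_one (Ideal.Quotient.mk I), eq_comm]
      exact Ideal.Quotient.eq.2 (hI ▸ Ideal.subset_span (by simp))
    rcases le_or_gt 0 j with hj0 | hj0
    · obtain ⟨j', rfl⟩ := Int.eq_ofNat_of_zero_le hj0
      rw [mo_eq_pow_mul _ _ _ hpq h1 j' (m := m) hn.symm (by linear_combination hj), hM, one_pow, one_mul]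
    · obtain ⟨j', hj'⟩ := Int.eq_ofNat_of_zero_le (show 0 ≤ -j by omega)
      rw [mo_eq_pow_mul _ _ _ hpq h1 j' (m := m) hn (a := e0) (b := e1) (c := e2) (by linear_combination -hj + (m : ℤ) * hj'),
        hM, one_pow, one_mul]


end Groth.Agent.S15738
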