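import Groth.Statements.S15739
import Groth.Agent.InvHilbLib.Extra
-- import your own Groth.Agent.* helpers here

set_option autoImplicit false
universe u
open W4c2invhilbsl2

namespace Groth.Agent.S15739

open InvHilbLib W4c2invhilbsl2 MvPolynomial

/-- Let k be a field and m ≥ 1, put g = gcd(m, q−p), a = m/g and b = (q−p)/g; for a monomial
X₀^d₀X₁^d₁X₂^d₂ of the polynomial ring in X₀, X₁, X₂ (X₂ standing for Xⱼ, j = 3 or 4, of the
five-variable ring) put n = d₀ − p·d₁ + q·d₂ (its weight for the torus diag(t, t^(−p), t^q)), c = d₁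
− d₂ and ω = p·d₁ − q·d₂, so that d₀ = n + ω; here 0 < p < q are coprime integers. Take two
monomials X₀^d₀X₁^d₁X₂^d₂ and X₀^e₀X₁^e₁X₂^e₂ with the same n, where 0 ≤ n < q − p, whose values c
and c' of c are both divisible by m, and with d₀ < g and e₀ < g (so each has the least ω for its
pair (n, c), as g ≤ q − p). Then: (i) d₀ = e₀, i.e. the two values of ω agree, and m·b divides c −
c'; (ii) if c < c', then X₀^e₀X₁^e₁X₂^e₂ is a multiple of X₀^d₀X₁^d₁X₂^d₂ · X₁^(aq)X₂^(ap); (iii)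
the difference of the two monomials lies in the principal ideal (1 − X₁^(aq)X₂^(ap)). -/
theorem result (k : Type u) [Field k] (p q m : ℕ) (hp : 0 < p) (hpq : p < q) (hcop : Nat.Coprime p q) (hm : 0 < m)
    (d0 d1 d2 e0 e1 e2 : ℕ) (hn : (e0 : ℤ) - (p : ℤ) * e1 + (q : ℤ) * e2 = (d0 : ℤ) - (p : ℤ) * d1 + (q : ℤ) * d2)
    (hn0 : 0 ≤ (d0 : ℤ) - (p : ℤ) * d1 + (q : ℤ) * d2) (hnq : (d0 : ℤ) - (p : ℤ) * d1 + (q : ℤ) * d2 < (q : ℤ) - p)
    (hcd : (m : ℤ) ∣ (d1 : ℤ) - d2) (hce : (m : ℤ) ∣ (e1 : ℤ) - e2)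
    (hd0 : d0 < Nat.gcd m (q - p)) (he0 : e0 < Nat.gcd m (q - p)) :
    (d0 = e0 ∧ ((m : ℤ) * ((q - p) / Nat.gcd m (q - p) : ℕ)) ∣ ((d1 : ℤ) - d2) - ((e1 : ℤ) - e2)) ∧
    ((d1 : ℤ) - d2 < (e1 : ℤ) - e2 →
      (MvPolynomial.X (0 : Fin 3) ^ d0 * MvPolynomial.X (1 : Fin 3) ^ d1 * MvPolynomial.X (2 : Fin 3) ^ d2 * (MvPolynomial.X (1 : Fin 3) ^ (m / Nat.gcd m (q - p) * q) * MvPolynomial.X (2 : Fin 3) ^ (m / Nat.gcd m (q - p) * p)) : MvPolynomial (Fin 3) k) ∣ MvPolynomial.X (0 : Fin 3) ^ e0 * MvPolynomial.X (1 : Fin 3) ^ e1 * MvPolynomial.X (2 : Fin 3) ^ e2) ∧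
    ((MvPolynomial.X (0 : Fin 3) ^ e0 * MvPolynomial.X (1 : Fin 3) ^ e1 * MvPolynomial.X (2 : Fin 3) ^ e2 - MvPolynomial.X (0 : Fin 3) ^ d0 * MvPolynomial.X (1 : Fin 3) ^ d1 * MvPolynomial.X (2 : Fin 3) ^ d2 : MvPolynomial (Fin 3) k) ∈
      Ideal.span {(1 : MvPolynomial (Fin 3) k) - MvPolynomial.X (1 : Fin 3) ^ (m / Nat.gcd m (q - p) * q) * MvPolynomial.X (2 : Fin 3) ^ (m / Nat.gcd m (q - p) * p)}) := by
  classical
  obtain ⟨h0, u, hu1, hu2⟩ := exists_shift_of_small hp hpq hcop hm hn.symm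
    (dvd_sub hcd hce) hd0 he0
  subst h0
  obtain ⟨a, b, hab, ha, hb⟩ := Nat.exists_coprime m (q - p)
  have hgpos : 0 < Nat.gcd m (q - p) := Nat.gcd_pos_of_pos_left _ hm
  generalize hg : Nat.gcd m (q - p) = g at *
  have hqd : (q : ℤ) - p = (b : ℤ) * g := by
    have : ((q - p : ℕ) : ℤ) = (b : ℤ) * g := by exact_mod_cast hb
    rw [Nat.cast_sub hpq.le] at this
    exact this
  have hma : m / g = a := Nat.div_eq_of_eq_mul_left hgpos ha
  have hbq : (q - p) / g = b := Nat.div_eq_of_eq_mul_left hgpos hb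
  rw [hma] at hu1 hu2 ⊢
  rw [hbq]
  push_cast at hu1 hu2
  refine ⟨⟨rfl, ⟨u, ?_⟩⟩, fun hlt => ?_, ?_⟩
  · rw [show (m : ℤ) = (a : ℤ) * g by exact_mod_cast ha]
    linear_combination hu1 - hu2 + ((a : ℤ) * u) * hqd
  · have hu0 : u < 0 := by
      by_contra h
      have h1 : 0 ≤ (a : ℤ) * ((q : ℤ) - p) * u := by
        have : (0 : ℤ) ≤ (q : ℤ) - p := by omega
        exact mul_nonneg (mul_nonneg (Int.natCast_nonneg a) this) (not_lt.1 h)
      nlinarith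
    obtain ⟨v, hv⟩ : ∃ v : ℕ, -u = v + 1 := ⟨(-u - 1).toNat, by omega⟩
    have he1 : e1 = d1 + a * q + a * q * v := by zify; linear_combination -hu1 + ((a : ℤ) * q) * hv
    have he2 : e2 = d2 + a * p + a * p * v := by zify; linear_combination -hu2 + ((a : ℤ) * p) * hv
    rw [he1, he2]
    exact ⟨X 1 ^ (a * q * v) * X 2 ^ (a * p * v), by simp only [pow_add]; ring⟩
  · rw [← Ideal.Quotient.eq]
    have hT : Ideal.Quotient.mk (Ideal.span {(1 : MvPolynomial (Fin 3) k) - X 1 ^ (a * q) * X 2 ^ (a * p)})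
        (X 1 ^ (a * q) * X 2 ^ (a * p)) = 1 := by
      rw [← map_one (Ideal.Quotient.mk _), eq_comm]
      exact Ideal.Quotient.eq.2 (Ideal.subset_span rfl)
    rcases le_or_gt 0 u with hu | hu
    · obtain ⟨v, rfl⟩ := Int.eq_ofNat_of_zero_le hu
      rw [show d1 = e1 + a * q * v by zify; linear_combination hu1, show d2 = e2 + a * p * v by zify; linear_combination hu2]
      conv_rhs => rw [pow_add, pow_add, show X (0 : Fin 3) ^ d0 * (X 1 ^ e1 * X 1 ^ (a * q * v)) * (X 2 ^ e2 * X 2 ^ (a * p * v)) =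
        X (0 : Fin 3) ^ d0 * X 1 ^ e1 * X 2 ^ e2 * ((X 1 ^ (a * q) * X 2 ^ (a * p)) ^ v : MvPolynomial (Fin 3) k) by ring,
        map_mul, map_pow _ _ v, hT, one_pow, mul_one]
    · obtain ⟨v, hv⟩ := Int.eq_ofNat_of_zero_le (show 0 ≤ -u by omega)
      rw [show e1 = d1 + a * q * v by zify; linear_combination -hu1 + ((a : ℤ) * q) * hv,
        show e2 = d2 + a * p * v by zify; linear_combination -hu2 + ((a : ℤ) * p) * hv]
      conv_lhs => rw [pow_add, pow_add, show X (0 : Fin 3) ^ d0 * (X 1 ^ d1 * X 1 ^ (a * q * v)) * (X 2 ^ d2 * X 2 ^ (a * p * v)) =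
        X (0 : Fin 3) ^ d0 * X 1 ^ d1 * X 2 ^ d2 * ((X 1 ^ (a * q) * X 2 ^ (a * p)) ^ v : MvPolynomial (Fin 3) k) by ring,
        map_mul, map_pow _ _ v, hT, one_pow, mul_one]


end Groth.Agent.S15739
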