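import Groth.Statements.S1574
import Mathlib.AlgebraicGeometry.Stalk
import Mathlib.RingTheory.Ideal.KrullsHeightTheorem
import Groth.Agent.S1573


-- import your own Groth.Agent.* helpers here

set_option autoImplicit false
universe u
open CategoryTheory CategoryTheory.Limits AlgebraicGeometry
open Divisors

namespace Groth.Agent.S1574

/-- For a Noetherian local ring A, the punctured spectrum (Spec A minus the closed point, as an open
subscheme) is affine if and only if dim A ≤ 1. -/
theorem result (A : Type u) [CommRing A] [IsLocalRing A] [IsNoetherianRing A] :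
    IsAffine (FEt.puncturedSpec A : Scheme.{u}) ↔ ringKrullDim A ≤ 1 := by
  have hle : ringKrullDim A ≤ 1 ↔ (IsLocalRing.maximalIdeal A).height ≤ 1 := by
    rw [← IsLocalRing.maximalIdeal_height_eq_ringKrullDim]
    exact WithBot.coe_le_coe
  constructor
  · intro h
    have hcl : IsLocalRing.closedPoint A ∉ (FEt.puncturedSpec A : (Spec (CommRingCat.of A)).Opens) :=
      fun h => h rfl
    haveI : IsNoetherianRing (CommRingCat.of A) := inferInstanceAs (IsNoetherianRing A)
    have := (Groth.Agent.S1573.result (Spec (CommRingCat.of A)) (FEt.puncturedSpec A) (IsLocalRing.closedPoint A) hcl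
      (fun y hy _ => not_not.1 hy)).1
    rwa [ringKrullDim_eq_of_ringEquiv (stalkClosedPointIso (CommRingCat.of A)).commRingCatIsoToRingEquiv] at this
  · intro h
    rw [hle] at h
    have hmin : ∀ p : PrimeSpectrum A, p ≠ IsLocalRing.closedPoint A → p.asIdeal ∈ minimalPrimes A := by
      intro p hp
      have hlt : p.asIdeal < IsLocalRing.maximalIdeal A :=
        (IsLocalRing.le_maximalIdeal p.isPrime.ne_top).lt_of_ne fun e => hp (PrimeSpectrum.ext e)
      have := (Ideal.height_strict_mono_of_isPrime_of_isPrime hlt).trans_le h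
      rwa [Order.lt_one_iff, Ideal.height_eq_zero_iff] at this
    let S : Set (Ideal A) := minimalPrimes A \ {IsLocalRing.maximalIdeal A}
    have hS : S.Finite := (minimalPrimes.finite_of_isNoetherianRing A).subset Set.sdiff_subset
    obtain ⟨f, hf, hfS⟩ : ∃ f ∈ IsLocalRing.maximalIdeal A, ∀ q ∈ S, f ∉ q := by
      by_contra! hc
      have hsub : (IsLocalRing.maximalIdeal A : Set A) ⊆ ⋃ q ∈ S, (q : Set A) := fun f hf => by
        obtain ⟨q, hq, hfq⟩ := hc f hf
        exact Set.mem_biUnion hq hfq
      obtain ⟨q, hq, hle⟩ := ((IsLocalRing.maximalIdeal A).subset_union_prime_finite hS ⊥ ⊥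
        (f := id) (fun q hq _ _ => hq.1.1.1)).1 hsub
      exact hq.2 ((IsLocalRing.maximalIdeal.isMaximal A).eq_of_le hq.1.1.1.ne_top hle).symm
    have hU : (FEt.puncturedSpec A : (Spec (CommRingCat.of A)).Opens) = PrimeSpectrum.basicOpen f := by
      ext p
      refine ⟨fun hp => ?_, fun hp e => ?_⟩
      · exact hfS _ ⟨hmin p hp, fun e => hp (PrimeSpectrum.ext e)⟩
      · rw [Set.mem_singleton_iff] at e
        subst e
        exact hp hf
    rw [hU]
    exact IsAffineOpen.Spec_basicOpen (R := CommRingCat.of A) f

end Groth.Agent.S1574
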