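import Groth.Statements.S15740
import Mathlib
-- import your own Groth.Agent.* helpers here

set_option autoImplicit false
open W4c2invhilbsl2

namespace Groth.Agent.S15740


/-- For a monomial X₀^d₀X₁^d₁X₂^d₂ of the polynomial ring in X₀, X₁, X₂ (X₂ standing for Xⱼ, j = 3 or 4,
of the five-variable ring) put n = d₀ − p·d₁ + q·d₂ (its weight for the torus diag(t, t^(−p), t^q)),
c = d₁ − d₂ and ω = p·d₁ − q·d₂, so that d₀ = n + ω; here 0 < p < q are coprime integers. Suppose n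
≥ 0, c > 0 and d₀ < q − p (the last condition says that ω is the least value of ω for the pair (n,
c)). Then ω ≥ 0 if and only if the remainder of p·c on division by q − p, plus n, is less than q −
p. -/
theorem result (p q : ℕ) (hp : 0 < p) (hpq : p < q) (hcop : Nat.Coprime p q) (d0 d1 d2 : ℕ)
    (hn : 0 ≤ (d0 : ℤ) - (p : ℤ) * d1 + (q : ℤ) * d2) (hc : (d2 : ℤ) < d1) (hd0 : d0 < q - p) :
    0 ≤ (p : ℤ) * d1 - (q : ℤ) * d2 ↔
      Int.emod ((p : ℤ) * ((d1 : ℤ) - d2)) ((q : ℤ) - p) + ((d0 : ℤ) - (p : ℤ) * d1 + (q : ℤ) * d2) < (q : ℤ) - p := by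
  obtain ⟨n, hn'⟩ : ∃ n : ℤ, (d0 : ℤ) - p * d1 + q * d2 = n := ⟨_, rfl⟩
  rw [hn'] at hn ⊢
  have hd : (0 : ℤ) < (q : ℤ) - p := by omega
  have hd0' : (d0 : ℤ) < (q : ℤ) - p := by omega
  have hsplit := Int.mul_ediv_add_emod ((p : ℤ) * ((d1 : ℤ) - d2)) ((q : ℤ) - p)
  have h1 := Int.emod_nonneg ((p : ℤ) * ((d1 : ℤ) - d2)) hd.ne'
  have h2 := Int.emod_lt_of_pos ((p : ℤ) * ((d1 : ℤ) - d2)) hd
  show _ ↔ (p : ℤ) * ((d1 : ℤ) - d2) % ((q : ℤ) - p) + n < (q : ℤ) - p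
  generalize (p : ℤ) * ((d1 : ℤ) - d2) % ((q : ℤ) - p) = r at *
  generalize (p : ℤ) * ((d1 : ℤ) - d2) / ((q : ℤ) - p) = j at *
  have key : (d0 : ℤ) = n + r + ((q : ℤ) - p) * (j - d2) := by linear_combination hn' - hsplit
  constructor
  · intro hw
    rcases lt_trichotomy (j - d2) 0 with h | h | h
    · nlinarith
    · rw [h] at key; omega
    · nlinarith
  · intro hlt
    rcases lt_trichotomy (j - d2) 0 with h | h | h
    · nlinarith [Int.natCast_nonneg d0]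
    · rw [h] at key; nlinarith
    · nlinarith


end Groth.Agent.S15740
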