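import Groth.Statements.S15745
import Mathlib
import Groth.Agent.AmpleThLib.Ample
-- import your own Groth.Agent.* helpers here

set_option autoImplicit false
universe u
open QCohSup

namespace Groth.Agent.S15745

open AlgebraicGeometry in
open CategoryTheory in
/-- Let `X` be a scheme, `L` and `L'` invertible `O_X`-modules, `f` a global section of `L` and `g` a
global section of `L'`. Then the open `X_{f ⊗ g}` where `f ⊗ g` generates `L ⊗ L'` is the
intersection of the open `X_f` where `f` generates `L` and the open `X_g` where `g` generates `L'`.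
(The published statement is for a locally ringed space; this row is its case of a scheme.) -/
theorem result
    (X : Scheme.{u}) (L L' : X.Modules) (hL : PicF.IsInvertible L) (hL' : PicF.IsInvertible L')
    (f : Coh.structureModule X ⟶ L) (g : Coh.structureModule X ⟶ L') :
    CohB1.genLocus (CohB1.tensorMod L L') (SecTwist.tmulHom f g) =
      CohB1.genLocus L f ⊓ CohB1.genLocus L' g := by
  have hLL := AmpleThLib.shT_isInvertible hL hL'
  have hv : (SecTwist.tmulHom f g).app ⊤ (1 : Γ(X, ⊤)) =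
      AmpleLib.shT (f.app ⊤ (1 : Γ(X, ⊤))) (g.app ⊤ (1 : Γ(X, ⊤))) := SecTwist.val_tmulHom f g ⊤
  rw [AmpleThLib.genLocus_hom hLL, AmpleThLib.genLocus_hom hL, AmpleThLib.genLocus_hom hL', hv]
  ext y
  obtain ⟨U, e, hyU, he⟩ := TwistLib.exists_genOn hL y
  obtain ⟨U', e', hyU', he'⟩ := TwistLib.exists_genOn hL' y
  let V := U ⊓ U'
  have hy : y ∈ V := ⟨hyU, hyU'⟩
  obtain ⟨r, hr⟩ := (he V inf_le_left).2 (AmpleLib.res L le_top (f.app ⊤ (1 : Γ(X, ⊤))))
  obtain ⟨s, hs⟩ := (he' V inf_le_right).2 (AmpleLib.res L' le_top (g.app ⊤ (1 : Γ(X, ⊤))))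
  dsimp only at hr hs
  have hp : (r * s) • AmpleLib.shT (AmpleLib.res L inf_le_left e) (AmpleLib.res L' inf_le_right e') =
      AmpleLib.res _ (le_top : V ≤ ⊤) (AmpleLib.shT (f.app ⊤ (1 : Γ(X, ⊤))) (g.app ⊤ (1 : Γ(X, ⊤)))) := by
    rw [AmpleLib.shT_res, ← hr, ← hs, AmpleLib.shT_smul]
  change AmpleLib.GenAt _ _ _ ↔ AmpleLib.GenAt _ _ _ ∧ AmpleLib.GenAt _ _ _
  rw [← AmpleLib.genAt_res (le_top : V ≤ ⊤) (AmpleLib.shT (f.app ⊤ (1 : Γ(X, ⊤))) (g.app ⊤ (1 : Γ(X, ⊤)))) hy,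
    ← AmpleLib.genAt_res (le_top : V ≤ ⊤) (f.app ⊤ (1 : Γ(X, ⊤))) hy,
    ← AmpleLib.genAt_res (le_top : V ≤ ⊤) (g.app ⊤ (1 : Γ(X, ⊤))) hy, ← hp, ← hr, ← hs,
    AmpleLib.genAt_smul_iff _ _ hy (((he.res inf_le_left).genAt hy).tensor ((he'.res inf_le_right).genAt hy)),
    AmpleLib.genAt_smul_iff _ _ hy ((he.res inf_le_left).genAt hy),
    AmpleLib.genAt_smul_iff _ _ hy ((he'.res inf_le_right).genAt hy), Scheme.basicOpen_mul]
  rfl

end Groth.Agent.S15745
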