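import Groth.Statements.S15749
import Mathlib.RingTheory.Ideal.Operations
import Mathlib.RingTheory.Nilpotent.Lemmas
import Mathlib.RingTheory.Idempotents
import Mathlib.RingTheory.Noetherian.Nilpotent

set_option autoImplicit false
universe u
open CAlg

namespace Groth.Agent.S15749

/-- For an arbitrary commutative ring R, every idempotent of the ring of formal Laurent series R((t)) is
the constant series attached to a unique idempotent of R. Equivalently, the structure map R → R((t))
induces a bijection on idempotents, so that the spectrum of R((t)) is connected if and only if the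
spectrum of R is. No reducedness is assumed. -/
theorem result (R : Type u) [CommRing R]
    (e : LaurentSeries R) (he : IsIdempotentElem e) :
    ∃! r : R, IsIdempotentElem r ∧ HahnSeries.C r = e := by
  classical
  have hmul : ∀ (a b : LaurentSeries R) (J K : Ideal R) (i j : ℤ), (∀ n < i, a.coeff n ∈ J) →
      (∀ n < j, b.coeff n ∈ J) → (∀ n, a.coeff n ∈ K) → ∀ n < i + j, (a * b).coeff n ∈ J := by
    intro a b J K i j ha hb _ n hn
    rw [HahnSeries.coeff_mul]
    refine Ideal.sum_mem _ fun x hx => ?_
    rw [Finset.mem_addAntidiagonal] at hx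
    rcases lt_or_ge x.1 i with h | h
    · exact Ideal.mul_mem_right _ _ (ha _ h)
    · exact Ideal.mul_mem_left _ _ (hb _ (by have := hx.2.2; omega))
  have hmulJK : ∀ (a b : LaurentSeries R) (J K : Ideal R), (∀ n, a.coeff n ∈ J) →
      (∀ n, b.coeff n ∈ K) → ∀ n, (a * b).coeff n ∈ J * K := by
    intro a b J K ha hb n
    rw [HahnSeries.coeff_mul]
    exact Ideal.sum_mem _ fun x _ => Ideal.mul_mem_mul (ha _) (hb _)
  -- every series equal to its cube, with nilpotent negative and constant coefficients, vanishes
  have key : ∀ d : LaurentSeries R, d * (d * d) = d → (∀ n ≤ 0, IsNilpotent (d.coeff n)) → d = 0 := by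
    intro d hd hnil
    obtain ⟨N, hN⟩ : ∃ N : ℕ, ∀ n : ℤ, n < -(N : ℤ) → d.coeff n = 0 := by
      refine ⟨d.order.natAbs, fun n hn => HahnSeries.coeff_eq_zero_of_lt_order ?_⟩
      have := Int.natAbs_neg d.order
      omega
    let J : Ideal R := Ideal.span ((Finset.Icc (-(N : ℤ)) 0).image d.coeff : Set R)
    have hJfg : J.FG := Submodule.fg_span (Set.toFinite _)
    have hJnil : IsNilpotent J := by
      refine (Ideal.FG.isNilpotent_iff_le_nilradical hJfg).2 (Ideal.span_le.2 ?_)
      intro x hx
      rw [Finset.mem_coe, Finset.mem_image] at hx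
      obtain ⟨n, hn, rfl⟩ := hx
      exact hnil n (Finset.mem_Icc.1 hn).2
    have hneg : ∀ n < (1 : ℤ), d.coeff n ∈ J := fun n hn => by
      rcases lt_or_ge n (-(N : ℤ)) with h | h
      · rw [hN n h]; exact zero_mem _
      · exact Ideal.subset_span (Finset.mem_coe.2 (Finset.mem_image_of_mem _ (Finset.mem_Icc.2 ⟨h, by omega⟩)))
    have hlt : ∀ i : ℕ, ∀ n < (i : ℤ) + 1, d.coeff n ∈ J := by
      intro i
      induction i with
      | zero => simpa using hneg
      | succ i ih =>
        intro n hn
        rw [← hd]
        have h2 := hmul d d J ⊤ _ _ ih ih (fun _ => trivial)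
        exact hmul d (d * d) J ⊤ _ _ ih h2 (fun _ => trivial) n (by push_cast at hn; omega)
    have hall : ∀ n, d.coeff n ∈ J := fun n => hlt n.natAbs n (by omega)
    have hpow : ∀ k : ℕ, ∀ n, d.coeff n ∈ J ^ (k + 1) := by
      intro k
      induction k with
      | zero => simpa using hall
      | succ k ih =>
        intro n
        rw [← hd, pow_succ]
        exact hmulJK d (d * d) (J ^ (k + 1)) J ih
          (fun m => Ideal.mul_le_left (hmulJK d d J J hall hall m)) n
    obtain ⟨k, hk⟩ := hJnil
    ext n
    have h := hpow k n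
    rw [pow_succ, hk, zero_mul] at h
    simpa using h
  -- lift the constant coefficient to an idempotent of the base
  have hred : ∀ n : ℤ, n ≠ 0 → IsNilpotent (e.coeff n) := by
    intro n hn
    rw [nilpotent_iff_mem_prime]
    intro P hP
    let π := Ideal.Quotient.mk P
    let e' : LaurentSeries (R ⧸ P) := e.map π
    have he' : IsIdempotentElem e' := by
      show e' * e' = e'
      ext m
      rw [show e'.coeff m = π (e.coeff m) from rfl, show e.coeff m = (e * e).coeff m by rw [he.eq],
        HahnSeries.coeff_mul, HahnSeries.coeff_mul, map_sum]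
      refine Finset.sum_subset_zero_on_sdiff ?_ ?_ ?_
      · intro x hx
        rw [Finset.mem_addAntidiagonal] at hx ⊢
        refine ⟨fun h => hx.1 ?_, fun h => hx.2.1 ?_, hx.2.2⟩
        · show π (e.coeff x.1) = 0
          rw [h, map_zero]
        · show π (e.coeff x.2) = 0
          rw [h, map_zero]
      · intro x hx
        rw [Finset.mem_sdiff, Finset.mem_addAntidiagonal, Finset.mem_addAntidiagonal] at hx
        rw [map_mul]
        by_contra hne
        exact hx.2 ⟨left_ne_zero_of_mul hne, right_ne_zero_of_mul hne, hx.1.2.2⟩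
      · intro x _
        exact (map_mul π _ _).symm
    rcases IsIdempotentElem.iff_eq_zero_or_one.1 he' with h | h
    · have h1 : π (e.coeff n) = 0 := by
        show e'.coeff n = 0
        rw [h]; rfl
      exact Ideal.Quotient.eq_zero_iff_mem.1 h1
    · have h1 : π (e.coeff n) = 0 := by
        show e'.coeff n = 0
        rw [h, HahnSeries.coeff_one, if_neg hn]
      exact Ideal.Quotient.eq_zero_iff_mem.1 h1
  have hnil0 : IsNilpotent (e.coeff 0 * e.coeff 0 - e.coeff 0) := by
    nth_rw 3 [← he.eq]
    rw [HahnSeries.coeff_mul, ← mem_nilradical]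
    by_cases h0 : e.coeff 0 = 0
    · rw [h0, mul_zero, zero_sub, neg_mem_iff]
      refine Ideal.sum_mem _ fun x hx => ?_
      rcases eq_or_ne x.1 0 with h | h
      · rw [h, h0, zero_mul]; exact zero_mem _
      · exact Ideal.mul_mem_right _ _ (mem_nilradical.2 (hred _ h))
    · rw [← Finset.add_sum_erase _ _ (show ((0 : ℤ), (0 : ℤ)) ∈ _ from
        Finset.mem_addAntidiagonal.2 ⟨h0, h0, add_zero _⟩), sub_add_cancel_left, neg_mem_iff]
      refine Ideal.sum_mem _ fun x hx => ?_
      obtain ⟨hne, hx⟩ := Finset.mem_erase.1 hx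
      have := (Finset.mem_addAntidiagonal.1 hx).2.2
      refine Ideal.mul_mem_right _ _ (mem_nilradical.2 (hred _ fun h => hne ?_))
      ext <;> simp only <;> omega
  obtain ⟨r, hr, hre⟩ := exists_isIdempotentElem_eq_of_ker_isNilpotent
    (Ideal.Quotient.mk (nilradical R)) (fun x hx => mem_nilradical.1 (Ideal.Quotient.eq_zero_iff_mem.1 hx))
    (Ideal.Quotient.mk _ (e.coeff 0)) ⟨_, rfl⟩ (by
      show _ * _ = _
      rw [← map_mul, Ideal.Quotient.eq, mem_nilradical]
      exact hnil0)
  have hC : IsIdempotentElem (HahnSeries.C r : LaurentSeries R) := hr.map _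
  have hd : e - HahnSeries.C r = 0 := by
    refine key _ ?_ fun n _ => ?_
    · have h1 := he.eq
      have h2 := hC.eq
      linear_combination (e + 1 - 3 * HahnSeries.C r) * h1 + (3 * e - HahnSeries.C r - 1) * h2
    · rcases eq_or_ne n 0 with rfl | hn
      · rw [HahnSeries.coeff_sub, HahnSeries.C_apply, HahnSeries.coeff_single_same, ← mem_nilradical,
          ← Ideal.Quotient.eq_zero_iff_mem, map_sub, hre, sub_self]
      · rw [HahnSeries.coeff_sub, HahnSeries.C_apply, HahnSeries.coeff_single_of_ne hn, sub_zero]
        exact hred n hn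
  rw [sub_eq_zero] at hd
  refine ⟨r, ⟨hr, hd.symm⟩, fun s hs => HahnSeries.C_injective (hs.2.trans hd)⟩

end Groth.Agent.S15749
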