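import Groth.Statements.S15750
import Mathlib.RingTheory.LaurentSeries
import Mathlib.RingTheory.PowerSeries.Order
import Mathlib.RingTheory.PowerSeries.Inverse
import Mathlib.RingTheory.Nilpotent.Lemmas
import Mathlib.RingTheory.Ideal.Quotient.Operations
-- import your own Groth.Agent.* helpers here

set_option autoImplicit false
universe u
open CAlg

namespace Groth.Agent.S15750

/-- Let R be a nonzero reduced commutative ring with no idempotents other than 0 and 1. Then every unit
of the Laurent series ring R((t)) is t^n · u for a unique integer n and a unique unit u of the power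
series ring R[[t]]. (The published statement is for an arbitrary torus T over a reduced ring R, with
n replaced by a locally constant integer-valued function on Spec R, i.e. a point of the cocharacter
lattice; this row is the case where T is the multiplicative group and Spec R is connected, to which
the published proof reduces.) -/
theorem result (R : Type u) [CommRing R]
    [IsReduced R] [Nontrivial R] (hconn : ∀ e : R, IsIdempotentElem e → e = 0 ∨ e = 1)
    (f : (LaurentSeries R)ˣ) :
    ∃! p : ℤ × (PowerSeries R)ˣ,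
      (f : LaurentSeries R) = HahnSeries.single p.1 (1 : R) * HahnSeries.ofPowerSeries ℤ R (p.2 : PowerSeries R) := by
  classical
  obtain ⟨a, F, hF⟩ : ∃ a : ℤ, ∃ F : PowerSeries R, (f : LaurentSeries R) = HahnSeries.single a 1 * HahnSeries.ofPowerSeries ℤ R F :=
    ⟨_, _, (LaurentSeries.single_order_mul_powerSeriesPart _).symm⟩
  obtain ⟨b, G, hG⟩ : ∃ b : ℤ, ∃ G : PowerSeries R, ((f⁻¹ : (LaurentSeries R)ˣ) : LaurentSeries R) = HahnSeries.single b 1 * HahnSeries.ofPowerSeries ℤ R G :=
    ⟨_, _, (LaurentSeries.single_order_mul_powerSeriesPart _).symm⟩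
  have h1 : HahnSeries.single (a + b) (1 : R) * HahnSeries.ofPowerSeries ℤ R (F * G) = 1 := by
    have h := f.mul_inv
    rw [hF, hG] at h
    rw [map_mul, ← h, show a + b = a + b from rfl, ← one_mul (1 : R), ← HahnSeries.single_mul_single, one_mul]
    ring
  have h2 : HahnSeries.ofPowerSeries ℤ R (F * G) = HahnSeries.single (-(a + b)) 1 := by
    calc HahnSeries.ofPowerSeries ℤ R (F * G)
        = HahnSeries.single (-(a + b)) (1 : R) * (HahnSeries.single (a + b) (1 : R) * HahnSeries.ofPowerSeries ℤ R (F * G)) := by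
          rw [← mul_assoc, HahnSeries.single_mul_single, neg_add_cancel, one_mul, HahnSeries.single_zero_one, one_mul]
      _ = _ := by rw [h1, mul_one]
  obtain ⟨N, hN⟩ : ∃ N : ℕ, -(a + b) = N := by
    refine ⟨(-(a + b)).toNat, (Int.toNat_of_nonneg ?_).symm⟩
    by_contra hneg
    have := congrArg (fun x : LaurentSeries R => x.coeff (-(a + b))) h2
    simp only [HahnSeries.coeff_single_same] at this
    rw [PowerSeries.coeff_coe, if_pos (not_le.mp hneg)] at this
    exact zero_ne_one this
  have hFG : F * G = PowerSeries.X ^ N := by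
    apply HahnSeries.ofPowerSeries_injective (Γ := ℤ)
    rw [h2, hN, HahnSeries.ofPowerSeries_X_pow]
  let e : ℕ → R := fun n => PowerSeries.coeff n F * PowerSeries.coeff (N - n) G
  -- at each prime there is exactly one leading degree
  have loc : ∀ P : Ideal R, P.IsPrime → ∃ n, n ≤ N ∧ (∀ i < n, PowerSeries.coeff i F ∈ P) ∧ PowerSeries.coeff n F ∉ P ∧
      e n - 1 ∈ P ∧ ∀ i, i ≠ n → i ≤ N → e i ∈ P := by
    intro P hP
    haveI := hP
    let q := Ideal.Quotient.mk P
    have h := congrArg (PowerSeries.map q) hFG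
    rw [map_mul, map_pow, PowerSeries.map_X] at h
    have hne : PowerSeries.map q F ≠ 0 := fun e0 => by rw [e0, zero_mul] at h; exact pow_ne_zero N PowerSeries.X_ne_zero h.symm
    have hne' : PowerSeries.map q G ≠ 0 := fun e0 => by rw [e0, mul_zero] at h; exact pow_ne_zero N PowerSeries.X_ne_zero h.symm
    obtain ⟨n, hn⟩ := ENat.ne_top_iff_exists.mp (fun e0 => hne (PowerSeries.order_eq_top.mp e0) : (PowerSeries.map q F).order ≠ ⊤)
    obtain ⟨l, hl⟩ := ENat.ne_top_iff_exists.mp (fun e0 => hne' (PowerSeries.order_eq_top.mp e0) : (PowerSeries.map q G).order ≠ ⊤)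
    have hnl : n + l = N := by
      have := congrArg PowerSeries.order h
      rw [PowerSeries.order_mul, PowerSeries.order_X_pow, ← hn, ← hl] at this
      exact_mod_cast this
    have hlt : ∀ i < n, PowerSeries.coeff i F ∈ P := fun i hi => by
      have := PowerSeries.coeff_of_lt_order (φ := PowerSeries.map q F) i (by rw [← hn]; exact_mod_cast hi)
      rwa [PowerSeries.coeff_map, Ideal.Quotient.eq_zero_iff_mem] at this
    have hltG : ∀ i < l, PowerSeries.coeff i G ∈ P := fun i hi => by
      have := PowerSeries.coeff_of_lt_order (φ := PowerSeries.map q G) i (by rw [← hl]; exact_mod_cast hi)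
      rwa [PowerSeries.coeff_map, Ideal.Quotient.eq_zero_iff_mem] at this
    have hoff : ∀ i, i ≠ n → i ≤ N → e i ∈ P := fun i hi hiN => by
      rcases Nat.lt_or_gt_of_ne hi with hi' | hi'
      · exact P.mul_mem_right _ (hlt i hi')
      · exact P.mul_mem_left _ (hltG _ (by omega))
    have hone : e n - 1 ∈ P := by
      have hc := congrArg (PowerSeries.coeff N) hFG
      rw [PowerSeries.coeff_mul, PowerSeries.coeff_X_pow_self] at hc
      rw [← hc, ← Finset.add_sum_erase _ _ (show (n, N - n) ∈ Finset.HasAntidiagonal.antidiagonal N by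
        rw [Finset.HasAntidiagonal.mem_antidiagonal]; omega)]
      rw [show e n - (PowerSeries.coeff n F * PowerSeries.coeff (N - n) G + ∑ p ∈ (Finset.HasAntidiagonal.antidiagonal N).erase (n, N - n), PowerSeries.coeff p.1 F * PowerSeries.coeff p.2 G) = - ∑ p ∈ (Finset.HasAntidiagonal.antidiagonal N).erase (n, N - n), PowerSeries.coeff p.1 F * PowerSeries.coeff p.2 G by simp [e]]
      refine P.neg_mem (P.sum_mem fun p hp => ?_)
      obtain ⟨hp1, hp2⟩ := Finset.mem_erase.mp hp
      rw [Finset.HasAntidiagonal.mem_antidiagonal] at hp2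
      have := hoff p.1 (fun e0 => hp1 (Prod.ext e0 (by omega))) (by omega)
      rwa [show e p.1 = PowerSeries.coeff p.1 F * PowerSeries.coeff p.2 G by simp [e, show N - p.1 = p.2 by omega]] at this
    refine ⟨n, by omega, hlt, fun hc => hP.ne_top ((Ideal.eq_top_iff_one P).mpr ?_), hone, hoff⟩
    simpa [e] using P.sub_mem (P.mul_mem_right (PowerSeries.coeff (N - n) G) hc) hone
  obtain ⟨P0, hP0⟩ := Ideal.exists_maximal R
  obtain ⟨n0, hn0N, -, -, he0, -⟩ := loc P0 hP0.isPrime
  have mem_all : ∀ x : R, (∀ P : Ideal R, P.IsPrime → x ∈ P) → x = 0 := fun x hx => by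
    have : x ∈ nilradical R := by rw [nilradical_eq_sInf]; exact Ideal.mem_sInf.mpr fun {P} hP => hx P hP
    rwa [nilradical_eq_zero, Ideal.zero_eq_bot, Ideal.mem_bot] at this
  have hidem : IsIdempotentElem (e n0) := sub_eq_zero.mp (mem_all _ fun P hP => by
    obtain ⟨n, -, -, -, hone, hoff⟩ := loc P hP
    rw [show e n0 * e n0 - e n0 = e n0 * (e n0 - 1) by ring]
    by_cases hn : n0 = n
    · exact P.mul_mem_left _ (hn ▸ hone)
    · exact P.mul_mem_right _ (hoff n0 hn hn0N))
  have he1 : e n0 = 1 := (hconn _ hidem).resolve_left fun h0 => hP0.ne_top ((Ideal.eq_top_iff_one P0).mpr (by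
    simpa [h0] using he0))
  have hloc : ∀ P : Ideal R, P.IsPrime → ∀ i < n0, PowerSeries.coeff i F ∈ P := fun P hP i hi => by
    obtain ⟨n, -, hlt, -, -, hoff⟩ := loc P hP
    have hn : n0 = n := by_contra fun hne => hP.ne_top ((Ideal.eq_top_iff_one P).mpr (he1 ▸ hoff n0 hne hn0N))
    exact hlt i (hn ▸ hi)
  obtain ⟨u, hu⟩ : PowerSeries.X ^ n0 ∣ F :=
    PowerSeries.X_pow_dvd_iff.mpr fun i hi => mem_all _ fun P hP => hloc P hP i hi
  have huu : IsUnit u := by
    rw [PowerSeries.isUnit_iff_constantCoeff]
    refine IsUnit.of_mul_eq_one (PowerSeries.coeff (N - n0) G) ?_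
    rw [← PowerSeries.coeff_zero_eq_constantCoeff_apply, ← PowerSeries.coeff_X_pow_mul u n0 0, zero_add, ← hu]
    exact he1
  refine ⟨(a + n0, huu.unit), ?_, ?_⟩
  · show (f : LaurentSeries R) = _
    rw [hF, hu, map_mul, HahnSeries.ofPowerSeries_X_pow, IsUnit.unit_spec, ← mul_assoc, HahnSeries.single_mul_single, one_mul]
  · rintro ⟨c, v⟩ hcv
    have key : ∀ (c d : ℤ) (v w : PowerSeries R), IsUnit v → c < d →
        HahnSeries.single c (1 : R) * HahnSeries.ofPowerSeries ℤ R v ≠
          HahnSeries.single d (1 : R) * HahnSeries.ofPowerSeries ℤ R w := by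
      intro c d v w hv hcd h
      have := congrArg (fun x : LaurentSeries R => x.coeff c) h
      simp only [HahnSeries.coeff_single_mul, one_mul, sub_self] at this
      rw [PowerSeries.coeff_coe, PowerSeries.coeff_coe, if_neg (by omega), if_pos (by omega)] at this
      simp only [Int.natAbs_zero, PowerSeries.coeff_zero_eq_constantCoeff] at this
      exact (PowerSeries.isUnit_iff_constantCoeff.mp hv).ne_zero this
    have h' : HahnSeries.single c (1 : R) * HahnSeries.ofPowerSeries ℤ R (v : PowerSeries R) =
        HahnSeries.single (a + n0) (1 : R) * HahnSeries.ofPowerSeries ℤ R u := by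
      change (f : LaurentSeries R) = HahnSeries.single c (1 : R) * HahnSeries.ofPowerSeries ℤ R (v : PowerSeries R) at hcv
      rw [← hcv, hF, hu, map_mul, HahnSeries.ofPowerSeries_X_pow, ← mul_assoc, HahnSeries.single_mul_single, one_mul]
    rcases lt_trichotomy c (a + n0) with hc | hc | hc
    · exact absurd h' (key _ _ _ _ v.isUnit hc)
    · subst hc
      refine Prod.ext rfl (Units.ext (HahnSeries.ofPowerSeries_injective (Γ := ℤ) ?_))
      rw [IsUnit.unit_spec]
      have := congrArg (HahnSeries.single (-(a + (n0 : ℤ))) (1 : R) * ·) h'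
      simpa [← mul_assoc, HahnSeries.single_mul_single] using this
    · exact absurd h'.symm (key _ _ _ _ huu hc)

end Groth.Agent.S15750
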