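import Groth.Statements.S15752
import Groth.Agent.HensWeierLib.Main

set_option autoImplicit false
universe u
open Polynomial
open CAlg HensWeierLib

namespace Groth.Agent.S15752

/-- Let R be a Henselian local ring with maximal ideal m and let B be a henselization of R[t] along (t).
Every f ∈ B outside mB factors as f = P · u for a unique pair (P, u) with P ∈ R[t] monic whose
non-leading coefficients lie in m and u a unit of B; moreover the natural map R[t]/(P) → B/(f) is
bijective, stated as: every element of B is congruent to (the image of) a polynomial modulo f, and a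
polynomial whose image lies in fB lies in P·R[t]. -/
theorem result (R : Type u) [CommRing R]
    [HenselianLocalRing R] (B : Type u) [CommRing B] [Algebra R B] [Algebra R[X] B]
    [IsScalarTower R R[X] B] (hB : Hens2.IsPairHenselization R[X] (Ideal.span {(X : R[X])}) B)
    (f : B) (hf : f ∉ (IsLocalRing.maximalIdeal R).map (algebraMap R B)) :
    (∃! Pu : R[X] × Bˣ, Pu.1.Monic ∧ (∀ i : ℕ, i < Pu.1.natDegree → Pu.1.coeff i ∈ IsLocalRing.maximalIdeal R) ∧
        f = algebraMap R[X] B Pu.1 * (Pu.2 : B)) ∧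
    (∀ (P : R[X]) (u : Bˣ), P.Monic → (∀ i : ℕ, i < P.natDegree → P.coeff i ∈ IsLocalRing.maximalIdeal R) →
        f = algebraMap R[X] B P * (u : B) →
      (∀ b : B, ∃ q : R[X], algebraMap R[X] B q - b ∈ Ideal.span {f}) ∧
      (∀ q : R[X], algebraMap R[X] B q ∈ Ideal.span {f} → q ∈ Ideal.span {P})) := by
  obtain ⟨P₀, u₀, hP₀, hf₀⟩ := exists_prep hB hf
  have hspan : ∀ (P : R[X]) (u : Bˣ), f = algebraMap R[X] B P * (u : B) →
      Ideal.span {f} = Ideal.span {algebraMap R[X] B P} := fun P u h => by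
    rw [h, Ideal.span_singleton_mul_right_unit u.isUnit]
  refine ⟨⟨(P₀, u₀), ⟨hP₀.1, hP₀.2, hf₀⟩, ?_⟩, fun P u hm hc hfu => ⟨fun b => ?_, fun q hq => ?_⟩⟩
  · rintro ⟨P, u⟩ ⟨hm, hc, hfu⟩
    have h1 : algebraMap R[X] B P ∈ Ideal.span {algebraMap R[X] B P₀} := by
      rw [← hspan P₀ u₀ hf₀, hspan P u hfu]; exact Ideal.mem_span_singleton_self _
    have h2 : algebraMap R[X] B P₀ ∈ Ideal.span {algebraMap R[X] B P} := by
      rw [← hspan P u hfu, hspan P₀ u₀ hf₀]; exact Ideal.mem_span_singleton_self _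
    have hd1 := Ideal.mem_span_singleton.1 (mem_span_of_algebraMap_mem hB ⟨hm, hc⟩ h2)
    have hd2 := Ideal.mem_span_singleton.1 (mem_span_of_algebraMap_mem hB hP₀ h1)
    have hPP : P = P₀ := (le_total P.natDegree P₀.natDegree).elim
      (fun h => Polynomial.eq_of_monic_of_dvd_of_natDegree_le hP₀.1 hm hd2 h)
      (fun h => (Polynomial.eq_of_monic_of_dvd_of_natDegree_le hm hP₀.1 hd1 h).symm)
    subst hPP
    exact Prod.ext rfl (Units.ext (dist_injective hB hm (hfu.symm.trans hf₀)))
  · rw [hspan P u hfu]; exact exists_poly_mod hB ⟨hm, hc⟩ b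
  · rw [hspan P u hfu] at hq; exact mem_span_of_algebraMap_mem hB ⟨hm, hc⟩ hq

end Groth.Agent.S15752
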