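import Groth.Statements.S15755
import Groth.Agent.ApproxLib.ColimFPAlg
import Groth.Agent.ApproxLib.Pair

set_option autoImplicit false
universe u
open CategoryTheory CategoryTheory.Limits
open CAlg

namespace Groth.Agent.S15755

/-- Let (A, I) be a Henselian pair with A Noetherian whose map to the I-adic completion Â is a regular
ring homomorphism, and let F be a set-valued functor on commutative A-algebras preserving filtered
colimits. Then F(A) → F(Â) is injective, and an element of F(A/I) is in the image of F(A) if and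
only if it is in the image of F(Â) under the canonical A-algebra map Â → A/I. -/
theorem result (A : Type u) [CommRing A]
    [IsNoetherianRing A] (I : Ideal A) [HenselianRing A I]
    (hreg : CAlg.IsRegularHom A (AdicCompletion I A))
    (F : CommAlgCat.{u} A ⥤ Type u) [PreservesFilteredColimitsOfSize.{u, u} F] :
    Function.Injective (F.map (CommAlgCat.ofHom (Algebra.ofId A (AdicCompletion I A)))) ∧
    ∀ xbar : F.obj (CommAlgCat.of A (A ⧸ I)),
      (∃ x : F.obj (CommAlgCat.of A A), F.map (CommAlgCat.ofHom (Ideal.Quotient.mkₐ A I)) x = xbar) ↔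
      (∃ y : F.obj (CommAlgCat.of A (AdicCompletion I A)),
        F.map (CommAlgCat.ofHom (AdicCompletion.evalOneₐ I)) y = xbar) := by
  refine ⟨fun x y hxy => ?_, fun xbar => ⟨?_, ?_⟩⟩
  · obtain ⟨D, _, _, _, d, g, -, he⟩ := ApproxLib.exists_fp_eq_alg F (AdicCompletion I A) A (Algebra.ofId A _) x y hxy
    obtain ⟨h, -⟩ := ApproxLib.exists_approx I hreg g 0
    have hid : CommAlgCat.ofHom d ≫ CommAlgCat.ofHom h = 𝟙 (CommAlgCat.of A A) := by
      rw [← CommAlgCat.ofHom_comp]
      exact congrArg CommAlgCat.ofHom (Subsingleton.elim (h.comp d) (AlgHom.id A A))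
    have key : ∀ z, F.map (CommAlgCat.ofHom h) (F.map (CommAlgCat.ofHom d) z) = z := fun z => by
      rw [← FunctorToTypes.map_comp_apply, hid, FunctorToTypes.map_id_apply]
    rw [← key x, he, key y]
  · rintro ⟨x, rfl⟩
    refine ⟨F.map (CommAlgCat.ofHom (Algebra.ofId A (AdicCompletion I A))) x, ?_⟩
    rw [← FunctorToTypes.map_comp_apply, ← CommAlgCat.ofHom_comp]
    rw [Subsingleton.elim ((AdicCompletion.evalOneₐ I).comp (Algebra.ofId A (AdicCompletion I A)))
      (Ideal.Quotient.mkₐ A I)]
  · rintro ⟨y, rfl⟩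
    obtain ⟨D, _, _, _, g, x₀, rfl⟩ := ApproxLib.exists_fp_lift_alg F (AdicCompletion I A) y
    obtain ⟨h, hh⟩ := ApproxLib.exists_approx I hreg g 0
    refine ⟨F.map (CommAlgCat.ofHom h) x₀, ?_⟩
    rw [← FunctorToTypes.map_comp_apply, ← FunctorToTypes.map_comp_apply, ← CommAlgCat.ofHom_comp,
      ← CommAlgCat.ofHom_comp]
    refine congrArg (fun f => F.map (CommAlgCat.ofHom f) x₀) (AlgHom.ext fun b => ?_)
    exact congrArg (Ideal.Quotient.factorₐ A (show I ^ (0 + 1) ≤ I by rw [zero_add, pow_one])) (hh b)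

end Groth.Agent.S15755
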