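import Groth.Statements.S15758
import Groth.Agent.ElkikTorsLib.Section
import Groth.Agent.PairHensLib.Flat
-- import your own Groth.Agent.* helpers here

set_option autoImplicit false
set_option maxHeartbeats 2000000
set_option backward.isDefEq.respectTransparency false
universe u
open CategoryTheory MonoidalCategory CartesianMonoidalCategory MonObj GrpObj AlgebraicGeometry Polynomial
open NonAbH1

namespace Groth.Agent.S15758

/-- The Laurent-series instance, kernel form, for an affine smooth group: let R be a ring, B = R{t} a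
henselization of R[t] along (t), ψ : B → R[[t]] the canonical R[t]-algebra map, and χ : B[1/t] →
R((t)) the induced map. For an affine smooth B[1/t]-group scheme G, an fppf G-torsor over Spec
B[1/t] which acquires a section over Spec R((t)) has a section. (The published statement is a
bijection H¹(R{t}[1/t], G) ≅ H¹(R((t)), G) for quasi-affine smooth G and an injection for smooth
quasi-separated G; this row is the triviality of the kernel for affine smooth G.) -/
theorem result (R : Type u) [CommRing R]
    (B : Type u) [CommRing B] [Algebra R[X] B] (hB : Hens2.IsPairHenselization R[X] (Ideal.span {(X : R[X])}) B)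
    (ψ : B →ₐ[R[X]] PowerSeries R)
    (χ : Localization.Away (algebraMap R[X] B X) →+* LaurentSeries R)
    (hχ : χ.comp (algebraMap B (Localization.Away (algebraMap R[X] B X))) =
      (HahnSeries.ofPowerSeries ℤ R).comp ψ.toRingHom)
    (G : Over (Spec (CommRingCat.of (Localization.Away (algebraMap R[X] B X))))) [GrpObj G]
    [IsAffine G.left] [Smooth G.hom]
    (P : Over (Spec (CommRingCat.of (Localization.Away (algebraMap R[X] B X))))) (a : AlgGrp.Action G P)
    (hP : NonAbH1.IsTorsorFor Scheme.fppfPrecoverage a)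
    (hsec : NonAbH1.HasSectionOver P (Spec.map (CommRingCat.ofHom χ))) :
    NonAbH1.HasSectionOver P (𝟙 (Spec (CommRingCat.of (Localization.Away (algebraMap R[X] B X))))) := by
  classical
  let t : B := algebraMap R[X] B X
  haveI : HenselianRing B (Ideal.span {t}) := by
    have h := hB.1
    rwa [Ideal.map_span, Set.image_singleton] at h
  haveI := PairHensLib.flat_of_isPairHenselization hB
  have hreg : IsSMulRegular R[X] (Polynomial.X : R[X]) := fun a b h =>
    (monic_X.mul_right_eq_zero_iff.1 (by
      show Polynomial.X * (a - b) = 0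
      rw [mul_sub]; exact sub_eq_zero.2 h) : a - b = 0) |> sub_eq_zero.1
  have hregB : IsSMulRegular B t := IsSMulRegular.of_flat hreg
  have hbd : ∃ N : ℕ, ∀ a : B, (∃ m : ℕ, t ^ m * a = 0) → t ^ N * a = 0 := by
    refine ⟨0, fun a ⟨m, hm⟩ => ?_⟩
    have : a = 0 := (hregB.pow m) (by
      show t ^ m • a = t ^ m • (0 : B)
      rw [smul_zero, smul_eq_mul]; exact hm)
    rw [this, mul_zero]
  have hψ : ∀ p : R[X], ψ (algebraMap R[X] B p) = (p : PowerSeries R) := fun p => by
    rw [ψ.commutes]; rfl
  let I : Ideal B := Ideal.span {t}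
  let J : Ideal (PowerSeries R) := Ideal.span {PowerSeries.X}
  have hle : ∀ N, I ^ N ≤ (J ^ N).comap ψ.toRingHom := fun N => by
    rw [Ideal.span_singleton_pow, Ideal.span_le, Set.singleton_subset_iff]
    show ψ (t ^ N) ∈ J ^ N
    rw [map_pow, hψ, Polynomial.coe_X]
    exact Ideal.pow_mem_pow (Ideal.mem_span_singleton_self _) N
  let g : ∀ N, B ⧸ I ^ N →+* PowerSeries R ⧸ J ^ N := fun N => Ideal.quotientMap (J ^ N) ψ.toRingHom (hle N)
  have hg : ∀ N, Function.Bijective (g N) := fun N => by
    refine ⟨(injective_iff_map_eq_zero _).2 fun z hz => ?_, fun z => ?_⟩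
    · obtain ⟨a, rfl⟩ := Ideal.Quotient.mk_surjective z
      rw [Ideal.quotientMap_mk, Ideal.Quotient.eq_zero_iff_mem, Ideal.span_singleton_pow,
        Ideal.mem_span_singleton] at hz
      change PowerSeries.X ^ N ∣ ψ a at hz
      obtain ⟨x, hx⟩ := (PairHensLib.quotientMap_bijective hB N).2 (Ideal.Quotient.mk _ a)
      obtain ⟨p, rfl⟩ := Ideal.Quotient.mk_surjective x
      rw [Ideal.quotientMap_mk, Ideal.Quotient.eq, Ideal.map_pow, Ideal.map_span, Set.image_singleton,
        Ideal.span_singleton_pow, Ideal.mem_span_singleton'] at hx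
      obtain ⟨b, hb⟩ := hx
      have h1 : a = algebraMap R[X] B p - b * t ^ N := by rw [hb, sub_sub_cancel]
      have h2 : (PowerSeries.X : PowerSeries R) ^ N ∣ (p : PowerSeries R) := by
        rw [← hψ, ← sub_add_cancel (algebraMap R[X] B p) (b * t ^ N), ← h1, map_add]
        refine dvd_add hz ?_
        rw [map_mul, map_pow, hψ, Polynomial.coe_X]
        exact dvd_mul_left _ _
      have h3 : (Polynomial.X : R[X]) ^ N ∣ p := by
        rw [Polynomial.X_pow_dvd_iff]
        rw [PowerSeries.X_pow_dvd_iff] at h2
        intro d hd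
        rw [← Polynomial.coeff_coe]
        exact h2 d hd
      rw [Ideal.Quotient.eq_zero_iff_mem, Ideal.span_singleton_pow, Ideal.mem_span_singleton, h1]
      refine dvd_sub ?_ (dvd_mul_left _ _)
      rw [← map_pow]
      exact map_dvd _ h3
    · obtain ⟨f, rfl⟩ := Ideal.Quotient.mk_surjective z
      refine ⟨Ideal.Quotient.mk _ (algebraMap R[X] B (f.trunc N)), ?_⟩
      rw [Ideal.quotientMap_mk, Ideal.Quotient.eq, Ideal.span_singleton_pow, Ideal.mem_span_singleton]
      show PowerSeries.X ^ N ∣ ψ (algebraMap R[X] B (f.trunc N)) - f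
      rw [hψ, PowerSeries.X_pow_dvd_iff]
      intro m hm
      rw [map_sub, Polynomial.coeff_coe, PowerSeries.coeff_trunc, if_pos hm, sub_self]
  let E : ∀ N, B ⧸ I ^ N ≃+* PowerSeries R ⧸ J ^ N := fun N => RingEquiv.ofBijective _ (hg N)
  let ιN : ∀ N, PowerSeries R →+* B ⧸ I ^ N := fun N => (E N).symm.toRingHom.comp (Ideal.Quotient.mk (J ^ N))
  have hE : ∀ N (f : PowerSeries R), g N (ιN N f) = Ideal.Quotient.mk (J ^ N) f := fun N f =>
    (E N).apply_symm_apply _
  have hc : ∀ {m n : ℕ} (h : m ≤ n), (Ideal.Quotient.factorPow I h).comp (ιN n) = ιN m := by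
    intro m n h
    refine RingHom.ext fun f => (hg m).1 ?_
    rw [RingHom.comp_apply, hE]
    have h1 := congrArg (Ideal.Quotient.factorPow J h) (hE n f)
    simp only [Ideal.Quotient.factor_mk] at h1
    refine Eq.trans ?_ h1
    obtain ⟨b, hb⟩ := Ideal.Quotient.mk_surjective (ιN n f)
    rw [← hb]
    rfl
  let κ : PowerSeries R →+* AdicCompletion I B := AdicCompletion.liftRingHom I ιN hc
  have hι : ∀ b : B, κ (ψ b) = algebraMap B (AdicCompletion I B) b := fun b => by
    refine AdicCompletion.ext_evalₐ fun N => ?_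
    rw [AdicCompletion.evalₐ_liftRingHom, AlgHom.commutes]
    exact (hg N).1 (hE N (ψ b))
  let t' : AdicCompletion I B := algebraMap B (AdicCompletion I B) t
  have hX : κ PowerSeries.X = t' := by rw [← Polynomial.coe_X, ← hψ, hι]
  have hu : ∀ y : Submonoid.powers (PowerSeries.X : PowerSeries R),
      IsUnit (((algebraMap (AdicCompletion I B) (Localization.Away t')).comp κ) y) := by
    rintro ⟨_, m, rfl⟩
    show IsUnit (algebraMap (AdicCompletion I B) (Localization.Away t') (κ (PowerSeries.X ^ m)))
    rw [map_pow, map_pow, hX]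
    exact (IsLocalization.Away.algebraMap_isUnit t').pow m
  let θ : LaurentSeries R →+* Localization.Away t' := IsLocalization.lift (S := LaurentSeries R) hu
  have hθ : θ.comp χ = Localization.awayMap (algebraMap B (AdicCompletion I B)) t := by
    refine IsLocalization.ringHom_ext (Submonoid.powers t) ?_
    rw [RingHom.comp_assoc, hχ]
    refine RingHom.ext fun b => ?_
    show θ (HahnSeries.ofPowerSeries ℤ R (ψ b)) = Localization.awayMap _ t (algebraMap B _ b)
    rw [show θ (HahnSeries.ofPowerSeries ℤ R (ψ b)) =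
      algebraMap (AdicCompletion I B) (Localization.Away t') (κ (ψ b)) from IsLocalization.lift_eq hu (ψ b), hι]
    exact (IsLocalization.map_eq _ b).symm
  refine ElkikTorsLib.hasSectionOver_of_torsor B t hbd G P a hP ?_
  obtain ⟨s, hs⟩ := hsec
  refine ⟨Spec.map (CommRingCat.ofHom θ) ≫ s, ?_⟩
  rw [Category.assoc, hs, ← Spec.map_comp, ← CommRingCat.ofHom_comp, hθ]

end Groth.Agent.S15758
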