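import Groth.Statements.S15759
import Mathlib
import Groth.Agent.LaurentApproxLib.Lift
-- import your own Groth.Agent.* helpers here

set_option autoImplicit false
universe u
open Polynomial TensorProduct
open CAlg

namespace Groth.Agent.S15759

/-- Let R be a ring, L = R(t) the localisation of R[t] at the monoid generated by t and the polynomials
with constant term 1 (that is, (R[t]_{1+tR[t]})[1/t]), and L' an L-algebra identified with R((t))
compatibly with R[t] → R((t)). Then (b) finitely generated projective L-modules that become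
isomorphic over L' are isomorphic, and (c) every stably free L'-module is the base change of a
stably free L-module. -/
theorem result (R : Type u) [CommRing R]
    (L : Type u) [CommRing L] [Algebra R[X] L]
    [IsLocalization (Submonoid.closure ({f : R[X] | f.coeff 0 = 1} ∪ {X})) L]
    (L' : Type u) [CommRing L'] [Algebra L L'] (e : L' ≃+* LaurentSeries R)
    (he : ∀ p : R[X], e (algebraMap L L' (algebraMap R[X] L p)) =
      HahnSeries.ofPowerSeries ℤ R (Polynomial.coeToPowerSeries.ringHom p)) :
    (∀ (M N : Type u) [AddCommGroup M] [Module L M] [Module.Finite L M] [Module.Projective L M]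
        [AddCommGroup N] [Module L N] [Module.Finite L N] [Module.Projective L N],
        Nonempty (L' ⊗[L] M ≃ₗ[L'] L' ⊗[L] N) → Nonempty (M ≃ₗ[L] N)) ∧
    (∀ (M' : Type u) [AddCommGroup M'] [Module L' M'] [Module.Finite L' M'],
        (∃ n m : ℕ, Nonempty ((M' × (Fin n → L')) ≃ₗ[L'] (Fin m → L'))) →
        ∃ (M : Type u) (_ : AddCommGroup M) (_ : Module L M), Module.Finite L M ∧
          (∃ n m : ℕ, Nonempty ((M × (Fin n → L)) ≃ₗ[L] (Fin m → L))) ∧
          Nonempty (L' ⊗[L] M ≃ₗ[L'] M')) := by
  classical
  let T : Submonoid R[X] :=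
    { carrier := {f | f.coeff 0 = 1}
      one_mem' := by simp
      mul_mem' := fun {a b} ha hb => by
        show (a * b).coeff 0 = 1
        rw [Polynomial.mul_coeff_zero, show a.coeff 0 = 1 from ha, show b.coeff 0 = 1 from hb, one_mul] }
  set W := Submonoid.closure ({f : R[X] | f.coeff 0 = 1} ∪ {X}) with hW
  have hTW : ∀ y : T, IsUnit (algebraMap R[X] L y) := fun y =>
    IsLocalization.map_units L (⟨(y : R[X]), Submonoid.subset_closure (Or.inl y.2)⟩ : W)
  let A := Localization T
  let g : A →+* L := IsLocalization.lift hTW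
  letI : Algebra A L := g.toAlgebra
  have hg : ∀ p, algebraMap A L (algebraMap R[X] A p) = algebraMap R[X] L p := fun p => IsLocalization.lift_eq hTW p
  let c : R[X] →+* PowerSeries R := Polynomial.coeToPowerSeries.ringHom
  have hc : ∀ y : T, IsUnit (c y) := fun y => by
    rw [PowerSeries.isUnit_iff_constantCoeff]
    show IsUnit (PowerSeries.constantCoeff ((y : R[X]) : PowerSeries R))
    rw [← PowerSeries.coeff_zero_eq_constantCoeff_apply, Polynomial.coeff_coe, show (y : R[X]).coeff 0 = 1 from y.2]
    exact isUnit_one
  let ψ : A →+* PowerSeries R := IsLocalization.lift hc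
  have hψ : ∀ p, ψ (algebraMap R[X] A p) = (p : PowerSeries R) := fun p => IsLocalization.lift_eq hc p
  let ε : L →+* LaurentSeries R := e.toRingHom.comp (algebraMap L L')
  have hεg : (ε.comp (algebraMap A L)) = (HahnSeries.ofPowerSeries ℤ R).comp ψ := by
    refine IsLocalization.ringHom_ext T ?_
    refine RingHom.ext fun p => ?_
    show e (algebraMap L L' (algebraMap A L (algebraMap R[X] A p))) = HahnSeries.ofPowerSeries ℤ R (ψ (algebraMap R[X] A p))
    rw [hg, he, hψ]; rfl
  let S : LaurentApproxLib.Setup R L :=
    { A := A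
      t := algebraMap R[X] A X
      ψ := ψ
      ε := ε
      hε := fun a => RingHom.congr_fun hεg a
      ht := by rw [hψ, Polynomial.coe_X]
      htu := by
        rw [hg]
        exact IsLocalization.map_units L (⟨X, Submonoid.subset_closure (Or.inr rfl)⟩ : W)
      approx := fun f N => ⟨algebraMap R[X] A (f.trunc N), by
        rw [hψ, PowerSeries.X_pow_dvd_iff]
        intro m hm
        rw [map_sub, Polynomial.coeff_coe, PowerSeries.coeff_trunc, if_pos hm, sub_self]⟩
      ker := fun a N h => by
        obtain ⟨p, s, rfl⟩ := IsLocalization.exists_mk'_eq T a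
        have h1 : (PowerSeries.X : PowerSeries R) ^ N ∣ ψ (IsLocalization.mk' A p s) * ψ (algebraMap R[X] A s) := h.mul_right _
        rw [← map_mul, IsLocalization.mk'_spec, hψ] at h1
        have h2 : (Polynomial.X : R[X]) ^ N ∣ p := by
          rw [Polynomial.X_pow_dvd_iff]
          rw [PowerSeries.X_pow_dvd_iff] at h1
          intro d hd
          rw [← Polynomial.coeff_coe]
          exact h1 d hd
        obtain ⟨q, rfl⟩ := h2
        refine ⟨IsLocalization.mk' A q s, ?_⟩
        rw [← map_pow, IsLocalization.mul_mk'_eq_mk'_of_mul]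
      jac := fun a => by
        obtain ⟨p, s, rfl⟩ := IsLocalization.exists_mk'_eq T a
        have h : IsUnit ((1 + algebraMap R[X] A X * IsLocalization.mk' A p s) * algebraMap R[X] A s) := by
          rw [add_mul, one_mul, mul_assoc, IsLocalization.mk'_spec, ← map_mul, ← map_add]
          refine IsLocalization.map_units A (⟨(s : R[X]) + X * p, ?_⟩ : T)
          show ((s : R[X]) + X * p).coeff 0 = 1
          rw [Polynomial.coeff_add, Polynomial.coeff_X_mul_zero, add_zero]
          exact s.2
        exact isUnit_of_mul_isUnit_left h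
      surj := fun l => by
        have key : ∀ w ∈ W, ∃ (k : ℕ), ∃ f ∈ T, w = X ^ k * f := by
          intro w hw
          induction hw using Submonoid.closure_induction with
          | mem x hx =>
            rcases hx with hx | hx
            · exact ⟨0, x, hx, by rw [pow_zero, one_mul]⟩
            · exact ⟨1, 1, T.one_mem, by rw [Set.mem_singleton_iff] at hx; rw [hx, pow_one, mul_one]⟩
          | one => exact ⟨0, 1, T.one_mem, by rw [pow_zero, one_mul]⟩
          | mul x y _ _ hx hy =>
            obtain ⟨k, f, hf, rfl⟩ := hx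
            obtain ⟨k', f', hf', rfl⟩ := hy
            exact ⟨k + k', f * f', T.mul_mem hf hf', by ring⟩
        obtain ⟨p, w, rfl⟩ := IsLocalization.exists_mk'_eq W l
        obtain ⟨k, f, hf, hwf⟩ := key w w.2
        refine ⟨IsLocalization.mk' A p ⟨f, hf⟩, k, ?_⟩
        have h1 : algebraMap A L (IsLocalization.mk' A p ⟨f, hf⟩) * algebraMap R[X] L f = algebraMap R[X] L p := by
          rw [← hg f, ← map_mul, IsLocalization.mk'_spec' A p (⟨f, hf⟩ : T) |> fun h => (mul_comm _ _).trans h, hg]
        refine (hTW ⟨f, hf⟩).mul_right_cancel ?_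
        rw [h1, hg, ← map_pow, mul_assoc, ← map_mul, ← hwf, IsLocalization.mk'_spec] }
  refine ⟨fun M N _ _ _ _ _ _ _ _ ⟨φ⟩ => LaurentApproxLib.injective_modules e S (fun l => rfl) φ, ?_⟩
  intro M' _ _ _ ⟨n, m, ⟨φ⟩⟩
  exact LaurentApproxLib.surjective_stablyFree e S (fun l => rfl) M' φ

end Groth.Agent.S15759
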