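import Groth.Statements.S1576
import Groth.Agent.AssPointLib.Basic
-- import your own Groth.Agent.* helpers here

set_option autoImplicit false
universe u
open CategoryTheory CategoryTheory.Limits AlgebraicGeometry
open Divisors

namespace Groth.Agent.S1576

/-- Let X be locally Noetherian and F coherent. Then the associated points of F lying in any
quasi-compact open subset form a finite set. -/
theorem result (X : Scheme.{u}) [IsLocallyNoetherian X]
    (F : X.Modules) (hF : Coh.IsCoh F) (U : X.Opens) (hU : IsCompact (U : Set X)) :
    {x : X | x ∈ U ∧ Curv2.IsAssPoint F x}.Finite := by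
  have : Coh.IsQCoh F := hF.1
  simp only [AssPointLib.assPoint_iff_weak]
  exact AssPointLib.finite_assPoints hF.2 U hU

end Groth.Agent.S1576
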