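import Groth.Statements.S15768
import Mathlib
import Groth.Agent.S15749
import Groth.Agent.PairHensLib.Flat
-- import your own Groth.Agent.* helpers here

set_option autoImplicit false
universe u
open Polynomial
open CAlg

namespace Groth.Agent.S15768

/-- For any ring R and a henselization B of R[t] along (t), every idempotent of B[1/t] comes from a
unique idempotent of R under R → R[t] → B → B[1/t]. -/
theorem result (R : Type u) [CommRing R]
    (B : Type u) [CommRing B] [Algebra R[X] B] (hB : Hens2.IsPairHenselization R[X] (Ideal.span {(X : R[X])}) B)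
    (e : Localization.Away (algebraMap R[X] B X)) (he : IsIdempotentElem e) :
    ∃! r : R, IsIdempotentElem r ∧
      algebraMap B (Localization.Away (algebraMap R[X] B X)) (algebraMap R[X] B (Polynomial.C r)) = e := by
  classical
  haveI : IsAdicComplete (Ideal.span {(PowerSeries.X : PowerSeries R)}) (PowerSeries R) :=
    { haus' := fun x hx => by
        refine PowerSeries.ext fun n => ?_
        have h := hx (n + 1)
        rw [SModEq.zero, Ideal.smul_eq_mul, Ideal.mul_top, Ideal.span_singleton_pow, Ideal.mem_span_singleton,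
          PowerSeries.X_pow_dvd_iff] at h
        simpa using h n (by omega)
      prec' := fun f hf => by
        refine ⟨PowerSeries.mk fun n => PowerSeries.coeff n (f (n + 1)), fun n => ?_⟩
        rw [SModEq.sub_mem, Ideal.smul_eq_mul, Ideal.mul_top, Ideal.span_singleton_pow, Ideal.mem_span_singleton,
          PowerSeries.X_pow_dvd_iff]
        intro m hm
        have h := hf (show m + 1 ≤ n by omega)
        rw [SModEq.sub_mem, Ideal.smul_eq_mul, Ideal.mul_top, Ideal.span_singleton_pow, Ideal.mem_span_singleton,
          PowerSeries.X_pow_dvd_iff] at h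
        have h' := h m (by omega)
        rw [map_sub, sub_eq_zero] at h'
        rw [map_sub, PowerSeries.coeff_mk, h', sub_self] }
  obtain ⟨ψ, hψ, -⟩ := hB.2 (PowerSeries R) (Ideal.span {PowerSeries.X}) Polynomial.coeToPowerSeries.ringHom
    inferInstance (by
      rw [Ideal.map_span, Set.image_singleton, Polynomial.coeToPowerSeries.ringHom_apply, Polynomial.coe_X])
  have hψp : ∀ p : R[X], ψ (algebraMap R[X] B p) = (p : PowerSeries R) := fun p => RingHom.congr_fun hψ p
  haveI : HenselianRing B (Ideal.span {algebraMap R[X] B X}) := by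
    have h := hB.1
    rwa [Ideal.map_span, Set.image_singleton] at h
  have hu : IsUnit (((HahnSeries.ofPowerSeries ℤ R).comp ψ) (algebraMap R[X] B X)) := by
    show IsUnit (HahnSeries.ofPowerSeries ℤ R (ψ (algebraMap R[X] B X)))
    rw [hψp, Polynomial.coe_X, HahnSeries.ofPowerSeries_X]
    refine IsUnit.of_mul_eq_one (HahnSeries.single (-1 : ℤ) (1 : R)) ?_
    rw [HahnSeries.single_mul_single, add_neg_cancel, one_mul]; rfl
  let ε : Localization.Away (algebraMap R[X] B X) →+* LaurentSeries R :=
    IsLocalization.Away.lift (algebraMap R[X] B X) hu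
  have hε : ∀ b, ε (algebraMap B _ b) = HahnSeries.ofPowerSeries ℤ R (ψ b) := fun b =>
    IsLocalization.Away.lift_eq (algebraMap R[X] B X) hu b
  have hεC : ∀ r : R, ε (algebraMap B _ (algebraMap R[X] B (Polynomial.C r))) = HahnSeries.C r := fun r => by
    rw [hε, hψp, Polynomial.coe_C, HahnSeries.ofPowerSeries_C]
  have hker : ∀ (a : B) (N : ℕ), (PowerSeries.X : PowerSeries R) ^ N ∣ ψ a → algebraMap R[X] B X ^ N ∣ a := by
    intro a N h
    obtain ⟨x, hx⟩ := (PairHensLib.quotientMap_bijective hB N).2 (Ideal.Quotient.mk _ a)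
    obtain ⟨p, rfl⟩ := Ideal.Quotient.mk_surjective x
    rw [Ideal.quotientMap_mk, Ideal.Quotient.eq, Ideal.map_pow, Ideal.map_span, Set.image_singleton,
      Ideal.span_singleton_pow, Ideal.mem_span_singleton'] at hx
    obtain ⟨b, hb⟩ := hx
    have h1 : a = algebraMap R[X] B p - b * algebraMap R[X] B X ^ N := by rw [hb, sub_sub_cancel]
    have h2 : (PowerSeries.X : PowerSeries R) ^ N ∣ (p : PowerSeries R) := by
      rw [← hψp, ← sub_add_cancel (algebraMap R[X] B p) (b * algebraMap R[X] B X ^ N), ← h1, map_add]
      refine dvd_add h ?_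
      rw [map_mul, map_pow, hψp, Polynomial.coe_X]
      exact dvd_mul_left _ _
    have h3 : (Polynomial.X : R[X]) ^ N ∣ p := by
      rw [Polynomial.X_pow_dvd_iff]
      rw [PowerSeries.X_pow_dvd_iff] at h2
      intro d hd
      rw [← Polynomial.coeff_coe]
      exact h2 d hd
    rw [h1, ← map_pow]
    exact dvd_sub (map_dvd _ h3) (dvd_mul_left _ _)
  -- an idempotent killed by `ε` vanishes
  have hinj : ∀ x : Localization.Away (algebraMap R[X] B X), IsIdempotentElem x → ε x = 0 → x = 0 := by
    intro x hx h0
    obtain ⟨⟨a, ⟨_, k, rfl⟩⟩, h⟩ := IsLocalization.surj (Submonoid.powers (algebraMap R[X] B X)) x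
    have hψa : ψ a = 0 := by
      refine HahnSeries.ofPowerSeries_injective (Γ := ℤ) (R := R) ?_
      rw [← hε, ← h, map_mul, h0, zero_mul, map_zero]
    obtain ⟨b, hb⟩ := hker a (k + 1) (by rw [hψa]; exact dvd_zero _)
    have htu := IsLocalization.Away.algebraMap_isUnit (S := Localization.Away (algebraMap R[X] B X)) (algebraMap R[X] B X)
    have hxb : x = algebraMap B _ (algebraMap R[X] B X * b) := by
      refine (htu.pow k).mul_right_cancel ?_
      rw [← map_pow, ← map_mul]
      refine h.trans (congrArg _ ?_)
      rw [hb, pow_succ]; ring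
    have hu1 : IsUnit (1 - algebraMap R[X] B X * b) := by
      have h' := Ideal.mem_jacobson_bot.1
        (HenselianRing.jac (R := B) (I := Ideal.span {algebraMap R[X] B X}) (Ideal.mem_span_singleton_self _)) (-b)
      rwa [mul_neg, add_comm, ← sub_eq_add_neg] at h'
    refine (hu1.map (algebraMap B (Localization.Away (algebraMap R[X] B X)))).mul_right_cancel ?_
    rw [zero_mul, map_sub, map_one, ← hxb, mul_sub, mul_one, hx.eq, sub_self]
  obtain ⟨r, ⟨hr, hre⟩, huniq⟩ := S15749.result R (ε e) (he.map ε)
  refine ⟨r, ⟨hr, ?_⟩, fun s ⟨hs, hse⟩ => huniq s ⟨hs, by rw [← hεC, hse]⟩⟩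
  set c := algebraMap B (Localization.Away (algebraMap R[X] B X)) (algebraMap R[X] B (Polynomial.C r)) with hc
  have hci : IsIdempotentElem c := ((hr.map Polynomial.C).map _).map _
  have hεc : ε c = ε e := (hεC r).trans hre
  have h1 : e * (1 - c) = 0 := hinj _ (he.mul hci.one_sub) (by
    rw [map_mul, map_sub, map_one, hεc, mul_sub, mul_one, (he.map ε).eq, sub_self])
  have h2 : c * (1 - e) = 0 := hinj _ (hci.mul he.one_sub) (by
    rw [map_mul, map_sub, map_one, hεc, mul_sub, mul_one, (he.map ε).eq, sub_self])
  linear_combination h2 - h1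

end Groth.Agent.S15768
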