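import Groth.Statements.S2004
import Mathlib
import Groth.Agent.GlueFlatLib.Basic
-- import your own Groth.Agent.* helpers here

set_option autoImplicit false
universe u
open TensorProduct
open EtAlg

namespace Groth.Agent.S2004

set_option maxHeartbeats 400000

/-- Let R -> R' induce bijections R/f^n R -> R'/f^n R' for all n > 0. Then (R -> R', f) is a glueing
pair if and only if R -> R' maps the f-power torsion of R bijectively onto the f-power torsion of R'
(stated as: injective on f-power torsion elements, and every f-power torsion element of R' is the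
image of one of R). -/
theorem result (R R' : Type u) [CommRing R] [CommRing R'] [Algebra R R'] (f : R)
    (hq : EtGlue.QuotPowBijective R R' f) :
    EtGlue.IsGlueingPair R R' f ↔
      ((∀ x : R, (∃ n : ℕ, f ^ n * x = 0) → algebraMap R R' x = 0 → x = 0) ∧
       (∀ x' : R', (∃ n : ℕ, algebraMap R R' f ^ n * x' = 0) →
          ∃ x : R, (∃ n : ℕ, f ^ n * x = 0) ∧ algebraMap R R' x = x')) := by
  let F := algebraMap R R' f
  constructor
  · rintro ⟨-, hi, hm, -⟩
    refine ⟨fun x ⟨n, hn⟩ hx => hi (Prod.ext (by simpa using hx) ?_), fun x' ⟨n, hn⟩ => ?_⟩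
    · change algebraMap R (Localization.Away f) x = algebraMap R _ 0
      rw [map_zero, IsLocalization.map_eq_zero_iff (Submonoid.powers f)]
      exact ⟨⟨f ^ n, n, rfl⟩, hn⟩
    · obtain ⟨r, hr1, hr2⟩ := hm x' 0 (by
        rw [map_zero, IsLocalization.map_eq_zero_iff (Submonoid.powers F)]
        exact ⟨⟨F ^ n, n, rfl⟩, hn⟩)
      obtain ⟨⟨_, k, rfl⟩, hk⟩ := (IsLocalization.map_eq_zero_iff (Submonoid.powers f) _ r).1 hr2
      exact ⟨r, ⟨k, hk⟩, hr1⟩
  · rintro ⟨hi, hs⟩
    refine ⟨hq, fun a b hab => ?_, fun x y hxy => ?_, fun z => ?_⟩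
    · simp only [Prod.mk.injEq] at hab
      obtain ⟨⟨_, k, rfl⟩, hk⟩ :=
        IsLocalization.exists_of_eq (M := Submonoid.powers f) hab.2
      rw [← sub_eq_zero]
      refine hi _ ⟨k, ?_⟩ (by rw [map_sub, hab.1, sub_self])
      rw [mul_sub, sub_eq_zero]
      exact hk
    · obtain ⟨a, ⟨_, n, rfl⟩, rfl⟩ := IsLocalization.exists_mk'_eq (Submonoid.powers f) y
      rw [Localization.awayMap, IsLocalization.Away.map, IsLocalization.map_mk',
        IsLocalization.eq_mk'_iff_mul_eq, ← map_mul] at hxy
      obtain ⟨⟨_, k, rfl⟩, hk⟩ := IsLocalization.exists_of_eq (M := Submonoid.powers F) hxy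
      simp only [map_pow, F] at hk
      obtain ⟨r₀, hr₀⟩ := Groth.Agent.GlueFlatLib.quot_inj hq (k + n) (f ^ k * a) x (by
        simp only [map_mul, map_pow, pow_add]
        linear_combination -hk)
      obtain ⟨t, ⟨j, hj⟩, ht⟩ := hs (x - algebraMap R R' r₀) ⟨k + n, by
        have := congrArg (algebraMap R R') hr₀
        simp only [map_mul, map_pow] at this
        rw [pow_add] at this ⊢
        linear_combination hk + this⟩
      refine ⟨r₀ + t, by rw [map_add, ht, add_sub_cancel], ?_⟩
      rw [IsLocalization.eq_mk'_iff_mul_eq, ← map_mul,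
        IsLocalization.eq_iff_exists (Submonoid.powers f)]
      refine ⟨⟨f ^ (k + j), k + j, rfl⟩, ?_⟩
      simp only [pow_add] at hr₀ ⊢
      linear_combination (f ^ k * f ^ n) * hj - f ^ j * hr₀
    · obtain ⟨w, ⟨_, n, rfl⟩, rfl⟩ := IsLocalization.exists_mk'_eq (Submonoid.powers F) z
      obtain ⟨c, s, hcs⟩ := Groth.Agent.GlueFlatLib.quot_lift hq n w
      refine ⟨s, -IsLocalization.mk' _ c (⟨f ^ n, n, rfl⟩ : Submonoid.powers f), ?_⟩
      rw [IsLocalization.eq_mk'_iff_mul_eq, map_neg, sub_neg_eq_add, add_mul,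
        Localization.awayMap, IsLocalization.Away.map, IsLocalization.map_mk']
      rw [show (IsLocalization.mk' (Localization.Away F) (algebraMap R R' c) _ *
          algebraMap R' (Localization.Away F) (F ^ n)) = algebraMap R' _ (algebraMap R R' c) from
        (by rw [← map_pow]; exact IsLocalization.mk'_spec _ _ _)]
      rw [← map_mul, ← map_add, hcs, map_pow]
      congr 1
      ring

end Groth.Agent.S2004
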