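import Groth.Statements.S15769
import Groth.Agent.GluePairHom.Ring
import Groth.Agent.S2004

set_option autoImplicit false
universe u
open CategoryTheory AlgebraicGeometry
open CAlg

namespace Groth.Agent.S15769

/-- Case of a quasi-affine X over U = Spec A: let φ : A → A' and t ∈ A be such that A/t^m → A'/t^m is
bijective for every m and φ restricts to a bijection between the t-power-torsion submodules; let X
be a quasi-affine scheme over Spec A. Then sections of X over Spec A correspond bijectively to pairs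
of an A'-point and an A[1/t]-point of X over A that agree over A'[1/t]. (The published statement
allows a flat A-scheme U as base and X either ind-quasi-affine or subprojective over U; this row is
U = Spec A with X quasi-affine.) -/
theorem result (A A' : Type u) [CommRing A] [CommRing A']
    (φ : A →+* A') (t : A)
    (hq : ∀ m : ℕ, Function.Bijective (Ideal.quotientMap (Ideal.map φ (Ideal.span {t} ^ m)) φ Ideal.le_comap_map))
    (htor : ∀ a' : A', (∃ m : ℕ, φ t ^ m * a' = 0) → ∃! a : A, (∃ m : ℕ, t ^ m * a = 0) ∧ φ a = a')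
    (X : Scheme.{u}) [X.IsQuasiAffine] (p : X ⟶ Spec (CommRingCat.of A)) :
    (∀ s₁ s₂ : Spec (CommRingCat.of A) ⟶ X, s₁ ≫ p = 𝟙 _ → s₂ ≫ p = 𝟙 _ →
        Spec.map (CommRingCat.ofHom φ) ≫ s₁ = Spec.map (CommRingCat.ofHom φ) ≫ s₂ →
        Spec.map (CommRingCat.ofHom (algebraMap A (Localization.Away t))) ≫ s₁ =
          Spec.map (CommRingCat.ofHom (algebraMap A (Localization.Away t))) ≫ s₂ →
        s₁ = s₂) ∧
    (∀ (x' : Spec (CommRingCat.of A') ⟶ X) (xt : Spec (CommRingCat.of (Localization.Away t)) ⟶ X),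
        x' ≫ p = Spec.map (CommRingCat.ofHom φ) →
        xt ≫ p = Spec.map (CommRingCat.ofHom (algebraMap A (Localization.Away t))) →
        Spec.map (CommRingCat.ofHom (algebraMap A' (Localization.Away (φ t)))) ≫ x' =
          Spec.map (CommRingCat.ofHom (Localization.awayMap φ t)) ≫ xt →
        ∃ s : Spec (CommRingCat.of A) ⟶ X, s ≫ p = 𝟙 _ ∧
          Spec.map (CommRingCat.ofHom φ) ≫ s = x' ∧
          Spec.map (CommRingCat.ofHom (algebraMap A (Localization.Away t))) ≫ s = xt) := by
  let _ : Algebra A A' := φ.toAlgebra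
  have hh : ∀ I J : Ideal A, I = J →
      Function.Bijective (Ideal.quotientMap (I.map φ) φ Ideal.le_comap_map) →
      Function.Bijective (Ideal.quotientMap (J.map φ) φ Ideal.le_comap_map) := fun I J e h => e ▸ h
  have hq' : EtGlue.QuotPowBijective A A' t := fun m _ => hh _ _ (Ideal.span_singleton_pow t m) (hq m)
  have hp : EtGlue.IsGlueingPair A A' t := (Groth.Agent.S2004.result A A' t hq').2
    ⟨fun x hx h0 => (htor 0 ⟨0, by simp⟩).unique ⟨hx, h0⟩ ⟨⟨0, by simp⟩, map_zero φ⟩,
      fun x' hx' => (htor x' hx').exists⟩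
  refine ⟨fun s₁ s₂ _ _ h' h₁ => ?_, fun x' xt hx' hxt hw => ?_⟩
  · rw [← cancel_mono X.toSpecΓ]
    exact GluePairHom.spec_ext hp (by rw [← Category.assoc, ← Category.assoc]; exact congrArg (· ≫ _) h')
      (by rw [← Category.assoc, ← Category.assoc, h₁])
  · obtain ⟨g, hg', hg₁⟩ := GluePairHom.exists_spec_hom hp (x' ≫ X.toSpecΓ) (xt ≫ X.toSpecΓ)
      (by rw [← Category.assoc, ← Category.assoc]; exact congrArg (· ≫ _) hw)
    have hr : Set.range g ⊆ Set.range X.toSpecΓ := by
      rintro _ ⟨P, rfl⟩
      rcases GluePairHom.exists_corner hp P with ⟨q, rfl⟩ | ⟨q, rfl⟩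
      · exact ⟨xt q, (congrArg (fun m => m q) (congrArg (fun m : Spec (CommRingCat.of (Localization.Away t)) ⟶ _ =>
          (m.base : _ → _)) hg₁)).symm⟩
      · exact ⟨x' q, (congrArg (fun m => m q) (congrArg (fun m : Spec (CommRingCat.of A') ⟶ _ =>
          (m.base : _ → _)) hg')).symm⟩
    let s := IsOpenImmersion.lift X.toSpecΓ g hr
    have hs' : Spec.map (CommRingCat.ofHom φ) ≫ s = x' := by
      rw [← cancel_mono X.toSpecΓ, Category.assoc, IsOpenImmersion.lift_fac]
      exact hg'
    have hs₁ : Spec.map (CommRingCat.ofHom (algebraMap A (Localization.Away t))) ≫ s = xt := by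
      rw [← cancel_mono X.toSpecΓ, Category.assoc, IsOpenImmersion.lift_fac]
      exact hg₁
    refine ⟨s, GluePairHom.spec_ext hp ?_ ?_, hs', hs₁⟩
    · rw [Category.comp_id, ← Category.assoc]
      exact (congrArg (· ≫ p) hs').trans hx'
    · rw [Category.comp_id, ← Category.assoc, hs₁, hxt]

end Groth.Agent.S15769
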