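import Groth.Statements.S15770
import Mathlib.Topology.Algebra.Module.ModuleTopology
import Mathlib.Topology.Instances.Matrix
import Mathlib.Algebra.Module.Projective
import Mathlib.RingTheory.Finiteness.Cardinality
import Mathlib.LinearAlgebra.Matrix.ToLin
import Mathlib.LinearAlgebra.Matrix.NonsingularInverse
-- import your own Groth.Agent.* helpers here

set_option autoImplicit false
universe u
open CAlg

namespace Groth.Agent.S15770

/-- Let B be a topological ring with Bˣ ⊂ B open and M, M' finitely generated projective B-modules, and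
endow Hom_B(M, M') with the module topology (the canonical topology of a finite module). Then the
set of surjective B-linear maps M → M' is open. -/
theorem result (B : Type u) [CommRing B] [TopologicalSpace B]
    [IsTopologicalRing B] (hB : IsOpen {b : B | IsUnit b})
    (M M' : Type u) [AddCommGroup M] [Module B M] [Module.Finite B M] [Module.Projective B M]
    [AddCommGroup M'] [Module B M'] [Module.Finite B M'] [Module.Projective B M']
    [TopologicalSpace (M →ₗ[B] M')] [IsModuleTopology B (M →ₗ[B] M')] :
    IsOpen {f : M →ₗ[B] M' | Function.Surjective f} := by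
  classical
  rw [isOpen_iff_forall_mem_open]
  intro f0 hf0
  obtain ⟨n, π, hπ⟩ := Module.Finite.exists_fin' B M'
  obtain ⟨ι, hι⟩ := Module.projective_lifting_property π LinearMap.id hπ
  obtain ⟨σ, hσ⟩ := Module.projective_lifting_property f0 LinearMap.id hf0
  let L : (M →ₗ[B] M') →ₗ[B] Matrix (Fin n) (Fin n) B :=
    { toFun := fun g => LinearMap.toMatrix' (ι ∘ₗ g ∘ₗ σ ∘ₗ π)
      map_add' := fun a b => by simp only [LinearMap.add_comp, LinearMap.comp_add, map_add]
      map_smul' := fun c a => by simp only [LinearMap.smul_comp, LinearMap.comp_smul, map_smul, RingHom.id_apply] }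
  let C : Matrix (Fin n) (Fin n) B := LinearMap.toMatrix' (LinearMap.id - ι ∘ₗ π)
  have hc : Continuous fun g => (L g + C).det := by
    haveI : ContinuousSMul B (Matrix (Fin n) (Fin n) B) := inferInstance
    exact ((IsModuleTopology.continuous_of_linearMap L).add continuous_const).matrix_det
  refine ⟨(fun g => (L g + C).det) ⁻¹' {b : B | IsUnit b}, fun g hg => ?_, hB.preimage hc, ?_⟩
  · have hu : IsUnit (L g + C) := (Matrix.isUnit_iff_isUnit_det _).mpr hg
    obtain ⟨V, hV⟩ := hu
    intro y
    obtain ⟨v, hv⟩ : ∃ v, Matrix.mulVec (L g + C) v = ι y := by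
      refine ⟨Matrix.mulVec ((V⁻¹ : (Matrix (Fin n) (Fin n) B)ˣ) : Matrix (Fin n) (Fin n) B) (ι y), ?_⟩
      rw [Matrix.mulVec_mulVec, ← hV, Units.mul_inv, Matrix.one_mulVec]
    have hπι : ∀ z, π (ι z) = z := fun z => LinearMap.congr_fun hι z
    have h2 := congrArg π hv
    simp only [L, C, LinearMap.coe_mk, AddHom.coe_mk, Matrix.add_mulVec, Matrix.sub_mulVec, LinearMap.toMatrix'_mulVec, LinearMap.comp_apply,
      LinearMap.sub_apply, LinearMap.id_apply, map_add, map_sub, hπι, sub_self, add_zero] at h2
    exact ⟨σ (π v), h2⟩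
  · show IsUnit (L f0 + C).det
    have h1 : ι ∘ₗ f0 ∘ₗ σ ∘ₗ π = ι ∘ₗ π := by rw [← LinearMap.comp_assoc π σ f0, hσ, LinearMap.id_comp]
    have : L f0 + C = 1 := by
      show LinearMap.toMatrix' (ι ∘ₗ f0 ∘ₗ σ ∘ₗ π) + LinearMap.toMatrix' (LinearMap.id - ι ∘ₗ π) = 1
      rw [h1, ← map_add, add_sub_cancel, LinearMap.toMatrix'_id]
    rw [this, Matrix.det_one]
    exact isUnit_one

end Groth.Agent.S15770
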