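import Groth.Statements.S15771
import Mathlib.LinearAlgebra.TensorProduct.Basic
import Mathlib.Topology.Algebra.Module.Basic
import Mathlib.RingTheory.TensorProduct.Finite
-- import your own Groth.Agent.* helpers here

set_option autoImplicit false
universe u
open TensorProduct
open CAlg

namespace Groth.Agent.S15771

/-- For a ring map B₀ → B with dense image into a topological ring B, a finitely generated B₀-module M₀
and any topological B-module structure on M = B ⊗_{B₀} M₀, the natural map M₀ → M has dense image. -/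
theorem result (B₀ B : Type u) [CommRing B₀] [CommRing B] [Algebra B₀ B]
    [TopologicalSpace B] [IsTopologicalRing B] (hφ : DenseRange (algebraMap B₀ B))
    (M₀ : Type u) [AddCommGroup M₀] [Module B₀ M₀] [Module.Finite B₀ M₀]
    [TopologicalSpace (B ⊗[B₀] M₀)] [IsTopologicalAddGroup (B ⊗[B₀] M₀)] [ContinuousSMul B (B ⊗[B₀] M₀)] :
    DenseRange (fun m : M₀ => (1 : B) ⊗ₜ[B₀] m) := by
  let g : M₀ →ₗ[B₀] B ⊗[B₀] M₀ := TensorProduct.mk B₀ B M₀ 1
  let N : AddSubgroup (B ⊗[B₀] M₀) := g.range.toAddSubgroup.topologicalClosure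
  suffices ∀ z, z ∈ N by
    intro z
    exact this z
  intro z
  induction z using TensorProduct.induction_on with
  | zero => exact zero_mem N
  | add x y hx hy => exact add_mem hx hy
  | tmul b m =>
    have hcont : Continuous fun c : B => c • ((1 : B) ⊗ₜ[B₀] m) :=
      Continuous.smul (f := fun c : B => c) (g := fun _ => (1 : B) ⊗ₜ[B₀] m) continuous_id continuous_const
    have hmem : (fun c : B => c • ((1 : B) ⊗ₜ[B₀] m)) b ∈
        closure ((fun c : B => c • ((1 : B) ⊗ₜ[B₀] m)) '' Set.range (algebraMap B₀ B)) :=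
      image_closure_subset_closure_image hcont ⟨b, hφ b, rfl⟩
    simp only at hmem
    rw [TensorProduct.smul_tmul', smul_eq_mul, mul_one] at hmem
    refine closure_mono ?_ hmem
    rintro _ ⟨_, ⟨a, rfl⟩, rfl⟩
    exact ⟨a • m, by simp [g, TensorProduct.tmul_smul, TensorProduct.smul_tmul', Algebra.smul_def]⟩

end Groth.Agent.S15771
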