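import Groth.Statements.S15773
import Groth.Agent.HensWeierLib.Laurent

set_option autoImplicit false
universe u
open Polynomial
open CAlg

namespace Groth.Agent.S15773

/-- For a Henselian local ring (R, m), a henselization B of R[t] along (t), L = B[1/t] and the R-algebra
map ψ : R[s] → L sending s to t⁻¹, extension and contraction along ψ are mutually inverse bijections
between the ideals of R[s] comaximal with mR[s] and the ideals of L comaximal with mL, and R[s]/I →
L/IL is bijective for every such I. (The published statement is phrased with closed subschemes of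
Spec R[t⁻¹] and of Spec L not meeting the residue fibre, matched by base change and schematic image,
and treats the localisation (R[t]_{1+tR[t]})[1/t] alongside R{t}[1/t]; this row states it with
ideals and includes the bijection of the corresponding quotient rings.) -/
theorem result (R : Type u) [CommRing R]
    [HenselianLocalRing R] (B : Type u) [CommRing B] [Algebra R B] [Algebra R[X] B] [IsScalarTower R R[X] B]
    (hB : Hens2.IsPairHenselization R[X] (Ideal.span {(X : R[X])}) B)
    (ψ : R[X] →ₐ[R] Localization.Away (algebraMap R[X] B X))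
    (hψ : ψ X * algebraMap B (Localization.Away (algebraMap R[X] B X)) (algebraMap R[X] B X) = 1) :
    (∀ I : Ideal R[X], I ⊔ (IsLocalRing.maximalIdeal R).map (algebraMap R R[X]) = ⊤ →
        (I.map ψ.toRingHom).comap ψ.toRingHom = I ∧
        I.map ψ.toRingHom ⊔ (IsLocalRing.maximalIdeal R).map
          (algebraMap R (Localization.Away (algebraMap R[X] B X))) = ⊤ ∧
        Function.Bijective (Ideal.quotientMap (I.map ψ.toRingHom) ψ.toRingHom Ideal.le_comap_map)) ∧
    (∀ J : Ideal (Localization.Away (algebraMap R[X] B X)),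
        J ⊔ (IsLocalRing.maximalIdeal R).map (algebraMap R (Localization.Away (algebraMap R[X] B X))) = ⊤ →
        (J.comap ψ.toRingHom).map ψ.toRingHom = J ∧
        J.comap ψ.toRingHom ⊔ (IsLocalRing.maximalIdeal R).map (algebraMap R R[X]) = ⊤) := by
  refine ⟨fun I hI => ?_, fun J hJ => ?_⟩
  · obtain ⟨i, hi, e, he, hie⟩ := Submodule.mem_sup.1 ((Ideal.eq_top_iff_one _).1 hI)
    have hh : i - 1 ∈ (IsLocalRing.maximalIdeal R).map (algebraMap R R[X]) := by
      rw [show i - 1 = -e by rw [← hie]; ring]; exact neg_mem he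
    have hhI : ψ i ∈ I.map ψ.toRingHom := Ideal.mem_map_of_mem ψ.toRingHom hi
    have hle : Ideal.span {ψ i} ≤ I.map ψ.toRingHom := (Ideal.span_singleton_le_iff_mem _).2 hhI
    have hcm : (I.map ψ.toRingHom).comap ψ.toRingHom = I := le_antisymm (fun p hp => by
      obtain ⟨k, hk, hpk⟩ := HensWeierLib.exists_mem_map_sub hB ψ hψ hh (hp : ψ p ∈ I.map (ψ : R[X] →+* _))
      have hpk' : ψ (p - k) ∈ Ideal.span {ψ i} := by rw [map_sub]; exact hpk
      have h1 := (Ideal.span_singleton_le_iff_mem I).2 hi (HensWeierLib.mem_of_psi_mem hB ψ hψ hh hpk')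
      simpa using add_mem h1 hk) Ideal.le_comap_map
    refine ⟨hcm, ?_, Ideal.quotientMap_injective' hcm.le, fun z => ?_⟩
    · have h1 := congrArg (Ideal.map ψ.toRingHom) hI
      rw [Ideal.map_sup, Ideal.map_map, Ideal.map_top] at h1
      rwa [show ψ.toRingHom.comp (algebraMap R R[X]) = algebraMap R _ from ψ.comp_algebraMap] at h1
    · obtain ⟨l, rfl⟩ := Ideal.Quotient.mk_surjective z
      obtain ⟨q, hq⟩ := HensWeierLib.exists_sub_mem hB ψ hψ hh l
      refine ⟨Ideal.Quotient.mk I q, ?_⟩
      rw [Ideal.quotientMap_mk]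
      exact (Ideal.Quotient.eq.2 (hle hq)).symm
  · obtain ⟨h, hhJ, hh⟩ := HensWeierLib.exists_mem_of_comaximal hB ψ hψ hJ
    refine ⟨le_antisymm Ideal.map_comap_le fun l hl => ?_, ?_⟩
    · obtain ⟨q, hq⟩ := HensWeierLib.exists_sub_mem hB ψ hψ hh l
      have hsub : Ideal.span {ψ h} ≤ (J.comap ψ.toRingHom).map ψ.toRingHom :=
        (Ideal.span_singleton_le_iff_mem _).2 (Ideal.mem_map_of_mem ψ.toRingHom (show h ∈ J.comap ψ.toRingHom from hhJ))
      have hqJ : ψ q ∈ J := by
        have h1 := sub_mem hl ((Ideal.span_singleton_le_iff_mem J).2 hhJ hq)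
        rwa [sub_sub_cancel] at h1
      have := add_mem (hsub hq) (Ideal.mem_map_of_mem ψ.toRingHom (show q ∈ J.comap ψ.toRingHom from hqJ))
      simpa using this
    · rw [Ideal.eq_top_iff_one]
      exact Submodule.mem_sup.2 ⟨h, hhJ, 1 - h, by rw [← neg_sub]; exact neg_mem hh, add_sub_cancel h 1⟩

end Groth.Agent.S15773
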