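import Groth.Statements.S15778
import Groth.Agent.AwayApproxLib.Basic

set_option autoImplicit false
universe u
open TensorProduct
open CAlg

set_option linter.style.haveILetI false

namespace Groth.Agent.S15778

open Matrix LinearMap

/-- Linear maps whose approximate composite is a unit on the ambient free module. -/
theorem bijective_of_isUnit {R M : Type*} [CommRing R] [AddCommGroup M] [Module R M] {m : ℕ}
    (i : M →ₗ[R] (Fin m → R)) (p : (Fin m → R) →ₗ[R] M) (hpi : ∀ x, p (i x) = x) (c : M →ₗ[R] M)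
    (h : IsUnit (LinearMap.toMatrix' (i ∘ₗ c ∘ₗ p + (LinearMap.id - i ∘ₗ p)))) : Function.Bijective c := by
  set T := i ∘ₗ c ∘ₗ p + (LinearMap.id - i ∘ₗ p)
  have hT : Function.Bijective T := by
    obtain ⟨u, hu⟩ := h
    have h1 : T ∘ₗ Matrix.toLin' (↑u⁻¹ : Matrix (Fin m) (Fin m) R) = LinearMap.id := by
      apply LinearMap.toMatrix'.injective
      rw [LinearMap.toMatrix'_comp, LinearMap.toMatrix'_toLin', ← hu, LinearMap.toMatrix'_id, Units.mul_inv]
    have h2 : Matrix.toLin' (↑u⁻¹ : Matrix (Fin m) (Fin m) R) ∘ₗ T = LinearMap.id := by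
      apply LinearMap.toMatrix'.injective
      rw [LinearMap.toMatrix'_comp, LinearMap.toMatrix'_toLin', ← hu, LinearMap.toMatrix'_id, Units.inv_mul]
    exact Function.bijective_iff_has_inverse.2 ⟨Matrix.toLin' (↑u⁻¹ : Matrix (Fin m) (Fin m) R),
      fun x => LinearMap.congr_fun h2 x, fun x => LinearMap.congr_fun h1 x⟩
  have hTi : ∀ x, T (i x) = i (c x) := fun x => by simp [T, hpi]
  have hpT : ∀ z, p (T z) = c (p z) := fun z => by simp [T, hpi]
  refine ⟨fun x y hxy => ?_, fun y => ?_⟩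
  · have h1 := congrArg p (hT.1 (show T (i x) = T (i y) by rw [hTi, hTi, hxy]))
    rwa [hpi, hpi] at h1
  · obtain ⟨z, hz⟩ := hT.2 (i y)
    exact ⟨p z, by rw [← hpT, hz, hpi]⟩

/-- Complements of split injections. -/
theorem exists_equivs {R F G : Type*} [CommRing R] [AddCommGroup F] [Module R F] [AddCommGroup G] [Module R G]
    (p : F →ₗ[R] G) (s : G →ₗ[R] F) (h : Function.Bijective (p ∘ₗ s)) :
    Nonempty (F ≃ₗ[R] (F ⧸ LinearMap.range s) × G) ∧ Nonempty (LinearMap.ker p ≃ₗ[R] (F ⧸ LinearMap.range s)) := by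
  refine ⟨⟨LinearEquiv.ofBijective ((LinearMap.range s).mkQ.prod p) ⟨?_, ?_⟩⟩,
    ⟨LinearEquiv.ofBijective ((LinearMap.range s).mkQ ∘ₗ (LinearMap.ker p).subtype) ⟨?_, ?_⟩⟩⟩
  · refine (injective_iff_map_eq_zero _).2 fun x hx => ?_
    obtain ⟨h1, h2⟩ := Prod.ext_iff.1 hx
    obtain ⟨g, rfl⟩ := (Submodule.Quotient.mk_eq_zero _).1 h1
    rw [show g = 0 from h.1 (h2.trans (map_zero _).symm), map_zero]
  · rintro ⟨y, g⟩
    obtain ⟨y, rfl⟩ := Submodule.Quotient.mk_surjective _ y
    obtain ⟨g', hg'⟩ := h.2 (g - p y)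
    refine ⟨y + s g', Prod.ext ?_ ?_⟩
    · exact (Submodule.Quotient.eq _).2 (by simp)
    · show p (y + s g') = g
      rw [map_add, show p (s g') = g - p y from hg', add_sub_cancel]
  · refine (injective_iff_map_eq_zero _).2 fun x hx => ?_
    obtain ⟨g, hg⟩ := (Submodule.Quotient.mk_eq_zero _).1 hx
    have h2 : p (s g) = 0 := by rw [hg]; exact x.2
    rw [show g = 0 from h.1 (h2.trans (map_zero _).symm), map_zero] at hg
    exact Subtype.ext hg.symm
  · intro y
    obtain ⟨y, rfl⟩ := Submodule.Quotient.mk_surjective _ y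
    obtain ⟨g', hg'⟩ := h.2 (-p y)
    refine ⟨⟨y + s g', ?_⟩, (Submodule.Quotient.eq _).2 (by simp)⟩
    show p (y + s g') = 0
    rw [map_add, show p (s g') = -p y from hg', add_neg_cancel]

/-- Base change of the cokernel of a matrix. -/
theorem nonempty_baseChange_coker {R C : Type u} [CommRing R] [CommRing C] [Algebra R C] {m n : ℕ}
    (S : Matrix (Fin m) (Fin n) R) :
    Nonempty (C ⊗[R] ((Fin m → R) ⧸ LinearMap.range (Matrix.toLin' S)) ≃ₗ[C]
      ((Fin m → C) ⧸ LinearMap.range (Matrix.toLin' (S.map (algebraMap R C))))) := by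
  classical
  let κ := fun (k : ℕ) => TensorProduct.piScalarRight R C C (Fin k)
  have hκ : ∀ k (c : C) (x : Fin k → R), κ k (c ⊗ₜ x) = fun i => algebraMap R C (x i) * c := fun k c x => funext fun i => by
    simp [κ, Algebra.smul_def]
  have hcomm : ∀ z, κ m (TensorProduct.AlgebraTensorModule.lTensor C C (Matrix.toLin' S) z) =
      Matrix.toLin' (S.map (algebraMap R C)) (κ n z) := fun z => by
    induction z using TensorProduct.induction_on with
    | zero => simp
    | add a b ha hb => simp only [map_add, ha, hb]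
    | tmul c x =>
      rw [TensorProduct.AlgebraTensorModule.lTensor_tmul, hκ, hκ]
      funext i
      simp [Matrix.mulVec, dotProduct, Finset.sum_mul, mul_assoc]
  let g : C ⊗[R] (Fin m → R) →ₗ[C] C ⊗[R] ((Fin m → R) ⧸ LinearMap.range (Matrix.toLin' S)) :=
    TensorProduct.AlgebraTensorModule.lTensor C C (LinearMap.range (Matrix.toLin' S)).mkQ
  have hexact := lTensor_exact C (f := Matrix.toLin' S) (g := (LinearMap.range (Matrix.toLin' S)).mkQ)
    (LinearMap.exact_map_mkQ_range _) (Submodule.mkQ_surjective _)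
  have hgs : Function.Surjective g := LinearMap.lTensor_surjective C (Submodule.mkQ_surjective _)
  have hk : (LinearMap.ker g).map (κ m).toLinearMap = LinearMap.range (Matrix.toLin' (S.map (algebraMap R C))) := by
    ext y
    constructor
    · rintro ⟨z, hz, rfl⟩
      obtain ⟨w, rfl⟩ := (hexact z).1 hz
      exact ⟨κ n w, (hcomm w).symm⟩
    · rintro ⟨w, rfl⟩
      obtain ⟨w, rfl⟩ := (κ n).surjective w
      exact ⟨_, (hexact _).2 ⟨w, rfl⟩, hcomm w⟩
  exact ⟨(LinearMap.quotKerEquivOfSurjective g hgs).symm ≪≫ₗ Submodule.Quotient.equiv _ _ (κ m) hk⟩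


/-- The instance A[1/t] → Â[1/t] for modules: let t lie in the Jacobson radical of A (a Zariski pair (A,
tA)) with bounded t-power torsion, Â the t-adic completion, and give Â[1/t] the A[1/t]-algebra
structure of the canonical map. Then finitely generated projective A[1/t]-modules isomorphic over
Â[1/t] are isomorphic, and every stably free Â[1/t]-module is extended from a stably free
A[1/t]-module. (The published statement also asserts injectivity on H¹ for inner forms of GL_n; this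
row omits that clause.) -/
theorem result (A : Type u) [CommRing A]
    (t : A) (ht : t ∈ (⊥ : Ideal A).jacobson)
    (hbd : ∃ N : ℕ, ∀ a : A, (∃ m : ℕ, t ^ m * a = 0) → t ^ N * a = 0)
    [Algebra (Localization.Away t) (Localization.Away (algebraMap A (AdicCompletion (Ideal.span {t}) A) t))]
    (halg : algebraMap (Localization.Away t) (Localization.Away (algebraMap A (AdicCompletion (Ideal.span {t}) A) t)) = Localization.awayMap (algebraMap A (AdicCompletion (Ideal.span {t}) A)) t) :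
    (∀ (M N : Type u) [AddCommGroup M] [Module (Localization.Away t) M] [Module.Finite (Localization.Away t) M] [Module.Projective (Localization.Away t) M]
        [AddCommGroup N] [Module (Localization.Away t) N] [Module.Finite (Localization.Away t) N] [Module.Projective (Localization.Away t) N],
        Nonempty ((Localization.Away (algebraMap A (AdicCompletion (Ideal.span {t}) A) t)) ⊗[Localization.Away t] M ≃ₗ[Localization.Away (algebraMap A (AdicCompletion (Ideal.span {t}) A) t)] (Localization.Away (algebraMap A (AdicCompletion (Ideal.span {t}) A) t)) ⊗[Localization.Away t] N) → Nonempty (M ≃ₗ[Localization.Away t] N)) ∧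
    (∀ (M' : Type u) [AddCommGroup M'] [Module (Localization.Away (algebraMap A (AdicCompletion (Ideal.span {t}) A) t)) M'] [Module.Finite (Localization.Away (algebraMap A (AdicCompletion (Ideal.span {t}) A) t)) M'],
        (∃ n m : ℕ, Nonempty ((M' × (Fin n → Localization.Away (algebraMap A (AdicCompletion (Ideal.span {t}) A) t))) ≃ₗ[Localization.Away (algebraMap A (AdicCompletion (Ideal.span {t}) A) t)] (Fin m → Localization.Away (algebraMap A (AdicCompletion (Ideal.span {t}) A) t)))) →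
        ∃ (M : Type u) (_ : AddCommGroup M) (_ : Module (Localization.Away t) M), Module.Finite (Localization.Away t) M ∧
          (∃ n m : ℕ, Nonempty ((M × (Fin n → Localization.Away t)) ≃ₗ[Localization.Away t] (Fin m → Localization.Away t))) ∧
          Nonempty ((Localization.Away (algebraMap A (AdicCompletion (Ideal.span {t}) A) t)) ⊗[Localization.Away t] M ≃ₗ[Localization.Away (algebraMap A (AdicCompletion (Ideal.span {t}) A) t)] M')) := by
  classical
  have hπ : algebraMap (Localization.Away t) (AwayApproxLib.Cl t) = AwayApproxLib.pi t := halg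
  refine ⟨?_, ?_⟩
  · intro M N _ _ _ _ _ _ _ _ ⟨α⟩
    obtain ⟨m, p, i, -, -, hpi⟩ := Module.Finite.exists_comp_eq_id_of_projective (Localization.Away t) M
    obtain ⟨n, q, j, -, -, hqj⟩ := Module.Finite.exists_comp_eq_id_of_projective (Localization.Away t) N
    let κ := fun (k : ℕ) => TensorProduct.piScalarRight (Localization.Away t) (AwayApproxLib.Cl t) (AwayApproxLib.Cl t) (Fin k)
    let mat : ∀ {a b : ℕ}, (AwayApproxLib.Cl t ⊗[Localization.Away t] (Fin a → Localization.Away t) →ₗ[AwayApproxLib.Cl t]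
        AwayApproxLib.Cl t ⊗[Localization.Away t] (Fin b → Localization.Away t)) → Matrix (Fin b) (Fin a) (AwayApproxLib.Cl t) :=
      fun {a b} f => LinearMap.toMatrix' ((κ b).toLinearMap ∘ₗ f ∘ₗ (κ a).symm.toLinearMap)
    have hmul : ∀ {a b c : ℕ} (f : AwayApproxLib.Cl t ⊗[Localization.Away t] (Fin b → Localization.Away t) →ₗ[AwayApproxLib.Cl t]
        AwayApproxLib.Cl t ⊗[Localization.Away t] (Fin c → Localization.Away t))
        (g : AwayApproxLib.Cl t ⊗[Localization.Away t] (Fin a → Localization.Away t) →ₗ[AwayApproxLib.Cl t]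
        AwayApproxLib.Cl t ⊗[Localization.Away t] (Fin b → Localization.Away t)), mat (f ∘ₗ g) = mat f * mat g := by
      intro a b c f g
      show LinearMap.toMatrix' _ = LinearMap.toMatrix' _ * LinearMap.toMatrix' _
      rw [← LinearMap.toMatrix'_comp]
      congr 1
      ext v
      simp
    have hbc : ∀ {a b : ℕ} (f : (Fin a → Localization.Away t) →ₗ[Localization.Away t] (Fin b → Localization.Away t)),
        mat (f.baseChange (AwayApproxLib.Cl t)) = (LinearMap.toMatrix' f).map (AwayApproxLib.pi t) := by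
      intro a b f
      ext r c
      show LinearMap.toMatrix' _ r c = _
      rw [LinearMap.toMatrix'_apply, Matrix.map_apply, LinearMap.toMatrix'_apply, ← hπ]
      have e : (κ a).symm (Pi.single c 1) =
          (1 : AwayApproxLib.Cl t) ⊗ₜ[Localization.Away t] (Pi.single c 1 : Fin a → Localization.Away t) := by
        rw [LinearEquiv.symm_apply_eq]
        funext j'
        simp [κ, Algebra.smul_def, Pi.single_apply]
      simp only [LinearMap.comp_apply, LinearEquiv.coe_coe]
      rw [e]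
      simp [κ, Algebra.smul_def]
    let pC := p.baseChange (AwayApproxLib.Cl t)
    let iC := i.baseChange (AwayApproxLib.Cl t)
    let qC := q.baseChange (AwayApproxLib.Cl t)
    let jC := j.baseChange (AwayApproxLib.Cl t)
    have hpiC : ∀ x, pC (iC x) = x := fun x => by
      rw [← LinearMap.comp_apply, ← LinearMap.baseChange_comp, hpi, LinearMap.baseChange_id]; rfl
    have hqjC : ∀ x, qC (jC x) = x := fun x => by
      rw [← LinearMap.comp_apply, ← LinearMap.baseChange_comp, hqj, LinearMap.baseChange_id]; rfl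
    have key1 : (i ∘ₗ p).baseChange (AwayApproxLib.Cl t) ∘ₗ (iC ∘ₗ α.symm.toLinearMap ∘ₗ qC) ∘ₗ
        (j ∘ₗ q).baseChange (AwayApproxLib.Cl t) ∘ₗ (jC ∘ₗ α.toLinearMap ∘ₗ pC) ∘ₗ
        (i ∘ₗ p).baseChange (AwayApproxLib.Cl t) = (i ∘ₗ p).baseChange (AwayApproxLib.Cl t) := by
      rw [LinearMap.baseChange_comp, LinearMap.baseChange_comp]
      refine LinearMap.ext fun x => ?_
      show iC (pC (iC (α.symm (qC (jC (qC (jC (α (pC (iC (pC x))))))))))) = iC (pC x)
      rw [hqjC, hqjC, hpiC, hpiC, α.symm_apply_apply]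
    have key2 : (j ∘ₗ q).baseChange (AwayApproxLib.Cl t) ∘ₗ (jC ∘ₗ α.toLinearMap ∘ₗ pC) ∘ₗ
        (i ∘ₗ p).baseChange (AwayApproxLib.Cl t) ∘ₗ (iC ∘ₗ α.symm.toLinearMap ∘ₗ qC) ∘ₗ
        (j ∘ₗ q).baseChange (AwayApproxLib.Cl t) = (j ∘ₗ q).baseChange (AwayApproxLib.Cl t) := by
      rw [LinearMap.baseChange_comp, LinearMap.baseChange_comp]
      refine LinearMap.ext fun x => ?_
      show jC (qC (jC (α (pC (iC (pC (iC (α.symm (qC (jC (qC x))))))))))) = jC (qC x)
      rw [hpiC, hpiC, hqjC, hqjC, α.apply_symm_apply]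
    obtain ⟨Φ₀, Ψ₀, hu₁, hu₂⟩ := AwayApproxLib.exists_pair t ht (LinearMap.toMatrix' (i ∘ₗ p))
      (LinearMap.toMatrix' (j ∘ₗ q)) (mat (jC ∘ₗ α.toLinearMap ∘ₗ pC)) (mat (iC ∘ₗ α.symm.toLinearMap ∘ₗ qC))
      (by rw [← hbc, ← hbc, ← hmul, ← hmul, ← hmul, ← hmul]
          exact congrArg mat (by simpa only [LinearMap.comp_assoc] using key1))
      (by rw [← hbc, ← hbc, ← hmul, ← hmul, ← hmul, ← hmul]
          exact congrArg mat (by simpa only [LinearMap.comp_assoc] using key2))
    let φ := q ∘ₗ Matrix.toLin' Φ₀ ∘ₗ i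
    let ψ := p ∘ₗ Matrix.toLin' Ψ₀ ∘ₗ j
    have hψφ : Function.Bijective (ψ ∘ₗ φ) := by
      refine bijective_of_isUnit i p (LinearMap.congr_fun hpi) _ ?_
      have e : i ∘ₗ (ψ ∘ₗ φ) ∘ₗ p = (i ∘ₗ p) ∘ₗ Matrix.toLin' Ψ₀ ∘ₗ (j ∘ₗ q) ∘ₗ Matrix.toLin' Φ₀ ∘ₗ (i ∘ₗ p) := rfl
      rw [e, map_add, map_sub, LinearMap.toMatrix'_id]
      simp only [LinearMap.toMatrix'_comp, LinearMap.toMatrix'_toLin'] at hu₁ ⊢
      simpa only [Matrix.mul_assoc] using hu₁
    have hφψ : Function.Bijective (φ ∘ₗ ψ) := by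
      refine bijective_of_isUnit j q (LinearMap.congr_fun hqj) _ ?_
      have e : j ∘ₗ (φ ∘ₗ ψ) ∘ₗ q = (j ∘ₗ q) ∘ₗ Matrix.toLin' Φ₀ ∘ₗ (i ∘ₗ p) ∘ₗ Matrix.toLin' Ψ₀ ∘ₗ (j ∘ₗ q) := rfl
      rw [e, map_add, map_sub, LinearMap.toMatrix'_id]
      simp only [LinearMap.toMatrix'_comp, LinearMap.toMatrix'_toLin'] at hu₂ ⊢
      simpa only [Matrix.mul_assoc] using hu₂
    exact ⟨LinearEquiv.ofBijective φ ⟨fun x y h => hψφ.1 (congrArg ψ h), fun y => by
      obtain ⟨x, hx⟩ := hφψ.2 y
      exact ⟨ψ x, hx⟩⟩⟩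
  · intro M' _ _ _ ⟨n, m, ⟨e⟩⟩
    let s : (Fin n → AwayApproxLib.Cl t) →ₗ[AwayApproxLib.Cl t] (Fin m → AwayApproxLib.Cl t) :=
      e.toLinearMap ∘ₗ LinearMap.inr (AwayApproxLib.Cl t) M' _
    let p : (Fin m → AwayApproxLib.Cl t) →ₗ[AwayApproxLib.Cl t] (Fin n → AwayApproxLib.Cl t) :=
      LinearMap.snd (AwayApproxLib.Cl t) M' _ ∘ₗ e.symm.toLinearMap
    have hps : p ∘ₗ s = LinearMap.id := LinearMap.ext fun x => by
      show (e.symm (e ((0 : M'), x))).2 = x
      rw [e.symm_apply_apply]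
    obtain ⟨P₀, S₀, hPS₀, hPS⟩ := AwayApproxLib.exists_split t ht (LinearMap.toMatrix' p) (LinearMap.toMatrix' s)
      (by rw [← LinearMap.toMatrix'_comp, hps, LinearMap.toMatrix'_id])
    have hbij : ∀ {R : Type u} [CommRing R] (P : Matrix (Fin n) (Fin m) R) (S : Matrix (Fin m) (Fin n) R),
        IsUnit (P * S) → Function.Bijective (Matrix.toLin' P ∘ₗ Matrix.toLin' S) := by
      intro R _ P S hu
      rw [← Matrix.toLin'_mul]
      obtain ⟨u, hu⟩ := hu
      refine Function.bijective_iff_has_inverse.2 ⟨Matrix.toLin' (↑u⁻¹ : Matrix (Fin n) (Fin n) R), fun x => ?_, fun x => ?_⟩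
      · rw [← LinearMap.comp_apply, ← Matrix.toLin'_mul, ← hu, Units.inv_mul, Matrix.toLin'_one, LinearMap.id_apply]
      · rw [← LinearMap.comp_apply, ← Matrix.toLin'_mul, ← hu, Units.mul_inv, Matrix.toLin'_one, LinearMap.id_apply]
    let M := (Fin m → Localization.Away t) ⧸ LinearMap.range (Matrix.toLin' S₀)
    obtain ⟨⟨e₀⟩, -⟩ := exists_equivs _ _ (hbij P₀ S₀ hPS₀)
    obtain ⟨-, ⟨e₁⟩⟩ := exists_equivs _ _ (hbij _ _ hPS)
    obtain ⟨e₂⟩ := nonempty_baseChange_coker (C := AwayApproxLib.Cl t) S₀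
    rw [hπ] at e₂
    let c : M' →ₗ[AwayApproxLib.Cl t] LinearMap.ker (Matrix.toLin' (LinearMap.toMatrix' p)) :=
      (e.toLinearMap ∘ₗ LinearMap.inl (AwayApproxLib.Cl t) M' _).codRestrict _ fun x => by
        rw [LinearMap.mem_ker, Matrix.toLin'_toMatrix']
        show (e.symm (e (x, 0))).2 = 0
        rw [e.symm_apply_apply]
    have hc : Function.Bijective c := by
      refine ⟨fun x y h => congrArg Prod.fst (e.injective (congrArg Subtype.val h)), fun z => ?_⟩
      have hz : p z.1 = 0 :=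
        (LinearMap.congr_fun (Matrix.toLin'_toMatrix' p) z.1).symm.trans z.2
      refine ⟨(e.symm z.1).1, Subtype.ext ?_⟩
      show e ((e.symm z.1).1, 0) = z.1
      rw [show ((e.symm z.1).1, (0 : Fin n → AwayApproxLib.Cl t)) = e.symm z.1 from Prod.ext rfl hz.symm, e.apply_symm_apply]
    exact ⟨M, inferInstance, inferInstance, inferInstance, ⟨n, m, ⟨e₀.symm⟩⟩,
      ⟨e₂ ≪≫ₗ e₁.symm ≪≫ₗ (LinearEquiv.ofBijective c hc).symm⟩⟩

end Groth.Agent.S15778
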