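import Groth.Statements.S1578
import Groth.Agent.AssPointLib.Tilde
-- import your own Groth.Agent.* helpers here

set_option autoImplicit false
universe u
open CategoryTheory CategoryTheory.Limits AlgebraicGeometry
open Divisors

namespace Groth.Agent.S1578

/-- Let M be a module over a ring A, F the associated quasi-coherent module on Spec A, and p a prime of
A. If p is an associated prime of M then p is an associated point of F; the converse holds when p is
finitely generated. -/
theorem result (A : CommRingCat.{u}) (M : ModuleCat.{u} A)
    (p : Spec A) :
    (p.asIdeal ∈ associatedPrimes A M → Curv2.IsAssPoint (tilde M) p) ∧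
    (p.asIdeal.FG → Curv2.IsAssPoint (tilde M) p → p.asIdeal ∈ associatedPrimes A M) := by
  simp only [AssPointLib.assPoint_iff_weak, AssPointLib.weak_tilde]
  refine ⟨fun h => ?_, fun hfg h => ?_⟩
  · obtain ⟨m, hm⟩ := AssPointLib.minimal_of_isAssociatedPrime h
    exact ⟨m, by rwa [← AssPointLib.ann_eq_annihilator_span]⟩
  · obtain ⟨m, hm⟩ := h
    exact AssPointLib.isAssociatedPrime_of_fg hfg (m := m) (by rwa [AssPointLib.ann_eq_annihilator_span])

end Groth.Agent.S1578
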