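import Groth.Statements.S15789
import Groth.Agent.WildASLib.Local
import Groth.Agent.WildASLib.Auts

set_option autoImplicit false
universe u
open WildQuot

namespace Groth.Agent.S15789

open MvPolynomial in
/-- Let `k` be a field of characteristic `p > 0`, `n ≥ 2`, `R = k[[x_1, …, x_n]]`, `a_1, …, a_n ∈ R`
nonzero with zero constant term, and `A = R[u_1, …, u_n] / (u_i ^ p - a_i ^ (p-1) u_i - x_i : i =
1..n)`. Then the group of `R`-algebra automorphisms of `A` has exactly `p ^ n` elements, is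
commutative and every element has `p`-th power the identity (it is the elementary abelian group
generated by the substitutions `u_i ↦ u_i + a_i`), and an element of `A` is fixed by every
`R`-algebra automorphism if and only if it comes from `R`. (The published statement says that
`Frac(A)/Frac(R)` is Galois with group `(ℤ/pℤ)^n` and `R = A^H`; this row states it through the
`R`-algebra automorphisms of `A`.) -/
theorem result
    (p : ℕ) [Fact p.Prime] (k : Type u) [Field k] [CharP k p] (n : ℕ) (hn : 2 ≤ n)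
    (a : Fin n → MvPowerSeries (Fin n) k)
    (ha0 : ∀ i, a i ≠ 0) (ham : ∀ i, MvPowerSeries.constantCoeff (a i) = 0) :
    let R := MvPowerSeries (Fin n) k
    let I : Ideal (MvPolynomial (Fin n) R) :=
      Ideal.span (Set.range fun i : Fin n =>
        X i ^ p - C (a i ^ (p - 1)) * X i - C (MvPowerSeries.X i))
    Nat.card ((MvPolynomial (Fin n) R ⧸ I) ≃ₐ[R] (MvPolynomial (Fin n) R ⧸ I)) = p ^ n ∧
      (∀ σ τ : (MvPolynomial (Fin n) R ⧸ I) ≃ₐ[R] (MvPolynomial (Fin n) R ⧸ I), σ * τ = τ * σ) ∧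
      (∀ σ : (MvPolynomial (Fin n) R ⧸ I) ≃ₐ[R] (MvPolynomial (Fin n) R ⧸ I), σ ^ p = 1) ∧
      (∀ b : MvPolynomial (Fin n) R ⧸ I,
        (∀ σ : (MvPolynomial (Fin n) R ⧸ I) ≃ₐ[R] (MvPolynomial (Fin n) R ⧸ I), σ b = b) ↔
          b ∈ Set.range (algebraMap R (MvPolynomial (Fin n) R ⧸ I))) := by
  intro R I
  haveI : CharP R p := charP_of_injective_ringHom (MvPowerSeries.C_injective (σ := Fin n)) p
  haveI : IsDomain (MvPowerSeries (Fin n) k) := NoZeroDivisors.to_isDomain _
  haveI : IsDomain R := inferInstanceAs (IsDomain (MvPowerSeries (Fin n) k))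
  haveI : IsDomain (WildASLib.Fam p k n a) := WildASLib.isDomain ham
  refine ⟨(WildASLib.card_algEquiv ha0).trans (by rw [Fintype.card_fin]), fun σ τ => ?_, fun σ => ?_,
    fun b => ⟨fun hb => ?_, ?_⟩⟩
  · obtain ⟨ν, rfl⟩ := WildASLib.exists_eq_trEquiv ha0 σ
    obtain ⟨μ, rfl⟩ := WildASLib.exists_eq_trEquiv ha0 τ
    refine AlgEquiv.ext fun x => ?_
    show WildASLib.tr ν (WildASLib.tr μ x) = WildASLib.tr μ (WildASLib.tr ν x)
    rw [← AlgHom.comp_apply, ← WildASLib.tr_add, add_comm, WildASLib.tr_add, AlgHom.comp_apply]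
  · obtain ⟨ν, rfl⟩ := WildASLib.exists_eq_trEquiv ha0 σ
    rw [WildASLib.trEquiv_pow]
    refine AlgEquiv.ext fun x => ?_
    rw [show p • ν = 0 by funext i; simp, WildASLib.trEquiv_apply, WildASLib.tr_zero]
    rfl
  · classical
    refine ⟨(WildASLib.basis (p := p)).repr b fun _ => ⟨0, (Fact.out : p.Prime).pos⟩, ?_⟩
    conv_rhs => rw [← (WildASLib.basis (p := p)).sum_repr b]
    rw [Finset.sum_eq_single (fun _ => (⟨0, (Fact.out : p.Prime).pos⟩ : Fin p)), WildASLib.smul_eq]
    · simp [WildASLib.mon]; rfl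
    · intro e _ he
      obtain ⟨i, hi⟩ : ∃ i, (e i : ℕ) ≠ 0 := by
        by_contra h
        push Not at h
        exact he (funext fun i => Fin.ext (h i))
      rw [WildASLib.repr_eq_zero_of_fixed (ha0 i) (WildASLib.tr (Pi.single i 1)) (by simp)
        (fun j hj => by simp [hj]) (hb (WildASLib.trEquiv (Pi.single i 1))) hi]
      exact zero_smul R _
    · simp
  · rintro ⟨r, rfl⟩ σ
    exact σ.commutes r

end Groth.Agent.S15789
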