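import Groth.Statements.S15799
import Mathlib
import Groth.Agent.S15801
import Groth.Agent.PurityLib.Inertia
import Groth.Agent.PurityLib.PSExt
import Groth.Agent.CohenLib.FSRegular
-- import your own Groth.Agent.* helpers here

set_option autoImplicit false
universe u v w
open WildQuot

namespace Groth.Agent.S15799

/-- Let `A` be a complete regular local ring of Krull dimension `n ≥ 2` and prime characteristic `p`,
`k` a field with `k → A` mapping onto the residue field, and `G` a group of order `p` acting on `A`
by `k`-algebra automorphisms, ramified precisely at the origin (for every non-maximal prime `P`, the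
inertia subgroup of `P` (the elements of `G` fixing every element modulo `P`) is trivial). Let `u_1,
…, u_n` be an admissible regular system of parameters (for every choice `σ_1, …, σ_n ∈ G`, the
elements `σ_i u_i` generate the maximal ideal) and let `φ : k[[X_1, …, X_n]] → A` be the `k`-algebra
map with `φ X_i = x_i = ∏_{σ} σ u_i`, whose image is the norm subring `R`. Then `Frac(A^G)` is not
purely inseparable over `Frac(R)`; equivalently (as `A` is integral over the integrally closed `R`),
some `G`-invariant `y ∈ A` has no iterated `p`-th power `y ^ (p ^ e)` in `R`. -/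
theorem result
    (p : ℕ) [Fact p.Prime] (A : Type u) [CommRing A] [IsRegularLocalRing A] [CharP A p]
    [IsAdicComplete (IsLocalRing.maximalIdeal A) A] (n : ℕ) (hn : ringKrullDim A = n) (h2 : 2 ≤ n)
    (k : Type v) [Field k] [Algebra k A]
    (hk : Function.Surjective (IsLocalRing.residue A ∘ algebraMap k A))
    (G : Type w) [Group G] [Fintype G] [MulSemiringAction G A] (hcard : Fintype.card G = p)
    [SMulCommClass G k A]
    (hram : ∀ P : Ideal A, P.IsPrime → P ≠ IsLocalRing.maximalIdeal A → P.inertia G = ⊥)
    (u : Fin n → A)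
    (hu : ∀ τ : Fin n → G,
      Ideal.span (Set.range fun i => τ i • u i) = IsLocalRing.maximalIdeal A)
    (φ : MvPowerSeries (Fin n) k →ₐ[k] A) (hφ : ∀ i, φ (MvPowerSeries.X i) = ∏ σ : G, σ • u i) :
    ∃ y : A, (∀ σ : G, σ • y = y) ∧ ∀ e : ℕ, y ^ p ^ e ∉ Set.range φ := by
  classical
  by_contra hcon
  push Not at hcon
  let R := MvPowerSeries (Fin n) k
  haveI : IsRegularLocalRing R := CohenLib.isRegularLocalRing_mvPowerSeries k n
  haveI : IsDomain R := CommAlgDim.isDomain_of_isRegularLocalRing R
  haveI : IsIntegrallyClosed R := NormalLib.isIntegrallyClosed_of_isRegularLocalRing R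
  haveI : IsDomain A := CommAlgDim.isDomain_of_isRegularLocalRing A
  haveI : IsIntegrallyClosed A := NormalLib.isIntegrallyClosed_of_isRegularLocalRing A
  have hx : (Ideal.span (Set.range fun i => ∏ σ : G, σ • u i)).radical = IsLocalRing.maximalIdeal A := by
    refine le_antisymm ?_ ?_
    · refine ((IsLocalRing.maximalIdeal.isMaximal A).isPrime.radical_le_iff).2 (Ideal.span_le.2 ?_)
      rintro _ ⟨i, rfl⟩
      refine Ideal.prod_mem (I := IsLocalRing.maximalIdeal A) (i := 1) (Finset.mem_univ _) ?_
      rw [← hu fun _ => 1]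
      exact Ideal.subset_span ⟨i, rfl⟩
    · rw [Ideal.radical_eq_sInf]
      refine le_sInf fun P ⟨hle, hP⟩ => ?_
      haveI := hP
      have : ∀ i, ∃ σ : G, σ • u i ∈ P := fun i => by
        obtain ⟨σ, -, hσ⟩ := Ideal.IsPrime.prod_mem_iff.1 (hle (Ideal.subset_span ⟨i, rfl⟩))
        exact ⟨σ, hσ⟩
      choose τ hτ using this
      rw [← hu τ, Ideal.span_le]
      rintro _ ⟨i, rfl⟩
      exact hτ i
  obtain ⟨d, b, -, hb⟩ := Groth.Agent.S15801.result A n hn k hk (fun i => ∏ σ : G, σ • u i) hx φ hφ
  letI : Algebra R A := φ.toRingHom.toAlgebra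
  haveI : Module.Finite R A := by
    refine ⟨⟨Finset.univ.image b, eq_top_iff.2 fun a _ => ?_⟩⟩
    obtain ⟨r, rfl⟩ := hb.2 a
    exact sum_mem fun i _ => by
      rw [show φ (r i) * b i = r i • b i from (Algebra.smul_def (r i) (b i)).symm]
      exact Submodule.smul_mem _ _ (Submodule.subset_span (Finset.mem_coe.2 (Finset.mem_image_of_mem b (Finset.mem_univ i))))
  have hφinj : Function.Injective φ := by
    rcases d with _ | d
    · exfalso
      obtain ⟨r, hr⟩ := hb.2 1
      simp at hr
    refine (injective_iff_map_eq_zero φ).2 fun r hr => ?_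
    have h1 : (fun i => if i = 0 then r else 0 : Fin (d + 1) → R) = 0 := hb.1 (by
      show ∑ i, φ (if i = 0 then r else 0) * b i = ∑ i, φ ((0 : Fin (d + 1) → R) i) * b i
      simp [apply_ite φ, hr])
    simpa using congrFun h1 0
  have hRfix : ∀ (σ : G) (r : R), σ • algebraMap R A r = algebraMap R A r := by
    intro σ r
    have hm : ∀ i, φ (MvPowerSeries.X i) ∈ IsLocalRing.maximalIdeal A := fun i => by
      rw [hφ]
      refine Ideal.prod_mem (I := IsLocalRing.maximalIdeal A) (i := 1) (Finset.mem_univ _) ?_
      rw [← hu fun _ => 1]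
      exact Ideal.subset_span ⟨i, rfl⟩
    have hσX : ∀ i, σ • φ (MvPowerSeries.X i) = φ (MvPowerSeries.X i) := fun i => by
      rw [hφ, Finset.smul_prod']
      exact Fintype.prod_equiv (Equiv.mulLeft σ) _ _ fun τ => by rw [smul_smul]; rfl
    refine RingHom.congr_fun (PurityLib.psHom_ext (IsLocalRing.maximalIdeal A)
      ((MulSemiringAction.toRingHom G A σ).comp φ.toRingHom) φ.toRingHom (fun c => ?_) hσX
      fun i => (congrArg (· ∈ IsLocalRing.maximalIdeal A) (hσX i)).mpr (hm i)) r
    show σ • φ (algebraMap k R c) = φ (algebraMap k R c)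
    rw [φ.commutes, smul_algebraMap]
  haveI : FaithfulSMul R A := (faithfulSMul_iff_algebraMap_injective R A).2 hφinj
  let K := FractionRing R
  let L := FractionRing A
  letI : Algebra K L := FractionRing.liftAlgebra R L
  haveI : IsScalarTower R K L := FractionRing.isScalarTower_liftAlgebra R L
  haveI : FiniteDimensional K L := Module.Finite.of_isLocalization R A (nonZeroDivisors R)
  haveI : CharP L p := charP_of_injective_algebraMap (IsFractionRing.injective A L) p
  let D : Subalgebra R A :=
    { carrier := {a | algebraMap A L a ∈ separableClosure K L}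
      mul_mem' := fun {a b} ha hb => by simpa using mul_mem ha hb
      add_mem' := fun {a b} ha hb => by simpa using add_mem ha hb
      algebraMap_mem' := fun r => by
        show algebraMap A L (algebraMap R A r) ∈ separableClosure K L
        rw [← IsScalarTower.algebraMap_apply R A L, IsScalarTower.algebraMap_apply R K L]
        exact IntermediateField.algebraMap_mem _ _ }
  have hD : ∀ a : A, a ∈ D ↔ IsSeparable K (algebraMap A L a) := fun a => Iff.rfl
  let act : G → (A ≃ₐ[R] A) := fun g =>
    AlgEquiv.ofRingEquiv (f := MulSemiringAction.toRingEquiv G A g) fun r => hRfix g r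
  have hstab : ∀ (g : G) (a : A), a ∈ D → g • a ∈ D := fun g a ha => by
    rw [hD] at ha ⊢
    have he := IsFractionRing.fieldEquivOfAlgEquiv_algebraMap K L L (act g) a
    show IsSeparable K (algebraMap A L (act g a))
    rw [← he, IsSeparable, minpoly.algEquiv_eq]
    exact ha
  letI : MulSemiringAction G D :=
    { smul := fun g a => ⟨g • (a : A), hstab g a a.2⟩
      one_smul := fun a => Subtype.ext (one_smul G (a : A))
      mul_smul := fun g h a => Subtype.ext (mul_smul g h (a : A))
      smul_zero := fun g => Subtype.ext (smul_zero g)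
      smul_add := fun g a b => Subtype.ext (smul_add g (a : A) b)
      smul_one := fun g => Subtype.ext (smul_one g)
      smul_mul := fun g a b => Subtype.ext (smul_mul' g (a : A) b) }
  haveI : SMulCommClass G R D := ⟨fun g r a => Subtype.ext (by
    show g • (r • (a : A)) = r • g • (a : A)
    rw [Algebra.smul_def, Algebra.smul_def, smul_mul', hRfix])⟩
  -- every element has a power in `D`
  have hpow : ∀ a : A, ∃ e : ℕ, a ^ p ^ e ∈ D := fun a => by
    obtain ⟨e, he⟩ := IsPurelyInseparable.pow_mem (separableClosure K L) p (algebraMap A L a)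
    obtain ⟨y, hy⟩ := he
    refine ⟨e, ?_⟩
    show algebraMap A L (a ^ p ^ e) ∈ separableClosure K L
    rw [map_pow, ← hy]
    exact y.2
  have hfaith : ∀ g : G, (∀ a : A, a ∈ D → g • a = a) → g = 1 := fun g hg => by
    have h1 : g ∈ (⊥ : Ideal A).inertia G := fun a => by
      obtain ⟨e, he⟩ := hpow a
      have h2 := hg _ he
      rw [smul_pow'] at h2
      have h3 : (g • a - a) ^ p ^ e = 0 := by rw [sub_pow_char_pow, h2, sub_self]
      exact Ideal.mem_bot.2 (eq_zero_of_pow_eq_zero h3)
    have hne : (⊥ : Ideal A) ≠ IsLocalRing.maximalIdeal A := fun h => by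
      have h4 := IsLocalRing.maximalIdeal_height_eq_ringKrullDim (R := A)
      rw [← h, Ideal.height_bot, hn] at h4
      have : (0 : ℕ) = n := by exact_mod_cast h4
      omega
    rwa [hram ⊥ Ideal.isPrime_bot hne, Subgroup.mem_bot] at h1
  haveI : FaithfulSMul G D := ⟨fun {g h} hgh => by
    have := hfaith (h⁻¹ * g) fun a ha => by
      rw [mul_smul, show g • a = h • a from congrArg Subtype.val (hgh ⟨a, ha⟩), inv_smul_smul]
    exact (inv_mul_eq_one.1 this).symm⟩
  haveI : Module.Finite R D := Module.Finite.of_injective D.val.toLinearMap Subtype.val_injective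
  haveI : Algebra.IsIntegral D A := Algebra.IsIntegral.tower_top R
  haveI : IsLocalRing D := IsLocalRing.of_unique_max_ideal ⟨(IsLocalRing.maximalIdeal A).comap (algebraMap D A),
    Ideal.isMaximal_comap_of_isIntegral_of_isMaximal (R := D) (IsLocalRing.maximalIdeal A), fun M hM => by
      obtain ⟨P, -, hP, hPM⟩ := Ideal.exists_ideal_over_prime_of_isIntegral (S := A) M ⊥ (by
        rw [← RingHom.ker_eq_comap_bot, show RingHom.ker (algebraMap D A) = ⊥ from
          (RingHom.injective_iff_ker_eq_bot _).1 Subtype.val_injective]; exact bot_le)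
      haveI := hP
      haveI : P.IsMaximal := Ideal.isMaximal_of_isIntegral_of_isMaximal_comap P (hPM.symm ▸ hM)
      rw [← hPM, IsLocalRing.eq_maximalIdeal this]⟩
  haveI : IsIntegrallyClosed D := PurityLib.isIntegrallyClosed_of_saturated D.val.toRingHom Subtype.val_injective
    fun x y a hy h => by
      refine ⟨⟨a, ?_⟩, rfl⟩
      show algebraMap A L a ∈ separableClosure K L
      have hy0 : algebraMap A L (y : A) ≠ 0 :=
        (map_ne_zero_iff _ (IsFractionRing.injective A L)).2 fun h0 => hy (Subtype.ext h0)
      rw [show algebraMap A L a = algebraMap A L (x : A) / algebraMap A L (y : A) from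
        (eq_div_iff hy0).2 (by rw [← map_mul]; exact congrArg _ h)]
      exact div_mem x.2 y.2
  have hres : Function.Surjective (IsLocalRing.residue D ∘ algebraMap R D) := fun z => by
    obtain ⟨a, rfl⟩ := IsLocalRing.residue_surjective z
    obtain ⟨c, hc⟩ := hk (IsLocalRing.residue A (a : A))
    refine ⟨algebraMap k R c, (Ideal.Quotient.eq (I := IsLocalRing.maximalIdeal D)).2 ?_⟩
    have hmD : (IsLocalRing.maximalIdeal A).comap (algebraMap D A) = IsLocalRing.maximalIdeal D :=
      IsLocalRing.eq_maximalIdeal (Ideal.isMaximal_comap_of_isIntegral_of_isMaximal (R := D) (IsLocalRing.maximalIdeal A))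
    rw [← hmD, Ideal.mem_comap, map_sub]
    have hc' : algebraMap R A (algebraMap k R c) = algebraMap k A c := φ.commutes c
    show algebraMap R A (algebraMap k R c) - (a : A) ∈ _
    rw [hc']
    exact (Ideal.Quotient.eq (I := IsLocalRing.maximalIdeal A)).1 hc
  have hfix : ∀ a : D, (∀ g : G, g • a = a) → a ∈ Set.range (algebraMap R D) := fun a ha => by
    obtain ⟨e, r, hr⟩ := hcon (a : A) fun g => congrArg Subtype.val (ha g)
    have h1 : algebraMap A L (a : A) ^ p ^ e = algebraMap K L (algebraMap R K r) := by
      rw [← map_pow, ← hr, ← IsScalarTower.algebraMap_apply R K L, IsScalarTower.algebraMap_apply R A L]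
      rfl
    obtain ⟨z, hz⟩ : ∃ z : K, algebraMap K L z = algebraMap A L (a : A) := by
      haveI : CharP K p := (RingHom.charP_iff (algebraMap K L) (algebraMap K L).injective p).2 inferInstance
      haveI := ExpChar.prime (R := K) (q := p) (Fact.out : p.Prime)
      have h2 : algebraMap A L (a : A) ∈ (⊥ : IntermediateField K L) := by
        refine IntermediateField.adjoin_simple_eq_bot_iff.1 ?_
        rw [IntermediateField.adjoin_simple_eq_adjoin_pow_expChar_pow_of_isSeparable K L a.2 p e, h1]
        exact IntermediateField.adjoin_simple_eq_bot_iff.2 (IntermediateField.algebraMap_mem _ _)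
      exact IntermediateField.mem_bot.1 h2
    have hzint : IsIntegral R z := (isIntegral_algHom_iff (IsScalarTower.toAlgHom R K L)
      (algebraMap K L).injective).1 (by
        rw [IsScalarTower.coe_toAlgHom', hz]
        exact (Algebra.IsIntegral.isIntegral (a : A)).map (IsScalarTower.toAlgHom R A L))
    obtain ⟨s, rfl⟩ := IsIntegrallyClosed.isIntegral_iff.1 hzint
    refine ⟨s, Subtype.ext (IsFractionRing.injective A L ?_)⟩
    rw [← hz, ← IsScalarTower.algebraMap_apply R K L, IsScalarTower.algebraMap_apply R A L]
    rfl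
  have htop := PurityLib.eq_top_of_inertia_le R D (fun r r' h => hφinj (congrArg Subtype.val h)) hres G hfix ⊥ fun Q hQ hQ1 => by
    haveI := hQ
    intro g hg
    obtain ⟨P, -, hP, hPQ⟩ := Ideal.exists_ideal_over_prime_of_isIntegral (S := A) Q ⊥ (by
      rw [← RingHom.ker_eq_comap_bot, show RingHom.ker (algebraMap D A) = ⊥ from
        (RingHom.injective_iff_ker_eq_bot _).1 Subtype.val_injective]; exact bot_le)
    haveI := hP
    have hPm : P ≠ IsLocalRing.maximalIdeal A := by
      rintro rfl
      have hQm : Q = IsLocalRing.maximalIdeal D := hPQ ▸ IsLocalRing.eq_maximalIdeal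
        (Ideal.isMaximal_comap_of_isIntegral_of_isMaximal (R := D) (IsLocalRing.maximalIdeal A))
      have h3 : ringKrullDim A ≤ ringKrullDim D := CohenLib.ringKrullDim_le_of_isIntegral D A
      rw [← IsLocalRing.maximalIdeal_height_eq_ringKrullDim (R := D), ← hQm, hQ1, hn] at h3
      have : n ≤ 1 := by exact_mod_cast h3
      omega
    rw [← hram P hP hPm]
    intro a
    obtain ⟨e, he⟩ := hpow a
    refine (inferInstance : P.IsPrime).mem_of_pow_mem (p ^ e) ?_
    rw [sub_pow_char_pow, ← smul_pow']
    exact (hPQ.symm ▸ hg ⟨a ^ p ^ e, he⟩ : (g • (⟨a ^ p ^ e, he⟩ : D) - ⟨a ^ p ^ e, he⟩) ∈ P.comap (algebraMap D A))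
  have hc1 : Nat.card G = 1 := by
    rw [← Subgroup.card_top, ← htop, Subgroup.card_bot]
  rw [Nat.card_eq_fintype_card, hcard] at hc1
  exact (Fact.out : p.Prime).one_lt.ne' hc1

end Groth.Agent.S15799
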