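import Groth.Statements.S15800
import Mathlib
import Groth.Agent.PurityLib.Extension
-- import your own Groth.Agent.* helpers here

set_option autoImplicit false
universe u v w
open WildQuot

namespace Groth.Agent.S15800

/-- Let `A` be a complete regular local ring of Krull dimension at least `2` and prime characteristic
`p`; let `k` be a field with `k → A` mapping onto the residue field, such that `k` has no Galois
extension of degree `p`; let `G` be a group of order `p` acting on `A` by `k`-algebra automorphisms,
ramified precisely at the origin (for every non-maximal prime `P`, the inertia subgroup of `P` (the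
elements of `G` fixing every element modulo `P`) is trivial). Then every `k`-algebra automorphism of
the ring of invariants `A^G` is the restriction of a `k`-algebra automorphism of `A`. (The published
statement also asserts that when `A^G` contains a subring `R` with `A^G` finite over `R` and
`Frac(A^G)/Frac(R)` Galois, then `Frac(A)/Frac(R)` is Galois; this row omits that clause.) -/
theorem result
    (p : ℕ) [Fact p.Prime] (A : Type u) [CommRing A] [IsRegularLocalRing A] [CharP A p]
    [IsAdicComplete (IsLocalRing.maximalIdeal A) A] (hdim : 2 ≤ ringKrullDim A)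
    (k : Type v) [Field k] [Algebra k A]
    (hk : Function.Surjective (IsLocalRing.residue A ∘ algebraMap k A))
    (hkp : ∀ (L : Type v) [Field L] [Algebra k L], IsGalois k L → Module.finrank k L ≠ p)
    (G : Type w) [Group G] [Finite G] [MulSemiringAction G A] (hcard : Nat.card G = p)
    [SMulCommClass G k A]
    (hram : ∀ P : Ideal A, P.IsPrime → P ≠ IsLocalRing.maximalIdeal A → P.inertia G = ⊥)
    (φ : FixedPoints.subalgebra k A G ≃ₐ[k] FixedPoints.subalgebra k A G) :
    ∃ ψ : A ≃ₐ[k] A, ∀ x : FixedPoints.subalgebra k A G, ψ x = φ x := by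
  let k₀ := IsLocalRing.ResidueField A
  let f : FixedPoints.subring A G ≃+* FixedPoints.subring A G :=
    { toFun := fun b => ⟨(φ ⟨b.1, b.2⟩ : A), (φ ⟨b.1, b.2⟩).2⟩
      invFun := fun b => ⟨(φ.symm ⟨b.1, b.2⟩ : A), (φ.symm ⟨b.1, b.2⟩).2⟩
      left_inv := fun b => Subtype.ext (congrArg Subtype.val (φ.symm_apply_apply ⟨b.1, b.2⟩))
      right_inv := fun b => Subtype.ext (congrArg Subtype.val (φ.apply_symm_apply ⟨b.1, b.2⟩))
      map_mul' := fun a b => Subtype.ext (congrArg Subtype.val (map_mul φ ⟨a.1, a.2⟩ ⟨b.1, b.2⟩))
      map_add' := fun a b => Subtype.ext (congrArg Subtype.val (map_add φ ⟨a.1, a.2⟩ ⟨b.1, b.2⟩)) }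
  obtain ⟨ψ, hψ⟩ := PurityLib.exists_auto_extend hdim (by rw [hcard]; exact Fact.out) hram
    (fun l _ _ hl hdeg => by
      letI : Algebra k l := ((algebraMap k₀ l).comp ((IsLocalRing.residue A).comp (algebraMap k A))).toAlgebra
      haveI : IsScalarTower k k₀ l := IsScalarTower.of_algebraMap_eq fun _ => rfl
      have hb : Function.Bijective (algebraMap k k₀) := ⟨(algebraMap k k₀).injective, hk⟩
      have hrank : Module.finrank k l = Nat.card G := by
        rw [← Module.finrank_mul_finrank k k₀ l, ← (AlgEquiv.ofBijective (Algebra.ofId k k₀) hb).toLinearEquiv.finrank_eq,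
          Module.finrank_self, one_mul, hdeg]
      haveI : FiniteDimensional k l := Module.finite_of_finrank_pos (by rw [hrank, hcard]; exact Nat.Prime.pos Fact.out)
      haveI : FiniteDimensional k₀ l := Module.finite_of_finrank_pos (by rw [hdeg, hcard]; exact Nat.Prime.pos Fact.out)
      haveI : IsGalois k l := by
        refine IsGalois.of_card_aut_eq_finrank k l ?_
        rw [hrank, ← hdeg, ← IsGalois.card_aut_eq_finrank k₀ l]
        refine Nat.card_congr
          { toFun := fun σ => AlgEquiv.ofRingEquiv (f := σ.toRingEquiv) fun c => ?_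
            invFun := fun σ => σ.restrictScalars k
            left_inv := fun σ => rfl
            right_inv := fun σ => rfl }
        obtain ⟨c, rfl⟩ := hb.2 c
        exact (σ.commutes c)
      let b := Module.finBasis k l
      haveI : Small.{v} l := small_of_injective b.equivFun.injective
      haveI : IsGalois k (Shrink.{v} l) := IsGalois.of_algEquiv (Shrink.algEquiv k l).symm
      refine hkp (Shrink.{v} l) inferInstance ?_
      rw [(Shrink.algEquiv k l).toLinearEquiv.finrank_eq, hrank, hcard]) f
  refine ⟨AlgEquiv.ofRingEquiv (f := ψ) fun c => ?_, fun x => hψ ⟨x.1, x.2⟩⟩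
  have h1 := hψ ⟨algebraMap k A c, fun g => smul_algebraMap g c⟩
  rw [h1]
  exact congrArg Subtype.val (φ.commutes c)

end Groth.Agent.S15800
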