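import Groth.Statements.S15802
import Mathlib
import Groth.Agent.PurityLib.Inertia
-- import your own Groth.Agent.* helpers here

set_option autoImplicit false
universe u v w
open WildQuot
open scoped Pointwise

namespace Groth.Agent.S15802

/-- Let `R` be a regular local ring and `A` a normal local domain, finite over `R` (with `R → A`
injective) and with the same residue field; let a finite group `H` act faithfully on `A` by
`R`-algebra automorphisms with ring of invariants exactly `R` (so `Frac(A)/Frac(R)` is Galois with
group `H`). Then `H` is generated by the inertia subgroups of the height-one prime ideals `P` of `A`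
(the elements acting trivially on `A/P`). (The published statement is for `A` a complete regular
local ring with an action ramified precisely at the origin, `R = k[[x_1, …, x_n]]` a norm subring
and `H` the Galois group of `Frac(A)/Frac(R)`, when that extension is Galois; this row assumes only
the hypotheses listed above.) -/
theorem result
    (R : Type u) [CommRing R] [IsRegularLocalRing R]
    (A : Type v) [CommRing A] [IsDomain A] [IsIntegrallyClosed A] [IsLocalRing A]
    [Algebra R A] [Module.Finite R A] (hinj : Function.Injective (algebraMap R A))
    (hres : Function.Surjective (IsLocalRing.residue A ∘ algebraMap R A))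
    (H : Type w) [Group H] [Finite H] [MulSemiringAction H A] [SMulCommClass H R A] [FaithfulSMul H A]
    (hfix : ∀ a : A, (∀ h : H, h • a = a) → a ∈ Set.range (algebraMap R A)) :
    (⨆ P : {P : Ideal A // P.IsPrime ∧ P.height = 1}, P.1.inertia H) = ⊤ := by
  let N : Subgroup H := ⨆ P : {P : Ideal A // P.IsPrime ∧ P.height = 1}, P.1.inertia H
  haveI : N.Normal := by
    refine ⟨fun n hn g => ?_⟩
    induction hn using Subgroup.iSup_induction' with
    | hp P x hx =>
      haveI := P.2.1
      have hh : ((g • P.1).IsPrime ∧ (g • P.1).height = 1) := by
        refine ⟨inferInstance, ?_⟩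
        rw [Ideal.pointwise_smul_eq_comap]
        exact ((MulSemiringAction.toRingEquiv H A g).symm.height_comap P.1).trans P.2.2
      exact Subgroup.mem_iSup_of_mem (⟨g • P.1, hh⟩ : {P : Ideal A // P.IsPrime ∧ P.height = 1})
        (PurityLib.inertia_smul_mem P.1 g x hx)
    | h1 => simp [one_mem]
    | hmul x y _ _ hx hy =>
      have : g * (x * y) * g⁻¹ = g * x * g⁻¹ * (g * y * g⁻¹) := by group
      rw [this]
      exact mul_mem hx hy
  exact PurityLib.eq_top_of_inertia_le R A hinj hres H hfix N fun P hP h1 =>
    le_iSup (fun P : {P : Ideal A // P.IsPrime ∧ P.height = 1} => P.1.inertia H) ⟨P, hP, h1⟩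

end Groth.Agent.S15802
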