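import Groth.Statements.S15803
import Mathlib
import Groth.Agent.S15802
-- import your own Groth.Agent.* helpers here

set_option autoImplicit false
universe u v w
open WildQuot

namespace Groth.Agent.S15803

/-- Let `R` be a regular local ring and `A` a normal local domain, finite over `R` (with `R → A`
injective) and with the same residue field; let a finite group `H` act faithfully on `A` by
`R`-algebra automorphisms with ring of invariants exactly `R` (so `Frac(A)/Frac(R)` is Galois with
group `H`); let `p` be a prime and suppose that every nontrivial inertia subgroup of a height-one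
prime of `A` has order `p` and is normal in `H`. Then `H` is commutative and every element satisfies
`h ^ p = 1`: `H` is an elementary abelian `p`-group (of order the degree of `Frac(A)` over
`Frac(R)`). (The published statement is for `A` a complete regular local ring with an action
ramified precisely at the origin, `R = k[[x_1, …, x_n]]` a norm subring and `H` the Galois group of
`Frac(A)/Frac(R)`, when that extension is Galois; this row assumes only the hypotheses listed
above.) -/
theorem result
    (p : ℕ) [Fact p.Prime] (R : Type u) [CommRing R] [IsRegularLocalRing R]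
    (A : Type v) [CommRing A] [IsDomain A] [IsIntegrallyClosed A] [IsLocalRing A]
    [Algebra R A] [Module.Finite R A] (hinj : Function.Injective (algebraMap R A))
    (hres : Function.Surjective (IsLocalRing.residue A ∘ algebraMap R A))
    (H : Type w) [Group H] [Finite H] [MulSemiringAction H A] [SMulCommClass H R A] [FaithfulSMul H A]
    (hfix : ∀ a : A, (∀ h : H, h • a = a) → a ∈ Set.range (algebraMap R A))
    (hMR2 : ∀ P : Ideal A, P.IsPrime → P.height = 1 → P.inertia H ≠ ⊥ →
      Nat.card (P.inertia H) = p ∧ (P.inertia H).Normal) :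
    (∀ g h : H, g * h = h * g) ∧ ∀ h : H, h ^ p = 1 := by
  have htop := Groth.Agent.S15802.result R A hinj hres H hfix
  let S : Set H := {x | ∃ P : Ideal A, P.IsPrime ∧ P.height = 1 ∧ x ∈ P.inertia H}
  have hS : Subgroup.closure S = ⊤ := by
    refine eq_top_iff.2 (htop.ge.trans (iSup_le fun P x hx => Subgroup.subset_closure ⟨P.1, P.2.1, P.2.2, hx⟩))
  have hcomm : ∀ x ∈ S, ∀ y ∈ S, x * y = y * x := by
    rintro x ⟨P, hP, hP1, hx⟩ y ⟨Q, hQ, hQ1, hy⟩
    by_cases hx1 : x = 1
    · rw [hx1, one_mul, mul_one]
    by_cases hy1 : y = 1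
    · rw [hy1, one_mul, mul_one]
    obtain ⟨hcP, hnP⟩ := hMR2 P hP hP1 fun h => hx1 (Subgroup.mem_bot.1 (h ▸ hx))
    obtain ⟨hcQ, hnQ⟩ := hMR2 Q hQ hQ1 fun h => hy1 (Subgroup.mem_bot.1 (h ▸ hy))
    by_cases hPQ : P.inertia H = Q.inertia H
    · haveI : IsCyclic (P.inertia H) := isCyclic_of_prime_card (p := p) hcP
      have := (IsCyclic.commGroup (α := P.inertia H)).mul_comm ⟨x, hx⟩ ⟨y, hPQ ▸ hy⟩
      exact congrArg Subtype.val this
    · haveI := hnP
      haveI := hnQ
      refine (Subgroup.commute_of_normal_of_disjoint _ _ hnP hnQ ?_ x y hx hy).eq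
      rw [disjoint_iff]
      by_contra hne
      have hle1 : P.inertia H ⊓ Q.inertia H = P.inertia H := by
        refine Subgroup.eq_of_le_of_card_ge inf_le_left ?_
        rcases (Fact.out : p.Prime).eq_one_or_self_of_dvd _ (hcP ▸ Subgroup.card_dvd_of_le (inf_le_left : P.inertia H ⊓ Q.inertia H ≤ _)) with h | h
        · exact absurd (Subgroup.eq_bot_of_card_eq _ h) hne
        · rw [hcP, h]
      exact hPQ (Subgroup.eq_of_le_of_card_ge (hle1 ▸ inf_le_right) (by rw [hcP, hcQ]))
  have hab : ∀ g h : H, g * h = h * g := by
    haveI := Subgroup.isMulCommutative_closure (k := S) hcomm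
    intro g h
    have := mul_comm' (⟨g, hS ▸ Subgroup.mem_top g⟩ : Subgroup.closure S) ⟨h, hS ▸ Subgroup.mem_top h⟩
    exact congrArg Subtype.val this
  refine ⟨hab, fun h => ?_⟩
  have hh : h ∈ Subgroup.closure S := hS ▸ Subgroup.mem_top h
  induction hh using Subgroup.closure_induction with
  | mem x hx =>
    obtain ⟨P, hP, hP1, hx⟩ := hx
    by_cases hx1 : x = 1
    · rw [hx1, one_pow]
    obtain ⟨hcP, -⟩ := hMR2 P hP hP1 fun h => hx1 (Subgroup.mem_bot.1 (h ▸ hx))
    have := congrArg Subtype.val (pow_card_eq_one' (x := (⟨x, hx⟩ : P.inertia H)))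
    rw [hcP] at this
    exact this
  | one => rw [one_pow]
  | mul x y _ _ hx hy => rw [(show Commute x y from hab x y).mul_pow, hx, hy, one_mul]
  | inv x _ hx => rw [inv_pow, hx, inv_one]

end Groth.Agent.S15803
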