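import Groth.Statements.S15804
import Mathlib
import Groth.Agent.S15803
-- import your own Groth.Agent.* helpers here

set_option autoImplicit false
universe u v w
open WildQuot

namespace Groth.Agent.S15804

/-- Let `R` be a regular local ring and `A` a normal local domain, finite over `R` (with `R → A`
injective) and with the same residue field; let a finite group `H` act faithfully on `A` by
`R`-algebra automorphisms with ring of invariants exactly `R` (so `Frac(A)/Frac(R)` is Galois with
group `H`); assume `A` has Krull dimension `2`, `H` has order `p ^ 2` for a prime `p`, and `Γ ≤ H`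
is a subgroup of order `p` whose intersection with the inertia subgroup of every non-maximal prime
of `A` is trivial (the action of `Γ` is ramified precisely at the origin). Then every nontrivial
inertia subgroup of a height-one prime of `A` has order `p`, and `H` is commutative with every
element satisfying `h ^ p = 1`, i.e. elementary abelian of order `p ^ 2`. (The published statement
is for `A` a complete regular local ring with an action ramified precisely at the origin, `R =
k[[x_1, …, x_n]]` a norm subring and `H` the Galois group of `Frac(A)/Frac(R)`, when that extension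
is Galois; this row assumes only the hypotheses listed above.) -/
theorem result
    (p : ℕ) [Fact p.Prime] (R : Type u) [CommRing R] [IsRegularLocalRing R]
    (A : Type v) [CommRing A] [IsDomain A] [IsIntegrallyClosed A] [IsLocalRing A]
    [Algebra R A] [Module.Finite R A] (hinj : Function.Injective (algebraMap R A))
    (hres : Function.Surjective (IsLocalRing.residue A ∘ algebraMap R A))
    (H : Type w) [Group H] [Finite H] [MulSemiringAction H A] [SMulCommClass H R A] [FaithfulSMul H A]
    (hfix : ∀ a : A, (∀ h : H, h • a = a) → a ∈ Set.range (algebraMap R A))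
    (hdim : ringKrullDim A = 2) (hcard : Nat.card H = p ^ 2)
    (Γ : Subgroup H) (hΓ : Nat.card Γ = p)
    (hram : ∀ P : Ideal A, P.IsPrime → P ≠ IsLocalRing.maximalIdeal A → P.inertia H ⊓ Γ = ⊥) :
    (∀ P : Ideal A, P.IsPrime → P.height = 1 → P.inertia H ≠ ⊥ → Nat.card (P.inertia H) = p) ∧
      (∀ g h : H, g * h = h * g) ∧ ∀ h : H, h ^ p = 1 := by
  have hI : ∀ P : Ideal A, P.IsPrime → P.height = 1 → P.inertia H ≠ ⊥ → Nat.card (P.inertia H) = p := by
    intro P hP h1 hne
    have hPm : P ≠ IsLocalRing.maximalIdeal A := by
      rintro rfl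
      rw [← IsLocalRing.maximalIdeal_height_eq_ringKrullDim, h1] at hdim
      exact absurd hdim (by decide)
    have hdisj := hram P hP hPm
    have hle : Nat.card (P.inertia H) * p ≤ p ^ 2 := by
      rw [← hcard]
      conv_lhs => rw [← hΓ, ← Nat.card_prod]
      refine Nat.card_le_card_of_injective (fun x : P.inertia H × Γ => (x.1 : H) * (x.2 : H)) ?_
      rintro ⟨a, b⟩ ⟨a', b'⟩ h
      have h' : (a' : H)⁻¹ * a = (b' : H) * (b : H)⁻¹ := by
        have h2 : (a : H) * b = a' * b' := h
        rw [eq_mul_inv_iff_mul_eq, mul_assoc, h2, inv_mul_cancel_left]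
      have hmem : (a' : H)⁻¹ * a ∈ P.inertia H ⊓ Γ :=
        Subgroup.mem_inf.2 ⟨mul_mem (inv_mem a'.2) a.2, h' ▸ mul_mem b'.2 (inv_mem b.2)⟩
      rw [hdisj, Subgroup.mem_bot] at hmem
      exact Prod.ext (Subtype.ext (inv_mul_eq_one.1 hmem).symm)
        (Subtype.ext (mul_inv_eq_one.1 (h' ▸ hmem)).symm)
    obtain ⟨i, hi, hci⟩ := (Nat.dvd_prime_pow (Fact.out : p.Prime)).1 (hcard ▸ Subgroup.card_subgroup_dvd_card (P.inertia H))
    rw [hci, ← pow_succ] at hle
    have : i + 1 ≤ 2 := (Nat.pow_le_pow_iff_right (Fact.out : p.Prime).one_lt).1 hle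
    interval_cases i
    · exact absurd (Subgroup.eq_bot_of_card_eq _ (by rw [hci, pow_zero])) hne
    · rw [hci, pow_one]
    · omega
  have hab : ∀ g h : H, g * h = h * g := fun g h => by
    letI := IsPGroup.commGroupOfCardEqPrimeSq (G := H) hcard
    exact mul_comm g h
  refine ⟨hI, hab, ?_⟩
  have hnorm : ∀ P : Ideal A, (P.inertia H).Normal := fun P => ⟨fun n hn g => by rwa [hab g n, mul_inv_cancel_right]⟩
  exact (Groth.Agent.S15803.result p R A hinj hres H hfix fun P hP h1 hne => ⟨hI P hP h1 hne, hnorm P⟩).2

end Groth.Agent.S15804
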