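import Groth.Statements.S15809
import Groth.Agent.CodimOneIsoLib.Scheme

set_option autoImplicit false
universe u
open CategoryTheory MonoidalCategory CartesianMonoidalCategory AlgebraicGeometry Limits
open WildQuot

namespace Groth.Agent.S15809

/-- Let `S` be a Noetherian scheme, `G` a finite flat `S`-group scheme and `Y` a finite flat `S`-scheme
with an action of `G`; let `Ψ : G ×_S Y → Y ×_S Y` be `(g, y) ↦ (g y, y)`. Suppose that for every
point `s ∈ S` of codimension at most `1` (local ring of dimension `≤ 1`) the fibre `Y_s` is a torsor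
under `G_s`: it is nonempty and the base change of `Ψ` to `Spec κ(s)` is an isomorphism. Then `Y` is
a `G`-torsor: `Ψ` is an isomorphism and `Y → S` is surjective (so the finite flat cover `Y → S`
itself trivialises `Y`). -/
theorem result
    (S : Scheme.{u}) [AlgebraicGeometry.IsNoetherian S]
    (G Y : Over S) [GrpObj G]
    [AlgebraicGeometry.IsFinite G.hom] [AlgebraicGeometry.Flat G.hom]
    [AlgebraicGeometry.IsFinite Y.hom] [AlgebraicGeometry.Flat Y.hom]
    (a : AlgGrp.Action G Y)
    (hfib : ∀ s : S, ringKrullDim (S.presheaf.stalk s) ≤ 1 →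
      s ∈ Set.range Y.hom.base ∧
      IsIso (pullback.map (G ⊗ Y).hom (S.fromSpecResidueField s) (Y ⊗ Y).hom (S.fromSpecResidueField s)
        (CartesianMonoidalCategory.lift a.act (CartesianMonoidalCategory.snd G Y)).left
        (𝟙 _) (𝟙 S)
        ((Category.comp_id _).trans
          (Over.w (CartesianMonoidalCategory.lift a.act (CartesianMonoidalCategory.snd G Y))).symm)
        ((Category.comp_id _).trans (Category.id_comp _).symm))) :
    IsIso (CartesianMonoidalCategory.lift a.act (CartesianMonoidalCategory.snd G Y)).left ∧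
      Function.Surjective Y.hom.base := by
  haveI : IsFinite (G ⊗ Y).hom := by rw [Over.tensorObj_hom]; infer_instance
  haveI : Flat (G ⊗ Y).hom := by rw [Over.tensorObj_hom]; infer_instance
  haveI : IsFinite (Y ⊗ Y).hom := by rw [Over.tensorObj_hom]; infer_instance
  haveI : Flat (Y ⊗ Y).hom := by rw [Over.tensorObj_hom]; infer_instance
  refine ⟨CodimOneIsoLib.isIso_of_fibres (S := S) _ (Y ⊗ Y).hom (G ⊗ Y).hom
    (Over.w (CartesianMonoidalCategory.lift a.act (CartesianMonoidalCategory.snd G Y)))
    fun s hs => (hfib s hs).2, fun s => ?_⟩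
  obtain ⟨V, hV, hs, -⟩ := exists_isAffineOpen_mem_and_subset (TopologicalSpace.Opens.mem_top s)
  obtain ⟨x, hx⟩ : s ∈ Set.range hV.fromSpec := by rw [hV.range_fromSpec]; exact hs
  obtain ⟨p, hp, hpx⟩ := Ideal.exists_minimalPrimes_le (bot_le : (⊥ : Ideal Γ(S, V)) ≤ x.asIdeal)
  haveI := hp.isPrime
  set η : Spec Γ(S, V) := ⟨p, hp.isPrime⟩
  have h1 : hV.fromSpec η ⤳ s := hx ▸ ((PrimeSpectrum.le_iff_specializes η x).1 hpx).map hV.fromSpec.continuous
  have h2 : hV.fromSpec η ∈ Set.range Y.hom.base := (hfib _ (by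
    rw [CodimOneIsoLib.height_le_one_iff hV η, Ideal.height_eq_zero_iff.2 hp]
    exact_mod_cast zero_le_one)).1
  exact h1.mem_closed Y.hom.isClosedMap.isClosed_range h2

end Groth.Agent.S15809
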