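import Groth.Statements.S1581
import Groth.Agent.MiscFlat6.FpqcDesc
-- import your own Groth.Agent.* helpers here

set_option autoImplicit false
universe u
open CategoryTheory CategoryTheory.Limits AlgebraicGeometry
open Variety

namespace Groth.Agent.S1581

/-- Let X be a scheme over a field k and K a field extension of k. If X_K is proper over K then X is
proper over k. -/
theorem result (k : Type u) [Field k] (X : Scheme.{u}) [X.Over (Spec (CommRingCat.of k))] (K : Type u) [Field K] [Algebra k K]
    [IsProper (Curv2.bcSnd k X K)] : IsProper (X ↘ (Spec (CommRingCat.of k))) := by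
  let j := Spec.map (CommRingCat.ofHom (algebraMap k K))
  haveI : Surjective j := ⟨fun y => ⟨(Classical.arbitrary (PrimeSpectrum K)), Subsingleton.elim (α := PrimeSpectrum k) _ _⟩⟩
  haveI : Flat j := by
    rw [HasRingHomProperty.Spec_iff (P := @Flat), CommRingCat.hom_ofHom, RingHom.flat_algebraMap_iff]
    infer_instance
  haveI := MiscFlat6.desc_isProper.{u}
  exact MorphismProperty.of_isPullback_of_descendsAlong (P := @IsProper)
    (Q := @Surjective ⊓ @Flat ⊓ @QuasiCompact)
    (IsPullback.of_hasPullback (X ↘ Spec (CommRingCat.of k)) j).flip ⟨⟨‹_›, ‹_›⟩, inferInstance⟩ ‹_›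

end Groth.Agent.S1581
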