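import Groth.Statements.S15811
import Mathlib.FieldTheory.Finite.Basic
import Mathlib.RingTheory.IntegralClosure.IntegrallyClosed

set_option autoImplicit false
universe u
open WildQuot

namespace Groth.Agent.S15811

/-- Let `R` be an integrally closed domain of prime characteristic `p` with fraction field `K`, and `α ∈
R`. Then `α ≠ 0` and the polynomial `T ^ p - α T` splits into linear factors over `K` — which says
that the finite flat group scheme `Spec R[T]/(T ^ p - α T)` of order `p` has constant generic fibre
(its `p` roots are then distinct) — if and only if `α = a ^ (p-1)` for some nonzero `a ∈ R`. (The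
published statement is that the generic fibre of the finite flat group scheme of order `p` with
parameters `α, β` satisfying `α β = 0`, whose underlying scheme is `Spec R[T]/(T ^ p - α T)`, is
constant if and only if `β = 0` and `α` is the `(p-1)`-th power of a nonzero element of `R`; this
row states the polynomial condition, in which `α ≠ 0` already forces `β = 0` over a domain.) -/
theorem result
    (p : ℕ) [Fact p.Prime] (R : Type u) [CommRing R] [IsDomain R] [IsIntegrallyClosed R]
    [CharP R p] (α : R) :
    (α ≠ 0 ∧ (Polynomial.map (algebraMap R (FractionRing R))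
        (Polynomial.X ^ p - Polynomial.C α * Polynomial.X)).Splits) ↔
      ∃ a : R, a ≠ 0 ∧ α = a ^ (p - 1) := by
  classical
  have hp : p.Prime := Fact.out
  set K := FractionRing R
  haveI : CharP K p := charP_of_injective_algebraMap (IsFractionRing.injective R K) p
  set α' := algebraMap R K α
  have hmap : (Polynomial.X ^ p - Polynomial.C α * Polynomial.X).map (algebraMap R K) =
      Polynomial.X ^ p - Polynomial.C α' * Polynomial.X := by simp [α']
  rw [hmap]
  have hdeg : (Polynomial.C α' * Polynomial.X).degree < ((p : ℕ) : WithBot ℕ) :=
    lt_of_le_of_lt (Polynomial.degree_C_mul_X_le _) (by exact_mod_cast hp.one_lt)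
  have hmon : (Polynomial.X ^ p - Polynomial.C α' * Polynomial.X).Monic := Polynomial.monic_X_pow_sub hdeg
  have hnd : (Polynomial.X ^ p - Polynomial.C α' * Polynomial.X).natDegree = p :=
    Polynomial.natDegree_eq_of_degree_eq_some (by
      rw [Polynomial.degree_sub_eq_left_of_degree_lt] <;> rw [Polynomial.degree_X_pow]
      exact hdeg)
  constructor
  · rintro ⟨hα, hs⟩
    have hfac : Polynomial.X ^ p - Polynomial.C α' * Polynomial.X =
        Polynomial.X * (Polynomial.X ^ (p - 1) - Polynomial.C α') := by
      rw [mul_sub, ← pow_succ', Nat.sub_add_cancel hp.one_le, mul_comm (Polynomial.C α')]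
    have hg : (Polynomial.X ^ (p - 1) - Polynomial.C α').Splits :=
      hs.of_dvd hmon.ne_zero (Dvd.intro_left _ hfac.symm)
    have h2 := hp.two_le
    obtain ⟨y, hy⟩ := hg.exists_eval_eq_zero (by
      rw [Polynomial.degree_X_pow_sub_C (by omega) α']
      exact_mod_cast (show p - 1 ≠ 0 by omega))
    rw [Polynomial.eval_sub, Polynomial.eval_pow, Polynomial.eval_X, Polynomial.eval_C, sub_eq_zero] at hy
    have hint : IsIntegral R y := IsIntegral.of_pow (by omega : 0 < p - 1) (hy ▸ isIntegral_algebraMap)
    obtain ⟨a, rfl⟩ := IsIntegrallyClosed.isIntegral_iff.1 hint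
    rw [← map_pow] at hy
    refine ⟨a, fun ha => hα ?_, (IsFractionRing.injective R K hy).symm⟩
    rw [← IsFractionRing.injective R K hy, ha, zero_pow (by omega)]
  · rintro ⟨a, ha, rfl⟩
    refine ⟨pow_ne_zero _ ha, ?_⟩
    rw [Polynomial.splits_iff_card_roots]
    refine le_antisymm (Polynomial.card_roots' _) ?_
    let r : ZMod p → K := fun j => ZMod.castHom (dvd_refl p) K j * algebraMap R K a
    have hinj : Function.Injective r := fun i j h => (ZMod.castHom (dvd_refl p) K).injective
      (mul_right_cancel₀ ((map_ne_zero_iff _ (IsFractionRing.injective R K)).2 ha) h)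
    have hsub : (Finset.univ.image r).val ⊆ (Polynomial.X ^ p - Polynomial.C α' * Polynomial.X).roots := by
      intro z hz
      obtain ⟨j, -, rfl⟩ := Finset.mem_image.1 hz
      rw [Polynomial.mem_roots hmon.ne_zero, Polynomial.IsRoot.def, Polynomial.eval_sub,
        Polynomial.eval_pow, Polynomial.eval_mul, Polynomial.eval_C, Polynomial.eval_X, mul_pow,
        ← map_pow, ZMod.pow_card, sub_eq_zero]
      simp only [r, α', map_pow]
      rw [mul_left_comm, ← pow_succ, Nat.sub_add_cancel hp.one_le]
    have h := Multiset.card_le_card ((Multiset.le_iff_subset (Finset.univ.image r).nodup).2 hsub)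
    rw [← Finset.card_def, Finset.card_image_of_injective _ hinj, Finset.card_univ, ZMod.card] at h
    rw [hnd]
    exact h

end Groth.Agent.S15811
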