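import Groth.Statements.S15812
import Groth.Agent.WildQuotLib.Generate

set_option autoImplicit false
universe u v w
open WildQuot

namespace Groth.Agent.S15812

/-- Let `R` be a regular local ring and `A` a normal local domain, finite over `R` (with `R → A`
injective) and with the same residue field; let a finite group `H` act faithfully on `A` by
`R`-algebra automorphisms with ring of invariants exactly `R` (so `Frac(A)/Frac(R)` is Galois with
group `H`); assume `H` is commutative of order `p ^ n` (`p` prime) and let `G_1, …, G_n ≤ H` be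
subgroups of order `p` generating `H`, each the inertia subgroup of some height-one prime of `A`,
such that every nontrivial inertia subgroup of a height-one prime of `A` is one of the `G_i`. Put
`G_i^⊥ =` the subgroup generated by the `G_j` with `j ≠ i`, and assume each invariant ring
`A^{G_i^⊥}` is a free `R`-module (the published statement asks them to be Cohen–Macaulay, which for
a finite algebra over the regular local ring `R` is the same). Then the subalgebras `A^{G_1^⊥}, …,
A^{G_n^⊥}` generate `A` over `R`. (The published conclusion is that the product map `A^{G_1^⊥} ⊗_R ⋯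
⊗_R A^{G_n^⊥} → A` is an isomorphism; as each factor is then free of rank `p` and `A` has rank `p ^
n` over `R`, that is equivalent to the generation statement given here. The published statement is
for `A` a complete regular local ring with an action ramified precisely at the origin, `R = k[[x_1,
…, x_n]]` a norm subring and `H` the Galois group of `Frac(A)/Frac(R)`, when that extension is
Galois; this row assumes only the hypotheses listed above.) -/
theorem result
    (p : ℕ) [Fact p.Prime] (R : Type u) [CommRing R] [IsRegularLocalRing R]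
    (A : Type v) [CommRing A] [IsDomain A] [IsIntegrallyClosed A] [IsLocalRing A]
    [Algebra R A] [Module.Finite R A] (hinj : Function.Injective (algebraMap R A))
    (hres : Function.Surjective (IsLocalRing.residue A ∘ algebraMap R A))
    (H : Type w) [Group H] [Finite H] [MulSemiringAction H A] [SMulCommClass H R A] [FaithfulSMul H A]
    (hfix : ∀ a : A, (∀ h : H, h • a = a) → a ∈ Set.range (algebraMap R A))
    (hcomm : ∀ g h : H, g * h = h * g)
    (n : ℕ) (hcard : Nat.card H = p ^ n) (Gi : Fin n → Subgroup H)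
    (hGi : ∀ i, Nat.card (Gi i) = p) (hsup : (⨆ i, Gi i) = ⊤)
    (hinert : ∀ i, ∃ P : Ideal A, P.IsPrime ∧ P.height = 1 ∧ P.inertia H = Gi i)
    (hMR3 : ∀ P : Ideal A, P.IsPrime → P.height = 1 → P.inertia H ≠ ⊥ → ∃ i, P.inertia H = Gi i)
    (hMR4 : ∀ i, Module.Free R
      (FixedPoints.subalgebra R A ↥(⨆ j ∈ (Finset.univ.erase i : Finset (Fin n)), Gi j : Subgroup H))) :
    (⨆ i, FixedPoints.subalgebra R A ↥(⨆ j ∈ (Finset.univ.erase i : Finset (Fin n)), Gi j : Subgroup H)) = ⊤ := by
  classical
  cases nonempty_fintype H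
  have hp : p.Prime := Fact.out
  have : IsDomain R := CommAlgDim.isDomain_of_isRegularLocalRing R
  have : IsIntegrallyClosed R := NormalLib.isIntegrallyClosed_of_isRegularLocalRing R
  have : Algebra.IsIntegral R A := Algebra.IsIntegral.of_finite R A
  have : IsNoetherian R A := isNoetherian_of_isNoetherianRing_of_finite R A
  -- `H` is the product of the `Gi`
  have hcomm' : Pairwise fun i j => ∀ x y : H, x ∈ Gi i → y ∈ Gi j → Commute x y :=
    fun i j _ x y _ _ => hcomm x y
  let Ψ := Subgroup.noncommPiCoprod hcomm'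
  have hΨ : Function.Bijective Ψ := by
    refine Function.Surjective.bijective_of_nat_card_le ?_ ?_
    · rw [← MonoidHom.range_eq_top, Subgroup.noncommPiCoprod_range, hsup]
    · simp only [Nat.card_pi, hGi, hcard]; simp
  let e := MulEquiv.ofBijective Ψ hΨ
  let π : ∀ j, H →* Gi j := fun j =>
    (Pi.evalMonoidHom (fun i => Gi i) j).comp e.symm.toMonoidHom
  let N : Fin n → Subgroup H := fun i => ⨆ j ∈ (Finset.univ.erase i : Finset (Fin n)), Gi j
  have hπ : ∀ j k (x : Gi k), π j x = (Pi.mulSingle k x : ∀ i, Gi i) j := fun j k x => by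
    have : e.symm (x : H) = Pi.mulSingle k x := by
      rw [MulEquiv.symm_apply_eq]
      exact (Subgroup.noncommPiCoprod_mulSingle (hcomm := hcomm') k x).symm
    show e.symm (x : H) j = _
    rw [this]
  have hNπ : ∀ j, N j ≤ (π j).ker := fun j => iSup₂_le fun k hk x hx => by
    rw [MonoidHom.mem_ker, hπ j k ⟨x, hx⟩, Pi.mulSingle_eq_of_ne (Finset.mem_erase.1 hk).1.symm]
  have hGN : ∀ i j, i ≠ j → Gi i ≤ N j := fun i j h =>
    le_iSup₂ (f := fun k (_ : k ∈ (Finset.univ.erase j : Finset (Fin n))) => Gi k) i (by simp [h])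
  have hinter : ∀ σ : H, (∀ j, σ ∈ N j) → σ = 1 := fun σ hσ => by
    have : e.symm σ = 1 := funext fun j => hNπ j (hσ j)
    simpa using congrArg e this
  have hidx : ∀ j, Nat.card (H ⧸ N j) ≤ p := fun j => by
    have hsur : Function.Surjective fun g : Gi j => (QuotientGroup.mk (g : H) : H ⧸ N j) := by
      intro q
      obtain ⟨x, rfl⟩ := QuotientGroup.mk_surjective q
      let : CommGroup H := { ‹Group H› with mul_comm := hcomm }
      obtain ⟨a, ha, b, hb, rfl⟩ := Subgroup.mem_sup.1 (show x ∈ Gi j ⊔ N j by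
        have h : (⨆ i, Gi i) ≤ Gi j ⊔ N j := iSup_le fun k => by
          by_cases hk : k = j
          · exact hk ▸ le_sup_left
          · exact (hGN k j hk).trans le_sup_right
        rw [hsup] at h
        exact h trivial)
      exact ⟨⟨a, ha⟩, QuotientGroup.eq.2 (by simpa using hb)⟩
    exact hGi j ▸ Nat.card_le_card_of_surjective _ hsur
  -- bases of the invariant rings
  let B : Fin n → Subalgebra R A := fun j => FixedPoints.subalgebra R A (N j)
  have hfree : ∀ j, Module.Free R (B j) := hMR4
  have hfin : ∀ j, Module.Finite R (B j) := fun j =>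
    Module.Finite.of_injective (B j).val.toLinearMap Subtype.val_injective
  let bB := fun j => Module.Free.chooseBasis R (B j)
  let b : ∀ j, Module.Free.ChooseBasisIndex R (B j) → A := fun j k => (bB j k : A)
  have hbli : ∀ j, LinearIndependent R (b j) := fun j =>
    (bB j).linearIndependent.map' (B j).val.toLinearMap (LinearMap.ker_eq_bot.2 Subtype.val_injective)
  have hr : ∀ j, Fintype.card (Module.Free.ChooseBasisIndex R (B j)) ≤ p := fun j =>
    (WildQuotLib.card_le_index hinj hfix (N j) (hbli j) fun k ν hν => (bB j k).2 ⟨ν, hν⟩).trans (hidx j)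
  let E : (∀ j, Module.Free.ChooseBasisIndex R (B j)) → A := fun K => ∏ j, b j (K j)
  have hspan : Subalgebra.toSubmodule (⨆ j, B j) = Submodule.span R (Set.range E) :=
    WildQuotLib.iSup_le_span_prod B b
      (fun j x => ⟨fun k => (bB j).repr x k, by
        conv_rhs => rw [← (bB j).sum_repr x]
        rw [AddSubmonoidClass.coe_finsetSum]
        rfl⟩)
      (fun j k => (bB j k).2)
  -- separation
  have hsep : ∀ (D : Subgroup H) (P : Ideal A), P.IsPrime →
      (∀ j, ∀ σ ∈ D, σ ∈ N j ⊔ P.inertia H → σ ∈ N j) →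
      ∀ σ ∈ D, σ ≠ 1 → ∃ c ∈ (⨆ j, B j), σ • c - c ∉ P := by
    intro D P hP hI σ hσD hσ
    by_contra hcon
    push Not at hcon
    exact hσ (hinter σ fun j => hI j σ hσD (WildQuotLib.mem_sup_inertia hcomm (N j) P σ
      fun c hc => hcon c (le_iSup B j fun ν => hc ν ν.2)))
  have hbot : ∀ P : Ideal A, P.IsPrime → P.comap (algebraMap R A) = ⊥ → P.inertia H = ⊥ := by
    intro P hP hPb
    have hP0 : P = ⊥ := Ideal.eq_bot_of_comap_eq_bot hPb
    refine (Subgroup.eq_bot_iff_forall _).2 fun σ hσ => eq_of_smul_eq_smul fun a : A => ?_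
    have := hσ a
    rw [hP0] at this
    simpa [sub_eq_zero] using this
  obtain ⟨s₀, hs₀, hgen⟩ := WildQuotLib.exists_smul_mem (⊤ : Subgroup H) (⨆ j, B j)
    (fun a ha => by
      obtain ⟨r, rfl⟩ := hfix a fun h => ha h trivial
      exact Subalgebra.algebraMap_mem _ r)
    (⊥ : Ideal R) (fun σ hσ hσ1 P hP hPb => hsep ⊤ P hP (fun j τ _ h => by
      rwa [hbot P hP hPb, sup_bot_eq] at h) σ hσ hσ1)
  have hgen' : ∀ a : A, s₀ • a ∈ Submodule.span R (Set.range E) := fun a => hspan ▸ hgen a
  have hE : LinearIndependent R E := WildQuotLib.linearIndependent_of_generates (H := H) hinj E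
    (show s₀ ≠ 0 from fun h => hs₀ (h ▸ Ideal.zero_mem _)) hgen' (by
      rw [Fintype.card_pi, ← Nat.card_eq_fintype_card (α := H), hcard]
      exact (Finset.prod_le_pow_card _ _ _ fun j _ => hr j).trans (by simp))
  refine eq_top_iff.2 fun a _ => ?_
  show a ∈ Subalgebra.toSubmodule (⨆ j, B j)
  rw [hspan]
  refine WildQuotLib.mem_span_of_codim_one hinj E hE
    (show s₀ ≠ 0 from fun h => hs₀ (h ▸ Ideal.zero_mem _)) a (hgen' a) fun q hq hq1 => ?_
  have hP1 : ∀ P : Ideal A, P.IsPrime → P.comap (algebraMap R A) = q → P.height = 1 := by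
    intro P hP hPq
    refine le_antisymm (le_of_le_of_eq (WildQuotLib.height_le_height_under P) (hPq ▸ hq1)) ?_
    refine Order.one_le_iff_ne_zero.2 fun h0 => ?_
    have hmem := Ideal.height_eq_zero_iff_eq_bot.1 h0
    rw [hmem, Ideal.comap_bot_of_injective _ hinj] at hPq
    rw [← hPq, Ideal.height_bot] at hq1
    exact zero_ne_one hq1
  suffices h : ∃ D : Subgroup H, (∀ x : A, (∀ σ ∈ D, σ • x = x) → x ∈ ⨆ j, B j) ∧
      ∀ P : Ideal A, P.IsPrime → P.comap (algebraMap R A) = q →
        ∀ j, ∀ σ ∈ D, σ ∈ N j ⊔ P.inertia H → σ ∈ N j by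
    obtain ⟨D, hD, hD'⟩ := h
    obtain ⟨s, hs, hs'⟩ := WildQuotLib.exists_smul_mem D (⨆ j, B j) hD q
      (fun σ hσ hσ1 P hP hPq => hsep D P hP (hD' P hP hPq) σ hσ hσ1)
    exact ⟨s, hs, hspan ▸ hs' a⟩
  by_cases hall : ∀ P : Ideal A, P.IsPrime → P.comap (algebraMap R A) = q → P.inertia H = ⊥
  · exact ⟨⊤, fun x hx => by
      obtain ⟨r, rfl⟩ := hfix x fun h => hx h trivial
      exact Subalgebra.algebraMap_mem _ r, fun P hP hPq j σ _ h => by
      rwa [hall P hP hPq, sup_bot_eq] at h⟩
  push Not at hall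
  obtain ⟨P₀, hP₀, hP₀q, hP₀i⟩ := hall
  obtain ⟨i, hi⟩ := hMR3 P₀ hP₀ (hP1 P₀ hP₀ hP₀q) hP₀i
  refine ⟨N i, fun x hx => le_iSup B i fun ν => hx ν ν.2, fun P hP hPq j σ hσ h => ?_⟩
  have hinv : Algebra.IsInvariant R A H := ⟨hfix⟩
  obtain ⟨g, hg⟩ := Algebra.IsInvariant.exists_smul_of_under_eq R A H P₀ P (hP₀q.trans hPq.symm)
  have hIP : P.inertia H ≤ Gi i := by
    rw [← hi, hg]
    intro τ hτ x
    have h1 := hτ (g • x)
    rw [← mul_smul, hcomm τ g, mul_smul, ← smul_sub] at h1
    exact Ideal.smul_mem_pointwise_smul_iff.1 h1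
  by_cases hji : j = i
  · exact hji ▸ hσ
  · exact (sup_le le_rfl (hIP.trans (hGN i j (Ne.symm hji)))) h

end Groth.Agent.S15812
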