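import Groth.Statements.S15816
import Groth.Agent.KoszScaleLib.Scale
import Groth.Agent.S15821
import Mathlib.LinearAlgebra.TensorProduct.Quotient

set_option autoImplicit false
universe u
open CategoryTheory
open scoped TensorProduct
open Koszul

namespace Groth.Agent.S15816

/-- Let A be a commutative ring, f = (f_1, …, f_n) a sequence in A that is regular in the weak sense
(f_1 is a non-zero-divisor of A and each f_i is a non-zero-divisor modulo (f_1, …, f_{i-1})), with
Koszul complex K(f) and differentials ∂^q, and let x be a non-zero-divisor of A. Then for every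
integer q < 0 the q-th cohomology module of the Koszul complex of (x f_1, …, x f_n) is isomorphic as
an A-module to Ker(∂^q) ⊗_A A/(x) (existence of an A-linear isomorphism; mapping-cone model of the
Koszul complex). -/
theorem result (A : Type u) [CommRing A] (l : List A)
    (hl : RingTheory.Sequence.IsWeaklyRegular A l) (x : A) (hx : x ∈ nonZeroDivisors A) (q : ℤ) (hq : q < 0) :
    Nonempty ((Koszul.koszul A (l.map (fun f => x * f))).homology q ≅
      ModuleCat.of A (↥(LinearMap.ker ((Koszul.koszul A l).d q (q + 1)).hom) ⊗[A] (A ⧸ Ideal.span {x}))) := by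
  obtain ⟨e⟩ := Groth.Agent.KoszScale.homology_scale_iso x hx l q
  set K := Koszul.koszul A l with hK
  have hz : CategoryTheory.Limits.IsZero (K.homology q) := (Groth.Agent.S15821.result A l hl).1 q (by omega)
  have hex : (K.sc' (q - 1) q (q + 1)).Exact :=
    (K.exactAt_iff' (q - 1) q (q + 1) (CochainComplex.prev ℤ q) (CochainComplex.next ℤ q)).1
      ((K.exactAt_iff_isZero_homology q).2 hz)
  have hBZ : LinearMap.range (K.d (q - 1) q).hom = LinearMap.ker (K.d q (q + 1)).hom := by
    ext z
    refine ⟨?_, fun hz' => (CategoryTheory.ShortComplex.moduleCat_exact_iff _).1 hex z hz'⟩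
    rintro ⟨w, rfl⟩
    exact congrArg (fun φ => φ.hom w) (K.d_comp_d (q - 1) q (q + 1))
  rw [hBZ] at e
  refine ⟨e ≪≫ ((Submodule.quotEquivOfEq _ _ ?_).trans
    ((TensorProduct.comm A _ _).trans (TensorProduct.quotTensorEquivQuotSMul _ (Ideal.span {x}))).symm).toModuleIso⟩
  ext z
  rw [Submodule.mem_comap, Submodule.ideal_span_singleton_smul, Submodule.ideal_span_singleton_smul,
    Submodule.mem_smul_pointwise_iff_exists, Submodule.mem_smul_pointwise_iff_exists]
  exact ⟨fun ⟨y, hy, h⟩ => ⟨⟨y, hy⟩, Submodule.mem_top, Subtype.ext h⟩,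
    fun ⟨y, _, h⟩ => ⟨y, y.2, congrArg Subtype.val h⟩⟩

end Groth.Agent.S15816
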