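import Groth.Statements.S15817
import Mathlib.Algebra.Category.ModuleCat.Basic
import Mathlib.CategoryTheory.Limits.Shapes.Pullback.IsPullback.Defs
-- import your own Groth.Agent.* helpers here

set_option autoImplicit false
universe u v
open CategoryTheory
open CAlg

namespace Groth.Agent.S15817

/-- Let A be a commutative ring, M an A-module and P, Q submodules of M. Then the commuting square of
quotient projections with corners M/(P ∩ Q), M/P, M/Q and M/(P + Q) is cartesian in the category of
A-modules: M/(P ∩ Q) is the fibre product of M/P and M/Q over M/(P + Q). -/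
theorem result (A : Type u) [CommRing A] (M : Type v) [AddCommGroup M] [Module A M]
    (P Q : Submodule A M) :
    IsPullback (ModuleCat.ofHom (Submodule.factor (inf_le_left : P ⊓ Q ≤ P)))
      (ModuleCat.ofHom (Submodule.factor (inf_le_right : P ⊓ Q ≤ Q)))
      (ModuleCat.ofHom (Submodule.factor (le_sup_left : P ≤ P ⊔ Q)))
      (ModuleCat.ofHom (Submodule.factor (le_sup_right : Q ≤ P ⊔ Q))) := by
  let f₁ := Submodule.factor (inf_le_left : P ⊓ Q ≤ P)
  let f₂ := Submodule.factor (inf_le_right : P ⊓ Q ≤ Q)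
  let g₁ := Submodule.factor (le_sup_left : P ≤ P ⊔ Q)
  let g₂ := Submodule.factor (le_sup_right : Q ≤ P ⊔ Q)
  let K := LinearMap.eqLocus (g₁ ∘ₗ LinearMap.fst A _ _) (g₂ ∘ₗ LinearMap.snd A _ _)
  have hw : ∀ z, g₁ (f₁ z) = g₂ (f₂ z) := fun z => by
    obtain ⟨m, rfl⟩ := Submodule.mkQ_surjective _ z
    simp [f₁, f₂, g₁, g₂]
  let Φ : (M ⧸ P ⊓ Q) →ₗ[A] K := (f₁.prod f₂).codRestrict K hw
  have hΦ : Function.Bijective Φ := by
    constructor
    · intro a b h
      obtain ⟨a, rfl⟩ := Submodule.mkQ_surjective _ a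
      obtain ⟨b, rfl⟩ := Submodule.mkQ_surjective _ b
      have h' := congr_arg Subtype.val h
      simp [Φ, f₁, f₂, Submodule.Quotient.eq] at h'
      simpa [Submodule.Quotient.eq] using h'
    · rintro ⟨⟨x, y⟩, hxy⟩
      obtain ⟨x, rfl⟩ := Submodule.mkQ_surjective _ x
      obtain ⟨y, rfl⟩ := Submodule.mkQ_surjective _ y
      simp [K, g₁, g₂, Submodule.Quotient.eq, Submodule.mem_sup] at hxy
      obtain ⟨p, hp, q, hq, hpq⟩ := hxy
      refine ⟨Submodule.mkQ _ (x - p), Subtype.ext (Prod.ext ?_ ?_)⟩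
      · simp [Φ, f₁, hp]
      · simp [Φ, f₂, ← Submodule.Quotient.mk_sub, Submodule.Quotient.eq]
        have : x - p - y = q := by rw [sub_right_comm, ← hpq]; abel
        simpa [this] using hq
  let e := LinearEquiv.ofBijective Φ hΦ
  refine IsPullback.of_isLimit' ⟨by ext z; exact hw (Submodule.mkQ _ z)⟩ (Limits.PullbackCone.isLimitAux' _ fun s => ?_)
  let h : s.pt →ₗ[A] K := (s.fst.hom.prod s.snd.hom).codRestrict K
    (fun z => DFunLike.congr_fun (congr_arg ModuleCat.Hom.hom s.condition) z)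
  have he : ∀ z, Φ (e.symm (h z)) = h z := fun z => e.apply_symm_apply _
  refine ⟨ModuleCat.ofHom (e.symm.toLinearMap ∘ₗ h), ?_, ?_, fun {m} h₁ h₂ => ?_⟩
  · ext z
    exact congr_arg Prod.fst (congr_arg Subtype.val (he z))
  · ext z
    exact congr_arg Prod.snd (congr_arg Subtype.val (he z))
  · ext z
    refine hΦ.injective (Subtype.ext (Prod.ext ?_ ?_))
    · exact (congr_arg (fun t => t.hom z) h₁).trans (congr_arg Prod.fst (congr_arg Subtype.val (he z))).symm
    · exact (congr_arg (fun t => t.hom z) h₂).trans (congr_arg Prod.snd (congr_arg Subtype.val (he z))).symm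

end Groth.Agent.S15817
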