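import Groth.Statements.S15818
import Mathlib.Algebra.Category.ModuleCat.Limits
import Mathlib.CategoryTheory.Limits.Preserves.Shapes.Pullbacks
import Mathlib.CategoryTheory.Limits.Types.Pullbacks
import Mathlib.RingTheory.Regular.IsSMulRegular

set_option autoImplicit false
universe u
open CategoryTheory
open Koszul

namespace Groth.Agent.S15818

/-- Let A be a commutative ring, f = (f_1, …, f_n) a finite sequence in A with Koszul complex K = K(f)
(mapping-cone model) and differentials ∂, q an integer, Z = Ker(∂^q) and B = Im(∂^{q-1}), so B ⊆ Z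
inside K^q (this inclusion is carried as the hypothesis hBZ). Let x be a non-zero-divisor of A which
moreover acts injectively on the cohomology module Z/B (for Noetherian A this says that x lies in no
associated prime of Z/B, which is how the published statement phrases it; the published argument
uses exactly the injectivity). Then the commuting square of quotient projections with corners Z/xB
(top left; it is isomorphic to the q-th cohomology of the Koszul complex of (x f_1, …, x f_n)), Z/xZ
= Z ⊗ A/(x) (top right), Z/B (bottom left) and Z/(B + xZ) = (Z/B) ⊗ A/(x) (bottom right) is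
cartesian in the category of A-modules. All four corners are written as quotients of Z by the
preimages of the submodules xB, xZ, B, B + xZ of K^q. -/
theorem result (A : Type u) [CommRing A] (l : List A) (q : ℤ)
    (K : CochainComplex (ModuleCat.{u} A) ℤ) (hK : K = Koszul.koszul A l)
    (hBZ : LinearMap.range (K.d (q - 1) q).hom ≤ LinearMap.ker (K.d q (q + 1)).hom)
    (x : A) (hx : x ∈ nonZeroDivisors A)
    (hxH : IsSMulRegular (↥(LinearMap.ker (K.d q (q + 1)).hom) ⧸ Submodule.comap (LinearMap.ker (K.d q (q + 1)).hom).subtype (LinearMap.range (K.d (q - 1) q).hom)) x) :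
    IsPullback
      (ModuleCat.ofHom (Submodule.factor (Submodule.comap_mono (Submodule.smul_mono le_rfl hBZ) :
        Submodule.comap (LinearMap.ker (K.d q (q + 1)).hom).subtype (Ideal.span {x} • LinearMap.range (K.d (q - 1) q).hom) ≤
          Submodule.comap (LinearMap.ker (K.d q (q + 1)).hom).subtype (Ideal.span {x} • LinearMap.ker (K.d q (q + 1)).hom))))
      (ModuleCat.ofHom (Submodule.factor (Submodule.comap_mono (Submodule.smul_le_right) :
        Submodule.comap (LinearMap.ker (K.d q (q + 1)).hom).subtype (Ideal.span {x} • LinearMap.range (K.d (q - 1) q).hom) ≤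
          Submodule.comap (LinearMap.ker (K.d q (q + 1)).hom).subtype (LinearMap.range (K.d (q - 1) q).hom))))
      (ModuleCat.ofHom (Submodule.factor (Submodule.comap_mono le_sup_right :
        Submodule.comap (LinearMap.ker (K.d q (q + 1)).hom).subtype (Ideal.span {x} • LinearMap.ker (K.d q (q + 1)).hom) ≤
          Submodule.comap (LinearMap.ker (K.d q (q + 1)).hom).subtype (LinearMap.range (K.d (q - 1) q).hom ⊔ Ideal.span {x} • LinearMap.ker (K.d q (q + 1)).hom))))
      (ModuleCat.ofHom (Submodule.factor (Submodule.comap_mono le_sup_left :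
        Submodule.comap (LinearMap.ker (K.d q (q + 1)).hom).subtype (LinearMap.range (K.d (q - 1) q).hom) ≤
          Submodule.comap (LinearMap.ker (K.d q (q + 1)).hom).subtype (LinearMap.range (K.d (q - 1) q).hom ⊔ Ideal.span {x} • LinearMap.ker (K.d q (q + 1)).hom)))) := by
  set Z := LinearMap.ker (K.d q (q + 1)).hom with hZ
  set B := LinearMap.range (K.d (q - 1) q).hom with hB
  have hxB : ∀ z : ↥Z, z ∈ Submodule.comap Z.subtype (Ideal.span {x} • Z) → ∃ w : ↥Z, (z : K.X q) = x • (w : K.X q) := by
    intro z hz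
    rw [Submodule.mem_comap, Submodule.ideal_span_singleton_smul, Submodule.mem_smul_pointwise_iff_exists] at hz
    obtain ⟨w, hw, hw'⟩ := hz
    exact ⟨⟨w, hw⟩, hw'.symm⟩
  have hmemB : ∀ z : ↥Z, z ∈ Submodule.comap Z.subtype (Ideal.span {x} • B) ↔ ∃ b ∈ B, (z : K.X q) = x • b := by
    intro z
    rw [Submodule.mem_comap, Submodule.ideal_span_singleton_smul, Submodule.mem_smul_pointwise_iff_exists]
    exact ⟨fun ⟨w, hw, hw'⟩ => ⟨w, hw, hw'.symm⟩, fun ⟨w, hw, hw'⟩ => ⟨w, hw, hw'.symm⟩⟩
  refine IsPullback.of_map (forget (ModuleCat.{u} A)) ?_ ((CategoryTheory.Limits.Types.isPullback_iff _ _ _ _).2 ⟨?_, ?_, ?_⟩)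
  · ext z
    rfl
  · ext z
    obtain ⟨z, rfl⟩ := Submodule.mkQ_surjective _ z
    rfl
  · rintro a b ⟨h1, h2⟩
    obtain ⟨a, rfl⟩ := Submodule.mkQ_surjective _ a
    obtain ⟨b, rfl⟩ := Submodule.mkQ_surjective _ b
    have h1' := (Submodule.Quotient.eq _).1 h1
    have h2' : a - b ∈ Submodule.comap Z.subtype B := (Submodule.Quotient.eq _).1 h2
    obtain ⟨w, hw⟩ := hxB _ h1'
    refine (Submodule.Quotient.eq _).2 ((hmemB _).2 ⟨w, ?_, hw⟩)
    have h3 : x • (Submodule.Quotient.mk w : ↥Z ⧸ Submodule.comap Z.subtype B) = 0 := by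
      rw [← Submodule.Quotient.mk_smul, Submodule.Quotient.mk_eq_zero, Submodule.mem_comap]
      show x • (w : K.X q) ∈ B
      rw [← hw]; exact h2'
    exact (Submodule.Quotient.mk_eq_zero (p := Submodule.comap Z.subtype B) (x := w)).1 (hxH (h3.trans (smul_zero x).symm))
  · intro a b hab
    obtain ⟨a, rfl⟩ := Submodule.mkQ_surjective _ a
    obtain ⟨b, rfl⟩ := Submodule.mkQ_surjective _ b
    have hab' : (a : K.X q) - b ∈ B ⊔ Ideal.span {x} • Z :=
      (Submodule.Quotient.eq (p := Submodule.comap Z.subtype (B ⊔ Ideal.span {x} • Z)) (x := a) (y := b)).1 hab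
    obtain ⟨c, hc, d, hd, hcd⟩ := Submodule.mem_sup.1 hab'
    have hdZ : d ∈ Z := Submodule.smul_le_right hd
    refine ⟨Submodule.Quotient.mk (a - ⟨d, hdZ⟩), (Submodule.Quotient.eq _).2 ?_, (Submodule.Quotient.eq _).2 ?_⟩
    · show (a : K.X q) - d - a ∈ Ideal.span {x} • Z
      rw [show (a : K.X q) - d - a = -d by abel]
      exact neg_mem hd
    · show (a : K.X q) - d - b ∈ B
      rw [show (a : K.X q) - d - b = c by rw [sub_right_comm, ← hcd, add_sub_cancel_right]]
      exact hc

end Groth.Agent.S15818
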