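import Groth.Statements.S15826
import Groth.Agent.FinLFAnnLib.Main
import Groth.Agent.SweepSix.ConormalSpec
import Groth.Agent.IntMultLib.Cartier
import Groth.Agent.KFlatLib.AffinePull
import Groth.Agent.KFlatLib.QCohPull
import Groth.Agent.GrTildeLib.IsoCrit
import Mathlib.RingTheory.Regular.RegularSequence

set_option autoImplicit false
set_option linter.style.haveILetI false
set_option backward.isDefEq.respectTransparency false
set_option backward.isDefEq.respectTransparency.types false
universe u
open CategoryTheory AlgebraicGeometry Opposite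
open RegImm

namespace Groth.Agent.S15826
open TopologicalSpace CategoryTheory CategoryTheory.Limits

/-- the coefficients of a relation among a weakly regular family lie in its ideal -/
theorem coeff_mem {R : Type u} [CommRing R] : ∀ {n : ℕ} (f : Fin n → R),
    RingTheory.Sequence.IsWeaklyRegular R (List.ofFn f) → ∀ a : Fin n → R, ∑ k, a k * f k = 0 →
      ∀ k, a k ∈ Ideal.span (Set.range f)
  | 0, f, _, a, _ => fun k => k.elim0
  | m + 1, f, hreg, a, ha => by
    have hlast := hreg.regular_mod_prev m (by simp)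
    have hget : (List.ofFn f)[m]'(by simp) = f (Fin.last m) := by simp only [List.getElem_ofFn]; rfl
    have htake : (List.ofFn f).take m = List.ofFn fun k : Fin m => f k.castSucc :=
      List.ext_getElem (by simp) fun j h1 h2 => by simp only [List.getElem_take, List.getElem_ofFn]; rfl
    rw [hget, htake] at hlast
    let f' : Fin m → R := fun k => f k.castSucc
    have hJ : (Ideal.ofList (List.ofFn f') • ⊤ : Submodule R R) = Ideal.span (Set.range f') := by
      rw [smul_eq_mul, Ideal.mul_top, Ideal.ofList]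
      congr 1
      ext x
      simp [List.mem_ofFn, eq_comm]
    rw [Fin.sum_univ_castSucc] at ha
    have hmem : a (Fin.last m) ∈ Ideal.span (Set.range f') := by
      rw [← hJ]
      refine mem_of_isSMulRegular_quotient_of_smul_mem hlast ?_
      rw [hJ, smul_eq_mul, mul_comm, eq_neg_of_add_eq_zero_right ha]
      exact neg_mem (Ideal.sum_mem _ fun k _ => Ideal.mul_mem_left _ _ (Ideal.subset_span ⟨k, rfl⟩))
    have hle : Ideal.span (Set.range f') ≤ Ideal.span (Set.range f) :=
      Ideal.span_mono (by rintro _ ⟨k, rfl⟩; exact ⟨k.castSucc, rfl⟩)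
    have hreg' : RingTheory.Sequence.IsWeaklyRegular R (List.ofFn f') := by
      refine ⟨fun i hi => ?_⟩
      have h := hreg.regular_mod_prev i (by simp at hi ⊢; omega)
      have e1 : (List.ofFn f)[i]'(by simp at hi ⊢; omega) = (List.ofFn f')[i] := by simp only [List.getElem_ofFn]; rfl
      have e2 : (List.ofFn f).take i = (List.ofFn f').take i := by
        rw [← htake, List.take_take, min_eq_left (by simp at hi; omega)]
      rw [e1, e2] at h
      exact h
    obtain ⟨c, hc⟩ := Ideal.mem_span_range_iff_exists_fun.mp hmem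
    have hc' : ∑ k, (a k.castSucc + c k * f (Fin.last m)) * f' k = 0 := by
      rw [← ha, ← hc, Finset.sum_mul, ← Finset.sum_add_distrib]
      exact Finset.sum_congr rfl fun k _ => by ring
    refine Fin.lastCases (hle hmem) fun k => ?_
    have h1 := hle (coeff_mem f' hreg' _ hc' k)
    exact (Ideal.add_mem_iff_left _ (Ideal.mul_mem_left _ _ (Ideal.subset_span (Set.mem_range_self (Fin.last m))))).mp h1


/-- Let X be a scheme, E a finite locally free O_X-module of rank n and s : E → O_X a regular section,
meaning that around every point of X there is an affine open U and a basis e_1, …, e_n of E(U) over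
Γ(X, U) such that s(e_1), …, s(e_n) is a weakly regular sequence in Γ(X, U) (each a non-zero-divisor
modulo the previous ones). Let i : Y → X be a closed immersion whose ideal sheaf I_Y is the image of
s: t : E → I_Y is an epimorphism of O_X-modules with t followed by the inclusion I_Y → O_X equal to
s. Then the pulled-back map i^*t : i^*E → i^*I_Y is an isomorphism of O_Y-modules; its target is the
conormal sheaf C_{Y/X} = I_Y/I_Y², so E|_Y ≅ C_{Y/X} via s and, dually, N_{Y/X} ≅ E^∨|_Y. (The
published statement calls s regular when its image is a regular ideal sheaf locally generated by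
rank-many sections; the local bases mapping to regular sequences used here are how the published
proofs read that condition.) -/
theorem result {X Y : Scheme.{u}} (n : ℕ) (E : X.Modules)
    (hE : FlatMod.IsFinLocFreeOfRank n E) (s : E ⟶ Coh.structureModule X)
    (hs : ∀ x : X, ∃ U : X.affineOpens, x ∈ U.1 ∧
      ∃ b : Module.Basis (Fin n) Γ(X, U.1) (E.val.obj (op U.1)),
        @RingTheory.Sequence.IsWeaklyRegular Γ(X, U.1) Γ(X, U.1) _ _ _ (List.ofFn fun k => (s.val.app (op U.1)).hom (b k)))
    (i : Y ⟶ X) [IsClosedImmersion i] (t : E ⟶ ClSub.idealMod i.ker) [Epi t]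
    (hts : t ≫ ClSub.idealModι i.ker = s) :
    IsIso ((Scheme.Modules.pullback i).map t) := by
  classical
  haveI : Coh.IsQCoh E := FinLFAnn.isQCoh_of_isFinLocFree (fun x => let ⟨U, hxU, he⟩ := hE x; ⟨U, n, hxU, he⟩)
  haveI : Coh.IsQCoh (ClSub.idealMod i.ker) := SweepSix.ConormalSpec.isQCoh_idealMod i.ker
  haveI := KFlatLib.isQCoh_pullback i E
  haveI := KFlatLib.isQCoh_pullback i (ClSub.idealMod i.ker)
  haveI : Coh.IsQCoh (kernel t) := QCohLib.isQCoh_kernel t
  choose U hxU b hb using hs
  refine GrTildeLib.isIso_of_bijective_cover _ (fun x => i ⁻¹ᵁ (U x).1) (fun x => (U x).2.preimage i)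
    (top_le_iff.mp fun z _ => Opens.mem_iSup.mpr ⟨i z, hxU (i z)⟩) fun x => ?_
  let V := (U x).1
  let I := i.ker.ideal (U x)
  let N := ClSub.idealMod i.ker
  let β := ((Scheme.Modules.pullback i).map t).app (i ⁻¹ᵁ V)
  let R' := Γ(Y, i ⁻¹ᵁ V)
  let ρ : Γ(X, V) →+* R' := (i.appLE V (i ⁻¹ᵁ V) le_rfl).hom
  have hρ : Function.Surjective ρ := by
    rw [show ρ = (i.app V).hom from congrArg CommRingCat.Hom.hom i.app_eq_appLE.symm]
    exact i.app_surjective V (U x).2
  have hI : RingHom.ker ρ = I := by
    rw [show ρ = (i.app V).hom from congrArg CommRingCat.Hom.hom i.app_eq_appLE.symm]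
    exact (i.ker_apply (U x)).symm
  have hβsmul : ∀ (r : R') (z : Γ(KFlatLib.pb i E, i ⁻¹ᵁ V)), β (r • z) = r • β z :=
    fun r z => Scheme.Modules.Hom.app_smul _ r z
  have hβpu : ∀ e, β (KFlatLib.puSecLE i E le_rfl e) = KFlatLib.puSecLE i N le_rfl (t.app V e) := by
    intro e
    have hid : ∀ (M : X.Modules) (m : Γ(M, V)), KFlatLib.puSecLE i M le_rfl m = KFlatLib.puSec i m := by
      intro M m
      show (KFlatLib.pb i M).presheaf.map (𝟙 _) _ = _
      rw [CategoryTheory.Functor.map_id]
      rfl
    rw [hid, hid]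
    exact KFlatLib.puSec_natural i t e
  letI := ρ.toAlgebra
  letI : Module Γ(X, V) Γ(KFlatLib.pb i E, i ⁻¹ᵁ V) := Module.compHom _ ρ
  letI : Module Γ(X, V) Γ(KFlatLib.pb i N, i ⁻¹ᵁ V) := Module.compHom _ ρ
  haveI : IsScalarTower Γ(X, V) R' Γ(KFlatLib.pb i E, i ⁻¹ᵁ V) := ⟨fun a c d => mul_smul (ρ a) c d⟩
  haveI : IsScalarTower Γ(X, V) R' Γ(KFlatLib.pb i N, i ⁻¹ᵁ V) := ⟨fun a c d => mul_smul (ρ a) c d⟩
  let lE : Γ(E, V) →ₗ[Γ(X, V)] Γ(KFlatLib.pb i E, i ⁻¹ᵁ V) :=
    { toFun := KFlatLib.puSecLE i E le_rfl, map_add' := map_add _,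
      map_smul' := fun r m => KFlatLib.puSecLE_smul i E le_rfl r m }
  let lN : Γ(N, V) →ₗ[Γ(X, V)] Γ(KFlatLib.pb i N, i ⁻¹ᵁ V) :=
    { toFun := KFlatLib.puSecLE i N le_rfl, map_add' := map_add _,
      map_smul' := fun r m => KFlatLib.puSecLE_smul i N le_rfl r m }
  have hbE : IsBaseChange R' lE := KFlatLib.isBaseChange_puSec i E (U x).2 ((U x).2.preimage i) le_rfl
    (fun _ => rfl) lE (fun _ => rfl)
  have hbN : IsBaseChange R' lN := KFlatLib.isBaseChange_puSec i N (U x).2 ((U x).2.preimage i) le_rfl
    (fun _ => rfl) lN (fun _ => rfl)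
  have hrep : ∀ z, ∃ e, lE e = z := fun z => by
    induction z using hbE.inductionOn with
    | zero => exact ⟨0, map_zero _⟩
    | tmul e => exact ⟨e, rfl⟩
    | smul r z h =>
      obtain ⟨e, rfl⟩ := h
      obtain ⟨r', rfl⟩ := hρ r
      exact ⟨r' • e, map_smul lE r' e⟩
    | add z z' h h' =>
      obtain ⟨e, rfl⟩ := h
      obtain ⟨e', rfl⟩ := h'
      exact ⟨e + e', map_add _ _ _⟩
  have htsurj : Function.Surjective (t.app V) :=
    QCohLib.app_surjective_of_affine (S := ShortComplex.mk (kernel.ι t) t (kernel.condition t))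
      { exact := ShortComplex.exact_of_f_is_kernel _ (kernelIsKernel t)
        mono_f := inferInstanceAs (Mono (kernel.ι t))
        epi_g := inferInstanceAs (Epi t) } (U x).2
  let f : Fin n → Γ(X, V) := fun k => (s.val.app (op V)).hom (b x k)
  let ιI : Γ(N, V) → Γ(X, V) := fun m => (ClSub.idealModι i.ker).app V m
  have hsum : ∀ e : Γ(E, V), ιI (t.app V e) = ∑ k, (b x).repr e k * f k := by
    intro e
    refine (congr($(hts).app V e)).trans ?_
    show (s.val.app (op V)).hom e = _
    conv_lhs => rw [← (b x).sum_repr e, map_sum]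
    exact Finset.sum_congr rfl fun k _ => map_smul _ _ _
  refine ⟨(injective_iff_map_eq_zero β.hom).mpr fun z hz => ?_, fun w => ?_⟩
  · obtain ⟨e, rfl⟩ := hrep z
    have hrange : Ideal.span (Set.range f) = I := by
      refine le_antisymm (Ideal.span_le.mpr ?_) fun a ha => ?_
      · rintro _ ⟨k, rfl⟩
        refine (IntMultLib.toSubscheme_app_eq_zero_iff i.ker (U x) (f k)).mp ?_
        have h0 := congr(($(kernel.condition (ClSub.toSubscheme i.ker))).app V (t.app V (b x k)))
        refine Eq.trans ?_ (h0.trans rfl)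
        exact congrArg ((ClSub.toSubscheme i.ker).app V) (congr($(hts).app V (b x k))).symm
      · obtain ⟨σ, hσ⟩ := IntMultLib.exists_section i.ker (U x) ha
        obtain ⟨e, rfl⟩ := htsurj σ
        rw [← hσ]
        show ιI (t.app V e) ∈ _
        rw [hsum]
        exact Ideal.sum_mem _ fun k _ => Ideal.mul_mem_left _ _ (Ideal.subset_span ⟨k, rfl⟩)
    -- the image in `N / I N`
    let Q := Γ(N, V) ⧸ (RingHom.ker ρ • ⊤ : Submodule Γ(X, V) Γ(N, V))
    let eR : (Γ(X, V) ⧸ RingHom.ker ρ) ≃+* R' := RingHom.quotientKerEquivOfSurjective hρ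
    letI : Module R' Q := Module.compHom Q eR.symm.toRingHom
    haveI : IsScalarTower Γ(X, V) R' Q := IsScalarTower.of_algebraMap_smul fun a q => by
      show eR.symm (ρ a) • q = a • q
      rw [show eR.symm (ρ a) = Ideal.Quotient.mk _ a from eR.symm_apply_eq.mpr
        (RingHom.quotientKerEquivOfSurjective_apply_mk hρ a).symm]
      exact Quotient.inductionOn' q fun m => rfl
    have hq : Submodule.Quotient.mk (p := (RingHom.ker ρ • ⊤ : Submodule Γ(X, V) Γ(N, V))) (t.app V e) = 0 := by
      have h1 : lN (t.app V e) = 0 := (hβpu e).symm.trans hz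
      have h2 := hbN.lift_eq (Q := Q) (Submodule.mkQ _) (t.app V e)
      rw [h1, map_zero] at h2
      exact h2.symm
    rw [Submodule.Quotient.mk_eq_zero] at hq
    have hsq : ιI (t.app V e) ∈ I * I := by
      revert hq
      generalize t.app V e = m₀
      intro hq
      induction hq using Submodule.smul_induction_on' with
      | smul r hr m _ =>
        show (ClSub.idealModι i.ker).app V (r • m) ∈ _
        refine Eq.mpr (congrArg (fun y : Γ(X, V) => y ∈ I * I) (IntMultLib.idealModι_smul i.ker V r m)) ?_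
        refine Ideal.mul_mem_mul (hI ▸ hr) ?_
        refine (IntMultLib.toSubscheme_app_eq_zero_iff i.ker (U x) _).mp ?_
        exact congr(($(kernel.condition (ClSub.toSubscheme i.ker))).app V m)
      | add m _ m' _ h h' =>
        show (ClSub.idealModι i.ker).app V (m + m') ∈ _
        rw [map_add]
        exact add_mem h h'
    rw [hsum] at hsq
    have hsq' : ∃ c : Fin n → Γ(X, V), (∀ k, c k ∈ I) ∧ ∑ k, c k * f k = ∑ k, (b x).repr e k * f k := by
      revert hsq
      generalize ∑ k, (b x).repr e k * f k = y₀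
      intro hsq
      rw [← hrange] at hsq
      induction hsq using Submodule.mul_induction_on' with
      | mem_mul_mem a ha c hc =>
        obtain ⟨d, hd⟩ := Ideal.mem_span_range_iff_exists_fun.mp hc
        refine ⟨fun k => a * d k, fun k => hrange ▸ Ideal.mul_mem_right _ _ ha, ?_⟩
        simp only [mul_assoc, ← Finset.mul_sum]
        rw [hd]
      | add a _ c _ h h' =>
        obtain ⟨d, hdI, hd⟩ := h
        obtain ⟨d', hdI', hd'⟩ := h'
        exact ⟨fun k => d k + d' k, fun k => add_mem (hdI k) (hdI' k), by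
          simp only [add_mul, Finset.sum_add_distrib, hd, hd']⟩
    obtain ⟨c, hcI, hc⟩ := hsq'
    have hrel : ∑ k, ((b x).repr e k - c k) * f k = 0 := by
      simp only [sub_mul, Finset.sum_sub_distrib, hc, sub_self]
    have hzero : ∀ k, ρ ((b x).repr e k) = 0 := fun k => by
      rw [← RingHom.mem_ker, hI]
      have h1 := hrange ▸ coeff_mem f (hb x) _ hrel k
      simpa using add_mem h1 (hcI k)
    show lE e = 0
    rw [← (b x).sum_repr e, map_sum]
    refine Finset.sum_eq_zero fun k _ => ?_
    rw [map_smul, ← IsScalarTower.algebraMap_smul R' ((b x).repr e k)]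
    show ρ ((b x).repr e k) • _ = (0 : Γ(KFlatLib.pb i E, i ⁻¹ᵁ V))
    rw [hzero k, zero_smul]
  · induction w using hbN.inductionOn with
    | zero => exact ⟨0, map_zero _⟩
    | tmul m =>
      obtain ⟨e, rfl⟩ := htsurj m
      exact ⟨lE e, hβpu e⟩
    | smul r w h =>
      obtain ⟨z, rfl⟩ := h
      exact ⟨r • z, hβsmul r z⟩
    | add w w' h h' =>
      obtain ⟨z, rfl⟩ := h
      obtain ⟨z', rfl⟩ := h'
      exact ⟨z + z', map_add _ _ _⟩

end Groth.Agent.S15826
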