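import Groth.Statements.S15832
import Mathlib


-- import your own Groth.Agent.* helpers here

set_option autoImplicit false
universe u
open TopGrp

namespace Groth.Agent.S15832

/-- For a group T with a topology, let B be the family of two-sided translates x Γ y, where Γ runs over
the subgroups of T open in the given topology and x, y over T; the topology generated by B makes T a
topological group in which every neighbourhood of the identity contains a subgroup open for that
topology. (The published statement is for the free topological product of two Noohi groups whose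
open subgroups form a basis of neighbourhoods of the identity; the argument uses only the group
structure and the chosen family of subgroups, so the row is stated for an arbitrary group with a
topology. The published conventions include Hausdorffness in the word topological group; this row
does not assert it, and the published argument does not prove it.) -/
theorem result (T : Type u) [Group T]
    [TopologicalSpace T] :
    @NonarchimedeanGroup T _ (TopologicalSpace.generateFrom
      {S : Set T | ∃ (Γ : OpenSubgroup T) (x y : T), S = (fun g : T => x * g * y) '' (Γ : Set T)}) := by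
  set B : Set (Set T) := {S : Set T | ∃ (Γ : OpenSubgroup T) (x y : T), S = (fun g : T => x * g * y) '' (Γ : Set T)} with hB
  have hmem : ∀ (x y a : T) (Γ : OpenSubgroup T), a ∈ (fun g : T => x * g * y) '' (Γ : Set T) ↔ x⁻¹ * a * y⁻¹ ∈ Γ := by
    intro x y a Γ
    constructor
    · rintro ⟨g, hg, rfl⟩
      simpa [mul_assoc] using hg
    · intro h
      exact ⟨_, h, by simp [mul_assoc]⟩
  have hgen : ∀ (Γ : OpenSubgroup T) (x y : T), @IsOpen T (TopologicalSpace.generateFrom B) ((fun g : T => x * g * y) '' (Γ : Set T)) :=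
    fun Γ x y => TopologicalSpace.isOpen_generateFrom_of_mem ⟨Γ, x, y, rfl⟩
  have hgrp : @IsTopologicalGroup T (TopologicalSpace.generateFrom B) _ := by
    letI := TopologicalSpace.generateFrom B
    haveI : ContinuousMul T := ⟨continuous_generateFrom_iff.2 (by
      rintro _ ⟨Γ, x, y, rfl⟩
      rw [isOpen_iff_forall_mem_open]
      rintro ⟨a, b⟩ hab
      rw [Set.mem_preimage, hmem] at hab
      set c := y * b⁻¹
      refine ⟨((fun g : T => (a * c⁻¹) * g * c) '' (Γ : Set T)) ×ˢ ((fun g : T => c⁻¹ * g * (c * b)) '' (Γ : Set T)), ?_,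
        (hgen Γ (a * c⁻¹) c).prod (hgen Γ c⁻¹ (c * b)), ⟨⟨1, Γ.one_mem, by simp⟩, ⟨1, Γ.one_mem, by simp⟩⟩⟩
      rintro ⟨_, _⟩ ⟨⟨g, hg, rfl⟩, ⟨h, hh, rfl⟩⟩
      rw [Set.mem_preimage, hmem]
      have e : x⁻¹ * ((a * c⁻¹ * g * c) * (c⁻¹ * h * (c * b))) * y⁻¹ = (x⁻¹ * (a * b) * y⁻¹) * (g * h) := by
        simp only [c]; group
      rw [e]
      exact Γ.mul_mem hab (Γ.mul_mem hg hh))⟩
    haveI : ContinuousInv T := ⟨continuous_generateFrom_iff.2 (by
      rintro _ ⟨Γ, x, y, rfl⟩
      convert hgen Γ y⁻¹ x⁻¹ using 1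
      ext a
      rw [Set.mem_preimage, hmem, hmem, ← inv_mem_iff]
      simp [mul_assoc])⟩
    exact {}
  have hBP : ∀ s ∈ B, ∃ (H : Subgroup T) (x y : T), s = (fun g : T => x * g * y) '' (H : Set T) ∧
      ∀ x' y' : T, @IsOpen T (TopologicalSpace.generateFrom B) ((fun g : T => x' * g * y') '' (H : Set T)) := by
    rintro _ ⟨Γ, x, y, rfl⟩
    exact ⟨Γ.toSubgroup, x, y, rfl, fun x' y' => hgen Γ x' y'⟩
  have hmem' : ∀ (H : Subgroup T) (x y a : T), a ∈ (fun g : T => x * g * y) '' (H : Set T) ↔ x⁻¹ * a * y⁻¹ ∈ H := by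
    intro H x y a
    constructor
    · rintro ⟨g, hg, rfl⟩
      simpa [mul_assoc] using hg
    · intro h
      exact ⟨_, h, by simp [mul_assoc]⟩
  letI := TopologicalSpace.generateFrom B
  haveI := hgrp
  refine { is_nonarchimedean := fun U hU => ?_ }
  obtain ⟨O, hOU, hO, h1⟩ := mem_nhds_iff.1 hU
  have key : ∀ s : Set T, TopologicalSpace.GenerateOpen B s → (1 : T) ∈ s → ∃ V : OpenSubgroup T, (V : Set T) ⊆ s := by
    intro s hs
    induction hs with
    | basic s hs =>
      obtain ⟨H, x, y, rfl, hH⟩ := hBP s hs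
      intro hone
      rw [hmem', mul_one] at hone
      have heq : (fun g : T => x * g * y) '' (H : Set T) = (fun g : T => y⁻¹ * g * y) '' (H : Set T) := by
        ext a
        rw [hmem', hmem', inv_inv, show x⁻¹ * a * y⁻¹ = (x⁻¹ * y⁻¹) * (y * a * y⁻¹) by group]
        exact H.mul_mem_cancel_left hone
      refine ⟨⟨H.map (MulAut.conj y⁻¹).toMonoidHom, ?_⟩, ?_⟩
      · convert hH y⁻¹ y using 1
        ext a
        simp [MulAut.conj_apply]
      · rw [heq]
        rintro _ ⟨g, hg, rfl⟩
        exact ⟨g, hg, by simp [MulAut.conj_apply]⟩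
    | univ => exact fun _ => ⟨⟨⊤, isOpen_univ⟩, Set.subset_univ _⟩
    | inter s t _ _ ihs iht =>
      rintro ⟨a, b⟩
      obtain ⟨V, hV⟩ := ihs a; obtain ⟨W, hW⟩ := iht b
      exact ⟨V ⊓ W, fun z hz => ⟨hV hz.1, hW hz.2⟩⟩
    | sUnion S _ ih =>
      rintro ⟨s, hs, h⟩
      obtain ⟨V, hV⟩ := ih s hs h
      exact ⟨V, hV.trans (Set.subset_sUnion_of_mem hs)⟩
  obtain ⟨V, hV⟩ := key O hO h1
  exact ⟨V, hV.trans hOU⟩

end Groth.Agent.S15832
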