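import Groth.Statements.S15833
import Mathlib.AlgebraicGeometry.ValuativeCriterion
import Mathlib.AlgebraicGeometry.Morphisms.ClosedImmersion
-- import your own Groth.Agent.* helpers here

set_option autoImplicit false
universe u
open EtBase

namespace Groth.Agent.S15833

open CategoryTheory CategoryTheory.Limits AlgebraicGeometry in
/-- Let i : X₀ ⟶ X be a surjective closed immersion of schemes and f : Y ⟶ X a morphism. Then f
satisfies the valuative criterion (existence and uniqueness of a lift in every valuative square,
over arbitrary valuation rings) if and only if its base change Y ×_X X₀ ⟶ X₀ does. (The published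
statement takes X locally Noetherian and connected, X₀ the reduced closed subscheme with the same
underlying space and f étale, and combines this step with the equivalence between étale schemes over
X and over X₀ to identify the geometric coverings, i.e. the étale morphisms satisfying the valuative
criterion, of X and of X₀; the argument for this step uses only that X₀ ⟶ X is a surjective closed
immersion and that valuation rings are reduced.) -/
theorem result {X X₀ Y : Scheme.{u}} (i : X₀ ⟶ X)
    [IsClosedImmersion i] [Surjective i] (f : Y ⟶ X) :
    ValuativeCriterion f ↔ ValuativeCriterion (pullback.snd f i) := by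
  constructor
  · intro h S
    obtain ⟨hu⟩ := h { S with
      i₁ := S.i₁ ≫ pullback.fst f i
      i₂ := S.i₂ ≫ i
      commSq := ⟨by rw [Category.assoc, pullback.condition, reassoc_of% S.commSq.w]⟩ }
    let L := hu.default
    refine ⟨{ default := ⟨pullback.lift L.l S.i₂ L.fac_right, ?_, pullback.lift_snd _ _ _⟩, uniq := fun M => ?_ }⟩
    · refine pullback.hom_ext ?_ ?_
      · rw [Category.assoc, pullback.lift_fst]; exact L.fac_left
      · rw [Category.assoc, pullback.lift_snd]; exact S.commSq.w.symm
    · ext1
      refine pullback.hom_ext ?_ ?_
      · rw [pullback.lift_fst]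
        exact congrArg CommSq.LiftStruct.l (hu.uniq ⟨M.l ≫ pullback.fst f i,
          (Category.assoc _ _ _).symm.trans (congrArg (· ≫ pullback.fst f i) M.fac_left),
          (Category.assoc _ _ _).trans ((congrArg (M.l ≫ ·) pullback.condition).trans
            ((Category.assoc _ _ _).symm.trans (congrArg (· ≫ i) M.fac_right)))⟩)
      · rw [pullback.lift_snd]; exact M.fac_right
  · intro h S
    let P := pullback S.i₂ i
    haveI : Surjective (pullback.fst S.i₂ i) := inferInstance
    haveI : IsIso (pullback.fst S.i₂ i) := isIso_of_isClosedImmersion_of_surjective _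
    let a := inv (pullback.fst S.i₂ i) ≫ pullback.snd S.i₂ i
    have ha : a ≫ i = S.i₂ := by
      rw [Category.assoc, ← pullback.condition, IsIso.inv_hom_id_assoc]
    have hw : S.i₁ ≫ f = (Spec.map (CommRingCat.ofHom (algebraMap S.R S.K)) ≫ a) ≫ i := by
      rw [Category.assoc, ha]; exact S.commSq.w
    obtain ⟨hu⟩ := h
      { R := S.R, K := S.K, i₁ := pullback.lift S.i₁ _ hw, i₂ := a, commSq := ⟨pullback.lift_snd _ _ _⟩ }
    let L := hu.default
    refine ⟨{ default := ⟨L.l ≫ pullback.fst f i, ?_, ?_⟩, uniq := fun M => ?_ }⟩
    · rw [← Category.assoc, L.fac_left, pullback.lift_fst]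
    · rw [Category.assoc, pullback.condition, ← Category.assoc, L.fac_right, ha]
    · ext1
      have hM : M.l ≫ f = a ≫ i := by rw [ha]; exact M.fac_right
      have h3 := congrArg CommSq.LiftStruct.l (hu.uniq ⟨pullback.lift M.l a hM, pullback.hom_ext
        (by rw [Category.assoc, pullback.lift_fst, pullback.lift_fst]; exact M.fac_left)
        (by rw [Category.assoc, pullback.lift_snd, pullback.lift_snd]), pullback.lift_snd _ _ _⟩)
      have h4 := congrArg (· ≫ pullback.fst f i) h3
      rw [pullback.lift_fst] at h4
      exact h4


end Groth.Agent.S15833
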