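import Groth.Statements.S15835
import Mathlib


-- import your own Groth.Agent.* helpers here

set_option autoImplicit false
universe u
open SprIso

namespace Groth.Agent.S15835

/-- Over a commutative ring R of prime characteristic p, let n ≥ 1 and let p^m be the largest power of p
dividing n. The locus of n × n matrices with characteristic polynomial t^n is stable under adding a
scalar matrix a·1 with n·a = 0 exactly when a^(p^m) = 0: for X with characteristic polynomial t^n
and such an a, the matrix X + a·1 has characteristic polynomial t^n if and only if a^(p^m) = 0.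
(Stated on points with values in an arbitrary ring of characteristic p; the scheme-theoretic
assertion about the nilpotent scheme of SL_n is this statement for all such rings.) -/
theorem result (p : ℕ) [Fact p.Prime] (R : Type u) [CommRing R]
    [CharP R p] (n : ℕ) (hn : 0 < n) (X : Matrix (Fin n) (Fin n) R) (hX : X.charpoly = Polynomial.X ^ n)
    (a : R) (ha : (n : R) * a = 0) :
    (X + Matrix.scalar (Fin n) a).charpoly = Polynomial.X ^ n ↔ a ^ (p ^ padicValNat p n) = 0 := by
  obtain ⟨u, hu, hpu⟩ : ∃ u, n = p ^ padicValNat p n * u ∧ ¬ p ∣ u := by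
    obtain ⟨u, hu⟩ := pow_padicValNat_dvd (p := p) (n := n)
    refine ⟨u, hu, fun ⟨w, hw⟩ => ?_⟩
    refine pow_succ_padicValNat_not_dvd (p := p) hn.ne' ⟨w, ?_⟩
    conv_lhs => rw [hu, hw]
    ring
  set q := p ^ padicValNat p n
  have hchar : (X + Matrix.scalar (Fin n) a).charpoly = (Polynomial.X - Polynomial.C a) ^ n := by
    have h1 : (X + Matrix.scalar (Fin n) a).charpoly = X.charpoly.comp (Polynomial.X - Polynomial.C a) := by
      rw [sub_eq_add_neg (Polynomial.X : Polynomial R), ← map_neg Polynomial.C, ← Matrix.charpoly_sub_scalar, map_neg, sub_neg_eq_add]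
    rw [h1, hX, Polynomial.X_pow_comp]
  have hsplit : (Polynomial.X - Polynomial.C a) ^ n = (Polynomial.X ^ q - Polynomial.C (a ^ q)) ^ u := by
    rw [hu, pow_mul, sub_pow_char_pow, Polynomial.C_pow]
  rw [hchar, hsplit]
  constructor
  · intro h
    have hu0 : 0 < u := Nat.pos_of_ne_zero fun h0 => hpu (h0 ▸ dvd_zero p)
    have hq0 : 0 < q := pow_pos (Fact.out : p.Prime).pos _
    have h2 := congrArg (fun P : Polynomial R => P.coeff ((u - 1) * q)) h
    rw [Polynomial.coeff_X_pow, if_neg (by rw [hu]; intro he; have : (u - 1) * q < q * u := by rw [mul_comm q u]; exact Nat.mul_lt_mul_of_pos_right (by omega) hq0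
                                           omega)] at h2
    rw [show Polynomial.X ^ q - Polynomial.C (a ^ q) = (Polynomial.expand R q) (Polynomial.X - Polynomial.C (a ^ q)) by simp,
      ← map_pow, Polynomial.coeff_expand_mul hq0, sub_eq_add_neg, ← map_neg, Polynomial.coeff_X_add_C_pow,
      show u - (u - 1) = 1 by omega, pow_one, Nat.choose_symm (by omega : 1 ≤ u), Nat.choose_one_right] at h2
    have huR : IsUnit (u : R) := by
      rw [← map_natCast (ZMod.castHom (dvd_refl p) R : ZMod p →+* R)]
      exact IsUnit.map _ (isUnit_iff_ne_zero.2 fun h0 => hpu ((ZMod.natCast_eq_zero_iff _ _).1 h0))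
    exact neg_eq_zero.1 (huR.mul_left_eq_zero.1 h2)
  · intro h
    rw [h, map_zero, sub_zero, ← pow_mul, ← hu]

end Groth.Agent.S15835
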