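import Groth.Statements.S15836
import Groth.Agent.GradedPicLib.Basic
import Mathlib


-- import your own Groth.Agent.* helpers here

set_option autoImplicit false
universe u
open SprIso

namespace Groth.Agent.S15836

/-- Let k be a field and C a closed subscheme of affine n-space over k which is stable under the scaling
action of the affine line, i.e. C = Spec A with A = k[x_1, …, x_n]/I for an ideal I generated by
homogeneous polynomials, and assume C is normal (A is an integrally closed domain). Then Pic(C) = 0:
every invertible A-module is free. -/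
theorem result (k : Type u) [Field k] (n : ℕ)
    (I : Ideal (MvPolynomial (Fin n) k))
    (hI : ∃ s : Set (MvPolynomial (Fin n) k), (∀ f ∈ s, ∃ d : ℕ, f.IsHomogeneous d) ∧ I = Ideal.span s)
    [IsDomain (MvPolynomial (Fin n) k ⧸ I)] [IsIntegrallyClosed (MvPolynomial (Fin n) k ⧸ I)]
    (M : Type u) [AddCommGroup M] [Module (MvPolynomial (Fin n) k ⧸ I) M]
    [Module.Invertible (MvPolynomial (Fin n) k ⧸ I) M] :
    Module.Free (MvPolynomial (Fin n) k ⧸ I) M := by
  classical
  obtain ⟨s, hs, rfl⟩ := hI
  let A := MvPolynomial (Fin n) k ⧸ Ideal.span s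
  let aφ : MvPolynomial (Fin n) k →ₐ[k] Polynomial A :=
    MvPolynomial.aeval fun i => Polynomial.X * Polynomial.C (Ideal.Quotient.mk (Ideal.span s) (MvPolynomial.X i))
  have hscale : ∀ (f : MvPolynomial (Fin n) k) (d : ℕ), f.IsHomogeneous d →
      aφ f = Polynomial.X ^ d * Polynomial.C (Ideal.Quotient.mk (Ideal.span s) f) := by
    intro f d hf
    conv_rhs => rw [MvPolynomial.as_sum f]
    conv_lhs => rw [MvPolynomial.as_sum f]
    simp only [map_sum, Finset.mul_sum]
    refine Finset.sum_congr rfl fun m hm => ?_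
    have hdeg : ∑ i, m i = d := by
      rw [← hf (MvPolynomial.mem_support_iff.1 hm), Finsupp.weight_apply, Finsupp.sum_fintype _ _ (by simp)]
      simp
    rw [MvPolynomial.monomial_eq, Finsupp.prod_fintype _ _ (fun i => pow_zero _)]
    simp only [map_mul, map_prod, map_pow, aφ, MvPolynomial.aeval_C, MvPolynomial.aeval_X]
    have hp : ∀ (S : Type u) [CommRing S] (y : Fin n → S),
        ∏ i, ((Polynomial.X : Polynomial S) * Polynomial.C (y i)) ^ m i =
        Polynomial.X ^ d * ∏ i, Polynomial.C (y i) ^ m i := fun S _ y => by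
      rw [Finset.prod_congr rfl fun i _ => mul_pow _ _ _, Finset.prod_mul_distrib, Finset.prod_pow_eq_pow_sum, hdeg]
    erw [hp A]
    have : (algebraMap k (Polynomial A)) (MvPolynomial.coeff m f) =
        Polynomial.C (Ideal.Quotient.mk (Ideal.span s) (MvPolynomial.C (MvPolynomial.coeff m f))) := rfl
    rw [this]
    ring
  have hker : ∀ x ∈ Ideal.span s, aφ x = 0 := by
    intro x hx
    have : Ideal.span s ≤ RingHom.ker aφ.toRingHom := Ideal.span_le.2 fun f hf => by
      obtain ⟨d, hd⟩ := hs f hf
      rw [SetLike.mem_coe, RingHom.mem_ker, AlgHom.toRingHom_eq_coe, RingHom.coe_coe, hscale f d hd,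
        Ideal.Quotient.eq_zero_iff_mem.2 (Ideal.subset_span hf), map_zero, mul_zero]
    exact this hx
  let φ : A →+* Polynomial A := Ideal.Quotient.lift _ aφ.toRingHom hker
  let e0 : Polynomial A →+* A := Polynomial.evalRingHom 0
  let e1 : Polynomial A →+* A := Polynomial.evalRingHom 1
  let ψ0 : A →+* A := e0.comp φ
  have hψ0 : ∀ x : MvPolynomial (Fin n) k, ψ0 (Ideal.Quotient.mk _ x) = algebraMap k A (MvPolynomial.constantCoeff x) := by
    intro x
    have : ((ψ0.comp (Ideal.Quotient.mk _)) : MvPolynomial (Fin n) k →+* A) = (algebraMap k A).comp MvPolynomial.constantCoeff := by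
      refine MvPolynomial.ringHom_ext (fun r => ?_) (fun i => ?_)
      · change e0 (aφ (MvPolynomial.C r)) = algebraMap k A (MvPolynomial.constantCoeff (MvPolynomial.C r))
        simp [e0, aφ, Polynomial.algebraMap_apply]; rfl
      · change e0 (aφ (MvPolynomial.X i)) = algebraMap k A (MvPolynomial.constantCoeff (MvPolynomial.X i))
        simp [e0, aφ]
    exact RingHom.congr_fun this x
  have hc : ∀ x ∈ Ideal.span s, MvPolynomial.constantCoeff x = 0 := fun x hx =>
    (algebraMap k A).injective (by rw [← hψ0, Ideal.Quotient.eq_zero_iff_mem.2 hx, map_zero, map_zero])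
  let ε : A →+* k := Ideal.Quotient.lift _ MvPolynomial.constantCoeff hc
  have hψε : ψ0 = (algebraMap k A).comp ε := Ideal.Quotient.ringHom_ext (RingHom.ext fun x => hψ0 x)
  have hψ1 : e1.comp φ = RingHom.id A := Ideal.Quotient.ringHom_ext (MvPolynomial.ringHom_ext
    (fun r => by
      change e1 (aφ (MvPolynomial.C r)) = algebraMap k A r
      simp [e1, aφ, Polynomial.algebraMap_apply]; rfl)
    (fun i => by
      change e1 (aφ (MvPolynomial.X i)) = Ideal.Quotient.mk _ (MvPolynomial.X i)
      simp [e1, aφ]))
  let m := CommRing.Pic.mk A M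
  obtain ⟨m', hm'⟩ := GradedPicLib.mapRingHom_C_surjective (A := A) (CommRing.Pic.mapRingHom φ m)
  have hC : ∀ a : A, ((Polynomial.evalRingHom a).comp Polynomial.C) = RingHom.id A :=
    fun a => RingHom.ext fun x => Polynomial.eval_C
  have key : ∀ a : A, CommRing.Pic.mapRingHom ((Polynomial.evalRingHom a).comp φ) m = m' := fun a => by
    rw [← CommRing.Pic.mapRingHom_mapRingHom, ← hm', CommRing.Pic.mapRingHom_mapRingHom, hC,
      CommRing.Pic.mapRingHom_id_apply]
  have h1 : m = m' := by
    have := key 1
    rwa [hψ1, CommRing.Pic.mapRingHom_id_apply] at this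
  have h0 : CommRing.Pic.mapRingHom ψ0 m = m' := key 0
  rw [hψε, ← CommRing.Pic.mapRingHom_mapRingHom, Subsingleton.elim (CommRing.Pic.mapRingHom ε m) 1, map_one] at h0
  exact CommRing.Pic.mk_eq_one_iff_free.1 (h1.trans h0.symm)

end Groth.Agent.S15836
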