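import Groth.Statements.S15839
import Groth.Agent.AlgSpLib.Sep


-- import your own Groth.Agent.* helpers here

set_option autoImplicit false
universe u
open CategoryTheory MonoidalCategory CartesianMonoidalCategory MonObj GrpObj AlgebraicGeometry
open SprIso

namespace Groth.Agent.S15839

/-- Let S be a scheme, G an S-group scheme which is affine and of finite presentation over S, and g a
section of G over S. Then the centralizer of g — the subfunctor of G whose points with values in an
S-scheme T are the points x of G with x g_T = g_T x — is represented by a closed subscheme of G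
whose inclusion is of finite presentation. -/
theorem result (S : Scheme.{u}) (G : Over S) [GrpObj G]
    [IsAffineHom G.hom] [LocallyOfFinitePresentation G.hom] (g : 𝟙_ (Over S) ⟶ G) :
    ∃ (Z : Over S) (j : Z ⟶ G), IsClosedImmersion j.left ∧ LocallyOfFinitePresentation j.left ∧
      ∀ (T : Over S) (x : T ⟶ G), (∃ z : T ⟶ Z, z ≫ j = x) ↔
        x * (toUnit T ≫ g) = (toUnit T ≫ g) * x := by
  let c : G ⟶ G ⊗ G := lift (𝟙 G * (toUnit G ≫ g)) ((toUnit G ≫ g) * 𝟙 G)
  let Δ : G ⟶ G ⊗ G := lift (𝟙 G) (𝟙 G)
  haveI : IsClosedImmersion Δ.left := inferInstanceAs (IsClosedImmersion (Limits.pullback.diagonal G.hom))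
  haveI : LocallyOfFinitePresentation Δ.left := AlgSpLib.lfp_diagonal G.hom
  let j := Limits.pullback.fst c.left Δ.left
  refine ⟨Over.mk (j ≫ G.hom), Over.homMk j rfl, MorphismProperty.pullback_fst _ _ ‹IsClosedImmersion Δ.left›,
    MorphismProperty.pullback_fst _ _ ‹LocallyOfFinitePresentation Δ.left›, fun T x => ?_⟩
  have key : x * (toUnit T ≫ g) = (toUnit T ≫ g) * x ↔ ∃ w : T ⟶ G, x ≫ c = w ≫ Δ := by
    simp only [c, Δ, comp_lift, MonObj.comp_mul, Category.comp_id, comp_toUnit_assoc]
    refine ⟨fun h => ⟨x * (toUnit T ≫ g), by rw [h]⟩, fun ⟨w, hw⟩ => ?_⟩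
    have e1 := congrArg (· ≫ fst G G) hw
    have e2 := congrArg (· ≫ snd G G) hw
    simp only [lift_fst, lift_snd] at e1 e2
    rw [e1, e2]
  rw [key]
  constructor
  · rintro ⟨z, rfl⟩
    refine ⟨Over.homMk (z.left ≫ Limits.pullback.snd c.left Δ.left) ?_, ?_⟩
    · have h1 : Limits.pullback.snd c.left Δ.left ≫ G.hom = j ≫ G.hom := by
        conv_lhs => rw [← Over.w Δ]
        rw [← Category.assoc, ← Limits.pullback.condition, Category.assoc, Over.w c]
      rw [Category.assoc, h1]
      exact Over.w z
    · exact Over.OverMorphism.ext (by simp [j, Limits.pullback.condition])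
  · rintro ⟨w, hw⟩
    have hl : x.left ≫ c.left = w.left ≫ Δ.left := congrArg CommaMorphism.left hw
    refine ⟨Over.homMk (Limits.pullback.lift x.left w.left hl) ?_, Over.OverMorphism.ext (Limits.pullback.lift_fst _ _ _)⟩
    show _ ≫ j ≫ G.hom = _
    rw [Limits.pullback.lift_fst_assoc, Over.w]

end Groth.Agent.S15839
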