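import Groth.Statements.S15840
import Mathlib.Data.Nat.Choose.Lucas
import Mathlib.NumberTheory.Padics.PadicVal.Basic
import Mathlib.Algebra.CharP.Lemmas
import Mathlib.Algebra.Polynomial.Expand
import Mathlib.Data.ZMod.Basic
import Mathlib.Algebra.Field.ZMod

set_option autoImplicit false
universe u
open SprIso

namespace Groth.Agent.S15840

/-- For G = SL_n (n = r + 1) over a field of characteristic p > 0, write n = m p^e with m prime to p, so
that the identity component of the centre of G is μ_{p^e} embedded diagonally. The character of the
i-th exterior power of the standard representation takes the value C(n, i) α^i at a point α of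
μ_{p^e}, and this is constant: for every commutative ring R of characteristic p and every α in R
with α^(p^e) = 1 one has C(n, i) α^i = C(n, i) in R, for all i. -/
theorem result (p : ℕ) [Fact p.Prime] (R : Type u) [CommRing R]
    [CharP R p] (n : ℕ) (hn : 0 < n) (α : R) (hα : α ^ (p ^ padicValNat p n) = 1) (i : ℕ) :
    (n.choose i : R) * α ^ i = (n.choose i : R) := by
  by_cases hi : p ^ padicValNat p n ∣ i
  · obtain ⟨c, rfl⟩ := hi
    rw [pow_mul, hα, one_pow, mul_one]
  suffices h : (n.choose i : R) = 0 by rw [h, zero_mul]
  obtain ⟨q, hq⟩ := (pow_padicValNat_dvd : p ^ padicValNat p n ∣ n)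
  generalize padicValNat p n = v at hi hq hα
  have e : ((1 : Polynomial (ZMod p)) + Polynomial.X) ^ n = Polynomial.expand (ZMod p) (p ^ v) ((1 + Polynomial.X) ^ q) := by
    rw [hq, pow_mul, add_pow_char_pow, one_pow, map_pow, map_add, map_one, Polynomial.expand_X]
  have hc := congrArg (fun P => Polynomial.coeff P i) e
  simp only [Polynomial.coeff_one_add_X_pow] at hc
  rw [Polynomial.coeff_expand (pow_pos (Fact.out : p.Prime).pos v), if_neg hi] at hc
  exact (CharP.cast_eq_zero_iff R p _).mpr ((ZMod.natCast_eq_zero_iff _ _).mp hc)

end Groth.Agent.S15840
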