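import Groth.Statements.S15841
import Mathlib.RingTheory.TensorProduct.Basic

set_option autoImplicit false
universe u
open scoped TensorProduct
open SprIso

namespace Groth.Agent.S15841

/-- For a connected reductive group G with maximal torus T whose derived group is simply connected, and
a Coxeter element w (the product of the simple reflections, each once, in any order), an element of
Lie T = k ⊗ X_*(T) fixed by Ad(w) is killed by the differential of every simple root, i.e. lies in
the centre of Lie G. In root-datum form: let P be a root pairing over ℤ with character lattice M and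
cocharacter lattice N, b a base, and suppose each simple coroot has a dual character ω_i in M with
⟨ω_i, α_i^∨⟩ = 1 and ⟨ω_i, α_j^∨⟩ = 0 for every other simple j (the simply connected derived group
hypothesis). If l lists the simple roots without repetition, w^∨ is the composite of the
coreflections along l acting on N, k is a field and H in k ⊗ N satisfies w^∨_k H = H, then (α_i)_k H
= 0 for every simple root α_i, where (α_i)_k is the base change to k of the functional ⟨α_i, −⟩ on
N. (Stated for an arbitrary field k; the published setting is an algebraically closed field, and the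
argument does not depend on k.) -/
theorem result {ι M N : Type u} [AddCommGroup M] [AddCommGroup N]
    (P : RootPairing ι ℤ M N) (b : P.Base)
    (hsc : ∀ i ∈ b.support, ∃ ω : M, P.coroot' i ω = 1 ∧ ∀ j ∈ b.support, j ≠ i → P.coroot' j ω = 0)
    (l : List ι) (hl : l.Nodup) (hlb : ∀ i : ι, i ∈ l ↔ i ∈ b.support)
    (k : Type u) [Field k] (H : k ⊗[ℤ] N)
    (hH : ((l.map (fun i => ((P.coreflection i : N ≃ₗ[ℤ] N) : N →ₗ[ℤ] N))).prod).baseChange k H = H) :
    ∀ i ∈ b.support, (P.root' i).baseChange k H = 0 := by
  let s : ι → (N →ₗ[ℤ] N) := fun i => ((P.coreflection i : N ≃ₗ[ℤ] N) : N →ₗ[ℤ] N)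
  have hs : ∀ i, s i = LinearMap.id - (LinearMap.toSpanSingleton ℤ N (P.coroot i)).comp (P.root' i) := fun i =>
    LinearMap.ext fun x => P.coreflection_apply i x
  suffices key : ∀ l : List ι, l.Nodup → (∀ i ∈ l, i ∈ b.support) → ((l.map s).prod).baseChange k H = H →
      ∀ i ∈ l, (P.root' i).baseChange k H = 0 from
    fun i hi => key l hl (fun j hj => (hlb j).1 hj) hH i ((hlb i).2 hi)
  intro l
  induction l with
  | nil => simp
  | cons a l ih =>
    intro hl hsupp hfix
    rw [List.nodup_cons] at hl
    obtain ⟨ω, hω1, hω0⟩ := hsc a (hsupp a (List.mem_cons_self ..))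
    let F : N →ₗ[ℤ] ℤ := P.toLinearMap ω
    have hF : ∀ l' : List ι, (∀ j ∈ l', j ∈ b.support ∧ j ≠ a) → F.comp (l'.map s).prod = F := by
      intro l'
      induction l' with
      | nil => intro _; exact LinearMap.comp_id F
      | cons j l' ih' =>
        intro hl'
        rw [List.map_cons, List.prod_cons, Module.End.mul_eq_comp, ← LinearMap.comp_assoc]
        rw [show F.comp (s j) = F from LinearMap.ext fun x => ?_, ih' fun i hi => hl' i (List.mem_cons_of_mem _ hi)]
        rw [LinearMap.comp_apply, hs, LinearMap.sub_apply, map_sub, LinearMap.comp_apply, LinearMap.toSpanSingleton_apply,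
          map_smul, LinearMap.id_apply]
        have h0 : F (P.coroot j) = 0 := hω0 j (hl' j (List.mem_cons_self ..)).1 (hl' j (List.mem_cons_self ..)).2
        rw [h0, smul_zero, sub_zero]
    have hFw : F.comp ((a :: l).map s).prod = F - (P.root' a).comp (l.map s).prod := by
      rw [List.map_cons, List.prod_cons, Module.End.mul_eq_comp]
      have h1 := hF l fun j hj => ⟨hsupp j (List.mem_cons_of_mem _ hj), fun e => hl.1 (e ▸ hj)⟩
      refine LinearMap.ext fun x => ?_
      rw [LinearMap.comp_apply, LinearMap.comp_apply, hs, LinearMap.sub_apply, map_sub, LinearMap.comp_apply,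
        LinearMap.toSpanSingleton_apply, map_smul, LinearMap.id_apply, show F (P.coroot a) = 1 from hω1, smul_eq_mul,
        mul_one, LinearMap.sub_apply, LinearMap.comp_apply, ← LinearMap.comp_apply F, h1]
    have e := LinearMap.congr_fun (congrArg (LinearMap.baseChange k) hFw) H
    rw [LinearMap.baseChange_comp, LinearMap.baseChange_sub, LinearMap.baseChange_comp, LinearMap.comp_apply, hfix,
      LinearMap.sub_apply, LinearMap.comp_apply, eq_comm, sub_eq_self] at e
    rw [List.map_cons, List.prod_cons, Module.End.mul_eq_comp, LinearMap.baseChange_comp, LinearMap.comp_apply, hs,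
      LinearMap.baseChange_sub, LinearMap.baseChange_comp, LinearMap.sub_apply, LinearMap.comp_apply, e, map_zero,
      sub_zero, LinearMap.baseChange_id, LinearMap.id_apply] at hfix
    intro i hi
    rcases List.mem_cons.1 hi with rfl | hi
    · rwa [hfix] at e
    · exact ih hl.2 (fun j hj => hsupp j (List.mem_cons_of_mem _ hj)) hfix i hi

end Groth.Agent.S15841
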