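import Groth.Statements.S15844
import Groth.Agent.S15842
import Mathlib.LinearAlgebra.Matrix.Charpoly.Basic
import Mathlib.RingTheory.Nilpotent.Basic

set_option autoImplicit false
universe u
open SprIso

namespace Groth.Agent.S15844

/-- General linear group case: this is the case G = GL_n (derived group SL_n simply connected, all
primes good). Let A be a commutative ring, u an n × n matrix over A with characteristic polynomial
(t − 1)^n (a section of the unipotent scheme) and X one with characteristic polynomial t^n (a
section of the nilpotent scheme), both fiberwise regular — at every field-valued point A → K the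
commutant in M_n(K) has dimension n — and suppose X commutes with u (X lies in the Lie algebra of
the centralizer of u). Then Z(u) = Z(X) inside GL_n: for every commutative A-algebra B and every
invertible x ∈ M_n(B), x commutes with u_B if and only if x commutes with X_B. -/
theorem result (A : Type u) [CommRing A] (n : ℕ)
    (u X : Matrix (Fin n) (Fin n) A)
    (hu : u.charpoly = (Polynomial.X - 1) ^ n) (hX : X.charpoly = Polynomial.X ^ n)
    (hureg : ∀ (K : Type u) [Field K] (φ : A →+* K),
      Module.finrank K (Subalgebra.centralizer K ({u.map φ} : Set (Matrix (Fin n) (Fin n) K))) = n)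
    (hXreg : ∀ (K : Type u) [Field K] (φ : A →+* K),
      Module.finrank K (Subalgebra.centralizer K ({X.map φ} : Set (Matrix (Fin n) (Fin n) K))) = n)
    (hXu : X * u = u * X)
    (B : Type u) [CommRing B] [Algebra A B] (x : Matrix (Fin n) (Fin n) B) (hx : IsUnit x) :
    x * u.map (algebraMap A B) = u.map (algebraMap A B) * x ↔
      x * X.map (algebraMap A B) = X.map (algebraMap A B) * x := by
  let F : Matrix (Fin n) (Fin n) A →+* Matrix (Fin n) (Fin n) B := (algebraMap A B).mapMatrix
  change x * F u = F u * x ↔ x * F X = F X * x
  have hXn : X ^ n = 0 := by simpa [hX] using Matrix.aeval_self_charpoly X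
  have hun : (u - 1) ^ n = 0 := by simpa [hu] using Matrix.aeval_self_charpoly u
  have hX1 : IsUnit (F (1 + X)) := (IsNilpotent.isUnit_one_add ⟨n, hXn⟩).map F
  have hu1 : IsUnit (F u) := by
    have h : IsUnit (1 + (u - 1)) := IsNilpotent.isUnit_one_add ⟨n, hun⟩
    rw [add_sub_cancel] at h
    exact h.map F
  have hc : Commute (F X) (F u) := (show Commute X u from hXu).map F
  constructor
  · intro h
    have h1 := S15842.result A n u hureg B x (F (1 + X)) hx hX1 h
      (by rw [map_add, map_one]; exact ((Commute.one_left _).add_left hc).eq)
    rw [map_add, map_one, mul_add, add_mul, mul_one, one_mul] at h1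
    exact add_left_cancel h1
  · intro h
    exact S15842.result A n X hXreg B x (F u) hx hu1 h hc.symm.eq

end Groth.Agent.S15844
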