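import Groth.Statements.S15845
import Mathlib
import Mathlib
-- import your own Groth.Agent.* helpers here

set_option autoImplicit false
universe u
open SprIso

namespace Groth.Agent.S15845

/-- General linear group case: this is the case G = GL_n with its upper-triangular Borel subgroup B
(derived group SL_n simply connected, all primes good, so the hypotheses on the characteristic
hold), together with the companion statement for a regular nilpotent element of Lie B. Let k be a
field and u an n × n upper-triangular matrix over k whose diagonal entries are all equal and whose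
superdiagonal entries u_{i,i+1} are all non-zero — for diagonal 1 this is a regular unipotent
element of B(k), for diagonal 0 a regular nilpotent element of Lie B. Then the centralizer of u in
GL_n is contained in B and is the product of the centre with the centralizer in the unipotent
radical: for every commutative k-algebra R and every invertible x ∈ M_n(R) commuting with u_R, x is
upper triangular and its diagonal entries are all equal. (The smoothness of the centralizer in the
unipotent radical, also part of the published statement, is not stated here.) -/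
theorem result (k : Type u) [Field k] (n : ℕ)
    (u : Matrix (Fin n) (Fin n) k) (htri : ∀ i j : Fin n, j < i → u i j = 0) (hdiag : ∀ i j : Fin n, u i i = u j j)
    (hreg : ∀ (i j : Fin n), j.val = i.val + 1 → u i j ≠ 0)
    (R : Type u) [CommRing R] [Algebra k R] (x : Matrix (Fin n) (Fin n) R) (hx : IsUnit x)
    (hxu : x * u.map (algebraMap k R) = u.map (algebraMap k R) * x) :
    (∀ i j : Fin n, j < i → x i j = 0) ∧ (∀ i j : Fin n, x i i = x j j) := by
  classical
  let φ := algebraMap k R
  have hN : ∀ (a b : Fin n), b.val = a.val + 1 → IsUnit (φ (u a b)) := fun a b h => (isUnit_iff_ne_zero.2 (hreg a b h)).map φ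
  have heq : ∀ i l : Fin n, ∑ j ∈ Finset.univ.erase l, x i j * φ (u j l) + x i l * φ (u l l) =
      ∑ j ∈ Finset.univ.erase i, φ (u i j) * x j l + φ (u i i) * x i l := by
    intro i l
    have h := congrFun (congrFun hxu i) l
    simp only [Matrix.mul_apply, Matrix.map_apply] at h
    rw [← Finset.add_sum_erase _ _ (Finset.mem_univ l), ← Finset.add_sum_erase _ _ (Finset.mem_univ i)] at h
    rw [add_comm, add_comm (∑ j ∈ Finset.univ.erase i, _)]
    exact h
  have key : ∀ (D : ℕ) (i c : Fin n), (∀ i' j' : Fin n, j'.val + D < i'.val → x i' j' = 0) →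
      i.val = c.val + D → (∀ i' : Fin n, i'.val = i.val + 1 → ∀ c' : Fin n, c'.val = c.val + 1 →
        x i c * φ (u c c') = φ (u i i') * x i' c') ∧
      (i.val + 1 = n → D ≠ 0 → x i c = 0) := by
    intro D i c hz hic
    have main : ∀ c' : Fin n, c'.val = c.val + 1 →
        x i c * φ (u c c') = ∑ j ∈ Finset.univ.erase i, φ (u i j) * x j c' := by
      intro c' hc'
      have h := heq i c'
      rw [mul_comm (x i c'), hdiag c' i, add_left_inj] at h
      rw [← h]
      symm
      refine Finset.sum_eq_single c (fun j hj hne => ?_) fun h' => absurd (Finset.mem_erase.2 ⟨show c ≠ c' from fun e => by rw [e] at hc'; omega, Finset.mem_univ _⟩) h'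
      rcases lt_trichotomy j.val c.val with h1 | h1 | h1
      · rw [hz i j (by omega), zero_mul]
      · exact absurd (Fin.ext h1) hne
      · have hjc : c' < j := by
          have : j.val ≠ c'.val := fun e => (Finset.mem_erase.1 hj).1 (Fin.ext e)
          exact Fin.lt_def.2 (by omega)
        rw [htri j c' hjc, map_zero, mul_zero]
    refine ⟨fun i' hi' c' hc' => ?_, fun hin hD => ?_⟩
    · rw [main c' hc']
      refine Finset.sum_eq_single i' (fun j hj hne => ?_) fun h' => absurd (Finset.mem_erase.2 ⟨show i' ≠ i from fun e => by rw [e] at hi'; omega, Finset.mem_univ _⟩) h'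
      rcases lt_trichotomy j.val i.val with h1 | h1 | h1
      · rw [htri i j (Fin.lt_def.2 h1), map_zero, zero_mul]
      · exact absurd (Fin.ext h1) (Finset.mem_erase.1 hj).1
      · have : j.val ≠ i'.val := fun e => hne (Fin.ext e)
        rw [hz j c' (by omega), mul_zero]
    · let c' : Fin n := ⟨c.val + 1, by omega⟩
      refine (hN c c' rfl).mul_left_eq_zero.1 ?_
      rw [main c' rfl]
      refine Finset.sum_eq_zero fun j hj => ?_
      rw [htri i j (Fin.lt_def.2 ?_), map_zero, zero_mul]
      have : j.val ≠ i.val := fun e => (Finset.mem_erase.1 hj).1 (Fin.ext e)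
      omega
  have hlow : ∀ D : ℕ, ∀ i c : Fin n, c.val + D < i.val → x i c = 0 := by
    suffices ∀ t D : ℕ, n ≤ D + t → ∀ i c : Fin n, c.val + D < i.val → x i c = 0 from fun D => this n D (by omega)
    intro t
    induction t with
    | zero => intro D hD i c h; omega
    | succ t ih =>
      intro D hD i c h
      rcases eq_or_lt_of_le (Nat.succ_le_of_lt h) with he | hlt
      swap
      · exact ih (D + 1) (by omega) i c (by omega)
      have hz : ∀ i' j' : Fin n, j'.val + (D + 1) < i'.val → x i' j' = 0 := ih (D + 1) (by omega)
      clear h
      suffices ∀ s (i c : Fin n), i.val + 1 + s = n → i.val = c.val + (D + 1) → x i c = 0 from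
        this (n - 1 - i.val) i c (by omega) (by omega)
      intro s
      induction s with
      | zero => intro i c hs hic; exact (key (D + 1) i c hz hic).2 (by omega) (by omega)
      | succ s ihs =>
        intro i c hs hic
        let i' : Fin n := ⟨i.val + 1, by omega⟩
        let c' : Fin n := ⟨c.val + 1, by omega⟩
        have h1 := (key (D + 1) i c hz hic).1 i' rfl c' rfl
        rw [ihs i' c' (by simp [i']; omega) (by simp [i', c']; omega), mul_zero] at h1
        exact (hN c c' rfl).mul_left_eq_zero.1 h1
  have hz0 : ∀ i' j' : Fin n, j'.val + 0 < i'.val → x i' j' = 0 := hlow 0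
  refine ⟨fun i j h => hlow 0 i j (by simpa using h), ?_⟩
  have hstep : ∀ i i' : Fin n, i'.val = i.val + 1 → x i i = x i' i' := fun i i' h => by
    have h1 := (key 0 i i hz0 (by simp)).1 i' h i' h
    rw [mul_comm] at h1
    exact (hN i i' h).mul_left_cancel h1
  have h0 : ∀ (m : ℕ) (hm : m < n) (h0 : 0 < n), x ⟨m, hm⟩ ⟨m, hm⟩ = x ⟨0, h0⟩ ⟨0, h0⟩ := by
    intro m
    induction m with
    | zero => intro _ _; rfl
    | succ m ih => intro hm h0; rw [← hstep ⟨m, by omega⟩ ⟨m + 1, hm⟩ rfl, ih]
  intro i j
  rw [h0 i.val i.isLt i.pos, h0 j.val j.isLt i.pos]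

end Groth.Agent.S15845
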