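import Groth.Statements.S15849
import Groth.Agent.PicOneLib.K3

set_option autoImplicit false
universe u
open CategoryTheory CategoryTheory.Limits AlgebraicGeometry
open ShStab

set_option backward.isDefEq.respectTransparency false
set_option backward.isDefEq.respectTransparency.types false
set_option maxHeartbeats 800000

namespace Groth.Agent.S15849

/-- Let k be an algebraically closed field of characteristic zero and S a smooth projective surface over
k (integral, smooth over k, of dimension two, with a closed immersion over k into some projective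
space) whose Picard group is infinite cyclic, generated by the class of an ample invertible sheaf L.
Let N ⊆ L be a coherent subsheaf whose quotient L/N has support of dimension at most zero (N is L
twisted by the ideal sheaf of a finite subscheme, possibly empty), and let V be a coherent
O_S-module with torsion-free stalks in a short exact sequence 0 → O_S → V → N → 0 that does not
split. Then V is slope-stable of dimension two with respect to L: V has no coherent subsheaf with
one-dimensional support, and every coherent subsheaf whose multiplicity lies strictly between 0 and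
that of V has normalised slope of its Hilbert polynomial strictly smaller than that of V. (The
published statement does not ask the extension to be non-split; for the split extension V = O_S ⊕ N
the subsheaf N has larger slope than V, and the printed argument uses that the sequence does not
split, so non-splitness is assumed here.) -/
theorem result
    (k : Type u) [Field k] [IsAlgClosed k] [CharZero k]
    (S : Scheme.{u}) [S.Over (Spec (CommRingCat.of k))] [IsIntegral S]
    [Smooth (S ↘ Spec (CommRingCat.of k))] (hdim : topologicalKrullDim S = 2)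
    [IsProper (S ↘ Spec (CommRingCat.of k))]
    (hproj : ∃ (n : ℕ) (ι : S ⟶ CohB1.ProjSpace n k), IsClosedImmersion ι ∧
      ι ≫ CohB1.ProjSpace.toSpec n k = S ↘ Spec (CommRingCat.of k))
    (L : S.Modules) (hLi : PicF.IsInvertible L) (hLa : CohB1.IsAmple L)
    [PicGrp.Law S] (hgen : ∀ c : PicLoc.PicSet S, ∃ n : ℤ, c = PicGrp.cls L hLi ^ n)
    (hfree : ∀ n : ℤ, PicGrp.cls L hLi ^ n = 1 → n = 0)
    (N : S.Modules) (ι : N ⟶ L) [Mono ι] (hN : Coh.IsCoh N)
    (hZ : topologicalKrullDim (CohB1.support (cokernel ι)) ≤ 0)
    (V : S.Modules) (hV : Coh.IsCoh V) (hVtf : TorSh.IsTorsionFree V)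
    (a : Coh.structureModule S ⟶ V) (b : V ⟶ N) (w : a ≫ b = 0)
    (hex : (ShortComplex.mk a b w).ShortExact)
    (hns : ∀ r : V ⟶ Coh.structureModule S, a ≫ r ≠ 𝟙 (Coh.structureModule S)) :
    ShStab.IsMuStable k S L V 2 := by
  haveI := CurvLib.isNoetherian k (X := S)
  haveI := SurfNumLib.smoothRel_of_dim (k := k) (X := S) (n := 2) hdim
  let O := Coh.structureModule S
  have hOc : Coh.IsCoh O := DevissLib.isCoh_structureModule S
  have hOi : PicF.IsInvertible O := CurvLib.isInvertible_structureModule
  have hOf : FlatMod.IsFinLocFree O := Formal2VBLib.isFinLocFree_structureModule S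
  have hLc : Coh.IsCoh L := CurvLib.isCoh_of_isInvertible hLi
  have hO1 : CurvLib.genRank O = 1 := AVAmpleLib.genRank_structureModule S
  have hα := PicOneLib.alpha_pos' k hdim hLa
  obtain ⟨hL1, hLr⟩ := PicOneLib.c1_class k hdim hLa hLi (a := 1) (zpow_one _).symm
  rw [Int.cast_one, mul_one] at hL1
  have hCc := QCohLib.isCoh_cokernel ι hN.1 hLc
  obtain ⟨hCz, hCr⟩ := PicOneLib.c1_finite k hdim hLa hCc hZ
  obtain ⟨rι, eι⟩ := PicOneLib.genRank_coker k hdim hLa ι hN hLc
  have hN1 : CurvLib.genRank N = 1 := by omega
  have hNc : PicOneLib.c1 k L N = PicOneLib.c1 k L O + 2 * PicOneLib.c2 k L O := by linarith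
  have hVr : CurvLib.genRank V = 2 := by
    have : CurvLib.genRank V = CurvLib.genRank O + CurvLib.genRank N :=
      CurvLib.genRank_add (S := ShortComplex.mk a b w) hex hOc hV hN
    omega
  have hVc : PicOneLib.c1 k L V = PicOneLib.c1 k L O + PicOneLib.c1 k L N := by
    have : StabLib.HPoly k L V = StabLib.HPoly k L O + StabLib.HPoly k L N :=
      StabLib.hPoly_add (k := k) (S := ShortComplex.mk a b w) hLa hex hOc hV hN
    rw [PicOneLib.c1, PicOneLib.c1, PicOneLib.c1, this, Polynomial.coeff_add]
  haveI : Mono a := hex.mono_f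
  have hV0 : ¬ IsZero V := fun h => by
    have h1 := PicOneLib.c2_eq k hdim hLa hV
    rw [PicOneLib.c2, StabLib.hPoly_zero hLa h, hVr, Polynomial.coeff_zero, Nat.cast_ofNat] at h1
    linarith
  refine ⟨hV, hV0, ?_, fun F i hi hF hd => ?_, fun F i hi hF pF pE hpF hpE h0 h1 => ?_⟩
  · refine (StabLib.hPoly_alpha_pos_iff (k := k) (d := 2) hLa hV (PicOneLib.dim_le k hdim hLa V)).1 ?_
    have h1 := PicOneLib.c2_eq k hdim hLa hV
    rw [hVr, Nat.cast_ofNat, PicOneLib.c2] at h1
    simp only [StabCat.alpha, h1, Nat.factorial_two, Nat.cast_ofNat]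
    positivity
  · haveI := hi
    have hF1 : topologicalKrullDim (CohB1.support F) ≤ ((1 : ℕ) : WithBot ℕ∞) := by
      revert hd
      generalize topologicalKrullDim (CohB1.support F) = d
      intro hd
      induction d with
      | bot => exact bot_le
      | coe d =>
        induction d with
        | top => exact absurd hd (by decide)
        | coe d =>
          have : d + 1 = 2 := WithBot.coe_injective.eq_iff.1 (show (((d + 1 : ℕ) : ℕ∞) : WithBot ℕ∞) = (((2 : ℕ) : ℕ∞) : WithBot ℕ∞) from hd) |> ENat.coe_inj.1
          exact_mod_cast (show d ≤ 1 by omega)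
    have h2 : PicOneLib.c2 k L F = 0 :=
      Polynomial.coeff_eq_zero_of_natDegree_lt (lt_of_le_of_lt (StabLib.hPoly_deg hLa hF hF1) one_lt_two)
    rw [PicOneLib.c2_eq k hdim hLa hF] at h2
    have hz := PicOneLib.isZero_of_rank_zero k hdim hLa hF (PicOneLib.torsionFree_of_mono i hVtf)
      (by exact_mod_cast (mul_eq_zero.1 h2).resolve_right hα.ne')
    rw [DevissLib.support_of_isZero hz] at hd
    haveI : IsEmpty (TopologicalSpace.IrreducibleCloseds (∅ : Set S)) :=
      ⟨fun Z => Z.isIrreducible.nonempty.elim fun x _ => x.2⟩
    simp [topologicalKrullDim, Order.krullDim_eq_bot] at hd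
  · haveI := hi
    rw [← StabLib.hPoly_eq hLa hF hpF] at h0 h1 ⊢
    rw [← StabLib.hPoly_eq hLa hV hpE] at h1 ⊢
    have eF : (StabLib.HPoly k L F).coeff 2 = CurvLib.genRank F * PicOneLib.c2 k L O := PicOneLib.c2_eq k hdim hLa hF
    have eV : (StabLib.HPoly k L V).coeff 2 = 2 * PicOneLib.c2 k L O := by
      rw [← PicOneLib.c2, PicOneLib.c2_eq k hdim hLa hV, hVr, Nat.cast_ofNat]
    simp only [StabCat.alpha, eF, eV, Nat.factorial_two, Nat.cast_ofNat] at h0 h1
    have hFr : CurvLib.genRank F = 1 := by
      have g0 : (0 : ℚ) < CurvLib.genRank F := by nlinarith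
      have g1 : (CurvLib.genRank F : ℚ) < 2 := by nlinarith
      have g0' : 0 < CurvLib.genRank F := by exact_mod_cast g0
      have g1' : CurvLib.genRank F < 2 := by exact_mod_cast g1
      omega
    suffices hs : PicOneLib.c1 k L F < PicOneLib.c1 k L O + PicOneLib.c2 k L O by
      simp only [StabCat.hatSlope, StabCat.alpha, eF, eV, hFr, Nat.factorial_two, Nat.cast_ofNat,
        show 2 - 1 = 1 from rfl, Nat.factorial_one, Nat.cast_one, one_mul]
      change PicOneLib.c1 k L F / _ < PicOneLib.c1 k L V / _
      rw [div_lt_div_iff₀ (by positivity) (by positivity), hVc, hNc]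
      nlinarith
    have hFtf := PicOneLib.torsionFree_of_mono i hVtf
    have hNtf := PicOneLib.torsionFree_of_mono ι (PicOneLib.torsionFree_of_isFinLocFree
      (CurveVBLib.isFinLocFree_of_rank (CurvLib.locFree_of_isInvertible hLi)))
    have hLtf : TorSh.IsTorsionFree L := PicOneLib.torsionFree_of_isFinLocFree
      (CurveVBLib.isFinLocFree_of_rank (CurvLib.locFree_of_isInvertible hLi))
    by_cases hb : i ≫ b = 0
    · let l : F ⟶ O := hex.exact.lift i hb
      have hl : l ≫ a = i := hex.exact.lift_f i hb
      haveI : Mono l := mono_of_mono_fac hl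
      have := (PicOneLib.c1_mono k hdim hLa l hF hOc (hFr.trans hO1.symm)).1
      linarith
    · let f : F ⟶ L := i ≫ b ≫ ι
      have hf : f ≠ 0 := fun h => hb (by
        rw [← cancel_mono ι, Category.assoc, Limits.zero_comp]; exact h)
      haveI := PicOneLib.mono_of_ne_zero k hF hFtf hFr hLc hLtf f hf
      obtain ⟨m1, m2⟩ := PicOneLib.c1_mono k hdim hLa f hF hLc (hFr.trans hLr.symm)
      obtain ⟨c, -, -, -, -, -, -, hc⟩ := PicOneLib.exists_class k hdim hLa hgen hF hFtf hFr
      rw [hc, hL1] at m1
      have hc1 : c ≤ 1 := by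
        have : (c : ℚ) ≤ 1 := by nlinarith
        exact_mod_cast this
      rcases hc1.lt_or_eq with h | h
      · have : (c : ℚ) ≤ 0 := by exact_mod_cast Int.lt_add_one_iff.1 (by omega : c < 0 + 1)
        nlinarith
      exfalso
      subst h
      have hfin := m2 (by rw [hc, hL1, Int.cast_one, mul_one])
      let g : O ⊞ F ⟶ V := biprod.desc a i
      haveI : Mono g := Preadditive.mono_of_cancel_zero _ fun u hu => by
        have e : (u ≫ biprod.fst) ≫ a + (u ≫ biprod.snd) ≫ i = 0 := by
          rw [← hu, Category.assoc, Category.assoc, ← Preadditive.comp_add]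
          exact congrArg (u ≫ ·) biprod.desc_eq.symm
        have e2 : u ≫ biprod.snd = 0 := by
          rw [← cancel_mono f, Limits.zero_comp]
          have := congrArg (fun q => q ≫ b ≫ ι) e
          simpa [Preadditive.add_comp, Category.assoc, reassoc_of% w, f] using this
        rw [e2, Limits.zero_comp, add_zero] at e
        refine biprod.hom_ext _ _ ?_ (by rw [e2, Limits.zero_comp])
        rw [← cancel_mono a, e, Limits.zero_comp, Limits.zero_comp]
      have hg : topologicalKrullDim (CohB1.support (cokernel g)) ≤ 0 := by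
        refine (StabLib.dim_mono fun x hx => ?_).trans hfin
        by_contra hxn
        haveI : Subsingleton (CohCmpLib.stk (cokernel f) x) := SurfExtLib.subsingleton_stk hxn
        refine DevissLib.notMem_support_cokernel g x (fun t => ?_) hx
        obtain ⟨v, hv⟩ := FLI.exists_of_exact f (cokernel.π f) (cokernel.condition f)
          (ShortComplex.exact_cokernel f) x (b := FLI.sMap ι x (FLI.sMap b x t)) (Subsingleton.elim _ _)
        have hv' : FLI.sMap b x t = FLI.sMap b x (FLI.sMap i x v) := FLI.sMap_injective ι x (by
          rw [← hv, FLI.sMap_comp, FLI.sMap_comp])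
        obtain ⟨u, hu⟩ := FLI.exists_of_exact a b w hex.exact x (b := t - FLI.sMap i x v)
          (by rw [map_sub, hv', sub_self])
        refine ⟨FLI.sMap biprod.inl x u + FLI.sMap biprod.inr x v, ?_⟩
        show FLI.sMap g x _ = t
        rw [map_add, ← FLI.sMap_comp, ← FLI.sMap_comp, biprod.inl_desc, biprod.inr_desc, hu, sub_add_cancel]
      obtain ⟨r, hr⟩ := PicOneLib.exists_extend_finite k hdim (DevissLib.isCoh_biprod hOc hF) hV g hg hOf biprod.fst
      refine hns r ?_
      have := congrArg (fun q => biprod.inl ≫ q) hr
      simpa [g] using this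

end Groth.Agent.S15849
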