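import Groth.Statements.S15851
import Groth.Agent.SurfExtLib.Elem
import Groth.Agent.SurfExtLib.TorsionHom
import Groth.Agent.SurfExtLib.Bidual
import Groth.Agent.SurfExtLib.Coker
import Groth.Agent.SurfNumLib.RR

set_option autoImplicit false
set_option backward.isDefEq.respectTransparency false
set_option backward.isDefEq.respectTransparency.types false
universe u
open CategoryTheory CategoryTheory.Limits AlgebraicGeometry
attribute [local instance] HasDerivedCategory.standard
open Surf

namespace Groth.Agent.S15851

/-- Let k be an algebraically closed field of characteristic zero, S a smooth projective surface over k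
(integral, smooth over k, of dimension two, with a closed immersion over k into some projective
space) and ω an O_S-module which is a second exterior power of the sheaf of differentials of S over
k (the canonical sheaf). Let j : C → S be a closed immersion with C integral of dimension one and A
a coherent O_C-module with torsion-free stalks and one-dimensional generic stalk (a rank-one
torsion-free sheaf on C). Put A^* = Ext^1_{O_S}(j_*A, ω), the value at ω of the first right derived
functor of the sheaf Hom functor Hom_{O_S}(j_*A, -) (taken as the right adjoint of j_*A ⊗ -). Then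
Ext^1_{O_S}(A^*, ω) is isomorphic to j_*A: the operation A ↦ A^* is an involution up to isomorphism
(existence of an isomorphism only). (The instance binders on sheaf Hom functors and injective
resolutions always hold.) -/
theorem result
    (k : Type u) [Field k] [IsAlgClosed k] [CharZero k]
    (S : Scheme.{u}) [S.Over (Spec (CommRingCat.of k))] [IsIntegral S]
    [Smooth (S ↘ Spec (CommRingCat.of k))] (hdim : topologicalKrullDim S = 2)
    [IsProper (S ↘ Spec (CommRingCat.of k))]
    (hproj : ∃ (n : ℕ) (ι : S ⟶ CohB1.ProjSpace n k), IsClosedImmersion ι ∧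
      ι ≫ CohB1.ProjSpace.toSpec n k = S ↘ Spec (CommRingCat.of k))
    [HasInjectiveResolutions S.Modules]
    (ω : S.Modules) (hω : Canon.IsTopDiff (S ↘ Spec (CommRingCat.of k)) 2 ω)
    (C : Scheme.{u}) (j : C ⟶ S) [IsClosedImmersion j] [IsIntegral C]
    (hC : topologicalKrullDim C = 1)
    (M : C.Modules) (hM : Coh.IsCoh M) (hMtf : TorSh.IsTorsionFree M)
    (hrk : Module.finrank (C.presheaf.stalk (genericPoint C)) (M.presheaf.stalk (genericPoint C)) = 1)
    [DCoh.HasSheafHom ((Coh.push j).obj M)] [(DCoh.sheafHom ((Coh.push j).obj M)).Additive]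
    [DCoh.HasSheafHom (((DCoh.sheafHom ((Coh.push j).obj M)).rightDerived 1).obj ω)]
    [(DCoh.sheafHom (((DCoh.sheafHom ((Coh.push j).obj M)).rightDerived 1).obj ω)).Additive] :
    Nonempty (((DCoh.sheafHom (((DCoh.sheafHom ((Coh.push j).obj M)).rightDerived 1).obj ω)).rightDerived 1).obj ω ≅ (Coh.push j).obj M) := by
  haveI : IsLocallyNoetherian S := LocallyOfFiniteType.isLocallyNoetherian (S ↘ Spec (CommRingCat.of k))
  obtain ⟨r, ι, hι1, -⟩ := hproj
  haveI := hι1
  have hωi : PicF.IsInvertible ω := by
    haveI : SmoothOfRelativeDimension 2 (S ↘ Spec (CommRingCat.of k)) := SurfNumLib.smoothRel_of_dim hdim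
    exact CohCmpLib.isInvertible_of_isExtPow (CohCmpLib.rank_omega _ 2) hω
  have hωf : FlatMod.IsFinLocFree ω := CurveVBLib.isFinLocFree_of_rank (CurvLib.locFree_of_isInvertible hωi)
  obtain ⟨F, π, hF, hπ⟩ := SurfExtLib.exists_finLocFree_epi ι ((Coh.push j).obj M)
    (VBResLib.isCoh_push_of_isClosedImmersion j hM)
  haveI := hπ
  have hK : FlatMod.IsFinLocFree (kernel π) :=
    SurfExtLib.isFinLocFree_kernel hdim.le (fun x => Groth.Agent.S1535.result k S x) j
      (by rw [hC]; exact one_ne_zero) M hM hMtf F hF π
  let T : ShortComplex S.Modules := ShortComplex.mk (kernel.ι π) π (kernel.condition π)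
  have hT : T.ShortExact := { exact := ShortComplex.exact_kernel π }
  haveI : DCoh.HasSheafHom T.X₃ := inferInstanceAs (DCoh.HasSheafHom ((Coh.push j).obj M))
  haveI : (DCoh.sheafHom T.X₃).Additive := inferInstanceAs ((DCoh.sheafHom ((Coh.push j).obj M)).Additive)
  obtain ⟨e⟩ := SurfExtLib.nonempty_rightDerived_one_coker hT hF ω
  let Q := ((DCoh.sheafHom ((Coh.push j).obj M)).rightDerived 1).obj ω
  let e' : Q ≅ cokernel (PnDualLib.preMap T.f ω) := e
  have hη : genericPoint S ∉ Set.range ⇑j :=
    SurfExtLib.genericPoint_notMem_range j (by rw [hC, hdim]; decide)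
  have hz := SurfExtLib.isZero_homMod_push j hη M hωf
  haveI : Epi T.g := hπ
  haveI : Mono (PnDualLib.preMap T.f ω) :=
    (ExtShLib.preSeq_exact hT.exact ω).mono_g (hz.eq_of_src _ _)
  let T' : ShortComplex S.Modules := ShortComplex.mk (PnDualLib.preMap T.f ω)
    (cokernel.π (PnDualLib.preMap T.f ω) ≫ e'.inv)
    (by rw [← Category.assoc, cokernel.condition, zero_comp])
  have hT' : T'.ShortExact :=
    { exact := (ShortComplex.exact_iff_of_iso (ShortComplex.isoMk (Iso.refl T'.X₁) (Iso.refl T'.X₂) e'
          (by simp [T']) (by simp [T'])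
          : T' ≅ ShortComplex.mk (PnDualLib.preMap T.f ω) (cokernel.π _) (cokernel.condition _))).2
        (ShortComplex.exact_cokernel _) }
  haveI : DCoh.HasSheafHom T'.X₃ := inferInstanceAs (DCoh.HasSheafHom Q)
  haveI : (DCoh.sheafHom T'.X₃).Additive := inferInstanceAs ((DCoh.sheafHom Q).Additive)
  obtain ⟨e₂⟩ := SurfExtLib.nonempty_rightDerived_one_coker hT'
    (CohCmpLib.isFinLocFree_homMod hK hωf) ω
  haveI := SurfExtLib.isIso_ev ω hωi hK
  haveI := SurfExtLib.isIso_ev ω hωi hF
  let α : cokernel (kernel.ι π) ≅ cokernel (PnDualLib.preMap (PnDualLib.preMap T.f ω) ω) :=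
    cokernel.mapIso _ _ (asIso (SurfExtLib.ev ω (kernel π))) (asIso (SurfExtLib.ev ω F))
      (SurfExtLib.ev_natural ω (kernel.ι π)).symm
  let β : cokernel (kernel.ι π) ≅ (Coh.push j).obj M :=
    (cokernelIsCokernel (kernel.ι π)).coconePointUniqueUpToIso hT.exact.gIsCokernel
  exact ⟨e₂ ≪≫ α.symm ≪≫ β⟩

end Groth.Agent.S15851
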