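import Groth.Statements.S15852
import Groth.Agent.SurfExtLib.LocGlob
import Groth.Agent.SurfExtLib.TorsionHom
import Groth.Agent.AdjFormLib.SmoothDual
import Groth.Agent.SurfNumLib.RR
import Groth.Agent.VBResLib.RegPush

set_option autoImplicit false
set_option backward.isDefEq.respectTransparency false
set_option backward.isDefEq.respectTransparency.types false
universe u
open CategoryTheory CategoryTheory.Limits AlgebraicGeometry
open Surf

namespace Groth.Agent.S15852

/-- Let k be an algebraically closed field of characteristic zero, S a smooth projective surface over k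
(integral, smooth over k, of dimension two, with a closed immersion over k into some projective
space) and ω an O_S-module which is a second exterior power of the sheaf of differentials of S over
k. Let j : C → S be a closed immersion with C integral of dimension one and A a coherent O_C-module
with torsion-free stalks and one-dimensional generic stalk, and put A^* = Ext^1_{O_S}(j_*A, ω), the
first right derived functor of the sheaf Hom functor Hom_{O_S}(j_*A, -) (the right adjoint of j_*A ⊗
-) evaluated at ω. Then the group Ext^1_{O_S}(j_*A, ω), computed in the category of all O_S-modules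
with its k-linear structure (the Ext instance is the stated hypothesis; it holds), is k-linearly
isomorphic to H^0(S, A^*), and also to the k-dual of H^1(S, j_*A) = H^1(C, A). (Existence of
k-linear isomorphisms only.) -/
theorem result
    (k : Type u) [Field k] [IsAlgClosed k] [CharZero k]
    (S : Scheme.{u}) [S.Over (Spec (CommRingCat.of k))] [IsIntegral S]
    [Smooth (S ↘ Spec (CommRingCat.of k))] (hdim : topologicalKrullDim S = 2)
    [IsProper (S ↘ Spec (CommRingCat.of k))]
    (hproj : ∃ (n : ℕ) (ι : S ⟶ CohB1.ProjSpace n k), IsClosedImmersion ι ∧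
      ι ≫ CohB1.ProjSpace.toSpec n k = S ↘ Spec (CommRingCat.of k))
    [HasInjectiveResolutions S.Modules] [HasExt.{u} S.Modules]
    (ω : S.Modules) (hω : Canon.IsTopDiff (S ↘ Spec (CommRingCat.of k)) 2 ω)
    (C : Scheme.{u}) (j : C ⟶ S) [IsClosedImmersion j] [IsIntegral C]
    (hC : topologicalKrullDim C = 1)
    (M : C.Modules) (hM : Coh.IsCoh M) (hMtf : TorSh.IsTorsionFree M)
    (hrk : Module.finrank (C.presheaf.stalk (genericPoint C)) (M.presheaf.stalk (genericPoint C)) = 1)
    [DCoh.HasSheafHom ((Coh.push j).obj M)] [(DCoh.sheafHom ((Coh.push j).obj M)).Additive] :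
    Nonempty (Abelian.Ext ((Coh.push j).obj M) ω 1 ≃ₗ[k]
        Coh.HH S (((DCoh.sheafHom ((Coh.push j).obj M)).rightDerived 1).obj ω) 0) ∧
      Nonempty (Abelian.Ext ((Coh.push j).obj M) ω 1 ≃ₗ[k]
        Module.Dual k (Coh.HH S ((Coh.push j).obj M) 1)) := by
  haveI : IsLocallyNoetherian S := LocallyOfFiniteType.isLocallyNoetherian (S ↘ Spec (CommRingCat.of k))
  haveI : SmoothOfRelativeDimension 2 (S ↘ Spec (CommRingCat.of k)) := SurfNumLib.smoothRel_of_dim hdim
  obtain ⟨N, ι, hι1, hι⟩ := hproj
  haveI := hι1
  obtain ⟨D, hDω, hDs⟩ := AdjFormLib.nonempty_dualData_smooth k N 2 S ι hι ω hω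
  have hωf : FlatMod.IsFinLocFree ω := CurveVBLib.isFinLocFree_of_rank
    (CurvLib.locFree_of_isInvertible (CohCmpLib.isInvertible_of_isExtPow (CohCmpLib.rank_omega _ 2) hω))
  have hF : Coh.IsCoh ((Coh.push j).obj M) := VBResLib.isCoh_push_of_isClosedImmersion j hM
  have hη : genericPoint S ∉ Set.range ⇑j :=
    SurfExtLib.genericPoint_notMem_range j (by rw [hC, hdim]; decide)
  let I := injectiveResolution ω
  obtain ⟨e₁⟩ := SurfExtLib.nonempty_extOne_equiv (k := k) (F := (Coh.push j).obj M) I
    (SurfExtLib.isZero_homMod_push j hη M hωf)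
  let σ : DCoh.sheafHom ((Coh.push j).obj M) ≅ PnDualLib.homFun ((Coh.push j).obj M) :=
    (DCoh.sheafHomAdj _).rightAdjointUniq (HomCohLib.homAdj _)
  let ψ : ((DCoh.sheafHom ((Coh.push j).obj M)).rightDerived 1).obj ω ≅
      (ExtShLib.hcx ((Coh.push j).obj M) I).homology 1 :=
    I.isoRightDerivedObj (DCoh.sheafHom ((Coh.push j).obj M)) 1 ≪≫
      (HomologicalComplex.homologyFunctor S.Modules (ComplexShape.up ℕ) 1).mapIso
        (HomologicalComplex.Hom.isoOfComponents (fun i => σ.app _) fun i l _ => (σ.hom.naturality _).symm)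
  refine ⟨⟨e₁ ≪≫ₗ (CurvLib.hIso (k := k) ψ 0).symm⟩, ?_⟩
  obtain ⟨e₂⟩ := PnDualLib.nonempty_extX_dual D ((Coh.push j).obj M) hF 1 (by omega) (by omega)
  subst hDω
  exact ⟨e₂⟩

end Groth.Agent.S15852
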