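import Groth.Statements.S15853
import Groth.Agent.PicOneLib.K3

set_option autoImplicit false
universe u
open CategoryTheory CategoryTheory.Limits AlgebraicGeometry Polynomial
open ShStab

set_option backward.isDefEq.respectTransparency false
set_option backward.isDefEq.respectTransparency.types false
set_option maxHeartbeats 800000

namespace Groth.Agent.S15853

/-- Let k be an algebraically closed field of characteristic zero and S a K3 surface over k — a smooth
projective surface (integral, smooth over k, of dimension two, with a closed immersion over k into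
some projective space) whose structure sheaf is a second exterior power of its sheaf of
differentials and with H^1(S, O_S) = 0 — whose Picard group is infinite cyclic, generated by the
class of an ample invertible sheaf L. Let V be a coherent O_S-module with torsion-free stalks,
stable of dimension two with respect to L, and let P be its Hilbert polynomial with respect to L,
P(m) = χ(V ⊗ L^m). Assume: the leading coefficient of P is twice that of the Hilbert polynomial of
O_S (V has rank two); the coefficients of m and of m^2 in P agree (on such a surface this says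
c_1(V)·L = L^2, i.e. the first Chern class of V is the class of L); and P(0) = χ(V) ≥ 1
(equivalently c_2(V) ≤ L^2/2 + 3). Then V is an extension of L ⊗ I_Z by O_S for some finite
subscheme Z: there are a coherent subsheaf N ⊆ L with L/N supported in dimension at most zero and a
short exact sequence 0 → O_S → V → N → 0, which moreover does not split. -/
theorem result
    (k : Type u) [Field k] [IsAlgClosed k] [CharZero k]
    (S : Scheme.{u}) [S.Over (Spec (CommRingCat.of k))] [IsIntegral S]
    [Smooth (S ↘ Spec (CommRingCat.of k))] (hdim : topologicalKrullDim S = 2)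
    [IsProper (S ↘ Spec (CommRingCat.of k))]
    (hproj : ∃ (n : ℕ) (ι : S ⟶ CohB1.ProjSpace n k), IsClosedImmersion ι ∧
      ι ≫ CohB1.ProjSpace.toSpec n k = S ↘ Spec (CommRingCat.of k))
    (hK : Canon.IsTopDiff (S ↘ Spec (CommRingCat.of k)) 2 (Coh.structureModule S))
    (hq : Module.finrank k (Coh.HH S (Coh.structureModule S) 1) = 0)
    (L : S.Modules) (hLi : PicF.IsInvertible L) (hLa : CohB1.IsAmple L)
    [PicGrp.Law S] (hgen : ∀ c : PicLoc.PicSet S, ∃ n : ℤ, c = PicGrp.cls L hLi ^ n)
    (hfree : ∀ n : ℤ, PicGrp.cls L hLi ^ n = 1 → n = 0)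
    (V : S.Modules) (hV : Coh.IsCoh V) (hVtf : TorSh.IsTorsionFree V)
    (hst : ShStab.IsStable k S L V 2)
    (P PO : ℚ[X]) (hP : ShStab.IsHilbPoly k S L V P)
    (hPO : ShStab.IsHilbPoly k S L (Coh.structureModule S) PO)
    (hrk : P.coeff 2 = 2 * PO.coeff 2) (hc1 : P.coeff 1 = P.coeff 2) (hchi : 1 ≤ P.coeff 0) :
    ∃ (N : S.Modules) (ι : N ⟶ L) (_ : Mono ι) (_ : Coh.IsCoh N)
      (_ : topologicalKrullDim (CohB1.support (cokernel ι)) ≤ 0)
      (a : Coh.structureModule S ⟶ V) (b : V ⟶ N) (w : a ≫ b = 0),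
      (ShortComplex.mk a b w).ShortExact ∧
        ∀ r : V ⟶ Coh.structureModule S, a ≫ r ≠ 𝟙 (Coh.structureModule S) := by
  haveI := CurvLib.isNoetherian k (X := S)
  haveI := SurfNumLib.smoothRel_of_dim (k := k) (X := S) (n := 2) hdim
  obtain ⟨r0, emb, hemb, hemb'⟩ := hproj
  haveI := hemb
  let O := Coh.structureModule S
  have hOc : Coh.IsCoh O := DevissLib.isCoh_structureModule S
  have hOf : FlatMod.IsFinLocFree O := Formal2VBLib.isFinLocFree_structureModule S
  have hOtf : TorSh.IsTorsionFree O := PicOneLib.torsionFree_of_isFinLocFree hOf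
  have hO1 : CurvLib.genRank O = 1 := AVAmpleLib.genRank_structureModule S
  have hα := PicOneLib.alpha_pos' k hdim hLa
  have hβ : PicOneLib.c1 k L O = 0 := PicOneLib.beta_eq_zero k hdim hLa emb hemb' hK hgen
  have eP : StabLib.HPoly k L V = P := StabLib.hPoly_eq hLa hV hP
  have ePO : StabLib.HPoly k L O = PO := StabLib.hPoly_eq hLa hOc hPO
  have hV2 : PicOneLib.c2 k L V = 2 * PicOneLib.c2 k L O := by
    rw [PicOneLib.c2, PicOneLib.c2, eP, ePO, hrk]
  have hVr : CurvLib.genRank V = 2 := by
    rw [PicOneLib.c2_eq k hdim hLa hV] at hV2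
    exact_mod_cast mul_right_cancel₀ hα.ne' hV2
  have hVc : PicOneLib.c1 k L V = 2 * PicOneLib.c2 k L O := by
    rw [← hV2, PicOneLib.c1, PicOneLib.c2, eP, hc1]
  have hHom : ∀ φ : V ⟶ O, φ = 0 :=
    PicOneLib.eq_zero_of_stable k hdim hLa hV hst hVr hOc hOtf hO1 (by rw [hβ, hVc]; linarith)
  have hχ : 1 ≤ Curv2.euler k S V := by
    have h1 := PicOneLib.euler_eq_eval k hdim hLa emb hemb' hK hV
    rw [eP, ← Polynomial.coeff_zero_eq_eval_zero] at h1
    have h2 : (1 : ℚ) ≤ Curv2.euler k S V := h1 ▸ hchi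
    exact_mod_cast h2
  obtain ⟨s, hs⟩ := PicOneLib.exists_section k hdim hLa emb hemb' hK hV hχ hHom
  haveI := PicOneLib.mono_of_ne_zero k hOc hOtf hO1 hV hVtf s hs
  obtain ⟨N, b, hb, hN, hNtf, hsb, hrk'⟩ := PicOneLib.exists_sat hOc hV s
  haveI := hb
  have hN1 : CurvLib.genRank N = 1 := by omega
  have hF : Coh.IsCoh (kernel b) := QCohLib.isCoh_kernel b hV hN.1
  have eV := StabLib.hPoly_ker (k := k) hLa b hV hN
  have hF1 : CurvLib.genRank (kernel b) = 1 := by
    have : CurvLib.genRank V = CurvLib.genRank (kernel b) + CurvLib.genRank N :=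
      CurvLib.genRank_add (S := ShortComplex.mk _ _ (kernel.condition b)) (PicOneLib.ses_kernel b) hF hV hN
    omega
  have hFtf := PicOneLib.torsionFree_of_mono (kernel.ι b) hVtf
  let l : O ⟶ kernel b := kernel.lift b s hsb
  have hl : l ≫ kernel.ι b = s := kernel.lift_ι b s hsb
  haveI : Mono l := mono_of_mono_fac hl
  obtain ⟨m1, m2⟩ := PicOneLib.c1_mono k hdim hLa l hOc hF (hO1.trans hF1.symm)
  have m3 := PicOneLib.c1_le_of_stable k hdim hLa hV hst hVr hF (kernel.ι b) hF1
  obtain ⟨a, -, -, -, -, -, -, ha⟩ := PicOneLib.exists_class k hdim hLa hgen hF hFtf hF1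
  rw [hβ, zero_add] at ha
  have ha0 : a = 0 := by
    have h1 : (0 : ℚ) ≤ a := by rw [hβ, ha] at m1; nlinarith
    have h2 : (2 : ℚ) * a ≤ 1 := by rw [hVc, ha] at m3; nlinarith
    have h1' : 0 ≤ a := by exact_mod_cast h1
    have h2' : 2 * a ≤ 1 := by exact_mod_cast h2
    omega
  rw [ha0, Int.cast_zero, mul_zero, zero_mul] at ha
  obtain ⟨r, hr⟩ := PicOneLib.exists_extend_finite k hdim hOc hF l (m2 (hβ.trans ha.symm)) hOf (𝟙 O)
  have hr0 : r ≠ 0 := fun h => by
    rw [h, Limits.comp_zero] at hr
    exact hα.ne' (by rw [PicOneLib.c2, StabLib.hPoly_zero hLa ((IsZero.iff_id_eq_zero O).2 hr.symm),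
      Polynomial.coeff_zero])
  haveI := PicOneLib.mono_of_ne_zero k hF hFtf hF1 hOc hOtf r hr0
  have hrl : r ≫ l = 𝟙 _ := by rw [← cancel_mono r, Category.assoc, hr, Category.comp_id, Category.id_comp]
  let eF : kernel b ≅ O := ⟨r, l, hrl, hr⟩
  have hses : (ShortComplex.mk s b hsb).ShortExact :=
    ShortComplex.shortExact_of_iso (S₁ := ShortComplex.mk (kernel.ι b) b (kernel.condition b))
      (ShortComplex.isoMk eF (Iso.refl _) (Iso.refl _)
      (by show r ≫ s = kernel.ι b ≫ 𝟙 V
          rw [← hl, reassoc_of% hrl, Category.comp_id])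
      (by show 𝟙 V ≫ b = b ≫ 𝟙 N
          rw [Category.comp_id, Category.id_comp])) (PicOneLib.ses_kernel b)
  obtain ⟨c, J, hJ, j, hj, hjd, hJc, hc⟩ := PicOneLib.exists_class k hdim hLa hgen hN hNtf hN1
  have hNc : PicOneLib.c1 k L N = 2 * PicOneLib.c2 k L O := by
    rw [← hVc, PicOneLib.c1, PicOneLib.c1, eV, Polynomial.coeff_add]
    show _ = PicOneLib.c1 k L (kernel b) + _
    rw [ha, zero_add]
  have hc' : c = 1 := by
    rw [hNc, hβ, zero_add] at hc
    have : (c : ℚ) = 1 := by nlinarith
    exact_mod_cast this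
  rw [hc', zpow_one] at hJc
  obtain ⟨e⟩ := (PicGrp.cls_eq_cls_iff hJ hLi).1 hJc
  haveI := hj
  refine ⟨N, j ≫ e.hom, inferInstance, hN, ?_, s, b, hsb, hses, fun q hq => ?_⟩
  · exact (StabLib.dim_mono (DevissLib.support_mono (cokernelCompIsIso j e.hom).hom)).trans hjd
  · rw [hHom q, Limits.comp_zero] at hq
    exact hα.ne' (by rw [PicOneLib.c2, StabLib.hPoly_zero hLa ((IsZero.iff_id_eq_zero O).2 hq.symm),
      Polynomial.coeff_zero])

end Groth.Agent.S15853
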