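import Groth.Statements.S15854
import Groth.Agent.PicOneLib.K3

set_option autoImplicit false
universe u
open CategoryTheory CategoryTheory.Limits AlgebraicGeometry Polynomial
open ShStab

set_option backward.isDefEq.respectTransparency false
set_option backward.isDefEq.respectTransparency.types false
set_option maxHeartbeats 800000

namespace Groth.Agent.S15854

/-- Let k be an algebraically closed field of characteristic zero and S a K3 surface over k — a smooth
projective surface (integral, smooth over k, of dimension two, with a closed immersion over k into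
some projective space) whose structure sheaf is a second exterior power of its sheaf of
differentials and with H^1(S, O_S) = 0 — whose Picard group is infinite cyclic, generated by the
class of an ample invertible sheaf L. Let V be a locally free O_S-module of rank two, stable of
dimension two with respect to L, with Hilbert polynomial P, P(m) = χ(V ⊗ L^m), such that the
coefficients of m and m^2 in P agree (c_1(V)·L = L^2, i.e. the first Chern class of V is the class
of L), and let n be a natural number with P(n) = χ(V ⊗ L^n) ≥ 1 (by Riemann–Roch this is the bound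
c_2(V) ≤ (n^2 + n + 1/2) L^2 + 3). Then V is an extension of type m for some m ≤ n: there are a
natural number m ≤ n, an invertible O_S-module M whose class is the inverse of the class of L^{⊗m},
a coherent subsheaf N ⊆ L^{⊗(m+1)} whose quotient is supported in dimension at most zero (N is
L^{⊗(m+1)} twisted by the ideal of a finite subscheme Z_m), and a short exact sequence 0 → M → V → N
→ 0. (The published statement also records the length of Z_m as c_2 + m(m+1)L^2; that Chern-class
bookkeeping is not restated here. The published statement also assumes the lower bound c_2 >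
((n-1)^2 + (n-1) + 1/2) L^2 + 3 with n ≥ 1; the argument uses only the upper bound, and neither the
lower bound nor n ≥ 1 is assumed here.) -/
theorem result
    (k : Type u) [Field k] [IsAlgClosed k] [CharZero k]
    (S : Scheme.{u}) [S.Over (Spec (CommRingCat.of k))] [IsIntegral S]
    [Smooth (S ↘ Spec (CommRingCat.of k))] (hdim : topologicalKrullDim S = 2)
    [IsProper (S ↘ Spec (CommRingCat.of k))]
    (hproj : ∃ (n : ℕ) (ι : S ⟶ CohB1.ProjSpace n k), IsClosedImmersion ι ∧
      ι ≫ CohB1.ProjSpace.toSpec n k = S ↘ Spec (CommRingCat.of k))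
    (hK : Canon.IsTopDiff (S ↘ Spec (CommRingCat.of k)) 2 (Coh.structureModule S))
    (hq : Module.finrank k (Coh.HH S (Coh.structureModule S) 1) = 0)
    (L : S.Modules) (hLi : PicF.IsInvertible L) (hLa : CohB1.IsAmple L)
    [PicGrp.Law S] (hgen : ∀ c : PicLoc.PicSet S, ∃ n : ℤ, c = PicGrp.cls L hLi ^ n)
    (hfree : ∀ n : ℤ, PicGrp.cls L hLi ^ n = 1 → n = 0)
    (V : S.Modules) (hV : FlatMod.IsFinLocFreeOfRank 2 V)
    (hst : ShStab.IsStable k S L V 2)
    (P : ℚ[X]) (hP : ShStab.IsHilbPoly k S L V P) (hc1 : P.coeff 1 = P.coeff 2)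
    (n : ℕ) (hn : 1 ≤ P.eval (n : ℚ)) :
    ∃ (m : ℕ) (_ : m ≤ n) (M : S.Modules) (hM : PicF.IsInvertible M)
      (_ : PicGrp.cls M hM * PicGrp.cls L hLi ^ m = 1)
      (N : S.Modules) (ι : N ⟶ CohB1.tensorPow L (m + 1)) (_ : Mono ι) (_ : Coh.IsCoh N)
      (_ : topologicalKrullDim (CohB1.support (cokernel ι)) ≤ 0)
      (a : M ⟶ V) (b : V ⟶ N) (w : a ≫ b = 0),
      (ShortComplex.mk a b w).ShortExact := by
  haveI := CurvLib.isNoetherian k (X := S)
  haveI := SurfNumLib.smoothRel_of_dim (k := k) (X := S) (n := 2) hdim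
  obtain ⟨r0, emb, hemb, hemb'⟩ := hproj
  haveI := hemb
  let O := Coh.structureModule S
  have hOc : Coh.IsCoh O := DevissLib.isCoh_structureModule S
  have hVf : FlatMod.IsFinLocFree V := CurveVBLib.isFinLocFree_of_rank hV
  have hVc' : Coh.IsCoh V := CurvLib.isCoh_of_locFree hV
  have hVtf : TorSh.IsTorsionFree V := PicOneLib.torsionFree_of_isFinLocFree hVf
  have hVr : CurvLib.genRank V = 2 := CurveVBLib.genRank_eq hV
  have hOtf : TorSh.IsTorsionFree O :=
    PicOneLib.torsionFree_of_isFinLocFree (Formal2VBLib.isFinLocFree_structureModule S)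
  have hO1 : CurvLib.genRank O = 1 := AVAmpleLib.genRank_structureModule S
  have hα := PicOneLib.alpha_pos' k hdim hLa
  have hβ : PicOneLib.c1 k L O = 0 := PicOneLib.beta_eq_zero k hdim hLa emb hemb' hK hgen
  have eP : StabLib.HPoly k L V = P := StabLib.hPoly_eq hLa hVc' hP
  have hV2 : PicOneLib.c2 k L V = 2 * PicOneLib.c2 k L O := by
    rw [PicOneLib.c2_eq k hdim hLa hVc', hVr, Nat.cast_ofNat]
  have hVc : PicOneLib.c1 k L V = 2 * PicOneLib.c2 k L O := by
    rw [← hV2, PicOneLib.c1, PicOneLib.c2, eP, hc1]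
  have itf : ∀ (A : S.Modules), PicF.IsInvertible A → TorSh.IsTorsionFree A := fun A hA =>
    PicOneLib.torsionFree_of_isFinLocFree (CurveVBLib.isFinLocFree_of_rank (CurvLib.locFree_of_isInvertible hA))
  -- the inverse of the power of the polarisation
  obtain ⟨M, hM, hMn⟩ := PicGrp.exists_eq_cls (PicGrp.cls L hLi ^ (-(n : ℤ)))
  let Ln := CohB1.tensorPow L n
  have hLn : ∀ q : ℕ, PicF.IsInvertible (CohB1.tensorPow L q) := fun q => by
    induction q with
    | zero => exact CurvLib.isInvertible_structureModule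
    | succ q ih => exact HilbPolyLib.isInvertible_tensor ih hLi
  obtain ⟨e2⟩ : Nonempty (CohB1.tensorMod M Ln ≅ O) := by
    rw [← PicGrp.cl_eq_cl_iff, ← PicGrp.one_val, ← PicGrp.mulCl_cl, ← PicGrp.cls_pow_val hLi n,
      ← PicGrp.cls_val M hM, ← PicGrp.mul_val, ← hMn, ← zpow_natCast, ← zpow_add, neg_add_cancel, zpow_zero]
  let T := CurvLib.tensorLeft' M
  haveI : T.IsEquivalence := VBP1Lib.isEquivalence_tensor e2
  let W := ShStab.twist S L V n
  have hW : Coh.IsCoh W :=
    QCohLib.isCoh_of_iso (HilbPolyLib.swapIso Ln V) (HilbPolyLib.isCoh_tensor (hLn n) hVc')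
  let u : T.obj W ≅ V := HilbPolyLib.leftComm M V Ln ≪≫ HilbPolyLib.congrRight V e2 ≪≫
    HilbPolyLib.swapIso V O ≪≫ HilbPolyLib.unitLeft V
  let v : T.obj O ≅ M := HilbPolyLib.swapIso M O ≪≫ HilbPolyLib.unitLeft M
  obtain ⟨hM1, hMr⟩ := PicOneLib.c1_class k hdim hLa hM hMn.symm
  rw [hβ, zero_add] at hM1
  push_cast at hM1
  have hHom : ∀ φ : W ⟶ O, φ = 0 := fun φ => by
    have h0 : u.inv ≫ T.map φ ≫ v.hom = 0 :=
      PicOneLib.eq_zero_of_stable k hdim hLa hVc' hst hVr (CurvLib.isCoh_of_isInvertible hM) (itf M hM) hMr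
        (by rw [hM1, hVc]; nlinarith [(n.cast_nonneg : (0 : ℚ) ≤ n)]) _
    refine T.map_injective ?_
    rw [T.map_zero, ← cancel_epi u.inv, ← cancel_mono v.hom, Category.assoc, h0, Limits.comp_zero, Limits.zero_comp]
  have hχ : 1 ≤ Curv2.euler k S W := by
    have h2 : (1 : ℚ) ≤ Curv2.euler k S W := (hP n).symm ▸ hn
    exact_mod_cast h2
  obtain ⟨σ, hσ⟩ := PicOneLib.exists_section k hdim hLa emb hemb' hK hW hχ hHom
  let s : M ⟶ V := v.inv ≫ T.map σ ≫ u.hom
  have hs : s ≠ 0 := fun h => hσ (T.map_injective (by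
    rw [T.map_zero, ← cancel_epi v.inv, ← cancel_mono u.hom, Category.assoc, show v.inv ≫ T.map σ ≫ u.hom = 0 from h,
      Limits.comp_zero, Limits.zero_comp]))
  have hMc := CurvLib.isCoh_of_isInvertible hM
  haveI := PicOneLib.mono_of_ne_zero k hMc (itf M hM) hMr hVc' hVtf s hs
  obtain ⟨N, b, hb, hN, hNtf, hsb, hrk'⟩ := PicOneLib.exists_sat hMc hVc' s
  haveI := hb
  have hN1 : CurvLib.genRank N = 1 := by omega
  have hF : Coh.IsCoh (kernel b) := QCohLib.isCoh_kernel b hVc' hN.1
  have eV := StabLib.hPoly_ker (k := k) hLa b hVc' hN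
  have hF1 : CurvLib.genRank (kernel b) = 1 := by
    have : CurvLib.genRank V = CurvLib.genRank (kernel b) + CurvLib.genRank N :=
      CurvLib.genRank_add (S := ShortComplex.mk _ _ (kernel.condition b)) (PicOneLib.ses_kernel b) hF hVc' hN
    omega
  have hFtf := PicOneLib.torsionFree_of_mono (kernel.ι b) hVtf
  let l0 : M ⟶ kernel b := kernel.lift b s hsb
  haveI : Mono l0 := mono_of_mono_fac (kernel.lift_ι b s hsb)
  have m1 := (PicOneLib.c1_mono k hdim hLa l0 hMc hF (hMr.trans hF1.symm)).1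
  have m3 := PicOneLib.c1_le_of_stable k hdim hLa hVc' hst hVr hF (kernel.ι b) hF1
  obtain ⟨a, J, hJ, j, hj, hjd, hJa, ha⟩ := PicOneLib.exists_class k hdim hLa hgen hF hFtf hF1
  rw [hβ, zero_add] at ha
  have h1' : -(n : ℤ) ≤ a := by
    have h1 : -(n : ℚ) ≤ a := by rw [hM1, ha] at m1; nlinarith
    exact_mod_cast h1
  have h2' : a ≤ 0 := by
    have h2 : (2 : ℚ) * a ≤ 1 := by rw [hVc, ha] at m3; nlinarith
    have h2'' : 2 * a ≤ 1 := by exact_mod_cast h2
    omega
  obtain ⟨m, hm⟩ : ∃ m : ℕ, (m : ℤ) = -a := ⟨(-a).toNat, Int.toNat_of_nonneg (by omega)⟩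
  -- the saturation is invertible
  haveI := hj
  have hJc := CurvLib.isCoh_of_isInvertible hJ
  obtain ⟨g, hg⟩ := PicOneLib.exists_extend_finite k hdim hF hJc j hjd hVf (kernel.ι b)
  have hgb : g ≫ b = 0 := by
    haveI := hN.1
    have h0 := PicOneLib.eq_zero_of_subsingleton hNtf
      (cokernel.desc j (g ≫ b) (by rw [reassoc_of% hg, kernel.condition]))
      (PicOneLib.subsingleton_of_genRank (QCohLib.isCoh_cokernel j hF.1 hJc)
        (PicOneLib.c1_finite k hdim hLa (QCohLib.isCoh_cokernel j hF.1 hJc) hjd).2)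
    rw [← cokernel.π_desc j (g ≫ b) (by rw [reassoc_of% hg, kernel.condition]), h0, Limits.comp_zero]
  let l : J ⟶ kernel b := kernel.lift b g hgb
  have hjl : j ≫ l = 𝟙 _ := by
    rw [← cancel_mono (kernel.ι b), Category.assoc, kernel.lift_ι, hg, Category.id_comp]
  have hl0 : l ≠ 0 := fun h => by
    rw [h, Limits.comp_zero] at hjl
    have := PicOneLib.c2_eq k hdim hLa hF
    rw [PicOneLib.c2, StabLib.hPoly_zero hLa ((IsZero.iff_id_eq_zero _).2 hjl.symm), Polynomial.coeff_zero, hF1,
      Nat.cast_one, one_mul] at this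
    exact hα.ne this
  haveI := PicOneLib.mono_of_ne_zero k hJc (itf J hJ) (PicOneLib.c1_class k hdim hLa hJ hJa).2 hF hFtf l hl0
  have hlj : l ≫ j = 𝟙 _ := by rw [← cancel_mono l, Category.assoc, hjl, Category.comp_id, Category.id_comp]
  have hses : (ShortComplex.mk g b hgb).ShortExact :=
    ShortComplex.shortExact_of_iso (S₁ := ShortComplex.mk (kernel.ι b) b (kernel.condition b))
      (ShortComplex.isoMk ⟨j, l, hjl, hlj⟩ (Iso.refl _) (Iso.refl _)
      (by show j ≫ g = kernel.ι b ≫ 𝟙 V
          rw [hg, Category.comp_id])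
      (by show 𝟙 V ≫ b = b ≫ 𝟙 N
          rw [Category.comp_id, Category.id_comp])) (PicOneLib.ses_kernel b)
  obtain ⟨c, J', hJ', j', hj', hj'd, hJ'c, hc⟩ := PicOneLib.exists_class k hdim hLa hgen hN hNtf hN1
  have hNc : PicOneLib.c1 k L V = PicOneLib.c1 k L (kernel b) + PicOneLib.c1 k L N := by
    rw [PicOneLib.c1, PicOneLib.c1, PicOneLib.c1, eV, Polynomial.coeff_add]
  have hc' : c = ((m + 1 : ℕ) : ℤ) := by
    rw [hVc, ha, hc, hβ, zero_add] at hNc
    have h : (c : ℚ) = 1 - (a : ℚ) := by nlinarith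
    have h' : c = 1 - a := by exact_mod_cast h
    omega
  rw [hc', zpow_natCast] at hJ'c
  obtain ⟨e⟩ : Nonempty (J' ≅ CohB1.tensorPow L (m + 1)) := by
    rw [← PicGrp.cl_eq_cl_iff, ← PicGrp.cls_pow_val hLi (m + 1), ← PicGrp.cls_val J' hJ', hJ'c]
  haveI := hj'
  refine ⟨m, by omega, J, hJ, ?_, N, j' ≫ e.hom, inferInstance, hN, ?_, g, b, hgb, hses⟩
  · rw [hJa, ← zpow_natCast, ← zpow_add, hm, add_neg_cancel, zpow_zero]
  · exact (StabLib.dim_mono (DevissLib.support_mono (cokernelCompIsIso j' e.hom).hom)).trans hj'd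

end Groth.Agent.S15854
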