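import Groth.Statements.S15855
import Groth.Agent.SurfExtLib.CurveDual

set_option autoImplicit false
set_option backward.isDefEq.respectTransparency false
set_option backward.isDefEq.respectTransparency.types false
set_option maxHeartbeats 3200000
universe u
open CategoryTheory CategoryTheory.Limits AlgebraicGeometry
attribute [local instance] HasDerivedCategory.standard
open Surf

namespace Groth.Agent.S15855

/-- Let k be an algebraically closed field of characteristic zero, S a smooth projective surface over k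
(integral, smooth over k, of dimension two, with a closed immersion over k into some projective
space), ω an O_S-module which is a second exterior power of the sheaf of differentials of S over k,
j : C → S a closed immersion with C integral of dimension one, and A a coherent O_C-module with
torsion-free stalks and one-dimensional generic stalk, with H^0(S, j_*A) ≠ 0 and H^1(S, j_*A) ≠ 0.
For a coherent O_S-module F write F^* = Ext^1_{O_S}(F, ω) (first right derived functor of the sheaf
Hom functor Hom_{O_S}(F, -), the right adjoint of F ⊗ -, at ω). Let A' ⊆ j_*A be the base-point-free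
part of A: a globally generated coherent subsheaf such that H^0(S, A') → H^0(S, j_*A) is surjective
(the image of the evaluation map). Let B ⊆ A'^* be, likewise, a globally generated coherent subsheaf
with H^0(S, B) → H^0(S, A'^*) surjective, and put A'' = B^*. Then both A'' and A''^* are globally
generated (quotients of free O_S-modules). -/
theorem result
    (k : Type u) [Field k] [IsAlgClosed k] [CharZero k]
    (S : Scheme.{u}) [S.Over (Spec (CommRingCat.of k))] [IsIntegral S]
    [Smooth (S ↘ Spec (CommRingCat.of k))] (hdim : topologicalKrullDim S = 2)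
    [IsProper (S ↘ Spec (CommRingCat.of k))]
    (hproj : ∃ (n : ℕ) (ι : S ⟶ CohB1.ProjSpace n k), IsClosedImmersion ι ∧
      ι ≫ CohB1.ProjSpace.toSpec n k = S ↘ Spec (CommRingCat.of k))
    [HasInjectiveResolutions S.Modules]
    (ω : S.Modules) (hω : Canon.IsTopDiff (S ↘ Spec (CommRingCat.of k)) 2 ω)
    (C : Scheme.{u}) (j : C ⟶ S) [IsClosedImmersion j] [IsIntegral C]
    (hC : topologicalKrullDim C = 1)
    (M : C.Modules) (hM : Coh.IsCoh M) (hMtf : TorSh.IsTorsionFree M)
    (hrk : Module.finrank (C.presheaf.stalk (genericPoint C)) (M.presheaf.stalk (genericPoint C)) = 1)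
    (h0 : 0 < Module.finrank k (Coh.HH S ((Coh.push j).obj M) 0)) (h1 : 0 < Module.finrank k (Coh.HH S ((Coh.push j).obj M) 1))
    (A' : S.Modules) (ι₁ : A' ⟶ ((Coh.push j).obj M)) [Mono ι₁] (hA'c : Coh.IsCoh A')
    (hA'g : Curv2.IsGloballyGenerated A') (hA'0 : Function.Surjective (Canon.HHlin k ι₁ 0))
    [DCoh.HasSheafHom A'] [(DCoh.sheafHom A').Additive]
    (B : S.Modules) (ι₂ : B ⟶ ((DCoh.sheafHom A').rightDerived 1).obj ω) [Mono ι₂] (hBc : Coh.IsCoh B)
    (hBg : Curv2.IsGloballyGenerated B) (hB0 : Function.Surjective (Canon.HHlin k ι₂ 0))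
    [DCoh.HasSheafHom B] [(DCoh.sheafHom B).Additive]
    [DCoh.HasSheafHom (((DCoh.sheafHom B).rightDerived 1).obj ω)] [(DCoh.sheafHom (((DCoh.sheafHom B).rightDerived 1).obj ω)).Additive] :
    Curv2.IsGloballyGenerated (((DCoh.sheafHom B).rightDerived 1).obj ω) ∧
      Curv2.IsGloballyGenerated (((DCoh.sheafHom (((DCoh.sheafHom B).rightDerived 1).obj ω)).rightDerived 1).obj ω) := by
  haveI : IsLocallyNoetherian S := LocallyOfFiniteType.isLocallyNoetherian (S ↘ Spec (CommRingCat.of k))
  haveI : SmoothOfRelativeDimension 2 (S ↘ Spec (CommRingCat.of k)) := SurfNumLib.smoothRel_of_dim hdim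
  haveI := CurvLib.isNoetherian k (X := S)
  obtain ⟨n, ι, hι1, hι⟩ := hproj
  haveI := hι1
  have hd2 : topologicalKrullDim S ≤ 2 := hdim.le
  have hreg : ∀ x : S, IsRegularLocalRing (S.presheaf.stalk x) := fun x => Groth.Agent.S1535.result k S x
  have hCS : topologicalKrullDim C ≠ topologicalKrullDim S := by rw [hC, hdim]; decide
  have hη := SurfExtLib.genericPoint_notMem_range j hCS
  have hωi : PicF.IsInvertible ω := CohCmpLib.isInvertible_of_isExtPow (CohCmpLib.rank_omega _ 2) hω
  have hωf : FlatMod.IsFinLocFree ω := CurveVBLib.isFinLocFree_of_rank (CurvLib.locFree_of_isInvertible hωi)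
  let I := injectiveResolution ω
  have hjM := SurfExtLib.isP1_push hd2 hreg j hC hCS M hM hMtf
  have hF : SurfExtLib.IsP1 A' := hjM.of_mono hd2 hreg ι₁ hA'c
  obtain ⟨ψ⟩ := SurfExtLib.nonempty_rightDerived_hcx A' I 1
  obtain ⟨ψB⟩ := SurfExtLib.nonempty_rightDerived_hcx B I 1
  let Q := (ExtShLib.hcx A' I).homology 1
  let D := (ExtShLib.hcx B I).homology 1
  let i : B ⟶ Q := ι₂ ≫ ψ.hom
  have hQ : SurfExtLib.IsP1 Q := SurfExtLib.isP1_dual hreg hF ι hωf I
  have hB : SurfExtLib.IsP1 B := hQ.of_mono hd2 hreg i hBc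
  have hD : SurfExtLib.IsP1 D := SurfExtLib.isP1_dual hreg hB ι hωf I
  obtain ⟨eB⟩ := SurfExtLib.nonempty_dual_dual hreg hB ι hωi hωf I
  refine ⟨?_, ?_⟩
  swap
  · -- the second dual
    obtain ⟨ψD⟩ := SurfExtLib.nonempty_rightDerived_hcx (((DCoh.sheafHom B).rightDerived 1).obj ω) I 1
    let τ : (ExtShLib.hcx (((DCoh.sheafHom B).rightDerived 1).obj ω) I).homology 1 ≅ (ExtShLib.hcx D I).homology 1 :=
      { hom := HomologicalComplex.homologyMap (ExtShLib.preCx I ψB.inv) 1
        inv := HomologicalComplex.homologyMap (ExtShLib.preCx I ψB.hom) 1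
        hom_inv_id := by
          rw [← HomologicalComplex.homologyMap_comp, show ExtShLib.preCx I ψB.inv ≫ ExtShLib.preCx I ψB.hom = 𝟙 _ from
            HomologicalComplex.hom_ext _ _ fun m =>
              (ExtShLib.preMap_comp _ _ _).trans (by rw [Iso.hom_inv_id, ExtShLib.preMap_id]; rfl),
            HomologicalComplex.homologyMap_id]
        inv_hom_id := by
          rw [← HomologicalComplex.homologyMap_comp, show ExtShLib.preCx I ψB.hom ≫ ExtShLib.preCx I ψB.inv = 𝟙 _ from
            HomologicalComplex.hom_ext _ _ fun m =>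
              (ExtShLib.preMap_comp _ _ _).trans (by rw [Iso.inv_hom_id, ExtShLib.preMap_id]; rfl),
            HomologicalComplex.homologyMap_id] }
    exact MiscFlat6.isGloballyGenerated_of_iso (ψD ≪≫ τ ≪≫ eB).symm hBg
  refine MiscFlat6.isGloballyGenerated_of_iso ψB.symm ?_
  by_cases hB0' : IsZero B
  · refine SurfExtLib.isGloballyGenerated_of_isZero (DevissLib.isZero_of_support_empty
      (Set.eq_empty_of_forall_notMem fun y hy => ?_))
    have hy' : y ∉ CohB1.support B := fun h => h
      ((hB0'.of_iso (Iso.refl B)) |> fun hz => ModuleCat.subsingleton_of_isZero ((DerSch.stalkFunctor S y).map_isZero hz))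
    exact hy (SurfExtLib.subsingleton_hcx_homology_stalk I hBc.2 1 hy')
  -- stalks vanish away from the curve
  obtain ⟨K, E, f, g₀, w₀, hT, hKf, hEf⟩ := hF.exists_resolution hreg ι
  obtain ⟨g, w, hT'⟩ := SurfExtLib.exists_dual_resolution hreg hT hF hEf hωf I
  have hQ0 : ∀ y ∉ Set.range ⇑j, Subsingleton (CohCmpLib.stk Q y) := fun y hy => by
    haveI : Subsingleton (CohCmpLib.stk ((Coh.push j).obj M) y) := ProjClosedImmLib.subsingleton_stalk j M hy
    haveI : Subsingleton (CohCmpLib.stk A' y) := (FLI.sMap_injective ι₁ y).subsingleton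
    refine subsingleton_of_forall_eq 0 fun q => ?_
    have h := SurfExtLib.smul_eq_zero_of_dual hT hT' hEf hKf y (a := 1) (fun t => Subsingleton.elim _ _) q
    rwa [one_smul] at h
  have hclosed : ∀ y : S, IsClosed ({y} : Set S) → ringKrullDim (S.presheaf.stalk y) = 2 := fun y hy =>
    (CIGen.closedPt_of_smooth (S ↘ Spec (CommRingCat.of k)) 2 y hy).2
  have hBsupp : CohB1.support B ⊆ Set.range ⇑j := fun y hy => by
    by_contra h
    haveI := hQ0 y h
    exact hy (FLI.sMap_injective i y).subsingleton
  have hBη : ¬ Subsingleton (CohCmpLib.stk B (j (genericPoint C))) := fun hsub => hB0' (by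
    have hpts : ∀ y ∈ CohB1.support B, IsClosed ({y} : Set S) := fun y hy =>
      SurfExtLib.isClosed_image_ne j hC.le (hBsupp hy) (fun he => hy (he ▸ hsub))
    have hfin := (CurvLib.finite_support_data k hBc
      (SurfExtLib.dim_le_zero_of_closed_points (QCohLib.isClosed_support B hBc.2) hpts)).1
    refine DevissLib.isZero_of_support_empty (Set.eq_empty_of_forall_notMem fun x hx => hx ?_)
    have hcl : IsClosed (CohB1.support B \ {x}) := by
      have := (hfin.subset Set.diff_subset : (CohB1.support B \ {x}).Finite)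
      rw [← Set.biUnion_of_singleton (CohB1.support B \ {x})]
      exact this.isClosed_biUnion fun y hy => hpts y hy.1
    exact hB.subsingleton_isolated hreg (hclosed x (hpts x hx)) ⟨_, hcl.isOpen_compl⟩
      (fun h => h.2 rfl) fun y hy hne h => hy ⟨h, hne⟩)
  have hsurjη : Function.Surjective (FLI.sMap i (j (genericPoint C))) := by
    set x := j (genericPoint C)
    haveI := SurfExtLib.isDVR_stalk_generic j hd2 hreg hC hη
    obtain ⟨b, hb⟩ : ∃ b : CohCmpLib.stk B x, b ≠ 0 := by
      by_contra h
      exact hBη (subsingleton_of_forall_eq 0 fun b => not_not.1 fun hb => h ⟨b, hb⟩)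
    have hq : FLI.sMap i x b ≠ 0 := fun h => hb (FLI.sMap_injective i x (h.trans (map_zero _).symm))
    haveI : IsLocalHom (j.stalkMap (genericPoint C)).hom := inferInstance
    letI : Field (C.presheaf.stalk (genericPoint C)) := inferInstanceAs (Field C.functionField)
    have hm : ∀ a ∈ IsLocalRing.maximalIdeal (S.presheaf.stalk x), ∀ t : CohCmpLib.stk A' x, a • t = 0 := by
      intro a ha t
      have h0 : j.stalkMap (genericPoint C) a = 0 := by
        by_contra h
        exact (IsLocalRing.mem_maximalIdeal _).1 ha (isUnit_of_map_unit (j.stalkMap (genericPoint C)).hom a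
          (isUnit_iff_ne_zero.2 h))
      refine FLI.sMap_injective ι₁ x ((ProjClosedImmLib.pS_bijective j (genericPoint C) M).1 ?_)
      show ProjClosedImmLib.pS j _ M (((DerSch.stalkFunctor S x).map ι₁).hom (a • t)) =
        ProjClosedImmLib.pS j _ M (((DerSch.stalkFunctor S x).map ι₁).hom 0)
      rw [map_smul, map_zero]
      erw [ProjClosedImmLib.pS_smul, h0, zero_smul, map_zero]
    by_cases hA0 : Subsingleton (CohCmpLib.stk A' x)
    · refine absurd ?_ hq
      have h := SurfExtLib.smul_eq_zero_of_dual hT hT' hEf hKf x (a := 1) (fun t => Subsingleton.elim _ _)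
        (FLI.sMap i x b)
      rwa [one_smul] at h
    obtain ⟨t₁, ht₁⟩ : ∃ t : CohCmpLib.stk A' x, t ≠ 0 := by
      by_contra h
      exact hA0 (subsingleton_of_forall_eq 0 fun b => not_not.1 fun hb => h ⟨b, hb⟩)
    let θ : CohCmpLib.stk A' x → M.presheaf.stalk (genericPoint C) := fun t =>
      ProjClosedImmLib.pS j (genericPoint C) M (FLI.sMap ι₁ x t)
    have hθ : Function.Injective θ :=
      (ProjClosedImmLib.pS_bijective j (genericPoint C) M).1.comp (FLI.sMap_injective ι₁ x)
    have hθ0 : θ t₁ ≠ 0 := fun h => ht₁ (hθ (h.trans (by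
      show 0 = ProjClosedImmLib.pS j (genericPoint C) M (((DerSch.stalkFunctor S x).map ι₁).hom 0)
      rw [map_zero]; erw [map_zero])))
    have hgen : ∀ t : CohCmpLib.stk A' x, ∃ c : S.presheaf.stalk x, c • t₁ = t := fun t => by
      obtain ⟨c', hc'⟩ := (finrank_eq_one_iff_of_nonzero' (θ t₁) hθ0).1 hrk (θ t)
      obtain ⟨c, rfl⟩ := j.stalkMap_surjective (genericPoint C) c'
      refine ⟨c, hθ ?_⟩
      show ProjClosedImmLib.pS j (genericPoint C) M (((DerSch.stalkFunctor S x).map ι₁).hom (c • t₁)) = θ t
      rw [map_smul]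
      erw [ProjClosedImmLib.pS_smul]
      exact hc'
    intro r
    obtain ⟨c, hc⟩ := SurfExtLib.exists_smul_eq_generic hT hT' hEf hKf hωi x hm hgen hq r
    exact ⟨c • b, by
      show ((DerSch.stalkFunctor S x).map i).hom (c • b) = r
      rw [map_smul]; exact hc⟩
  -- the cokernel has finite support
  let Cq := cokernel i
  have hCc : Coh.IsCoh Cq := QCohLib.isCoh_cokernel i hBc.1 hQ.coh
  have hCpts : ∀ y ∈ CohB1.support Cq, IsClosed ({y} : Set S) := fun y hy => by
    refine SurfExtLib.isClosed_image_ne j hC.le ?_ ?_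
    · by_contra h
      exact DevissLib.notMem_support_cokernel i y (fun q => ⟨0, (hQ0 y h).elim _ _⟩) hy
    · rintro rfl
      exact DevissLib.notMem_support_cokernel i _ hsurjη hy
  have hT0 := SurfExtLib.dim_le_zero_of_closed_points (QCohLib.isClosed_support Cq hCc.2) hCpts
  let U : ShortComplex S.Modules := ShortComplex.mk i (cokernel.π i) (cokernel.condition i)
  have hU : U.ShortExact := { exact := ShortComplex.exact_cokernel i }
  have hU' := ExtShLib.seqCx_shortExact I hU
  let γ : (ExtShLib.hcx Q I).homology 1 ⟶ D :=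
    HomologicalComplex.homologyMap (ExtShLib.preCx I i) 1
  obtain ⟨eF⟩ := SurfExtLib.nonempty_dual_dual hreg hF ι hωi hωf I
  refine SurfExtLib.isGloballyGenerated_of_finite_coker (k := k) (eF.inv ≫ γ) hA'c hD.coh hA'g
    (QCohLib.isClosed_support Cq hCc.2) hT0 (fun y hy => ?_) (fun y hy => ?_) ?_
  · intro a b hab
    rw [FLI.sMap_comp, FLI.sMap_comp] at hab
    have key : ∀ z, FLI.sMap γ y z = 0 → z = 0 := fun z hz => by
      obtain ⟨c, rfl⟩ := FLI.exists_of_exact _ _ _ (hU'.homology_exact₂ 1) y hz
      haveI : Subsingleton (CohCmpLib.stk ((ExtShLib.seqCx I U).X₁.homology 1) y) :=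
        SurfExtLib.subsingleton_hcx_homology_stalk I hCc.2 1 hy
      rw [Subsingleton.elim c 0]
      exact map_zero ((DerSch.stalkFunctor S y).map _).hom
    refine FLI.sMap_injective eF.inv y (sub_eq_zero.1 (key _ ?_))
    exact (map_sub ((DerSch.stalkFunctor S y).map γ).hom _ _).trans (sub_eq_zero.2 hab)
  · intro d
    obtain ⟨z, hz⟩ := FLI.exists_of_exact _ _ _ (hU'.homology_exact₃ 1 2 rfl) y (b := d) (by
      haveI : Subsingleton (CohCmpLib.stk ((ExtShLib.seqCx I U).X₁.homology 2) y) :=
        SurfExtLib.subsingleton_hcx_homology_stalk I hCc.2 2 hy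
      exact Subsingleton.elim _ _)
    obtain ⟨a, ha⟩ := FLI.sMap_surjective eF.inv y z
    exact ⟨a, by rw [FLI.sMap_comp, ha]; exact hz⟩
  · have h₁ := SurfExtLib.finrank_dual hreg ι hι hω hωf I hF
    have h₂ := SurfExtLib.finrank_dual hreg ι hι hω hωf I hD
    have h₃ : Function.Bijective (CurvLib.hMap (k := k) ι₂ 0) :=
      ⟨CurvLib.injective₀ (k := k) (S := ShortComplex.mk ι₂ (cokernel.π ι₂) (cokernel.condition ι₂))
        { exact := ShortComplex.exact_cokernel ι₂ }, hB0⟩
    have h₄ := ((LinearEquiv.ofBijective _ h₃).trans (CurvLib.hIso (k := k) ψ 0)).finrank_eq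
    rw [← h₁, ← h₂, ← h₄]
    exact (CurvLib.hIso (k := k) eB 0).finrank_eq.symm

end Groth.Agent.S15855
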