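import Groth.Statements.S15856
import Groth.Agent.PicOneLib.Pt

set_option autoImplicit false
universe u
open CategoryTheory CategoryTheory.Limits AlgebraicGeometry
open ShStab

set_option backward.isDefEq.respectTransparency false
set_option backward.isDefEq.respectTransparency.types false
set_option maxHeartbeats 1200000

namespace Groth.Agent.S15856

/-- Let k be an algebraically closed field of characteristic zero and S a K3 surface over k — a smooth
projective surface (integral, smooth over k, of dimension two, with a closed immersion over k into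
some projective space) whose structure sheaf is a second exterior power of its sheaf of
differentials and with H^1(S, O_S) = 0 — whose Picard group is infinite cyclic, generated by the
class of an ample invertible sheaf G. Let L and L' be invertible O_S-modules and N ⊆ L' a coherent
subsheaf whose quotient L'/N is supported in dimension at most zero (N is L' twisted by the ideal
sheaf of a finite subscheme Z). If the group Ext^1_{O_S}(N, L), computed in the category of all
O_S-modules with its k-linear structure (the Ext instance is the stated hypothesis; it holds), has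
k-dimension at least 2, then there is a short exact sequence 0 → L → V → N → 0 which does not split
and whose middle term V is not a finite locally free O_S-module. -/
theorem result
    (k : Type u) [Field k] [IsAlgClosed k] [CharZero k]
    (S : Scheme.{u}) [S.Over (Spec (CommRingCat.of k))] [IsIntegral S]
    [Smooth (S ↘ Spec (CommRingCat.of k))] (hdim : topologicalKrullDim S = 2)
    [IsProper (S ↘ Spec (CommRingCat.of k))]
    (hproj : ∃ (n : ℕ) (ι : S ⟶ CohB1.ProjSpace n k), IsClosedImmersion ι ∧
      ι ≫ CohB1.ProjSpace.toSpec n k = S ↘ Spec (CommRingCat.of k))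
    (hK : Canon.IsTopDiff (S ↘ Spec (CommRingCat.of k)) 2 (Coh.structureModule S))
    (hq : Module.finrank k (Coh.HH S (Coh.structureModule S) 1) = 0)
    (G : S.Modules) (hGi : PicF.IsInvertible G) (hGa : CohB1.IsAmple G)
    [PicGrp.Law S] (hgen : ∀ c : PicLoc.PicSet S, ∃ n : ℤ, c = PicGrp.cls G hGi ^ n)
    (hfree : ∀ n : ℤ, PicGrp.cls G hGi ^ n = 1 → n = 0)
    [HasExt.{u} S.Modules]
    (L L' : S.Modules) (hL : PicF.IsInvertible L) (hL' : PicF.IsInvertible L')
    (N : S.Modules) (ι : N ⟶ L') [Mono ι] (hN : Coh.IsCoh N)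
    (hZ : topologicalKrullDim (CohB1.support (cokernel ι)) ≤ 0)
    (h2 : 2 ≤ Module.finrank k (Abelian.Ext N L 1)) :
    ∃ (V : S.Modules) (a : L ⟶ V) (b : V ⟶ N) (w : a ≫ b = 0),
      (ShortComplex.mk a b w).ShortExact ∧ (∀ r : V ⟶ L, a ≫ r ≠ 𝟙 L) ∧
        ¬ FlatMod.IsFinLocFree V := by
  haveI := CurvLib.isNoetherian k (X := S)
  haveI := SurfNumLib.smoothRel_of_dim (k := k) (X := S) (n := 2) hdim
  obtain ⟨r0, emb, hemb, hemb'⟩ := hproj
  haveI := hemb
  haveI : EnoughInjectives S.Modules := IsGrothendieckAbelian.enoughInjectives.{u}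
  let O := Coh.structureModule S
  have hLf : FlatMod.IsFinLocFree L := CurveVBLib.isFinLocFree_of_rank (CurvLib.locFree_of_isInvertible hL)
  have hL'f : FlatMod.IsFinLocFree L' := CurveVBLib.isFinLocFree_of_rank (CurvLib.locFree_of_isInvertible hL')
  obtain ⟨M, hM, -, ⟨v⟩⟩ := PicOneLib.exists_inverse hL
  let T := CurvLib.tensorLeft' M
  haveI : T.IsEquivalence := VBP1Lib.isEquivalence_tensor v
  haveI : T.PreservesInjectiveObjects :=
    Functor.preservesInjectiveObjects_of_adjunction_of_preservesMonomorphisms T.asEquivalence.symm.toAdjunction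
  obtain ⟨D, hω, hs⟩ := AdjFormLib.nonempty_dualData_smooth k r0 2 S emb hemb' (Coh.structureModule S) hK
  let v' : T.obj L ≅ D.ω := v ≪≫ eqToIso hω.symm
  let Φ : ∀ (A : S.Modules) (n : ℕ), Abelian.Ext A L n → Abelian.Ext (T.obj A) D.ω n := fun A n x =>
    (T.mapExtAddHom A L n x).comp (Abelian.Ext.mk₀ v'.hom) (add_zero n)
  have hinj : ∀ A n, Function.Injective (Φ A n) := fun A n x y h => by
    refine (T.mapExt_bijective_of_preservesInjectiveObjects A L n).1 ?_
    have h' := congrArg (fun e => e.comp (Abelian.Ext.mk₀ v'.inv) (add_zero n)) h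
    simpa [Φ, Abelian.Ext.comp_assoc_of_second_deg_zero] using h'
  by_cases hC0 : IsZero (cokernel ι)
  · -- no points: there are no extensions
    exfalso
    haveI : Epi ι := Abelian.epi_of_cokernel_π_eq_zero ι (hC0.eq_of_tgt _ _)
    haveI : IsIso ι := isIso_of_mono_of_epi ι
    have hTi : PicF.IsInvertible (T.obj L') := HilbPolyLib.isInvertible_tensor hM hL'
    have hTc := CurvLib.isCoh_of_isInvertible hTi
    haveI := CurvLib.finite_HH (k := k) hTc 1
    haveI : Subsingleton (Coh.HH S (T.obj L') (2 - 1)) :=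
      (Module.finrank_zero_iff (R := k)).1 (PicOneLib.h1_eq_zero k hdim hGa emb hemb' hK hgen hq hTi)
    obtain ⟨e⟩ := PnDualLib.nonempty_extX_dual D (T.obj L') hTc 1 (by omega) (by omega)
    haveI : Subsingleton (Abelian.Ext (T.obj L') D.ω 1) := e.toEquiv.subsingleton
    haveI : Subsingleton (Abelian.Ext L' L 1) := (hinj L' 1).subsingleton
    haveI : Subsingleton (Abelian.Ext N L 1) := subsingleton_of_forall_eq 0 fun x => by
      rw [← Abelian.Ext.mk₀_id_comp x, ← IsIso.hom_inv_id ι, ← Abelian.Ext.mk₀_comp_mk₀,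
        Abelian.Ext.comp_assoc (a₁₂ := 0) (a₂₃ := 1) _ _ _ (add_zero 0) (zero_add 1) (by omega),
        Subsingleton.elim ((Abelian.Ext.mk₀ (inv ι)).comp x (zero_add 1)) 0, Abelian.Ext.comp_zero]
    rw [Module.finrank_zero_of_subsingleton] at h2
    omega
  · obtain ⟨z, P, K, a, b, w, hses, hK', hP, hPtf⟩ := PicOneLib.exists_step k hL'f hN ι hZ hC0
    have hNtf : SurfExtLib.TfStalks N := fun x c hc s t hst =>
      FLI.sMap_injective ι x (SurfExtLib.tfStalks_of_isFinLocFree hL'f x c hc (by
        show c • FLI.sMap ι x s = c • FLI.sMap ι x t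
        rw [← map_smul, ← map_smul]
        exact congrArg _ hst))
    -- sections of a length one sheaf
    have hTK : Coh.IsCoh (T.obj K) := HilbPolyLib.isCoh_tensor hM hK'.coh
    obtain ⟨c, hc⟩ := hgen (PicGrp.cls M hM)
    have hKd : topologicalKrullDim (CohB1.support K) ≤ 0 :=
      SurfExtLib.dim_le_zero_of_closed_points (QCohLib.isClosed_support _ hK'.coh.2) fun y hy => by
        rw [Set.mem_singleton_iff.1 (hK'.supp hy)]; exact hK'.closed
    have hTKd : topologicalKrullDim (CohB1.support (T.obj K)) ≤ 0 := by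
      rw [show CohB1.support (T.obj K) = CohB1.support K from HilbPolyLib.support_tensor hM K]
      exact hKd
    have hTK0 : Module.finrank k (Coh.HH S (T.obj K) (2 - 2)) ≤ 1 := by
      have h1 : Curv2.euler k S (T.obj K) = Curv2.euler k S K := by
        have e1 := PicOneLib.euler_eq_eval k hdim hGa emb hemb' hK hTK
        have e2 := PicOneLib.euler_eq_eval k hdim hGa emb hemb' hK hK'.coh
        rw [show StabLib.HPoly k G (T.obj K) = _ from PicOneLib.hPoly_tensor k hdim hGa hM hc hK'.coh,
          (PicOneLib.hPoly_finite k hdim hGa hK'.coh hKd).1, Polynomial.C_comp, Polynomial.eval_C] at e1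
        rw [(PicOneLib.hPoly_finite k hdim hGa hK'.coh hKd).1, Polynomial.eval_C] at e2
        exact_mod_cast e1.trans e2.symm
      rw [CurvLib.euler_eq_h0 hTK hTKd, CurvLib.euler_eq_h0 hK'.coh hKd] at h1
      obtain ⟨π, -, -, hu⟩ := hK'.exists_epi (k := k)
      show Module.finrank k (Coh.HH S (T.obj K) 0) ≤ 1
      rw [show Module.finrank k (Coh.HH S (T.obj K) 0) = Module.finrank k (Coh.HH S K 0) by exact_mod_cast h1]
      refine finrank_le_one (GenusOneSSLib.homEquiv (k := k) K π) fun y => ?_
      obtain ⟨s, rfl⟩ := (GenusOneSSLib.homEquiv (k := k) K).surjective y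
      obtain ⟨d, rfl⟩ := hu s
      exact ⟨d, (map_smul _ _ _).symm⟩
    -- proportionality in the second extension group
    obtain ⟨eD⟩ := PnDualLib.nonempty_extX_dual D (T.obj K) hTK 2 le_rfl (by omega)
    haveI := CurvLib.finite_HH (k := k) hTK (2 - 2)
    haveI : Module.Finite k (Abelian.Ext (T.obj K) D.ω 2) := Module.Finite.equiv eD.symm
    have hd1 : Module.finrank k (Abelian.Ext (T.obj K) D.ω 2) ≤ 1 := by
      rw [eD.finrank_eq, Subspace.dual_finrank_eq]; exact hTK0
    have hprop : ∀ x y : Abelian.Ext K L 2, y ≠ 0 → ∃ c : k, x = c • y := fun x y hy => by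
      have hy' : Φ K 2 y ≠ 0 := fun h => hy (hinj K 2 (h.trans (by simp [Φ])))
      obtain ⟨u, hu⟩ := finrank_le_one_iff.1 hd1
      obtain ⟨cx, hcx⟩ := hu (Φ K 2 x)
      obtain ⟨cy, hcy⟩ := hu (Φ K 2 y)
      have hcy0 : cy ≠ 0 := fun h => hy' (by rw [← hcy, h, zero_smul])
      let f : K ⟶ K := T.preimage ((cx * cy⁻¹) • 𝟙 (T.obj K))
      obtain ⟨d, hd⟩ := hK'.exists_eq_smul_id (k := k) f
      refine ⟨d, hinj K 2 ?_⟩
      rw [show d • y = (Abelian.Ext.mk₀ f).comp y (zero_add 2) by
        rw [hd, Abelian.Ext.mk₀_smul, Abelian.Ext.smul_comp, Abelian.Ext.mk₀_id_comp]]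
      have e : Φ K 2 ((Abelian.Ext.mk₀ f).comp y (zero_add 2)) =
          (Abelian.Ext.mk₀ (T.map f)).comp (Φ K 2 y) (zero_add 2) := by
        show (T.mapExtAddHom K L 2 ((Abelian.Ext.mk₀ f).comp y (zero_add 2))).comp _ _ = _
        rw [show T.mapExtAddHom K L 2 ((Abelian.Ext.mk₀ f).comp y (zero_add 2)) =
          (Abelian.Ext.mk₀ (T.map f)).comp (T.mapExtAddHom K L 2 y) (zero_add 2) from
            (Abelian.Ext.mapExactFunctor_comp T _ y (zero_add 2)).trans
              (congrArg (fun e => e.comp (Abelian.Ext.mapExactFunctor T y) (zero_add 2))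
                (Abelian.Ext.mapExactFunctor_mk₀ T f)), Abelian.Ext.comp_assoc_of_third_deg_zero]
      rw [e, T.map_preimage, Abelian.Ext.mk₀_smul, Abelian.Ext.smul_comp, Abelian.Ext.mk₀_id_comp, ← hcy,
        smul_smul, mul_assoc, inv_mul_cancel₀ hcy0, mul_one, hcx]
    -- a nonzero class restricted from `P`
    haveI : Module.Finite k (Abelian.Ext N L 1) := Module.finite_of_finrank_pos (by omega)
    let δ : Abelian.Ext N L 1 → Abelian.Ext K L 2 := fun e => hses.extClass.comp e (show 1 + 1 = 2 from rfl)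
    obtain ⟨e, he0, heδ⟩ : ∃ e, e ≠ 0 ∧ δ e = 0 := by
      by_contra! hc'
      haveI : Nontrivial (Abelian.Ext N L 1) := Module.nontrivial_of_finrank_pos (R := k) (by omega)
      obtain ⟨e₀, he₀⟩ := exists_ne (0 : Abelian.Ext N L 1)
      have : Module.finrank k (Abelian.Ext N L 1) ≤ 1 := finrank_le_one e₀ fun e => by
        obtain ⟨d, hd⟩ := hprop (δ e) (δ e₀) (hc' e₀ he₀)
        refine ⟨d, (sub_eq_zero.1 (by_contra fun h => hc' (e - d • e₀) h ?_)).symm⟩
        show hses.extClass.comp (e - d • e₀) _ = 0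
        rw [sub_eq_add_neg, Abelian.Ext.comp_add, Abelian.Ext.comp_neg, Abelian.Ext.comp_smul, ← sub_eq_add_neg]
        exact sub_eq_zero.2 hd
      omega
    obtain ⟨x, hx⟩ := Abelian.Ext.contravariant_sequence_exact₁ hses L e rfl heδ
    obtain ⟨V, f, g, w', hE, rfl⟩ := ExtOneLib.exists_extension e
    refine ⟨V, f, g, w', hE, fun r hr => he0 ?_,
      PicOneLib.not_finLocFree k emb hses hK' hPtf hN hNtf hLf f g w' hE x hx⟩
    rw [← Abelian.Ext.comp_mk₀_id hE.extClass, ← hr, ← Abelian.Ext.mk₀_comp_mk₀,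
      ← Abelian.Ext.comp_assoc_of_third_deg_zero, hE.extClass_comp, Abelian.Ext.zero_comp]

end Groth.Agent.S15856
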