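import Groth.Statements.S15859
import Mathlib
import Groth.Agent.RichLib.InjStage
import Groth.Agent.CohCmpLib.EulerFibre
import Groth.Agent.CohCmpLib.EulerConst
import Groth.Agent.CurvLib.Finite0
import Groth.Agent.SurfNumLib.RR
import Groth.Agent.HodgeIdxLib.Bound
import Groth.Agent.ConsLib.ModLoci
import Groth.Agent.RpushLib.FlatPull
import Groth.Agent.QCohLib.Coherent
-- import your own Groth.Agent.* helpers here

set_option autoImplicit false
universe u
open CategoryTheory CategoryTheory.Limits AlgebraicGeometry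
open Surf

namespace Groth.Agent.S15859

/-- Let k be an algebraically closed field of characteristic zero, S a smooth projective surface over k
(integral, smooth over k, of dimension two, with a closed immersion over k into some projective
space) and P an integral one-dimensional k-scheme locally of finite type (a curve, not necessarily
proper). Let 𝒜, 𝒜', 𝒜'' be coherent O-modules on S ×_k P, flat over P, with monomorphisms 𝒜' → 𝒜 and
𝒜' → 𝒜'' whose cokernels 𝒬 and 𝒬~ are flat over P, the fibres of 𝒬~ being supported in dimension at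
most zero (so they have constant length). For a k-point p of P write F_p for the pull-back of a
module F along the section S → S ×_k P at p (identity on S, p on the second factor), a module on S.
Suppose that at some k-point p₀ one has dim H^0(S, 𝒜'_{p₀}) = dim H^0(S, 𝒜_{p₀}) and dim H^1(S,
𝒜'_{p₀}) = dim H^1(S, 𝒜''_{p₀}), and that dim H^0(S, 𝒜''_p) ≥ dim H^0(S, 𝒜''_{p₀}) for every k-point
p. Then dim H^0(S, 𝒜_p) ≥ dim H^0(S, 𝒜_{p₀}) for every k-point p. (The published statement also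
assumes that the fibres 𝒜_p, 𝒜'_p, 𝒜''_p are rank-one torsion-free sheaves on curves C_p ⊆ S, using
this only to see that the fibrewise maps are injective; that follows here from the flatness of the
cokernels, so the assumption is not made.) -/
theorem result
    (k : Type u) [Field k] [IsAlgClosed k] [CharZero k]
    (S : Scheme.{u}) [S.Over (Spec (CommRingCat.of k))] [IsIntegral S]
    [Smooth (S ↘ Spec (CommRingCat.of k))] (hdim : topologicalKrullDim S = 2)
    [IsProper (S ↘ Spec (CommRingCat.of k))]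
    (hproj : ∃ (n : ℕ) (ι : S ⟶ CohB1.ProjSpace n k), IsClosedImmersion ι ∧
      ι ≫ CohB1.ProjSpace.toSpec n k = (S ↘ Spec (CommRingCat.of k)))
    (P : Scheme.{u}) (pP : P ⟶ Spec (CommRingCat.of k)) [IsIntegral P] [LocallyOfFiniteType pP]
    (hP : topologicalKrullDim P = 1)
    (𝒜 𝒜' 𝒜'' : (pullback (S ↘ Spec (CommRingCat.of k)) pP).Modules) (h𝒜 : Coh.IsCoh 𝒜) (h𝒜' : Coh.IsCoh 𝒜') (h𝒜'' : Coh.IsCoh 𝒜'')
    (hfl : FlatMod.IsFlatOver (pullback.snd (S ↘ Spec (CommRingCat.of k)) pP) 𝒜)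
    (hfl' : FlatMod.IsFlatOver (pullback.snd (S ↘ Spec (CommRingCat.of k)) pP) 𝒜')
    (hfl'' : FlatMod.IsFlatOver (pullback.snd (S ↘ Spec (CommRingCat.of k)) pP) 𝒜'')
    (α : 𝒜' ⟶ 𝒜) (β : 𝒜' ⟶ 𝒜'') [Mono α] [Mono β]
    (hQ : FlatMod.IsFlatOver (pullback.snd (S ↘ Spec (CommRingCat.of k)) pP) (cokernel α))
    (hQ' : FlatMod.IsFlatOver (pullback.snd (S ↘ Spec (CommRingCat.of k)) pP) (cokernel β))
    (hQ'0 : ∀ (t : Spec (CommRingCat.of k) ⟶ P) (_ : t ≫ pP = 𝟙 _)
      (s : S ⟶ pullback (S ↘ Spec (CommRingCat.of k)) pP) (_ : s ≫ pullback.fst (S ↘ Spec (CommRingCat.of k)) pP = 𝟙 S)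
      (_ : s ≫ pullback.snd (S ↘ Spec (CommRingCat.of k)) pP = (S ↘ Spec (CommRingCat.of k)) ≫ t),
      topologicalKrullDim (CohB1.support ((Scheme.Modules.pullback s).obj (cokernel β))) ≤ 0)
    (t₀ : Spec (CommRingCat.of k) ⟶ P) (ht₀ : t₀ ≫ pP = 𝟙 _)
    (s₀ : S ⟶ pullback (S ↘ Spec (CommRingCat.of k)) pP) (hs₀ : s₀ ≫ pullback.fst (S ↘ Spec (CommRingCat.of k)) pP = 𝟙 S)
    (hs₀' : s₀ ≫ pullback.snd (S ↘ Spec (CommRingCat.of k)) pP = (S ↘ Spec (CommRingCat.of k)) ≫ t₀)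
    (h0 : Module.finrank k (Coh.HH S ((Scheme.Modules.pullback s₀).obj 𝒜') 0) =
      Module.finrank k (Coh.HH S ((Scheme.Modules.pullback s₀).obj 𝒜) 0))
    (h1 : Module.finrank k (Coh.HH S ((Scheme.Modules.pullback s₀).obj 𝒜') 1) =
      Module.finrank k (Coh.HH S ((Scheme.Modules.pullback s₀).obj 𝒜'') 1))
    (hup : ∀ (t : Spec (CommRingCat.of k) ⟶ P) (_ : t ≫ pP = 𝟙 _)
      (s : S ⟶ pullback (S ↘ Spec (CommRingCat.of k)) pP) (_ : s ≫ pullback.fst (S ↘ Spec (CommRingCat.of k)) pP = 𝟙 S)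
      (_ : s ≫ pullback.snd (S ↘ Spec (CommRingCat.of k)) pP = (S ↘ Spec (CommRingCat.of k)) ≫ t),
      Module.finrank k (Coh.HH S ((Scheme.Modules.pullback s₀).obj 𝒜'') 0) ≤
        Module.finrank k (Coh.HH S ((Scheme.Modules.pullback s).obj 𝒜'') 0))
    (t : Spec (CommRingCat.of k) ⟶ P) (ht : t ≫ pP = 𝟙 _)
    (s : S ⟶ pullback (S ↘ Spec (CommRingCat.of k)) pP) (hs : s ≫ pullback.fst (S ↘ Spec (CommRingCat.of k)) pP = 𝟙 S)
    (hs' : s ≫ pullback.snd (S ↘ Spec (CommRingCat.of k)) pP = (S ↘ Spec (CommRingCat.of k)) ≫ t) :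
    Module.finrank k (Coh.HH S ((Scheme.Modules.pullback s₀).obj 𝒜) 0) ≤
      Module.finrank k (Coh.HH S ((Scheme.Modules.pullback s).obj 𝒜) 0) := by
  haveI := CurvLib.isNoetherian k (X := S)
  haveI : IsLocallyNoetherian P := LocallyOfFiniteType.isLocallyNoetherian pP
  haveI : JacobsonSpace P := LocallyOfFiniteType.jacobsonSpace pP
  haveI : IsLocallyNoetherian (pullback (S ↘ Spec (CommRingCat.of k)) pP) :=
    LocallyOfFiniteType.isLocallyNoetherian (pullback.snd (S ↘ Spec (CommRingCat.of k)) pP)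
  haveI : LocallyOfFinitePresentation (pullback.snd (S ↘ Spec (CommRingCat.of k)) pP) :=
    LocallyOfFinitePresentation.iff_locallyOfFiniteType.2 inferInstance
  have hX : topologicalKrullDim S ≤ ((2 : ℕ) : WithBot ℕ∞) := by rw [hdim]; exact le_rfl
  have hsq : ∀ (t : Spec (CommRingCat.of k) ⟶ P) (_ : t ≫ pP = 𝟙 _)
      (s : S ⟶ pullback (S ↘ Spec (CommRingCat.of k)) pP) (_ : s ≫ pullback.fst (S ↘ Spec (CommRingCat.of k)) pP = 𝟙 S)
      (_ : s ≫ pullback.snd (S ↘ Spec (CommRingCat.of k)) pP = (S ↘ Spec (CommRingCat.of k)) ≫ t),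
      IsPullback s (S ↘ Spec (CommRingCat.of k)) (pullback.snd (S ↘ Spec (CommRingCat.of k)) pP) t := by
    intro t ht s hs hs'
    refine IsPullback.of_right ?_ hs' (IsPullback.of_hasPullback (S ↘ Spec (CommRingCat.of k)) pP)
    rw [hs, ht]
    exact IsPullback.of_horiz_isIso ⟨by simp⟩
  have hfpQ : ∀ {F G : (pullback (S ↘ Spec (CommRingCat.of k)) pP).Modules} (_ : Coh.IsCoh F) (_ : Coh.IsCoh G)
      (w : F ⟶ G), CohB1.IsFP (cokernel w) := fun {F G} hF hG w => by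
    haveI := hF.1
    haveI := hG.1
    exact RichLib.InjStage.isFP_cokernel (QCohLib.isFP_of_isCoh _ hF) (QCohLib.isFP_of_isCoh _ hG) w
  have hmono : ∀ (t : Spec (CommRingCat.of k) ⟶ P) (_ : t ≫ pP = 𝟙 _)
      (s : S ⟶ pullback (S ↘ Spec (CommRingCat.of k)) pP) (_ : s ≫ pullback.fst (S ↘ Spec (CommRingCat.of k)) pP = 𝟙 S)
      (_ : s ≫ pullback.snd (S ↘ Spec (CommRingCat.of k)) pP = (S ↘ Spec (CommRingCat.of k)) ≫ t)
      {F G : (pullback (S ↘ Spec (CommRingCat.of k)) pP).Modules} (_ : Coh.IsCoh F) (_ : Coh.IsCoh G)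
      (w : F ⟶ G) [Mono w]
      (_ : FlatMod.IsFlatOver (pullback.snd (S ↘ Spec (CommRingCat.of k)) pP) (cokernel w)),
      Mono ((Scheme.Modules.pullback s).map w) := by
    intro t ht s hs hs' F G hF hG w _ hw
    haveI : IsAffineHom t := ⟨fun V _ => by
      by_cases h : t (IsLocalRing.closedPoint k) ∈ V
      · rw [show t ⁻¹ᵁ V = ⊤ from top_le_iff.1 fun x _ => by
          rwa [Subsingleton.elim (α := ↥(Spec (CommRingCat.of k))) x (IsLocalRing.closedPoint k)]]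
        exact isAffineOpen_top _
      · rw [show t ⁻¹ᵁ V = ⊥ from le_bot_iff.1 fun x hx => h (by
          rwa [Subsingleton.elim (α := ↥(Spec (CommRingCat.of k))) (IsLocalRing.closedPoint k) x])]
        exact isAffineOpen_bot _⟩
    haveI := hF.1
    haveI := hG.1
    refine RpushLib.mono_of_stalks _ fun x => (FlatLib.stalkInj_iff_mono _ x).1 ?_
    exact RichLib.InjStage.stalkInj_pullback_of_flat_coker w (hsq t ht s hs hs') (QCohLib.isFP_of_isCoh _ hF)
      (QCohLib.isFP_of_isCoh _ hG) x ((FlatLib.stalkInj_iff_mono _ _).2 inferInstance) (hw _)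
  let seq (s : S ⟶ pullback (S ↘ Spec (CommRingCat.of k)) pP)
      {F G : (pullback (S ↘ Spec (CommRingCat.of k)) pP).Modules} (w : F ⟶ G) : ShortComplex S.Modules :=
    ShortComplex.mk ((Scheme.Modules.pullback s).map w) (cokernel.π ((Scheme.Modules.pullback s).map w))
      (cokernel.condition _)
  have hseq : ∀ (s : S ⟶ pullback (S ↘ Spec (CommRingCat.of k)) pP)
      {F G : (pullback (S ↘ Spec (CommRingCat.of k)) pP).Modules} (w : F ⟶ G),
      Mono ((Scheme.Modules.pullback s).map w) → (seq s w).ShortExact := fun s {F G} w hm =>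
    { exact := ShortComplex.exact_of_g_is_cokernel _ (cokernelIsCokernel _), mono_f := hm, epi_g := inferInstance }
  have hpb : ∀ (s : S ⟶ pullback (S ↘ Spec (CommRingCat.of k)) pP)
      {F : (pullback (S ↘ Spec (CommRingCat.of k)) pP).Modules}, Coh.IsCoh F →
      Coh.IsCoh ((Scheme.Modules.pullback s).obj F) := fun s {F} hF => ConsLib.isCoh_pullback s hF
  let Q := cokernel β
  have hQc : Coh.IsCoh Q := QCohLib.isCoh_cokernel β h𝒜'.1 h𝒜''
  -- the length of the quotient is constant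
  have hq : ∀ (t : Spec (CommRingCat.of k) ⟶ P) (ht : t ≫ pP = 𝟙 _)
      (s : S ⟶ pullback (S ↘ Spec (CommRingCat.of k)) pP) (hs : s ≫ pullback.fst (S ↘ Spec (CommRingCat.of k)) pP = 𝟙 S)
      (hs' : s ≫ pullback.snd (S ↘ Spec (CommRingCat.of k)) pP = (S ↘ Spec (CommRingCat.of k)) ≫ t),
      (HodgeIdxLib.hh k ((Scheme.Modules.pullback s).obj Q) 0 : ℤ) =
        PerfAux.eulerChar (pullback.snd (S ↘ Spec (CommRingCat.of k)) pP) Q (t (IsLocalRing.closedPoint k)) := by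
    intro t ht s hs hs'
    refine (CurvLib.euler_eq_h0 (k := k) (hpb s hQc) (hQ'0 t ht s hs hs')).symm.trans ?_
    exact CohCmpLib.euler_bc (hfpQ h𝒜' h𝒜'' β) hQ' (hsq t ht s hs hs') (IsLocalRing.closedPoint k)
  have hqq : HodgeIdxLib.hh k ((Scheme.Modules.pullback s).obj Q) 0 =
      HodgeIdxLib.hh k ((Scheme.Modules.pullback s₀).obj Q) 0 := by
    have := (CohCmpLib.isLocallyConstant_eulerChar (f := pullback.snd (S ↘ Spec (CommRingCat.of k)) pP)
      (hfpQ h𝒜' h𝒜'' β) hQ').apply_eq_of_preconnectedSpace (t (IsLocalRing.closedPoint k)) (t₀ (IsLocalRing.closedPoint k))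
    exact_mod_cast ((hq t ht s hs hs').trans this).trans (hq t₀ ht₀ s₀ hs₀ hs₀').symm
  let e0 : cokernel ((Scheme.Modules.pullback s₀).map β) ≅ (Scheme.Modules.pullback s₀).obj Q :=
    (PreservesCokernel.iso (Scheme.Modules.pullback s₀) β).symm
  let e1 : cokernel ((Scheme.Modules.pullback s).map β) ≅ (Scheme.Modules.pullback s).obj Q :=
    (PreservesCokernel.iso (Scheme.Modules.pullback s) β).symm
  have hS0 := hseq s₀ β (hmono t₀ ht₀ s₀ hs₀ hs₀' h𝒜' h𝒜'' β hQ')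
  have hS1 := hseq s β (hmono t ht s hs hs' h𝒜' h𝒜'' β hQ')
  have hc0 : Coh.IsCoh (seq s₀ β).X₃ := QCohLib.isCoh_of_iso e0.symm (hpb s₀ hQc)
  have hc1 : Coh.IsCoh (seq s β).X₃ := QCohLib.isCoh_of_iso e1.symm (hpb s hQc)
  have hvan : ∀ p, 1 ≤ p → HodgeIdxLib.hh k (seq s₀ β).X₃ p = 0 := fun p hp => by
    haveI := CurvLib.subsingleton_HH_of_support_dim ((Scheme.Modules.pullback s₀).obj Q) (hpb s₀ hQc).2 (d := 0)
      (by exact_mod_cast hQ'0 t₀ ht₀ s₀ hs₀ hs₀') p (by omega)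
    exact (HodgeIdxLib.hh_congr (k := k) e0 p).trans Module.finrank_zero_of_subsingleton
  have hE := CurvLib.euler_add_of_isCoh (k := k) hS0 (hpb s₀ h𝒜') (hpb s₀ h𝒜'') hc0
  have hl := HodgeIdxLib.hh_left_le (k := k) hS0 (hpb s₀ h𝒜') (hpb s₀ h𝒜'') hc0 1
  have hm := HodgeIdxLib.hh_mid_le (k := k) hS0 (hpb s₀ h𝒜') (hpb s₀ h𝒜'') hc0 2
  have hm1 := HodgeIdxLib.hh_mid_le (k := k) hS1 (hpb s h𝒜') (hpb s h𝒜'') hc1 0
  rw [SurfNumLib.euler_eq_three (k := k) hX, SurfNumLib.euler_eq_three (k := k) hX,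
    SurfNumLib.euler_eq_three (k := k) hX, hvan 1 le_rfl, hvan 2 (by omega)] at hE
  rw [hvan 1 le_rfl] at hl
  rw [hvan 2 (by omega)] at hm
  have hi0 : HodgeIdxLib.hh k (seq s₀ β).X₃ 0 = HodgeIdxLib.hh k ((Scheme.Modules.pullback s₀).obj Q) 0 :=
    HodgeIdxLib.hh_congr e0 0
  have hi1 : HodgeIdxLib.hh k (seq s β).X₃ 0 = HodgeIdxLib.hh k ((Scheme.Modules.pullback s).obj Q) 0 :=
    HodgeIdxLib.hh_congr e1 0
  have hu := hup t ht s hs hs'
  have hcα : HodgeIdxLib.hh k ((Scheme.Modules.pullback s).obj 𝒜') 0 ≤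
      HodgeIdxLib.hh k ((Scheme.Modules.pullback s).obj 𝒜) 0 := by
    haveI := CurvLib.finite_HH (k := k) (hpb s h𝒜) 0
    exact LinearMap.finrank_le_finrank_of_injective
      (CurvLib.injective₀ (k := k) (hseq s α (hmono t ht s hs hs' h𝒜' h𝒜 α hQ)))
  simp only [HodgeIdxLib.hh, seq, Nat.cast_zero] at hE hl hm hm1 hi0 hi1 hqq hcα
  omega

end Groth.Agent.S15859
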