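import Groth.Statements.S15865
import Groth.Agent.BlowRegLib.PosE
import Groth.Agent.CIGenLib.SmoothPts
import Groth.Agent.MiscFlat6.InvDual
-- import your own Groth.Agent.* helpers here

set_option autoImplicit false
open CategoryTheory CategoryTheory.Limits AlgebraicGeometry
open SurfBl

namespace Groth.Agent.S15865

/-- Let S be a smooth projective surface over the complex numbers (integral, smooth of relative
dimension 2 over C, admitting a closed immersion over C into some P^n), P_1, …, P_s distinct closed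
points, σ : S' ⟶ S the blow-up of S at the reduced finite set {P_1, …, P_s} (universal property) and
E ⊆ S' the exceptional divisor, the closed subscheme of the inverse image ideal I_E of the ideal of
{P_1, …, P_s} (a disjoint union of projective lines E_i). Let F be a finite locally free
O_{S'}-module of rank r all of whose splitting types (a_{i,1}, …, a_{i,r}) on the E_i lie in {−2,
−1, 0}, stated cohomologically: H^1(E, (F ⊗ I_E)|_E) = 0 (this is F|_E(1), so a_{i,j} ≥ −2) and
H^0(E, (F ⊗ L)|_E) = 0 for every O_{S'}-module L with L ⊗ I_E ≅ O_{S'} (this is F|_E(−1), so a_{i,j}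
≤ 0). Then σ_*F is finite locally free of rank r. If moreover H^1(E, F|_E) = 0 (all a_{i,j} in {−1,
0}), then F and σ_*F have the same cohomology: R^p σ_*F = 0 for all p ≥ 1, and H^p(S', F) ≅ H^p(S,
σ_*F) for every p as vector spaces over C (existence of C-linear isomorphisms only, i.e. equality of
dimensions; the structure of scheme over C on S' is the composite through σ). -/
theorem result
    (S : Scheme.{0}) [S.Over (Spec (CommRingCat.of ℂ))] [IsIntegral S]
    [SmoothOfRelativeDimension 2 (S ↘ Spec (CommRingCat.of ℂ))]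
    (hproj : ∃ (n : ℕ) (ι : S ⟶ CohB1.ProjSpace n ℂ), IsClosedImmersion ι ∧
      ι ≫ CohB1.ProjSpace.toSpec n ℂ = S ↘ Spec (CommRingCat.of ℂ))
    (s : ℕ) (P : Fin s → ↥S) (hP : Function.Injective P) (hPc : ∀ i, IsClosed ({P i} : Set ↥S))
    (hZ : IsClosed (Set.range P))
    {S' : Scheme.{0}} [S'.Over (Spec (CommRingCat.of ℂ))] (σ : S' ⟶ S)
    (hσk : σ ≫ (S ↘ Spec (CommRingCat.of ℂ)) = S' ↘ Spec (CommRingCat.of ℂ))
    (hσ : BlowUp.IsBlowUp σ (Scheme.IdealSheafData.vanishingIdeal ⟨Set.range P, hZ⟩))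
    (F : S'.Modules) (r : ℕ) (hF : FlatMod.IsFinLocFreeOfRank r F)
    (h1 : Subsingleton (Coh.HH (BlowUp.exceptional σ (Scheme.IdealSheafData.vanishingIdeal ⟨Set.range P, hZ⟩)).subscheme ((Scheme.Modules.pullback (BlowUp.exceptional σ (Scheme.IdealSheafData.vanishingIdeal ⟨Set.range P, hZ⟩)).subschemeι).obj (CohB1.tensorMod F (ClSub.idealMod (BlowUp.exceptional σ (Scheme.IdealSheafData.vanishingIdeal ⟨Set.range P, hZ⟩))))) 1))
    (h0 : ∀ L : S'.Modules, ClSub.IsInverseOf L (ClSub.idealMod (BlowUp.exceptional σ (Scheme.IdealSheafData.vanishingIdeal ⟨Set.range P, hZ⟩))) →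
      Subsingleton (Coh.HH (BlowUp.exceptional σ (Scheme.IdealSheafData.vanishingIdeal ⟨Set.range P, hZ⟩)).subscheme ((Scheme.Modules.pullback (BlowUp.exceptional σ (Scheme.IdealSheafData.vanishingIdeal ⟨Set.range P, hZ⟩)).subschemeι).obj (CohB1.tensorMod F L)) 0))
    [HasInjectiveResolutions S'.Modules] :
    FlatMod.IsFinLocFreeOfRank r ((Scheme.Modules.pushforward σ).obj F) ∧
    (Subsingleton (Coh.HH (BlowUp.exceptional σ (Scheme.IdealSheafData.vanishingIdeal ⟨Set.range P, hZ⟩)).subscheme ((Scheme.Modules.pullback (BlowUp.exceptional σ (Scheme.IdealSheafData.vanishingIdeal ⟨Set.range P, hZ⟩)).subschemeι).obj F) 1) →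
      (∀ p : ℕ, 1 ≤ p → IsZero ((Coh.Rpush σ p).obj F)) ∧
      ∀ p : ℕ, Nonempty (Coh.HH S' F p ≃ₗ[ℂ] Coh.HH S ((Scheme.Modules.pushforward σ).obj F) p)) := by
  haveI : Smooth (S ↘ Spec (CommRingCat.of ℂ)) := SmoothOfRelativeDimension.smooth 2 _
  haveI : IsLocallyNoetherian S := LocallyOfFiniteType.isLocallyNoetherian (S ↘ Spec (CommRingCat.of ℂ))
  have hpt := fun j => CIGen.closedPt_of_smooth (S ↘ Spec (CommRingCat.of ℂ)) 2 (P j) (hPc j)
  let I := Scheme.IdealSheafData.vanishingIdeal (⟨Set.range P, hZ⟩ : TopologicalSpace.Closeds S)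
  have hs : (I.support : Set S) = Set.range P := Scheme.IdealSheafData.coe_support_vanishingIdeal _
  have hch : BlowRegLib.PointCharts I := fun y hy => by
    rw [hs] at hy
    obtain ⟨j, rfl⟩ := hy
    haveI := (hpt j).1
    obtain ⟨W, hW, f, hf, hI, -⟩ := BlowRegLib.exists_isolated_chart P hP hPc hZ j (hpt j).2
    exact ⟨W, f, hW, hf, hI⟩
  have hfin : (I.support : Set S).Finite := by rw [hs]; exact Set.finite_range P
  have hclosed : ∀ y ∈ (I.support : Set S), IsClosed ({y} : Set S) := fun y hy => by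
    rw [hs] at hy; obtain ⟨j, rfl⟩ := hy; exact hPc j
  have hF' : FlatMod.IsFinLocFree F := fun x => ⟨(hF x).choose, r, (hF x).choose_spec.1, (hF x).choose_spec.2⟩
  have hJ := IntMultLib.isInvertible_idealMod _ hσ.1
  obtain ⟨e⟩ := MiscFlat6.nonempty_dualIso hJ
  have hG := BlowRegLib.push_finLocFree_points hσ hF' (MiscFlat6.dual_isInvertible hJ)
    (HilbPolyLib.swapIso _ _ ≪≫ e) hch hfin hclosed
    (fun y hy => by rw [hs] at hy; obtain ⟨j, rfl⟩ := hy; exact hpt j) (h0 _ ⟨HilbPolyLib.swapIso _ _ ≪≫ e⟩)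
  refine ⟨BlowRegLib.push_rank hσ hch hF hG fun V hV => ⟨genericPoint S,
    (genericPoint_spec (S : Type)).mem_open_set_iff V.2 |>.2 (by simpa using hV), fun hg => ?_⟩, fun h => ?_⟩
  · rw [hs] at hg
    obtain ⟨j, hj⟩ := hg
    have h2 := (hpt j).2
    rw [hj] at h2
    have h0' : ringKrullDim (S.presheaf.stalk (genericPoint S)) = 0 := ringKrullDim_eq_zero_of_isField (Field.toIsField _)
    rw [h0'] at h2
    exact absurd h2 (by norm_num)
  · have hR := fun p (hp : 0 < p) => BlowRegLib.isZero_rpush_of_h1 hσ hch hfin hclosed hF' h p hp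
    exact ⟨fun p hp => hR p hp, fun p => RuledSurfLib.nonempty_HH_push ℂ σ hσk F hR p⟩

end Groth.Agent.S15865
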