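import Groth.Statements.S15866
import Groth.Agent.CurveMultLib.Mult
import Groth.Agent.CIGenLib.SmoothPts
import Groth.Agent.ProjDegLib.Criterion
import Groth.Agent.KoszOrthLib.PnGen
import Groth.Agent.AlgzLib.Gens
import Groth.Agent.SerreVanLib.CurveAmple
import Groth.Agent.FComplLib.Modules
-- import your own Groth.Agent.* helpers here

set_option autoImplicit false
open CategoryTheory CategoryTheory.Limits AlgebraicGeometry
open SurfBl

namespace Groth.Agent.S15866

/-- Let S be a smooth projective surface over the complex numbers (integral, smooth of relative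
dimension 2 over C) with a closed immersion ι over C into some projective space P^n, H = ι^*O(1) the
very ample invertible module, C ⊆ S an integral curve (an integral closed subscheme of dimension
one, closed immersion j over C), P a closed point of S with ideal m_P, and m a natural number such
that the ideal of C is contained in m_P^m, i.e. C has multiplicity at least m at P. Then H·C ≥ m,
where H·C is the degree of H|_C on C, written χ(C, j^*H) − χ(C, O_C). (The published statement is
for a curve C ⊆ S; this row takes C integral.) -/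
theorem result
    (S : Scheme.{0}) [S.Over (Spec (CommRingCat.of ℂ))] [IsIntegral S]
    [SmoothOfRelativeDimension 2 (S ↘ Spec (CommRingCat.of ℂ))]
    (n : ℕ) (ι : S ⟶ CohB1.ProjSpace n ℂ) [IsClosedImmersion ι]
    (hι : ι ≫ CohB1.ProjSpace.toSpec n ℂ = S ↘ Spec (CommRingCat.of ℂ))
    (C : Scheme.{0}) [C.Over (Spec (CommRingCat.of ℂ))] [IsIntegral C] (hdimC : topologicalKrullDim ↥C = 1)
    (j : C ⟶ S) [IsClosedImmersion j] (hj : j ≫ (S ↘ Spec (CommRingCat.of ℂ)) = C ↘ Spec (CommRingCat.of ℂ))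
    (P : ↥S) (hP : IsClosed ({P} : Set ↥S)) (m : ℕ)
    (hm : j.ker ≤ Scheme.IdealSheafData.vanishingIdeal ⟨{P}, hP⟩ ^ m) :
    (m : ℤ) ≤ Curv2.deg ℂ C ((Scheme.Modules.pullback j).obj
      ((Scheme.Modules.pullback ι).obj (Twist.twistProjSpace n ℂ 1))) 1 := by
  haveI : Smooth (S ↘ Spec (CommRingCat.of ℂ)) := SmoothOfRelativeDimension.smooth 2 _
  haveI : IsLocallyNoetherian S := LocallyOfFiniteType.isLocallyNoetherian (S ↘ Spec (CommRingCat.of ℂ))
  haveI : IsProper (C ↘ Spec (CommRingCat.of ℂ)) := by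
    haveI := ProjDegLib.toSpec_isProper ℂ n
    rw [← hj, ← hι]
    infer_instance
  let O1 := Twist.twistProjSpace n ℂ 1
  have hO : PicF.IsInvertible O1 := PicPnLib.twist_inv n ℂ 1
  let L : C.Modules := (Scheme.Modules.pullback j).obj ((Scheme.Modules.pullback ι).obj O1)
  have hL : PicF.IsInvertible L := AmpleDevLib.isInvertible_pb j (AmpleDevLib.isInvertible_pb ι hO)
  have hA : CohB1.IsAmple L := AmpleDevLib.isAmple_pb j (AmpleDevLib.isInvertible_pb ι hO)
    (AmpleDevLib.isAmple_pb ι hO (FormalCohLib.isAmple_twistProjSpace n ℂ))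
  have hd : 0 < Curv2.deg ℂ C L 1 := SerreVanLib.deg_pos_of_isAmple hdimC hA
  have hgen : ∀ x : C, ∃ σ : Γ(L, ⊤), AmpleLib.GenAt L σ (show x ∈ (⊤ : C.Opens) from trivial) := fun x => by
    obtain ⟨σ, -, hσ⟩ := KoszOrthLib.exists_genAt_coordSec (n := n) (R := ℂ) (ι (j x))
    exact ⟨KFlatLib.puSec j (KFlatLib.puSec ι σ), (AlgzLib.genAt_puSec_iff j (AmpleDevLib.isInvertible_pb ι hO)
      (KFlatLib.puSec ι σ) (x := x) trivial).2 ((AlgzLib.genAt_puSec_iff ι hO σ (x := j x) trivial).2 hσ)⟩
  rcases Nat.eq_zero_or_pos m with rfl | hm0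
  · exact_mod_cast hd.le
  obtain ⟨p, rfl⟩ : P ∈ Set.range j := by
    have h1 := Scheme.IdealSheafData.support_antitone hm
    rw [Scheme.IdealSheafData.support_pow _ _ hm0.ne'] at h1
    have h2 := h1 (show P ∈ (Scheme.IdealSheafData.vanishingIdeal (⟨{P}, hP⟩ : TopologicalSpace.Closeds S)).support by
      rw [← SetLike.mem_coe, Scheme.IdealSheafData.coe_support_vanishingIdeal]; rfl)
    rw [← SetLike.mem_coe, Scheme.Hom.support_ker, j.isClosedEmbedding.isClosed_range.closure_eq] at h2
    exact h2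
  have hp : IsClosed ({p} : Set C) := by
    have e : ({p} : Set C) = j ⁻¹' {j p} := by
      ext q
      exact ⟨fun h => congrArg j h, fun h => j.isClosedEmbedding.injective h⟩
    rw [e]
    exact hP.preimage j.continuous
  obtain ⟨U, hU, hpU, -⟩ := exists_isAffineOpen_mem_and_subset (x := j p) (U := ⊤) trivial
  have hker : RingHom.ker (j.stalkMap p).hom ≤ IsLocalRing.maximalIdeal (S.presheaf.stalk (j p)) ^ m := by
    rw [FComplLib.ker_stalkMap j p ⟨U, hU⟩ hpU]
    refine (Ideal.map_mono (hm ⟨U, hU⟩)).trans ?_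
    rw [Scheme.IdealSheafData.ideal_pow, Pi.pow_apply, Ideal.map_pow]
    refine Ideal.pow_right_mono (Ideal.map_le_iff_le_comap.2 fun b hb => ?_) m
    rw [Ideal.mem_comap, IsLocalRing.mem_maximalIdeal, mem_nonunits_iff]
    intro hu
    have hz := (Scheme.IdealSheafData.mem_support_iff_of_mem
      (I := Scheme.IdealSheafData.vanishingIdeal (⟨{j p}, hP⟩ : TopologicalSpace.Closeds S)) (U := ⟨U, hU⟩) hpU).1 (by
        rw [← SetLike.mem_coe, Scheme.IdealSheafData.coe_support_vanishingIdeal]; rfl)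
    exact (Scheme.mem_zeroLocus_iff _ _ _).1 hz b hb ((Scheme.mem_basicOpen _ _ _ hpU).2 hu)
  haveI := (CIGen.closedPt_of_smooth (S ↘ Spec (CommRingCat.of ℂ)) 2 (j p) hP).1
  exact CurveMultLib.mult_le_deg hdimC hL hgen hd p hp (j.stalkMap p).hom (j.stalkMap_surjective p) hker
    (CIGen.closedPt_of_smooth (S ↘ Spec (CommRingCat.of ℂ)) 2 (j p) hP).2.ge

end Groth.Agent.S15866
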