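import Groth.Statements.S15867
import Groth.Agent.BlowRegLib.EndPush
import Groth.Agent.CIGenLib.SmoothPts
-- import your own Groth.Agent.* helpers here

set_option autoImplicit false
open CategoryTheory CategoryTheory.Limits AlgebraicGeometry
open SurfBl

namespace Groth.Agent.S15867

/-- Let S be a smooth projective surface over the complex numbers (integral, smooth of relative
dimension 2 over C, admitting a closed immersion over C into some P^n), P_1, …, P_s distinct closed
points, σ : S' ⟶ S the blow-up of S at the reduced finite set {P_1, …, P_s} (universal property) and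
E ⊆ S' the exceptional divisor, the closed subscheme of the inverse image ideal of the ideal of
{P_1, …, P_s}. Let F be a finite locally free O_{S'}-module with F|_E ≅ O_E^r. Then H^i(S', End(F))
≅ H^i(S, End(σ_*F)) for every i, where End denotes the sheaf of endomorphisms (the internal Hom of
O-modules applied to the module itself; the instance hypotheses say that these internal Hom functors
exist, which is always the case). The isomorphism is one of vector spaces over C, the structure of
scheme over C on S' being the composite through σ; existence of C-linear isomorphisms only (i.e.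
equality of dimensions). -/
theorem result
    (S : Scheme.{0}) [S.Over (Spec (CommRingCat.of ℂ))] [IsIntegral S]
    [SmoothOfRelativeDimension 2 (S ↘ Spec (CommRingCat.of ℂ))]
    (hproj : ∃ (n : ℕ) (ι : S ⟶ CohB1.ProjSpace n ℂ), IsClosedImmersion ι ∧
      ι ≫ CohB1.ProjSpace.toSpec n ℂ = S ↘ Spec (CommRingCat.of ℂ))
    (s : ℕ) (P : Fin s → ↥S) (hP : Function.Injective P) (hPc : ∀ i, IsClosed ({P i} : Set ↥S))
    (hZ : IsClosed (Set.range P))
    {S' : Scheme.{0}} [S'.Over (Spec (CommRingCat.of ℂ))] (σ : S' ⟶ S)
    (hσk : σ ≫ (S ↘ Spec (CommRingCat.of ℂ)) = S' ↘ Spec (CommRingCat.of ℂ))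
    (hσ : BlowUp.IsBlowUp σ (Scheme.IdealSheafData.vanishingIdeal ⟨Set.range P, hZ⟩))
    (F : S'.Modules) (hF : FlatMod.IsFinLocFree F) (r : ℕ)
    (hE : Nonempty ((Scheme.Modules.pullback (BlowUp.exceptional σ (Scheme.IdealSheafData.vanishingIdeal ⟨Set.range P, hZ⟩)).subschemeι).obj F ≅
      FlatMod.freeMod (BlowUp.exceptional σ (Scheme.IdealSheafData.vanishingIdeal ⟨Set.range P, hZ⟩)).subscheme r))
    [ModSite.HasSheafHom (O := S'.sheaf) F]
    [ModSite.HasSheafHom (O := S.sheaf) ((Scheme.Modules.pushforward σ).obj F)] (i : ℕ) :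
    Nonempty (Coh.HH S' ((ModSite.sheafHom (O := S'.sheaf) F).obj F) i ≃ₗ[ℂ]
      Coh.HH S ((ModSite.sheafHom (O := S.sheaf) ((Scheme.Modules.pushforward σ).obj F)).obj
        ((Scheme.Modules.pushforward σ).obj F)) i) := by
  haveI : Smooth (S ↘ Spec (CommRingCat.of ℂ)) := SmoothOfRelativeDimension.smooth 2 _
  haveI : IsLocallyNoetherian S := LocallyOfFiniteType.isLocallyNoetherian (S ↘ Spec (CommRingCat.of ℂ))
  obtain ⟨hreg, h⟩ := BlowRegLib.counit_of_trivial_on_exceptional P hP hPc hZ
    (fun j => CIGen.closedPt_of_smooth (S ↘ Spec (CommRingCat.of ℂ)) 2 (P j) (hPc j)) hσ hF r hE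
  exact BlowRegLib.nonempty_HH_end ℂ hσk hσ hreg h i

end Groth.Agent.S15867
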