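import Groth.Statements.S15868
import Groth.Agent.BlowRegLib.ExcThick
import Groth.Agent.BlowRegLib.ExcData
import Groth.Agent.BlowRegLib.PosC
import Groth.Agent.CIGenLib.SmoothPts
import Groth.Agent.ProjDegLib.Criterion
-- import your own Groth.Agent.* helpers here

set_option autoImplicit false
open CategoryTheory CategoryTheory.Limits AlgebraicGeometry
open SurfBl

namespace Groth.Agent.S15868

/-- Let S be a smooth projective surface over the complex numbers (integral, smooth of relative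
dimension 2 over C, admitting a closed immersion over C into some P^n), P_1, …, P_s distinct closed
points, σ : S' ⟶ S the blow-up of S at the reduced finite set {P_1, …, P_s} (universal property; S'
is viewed over C through σ) and I the inverse image ideal of the ideal of {P_1, …, P_s}, so that the
closed subscheme E(n) of I^n is the (n−1)-st infinitesimal thickening of the exceptional divisor E =
E(1). Let L be an invertible O_{S'}-module and write L_n = L|_{E(n)}. Then for every n ≥ 1 the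
connecting map H^0(E(n), L_n) ⟶ H^1(E, L|_E(n)) of the exact sequence 0 ⟶ L|_E(n) ⟶ L_{n+1} ⟶ L_n ⟶
0, where L|_E(n) = (L ⊗ I^n)|_E, vanishes; equivalently the restriction H^0(E(n+1), L_{n+1}) ⟶
H^0(E(n), L_n) is surjective. Stated here as the equivalent identity of (finite) dimensions dim
H^0(S', L ⊗ O/I^{n+1}) = dim H^0(S', (L ⊗ I^n) ⊗ O/I) + dim H^0(S', L ⊗ O/I^n). -/
theorem result
    (S : Scheme.{0}) [S.Over (Spec (CommRingCat.of ℂ))] [IsIntegral S]
    [SmoothOfRelativeDimension 2 (S ↘ Spec (CommRingCat.of ℂ))]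
    (hproj : ∃ (n : ℕ) (ι : S ⟶ CohB1.ProjSpace n ℂ), IsClosedImmersion ι ∧
      ι ≫ CohB1.ProjSpace.toSpec n ℂ = S ↘ Spec (CommRingCat.of ℂ))
    (s : ℕ) (P : Fin s → ↥S) (hP : Function.Injective P) (hPc : ∀ i, IsClosed ({P i} : Set ↥S))
    (hZ : IsClosed (Set.range P))
    {S' : Scheme.{0}} [S'.Over (Spec (CommRingCat.of ℂ))] (σ : S' ⟶ S)
    (hσk : σ ≫ (S ↘ Spec (CommRingCat.of ℂ)) = S' ↘ Spec (CommRingCat.of ℂ))
    (hσ : BlowUp.IsBlowUp σ (Scheme.IdealSheafData.vanishingIdeal ⟨Set.range P, hZ⟩))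
    (L : S'.Modules) (hL : PicF.IsInvertible L) (n : ℕ) (hn : 1 ≤ n) :
    Module.finrank ℂ (Coh.HH S' (CohB1.tensorMod L (ClSub.quotMod ((BlowUp.exceptional σ (Scheme.IdealSheafData.vanishingIdeal ⟨Set.range P, hZ⟩)) ^ (n + 1)))) 0) =
      Module.finrank ℂ (Coh.HH S' (CohB1.tensorMod (CohB1.tensorMod L (ClSub.idealMod ((BlowUp.exceptional σ (Scheme.IdealSheafData.vanishingIdeal ⟨Set.range P, hZ⟩)) ^ n))) (ClSub.quotMod (BlowUp.exceptional σ (Scheme.IdealSheafData.vanishingIdeal ⟨Set.range P, hZ⟩)))) 0) +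
      Module.finrank ℂ (Coh.HH S' (CohB1.tensorMod L (ClSub.quotMod ((BlowUp.exceptional σ (Scheme.IdealSheafData.vanishingIdeal ⟨Set.range P, hZ⟩)) ^ n))) 0) := by
  haveI : Smooth (S ↘ Spec (CommRingCat.of ℂ)) := SmoothOfRelativeDimension.smooth 2 _
  haveI : IsLocallyNoetherian S := LocallyOfFiniteType.isLocallyNoetherian (S ↘ Spec (CommRingCat.of ℂ))
  have hS : IsProper (S ↘ Spec (CommRingCat.of ℂ)) := by
    obtain ⟨N, ι, hι, hιS⟩ := hproj
    haveI := hι
    haveI := ProjDegLib.toSpec_isProper ℂ N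
    rw [← hιS]
    infer_instance
  haveI := hS
  haveI := BlowRegLib.isProper_b hσ
  haveI : IsProper (S' ↘ Spec (CommRingCat.of ℂ)) := hσk ▸ inferInstanceAs (IsProper (σ ≫ (S ↘ Spec (CommRingCat.of ℂ))))
  have hpt := fun j => CIGen.closedPt_of_smooth (S ↘ Spec (CommRingCat.of ℂ)) 2 (P j) (hPc j)
  choose hJ φ hφ _ eφ using fun i => BlowRegLib.exists_line P hP hPc hZ hpt hσ i (k := ℂ)
  haveI := hφ
  choose d hd using fun i => BlowRegLib.exists_deg (φ i) hL
  have key := BlowRegLib.finrank_thick_succ (BlowRegLib.lineI P hPc σ) hJ (BlowRegLib.comap_disjoint P hP hPc σ) φ eφ hL d hd n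
  rw [← BlowRegLib.comap_range_eq_prod P hP hPc hZ σ] at key
  exact key

end Groth.Agent.S15868
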