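import Groth.Statements.S15869
import Groth.Agent.BlowRegLib.ExcMult
import Groth.Agent.BlowRegLib.RpushOne
import Groth.Agent.BlowRegLib.ExcData
import Groth.Agent.BlowRegLib.PosC
import Groth.Agent.CIGenLib.SmoothPts
import Groth.Agent.ProjDegLib.Criterion
import Groth.Agent.AVVanishLib.Family
import Groth.Agent.HodgeIdxLib.Reduce
import Groth.Agent.IntMultLib.Positive
-- import your own Groth.Agent.* helpers here

set_option autoImplicit false
open CategoryTheory CategoryTheory.Limits AlgebraicGeometry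
open SurfBl

namespace Groth.Agent.S15869

/-- The first higher direct image, in dimension form, for non-negative multiples of the exceptional
curves. Let S be a smooth projective surface over the complex numbers (integral, smooth of relative
dimension 2 over C, admitting a closed immersion over C into some P^n), P_1, …, P_s distinct closed
points, σ : S' ⟶ S the blow-up of S at the reduced finite set {P_1, …, P_s} (universal property) and
I_{E_i} the inverse image ideal of the ideal of P_i (the ideal of the exceptional curve E_i). Let M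
be an invertible O_S-module (a divisor D on S), L_i an O_{S'}-module with L_i ⊗ I_{E_i} ≅ O_{S'} (so
L_i = O(E_i)), b_1, …, b_s natural numbers, and L = σ^*M ⊗ L_1^{⊗ b_1} ⊗ ⋯ ⊗ L_s^{⊗ b_s}, the line
bundle σ^*D + Σ b_i E_i. Then R¹σ_*L is supported at the points P_i with b_i ≥ 2, where its stalk
has length C(b_i, 2) = b_i(b_i − 1)/2; consequently dim_C H^0(S, R¹σ_*L) = Σ_i C(b_i, 2), the
binomial coefficient being 0 when b_i < 2. Only this dimension formula is stated (R¹σ_* of
O-modules, with the existence of injective resolutions as instance hypothesis). (The published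
statement gives the stalk as O_S/m_{P_i}^{b_i − 2}, of length C(b_i − 1, 2), and only for b_i > 2;
the correct length is C(b_i, 2), that of O_S/m_{P_i}^{b_i − 1}, already non-zero for b_i = 2: on the
blown-up plane h¹(O(2E)) = 1 and h¹(O(3E)) = 3. Only the length is asserted; for b_i ≥ 3 the stalk
maps onto H¹(E_i, O(−b_i)), of dimension b_i − 1, so it is not a cyclic module.) -/
theorem result
    (S : Scheme.{0}) [S.Over (Spec (CommRingCat.of ℂ))] [IsIntegral S]
    [SmoothOfRelativeDimension 2 (S ↘ Spec (CommRingCat.of ℂ))]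
    (hproj : ∃ (n : ℕ) (ι : S ⟶ CohB1.ProjSpace n ℂ), IsClosedImmersion ι ∧
      ι ≫ CohB1.ProjSpace.toSpec n ℂ = S ↘ Spec (CommRingCat.of ℂ))
    (s : ℕ) (P : Fin s → ↥S) (hP : Function.Injective P) (hPc : ∀ i, IsClosed ({P i} : Set ↥S))
    (hZ : IsClosed (Set.range P))
    {S' : Scheme.{0}} (σ : S' ⟶ S) (hσ : BlowUp.IsBlowUp σ (Scheme.IdealSheafData.vanishingIdeal ⟨Set.range P, hZ⟩))
    (M : S.Modules) (hM : PicF.IsInvertible M)
    (L : Fin s → S'.Modules)
    (hL : ∀ i, ClSub.IsInverseOf (L i) (ClSub.idealMod ((Scheme.IdealSheafData.vanishingIdeal ⟨{P i}, hPc i⟩).comap σ)))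
    (b : Fin s → ℕ) [HasInjectiveResolutions S'.Modules] :
    Module.finrank ℂ (Coh.HH S ((Coh.Rpush σ 1).obj
      (CohB1.tensorMod ((Scheme.Modules.pullback σ).obj M) (FGA.multiTwist L b))) 0) =
      ∑ i, (b i).choose 2 := by
  haveI : Smooth (S ↘ Spec (CommRingCat.of ℂ)) := SmoothOfRelativeDimension.smooth 2 _
  haveI : IsLocallyNoetherian S := LocallyOfFiniteType.isLocallyNoetherian (S ↘ Spec (CommRingCat.of ℂ))
  have hS : IsProper (S ↘ Spec (CommRingCat.of ℂ)) := by
    obtain ⟨N, ι, hι, hιS⟩ := hproj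
    haveI := hι
    haveI := ProjDegLib.toSpec_isProper ℂ N
    rw [← hιS]
    infer_instance
  haveI := hS
  haveI := BlowRegLib.isProper_b hσ
  letI : S'.Over (Spec (CommRingCat.of ℂ)) := ⟨σ ≫ (S ↘ Spec (CommRingCat.of ℂ))⟩
  haveI : IsProper (S' ↘ Spec (CommRingCat.of ℂ)) := inferInstanceAs (IsProper (σ ≫ (S ↘ Spec (CommRingCat.of ℂ))))
  haveI := CurvLib.isNoetherian ℂ (X := S)
  have hpt := fun j => CIGen.closedPt_of_smooth (S ↘ Spec (CommRingCat.of ℂ)) 2 (P j) (hPc j)
  choose hJ φ hφ hφk eφ using fun i => BlowRegLib.exists_line P hP hPc hZ hpt hσ i (k := ℂ)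
  haveI := hφ
  let J := BlowRegLib.lineI P hPc σ
  have hdis := BlowRegLib.comap_disjoint P hP hPc σ
  have hLi : ∀ i, PicF.IsInvertible (L i) := fun i => by
    obtain ⟨e⟩ := hL i
    exact IntMultLib.isInvertible_of_inverse (IntMultLib.isInvertible_idealMod _ (hJ i)) (HilbPolyLib.swapIso _ _ ≪≫ e)
  let D := ∏ i, J i ^ b i
  have hDc : BlowUp.IsEffCartierIdeal D := BlowRegLib.isEffCartier_prod_pow J hJ b Finset.univ
  obtain ⟨eT⟩ := BlowRegLib.nonempty_multiTwist_inverse J hJ b L hL
  let σM := (Scheme.Modules.pullback σ).obj M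
  let L' := CohB1.tensorMod σM (FGA.multiTwist L b)
  have hL' : PicF.IsInvertible L' :=
    HilbPolyLib.isInvertible_tensor (AmpleDevLib.isInvertible_pb σ hM) (HilbPolyLib.isInvertible_multiTwist L hLi b)
  have eX : CohB1.tensorMod L' (ClSub.idealMod D) ≅ σM :=
    HilbPolyLib.assocIso _ _ _ ≪≫ HilbPolyLib.congrRight _ eT ≪≫ HilbPolyLib.swapIso _ _ ≪≫ HilbPolyLib.unitLeft _
  have hmem : ∀ i (z : (J i).subscheme), σ ((J i).subschemeι z) = P i := fun i z => by
    have h := (Scheme.IdealSheafData.support_comap _ σ).le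
      ((Scheme.IdealSheafData.range_subschemeι (J i)).subset ⟨z, rfl⟩)
    rw [SetLike.mem_coe.symm] at h
    exact h
  have hdeg : ∀ i, BlowRegLib.HasDeg J φ i L' (-(b i : ℤ)) := fun i => by
    obtain ⟨d, hd⟩ := BlowRegLib.exists_deg (φ i) hL'
    have h0 : BlowRegLib.HasDeg J φ i (CohB1.tensorMod L' (ClSub.idealMod D)) 0 := by
      obtain ⟨V, hPV, ⟨t⟩⟩ := hM (P i)
      obtain ⟨f⟩ := BlowPtLib.nonempty_pb_trivial ((J i).subschemeι ≫ σ) V (fun z => by
        rw [Scheme.Hom.comp_apply, hmem i z]; exact hPV) t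
      obtain ⟨z⟩ := BlowRegLib.hasDeg_structure J φ i
      exact ⟨(Scheme.Modules.pullback _).mapIso eX ≪≫ (Scheme.Modules.pullbackComp (J i).subschemeι σ).app M ≪≫ f ≪≫
        (KFlatLib.pullUnitIso _).symm ≪≫ z⟩
    have hD : BlowRegLib.HasDeg J φ i (ClSub.idealMod D) (b i : ℤ) := by
      have h1 := BlowRegLib.hasDeg_idealMod_prodPow J hJ hdis φ eφ i {i} (Finset.mem_singleton_self i) (b i)
      rw [Finset.prod_singleton] at h1
      have hrest := BlowRegLib.isEffCartier_prod_pow J hJ b (Finset.univ.erase i)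
      obtain ⟨t⟩ := BlowPtLib.nonempty_pb_ideal_trivial (J i).subschemeι (∏ j ∈ Finset.univ.erase i, J j ^ b j)
        (IntMultLib.isInvertible_idealMod _ hrest) fun z hz => BlowRegLib.notMem_prod_pow J hdis b _
          (Finset.notMem_erase i _) _ ((Scheme.IdealSheafData.range_subschemeι _).subset ⟨z, rfl⟩) hz
      obtain ⟨z⟩ := BlowRegLib.hasDeg_structure J φ i
      obtain ⟨f, -⟩ := SurfNumLib.exists_idealMod_mul (SurfAmpleLib.isEffCartier_pow' (hJ i) (b i)) hrest
      rw [Finset.mul_prod_erase Finset.univ (fun j => J j ^ b j) (Finset.mem_univ i)] at f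
      obtain ⟨h⟩ := BlowRegLib.hasDeg_tensor J φ (i := i) h1 ⟨t ≪≫ (KFlatLib.pullUnitIso _).symm ≪≫ z⟩
      exact ⟨(Scheme.Modules.pullback _).mapIso f.symm ≪≫ h ≪≫ eqToIso (by rw [add_zero])⟩
    have hu := BlowRegLib.hasDeg_unique J φ hφk
      (HilbPolyLib.isInvertible_tensor hL' (IntMultLib.isInvertible_idealMod _ hDc))
      (BlowRegLib.hasDeg_tensor J φ hd hD) h0
    have : d = -(b i : ℤ) := by omega
    exact this ▸ hd
  have h1 := BlowRegLib.finrank_h1_thick_mult J hJ hdis φ hφk eφ b hL' hdeg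
  let Q := CohB1.tensorMod L' (ClSub.quotMod D)
  -- the direct image of the restriction to the divisor has finite support
  have hsupp : CohB1.support ((Coh.push σ).obj Q) ⊆ Set.range P := by
    obtain ⟨p⟩ := SurfAmpleLib.nonempty_quot_push ℂ L' hL' D
    refine HodgeIdxLib.support_push_le σ Q hZ fun x hx => ?_
    have hx' : x ∈ Set.range D.subschemeι := DevissLib.support_push_subset D.subschemeι _
      ((DevissLib.support_iso p).symm ▸ hx)
    rw [Scheme.IdealSheafData.range_subschemeι] at hx'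
    obtain ⟨i, -, hi⟩ := (SurfAmpleLib.mem_support_finprod _ _ x).1 hx'
    rcases Nat.eq_zero_or_pos (b i) with hb | hb
    · rw [hb, pow_zero, Scheme.IdealSheafData.one_eq_top, Scheme.IdealSheafData.support_top] at hi
      exact hi.elim
    rw [Scheme.IdealSheafData.support_pow _ _ hb.ne'] at hi
    have h := (Scheme.IdealSheafData.support_comap _ σ).le hi
    rw [SetLike.mem_coe.symm] at h
    exact ⟨i, (show σ x = P i from h).symm⟩
  have hdim : topologicalKrullDim ↥(Set.range P) ≤ ((0 : ℕ) : WithBot ℕ∞) := by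
    refine (AVVanishLib.topologicalKrullDim_le_zero_of_finite (Set.finite_range P) ?_).trans_eq (by norm_num)
    rintro _ ⟨i, rfl⟩
    exact hPc i
  have hv := fun q (hq : 0 < q) => CurvLib.subsingleton_HH_of_support ((Coh.push σ).obj Q) hZ hsupp hdim q hq
  obtain ⟨E⟩ := BlowRegLib.nonempty_h0_rpush_one (k := ℂ) σ rfl Q (hv 1 one_pos) (hv 2 two_pos)
  -- only the restriction to the divisor matters
  let I := Scheme.IdealSheafData.vanishingIdeal (⟨Set.range P, hZ⟩ : TopologicalSpace.Closeds S)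
  have hch : BlowRegLib.PointCharts I := fun y hy => by
    rw [Scheme.IdealSheafData.coe_support_vanishingIdeal] at hy
    obtain ⟨j, rfl⟩ := hy
    haveI := (hpt j).1
    obtain ⟨W, hW, f, hf, hI, -⟩ := BlowRegLib.exists_isolated_chart P hP hPc hZ j (hpt j).2
    exact ⟨W, f, hW, hf, hI⟩
  have hR : ∀ p : ℕ, 1 ≤ p → IsZero ((Coh.Rpush σ p).obj (CohB1.tensorMod L' (ClSub.idealMod D))) := fun p hp => by
    obtain ⟨e⟩ := RpushLib.nonempty_toAb_rpush_iso σ σM p
    have hz : IsZero ((QCohLib.toAbF S).obj ((Coh.Rpush σ p).obj σM)) :=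
      (BlowRegLib.isZero_pullback hσ hch.locReg (AmpleDevLib.isFinLocFree_of_isInvertible hM) p hp).of_iso e
    exact IsZero.of_iso ((IsZero.iff_id_eq_zero _).2 ((QCohLib.toAbF S).map_injective (hz.eq_of_src _ _)))
      ((Coh.Rpush σ p).mapIso eX)
  obtain ⟨r⟩ := BlowRegLib.nonempty_rpush_one_iso σ (HilbPolyLib.shortExact_tensor hL' (CurvLib.idealSeq_shortExact D))
    (hR 1 le_rfl) (hR 2 one_le_two)
  refine ((CurvLib.hIso (k := ℂ) ((Coh.Rpush σ 1).mapIso
    (HilbPolyLib.swapIso _ _ ≪≫ HilbPolyLib.unitLeft L').symm ≪≫ r) 0).finrank_eq).trans ?_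
  exact E.finrank_eq.trans h1

end Groth.Agent.S15869
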