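import Groth.Statements.S1587
import Groth.Agent.NodalLib.GeoQuad
import Groth.Agent.NodalLib.NodeChar

set_option autoImplicit false
set_option backward.isDefEq.respectTransparency false
set_option backward.isDefEq.respectTransparency.types false
universe u
open CategoryTheory CategoryTheory.Limits AlgebraicGeometry
attribute [local instance] Curv2.resAlgebra Curv2.stalkAlgebra
open Curves

namespace Groth.Agent.S1587

/-- Let X be a scheme of finite type over a field k of dimension one and x a closed point of X with
residue field κ. Then x is a node if and only if κ is separable over k and the completion of the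
local ring O_{X,x} is isomorphic, compatibly with the maps from k, to κ[[u, v]]/(a u² + b uv + c v²)
for some a, b, c ∈ κ with 4ac − b² ≠ 0 (a nondegenerate quadratic form). -/
theorem result (k : Type u) [Field k] (X : Scheme.{u}) [X.Over (Spec (CommRingCat.of k))]
    [LocallyOfFiniteType (X ↘ (Spec (CommRingCat.of k)))] [QuasiCompact (X ↘ (Spec (CommRingCat.of k)))] (hdim : topologicalKrullDim X = 1)
    (x : X) (hx : IsClosed ({x} : Set X)) :
    Curv2.IsNode k X x ↔
      (Algebra.IsSeparable k (X.residueField x) ∧
        ∃ a b c : X.residueField x, 4 * a * c - b ^ 2 ≠ 0 ∧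
          ∃ e : AdicCompletion (IsLocalRing.maximalIdeal (X.presheaf.stalk x)) (X.presheaf.stalk x) ≃+*
              (MvPowerSeries (Fin 2) (X.residueField x) ⧸ Ideal.span
                {(MvPowerSeries.C a * MvPowerSeries.X 0 ^ 2 + MvPowerSeries.C b * MvPowerSeries.X 0 * MvPowerSeries.X 1 +
                  MvPowerSeries.C c * MvPowerSeries.X 1 ^ 2 : MvPowerSeries (Fin 2) (X.residueField x))}),
            ∀ t : k, e (algebraMap (X.presheaf.stalk x) _ (algebraMap k (X.presheaf.stalk x) t)) =
              Ideal.Quotient.mk _ (MvPowerSeries.C (algebraMap k (X.residueField x) t))) := by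
  let A := X.presheaf.stalk x
  haveI := NodalLib.essFiniteType_stalk k x
  haveI : IsNoetherianRing A := Algebra.EssFiniteType.isNoetherianRing k A
  have halg : (inferInstance : Algebra k (IsLocalRing.ResidueField A)) = Curv2.resAlgebra k X x :=
    Algebra.algebra_ext _ _ fun _ => rfl
  have key := (NodalLib.isNode_iff k x).trans (and_congr_right fun _ => NodalLib.isGeoNode_iff_qnode (k := k) (A := A))
  rw [key]
  have tr : ∀ I J : Algebra k (IsLocalRing.ResidueField A), I = J →
      (@Algebra.IsSeparable k (IsLocalRing.ResidueField A) _ _ I ↔ @Algebra.IsSeparable k (IsLocalRing.ResidueField A) _ _ J) :=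
    fun I J h => by rw [h]
  have hs := tr _ _ halg
  constructor
  · rintro ⟨-, hsep, hq⟩
    haveI := hsep
    haveI : Algebra.FormallyEtale k (IsLocalRing.ResidueField A) := Algebra.FormallyEtale.of_isSeparable k _
    refine ⟨?_, ?_⟩
    · exact hs.1 hsep
    · obtain ⟨a, b, c, hd, e, he⟩ := NodalLib.exists_cpl_equiv k hq
      exact ⟨a, b, c, hd, e, fun t => he t⟩
  · rintro ⟨hsep, a, b, c, hd, e, -⟩
    exact ⟨hx, hs.2 hsep, (NodalLib.qnode_of_cpl hd e).1⟩

end Groth.Agent.S1587
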