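import Groth.Statements.S15870
import Mathlib
import Groth.Agent.FinSectBelowLib.Main
import Groth.Agent.S14276

set_option autoImplicit false
set_option backward.isDefEq.respectTransparency false
universe u
open CategoryTheory MonoidalCategory CartesianMonoidalCategory MonObj GrpObj AlgebraicGeometry
open NonAbH1

namespace Groth.Agent.S15870

/-- Let π : S' → S be finite locally free (finite, flat, locally of finite presentation), G a smooth
S'-group scheme and E an fppf G-torsor over S'. Then E trivializes fppf locally on S: some fppf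
covering family of S consists of morphisms U → S such that E has a section over U ×_S S' → S'. (The
published statement is for a variable S-scheme T, torsors over S' ×_S T and G a group algebraic
space; this row is the case T = S with G a scheme, to which the general case reduces by base change
of π.) -/
theorem result
    {S S' : Scheme.{u}} (π : S' ⟶ S) [IsFinite π] [Flat π] [LocallyOfFinitePresentation π]
    (G : Over S') [GrpObj G] [Smooth G.hom]
    (E : NonAbH1.TorsorSch G Scheme.fppfPrecoverage) :
    ∃ R ∈ Scheme.fppfPrecoverage S, ∀ ⦃U : Scheme.{u}⦄ (g : U ⟶ S), R g →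
      NonAbH1.HasSectionOver E.X (Limits.pullback.snd g π) := by
  obtain ⟨hp, R₀, hR₀, hsec⟩ := E.isTorsor
  have h' : NonAbH1.IsTorsorFor Scheme.fpqcPrecoverage E.act :=
    ⟨hp, R₀, Scheme.fppfPrecoverage_le_fpqcPrecoverage _ hR₀, hsec⟩
  haveI : Smooth E.X.hom := Groth.Agent.TorsFpqc.property_of_torsor @Smooth E.act h' ‹_›
  haveI := Groth.Agent.S14276.surjective_of_trivial h'.2
  choose X' g x' hg hgx t ht using fun x : S' => EtSectLib.exists_section E.X.hom x
    (Set.range_eq_univ.2 E.X.hom.surjective ▸ Set.mem_univ x)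
  have key : ∀ s : S, ∃ (U : Scheme.{u}) (f : U ⟶ S) (_ : AlgebraicGeometry.Etale f) (u : U), f u = s ∧
      NonAbH1.HasSectionOver E.X (Limits.pullback.snd f π) := by
    intro s
    let J := {x : S' // π x = s}
    haveI : Finite J := (π.finite_preimage_singleton s).to_subtype
    let d : (∐ fun x : J => X' x.1) ⟶ S' := Limits.Sigma.desc fun x : J => g x.1
    haveI : AlgebraicGeometry.Etale d := IsZariskiLocalAtSource.sigmaDesc fun x : J => hg x.1
    obtain ⟨U, f, hf, u, hu, τ, hτ⟩ := Groth.Agent.FinSectBelow.exists_section_below π d s fun x hx =>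
      ⟨Limits.Sigma.ι (fun x : J => X' x.1) ⟨x, hx⟩ (x' x), by
        rw [← Scheme.Hom.comp_apply, Limits.Sigma.ι_desc]
        exact hgx x⟩
    refine ⟨U, f, hf, u, hu, τ ≫ Limits.Sigma.desc (fun x : J => t x.1), ?_⟩
    rw [Category.assoc, show Limits.Sigma.desc (fun x : J => t x.1) ≫ E.X.hom = d from Limits.Sigma.hom_ext _ _ fun x => by
      rw [Limits.Sigma.ι_desc_assoc, Limits.Sigma.ι_desc]; exact ht x.1, hτ]
  choose U f hf u hu hsec' using key
  refine ⟨Presieve.ofArrows U f, (Scheme.ofArrows_mem_precoverage_iff _).mpr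
    ⟨fun s => ⟨s, u s, hu s⟩, fun s => ⟨inferInstance, inferInstance⟩⟩, ?_⟩
  rintro V gV ⟨s⟩
  exact hsec' s

end Groth.Agent.S15870
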