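import Groth.Statements.S6011
import Groth.Prelude.Def_NonAbH2
import Mathlib.CategoryTheory.Monoidal.Cartesian.Grp

set_option autoImplicit false
universe u
open CategoryTheory AlgebraicGeometry
open SGA1

namespace Groth.Agent.S6011

/-- An S-scheme X with an action of the S-group G is trivial — equivariantly isomorphic over S to G
acting on itself by translation — if and only if it is formally principal homogeneous (a
pseudo-torsor) and admits a section over S. -/
theorem result {S : Scheme.{u}}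
    (G X : Over S) [GrpObj G] (a : AlgGrp.Action G X) :
    Nonempty (NonAbH1.EquivIso (NonAbH1.trivialAction G) a) ↔
      (NonAbH1.IsPseudoTorsorSch a ∧ NonAbH1.HasSectionOver X (𝟙 S)) := by
  open MonoidalCategory CartesianMonoidalCategory MonObj in
  constructor
  · rintro ⟨e⟩
    haveI h0 : IsIso (lift μ[G] (snd G G)) := NonAbH1.isPseudoTorsorSch_trivialAction G
    refine ⟨?_, (η[G] ≫ e.iso.hom).left, Over.w (η[G] ≫ e.iso.hom)⟩
    haveI : IsIso e.iso.hom := inferInstance
    haveI : IsIso (G ◁ e.iso.hom) := ⟨G ◁ e.iso.inv, by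
      rw [← whiskerLeft_comp, e.iso.hom_inv_id, whiskerLeft_id], by
      rw [← whiskerLeft_comp, e.iso.inv_hom_id, whiskerLeft_id]⟩
    haveI : IsIso (e.iso.hom ⊗ₘ e.iso.hom) := ⟨e.iso.inv ⊗ₘ e.iso.inv, by
      rw [tensorHom_comp_tensorHom, e.iso.hom_inv_id, id_tensorHom_id], by
      rw [tensorHom_comp_tensorHom, e.iso.inv_hom_id, id_tensorHom_id]⟩
    have hsq : (G ◁ e.iso.hom) ≫ lift a.act (snd G X) = lift μ[G] (snd G G) ≫ (e.iso.hom ⊗ₘ e.iso.hom) := by
      rw [comp_lift, lift_map, ← e.comm, whiskerLeft_snd]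
      rfl
    haveI : IsIso ((G ◁ e.iso.hom) ≫ lift a.act (snd G X)) := by rw [hsq]; infer_instance
    exact IsIso.of_isIso_comp_left (G ◁ e.iso.hom) _
  · rintro ⟨hpt, s, hs⟩
    haveI : IsIso (lift a.act (snd G X)) := hpt
    let o : 𝟙_ (Over S) ⟶ X := Over.homMk s hs
    let f : G ⟶ X := a.orbitMap o
    let r : X ⟶ G := lift (𝟙 X) (toUnit X ≫ o) ≫ inv (lift a.act (snd G X)) ≫ fst G X
    have hfl : ∀ {T : Over S} (g : T ⟶ G), g ≫ f = lift g (toUnit T ≫ o) ≫ a.act := fun {T} g => by
      simp only [f, AlgGrp.Action.orbitMap, ← Category.assoc, comp_lift, Category.comp_id, comp_toUnit]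
    have hinv : lift (𝟙 X) (toUnit X ≫ o) ≫ inv (lift a.act (snd G X)) = lift r (toUnit X ≫ o) := by
      refine CartesianMonoidalCategory.hom_ext _ _ ?_ ?_
      · simp [r]
      · rw [lift_snd]
        have h1 : lift (𝟙 X) (toUnit X ≫ o) ≫ inv (lift a.act (snd G X)) ≫ lift a.act (snd G X) ≫ snd X X
            = toUnit X ≫ o := by
          rw [IsIso.inv_hom_id_assoc, lift_snd]
        rw [lift_snd] at h1
        rw [Category.assoc]
        exact h1
    have hrf : r ≫ f = 𝟙 X := by
      rw [hfl, ← hinv, Category.assoc, show inv (lift a.act (snd G X)) ≫ a.act = fst X X by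
        rw [IsIso.inv_comp_eq, lift_fst], lift_fst]
    have hfr : f ≫ r = 𝟙 G := by
      have h1 : lift (𝟙 G) (toUnit G ≫ o) ≫ lift a.act (snd G X) = f ≫ lift (𝟙 X) (toUnit X ≫ o) := by
        simp only [comp_lift, lift_snd, Category.comp_id, ← Category.assoc, comp_toUnit]
        rfl
      simp only [r]
      rw [← Category.assoc f, ← h1, Category.assoc, IsIso.hom_inv_id_assoc, lift_fst]
    refine ⟨⟨⟨f, r, hfr, hrf⟩, ?_⟩⟩
    show μ[G] ≫ f = (G ◁ f) ≫ a.act
    let l : G ⊗ G ⟶ (G ⊗ G) ⊗ X := lift (𝟙 _) (toUnit _ ≫ o)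
    have h2 := congrArg (fun m => l ≫ m) a.mul_act
    have h3 : l ≫ (μ[G] ▷ X) ≫ a.act = μ[G] ≫ f := by
      rw [hfl, ← Category.assoc]
      congr 1
      refine CartesianMonoidalCategory.hom_ext _ _ ?_ ?_ <;> simp [l]
    have h4 : l ≫ (α_ G G X).hom ≫ (G ◁ a.act) ≫ a.act = (G ◁ f) ≫ a.act := by
      rw [← Category.assoc, ← Category.assoc]
      congr 1
      refine CartesianMonoidalCategory.hom_ext _ _ ?_ ?_
      · simp [l]
      · simp only [l, Category.assoc, whiskerLeft_snd, hfl]
        rw [← Category.assoc, ← Category.assoc]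
        congr 1
        refine CartesianMonoidalCategory.hom_ext _ _ ?_ ?_ <;> simp
    exact h3.symm.trans (h2.trans h4)

end Groth.Agent.S6011
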