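import Groth.Statements.S15874
import Groth.Agent.S15873
import Groth.Agent.S6011
import Groth.Agent.NormDescTorsLib.BC

set_option autoImplicit false
set_option backward.isDefEq.respectTransparency false
set_option backward.isDefEq.respectTransparency.types false
universe u
open CategoryTheory MonoidalCategory CartesianMonoidalCategory MonObj GrpObj AlgebraicGeometry
open NonAbH1
open MonoidalCategory CartesianMonoidalCategory MonObj

namespace Groth.Agent.S15874

/-- Let G be an étale k-group scheme and S a normal integral k-scheme with generic point η. Then an fppf
torsor over S under G whose base change to Spec κ(η) is trivial is itself trivial: the kernel of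
H¹(S, G) → H¹(κ(η), G) on classes of torsors that are schemes is the base point. (The published
statement takes S merely integral; the connected étale double cover of a nodal cubic over an
algebraically closed field is a non-trivial torsor under the constant group of order 2 that is
trivial at the generic point, so S is taken normal here, which is what the published proof uses.) -/
theorem result (k : Type u) [Field k]
    (G : Over (Spec (CommRingCat.of k))) [GrpObj G] [Etale G.hom]
    (S : Scheme.{u}) [IsIntegral S] (hS : Pi1.IsNormalScheme S) (s : S ⟶ Spec (CommRingCat.of k))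
    (c : NonAbH1.H1Sch (Red.bc s G) Scheme.fppfPrecoverage)
    (hc : NonAbH1.H1Sch.bcMap (S.fromSpecResidueField (genericPoint S)) (Red.bc s G) Scheme.fppfPrecoverage c = 1) :
    c = 1 := by
  induction c using Quot.ind with | _ E => ?_
  obtain ⟨e⟩ := NormDescTorsLib.equivIso_of_eqvGen (Quot.eq.mp hc)
  let f := S.fromSpecResidueField (genericPoint S)
  let o : (Over.mk (𝟙 _) : Over (Spec (S.residueField (genericPoint S)))) ⟶ Red.bc f E.X :=
    (η[Red.bc f (Red.bc s G)] : _ ⟶ _) ≫ e.iso.inv
  obtain ⟨σ, hσ, -⟩ := (Groth.Agent.S15873.result k G S hS s E).2 (o.left ≫ Limits.pullback.fst E.X.hom f) (by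
    have h : o.left ≫ Limits.pullback.snd E.X.hom f = 𝟙 _ := Over.w o
    rw [Category.assoc, Limits.pullback.condition, ← Category.assoc, h]
    exact Category.id_comp _)
  obtain ⟨i⟩ := (Groth.Agent.S6011.result (Red.bc s G) E.X E.act).2 ⟨E.isTorsor.1, σ, hσ⟩
  exact (Quot.sound ⟨i⟩).symm
end Groth.Agent.S15874
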