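import Groth.Statements.S15877
import Groth.Agent.PurInsLib.Cover
import Groth.Agent.PurInsLib.Unip
import Groth.Agent.PurInsLib.UnipQuot
import Groth.Agent.SubDescLib.Main
import Groth.Agent.TorsExtLib.Props

set_option linter.style.haveILetI false
set_option backward.isDefEq.respectTransparency false
set_option maxHeartbeats 1000000

-- import your own Groth.Agent.* helpers here

set_option autoImplicit false
universe u
open CategoryTheory MonoidalCategory CartesianMonoidalCategory MonObj GrpObj AlgebraicGeometry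
open AGF

namespace Groth.Agent.S15877

open CategoryTheory.Limits

section
attribute [-instance] CategoryTheory.Hom.commGroup
open PurInsLib
open CoactBr (pt sp)

variable {k k' : Type u} [Field k] [Field k'] [Algebra k k'] [Module.Finite k k'] [IsPurelyInseparable k k']
  {Gbar : Over (Spec (CommRingCat.of k'))} [GrpObj Gbar] [LocallyOfFiniteType Gbar.hom]
  {R : Over (Spec (CommRingCat.of k))} [GrpObj R] {qR : Red.bc (bse k k') R ⟶ Gbar} [IsMonHom qR]
  {K : Over (Spec (CommRingCat.of k'))} [GrpObj K] {iK : K ⟶ Red.bc (bse k k') R} [IsMonHom iK]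

theorem unipotent_kernel (hR : WeilRes.IsWeilRes (bse k k') Gbar R qR) (hK : AlgGrp.IsKernel iK qR)
    {A : Type u} [CommRing A] [HopfAlgebra k' A] [Algebra.FiniteType k' A] (v : sp k' A ≅ K) [IsMonHom v.hom] :
    HopfRep.IsUnipotent k' A := by
  obtain ⟨U, hU, hxU, -⟩ := exists_isAffineOpen_mem_and_subset (X := Gbar.left)
    (x := η[Gbar].left (IsLocalRing.closedPoint k')) (U := ⊤) trivial
  obtain ⟨σ, hσ⟩ : ∃ σ : CommRingCat.of k' ⟶ Γ(Gbar.left, U), Spec.map σ = hU.fromSpec ≫ Gbar.hom := Spec.map_surjective _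
  letI : Algebra k' Γ(Gbar.left, U) := σ.hom.toAlgebra
  let j : Spec (CommRingCat.of Γ(Gbar.left, U)) ⟶ Gbar.left := hU.fromSpec
  haveI : IsOpenImmersion j := inferInstanceAs (IsOpenImmersion hU.fromSpec)
  have hj : j ≫ Gbar.hom = Spec.map (CommRingCat.ofHom (algebraMap k' Γ(Gbar.left, U))) := hσ.symm
  have hrange : Set.range η[Gbar].left ⊆ Set.range j := by
    rintro _ ⟨z, rfl⟩
    rw [show z = IsLocalRing.closedPoint k' from @Subsingleton.elim (PrimeSpectrum k') _ _ _]
    show _ ∈ Set.range hU.fromSpec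
    rw [hU.range_fromSpec]
    exact hxU
  obtain ⟨e₀, he₀⟩ : ∃ e₀, Spec.map e₀ = IsOpenImmersion.lift j η[Gbar].left hrange := Spec.map_surjective _
  have hec : σ ≫ e₀ = 𝟙 (CommRingCat.of k') := by
    apply Spec.map_injective
    rw [Spec.map_comp, hσ, he₀, Spec.map_id, IsOpenImmersion.lift_fac_assoc]
    exact Over.w η[Gbar]
  let e : Γ(Gbar.left, U) →ₐ[k'] k' := { e₀.hom with commutes' := fun r => congr($(hec).hom r) }
  have he : Spec.map (CommRingCat.ofHom e.toRingHom) ≫ j = η[Gbar].left := by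
    show Spec.map e₀ ≫ j = _
    rw [he₀, IsOpenImmersion.lift_fac]
  haveI : Algebra.FiniteType k' Γ(Gbar.left, U) := by
    haveI : LocallyOfFiniteType (Spec.map σ) := by rw [hσ]; infer_instance
    exact RingHom.finiteType_algebraMap.1 ((HasRingHomProperty.Spec_iff (P := @LocallyOfFiniteType)).1 ‹_›)
  exact isUnipotent_kernel e j hj he hK hR v

theorem main (k k' : Type u) [Field k] [Field k']
    [Algebra k k'] [Module.Finite k k'] [IsPurelyInseparable k k']
    (G : Over (Spec (CommRingCat.of k))) [GrpObj G] [LocallyOfFiniteType G.hom]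
    (Gbar : Over (Spec (CommRingCat.of k'))) [GrpObj Gbar] [LocallyOfFiniteType Gbar.hom]
    (q : Red.bc (bse k k') G ⟶ Gbar) [IsMonHom q] [Surjective q.left] [Flat q.left]
    (N : Over (Spec (CommRingCat.of k'))) (iN : N ⟶ Red.bc (bse k k') G) (hN : AlgGrp.IsKernel iN q) [CompactSpace N.left]
    (R : Over (Spec (CommRingCat.of k))) [GrpObj R] (qR : Red.bc (bse k k') R ⟶ Gbar) [IsMonHom qR]
    (hR : WeilRes.IsWeilRes (bse k k') Gbar R qR)
    (H : Over (Spec (CommRingCat.of k))) [GrpObj H] (j : H ⟶ R) [IsMonHom j] [IsClosedImmersion j.left]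
    (p : G ⟶ H) (hfac : p ≫ j = hR.lift G q)
    (Q : Over (Spec (CommRingCat.of k))) (aQ : AlgGrp.Action R Q) (q₀ : 𝟙_ (Over (Spec (CommRingCat.of k))) ⟶ Q)
    (hQ : ChGrp.IsHomog Scheme.fppfPrecoverage j aQ q₀) :
    IsAffine Q.left := by
  obtain ⟨-, hpb, hloc⟩ := hQ
  obtain ⟨K, _, iK, hiK, hci, hK, -⟩ := AntiAffLib.exists_kernel qR
  haveI := hiK
  haveI : IsClosedImmersion iK.left := hci
  obtain ⟨hKft, -⟩ := kernel_props hR hK
  haveI := hKft
  haveI : IsAffine K.left := (Groth.Agent.S15876.main k k' Gbar R qR hR K iK hK).1.1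
  haveI : LocallyOfFiniteType R.hom := lft_weilRes hR hK hN
  let o : R ⟶ Q := aQ.orbitMap q₀
  -- fibres of the orbit map
  have hiff : ∀ (T : Over (Spec (CommRingCat.of k))) (a b : T ⟶ R), a ≫ o = b ≫ o ↔ ∃ h : T ⟶ H, a * (h ≫ j) = b := by
    intro T a b
    have hmul : ∀ h : T ⟶ H, lift a h ≫ (R ◁ j) ≫ μ[R] = a * (h ≫ j) := fun h => by
      rw [← Category.assoc, lift_whiskerLeft, ← Hom.mul_def]
    constructor
    · intro e
      refine ⟨hpb.lift a b e ≫ snd R H, ?_⟩
      rw [← hmul]
      conv_rhs => rw [← hpb.lift_snd a b e]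
      congr 1
      refine CartesianMonoidalCategory.hom_ext _ _ ?_ (by simp)
      rw [lift_fst, hpb.lift_fst]
    · rintro ⟨h, rfl⟩
      rw [← hmul]
      have e : lift a h ≫ fst R H ≫ o = lift a h ≫ ((R ◁ j) ≫ μ[R]) ≫ o := congrArg (lift a h ≫ ·) hpb.w
      rw [lift_fst_assoc, ← Category.assoc] at e
      exact e
  -- the orbit map is a flat surjection of finite presentation
  obtain ⟨Tc, htf, hts, htl, ⟨sT⟩⟩ := TorsExtLib.exists_cover hloc
  haveI := htf; haveI := hts; haveI := htl
  haveI : LocallyOfFiniteType H.hom := by rw [← Over.w j]; infer_instance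
  haveI : IsLocallyNoetherian R.left := LocallyOfFiniteType.isLocallyNoetherian R.hom
  haveI : Flat H.hom := Groth.Agent.GrpField.flat_field _
  haveI : Surjective H.hom := surjective_hom_of_grp H
  haveI : Flat (fst R H).left := MorphismProperty.pullback_fst (P := @Flat) R.hom H.hom ‹_›
  haveI : Surjective (fst R H).left := MorphismProperty.pullback_fst (P := @Surjective) R.hom H.hom ‹_›
  haveI : LocallyOfFiniteType (fst R H).left :=
    MorphismProperty.pullback_fst (P := @LocallyOfFiniteType) R.hom H.hom ‹_›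
  haveI : LocallyOfFinitePresentation (fst R H).left := LocallyOfFinitePresentation.iff_locallyOfFiniteType.2 ‹_›
  have sqo : IsPullback (fst R H).left ((R ◁ j) ≫ μ[R]).left o.left o.left := hpb.map (Over.forget _)
  obtain ⟨hof, hos, hol⟩ := props_of_section o.left sqo Tc.hom sT.left (Over.w sT)
  haveI := hof; haveI := hos; haveI := hol
  let π : R ⟶ Q := GrpObj.inv (X := R) ≫ o
  haveI : IsIso (GrpObj.inv (X := R)).left := inferInstanceAs (IsIso ((Over.forget _).map (GrpObj.inv (X := R))))
  haveI : Flat π.left := by rw [Over.comp_left]; infer_instance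
  haveI : Surjective π.left := by rw [Over.comp_left]; infer_instance
  haveI : LocallyOfFinitePresentation π.left := by rw [Over.comp_left]; infer_instance
  have hπ : ∀ {T : Over (Spec (CommRingCat.of k))} (a : T ⟶ R), a ≫ π = a⁻¹ ≫ o := fun a => by
    rw [← Category.assoc, ← Hom.inv_def]
  have hπiff : ∀ (T : Over (Spec (CommRingCat.of k))) (a b : T ⟶ R), a ≫ π = b ≫ π ↔ ∃ h : T ⟶ H, b = (h ≫ j) * a := by
    intro T a b
    rw [hπ, hπ, hiff]
    constructor
    · rintro ⟨h, e⟩
      refine ⟨h⁻¹, ?_⟩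
      rw [GrpObj.inv_comp, ← _root_.inv_inv b, ← e, _root_.mul_inv_rev, _root_.inv_inv]
    · rintro ⟨h, e⟩
      refine ⟨h⁻¹, ?_⟩
      rw [GrpObj.inv_comp, e, _root_.mul_inv_rev]
  obtain ⟨hQft, hwfl, hwsu⟩ := exists_cover' hR hK hN π fun T x y =>
    ((hπiff T y _).2 ⟨x ≫ p, by rw [Category.assoc, hfac]⟩).symm
  haveI := hQft; haveI := hwfl; haveI := hwsu
  let f := bse k k'
  haveI : LocallyOfFiniteType (Red.bc f Q).hom := MorphismProperty.pullback_snd (P := @LocallyOfFiniteType) _ _ hQft
  haveI : IsLocallyNoetherian (Red.bc f Q).left := LocallyOfFiniteType.isLocallyNoetherian (Red.bc f Q).hom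
  -- the stabiliser in the kernel
  let j' : Red.bc f H ⟶ Red.bc f R := (Over.pullback f).map j
  let L := pullback iK j'
  let iL : L ⟶ K := pullback.fst iK j'
  haveI : IsClosedImmersion j'.left := by
    haveI : IsClosedImmersion ((Over.forget _).map j) := ‹IsClosedImmersion j.left›
    have sqj : IsPullback j'.left (pullback.fst H.hom f) (pullback.fst R.hom f) j.left := by
      refine IsPullback.of_right ?_ (pullback.lift_fst _ _ _) (IsPullback.of_hasPullback R.hom f).flip
      rw [show j'.left ≫ pullback.snd R.hom f = pullback.snd H.hom f from Over.w j', Over.w j]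
      exact (IsPullback.of_hasPullback H.hom f).flip
    exact MorphismProperty.of_isPullback (P := @IsClosedImmersion) sqj.flip ‹IsClosedImmersion j.left›
  haveI : IsClosedImmersion iL.left := MorphismProperty.of_isPullback (P := @IsClosedImmersion)
    ((IsPullback.of_hasPullback iK j').map (Over.forget _)).flip ‹_›
  haveI : Mono iL := Over.mono_of_mono_left iL
  haveI : Mono iK := Over.mono_of_mono_left iK
  have hl : ∀ {T : Over (Spec (CommRingCat.of k'))} (g : T ⟶ K),
      (∃ l : T ⟶ L, l ≫ iL = g) ↔ ∃ h : T ⟶ Red.bc f H, h ≫ j' = g ≫ iK := fun {T} g =>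
    ⟨fun ⟨l, hl⟩ => ⟨l ≫ pullback.snd _ _, by rw [Category.assoc, ← pullback.condition, ← Category.assoc, ← hl]⟩,
      fun ⟨h, hh⟩ => ⟨pullback.lift g h hh.symm, pullback.lift_fst _ _ _⟩⟩
  haveI : IsMonHom j' := inferInstanceAs (IsMonHom ((Over.pullback f).map j))
  obtain ⟨_, hLm⟩ := Groth.Agent.SubDesc.exists_grpObj_of_mono iL
    ((hl _).2 (by
      obtain ⟨a, ha⟩ := (hl (fst L L ≫ iL)).1 ⟨_, rfl⟩
      obtain ⟨b, hb⟩ := (hl (snd L L ≫ iL)).1 ⟨_, rfl⟩
      exact ⟨a * b, by rw [MonObj.mul_comp, ha, hb, MonObj.mul_comp]⟩))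
    ((hl 1).2 ⟨1, by rw [MonObj.one_comp, MonObj.one_comp]⟩)
    ((hl _).2 (by
      obtain ⟨a, ha⟩ := (hl iL).1 ⟨𝟙 _, Category.id_comp _⟩
      exact ⟨a⁻¹, by rw [GrpObj.inv_comp, ha, GrpObj.inv_comp]⟩))
  haveI := hLm
  haveI : IsAffine L.left := isAffine_of_isAffineHom iL.left
  obtain ⟨A, _, _, v, hv, hv'⟩ := OrbitLib.ToAffine.exists_sp K
  haveI := hv; haveI := hv'
  obtain ⟨B, _, _, u', hu, hu'⟩ := OrbitLib.ToAffine.exists_sp L
  haveI := hu
  haveI : IsIso v.hom.left := inferInstanceAs (IsIso ((Over.forget _).map v.hom))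
  haveI : IsIso v.inv.left := inferInstanceAs (IsIso ((Over.forget _).map v.inv))
  haveI : IsIso u'.hom.left := inferInstanceAs (IsIso ((Over.forget _).map u'.hom))
  haveI : Algebra.FiniteType k' A := by
    haveI : LocallyOfFiniteType (sp k' A).hom := by rw [← Over.w v.hom]; infer_instance
    exact RingHom.finiteType_algebraMap.1 ((HasRingHomProperty.Spec_iff (P := @LocallyOfFiniteType)).1 ‹_›)
  obtain ⟨φ, hφ⟩ := AntiAffLib.exists_bialgHom (u'.hom ≫ iL ≫ v.inv)
  have hφs : Function.Surjective φ := by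
    haveI hci : IsClosedImmersion (u'.hom ≫ iL ≫ v.inv).left := by rw [Over.comp_left, Over.comp_left]; infer_instance
    rw [hφ] at hci
    haveI : IsClosedImmersion (Spec.map (CommRingCat.ofHom (φ : A →ₐ[k'] B).toRingHom)) := hci
    obtain ⟨-, hs⟩ := IsClosedImmersion.isAffine_surjective_of_isAffine
      (Spec.map (CommRingCat.ofHom (φ : A →ₐ[k'] B).toRingHom))
    intro z
    obtain ⟨a, ha⟩ := hs ((Scheme.ΓSpecIso (CommRingCat.of B)).inv z)
    refine ⟨(Scheme.ΓSpecIso (CommRingCat.of A)).hom a, ?_⟩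
    have e := congr($(Scheme.ΓSpecIso_naturality (CommRingCat.ofHom (φ : A →ₐ[k'] B).toRingHom)) a)
    exact e.symm.trans ((congrArg (Scheme.ΓSpecIso (CommRingCat.of B)).hom ha).trans
      (Iso.inv_hom_id_apply (Scheme.ΓSpecIso (CommRingCat.of B)) z))
  let w : sp k' A ⟶ Red.bc f Q := v.hom ≫ iK ≫ (Over.pullback f).map π
  haveI : Flat w.left := by rw [Over.comp_left]; infer_instance
  haveI : Surjective w.left := by rw [Over.comp_left]; infer_instance
  haveI : LocallyOfFiniteType (sp k' A).hom := by rw [← Over.w v.hom]; infer_instance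
  haveI : LocallyOfFinitePresentation w.left := by
    haveI : LocallyOfFiniteType (w.left ≫ (Red.bc f Q).hom) := by rw [Over.w w]; infer_instance
    haveI := locallyOfFiniteType_of_comp w.left (Red.bc f Q).hom
    exact LocallyOfFinitePresentation.iff_locallyOfFiniteType.2 inferInstance
  haveI : IsAffine (Red.bc f Q).left := PurInsLib.UnipQuot.isAffine_of_cover (unipotent_kernel hR hK v) φ hφs w
    fun T g g' => by
      rw [← hφ]
      simp only [w, ← Category.assoc]
      rw [comp_map_eq_iff, hπiff]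
      constructor
      · rintro ⟨h, e⟩
        obtain ⟨l, hl'⟩ := (hl ((g' ≫ v.hom) * (g ≫ v.hom)⁻¹)).2 ⟨adj f (R := H) _ h, by
          have := congrArg (adj f (R := R) _) e
          rw [map_mul, MulEquiv.apply_symm_apply, MulEquiv.apply_symm_apply] at this
          rw [MonObj.mul_comp, GrpObj.inv_comp, this, mul_inv_cancel_right]
          show (graph f _ ≫ (Over.pullback f).map h) ≫ j' = graph f _ ≫ (Over.pullback f).map (h ≫ j)
          rw [Category.assoc, Functor.map_comp]⟩
        refine ⟨l ≫ u'.inv, ?_⟩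
        rw [← cancel_mono v.hom, MonObj.mul_comp]
        simp only [Category.assoc, Iso.inv_hom_id_assoc, Iso.inv_hom_id, Category.comp_id]
        rw [hl', inv_mul_cancel_right]
      · rintro ⟨h, e⟩
        obtain ⟨h', hh'⟩ := (hl ((h ≫ u'.hom) ≫ iL)).1 ⟨_, rfl⟩
        refine ⟨(adj f (R := H) _).symm h', ?_⟩
        apply (adj f (R := R) _).injective
        rw [map_mul, MulEquiv.apply_symm_apply, MulEquiv.apply_symm_apply]
        have hj' : adj f (R := R) _ ((adj f (R := H) _).symm h' ≫ j) = h' ≫ j' := by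
          show graph f _ ≫ (Over.pullback f).map _ = _
          rw [Functor.map_comp, ← Category.assoc]
          exact congrArg (· ≫ j') ((adj f (R := H) _).apply_symm_apply h')
        rw [hj', hh', ← MonObj.mul_comp, e, MonObj.mul_comp]
        simp only [Category.assoc, Iso.inv_hom_id, Category.comp_id]
  obtain ⟨hf₁, hf₂, hf₃⟩ := ff_bse (k := k) (k' := k')
  haveI := hf₁; haveI := hf₂
  haveI : IsAffine (pullback Q.hom f) := ‹IsAffine (Red.bc f Q).left›
  exact AlgSpLib.isAffine_of_descent (IsPullback.of_hasPullback Q.hom f)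

end

/-- Let k'/k be finite purely inseparable, G a k-group locally of finite type, q : G_{k'} → Ḡ a
faithfully flat homomorphism onto a k'-group locally of finite type with quasi-compact kernel, (R,
q_R) a Weil restriction of Ḡ to k with a group structure making q_R a homomorphism, i : G → R the
comparison homomorphism corresponding to q, H the closed subgroup of R through which i factors by a
faithfully flat homomorphism, and (Q, q₀) the fppf homogeneous space R/H. Then Q is an affine
scheme. -/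
theorem result (k k' : Type u) [Field k] [Field k']
    [Algebra k k'] [Module.Finite k k'] [IsPurelyInseparable k k']
    (G : Over (Spec (CommRingCat.of k))) [GrpObj G] [LocallyOfFiniteType G.hom]
    (Gbar : Over (Spec (CommRingCat.of k'))) [GrpObj Gbar] [LocallyOfFiniteType Gbar.hom]
    (q : Red.bc (Spec.map (CommRingCat.ofHom (algebraMap k k'))) G ⟶ Gbar) [IsMonHom q] [Surjective q.left] [Flat q.left]
    (N : Over (Spec (CommRingCat.of k'))) (iN : N ⟶ Red.bc (Spec.map (CommRingCat.ofHom (algebraMap k k'))) G) (hN : AlgGrp.IsKernel iN q) [CompactSpace N.left]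
    (R : Over (Spec (CommRingCat.of k))) [GrpObj R] (qR : Red.bc (Spec.map (CommRingCat.ofHom (algebraMap k k'))) R ⟶ Gbar) [IsMonHom qR]
    (hR : WeilRes.IsWeilRes (Spec.map (CommRingCat.ofHom (algebraMap k k'))) Gbar R qR)
    (H : Over (Spec (CommRingCat.of k))) [GrpObj H] (j : H ⟶ R) [IsMonHom j] [IsClosedImmersion j.left]
    (p : G ⟶ H) [IsMonHom p] [Surjective p.left] [Flat p.left] (hfac : p ≫ j = hR.lift G q)
    (Q : Over (Spec (CommRingCat.of k))) (aQ : AlgGrp.Action R Q) (q₀ : 𝟙_ (Over (Spec (CommRingCat.of k))) ⟶ Q)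
    (hQ : ChGrp.IsHomog Scheme.fppfPrecoverage j aQ q₀) :
    IsAffine Q.left := by
  exact main k k' G Gbar q N iN hN R qR hR H j p hfac Q aQ q₀ hQ

end Groth.Agent.S15877
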