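import Groth.Statements.S15878
import Groth.Agent.PurInsLib.Cover
import Groth.Agent.SubSpecLib.UnipCore
import Groth.Agent.AlbLib.AffineHom
import Groth.Agent.TorusLiftLib.Smooth

set_option linter.style.haveILetI false
set_option backward.isDefEq.respectTransparency false
set_option maxHeartbeats 1000000

-- import your own Groth.Agent.* helpers here

set_option autoImplicit false
universe u
open CategoryTheory MonoidalCategory CartesianMonoidalCategory MonObj GrpObj AlgebraicGeometry
open AGF

namespace Groth.Agent.S15878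

open CategoryTheory.Limits

section
attribute [-instance] CategoryTheory.Hom.commGroup
open PurInsLib

theorem eq_one_of_pow_coprime (k : Type u) [Field k] (Ω : Type u) [Field Ω] [Algebra k Ω] {M : Type*} [Monoid M] (a : M)
    {n m : ℕ} (hn : (n : Ω) ≠ 0) (h1 : a ^ n = 1) (h2 : a ^ (ringExpChar k ^ m) = 1) : a = 1 := by
  have hc : Nat.Coprime (ringExpChar k ^ m) n := by
    obtain ⟨q, hq⟩ := ExpChar.exists k
    rw [ringExpChar.eq k q]
    rcases hq with _ | hprime
    · rw [one_pow]; exact Nat.coprime_one_left n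
    · haveI := charP_of_injective_algebraMap (algebraMap k Ω).injective q
      exact (hprime.coprime_iff_not_dvd.2 fun hd => hn ((CharP.cast_eq_zero_iff Ω q n).2 hd)).pow_left m
  have h3 := pow_gcd_eq_one.2 ⟨h2, h1⟩
  rwa [hc, pow_one] at h3

theorem main (k k' : Type u) [Field k] [Field k']
    [Algebra k k'] [Module.Finite k k'] [IsPurelyInseparable k k']
    (G : Over (Spec (CommRingCat.of k))) [GrpObj G] [LocallyOfFiniteType G.hom]
    (Gbar : Over (Spec (CommRingCat.of k'))) [GrpObj Gbar] [LocallyOfFiniteType Gbar.hom]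
    (q : Red.bc (Spec.map (CommRingCat.ofHom (algebraMap k k'))) G ⟶ Gbar) [IsMonHom q] [Surjective q.left] [Flat q.left]
    (N : Over (Spec (CommRingCat.of k'))) (iN : N ⟶ Red.bc (Spec.map (CommRingCat.ofHom (algebraMap k k'))) G) (hN : AlgGrp.IsKernel iN q) [CompactSpace N.left]
    (R : Over (Spec (CommRingCat.of k))) [GrpObj R] (qR : Red.bc (Spec.map (CommRingCat.ofHom (algebraMap k k'))) R ⟶ Gbar) [IsMonHom qR]
    (hR : WeilRes.IsWeilRes (Spec.map (CommRingCat.ofHom (algebraMap k k'))) Gbar R qR)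
    (H : Over (Spec (CommRingCat.of k))) [GrpObj H] (j : H ⟶ R) [IsMonHom j]
    (p : G ⟶ H) (hfac : p ≫ j = hR.lift G q)
    (Q : Over (Spec (CommRingCat.of k))) [GrpObj Q] (π : R ⟶ Q) [IsMonHom π] (hQ : RedSub.IsQuotient j π) :
    IsAffine Q.left ∧ (∀ s : ↥(Spec (CommRingCat.of k)), Red.HasNoSubtorus (AlgebraicClosure ((Spec (CommRingCat.of k)).residueField s)) (Red.geomFibre s Q)) := by
  obtain ⟨hsu, hfl, hlfp, hpb⟩ := hQ
  haveI := hsu; haveI := hfl; haveI := hlfp
  have hjπ : j ≫ π = 1 := by
    have h := congrArg (lift (1 : H ⟶ R) (𝟙 H) ≫ ·) hpb.w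
    rw [lift_fst_assoc, MonObj.one_comp, ← Category.assoc, ← Category.assoc, lift_whiskerLeft, Category.id_comp, ← Hom.mul_def,
      _root_.one_mul] at h
    exact h.symm
  have h1 : hR.lift G q ≫ π = 1 := by rw [← hfac, Category.assoc, hjπ, MonObj.comp_one]
  obtain ⟨K, _, iK, hiK, _, hK, -⟩ := AntiAffLib.exists_kernel qR
  haveI := hiK
  obtain ⟨hKft, hpow⟩ := kernel_props hR hK
  haveI := hKft
  haveI : IsAffine K.left := (Groth.Agent.S15876.main k k' Gbar R qR hR K iK hK).1.1
  obtain ⟨hQft, hwfl, hwsu⟩ := exists_cover hR hK hN π h1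
  haveI := hQft; haveI := hwfl; haveI := hwsu
  let f := bse k k'
  let w : K ⟶ Red.bc f Q := iK ≫ (Over.pullback f).map π
  haveI : LocallyOfFiniteType (Red.bc f Q).hom := MorphismProperty.pullback_snd (P := @LocallyOfFiniteType) _ _ hQft
  haveI : IsAffine (Red.bc f Q).left := AntiAffLib.isAffine_of_surjective_hom w
  obtain ⟨hf₁, hf₂, hf₃⟩ := ff_bse (k := k) (k' := k')
  haveI := hf₁; haveI := hf₂
  haveI : IsAffine (pullback Q.hom f) := ‹IsAffine (Red.bc f Q).left›
  refine ⟨AlgSpLib.isAffine_of_descent (IsPullback.of_hasPullback Q.hom f), fun s T _ i _ _ hT => ?_⟩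
  let Ω := AlgebraicClosure ((Spec (CommRingCat.of k)).residueField s)
  haveI : IsAffine T.left := AlbLib.isAffine_of_isTorus hT
  haveI : Smooth T.hom := Groth.Agent.TorusLift.smooth_of_isTorus hT
  refine SubSpecLib.Unip.hasNoSubtorus_of_finite T ((Set.finite_singleton 1).subset ?_) T (𝟙 T) hT
  rintro y ⟨n, hn, hy⟩
  refine (cancel_mono i).1 ?_
  rw [MonObj.one_comp]
  let qs := Red.geomPt s
  obtain ⟨τ, hτ⟩ : ∃ τ : CommRingCat.of k ⟶ CommRingCat.of Ω, Spec.map τ = qs := Spec.map_surjective _
  letI : Algebra k Ω := τ.hom.toAlgebra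
  let σ : k' →ₐ[k] Ω := IsAlgClosed.lift
  letI : Algebra k' Ω := σ.toRingHom.toAlgebra
  haveI : IsScalarTower k k' Ω := IsScalarTower.of_algebraMap_eq fun r => (σ.commutes r).symm
  let v : res f (TT k' Ω) ⟶ res qs (𝟙_ (Over (Spec (CommRingCat.of Ω)))) := Over.homMk (𝟙 _) (by
    show 𝟙 _ ≫ 𝟙 _ ≫ qs = Spec.map (CommRingCat.ofHom (algebraMap k' Ω)) ≫ f
    rw [Category.id_comp, Category.id_comp, ← Spec.map_comp, ← hτ]
    exact congrArg Spec.map (CommRingCat.hom_ext (RingHom.ext fun r => (σ.commutes r).symm)))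
  let a : 𝟙_ (Over (Spec (CommRingCat.of Ω))) ⟶ Red.bc qs Q := y ≫ i
  let b := (adj qs (R := Q) _).symm a
  let a' : TT k' Ω ⟶ Red.bc f Q := adj f _ (v ≫ b)
  have han : a' ^ n = 1 := by
    have ha : a ^ n = 1 := by rw [← MonObj.pow_comp, hy, MonObj.one_comp]
    rw [← map_pow, ← MonObj.comp_pow, ← map_pow, ha, map_one, MonObj.comp_one, map_one]
  -- lift the point to the kernel
  haveI : LocallyOfFiniteType (w.left ≫ (Red.bc f Q).hom) := by rw [Over.w w]; infer_instance
  haveI : LocallyOfFiniteType w.left := locallyOfFiniteType_of_comp w.left (Red.bc f Q).hom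
  haveI : Surjective w.left := hwsu
  let P := pullback w.left a'.left
  let pr : P ⟶ Spec (CommRingCat.of Ω) := pullback.snd w.left a'.left
  haveI : Surjective pr := MorphismProperty.pullback_snd (P := @Surjective) _ _ hwsu
  haveI : LocallyOfFiniteType pr := MorphismProperty.pullback_snd (P := @LocallyOfFiniteType) _ _ inferInstance
  haveI : Nonempty P := ⟨(pr.surjective (IsLocalRing.closedPoint Ω)).choose⟩
  haveI : JacobsonSpace P := LocallyOfFiniteType.jacobsonSpace pr
  obtain ⟨z, -, hz⟩ := nonempty_inter_closedPoints (Z := (Set.univ : Set P)) Set.univ_nonempty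
    isOpen_univ.isLocallyClosed
  let ζ : Spec (CommRingCat.of Ω) ⟶ P := pointOfClosedPoint pr z hz
  have hζ : ζ ≫ pullback.snd w.left a'.left = 𝟙 _ := pointOfClosedPoint_comp pr z hz
  have hxl : (ζ ≫ pullback.fst w.left a'.left) ≫ w.left = a'.left := by
    rw [Category.assoc, pullback.condition, reassoc_of% hζ]
  let x : TT k' Ω ⟶ K := Over.homMk (ζ ≫ pullback.fst w.left a'.left) (by
    rw [← Over.w w, ← Category.assoc, hxl]
    exact Over.w a')
  have hxw : x ≫ w = a' := Over.OverMorphism.ext hxl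
  obtain ⟨m, hm⟩ := hpow Ω x
  have ham : a' ^ (ringExpChar k ^ m) = 1 := by rw [← hxw, ← MonObj.pow_comp, hm, MonObj.one_comp]
  have ha1 : v ≫ b = 1 :=
    (adj f (R := Q) _).injective ((eq_one_of_pow_coprime k Ω a' hn han ham).trans (map_one _).symm)
  haveI : IsIso ((Over.forget _).map v) := inferInstanceAs (IsIso (𝟙 _))
  haveI : IsIso v := isIso_of_reflects_iso v (Over.forget _)
  have h2 : b = 1 := by rw [← cancel_epi v, MonObj.comp_one]; exact ha1
  exact (adj qs (R := Q) _).symm.injective (h2.trans (map_one _).symm)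

end

/-- With k'/k finite purely inseparable, G a k-group locally of finite type, q : G_{k'} → Ḡ a faithfully
flat homomorphism with quasi-compact kernel onto a commutative k'-group locally of finite type, (R,
q_R) a Weil restriction of Ḡ to k with q_R a homomorphism, H the image of the comparison
homomorphism i : G → R (H a closed subgroup of R through which i factors by a faithfully flat
homomorphism), and π : R → Q the fppf quotient group of R by H: Q is affine and its geometric fibre
has no non-trivial subtorus. (The published statement says that Q is a commutative unipotent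
k-group; the absence of geometric subtori is the weaker property recorded here, and commutativity is
inherited from R.) -/
theorem result (k k' : Type u) [Field k] [Field k']
    [Algebra k k'] [Module.Finite k k'] [IsPurelyInseparable k k']
    (G : Over (Spec (CommRingCat.of k))) [GrpObj G] [LocallyOfFiniteType G.hom]
    (Gbar : Over (Spec (CommRingCat.of k'))) [GrpObj Gbar] [LocallyOfFiniteType Gbar.hom]
    (q : Red.bc (Spec.map (CommRingCat.ofHom (algebraMap k k'))) G ⟶ Gbar) [IsMonHom q] [Surjective q.left] [Flat q.left]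
    (N : Over (Spec (CommRingCat.of k'))) (iN : N ⟶ Red.bc (Spec.map (CommRingCat.ofHom (algebraMap k k'))) G) (hN : AlgGrp.IsKernel iN q) [CompactSpace N.left]
    (R : Over (Spec (CommRingCat.of k))) [GrpObj R] (qR : Red.bc (Spec.map (CommRingCat.ofHom (algebraMap k k'))) R ⟶ Gbar) [IsMonHom qR]
    (hR : WeilRes.IsWeilRes (Spec.map (CommRingCat.ofHom (algebraMap k k'))) Gbar R qR)
    (H : Over (Spec (CommRingCat.of k))) [GrpObj H] (j : H ⟶ R) [IsMonHom j] [IsClosedImmersion j.left]
    (p : G ⟶ H) [IsMonHom p] [Surjective p.left] [Flat p.left] (hfac : p ≫ j = hR.lift G q)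
    [IsCommMonObj Gbar]
    (Q : Over (Spec (CommRingCat.of k))) [GrpObj Q] (π : R ⟶ Q) [IsMonHom π] (hQ : RedSub.IsQuotient j π) :
    IsAffine Q.left ∧ (∀ s : ↥(Spec (CommRingCat.of k)), Red.HasNoSubtorus (AlgebraicClosure ((Spec (CommRingCat.of k)).residueField s)) (Red.geomFibre s Q)) := by
  exact main k k' G Gbar q N iN hN R qR hR H j p hfac Q π hQ

end Groth.Agent.S15878
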