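import Groth.Statements.S1588
import Groth.Agent.NodalLib.NodeMaps

set_option autoImplicit false
set_option backward.isDefEq.respectTransparency false
set_option backward.isDefEq.respectTransparency.types false
universe u
open CategoryTheory CategoryTheory.Limits AlgebraicGeometry
open Curves

namespace Groth.Agent.S1588

/-- Let K be a field extension of k, X locally of finite type over k of dimension one, and y a point of
X_K with image x in X. Then x is a node of X (in particular closed) if and only if y is a node of
X_K. -/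
theorem result (k : Type u) [Field k] (X : Scheme.{u}) [X.Over (Spec (CommRingCat.of k))] [LocallyOfFiniteType (X ↘ (Spec (CommRingCat.of k)))]
    (hdim : topologicalKrullDim X = 1) (K : Type u) [Field K] [Algebra k K] (y : Curv2.bc k X K) :
    Curv2.IsNode k X (Curv2.bcFst k X K y) ↔ @Curv2.IsNode K _ (Curv2.bc k X K) ⟨Curv2.bcSnd k X K⟩ y := by
  letI : (Curv2.bc k X K).Over (Spec (CommRingCat.of K)) := ⟨Curv2.bcSnd k X K⟩
  haveI : LocallyOfFiniteType ((Curv2.bc k X K) ↘ Spec (CommRingCat.of K)) :=
    MorphismProperty.pullback_snd (P := @LocallyOfFiniteType) _ _ ‹_›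
  refine (NodalLib.isNode_iff k (Curv2.bcFst k X K y)).trans (Iff.trans ?_ (NodalLib.isNode_iff K y).symm)
  constructor
  · rintro ⟨hc, hg⟩
    refine ⟨NodalLib.isClosed_of_fibre (K := K) (Curv2.bcFst k X K) y hc fun z hz => ?_,
      (NodalLib.isGeoNode_bc k K y).1 hg⟩
    apply (NodalLib.isGeoNode_bc k K z).1
    rw [hz]
    exact hg
  · rintro ⟨-, hg⟩
    have hg' := (NodalLib.isGeoNode_bc k K y).2 hg
    exact ⟨NodalLib.isClosed_of_isGeoNode k hdim.le _ hg', hg'⟩

end Groth.Agent.S1588
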