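import Groth.Statements.S15880
import Groth.Agent.FreeCoverLib.Main

set_option autoImplicit false
universe u
open CategoryTheory CategoryTheory.Limits AlgebraicGeometry
open CohB1

namespace Groth.Agent.S15880

/-- Let k be a field, s a k-point of P^n_k and f : F → P^n_k a finite morphism whose direct image of the
structure sheaf is isomorphic to the free module O^{⊕d} on P^n_k. Then F is, over P^n_k, isomorphic
to the base change F_s ×_k P^n_k of its fibre at s (existence of an isomorphism over P^n_k). (The
published statement is the equivalence of categories between finite k-schemes and finite flat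
P^n_k-schemes with free direct image of the structure sheaf, with inverse F ↦ s^*F; this row states
its essential surjectivity in the pinned form F ≅ (s^*F) ×_k P^n_k.) -/
theorem result (k : Type u) [Field k] (n d : ℕ)
    (s : Spec (CommRingCat.of k) ⟶ CohB1.ProjSpace n k) (hs : s ≫ CohB1.ProjSpace.toSpec n k = 𝟙 _)
    (F : Scheme.{u}) (f : F ⟶ CohB1.ProjSpace n k) [IsFinite f]
    (e : (Scheme.Modules.pushforward f).obj (SheafOfModules.unit F.ringCatSheaf) ≅
      ∐ fun _ : ULift.{u} (Fin d) => (SheafOfModules.unit (CohB1.ProjSpace n k).ringCatSheaf :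
        (CohB1.ProjSpace n k).Modules)) :
    Nonempty (Over.mk f ≅ Over.mk (pullback.snd (pullback.snd f s) (CohB1.ProjSpace.toSpec n k))) := by
  let e' : (Scheme.Modules.pushforward f).obj (Coh.structureModule F) ≅ FlatMod.freeMod (CohB1.ProjSpace n k) d :=
    e ≪≫ Limits.Sigma.whiskerEquiv
      (f := fun _ : ULift.{u} (Fin d) => Coh.structureModule (CohB1.ProjSpace n k))
      (g := fun _ : Fin d => Coh.structureModule (CohB1.ProjSpace n k))
      (Equiv.ulift.{u}) (fun _ => Iso.refl _)
  refine FreeCoverLib.nonempty_iso f (CohB1.ProjSpace.toSpec n k) ?_ e' s hs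
  exact GradedCechLib.toTop_bijective

end Groth.Agent.S15880
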