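import Groth.Statements.S15881
import Groth.Agent.TorsGlueLib.Torsor

set_option autoImplicit false
universe u
open CategoryTheory MonoidalCategory CartesianMonoidalCategory MonObj GrpObj AlgebraicGeometry
open NonAbH1

namespace Groth.Agent.S15881

open MonoidalCategory CartesianMonoidalCategory CategoryTheory.Limits

theorem equivIso_ext {S : Scheme.{u}} {G P Q : Over S} [GrpObj G] {a : AlgGrp.Action G P} {b : AlgGrp.Action G Q}
    {e e' : NonAbH1.EquivIso a b} (h : e.iso.hom = e'.iso.hom) : e = e' := by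
  obtain ⟨i, hi⟩ := e
  obtain ⟨i', hi'⟩ := e'
  obtain rfl : i = i' := Iso.ext h
  rfl

variable {S S' : Scheme.{u}} (f : S' ⟶ S) {G P Q : Over S} [GrpObj G]

/-- A morphism of base changes, as a morphism to the scheme over the base. -/
noncomputable def generic (e : Red.bc f P ⟶ Red.bc f Q) : P ⊗ Over.mk f ⟶ Q :=
  Over.homMk (e.left ≫ pullback.fst Q.hom f) (by
    have h : e.left ≫ pullback.snd Q.hom f = pullback.snd P.hom f := Over.w e
    rw [Category.assoc, pullback.condition, ← Category.assoc, h, ← pullback.condition]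
    rfl)

theorem generic_equivariant (aP : AlgGrp.Action G P) (aQ : AlgGrp.Action G Q) (e : Red.bc f P ⟶ Red.bc f Q)
    (he : (aP.bc f).act ≫ e = (Red.bc f G ◁ e) ≫ (aQ.bc f).act)
    (T : Over S) (g : T ⟶ G) (x : T ⟶ P) (k : T ⟶ Over.mk f) :
    lift (lift g x ≫ aP.act) k ≫ generic f e = lift g (lift x k ≫ generic f e) ≫ aQ.act := by
  let T' : Over S' := Over.mk k.left
  let θ : (Over.map f).obj T' ≅ T := Over.isoMk (Iso.refl _) (by simpa [T'] using (Over.w k).symm)
  rw [← cancel_epi θ.hom]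
  let adj := fun X => (Over.mapPullbackAdj f).homEquiv T' X
  have hfst : ∀ (X : Over S) (y : (Over.map f).obj T' ⟶ X), (adj X y).left ≫ pullback.fst X.hom f = y.left :=
    fun X y => by
      have h := congrArg Over.Hom.left ((adj X).symm_apply_apply y)
      simp only [adj, Adjunction.homEquiv_counit, Over.comp_left] at h
      exact h
  have key : ∀ y : T ⟶ P, (θ.hom ≫ lift y k ≫ generic f e).left =
      (adj P (θ.hom ≫ y) ≫ e).left ≫ pullback.fst Q.hom f := by
    intro y
    rw [Over.comp_left, Over.comp_left, Over.comp_left, Category.assoc]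
    change θ.hom.left ≫ (lift y k).left ≫ e.left ≫ pullback.fst Q.hom f = _
    rw [← Category.assoc θ.hom.left]
    congr 1
    apply pullback.hom_ext
    · refine Eq.trans ?_ (hfst P (θ.hom ≫ y)).symm
      refine (Category.assoc _ _ _).trans ?_
      rw [Over.comp_left]
      exact congrArg (θ.hom.left ≫ ·) (congrArg Over.Hom.left (lift_fst y k))
    · refine Eq.trans ?_ (Over.w (adj P (θ.hom ≫ y))).symm
      refine (Category.assoc _ _ _).trans ((congrArg (θ.hom.left ≫ ·) (congrArg Over.Hom.left (lift_snd y k))).trans ?_)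
      exact Category.id_comp _
  have hQ : adj P (θ.hom ≫ x) ≫ e = adj Q (θ.hom ≫ lift x k ≫ generic f e) := by
    refine Over.OverMorphism.ext (pullback.hom_ext ?_ ?_)
    · rw [hfst, key]
    · exact (Over.w _).trans (Over.w _).symm
  refine Over.OverMorphism.ext ?_
  rw [key, comp_lift_assoc, ← hfst Q]
  congr 2
  change adj P (θ.hom ≫ lift g x ≫ aP.act) ≫ e = adj Q _
  rw [comp_lift_assoc θ.hom g x, comp_lift_assoc θ.hom g (lift x k ≫ generic f e),
    ← AlgGrp.Action.lift_homEquiv_bc_act, ← AlgGrp.Action.lift_homEquiv_bc_act, Category.assoc, he,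
    lift_whiskerLeft_assoc]
  rw [hQ]

theorem generic_agree {S₁ S₂ S₃ : Scheme.{u}} {g₁ : S₁ ⟶ S} {g₂ : S₂ ⟶ S} {f₁ : S₃ ⟶ S₁} {f₂ : S₃ ⟶ S₂} {d : S₃ ⟶ S}
    (h₁ : f₁ ≫ g₁ = d) (h₂ : f₂ ≫ g₂ = d) (e₁ : Red.bc g₁ P ⟶ Red.bc g₁ Q) (e₂ : Red.bc g₂ P ⟶ Red.bc g₂ Q)
    (hagree : (Over.pullback f₁).map e₁ ≫ (ActBC.bcCompIso f₁ g₁ Q h₁).hom =
      (ActBC.bcCompIso f₁ g₁ P h₁).hom ≫ (ActBC.bcCompIso f₂ g₂ P h₂).inv ≫ (Over.pullback f₂).map e₂ ≫
        (ActBC.bcCompIso f₂ g₂ Q h₂).hom)
    (w : S₃ ⟶ S) (hw : w = d) (v₁ : Over.mk w ⟶ Over.mk g₁) (hv₁ : v₁.left = f₁) (v₂ : Over.mk w ⟶ Over.mk g₂)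
    (hv₂ : v₂.left = f₂) :
    (P ◁ v₁) ≫ generic g₁ e₁ = (P ◁ v₂) ≫ generic g₂ e₂ := by
  subst hw
  let B₁ := ActBC.bcCompIso f₁ g₁ P h₁
  let B₂ := ActBC.bcCompIso f₂ g₂ P h₂
  have hm : ∀ {S₀ : Scheme.{u}} {g : S₀ ⟶ S} {f' : S₃ ⟶ S₀} (h : f' ≫ g = w) (v : Over.mk w ⟶ Over.mk g),
      v.left = f' → (P ◁ v).left = (ActBC.bcCompIso f' g P h).inv.left ≫ pullback.fst (Red.bc g P).hom f' := by
    intro S₀ g f' h v hv
    have hinv : ((ActBC.bcCompIso f' g P h).inv.left ≫ pullback.fst (Red.bc g P).hom f') ≫ pullback.fst P.hom g =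
        pullback.fst P.hom w := by
      have h0 : (ActBC.bcCompIso f' g P h).inv.left ≫ (ActBC.bcCompIso f' g P h).hom.left = 𝟙 _ := by
        rw [← Over.comp_left, Iso.inv_hom_id, Over.id_left]
      rw [Category.assoc, ← ActBC.bcCompIso_hom_left_fst f' g P h, ← Category.assoc, h0, Category.id_comp]
    have hsnd : (ActBC.bcCompIso f' g P h).inv.left ≫ pullback.snd (Red.bc g P).hom f' = pullback.snd P.hom w :=
      Over.w (ActBC.bcCompIso f' g P h).inv
    apply pullback.hom_ext
    · refine Eq.trans ?_ hinv.symm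
      exact congrArg Over.Hom.left (whiskerLeft_fst P v)
    · refine Eq.trans (congrArg Over.Hom.left (whiskerLeft_snd P v)) ?_
      change pullback.snd P.hom w ≫ v.left = _
      rw [hv, ← hsnd, Category.assoc, ← pullback.condition, Category.assoc]
      rfl
  have hnat : ∀ {S₀ : Scheme.{u}} {g : S₀ ⟶ S} {f' : S₃ ⟶ S₀} (h : f' ≫ g = w) (e : Red.bc g P ⟶ Red.bc g Q),
      ((Over.pullback f').map e ≫ (ActBC.bcCompIso f' g Q h).hom).left ≫ pullback.fst Q.hom w =
        pullback.fst (Red.bc g P).hom f' ≫ e.left ≫ pullback.fst Q.hom g := by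
    intro S₀ g f' h e
    rw [Over.comp_left, Category.assoc, ActBC.bcCompIso_hom_left_fst, ← Category.assoc,
      ActBC.pullback_map_left_fst, Category.assoc]
  refine Over.OverMorphism.ext ?_
  change (P ◁ v₁).left ≫ e₁.left ≫ pullback.fst Q.hom g₁ = (P ◁ v₂).left ≫ e₂.left ≫ pullback.fst Q.hom g₂
  rw [hm h₁ v₁ hv₁, hm h₂ v₂ hv₂, Category.assoc, ← hnat h₁ e₁, hagree, Category.assoc, ← hnat h₂ e₂]
  simp only [← Category.assoc, ← Over.comp_left, Iso.inv_hom_id, Category.id_comp]

theorem fst_comp_eq_generic_iff (φ : P ⟶ Q) (e : Red.bc f P ⟶ Red.bc f Q) :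
    fst P (Over.mk f) ≫ φ = generic f e ↔ (Over.pullback f).map φ = e := by
  constructor
  · intro h
    refine Over.OverMorphism.ext (pullback.hom_ext ?_ ?_)
    · exact (ActBC.pullback_map_left_fst f φ).trans (congrArg Over.Hom.left h)
    · exact (Over.w ((Over.pullback f).map φ)).trans (Over.w e).symm
  · rintro rfl
    exact Over.OverMorphism.ext (ActBC.pullback_map_left_fst f φ).symm

/-- With φ : A → A' and t as in the glueing set-up (A/t^m → A'/t^m bijective for all m, φ bijective on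
t-power torsion), G a flat A-group scheme with quasi-affine underlying scheme, and P, P' fppf
G-torsors over A: an equivariant isomorphism of the base changes to A[1/t] and one of the base
changes to A', which agree over A'[1/t] under the canonical identifications of iterated base
changes, are the base changes of a unique equivariant isomorphism P ≅ P' over A. (The hypothesis h
is the evident commutativity of the square of base rings.) -/
theorem result (A A' : Type u) [CommRing A] [CommRing A']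
    (φ : A →+* A') (t : A)
    (hq : ∀ m : ℕ, Function.Bijective (Ideal.quotientMap (Ideal.map φ (Ideal.span {t} ^ m)) φ Ideal.le_comap_map))
    (htor : ∀ a' : A', (∃ m : ℕ, φ t ^ m * a' = 0) → ∃! a : A, (∃ m : ℕ, t ^ m * a = 0) ∧ φ a = a')
    (h : Spec.map (CommRingCat.ofHom (Localization.awayMap φ t)) ≫
        Spec.map (CommRingCat.ofHom (algebraMap A (Localization.Away t))) =
      Spec.map (CommRingCat.ofHom (algebraMap A' (Localization.Away (φ t)))) ≫ Spec.map (CommRingCat.ofHom φ))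
    (G : Over (Spec (CommRingCat.of A))) [GrpObj G] [Flat G.hom] [G.left.IsQuasiAffine]
    (P P' : NonAbH1.TorsorSch G Scheme.fppfPrecoverage)
    (αU : NonAbH1.EquivIso (P.act.bc (Spec.map (CommRingCat.ofHom (algebraMap A (Localization.Away t))))) (P'.act.bc (Spec.map (CommRingCat.ofHom (algebraMap A (Localization.Away t))))))
    (α' : NonAbH1.EquivIso (P.act.bc (Spec.map (CommRingCat.ofHom φ))) (P'.act.bc (Spec.map (CommRingCat.ofHom φ))))
    (hagree : (NonAbH1.EquivIso.bc (Spec.map (CommRingCat.ofHom (Localization.awayMap φ t))) αU).iso.hom ≫ (ActBC.bcCompIso (Spec.map (CommRingCat.ofHom (Localization.awayMap φ t))) (Spec.map (CommRingCat.ofHom (algebraMap A (Localization.Away t)))) P'.X h).hom =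
      (ActBC.bcCompIso (Spec.map (CommRingCat.ofHom (Localization.awayMap φ t))) (Spec.map (CommRingCat.ofHom (algebraMap A (Localization.Away t)))) P.X h).hom ≫ (ActBC.bcCompIso (Spec.map (CommRingCat.ofHom (algebraMap A' (Localization.Away (φ t))))) (Spec.map (CommRingCat.ofHom φ)) P.X rfl).inv ≫
        (NonAbH1.EquivIso.bc (Spec.map (CommRingCat.ofHom (algebraMap A' (Localization.Away (φ t))))) α').iso.hom ≫ (ActBC.bcCompIso (Spec.map (CommRingCat.ofHom (algebraMap A' (Localization.Away (φ t))))) (Spec.map (CommRingCat.ofHom φ)) P'.X rfl).hom) :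
    ∃! α : NonAbH1.EquivIso P.act P'.act,
      (NonAbH1.EquivIso.bc (Spec.map (CommRingCat.ofHom (algebraMap A (Localization.Away t)))) α).iso = αU.iso ∧ (NonAbH1.EquivIso.bc (Spec.map (CommRingCat.ofHom φ)) α).iso = α'.iso := by
  letI : Algebra A A' := φ.toAlgebra
  let u₁ : Localization.Away t →ₐ[A] Localization.Away (φ t) :=
    { Localization.awayMap φ t with
      commutes' := fun a => IsLocalization.map_eq _ _ }
  let u₂ : A' →ₐ[A] Localization.Away (φ t) := IsScalarTower.toAlgHom A A' (Localization.Away (φ t))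
  have hsq : TorsGlueLib.GlueSq u₁ u₂ := by
    refine ⟨fun x y hxy => TorsGlueLib.exists_unique_glue φ t hq htor x y hxy, fun p => ?_⟩
    by_cases ht : t ∈ p.asIdeal
    · right
      let e := RingEquiv.ofBijective _ (hq 1)
      have hle : Ideal.span {t} ^ 1 ≤ p.asIdeal := by
        rw [pow_one, Ideal.span_singleton_le_iff_mem]
        exact ht
      let ψ : A' →+* A ⧸ p.asIdeal := (Ideal.Quotient.factor hle).comp (e.symm.toRingHom.comp (Ideal.Quotient.mk (Ideal.map φ (Ideal.span {t} ^ 1))))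
      refine ⟨⟨RingHom.ker ψ, RingHom.ker_isPrime ψ⟩, PrimeSpectrum.ext ?_⟩
      ext a
      change ψ (φ a) = 0 ↔ a ∈ p.asIdeal
      have h1 : e.symm (Ideal.Quotient.mk (Ideal.map φ (Ideal.span {t} ^ 1)) (φ a)) = Ideal.Quotient.mk (Ideal.span {t} ^ 1) a := by
        rw [RingEquiv.symm_apply_eq]
        rfl
      change Ideal.Quotient.factor hle (e.symm (Ideal.Quotient.mk (Ideal.map φ (Ideal.span {t} ^ 1)) (φ a))) = 0 ↔ _
      rw [h1, Ideal.Quotient.factor_mk, Ideal.Quotient.eq_zero_iff_mem]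
    · left
      rw [PrimeSpectrum.localization_away_comap_range (Localization.Away t) t]
      exact ht
  have hU := generic_equivariant (Spec.map (CommRingCat.ofHom (algebraMap A (Localization.Away t)))) P.act P'.act
    αU.iso.hom αU.comm
  have hA := generic_equivariant (Spec.map (CommRingCat.ofHom φ)) P.act P'.act α'.iso.hom α'.comm
  have hψ : (P.X ◁ TorsGlueLib.spMap u₁) ≫ generic _ αU.iso.hom = (P.X ◁ TorsGlueLib.spMap u₂) ≫ generic _ α'.iso.hom := by
    refine generic_agree h rfl αU.iso.hom α'.iso.hom hagree _ ?_ _ rfl _ rfl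
    change Spec.map _ = Spec.map _ ≫ Spec.map _
    rw [← Spec.map_comp]
    rfl
  obtain ⟨⟨m, hm1, hm2, hmG, hmI⟩, huniq⟩ := TorsGlueLib.existsUnique_glue hsq P.act P'.act P.isTorsor P'.isTorsor
    (generic _ αU.iso.hom) (generic _ α'.iso.hom) hU hA hψ
  refine ⟨⟨asIso m, hmG⟩, ⟨Iso.ext ?_, Iso.ext ?_⟩, fun α hα => ?_⟩
  · exact (fst_comp_eq_generic_iff _ m αU.iso.hom).mp hm1
  · exact (fst_comp_eq_generic_iff _ m α'.iso.hom).mp hm2
  · refine equivIso_ext (huniq _ _ ?_ ?_)
    · exact ((fst_comp_eq_generic_iff _ α.iso.hom αU.iso.hom).mpr (congrArg Iso.hom hα.1)).trans hm1.symm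
    · exact ((fst_comp_eq_generic_iff _ α.iso.hom α'.iso.hom).mpr (congrArg Iso.hom hα.2)).trans hm2.symm

end Groth.Agent.S15881
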