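import Groth.Statements.S15890
import Mathlib
import Groth.Agent.FrobEtaleLib.Basic
-- import your own Groth.Agent.* helpers here

set_option autoImplicit false
universe u v
open Versch

open scoped TensorProduct

namespace Groth.Agent.S15890

/-- Let p be a prime, k a field of characteristic p and A a finite-dimensional commutative and
cocommutative Hopf algebra over k (a finite commutative k-group scheme G = Spec A), and let v : A →
A ⊗_k k^(Frob) be the comorphism of the Verschiebung V : G^(p) → G (the ring map whose transpose
under the canonical pairing is the relative Frobenius of the dual Hopf algebra). Then G is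
multiplicative, i.e. the dual Hopf algebra Hom_k(A, k) of the Cartier dual G^D is étale over k, if
and only if v is bijective, i.e. V is an isomorphism. -/
theorem result (p : ℕ) [Fact p.Prime] (k : Type u) [Field k] [CharP k p]
    (A : Type v) [CommRing A] [HopfAlgebra k A] [Coalgebra.IsCocomm k A] [FiniteDimensional k A]
    (v : A →+* FrobAlg.BaseChange p k A) (hv : Versch.IsVerschiebung p k A v) :
    Algebra.Etale k (CartDual.D k A) ↔ Function.Bijective v := by
  classical
  let b := Module.finBasis k A
  set ι := Fin (Module.finrank k A)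
  let xb : Module.Basis ι k (CartDual.D k A) := b.dualBasis.map (WithConv.linearEquiv k (Module.Dual k A)).symm
  let T := FrobAlg.Twist p k
  let eA : A ⊗[k] T ≃ₗ[k] (ι →₀ T) := TensorProduct.equivFinsuppOfBasisLeft b
  let eD : CartDual.D k A ⊗[k] T ≃ₗ[k] (ι →₀ T) := TensorProduct.equivFinsuppOfBasisLeft xb
  have hxb : ∀ i c, (xb i).ofConv c = b.repr c i := by
    intro i c; simp [xb]
  have heA : ∀ (z : A ⊗[k] T) (i : ι), eA z i = Versch.evTw p k A (xb i) z := by
    intro z i
    induction z using TensorProduct.induction_on with
    | zero => simp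
    | tmul a s =>
      refine Eq.trans ?_ (Versch.evTw_tmul p k A (xb i) a s).symm
      rw [CartDual.coe_apply, hxb]
      simp [eA, Algebra.smul_def]
      rfl
    | add x y hx hy => rw [map_add, map_add, Finsupp.add_apply, hx, hy]
  rw [Versch.isVerschiebung_iff] at hv
  let L : A →ₗ[k] (ι → k) := LinearMap.pi fun i => (xb i ^ p).ofConv
  have hL : Function.Bijective v ↔ Function.Bijective L := by
    rw [← (eA.toEquiv.trans Finsupp.equivFunOnFinite).comp_bijective v]
    rw [← (Equiv.piCongrRight fun _ : ι => (FrobAlg.toTwist p k).toEquiv).comp_bijective L]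
    refine Iff.of_eq (congrArg _ (funext fun a => funext fun i => ?_))
    show eA (v a) i = FrobAlg.toTwist p k ((xb i ^ p).ofConv a)
    rw [heA, hv]
  have hF : Function.Bijective (FrobAlg.relFrob p k (CartDual.D k A)) ↔ Function.Bijective L.dualMap := by
    let e0 : Module.Dual k (ι → k) ≃ (ι →₀ T) :=
      ((Pi.basisFun k ι).dualBasis.equivFun.toEquiv.trans (Equiv.piCongrRight fun _ : ι => (FrobAlg.toTwist p k).toEquiv)).trans
        Finsupp.equivFunOnFinite.symm
    rw [← (e0.trans eD.symm.toEquiv).bijective_comp (FrobAlg.relFrob p k (CartDual.D k A)),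
      ← (WithConv.linearEquiv k (Module.Dual k A)).symm.toEquiv.comp_bijective L.dualMap]
    refine Iff.of_eq (congrArg _ (funext fun φ => ?_))
    apply WithConv.ext
    refine LinearMap.ext fun a => ?_
    show (FrobAlg.relFrob p k (CartDual.D k A) (eD.symm (e0 φ))).ofConv a = φ (L a)
    have h1 : eD.symm (e0 φ) = ∑ i, xb i ⊗ₜ[k] (e0 φ i) := by
      simp [eD, Finsupp.sum_fintype]
    rw [h1, map_sum, WithConv.ofConv_sum, LinearMap.sum_apply]
    conv_rhs => rw [pi_eq_sum_univ' (L a), map_sum]
    refine Finset.sum_congr rfl fun i _ => ?_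
    have h2 := Versch.relFrob_dual_tmul_apply p k A (xb i) (e0 φ i) a
    rw [CartDual.coe_apply, CartDual.coe_apply] at h2
    rw [h2, map_smul, smul_eq_mul, mul_comm]
    simp [e0, L]
  rw [hL, ← LinearMap.dualMap_bijective_iff, ← hF]
  refine ⟨fun h => FrobEtaleLib.bijective_of_etale p k (CartDual.D k A), fun h => ?_⟩
  haveI := FrobEtaleLib.formallySmooth_of_bijective p k (CartDual.D k A) h
  haveI := FrobEtaleLib.formallyUnramified_of_surjective p k (CartDual.D k A) h.2
  haveI : Algebra.FinitePresentation k (CartDual.D k A) := Algebra.FinitePresentation.of_finiteType.mp inferInstance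
  exact { formallyEtale := Algebra.FormallyEtale.of_formallyUnramified_and_formallySmooth }

end Groth.Agent.S15890
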