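import Groth.Statements.S15891
import Mathlib
import Groth.Agent.VerschFLib.Basic
import Groth.Agent.OortTateLib.Rank
-- import your own Groth.Agent.* helpers here

set_option autoImplicit false
universe u
open scoped TensorProduct
open Versch

namespace Groth.Agent.S15891

/-- Let p be a prime, R a commutative ring of characteristic p and A a commutative and cocommutative
Hopf algebra over R which is finitely generated and projective as an R-module, of characteristic p
(a finite locally free commutative group scheme G = Spec A over S = Spec R), and let v : A → A^(p) =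
A ⊗_R R^(Frob) be the comorphism of the Verschiebung V : G^(p) → G (the ring map whose transpose
under the canonical pairing is the relative Frobenius of the dual Hopf algebra). Then F ∘ V = [p] is
multiplication by p on the S-group G^(p): the ring endomorphism v ∘ F* of A^(p), where F* : A^(p) →
A is the relative Frobenius comorphism, transported along the symmetry A ⊗_R R^(Frob) ≅ R^(Frob) ⊗_R
A, is the p-th convolution power of the identity of the Hopf algebra R^(Frob) ⊗_R A over R^(Frob)
(the base change of A along the Frobenius of R). (The published notes work over a Noetherian base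
ring; the row allows any commutative base ring of characteristic p.) -/
theorem result (p : ℕ) [Fact p.Prime] (R : Type u) [CommRing R] [CharP R p]
    (A : Type u) [CommRing A] [HopfAlgebra R A] [Coalgebra.IsCocomm R A] [Module.Finite R A] [Module.Projective R A]
    [CharP A p] (v : A →+* FrobAlg.BaseChange p R A) (hv : Versch.IsVerschiebung p R A v) :
    ((Algebra.TensorProduct.comm R A (FrobAlg.Twist p R)).toRingEquiv.toRingHom.comp
        ((v.comp (FrobAlg.relFrob p R A)).comp
          (Algebra.TensorProduct.comm R A (FrobAlg.Twist p R)).symm.toRingEquiv.toRingHom)) =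
      (SGA3b.powConv (FrobAlg.Twist p R) (FrobAlg.Twist p R ⊗[R] A) p).toRingHom := by
  have hp0 : ((p : ℕ) : A ⊗[R] FrobAlg.Twist p R) = 0 := by
    rw [← map_natCast (algebraMap R (A ⊗[R] FrobAlg.Twist p R)) p, CharP.cast_eq_zero, map_zero]
  have hvr : ∀ r : R, v (algebraMap R A r) = (1 : A) ⊗ₜ[R] FrobAlg.toTwist p R r := by
    intro r
    refine Versch.evTw_injective p R A fun y => ?_
    rw [(Versch.isVerschiebung_iff p R A v).mp hv, Versch.evTw_tmul', ← map_mul]
    congr 1
    rw [Algebra.algebraMap_eq_smul_one, CartDual.coe_apply, map_smul, smul_eq_mul, mul_comm]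
    congr 1
    have hev : ∀ m : ℕ, (y ^ m).ofConv (1 : A) = (y.ofConv (1 : A)) ^ m := by
      intro m
      induction m with
      | zero => simp [LinearMap.convOne_def, Bialgebra.counit_one]
      | succ m ih =>
        rw [pow_succ, pow_succ, LinearMap.convMul_apply, Bialgebra.comul_one, Algebra.TensorProduct.one_def, TensorProduct.map_tmul, LinearMap.mul'_apply, ih]
    exact hev p
  have hz : ∀ (z : A ⊗[R] FrobAlg.Twist p R) (t : FrobAlg.Twist p R),
      Algebra.TensorProduct.comm R A (FrobAlg.Twist p R) (z ^ p * ((1 : A) ⊗ₜ[R] t)) =
        t ⊗ₜ[R] FrobAlg.relFrob p R A z := by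
    intro z t
    induction z using TensorProduct.induction_on with
    | zero => rw [zero_pow (Fact.out : p.Prime).ne_zero, zero_mul, map_zero, map_zero, TensorProduct.tmul_zero]
    | tmul b s =>
      rw [Algebra.TensorProduct.tmul_pow, Algebra.TensorProduct.tmul_mul_tmul, mul_one, Algebra.TensorProduct.comm_tmul]
      have h1 : FrobAlg.relFrob p R A (b ⊗ₜ[R] s) = ((FrobAlg.toTwist p R).symm s) • b ^ p := by
        simp [FrobAlg.relFrob, FrobAlg.frobHom, FrobAlg.inclHom, Algebra.smul_def, mul_comm]
        rfl
      rw [h1, ← TensorProduct.smul_tmul, Algebra.smul_def, FrobAlg.algebraMap_twist, map_pow, RingEquiv.apply_symm_apply]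
    | add x y hx hy =>
      obtain ⟨r, hr⟩ := exists_add_pow_prime_eq (Fact.out : p.Prime) x y
      rw [hr, hp0, zero_mul, zero_mul, zero_mul, add_zero, add_mul, map_add, hx, hy, map_add, TensorProduct.tmul_add]
  apply RingHom.ext
  intro w
  induction w using TensorProduct.induction_on with
  | zero => rw [map_zero, map_zero]
  | add x y hx hy => rw [map_add, map_add, hx, hy]
  | tmul t a =>
    show Algebra.TensorProduct.comm R A (FrobAlg.Twist p R) (v (FrobAlg.relFrob p R A (a ⊗ₜ[R] t))) =
      SGA3b.powConv (FrobAlg.Twist p R) (FrobAlg.Twist p R ⊗[R] A) p (t ⊗ₜ[R] a)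
    have h1 : FrobAlg.relFrob p R A (a ⊗ₜ[R] t) = a ^ p * algebraMap R A ((FrobAlg.toTwist p R).symm t) := by
      simp [FrobAlg.relFrob, FrobAlg.frobHom, FrobAlg.inclHom]
      rfl
    rw [h1, map_mul, map_pow, hvr, RingEquiv.apply_symm_apply, hz, VerschFLib.relFrob_verschiebung_apply p R A v hv,
      OortTateLib.powConv_bc]

end Groth.Agent.S15891
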