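import Groth.Statements.S15895
import Mathlib
import Mathlib
-- import your own Groth.Agent.* helpers here

set_option autoImplicit false
universe u
open scoped TensorProduct
open Versch

open scoped TensorProduct

namespace Groth.Agent.S15895

/-- Let p be a prime, R a commutative ring of characteristic p and B = Hom_R(R[ℤ/p], R) the dual Hopf
algebra of the group algebra of the cyclic group of order p: the Hopf algebra of the constant group
scheme ℤ/p over Spec R (the Cartier dual of μ_p). Let v : B → B ⊗_R R^(Frob) be the comorphism of
the Verschiebung V : (ℤ/p)^(p) → ℤ/p (the ring map whose transpose under the canonical pairing is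
the relative Frobenius of the dual Hopf algebra of B). Then V is the trivial homomorphism: v is the
composite of the counit ε : B → R, the identity of underlying rings R → R^(Frob) and the inclusion
of the twisted factor R^(Frob) → B ⊗_R R^(Frob), i.e. v(b) = 1 ⊗ ε(b). -/
theorem result (p : ℕ) [Fact p.Prime] (R : Type u) [CommRing R]
    [CharP R p] (v : CartDual.D R (MonoidAlgebra R (Multiplicative (ZMod p))) →+* FrobAlg.BaseChange p R (CartDual.D R (MonoidAlgebra R (Multiplicative (ZMod p)))))
    (hv : Versch.IsVerschiebung p R (CartDual.D R (MonoidAlgebra R (Multiplicative (ZMod p)))) v) :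
    v = ((Algebra.TensorProduct.includeRight (R := R) (A := CartDual.D R (MonoidAlgebra R (Multiplicative (ZMod p))))
            (B := FrobAlg.Twist p R)).toRingHom.comp (FrobAlg.toTwist p R).toRingHom).comp
          (Bialgebra.counitAlgHom R (CartDual.D R (MonoidAlgebra R (Multiplicative (ZMod p))))).toRingHom := by
  classical
  rw [Versch.isVerschiebung_iff] at hv
  set A0 := MonoidAlgebra R (Multiplicative (ZMod p))
  let b : Module.Basis (Multiplicative (ZMod p)) R A0 := MonoidAlgebra.basis (Multiplicative (ZMod p)) R
  let g : Multiplicative (ZMod p) → A0 := fun h => MonoidAlgebra.of R (Multiplicative (ZMod p)) h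
  have hb : ∀ h, b h = g h := fun h => rfl
  let ev : Multiplicative (ZMod p) → CartDual.D R (CartDual.D R A0) :=
    fun h => WithConv.toConv ((LinearMap.applyₗ (g h)).comp (CartDual.toDual R A0).toLinearMap)
  let δ : Multiplicative (ZMod p) → CartDual.D R A0 := fun h => WithConv.toConv (b.coord h)
  have hevmul : ∀ h h', ev h * ev h' = ev (h * h') := by
    intro h h'
    apply WithConv.ext
    refine LinearMap.ext fun f => ?_
    rw [LinearMap.convMul_apply]
    have key : ∀ t : CartDual.D R A0 ⊗[R] CartDual.D R A0,
        LinearMap.mul' R R (TensorProduct.map (ev h).ofConv (ev h').ofConv t) = CartDual.ev₂ R A0 t (g h ⊗ₜ g h') := by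
      intro t
      induction t using TensorProduct.induction_on with
      | zero => simp
      | tmul x y =>
        rw [TensorProduct.map_tmul, LinearMap.mul'_apply, CartDual.ev₂_tmul, CartDual.coe_apply, CartDual.coe_apply]
        rfl
      | add s t hs ht => simp only [map_add, LinearMap.add_apply, hs, ht]
    rw [key]
    show CartDual.ev₂ R A0 (CartDual.comul R A0 f) (g h ⊗ₜ g h') = f.ofConv (g (h * h'))
    rw [CartDual.ev₂_comul_tmul, CartDual.coe_apply]
    simp only [g, map_mul]
  have hev1 : ev 1 = 1 := by
    apply WithConv.ext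
    refine LinearMap.ext fun f => ?_
    rw [LinearMap.convOne_def]
    show f.ofConv (g 1) = algebraMap R R (CartDual.counit R A0 f)
    rw [CartDual.counit_apply, CartDual.coe_apply]
    simp only [g, map_one]
    rfl
  have hevp : ∀ h, ev h ^ p = 1 := by
    intro h
    have : ∀ m : ℕ, ev h ^ m = ev (h ^ m) := by
      intro m
      induction m with
      | zero => rw [pow_zero, pow_zero, hev1]
      | succ m ih => rw [pow_succ, pow_succ, ih, hevmul]
    rw [this, show h ^ p = 1 from by
      apply Multiplicative.toAdd.injective
      rw [toAdd_pow, toAdd_one, nsmul_eq_mul, ZMod.natCast_self, zero_mul], hev1]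
  have hsum : ∀ f : CartDual.D R A0, f = ∑ h, f.ofConv (g h) • δ h := by
    intro f
    apply WithConv.ext
    refine b.ext fun h => ?_
    rw [WithConv.ofConv_sum, LinearMap.sum_apply, Finset.sum_eq_single h]
    · have hbb : b.repr (g h) h = 1 := by rw [← hb, Module.Basis.repr_self, Finsupp.single_eq_same]
      simp [δ, hb, hbb]
    · intro c _ hc; simp [δ, hc.symm]
    · simp
  apply RingHom.ext
  intro f
  apply Versch.evTw_injective p R (CartDual.D R A0)
  intro y
  rw [hv]
  have hy : y = ∑ h, y.ofConv (δ h) • ev h := by
    apply WithConv.ext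
    refine LinearMap.ext fun f => ?_
    conv_lhs => rw [hsum f, map_sum]
    rw [WithConv.ofConv_sum, LinearMap.sum_apply]
    refine Finset.sum_congr rfl fun h _ => ?_
    rw [map_smul, WithConv.ofConv_smul, LinearMap.smul_apply, smul_eq_mul, smul_eq_mul, mul_comm]
    rfl
  have hpow : y ^ p = (∑ h, y.ofConv (δ h)) ^ p • (1 : CartDual.D R (CartDual.D R A0)) := by
    conv_lhs => rw [hy, sum_pow_char p]
    rw [sum_pow_char p, Finset.sum_smul]
    exact Finset.sum_congr rfl fun h _ => by rw [smul_pow, hevp]
  have hone : y.ofConv 1 = ∑ h, y.ofConv (δ h) := by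
    have h1 : ∀ h, (1 : CartDual.D R A0).ofConv (g h) = 1 := by
      intro h
      simp [g, LinearMap.convOne_def]
      exact (MonoidAlgebra.counit_single (R := R) h (1 : R)).trans (by simp)
    conv_lhs => rw [hsum 1, map_sum]
    simp [h1]
  show _ = Versch.evTw p R _ y ((1 : CartDual.D R A0) ⊗ₜ[R] FrobAlg.toTwist p R (Bialgebra.counitAlgHom R _ f))
  rw [Versch.evTw_tmul', ← map_mul, hpow, CartDual.coe_apply, CartDual.coe_apply, hone, WithConv.ofConv_smul,
    LinearMap.smul_apply, smul_eq_mul, LinearMap.convOne_apply]
  rfl

end Groth.Agent.S15895
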