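import Groth.Statements.S15896
import Groth.Agent.CartMuLib.Basic

set_option autoImplicit false
set_option backward.isDefEq.respectTransparency false
set_option backward.isDefEq.respectTransparency.types false
set_option maxRecDepth 8000
set_option maxHeartbeats 1000000
universe u
open scoped TensorProduct
open Hopf

namespace Groth.Agent.S15896

/-- Let R be a henselian Noetherian local ring and A a commutative and cocommutative Hopf algebra over R
which is finitely generated and projective as an R-module (a finite flat commutative R-group G =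
Spec A). Let e ∈ A be an idempotent with ε(e) = 1 such that the ideal (1 − e) is a Hopf ideal and A⁰
= A/(1 − e) is a local ring, projective over R, with cocommutative quotient structure (G⁰ = Spec A⁰
is the connected component of the unit section). Let B = Hom_R(A⁰, R) be the dual Hopf algebra (the
Cartier dual (G⁰)^D) and e' ∈ B an idempotent with ε(e') = 1 and B/(1 − e') local (the unit
component of (G⁰)^D). Say that x ∈ B is invariant when (id ⊗ (multiplication by e'))(Δ x) = x ⊗ e',
i.e. x is invariant under translation by the unit component of (G⁰)^D, so that the invariant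
elements form the Hopf algebra of the maximal étale quotient of (G⁰)^D; the ideal in A⁰ of the
closed subgroup G_μ ⊆ G⁰ ⊆ G consists of the elements annihilated by every invariant x (G_μ is the
Cartier dual of the étale quotient of (G⁰)^D, a connected multiplicative subgroup of G). Then G_μ is
the largest connected multiplicative closed subgroup of G: for every Hopf ideal J of A such that A/J
is a local ring, projective over R, cocommutative, and has étale dual Hopf algebra Hom_R(A/J, R) (H
= Spec A/J a connected closed subgroup with étale Cartier dual), every a ∈ A whose image in A⁰ is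
annihilated by all invariant x lies in J, i.e. H ⊆ G_μ. -/
theorem result (R : Type u) [CommRing R]
    [HenselianLocalRing R] [IsNoetherianRing R] (A : Type u) [CommRing A] [HopfAlgebra R A] [Coalgebra.IsCocomm R A]
    [Module.Finite R A] [Module.Projective R A] (e : A) (he : IsIdempotentElem e)
    (hε : Bialgebra.counitAlgHom R A e = 1) [(Ideal.span ({1 - e} : Set A)).IsHopfIdeal R] [IsLocalRing (A ⧸ Ideal.span ({1 - e} : Set A))]
    [Module.Projective R (A ⧸ Ideal.span ({1 - e} : Set A))] [Coalgebra.IsCocomm R (A ⧸ Ideal.span ({1 - e} : Set A))]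
    (e' : CartDual.D R (A ⧸ Ideal.span ({1 - e} : Set A))) (he' : IsIdempotentElem e')
    (hε' : Bialgebra.counitAlgHom R (CartDual.D R (A ⧸ Ideal.span ({1 - e} : Set A))) e' = 1)
    [IsLocalRing (CartDual.D R (A ⧸ Ideal.span ({1 - e} : Set A)) ⧸ Ideal.span ({1 - e'} : Set (CartDual.D R (A ⧸ Ideal.span ({1 - e} : Set A)))))]
    (J : Ideal A) [J.IsHopfIdeal R] [IsLocalRing (A ⧸ J)] [Module.Projective R (A ⧸ J)]
    [Coalgebra.IsCocomm R (A ⧸ J)] [Algebra.Etale R (CartDual.D R (A ⧸ J))]
    (a : A) (ha : ∀ x : CartDual.D R (A ⧸ Ideal.span ({1 - e} : Set A)), LinearMap.lTensor (CartDual.D R (A ⧸ Ideal.span ({1 - e} : Set A))) (LinearMap.mulLeft R e') (Coalgebra.comul (R := R) x) = x ⊗ₜ[R] e' → x (Ideal.Quotient.mk (Ideal.span ({1 - e} : Set A)) a) = 0) :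
    a ∈ J := by
  classical
  haveI : Nontrivial R := inferInstance
  let qJ : A →ₐc[R] A ⧸ J := Bialgebra.Quotient.mkBialgHom (R := R) J
  let q0 : A →ₐc[R] A ⧸ Ideal.span ({1 - e} : Set A) := Bialgebra.Quotient.mkBialgHom (R := R) _
  have he1 : Ideal.Quotient.mk J e = 1 := CartMuLib.eq_one_of_idem (Bialgebra.counitAlgHom R (A ⧸ J))
    (Ideal.Quotient.mkₐ R J) he ((CartMuLib.counit_mk J e).trans hε)
  obtain ⟨π0, hπ0⟩ := CartMuLib.exists_factor q0 Ideal.Quotient.mk_surjective qJ fun z hz => by
    have hle : Ideal.span ({1 - e} : Set A) ≤ J := (Ideal.span_singleton_le_iff_mem _).2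
      (Ideal.Quotient.eq_zero_iff_mem.1 (by rw [map_sub, map_one, he1, sub_self]))
    exact Ideal.Quotient.eq_zero_iff_mem.2 (hle (Ideal.Quotient.eq_zero_iff_mem.1 hz))
  set t := CartDual.transpose R π0
  set I := Ideal.span ({1 - e'} : Set (CartDual.D R (A ⧸ Ideal.span ({1 - e} : Set A))))
  set mx := IsLocalRing.maximalIdeal (CartDual.D R (A ⧸ Ideal.span ({1 - e} : Set A)) ⧸ I)
  let εQ := Ideal.Quotient.liftₐ I (Bialgebra.counitAlgHom R (CartDual.D R (A ⧸ Ideal.span ({1 - e} : Set A)))) (fun z hz => by
    have hle : I ≤ RingHom.ker (Bialgebra.counitAlgHom R (CartDual.D R (A ⧸ Ideal.span ({1 - e} : Set A)))) :=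
      (Ideal.span_singleton_le_iff_mem _).2 (by rw [RingHom.mem_ker, map_sub, map_one, hε', sub_self])
    exact hle hz)
  have hkey : ∀ y, e' * t y = Bialgebra.counitAlgHom R (CartDual.D R (A ⧸ J)) y • e' := by
    intro y
    let φ := (Ideal.Quotient.mkₐ R I).comp (t : CartDual.D R (A ⧸ J) →ₐ[R] CartDual.D R (A ⧸ Ideal.span ({1 - e} : Set A)))
    let φ' := (Algebra.ofId R (CartDual.D R (A ⧸ Ideal.span ({1 - e} : Set A)) ⧸ I)).comp
      (Bialgebra.counitAlgHom R (CartDual.D R (A ⧸ J)))
    have hφ : φ = φ' := CartMuLib.algHom_eq_of_sub_mem (S := CartDual.D R (A ⧸ J)) (Q := CartDual.D R (A ⧸ Ideal.span ({1 - e} : Set A)) ⧸ I) φ φ' fun s => by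
      have hle : RingHom.ker εQ ≤ mx := IsLocalRing.le_maximalIdeal (RingHom.ker_ne_top _)
      refine hle ?_
      rw [RingHom.mem_ker, map_sub, sub_eq_zero]
      simp only [φ', φ, AlgHom.comp_apply, Algebra.ofId_apply, AlgHom.commutes]
      exact CoalgHomClass.counit_comp_apply t s
    have h1 := AlgHom.congr_fun hφ y
    simp only [φ, φ', AlgHom.comp_apply, Ideal.Quotient.mkₐ_eq_mk, Algebra.ofId_apply] at h1
    rw [← Ideal.Quotient.mk_algebraMap, Ideal.Quotient.eq, Ideal.mem_span_singleton'] at h1
    obtain ⟨c, hc⟩ := h1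
    replace hc : c * (1 - e') = t y - algebraMap R (CartDual.D R (A ⧸ Ideal.span ({1 - e} : Set A)))
        (Bialgebra.counitAlgHom R (CartDual.D R (A ⧸ J)) y) := hc
    rw [Algebra.smul_def, ← sub_eq_zero, mul_comm (algebraMap R _ _), ← mul_sub, ← hc, mul_comm c, ← mul_assoc,
      mul_sub, mul_one, he'.eq, sub_self, zero_mul]
  have hinv : ∀ y, LinearMap.lTensor (CartDual.D R (A ⧸ Ideal.span ({1 - e} : Set A))) (LinearMap.mulLeft R e')
      (Coalgebra.comul (R := R) (t y)) = t y ⊗ₜ[R] e' := by
    intro y
    have h : ∀ z : CartDual.D R (A ⧸ J) ⊗[R] CartDual.D R (A ⧸ J),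
        LinearMap.lTensor (CartDual.D R (A ⧸ Ideal.span ({1 - e} : Set A))) (LinearMap.mulLeft R e')
          (TensorProduct.map (t : CartDual.D R (A ⧸ J) →ₗ[R] _) (t : CartDual.D R (A ⧸ J) →ₗ[R] _) z) =
        t (TensorProduct.rid R _ (LinearMap.lTensor _ (Coalgebra.counit (R := R)) z)) ⊗ₜ[R] e' := fun z => by
      induction z using TensorProduct.induction_on with
      | zero => simp
      | add p q hp hq => simp only [map_add, TensorProduct.add_tmul, hp, hq]
      | tmul p q =>
        show t p ⊗ₜ[R] (e' * t q) = t (Coalgebra.counit (R := R) q • p) ⊗ₜ[R] e'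
        rw [hkey, map_smul, TensorProduct.smul_tmul]
        rfl
    rw [← CoalgHomClass.map_comp_comul_apply t]
    refine (h _).trans ?_
    rw [Coalgebra.lTensor_counit_comul, TensorProduct.rid_tmul, one_smul]
  rw [← Ideal.Quotient.eq_zero_iff_mem, ← Module.forall_dual_apply_eq_zero_iff R]
  intro f
  have h1 := ha (t (WithConv.toConv f)) (hinv _)
  rw [CartDual.transpose_apply] at h1
  rw [show π0 (Ideal.Quotient.mk _ a) = Ideal.Quotient.mk J a from hπ0 a] at h1
  exact h1

end Groth.Agent.S15896
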