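import Groth.Statements.S1590
import Groth.Agent.NodalLib.StalkSmooth

set_option autoImplicit false
set_option backward.isDefEq.respectTransparency false
set_option backward.isDefEq.respectTransparency.types false
universe u
open CategoryTheory CategoryTheory.Limits AlgebraicGeometry
open Curves

namespace Groth.Agent.S1590

/-- Let X be locally of finite type over k, with all irreducible components of dimension one and
at-worst-nodal singularities. A reduced closed subscheme Y of X all of whose irreducible components
have dimension one again has at-worst-nodal singularities. -/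
theorem result (k : Type u) [Field k] (X : Scheme.{u}) [X.Over (Spec (CommRingCat.of k))] [LocallyOfFiniteType (X ↘ (Spec (CommRingCat.of k)))]
    (hequi : ∀ Z ∈ irreducibleComponents (X : Type u), topologicalKrullDim Z = 1) (hX : Curv2.AtWorstNodal k X)
    (I : X.IdealSheafData) [IsReduced I.subscheme]
    (hY : ∀ Z ∈ irreducibleComponents (I.subscheme : Type u), topologicalKrullDim Z = 1) :
    @Curv2.AtWorstNodal k _ I.subscheme ⟨I.subschemeι ≫ (X ↘ (Spec (CommRingCat.of k)))⟩ := by
  letI : I.subscheme.Over (Spec (CommRingCat.of k)) := ⟨I.subschemeι ≫ (X ↘ (Spec (CommRingCat.of k)))⟩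
  haveI : LocallyOfFiniteType (I.subscheme ↘ Spec (CommRingCat.of k)) :=
    inferInstanceAs (LocallyOfFiniteType (I.subschemeι ≫ X ↘ Spec (CommRingCat.of k)))
  haveI := NodalLib.lfp_over k (X := X)
  haveI := NodalLib.lfp_over k (X := I.subscheme)
  haveI : IsLocallyNoetherian X := LocallyOfFiniteType.isLocallyNoetherian (X ↘ Spec (CommRingCat.of k))
  haveI : IsLocallyNoetherian I.subscheme :=
    LocallyOfFiniteType.isLocallyNoetherian (I.subscheme ↘ Spec (CommRingCat.of k))
  intro y hy
  let x := I.subschemeι y
  have hx : IsClosed ({x} : Set X) := by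
    have := I.subschemeι.isClosedEmbedding.isClosedMap _ hy
    rwa [Set.image_singleton] at this
  letI := Curv2.stalkAlgebra k X x
  letI := Curv2.stalkAlgebra k I.subscheme y
  haveI := NodalLib.essFiniteType_stalk k y
  haveI := NodalLib.essFiniteType_stalk k x
  let π : X.presheaf.stalk x →ₐ[k] I.subscheme.presheaf.stalk y :=
    { (I.subschemeι.stalkMap y).hom with
      commutes' := fun c => by
        show (I.subschemeι.stalkMap y).hom ((X.presheaf.germ ⊤ _ trivial).hom (Coh.toGlobal (X ↘ Spec (CommRingCat.of k)) c)) =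
          (I.subscheme.presheaf.germ ⊤ y trivial).hom (Coh.toGlobal (I.subschemeι ≫ X ↘ Spec (CommRingCat.of k)) c)
        rw [NodalLib.toGlobal_comp_apply]
        exact Scheme.Hom.germ_stalkMap_apply _ _ _ _ _ }
  have hπ : Function.Surjective π := I.subschemeι.stalkMap_surjective y
  have hA := ((NodalLib.curveDims_iff X).1 hequi x).1
  have hB : ringKrullDim (I.subscheme.presheaf.stalk y) = 1 := by
    obtain ⟨h1, h2⟩ := (NodalLib.curveDims_iff I.subscheme).1 hY y
    refine le_antisymm h1 ?_
    rcases hd : ringKrullDim (I.subscheme.presheaf.stalk y) with _ | v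
    · exact absurd hd ringKrullDim_ne_bot
    · refine WithBot.coe_le_coe.2 (Order.one_le_iff_pos.2 (pos_iff_ne_zero.2 fun hv => h2 ?_ hy))
      rw [hd, hv]; rfl
  have h : Algebra.FormallySmooth k (X.presheaf.stalk x) ∨
      (Algebra.IsSeparable k (IsLocalRing.ResidueField (X.presheaf.stalk x)) ∧ NodalLib.QNode (X.presheaf.stalk x)) :=
    (hX x hx).imp (fun h => (NodalLib.mem_smoothLocus_iff_stalk k x).1 ((NodalLib.smooth_nhd_iff _ x).1 h))
      fun h => NodalLib.isGeoNode_iff_qnode.1 ((NodalLib.isNode_iff k x).1 h).2
  exact (NodalLib.smooth_or_qnode_quotient k π hπ hA hB h).imp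
    (fun h => (NodalLib.smooth_nhd_iff _ y).2 ((NodalLib.mem_smoothLocus_iff_stalk k y).2 h))
    fun h => (NodalLib.isNode_iff k y).2 ⟨hy, h⟩

end Groth.Agent.S1590
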