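import Groth.Statements.S15906
import Groth.Agent.ConicLib.Basic
import Mathlib.Data.Fin.Tuple.Sort
-- import your own Groth.Agent.* helpers here

set_option autoImplicit false
open Surf

namespace Groth.Agent.S15906

open W4c3severiratdp in
/-- Work in the lattice of vectors (a; b_1, …, b_δ), standing for divisor classes a ℓ − Σ b_i e_i on the
blow-up of the projective plane at δ points written in a standard basis, with intersection form a a'
− Σ b_i b_i' and canonical class K = (−3; −1, …, −1); a conic class is a class Q with Q·Q = 0 and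
K·Q = −2, an exceptional class (the class of a (−1)-curve) is a class E with E·E = −1 and K·E = −1,
and the Weyl group W_δ is the group of additive automorphisms of the lattice preserving the form and
fixing K. For δ = 8, a class (a; b_1, …, b_8) is a conic class if and only if, up to a permutation
of b_1, …, b_8, it is one of the fifteen vectors (1; 1, 0, 0, 0, 0, 0, 0, 0), (2; 1, 1, 1, 1, 0, 0,
0, 0), (3; 2, 1, 1, 1, 1, 1, 0, 0), (4; 2, 2, 2, 1, 1, 1, 1, 0), (4; 3, 1, 1, 1, 1, 1, 1, 1), (5; 2,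
2, 2, 2, 2, 2, 1, 0), (5; 3, 2, 2, 2, 1, 1, 1, 1), (6; 3, 3, 2, 2, 2, 2, 1, 1), (7; 3, 3, 3, 3, 2,
2, 2, 1), (7; 4, 3, 2, 2, 2, 2, 2, 2), (8; 4, 3, 3, 3, 3, 2, 2, 2), (8; 3, 3, 3, 3, 3, 3, 3, 1), (9;
4, 4, 3, 3, 3, 3, 3, 2), (10; 4, 4, 4, 4, 3, 3, 3, 3), (11; 4, 4, 4, 4, 4, 4, 4, 3). (One line of
the published table is illegible in the available copy; the fifteen vectors here are the complete
solution set of the two defining equations a² = Σ b_i², 3a − Σ b_i = 2.) -/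
theorem result (v : DP 8) :
    IsConic v ↔
      ∃ t ∈ ({![1, 1, 0, 0, 0, 0, 0, 0, 0],
        ![2, 1, 1, 1, 1, 0, 0, 0, 0],
        ![3, 2, 1, 1, 1, 1, 1, 0, 0],
        ![4, 2, 2, 2, 1, 1, 1, 1, 0],
        ![4, 3, 1, 1, 1, 1, 1, 1, 1],
        ![5, 2, 2, 2, 2, 2, 2, 1, 0],
        ![5, 3, 2, 2, 2, 1, 1, 1, 1],
        ![6, 3, 3, 2, 2, 2, 2, 1, 1],
        ![7, 3, 3, 3, 3, 2, 2, 2, 1],
        ![7, 4, 3, 2, 2, 2, 2, 2, 2],
        ![8, 4, 3, 3, 3, 3, 2, 2, 2],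
        ![8, 3, 3, 3, 3, 3, 3, 3, 1],
        ![9, 4, 4, 3, 3, 3, 3, 3, 2],
        ![10, 4, 4, 4, 4, 3, 3, 3, 3],
        ![11, 4, 4, 4, 4, 4, 4, 4, 3]} : Set (DP 8)),
        ∃ σ : Equiv.Perm (Fin 8), v 0 = t 0 ∧ ∀ i : Fin 8, v (σ i).succ = t i.succ := by
  classical
  let L : List (List ℤ) := [[1, 1, 0, 0, 0, 0, 0, 0, 0], [2, 1, 1, 1, 1, 0, 0, 0, 0],
    [3, 2, 1, 1, 1, 1, 1, 0, 0], [4, 2, 2, 2, 1, 1, 1, 1, 0], [4, 3, 1, 1, 1, 1, 1, 1, 1],
    [5, 2, 2, 2, 2, 2, 2, 1, 0], [5, 3, 2, 2, 2, 1, 1, 1, 1], [6, 3, 3, 2, 2, 2, 2, 1, 1],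
    [7, 3, 3, 3, 3, 2, 2, 2, 1], [7, 4, 3, 2, 2, 2, 2, 2, 2], [8, 4, 3, 3, 3, 3, 2, 2, 2],
    [8, 3, 3, 3, 3, 3, 3, 3, 1], [9, 4, 4, 3, 3, 3, 3, 3, 2], [10, 4, 4, 4, 4, 3, 3, 3, 3],
    [11, 4, 4, 4, 4, 4, 4, 4, 3]]
  have key : ∀ n ∈ List.range 11, ∀ l ∈ ConicLib.desc 8 (3 * ((n : ℤ) + 1) - 2) (((n : ℤ) + 1) ^ 2) 11,
      ((n : ℤ) + 1) :: l ∈ L := by decide +kernel
  have hL : ∀ l ∈ L, ∃ t ∈ ({![1, 1, 0, 0, 0, 0, 0, 0, 0], ![2, 1, 1, 1, 1, 0, 0, 0, 0],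
      ![3, 2, 1, 1, 1, 1, 1, 0, 0], ![4, 2, 2, 2, 1, 1, 1, 1, 0], ![4, 3, 1, 1, 1, 1, 1, 1, 1],
      ![5, 2, 2, 2, 2, 2, 2, 1, 0], ![5, 3, 2, 2, 2, 1, 1, 1, 1], ![6, 3, 3, 2, 2, 2, 2, 1, 1],
      ![7, 3, 3, 3, 3, 2, 2, 2, 1], ![7, 4, 3, 2, 2, 2, 2, 2, 2], ![8, 4, 3, 3, 3, 3, 2, 2, 2],
      ![8, 3, 3, 3, 3, 3, 3, 3, 1], ![9, 4, 4, 3, 3, 3, 3, 3, 2], ![10, 4, 4, 4, 4, 3, 3, 3, 3],
      ![11, 4, 4, 4, 4, 4, 4, 4, 3]} : Set (DP 8)), List.ofFn t = l := by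
    intro l hl
    simp only [L, List.mem_cons, List.not_mem_nil, or_false] at hl
    rcases hl with rfl | rfl | rfl | rfl | rfl | rfl | rfl | rfl | rfl | rfl | rfl | rfl | rfl | rfl | rfl <;>
      simp only [Set.mem_insert_iff, Set.mem_singleton_iff, exists_eq_or_imp, exists_eq_left] <;> decide
  constructor
  · intro h
    obtain ⟨h1, h2⟩ := ConicLib.bounds (le_refl 8) h
    obtain ⟨hs, hq⟩ := (ConicLib.isConic_iff v).mp h
    let σ : Equiv.Perm (Fin 8) := Tuple.sort fun i => -v i.succ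
    have hanti : Antitone fun i => v (σ i).succ := fun i j hij => by
      have := Tuple.monotone_sort (fun i => -v i.succ) hij
      simpa using this
    have hc : (fun i => v (σ i).succ) ∈ ConicLib.sol 8 (3 * v 0 - 2) (v 0 ^ 2) := by
      refine ⟨?_, ?_⟩
      · exact (Equiv.sum_comp σ fun i => v i.succ).trans hs
      · exact (Equiv.sum_comp σ fun i => v i.succ ^ 2).trans hq
    have hle : ∀ i, v (σ i).succ ≤ 11 := by
      intro i
      have : v (σ i).succ ^ 2 ≤ 121 := (Finset.single_le_sum (f := fun i => v (σ i).succ ^ 2)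
        (fun j _ => sq_nonneg _) (Finset.mem_univ i)).trans (hc.2.trans_le (by nlinarith))
      nlinarith
    have hm := ConicLib.mem_desc 8 _ _ 11 (by nlinarith) _ hc hanti hle
    have hn : ((v 0 - 1).toNat : ℤ) + 1 = v 0 := by omega
    have hk := key (v 0 - 1).toNat (List.mem_range.mpr (by omega))
    rw [hn] at hk
    obtain ⟨t, ht, hl⟩ := hL _ (hk _ hm)
    refine ⟨t, ht, σ, ?_⟩
    have e : List.ofFn t = List.ofFn (Fin.cons (v 0) fun i => v (σ i).succ : DP 8) := by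
      rw [hl, List.ofFn_succ (f := (Fin.cons (v 0) fun i => v (σ i).succ : DP 8))]
      simp
    have e' := List.ofFn_inj.mp e
    refine ⟨?_, fun i => ?_⟩
    · rw [e']; rfl
    · rw [e']; rfl
  · rintro ⟨t, ht, σ, h0, hi⟩
    have ht' : Fin.tail t ∈ ConicLib.sol 8 (3 * t 0 - 2) (t 0 ^ 2) := by
      simp only [Set.mem_insert_iff, Set.mem_singleton_iff] at ht
      rcases ht with rfl | rfl | rfl | rfl | rfl | rfl | rfl | rfl | rfl | rfl | rfl | rfl | rfl | rfl | rfl <;>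
        exact ⟨by decide, by decide⟩
    rw [ConicLib.isConic_iff, h0]
    obtain ⟨hs, hq⟩ := ht'
    refine ⟨?_, ?_⟩
    · refine (Equiv.sum_comp σ (Fin.tail v)).symm.trans (Eq.trans ?_ hs)
      exact Finset.sum_congr rfl fun i _ => hi i
    · refine (Equiv.sum_comp σ fun i => Fin.tail v i ^ 2).symm.trans (Eq.trans ?_ hq)
      exact Finset.sum_congr rfl fun i _ => congrArg (· ^ 2) (hi i)

end Groth.Agent.S15906
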