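import Groth.Statements.S15908
import Groth.Agent.WeylDPLib.Conic
import Mathlib


-- import your own Groth.Agent.* helpers here

set_option autoImplicit false
open Surf

namespace Groth.Agent.S15908

open W4c3severiratdp in
/-- Work in the lattice of vectors (a; b_1, …, b_δ), standing for divisor classes a ℓ − Σ b_i e_i on the
blow-up of the projective plane at δ points written in a standard basis, with intersection form a a'
− Σ b_i b_i' and canonical class K = (−3; −1, …, −1); a conic class is a class Q with Q·Q = 0 and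
K·Q = −2, an exceptional class (the class of a (−1)-curve) is a class E with E·E = −1 and K·E = −1,
and the Weyl group W_δ is the group of additive automorphisms of the lattice preserving the form and
fixing K. For δ = 8 the ordered pairs (Q_1, Q_2) of conic classes with Q_1·Q_2 = 4 form exactly two
W_8-orbits: there are two such pairs that no element of W_8 carries one to the other, and every such
pair is carried by an element of W_8 to one of these two. -/
theorem result :
    ∃ p₁ p₂ q₁ q₂ : DP 8, IsConic p₁ ∧ IsConic p₂ ∧ IsConic q₁ ∧ IsConic q₂ ∧ form p₁ p₂ = 4 ∧ form q₁ q₂ = 4 ∧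
      (¬ ∃ g : DP 8 ≃ₗ[ℤ] DP 8, IsWeyl g ∧ g p₁ = q₁ ∧ g p₂ = q₂) ∧
      ∀ v₁ v₂ : DP 8, IsConic v₁ → IsConic v₂ → form v₁ v₂ = 4 →
        ∃ g : DP 8 ≃ₗ[ℤ] DP 8, IsWeyl g ∧ ((g v₁ = p₁ ∧ g v₂ = p₂) ∨ (g v₁ = q₁ ∧ g v₂ = q₂)) := by
  open WeylDPLib in
  refine ⟨vec 8 (dec 8 18159675916849), vec 8 (dec 8 19294656743956), vec 8 (dec 8 18159675916849), vec 8 (dec 8 18230612150837),
    (lConic_iff (length_dec _ _)).mp (by decide +kernel), (lConic_iff (length_dec _ _)).mp (by decide +kernel),
    (lConic_iff (length_dec _ _)).mp (by decide +kernel), (lConic_iff (length_dec _ _)).mp (by decide +kernel),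
    (lform_eq (length_dec _ _) (length_dec _ _)).trans (by decide +kernel),
    (lform_eq (length_dec _ _) (length_dec _ _)).trans (by decide +kernel), ?_, ?_⟩
  · rintro ⟨g, hg, h1, h2⟩
    let h : DP 8 := vec 8 [3, 1, 1, 1, 1, 1, 1, 1, 0]
    have hh : g (vec 8 (dec 8 18159675916849) + vec 8 (dec 8 19294656743956)) = 2 • h := by
      rw [map_add, h1, h2]; decide +kernel
    have h3 := congrFun ((LinearEquiv.eq_symm_apply g).mpr hh) 0
    rw [map_nsmul] at h3
    have h4 : (vec 8 (dec 8 18159675916849) + vec 8 (dec 8 19294656743956) : DP 8) 0 = 5 := by decide +kernel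
    simp only [Pi.smul_apply, h4, nsmul_eq_mul, Nat.cast_ofNat] at h3
    omega
  · intro v₁ v₂ hv₁ hv₂ hf
    obtain ⟨g, hg, hg1, x, hx, hgx, hfx⟩ := cert8.normalise v₁ v₂ hv₁ hv₂
    rw [lform_eq (length_dec _ _) (length_dec _ _), hf] at hfx
    have hsel : (cert8.bases.all fun x => lform (dec 8 cert8.base) (dec 8 x) != 4 || x == 19294656743956 || x == 18230612150837) = true := by
      decide +kernel
    have := List.all_eq_true.mp hsel x hx
    simp only [hfx, bne_self_eq_false, Bool.false_or, Bool.or_eq_true, beq_iff_eq] at this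
    rcases this with rfl | rfl
    · exact ⟨g, hg, Or.inl ⟨hg1, hgx⟩⟩
    · exact ⟨g, hg, Or.inr ⟨hg1, hgx⟩⟩

end Groth.Agent.S15908
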