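import Groth.Statements.S15910
import Groth.Agent.WeylDPLib.Exc
import Mathlib


-- import your own Groth.Agent.* helpers here

set_option autoImplicit false
open Surf

namespace Groth.Agent.S15910

open W4c3severiratdp in
/-- Work in the lattice of vectors (a; b_1, …, b_δ), standing for divisor classes a ℓ − Σ b_i e_i on the
blow-up of the projective plane at δ points written in a standard basis, with intersection form a a'
− Σ b_i b_i' and canonical class K = (−3; −1, …, −1); a conic class is a class Q with Q·Q = 0 and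
K·Q = −2, an exceptional class (the class of a (−1)-curve) is a class E with E·E = −1 and K·E = −1,
and the Weyl group W_δ is the group of additive automorphisms of the lattice preserving the form and
fixing K. Let δ = 8 and let L be an exceptional class. Let B be the set of unordered triples {λ_1,
λ_2, λ_3} of exceptional classes (repetitions allowed) with λ_1 + λ_2 + λ_3 = −2K + L. Then the
stabilizer of L in W_8 has exactly four orbits on B. Triples are written as maps Fin 3 → lattice and
compared up to reordering: there are four members of B, no two of which are identified by an element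
of the stabilizer followed by a reordering, and every member of B is so identified with one of the
four. -/
theorem result (L : DP 8) (hL : IsExc L) :
    ∃ r : Fin 4 → (Fin 3 → DP 8),
      (∀ j, (∀ i, IsExc (r j i)) ∧ r j 0 + r j 1 + r j 2 = L - 2 • canon 8) ∧
      (∀ j j', (∃ g : DP 8 ≃ₗ[ℤ] DP 8, IsWeyl g ∧ g L = L ∧ ∃ σ : Equiv.Perm (Fin 3), ∀ i, g (r j (σ i)) = r j' i) → j = j') ∧
      ∀ t : Fin 3 → DP 8, (∀ i, IsExc (t i)) → t 0 + t 1 + t 2 = L - 2 • canon 8 →
        ∃ j, ∃ g : DP 8 ≃ₗ[ℤ] DP 8, IsWeyl g ∧ g L = L ∧ ∃ σ : Equiv.Perm (Fin 3), ∀ i, g (t (σ i)) = r j i := by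
  open WeylDPLib in
  obtain ⟨n, hn, rfl⟩ := mem_of_enum exc_enum _ (fun c hc => (lExc_iff (length_dec 8 c)).mp hc)
    (finite_exc 8 le_rfl) exc_card.1.symm L hL
  obtain ⟨g₀, hg₀, -, b, hb, hgb⟩ := reach exc_ok n hn
  obtain rfl : b = L0 := by simpa using hb
  have hgL : g₀.symm (vec 8 (dec 8 L0)) = vec 8 (dec 8 n.1) := by rw [← hgb, LinearEquiv.symm_apply_apply]
  let r : Fin 4 → Fin 3 → DP 8 := fun j i => g₀.symm (vec 8 (dec 8 (repsL j i)))
  have hR := repsOk_eq
  simp only [repsOk, List.all_eq_true, Bool.and_eq_true, beq_iff_eq, List.mem_finRange, forall_const] at hR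
  refine ⟨r, fun j => ⟨fun i => ?_, ?_⟩, ?_, ?_⟩
  · have h1 := (lExc_iff (length_dec _ _)).mp ((hR j).1 i)
    have h2 := isWeyl_symm hg₀
    exact ⟨(h2.1 _ _).trans h1.1, by rw [← h2.2, h2.1]; exact h1.2⟩
  · show g₀.symm _ + g₀.symm _ + g₀.symm _ = _
    rw [← map_add, ← map_add, ← (hR j).2, (vec_third _ _ (length_dec _ _) (length_dec _ _)).1, map_sub,
      map_nsmul, (isWeyl_symm hg₀).2, hgL]
  · rintro j j' ⟨g, hg, hgfix, σ, hσ⟩
    have hm : ∀ i, lform (dec 8 L0) (dec 8 (repsL j (σ i))) = lform (dec 8 L0) (dec 8 (repsL j' i)) := fun i => by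
      rw [← lform_eq (length_dec _ _) (length_dec _ _), ← lform_eq (length_dec _ _) (length_dec _ _),
        ← (isWeyl_symm hg₀).1 (vec 8 (dec 8 L0)), ← (isWeyl_symm hg₀).1 (vec 8 (dec 8 L0)) (vec 8 (dec 8 (repsL j' i))),
        hgL, ← hg.1 (vec 8 (dec 8 n.1)), hgfix]
      exact congrArg _ (hσ i)
    refine sig_injective (Prod.ext ?_ ?_)
    · simp only [sig, ← Fin.sum_univ_def, ← hm]
      exact (Equiv.sum_comp σ fun i => lform (dec 8 L0) (dec 8 (repsL j i))).symm
    · simp only [sig, ← Fin.sum_univ_def, ← hm]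
      exact (Equiv.sum_comp σ fun i => lform (dec 8 L0) (dec 8 (repsL j i)) ^ 2).symm
  · intro t ht hsum
    obtain ⟨g, j, σ, hg, hgL', hgt⟩ := triple_normalise _ hL t ht hsum
    refine ⟨j, g.trans g₀.symm, isWeyl_trans hg (isWeyl_symm hg₀), ?_, σ, fun i => ?_⟩
    · rw [LinearEquiv.trans_apply, hgL', hgL]
    · rw [LinearEquiv.trans_apply, hgt]

end Groth.Agent.S15910
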