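import Groth.Statements.S15916
import Mathlib
import Groth.Agent.SurfNumLib.RRApps
import Groth.Agent.SurfNumLib.K3
import Groth.Agent.SurfNumLib.Config
import Groth.Agent.SurfNumLib.Eff
import Groth.Agent.SurfNumLib.Deg
import Groth.Agent.IntFunLib.Kleiman
import Groth.Agent.S1536
import Groth.Agent.S1537
import Groth.Agent.GrpdFieldLib.ClosedSub
import Groth.Agent.CurveH0Lib.Smooth
-- import your own Groth.Agent.* helpers here

set_option autoImplicit false
universe u
open CategoryTheory CategoryTheory.Limits AlgebraicGeometry TopologicalSpace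
open Surf

namespace Groth.Agent.S15916

/-- Let k be an algebraically closed field of characteristic zero and X a smooth projective surface over
k (integral, proper and smooth over k of dimension 2, with a closed immersion over k into some
projective space); intersection numbers of invertible modules are (L·M) = χ(O_X) − χ(L) − χ(M) + χ(L
⊗ M), and for an integral closed one-dimensional subscheme C ⊆ X write (L·C) = χ(O_C ⊗ L) − χ(O_C);
an invertible module is nef when (L·C) ≥ 0 for all such C. Let D be an invertible module generated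
by its global sections, nef, with (D·D) > 0, and let N be a nef invertible module with (D·N) = 0.
Then N is numerically trivial: (N·C) = 0 for every integral curve C ⊆ X. (The published statement
concludes that N is zero in Pic X; on the product of an elliptic curve with the projective line, the
pull-back N of a non-trivial degree-zero class of the elliptic curve is nef, orthogonal to an ample
base-point-free D, and non-zero, while the printed proof establishes numerical triviality, which is
what this row states.) -/
theorem result (k : Type u) [Field k] [IsAlgClosed k]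
    [CharZero k] (X : Scheme.{u}) [X.Over (Spec (CommRingCat.of k))] [IsIntegral X] [IsProper (X ↘ (Spec (CommRingCat.of k)))] [Smooth (X ↘ (Spec (CommRingCat.of k)))]
    (hdim : topologicalKrullDim X = 2)
    (hproj : ∃ (n : ℕ) (ι : X ⟶ CohB1.ProjSpace n k), IsClosedImmersion ι ∧ ι ≫ CohB1.ProjSpace.toSpec n k = (X ↘ (Spec (CommRingCat.of k))))
    (D N : X.Modules) (hDi : PicF.IsInvertible D) (hNi : PicF.IsInvertible N)
    (hDgg : Curv2.IsGloballyGenerated D)
    (hDnef : ∀ C : X.IdealSheafData, IsIntegral C.subscheme → topologicalKrullDim (C.support : Set X) = 1 → 0 ≤ (Curv2.euler k X (CohB1.tensorMod (ClSub.quotMod C) D) - Curv2.euler k X (ClSub.quotMod C)))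
    (hD2 : 0 < FGA.intNum k X 2 ![D, D] (Coh.structureModule X))
    (hNnef : ∀ C : X.IdealSheafData, IsIntegral C.subscheme → topologicalKrullDim (C.support : Set X) = 1 → 0 ≤ (Curv2.euler k X (CohB1.tensorMod (ClSub.quotMod C) N) - Curv2.euler k X (ClSub.quotMod C)))
    (hDN : FGA.intNum k X 2 ![D, N] (Coh.structureModule X) = 0) :
    ∀ C : X.IdealSheafData, IsIntegral C.subscheme → topologicalKrullDim (C.support : Set X) = 1 → (Curv2.euler k X (CohB1.tensorMod (ClSub.quotMod C) N) - Curv2.euler k X (ClSub.quotMod C)) = 0 := by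
  have hX : topologicalKrullDim X = ((2 : ℕ) : WithBot ℕ∞) := hdim
  haveI := CurvLib.isNoetherian k (X := X)
  obtain ⟨n, ι, hι, hιc⟩ := hproj
  have hA : CohB1.IsAmple ((Scheme.Modules.pullback ι).obj (Twist.twistProjSpace n k 1)) :=
    SurfNumLib.isAmple_embedding ι
  have hsw : ∀ (C : X.IdealSheafData), Curv2.euler k X (CohB1.tensorMod (ClSub.quotMod C) N) -
      Curv2.euler k X (ClSub.quotMod C) = IntFunLib.N k [N] (ClSub.quotMod C) := fun C => by
    rw [IntFunLib.N, IntFunLib.N, IntFunLib.N, CurvLib.euler_congr (k := k) (HilbPolyLib.swapIso (ClSub.quotMod C) N)]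
  have hnef : IntFunLib.Nef k N := fun ξ hξ => by
    have h := hNnef (IntMultLib.ptIdeal ξ) (IntMultLib.isIntegral_ptIdeal ξ) (by rw [IntFunLib.dim_ptIdeal, hξ, Nat.cast_one])
    rw [hsw] at h
    exact h
  intro C hC hC1
  haveI := hC
  rw [hsw]
  have hd1 : topologicalKrullDim (CohB1.support (ClSub.quotMod C)) ≤ ((1 : ℕ) : WithBot ℕ∞) := by
    rw [SurfNumLib.support_quotMod_eq, hC1, Nat.cast_one]
  have hsq : 0 ≤ HodgeIdxLib.pr k N N := by
    rw [SurfNumLib.pr_eq_Fpt hX hNi hNi]
    exact IntFunLib.N_nef_nonneg_proj hNi hnef hA (d := 2) (SurfNumLib.dim_generic hX)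
  have hO : ∀ F : X.Modules, IntFunLib.N k [Coh.structureModule X] F = 0 := fun F => by
    rw [IntFunLib.N, IntFunLib.N, IntFunLib.N, CurvLib.euler_congr (k := k) (HilbPolyLib.unitLeft F), sub_self]
  have h := SurfNumLib.N_eq_of_curves (k := k) hNi (CurvLib.isInvertible_structureModule (X := X))
    (CurvLib.isCoh_quotMod C) hd1 fun c hc => by
      rw [hO, SurfNumLib.curve_zero hX hDi hNi (by rw [← SurfNumLib.intNum_eq_pr hX.le]; exact hD2)
        (by rw [HodgeIdxLib.pr_comm, ← SurfNumLib.intNum_eq_pr hX.le]; exact hDN) hsq hc]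
  rw [h, hO]

end Groth.Agent.S15916
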