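import Groth.Statements.S15917
import Groth.Agent.EllSecLib.TreeGrow
import Groth.Agent.IntFunLib.NList
import Groth.Agent.NefH1Lib.Subcurve.Main

set_option autoImplicit false
set_option backward.isDefEq.respectTransparency false
set_option backward.isDefEq.respectTransparency.types false
set_option maxHeartbeats 1000000
universe u
open CategoryTheory CategoryTheory.Limits AlgebraicGeometry TopologicalSpace
open Curves

namespace Groth.Agent.S15917

/-- Let k be an algebraically closed field of characteristic zero and C a rational tree over k: a
connected, reduced scheme, proper over k of dimension one, with at-worst-nodal singularities and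
H¹(C, O_C) = 0 (equivalently, all components are smooth rational curves and the dual graph is a
tree). Let F be a finite locally free O_C-module and R ⊆ C a closed subscheme that is reduced and
connected and whose support is a union of irreducible components of C. If for every irreducible
component Z of C not contained in R (taken with its reduced structure, i.e. every integral closed
one-dimensional subscheme Z whose support is not inside R) the restriction F|_Z is generated by
global sections, then h¹(C, F) = h¹(R, F|_R). -/
theorem result (k : Type u) [Field k] [IsAlgClosed k] [CharZero k]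
    (C : Scheme.{u}) [C.Over (Spec (CommRingCat.of k))] [IsProper (C ↘ (Spec (CommRingCat.of k)))] [IsReduced C] [ConnectedSpace C]
    (hdim : topologicalKrullDim C = 1) (hnodal : Curv2.AtWorstNodal k C)
    (hg : Subsingleton (Coh.HH C (Coh.structureModule C) 1))
    (F : C.Modules) (hF : FlatMod.IsFinLocFree F)
    (R : C.IdealSheafData) [IsReduced R.subscheme] [ConnectedSpace R.subscheme]
    (hRunion : ∀ x ∈ (R.support : Set C), ∃ Z : C.IdealSheafData, IsIntegral Z.subscheme ∧
      topologicalKrullDim (Z.support : Set C) = 1 ∧ (Z.support : Set C) ⊆ R.support ∧ x ∈ (Z.support : Set C))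
    (hgg : ∀ Z : C.IdealSheafData, IsIntegral Z.subscheme → topologicalKrullDim (Z.support : Set C) = 1 →
      ¬ ((Z.support : Set C) ⊆ R.support) → Curv2.IsGloballyGenerated ((Scheme.Modules.pullback Z.subschemeι).obj F)) :
    letI : R.subscheme.Over (Spec (CommRingCat.of k)) := ⟨R.subschemeι ≫ (C ↘ (Spec (CommRingCat.of k)))⟩
    Module.finrank k (Coh.HH C F 1) =
      Module.finrank k (Coh.HH R.subscheme ((Scheme.Modules.pullback R.subschemeι).obj F) 1) := by
  letI : R.subscheme.Over (Spec (CommRingCat.of k)) := ⟨R.subschemeι ≫ (C ↘ (Spec (CommRingCat.of k)))⟩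
  haveI := CurvLib.isNoetherian k (X := C)
  let T : Set C := {η | NefH1Lib.Subcurve.IsMaxPt η ∧ η ∈ (R.support : Set C)}
  have hclos : ∀ J : C.IdealSheafData, (∀ x ∈ (J.support : Set C), ∃ Z : C.IdealSheafData, IsIntegral Z.subscheme ∧
      topologicalKrullDim (Z.support : Set C) = 1 ∧ (Z.support : Set C) ⊆ J.support ∧ x ∈ (Z.support : Set C)) →
      closure {η : C | NefH1Lib.Subcurve.IsMaxPt η ∧ η ∈ (J.support : Set C)} = (J.support : Set C) := by
    intro J hJ
    refine Set.Subset.antisymm (closure_minimal (fun η h => h.2) J.support.isClosed) fun x hx => ?_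
    obtain ⟨Z, hZi, hZd, hZs, hxZ⟩ := hJ x hx
    haveI := hZi
    obtain ⟨η, hη⟩ : ∃ η, η = Z.subschemeι (genericPoint Z.subscheme) := ⟨_, rfl⟩
    have hsupp : (Z.support : Set C) = closure {η} := by
      rw [IntFunLib.eq_ptIdeal Z, ← hη]
      exact Scheme.IdealSheafData.coe_support_vanishingIdeal _
    have hηmax : NefH1Lib.Subcurve.IsMaxPt η := by
      intro y hy
      by_contra hne
      have hz : ∃ z ∈ closure ({η} : Set C), z ≠ η := by
        by_contra h
        simp only [not_exists, not_and, not_not] at h
        have hs : closure ({η} : Set C) = {η} :=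
          Set.eq_singleton_iff_unique_mem.2 ⟨subset_closure rfl, h⟩
        have h0 : topologicalKrullDim (Z.support : Set C) ≤ 0 :=
          EllSecLib.dim_le_zero_of_closed_points Z.support.isClosed fun w hw => by
            rw [show w = η from h w (hsupp ▸ hw)]
            exact hs ▸ isClosed_closure
        rw [hZd] at h0
        exact absurd h0 (by simp)
      obtain ⟨z, hz, hzne⟩ := hz
      let a : IrreducibleCloseds C := ⟨closure {z}, isIrreducible_singleton.closure, isClosed_closure⟩
      let b : IrreducibleCloseds C := ⟨closure {η}, isIrreducible_singleton.closure, isClosed_closure⟩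
      let c : IrreducibleCloseds C := ⟨closure {y}, isIrreducible_singleton.closure, isClosed_closure⟩
      have hlt : ∀ (p q : C), q ⤳ p → p ≠ q →
          (⟨closure {p}, isIrreducible_singleton.closure, isClosed_closure⟩ : IrreducibleCloseds C) <
            ⟨closure {q}, isIrreducible_singleton.closure, isClosed_closure⟩ := fun p q hqp hpq => by
        refine lt_of_le_of_ne (show closure ({p} : Set C) ⊆ closure {q} from hqp.closure_subset) fun h => hpq ?_
        exact (inseparable_iff_closure_eq.mpr (congrArg (fun c : IrreducibleCloseds C => (c : Set C)) h)).eq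
      have hab : a < b := hlt z η (specializes_iff_mem_closure.2 hz) hzne
      have hbc : b < c := hlt η y hy (Ne.symm hne)
      have hlen : ((2 : ℕ) : WithBot ℕ∞) ≤ topologicalKrullDim C :=
        Order.LTSeries.length_le_krullDim (⟨2, ![a, b, c], fun i => by
          fin_cases i
          · exact hab
          · exact hbc⟩ : LTSeries (IrreducibleCloseds C))
      rw [hdim] at hlen
      exact absurd (show (2 : ℕ) ≤ 1 by exact_mod_cast hlen) (by omega)
    have hmem : η ∈ {η : C | NefH1Lib.Subcurve.IsMaxPt η ∧ η ∈ (J.support : Set C)} :=
      And.intro hηmax (hZs (hsupp ▸ subset_closure rfl))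
    exact closure_mono (Set.singleton_subset_iff.2 hmem) (hsupp ▸ hxZ)
  have hT : closure T = (R.support : Set C) := hclos R hRunion
  have eR : R = NefH1Lib.Subcurve.sub T :=
    (EllSecLib.eq_vanishingIdeal R).trans (congrArg Scheme.IdealSheafData.vanishingIdeal (Closeds.ext hT.symm))
  have hconn : _root_.IsConnected (closure T) := by
    rw [hT, ← R.range_subschemeι]
    exact isConnected_range R.subschemeι.continuous
  have hgg' : ∀ η : C, NefH1Lib.Subcurve.IsMaxPt η → η ∉ T → Curv2.IsGloballyGenerated
      ((Scheme.Modules.pullback (NefH1Lib.Subcurve.sub ({η} : Set C)).subschemeι).obj F) := by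
    intro η hη hηT
    refine hgg _ (AmpleDevLib.isIntegral_vanishingIdeal _ isIrreducible_singleton.closure) ?_ fun h => hηT ⟨hη, h ?_⟩
    · rw [NefH1Lib.Subcurve.support_sub]
      exact_mod_cast NefH1Lib.Subcurve.equidim k hdim _ (NefH1Lib.Subcurve.closure_mem_components hη)
    · rw [NefH1Lib.Subcurve.support_sub]
      exact subset_closure rfl
  have h := EllSecLib.subsingleton_h1_grow k hdim.le hg hF _ T (fun η hη => hη.1) rfl hconn hgg'
  rw [← eR] at h
  exact EllSecLib.hh_one_eq_of_ideal k hdim.le hF R h

end Groth.Agent.S15917
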