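import Groth.Statements.S15918
import Groth.Agent.EllSecLib.TreeSeq
import Groth.Agent.IntFunLib.NList
import Groth.Agent.NefH1Lib.Subcurve.Main

set_option autoImplicit false
set_option backward.isDefEq.respectTransparency false
set_option backward.isDefEq.respectTransparency.types false
set_option maxHeartbeats 1000000
universe u
open CategoryTheory CategoryTheory.Limits AlgebraicGeometry TopologicalSpace
open Curves

namespace Groth.Agent.S15918

/-- Let k be an algebraically closed field of characteristic zero and C a rational tree over k: a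
connected, reduced scheme, proper over k of dimension one, with at-worst-nodal singularities and
H¹(C, O_C) = 0. Let F be a finite locally free O_C-module. Suppose C = C_1 ∪ C_2 with C_1, C_2
reduced closed subschemes whose supports are unions of irreducible components of C having no
irreducible component in common, and let P = C_1 ∩ C_2 be the finite set of nodes where they meet,
taken as a reduced closed subscheme of C_1 with ideal I_P. If H¹(C_1, F|_{C_1} ⊗ I_P) = 0 then h¹(C,
F) = h¹(C_2, F|_{C_2}). -/
theorem result (k : Type u) [Field k] [IsAlgClosed k] [CharZero k]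
    (C : Scheme.{u}) [C.Over (Spec (CommRingCat.of k))] [IsProper (C ↘ (Spec (CommRingCat.of k)))] [IsReduced C] [ConnectedSpace C]
    (hdim : topologicalKrullDim C = 1) (hnodal : Curv2.AtWorstNodal k C)
    (hg : Subsingleton (Coh.HH C (Coh.structureModule C) 1))
    (F : C.Modules) (hF : FlatMod.IsFinLocFree F)
    (C₁ C₂ : C.IdealSheafData) [IsReduced C₁.subscheme] [IsReduced C₂.subscheme]
    (hunion₁ : ∀ x ∈ (C₁.support : Set C), ∃ Z : C.IdealSheafData, IsIntegral Z.subscheme ∧
      topologicalKrullDim (Z.support : Set C) = 1 ∧ (Z.support : Set C) ⊆ C₁.support ∧ x ∈ (Z.support : Set C))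
    (hunion₂ : ∀ x ∈ (C₂.support : Set C), ∃ Z : C.IdealSheafData, IsIntegral Z.subscheme ∧
      topologicalKrullDim (Z.support : Set C) = 1 ∧ (Z.support : Set C) ⊆ C₂.support ∧ x ∈ (Z.support : Set C))
    (hcover : (C₁.support : Set C) ∪ C₂.support = Set.univ)
    (hnocommon : ∀ Z : C.IdealSheafData, IsIntegral Z.subscheme → topologicalKrullDim (Z.support : Set C) = 1 →
      ¬ ((Z.support : Set C) ⊆ C₁.support ∧ (Z.support : Set C) ⊆ C₂.support))
    (P : C₁.subscheme.IdealSheafData) [IsReduced P.subscheme]
    (hP : ∀ x : C₁.subscheme, x ∈ (P.support : Set C₁.subscheme) ↔ C₁.subschemeι x ∈ (C₂.support : Set C))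
    (hvan : Subsingleton (Coh.HH C₁.subscheme
        (CohB1.tensorMod ((Scheme.Modules.pullback C₁.subschemeι).obj F) (ClSub.idealMod P)) 1)) :
    letI : C₂.subscheme.Over (Spec (CommRingCat.of k)) := ⟨C₂.subschemeι ≫ (C ↘ (Spec (CommRingCat.of k)))⟩
    Module.finrank k (Coh.HH C F 1) =
      Module.finrank k (Coh.HH C₂.subscheme ((Scheme.Modules.pullback C₂.subschemeι).obj F) 1) := by
  letI : C₂.subscheme.Over (Spec (CommRingCat.of k)) := ⟨C₂.subschemeι ≫ (C ↘ (Spec (CommRingCat.of k)))⟩
  haveI := CurvLib.isNoetherian k (X := C)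
  let T : Set C := {η | NefH1Lib.Subcurve.IsMaxPt η ∧ η ∈ (C₁.support : Set C)}
  let B : Set C := {η | NefH1Lib.Subcurve.IsMaxPt η ∧ η ∈ (C₂.support : Set C)}
  have hclos : ∀ J : C.IdealSheafData, (∀ x ∈ (J.support : Set C), ∃ Z : C.IdealSheafData, IsIntegral Z.subscheme ∧
      topologicalKrullDim (Z.support : Set C) = 1 ∧ (Z.support : Set C) ⊆ J.support ∧ x ∈ (Z.support : Set C)) →
      closure {η : C | NefH1Lib.Subcurve.IsMaxPt η ∧ η ∈ (J.support : Set C)} = (J.support : Set C) := by
    intro J hJ
    refine Set.Subset.antisymm (closure_minimal (fun η h => h.2) J.support.isClosed) fun x hx => ?_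
    obtain ⟨Z, hZi, hZd, hZs, hxZ⟩ := hJ x hx
    haveI := hZi
    obtain ⟨η, hη⟩ : ∃ η, η = Z.subschemeι (genericPoint Z.subscheme) := ⟨_, rfl⟩
    have hsupp : (Z.support : Set C) = closure {η} := by
      rw [IntFunLib.eq_ptIdeal Z, ← hη]
      exact Scheme.IdealSheafData.coe_support_vanishingIdeal _
    have hηmax : NefH1Lib.Subcurve.IsMaxPt η := by
      intro y hy
      by_contra hne
      have hz : ∃ z ∈ closure ({η} : Set C), z ≠ η := by
        by_contra h
        simp only [not_exists, not_and, not_not] at h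
        have hs : closure ({η} : Set C) = {η} :=
          Set.eq_singleton_iff_unique_mem.2 ⟨subset_closure rfl, h⟩
        have h0 : topologicalKrullDim (Z.support : Set C) ≤ 0 :=
          EllSecLib.dim_le_zero_of_closed_points Z.support.isClosed fun w hw => by
            rw [show w = η from h w (hsupp ▸ hw)]
            exact hs ▸ isClosed_closure
        rw [hZd] at h0
        exact absurd h0 (by simp)
      obtain ⟨z, hz, hzne⟩ := hz
      let a : IrreducibleCloseds C := ⟨closure {z}, isIrreducible_singleton.closure, isClosed_closure⟩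
      let b : IrreducibleCloseds C := ⟨closure {η}, isIrreducible_singleton.closure, isClosed_closure⟩
      let c : IrreducibleCloseds C := ⟨closure {y}, isIrreducible_singleton.closure, isClosed_closure⟩
      have hlt : ∀ (p q : C), q ⤳ p → p ≠ q →
          (⟨closure {p}, isIrreducible_singleton.closure, isClosed_closure⟩ : IrreducibleCloseds C) <
            ⟨closure {q}, isIrreducible_singleton.closure, isClosed_closure⟩ := fun p q hqp hpq => by
        refine lt_of_le_of_ne (show closure ({p} : Set C) ⊆ closure {q} from hqp.closure_subset) fun h => hpq ?_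
        exact (inseparable_iff_closure_eq.mpr (congrArg (fun c : IrreducibleCloseds C => (c : Set C)) h)).eq
      have hab : a < b := hlt z η (specializes_iff_mem_closure.2 hz) hzne
      have hbc : b < c := hlt η y hy (Ne.symm hne)
      have hlen : ((2 : ℕ) : WithBot ℕ∞) ≤ topologicalKrullDim C :=
        Order.LTSeries.length_le_krullDim (⟨2, ![a, b, c], fun i => by
          fin_cases i
          · exact hab
          · exact hbc⟩ : LTSeries (IrreducibleCloseds C))
      rw [hdim] at hlen
      exact absurd (show (2 : ℕ) ≤ 1 by exact_mod_cast hlen) (by omega)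
    have hmem : η ∈ {η : C | NefH1Lib.Subcurve.IsMaxPt η ∧ η ∈ (J.support : Set C)} :=
      And.intro hηmax (hZs (hsupp ▸ subset_closure rfl))
    exact closure_mono (Set.singleton_subset_iff.2 hmem) (hsupp ▸ hxZ)
  have hT : closure T = (C₁.support : Set C) := hclos C₁ hunion₁
  have hB : closure B = (C₂.support : Set C) := hclos C₂ hunion₂
  have hsep : ∀ η : C, NefH1Lib.Subcurve.IsMaxPt η → η ∈ (C₁.support : Set C) → η ∈ (C₂.support : Set C) → False := by
    intro η hη h1 h2
    have hZ : IsIntegral (Scheme.IdealSheafData.vanishingIdeal ⟨closure ({η} : Set C), isClosed_closure⟩).subscheme :=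
      AmpleDevLib.isIntegral_vanishingIdeal _ isIrreducible_singleton.closure
    have hd := NefH1Lib.Subcurve.equidim k hdim _ (NefH1Lib.Subcurve.closure_mem_components hη)
    refine hnocommon _ hZ ?_ ?_
    · rw [Scheme.IdealSheafData.coe_support_vanishingIdeal]
      exact_mod_cast hd
    · rw [Scheme.IdealSheafData.coe_support_vanishingIdeal]
      exact ⟨closure_minimal (Set.singleton_subset_iff.2 h1) C₁.support.isClosed,
        closure_minimal (Set.singleton_subset_iff.2 h2) C₂.support.isClosed⟩
  have e₁ : C₁ = NefH1Lib.Subcurve.sub T :=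
    (EllSecLib.eq_vanishingIdeal C₁).trans (congrArg Scheme.IdealSheafData.vanishingIdeal (Closeds.ext hT.symm))
  have e₂ : C₂ = NefH1Lib.Subcurve.sub B :=
    (EllSecLib.eq_vanishingIdeal C₂).trans (congrArg Scheme.IdealSheafData.vanishingIdeal (Closeds.ext hB.symm))
  haveI : IsReduced (C₁ ⊔ C₂).subscheme := by
    rw [e₁, e₂]
    exact NodalLib.isReduced_inter k hnodal (fun η h h' => hsep η h.1 h.2 (hB ▸ h'))
      (fun η h h' => hsep η h.1 (hT ▸ h') h.2) (by rw [hT, hB]; exact hcover)
  have hinf : C₁ ⊓ C₂ = ⊥ := by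
    rw [EllSecLib.eq_vanishingIdeal C₁, EllSecLib.eq_vanishingIdeal C₂, ← Scheme.IdealSheafData.vanishingIdeal_sup,
      show C₁.support ⊔ C₂.support = ⊤ from Closeds.ext hcover, Scheme.IdealSheafData.vanishingIdeal_top,
      Scheme.nilradical_eq_bot]
  have hker : (P.subschemeι ≫ C₁.subschemeι).ker = C₁ ⊔ C₂ := by
    rw [EllSecLib.eq_vanishingIdeal (C₁ ⊔ C₂), Scheme.IdealSheafData.support_sup]
    refine le_antisymm (Scheme.IdealSheafData.le_support_iff_le_vanishingIdeal.1 fun x hx => ?_)
      (AmpleDevLib.vanishingIdeal_le_ker_of_range _ _ ?_)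
    · show x ∈ ((P.subschemeι ≫ C₁.subschemeι).ker.support : Set C)
      rw [Scheme.Hom.support_ker]
      obtain ⟨y, rfl⟩ := C₁.range_subschemeι.ge hx.1
      obtain ⟨z, rfl⟩ := P.range_subschemeι.ge ((hP y).2 hx.2)
      exact subset_closure ⟨z, rfl⟩
    · rintro _ ⟨z, rfl⟩
      exact ⟨C₁.range_subschemeι.le ⟨_, rfl⟩, (hP _).1 (P.range_subschemeι.le ⟨z, rfl⟩)⟩
  exact EllSecLib.hh_one_eq_of_pieces C₁ C₂ P k hdim.le hF hker hinf hvan

end Groth.Agent.S15918
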