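import Groth.Statements.S15920
import Groth.Agent.ModifLib.Leray
import Groth.Agent.GenusPushLib.Main
import Groth.Agent.ProjFormLib.Proj
import Groth.Agent.IntFunLib.Push
import Groth.Agent.FormalCohLib.Counit
import Groth.Agent.RatModLib.VanBasic
import Groth.Agent.NefH1Lib.Adjunction.GorCurve

set_option autoImplicit false
set_option backward.isDefEq.respectTransparency false
set_option backward.isDefEq.respectTransparency.types false
set_option maxHeartbeats 1000000
universe u
open CategoryTheory CategoryTheory.Limits AlgebraicGeometry TopologicalSpace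
open Curves

namespace Groth.Agent.S15920

/-- Let k be an algebraically closed field of characteristic zero; a rational tree over k is a
connected, reduced scheme, proper over k of dimension one, with at-worst-nodal singularities and
H¹(O) = 0. Let C be a rational tree, p ∈ C a node, and π : C' → C the total transform of C at p: C'
is a rational tree, π is a morphism over k restricting to an isomorphism over C ∖ {p}, and the fibre
π⁻¹(p) is, as a set, a closed subscheme E of C' isomorphic to P¹_k over k (the exceptional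
component). Then for every finite locally free O_C-module F and i = 0, 1 one has h^i(C, F) = h^i(C',
π^*F). -/
theorem result (k : Type u) [Field k] [IsAlgClosed k] [CharZero k]
    (C : Scheme.{u}) [C.Over (Spec (CommRingCat.of k))] [IsProper (C ↘ (Spec (CommRingCat.of k)))] [IsReduced C] [ConnectedSpace C] (hdim : topologicalKrullDim C = 1) (hnodal : Curv2.AtWorstNodal k C)
    (hg : Subsingleton (Coh.HH C (Coh.structureModule C) 1))
    (C' : Scheme.{u}) [C'.Over (Spec (CommRingCat.of k))] [IsProper (C' ↘ (Spec (CommRingCat.of k)))] [IsReduced C'] [ConnectedSpace C'] (hdim' : topologicalKrullDim C' = 1) (hnodal' : Curv2.AtWorstNodal k C')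
    (hg' : Subsingleton (Coh.HH C' (Coh.structureModule C') 1))
    (p : C) (hp : Curv2.IsNode k C p) (hpc : IsClosed ({p} : Set C))
    (π : C' ⟶ C) (hπ : π ≫ (C ↘ (Spec (CommRingCat.of k))) = C' ↘ (Spec (CommRingCat.of k)))
    (hiso : IsIso (π ∣_ (⟨({p} : Set C)ᶜ, hpc.isOpen_compl⟩ : C.Opens)))
    (E : C'.IdealSheafData) (e : E.subscheme ≅ CohB1.ProjSpace 1 k)
    (he : e.hom ≫ CohB1.ProjSpace.toSpec 1 k = E.subschemeι ≫ (C' ↘ (Spec (CommRingCat.of k))))
    (hfib : ∀ x : C', π x = p ↔ x ∈ (E.support : Set C'))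
    (F : C.Modules) (hF : FlatMod.IsFinLocFree F) :
    Module.finrank k (Coh.HH C F 0) = Module.finrank k (Coh.HH C' ((Scheme.Modules.pullback π).obj F) 0) ∧
      Module.finrank k (Coh.HH C F 1) = Module.finrank k (Coh.HH C' ((Scheme.Modules.pullback π).obj F) 1) := by
  haveI := CurvLib.isNoetherian k (X := C)
  haveI := CurvLib.isNoetherian k (X := C')
  haveI : EnoughInjectives C'.Modules := IsGrothendieckAbelian.enoughInjectives.{u}
  haveI : IsProper π := by
    haveI : IsProper (π ≫ (C ↘ Spec (CommRingCat.of k))) := by rw [hπ]; infer_instance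
    exact IsProper.of_comp π (C ↘ Spec (CommRingCat.of k))
  let U : C.Opens := ⟨({p} : Set C)ᶜ, hpc.isOpen_compl⟩
  haveI : IsIso (π ∣_ U) := hiso
  have hd1 : topologicalKrullDim C ≤ ((1 : ℕ) : WithBot ℕ∞) := by simpa using hdim.le
  have hvan : ∀ G : C.Modules, Subsingleton (Coh.HH C G 2) := fun G =>
    CurvLib.subsingleton_HH_of_dim_le G hd1 2 (by omega)
  have hU : Dense (U : Set C) := by
    intro y
    obtain ⟨η, hη, hy⟩ := NefH1Lib.Subcurve.exists_maxPt y
    have hηp : η ∈ (U : Set C) := fun h => by
      have h' : η = p := h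
      subst h'
      have h2 := NefH1Lib.Subcurve.equidim k hdim _ (NefH1Lib.Subcurve.closure_mem_components hη)
      rw [hpc.closure_eq] at h2
      have h3 := topologicalKrullDim_zero_of_discreteTopology ({η} : Set C)
      rw [h2] at h3
      exact absurd h3 (not_le.mpr zero_lt_one)
    exact closure_mono (Set.singleton_subset_iff.mpr hηp) (specializes_iff_mem_closure.mp hy)
  let O' := Coh.structureModule C'
  haveI : Coh.IsQCoh O' := QCohLib.isQCoh_unit
  let P := (Coh.push π).obj O'
  let φ : Coh.structureModule C ⟶ P := ClSub.unitToPush π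
  have hO := DevissLib.isCoh_structureModule C
  have hP : Coh.IsCoh P := FormalCohLib.isCoh_push_proper π (DevissLib.isCoh_structureModule C')
  -- the low Leray sequence
  have hL := fun G : C'.Modules => ModifLib.length_leray (A := k) π hπ G (hvan _)
  have hPR := hL O'
  haveI := hg
  haveI := hg'
  rw [Module.length_eq_zero_iff.mpr hg', eq_comm, add_eq_zero, Module.length_eq_zero_iff,
    Module.length_eq_zero_iff] at hPR
  obtain ⟨hP1, hR0⟩ := hPR
  have hP0 : Module.finrank k (Coh.HH C P 0) = 1 :=
    (ModifLib.pH0 π hπ O').finrank_eq.trans (NefH1Lib.Adj.finrank_h0 k)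
  haveI : Mono φ := GenusPushLib.mono_unit π U hU
  let S : ShortComplex C.Modules := ShortComplex.mk φ (cokernel.π φ) (cokernel.condition φ)
  have hS : S.ShortExact :=
    { exact := ShortComplex.exact_cokernel φ, mono_f := inferInstanceAs (Mono φ)
      epi_g := inferInstanceAs (Epi (cokernel.π φ)) }
  have hQ : Coh.IsCoh (cokernel φ) := QCohLib.isCoh_cokernel φ hO.1 hP
  have hQd : topologicalKrullDim (CohB1.support (cokernel φ)) ≤ 0 :=
    GenusPushLib.dim_le_zero_of_disjoint (by simpa using hdim.le) U.isOpen hU (QCohLib.isClosed_support _ hQ.2)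
      fun y hy hyU => GenusPushLib.notMem_support_cokernel_unit π U hyU hy
  have hχ := CurvLib.euler_add_of_isCoh (k := k) hS hO hP hQ
  change Curv2.euler k C P = Curv2.euler k C (Coh.structureModule C) + Curv2.euler k C (cokernel φ) at hχ
  rw [CurvLib.euler_eq_sub (k := k) fun n hn => CurvLib.subsingleton_HH_of_dim_le _ hd1 n (by omega),
    CurvLib.euler_eq_sub (k := k) (M := Coh.structureModule C)
      fun n hn => CurvLib.subsingleton_HH_of_dim_le _ hd1 n (by omega),
    CurvLib.euler_eq_h0 (k := k) hQ hQd, hP0, NefH1Lib.Adj.finrank_h0 k,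
    Module.finrank_zero_of_subsingleton (M := Coh.HH C (Coh.structureModule C) 1)] at hχ
  haveI := hP1
  rw [Module.finrank_zero_of_subsingleton (M := Coh.HH C P 1)] at hχ
  have hfin : ∀ (M : C.Modules), CohB1.support M ⊆ ({p} : Set C) → Subsingleton (Coh.HH C M 0) → IsZero M :=
    fun M hM h0 => RatModLib.isZero_of_finite_support M ((Set.finite_singleton p).subset hM)
      (fun x hx => (Set.mem_singleton_iff.mp (hM hx)) ▸ hpc)
      (DegPullLib.e0 M).symm.injective.subsingleton
  have hQ0 : IsZero (cokernel φ) := by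
    refine hfin _ (fun y hy => by_contra fun hyp => GenusPushLib.notMem_support_cokernel_unit π U hyp hy) ?_
    haveI := CurvLib.finite_HH (k := k) hQ 0
    exact (Module.finrank_zero_iff (R := k)).mp (by omega)
  haveI : Epi φ := Abelian.epi_of_cokernel_π_eq_zero _ (hQ0.eq_of_tgt _ _)
  haveI : IsIso φ := isIso_of_mono_of_epi φ
  have hR : IsZero ((Coh.Rpush π 1).obj O') := by
    refine hfin _ (fun y hy => by_contra fun hyp => ?_) hR0
    refine IntFunLib.notMem_support_rpush_of_finite π (DevissLib.isCoh_structureModule C') y ?_ 0 hy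
    refine Set.Finite.inter_of_right ?_ _
    refine (Set.Subsingleton.finite fun a ha b hb => ?_)
    have hmem : ∀ c : C', π c = y → c ∈ π ⁻¹ᵁ U := fun c hc => by
      show π c ∈ (U : Set C)
      rw [hc]; exact hyp
    have hinj : Function.Injective (π ∣_ U) := (π ∣_ U).homeomorph.injective
    have h := hinj (a₁ := ⟨a, hmem a ha⟩) (a₂ := ⟨b, hmem b hb⟩)
      (Subtype.ext ((morphismRestrict_base_coe π U ⟨a, hmem a ha⟩).trans
        ((ha.trans hb.symm).trans (morphismRestrict_base_coe π U ⟨b, hmem b hb⟩).symm)))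
    exact congrArg Subtype.val h
  -- the projection formula
  let F' := (Scheme.Modules.pullback π).obj F
  let u' : CohB1.tensorMod F' O' ≅ F' := KFlatLib.tensSwap O' F' ≪≫ KFlatLib.tensUnitIso F'
  let u : CohB1.tensorMod F (Coh.structureModule C) ≅ F :=
    KFlatLib.tensSwap (Coh.structureModule C) F ≪≫ KFlatLib.tensUnitIso F
  let pr := @asIso _ _ _ _ (_root_.ProjFormLib.projApp π F O') (_root_.ProjFormLib.isIso_projApp π hF O')
  let e : (Coh.push π).obj F' ≅ F :=
    (Coh.push π).mapIso u'.symm ≪≫ pr.symm ≪≫ (_root_.ProjFormLib.tF F).mapIso (asIso φ).symm ≪≫ u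
  have hR' : IsZero ((Coh.Rpush π 1).obj F') := by
    obtain ⟨i⟩ := _root_.ProjFormLib.nonempty_projection_formula π F hF O' 1
    haveI := _root_.ProjFormLib.preservesHomology_tens hF
    exact (((_root_.ProjFormLib.tF F).map_isZero hR).of_iso i.symm).of_iso ((Coh.Rpush π 1).mapIso u'.symm)
  refine ⟨((ModifLib.pH0 π hπ F').symm.trans (ModifLib.hLIso (A := k) e 0)).finrank_eq.symm, ?_⟩
  have h1 := hL F'
  haveI : Subsingleton (Coh.HH C ((Coh.Rpush π 1).obj F') 0) :=
    CurveDualModLib.subsingleton_H0_of_isZero hR'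
  rw [Module.length_eq_zero_iff.mpr ‹Subsingleton (Coh.HH C ((Coh.Rpush π 1).obj F') 0)›, add_zero,
    (ModifLib.hLIso (A := k) e 1).length_eq] at h1
  rw [Module.length_eq_rank, Module.length_eq_rank] at h1
  exact (congrArg ENat.toNat h1).symm.trans rfl

end Groth.Agent.S15920
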