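import Groth.Statements.S15922
import Groth.Agent.SepNodeLib.PointIdeal
import Groth.Agent.SurfExtLib.CBGeom

set_option autoImplicit false
universe u
open CategoryTheory CategoryTheory.Limits AlgebraicGeometry
open Curves

namespace Groth.Agent.S15922

/-- Let k be an algebraically closed field, X a curve over k (proper over k, reduced, connected, every
irreducible component of dimension one) and P a closed point of X, with m_P the ideal sheaf of the
reduced point P viewed as an O_X-module. Then m_P is a torsion-free sheaf of rank one and degree -1: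
regular elements of each local ring O_{X,x} act injectively on the stalk of m_P at x, the stalk at
every generic point of an irreducible component has dimension one over the local ring there, and
χ(X, m_P) - χ(X, O_X) = -1. -/
theorem result (k : Type u) [Field k] [IsAlgClosed k] (X : Scheme.{u}) [X.Over (Spec (CommRingCat.of k))] [IsProper (X ↘ (Spec (CommRingCat.of k)))] [IsReduced X] [ConnectedSpace X]
    (hequi : ∀ Z ∈ irreducibleComponents (X : Type u), topologicalKrullDim Z = 1)
    (P : X) (hP : IsClosed ({P} : Set X)) :
    TorSh.IsTorsionFree (ClSub.idealMod (Scheme.IdealSheafData.vanishingIdeal ⟨{P}, hP⟩)) ∧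
    (∀ η : X, closure ({η} : Set X) ∈ irreducibleComponents (X : Type u) →
      Module.finrank (X.presheaf.stalk η) ((ClSub.idealMod (Scheme.IdealSheafData.vanishingIdeal ⟨{P}, hP⟩)).presheaf.stalk η) = 1) ∧
    Curv2.deg k X (ClSub.idealMod (Scheme.IdealSheafData.vanishingIdeal ⟨{P}, hP⟩)) 1 = -1 := by
  haveI := CurvLib.isNoetherian k (X := X)
  refine ⟨?_, fun η hη => ?_, ?_⟩
  · exact SepNodeLib.isTorsionFree_ptIdeal hP
  · refine SepNodeLib.finrank_stalk_of_ne hP fun h => ?_
    subst h
    have h1 := hequi _ hη
    rw [hP.closure_eq] at h1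
    have h0 : topologicalKrullDim (({η} : Set X)) ≤ 0 := topologicalKrullDim_zero_of_discreteTopology _
    rw [h1] at h0
    exact absurd h0 (by decide)
  · have h2 := CurvLib.euler_add_of_isCoh (k := k) (S := CurvLib.idealSeq (GenusZeroLib.ptIdeal hP)) (CurvLib.idealSeq_shortExact _)
      (SurfExtLib.isCoh_idealMod _) (DevissLib.isCoh_structureModule X) (CurvLib.isCoh_quotMod _)
    change Curv2.euler k X (Coh.structureModule X) = Curv2.euler k X (ClSub.idealMod (GenusZeroLib.ptIdeal hP)) + Curv2.euler k X (ClSub.quotMod (GenusZeroLib.ptIdeal hP)) at h2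
    rw [SepNodeLib.euler_quotMod_ptIdeal] at h2
    simp only [Curv2.deg]
    rw [show (Scheme.IdealSheafData.vanishingIdeal ⟨{P}, hP⟩ : X.IdealSheafData) = GenusZeroLib.ptIdeal hP from rfl]
    push_cast
    omega

end Groth.Agent.S15922
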