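import Groth.Statements.S15923
import Groth.Agent.SepNodeLib.PointIdeal
import Groth.Agent.DepthLib.GeomRk
import Groth.Agent.SmoothCritLib.Point
import Groth.Agent.MultiPtLib.Point
import Groth.Agent.CommAlgDim.Regular

set_option autoImplicit false
universe u
open CategoryTheory CategoryTheory.Limits AlgebraicGeometry
open Curves

namespace Groth.Agent.S15923

/-- Let k be an algebraically closed field, X a curve over k (proper over k, reduced, connected, every
irreducible component of dimension one) and P a closed point of X, with m_P the ideal sheaf of the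
reduced point P as an O_X-module. Then m_P is invertible (locally on X isomorphic to the structure
sheaf) exactly when some open neighbourhood of P is smooth over k. -/
theorem result (k : Type u) [Field k] [IsAlgClosed k] (X : Scheme.{u}) [X.Over (Spec (CommRingCat.of k))] [IsProper (X ↘ (Spec (CommRingCat.of k)))] [IsReduced X] [ConnectedSpace X]
    (hequi : ∀ Z ∈ irreducibleComponents (X : Type u), topologicalKrullDim Z = 1)
    (P : X) (hP : IsClosed ({P} : Set X)) :
    PicF.IsInvertible (ClSub.idealMod (Scheme.IdealSheafData.vanishingIdeal ⟨{P}, hP⟩)) ↔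
      ∃ U : X.Opens, P ∈ U ∧ Smooth (U.ι ≫ (X ↘ (Spec (CommRingCat.of k)))) := by
  haveI := CurvLib.isNoetherian k (X := X)
  have hrs := DepthLib.regular_of_smooth_and_conversely (X ↘ Spec (CommRingCat.of k)) P
  rw [SmoothCritLib.exists_smooth_nhd_iff]
  let A := X.presheaf.stalk P
  have hd : ringKrullDim A = 1 := MultiPtLib.dim_stalk X hequi P hP
  constructor
  · intro h
    obtain ⟨g, hg⟩ := SepNodeLib.exists_principal_of_isInvertible hP h
    refine hrs.2 inferInstance ?_
    refine (isRegularLocalRing_iff A).2 (le_antisymm ?_ (ringKrullDim_le_spanFinrank_maximalIdeal A))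
    have h1 := Submodule.spanFinrank_span_le_ncard_of_finite (R := A) (s := ({g} : Set A)) (Set.finite_singleton g)
    rw [Set.ncard_singleton] at h1
    rw [hd, hg]
    exact_mod_cast h1
  · intro h
    haveI := hrs.1 h
    haveI := CommAlgDim.isDomain_of_isRegularLocalRing A
    have hs : (IsLocalRing.maximalIdeal A).spanFinrank = 1 := by
      have h1 := (isRegularLocalRing_iff A).1 inferInstance
      rw [hd] at h1
      exact_mod_cast h1
    obtain ⟨g, hg⟩ : ∃ g, IsLocalRing.maximalIdeal A = Ideal.span {g} := by
      obtain ⟨s, hs1, hs2⟩ := Submodule.FG.exists_span_set_encard_eq_spanFinrank (R := A) (p := IsLocalRing.maximalIdeal A)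
        (IsNoetherian.noetherian _)
      rw [hs, Nat.cast_one, Set.encard_eq_one] at hs1
      obtain ⟨g, rfl⟩ := hs1
      exact ⟨g, hs2.symm⟩
    refine SepNodeLib.isInvertible_of_principal hP g (mem_nonZeroDivisors_of_ne_zero fun h0 => ?_) hg
    rw [h0, Ideal.span_singleton_zero] at hg
    have h1 := ringKrullDim_eq_zero_of_isField (IsLocalRing.isField_iff_maximalIdeal_eq.2 hg)
    rw [hd] at h1
    exact one_ne_zero h1

end Groth.Agent.S15923
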