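import Groth.Statements.S1593
import Groth.Agent.NodalLib.Family
import Groth.Agent.QuotRepLib.Saturate
import Groth.Agent.S0114

set_option autoImplicit false
set_option backward.isDefEq.respectTransparency false
set_option backward.isDefEq.respectTransparency.types false
universe u
open CategoryTheory CategoryTheory.Limits AlgebraicGeometry
open Curves

namespace Groth.Agent.S1593

/-- Being an at-worst-nodal family of curves is étale local on the source: let f : X → S be a morphism
and g_i : U_i → X a jointly surjective family of étale morphisms. If every composite g_i ≫ f is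
at-worst-nodal of relative dimension one, then so is f. -/
theorem result {X S : Scheme.{u}} (f : X ⟶ S) (ι : Type u) (U : ι → Scheme.{u})
    (g : ∀ i, U i ⟶ X) [∀ i, Etale (g i)] (hsurj : ∀ x : X, ∃ i, x ∈ Set.range (g i).base)
    (h : ∀ i, Curv2.IsNodalFamily (g i ≫ f)) : Curv2.IsNodalFamily f := by
  let π := Sigma.desc g
  haveI : Etale π := IsZariskiLocalAtSource.sigmaDesc (P := @Etale) fun i => inferInstance
  haveI : Surjective π := ⟨fun x => by
    obtain ⟨i, y, hy⟩ := hsurj x
    refine ⟨(Sigma.ι U i) y, ?_⟩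
    rw [← Scheme.Hom.comp_apply, Sigma.ι_desc]
    exact hy⟩
  haveI : Flat (π ≫ f) := by
    rw [show π ≫ f = Sigma.desc (fun i => g i ≫ f) from Limits.Sigma.hom_ext _ _ fun i => by simp [π]]
    exact IsZariskiLocalAtSource.sigmaDesc (P := @Flat) fun i => (h i).1
  haveI : LocallyOfFinitePresentation (π ≫ f) := by
    rw [show π ≫ f = Sigma.desc (fun i => g i ≫ f) from Limits.Sigma.hom_ext _ _ fun i => by simp [π]]
    exact IsZariskiLocalAtSource.sigmaDesc (P := @LocallyOfFinitePresentation) fun i => (h i).2.1
  haveI hflat : Flat f := Groth.Agent.QuotRep.flat_of_comp_surjective π f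
  haveI hlfp : LocallyOfFinitePresentation f := Groth.Agent.S0114.result π f
  refine (NodalLib.isNodalFamily_iff _).2 ⟨hflat, hlfp, fun s => ?_⟩
  haveI := NodalLib.locallyOfFiniteType_fiberTo f s
  haveI := fun i => NodalLib.etale_fiberMap (g i) f s
  refine NodalLib.nodalOn_of_etale_surjective (k := S.residueField s) _ (fun i => MoreMor.fiberMap (g i) f s)
    (fun z => ?_) fun i => ?_
  · obtain ⟨i, y, hy⟩ := hsurj (f.fiberι s z)
    have hys : (g i ≫ f) y = s := by
      have hz : f.fiberι s z ∈ f ⁻¹' {s} := by rw [← Scheme.Hom.range_fiberι]; exact ⟨z, rfl⟩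
      rw [Scheme.Hom.comp_apply, hy]
      exact hz
    obtain ⟨w, rfl⟩ : y ∈ Set.range ((g i ≫ f).fiberι s) := by rw [Scheme.Hom.range_fiberι]; exact hys
    refine ⟨i, w, (f.fiberι s).isEmbedding.injective ?_⟩
    rw [← Scheme.Hom.comp_apply, FlatLib.fiberMap_ι, Scheme.Hom.comp_apply]
    exact hy
  · rw [FlatLib.fiberMap_to]
    exact ((NodalLib.isNodalFamily_iff _).1 (h i)).2.2 s

end Groth.Agent.S1593
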