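import Groth.Statements.S15939
import Mathlib


-- import your own Groth.Agent.* helpers here

set_option autoImplicit false
universe u
open CAlg

namespace Groth.Agent.S15939

open Polynomial in
/-- Let κ be a field and A a commutative κ-algebra whose only κ-subalgebras are the image of κ and A
itself, these two being different. Then A is finite-dimensional over κ, and A is isomorphic as a
κ-algebra to the dual numbers over κ, or to κ × κ, or A is a field which is either separable over κ
or isomorphic to κ[X]/(X^p - a) with p the (positive) characteristic of κ and a an element of κ that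
is not a p-th power. (The published statement also records that these four cases exclude one
another; that part is not restated.) -/
theorem result (κ A : Type u) [Field κ] [CommRing A] [Algebra κ A]
    (h : IsSimpleOrder (Subalgebra κ A)) :
    FiniteDimensional κ A ∧
    (Nonempty (A ≃ₐ[κ] DualNumber κ) ∨ Nonempty (A ≃ₐ[κ] (κ × κ)) ∨
      (IsField A ∧ (Algebra.IsSeparable κ A ∨
        ∃ (p : ℕ) (a : κ), p.Prime ∧ CharP κ p ∧ (∀ b : κ, b ^ p ≠ a) ∧
          Nonempty (A ≃ₐ[κ] AdjoinRoot (X ^ p - C a))))) := by
  haveI := h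
  haveI : Nontrivial A := by
    by_contra hA
    rw [not_nontrivial_iff_subsingleton] at hA
    exact (bot_ne_top : (⊥ : Subalgebra κ A) ≠ ⊤) (Subalgebra.ext fun a => by simp [Subsingleton.elim a 0])
  have hgen : ∀ x : A, x ∉ (⊥ : Subalgebra κ A) → Algebra.adjoin κ ({x} : Set A) = ⊤ := fun x hx =>
    ((IsSimpleOrder.eq_bot_or_eq_top _).resolve_left fun h0 => hx (h0 ▸ Algebra.self_mem_adjoin_singleton κ x))
  obtain ⟨x₀, hx₀⟩ : ∃ x : A, x ∉ (⊥ : Subalgebra κ A) := by
    by_contra hcon
    push Not at hcon
    exact (bot_ne_top : (⊥ : Subalgebra κ A) ≠ ⊤) (eq_top_iff.mpr fun a _ => hcon a)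
  have hint : IsIntegral κ x₀ := by
    by_cases h2 : x₀ ^ 2 ∈ (⊥ : Subalgebra κ A)
    · obtain ⟨c, hc⟩ := Algebra.mem_bot.mp h2
      refine ⟨Polynomial.X ^ 2 - Polynomial.C c, Polynomial.monic_X_pow_sub_C c two_ne_zero, ?_⟩
      simp [hc]
    · have hx : x₀ ∈ Algebra.adjoin κ ({x₀ ^ 2} : Set A) := (hgen _ h2).symm ▸ Algebra.mem_top
      rw [Algebra.adjoin_singleton_eq_range_aeval] at hx
      obtain ⟨g, hg⟩ := hx
      have hne : Polynomial.expand κ 2 g - Polynomial.X ≠ 0 := by
        intro h0
        have h1 := congrArg (fun P : Polynomial κ => P.coeff 1) h0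
        simp [Polynomial.coeff_expand two_pos] at h1
      have halg : IsAlgebraic κ x₀ := ⟨_, hne, by
        rw [map_sub, Polynomial.expand_aeval, Polynomial.aeval_X]; exact sub_eq_zero.mpr hg⟩
      exact isAlgebraic_iff_isIntegral.mp halg
  haveI hfin : FiniteDimensional κ A := by
    have h1 := hint.fg_adjoin_singleton
    rw [hgen x₀ hx₀] at h1
    exact Module.finite_def.mpr (by simpa using h1)
  refine ⟨hfin, ?_⟩
  by_cases hnil : ∃ x : A, x ≠ 0 ∧ x * x = 0
  · obtain ⟨x, hx, hxx⟩ := hnil
    left
    have hxb : x ∉ (⊥ : Subalgebra κ A) := fun hb => by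
      obtain ⟨c, rfl⟩ := Algebra.mem_bot.mp hb
      rw [← map_mul] at hxx
      have := (algebraMap κ A).injective (hxx.trans (map_zero _).symm)
      exact hx (by rw [mul_self_eq_zero.mp this, map_zero])
    let φ : DualNumber κ →ₐ[κ] A := DualNumber.lift ⟨(Algebra.ofId κ A, x), hxx, fun c => mul_comm _ _⟩
    have hφe : φ DualNumber.eps = x := DualNumber.lift_apply_eps _
    have hinj : Function.Injective φ := by
      rw [injective_iff_map_eq_zero]
      intro a ha
      have ha' : algebraMap κ A a.fst + algebraMap κ A a.snd * x = 0 := by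
        rw [← hφe, ← φ.commutes, ← φ.commutes, ← map_mul, ← map_add, ← ha]
        congr 1
        ext <;> simp [TrivSqZeroExt.algebraMap_eq_inl]
      have h2 : a.snd = 0 := by
        by_contra h2
        apply hxb
        have : x = algebraMap κ A (-(a.fst) / a.snd) := by
          have h3 : algebraMap κ A a.snd⁻¹ * (algebraMap κ A a.fst + algebraMap κ A a.snd * x) = 0 := by
            rw [ha', mul_zero]
          rw [mul_add, ← mul_assoc, ← map_mul, ← map_mul, inv_mul_cancel₀ h2, map_one, one_mul] at h3
          rw [eq_neg_of_add_eq_zero_right h3, ← map_neg, neg_div, div_eq_inv_mul]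
        rw [this]
        exact Subalgebra.algebraMap_mem _ _
      rw [h2, map_zero, zero_mul, add_zero] at ha'
      exact TrivSqZeroExt.ext ((algebraMap κ A).injective (ha'.trans (map_zero _).symm)) h2
    have hsurj : Function.Surjective φ := by
      rw [← AlgHom.range_eq_top, eq_top_iff, ← hgen x hxb, Algebra.adjoin_le_iff, Set.singleton_subset_iff]
      exact ⟨_, hφe⟩
    exact ⟨(AlgEquiv.ofBijective φ ⟨hinj, hsurj⟩).symm⟩
  push Not at hnil
  haveI : IsReduced A := ⟨fun x hx => by
    by_contra hne
    obtain ⟨n, hn, hn1⟩ : ∃ n, x ^ n ≠ 0 ∧ x ^ (n + 1) = 0 := by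
      obtain ⟨m, hm⟩ := hx
      induction m with
      | zero => exact absurd hm (by simp)
      | succ m ih =>
        by_cases hm0 : x ^ m = 0
        · exact ih hm0
        · exact ⟨m, hm0, hm⟩
    rcases n with _ | n
    · exact hne (by simpa using hn1)
    · exact hnil _ hn (by rw [← pow_add]; exact pow_eq_zero_of_le (by omega) hn1)⟩
  by_cases hF : IsField A
  · right; right
    refine ⟨hF, ?_⟩
    letI := hF.toField
    rcases IsSimpleOrder.eq_bot_or_eq_top (separableClosure κ A).toSubalgebra with hb | ht
    · right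
      haveI hpi : IsPurelyInseparable κ A :=
        separableClosure.eq_bot_iff.mp (IntermediateField.toSubalgebra_injective (by rw [hb, IntermediateField.bot_toSubalgebra]))
      obtain ⟨q, hq⟩ := ExpChar.exists κ
      obtain ⟨n, c, hc⟩ := IsPurelyInseparable.pow_mem κ q x₀
      rcases hq with _ | hp
      · exfalso
        rw [one_pow, pow_one] at hc
        exact hx₀ (Algebra.mem_bot.mpr ⟨c, hc⟩)
      rename_i hCP
      haveI := hCP
      haveI : CharP A q := charP_of_injective_algebraMap (algebraMap κ A).injective q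
      obtain ⟨x, hx, hxp⟩ : ∃ x : A, x ∉ (⊥ : Subalgebra κ A) ∧ x ^ q ∈ (⊥ : Subalgebra κ A) := by
        clear hint
        induction n generalizing x₀ with
        | zero => exact absurd (Algebra.mem_bot.mpr ⟨c, by simpa using hc⟩) hx₀
        | succ n ih =>
          by_cases h1 : x₀ ^ q ∈ (⊥ : Subalgebra κ A)
          · exact ⟨x₀, hx₀, h1⟩
          · exact ih (x₀ ^ q) h1 (by rw [← pow_mul, ← pow_succ']; exact hc)
      obtain ⟨a, ha⟩ := Algebra.mem_bot.mp hxp
      haveI : Fact q.Prime := ⟨hp⟩
      have hna : ∀ b : κ, b ^ q ≠ a := fun b hb => by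
        apply hx
        have h0 : (x - algebraMap κ A b) ^ q = 0 := by
          rw [sub_pow_char, ← map_pow, hb, ha, sub_self]
        rw [sub_eq_zero.mp (eq_zero_of_pow_eq_zero h0)]
        exact Subalgebra.algebraMap_mem _ _
      refine ⟨q, a, hp, hCP, hna, ?_⟩
      have hirr : Irreducible (Polynomial.X ^ q - Polynomial.C a : Polynomial κ) :=
        X_pow_sub_C_irreducible_of_prime hp hna
      haveI : Fact (Irreducible (Polynomial.X ^ q - Polynomial.C a : Polynomial κ)) := ⟨hirr⟩
      let φ : AdjoinRoot (Polynomial.X ^ q - Polynomial.C a : Polynomial κ) →ₐ[κ] A :=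
        AdjoinRoot.liftAlgHom _ (Algebra.ofId κ A) x (by simp [Polynomial.eval₂_sub, Algebra.ofId_apply, ha])
      have hsurj : Function.Surjective φ := by
        rw [← AlgHom.range_eq_top, eq_top_iff, ← hgen x hx, Algebra.adjoin_le_iff, Set.singleton_subset_iff]
        exact ⟨AdjoinRoot.root _, AdjoinRoot.liftAlgHom_root _ _ _ _⟩
      exact ⟨(AlgEquiv.ofBijective φ ⟨φ.toRingHom.injective, hsurj⟩).symm⟩
    · left
      exact (separableClosure.eq_top_iff κ A).mp (IntermediateField.toSubalgebra_injective (by rw [ht, IntermediateField.top_toSubalgebra]))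
  · right; left
    obtain ⟨x, hx0, hxu⟩ := Ring.exists_not_isUnit_of_not_isField hF
    haveI : IsArtinianRing A := IsArtinianRing.of_finite κ A
    obtain ⟨n, hn⟩ := IsArtinian.exists_pow_succ_smul_dvd x (1 : A)
    obtain ⟨y, hy⟩ := hn
    simp only [smul_eq_mul, mul_one] at hy
    have hit : ∀ m : ℕ, x ^ n = x ^ (n + m) * y ^ m := by
      intro m
      induction m with
      | zero => simp
      | succ m ih =>
        calc x ^ n = x ^ (n + m) * y ^ m := ih
          _ = x ^ m * (x ^ n.succ * y) * y ^ m := by rw [hy]; ring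
          _ = x ^ m * (x ^ (n + 1) * y) * y ^ m := rfl
          _ = x ^ (n + (m + 1)) * y ^ (m + 1) := by ring
    let e := x ^ n * y ^ n
    have hee : e * e = e := by
      calc e * e = (x ^ (n + n) * y ^ n) * y ^ n := by simp only [e]; ring
        _ = e := by rw [← hit n]
    have he0 : e ≠ 0 := fun h0 => by
      have : x ^ n = 0 := by rw [hit n, pow_add, mul_assoc]; exact mul_eq_zero_of_right _ h0
      exact hx0 (eq_zero_of_pow_eq_zero this)
    have he1 : e ≠ 1 := fun h1 => by
      rcases n with _ | n
      · exact hxu (IsUnit.of_mul_eq_one (a := x) y (by simpa using hy))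
      · exact hxu (IsUnit.of_mul_eq_one (a := x) (x ^ n * y ^ (n + 1)) (by rw [← h1]; simp only [e]; ring))
    have heb : e ∉ (⊥ : Subalgebra κ A) := fun hb => by
      obtain ⟨c, hc⟩ := Algebra.mem_bot.mp hb
      have : c * c = c := (algebraMap κ A).injective (by rw [map_mul, hc, hee])
      rcases eq_or_ne c 0 with rfl | hc0
      · exact he0 (by rw [← hc, map_zero])
      · rw [mul_eq_left₀ hc0] at this
        exact he1 (by rw [← hc, this, map_one])
    let ψ : (κ × κ) →ₐ[κ] A :=
      { toFun := fun z => algebraMap κ A z.1 * e + algebraMap κ A z.2 * (1 - e)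
        map_one' := by simp
        map_zero' := by simp
        map_add' := fun z w => by simp only [Prod.fst_add, Prod.snd_add, map_add]; ring
        map_mul' := fun z w => by
          simp only [Prod.fst_mul, Prod.snd_mul, map_mul]
          linear_combination (-(algebraMap κ A z.1) * algebraMap κ A w.1 + algebraMap κ A z.1 * algebraMap κ A w.2 +
            algebraMap κ A z.2 * algebraMap κ A w.1 - algebraMap κ A z.2 * algebraMap κ A w.2) * hee
        commutes' := fun c => by
          show algebraMap κ A c * e + algebraMap κ A c * (1 - e) = _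
          ring }
    have hinj : Function.Injective ψ := by
      rw [injective_iff_map_eq_zero]
      rintro ⟨c, d⟩ hz
      have hz' : algebraMap κ A c * e + algebraMap κ A d * (1 - e) = 0 := hz
      have h1 : algebraMap κ A c * e = 0 := by
        linear_combination e * hz' + (algebraMap κ A d - algebraMap κ A c) * hee
      have h2 : algebraMap κ A d * (1 - e) = 0 := by linear_combination hz' - h1
      have hc : c = 0 := by
        by_contra hc
        refine he0 ?_
        have := congrArg (algebraMap κ A c⁻¹ * ·) h1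
        simpa [← mul_assoc, ← map_mul, hc] using this
      have hd : d = 0 := by
        by_contra hd
        refine he1 (sub_eq_zero.mp ?_).symm
        have := congrArg (algebraMap κ A d⁻¹ * ·) h2
        simpa [← mul_assoc, ← map_mul, hd] using this
      rw [hc, hd]; rfl
    have hsurj : Function.Surjective ψ := by
      rw [← AlgHom.range_eq_top, eq_top_iff, ← hgen e heb, Algebra.adjoin_le_iff, Set.singleton_subset_iff]
      exact ⟨(1, 0), by show algebraMap κ A 1 * e + algebraMap κ A 0 * (1 - e) = e; simp⟩
    exact ⟨(AlgEquiv.ofBijective ψ ⟨hinj, hsurj⟩).symm⟩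

end Groth.Agent.S15939
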