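import Groth.Statements.S15941
-- import your own Groth.Agent.* helpers here

set_option autoImplicit false
universe u
open HTop

namespace Groth.Agent.S15941

/-- An integrally closed integral domain is a seminormal ring, that is, whenever x^3 = y^2 there is
exactly one element a with x = a^2 and y = a^3. (The published statement is for a normal Noetherian
scheme and reduces at once to this affine integral case; the Noetherian hypothesis plays no role.) -/
theorem result (A : Type u) [CommRing A] [IsDomain A]
    [IsIntegrallyClosed A] : HTop.IsSeminormalRing A := by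
  intro x y h
  by_cases hx : x = 0
  · subst hx
    have hy : y = 0 := pow_eq_zero_iff two_ne_zero |>.1 (by rw [← h]; simp)
    subst hy
    exact ⟨0, by simp, fun a ha => pow_eq_zero_iff two_ne_zero |>.1 ha.1.symm⟩
  let K := FractionRing A
  have hx' : algebraMap A K x ≠ 0 := (map_ne_zero_iff _ (IsFractionRing.injective A K)).2 hx
  have hsq : (algebraMap A K y / algebraMap A K x) ^ 2 = algebraMap A K x := by
    rw [div_pow, ← map_pow, ← h, map_pow, eq_comm, eq_div_iff (pow_ne_zero 2 hx')]
    ring
  have hint : IsIntegral A (algebraMap A K y / algebraMap A K x) := by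
    refine ⟨Polynomial.X ^ 2 - Polynomial.C x, Polynomial.monic_X_pow_sub_C x two_ne_zero, ?_⟩
    simp [hsq]
  obtain ⟨a, ha⟩ := IsIntegrallyClosed.algebraMap_eq_of_integral hint
  have hax : algebraMap A K (a * x) = algebraMap A K y := by
    rw [map_mul, ha, div_mul_cancel₀ _ hx']
  have hax' : a * x = y := IsFractionRing.injective A K hax
  have ha2 : x = a ^ 2 := IsFractionRing.injective A K (by rw [map_pow, ha, hsq])
  refine ⟨a, ⟨ha2, by rw [← hax']; linear_combination a * ha2⟩, ?_⟩
  rintro b ⟨hb2, hb3⟩
  refine mul_right_cancel₀ hx ?_
  rw [hax', hb3]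
  linear_combination b * hb2

end Groth.Agent.S15941
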