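import Groth.Statements.S15942
import Groth.Agent.NeronExtLib.LocalGlobal
import Mathlib.Topology.KrullDimension

set_option autoImplicit false
universe u
open Neron

namespace Groth.Agent.S15942

open CategoryTheory AlgebraicGeometry in
open CategoryTheory.Limits in
/-- Let S be a Dedekind scheme (integral, Noetherian, separated, of dimension one, with regular local
rings), K its function field with generic point η : Spec K → S, and G → S a smooth separated
S-scheme. Suppose that for every closed point p of S the base change G_p = G ×_S Spec O_{S,p} is a
Néron lft-model of its generic fibre over Spec O_{S,p}: for every smooth scheme Y over Spec O_{S,p},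
restricting to generic fibres is a bijection from morphisms Y → G_p over Spec O_{S,p} onto morphisms
of generic fibres over K. Then G is a Néron lft-model of its generic fibre over S: for every smooth
S-scheme Y, restriction along η is a bijection from S-morphisms Y → G onto K-morphisms Y_η → G_η.
(The published statement is for a smooth separated group scheme; the group structure plays no part
in the property or in its proof and is not assumed here.) -/
theorem result
    {S : Scheme.{u}} [IsIntegral S] [IsNoetherian S] [S.IsSeparated]
    (hreg : ∀ s : S, IsRegularLocalRing (S.presheaf.stalk s)) (hdim : topologicalKrullDim S = 1)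
    (G : Over S) [Smooth G.hom] [IsSeparated G.hom]
    (hloc : ∀ p : S, IsClosed ({p} : Set S) →
      ∀ Y : Over (Spec (S.presheaf.stalk p)), Smooth Y.hom →
        Function.Bijective (fun g : Y ⟶ (Over.pullback (S.fromSpecStalk p)).obj G =>
          (Over.pullback (Spec.map (S.presheaf.stalkSpecializes (genericPoint_specializes p)))).map g)) :
    ∀ Y : Over S, Smooth Y.hom →
      Function.Bijective (fun g : Y ⟶ G => (Over.pullback (S.fromSpecStalk (genericPoint S))).map g) := by
  intro Y hY
  haveI := hY
  haveI : IsLocallyNoetherian Y.left := LocallyOfFiniteType.isLocallyNoetherian Y.hom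
  refine NeronExtLib.bijective_lft G Y (fun y => ?_) fun s ψ hψ => ?_
  · haveI := hreg (Y.hom y)
    exact BlowUpLib.isRegularLocalRing_stalk_of_smooth Y.hom y
  by_cases hs : s = genericPoint S
  · subst hs
    exact ⟨ψ, 𝟙 _, hψ, Category.id_comp _, Category.id_comp _⟩
  have hcl : IsClosed ({s} : Set S) := by
    rw [← closure_subset_iff_isClosed]
    intro s' hs'
    by_contra hne
    let C : S → TopologicalSpace.IrreducibleCloseds S := fun x =>
      ⟨closure {x}, isIrreducible_singleton.closure, isClosed_closure⟩
    have hlt : ∀ x y : S, y ⤳ x → x ≠ y → C x < C y := fun x y h hxy =>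
      lt_of_le_of_ne h.closure_subset fun he => hxy ((Inseparable.eq (inseparable_iff_closure_eq.2
        (congrArg (fun c : TopologicalSpace.IrreducibleCloseds S => (c : Set S)) he))))
    let p : LTSeries (TopologicalSpace.IrreducibleCloseds S) :=
      ((RelSeries.singleton _ (C s')).snoc (C s) (hlt _ _ (specializes_iff_mem_closure.2 hs') hne)).snoc
        (C (genericPoint S)) (by simpa using hlt _ _ (genericPoint_specializes s) hs)
    have h2 : ((2 : ℕ) : WithBot ℕ∞) ≤ topologicalKrullDim S := Order.LTSeries.length_le_krullDim p
    rw [hdim] at h2
    exact absurd h2 (by decide)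
  let js := Spec.map (S.presheaf.stalkSpecializes (genericPoint_specializes s))
  have hj : js ≫ S.fromSpecStalk s = NeronExtLib.gp S := Scheme.SpecMap_stalkSpecializes_fromSpecStalk _
  let Ys := (Over.pullback (S.fromSpecStalk s)).obj Y
  haveI : Smooth Ys.hom := MorphismProperty.pullback_snd (P := @Smooth) _ _ ‹_›
  let e : pullback Ys.hom js ⟶ pullback Y.hom (NeronExtLib.gp S) :=
    pullback.lift (pullback.fst Ys.hom js ≫ pullback.fst Y.hom (S.fromSpecStalk s)) (pullback.snd Ys.hom js) (by
      rw [Category.assoc, pullback.condition, ← Category.assoc, ← hj, ← Category.assoc]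
      exact congrArg (· ≫ S.fromSpecStalk s) pullback.condition)
  obtain ⟨g, hg⟩ := (NeronExtLib.surjective_iff js Ys ((Over.pullback (S.fromSpecStalk s)).obj G)).1
    (hloc s hcl Ys inferInstance).2
    (pullback.lift (e ≫ ψ) (pullback.fst Ys.hom js ≫ Ys.hom) (by
      rw [Category.assoc, hψ, ← Category.assoc, pullback.lift_fst, Category.assoc, Category.assoc]
      exact congrArg (pullback.fst Ys.hom js ≫ ·) pullback.condition))
    (pullback.lift_snd _ _ _)
  let c : pullback Y.hom (NeronExtLib.gp S) ⟶ Ys.left :=
    pullback.lift (pullback.fst Y.hom _) (pullback.snd Y.hom _ ≫ js) (by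
      rw [Category.assoc, hj]; exact pullback.condition)
  refine ⟨g.left ≫ pullback.fst G.hom (S.fromSpecStalk s), c, ?_, pullback.lift_fst _ _ _, ?_⟩
  · rw [Category.assoc, pullback.condition, ← Category.assoc]
    exact (congrArg (· ≫ S.fromSpecStalk s) (Over.w g)).trans pullback.condition.symm
  · let c' : pullback Y.hom (NeronExtLib.gp S) ⟶ pullback Ys.hom js :=
      pullback.lift c (pullback.snd Y.hom _) (pullback.lift_snd _ _ _)
    have hc'e : c' ≫ e = 𝟙 _ := by
      refine pullback.hom_ext ?_ ?_
      · rw [Category.assoc, pullback.lift_fst, ← Category.assoc, pullback.lift_fst, Category.id_comp]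
        exact pullback.lift_fst _ _ _
      · rw [Category.assoc, pullback.lift_snd, pullback.lift_snd, Category.id_comp]
    have := congrArg (fun m => c' ≫ m ≫ pullback.fst G.hom (S.fromSpecStalk s)) hg
    simp only [Category.assoc, pullback.lift_fst] at this
    rw [← Category.assoc c' e, hc'e, Category.id_comp, ← Category.assoc c', pullback.lift_fst] at this
    exact this

end Groth.Agent.S15942
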