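import Groth.Statements.S15944
import Mathlib
import Groth.Agent.PushLib.Over
import Groth.Agent.ProperOverLib.Basic
import Groth.Agent.Thickening.Basic
-- import your own Groth.Agent.* helpers here

set_option autoImplicit false
universe u
open Pinch

namespace Groth.Agent.S15944

open CategoryTheory AlgebraicGeometry in
/-- Let Y be a scheme, f : X → Y a morphism, t : T → Y a scheme affine over Y, ξ : Z → T a morphism with
Z affine over Y via ξ followed by t, and ι : Z → X a closed immersion over Y; assume every point of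
Y has an affine open neighbourhood U together with an affine open V of X inside the preimage of U
containing the image under ι of the part of Z over U; assume moreover that Y is locally Noetherian,
f and t are of finite type and ξ is finite, and let X → P ← T be a push-out of ι and ξ in the
category of schemes, with p : P → Y the induced morphism. Then p is of finite type, and if X and T
are proper over Y then so is P. -/
theorem result {X Y T Z : Scheme.{u}} (f : X ⟶ Y) (t : T ⟶ Y) (ξ : Z ⟶ T) (ι : Z ⟶ X)
    [IsAffineHom t] [IsAffineHom (ξ ≫ t)] [IsClosedImmersion ι] (hsq : ι ≫ f = ξ ≫ t)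
    (hstd : ∀ y : Y, ∃ U : Y.Opens, IsAffineOpen U ∧ y ∈ U ∧ ∃ V : X.Opens, IsAffineOpen V ∧
      V ≤ f ⁻¹ᵁ U ∧ ∀ z : Z, (ξ ≫ t).base z ∈ U → ι.base z ∈ V)
    [IsLocallyNoetherian Y] [LocallyOfFiniteType f] [QuasiCompact f] [LocallyOfFiniteType t] [QuasiCompact t]
    [IsFinite ξ] {P : Scheme.{u}} (a : X ⟶ P) (b : T ⟶ P) (hP : IsPushout ι ξ a b)
    (p : P ⟶ Y) (hap : a ≫ p = f) (hbp : b ≫ p = t) :
    (LocallyOfFiniteType p ∧ QuasiCompact p) ∧ (IsProper f → IsProper t → IsProper p) := by
  have hY : ∀ w : T, ∃ p : PushLib.Nice ι ξ, w ∈ p.V := fun w => by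
    obtain ⟨U, hU, hyU, V, hV, hVU, hz⟩ := hstd (t w)
    refine ⟨⟨V, t ⁻¹ᵁ U, hV, hU.preimage t, ?_⟩, hyU⟩
    refine le_antisymm (fun z hz' => ?_) fun z hz' => hz z hz'
    have e : f (ι z) = t (ξ z) := congrArg (fun g : Z ⟶ Y => g z) hsq
    exact show t (ξ z) ∈ U from e ▸ hVU hz'
  haveI := PushLib.isIntegralHom_of_isPushout hY hP
  haveI := PushLib.isClosedImmersion_of_isPushout hY hP
  haveI : LocallyOfFiniteType (a ≫ p) := hap ▸ inferInstance
  haveI : LocallyOfFiniteType (b ≫ p) := hbp ▸ inferInstance
  have h1 : LocallyOfFiniteType p := PushLib.locallyOfFiniteType hY hP p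
  refine ⟨⟨h1, ⟨fun K hK hKc => ?_⟩⟩, fun hf ht => ?_⟩
  · have hset : p ⁻¹' K = a '' (f ⁻¹' K) ∪ b '' (t ⁻¹' K) := by
      ext w
      constructor
      · intro hw
        rcases PushLib.exists_or hY hP w with ⟨x, rfl⟩ | ⟨y, rfl⟩
        · exact Or.inl ⟨x, by rw [← hap]; exact hw, rfl⟩
        · exact Or.inr ⟨y, by rw [← hbp]; exact hw, rfl⟩
      · rintro (⟨x, hx, rfl⟩ | ⟨y, hy, rfl⟩)
        · rw [← hap] at hx; exact hx
        · rw [← hbp] at hy; exact hy
    rw [hset]
    exact ((QuasiCompact.isCompact_preimage (f := f) K hK hKc).image a.continuous).union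
      ((QuasiCompact.isCompact_preimage (f := t) K hK hKc).image b.continuous)
  · haveI : Surjective (Limits.coprod.desc a b) := PushLib.surjective_desc hY hP
    have hc : Limits.coprod.desc a b ≫ p = Limits.coprod.desc f t := by ext <;> simp [hap, hbp]
    haveI : IsSeparated (Limits.coprod.desc a b ≫ p) := hc ▸ PushLib.isSeparated_coprodDesc f t
    haveI : UniversallyClosed (Limits.coprod.desc a b ≫ p) := hc ▸ PushLib.universallyClosed_coprodDesc f t
    haveI := ProperOverLib.isSeparated_of_comp_surjective (Limits.coprod.desc a b) p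
    haveI : UniversallyClosed p := .of_comp_surjective (Limits.coprod.desc a b) p
    haveI : QuasiCompact p := ⟨fun K hK hKc => by
      have hs := (Limits.coprod.desc a b).surjective
      rw [← Set.image_preimage_eq (p ⁻¹' K) hs]
      haveI : QuasiCompact (Limits.coprod.desc a b ≫ p) := inferInstance
      exact (QuasiCompact.isCompact_preimage (f := Limits.coprod.desc a b ≫ p) K hK hKc).image (Limits.coprod.desc a b).continuous⟩
    constructor

end Groth.Agent.S15944
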