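import Groth.Statements.S15947
import Groth.Agent.PinchChainLib.Sn
-- import your own Groth.Agent.* helpers here

set_option autoImplicit false
set_option backward.isDefEq.respectTransparency false
set_option backward.isDefEq.respectTransparency.types false
universe u
open Curves

namespace Groth.Agent.S15947

open CategoryTheory AlgebraicGeometry in
/-- Let κ be a field, C a reduced scheme of finite type over κ whose irreducible components all have
dimension one, and ς : C' → C a seminormalization of C: C' is seminormal and ς is a universal
homeomorphism inducing isomorphisms on residue fields, initial among such morphisms to C. If C is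
not seminormal, then ς is a finite composite C' = C_0 → C_1 → ⋯ → C_n = C in which each step C_i →
C_{i+1} is the push-out, in the category of schemes, of C_i and Spec κ(x) along a closed immersion
of the dual numbers Spec κ(x)[ε]/(ε²) into C_i, for some closed point x of C_{i+1}. -/
theorem result {κ : Type u} [Field κ] {C C' : Scheme.{u}}
    (g : C ⟶ Spec (CommRingCat.of κ)) [LocallyOfFiniteType g] [QuasiCompact g] [IsReduced C]
    (hdimC : ∀ W ∈ irreducibleComponents (C : Type u), topologicalKrullDim W = 1)
    (hC : ¬ HTop.IsSeminormal C) (ς : C' ⟶ C) (hς : HTop.IsSeminormalization ς) (hC' : HTop.IsSeminormal C') :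
    ∃ (n : ℕ) (F : ComposableArrows Scheme.{u} n) (e : F.left ≅ C') (e' : F.right ≅ C),
      e.inv ≫ F.hom ≫ e'.hom = ς ∧
      ∀ i : Fin n, ∃ (x : F.obj i.succ) (_ : IsClosed ({x} : Set (F.obj i.succ)))
        (j : Spec (CommRingCat.of (DualNumber ((F.obj i.succ).residueField x))) ⟶ F.obj i.castSucc),
        IsClosedImmersion j ∧
        IsPushout j (Spec.map (CommRingCat.ofHom (algebraMap ((F.obj i.succ).residueField x) (DualNumber ((F.obj i.succ).residueField x)))))
          (F.map (homOfLE (Fin.castSucc_lt_succ (i := i)).le)) ((F.obj i.succ).fromSpecResidueField x) := by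
  haveI := SeminormResLib.isReduced_of_isSeminormal hC'
  exact Groth.Agent.PinchChainLib.hasChainDual_of_univHomeo g hdimC ς hς.1.1 hς.1.2

end Groth.Agent.S15947
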