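import Groth.Statements.S15949
import Groth.Agent.A1AVLib.Main
import Groth.Agent.RTrivLib.P1
import Groth.Agent.PicPnLib.BaseChange
import Groth.Agent.ZetaPtsLib.Pn
import Groth.Agent.AlbLib.Albanese
import Groth.Agent.ChevThmLib.DescentGen
import Groth.Agent.AntiAffLib.Basics2
import Groth.Agent.GrpFieldLib.Identity
import Groth.Agent.ChowLib.Embed
-- import your own Groth.Agent.* helpers here

set_option autoImplicit false
universe u
open AlgGrp

namespace Groth.Agent.S15949

section
open CategoryTheory CategoryTheory.Limits MonoidalCategory CartesianMonoidalCategory MonObj GrpObj AlgebraicGeometry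

attribute [-instance] CategoryTheory.Hom.commGroup

set_option backward.isDefEq.respectTransparency false
set_option linter.style.haveILetI false

theorem bij_appTop {K : Type u} [Field K] (P : Over (Spec (CommRingCat.of K))) [IsIntegral P.left] [IsProper P.hom]
    (z : 𝟙_ (Over (Spec (CommRingCat.of K))) ⟶ P) : IsIso P.hom.appTop := by
  rw [ConcreteCategory.isIso_iff_bijective]
  have hF : IsField Γ(P.left, ⊤) := isField_of_universallyClosed K P.hom
  letI := hF.toField
  have h : P.hom.appTop ≫ z.left.appTop = 𝟙 _ := by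
    rw [← Scheme.Hom.comp_appTop, Over.w z]; rfl
  haveI : Nontrivial Γ((𝟙_ (Over (Spec (CommRingCat.of K)))).left, ⊤) :=
    inferInstanceAs (Nontrivial Γ(Spec (CommRingCat.of K), ⊤))
  have h1 : Function.Injective z.left.appTop.hom := z.left.appTop.hom.injective
  refine ⟨fun a b e => ?_, fun c => ⟨z.left.appTop.hom c, h1 ?_⟩⟩
  · have h2 := congrArg z.left.appTop.hom e
    exact ((ConcreteCategory.congr_hom h a).symm.trans h2).trans (ConcreteCategory.congr_hom h b)
  · exact ConcreteCategory.congr_hom h _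

theorem main (K : Type u) [Field K]
    (G : Over (Spec (CommRingCat.of K))) [GrpObj G] [Smooth G.hom]
    (φ : CohB1.ProjSpaceOver 1 (Spec (CommRingCat.of K)) ⟶ G.left)
    (hφ : φ ≫ G.hom = CohB1.ProjSpaceOver.toBase 1 (Spec (CommRingCat.of K))) :
    ∃ g : Spec (CommRingCat.of K) ⟶ G.left, g ≫ G.hom = 𝟙 _ ∧
      φ = CohB1.ProjSpaceOver.toBase 1 (Spec (CommRingCat.of K)) ≫ g := by
  let P : Over (Spec (CommRingCat.of K)) := Over.mk (CohB1.ProjSpaceOver.toBase 1 (Spec (CommRingCat.of K)))
  obtain ⟨j, hj, -⟩ := PicPnLib.exists_square 1 K (𝟙 (Spec (CommRingCat.of K)))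
  haveI : IsIso j := hj.isIso_fst_of_isIso
  have hjw : j ≫ CohB1.ProjSpaceOver.toBase 1 (Spec (CommRingCat.of K)) = CohB1.ProjSpace.toSpec 1 K :=
    hj.w.trans (Category.comp_id _)
  haveI : Nonempty P.left := by
    haveI := GenusZeroLib.isIntegral_projSpace K 1
    exact ⟨j (Classical.arbitrary _)⟩
  haveI : IsIntegral P.left := by
    haveI := GenusZeroLib.isIntegral_projSpace K 1
    exact isIntegral_of_isOpenImmersion (inv j)
  haveI : IsProper P.hom := ChowLib.isProper_toBase 1 _
  -- the chart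
  let e := (MvPolynomial.renameEquiv K Equiv.ulift.{u, 0}).toRingEquiv.trans (ZetaPtsLib.chartEquiv 1 K 0)
  let c₀ : 𝔸(ULift.{u} (Fin 1); Spec (CommRingCat.of K)) ⟶ P.left :=
    (AffineSpace.SpecIso (ULift.{u} (Fin 1)) (CommRingCat.of K)).hom ≫
      Spec.map (CommRingCat.ofHom e.symm.toRingHom) ≫ GradedCechLib.chartι 1 K 0 ≫ j
  have hC : e.symm.toRingHom.comp (GradedCechLib.cst 1 K (MvPolynomial.X 0)) = MvPolynomial.C := by
    refine RingHom.ext fun r => ?_
    refine e.injective ?_
    simp only [RingHom.comp_apply, RingEquiv.toRingHom_eq_coe, RingEquiv.coe_toRingHom, RingEquiv.apply_symm_apply]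
    symm
    simp [e, ZetaPtsLib.chartEquiv, GenusZeroLib.chartPoly]
  have hc₀ : c₀ ≫ P.hom = 𝔸(ULift.{u} (Fin 1); Spec (CommRingCat.of K)) ↘ Spec (CommRingCat.of K) := by
    simp only [c₀, P, Over.mk_hom, Category.assoc, hjw, ZetaPtsLib.chartι_toSpec, ← Spec.map_comp,
      ← CommRingCat.ofHom_comp, hC]
    exact ((Iso.inv_comp_eq _).1 (AffineSpace.SpecIso_inv_over (CommRingCat.of K))).symm
  let c : A1AVLib.aff K (ULift.{u} (Fin 1)) ⟶ P := Over.homMk c₀ hc₀
  haveI : IsOpenImmersion (GradedCechLib.chartι 1 K 0) := by unfold GradedCechLib.chartι; infer_instance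
  haveI : IsIso (CommRingCat.ofHom e.symm.toRingHom) := e.symm.toCommRingCatIso.isIso_hom
  haveI : IsOpenImmersion c.left := by show IsOpenImmersion c₀; infer_instance
  haveI : IsDominant c.left := by
    refine ⟨c.left.isOpenEmbedding.isOpen_range.dense ?_⟩
    haveI : Nonempty (A1AVLib.aff K (ULift.{u} (Fin 1))).left :=
      inferInstanceAs (Nonempty 𝔸(ULift.{u} (Fin 1); Spec (CommRingCat.of K)))
    exact Set.range_nonempty _
  let z : 𝟙_ (Over (Spec (CommRingCat.of K))) ⟶ P := A1AVLib.mkT (fun _ => 0) ≫ c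
  -- translate to the unit
  let φ' : P ⟶ G := Over.homMk φ hφ
  let ψ : P ⟶ G := φ' * (toUnit P ≫ z ≫ φ')⁻¹
  have hzψ : z ≫ ψ = 1 := by
    show z ≫ (φ' * (toUnit P ≫ z ≫ φ')⁻¹) = 1
    rw [MonObj.comp_mul, GrpObj.comp_inv, ← Category.assoc z (toUnit P), toUnit_unique (z ≫ toUnit P) (𝟙 _),
      Category.id_comp, mul_inv_cancel]
  obtain ⟨G₀, _, i, him, hic, hif, hir, hgi, hik⟩ := Groth.Agent.GrpField.exists_identity_component (G := G)
  haveI := him; haveI := hic; haveI := hif; haveI := hgi; haveI := hik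
  haveI : LocallyOfFiniteType G₀.hom := by rw [← Over.w i]; infer_instance
  haveI : IsLocallyNoetherian G.left := LocallyOfFiniteType.isLocallyNoetherian G.hom
  haveI : LocallyOfFinitePresentation i.left := LocallyOfFinitePresentation.iff_locallyOfFiniteType.2 inferInstance
  haveI : IsOpenImmersion i.left := IsOpenImmersion.of_flat_of_mono i.left
  haveI : Smooth G₀.hom := by rw [← Over.w i]; infer_instance
  haveI : QuasiCompact G₀.hom := quasiCompact_of_compactSpace _
  haveI : Subsingleton ↥(Spec (CommRingCat.of K)) := inferInstanceAs (Subsingleton (PrimeSpectrum K))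
  haveI : IrreducibleSpace G₀.left := GeometricallyIrreducible.irreducibleSpace_of_subsingleton G₀.hom
  have hrange : Set.range ψ.left ⊆ Set.range i.left := by
    rw [hir, ← Groth.Agent.GrpField.connectedComponent_unit]
    refine (isPreconnected_range ψ.left.continuous).subset_connectedComponent
      ⟨z.left (IsLocalRing.closedPoint K), ?_⟩
    have h := congr($(congrArg CommaMorphism.left hzψ) (IsLocalRing.closedPoint K))
    have h1 : (1 : 𝟙_ (Over (Spec (CommRingCat.of K))) ⟶ G) = η[G] := by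
      rw [Hom.one_def, toUnit_unique (toUnit (𝟙_ (Over (Spec (CommRingCat.of K))))) (𝟙 _), Category.id_comp]
    rw [h1] at h
    exact h
  let ψ₀ : P ⟶ G₀ := Over.homMk (IsOpenImmersion.lift i.left ψ.left hrange) (by
    rw [← Over.w i, ← Category.assoc, IsOpenImmersion.lift_fac, Over.w ψ])
  have hψ₀ : ψ₀ ≫ i = ψ := Over.OverMorphism.ext (IsOpenImmersion.lift_fac _ _ _)
  haveI : Mono i := Over.mono_of_mono_left i
  have hzψ₀ : z ≫ ψ₀ = 1 := by
    rw [← cancel_mono i, Category.assoc, hψ₀, hzψ, MonObj.one_comp]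
  obtain ⟨B, _, f, hfm, hBp, hK⟩ := ChevThmLib.exists_affineKer_map G₀
  haveI := hfm; haveI := hBp
  obtain ⟨C, _, p, hpm, hCp, hCs, hCc, -, -, hpt⟩ := AlbLib.exists_av_image f
  haveI := hpm; haveI := hCp; haveI := hCs; haveI := hCc
  have hp : ψ₀ ≫ p = 1 := by
    rw [A1AVLib.eq_const_of_dominant c (ψ₀ ≫ p), ← Category.assoc _ c, ← Category.assoc (_ ≫ c) ψ₀,
      show A1AVLib.mkT (fun _ => 0) ≫ c = z from rfl, hzψ₀, MonObj.one_comp, MonObj.comp_one]
  obtain ⟨Kr, _, iK, hKm, hKc, hKk, -⟩ := AntiAffLib.exists_kernel f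
  haveI := hKm; haveI := hKc
  haveI : IsAffine Kr.left := hK Kr iK hKc (AntiAffLib.kernel_comp hKk)
  obtain ⟨l, hl⟩ := AntiAffLib.exists_lift_kernel hKk ψ₀ ((hpt P ψ₀).1 hp)
  haveI : AntiAffLib.IsΓIso (toUnit P) := ⟨by rw [AntiAffLib.toUnit_left]; exact bij_appTop P z⟩
  haveI : Mono iK := Over.mono_of_mono_left iK
  have hzl : z ≫ l = 1 := by rw [← cancel_mono iK, Category.assoc, hl, hzψ₀, MonObj.one_comp]
  have hψ1 : ψ = 1 := by
    rw [← hψ₀, ← hl, AntiAffLib.eq_const l z, hzl, MonObj.comp_one, MonObj.one_comp, MonObj.one_comp]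
  have hfin : φ' = toUnit P ≫ z ≫ φ' := mul_inv_eq_one.1 hψ1
  exact ⟨(z ≫ φ').left, Over.w (z ≫ φ'), (congrArg CommaMorphism.left hfin).trans rfl⟩

end

open CategoryTheory AlgebraicGeometry in
/-- Auxiliary step: let κ be an arbitrary field, G a group scheme over κ which is smooth over κ, and φ :
P¹_κ → G a morphism over κ. Then φ is constant: there is a κ-rational point g of G such that φ is
the structure morphism P¹_κ → Spec κ followed by g. (The published proof states this step for any
smooth group scheme over a field in the course of proving the main proposition.) -/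
theorem result (κ : Type u) [Field κ]
    (G : Over (Spec (CommRingCat.of κ))) [GrpObj G] [Smooth G.hom]
    (φ : CohB1.ProjSpaceOver 1 (Spec (CommRingCat.of κ)) ⟶ G.left)
    (hφ : φ ≫ G.hom = CohB1.ProjSpaceOver.toBase 1 (Spec (CommRingCat.of κ))) :
    ∃ g : Spec (CommRingCat.of κ) ⟶ G.left, g ≫ G.hom = 𝟙 _ ∧
      φ = CohB1.ProjSpaceOver.toBase 1 (Spec (CommRingCat.of κ)) ≫ g := by
  open CategoryTheory.Limits MonoidalCategory CartesianMonoidalCategory MonObj GrpObj in
  exact main κ G φ hφ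

end Groth.Agent.S15949
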