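import Groth.Statements.S1595
import Groth.Agent.NodalLib.Family

set_option autoImplicit false
set_option backward.isDefEq.respectTransparency false
set_option backward.isDefEq.respectTransparency.types false
universe u
open CategoryTheory CategoryTheory.Limits AlgebraicGeometry
open Curves

namespace Groth.Agent.S1595

/-- If S' → S is étale and f : X → S' is at-worst-nodal of relative dimension one, then the composite X
→ S is at-worst-nodal of relative dimension one. -/
theorem result {X S S' : Scheme.{u}} (e : S' ⟶ S) [Etale e] (f : X ⟶ S') (hf : Curv2.IsNodalFamily f) :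
    Curv2.IsNodalFamily (f ≫ e) := by
  obtain ⟨h1, h2, h3⟩ := (NodalLib.isNodalFamily_iff f).1 hf
  exact (NodalLib.isNodalFamily_iff _).2 ⟨inferInstance, inferInstance, NodalLib.nodalOn_fiber_comp_etale f e h3⟩

end Groth.Agent.S1595
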