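import Groth.Statements.S15954
import Mathlib
import Groth.Agent.PushLib.BCPullback

set_option autoImplicit false
set_option maxHeartbeats 2000000
universe u
open Pinch

namespace Groth.Agent.S15954

open Groth.Agent.PushLib CategoryTheory.Limits TensorProduct
open CategoryTheory AlgebraicGeometry

/-- Sections inject along a flat affine surjection. -/
theorem app_injective {Z T : Scheme.{u}} (ξ : Z ⟶ T) [Flat ξ] [Surjective ξ] {V : T.Opens} (hV : IsAffineOpen V)
    {W : Z.Opens} (hW : IsAffineOpen W) (e : W = ξ ⁻¹ᵁ V) : Function.Injective (ξ.appLE V W e.le).hom := by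
  have hfl : (ξ.appLE V W e.le).hom.Flat :=
    HasRingHomProperty.appLE @Flat ξ inferInstance ⟨V, hV⟩ ⟨W, hW⟩ e.le
  algebraize [(ξ.appLE V W e.le).hom]
  haveI : Module.FaithfullyFlat Γ(T, V) Γ(Z, W) := Module.FaithfullyFlat.of_comap_surjective fun P => by
    obtain ⟨z, hz⟩ := ξ.surjective (hV.fromSpec P)
    have hzW : z ∈ W := by
      rw [e]
      show ξ z ∈ V
      rw [hz]
      have := Set.mem_range_self (f := hV.fromSpec) P
      rwa [hV.range_fromSpec] at this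
    obtain ⟨Q, hQ⟩ : z ∈ Set.range hW.fromSpec := by rw [hW.range_fromSpec]; exact hzW
    refine ⟨Q, hV.fromSpec.isOpenEmbedding.injective ?_⟩
    have h1 := congrArg (fun g : _ ⟶ T => g Q) (hV.SpecMap_appLE_fromSpec ξ hW e.le)
    exact h1.trans ((congrArg ξ hQ).trans hz)
  exact FaithfulSMul.algebraMap_injective Γ(T, V) Γ(Z, W)

/-- A fibre square whose lower leg has flat cokernel stays a fibre square after base change. -/
theorem pairTensor_injective {B' B A' A : Type u} [CommRing B'] [CommRing B] [CommRing A'] [CommRing A]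
    (S : FibSq B' B A' A) {R : Type u} [CommRing R] [Algebra R B'] [Algebra R B] [Algebra R A'] [Algebra R A]
    (hu : S.u.comp (algebraMap R B') = algebraMap R B) (hv : S.v.comp (algebraMap R B') = algebraMap R A')
    (hA : S.q.comp (algebraMap R B) = algebraMap R A) (hq : Function.Injective S.q)
    [Module.Flat R (A ⧸ Submodule.span R (Set.range S.q))] (N : Type u) [AddCommGroup N] [Module R N] :
    Function.Injective ((S.pairₗ hu hv).rTensor N) := by
  have hspan : (Submodule.span R (Set.range S.q) : Set A) = Set.range S.q := by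
    have h := Submodule.span_eq (LinearMap.range (S.qₐ hA).toLinearMap)
    rw [LinearMap.coe_range] at h
    exact (congrArg SetLike.coe h).trans (LinearMap.coe_range _)
  let g : A' →ₗ[R] A ⧸ Submodule.span R (Set.range S.q) :=
    (Submodule.mkQ _).comp (S.pₐ hu hv hA).toLinearMap
  have hg : Function.Surjective g := (Submodule.mkQ_surjective _).comp S.surj
  have hinj : Function.Injective (S.vₐ hv).toLinearMap := fun x y h =>
    S.inj x y (hq (by rw [S.w, S.w]; exact congrArg S.p h)) h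
  have hex : Function.Exact (S.vₐ hv).toLinearMap g := fun a => by
    refine (Submodule.Quotient.mk_eq_zero _).trans ?_
    rw [← SetLike.mem_coe, hspan]
    constructor
    · rintro ⟨b, hb⟩
      obtain ⟨x, -, hx⟩ := S.lift b a hb
      exact ⟨x, hx⟩
    · rintro ⟨x, rfl⟩
      exact ⟨S.u x, S.w x⟩
  have h := KFlatLib.rTensor_injective_of_flat_quotient _ g hinj hex hg N
  have e : (LinearMap.snd R B A').comp (S.pairₗ hu hv) = (S.vₐ hv).toLinearMap := LinearMap.snd_prod _ _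
  intro a b hab
  refine h ?_
  rw [← e, LinearMap.rTensor_comp, LinearMap.comp_apply, LinearMap.comp_apply, hab]

/-- The transported projectivity hypothesis. -/
theorem flat_coker {Z T Y : Scheme.{u}} (t : T ⟶ Y) (ξ : Z ⟶ T) (U : Y.Opens) (W : Z.Opens)
    (e : W = ξ ⁻¹ᵁ (t ⁻¹ᵁ U))
    (hv : @Pinch.CokerProjective Γ(Y, U) Γ(Z, (ξ ≫ t) ⁻¹ᵁ U) Γ(T, t ⁻¹ᵁ U) _ _ _
      ((ξ ≫ t).app U).hom.toAlgebra (ξ.app (t ⁻¹ᵁ U)).hom)
    (alg : Algebra Γ(Y, U) Γ(Z, W)) (halg : alg.algebraMap = (t.app U ≫ ξ.appLE (t ⁻¹ᵁ U) W e.le).hom) :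
    Module.Flat Γ(Y, U) (Γ(Z, W) ⧸ Submodule.span Γ(Y, U) (Set.range (ξ.appLE (t ⁻¹ᵁ U) W e.le).hom)) := by
  subst e
  obtain rfl : alg = ((ξ ≫ t).app U).hom.toAlgebra := Algebra.algebra_ext _ _ fun r => by
    refine (RingHom.congr_fun halg r).trans ?_
    rw [Scheme.Hom.appLE_eq_app]
    exact (congrArg (fun m => m.hom r) (Scheme.Hom.comp_app ξ t U)).symm
  letI : Algebra Γ(Y, U) Γ(Z, ξ ⁻¹ᵁ (t ⁻¹ᵁ U)) := ((ξ ≫ t).app U).hom.toAlgebra
  haveI : Module.Projective Γ(Y, U) (Γ(Z, ξ ⁻¹ᵁ (t ⁻¹ᵁ U)) ⧸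
      Submodule.span Γ(Y, U) (Set.range (ξ.appLE (t ⁻¹ᵁ U) (ξ ⁻¹ᵁ (t ⁻¹ᵁ U)) le_rfl).hom)) := by
    rw [Scheme.Hom.appLE_eq_app]
    exact hv
  infer_instance

open Groth.Agent.PushLib in
/-- A chart over `U` with injective leg and flat cokernel. -/
def Good {X Y T Z : Scheme.{u}} (f : X ⟶ Y) (t : T ⟶ Y) {ξ : Z ⟶ T} {ι : Z ⟶ X} (U : Y.Opens)
    (q : PushLib.Nice ι ξ) : Prop :=
  q.U ≤ f ⁻¹ᵁ U ∧ ∃ hqV : q.V ≤ t ⁻¹ᵁ U, Function.Injective q.q.hom ∧
    ∀ (alg : Algebra Γ(Y, U) Γ(Z, ι ⁻¹ᵁ q.U)),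
      alg.algebraMap = (t.appLE U q.V hqV ≫ q.q).hom →
      Module.Flat Γ(Y, U) (Γ(Z, ι ⁻¹ᵁ q.U) ⧸ Submodule.span Γ(Y, U) (Set.range q.q.hom))



open CategoryTheory AlgebraicGeometry in
/-- Let Y be a scheme, f : X → Y a morphism, t : T → Y a scheme affine over Y, ξ : Z → T a morphism with
Z affine over Y via ξ followed by t, and ι : Z → X a closed immersion over Y; assume every point of
Y has an affine open neighbourhood U together with an affine open V of X inside the preimage of U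
containing the image under ι of the part of Z over U; assume moreover that Y is locally Noetherian,
f and t are of finite type and ξ is finite, and let X → P ← T be a push-out of ι and ξ in the
category of schemes; assume finally that ξ is faithfully flat and that over every affine open U of Y
the cokernel of the map from functions on t⁻¹(U) to functions on the part of Z over U is a
projective module over the functions on U. Let p : P → Y be the induced morphism. Then the push-out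
commutes with every base change: for every morphism Y' → Y the square obtained by pulling back Z →
X, Z → T, X → P and T → P along Y' → Y is a push-out square in the category of schemes. -/
theorem result {X Y T Z : Scheme.{u}} (f : X ⟶ Y) (t : T ⟶ Y) (ξ : Z ⟶ T) (ι : Z ⟶ X)
    [IsAffineHom t] [IsAffineHom (ξ ≫ t)] [IsClosedImmersion ι] (hsq : ι ≫ f = ξ ≫ t)
    (hstd : ∀ y : Y, ∃ U : Y.Opens, IsAffineOpen U ∧ y ∈ U ∧ ∃ V : X.Opens, IsAffineOpen V ∧
      V ≤ f ⁻¹ᵁ U ∧ ∀ z : Z, (ξ ≫ t).base z ∈ U → ι.base z ∈ V)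
    [IsLocallyNoetherian Y] [LocallyOfFiniteType f] [QuasiCompact f] [LocallyOfFiniteType t] [QuasiCompact t]
    [IsFinite ξ] {P : Scheme.{u}} (a : X ⟶ P) (b : T ⟶ P) (hP : IsPushout ι ξ a b)
    [Flat ξ] [Surjective ξ]
    (hv : ∀ U : Y.affineOpens, @Pinch.CokerProjective Γ(Y, U) Γ(Z, (ξ ≫ t) ⁻¹ᵁ U) Γ(T, t ⁻¹ᵁ U) _ _ _
      ((ξ ≫ t).app U).hom.toAlgebra (ξ.app (t ⁻¹ᵁ U)).hom)
    (p : P ⟶ Y) (hap : a ≫ p = f) (hbp : b ≫ p = t) {Y' : Scheme.{u}} (g : Y' ⟶ Y) :
    IsPushout ((Over.pullback g).map (Over.homMk ι hsq : Over.mk (ξ ≫ t) ⟶ Over.mk f)).left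
      ((Over.pullback g).map (Over.homMk ξ rfl : Over.mk (ξ ≫ t) ⟶ Over.mk t)).left
      ((Over.pullback g).map (Over.homMk a hap : Over.mk f ⟶ Over.mk p)).left
      ((Over.pullback g).map (Over.homMk b hbp : Over.mk t ⟶ Over.mk p)).left := by
  have heq : ∀ {U : Y.Opens} {V : X.Opens}, V ≤ f ⁻¹ᵁ U → (∀ z : Z, (ξ ≫ t) z ∈ U → ι z ∈ V) →
      ι ⁻¹ᵁ V = ξ ⁻¹ᵁ (t ⁻¹ᵁ U) := fun {U V} hVU hz => le_antisymm (fun z hz' => by
    have e : f (ι z) = t (ξ z) := congrArg (fun g : Z ⟶ Y => g z) hsq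
    exact show t (ξ z) ∈ U from e ▸ hVU hz') fun z hz' => hz z hz'
  have hY : ∀ w : T, ∃ q : PushLib.Nice ι ξ, w ∈ q.V := fun w => by
    obtain ⟨U, hU, hyU, V, hV, hVU, hz⟩ := hstd (t w)
    exact ⟨⟨V, t ⁻¹ᵁ U, hV, hU.preimage t, heq hVU hz⟩, hyU⟩
  -- points of a chart lie over `U` as soon as the two opens do
  have hrange : ∀ (q : PushLib.Nice ι ξ) (U : Y.Opens), q.U ≤ f ⁻¹ᵁ U → q.V ≤ t ⁻¹ᵁ U →
      Set.range ((Nice.chart hY hP q).κ ≫ p) ⊆ (U : Set Y) := by
    rintro q U hqU hqV _ ⟨z, rfl⟩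
    rcases (Nice.chart hY hP q).S.eq_or_eq z with ⟨y, rfl⟩ | ⟨y, rfl⟩
    · have h1 := congrArg (fun m : _ ⟶ Y => m y)
        (((congrArg (· ≫ p) (Nice.chart hY hP q).pbY.w).trans (Category.assoc _ _ _)).trans
          (congrArg (_ ≫ ·) hbp))
      refine (congrArg (· ∈ U) h1).mpr (hqV ?_)
      have h2 := Set.mem_range_self (f := q.hV.fromSpec) y
      rw [q.hV.range_fromSpec] at h2
      exact h2
    · have h1 := congrArg (fun m : _ ⟶ Y => m y)
        (((congrArg (· ≫ p) (Nice.chart hY hP q).pbX.w).trans (Category.assoc _ _ _)).trans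
          (congrArg (_ ≫ ·) hap))
      refine (congrArg (· ∈ U) h1).mpr (hqU ?_)
      have h2 := Set.mem_range_self (f := q.hU.fromSpec) y
      rw [q.hU.range_fromSpec] at h2
      exact h2
  -- good charts cover `P`
  have hgood : ∀ w : P, ∃ (U : Y.Opens) (_ : IsAffineOpen U) (q : PushLib.Nice ι ξ), Good f t U q ∧
      w ∈ Set.range (Nice.chart hY hP q).κ := by
    have hT : ∀ t₀ : T, ∃ (U : Y.Opens) (_ : IsAffineOpen U) (q : PushLib.Nice ι ξ), Good f t U q ∧
        b t₀ ∈ Set.range (Nice.chart hY hP q).κ := by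
      intro t₀
      obtain ⟨U, hU, hyU, V, hV, hVU, hz⟩ := hstd (t t₀)
      let q : PushLib.Nice ι ξ := ⟨V, t ⁻¹ᵁ U, hV, hU.preimage t, heq hVU hz⟩
      refine ⟨U, hU, q, ⟨hVU, le_rfl, ?_, fun alg halg => ?_⟩, ?_⟩
      · exact app_injective ξ (hU.preimage t) (hV.preimage ι) (heq hVU hz)
      · exact flat_coker t ξ U _ (heq hVU hz) (hv ⟨U, hU⟩) alg (halg.trans (by rw [Scheme.Hom.appLE_eq_app]))
      · obtain ⟨y, hy⟩ : t₀ ∈ Set.range q.hV.fromSpec := by
          rw [q.hV.range_fromSpec]; exact hyU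
        refine ⟨specMap (Nice.chart hY hP q).S.u y, ?_⟩
        have h1 := congrArg (fun m : _ ⟶ P => m y) (Nice.chart hY hP q).pbY.w
        exact h1.trans (congrArg b hy)
    have hX : ∀ x : X, ∃ (U : Y.Opens) (_ : IsAffineOpen U) (q : PushLib.Nice ι ξ), Good f t U q ∧
        a x ∈ Set.range (Nice.chart hY hP q).κ := by
      intro x
      by_cases hx : x ∈ Set.range ι
      · obtain ⟨z, rfl⟩ := hx
        have e : a (ι z) = b (ξ z) := congrArg (fun m : _ ⟶ P => m z) hP.w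
        rw [e]; exact hT _
      obtain ⟨U, hU, hxU, -⟩ := exists_isAffineOpen_mem_and_subset (X := Y) (x := f x) (U := ⊤) trivial
      obtain ⟨V, hV, hxV, hVle⟩ := exists_isAffineOpen_mem_and_subset (X := X) (x := x)
        (U := f ⁻¹ᵁ U ⊓ ⟨(Set.range ι)ᶜ, ι.isClosedEmbedding.isClosed_range.isOpen_compl⟩) ⟨hxU, hx⟩
      have hVι : ι ⁻¹ᵁ V = ⊥ := eq_bot_iff.2 fun z hz => ((hVle hz).2 ⟨z, rfl⟩).elim
      let q : PushLib.Nice ι ξ := ⟨V, ⊥, hV, isAffineOpen_bot T, by rw [hVι, Scheme.Hom.preimage_bot]⟩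
      haveI : Subsingleton Γ(Z, ι ⁻¹ᵁ q.U) :=
        CommRingCat.subsingleton_of_isTerminal (hVι ▸ Z.sheaf.isTerminalOfEmpty)
      haveI hBs : Subsingleton Γ(T, q.V) := CommRingCat.subsingleton_of_isTerminal T.sheaf.isTerminalOfEmpty
      refine ⟨U, hU, q, ⟨fun _ h => (hVle h).1, bot_le, fun _ _ _ => hBs.elim _ _, fun alg _ => inferInstance⟩, ?_⟩
      obtain ⟨y, hy⟩ : x ∈ Set.range q.hU.fromSpec := by rw [q.hU.range_fromSpec]; exact hxV
      refine ⟨specMap (Nice.chart hY hP q).S.v y, ?_⟩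
      have h1 := congrArg (fun m : _ ⟶ P => m y) (Nice.chart hY hP q).pbX.w
      exact h1.trans (congrArg a hy)
    intro w
    obtain ⟨q₀, ⟨z, hz⟩, -⟩ := exists_chart_le hY hP w ⊤ trivial
    rw [← hz]
    rcases (Nice.chart hY hP q₀).S.eq_or_eq z with ⟨y, rfl⟩ | ⟨y, rfl⟩
    · have e := congrArg (fun m : _ ⟶ P => m y) (Nice.chart hY hP q₀).pbY.w
      exact e ▸ hT _
    · have e := congrArg (fun m : _ ⟶ P => m y) (Nice.chart hY hP q₀).pbX.w
      exact e ▸ hX _
  -- the base-changed square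
  refine isPushout_of_charts ?_ fun w => ?_
  · simp only [← Over.comp_left, ← Functor.map_comp]
    congr 2
    exact Over.OverMorphism.ext hP.w
  obtain ⟨U, hU, q, ⟨hqU, hqV, hqinj, hflat⟩, hw⟩ := hgood (pullback.fst p g w)
  obtain ⟨T₀, hT₀, hwT, hTS⟩ := exists_isAffineOpen_mem_and_subset (X := Y') (x := pullback.snd p g w)
    (U := g ⁻¹ᵁ U) (by
      obtain ⟨z, hz⟩ := hw
      show g (pullback.snd p g w) ∈ U
      have h1 := congrArg (fun m : _ ⟶ Y => m w) (pullback.condition (f := p) (g := g))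
      simp only [Scheme.Hom.comp_apply] at h1
      rw [← h1, ← hz]
      exact hrange q U hqU hqV ⟨z, rfl⟩)
  let C := Nice.chart hY hP q
  obtain ⟨l, hl⟩ : ∃ l, l ≫ hU.fromSpec = C.κ ≫ p := ⟨_, IsOpenImmersion.lift_fac _ _ (by
    rw [hU.range_fromSpec]; exact hrange q U hqU hqV)⟩
  obtain ⟨φ, rfl⟩ := Spec.map_surjective l
  have hφ : φ ≫ CommRingCat.ofHom C.S.u = t.appLE U q.V hqV := Spec.map_injective (by
    rw [← cancel_mono hU.fromSpec, Spec.map_comp, Category.assoc, hl]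
    exact (((Category.assoc _ _ _).symm.trans (congrArg (· ≫ p) C.pbY.w)).trans
      ((Category.assoc _ _ _).trans (congrArg (_ ≫ ·) hbp))).trans
      (hU.SpecMap_appLE_fromSpec t q.hV hqV).symm)
  letI := φ.hom.toAlgebra
  letI := (C.S.u.comp φ.hom).toAlgebra
  letI := (C.S.v.comp φ.hom).toAlgebra
  letI alg : Algebra Γ(Y, U) C.A := (C.S.q.comp (C.S.u.comp φ.hom)).toAlgebra
  letI := (g.appLE U T₀ hTS).hom.toAlgebra
  haveI : Module.Flat Γ(Y, U) (C.A ⧸ Submodule.span Γ(Y, U) (Set.range C.S.q)) :=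
    hflat alg (by rw [← hφ]; rfl)
  have hκT : hT₀.fromSpec ≫ g = specMap (algebraMap Γ(Y, U) Γ(Y', T₀)) ≫ hU.fromSpec :=
    (hU.SpecMap_appLE_fromSpec g hT₀ hTS).symm
  obtain ⟨D, hD⟩ := exists_bcChart C (R := Γ(Y, U)) (R' := Γ(Y', T₀)) rfl rfl rfl
    (pairTensor_injective C.S rfl rfl rfl hqinj Γ(Y', T₀)) p g (pullback.fst p g) (pullback.snd p g)
    (IsPullback.of_hasPullback p g) hU.fromSpec hT₀.fromSpec hl.symm hκT
    (pullback.fst f g) ((Over.pullback g).map (Over.homMk a hap : Over.mk f ⟶ Over.mk p)).left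
    (isPullback_pullback_map a f p g hap)
    (pullback.fst t g) ((Over.pullback g).map (Over.homMk b hbp : Over.mk t ⟶ Over.mk p)).left
    (isPullback_pullback_map b t p g hbp)
    (pullback.fst (ξ ≫ t) g) ((Over.pullback g).map (Over.homMk ι hsq : Over.mk (ξ ≫ t) ⟶ Over.mk f)).left
    (isPullback_pullback_map ι (ξ ≫ t) f g hsq)
    ((Over.pullback g).map (Over.homMk ξ rfl : Over.mk (ξ ≫ t) ⟶ Over.mk t)).left
    (pullback.lift_fst _ _ _)
    (by
      simp only [← Over.comp_left, ← Functor.map_comp]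
      congr 2
      exact Over.OverMorphism.ext hP.w.symm)
  exact ⟨D, hD w hw (by rw [hT₀.range_fromSpec]; exact hwT)⟩

end Groth.Agent.S15954
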