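import Groth.Statements.S15957
import Groth.Agent.NeronPtsLib.Algebra
import Groth.Agent.S3250
import Groth.Agent.S2879
import Groth.Agent.S5104
import Groth.Agent.S3844
-- import your own Groth.Agent.* helpers here

set_option autoImplicit false
universe u
open Neron

namespace Groth.Agent.S15957

noncomputable section

set_option backward.isDefEq.respectTransparency false

open AlgebraicGeometry CategoryTheory CategoryTheory.Limits

/-- A nonempty open of an integral scheme is schematically dense. -/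
theorem isSchematicallyDense_of_isIntegral {X : Scheme.{u}} [IsIntegral X] (S₀ : X.Opens)
    (h : genericPoint X ∈ S₀) : CInt.IsSchematicallyDense S₀ := by
  intro W
  by_cases hW : W = ⊥
  · subst hW
    intro a b _
    exact Subsingleton.elim a b
  · obtain ⟨x, hx⟩ : ∃ x, x ∈ W := by
      by_contra hne
      exact hW (eq_bot_iff.2 fun x hx => (hne ⟨x, hx⟩).elim)
    haveI : Nonempty W.toScheme := ⟨⟨x, hx⟩⟩
    haveI : Nonempty (W ⊓ S₀ : X.Opens).toScheme :=
      ⟨⟨_, ((genericPoint_spec X).specializes trivial).mem_open W.2 hx, h⟩⟩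
    exact map_injective_of_isIntegral _ _

/-- The points of `Spec R` other than the closed one lie in the image of the generic point. -/
theorem mem_genPt (R : Type u) [CommRing R] [IsDomain R] [IsDiscreteValuationRing R] (z : PrimeSpectrum R)
    (hz : z ≠ IsLocalRing.closedPoint R) : z ∈ Set.range (Neron.genPt R).base := by
  refine ⟨IsLocalRing.closedPoint (FractionRing R), PrimeSpectrum.ext ?_⟩
  show Ideal.comap (algebraMap R (FractionRing R)) (IsLocalRing.maximalIdeal (FractionRing R)) = z.asIdeal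
  rw [IsLocalRing.maximalIdeal_eq_bot, ← RingHom.ker_eq_comap_bot,
    (RingHom.injective_iff_ker_eq_bot _).1 (IsFractionRing.injective R (FractionRing R))]
  by_contra hb
  exact hz (PrimeSpectrum.ext (IsLocalRing.eq_maximalIdeal (z.isPrime.isMaximal (Ne.symm hb))))

theorem notMem_genPt (R : Type u) [CommRing R] [IsDomain R] [IsDiscreteValuationRing R] :
    IsLocalRing.closedPoint R ∉ Set.range (Neron.genPt R).base := by
  rintro ⟨t, ht⟩
  have h1 : Ideal.comap (algebraMap R (FractionRing R)) t.asIdeal = IsLocalRing.maximalIdeal R :=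
    congrArg PrimeSpectrum.asIdeal ht
  rw [(Ideal.eq_bot_or_top t.asIdeal).resolve_right t.isPrime.ne_top, ← RingHom.ker_eq_comap_bot,
    (RingHom.injective_iff_ker_eq_bot _).1 (IsFractionRing.injective R (FractionRing R))] at h1
  exact IsDiscreteValuationRing.not_a_field R h1.symm

/-- A generic morphism extends over the local scheme at a point of codimension one of the special fibre. -/
theorem exists_local (R : Type u) [CommRing R] [IsDomain R] [IsDiscreteValuationRing R]
    (G : Over (Spec (CommRingCat.of R))) [IsSeparated G.hom]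
    (h : ∀ (R' : Type u) [CommRing R'] [IsDomain R'] [IsDiscreteValuationRing R'] [Algebra R R']
        [IsLocalHom (algebraMap R R')] [HenselianLocalRing R'] [IsSepClosed (IsLocalRing.ResidueField R')],
      (IsLocalRing.maximalIdeal R).map (algebraMap R R') = IsLocalRing.maximalIdeal R' →
      Algebra.IsGeometricallyReduced (IsLocalRing.ResidueField R) (IsLocalRing.ResidueField R') →
      ∀ x : Spec (CommRingCat.of (FractionRing R')) ⟶ G.left,
        x ≫ G.hom = Spec.map (CommRingCat.ofHom ((algebraMap R' (FractionRing R')).comp (algebraMap R R'))) →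
        ∃ y : Spec (CommRingCat.of R') ⟶ G.left, y ≫ G.hom = Spec.map (CommRingCat.ofHom (algebraMap R R')) ∧
          Spec.map (CommRingCat.ofHom (algebraMap R' (FractionRing R'))) ≫ y = x)
    {Y : Scheme.{u}} (p : Y ⟶ Spec (CommRingCat.of R)) [Smooth p] [IsLocallyNoetherian Y]
    (S₀ : (Spec (CommRingCat.of R)).Opens) (hS₀ : (S₀ : Set (Spec (CommRingCat.of R))) = Set.range (Neron.genPt R).base)
    (g₀ : (p ⁻¹ᵁ S₀).toScheme ⟶ G.left) (hg₀ : g₀ ≫ G.hom = (p ⁻¹ᵁ S₀).ι ≫ p)
    (ξ : Y) (hξ : p ξ = IsLocalRing.closedPoint R) (hd : ringKrullDim (Y.presheaf.stalk ξ) ≤ 1) :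
    ∃ w : Spec (Y.presheaf.stalk ξ) ⟶ G.left, w ≫ G.hom = Y.fromSpecStalk ξ ≫ p ∧
      pullback.fst (Y.fromSpecStalk ξ) (p ⁻¹ᵁ S₀).ι ≫ w = pullback.snd (Y.fromSpecStalk ξ) (p ⁻¹ᵁ S₀).ι ≫ g₀ := by
  let A := (Spec (CommRingCat.of R)).presheaf.stalk (p ξ)
  let O := Y.presheaf.stalk ξ
  let ι := Y.fromSpecStalk ξ
  letI : Algebra R A := inferInstanceAs (Algebra R (((Spec.structureSheaf R).presheaf).stalk (p ξ)))
  haveI : IsLocalization.AtPrime A (p ξ).asIdeal := StructureSheaf.IsLocalization.to_stalk R (p ξ)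
  letI : Algebra A O := (p.stalkMap ξ).hom.toAlgebra
  letI : Algebra R O := ((algebraMap A O).comp (algebraMap R A)).toAlgebra
  haveI : IsScalarTower R A O := IsScalarTower.of_algebraMap_eq fun _ => rfl
  obtain ⟨-, -, hflat, hloc, hfs⟩ := Unram17Lib.stalk_facts p (x := ξ) ⟨⊤, trivial, inferInstance⟩
  haveI : IsLocalHom (algebraMap A O) := hloc
  haveI : Module.Flat A O := hflat
  haveI : Algebra.FormallySmooth A O := hfs
  haveI : Module.Flat R A := IsLocalization.flat A (p ξ).asIdeal.primeCompl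
  haveI : Module.Flat R O := Module.Flat.trans R A O
  haveI : Algebra.FormallySmooth R A := Algebra.FormallySmooth.of_isLocalization (p ξ).asIdeal.primeCompl
  haveI : Algebra.FormallySmooth R O := Algebra.FormallySmooth.comp R A O
  haveI : IsLocalHom (algebraMap R O) := by
    refine ⟨fun a ha => ?_⟩
    have h1 : IsUnit (algebraMap R A a) := IsUnit.of_map (algebraMap A O) _ ha
    rw [IsLocalization.AtPrime.isUnit_to_map_iff A (p ξ).asIdeal] at h1
    by_contra hu
    exact h1 (hξ ▸ (IsLocalRing.mem_maximalIdeal a).2 hu)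
  haveI : IsRegularLocalRing O := WeilExtLib.isRegular_stalk_smooth p ξ
  haveI : IsDomain O := CommAlgDim.isDomain_of_isRegularLocalRing _
  have hι : ι ≫ p = Spec.map (CommRingCat.ofHom (algebraMap R O)) := by
    show Y.fromSpecStalk ξ ≫ p = _
    rw [← Scheme.SpecMap_stalkMap_fromSpecStalk p, Spec.fromSpecStalk_eq']
    exact (Spec.map_comp _ _).symm
  obtain ⟨T, _, _, _, _, _, _, _, _, _, hff, hmT, hgr⟩ := NeronPtsLib.exists_strictHenselization R O hd
  let f : Spec (CommRingCat.of T) ⟶ Spec O := Spec.map (CommRingCat.ofHom (algebraMap O T))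
  have hfp : f ≫ ι ≫ p = Spec.map (CommRingCat.ofHom (algebraMap R T)) := by
    rw [hι, ← Spec.map_comp, IsScalarTower.algebraMap_eq R O T]
    rfl
  haveI hfl : Flat f := (HasRingHomProperty.Spec_iff (P := @Flat)).2 (RingHom.flat_algebraMap_iff.2 inferInstance)
  haveI : Flat (ι ≫ p) := by
    rw [hι]
    exact (HasRingHomProperty.Spec_iff (P := @Flat)).2 (RingHom.flat_algebraMap_iff.2 inferInstance)
  haveI : Surjective f := ⟨PrimeSpectrum.comap_surjective_of_faithfullyFlat⟩
  let U : (Spec O).Opens := ι ⁻¹ᵁ (p ⁻¹ᵁ S₀)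
  let g : U.toScheme ⟶ G.left := (ι ∣_ (p ⁻¹ᵁ S₀)) ≫ g₀
  have hg : g ≫ G.hom = U.ι ≫ ι ≫ p := by
    simp only [g, Category.assoc, hg₀]
    exact morphismRestrict_ι_assoc ι (p ⁻¹ᵁ S₀) p
  let jT := Neron.genPt T
  haveI : IsOpenImmersion jT := Groth.Agent.S3250.isOpenImmersion_genPt T
  have hmem : ∀ t : Spec (CommRingCat.of T), t ∈ f ⁻¹ᵁ U ↔ t ≠ IsLocalRing.closedPoint T := by
    intro t
    have h1 : t ∈ f ⁻¹ᵁ U ↔ (Spec.map (CommRingCat.ofHom (algebraMap R T))).base t ∈ (S₀ : Set _) := by
      rw [← hfp]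
      rfl
    rw [h1, hS₀]
    constructor
    · intro hm ht
      subst ht
      refine notMem_genPt R ?_
      rwa [show (Spec.map (CommRingCat.ofHom (algebraMap R T))).base (IsLocalRing.closedPoint T) =
        IsLocalRing.closedPoint R from IsLocalRing.comap_closedPoint (algebraMap R T)] at hm
    · intro ht
      refine mem_genPt R _ fun hc => ht ?_
      have h2 : t.asIdeal.comap (algebraMap R T) = IsLocalRing.maximalIdeal R := congrArg PrimeSpectrum.asIdeal hc
      refine PrimeSpectrum.ext (le_antisymm (IsLocalRing.le_maximalIdeal t.isPrime.ne_top) ?_)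
      show IsLocalRing.maximalIdeal T ≤ t.asIdeal
      rw [← hmT, ← h2]
      exact Ideal.map_comap_le
  have hrange : Set.range jT.base = Set.range (f ⁻¹ᵁ U).ι.base := by
    rw [Scheme.Opens.range_ι]
    refine Set.ext fun t => ⟨fun ht => (hmem t).2 fun hc => notMem_genPt T (hc ▸ ht), fun ht => mem_genPt T t ((hmem t).1 ht)⟩
  let e := IsOpenImmersion.isoOfRangeEq jT (f ⁻¹ᵁ U).ι hrange
  have he : e.hom ≫ (f ⁻¹ᵁ U).ι = jT := IsOpenImmersion.isoOfRangeEq_hom_fac _ _ hrange
  obtain ⟨y, hy, hyx⟩ := h T hmT hgr (e.hom ≫ (f ∣_ U) ≫ g) (by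
    rw [Category.assoc, Category.assoc, hg, morphismRestrict_ι_assoc, reassoc_of% he, hfp]
    exact (Spec.map_comp _ _).symm)
  have hy' : (f ⁻¹ᵁ U).ι ≫ y = (f ∣_ U) ≫ g := by
    rw [← cancel_epi e.hom, reassoc_of% he]
    exact hyx
  haveI : Flat (pullback.fst f f ≫ f ≫ ι ≫ p) := inferInstance
  obtain ⟨w, hw, hwp⟩ := Groth.Agent.S2879.result (ι ≫ p) G.hom f U
    (Groth.Agent.S3844.result (pullback.fst f f ≫ f ≫ ι ≫ p) S₀ (isSchematicallyDense_of_isIntegral S₀
      (((genericPoint_spec (Spec (CommRingCat.of R))).specializes trivial).mem_open S₀.2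
        (hS₀.ge ⟨IsLocalRing.closedPoint (FractionRing R), rfl⟩))))
    g hg y (by rw [hy, hfp]) hy'
  refine ⟨w, hwp, ?_⟩
  let k := WeilExtLib.resTo U (pullback.fst ι (p ⁻¹ᵁ S₀).ι) fun z => by
    show (pullback.fst ι (p ⁻¹ᵁ S₀).ι ≫ ι) z ∈ p ⁻¹ᵁ S₀
    rw [pullback.condition]
    exact (pullback.snd ι (p ⁻¹ᵁ S₀).ι z).2
  have hk : k ≫ (ι ∣_ (p ⁻¹ᵁ S₀)) = pullback.snd ι (p ⁻¹ᵁ S₀).ι := by
    rw [← cancel_mono (p ⁻¹ᵁ S₀).ι, Category.assoc, morphismRestrict_ι, ← Category.assoc, WeilExtLib.resTo_ι, pullback.condition]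
  rw [← hk, Category.assoc, ← WeilExtLib.resTo_ι U (pullback.fst ι (p ⁻¹ᵁ S₀).ι), Category.assoc, hw]

open CategoryTheory AlgebraicGeometry in
/-- (ii) ⇒ (i): let R be a discrete valuation ring with field of fractions K and G a smooth separated
group scheme over Spec R. Suppose that for every local extension R ⊆ R' of discrete valuation rings
of ramification index one (the maximal ideal of R generates that of R' and the residue field
extension is separable, i.e. geometrically reduced) with R' strictly Henselian, and K' the fraction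
field of R', every K'-valued point of G over R extends to an R'-valued point. Then G is a Néron
lft-model of its generic fibre: for every smooth scheme Y over Spec R, restriction to generic fibres
is a bijection from morphisms Y → G over R onto morphisms Y_K → G_K over K. (The published statement
is the equivalence of this criterion, of the Néron lft property, and of a third intermediate
criterion; only this implication is stated.) -/
theorem result
    (R : Type u) [CommRing R] [IsDomain R] [IsDiscreteValuationRing R]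
    (G : Over (Spec (CommRingCat.of R))) [GrpObj G] [Smooth G.hom] [IsSeparated G.hom]
    (h : ∀ (R' : Type u) [CommRing R'] [IsDomain R'] [IsDiscreteValuationRing R'] [Algebra R R']
        [IsLocalHom (algebraMap R R')] [HenselianLocalRing R'] [IsSepClosed (IsLocalRing.ResidueField R')],
      (IsLocalRing.maximalIdeal R).map (algebraMap R R') = IsLocalRing.maximalIdeal R' →
      Algebra.IsGeometricallyReduced (IsLocalRing.ResidueField R) (IsLocalRing.ResidueField R') →
      ∀ x : Spec (CommRingCat.of (FractionRing R')) ⟶ G.left,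
        x ≫ G.hom = Spec.map (CommRingCat.ofHom ((algebraMap R' (FractionRing R')).comp (algebraMap R R'))) →
        ∃ y : Spec (CommRingCat.of R') ⟶ G.left, y ≫ G.hom = Spec.map (CommRingCat.ofHom (algebraMap R R')) ∧
          Spec.map (CommRingCat.ofHom (algebraMap R' (FractionRing R'))) ≫ y = x) :
    ∀ Y : Over (Spec (CommRingCat.of R)), Smooth Y.hom →
      Function.Bijective (fun g : Y ⟶ G => (Neron.genericFibre R).map g) := by
  intro Y hY
  haveI := hY
  let j := Neron.genPt R
  haveI : IsOpenImmersion j := Groth.Agent.S3250.isOpenImmersion_genPt R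
  haveI : IsLocallyNoetherian Y.left := WeilExtLib.isLocallyNoetherian_of_smooth Y.hom
  haveI : IsReduced Y.left := WeilExtLib.isReduced_of_smooth_dedekind Y.hom
  constructor
  · rw [NeronExtLib.injective_iff]
    intro f₁ f₂ h12
    exact TorsExtLib.hom_ext_generic (Over.OverMorphism.ext h12)
  rw [NeronExtLib.surjective_iff]
  intro ψ hψ
  let S₀ : (Spec (CommRingCat.of R)).Opens := j.opensRange
  have hgenS : genericPoint (Spec (CommRingCat.of R)) ∈ S₀ :=
    ((genericPoint_spec (Spec (CommRingCat.of R))).specializes trivial).mem_open S₀.2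
      (⟨IsLocalRing.closedPoint (FractionRing R), rfl⟩ : j (IsLocalRing.closedPoint (FractionRing R)) ∈ S₀)
  let V : Y.left.Opens := Y.hom ⁻¹ᵁ S₀
  have hV : CInt.IsSchematicallyDense V :=
    Groth.Agent.S3844.result Y.hom S₀ (isSchematicallyDense_of_isIntegral S₀ hgenS)
  have hrange : Set.range (pullback.fst Y.hom j).base = Set.range V.ι.base := by
    rw [Scheme.Opens.range_ι, Scheme.Pullback.range_fst]; rfl
  let e := IsOpenImmersion.isoOfRangeEq (pullback.fst Y.hom j) V.ι hrange
  have he : e.hom ≫ V.ι = pullback.fst Y.hom j := IsOpenImmersion.isoOfRangeEq_hom_fac _ _ hrange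
  let g₀ : V.toScheme ⟶ G.left := e.inv ≫ ψ
  have hg₀ : g₀ ≫ G.hom = V.ι ≫ Y.hom := by
    rw [Category.assoc, hψ, ← he, Category.assoc, e.inv_hom_id_assoc]
  have hdense : Dense (V : Set Y.left) := by
    rw [dense_iff_inter_open]
    intro W hW ⟨x, hx⟩
    obtain ⟨η', h1, h2⟩ := (Flat.generalizingMap Y.hom) (a := x)
      ((genericPoint_spec (Spec (CommRingCat.of R))).specializes trivial :
        genericPoint (Spec (CommRingCat.of R)) ⤳ Y.hom x)
    exact ⟨η', h1.mem_open hW hx, show Y.hom η' ∈ S₀ from h2 ▸ hgenS⟩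
  have hext : ∀ y : {y : Y.left // ringKrullDim (Y.left.presheaf.stalk y) ≤ 1}, ∃ (W : Y.left.Opens)
      (v : W.toScheme ⟶ G.left), y.1 ∈ W ∧ v ≫ G.hom = W.ι ≫ Y.hom ∧
      Y.left.homOfLE (inf_le_right : V ⊓ W ≤ W) ≫ v = Y.left.homOfLE (inf_le_left : V ⊓ W ≤ V) ≫ g₀ := by
    rintro ⟨y, hd⟩
    by_cases hyV : y ∈ V
    · exact ⟨V, g₀, hyV, hg₀, rfl⟩
    haveI : LocallyOfFinitePresentation G.hom := inferInstance
    refine (Groth.Agent.S5104.result Y.hom G.hom (Or.inl inferInstance) V hV g₀ hg₀ y).2 ?_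
    exact exists_local R G h Y.hom S₀ rfl g₀ hg₀ y (by
      by_contra hne
      exact hyV (mem_genPt R _ hne)) hd
  choose W v hW hv hagree using hext
  let U : Option {y : Y.left // ringKrullDim (Y.left.presheaf.stalk y) ≤ 1} → Y.left.Opens := fun o => o.elim V W
  let F : ∀ o, (U o).toScheme ⟶ G.left := fun o => match o with
    | none => g₀
    | some y => v y
  obtain ⟨S, hS, hSj⟩ := WeilExtLib.exists_glue_family Y.hom G.hom U F
    (by rintro (_ | y)
        · exact hg₀
        · exact hv y)
    hdense g₀ (by rintro (_ | y)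
                  · rfl
                  · exact hagree y)
  have hU : ∀ y : Y.left, ringKrullDim (Y.left.presheaf.stalk y) ≤ 1 → y ∈ ⨆ o, U o :=
    fun y hy => le_iSup U (some ⟨y, hy⟩) (hW ⟨y, hy⟩)
  haveI : GrpObj (Over.mk G.hom) := ‹GrpObj G›
  obtain ⟨g, ⟨hg, hgU⟩, -⟩ := Groth.Agent.S3249.result Y.hom G.hom (⨆ o, U o)
    (fun x => by
      obtain ⟨z, hzx, hz, hd⟩ := NeronExtLib.exists_generisation Y.hom x
      exact closure_mono (show {z} ⊆ ((⨆ o, U o : Y.left.Opens) : Set Y.left) ∩ {w | Y.hom w = Y.hom x} from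
        Set.singleton_subset_iff.2 ⟨hU z hd, hz⟩) (specializes_iff_mem_closure.1 hzx))
    (fun x hx => WeilExtLib.two_le_of_not_le_one fun h => hx (hU x h)) S hS
  refine ⟨Over.homMk g hg, ?_⟩
  show pullback.fst Y.hom j ≫ g = ψ
  have hn : Y.left.homOfLE (le_iSup U none) ≫ S = g₀ := hSj none
  rw [← he, Category.assoc, show V.ι = Y.left.homOfLE (le_iSup U none : V ≤ ⨆ o, U o) ≫ (⨆ o, U o).ι from (Scheme.homOfLE_ι _ _).symm,
    Category.assoc, hgU, hn]
  exact e.hom_inv_id_assoc ψ

end

end Groth.Agent.S15957
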