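import Groth.Statements.S15958
import Groth.Agent.NeronExtLib.BaseChange
import Mathlib
import Groth.Agent.S12442
-- import your own Groth.Agent.* helpers here

set_option autoImplicit false
universe u
open Neron

namespace Groth.Agent.S15958

section Restriction

open CategoryTheory CategoryTheory.Limits AlgebraicGeometry

variable {S U : Scheme.{u}} (j : U ⟶ S)

noncomputable def res (Z : Over S) : Over S := Over.mk (pullback.fst Z.hom j ≫ Z.hom)

noncomputable def incl (Z : Over S) : res j Z ⟶ Z := Over.homMk (pullback.fst Z.hom j) rfl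

noncomputable def resMap {Z' Z : Over S} (p : Z' ⟶ Z) : res j Z' ⟶ res j Z :=
  Over.homMk ((Over.pullback j).map p).left (by
    show ((Over.pullback j).map p).left ≫ pullback.fst Z.hom j ≫ Z.hom = pullback.fst Z'.hom j ≫ Z'.hom
    rw [← Category.assoc, NeronExtLib.map_left_fst, Category.assoc, Over.w p])

@[reassoc]
theorem resMap_incl {Z' Z : Over S} (p : Z' ⟶ Z) : resMap j p ≫ incl j Z = incl j Z' ≫ p :=
  Over.OverMorphism.ext (NeronExtLib.map_left_fst j p)

@[reassoc]
theorem resMap_comp {Z'' Z' Z : Over S} (q : Z'' ⟶ Z') (p : Z' ⟶ Z) :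
    resMap j q ≫ resMap j p = resMap j (q ≫ p) :=
  Over.OverMorphism.ext (by
    show ((Over.pullback j).map q).left ≫ ((Over.pullback j).map p).left = _
    rw [← Over.comp_left, ← Functor.map_comp]; rfl)

def Sep (X : Over S) : Prop :=
  ∀ Z : Over S, Smooth Z.hom → ∀ f₁ f₂ : Z ⟶ X, incl j Z ≫ f₁ = incl j Z ≫ f₂ → f₁ = f₂

def Ext (X : Over S) : Prop :=
  ∀ Z : Over S, Smooth Z.hom → ∀ a : res j Z ⟶ X, ∃ f : Z ⟶ X, incl j Z ≫ f = a

theorem bijective_iff (X : Over S) :
    (∀ Z : Over S, Smooth Z.hom → Function.Bijective (fun g : Z ⟶ X => (Over.pullback j).map g)) ↔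
      Sep j X ∧ Ext j X := by
  refine ⟨fun h => ⟨fun Z hZ f₁ f₂ h12 => ?_, fun Z hZ a => ?_⟩, fun h Z hZ => ⟨?_, ?_⟩⟩
  · exact (NeronExtLib.injective_iff j Z X).1 (h Z hZ).1 f₁ f₂ (congrArg CommaMorphism.left h12)
  · obtain ⟨f, hf⟩ := (NeronExtLib.surjective_iff j Z X).1 (h Z hZ).2 a.left (Over.w a)
    exact ⟨f, Over.OverMorphism.ext hf⟩
  · exact (NeronExtLib.injective_iff j Z X).2 fun f₁ f₂ h12 => h.1 Z hZ f₁ f₂ (Over.OverMorphism.ext h12)
  · refine (NeronExtLib.surjective_iff j Z X).2 fun a ha => ?_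
    obtain ⟨f, hf⟩ := h.2 Z hZ (Over.homMk a ha)
    exact ⟨f, congrArg CommaMorphism.left hf⟩

end Restriction

section Kernel

open CategoryTheory CategoryTheory.Limits AlgebraicGeometry MonoidalCategory CartesianMonoidalCategory MonObj

variable {S : Scheme.{u}} {G' G G'' : Over S} [GrpObj G'] [GrpObj G] [GrpObj G''] {i : G' ⟶ G} {q : G ⟶ G''}
  [IsMonHom i] [IsMonHom q]

theorem exists_ker (hker : AlgGrp.IsKernel i q) {T : Over S} (a b : T ⟶ G) (h : a ≫ q = b ≫ q) :
    ∃ d : T ⟶ G', (d ≫ i) * b = a := by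
  have h2 : (a * b⁻¹) ≫ q = 1 := by
    refine mul_right_cancel (b := b ≫ q) ?_
    rw [← MonObj.mul_comp, inv_mul_cancel_right, _root_.one_mul, h]
  exact ⟨hker.lift (a * b⁻¹) (toUnit T) (h2.trans (MonObj.one_eq_one (M := G'') ▸ (MonObj.comp_one _).symm)),
    by rw [hker.lift_fst, inv_mul_cancel_right]⟩

include q in
theorem ker_hom_ext (hker : AlgGrp.IsKernel i q) {T : Over S} {d₁ d₂ : T ⟶ G'} (h : d₁ ≫ i = d₂ ≫ i) : d₁ = d₂ :=
  hker.hom_ext h (toUnit_unique _ _)

theorem ker_comp_one (hker : AlgGrp.IsKernel i q) {T : Over S} (d : T ⟶ G') : (d ≫ i) ≫ q = 1 := by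
  rw [Category.assoc, hker.w, ← Category.assoc, toUnit_unique (d ≫ toUnit G') (toUnit T)]
  exact (MonObj.one_eq_one (M := G'') ▸ (MonObj.comp_one _))

theorem smooth_quotient (hker : AlgGrp.IsKernel i q) [Smooth G'.hom] [Smooth G.hom]
    [Smooth G''.hom] [Flat q.left] [Surjective q.left] : Smooth q.left := by
  have sq : IsPullback ((fst G' G ≫ i) * snd G' G) (snd G' G) q q := by
    have hw : ((fst G' G ≫ i) * snd G' G) ≫ q = snd G' G ≫ q := by
      rw [MonObj.mul_comp, ker_comp_one hker, _root_.one_mul]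
    refine IsPullback.of_isLimit' ⟨hw⟩ (PullbackCone.IsLimit.mk hw
      (fun c => lift (exists_ker hker c.fst c.snd c.condition).choose c.snd) (fun c => ?_) (fun c => ?_)
      fun c m h1 h2 => ?_)
    · rw [MonObj.comp_mul, lift_fst_assoc, lift_snd]
      exact (exists_ker hker c.fst c.snd c.condition).choose_spec
    · exact lift_snd _ _
    · apply CartesianMonoidalCategory.hom_ext
      · rw [lift_fst]
        refine ker_hom_ext hker (mul_right_cancel (b := c.snd) ?_)
        rw [(exists_ker hker c.fst c.snd c.condition).choose_spec, ← h1, MonObj.comp_mul, ← h2, Category.assoc]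
      · rw [lift_snd, h2]
  have sq' := sq.map (Over.forget S)
  simp only [Over.forget_map] at sq'
  haveI : LocallyOfFinitePresentation q.left := by
    haveI : LocallyOfFinitePresentation (q.left ≫ G''.hom) := by rw [Over.w q]; infer_instance
    exact Groth.Agent.S12442.lfp_of_comp_lft q.left G''.hom
  refine MorphismProperty.of_isPullback_of_descendsAlong (P := @Smooth)
    (Q := @Surjective ⊓ @Flat ⊓ @LocallyOfFinitePresentation) sq'.flip ⟨⟨‹_›, ‹_›⟩, ‹_›⟩ ?_
  exact MorphismProperty.pullback_snd (P := @Smooth) G'.hom G.hom ‹Smooth G'.hom›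

end Kernel

open CategoryTheory AlgebraicGeometry MonObj in
/-- Let S be a Dedekind scheme (integral, Noetherian, separated, of dimension one, with regular local
rings) with generic point η : Spec K → S, and let G', G and G'' be smooth separated group schemes
over S sitting in a short exact sequence 0 → G' → G → G'' → 0: i : G' → G and q : G → G'' are
homomorphisms, i identifies G' with the kernel of q, and q is flat and surjective. If G' and G'' are
Néron lft-models of their generic fibres (for every smooth S-scheme Y, restriction to η is a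
bijection from S-morphisms into them onto K-morphisms of generic fibres), then so is G. -/
theorem result
    {S : Scheme.{u}} [IsIntegral S] [IsNoetherian S] [S.IsSeparated]
    (hreg : ∀ s : S, IsRegularLocalRing (S.presheaf.stalk s)) (hdim : topologicalKrullDim S = 1)
    (G' G G'' : Over S) [GrpObj G'] [GrpObj G] [GrpObj G'']
    [Smooth G'.hom] [IsSeparated G'.hom] [Smooth G.hom] [IsSeparated G.hom] [Smooth G''.hom] [IsSeparated G''.hom]
    (i : G' ⟶ G) (q : G ⟶ G'') [IsMonHom i] [IsMonHom q]
    (hker : AlgGrp.IsKernel i q) [Flat q.left] [Surjective q.left]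
    (hG' : ∀ Y : Over S, Smooth Y.hom →
        Function.Bijective (fun g : Y ⟶ G' => (Over.pullback (S.fromSpecStalk (genericPoint S))).map g))
    (hG'' : ∀ Y : Over S, Smooth Y.hom →
        Function.Bijective (fun g : Y ⟶ G'' => (Over.pullback (S.fromSpecStalk (genericPoint S))).map g)) :
    ∀ Y : Over S, Smooth Y.hom →
        Function.Bijective (fun g : Y ⟶ G => (Over.pullback (S.fromSpecStalk (genericPoint S))).map g) := by
  let j := S.fromSpecStalk (genericPoint S)
  obtain ⟨hs', he'⟩ := (bijective_iff j G').1 hG'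
  obtain ⟨hs'', he''⟩ := (bijective_iff j G'').1 hG''
  refine (bijective_iff j G).2 ?_
  have hGs : Sep j G := fun Z hZ f₁ f₂ h => by
    obtain ⟨d, hd⟩ := exists_ker hker f₁ f₂ (hs'' Z hZ _ _ (by rw [← Category.assoc, h, Category.assoc]))
    have h1 : (incl j Z ≫ d ≫ i) = 1 := by
      refine mul_right_cancel (b := incl j Z ≫ f₂) ?_
      rw [_root_.one_mul, ← MonObj.comp_mul, hd, h]
    have : d = 1 := hs' Z hZ _ _ (ker_hom_ext hker (by
      rw [MonObj.comp_one, MonObj.one_comp, Category.assoc, h1]))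
    rw [← hd, this, MonObj.one_comp, _root_.one_mul]
  refine ⟨hGs, fun Y hY a => ?_⟩
  haveI := hY
  haveI : Smooth q.left := smooth_quotient hker
  obtain ⟨b, hb⟩ := he'' Y hY (a ≫ q)
  let P : Over S := Over.mk (Limits.pullback.fst b.left q.left ≫ Y.hom)
  haveI hP : Smooth P.hom := MorphismProperty.comp_mem @Smooth _ _ (MorphismProperty.pullback_fst (P := @Smooth) _ _ ‹Smooth q.left›) hY
  let π : P ⟶ Y := Over.homMk (Limits.pullback.fst b.left q.left) rfl
  let w : P ⟶ G := Over.homMk (Limits.pullback.snd b.left q.left) (by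
    show Limits.pullback.snd b.left q.left ≫ G.hom = Limits.pullback.fst b.left q.left ≫ Y.hom
    rw [← Over.w q, ← Category.assoc, ← Limits.pullback.condition, Category.assoc, Over.w b])
  have hwq : w ≫ q = π ≫ b := Over.OverMorphism.ext Limits.pullback.condition.symm
  obtain ⟨d₀, hd₀⟩ := exists_ker hker (resMap j π ≫ a) (incl j P ≫ w) (by
    rw [Category.assoc, ← hb, resMap_incl_assoc, Category.assoc, hwq])
  obtain ⟨d, hd⟩ := he' P hP d₀
  let f' : P ⟶ G := (d ≫ i) * w
  have hf' : incl j P ≫ f' = resMap j π ≫ a := by rw [MonObj.comp_mul, reassoc_of% hd, hd₀]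
  let P₂ : Over S := Over.mk (Limits.pullback.fst π.left π.left ≫ P.hom)
  haveI : Smooth π.left := MorphismProperty.pullback_fst (P := @Smooth) _ _ ‹Smooth q.left›
  haveI : Surjective π.left := MorphismProperty.pullback_fst (P := @Surjective) _ _ ‹Surjective q.left›
  haveI hP₂ : Smooth P₂.hom := MorphismProperty.comp_mem @Smooth _ _
    (MorphismProperty.pullback_fst (P := @Smooth) _ _ ‹Smooth π.left›) hP
  let q₁ : P₂ ⟶ P := Over.homMk (Limits.pullback.fst π.left π.left) rfl
  let q₂ : P₂ ⟶ P := Over.homMk (Limits.pullback.snd π.left π.left) (by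
    show Limits.pullback.snd π.left π.left ≫ P.hom = Limits.pullback.fst π.left π.left ≫ P.hom
    rw [← Over.w π, ← Category.assoc, ← Category.assoc, Limits.pullback.condition])
  have hq12 : q₁ ≫ π = q₂ ≫ π := Over.OverMorphism.ext Limits.pullback.condition
  have key : q₁ ≫ f' = q₂ ≫ f' := hGs P₂ hP₂ _ _ (by
    rw [← resMap_incl_assoc, ← resMap_incl_assoc, hf', resMap_comp_assoc, resMap_comp_assoc, hq12])
  have hdesc : ∀ {W : Scheme.{u}} (w₁ w₂ : W ⟶ P.left), w₁ ≫ π.left = w₂ ≫ π.left →
      w₁ ≫ f'.left = w₂ ≫ f'.left := fun {W} w₁ w₂ h => by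
    have := congrArg (fun t : P₂ ⟶ G => Limits.pullback.lift w₁ w₂ h ≫ t.left) key
    simp only [Over.comp_left] at this
    change Limits.pullback.lift w₁ w₂ h ≫ Limits.pullback.fst π.left π.left ≫ f'.left =
      Limits.pullback.lift w₁ w₂ h ≫ Limits.pullback.snd π.left π.left ≫ f'.left at this
    rwa [Limits.pullback.lift_fst_assoc, Limits.pullback.lift_snd_assoc] at this
  haveI : EffectiveEpi π.left := inferInstance
  let g₀ := EffectiveEpi.desc π.left f'.left hdesc
  have hg₀ : π.left ≫ g₀ = f'.left := EffectiveEpi.fac _ _ _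
  let g : Y ⟶ G := Over.homMk g₀ (by
    rw [← cancel_epi π.left, reassoc_of% hg₀]
    exact (Over.w f').trans (Over.w π).symm)
  refine ⟨g, ?_⟩
  have sq : IsPullback (Limits.pullback.fst P.hom j) (resMap j π).left π.left (Limits.pullback.fst Y.hom j) := by
    refine IsPullback.of_bot ?_ (NeronExtLib.map_left_fst j π).symm (IsPullback.of_hasPullback Y.hom j)
    convert IsPullback.of_hasPullback P.hom j using 1
    · exact Over.w ((Over.pullback j).map π)
    · exact Over.w π
  haveI : Smooth (resMap j π).left := MorphismProperty.of_isPullback sq inferInstance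
  haveI : Surjective (resMap j π).left := MorphismProperty.of_isPullback sq inferInstance
  refine Over.OverMorphism.ext ((cancel_epi (resMap j π).left).1 ?_)
  show (resMap j π ≫ incl j Y ≫ g).left = (resMap j π ≫ a).left
  rw [resMap_incl_assoc, show π ≫ g = f' from Over.OverMorphism.ext hg₀, hf']

end Groth.Agent.S15958
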