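import Groth.Statements.S1596
import Groth.Agent.CohCmpLib.LineBundle
import Groth.Agent.CohCmpLib.FibreRows
import Groth.Agent.CohCmpLib.FamilyPic2
import Groth.Agent.NodalLib.GeomRed
import Groth.Agent.NodalLib.Family
import Groth.Agent.H0Lib.Apply

set_option autoImplicit false
set_option backward.isDefEq.respectTransparency false
set_option backward.isDefEq.respectTransparency.types false
universe u
open CategoryTheory CategoryTheory.Limits AlgebraicGeometry
open Curves

namespace Groth.Agent.S1596

/-- Let f : X → S be a proper morphism of schemes that is at-worst-nodal of relative dimension one with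
geometrically connected fibres. Then R¹f_*O_X is a finite locally free O_S-module and R^q f_*O_X = 0
for every q ≥ 2. The published statement also includes the compatibility of these direct images with
base change, which is not asserted here. (Existence of injective resolutions in the category of
O_X-modules is carried as an instance binder.) -/
theorem result {X S : Scheme.{u}} (f : X ⟶ S) [IsProper f] (hf : Curv2.IsNodalFamily f)
    [GeometricallyConnected f] [HasInjectiveResolutions X.Modules] :
    FlatMod.IsFinLocFree ((Coh.Rpush f 1).obj (Coh.structureModule X)) ∧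
      ∀ q : ℕ, 2 ≤ q → IsZero ((Coh.Rpush f q).obj (Coh.structureModule X)) := by
  haveI : Flat f := hf.1
  haveI : LocallyOfFinitePresentation f := hf.2.1
  have hdim : ∀ s : S, topologicalKrullDim ↥(f.fiber s) ≤ 1 := fun s =>
    NodalLib.topologicalKrullDim_le_one_of_curveDims (hf.2.2 s).1
  have h0 : ∀ s : S, Module.finrank (S.residueField s) Γ(f.fiber s, ⊤) = 1 := fun s => by
    let g := f.fiberToSpecResidueField s
    letI : (f.fiber s).Over (Spec (CommRingCat.of (S.residueField s))) := ⟨g⟩
    haveI : IsProper g := MorphismProperty.pullback_snd (P := @IsProper) _ _ inferInstance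
    haveI : GeometricallyConnected g := MorphismProperty.pullback_snd (P := @GeometricallyConnected) _ _ inferInstance
    haveI : LocallyOfFiniteType (f.fiber s ↘ Spec (CommRingCat.of (S.residueField s))) := inferInstanceAs (LocallyOfFiniteType g)
    haveI : GeometricallyReduced g := NodalLib.geometricallyReduced (S.residueField s) (hf.2.2 s).2
    haveI : IsIso g.appTop := H0Lib.isIso_appTop_of_field (k := S.residueField s) g
    exact CohCmpLib.finrank_global_of_isIso f s
  refine ⟨CohCmpLib.isFinLocFree_rpush_one f h0 hdim, fun q hq => ?_⟩
  obtain ⟨hQ, hfp, hfl⟩ := CohCmpLib.rank_one_hyps f (CohCmpLib.rank_one_structureModule X)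
  haveI := hQ
  refine CohCmpLib.isZero_of_restrict_top (CohCmpLib.isZero_restrict_of_nhds _ ⊤ fun s _ => ?_)
  refine CohCmpLib.exists_vanishing_nhd_at hfp hfl q s ?_
  let k : Type u := S.residueField s
  letI : (f.fiber s).Over (Spec (CommRingCat.of k)) := ⟨f.fiberToSpecResidueField s⟩
  haveI : IsProper ((f.fiber s) ↘ Spec (CommRingCat.of k)) :=
    MorphismProperty.of_isPullback (IsPullback.of_hasPullback f (S.fromSpecResidueField s)) ‹IsProper f›
  haveI := CurvLib.isNoetherian k (X := f.fiber s)
  exact CurvLib.subsingleton_HH_of_dim_le _ (d := 1) (by exact_mod_cast hdim s) q (by omega)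

end Groth.Agent.S1596
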