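import Groth.Statements.S15963
import Groth.Agent.SeminormResLib.Main

set_option autoImplicit false
universe u
open HTop

namespace Groth.Agent.S15963

open CategoryTheory AlgebraicGeometry in
/-- Let S be a reduced Noetherian scheme, π : S̃ → S its normalisation (S̃ has integrally closed local
domains, π is integral and an isomorphism over a dense open subset of S with dense preimage), ν : X'
→ S a seminormalization of S (X' seminormal, ν a universal homeomorphism with residue-field
isomorphisms, initial among such) and g : S̃ → X' a morphism with g followed by ν equal to π. Then ν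
and g are scheme-theoretically dominant (the structure sheaf maps injectively into the direct
image), and if π is finite then so are ν and g. -/
theorem result {S Sn X' : Scheme.{u}}
    [IsNoetherian S] [IsReduced S]
    (π : Sn ⟶ S) [IsIntegralHom π] (hn : Pi1.IsNormalScheme Sn)
    (hbir : ∃ U : S.Opens, Dense (U : Set S) ∧ Dense ((π ⁻¹ᵁ U : Sn.Opens) : Set Sn) ∧ IsIso (π ∣_ U))
    (ν : X' ⟶ S) (hν : HTop.IsSeminormalization ν) (hX' : HTop.IsSeminormal X')
    (g : Sn ⟶ X') (hg : g ≫ ν = π) :
    (IsSchemeTheoreticallyDominant ν ∧ IsSchemeTheoreticallyDominant g) ∧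
      (IsFinite π → IsFinite ν ∧ IsFinite g) := by
  obtain ⟨U, hU, -, hiso⟩ := hbir
  have := SeminormResLib.isReduced_of_isSeminormal hX'
  obtain ⟨hint, -, hsurj⟩ := (Groth.Agent.S0415.result ν).1 hν.1.1
  have hhom : IsHomeomorph ν := MorphismProperty.universally_le (topologically fun f => IsHomeomorph f) _ hν.1.1
  have hdom : IsDominant g := ⟨by
    have hd : DenseRange π := hU.mono fun x hx => by
      obtain ⟨z, hz⟩ := (ConcreteCategory.bijective_of_isIso (π ∣_ U).base).2 ⟨x, hx⟩
      exact ⟨(π ⁻¹ᵁ U).ι z, by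
        rw [← Scheme.Hom.comp_apply, ← morphismRestrict_ι, Scheme.Hom.comp_apply]
        exact congrArg Subtype.val hz⟩
    have he : (π : Sn → S) = ν ∘ g := funext fun z => by rw [← hg]; rfl
    rw [DenseRange, he, Set.range_comp] at hd
    intro x
    have := hhom.homeomorph.preimage_closure (hhom.homeomorph '' Set.range g)
    rw [hhom.homeomorph.preimage_image] at this
    rw [← this]
    exact hd _⟩
  have hνd : IsDominant ν := inferInstance
  have hgc : IsIntegralHom (g ≫ ν) := hg ▸ inferInstance
  have : IsIntegralHom g := IsIntegralHom.of_comp g ν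
  have hgd : IsSchemeTheoreticallyDominant g := .of_isDominant g
  refine ⟨⟨.of_isDominant ν, hgd⟩, fun hπ => ?_⟩
  have : IsFinite (g ≫ ν) := hg ▸ hπ
  refine ⟨{ toIsAffineHom := inferInstance, finite_app := fun V hV => ?_ }, IsFinite.of_comp g ν⟩
  have hn : IsNoetherianRing Γ(S, V) := IsLocallyNoetherian.component_noetherian ⟨V, hV⟩
  letI := (ν.app V).hom.toAlgebra
  letI := ((g ≫ ν).app V).hom.toAlgebra
  haveI : Module.Finite Γ(S, V) Γ(Sn, (g ≫ ν) ⁻¹ᵁ V) := (g ≫ ν).finite_app V hV
  let φ : Γ(X', ν ⁻¹ᵁ V) →ₐ[Γ(S, V)] Γ(Sn, (g ≫ ν) ⁻¹ᵁ V) :=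
    { (g.app (ν ⁻¹ᵁ V)).hom with commutes' := fun r => rfl }
  exact Module.Finite.of_injective φ.toLinearMap (g.app_injective (ν ⁻¹ᵁ V))

end Groth.Agent.S15963
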