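import Groth.Statements.S15975
import Groth.Agent.EquiDimProjLib.Step
import Groth.Agent.ProperOverLib.Basic
import Groth.Agent.QFactDescLib.Section
import Groth.Agent.S1639
-- import your own Groth.Agent.* helpers here

set_option autoImplicit false
universe u
open IntSh

set_option backward.isDefEq.respectTransparency false
set_option backward.isDefEq.respectTransparency.types false

namespace Groth.Agent.S15975

open CategoryTheory CategoryTheory.Limits AlgebraicGeometry

/-- Repeated cuts give a finite surjective cover with an ample module. -/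
theorem exists_finite_cover {k : Type u} [Field k] {Y : Scheme.{u}} {sY : Y ⟶ Spec (CommRingCat.of k)} [IsProper sY] :
    ∀ (d : ℕ) {X : Scheme.{u}} (sX : X ⟶ Spec (CommRingCat.of k)) (π : X ⟶ Y), π ≫ sY = sX →
      RelProj.IsHProjective sX → (∀ y : Y, topologicalKrullDim (↥(π.fiber y) : Type u) = d) →
      ∃ (Z : Scheme.{u}) (g : Z ⟶ Y) (L : Z.Modules), IsFinite g ∧ Surjective g ∧ CohB1.IsAmple L := by
  intro d
  induction d with
  | zero =>
    intro X sX π hπ hX hd
    haveI := ProjBunLib.isProper_of_isHProjective hX
    haveI : IsProper π := by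
      haveI : IsProper (π ≫ sY) := hπ ▸ (inferInstance : IsProper sX)
      exact IsProper.of_comp π sY
    haveI : IsLocallyNoetherian X := LocallyOfFiniteType.isLocallyNoetherian sX
    haveI : CompactSpace X := QuasiCompact.compactSpace_of_compactSpace sX
    haveI : AlgebraicGeometry.IsNoetherian X := {}
    haveI : LocallyQuasiFinite π := LocallyQuasiFinite.of_finite_preimage_singleton π fun y => by
      haveI : TopologicalSpace.NoetherianSpace (π.fiber y) := (π.fiberι y).isEmbedding.isInducing.noetherianSpace
      have hfin : Finite (π.fiber y) := Set.finite_univ_iff.1 (QFactDescLib.finite_of_dim_le_zero isClosed_univ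
        (((Homeomorph.Set.univ _).isHomeomorph.topologicalKrullDim_eq _).trans (hd y)).le)
      exact (π.fiberHomeo y).finite_iff.1 hfin
    obtain ⟨N, i, hi, -⟩ := hX
    haveI := hi
    refine ⟨X, π, _, (IsFinite.iff_isProper_and_locallyQuasiFinite π).2 ⟨inferInstance, inferInstance⟩, ⟨fun y => ?_⟩,
      AmpleDevLib.isAmple_pb i (KRRRegLib.isInvertible_O1 N _) (ProjKLib.isAmple_O1 N (CommRingCat.of k))⟩
    have h : ((0 : ℕ) : WithBot ℕ∞) ≤ topologicalKrullDim (↥(π.fiber y) : Type u) := (hd y).ge
    obtain ⟨c, -⟩ := FibDimLib.exists_specChain h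
    exact ⟨π.fiberι y (c 0), (π.fiberHomeo y (c 0)).2⟩
  | succ d ih =>
    intro X sX π hπ hX hd
    obtain ⟨X', sX', π', hπ', hX', hd'⟩ := EquiDimProjLib.exists_step hπ hX d hd
    exact ih sX' π' hπ' hX' hd'

/-- Let k be a field, X a scheme over k admitting a closed immersion into a projective space over k, Y
an integral normal scheme separated and of finite type over k, and π : X → Y a proper surjective
k-morphism which is equidimensional in the sense that all fibres π⁻¹(y), y ∈ Y, have the same Krull
dimension d. Then Y admits a closed immersion into a projective space over k. -/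
theorem result
    {k : Type u} [Field k] {X Y : Scheme.{u}}
    (sX : X ⟶ Spec (CommRingCat.of k)) (sY : Y ⟶ Spec (CommRingCat.of k))
    (π : X ⟶ Y) (hπ : π ≫ sY = sX)
    (hX : RelProj.IsHProjective sX)
    [IsIntegral Y] [IsSeparated sY] [LocallyOfFiniteType sY] [QuasiCompact sY]
    (hN : Pi1.IsNormalScheme Y)
    [IsProper π] [Surjective π]
    (d : ℕ) (hd : ∀ y : Y, topologicalKrullDim (↥(π.fiber y) : Type u) = d) :
    RelProj.IsHProjective sY := by
  haveI := ProjBunLib.isProper_of_isHProjective hX
  haveI : IsProper (π ≫ sY) := hπ ▸ (inferInstance : IsProper sX)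
  haveI : IsProper sY := ProperOverLib.isProper_of_comp_surjective π sY
  obtain ⟨Z, g, L, hg, hgs, hL⟩ := exists_finite_cover d sX π hπ hX hd
  haveI := hg; haveI := hgs
  obtain ⟨M, hM⟩ := Groth.Agent.S1639.result g hN L hL
  exact JacAlbLib.isHProjective_of_ample sY hM

end Groth.Agent.S15975
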