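import Groth.Statements.S15976
import Mathlib
import Groth.Agent.RegSecLib.Basic
-- import your own Groth.Agent.* helpers here

set_option autoImplicit false
universe u
open IntSh

namespace Groth.Agent.S15976

open CategoryTheory CategoryTheory.Limits AlgebraicGeometry Opposite in
/-- Let A be a Noetherian local ring with infinite residue field, V a Noetherian scheme over Spec A, L
an invertible O_V-module generated by finitely many global sections σ_0, …, σ_N (at every point some
σ_i generates L), and F_1, …, F_m coherent O_V-modules. Then some A-linear combination σ of the σ_i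
is F_j-regular for every j, regularity of a global section σ of L with respect to F meaning that the
map F ⊗ O_V → F ⊗ L induced by σ is injective. The combination is expressed through the global
sections σ(1), σ_i(1) ∈ Γ(V, L) and the images in Γ(V, O_V) of the coefficients from A. -/
theorem result
    {A : Type u} [CommRing A] [IsNoetherianRing A] [IsLocalRing A]
    (hA : Infinite (IsLocalRing.ResidueField A))
    {V : Scheme.{u}} [IsNoetherian V] (f : V ⟶ Spec (CommRingCat.of A))
    (L : V.Modules) (hL : PicF.IsInvertible L)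
    {N : ℕ} (σ : Fin (N + 1) → (Coh.structureModule V ⟶ L))
    (hgen : ∀ x : V, ∃ i, x ∈ CohB1.genLocus L (σ i))
    {m : ℕ} (F : Fin m → V.Modules) (hF : ∀ j, Coh.IsCoh (F j)) :
    ∃ (τ : Coh.structureModule V ⟶ L) (a : Fin (N + 1) → A),
      τ.val.app (op ⊤) (1 : V.ringCatSheaf.obj.obj (op ⊤)) =
        ∑ i, f.appTop ((Scheme.ΓSpecIso (CommRingCat.of A)).inv (a i)) •
          (σ i).val.app (op ⊤) (1 : V.ringCatSheaf.obj.obj (op ⊤)) ∧
      ∀ j, Mono (((DCoh.tensorBi (X := V)).obj (F j)).map τ) := by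
  have key : ∀ φ : Coh.structureModule V ⟶ L, QCohLib.unitHom L (φ.app (⊤ : V.Opens) (1 : Γ(V, (⊤ : V.Opens)))) = φ := by
    intro φ
    refine Scheme.Modules.hom_ext _ _ fun W => ConcreteCategory.hom_ext _ _ fun r => ?_
    show _ = φ.app W (show Γ(V, W) from r)
    rw [show (QCohLib.unitHom L (φ.app (⊤ : V.Opens) (1 : Γ(V, (⊤ : V.Opens))))).app W r = _ from QCohLib.unitHom_app L _ W r]
    have h1 := congrArg (fun g : (Coh.structureModule V).presheaf.obj (op ⊤) ⟶ L.presheaf.obj (op W) => g (1 : Γ(V, (⊤ : V.Opens))))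
      (φ.mapPresheaf.naturality (homOfLE (le_top : W ≤ ⊤)).op)
    have h2 : (Coh.structureModule V).presheaf.map (homOfLE (le_top : W ≤ ⊤)).op (1 : Γ(V, (⊤ : V.Opens))) = (1 : Γ(V, W)) :=
      map_one (V.presheaf.map (homOfLE (le_top : W ≤ ⊤)).op).hom
    change φ.app W ((Coh.structureModule V).presheaf.map (homOfLE (le_top : W ≤ ⊤)).op (1 : Γ(V, (⊤ : V.Opens)))) =
      L.presheaf.map (homOfLE (le_top : W ≤ ⊤)).op (φ.app ⊤ (1 : Γ(V, (⊤ : V.Opens)))) at h1
    rw [h2] at h1
    rw [← h1, ← QCohLib.app_smul]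
    exact congrArg (φ.app W) (mul_one (show Γ(V, W) from r))
  let s : Fin (N + 1) → Γ(L, (⊤ : V.Opens)) := fun i => (σ i).app (⊤ : V.Opens) (1 : Γ(V, (⊤ : V.Opens)))
  have hg : ∀ x : V, ∃ i, AmpleLib.GenAt L (s i) (show x ∈ (⊤ : V.Opens) from trivial) := by
    intro x
    obtain ⟨i, hi⟩ := hgen x
    obtain ⟨W, -, hW⟩ := EGA2SymLib.exists_genLocus hL (s i)
    refine ⟨i, (hW x trivial).1 ?_⟩
    have h := AmpleLib.genLocus_eq (s i) W fun y => (hW y trivial).symm
    rw [key] at h
    exact h ▸ hi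
  obtain ⟨a, ha⟩ := RegSecLib.exists_regular_comb hA f L hL s hg F hF
  refine ⟨QCohLib.unitHom L (∑ i, f.appTop ((Scheme.ΓSpecIso (CommRingCat.of A)).inv (a i)) • s i), a, ?_, fun j => (ha j).1⟩
  have h := QCohLib.unitHom_app L (∑ i, f.appTop ((Scheme.ΓSpecIso (CommRingCat.of A)).inv (a i)) • s i) ⊤ 1
  refine h.trans ((one_smul _ _).trans ?_)
  show L.presheaf.map (𝟙 (op (⊤ : V.Opens))) _ = _
  rw [L.presheaf.map_id]
  rfl

end Groth.Agent.S15976
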