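import Groth.Statements.S15978
import Mathlib.AlgebraicGeometry.AlgClosed.Basic
import Groth.Agent.S2568
import Groth.Agent.S3388
import Groth.Agent.S10830
import Groth.Agent.BranchLib.One
import Groth.Agent.ProjBunLib.Props
import Groth.Agent.AmpleDevLib.Components
-- import your own Groth.Agent.* helpers here

set_option autoImplicit false
set_option backward.isDefEq.respectTransparency false
set_option backward.isDefEq.respectTransparency.types false
universe u
open IntSh

namespace Groth.Agent.S15978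

open CategoryTheory CategoryTheory.Limits AlgebraicGeometry TopologicalSpace Topology

/-- The slice over a closed point. -/
theorem exists_slice {k : Type u} [Field k] [IsAlgClosed k] {X Y : Scheme.{u}}
    (sX : X ⟶ Spec (CommRingCat.of k)) (sY : Y ⟶ Spec (CommRingCat.of k)) [LocallyOfFiniteType sY]
    (y : Y) (hy : IsClosed ({y} : Set Y)) :
    ∃ σ : X ⟶ pullback sX sY, (∀ x, pullback.fst sX sY (σ x) = x) ∧ (∀ x, pullback.snd sX sY (σ x) = y) ∧
      ∀ z, pullback.snd sX sY z = y → σ (pullback.fst sX sY z) = z := by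
  set yb := AlgebraicGeometry.pointOfClosedPoint sY y hy with hyb
  have hcomp : yb ≫ sY = 𝟙 _ := AlgebraicGeometry.pointOfClosedPoint_comp sY y hy
  set p := pullback.fst sX sY
  set q := pullback.snd sX sY
  set σ : X ⟶ pullback sX sY := pullback.lift (𝟙 X) (sX ≫ yb)
    (by rw [Category.id_comp, Category.assoc, hcomp, Category.comp_id]) with hσ
  have hp : σ ≫ p = 𝟙 X := pullback.lift_fst _ _ _
  have hq : σ ≫ q = sX ≫ yb := pullback.lift_snd _ _ _
  refine ⟨σ, fun x => ?_, fun x => ?_, fun z hz => ?_⟩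
  · rw [← Scheme.Hom.comp_apply, hp]
    rfl
  · rw [← Scheme.Hom.comp_apply, hq, Scheme.Hom.comp_apply]
    exact AlgebraicGeometry.pointOfClosedPoint_apply sY y hy _
  · set a := pullback.fst q yb
    have hz' : z ∈ Set.range a := by
      rw [Scheme.Pullback.range_fst]
      exact ⟨IsLocalRing.closedPoint k, by rw [hz]; exact AlgebraicGeometry.pointOfClosedPoint_apply sY y hy _⟩
    obtain ⟨w, rfl⟩ := hz'
    have ha : (a ≫ p) ≫ σ = a := by
      apply pullback.hom_ext
      · rw [Category.assoc, hp, Category.comp_id]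
      · rw [Category.assoc, hq, Category.assoc, pullback.condition_assoc]
        change a ≫ q ≫ sY ≫ yb = a ≫ q
        rw [← Category.assoc a q, pullback.condition, Category.assoc, reassoc_of% hcomp]
    rw [← Scheme.Hom.comp_apply a p, ← Scheme.Hom.comp_apply, ha]

/-- An irreducible closed subset of a `d`-dimensional set which has dimension `d` is a component. -/
theorem eq_of_dim_le {X : Type u} [TopologicalSpace X] {T C F : Set X} (d : ℕ) (hT : IsClosed T) (hC : IsIrreducible C)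
    (hCF : C ⊆ F) (hF : topologicalKrullDim ↥F = d) (hTd : (d : WithBot ℕ∞) ≤ topologicalKrullDim ↥T) (hTC : T ⊆ C) :
    T = C := by
  haveI : IrreducibleSpace ↥C := (Subtype.irreducibleSpace hC)
  have hCd : topologicalKrullDim ↥C ≤ d := hF ▸
    (Topology.IsEmbedding.inclusion hCF).isInducing.topologicalKrullDim_le
  by_contra hne
  have hY : (Subtype.val ⁻¹' T : Set ↥C) ≠ Set.univ := fun h => hne (hTC.antisymm fun c hc => by
    have : (⟨c, hc⟩ : ↥C) ∈ (Subtype.val ⁻¹' T : Set ↥C) := h ▸ Set.mem_univ _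
    exact this)
  have hfin : topologicalKrullDim ↥C ≠ ⊤ := by
    intro h
    exact ENat.coe_ne_top d (WithBot.coe_inj.1 (top_le_iff.1 (h ▸ hCd)))
  have hlt := Groth.Agent.S10830.result ↥C hfin _ (hT.preimage continuous_subtype_val) hY
  have hle : topologicalKrullDim ↥T ≤ topologicalKrullDim ↥(Subtype.val ⁻¹' T : Set ↥C) := by
    refine IsInducing.topologicalKrullDim_le (f := fun t : ↥T => (⟨⟨t.1, hTC t.2⟩, t.2⟩ : ↥(Subtype.val ⁻¹' T : Set ↥C))) ?_
    exact .of_comp (by fun_prop) (by fun_prop : Continuous fun a : ↥(Subtype.val ⁻¹' T : Set ↥C) => a.1.1) IsEmbedding.subtypeVal.isInducing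
  exact absurd ((hTd.trans hle).trans_lt hlt) (not_lt.2 hCd)

/-- A family over a normal base with fibres of constant dimension: openness and purity. -/
theorem open_and_pure {k : Type u} [Field k] [IsAlgClosed k] {X Y : Scheme.{u}}
    (sX : X ⟶ Spec (CommRingCat.of k)) (sY : Y ⟶ Spec (CommRingCat.of k)) [IsProper sX]
    [IsIntegral Y] [IsProper sY] (hN : Pi1.IsNormalScheme Y) (d : ℕ)
    (Z : Set ↥(pullback sX sY)) (hZc : IsClosed Z) (hZi : IsIrreducible Z)
    (hZs : (pullback.snd sX sY).base '' Z = Set.univ)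
    (hZd : ∀ y : Y, topologicalKrullDim ↥(Z ∩ (pullback.snd sX sY).base ⁻¹' {y}) = d) :
    (∀ O : Set ↥(pullback sX sY), IsOpen O → IsOpen ((pullback.snd sX sY).base '' (Z ∩ O))) ∧
      ∀ (σ : X ⟶ pullback sX sY) (y : Y), (∀ t, pullback.fst sX sY (σ t) = t) → (∀ t, pullback.snd sX sY (σ t) = y) →
        (∀ z, pullback.snd sX sY z = y → σ (pullback.fst sX sY z) = z) →
        ∀ z ∈ Z, pullback.snd sX sY z = y → ∃ T : Set X, IsClosed T ∧ IsIrreducible T ∧
          pullback.fst sX sY z ∈ T ∧ T ⊆ σ ⁻¹' Z ∧ (d : WithBot ℕ∞) ≤ topologicalKrullDim ↥T := by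
  set p := pullback.fst sX sY with hp
  set q := pullback.snd sX sY with hq
  set W := (Scheme.IdealSheafData.vanishingIdeal ⟨Z, hZc⟩).subscheme
  set ι : W ⟶ pullback sX sY := (Scheme.IdealSheafData.vanishingIdeal ⟨Z, hZc⟩).subschemeι with hι
  haveI : IsIntegral W := AmpleDevLib.isIntegral_vanishingIdeal ⟨Z, hZc⟩ hZi
  have hιr : Set.range ι = Z := (Scheme.IdealSheafData.vanishingIdeal ⟨Z, hZc⟩).range_subschemeι.trans
    (Scheme.IdealSheafData.coe_support_vanishingIdeal ⟨Z, hZc⟩)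
  set g : W ⟶ Y := ι ≫ q with hg
  haveI : IsDominant g := ⟨(Function.Surjective.denseRange fun y => by
    obtain ⟨z, hz, rfl⟩ : y ∈ q.base '' Z := hZs ▸ Set.mem_univ y
    obtain ⟨w, rfl⟩ := hιr.symm ▸ hz
    exact ⟨w, Scheme.Hom.comp_apply ι q w⟩)⟩
  have hfib : ∀ y : Y, topologicalKrullDim ↥(g.fiber y) = d := by
    intro y
    have he : IsEmbedding (fun w : g.fiber y => ι (g.fiberι y w)) :=
      ι.isEmbedding.comp (g.fiberι y).isEmbedding
    have hr : Set.range (fun w : g.fiber y => ι (g.fiberι y w)) = Z ∩ q.base ⁻¹' {y} := by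
      ext z
      constructor
      · rintro ⟨w, rfl⟩
        exact ⟨hιr ▸ ⟨_, rfl⟩, (Scheme.Hom.comp_apply ι q _).symm.trans ((g.fiberHomeo y w).2)⟩
      · rintro ⟨hz, hzy⟩
        obtain ⟨w, rfl⟩ := hιr.symm ▸ hz
        refine ⟨(g.fiberHomeo y).symm ⟨w, (Scheme.Hom.comp_apply ι q w).trans hzy⟩, ?_⟩
        simp only [Scheme.Hom.fiberι_fiberHomeo_symm]
    rw [((he.toHomeomorph).trans (Homeomorph.setCongr hr)).isHomeomorph.topologicalKrullDim_eq _]
    exact hZd y
  have hloc : ∀ w : W, FlatMor.fibreDimAt g w = d := by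
    refine fun w => le_antisymm ?_ ((hfib _).symm.trans_le (Groth.Agent.S3388.result g w))
    refine (iInf_le _ (⟨⊤, trivial⟩ : {U : TopologicalSpace.Opens (g.fiber (g.base w)) // g.asFiber w ∈ U})).trans ?_
    exact (IsEmbedding.subtypeVal.isInducing.topologicalKrullDim_le).trans (hfib _).le
  haveI : UniversallyOpen g := Groth.Agent.S2568.result
    (fun y => by
      haveI := (hN y).1; haveI := (hN y).2
      exact BranchLib.isGeomUnibranch_of_isIntegrallyClosed _) g
    (fun w => by rw [hloc, hfib])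
  refine ⟨fun O hO => ?_, fun σ y hσp hσy hσ z hz hzy => ?_⟩
  · have : q.base '' (Z ∩ O) = g '' (ι ⁻¹' O) := by
      rw [← hιr, Set.inter_comm, ← Set.image_preimage_eq_inter_range, Set.image_image]
      rfl
    rw [this]
    exact g.isOpenMap _ (hO.preimage ι.continuous)
  · set Zy : Set X := σ ⁻¹' Z with hZy
    have hxy : p z ∈ Zy := by
      show σ (p z) ∈ Z
      rw [hσ z hzy]; exact hz
    haveI : IsLocallyNoetherian X := LocallyOfFiniteType.isLocallyNoetherian sX
    haveI : CompactSpace X := QuasiCompact.compactSpace_of_compactSpace sX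
    haveI : IsNoetherian X := {}
    haveI : NoetherianSpace ↥Zy := inferInstance
    set x : ↥Zy := ⟨p z, hxy⟩
    set T0 := irreducibleComponent x with hT0
    have hfinC : (irreducibleComponents ↥Zy).Finite := NoetherianSpace.finite_irreducibleComponents
    set O : Set ↥Zy := (⋃₀ (irreducibleComponents ↥Zy \ {T0}))ᶜ with hO
    have hOopen : IsOpen O := isOpen_compl_iff.2
      ((hfinC.subset Set.diff_subset).isClosed_biUnion (f := id) (fun C hC => isClosed_of_mem_irreducibleComponents C hC.1) |>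
        fun h => by rw [Set.sUnion_eq_biUnion]; exact h)
    have hOT : O ⊆ T0 := fun a ha => by
      by_contra hne
      exact ha ⟨irreducibleComponent a, ⟨irreducibleComponent_mem_irreducibleComponents a, fun h => hne (h ▸ mem_irreducibleComponent)⟩, mem_irreducibleComponent⟩
    have hOne : O.Nonempty := by
      by_contra hne
      rw [Set.not_nonempty_iff_eq_empty, hO, Set.compl_empty_iff] at hne
      have hsub : T0 ⊆ ⋃₀ ↑(hfinC.subset Set.diff_subset : (irreducibleComponents ↥Zy \ {T0}).Finite).toFinset := by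
        rw [Set.Finite.coe_toFinset, hne]; exact Set.subset_univ _
      obtain ⟨C, hC, hTC⟩ := isIrreducible_iff_sUnion_isClosed.1 isIrreducible_irreducibleComponent _
        (fun C hC => isClosed_of_mem_irreducibleComponents C ((Set.Finite.mem_toFinset _).1 hC).1) hsub
      have hC' := (Set.Finite.mem_toFinset _).1 hC
      exact hC'.2 (Set.mem_singleton_iff.2 (((irreducibleComponent_mem_irreducibleComponents x).2
        hC'.1.1 hTC).antisymm hTC))
    obtain ⟨⟨a, ha⟩, haO⟩ := hOne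
    obtain ⟨U, hUopen, hUO⟩ := isOpen_induced_iff.1 hOopen
    obtain ⟨w, hw⟩ : σ a ∈ Set.range ι := hιr.symm ▸ ha
    refine ⟨Subtype.val '' T0, (hZc.preimage σ.continuous).isClosedMap_subtype_val _ isClosed_irreducibleComponent,
      isIrreducible_irreducibleComponent.image _ continuous_subtype_val.continuousOn,
      ⟨x, mem_irreducibleComponent, rfl⟩, fun t ⟨t', _, ht'⟩ => ht' ▸ t'.2, ?_⟩
    have hwy : g w = y := by
      rw [hg, Scheme.Hom.comp_apply, hw]
      exact hσy a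
    subst hwy
    rw [← hloc w]
    refine (iInf_le _ (⟨⟨(fun v => p (ι (g.fiberι (g w) v))) ⁻¹' U,
      hUopen.preimage (by fun_prop)⟩, ?_⟩ : {U : TopologicalSpace.Opens (g.fiber (g.base w)) // g.asFiber w ∈ U})).trans ?_
    · show p (ι (g.fiberι (g w) (g.asFiber w))) ∈ U
      rw [Scheme.Hom.fiberι_asFiber, hw, hσp]
      exact (Set.ext_iff.1 hUO ⟨a, ha⟩).2 haO
    · have hback : ∀ v : g.fiber (g w), σ (p (ι (g.fiberι (g w) v))) = ι (g.fiberι (g w) v) := fun v =>
        hσ _ ((Scheme.Hom.comp_apply ι q _).symm.trans ((g.fiberHomeo (g w) v).2))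
      refine IsInducing.topologicalKrullDim_le (f := fun v => (⟨p (ι (g.fiberι (g w) v.1)),
        ⟨⟨p (ι (g.fiberι (g w) v.1)), show σ _ ∈ Z by rw [hback]; exact hιr ▸ ⟨_, rfl⟩⟩,
          hOT ((Set.ext_iff.1 hUO _).1 v.2), rfl⟩⟩ : ↥(Subtype.val '' T0))) ?_
      refine .of_comp (by fun_prop) (g := fun t : ↥(Subtype.val '' T0) => σ t.1) (by fun_prop) ?_
      convert (ι.isEmbedding.comp ((g.fiberι (g w)).isEmbedding.comp IsEmbedding.subtypeVal)).isInducing using 1
      funext v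
      exact hback v.1

/-- Let k be an algebraically closed field, X an integral scheme admitting a closed immersion into a
projective space over k, Y an integral normal scheme proper over k, and Z_1, …, Z_n closed
irreducible subsets of X ×_k Y each mapping onto Y under the second projection with all fibres of
the same Krull dimension d (a family of effective d-cycles of X parametrised by Y). Let B ⊆ Y be a
connected closed subset and F ⊆ X the image under the first projection of S ∩ p_2⁻¹(B), where S = ⋃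
Z_i. If F has Krull dimension d, then S ∩ p_2⁻¹(B) = p_1⁻¹(F) ∩ p_2⁻¹(B). (The published statement
is over an arbitrary field with Y a normal variety; for k = ℝ and X = Y = Spec ℂ one point of X ×_k
Y is such a family with d = 0 and B = Y, while p_1⁻¹(F) ∩ p_2⁻¹(B) has two points, and the published
proof uses irreducibility of products of irreducible closed subsets and a proper birational
flattening of Y; so k is taken algebraically closed and Y proper over k here.) -/
theorem result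
    {k : Type u} [Field k] [IsAlgClosed k] {X Y : Scheme.{u}}
    (sX : X ⟶ Spec (CommRingCat.of k)) (sY : Y ⟶ Spec (CommRingCat.of k))
    [IsIntegral X] (hX : RelProj.IsHProjective sX)
    [IsIntegral Y] [IsProper sY] (hN : Pi1.IsNormalScheme Y)
    (d : ℕ) {n : ℕ} (Z : Fin n → Set ↥(pullback sX sY))
    (hZc : ∀ i, IsClosed (Z i)) (hZi : ∀ i, IsIrreducible (Z i))
    (hZs : ∀ i, (pullback.snd sX sY).base '' Z i = Set.univ)
    (hZd : ∀ i (y : Y), topologicalKrullDim ↥(Z i ∩ (pullback.snd sX sY).base ⁻¹' {y}) = d)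
    (B : Set Y) (hB : IsClosed B) (hBc : _root_.IsPreconnected B)
    (hFd : topologicalKrullDim
        ↥((pullback.fst sX sY).base '' ((⋃ i, Z i) ∩ (pullback.snd sX sY).base ⁻¹' B)) = d) :
    (⋃ i, Z i) ∩ (pullback.snd sX sY).base ⁻¹' B =
      (pullback.fst sX sY).base ⁻¹'
          ((pullback.fst sX sY).base '' ((⋃ i, Z i) ∩ (pullback.snd sX sY).base ⁻¹' B)) ∩
        (pullback.snd sX sY).base ⁻¹' B := by
  obtain ⟨N, em, hem, hcomp⟩ := id hX
  haveI : IsProper sX := ProjBunLib.isProper_of_isHProjective hX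
  haveI : IsNoetherian Y := by
    haveI : IsLocallyNoetherian Y := LocallyOfFiniteType.isLocallyNoetherian sY
    haveI : CompactSpace Y := QuasiCompact.compactSpace_of_compactSpace sY
    exact {}
  haveI : IsLocallyNoetherian X := LocallyOfFiniteType.isLocallyNoetherian sX
  haveI : CompactSpace X := QuasiCompact.compactSpace_of_compactSpace sX
  haveI : IsNoetherian X := {}
  haveI : JacobsonSpace X := LocallyOfFiniteType.jacobsonSpace sX
  haveI : JacobsonSpace Y := LocallyOfFiniteType.jacobsonSpace sY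
  set p := pullback.fst sX sY with hp
  set q := pullback.snd sX sY with hq
  haveI : JacobsonSpace ↥(pullback sX sY) := LocallyOfFiniteType.jacobsonSpace (p ≫ sX)
  set S : Set ↥(pullback sX sY) := ⋃ i, Z i with hS
  have hSc : IsClosed S := isClosed_iUnion_of_finite hZc
  set F : Set X := p.base '' (S ∩ q.base ⁻¹' B) with hF
  have hFc : IsClosed F := p.isClosedMap _ (hSc.inter (hB.preimage q.continuous))
  have hSopen : ∀ O : Set ↥(pullback sX sY), IsOpen O → IsOpen (q.base '' (S ∩ O)) := fun O hO => by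
    rw [hS, Set.iUnion_inter, Set.image_iUnion]
    exact isOpen_iUnion fun i => (open_and_pure sX sY hN d (Z i) (hZc i) (hZi i) (hZs i) (hZd i)).1 O hO
  have key : ∀ y ∈ B, IsClosed ({y} : Set Y) → ∀ C : Set X, IsIrreducible C → IsClosed C → C ⊆ F →
      (∀ T : Set X, IsIrreducible T → T ⊆ F → C ⊆ T → T = C) → ∀ V : Set X, V ∩ F ⊆ C →
      (∃ z ∈ S, q z = y ∧ p z ∈ V ∧ ∀ D : Set X, IsIrreducible D → IsClosed D → D ⊆ F → p z ∈ D → D ⊆ C) →
      ∀ x ∈ C, ∃ z ∈ S, q z = y ∧ p z = x := by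
    intro y hyB hy C hC hCc hCF hmax V hVF ⟨z, hzS, hzy, hzV, hzD⟩ x hx
    obtain ⟨σ, hσp, hσy, hσ⟩ := exists_slice sX sY y hy
    obtain ⟨i, hzi⟩ := Set.mem_iUnion.1 hzS
    obtain ⟨T, hTc, hT, hzT, hTsub, hTd⟩ :=
      (open_and_pure sX sY hN d (Z i) (hZc i) (hZi i) (hZs i) (hZd i)).2 σ y hσp hσy hσ z hzi hzy
    have hTF : T ⊆ F := fun t ht => ⟨σ t, ⟨Set.mem_iUnion.2 ⟨i, hTsub ht⟩, by show q (σ t) ∈ B; rw [hσy]; exact hyB⟩, hσp t⟩
    have hTC : T = C := eq_of_dim_le d hTc hC hCF hFd hTd (hzD T hT hTc hTF hzT)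
    exact ⟨σ x, Set.mem_iUnion.2 ⟨i, hTsub (hTC ▸ hx)⟩, hσy x, hσp x⟩
  refine Set.Subset.antisymm (fun z hz => ⟨⟨z, hz, rfl⟩, hz.2⟩) ?_
  rintro z₀ ⟨hz₀F, hz₀B⟩
  refine ⟨?_, hz₀B⟩
  have hA : IsClosed (p.base ⁻¹' F ∩ q.base ⁻¹' B) := (hFc.preimage p.continuous).inter (hB.preimage q.continuous)
  have hclos := closure_inter_closedPoints (X := ↥(pullback sX sY)) hA
  suffices h : (p.base ⁻¹' F ∩ q.base ⁻¹' B) ∩ closedPoints ↥(pullback sX sY) ⊆ S from
    closure_minimal h hSc (hclos.ge ⟨hz₀F, hz₀B⟩)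
  clear z₀ hz₀F hz₀B
  rintro z ⟨⟨hzF, hzB⟩, hzc⟩
  have hy : IsClosed ({q z} : Set Y) := by simpa using q.isClosedMap _ hzc
  haveI : NoetherianSpace ↥F := inferInstance
  have hfinC : (irreducibleComponents ↥F).Finite := NoetherianSpace.finite_irreducibleComponents
  set C0 := irreducibleComponent (⟨p z, hzF⟩ : ↥F) with hC0
  set O : Set ↥F := (⋃₀ (irreducibleComponents ↥F \ {C0}))ᶜ with hO
  have hOopen : IsOpen O := isOpen_compl_iff.2
    ((hfinC.subset Set.diff_subset).isClosed_biUnion (f := id) (fun C hC => isClosed_of_mem_irreducibleComponents C hC.1) |>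
      fun h => by rw [Set.sUnion_eq_biUnion]; exact h)
  have hOne : O.Nonempty := by
    by_contra hne
    rw [Set.not_nonempty_iff_eq_empty, hO, Set.compl_empty_iff] at hne
    have hsub : C0 ⊆ ⋃₀ ↑(hfinC.subset Set.diff_subset : (irreducibleComponents ↥F \ {C0}).Finite).toFinset := by
      rw [Set.Finite.coe_toFinset, hne]; exact Set.subset_univ _
    obtain ⟨C, hC, hTC⟩ := isIrreducible_iff_sUnion_isClosed.1 isIrreducible_irreducibleComponent _
      (fun C hC => isClosed_of_mem_irreducibleComponents C ((Set.Finite.mem_toFinset _).1 hC).1) hsub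
    have hC' := (Set.Finite.mem_toFinset _).1 hC
    exact hC'.2 (Set.mem_singleton_iff.2 (((irreducibleComponent_mem_irreducibleComponents _).2
      hC'.1.1 hTC).antisymm hTC))
  have hOC : ∀ a ∈ O, ∀ D : Set ↥F, IsPreirreducible D → a ∈ D → D ⊆ C0 := by
    intro a ha D hD haD
    obtain ⟨E, hE, hDE, hEmax⟩ := exists_preirreducible D hD
    have hEc : E ∈ irreducibleComponents ↥F := ⟨⟨⟨a, hDE haD⟩, hE⟩, fun E' hE' h => (hEmax E' hE'.2 h).le⟩
    have : E = C0 := by
      by_contra hne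
      exact ha ⟨E, ⟨hEc, hne⟩, hDE haD⟩
    exact this ▸ hDE
  obtain ⟨U, hUopen, hUO⟩ := isOpen_induced_iff.1 hOopen
  obtain ⟨xC, ⟨hxCU, hxCF⟩, hxC⟩ : ((U ∩ F) ∩ closedPoints X).Nonempty := by
    obtain ⟨a, ha⟩ := hOne
    exact nonempty_inter_closedPoints (X := X) ⟨a.1, (Set.ext_iff.1 hUO a).2 ha, a.2⟩ (hUopen.isLocallyClosed.inter hFc.isLocallyClosed)
  have hxCmem : (⟨xC, hxCF⟩ : ↥F) ∈ C0 :=
    hOC _ ((Set.ext_iff.1 hUO _).1 hxCU) _ isPreirreducible_singleton rfl rfl
  set C : Set X := Subtype.val '' C0 with hC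
  have hsub : ∀ T : Set X, IsIrreducible T → T ⊆ F → IsIrreducible (Subtype.val ⁻¹' T : Set ↥F) := fun T hT hTF =>
    ⟨⟨⟨_, hTF hT.nonempty.some_mem⟩, hT.nonempty.some_mem⟩,
      fun u v hu hv ⟨a, haT, hau⟩ ⟨b, hbT, hbv⟩ => by
        obtain ⟨u', hu', rfl⟩ := isOpen_induced_iff.1 hu
        obtain ⟨v', hv', rfl⟩ := isOpen_induced_iff.1 hv
        obtain ⟨c, hcT, hcu, hcv⟩ := hT.2 u' v' hu' hv' ⟨a.1, haT, hau⟩ ⟨b.1, hbT, hbv⟩
        exact ⟨⟨c, hTF hcT⟩, hcT, hcu, hcv⟩⟩
  have hmax : ∀ T : Set X, IsIrreducible T → T ⊆ F → C ⊆ T → T = C := fun T hT hTF hCT => by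
    refine Set.Subset.antisymm (fun t ht => ⟨⟨t, hTF ht⟩, ?_, rfl⟩) hCT
    exact ((irreducibleComponent_mem_irreducibleComponents _).2 (hsub T hT hTF) (Set.image_subset_iff.1 hCT)) ht
  have hgood : ∀ y ∈ B, IsClosed ({y} : Set Y) → y ∈ q.base '' (S ∩ p.base ⁻¹' U) →
      ∀ x ∈ C, ∃ z ∈ S, q z = y ∧ p z = x := by
    rintro y hyB hy ⟨w, ⟨hwS, hwU⟩, rfl⟩
    refine key _ hyB hy C (isIrreducible_irreducibleComponent.image _ continuous_subtype_val.continuousOn)
      (hFc.isClosedMap_subtype_val _ isClosed_irreducibleComponent) (Subtype.coe_image_subset _ _) hmax U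
      (fun t ht => ⟨⟨t, ht.2⟩, hOC _ ((Set.ext_iff.1 hUO _).1 ht.1) _ isPreirreducible_singleton rfl rfl, rfl⟩)
      ⟨w, hwS, rfl, hwU, fun D hD _ hDF hwD t ht => ⟨⟨t, hDF ht⟩, ?_, rfl⟩⟩
    exact hOC ⟨p w, hDF hwD⟩ ((Set.ext_iff.1 hUO _).1 hwU) _ (hsub D hD hDF).2 hwD ht
  set P₁ : Set Y := q.base '' (S ∩ p.base ⁻¹' U) with hP₁
  set P₂ : Set Y := q.base '' (S ∩ p.base ⁻¹' {xC}) with hP₂
  have hP₁o : IsOpen P₁ := hSopen _ (hUopen.preimage p.continuous)
  have hP₂c : IsClosed P₂ := q.isClosedMap _ (hSc.inter ((hxC : IsClosed {xC}).preimage p.continuous))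
  have hP₂₁ : P₂ ⊆ P₁ := Set.image_mono (Set.inter_subset_inter_right _
    (Set.preimage_mono (Set.singleton_subset_iff.2 hxCU)))
  have hempty : ¬ (B ∩ P₁ ∩ P₂ᶜ).Nonempty := fun hne => by
    obtain ⟨y, ⟨⟨hyB, hy1⟩, hy2⟩, hyc⟩ :=
      nonempty_inter_closedPoints hne ((hB.isLocallyClosed.inter hP₁o.isLocallyClosed).inter hP₂c.isOpen_compl.isLocallyClosed)
    obtain ⟨w, hwS, hwy, hwx⟩ := hgood y hyB hyc hy1 xC ⟨_, hxCmem, rfl⟩
    exact hy2 ⟨w, ⟨hwS, hwx⟩, hwy⟩
  obtain ⟨w, ⟨hwS, hwB⟩, hwx⟩ : xC ∈ p.base '' (S ∩ q.base ⁻¹' B) := hxCF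
  have hBP : B ⊆ P₁ := by
    intro y hy
    by_contra hy1
    obtain ⟨t, htB, ht1, ht2⟩ := hBc P₁ P₂ᶜ hP₁o hP₂c.isOpen_compl
      (fun t ht => (Classical.em (t ∈ P₂)).elim (fun h => Or.inl (hP₂₁ h)) Or.inr)
      ⟨q w, hwB, hP₂₁ ⟨w, ⟨hwS, hwx⟩, rfl⟩⟩ ⟨y, hy, fun h => hy1 (hP₂₁ h)⟩
    exact hempty ⟨t, ⟨htB, ht1⟩, ht2⟩
  obtain ⟨w', hw'S, hw'y, hw'x⟩ := hgood (q z) hzB hy (hBP hzB) (p z) ⟨_, mem_irreducibleComponent, rfl⟩
  obtain ⟨σ, -, -, hσ⟩ := exists_slice sX sY (q z) hy
  rwa [← hσ z rfl, ← hw'x, hσ w' hw'y]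

end Groth.Agent.S15978
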