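import Groth.Statements.S15979
import Groth.Agent.QFactDescLib.Local
import Groth.Agent.CDivCoreLib.Normal
-- import your own Groth.Agent.* helpers here

set_option autoImplicit false
set_option backward.isDefEq.respectTransparency false
set_option backward.isDefEq.respectTransparency.types false
universe u
open IntSh

namespace Groth.Agent.S15979

open CategoryTheory CategoryTheory.Limits AlgebraicGeometry TopologicalSpace

/-- The kernel of a thickened point. -/
theorem ker_thickPoint {Y : Scheme.{u}} (η : Y) (M : Ideal (Y.presheaf.stalk η))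
    (V : Y.affineOpens) (hη : η ∈ V.1) [QuasiCompact (Spec.map (CommRingCat.ofHom (Ideal.Quotient.mk M)) ≫ Y.fromSpecStalk η)]
    (a : Γ(Y, V.1)) :
    a ∈ (Spec.map (CommRingCat.ofHom (Ideal.Quotient.mk M)) ≫ Y.fromSpecStalk η).ker.ideal V ↔
      Y.presheaf.germ V.1 η hη a ∈ M := by
  set q := CommRingCat.ofHom (Ideal.Quotient.mk M) with hq
  set f := Spec.map q ≫ Y.fromSpecStalk η with hf
  have htop : (⊤ : (Spec (CommRingCat.of (Y.presheaf.stalk η ⧸ M))).Opens) ≤ f ⁻¹ᵁ V.1 := fun p _ => by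
    show Y.fromSpecStalk η (Spec.map q p) ∈ V.1
    have h : Y.fromSpecStalk η (Spec.map q p) ∈ Set.range (Y.fromSpecStalk η) := ⟨_, rfl⟩
    rw [Scheme.range_fromSpecStalk] at h
    exact Specializes.mem_open (show _ ⤳ η from h) V.1.isOpen hη
  have he : f.appLE V.1 ⊤ htop =
      Y.presheaf.germ V.1 η hη ≫ q ≫ (Scheme.ΓSpecIso (CommRingCat.of (Y.presheaf.stalk η ⧸ M))).inv := by
    have htop' : (⊤ : (Spec (Y.presheaf.stalk η)).Opens) ≤ Y.fromSpecStalk η ⁻¹ᵁ V.1 := fun p _ => by
      have h : Y.fromSpecStalk η p ∈ Set.range (Y.fromSpecStalk η) := ⟨_, rfl⟩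
      rw [Scheme.range_fromSpecStalk] at h
      show Y.fromSpecStalk η p ∈ V.1
      exact Specializes.mem_open (show _ ⤳ η from h) V.1.isOpen hη
    rw [← Scheme.Hom.appLE_comp_appLE (Spec.map q) (Y.fromSpecStalk η) V.1 ⊤ ⊤ htop' le_top]
    have h1 : (Y.fromSpecStalk η).appLE V.1 ⊤ htop' =
        Y.presheaf.germ V.1 η hη ≫ (Scheme.ΓSpecIso _).inv := by
      rw [Scheme.Hom.appLE, Scheme.fromSpecStalk_app hη, Category.assoc, Category.assoc, ← Functor.map_comp,
        Subsingleton.elim ((homOfLE _).op ≫ (homOfLE htop').op) (𝟙 _), CategoryTheory.Functor.map_id,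
        Category.comp_id]
    have h2 : (Spec.map q).appLE ⊤ ⊤ le_top = (Spec.map q).appTop := by simp [Scheme.Hom.appLE]
    rw [h1, Category.assoc, h2, ← Scheme.ΓSpecIso_inv_naturality]
  have hker : RingHom.ker (f.app V.1).hom = RingHom.ker (f.appLE V.1 ⊤ htop).hom := by
    have hW : f ⁻¹ᵁ V.1 = ⊤ := top_le_iff.1 htop
    ext b
    simp only [RingHom.mem_ker, Scheme.Hom.appLE, CommRingCat.hom_comp, RingHom.comp_apply]
    refine ⟨fun h => by rw [h, map_zero], fun h => ?_⟩
    haveI : IsIso ((Spec (CommRingCat.of (Y.presheaf.stalk η ⧸ M))).presheaf.map (homOfLE htop).op) := by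
      rw [show (homOfLE htop).op = (eqToHom hW.symm).op from Subsingleton.elim _ _]
      infer_instance
    exact (ConcreteCategory.bijective_of_isIso
      ((Spec (CommRingCat.of (Y.presheaf.stalk η ⧸ M))).presheaf.map (homOfLE htop).op)).1 (h.trans (map_zero _).symm)
  rw [Scheme.Hom.ker_apply, hker, he, RingHom.mem_ker, CommRingCat.hom_comp, CommRingCat.hom_comp,
    RingHom.comp_apply, RingHom.comp_apply, ← Ideal.Quotient.eq_zero_iff_mem]
  exact map_eq_zero_iff _ (ConcreteCategory.bijective_of_isIso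
    (Scheme.ΓSpecIso (CommRingCat.of (Y.presheaf.stalk η ⧸ M))).inv).1

/-- Let π : X → Y be a surjective locally projective morphism between normal separated Noetherian
integral schemes which is equidimensional in the sense that all fibres π⁻¹(y), y ∈ Y, have the same
Krull dimension d. If X is ℚ-factorial, so is Y. Here a normal Noetherian integral scheme is called
ℚ-factorial when for every point ξ whose local ring has dimension one the prime divisor given by the
closure of ξ is, as a set, the support of some effective Cartier divisor (equivalently: some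
positive multiple of every Weil divisor is Cartier). -/
theorem result
    {X Y : Scheme.{u}} [IsNoetherian X] [IsNoetherian Y] [IsIntegral X] [IsIntegral Y]
    [X.IsSeparated] [Y.IsSeparated]
    (hXn : Pi1.IsNormalScheme X) (hYn : Pi1.IsNormalScheme Y)
    (π : X ⟶ Y) (hπ : RelProj.IsLocallyProjective π) [Surjective π]
    (d : ℕ) (hd : ∀ y : Y, topologicalKrullDim (↥(π.fiber y) : Type u) = d)
    (hX : ∀ ξ : X, ringKrullDim (X.presheaf.stalk ξ) = 1 →
      ∃ I : X.IdealSheafData, FGA.IsEffCartier I ∧ (I.support : Set X) = closure {ξ}) :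
    ∀ η : Y, ringKrullDim (Y.presheaf.stalk η) = 1 →
      ∃ J : Y.IdealSheafData, FGA.IsEffCartier J ∧ (J.support : Set Y) = closure {η} := by
  intro η hη
  haveI := (hYn η).1
  haveI : IsDiscreteValuationRing (Y.presheaf.stalk η) := CDivCoreLib.isDVR_of_coheight hYn (z := η) (by
    have h := hη
    rw [ringKrullDim_stalk_eq_coheight] at h
    exact_mod_cast h)
  set m := IsLocalRing.maximalIdeal (Y.presheaf.stalk η)
  -- local equations
  have hloc : ∀ y : {y : Y // IsClosed ({y} : Set Y)}, ∃ (V : Y.affineOpens) (h : Γ(Y, V.1)) (n : ℕ),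
      y.1 ∈ V.1 ∧ 0 < n ∧ ∀ N, n ∣ N → ∀ (hηV : η ∈ V.1) (a : Γ(Y, V.1)),
        Y.presheaf.germ V.1 η hηV a ∈ m ^ N ↔ a ∈ Ideal.span {h ^ (N / n)} := fun ⟨y, hy⟩ => by
    obtain ⟨V, hV, hyV, h, hh⟩ :=
      QFactDescLib.exists_local_equation hYn π hπ d hd hX η hη y hy
    by_cases hηV : η ∈ V
    · haveI : Nonempty V := ⟨⟨y, hyV⟩⟩
      haveI := LocFFLib.isIntegrallyClosed_sections hYn V
      haveI : IsNoetherianRing Γ(Y, V) := IsLocallyNoetherian.component_noetherian ⟨V, hV⟩
      letI := Y.presheaf.algebra_section_stalk ⟨η, hηV⟩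
      haveI := hV.isLocalization_stalk ⟨η, hηV⟩
      let P := (hV.primeIdealOf ⟨η, hηV⟩).asIdeal
      have hhP : h ∈ P := (QFactDescLib.mem_primeIdealOf_iff hV hηV h).2 ((hh η hηV).2 specializes_rfl)
      have hP1 : P.height = 1 := by
        have h1 := AffCodimLib.height_eq_stalk hV (hV.primeIdealOf ⟨η, hηV⟩)
        rw [hV.fromSpec_primeIdealOf, hη] at h1
        exact_mod_cast h1
      have hh' : ∀ q : Ideal Γ(Y, V), q.IsPrime → (h ∈ q ↔ P ≤ q) := fun q hq => by
        refine ⟨fun hhq => ?_, fun hle => hle hhP⟩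
        let q' : PrimeSpectrum Γ(Y, V) := ⟨q, hq⟩
        have hz : hV.fromSpec q' ∈ V := hV.range_fromSpec.subset ⟨q', rfl⟩
        have hpq : hV.primeIdealOf ⟨hV.fromSpec q', hz⟩ = q' :=
          hV.fromSpec.isOpenEmbedding.injective (hV.fromSpec_primeIdealOf _)
        have h2 := (hh _ hz).1 ((QFactDescLib.mem_primeIdealOf_iff hV hz h).1 (by rw [hpq]; exact hhq))
        have h4 : hV.fromSpec (hV.primeIdealOf ⟨η, hηV⟩) = η := hV.fromSpec_primeIdealOf ⟨η, hηV⟩
        rw [← h4] at h2
        exact (PrimeSpectrum.le_iff_specializes _ q').2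
          (hV.fromSpec.isEmbedding.isInducing.specializes_iff.1 h2)
      have h0 : h ≠ 0 := by
        intro h0
        have : P ≤ ⊥ := (hh' ⊥ Ideal.isPrime_bot).1 (by simp [h0])
        rw [le_bot_iff.1 this, Ideal.height_bot] at hP1
        exact zero_ne_one hP1
      obtain ⟨n, hn, hord⟩ := QFactDescLib.exists_ord P (Y.presheaf.stalk η) hhP h0
      refine ⟨⟨V, hV⟩, h, n, hyV, hn, fun N hN hηV' a => ?_⟩
      have h3 := QFactDescLib.dvd_iff_mem_pow P (Y.presheaf.stalk η) hP1 hh' hord (N / n) a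
      rw [Nat.mul_div_cancel' hN] at h3
      exact h3
    · exact ⟨⟨V, hV⟩, 1, 1, hyV, one_pos, fun _ _ h => absurd h hηV⟩
  choose V h n hyV hn hV using hloc
  have hcover : ∀ x : Y, ∃ y, x ∈ (V y).1 := fun x => by
    obtain ⟨y, hyx, hy⟩ := (isClosed_closure (s := ({x} : Set Y))).exists_closed_singleton
      ⟨x, subset_closure rfl⟩
    exact ⟨⟨y, hy⟩, (specializes_iff_mem_closure.2 hyx).mem_open (V ⟨y, hy⟩).1.isOpen (hyV ⟨y, hy⟩)⟩
  obtain ⟨t, ht⟩ := isCompact_univ.elim_finite_subcover (fun y => ((V y).1 : Set Y)) (fun y => (V y).1.isOpen)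
    (fun x _ => Set.mem_iUnion.2 (hcover x))
  set N := ∏ y ∈ t, n y with hN
  have hN0 : N ≠ 0 := Finset.prod_ne_zero_iff.2 fun y _ => (hn y).ne'
  set f := Spec.map (CommRingCat.ofHom (Ideal.Quotient.mk (m ^ N))) ≫ Y.fromSpecStalk η with hf
  haveI : QuasiCompact f := inferInstance
  refine ⟨f.ker, fun x => ?_, ?_⟩
  · obtain ⟨y, hy, hx⟩ := Set.mem_iUnion₂.1 (ht (Set.mem_univ x))
    refine ⟨V y, hx, ?_⟩
    haveI : Nonempty (V y).1 := ⟨⟨x, hx⟩⟩
    by_cases hηV : η ∈ (V y).1
    · have heq : f.ker.ideal (V y) = Ideal.span {h y ^ (N / n y)} := by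
        ext a
        exact (ker_thickPoint η (m ^ N) (V y) hηV a).trans (hV y N (Finset.dvd_prod_of_mem n hy) hηV a)
      refine ⟨_, mem_nonZeroDivisors_of_ne_zero fun h0 => ?_, heq⟩
      have hmem : m ^ N ≠ ⊥ := pow_ne_zero _ (IsDiscreteValuationRing.not_a_field _)
      letI := Y.presheaf.algebra_section_stalk ⟨η, hηV⟩
      haveI := (V y).2.isLocalization_stalk ⟨η, hηV⟩
      rw [h0, Ideal.span_singleton_zero] at heq
      refine hmem ((Submodule.eq_bot_iff _).2 fun b hb => ?_)
      obtain ⟨⟨a, s⟩, has⟩ :=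
        IsLocalization.surj ((V y).2.primeIdealOf ⟨η, hηV⟩).asIdeal.primeCompl b
      have ha : a ∈ f.ker.ideal (V y) := by
        refine (ker_thickPoint η (m ^ N) (V y) hηV a).2 ?_
        show algebraMap Γ(Y, (V y).1) (Y.presheaf.stalk η) a ∈ m ^ N
        rw [← has]
        exact Ideal.mul_mem_right _ _ hb
      rw [heq, Submodule.mem_bot] at ha
      rw [ha, map_zero] at has
      exact (IsLocalization.map_units _ s).mul_left_eq_zero.1 has
    · refine ⟨1, one_mem _, ?_⟩
      rw [Ideal.span_singleton_one, Scheme.Hom.ker_apply, Ideal.eq_top_iff_one, RingHom.mem_ker]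
      have hW : f ⁻¹ᵁ (V y).1 = ⊥ := by
        refine le_bot_iff.1 fun p hp => hηV ?_
        have hp' : Y.fromSpecStalk η (Spec.map (CommRingCat.ofHom (Ideal.Quotient.mk (m ^ N))) p) ∈ (V y).1 := hp
        have hpt : Spec.map (CommRingCat.ofHom (Ideal.Quotient.mk (m ^ N))) p =
            IsLocalRing.closedPoint (Y.presheaf.stalk η) := by
          refine PrimeSpectrum.ext (le_antisymm (IsLocalRing.le_maximalIdeal (Ideal.IsPrime.ne_top inferInstance)) ?_)
          refine ((Spec.map (CommRingCat.ofHom (Ideal.Quotient.mk (m ^ N))) p).isPrime.pow_le_iff hN0).1 ?_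
          intro z (hz : z ∈ m ^ N)
          show Ideal.Quotient.mk (m ^ N) z ∈ p.asIdeal
          rw [Ideal.Quotient.eq_zero_iff_mem.2 hz]
          exact zero_mem _
        have h5 := (congrArg (Y.fromSpecStalk η) hpt).trans (Scheme.fromSpecStalk_closedPoint ..)
        exact h5 ▸ hp'
      haveI : Subsingleton Γ(Spec (CommRingCat.of (Y.presheaf.stalk η ⧸ m ^ N)), f ⁻¹ᵁ (V y).1) := by
        rw [hW]
        exact CommRingCat.subsingleton_of_isTerminal (TopCat.Sheaf.isTerminalOfEmpty _)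
      exact Subsingleton.elim _ _
  · rw [Scheme.Hom.support_ker]
    show closure (Set.range f) = closure {η}
    congr 1
    have hr : ∀ p, f p = η := fun p => by
      have hpt : Spec.map (CommRingCat.ofHom (Ideal.Quotient.mk (m ^ N))) p =
          IsLocalRing.closedPoint (Y.presheaf.stalk η) := by
        refine PrimeSpectrum.ext (le_antisymm (IsLocalRing.le_maximalIdeal (Ideal.IsPrime.ne_top inferInstance)) ?_)
        refine ((Spec.map (CommRingCat.ofHom (Ideal.Quotient.mk (m ^ N))) p).isPrime.pow_le_iff hN0).1 ?_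
        intro z (hz : z ∈ m ^ N)
        show Ideal.Quotient.mk (m ^ N) z ∈ p.asIdeal
        rw [Ideal.Quotient.eq_zero_iff_mem.2 hz]
        exact zero_mem _
      rw [hf, Scheme.Hom.comp_apply]
      exact (congrArg (Y.fromSpecStalk η) hpt).trans (Scheme.fromSpecStalk_closedPoint ..)
    haveI : Nontrivial (Y.presheaf.stalk η ⧸ m ^ N) := Ideal.Quotient.nontrivial_iff.2 fun h =>
      (IsLocalRing.maximalIdeal.isMaximal (Y.presheaf.stalk η)).ne_top (top_le_iff.1 (h ▸ Ideal.pow_le_self hN0))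
    obtain ⟨p⟩ := (inferInstance : Nonempty (PrimeSpectrum (Y.presheaf.stalk η ⧸ m ^ N)))
    exact Set.Subset.antisymm (Set.range_subset_iff.2 hr) (Set.singleton_subset_iff.2 ⟨p, hr p⟩)

end Groth.Agent.S15979
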