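import Groth.Statements.S15980
import Groth.Agent.K0DivLib.Main
import Groth.Agent.CycK0Lib.OrdLen
-- import your own Groth.Agent.* helpers here

set_option autoImplicit false
universe u
open IntSh

namespace Groth.Agent.S15980.Aux

open CategoryTheory CategoryTheory.Limits AlgebraicGeometry
set_option backward.isDefEq.respectTransparency false
noncomputable section

open DevissLib (St)
open CycK0Lib K0DivLib

variable {X : Scheme.{u}} [IsNoetherian X] [IsIntegral X]

/-- Codimension at least one. -/
abbrev D1 (x : X) : Prop := (1 : WithBot ℕ∞) ≤ ringKrullDim (X.presheaf.stalk x)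

/-- Codimension at least two. -/
abbrev D2 (x : X) : Prop := (2 : WithBot ℕ∞) ≤ ringKrullDim (X.presheaf.stalk x)

theorem levels : Levels (D1 (X := X)) D2 := by
  refine ⟨fun x h => le_trans ?_ h, fun x y hx hy h => ?_⟩
  · exact_mod_cast (show (1 : ℕ) ≤ 2 by omega)
  by_contra hne
  have h1 := FibDimLib.ringKrullDim_stalk_lt h hne
  obtain ⟨a, ha⟩ := EquidimLib.exists_stalk_dim_eq_nat x
  obtain ⟨b, hb⟩ := EquidimLib.exists_stalk_dim_eq_nat y
  simp only [D1, D2, ha, hb] at hx hy h1
  norm_cast at hx hy h1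
  omega

theorem mono_D1 : ∀ x y : X, D1 x → x ⤳ y → D1 y := fun x y h hxy => by
  rcases eq_or_ne x y with rfl | hne
  · exact h
  · exact h.trans (FibDimLib.ringKrullDim_stalk_lt hxy hne).le

theorem not_D1_gen : ¬ D1 (η : X) := by
  show ¬ (1 : WithBot ℕ∞) ≤ ringKrullDim (KX X)
  rw [ringKrullDim_eq_zero_of_field]
  exact not_le.2 zero_lt_one

theorem D1_of_ne {x : X} (h : x ≠ (η : X)) : D1 x := by
  have h1 := FibDimLib.ringKrullDim_stalk_lt (spec_gen x) (Ne.symm h)
  obtain ⟨a, ha⟩ := EquidimLib.exists_stalk_dim_eq_nat x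
  obtain ⟨b, hb⟩ := EquidimLib.exists_stalk_dim_eq_nat (η : X)
  simp only [D1, ha, hb] at h1 ⊢
  norm_cast at h1 ⊢
  omega

/-- The divisor of a rational function as a difference of two modules of the same class. -/
theorem exists_pair {f : X.residueField (η : X)} (hf : f ≠ 0) :
    ∃ P₁ P₂ : X.Modules, P D1 P₁ ∧ P D1 P₂ ∧ CohGenLib.cl P₁ = CohGenLib.cl P₂ ∧
      ∀ x : X, ringKrullDim (X.presheaf.stalk x) = 1 →
        lenFun D2 P₁ x - lenFun D2 P₂ x = Cyc.ordAt x (η : X) (spec_gen x) f := by
  classical
  let N₀ := N (η : X)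
  let a := aN (η : X) f⁻¹ (inv_ne_zero hf)
  let ψ : N₀ ⊞ N₀ ⟶ KFlatLib.skyObj (η : X) (kmod (η : X)) := biprod.fst ≫ a - biprod.snd ≫ bN (η : X)
  let p : kernel ψ ⟶ N₀ := kernel.ι ψ ≫ biprod.fst
  let q : kernel ψ ⟶ N₀ := kernel.ι ψ ≫ biprod.snd
  have hψ : ∀ (y : X) w, ((St y).map ψ).hom w = ((St y).map a).hom (((St y).map biprod.fst).hom w) -
      ((St y).map (bN (η : X))).hom (((St y).map biprod.snd).hom w) := fun y w => by
    simp only [ψ, Functor.map_sub, Functor.map_comp, ModuleCat.hom_sub, LinearMap.sub_apply,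
      ModuleCat.hom_comp, LinearMap.comp_apply]
    rfl
  have hrel : ∀ (y : X) c, ((St y).map a).hom (((St y).map p).hom c) =
      ((St y).map (bN (η : X))).hom (((St y).map q).hom c) := by
    intro y c
    have h1 := hψ y (((St y).map (kernel.ι ψ)).hom c)
    rw [← LinearMap.comp_apply, ← ModuleCat.hom_comp, ← Functor.map_comp, kernel.condition, Functor.map_zero,
      ModuleCat.hom_zero, LinearMap.zero_apply, eq_comm, sub_eq_zero] at h1
    simp only [p, q, Functor.map_comp, ModuleCat.hom_comp, LinearMap.comp_apply]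
    exact h1
  have hsur : ∀ (y : X) m n, ((St y).map a).hom m = ((St y).map (bN (η : X))).hom n →
      ∃ c, ((St y).map p).hom c = m ∧ ((St y).map q).hom c = n := fun y m n hmn => by
    let w := ((St y).map (biprod.inl : N₀ ⟶ N₀ ⊞ N₀)).hom m + ((St y).map (biprod.inr : N₀ ⟶ N₀ ⊞ N₀)).hom n
    have hw1 : ((St y).map biprod.fst).hom w = m := by
      simp only [w, map_add, ← LinearMap.comp_apply, ← ModuleCat.hom_comp, ← Functor.map_comp, biprod.inl_fst,
        biprod.inr_fst, CategoryTheory.Functor.map_id, Functor.map_zero, ModuleCat.hom_id, ModuleCat.hom_zero,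
        LinearMap.id_apply, LinearMap.zero_apply, add_zero]
    have hw2 : ((St y).map biprod.snd).hom w = n := by
      simp only [w, map_add, ← LinearMap.comp_apply, ← ModuleCat.hom_comp, ← Functor.map_comp, biprod.inl_snd,
        biprod.inr_snd, CategoryTheory.Functor.map_id, Functor.map_zero, ModuleCat.hom_id, ModuleCat.hom_zero,
        LinearMap.id_apply, LinearMap.zero_apply, zero_add]
    obtain ⟨c, hc⟩ := map_kernel_exact ψ y (a := w) (by rw [hψ, hw1, hw2, hmn, sub_self])
    refine ⟨c, ?_, ?_⟩
    · simp only [p, Functor.map_comp, ModuleCat.hom_comp, LinearMap.comp_apply, hc, hw1]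
    · simp only [q, Functor.map_comp, ModuleCat.hom_comp, LinearMap.comp_apply, hc, hw2]
  have ainj : ∀ y, Function.Injective ((St y).map a).hom := fun y => (ModuleCat.mono_iff_injective _).mp inferInstance
  have binj : ∀ y, Function.Injective ((St y).map (bN (η : X))).hom := fun y =>
    (ModuleCat.mono_iff_injective _).mp inferInstance
  have hext : ∀ (y : X) c, ((St y).map p).hom c = 0 → ((St y).map q).hom c = 0 → c = 0 := fun y c h1 h2 => by
    refine kernel_ι_injective ψ y ((DevissLib.biprod_ext y _ ?_ ?_).trans (map_zero _).symm)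
    · rw [← LinearMap.comp_apply, ← ModuleCat.hom_comp, ← Functor.map_comp]; exact h1
    · rw [← LinearMap.comp_apply, ← ModuleCat.hom_comp, ← Functor.map_comp]; exact h2
  haveI : Mono p := mono_of_stalks p fun y => (injective_iff_map_eq_zero _).2 fun c hc =>
    hext y c hc (binj y (by rw [← hrel, hc, map_zero, map_zero]))
  haveI : Mono q := mono_of_stalks q fun y => (injective_iff_map_eq_zero _).2 fun c hc =>
    hext y c (ainj y (by rw [hrel, hc, map_zero, map_zero])) hc
  have hN : P (fun _ : X => True) N₀ := CohGenLib.mem_top (isCoh_N _)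
  have hK : P (fun _ : X => True) (kernel ψ) := (hN.biprod hN).kernel ψ (isQCoh_sky_kmod _)
  haveI : Coh.IsQCoh (kernel ψ) := hK.coh.1
  have hCp : Coh.IsCoh (cokernel p) := (hN.cokernel p hK.coh.1).coh
  have hCq : Coh.IsCoh (cokernel q) := (hN.cokernel q hK.coh.1).coh
  have key : ∀ (y : X),
      Module.length (X.presheaf.stalk y) ((St y).obj (cokernel p)) =
        Module.length (X.presheaf.stalk y) (X.presheaf.stalk y ⧸ mulIdeal (Cyc.specMap y (η : X) (spec_gen y)) f⁻¹ 1) ∧
      Module.length (X.presheaf.stalk y) ((St y).obj (cokernel q)) =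
        Module.length (X.presheaf.stalk y) (X.presheaf.stalk y ⧸ mulIdeal (Cyc.specMap y (η : X) (spec_gen y)) 1 f⁻¹) := by
    intro y
    have h := spec_gen y
    let u : (St y).obj N₀ := N₀.presheaf.germ ⊤ y trivial (uSec (η : X) ⊤)
    have hu : val (bN (η : X)) h u = 1 := val_uSec h _
    have hua : val a h u = f⁻¹ := val_aN _ _ h _
    have hgu : ∀ n, ∃ r : X.presheaf.stalk y, r • u = n := exists_smul_uSec (U := ⊤) trivial
    refine ⟨length_coker p u hgu _ fun r => ?_, length_coker q u hgu _ fun r => ?_⟩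
    · rw [LinearMap.mem_range, mem_mulIdeal]
      constructor
      · rintro ⟨c, hc⟩
        obtain ⟨r', hr'⟩ := hgu (((St y).map q).hom c)
        refine ⟨r', ?_⟩
        have h1 := (map_eq_iff_val a h (bN (η : X)) _ _).1 (hrel y c)
        rw [hc, ← hr', val_smul, val_smul, hu, hua] at h1
        exact h1
      · rintro ⟨r', hr'⟩
        obtain ⟨c, hc, -⟩ := hsur y (r • u) (r' • u) ((map_eq_iff_val a h (bN (η : X)) _ _).2
          (by rw [val_smul, val_smul, hu, hua]; exact hr'))
        exact ⟨c, hc⟩
    · rw [LinearMap.mem_range, mem_mulIdeal]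
      constructor
      · rintro ⟨c, hc⟩
        obtain ⟨r', hr'⟩ := hgu (((St y).map p).hom c)
        refine ⟨r', ?_⟩
        have h1 := (map_eq_iff_val a h (bN (η : X)) _ _).1 (hrel y c)
        rw [hc, ← hr', val_smul, val_smul, hu, hua] at h1
        exact h1.symm
      · rintro ⟨r', hr'⟩
        obtain ⟨c, -, hc⟩ := hsur y (r' • u) (r • u) ((map_eq_iff_val a h (bN (η : X)) _ _).2
          (by rw [val_smul, val_smul, hu, hua]; exact hr'.symm))
        exact ⟨c, hc⟩
  have hsupp : ∀ (C : X.Modules), Subsingleton ((St (η : X)).obj C) → ∀ x ∈ CohB1.support C, D1 x :=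
    fun C hC x hx => D1_of_ne fun e => by subst e; exact hx hC
  have hsurj : Function.Surjective (Cyc.specMap (η : X) (η : X) (spec_gen (η : X))) := fun z => by
    obtain ⟨r, rfl⟩ := X.residue_surjective (η : X) z
    refine ⟨r, congrArg (X.residue (η : X)) ?_⟩
    exact congr($(X.presheaf.stalkSpecializes_refl (η : X)) r)
  have top : ∀ w v : X.residueField (η : X), v ≠ 0 →
      Module.length (X.presheaf.stalk (η : X))
        (X.presheaf.stalk (η : X) ⧸ mulIdeal (Cyc.specMap (η : X) (η : X) (spec_gen (η : X))) w v) = 0 := fun w v hv => by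
    rw [show mulIdeal (Cyc.specMap (η : X) (η : X) (spec_gen (η : X))) w v = ⊤ from (Ideal.eq_top_iff_one _).2 (by
      obtain ⟨r', hr'⟩ := hsurj (w / v)
      refine ⟨r', ?_⟩
      rw [map_one, one_mul, hr', div_mul_cancel₀ _ hv])]
    haveI : Subsingleton (X.presheaf.stalk (η : X) ⧸ (⊤ : Ideal (X.presheaf.stalk (η : X)))) :=
      Submodule.Quotient.subsingleton_iff.2 rfl
    exact Module.length_eq_zero
  refine ⟨cokernel p, cokernel q,
    P.mk hCp (hsupp _ (Module.length_eq_zero_iff.1 ((key _).1.trans (top _ _ one_ne_zero)))),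
    P.mk hCq (hsupp _ (Module.length_eq_zero_iff.1 ((key _).2.trans (top _ _ (inv_ne_zero hf))))), ?_, fun x hx => ?_⟩
  · have hA := CohGenLib.addOn_cl (fun _ : X => True)
    have e1 := hA.add (ShortComplex.mk p (cokernel.π p) (cokernel.condition p))
      { exact := ShortComplex.exact_cokernel p } hK hN (CohGenLib.mem_top hCp)
    have e2 := hA.add (ShortComplex.mk q (cokernel.π q) (cokernel.condition q))
      { exact := ShortComplex.exact_cokernel q } hK hN (CohGenLib.mem_top hCq)
    exact add_left_cancel (e1.symm.trans e2)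
  · have hnot : ¬ D2 x := by
      show ¬ (2 : WithBot ℕ∞) ≤ _
      rw [hx]
      exact_mod_cast (show ¬ (2 : ℕ) ≤ 1 by omega)
    unfold lenFun
    rw [if_neg hnot, if_neg hnot]
    have hdim : ringKrullDim (Cyc.LocQuot x (η : X) (spec_gen x)) ≤ 1 :=
      ((ringKrullDim_quotient_le _).trans hx.le)
    haveI : Ring.KrullDimLE 1 (Cyc.LocQuot x (η : X) (spec_gen x)) := Ring.krullDimLE_iff.2 hdim
    have hmain := length_mulIdeal_sub (Cyc.specMap x (η : X) (spec_gen x)) (fun r => rfl) hf
    show ((Module.length (X.presheaf.stalk x) ((St x).obj (cokernel p))).toNat : ℤ) -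
      (Module.length (X.presheaf.stalk x) ((St x).obj (cokernel q))).toNat = _
    rw [(key x).1, (key x).2]
    exact hmain.2.2

/-- The class of a divisor. -/
theorem T_closure (T : SGA6.Kcoh X →+ Cl X) (hT : ∀ G : X.Modules, Coh.IsCoh G → T (CohGenLib.cl G) = Φ G)
    {y : X} (hy : ringKrullDim (X.presheaf.stalk y) = 1) :
    T (CohGenLib.cl (Cyc.closureStructureSheaf y)) =
      QuotientAddGroup.mk (fun x : C1 X => open Classical in if x.1 = y then (1 : ℤ) else 0) := by
  classical
  have hP := CohGenLib.closure_mem (D := D1) mono_D1 (show D1 y from hy.ge)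
  rw [hT _ hP.coh, Φ_torsion _ hP.coh (not_not.1 fun h => not_D1_gen (hP.supp h))]
  congr 1
  funext x
  have hn : ∀ z : X, ringKrullDim (X.presheaf.stalk z) = 1 → ¬ D2 z := fun z hz h => by
    simp only [D2, hz] at h
    exact absurd h (by exact_mod_cast (show ¬ (2 : ℕ) ≤ 1 by omega))
  have h := CohGenLib.lenFun_closure (levels (X := X)) (show D1 y from hy.ge) (hn y hy) (hn _ x.2)
  unfold lenFun at h
  rw [if_neg (hn _ x.2)] at h
  exact h

end

end Groth.Agent.S15980.Aux

namespace Groth.Agent.S15980

open CategoryTheory CategoryTheory.Limits AlgebraicGeometry in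
/-- Let X be a normal separated Noetherian integral scheme with generic point ξ. For a Weil divisor D,
given as a finitely supported integer-valued function on the points x with dim O_{X,x} = 1, the
class Σ_x D(x)·[O_{x̄}] in the Grothendieck group of coherent O_X-modules (O_{x̄} the structure
sheaf of the reduced closure of x) lies in the subgroup generated by the classes of coherent modules
whose support has codimension at least 2 if and only if D is principal, i.e. there is a nonzero
rational function f with D(x) = ord_x(f) at every point x with dim O_{X,x} = 1. (This is the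
statement that prime divisors induce an injection of the Weil divisor class group into the first
graded piece of the coniveau filtration; the published lemma phrases it as an isomorphism onto the
group of reflexive rank-one sheaves compatible with the determinant, and cites the surjectivity. The
published statement also allows X disconnected: a normal Noetherian scheme is the disjoint union of
its finitely many integral components and the claim splits accordingly, and the published proof
begins by reducing to the integral case, which is the case stated here.) -/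
theorem result
    {X : Scheme.{u}} [IsNoetherian X] [IsIntegral X] [X.IsSeparated] (hXn : Pi1.IsNormalScheme X)
    (D : X →₀ ℤ) (hD : ∀ x ∈ D.support, ringKrullDim (X.presheaf.stalk x) = 1) :
    (D.sum fun x n => n • KZero.clSub (fun M : X.Modules => Coh.IsCoh M) (Cyc.closureStructureSheaf x)) ∈
        AddSubgroup.closure {c : SGA6.Kcoh X | ∃ F : X.Modules, Coh.IsCoh F ∧
          (∀ x ∈ CohB1.support F, (2 : WithBot ℕ∞) ≤ ringKrullDim (X.presheaf.stalk x)) ∧
          c = KZero.clSub (fun M : X.Modules => Coh.IsCoh M) F} ↔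
      ∃ f : X.residueField (genericPoint X), f ≠ 0 ∧
        ∀ x : X, ringKrullDim (X.presheaf.stalk x) = 1 →
          D x = Cyc.ordAt x (genericPoint X) (genericPoint_specializes x) f := by
  classical
  let cl := fun F : X.Modules => KZero.clSub (fun M : X.Modules => Coh.IsCoh M) F
  have hset : {c : SGA6.Kcoh X | ∃ F : X.Modules, Coh.IsCoh F ∧
      (∀ x ∈ CohB1.support F, (2 : WithBot ℕ∞) ≤ ringKrullDim (X.presheaf.stalk x)) ∧
      c = KZero.clSub (fun M : X.Modules => Coh.IsCoh M) F} =
      {c | ∃ G : X.Modules, CycK0Lib.P Aux.D2 G ∧ c = CohGenLib.cl G} := by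
    ext c
    constructor
    · rintro ⟨F, hF, hs, e⟩; exact ⟨F, CycK0Lib.P.mk hF hs, e⟩
    · rintro ⟨F, hF, e⟩; exact ⟨F, hF.coh, fun x hx => hF.supp hx, e⟩
  rw [hset]
  show _ ∈ CohGenLib.lower Aux.D2 ↔ _
  have hn2 : ∀ z : X, ringKrullDim (X.presheaf.stalk z) = 1 → ¬ Aux.D2 z := fun z hz h => by
    simp only [Aux.D2, hz] at h
    exact absurd h (by exact_mod_cast (show ¬ (2 : ℕ) ≤ 1 by omega))
  constructor
  · intro hmem
    obtain ⟨T, hT⟩ := K0DivLib.exists_lift_Kcoh (X := X)
    have hkill : T (D.sum fun x n => n • CohGenLib.cl (Cyc.closureStructureSheaf x)) = 0 := by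
      have hle : CohGenLib.lower Aux.D2 ≤ T.ker := (AddSubgroup.closure_le _).2 (by
        rintro _ ⟨G, hG, rfl⟩
        show T (CohGenLib.cl G) = 0
        rw [hT G hG.coh, K0DivLib.Φ_torsion G hG.coh (not_not.1 fun h =>
          Aux.not_D1_gen ((Aux.levels (X := X)).le _ (hG.supp h))), QuotientAddGroup.eq_zero_iff]
        refine ⟨0, funext fun x => ?_⟩
        rw [map_zero]
        show (0 : ℤ) = ((Module.length (X.presheaf.stalk x.1) ((DevissLib.St x.1).obj G)).toNat : ℤ)
        rw [CycK0Lib.length_stalk_eq_zero fun h => hn2 _ x.2 (hG.supp h)]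
        rfl)
      exact hle hmem
    rw [Finsupp.sum, map_sum] at hkill
    have hval : (QuotientAddGroup.mk (fun x : K0DivLib.C1 X => D x.1) : K0DivLib.Cl X) = 0 := by
      rw [← hkill]
      have : (fun x : K0DivLib.C1 X => D x.1) =
          ∑ y ∈ D.support, D y • (fun x : K0DivLib.C1 X => if x.1 = y then (1 : ℤ) else 0) := by
        funext x
        simp [Finset.sum_apply, Finset.sum_ite_eq]
      rw [this, ← QuotientAddGroup.mk'_apply, map_sum]
      refine Finset.sum_congr rfl fun y hy => ?_
      rw [map_zsmul, map_zsmul, Aux.T_closure T hT (hD y hy)]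
      rfl
    obtain ⟨v, hv⟩ := (QuotientAddGroup.eq_zero_iff _).1 hval
    refine ⟨X.residue _ (v.toMul : (K0DivLib.KX X)ˣ), fun h0 => ?_, fun x hx => ?_⟩
    · exact (IsLocalRing.mem_maximalIdeal _).1 ((IsLocalRing.residue_eq_zero_iff _).1 h0) (v.toMul : (K0DivLib.KX X)ˣ).isUnit
    · exact (congrFun hv ⟨x, hx⟩).symm.trans (K0DivLib.ordAt_eq hx.le (v.toMul : (K0DivLib.KX X)ˣ).ne_zero).symm
  · rintro ⟨f, hf, hDf⟩
    obtain ⟨P₁, P₂, hP₁, hP₂, he, hlen⟩ := Aux.exists_pair hf
    let s := D.support ∪ (CohGenLib.finite_top Aux.levels hP₁).toFinset ∪ (CohGenLib.finite_top Aux.levels hP₂).toFinset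
    have hs : ∀ x ∈ s, ringKrullDim (X.presheaf.stalk x) = 1 := fun x hx => by
      have hcase : ∀ {G : X.Modules}, CycK0Lib.P Aux.D1 G → x ∈ CohB1.support G → ¬ Aux.D2 x →
          ringKrullDim (X.presheaf.stalk x) = 1 := fun {G} hG h1 h2 => by
        have h3 : Aux.D1 x := hG.supp h1
        obtain ⟨a, ha⟩ := EquidimLib.exists_stalk_dim_eq_nat x
        simp only [Aux.D1, Aux.D2, ha] at h2 h3 ⊢
        norm_cast at h2 h3 ⊢
        omega
      simp only [s, Finset.mem_union, Set.Finite.mem_toFinset] at hx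
      rcases hx with (hx | hx) | hx
      · exact hD x hx
      · exact hcase hP₁ hx.1 hx.2
      · exact hcase hP₂ hx.1 hx.2
    have hss : ∀ x, x ∈ s → ¬ Aux.D2 x ∧ Aux.D1 x := fun x hx => ⟨hn2 x (hs x hx), (hs x hx).ge⟩
    have m₁ := CohGenLib.sub_sum_mem Aux.levels Aux.mono_D1 hP₁ s hss
      fun x h1 h2 => Finset.mem_union_left _ (Finset.mem_union_right _ ((Set.Finite.mem_toFinset _).2 ⟨h1, h2⟩))
    have m₂ := CohGenLib.sub_sum_mem Aux.levels Aux.mono_D1 hP₂ s hss
      fun x h1 h2 => Finset.mem_union_right _ ((Set.Finite.mem_toFinset _).2 ⟨h1, h2⟩)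
    have h := AddSubgroup.sub_mem _ m₂ m₁
    rw [he, sub_sub_sub_cancel_left, ← Finset.sum_sub_distrib] at h
    rw [Finsupp.sum_of_support_subset D (show D.support ⊆ s from Finset.subset_union_left.trans Finset.subset_union_left)
      (fun x m => m • KZero.clSub (fun M : X.Modules => Coh.IsCoh M) (Cyc.closureStructureSheaf x)) (fun x _ => zero_smul _ _)]
    convert h using 1
    refine Finset.sum_congr rfl fun x hx => ?_
    rw [← natCast_zsmul, ← natCast_zsmul, ← sub_smul]
    congr 1
    refine (hDf x (hs x hx)).trans ((hlen x (hs x hx)).symm.trans ?_)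
    simp only [CycK0Lib.lenFun, if_neg (hn2 x (hs x hx))]
    rfl

end Groth.Agent.S15980
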