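import Groth.Statements.S15981
import Groth.Agent.CohGenLib.Basic
import Groth.Agent.FibDimLib.ClosureDim
import Groth.Agent.IntMultLib.Dim0
-- import your own Groth.Agent.* helpers here

set_option autoImplicit false
universe u
open IntSh

namespace Groth.Agent.S15981

open CategoryTheory CategoryTheory.Limits AlgebraicGeometry in
/-- Let X be a reduced Noetherian scheme and η_i the generic points of its irreducible components (the
points with zero-dimensional local ring). Sending the class of a coherent O_X-module F to the family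
of lengths of its stalks F_{η_i} over O_{X,η_i} is a well defined homomorphism rk from the
Grothendieck group of coherent O_X-modules to the group of integer-valued functions on the η_i;
every such rk is surjective and its kernel is the subgroup generated by the classes of coherent
modules whose support contains no η_i (the first step of the coniveau filtration), so that rk
identifies the zeroth graded piece of that filtration with the free abelian group on the irreducible
components. -/
theorem result
    {X : Scheme.{u}} [IsNoetherian X] [IsReduced X] :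
    (∃ rk : SGA6.Kcoh X →+ ({x : X // ringKrullDim (X.presheaf.stalk x) = 0} → ℤ),
        ∀ F : X.Modules, Coh.IsCoh F →
          rk (KZero.clSub (fun M : X.Modules => Coh.IsCoh M) F) =
            fun x => ((Module.length (X.presheaf.stalk x.1) (F.presheaf.stalk x.1)).toNat : ℤ)) ∧
    ∀ rk : SGA6.Kcoh X →+ ({x : X // ringKrullDim (X.presheaf.stalk x) = 0} → ℤ),
      (∀ F : X.Modules, Coh.IsCoh F →
          rk (KZero.clSub (fun M : X.Modules => Coh.IsCoh M) F) =
            fun x => ((Module.length (X.presheaf.stalk x.1) (F.presheaf.stalk x.1)).toNat : ℤ)) →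
        Function.Surjective rk ∧
          rk.ker = AddSubgroup.closure {c : SGA6.Kcoh X | ∃ F : X.Modules, Coh.IsCoh F ∧
            (∀ x ∈ CohB1.support F, (1 : WithBot ℕ∞) ≤ ringKrullDim (X.presheaf.stalk x)) ∧
            c = KZero.clSub (fun M : X.Modules => Coh.IsCoh M) F} := by
  classical
  let D' : X → Prop := fun x => (1 : WithBot ℕ∞) ≤ ringKrullDim (X.presheaf.stalk x)
  have hz : ∀ x : X, ¬ D' x ↔ ringKrullDim (X.presheaf.stalk x) = 0 := fun x => by
    have h0 : (0 : WithBot ℕ∞) ≤ ringKrullDim (X.presheaf.stalk x) := ringKrullDim_nonneg_of_nontrivial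
    show ¬ (1 : WithBot ℕ∞) ≤ _ ↔ _
    generalize ringKrullDim (X.presheaf.stalk x) = d at h0 ⊢
    induction d with
    | bot => simp at h0
    | coe d =>
      rw [show (1 : WithBot ℕ∞) = ((1 : ℕ∞) : WithBot ℕ∞) from rfl, WithBot.coe_le_coe, WithBot.coe_eq_zero, not_le]
      exact ENat.lt_one_iff_eq_zero
  have L : CycK0Lib.Levels (fun _ : X => True) D' := ⟨fun _ _ => trivial, fun x y hx _ h => by
    by_contra hne
    have h1 := FibDimLib.ringKrullDim_stalk_lt h hne
    rw [(hz x).1 hx] at h1
    exact absurd h1 (not_lt.2 ringKrullDim_nonneg_of_nontrivial)⟩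
  have hadd := L.addOn_lenFun
  obtain ⟨r, hr⟩ := Groth.Agent.KHeartLib.exists_lift_sub (fun M : X.Modules => Coh.IsCoh M)
    (fun F => fun x : {x : X // ringKrullDim (X.presheaf.stalk x) = 0} => CycK0Lib.lenFun D' F x.1)
    (fun S hS h₁ h₂ h₃ => funext fun x => congrFun
      (hadd.add S hS (CohGenLib.mem_top h₁) (CohGenLib.mem_top h₂) (CohGenLib.mem_top h₃)) x.1)
  have hlen : ∀ (F : X.Modules) (x : {x : X // ringKrullDim (X.presheaf.stalk x) = 0}),
      CycK0Lib.lenFun D' F x.1 = ((Module.length (X.presheaf.stalk x.1) (F.presheaf.stalk x.1)).toNat : ℤ) := fun F x => by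
    unfold CycK0Lib.lenFun
    rw [if_neg ((hz _).2 x.2)]
    rfl
  refine ⟨⟨r, fun F hF => (hr F hF).trans (funext (hlen F))⟩, fun rk hrk => ?_⟩
  have hstr : Coh.IsCoh (Coh.structureModule X) := DevissLib.isCoh_structureModule _
  haveI : Finite {x : X // ringKrullDim (X.presheaf.stalk x) = 0} := by
    refine Set.Finite.to_subtype ((CohGenLib.finite_top L (CohGenLib.mem_top hstr)).subset fun x hx => ⟨?_, (hz x).2 hx⟩)
    rw [IntMultLib.support_structureModule']
    trivial
  have hval : ∀ (F : X.Modules), Coh.IsCoh F → ∀ (x : {x : X // ringKrullDim (X.presheaf.stalk x) = 0}),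
      rk (CohGenLib.cl F) x = CycK0Lib.lenFun D' F x.1 := fun F hF x => by
    rw [CohGenLib.cl, hrk F hF]
    exact (hlen F x).symm
  refine ⟨fun g => ?_, le_antisymm (fun a ha => ?_) ((AddSubgroup.closure_le _).2 ?_)⟩
  · haveI : Fintype {x : X // ringKrullDim (X.presheaf.stalk x) = 0} := Fintype.ofFinite _
    refine ⟨∑ z, g z • CohGenLib.cl (Cyc.closureStructureSheaf z.1), funext fun x => ?_⟩
    rw [map_sum, Finset.sum_apply, Finset.sum_eq_single x]
    · rw [map_zsmul, Pi.smul_apply, hval _ (CohGenLib.closure_mem (D := fun _ : X => True) (fun _ _ _ _ => trivial) trivial).coh,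
        CohGenLib.lenFun_closure L trivial ((hz _).2 x.2) ((hz _).2 x.2), if_pos rfl]
      simp
    · intro z _ hne
      rw [map_zsmul, Pi.smul_apply, hval _ (CohGenLib.closure_mem (D := fun _ : X => True) (fun _ _ _ _ => trivial) trivial).coh,
        CohGenLib.lenFun_closure L trivial ((hz _).2 z.2) ((hz _).2 x.2), if_neg fun e => hne (Subtype.ext e.symm)]
      simp
    · simp
  · obtain ⟨F, G, hF, hG, rfl⟩ := CohGenLib.exists_diff a
    have he : CycK0Lib.lenFun D' F = CycK0Lib.lenFun D' G := funext fun x => by
      by_cases hx : D' x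
      · simp [CycK0Lib.lenFun, if_pos hx]
      · have h := congrFun (show rk (CohGenLib.cl F - CohGenLib.cl G) = 0 from ha) ⟨x, (hz x).1 hx⟩
        rw [map_sub, Pi.sub_apply, hval F hF, hval G hG, Pi.zero_apply, sub_eq_zero] at h
        exact h
    let q := QuotientAddGroup.mk' (CohGenLib.lower D')
    have hq := L.eq_of_lenFun (φ := fun F => q (CohGenLib.cl F)) (CohGenLib.addOn_comp (CohGenLib.addOn_cl _) q)
      (fun H hH => (QuotientAddGroup.eq_zero_iff _).2 (CohGenLib.cl_mem_lower hH))
      (CohGenLib.mem_top hF) (CohGenLib.mem_top hG) he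
    have hm : CohGenLib.cl F - CohGenLib.cl G ∈ CohGenLib.lower D' := by
      rw [← QuotientAddGroup.eq_zero_iff, QuotientAddGroup.mk_sub, sub_eq_zero]
      exact hq
    refine (AddSubgroup.closure_le _).2 ?_ hm
    rintro _ ⟨H, hH, rfl⟩
    exact AddSubgroup.subset_closure ⟨H, hH.coh, fun x hx => hH.supp hx, rfl⟩
  · rintro _ ⟨F, hF, hs, rfl⟩
    refine funext fun x => ?_
    show rk (CohGenLib.cl F) x = 0
    rw [hval F hF]
    exact congrFun (CycK0Lib.lenFun_kills (D' := D') F (CycK0Lib.P.mk hF hs)) x.1

end Groth.Agent.S15981
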