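import Groth.Statements.S15987
-- import your own Groth.Agent.* helpers here

set_option autoImplicit false
universe u v
open Deform

namespace Groth.Agent.S15987

open TrivSqZeroExt in
/-- Let k be a field, A a commutative k-algebra and q_i : A → k (i ∈ ι) k-algebra maps (marked k-points
of Spec A). The k-algebra automorphisms φ of the ring of dual numbers A[ε] that fix ε (so are
k[ε]-linear), are the identity modulo ε, and satisfy q_i((φ x)_ε) = q_i(x_ε) for all i and x
(compatibility with the trivial lifts A[ε] → k[ε] of the marked points) are in bijection with the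
k-derivations D : A → A such that q_i ∘ D = 0 for every i, the bijection sending φ to a ↦ (φ(a))_ε.
(The source identifies the right-hand side with the global vector fields vanishing at the marked
points; the condition the computation yields is q_i ∘ D = 0, which is the same for Spec A smooth
over k but is weaker in general, e.g. for A = k[x]/(x^2) with 2 invertible in k.) -/
theorem result
    (k : Type u) [Field k] (A : Type u) [CommRing A] [Algebra k A] {ι : Type v} (q : ι → (A →ₐ[k] k)) :
    ∃ e : {φ : DualNumber A ≃ₐ[k] DualNumber A //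
            φ DualNumber.eps = DualNumber.eps ∧ (∀ x, (φ x).fst = x.fst) ∧
              ∀ i x, q i (φ x).snd = q i x.snd} ≃
          {D : Derivation k A A // ∀ i a, q i (D a) = 0},
      ∀ φ (a : A), (e φ).1 a = (φ.1 (inl a : DualNumber A)).snd := by
  classical
  have hdec : ∀ x : DualNumber A, x = inl x.fst + inl x.snd * DualNumber.eps := fun x => by
    apply TrivSqZeroExt.ext <;> simp [TrivSqZeroExt.fst_add, TrivSqZeroExt.snd_add, TrivSqZeroExt.fst_mul, TrivSqZeroExt.snd_mul, TrivSqZeroExt.fst_inl, TrivSqZeroExt.snd_inl, TrivSqZeroExt.fst_inr, TrivSqZeroExt.snd_inr, DualNumber.fst_eps, DualNumber.snd_eps, smul_eq_mul, MulOpposite.smul_eq_mul_unop, MulOpposite.unop_op]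
  have hφ : ∀ (φ : DualNumber A ≃ₐ[k] DualNumber A), φ DualNumber.eps = DualNumber.eps →
      (∀ x, (φ x).fst = x.fst) → ∀ x, (φ x).snd = (φ (inl x.fst)).snd + x.snd := by
    intro φ he hf x
    conv_lhs => rw [hdec x, map_add, map_mul, he]
    simp [TrivSqZeroExt.fst_add, TrivSqZeroExt.snd_add, TrivSqZeroExt.fst_mul, TrivSqZeroExt.snd_mul, TrivSqZeroExt.fst_inl, TrivSqZeroExt.snd_inl, TrivSqZeroExt.fst_inr, TrivSqZeroExt.snd_inr, DualNumber.fst_eps, DualNumber.snd_eps, smul_eq_mul, MulOpposite.smul_eq_mul_unop, MulOpposite.unop_op, hf]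
  refine ⟨{
    toFun := fun φ => ⟨
      { toLinearMap :=
          { toFun := fun a => (φ.1 (inl a : DualNumber A)).snd
            map_add' := fun a b => by rw [inl_add, map_add, TrivSqZeroExt.snd_add]
            map_smul' := fun c a => by rw [inl_smul, map_smul, TrivSqZeroExt.snd_smul]; rfl }
        map_one_eq_zero' := by
          show (φ.1 (inl (1 : A) : DualNumber A)).snd = 0
          rw [TrivSqZeroExt.inl_one, map_one, TrivSqZeroExt.snd_one]
        leibniz' := fun a b => by
          show (φ.1 (inl (a * b) : DualNumber A)).snd = _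
          rw [inl_mul, map_mul, TrivSqZeroExt.snd_mul, φ.2.2.1, φ.2.2.1]
          simp [smul_eq_mul, mul_comm] },
      fun i a => ?_⟩
    invFun := fun D => ⟨
      { toFun := fun x => inl x.fst + inr (x.snd + D.1 x.fst)
        invFun := fun x => inl x.fst + inr (x.snd - D.1 x.fst)
        left_inv := fun x => by apply TrivSqZeroExt.ext <;> simp
        right_inv := fun x => by apply TrivSqZeroExt.ext <;> simp
        map_mul' := fun x y => by
          apply TrivSqZeroExt.ext
          · simp
          · simp; ring
        map_add' := fun x y => by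
          apply TrivSqZeroExt.ext
          · simp
          · simp; abel
        commutes' := fun c => by
          apply TrivSqZeroExt.ext <;> simp [TrivSqZeroExt.algebraMap_eq_inl'] }, ?_, ?_, ?_⟩
    left_inv := fun φ => ?_
    right_inv := fun D => ?_ }, fun φ a => rfl⟩
  · exact (φ.2.2.2 i (inl a)).trans (by simp)
  · apply TrivSqZeroExt.ext <;> simp [TrivSqZeroExt.fst_add, TrivSqZeroExt.snd_add, TrivSqZeroExt.fst_mul, TrivSqZeroExt.snd_mul, TrivSqZeroExt.fst_inl, TrivSqZeroExt.snd_inl, TrivSqZeroExt.fst_inr, TrivSqZeroExt.snd_inr, DualNumber.fst_eps, DualNumber.snd_eps, smul_eq_mul, MulOpposite.smul_eq_mul_unop, MulOpposite.unop_op]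
  · intro x; simp
  · intro i x; simp [D.2]
  · refine Subtype.ext (AlgEquiv.ext fun x => TrivSqZeroExt.ext ?_ ?_)
    · simp [φ.2.2.1]
    · rw [hφ φ.1 φ.2.1 φ.2.2.1 x]
      simp [add_comm]
  · refine Subtype.ext (Derivation.ext fun a => ?_)
    simp

end Groth.Agent.S15987
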