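import Groth.Statements.S15988
import Mathlib

set_option autoImplicit false
universe u v
open Deform

namespace Groth.Agent.S15988

open TrivSqZeroExt in
/-- Let k be a field, A a smooth commutative k-algebra, q_i : A → k (i ∈ ι, ι finite) pairwise distinct
k-algebra maps, and q'_i : A[ε] → k[ε] k-algebra maps with q'_i(ε) = ε which reduce to q_i modulo ε
(marked points of a first-order deformation with underlying trivial deformation). Then some
k-algebra automorphism φ of A[ε] with φ(ε) = ε and φ = id modulo ε carries every q'_i to the trivial
lift of q_i: q'_i(φ x) = (q_i(x_0), q_i(x_ε)) for all i and x. Together with the triviality of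
first-order deformations of a smooth affine scheme this gives the source's statement that
first-order deformations of a smooth affine scheme with marked points are trivial. (The published
statement does not say that the finitely many marked points are distinct; for two coincident points
with different lifts no such automorphism exists, so the points are taken pairwise distinct here,
and the source's non-singular is read as smooth over k.) -/
theorem result
    (k : Type u) [Field k] (A : Type u) [CommRing A] [Algebra k A] [Algebra.Smooth k A]
    {ι : Type v} [Finite ι] (q : ι → (A →ₐ[k] k)) (hq : Function.Injective q)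
    (q' : ι → (DualNumber A →ₐ[k] DualNumber k))
    (hε : ∀ i, q' i DualNumber.eps = DualNumber.eps) (hq' : ∀ i x, (q' i x).fst = q i x.fst) :
    ∃ φ : DualNumber A ≃ₐ[k] DualNumber A,
      φ DualNumber.eps = DualNumber.eps ∧ (∀ x, (φ x).fst = x.fst) ∧
        ∀ i x, (q' i (φ x)).fst = q i x.fst ∧ (q' i (φ x)).snd = q i x.snd := by
  classical
  haveI := Fintype.ofFinite ι
  let Q : A →ₐ[k] (ι → k) := Pi.algHom k (fun _ : ι => k) q
  letI : Algebra A (ι → k) := Q.toRingHom.toAlgebra
  haveI : IsScalarTower k A (ι → k) := IsScalarTower.of_algebraMap_eq fun r => (Q.commutes r).symm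
  have hsurj : Function.Surjective (Algebra.linearMap A (ι → k)) := by
    have he : ∀ i, ∃ e : A, ∀ j, q j e = if j = i then 1 else 0 := by
      intro i
      have : ∀ j : {j // j ≠ i}, ∃ a : A, q i a = 1 ∧ q j.1 a = 0 := by
        rintro ⟨j, hj⟩
        obtain ⟨a, ha⟩ : ∃ a, q i a ≠ q j a := by
          by_contra! h
          exact hj (hq (AlgHom.ext h)).symm
        refine ⟨(a - algebraMap k A (q j a)) * algebraMap k A (q i a - q j a)⁻¹, ?_, ?_⟩
        · simp [sub_ne_zero.2 ha]
        · simp
      choose a ha ha' using this
      refine ⟨∏ j, a j, fun j => ?_⟩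
      rw [map_prod]
      rcases eq_or_ne j i with rfl | h
      · rw [if_pos rfl]; exact Finset.prod_eq_one fun l _ => ha l
      · rw [if_neg h]; exact Finset.prod_eq_zero (Finset.mem_univ ⟨j, h⟩) (ha' ⟨j, h⟩)
    choose e he using he
    intro c
    refine ⟨∑ i, algebraMap k A (c i) * e i, funext fun j => ?_⟩
    show q j _ = c j
    simp [he]
  have hsnd : ∀ i x, (q' i x).snd = (q' i (TrivSqZeroExt.inl x.fst)).snd + q i x.snd := by
    intro i x
    conv_lhs => rw [← TrivSqZeroExt.inl_fst_add_inr_snd_eq x]
    have e : (TrivSqZeroExt.inr x.snd : DualNumber A) = TrivSqZeroExt.inl x.snd * DualNumber.eps := by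
      rw [DualNumber.eps, TrivSqZeroExt.inl_mul_inr, smul_eq_mul, mul_one]
    rw [map_add, e, map_mul, hε, TrivSqZeroExt.snd_add, DualNumber.snd_mul]
    simp [hq']
  let δ : Derivation k A (ι → k) := Derivation.mk'
    { toFun := fun a i => (q' i (TrivSqZeroExt.inl a)).snd
      map_add' := fun a b => funext fun i => by simp
      map_smul' := fun r a => funext fun i => by simp }
    (fun a b => funext fun i => by
      show (q' i (TrivSqZeroExt.inl (a * b))).snd = q i a * (q' i (TrivSqZeroExt.inl b)).snd + q i b * (q' i (TrivSqZeroExt.inl a)).snd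
      rw [TrivSqZeroExt.inl_mul, map_mul, DualNumber.snd_mul, hq', hq', TrivSqZeroExt.fst_inl, TrivSqZeroExt.fst_inl]
      ring)
  obtain ⟨L, hL⟩ := Module.projective_lifting_property (Algebra.linearMap A (ι → k)) δ.liftKaehlerDifferential hsurj
  let D : Derivation k A A := L.compDer (KaehlerDifferential.D k A)
  have hD : ∀ i a, q i (D a) = (q' i (TrivSqZeroExt.inl a)).snd := by
    intro i a
    have := congrArg (fun m => m (KaehlerDifferential.D k A a) i) hL
    simp only [LinearMap.comp_apply, Derivation.liftKaehlerDifferential_comp_D] at this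
    exact this
  let mk : Derivation k A A → (DualNumber A →ₐ[k] DualNumber A) := fun E =>
    { toFun := fun x => TrivSqZeroExt.inl x.fst + TrivSqZeroExt.inr (x.snd + E x.fst)
      map_one' := by ext <;> simp
      map_mul' := fun x y => by
        ext <;> simp [DualNumber.snd_mul]
        ring
      map_zero' := by ext <;> simp
      map_add' := fun x y => by
        ext <;> simp
        ring
      commutes' := fun r => by ext <;> simp [TrivSqZeroExt.algebraMap_eq_inl'] }
  refine ⟨AlgEquiv.ofAlgHom (mk (-D)) (mk D) ?_ ?_, ?_, ?_, ?_⟩
  · ext x <;> simp [mk]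
  · ext x <;> simp [mk]
  · ext <;> simp [mk]
  · intro x; simp [mk]
  · intro i x
    refine ⟨?_, ?_⟩
    · rw [hq']; simp [mk]
    · rw [hsnd]; simp [mk, hD]

end Groth.Agent.S15988
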