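import Groth.Statements.S15989
import Groth.Agent.IsotrivLib.Ell
import Groth.Agent.IsotrivLib.Cross
import Mathlib.AlgebraicGeometry.AlgClosed.Basic
-- import your own Groth.Agent.* helpers here

set_option autoImplicit false
universe u
open ModFun
open CategoryTheory CategoryTheory.Limits AlgebraicGeometry MonoidalCategory CartesianMonoidalCategory
open scoped MonObj
open IsotrivLib
set_option backward.isDefEq.respectTransparency false

namespace Groth.Agent.S15989

theorem exists_ne_one {k : Type u} [Field k] [IsAlgClosed k] (E : Over (Spec (CommRingCat.of k))) [GrpObj E]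
    [IsProper E.hom] (hdim : topologicalKrullDim ↥E.left = 1) :
    ∃ a : 𝟙_ (Over (Spec (CommRingCat.of k))) ⟶ E, a ≠ 1 := by
  by_contra hcon
  push_neg at hcon
  let pe := pointEquivClosedPoint E.hom
  haveI hsub : Subsingleton (closedPoints E.left) := by
    refine @Equiv.subsingleton _ _ pe.symm ⟨fun p q => Subtype.ext ?_⟩
    have hp := hcon (Over.homMk p.1 p.2)
    have hq := hcon (Over.homMk q.1 q.2)
    exact congrArg CommaMorphism.left (hp.trans hq.symm)
  haveI : JacobsonSpace E.left := LocallyOfFiniteType.jacobsonSpace E.hom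
  haveI : Subsingleton E.left := by
    refine ⟨fun x y => ?_⟩
    have huniv := closure_closedPoints (X := E.left)
    rcases Set.eq_empty_or_nonempty (closedPoints E.left) with h | ⟨z, hz⟩
    · rw [h, closure_empty] at huniv
      exact (Set.eq_empty_iff_forall_notMem.1 huniv.symm x trivial).elim
    · have hs : closedPoints E.left = {z} :=
        Set.Subset.antisymm (fun w hw => congrArg Subtype.val (hsub.elim ⟨w, hw⟩ ⟨z, hz⟩)) (Set.singleton_subset_iff.2 hz)
      rw [hs, (show IsClosed ({z} : Set E.left) from hz).closure_eq] at huniv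
      rw [show x = z from huniv.ge trivial, show y = z from huniv.ge trivial]
  haveI : Nonempty E.left := ⟨(1 : 𝟙_ (Over (Spec (CommRingCat.of k))) ⟶ E).left (IsLocalRing.closedPoint k)⟩
  have h0 := topologicalKrullDim_zero_of_discreteTopology E.left
  rw [hdim] at h0
  exact absurd h0 (by simp)

theorem isPullback_const {k : Type u} [Field k] (E : Over (Spec (CommRingCat.of k))) {U T : Over (Spec (CommRingCat.of k))}
    (a : U ⟶ T) : Nonempty ((Over.pullback a.left).obj ((Over.pullback T.hom).obj (Over.mk E.hom)) ≅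
      Over.mk (snd E U).left) := by
  let e₁ := pullbackLeftPullbackSndIso E.hom T.hom a.left
  let e₂ := pullback.congrHom (rfl : E.hom = E.hom) (Over.w a)
  refine ⟨Over.isoMk (e₁ ≪≫ e₂) ?_⟩
  show (e₁.hom ≫ e₂.hom) ≫ pullback.snd E.hom U.hom = pullback.snd (pullback.snd E.hom T.hom) a.left
  simp [e₁, e₂]


open AlgebraicGeometry CategoryTheory in
/-- Over an algebraically closed field k, the moduli problem of curves of genus 1 (proper smooth
geometrically irreducible C → T with one-dimensional geometric fibres of genus 1, modulo isomorphism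
over T, on all k-schemes T) is not representable: no k-scheme M carries a universal family. (The
published statement asserts non-representability for every genus g and every number n of marked
points, which fails for g = 0 and n = 3: three disjoint sections identify every family with the
projective line over the base marked at 0, 1 and ∞, so that functor is represented by a point; its
argument is carried out in genus 1 with one marked point, and the unpointed genus-1 case stated here
is what that argument, with the same isotrivial family, proves.) -/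
theorem result (k : Type u) [Field k] [IsAlgClosed k]
    (M : Over (Spec (CommRingCat.of k))) :
    ¬ ModFun.IsFineModuli ⊤ (ModFun.Mg (Spec (CommRingCat.of k)) 1) M := by
  rintro ⟨ξ, hξok, huniv⟩
  obtain ⟨E, hG, hcomm, hprop, hgi, hsm, hdim, hcurve⟩ := exists_ell k
  haveI := hcomm
  haveI := hprop
  obtain ⟨a₁, ha₁⟩ := exists_ne_one E hdim
  obtain ⟨c, hc⟩ := exists_glue (k := k) (1 : 𝟙_ (Over (Spec (CommRingCat.of k))) ⟶ E) a₁
  let j := punctIncl k
  let U := cross k
  let T : Over (Spec (CommRingCat.of k)) := baseOver j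
  let inl : U ⟶ T := Over.homMk (pushout.inl j.left j.left) (pushout.inl_desc _ _ _)
  let inr : U ⟶ T := Over.homMk (pushout.inr j.left j.left) (pushout.inr_desc _ _ _)
  have hU : IsPullback (fst E U).left (snd E U).left E.hom U.hom := IsPullback.of_hasPullback E.hom U.hom
  have hcU : ModFun.IsCurveOfGenus 1 (snd E U).left := isCurveOfGenus_of_isPullback hcurve hU
  let F := ModFun.Mg (Spec (CommRingCat.of k)) 1
  let P : Over T.left := Over.mk (proj j c)
  let Q : Over T.left := (Over.pullback T.hom).obj (Over.mk E.hom)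
  have hPok : F.ok T P := ⟨trivial, isCurveOfGenus_proj j c hcU⟩
  have hQok : F.ok T Q :=
    ⟨trivial, isCurveOfGenus_of_isPullback hcurve (IsPullback.of_hasPullback E.hom T.hom)⟩
  let R : Over U.left := Over.mk (snd E U).left
  have hRok : F.ok U R := ⟨trivial, hcU⟩
  obtain ⟨g, ⟨eg⟩, -⟩ := huniv T P trivial hPok
  obtain ⟨g₀, ⟨eg₀⟩, -⟩ := huniv T Q trivial hQok
  let ξ' : Over M.left := ξ
  have comp : ∀ {x : Over T.left} (i : U ⟶ T) (h : T ⟶ M), ((Over.pullback h.left).obj ξ' ≅ x) →
      Nonempty ((Over.pullback i.left).obj x ≅ R) → F.r U (F.pull (i ≫ h) ξ) R :=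
    fun {x} i h e ⟨e'⟩ => ⟨(Over.pullbackComp i.left h.left).app ξ' ≪≫ (Over.pullback i.left).mapIso e ≪≫ e'⟩
  have rinl : Nonempty ((Over.pullback inl.left).obj P ≅ R) := by
    let H := (isPullback_inl j c).flip
    exact ⟨(Over.isoMk (f := R) (g := (Over.pullback inl.left).obj P) H.isoPullback H.isoPullback_hom_snd).symm⟩
  have rinr : Nonempty ((Over.pullback inr.left).obj P ≅ R) := by
    let H := (isPullback_inr j c).flip
    exact ⟨(Over.isoMk (f := R) (g := (Over.pullback inr.left).obj P) H.isoPullback H.isoPullback_hom_snd).symm⟩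
  have uniq : ∀ {y₁ y₂ : U ⟶ M}, F.r U (F.pull y₁ ξ) R → F.r U (F.pull y₂ ξ) R → y₁ = y₂ :=
    fun h h' => (huniv U R trivial hRok).unique h h'
  have h1 : inl ≫ g = inl ≫ g₀ := uniq (comp inl g eg rinl) (comp inl g₀ eg₀ (isPullback_const E inl))
  have h2 : inr ≫ g = inr ≫ g₀ := uniq (comp inr g eg rinr) (comp inr g₀ eg₀ (isPullback_const E inr))
  have hg : g = g₀ := Over.OverMorphism.ext (pushout.hom_ext
    (congrArg CommaMorphism.left h1) (congrArg CommaMorphism.left h2))
  subst hg
  -- the glued family would be constant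
  let φ : P ⟶ Q := (eg.symm ≪≫ eg₀).hom
  have hφ : φ.left ≫ pullback.snd E.hom T.hom = proj j c := Over.w φ
  have wa : ∀ (m : (E ⊗ U).left ⟶ total j c) (i : U ⟶ T), m ≫ proj j c = (snd E U).left ≫ i.left →
      (m ≫ φ.left ≫ pullback.fst E.hom T.hom) ≫ E.hom = (E ⊗ U).hom := by
    intro m i h
    simp only [Category.assoc, pullback.condition, reassoc_of% hφ, reassoc_of% h, Over.w i]
    exact Over.w (snd E U)
  let aU : E ⊗ U ⟶ E := Over.homMk (pushout.inl _ _ ≫ φ.left ≫ pullback.fst E.hom T.hom) (wa _ inl (inl_proj j c))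
  let aV : E ⊗ U ⟶ E := Over.homMk (pushout.inr _ _ ≫ φ.left ≫ pullback.fst E.hom T.hom) (wa _ inr (inr_proj j c))
  have hglue : incl j ≫ aU = incl' j c ≫ aV := by
    apply Over.OverMorphism.ext
    show (incl j (E := E)).left ≫ pushout.inl _ _ ≫ _ = (incl' j c).left ≫ pushout.inr _ _ ≫ _
    rw [pushout.condition_assoc]
  let o := crossPt (k := k) 0 (by simp)
  have hconst : ∀ (a : E ⊗ U ⟶ E) (e : 𝟙_ _ ⟶ E) (v : Fin 2 → k) (hv : v 0 * v 1 = 0),
      lift e (crossPt v hv) ≫ a = lift e o ≫ a := by
    intro a e v hv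
    obtain ⟨l, hl0, hl1⟩ := exists_line v hv
    obtain ⟨q, hq⟩ := ConstAffLib.const_of_affineSpace PUnit.{u + 1} (A := E)
      (show line (k := k) ⟶ E from lift (toUnit _ ≫ e) l ≫ a)
    have key : ∀ x : k, lift e (linePt x ≫ l) ≫ a = q := fun x => by
      have hh := congrArg (linePt x ≫ ·) hq
      refine Eq.trans ?_ (hh.trans ?_)
      · show _ = linePt x ≫ lift (toUnit _ ≫ e) l ≫ a
        erw [← Category.assoc (linePt x), comp_lift, ← Category.assoc, toUnit_unique (linePt x ≫ toUnit _) (𝟙 _),
          Category.id_comp]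
      · show linePt x ≫ toUnit _ ≫ q = q
        erw [← Category.assoc, toUnit_unique (linePt x ≫ toUnit _) (𝟙 _), Category.id_comp]
    rw [← hl1, key, show o = linePt 0 ≫ l from hl0.symm, key]
  have hbranch : ∀ (a : 𝟙_ (Over (Spec (CommRingCat.of k))) ⟶ E) (i : Fin 2) (v : Fin 2 → k) (hv : v 0 * v 1 = 0),
      v i ≠ 0 → (∀ h : 𝟙_ _ ⟶ punctured k, h ≫ j = crossPt v hv → h ≫ c = a) →
      lift 1 o ≫ aU = lift a o ≫ aV := by
    intro a i v hv hi ha
    have hr : Set.range (crossPt v hv).left ⊆ Set.range (branch k 0 ⊔ branch k 1).ι := by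
      rw [Scheme.Opens.range_ι]
      refine (crossPt_range v hv i hi).trans ?_
      fin_cases i
      · exact fun z hz => Or.inl hz
      · exact fun z hz => Or.inr hz
    let h : 𝟙_ _ ⟶ punctured k := Over.homMk (IsOpenImmersion.lift (branch k 0 ⊔ branch k 1).ι (crossPt v hv).left hr) (by
      show IsOpenImmersion.lift _ _ hr ≫ (branch k 0 ⊔ branch k 1).ι ≫ (cross k).hom = _
      rw [IsOpenImmersion.lift_fac_assoc]
      exact Over.w (crossPt v hv))
    have hj : h ≫ j = crossPt v hv := Over.OverMorphism.ext (IsOpenImmersion.lift_fac _ _ _)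
    rw [← hconst aU 1 v hv, ← hconst aV a v hv]
    have e1 : lift 1 h ≫ incl j (E := E) = lift 1 (crossPt v hv) := by
      rw [incl, lift_whiskerLeft, hj]
    have e2 : lift (1 : 𝟙_ _ ⟶ E) h ≫ twist c = lift a h := by
      rw [twist, comp_lift, MonObj.comp_mul, lift_fst, ← Category.assoc, lift_snd, one_mul, ha h hj]
    rw [← e1, Category.assoc, hglue, incl', Category.assoc, ← Category.assoc (f := lift 1 h), e2, incl,
      lift_whiskerLeft_assoc, hj]
  have hA := hbranch 1 0 ![1, 0] (by simp) (by simp) fun h hh => by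
    rw [(hc h).1 (by rw [hh]; exact crossPt_range _ _ 0 (by simp))]
    exact (congrArg (· ≫ (1 : 𝟙_ _ ⟶ E)) (toUnit_unique (toUnit _) (𝟙 _))).trans (Category.id_comp _)
  have hB := hbranch a₁ 1 ![0, 1] (by simp) (by simp) fun h hh => by
    rw [(hc h).2 (by rw [hh]; exact crossPt_range _ _ 1 (by simp))]
    exact (congrArg (· ≫ a₁) (toUnit_unique (toUnit _) (𝟙 _))).trans (Category.id_comp _)
  have heq : lift (1 : 𝟙_ _ ⟶ E) o ≫ aV = lift a₁ o ≫ aV := hA.symm.trans hB
  have hinj : (lift (1 : 𝟙_ _ ⟶ E) o).left ≫ pushout.inr _ _ ≫ φ.left =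
      (lift a₁ o).left ≫ pushout.inr _ _ ≫ φ.left := by
    apply pullback.hom_ext
    · simp only [Category.assoc]
      exact congrArg CommaMorphism.left heq
    · simp only [Category.assoc]
      erw [hφ, inr_proj j c]
      rw [← Category.assoc, ← Category.assoc (f := (lift a₁ o).left)]
      congr 1
      rw [← Over.comp_left, ← Over.comp_left, lift_snd, lift_snd]
  haveI : IsIso φ.left := inferInstanceAs (IsIso ((Over.forget _).map (eg.symm ≪≫ eg₀).hom))
  simp only [← Category.assoc] at hinj
  rw [cancel_mono, cancel_mono] at hinj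
  refine ha₁ ?_
  have := congrArg (fun m => m ≫ fst E U) (Over.OverMorphism.ext hinj : lift (1 : 𝟙_ _ ⟶ E) o = lift a₁ o)
  exact ((lift_fst a₁ o).symm.trans (this.symm.trans (lift_fst _ _)))

end Groth.Agent.S15989
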