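import Groth.Statements.S1599
import Groth.Agent.SubNormCplLib.Basic
import Groth.Agent.NormalLib.CompletionTensor
import Groth.Agent.GeomRedFibLib.Normal
import Groth.Agent.AdicRingLib.Completion

set_option autoImplicit false
set_option linter.style.haveILetI false
set_option maxHeartbeats 1000000
universe u
open CategoryTheory CategoryTheory.Limits AlgebraicGeometry
open Resolve

namespace Groth.Agent.S1599

open scoped nonZeroDivisors in
/-- A fraction integral over `H` gives an element away from the idempotent `e`. -/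
theorem exists_away {H T : Type u} [CommRing H] [CommRing T] (hT : NormalLib.LocNormal T) (i : H →+* T) (Q : Type u)
    [CommRing Q] [Algebra H Q] [IsLocalization H⁰ Q] {a b : H} {x : Q} (hx : IsIntegral H x)
    (hab : x * algebraMap H Q b = algebraMap H Q a) {e : T} (hee : e * e = e) (hw : i b * (1 - e) + e ∈ T⁰) :
    ∃ c : T, c * (i b * (1 - e) + e) = (1 - e) * i a := by
  obtain ⟨P, hPm, hPx⟩ := hx
  let w : T := i b * (1 - e) + e
  let g : H →+* (Localization T⁰) := (algebraMap T (Localization T⁰)).comp i
  let y : (Localization T⁰) := IsLocalization.mk' (Localization T⁰) ((1 - e) * i a) ⟨w, hw⟩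
  have hy : y * algebraMap T (Localization T⁰) w = algebraMap T (Localization T⁰) ((1 - e) * i a) := IsLocalization.mk'_spec (Localization T⁰) _ ⟨w, hw⟩
  have hey : y * algebraMap T (Localization T⁰) e = 0 := by
    refine (IsLocalization.map_units (Localization T⁰) (⟨w, hw⟩ : T⁰)).mul_left_eq_zero.1 ?_
    show y * algebraMap T (Localization T⁰) e * algebraMap T (Localization T⁰) w = 0
    rw [mul_assoc, mul_comm (algebraMap T (Localization T⁰) e), ← mul_assoc, hy, ← map_mul]
    rw [show (1 - e) * i a * e = 0 by linear_combination (-(i a)) * hee, map_zero]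
  have hyint : IsIntegral T y := by
    refine ⟨Polynomial.X * P.map i, Polynomial.monic_X.mul (hPm.map i), ?_⟩
    rw [Polynomial.eval₂_mul, Polynomial.eval₂_X, Polynomial.eval₂_map]
    let χ : Localization T⁰ →+* Localization T⁰ ⧸ Ideal.span {algebraMap T (Localization T⁰) e} := Ideal.Quotient.mk _
    have hχe : χ (algebraMap T (Localization T⁰) e) = 0 := Ideal.Quotient.eq_zero_iff_mem.2 (Ideal.mem_span_singleton_self _)
    have hχw : χ (algebraMap T (Localization T⁰) w) = χ (g b) := by
      simp only [w, map_add, map_mul, map_sub, map_one, hχe, sub_zero, mul_one, add_zero]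
      rfl
    have hχy : χ y * χ (g b) = χ (g a) := by
      rw [← hχw, ← map_mul, hy, map_mul, map_sub, map_one, map_mul, map_sub, map_one, hχe, sub_zero, one_mul]
      rfl
    have hu : IsUnit (χ (g b)) := hχw ▸ (IsLocalization.map_units (Localization T⁰) (⟨w, hw⟩ : T⁰)).map χ
    have hS : (P.scaleRoots b).eval₂ (RingHom.id H) a = 0 := by
      refine IsLocalization.injective Q le_rfl ?_
      rw [map_zero, Polynomial.hom_eval₂, RingHom.comp_id, ← hab, mul_comm, Polynomial.scaleRoots_eval₂_mul, hPx,
        mul_zero]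
    have h0 : χ (P.eval₂ g y) = 0 := by
      have h1 := congrArg (χ.comp g) hS
      rw [map_zero, Polynomial.hom_eval₂, RingHom.comp_id] at h1
      rw [RingHom.comp_apply, ← hχy, mul_comm (χ y),
        show χ (g b) = χ.comp g b from rfl, Polynomial.scaleRoots_eval₂_mul] at h1
      rw [Polynomial.hom_eval₂]
      exact (hu.pow _).mul_right_eq_zero.1 h1
    obtain ⟨r, hr⟩ := Ideal.mem_span_singleton'.1 (Ideal.Quotient.eq_zero_iff_mem.1 h0)
    show y * P.eval₂ g y = 0
    rw [← hr, mul_comm r, ← mul_assoc, hey, zero_mul]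
  obtain ⟨c, hc⟩ := hT.exists_eq_of_isIntegral (Localization T⁰) hyint
  exact ⟨c, IsLocalization.injective (Localization T⁰) le_rfl (by rw [map_mul, hc, hy])⟩

open scoped nonZeroDivisors TensorProduct in
/-- The key statement: normality of a base change. -/
theorem key (B C H : Type u) [CommRing B] [CommRing C] [CommRing H] [Algebra B C] [Algebra B H] [Module.Finite B C]
    [IsNoetherianRing B] [IsNoetherianRing H] [Module.Flat B H] (hinj : Function.Injective (algebraMap B C))
    (hB : NormalLib.LocNormal B) (hT : NormalLib.LocNormal (H ⊗[B] C)) : NormalLib.LocNormal H := by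
  classical
  haveI := hB.isReduced
  haveI := hT.isReduced
  haveI : Module.Finite H (H ⊗[B] C) := Module.Finite.base_change B H C
  haveI : IsNoetherianRing (H ⊗[B] C) := IsNoetherianRing.of_finite H (H ⊗[B] C)
  let T := H ⊗[B] C
  let i : H →+* T := Algebra.TensorProduct.includeLeftRingHom
  have hi : Function.Injective i := fun z z' h => by
    refine (TensorProduct.rid B H).symm.injective ?_
    refine Module.Flat.lTensor_preserves_injective_linearMap (M := H) (Algebra.linearMap B C) hinj ?_
    simp only [TensorProduct.rid_symm_apply, LinearMap.lTensor_tmul, Algebra.linearMap_apply, map_one]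
    exact h
  haveI : IsReduced H := isReduced_of_injective i hi
  let Q := Localization H⁰
  refine NormalLib.locNormal_of_isIntegrallyClosedIn (minimalPrimes.finite_of_isNoetherianRing H) Q fun x hx => ?_
  obtain ⟨⟨a, ⟨b, hb⟩⟩, hab⟩ := IsLocalization.surj H⁰ x
  replace hab : x * algebraMap H Q b = algebraMap H Q a := hab
  -- a common annihilator of the torsion
  let τ := Submodule.torsion B C
  obtain ⟨s, hs, hsτ⟩ : ∃ s ∈ B⁰, ∀ c ∈ τ, s • c = 0 := by
    obtain ⟨G, hG⟩ := IsNoetherian.noetherian τ
    choose f hf using fun g : G => (Submodule.mem_torsion_iff (g : C)).1 (hG ▸ Submodule.subset_span g.2)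
    refine ⟨((∏ g, f g : B⁰) : B), (∏ g, f g).2, fun c hc => ?_⟩
    rw [← hG] at hc
    induction hc using Submodule.span_induction with
    | mem y hy =>
      obtain ⟨d, hd⟩ := Finset.dvd_prod_of_mem f (Finset.mem_univ (⟨y, hy⟩ : G))
      rw [hd, mul_comm, Submonoid.coe_mul, mul_smul]
      have h0 : ((f ⟨y, hy⟩ : B⁰) : B) • y = 0 := hf ⟨y, hy⟩
      rw [h0, smul_zero]
    | zero => exact smul_zero _
    | add y z _ _ hy hz => rw [smul_add, hy, hz, add_zero]
    | smul r y _ hy => rw [smul_comm, hy, smul_zero]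
  let sT : T := algebraMap B T s
  have hstmul : ∀ (h : H) (c : C), sT * (h ⊗ₜ[B] c) = h ⊗ₜ[B] (s • c) := fun h c => by
    rw [← Algebra.smul_def, TensorProduct.tmul_smul]
  have hτ0 : ∀ y : H ⊗[B] τ, sT * LinearMap.lTensor H τ.subtype y = 0 := fun y => by
    induction y using TensorProduct.induction_on with
    | zero => simp
    | add y z hy hz => rw [map_add, mul_add, hy, hz, add_zero]
    | tmul h c => rw [LinearMap.lTensor_tmul, hstmul, Submodule.subtype_apply, hsτ c c.2, TensorProduct.tmul_zero]
  have H1 : ∀ z : T, i b * z = 0 → z * sT = 0 := fun z hz => by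
    have htf : ∀ r ∈ B⁰, ∀ m : C ⧸ τ, r • m = 0 → m = 0 := fun r hr m hm => by
      obtain ⟨c, rfl⟩ := Submodule.Quotient.mk_surjective τ m
      rw [← Submodule.Quotient.mk_smul, Submodule.Quotient.mk_eq_zero, Submodule.mem_torsion_iff] at hm
      obtain ⟨d, hd⟩ := hm
      rw [Submodule.Quotient.mk_eq_zero, Submodule.mem_torsion_iff]
      exact ⟨d * ⟨r, hr⟩, by rw [mul_smul]; exact hd⟩
    have h0 : τ.mkQ.baseChange H z = 0 := by
      refine SubNormCplLib.eq_zero_of_smul_eq_zero (C ⧸ τ) htf H hb _ ?_
      rw [← map_smul, Algebra.smul_def, Algebra.TensorProduct.algebraMap_apply]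
      show τ.mkQ.baseChange H (i b * z) = 0
      rw [hz, map_zero]
    rw [LinearMap.baseChange_eq_ltensor] at h0
    obtain ⟨y, rfl⟩ := (lTensor_exact H (LinearMap.exact_subtype_mkQ τ) τ.mkQ_surjective z).1 h0
    rw [mul_comm]; exact hτ0 y
  obtain ⟨e, hee, hes, hann⟩ := SubNormCplLib.exists_idempotent_ann hT sT
  let w : T := i b * (1 - e) + e
  have hw : w ∈ T⁰ := by
    rw [mem_nonZeroDivisors_iff_right]
    intro z hz
    have h1 : z * e = 0 := by linear_combination e * hz + (z * i b - z) * hee
    have h2 : i b * (z * (1 - e)) = 0 := by linear_combination hz - h1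
    have h3 := hann _ (H1 _ h2)
    linear_combination h3 + h1 - z * (hee)
  obtain ⟨c, hwc⟩ := exists_away hT i Q hx hab hee hw
  have hsc : sT * (i b * c - i a) = 0 := by
    linear_combination sT * hwc + (c * i b - c - i a) * hes
  -- the quotient
  let N := LinearMap.range (Algebra.linearMap B C) ⊔ τ
  have hN : ∀ n ∈ N, ∃ β : B, s • (n - algebraMap B C β) = 0 := fun n hn => by
    obtain ⟨_, ⟨β, rfl⟩, t', ht', rfl⟩ := Submodule.mem_sup.1 hn
    exact ⟨β, by rw [Algebra.linearMap_apply, add_sub_cancel_left]; exact hsτ _ ht'⟩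
  have htf : ∀ r ∈ B⁰, ∀ m : C ⧸ N, r • m = 0 → m = 0 := fun r hr m hm => by
    obtain ⟨c₀, rfl⟩ := Submodule.Quotient.mk_surjective N m
    rw [← Submodule.Quotient.mk_smul, Submodule.Quotient.mk_eq_zero] at hm
    obtain ⟨β, hβ⟩ := hN _ hm
    let d : B := s * r
    have hd : d ∈ B⁰ := mul_mem hs hr
    have hdc : algebraMap B C d * c₀ = algebraMap B C (s * β) := by
      rw [← sub_eq_zero, ← Algebra.smul_def, map_mul, ← Algebra.smul_def, mul_smul, ← smul_sub]
      exact hβ
    obtain ⟨P₀, hP₀, hP₀c⟩ := Algebra.IsIntegral.isIntegral (R := B) c₀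
    let K := Localization B⁰
    let x' : K := IsLocalization.mk' K (s * β) ⟨d, hd⟩
    have hx' : x' * algebraMap B K d = algebraMap B K (s * β) := IsLocalization.mk'_spec K _ ⟨d, hd⟩
    have h0 : (P₀.scaleRoots d).eval₂ (RingHom.id B) (s * β) = 0 := by
      refine hinj ?_
      rw [map_zero, Polynomial.hom_eval₂, RingHom.comp_id, ← hdc, Polynomial.scaleRoots_eval₂_mul, hP₀c, mul_zero]
    obtain ⟨β', hβ'⟩ := hB.exists_eq_of_isIntegral K (x := x') ⟨P₀, hP₀, by
      have h1 := congrArg (algebraMap B K) h0
      rw [map_zero, Polynomial.hom_eval₂, RingHom.comp_id, ← hx', mul_comm, Polynomial.scaleRoots_eval₂_mul] at h1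
      exact ((IsLocalization.map_units K (⟨d, hd⟩ : B⁰)).pow _).mul_right_eq_zero.1 h1⟩
    have hsb : β' * d = s * β := IsLocalization.injective K le_rfl (by rw [map_mul, hβ', hx'])
    rw [Submodule.Quotient.mk_eq_zero, show c₀ = algebraMap B C β' + (c₀ - algebraMap B C β') by ring]
    refine Submodule.add_mem_sup ⟨β', rfl⟩ ((Submodule.mem_torsion_iff _).2 ⟨⟨d, hd⟩, ?_⟩)
    show d • (c₀ - algebraMap B C β') = 0
    rw [smul_sub, Algebra.smul_def, Algebra.smul_def, hdc, ← map_mul, mul_comm d, hsb, sub_self]
  have hsH : algebraMap B H s * b ∈ H⁰ := by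
    refine mul_mem (mem_nonZeroDivisors_iff_right.2 fun z hz => ?_) hb
    have hreg : IsSMulRegular B s := fun u v huv => by
      refine sub_eq_zero.1 (mem_nonZeroDivisors_iff_right.1 hs _ ?_)
      simp only [smul_eq_mul] at huv
      linear_combination huv
    refine (hreg.of_flat (S := H)) ?_
    show algebraMap B H s • z = algebraMap B H s • (0 : H)
    rw [smul_zero, smul_eq_mul, mul_comm]; exact hz
  have hc0 : N.mkQ.baseChange H c = 0 := by
    refine SubNormCplLib.eq_zero_of_smul_eq_zero (C ⧸ N) htf H hsH _ ?_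
    rw [← map_smul, Algebra.smul_def, Algebra.TensorProduct.algebraMap_apply]
    show N.mkQ.baseChange H (i (algebraMap B H s * b) * c) = 0
    rw [show i (algebraMap B H s * b) * c = i (algebraMap B H s * a) by
      have hs' : i (algebraMap B H s) = sT := (IsScalarTower.algebraMap_apply B H T s).symm
      rw [map_mul, map_mul, hs']; linear_combination hsc]
    show N.mkQ.baseChange H ((algebraMap B H s * a) ⊗ₜ[B] (1 : C)) = 0
    rw [LinearMap.baseChange_tmul, Submodule.mkQ_apply, (Submodule.Quotient.mk_eq_zero N).2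
      (Submodule.mem_sup_left ⟨1, by rw [Algebra.linearMap_apply, map_one]⟩), TensorProduct.tmul_zero]
  rw [LinearMap.baseChange_eq_ltensor] at hc0
  obtain ⟨yN, rfl⟩ := (lTensor_exact H (LinearMap.exact_subtype_mkQ N) N.mkQ_surjective c).1 hc0
  obtain ⟨z, hz⟩ : ∃ z : H, sT * (LinearMap.lTensor H N.subtype yN - i z) = 0 := by
    clear hwc hsc hc0
    induction yN using TensorProduct.induction_on with
    | zero => exact ⟨0, by simp⟩
    | add u v hu hv =>
      obtain ⟨z₁, h₁⟩ := hu
      obtain ⟨z₂, h₂⟩ := hv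
      exact ⟨z₁ + z₂, by rw [map_add, map_add]; linear_combination h₁ + h₂⟩
    | tmul h n =>
      obtain ⟨β, hβ⟩ := hN n n.2
      refine ⟨algebraMap B H β * h, ?_⟩
      rw [LinearMap.lTensor_tmul, Submodule.subtype_apply]
      show sT * (h ⊗ₜ[B] (n : C) - (algebraMap B H β * h) ⊗ₜ[B] (1 : C)) = 0
      rw [← Algebra.smul_def β h, TensorProduct.smul_tmul, ← Algebra.algebraMap_eq_smul_one, ← TensorProduct.tmul_sub,
        hstmul, hβ, TensorProduct.tmul_zero]
  refine ⟨z, (IsLocalization.map_units Q (⟨b, hb⟩ : H⁰)).mul_left_injective ?_⟩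
  show algebraMap H Q z * algebraMap H Q b = x * algebraMap H Q b
  rw [hab, ← map_mul]
  congr 1
  have hs' : i (algebraMap B H s) = sT := (IsScalarTower.algebraMap_apply B H T s).symm
  have h1 : i (algebraMap B H s * (z * b - a)) = 0 := by
    rw [map_mul, map_sub, map_mul, hs']; linear_combination hsc - i b * hz
  have h2 := hi (h1.trans (map_zero i).symm)
  refine sub_eq_zero.1 (mem_nonZeroDivisors_iff_right.1 hb _ ?_)
  have h3 : (z * b - a) * (algebraMap B H s * b) = 0 := by linear_combination b * h2
  rw [mem_nonZeroDivisors_iff_right.1 hsH _ h3, zero_mul]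

/-- Let A be a Noetherian local ring with maximal ideal m and B ⊆ C finite A-algebras. If B is a normal
ring and the m-adic completion of C is a normal ring, then the m-adic completion of B is a normal
ring. -/
theorem result (A : Type u) [CommRing A] [IsLocalRing A] [IsNoetherianRing A]
    (B C : Type u) [CommRing B] [CommRing C] [Algebra A B] [Algebra A C] [Algebra B C] [IsScalarTower A B C]
    [Module.Finite A B] [Module.Finite A C] (hinj : Function.Injective (algebraMap B C))
    (hB : EGA4.IsNormalRing B)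
    (hC : EGA4.IsNormalRing (AdicCompletion ((IsLocalRing.maximalIdeal A).map (algebraMap A C)) C)) :
    EGA4.IsNormalRing (AdicCompletion ((IsLocalRing.maximalIdeal A).map (algebraMap A B)) B) := by
  let I := (IsLocalRing.maximalIdeal A).map (algebraMap A B)
  haveI : Module.Finite B C := Module.Finite.of_restrictScalars_finite A B C
  haveI : IsNoetherianRing B := IsNoetherianRing.of_finite A B
  haveI := AdicRingLib.isNoetherianRing_adicCompletion I
  rw [show (IsLocalRing.maximalIdeal A).map (algebraMap A C) = I.map (algebraMap B C) by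
    rw [Ideal.map_map, ← IsScalarTower.algebraMap_eq]] at hC
  obtain ⟨e, -⟩ := NormalLib.exists_ringEquiv_completion_tensor I C
  exact key B C (AdicCompletion I B) hinj hB (GeomRedFibLib.isNormalRing_of_ringEquiv _ _ e hC)

end Groth.Agent.S1599
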