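import Groth.Statements.S15991
import Groth.Agent.DefLib.AffineExt
import Groth.Agent.DefLib.ArtFlat
import Groth.Agent.S0440
-- import your own Groth.Agent.* helpers here

set_option autoImplicit false
set_option maxHeartbeats 2000000
set_option backward.isDefEq.respectTransparency false
universe u v
open Deform

namespace Groth.Agent.S15991

open TensorProduct in
/-- A flat lift of a smooth algebra over a local Artinian augmented base is trivial. -/
theorem exists_trivialization {k A B B' : Type u} [Field k] [CommRing A] [IsLocalRing A] [IsArtinianRing A]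
    [Algebra k A] [CommRing B] [Algebra k B] [CommRing B'] [Algebra A B']
    [Module.Flat A B'] (e : A →ₐ[k] k) (π : B' →+* B) (hπ : Function.Surjective π)
    (hker : RingHom.ker π ≤ (RingHom.ker e.toRingHom).map (algebraMap A B'))
    (hcomp : π.comp (algebraMap A B') = (algebraMap k B).comp e.toRingHom)
    (σ₀ : B →+* B') (hσ : ∀ b, π (σ₀ b) = b)
    (hσk : ∀ c, σ₀ (algebraMap k B c) = algebraMap A B' (algebraMap k A c)) :
    ∃ Φ : (B ⊗[k] A) ≃+* B', (∀ a, Φ (1 ⊗ₜ a) = algebraMap A B' a) ∧ ∀ b, Φ (b ⊗ₜ 1) = σ₀ b := by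
  letI : Algebra k B' := ((algebraMap A B').comp (algebraMap k A)).toAlgebra
  haveI : IsScalarTower k A B' := IsScalarTower.of_algebraMap_eq' rfl
  have hπA : ∀ a, π (algebraMap A B' a) = algebraMap k B (e a) := fun a => RingHom.congr_fun hcomp a
  have hπk : ∀ c, π (algebraMap k B' c) = algebraMap k B c := fun c => by
    show π (algebraMap A B' (algebraMap k A c)) = _
    rw [hπA, e.commutes]; rfl
  let π' : B' →ₐ[k] B := AlgHom.mk π hπk
  have hm : RingHom.ker e.toRingHom = IsLocalRing.maximalIdeal A :=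
    IsLocalRing.eq_maximalIdeal (RingHom.ker_isMaximal_of_surjective e.toRingHom fun c => ⟨algebraMap k A c, e.commutes c⟩)
  have hnil : IsNilpotent (IsLocalRing.maximalIdeal A) :=
    IsLocalRing.jacobson_eq_maximalIdeal (R := A) ⊥ bot_ne_top ▸ IsArtinianRing.isNilpotent_jacobson_bot
  let σ : B →ₐ[k] B' := AlgHom.mk σ₀ hσk
  replace hσ : ∀ b, π (σ b) = b := hσ
  let Φ : (A ⊗[k] B) →ₐ[A] B' := Algebra.TensorProduct.lift (Algebra.ofId A B') σ fun _ _ => Commute.all _ _
  have hΦ : ∀ a b, Φ (a ⊗ₜ b) = algebraMap A B' a * σ b := fun a b => Algebra.TensorProduct.lift_tmul ..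
  have hpart : ∀ t : A ⊗[k] B, t - (1 : A) ⊗ₜ π (Φ t) ∈ IsLocalRing.maximalIdeal A • (⊤ : Submodule A (A ⊗[k] B)) := by
    intro t
    induction t using TensorProduct.induction_on with
    | zero => simp
    | add s t hs ht =>
      rw [map_add, map_add, TensorProduct.tmul_add, add_sub_add_comm]
      exact add_mem hs ht
    | tmul a b =>
      rw [hΦ, map_mul, hπA, hσ, ← Algebra.smul_def, ← TensorProduct.smul_tmul, ← TensorProduct.sub_tmul,
        show a - e a • (1 : A) = (a - algebraMap k A (e a)) * 1 by rw [Algebra.smul_def, mul_one, mul_one],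
        ← smul_eq_mul, ← TensorProduct.smul_tmul']
      refine Submodule.smul_mem_smul ?_ Submodule.mem_top
      rw [← hm, RingHom.mem_ker]
      show e (a - algebraMap k A (e a)) = 0
      rw [map_sub, e.commutes, Algebra.algebraMap_self, RingHom.id_apply, sub_self]
  obtain ⟨hinj, hflat⟩ := DefLib.splitInjective_of_injective_mod hnil Φ.toLinearMap fun x hx => by
    have h0 : π (Φ x) = 0 := by
      refine Submodule.smul_induction_on hx (fun a ha y _ => ?_) fun y z hy hz => by rw [map_add, hy, hz, add_zero]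
      rw [Algebra.smul_def, map_mul, hπA, show e a = 0 from hm.ge ha, map_zero, zero_mul]
    simpa [h0] using hpart x
  have hsurj : Function.Surjective Φ := by
    obtain ⟨n, hn⟩ := hnil
    have key : ∀ j, (⊤ : Submodule A B') ≤ LinearMap.range Φ.toLinearMap ⊔ IsLocalRing.maximalIdeal A ^ j • ⊤ := by
      intro j
      induction j with
      | zero => rw [pow_zero, Ideal.one_eq_top, Submodule.top_smul]; exact le_sup_right
      | succ j ih =>
        have h1 : (⊤ : Submodule A B') ≤ LinearMap.range Φ.toLinearMap ⊔ IsLocalRing.maximalIdeal A • ⊤ := fun y _ => by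
          refine Submodule.mem_sup.2 ⟨Φ (1 ⊗ₜ π y), LinearMap.mem_range_self Φ.toLinearMap (1 ⊗ₜ π y), y - Φ (1 ⊗ₜ π y), ?_, add_sub_cancel _ _⟩
          rw [Ideal.smul_top_eq_map]
          refine Ideal.map_mono hm.le (hker ?_)
          rw [RingHom.mem_ker, map_sub, hΦ, map_one, one_mul, hσ, sub_self]
        refine ih.trans (sup_le le_sup_left ?_)
        calc IsLocalRing.maximalIdeal A ^ j • (⊤ : Submodule A B') ≤
            IsLocalRing.maximalIdeal A ^ j • (LinearMap.range Φ.toLinearMap ⊔ IsLocalRing.maximalIdeal A • ⊤) :=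
              Submodule.smul_mono le_rfl h1
          _ ≤ _ := by
            rw [Submodule.smul_sup, ← Submodule.mul_smul, ← pow_succ]
            exact sup_le_sup_right Submodule.smul_le_right _
    intro y
    have := key n (Submodule.mem_top (x := y))
    rw [hn, Submodule.zero_eq_bot, Submodule.bot_smul, sup_bot_eq] at this
    exact this
  refine ⟨(Algebra.TensorProduct.comm k B A).toRingEquiv.trans (RingEquiv.ofBijective Φ ⟨hinj, hsurj⟩), fun a => ?_,
    fun b => ?_⟩
  · show Φ (a ⊗ₜ 1) = algebraMap A B' a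
    rw [hΦ, map_one, mul_one]
  · show Φ (1 ⊗ₜ b) = σ₀ b
    rw [hΦ, map_one, one_mul]
    rfl


/-- Interpolation at distinct rational points. -/
theorem exists_values {k B : Type u} [Field k] [CommRing B] [Algebra k B] {n : ℕ} (χ : Fin n → (B →ₐ[k] k))
    (hχ : Function.Injective χ) (c : Fin n → k) : ∃ b, ∀ j, χ j b = c j := by
  have hcop : Pairwise (fun i j => IsCoprime (RingHom.ker (χ i).toRingHom) (RingHom.ker (χ j).toRingHom)) := by
    intro i j hij
    haveI h1 := RingHom.ker_isMaximal_of_surjective (χ i).toRingHom fun c => ⟨algebraMap k B c, (χ i).commutes c⟩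
    haveI h2 := RingHom.ker_isMaximal_of_surjective (χ j).toRingHom fun c => ⟨algebraMap k B c, (χ j).commutes c⟩
    refine Ideal.isCoprime_iff_sup_eq.2 (h1.coprime_of_ne h2 fun he => hij (hχ (AlgHom.ext fun b => ?_)))
    have hb : b - algebraMap k B (χ i b) ∈ RingHom.ker (χ j).toRingHom := by
      rw [← he, RingHom.mem_ker]
      show χ i (b - algebraMap k B (χ i b)) = 0
      simp
    rw [RingHom.mem_ker] at hb
    have hb' : χ j (b - algebraMap k B (χ i b)) = 0 := hb
    rw [map_sub, AlgHom.commutes, Algebra.algebraMap_self, RingHom.id_apply, sub_eq_zero] at hb'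
    exact hb'.symm
  obtain ⟨b, hb⟩ := Ideal.exists_forall_sub_mem_ideal hcop (fun j => algebraMap k B (c j))
  refine ⟨b, fun j => ?_⟩
  have := hb j
  rw [RingHom.mem_ker] at this
  have h' : χ j (b - algebraMap k B (c j)) = 0 := this
  simpa [sub_eq_zero] using h'

/-- A section compatible with finitely many marked dual points. -/
theorem exists_marked_section {k B B' : Type u} [Field k] [CommRing B] [Algebra k B] [Algebra.FormallySmooth k B]
    [CommRing B'] [Algebra k B'] (π : B' →ₐ[k] B) (hπ : Function.Surjective π) (ε' : B')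
    (hε : π ε' = 0) (hε2 : ε' * ε' = 0) (hker : RingHom.ker π.toRingHom ≤ Ideal.span {ε'}) {n : ℕ}
    (χ : Fin n → (B →ₐ[k] k)) (hinj : Function.Injective χ) (χ' : Fin n → (B' →ₐ[k] DualNumber k))
    (hχ : ∀ j x, (χ' j x).fst = χ j (π x)) (hχε : ∀ j, χ' j ε' = DualNumber.eps) :
    ∃ σ : B →ₐ[k] B', (∀ b, π (σ b) = b) ∧ ∀ j b, χ' j (σ b) = algebraMap k (DualNumber k) (χ j b) := by
  let all : B' →ₐ[k] B × (Fin n → DualNumber k) := π.prod (Pi.algHom k _ χ')
  let h : B →ₐ[k] B × (Fin n → DualNumber k) :=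
    (AlgHom.id k B).prod (Pi.algHom k _ fun j => (Algebra.ofId k (DualNumber k)).comp (χ j))
  have hmem : ∀ b, h b ∈ all.range := by
    intro b
    obtain ⟨x, rfl⟩ := hπ b
    obtain ⟨y, hy⟩ := exists_values χ hinj (fun j => (χ' j x).snd)
    obtain ⟨y', rfl⟩ := hπ y
    refine ⟨x - ε' * y', Prod.ext ?_ (funext fun j => ?_)⟩
    · show π (x - ε' * y') = π x
      simp [hε]
    · show χ' j (x - ε' * y') = algebraMap k (DualNumber k) (χ j (π x))
      refine TrivSqZeroExt.ext ?_ ?_
      · simp [hχε, hχ, TrivSqZeroExt.algebraMap_eq_inl]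
      · simp [hχε, hχ, hy, TrivSqZeroExt.algebraMap_eq_inl]
  have hnil : IsNilpotent (RingHom.ker all.rangeRestrict.toRingHom) := by
    refine ⟨2, ?_⟩
    rw [Submodule.zero_eq_bot, eq_bot_iff]
    have hle : RingHom.ker all.rangeRestrict.toRingHom ≤ Ideal.span {ε'} := fun x hx => hker (by
      rw [RingHom.mem_ker] at hx ⊢
      exact congrArg Prod.fst (congrArg Subtype.val hx))
    refine (Ideal.pow_right_mono hle 2).trans ?_
    rw [Ideal.span_singleton_pow, sq, hε2]
    simp
  let σ := Algebra.FormallySmooth.liftOfSurjective (h.codRestrict all.range hmem) all.rangeRestrict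
    all.rangeRestrict_surjective hnil
  have hσ : ∀ b, all (σ b) = h b := fun b => congrArg Subtype.val
    (Algebra.FormallySmooth.liftOfSurjective_apply (h.codRestrict all.range hmem) all.rangeRestrict
      all.rangeRestrict_surjective hnil b)
  exact ⟨σ, fun b => congrArg Prod.fst (hσ b), fun j b => congrFun (congrArg Prod.snd (hσ b)) j⟩


open AlgebraicGeometry CategoryTheory in
/-- Let k be a field and X an affine scheme smooth over k, with finitely many pairwise distinct
k-rational points p_j (j ∈ ι). Let X' → Spec k[ε] be flat, i : X → X' a morphism making X the fibre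
over the closed point Spec k → Spec k[ε] (cartesian square), and p'_j : Spec k[ε] → X' sections
restricting to the p_j. Then there is an isomorphism φ : X' ≅ X ×_{Spec k} Spec k[ε] over Spec k[ε]
such that i followed by φ is the inclusion of X at the closed point (its first component is the
identity of X) and each p'_j followed by φ is the constant section through p_j: every first-order
deformation of a smooth affine scheme with marked points is trivial. (The source says non-singular;
smooth over k is assumed here, and the marked points are taken pairwise distinct and finite in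
number.) -/
theorem result
    (k : Type u) [Field k] (X : Scheme.{u}) (hX : X ⟶ Spec (CommRingCat.of k)) [IsAffine X] [Smooth hX]
    {ι : Type v} [Finite ι] (p : ι → (Spec (CommRingCat.of k) ⟶ X)) (hp : ∀ j, p j ≫ hX = 𝟙 _)
    (hinj : Function.Injective p)
    (X' : Scheme.{u}) (g : X' ⟶ Spec (CommRingCat.of (DualNumber k))) [Flat g] (i : X ⟶ X')
    (hsq : IsPullback i hX g
      (Spec.map (CommRingCat.ofHom (TrivSqZeroExt.fstHom k k k).toRingHom)))
    (p' : ι → (Spec (CommRingCat.of (DualNumber k)) ⟶ X')) (hp' : ∀ j, p' j ≫ g = 𝟙 _)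
    (hpp' : ∀ j, p j ≫ i = Spec.map (CommRingCat.ofHom (TrivSqZeroExt.fstHom k k k).toRingHom) ≫ p' j) :
    ∃ φ : X' ≅ Limits.pullback hX (Spec.map (CommRingCat.ofHom (algebraMap k (DualNumber k)))),
      φ.hom ≫ Limits.pullback.snd hX (Spec.map (CommRingCat.ofHom (algebraMap k (DualNumber k)))) = g ∧
        i ≫ φ.hom ≫ Limits.pullback.fst hX (Spec.map (CommRingCat.ofHom (algebraMap k (DualNumber k)))) = 𝟙 X ∧
          ∀ j, p' j ≫ φ.hom ≫
              Limits.pullback.fst hX (Spec.map (CommRingCat.ofHom (algebraMap k (DualNumber k)))) =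
            Spec.map (CommRingCat.ofHom (algebraMap k (DualNumber k))) ≫ p j := by
  let A := DualNumber k
  let e : A →ₐ[k] k := TrivSqZeroExt.fstHom k k k
  haveI : Module.Finite k A := inferInstanceAs (Module.Finite k (k × k))
  haveI : IsArtinianRing A := isArtinian_of_tower k inferInstance
  haveI : Subsingleton (PrimeSpectrum A) :=
    ⟨fun p q => PrimeSpectrum.ext ((IsLocalRing.eq_maximalIdeal (IsArtinianRing.isMaximal_of_isPrime p.asIdeal)).trans
      (IsLocalRing.eq_maximalIdeal (IsArtinianRing.isMaximal_of_isPrime q.asIdeal)).symm)⟩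
  have hes : Function.Surjective e.toRingHom := fun c => ⟨algebraMap k A c, e.commutes c⟩
  haveI : IsClosedImmersion (Spec.map (CommRingCat.ofHom e.toRingHom)) :=
    IsClosedImmersion.spec_of_surjective _ hes
  haveI : Surjective (Spec.map (CommRingCat.ofHom e.toRingHom)) :=
    ⟨fun p => ⟨IsLocalRing.closedPoint k, Subsingleton.elim (α := PrimeSpectrum A) _ _⟩⟩
  haveI : IsClosedImmersion i := MorphismProperty.of_isPullback (P := @IsClosedImmersion) hsq.flip inferInstance
  haveI : Surjective i := MorphismProperty.of_isPullback (P := @Surjective) hsq.flip inferInstance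
  haveI : IsAffine X' := Groth.Agent.S0440.result i i.surjective
  let α : CommRingCat.of k ⟶ Γ(X, ⊤) := Spec.preimage (X.isoSpec.inv ≫ hX)
  let β : CommRingCat.of A ⟶ Γ(X', ⊤) := Spec.preimage (X'.isoSpec.inv ≫ g)
  let π : Γ(X', ⊤) ⟶ Γ(X, ⊤) := Spec.preimage (X.isoSpec.inv ≫ i ≫ X'.isoSpec.hom)
  have hα : Spec.map α = X.isoSpec.inv ≫ hX := Spec.map_preimage _
  have hβ : Spec.map β = X'.isoSpec.inv ≫ g := Spec.map_preimage _
  have hπ : Spec.map π = X.isoSpec.inv ≫ i ≫ X'.isoSpec.hom := Spec.map_preimage _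
  have sq : IsPullback (Spec.map π) (Spec.map α) (Spec.map β) (Spec.map (CommRingCat.ofHom e.toRingHom)) := by
    refine hsq.of_iso X.isoSpec X'.isoSpec (Iso.refl _) (Iso.refl _) ?_ ?_ ?_ ?_ <;> simp [hα, hβ, hπ, e, A]
  have po := DefLib.isPushout_of_isPullback_SpecMap sq.flip
  obtain ⟨hπs, hπk⟩ := DefLib.surjective_ker_of_isPushout po hes
  letI : Algebra k Γ(X, ⊤) := α.hom.toAlgebra
  letI : Algebra A Γ(X', ⊤) := β.hom.toAlgebra
  letI : Algebra k Γ(X', ⊤) := (β.hom.comp (algebraMap k A)).toAlgebra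
  haveI : Algebra.Smooth k Γ(X, ⊤) := by
    have h : Smooth (Spec.map α) := by rw [hα]; infer_instance
    exact (HasRingHomProperty.Spec_iff (P := @Smooth) (φ := α)).1 h
  haveI : Module.Flat A Γ(X', ⊤) := by
    have h : Flat (Spec.map β) := by rw [hβ]; infer_instance
    exact (HasRingHomProperty.Spec_iff (P := @Flat) (φ := β)).1 h
  have hw : π.hom.comp β.hom = α.hom.comp e.toRingHom := by
    have := congrArg CommRingCat.Hom.hom po.w
    exact this.symm
  let π' : Γ(X', ⊤) →ₐ[k] Γ(X, ⊤) := AlgHom.mk π.hom (fun c => by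
    show π.hom (β.hom (algebraMap k A c)) = α.hom c
    exact (RingHom.congr_fun hw _).trans (congrArg α.hom (e.commutes c)))
  obtain ⟨n, ⟨en⟩⟩ := Finite.exists_equiv_fin ι
  let c : ι → (Γ(X, ⊤) ⟶ CommRingCat.of k) := fun j => Spec.preimage (p j ≫ X.isoSpec.hom)
  let c' : ι → (Γ(X', ⊤) ⟶ CommRingCat.of A) := fun j => Spec.preimage (p' j ≫ X'.isoSpec.hom)
  have hc : ∀ j, Spec.map (c j) = p j ≫ X.isoSpec.hom := fun j => Spec.map_preimage _
  have hc' : ∀ j, Spec.map (c' j) = p' j ≫ X'.isoSpec.hom := fun j => Spec.map_preimage _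
  have hcα : ∀ j, α ≫ c j = 𝟙 _ := fun j => Spec.map_injective (by
    rw [Spec.map_comp, hc, hα, Spec.map_id]; simp [hp])
  have hcβ : ∀ j, β ≫ c' j = 𝟙 _ := fun j => Spec.map_injective (by
    rw [Spec.map_comp, hc', hβ, Spec.map_id]; simp [hp']; rfl)
  have hcπ : ∀ j, c' j ≫ CommRingCat.ofHom e.toRingHom = π ≫ c j := fun j => Spec.map_injective (by
    rw [Spec.map_comp, Spec.map_comp, hc', hπ, hc]
    simp only [Category.assoc, Iso.hom_inv_id_assoc]
    rw [← Category.assoc, ← Category.assoc (p j) i]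
    exact congrArg (· ≫ X'.isoSpec.hom) (hpp' j).symm)
  let χ : Fin n → (Γ(X, ⊤) →ₐ[k] k) := fun j => AlgHom.mk (c (en.symm j)).hom
    (fun r => RingHom.congr_fun (congrArg CommRingCat.Hom.hom (hcα (en.symm j))) r)
  let χ' : Fin n → (Γ(X', ⊤) →ₐ[k] DualNumber k) := fun j => AlgHom.mk (c' (en.symm j)).hom
    (fun r => RingHom.congr_fun (congrArg CommRingCat.Hom.hom (hcβ (en.symm j))) (algebraMap k A r))
  have hχinj : Function.Injective χ := fun a b hab => by
    refine en.symm.injective (hinj ((cancel_mono X.isoSpec.hom).1 ?_))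
    rw [← hc, ← hc]
    congr 1
    exact CommRingCat.hom_ext (RingHom.ext fun x => AlgHom.congr_fun hab x)
  have hker : RingHom.ker π'.toRingHom ≤ Ideal.span {β.hom DualNumber.eps} := by
    refine hπk.trans (Ideal.map_le_iff_le_comap.2 fun a ha => ?_)
    rw [RingHom.mem_ker] at ha
    have ha' : a.fst = 0 := ha
    have hd : a = DualNumber.eps * algebraMap k A a.snd := by
      refine TrivSqZeroExt.ext ?_ ?_ <;> simp [ha', TrivSqZeroExt.algebraMap_eq_inl, A]
    rw [Ideal.mem_comap, hd, map_mul]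
    exact Ideal.mul_mem_right _ _ (Ideal.mem_span_singleton_self _)
  obtain ⟨σ, hσ, hσχ⟩ := exists_marked_section π' hπs (β.hom DualNumber.eps)
    ((RingHom.congr_fun hw _).trans ((congrArg α.hom DualNumber.fst_eps).trans (map_zero _)))
    (by rw [← map_mul, DualNumber.eps_mul_eps, map_zero]) hker χ hχinj χ'
    (fun j x => RingHom.congr_fun (congrArg CommRingCat.Hom.hom (hcπ (en.symm j))) x)
    (fun j => RingHom.congr_fun (congrArg CommRingCat.Hom.hom (hcβ (en.symm j))) _)
  obtain ⟨Φ, hΦ, hΦσ⟩ := exists_trivialization (k := k) (A := A) (B := Γ(X, ⊤)) (B' := Γ(X', ⊤)) e π.hom hπs hπk hw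
    σ.toRingHom hσ (fun r => σ.commutes r)
  let i₁ : Limits.pullback hX (Spec.map (CommRingCat.ofHom (algebraMap k A))) ⟶
      Limits.pullback (Spec.map (CommRingCat.ofHom (algebraMap k Γ(X, ⊤)))) (Spec.map (CommRingCat.ofHom (algebraMap k A))) :=
    Limits.pullback.map _ _ _ _ X.isoSpec.hom (𝟙 _) (𝟙 _)
      (by rw [Category.comp_id]
          exact ((Iso.eq_inv_comp X.isoSpec).1 hα).symm)
      (by simp)
  let φ : X' ≅ Limits.pullback hX (Spec.map (CommRingCat.ofHom (algebraMap k A))) :=
    X'.isoSpec ≪≫ Scheme.Spec.mapIso (Φ.toCommRingCatIso.op) ≪≫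
      (pullbackSpecIso k Γ(X, ⊤) A).symm ≪≫ (asIso i₁).symm
  have h2 : (asIso i₁).inv ≫ Limits.pullback.snd hX (Spec.map (CommRingCat.ofHom (algebraMap k A))) =
      Limits.pullback.snd _ _ := by
    rw [Iso.inv_comp_eq, asIso_hom]
    exact ((Limits.pullback.lift_snd _ _ _).trans (Category.comp_id _)).symm
  have h1 : (asIso i₁).inv ≫ Limits.pullback.fst hX (Spec.map (CommRingCat.ofHom (algebraMap k A))) =
      Limits.pullback.fst _ _ ≫ X.isoSpec.inv := by
    rw [Iso.inv_comp_eq, asIso_hom, Limits.pullback.lift_fst_assoc, Category.assoc, Iso.hom_inv_id, Category.comp_id]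
  have hfst : φ.hom ≫ Limits.pullback.fst hX (Spec.map (CommRingCat.ofHom (algebraMap k A))) =
      X'.isoSpec.hom ≫ Spec.map (CommRingCat.ofHom σ.toRingHom) ≫ X.isoSpec.inv := by
    simp only [φ, Iso.trans_hom, Iso.symm_hom, Category.assoc, h1]
    rw [pullbackSpecIso_inv_fst_assoc]
    congr 1
    show Spec.map _ ≫ Spec.map _ ≫ _ = _
    rw [← Spec.map_comp_assoc]
    congr 2
    ext b
    exact hΦσ b
  refine ⟨φ, ?_, ?_, fun j => ?_⟩
  · simp only [φ, Iso.trans_hom, Iso.symm_hom, Category.assoc]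
    rw [h2, pullbackSpecIso_inv_snd]
    rw [show g = X'.isoSpec.hom ≫ Spec.map β from (Iso.inv_comp_eq _).1 hβ.symm]
    congr 1
    show Spec.map _ ≫ Spec.map _ = _
    rw [← Spec.map_comp]
    congr 1
    exact CommRingCat.hom_ext (RingHom.ext fun a => hΦ a)
  · rw [hfst]
    have e1 : i ≫ X'.isoSpec.hom = X.isoSpec.hom ≫ Spec.map π := by rw [hπ, Iso.hom_inv_id_assoc]
    rw [reassoc_of% e1, ← Spec.map_comp_assoc]
    have e2 : CommRingCat.ofHom σ.toRingHom ≫ π = 𝟙 _ := CommRingCat.hom_ext (RingHom.ext hσ)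
    rw [e2, Spec.map_id]
    exact (congrArg (X.isoSpec.hom ≫ ·) (Category.id_comp _)).trans X.isoSpec.hom_inv_id
  · rw [hfst, ← Category.assoc (p' j), ← hc', ← Spec.map_comp_assoc]
    have e3 : CommRingCat.ofHom σ.toRingHom ≫ c' j = c j ≫ CommRingCat.ofHom (algebraMap k A) :=
      CommRingCat.hom_ext (RingHom.ext fun b => by
        have := hσχ (en j) b
        simpa [χ, χ'] using this)
    rw [e3, Spec.map_comp, Category.assoc, hc, Category.assoc, Iso.hom_inv_id, Category.comp_id]

end Groth.Agent.S15991
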