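import Groth.Statements.S1600
import Groth.Agent.MiscFlat6.ProperSections
import Groth.Agent.LocFFLib.Basic
import Groth.Agent.NormalLib.Regular
import Groth.Agent.RegFlatLib.Basic
import Groth.Agent.S0414

set_option autoImplicit false
set_option backward.isDefEq.respectTransparency false
set_option backward.isDefEq.respectTransparency.types false
universe u
open CategoryTheory CategoryTheory.Limits AlgebraicGeometry
open Resolve

namespace Groth.Agent.S1600


/-- The integral closure embeds in every integrally closed finite injective extension. -/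
theorem isN1_of_finite {A C : Type u} [CommRing A] [IsDomain A] [IsNoetherianRing A] [CommRing C] [IsDomain C]
    [IsIntegrallyClosed C] (j : A →+* C) (hj : Function.Injective j) (hfin : j.Finite) : CAlg.IsN1 A := by
  letI := j.toAlgebra
  haveI : Module.Finite A C := hfin
  let ι : FractionRing A →ₐ[A] FractionRing C :=
    IsFractionRing.liftAlgHom (g := Algebra.ofId A (FractionRing C)) ((IsFractionRing.injective C (FractionRing C)).comp hj)
  have h : ∀ b : integralClosure A (FractionRing A), ∃ c : C, algebraMap C (FractionRing C) c = ι b.1 := fun b =>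
    IsIntegrallyClosed.isIntegral_iff.1 ((b.2.map ι).tower_top)
  choose g hg using h
  have hinj : Function.Injective (algebraMap C (FractionRing C)) := IsFractionRing.injective C _
  let gl : integralClosure A (FractionRing A) →ₗ[A] C :=
    { toFun := g
      map_add' := fun a b => hinj (by rw [map_add, hg, hg, hg]; exact map_add ι a.1 b.1)
      map_smul' := fun r a => hinj ((hg _).trans (((map_smul ι r a.1).trans (congrArg (r • ·) (hg a).symm)).trans
        (((Algebra.linearMap C (FractionRing C)).restrictScalars A).map_smul r (g a)).symm)) }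
  exact Module.Finite.of_injective gl fun a b hab => Subtype.ext (ι.toRingHom.injective
    ((hg a).symm.trans ((congrArg (algebraMap C (FractionRing C)) hab).trans (hg b))))

/-- Let A be a Noetherian domain such that Spec A admits an alteration f : X → Spec A with X regular.
Then the integral closure of A in its fraction field is a finite A-module (A is N-1), and some
nonempty open subset of Spec A consists of points whose local ring is regular. (The published
statement is for any Noetherian integral scheme; it is stated here for an affine one.) -/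
theorem result (A : Type u) [CommRing A] [IsDomain A] [IsNoetherianRing A]
    (X : Scheme.{u}) (f : X ⟶ Spec (CommRingCat.of A)) (hf : Curv2.IsAlteration f)
    (hreg : ∀ x : X, IsRegularLocalRing (X.presheaf.stalk x)) :
    CAlg.IsN1 A ∧ ∃ U : (Spec (CommRingCat.of A)).Opens, (U : Set (Spec (CommRingCat.of A))).Nonempty ∧
      ∀ y ∈ U, IsRegularLocalRing ((Spec (CommRingCat.of A)).presheaf.stalk y) := by
  obtain ⟨hproper, hint, -, hdom, -⟩ := hf
  haveI := hproper
  haveI := hint
  haveI := hdom
  haveI : IsNoetherianRing (CommRingCat.of A) := inferInstanceAs (IsNoetherianRing A)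
  haveI : IsLocallyNoetherian X := LocallyOfFiniteType.isLocallyNoetherian f
  have hnormal : Pi1.IsNormalScheme X := fun x => by
    haveI := hreg x
    exact ⟨inferInstance, NormalLib.isIntegrallyClosed_of_isRegularLocalRing _⟩
  refine ⟨?_, ?_⟩
  · haveI : Nonempty (⊤ : X.Opens) := ⟨⟨Classical.arbitrary X, trivial⟩⟩
    haveI := LocFFLib.isIntegrallyClosed_sections hnormal ⊤
    refine isN1_of_finite (show A →+* Γ(X, ⊤) from Coh.toGlobal f) ?_ (MiscFlat6.toGlobal_finite f)
    show Function.Injective (f.appTop.hom ∘ (Scheme.ΓSpecIso (CommRingCat.of A)).inv.hom)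
    refine Function.Injective.comp ?_ (ConcreteCategory.bijective_of_isIso (Scheme.ΓSpecIso (CommRingCat.of A)).inv).1
    refine (injective_iff_map_eq_zero f.appTop.hom).2 fun a ha => ?_
    rw [← basicOpen_eq_bot_iff, eq_bot_iff]
    intro y hy
    exfalso
    obtain ⟨_, hz, z, rfl⟩ := f.denseRange.inter_open_nonempty _ ((Spec (CommRingCat.of A)).basicOpen a).2 ⟨y, hy⟩
    have h : z ∈ f ⁻¹ᵁ (Spec (CommRingCat.of A)).basicOpen a := hz
    rw [Scheme.preimage_basicOpen, show f.app ⊤ a = 0 from ha, Scheme.basicOpen_zero] at h
    exact h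
  · obtain ⟨U, hdense, hflat, -⟩ := Groth.Agent.S0414.result f
    haveI := hflat
    obtain ⟨y₀, hy₀, -⟩ := hdense.inter_open_nonempty _ isOpen_univ ⟨genericPoint (Spec (CommRingCat.of A)), trivial⟩
    obtain ⟨z, hzU⟩ : ∃ z, z ∈ U := ⟨_, (hdense.inter_open_nonempty _ isOpen_univ ⟨y₀, trivial⟩).choose_spec.2⟩
    refine ⟨U, ⟨z, hzU⟩, fun y hy => ?_⟩
    have hsurj : Surjective f := ⟨Set.range_eq_univ.1 (by
      rw [← f.isClosedMap.isClosed_range.closure_eq]; exact f.denseRange.closure_range)⟩
    obtain ⟨x, rfl⟩ := hsurj.surj y
    haveI := hreg x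
    letI := (f.stalkMap x).hom.toAlgebra
    have h1 := Flat.stalkMap (f ∣_ U) ⟨x, hy⟩
    have h2 : (f.stalkMap x).hom.Flat :=
      (RingHom.Flat.respectsIso.arrow_mk_iso_iff (morphismRestrictStalkMap f U ⟨x, hy⟩)).1 h1
    haveI : Module.Flat ((Spec (CommRingCat.of A)).presheaf.stalk (f x)) (X.presheaf.stalk x) := h2
    haveI : IsLocalHom (algebraMap ((Spec (CommRingCat.of A)).presheaf.stalk (f x)) (X.presheaf.stalk x)) :=
      inferInstanceAs (IsLocalHom (f.stalkMap x).hom)
    exact RegFlatLib.isRegularLocalRing_of_flat _ (X.presheaf.stalk x)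

end Groth.Agent.S1600
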