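import Groth.Statements.S16001
import Mathlib
import Mathlib
-- import your own Groth.Agent.* helpers here

set_option autoImplicit false
universe u
open FrobAlg

namespace Groth.Agent.S16001

/-- Let A be a commutative ring of prime characteristic p and B a commutative A-algebra of
characteristic p such that the relative Frobenius B ⊗_{A,Frob} A → B, b ⊗ a ↦ b^p a, is bijective
(that is, Spec B → Spec A is relatively perfect; no finiteness condition is imposed). Then B is
formally étale over A. (The source proves that every perfect algebraic stack over an algebraic space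
of characteristic p is formally étale over it; this is the case of an affine scheme over an affine
base.) -/
theorem result (p : ℕ) [Fact p.Prime] (A : Type u) [CommRing A] [CharP A p]
    (B : Type u) [CommRing B] [Algebra A B] [CharP B p]
    (h : Function.Bijective (FrobAlg.relFrob p A B)) : Algebra.FormallyEtale A B := by
  classical
  have hrel : ∀ (b : B) (a : FrobAlg.Twist p A), FrobAlg.relFrob p A B (b ⊗ₜ[A] a) =
      b ^ p * algebraMap A B ((FrobAlg.toTwist p A).symm a) := fun b a => by
    simp only [FrobAlg.relFrob, RingHom.comp_apply, AlgHom.toRingHom_eq_coe, RingHom.coe_coe, Algebra.TensorProduct.lift_tmul, map_mul]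
    rfl
  rw [Algebra.FormallyEtale.iff_comp_bijective]
  intro C _ _ I hI
  have hp0 : (p : C) = 0 := by
    rw [← map_natCast (algebraMap A C), CharP.cast_eq_zero, map_zero]
  have hfrob : ∀ x y : C, x - y ∈ I → x ^ p = y ^ p := by
    intro x y hxy
    rw [← sub_eq_zero, ← geom_sum₂_mul]
    have hs : (∑ i ∈ Finset.range p, x ^ i * y ^ (p - 1 - i)) ∈ I := by
      rw [← Ideal.Quotient.eq_zero_iff_mem, map_sum]
      simp only [map_mul, map_pow, (Ideal.Quotient.eq (I := I)).2 hxy, ← pow_add]
      rw [Finset.sum_congr rfl fun i hi => by rw [Nat.add_sub_cancel' (Nat.le_sub_one_of_lt (Finset.mem_range.1 hi))],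
        Finset.sum_const, Finset.card_range, nsmul_eq_mul, ← map_natCast (Ideal.Quotient.mk I), hp0, map_zero, zero_mul]
    have := Ideal.mul_mem_mul hs hxy
    rwa [← pow_two, hI] at this
  refine ⟨fun g₁ g₂ hg => AlgHom.ext fun b => ?_, fun f => ?_⟩
  · obtain ⟨z, rfl⟩ := h.2 b
    induction z using TensorProduct.induction_on with
    | zero => simp
    | tmul b a =>
      rw [hrel, map_mul, map_mul, AlgHom.commutes, AlgHom.commutes, map_pow, map_pow,
        hfrob (g₁ b) (g₂ b) (Ideal.Quotient.eq.1 (AlgHom.congr_fun hg b))]
    | add x y hx hy => rw [map_add, map_add, map_add, hx, hy]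
  · rcases subsingleton_or_nontrivial C with hC | hC
    · haveI : Subsingleton (C ⧸ I) := Ideal.Quotient.mk_surjective.subsingleton
      haveI : Nonempty (B →ₐ[A] C) := ⟨{ toFun := fun _ => 0, map_one' := Subsingleton.elim _ _, map_mul' := fun _ _ => Subsingleton.elim _ _, map_zero' := rfl, map_add' := fun _ _ => Subsingleton.elim _ _, commutes' := fun _ => Subsingleton.elim _ _ }⟩
      exact ⟨Classical.arbitrary _, AlgHom.ext fun _ => Subsingleton.elim _ _⟩
    haveI : CharP C p := (CharP.charP_iff_prime_eq_zero Fact.out).2 hp0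
    choose s hs using fun b => Ideal.Quotient.mk_surjective (I := I) (f b)
    let hb : B →ₐ[A] FrobAlg.Target p A C :=
      { toFun := fun b => FrobAlg.toTarget p A C (s b ^ p)
        map_one' := by rw [hfrob (s 1) 1 (Ideal.Quotient.eq.1 (by rw [hs, map_one, map_one])), one_pow, map_one]
        map_mul' := fun x y => by rw [hfrob (s (x * y)) (s x * s y) (Ideal.Quotient.eq.1 (by rw [hs, map_mul, map_mul, hs, hs])), mul_pow, map_mul]
        map_zero' := by rw [hfrob (s 0) 0 (Ideal.Quotient.eq.1 (by rw [hs, map_zero, map_zero])), zero_pow (Fact.out : p.Prime).ne_zero, map_zero]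
        map_add' := fun x y => by rw [hfrob (s (x + y)) (s x + s y) (Ideal.Quotient.eq.1 (by rw [hs, map_add, map_add, hs, hs])), add_pow_char, map_add]
        commutes' := fun a => by
          rw [FrobAlg.algebraMap_target, hfrob (s (algebraMap A B a)) (algebraMap A C a) (Ideal.Quotient.eq.1 (by rw [hs, AlgHom.commutes]; rfl))] }
    let T := Algebra.TensorProduct.lift hb (FrobAlg.inclHom p A C) (fun _ _ => Commute.all _ _)
    let G : FrobAlg.BaseChange p A B →+* C := ((FrobAlg.toTarget p A C).symm : FrobAlg.Target p A C →+* C).comp T.toRingHom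
    have hG : ∀ (b : B) (a : FrobAlg.Twist p A), G (b ⊗ₜ[A] a) = s b ^ p * algebraMap A C ((FrobAlg.toTwist p A).symm a) := fun b a => by
      simp only [G, T, RingHom.comp_apply, AlgHom.toRingHom_eq_coe, RingHom.coe_coe, Algebra.TensorProduct.lift_tmul, map_mul]
      rfl
    let e := RingEquiv.ofBijective (FrobAlg.relFrob p A B) h
    have hcomm : ∀ a, G (e.symm (algebraMap A B a)) = algebraMap A C a := fun a => by
      have : e.symm (algebraMap A B a) = (1 : B) ⊗ₜ[A] FrobAlg.toTwist p A a := by
        rw [RingEquiv.symm_apply_eq]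
        show algebraMap A B a = FrobAlg.relFrob p A B ((1 : B) ⊗ₜ[A] FrobAlg.toTwist p A a)
        rw [hrel, one_pow, one_mul, RingEquiv.symm_apply_apply]
      rw [this, hG, hfrob (s 1) 1 (Ideal.Quotient.eq.1 (by rw [hs, map_one, map_one])), one_pow, one_mul, RingEquiv.symm_apply_apply]
    refine ⟨{ (G.comp e.symm.toRingHom) with commutes' := hcomm }, AlgHom.ext fun b => ?_⟩
    obtain ⟨z, rfl⟩ := h.2 b
    show Ideal.Quotient.mk I (G (e.symm (e z))) = f (FrobAlg.relFrob p A B z)
    rw [RingEquiv.symm_apply_apply]
    induction z using TensorProduct.induction_on with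
    | zero => simp
    | tmul b a => rw [hG, hrel, map_mul, map_mul, map_pow, map_pow, hs, AlgHom.commutes]; rfl
    | add x y hx hy => rw [map_add, map_add, map_add, map_add, hx, hy]

end Groth.Agent.S16001
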