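import Groth.Statements.S1601
import Groth.Agent.QuadIdealLib.Basic
-- import your own Groth.Agent.* helpers here

set_option autoImplicit false
universe u
open Resolve

namespace Groth.Agent.S1601

/-- Let κ be a field and I an ideal of κ[x, y] whose colength is greater than one (the quotient is not
of dimension at most one over κ). If a nonzero polynomial a + bx + cy + dx^2 + exy + fy^2 lies in
I^2, then it equals j (g + hx + iy)^2 for some scalars j, g, h, i. -/
theorem result (κ : Type u) [Field κ] (I : Ideal (MvPolynomial (Fin 2) κ))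
    (hI : ¬ (Module.Finite κ (MvPolynomial (Fin 2) κ ⧸ I) ∧ Module.finrank κ (MvPolynomial (Fin 2) κ ⧸ I) ≤ 1))
    (a b c d e f : κ) (hne : (a, b, c, d, e, f) ≠ (0, 0, 0, 0, 0, 0))
    (hmem : (MvPolynomial.C a + MvPolynomial.C b * MvPolynomial.X 0 + MvPolynomial.C c * MvPolynomial.X 1 +
      MvPolynomial.C d * MvPolynomial.X 0 ^ 2 + MvPolynomial.C e * MvPolynomial.X 0 * MvPolynomial.X 1 +
      MvPolynomial.C f * MvPolynomial.X 1 ^ 2 : MvPolynomial (Fin 2) κ) ∈ I ^ 2) :
    ∃ j g h i : κ, (MvPolynomial.C a + MvPolynomial.C b * MvPolynomial.X 0 + MvPolynomial.C c * MvPolynomial.X 1 +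
      MvPolynomial.C d * MvPolynomial.X 0 ^ 2 + MvPolynomial.C e * MvPolynomial.X 0 * MvPolynomial.X 1 +
      MvPolynomial.C f * MvPolynomial.X 1 ^ 2 : MvPolynomial (Fin 2) κ) =
      MvPolynomial.C j * (MvPolynomial.C g + MvPolynomial.C h * MvPolynomial.X 0 + MvPolynomial.C i * MvPolynomial.X 1) ^ 2 := by
  classical
  set q : MvPolynomial (Fin 2) κ := MvPolynomial.C a + MvPolynomial.C b * MvPolynomial.X 0 +
    MvPolynomial.C c * MvPolynomial.X 1 + MvPolynomial.C d * MvPolynomial.X 0 ^ 2 +
    MvPolynomial.C e * MvPolynomial.X 0 * MvPolynomial.X 1 + MvPolynomial.C f * MvPolynomial.X 1 ^ 2 with hq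
  by_cases hlin : QuadIdealLib.NoLin I
  · exfalso
    have hqI : q ∈ I := Ideal.pow_le_self two_ne_zero hmem
    have h0 : MvPolynomial.pderiv 0 q = QuadIdealLib.lin b (2 * d) e := by
      simp [hq, QuadIdealLib.lin, MvPolynomial.pderiv_mul, MvPolynomial.pderiv_pow, map_ofNat]
      ring
    have h1 : MvPolynomial.pderiv 1 q = QuadIdealLib.lin c e (2 * f) := by
      simp [hq, QuadIdealLib.lin, MvPolynomial.pderiv_mul, MvPolynomial.pderiv_pow, map_ofNat]
      ring
    obtain ⟨hb, hd2, he⟩ := QuadIdealLib.lin_eq_zero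
      (hlin _ _ _ (h0 ▸ QuadIdealLib.deriv_mem (MvPolynomial.pderiv 0) hmem))
    obtain ⟨hc, -, hf2⟩ := QuadIdealLib.lin_eq_zero
      (hlin _ _ _ (h1 ▸ QuadIdealLib.deriv_mem (MvPolynomial.pderiv 1) hmem))
    rcases eq_or_ne (2 : κ) 0 with h2 | h2
    · let K := AlgebraicClosure κ
      obtain ⟨α, hα⟩ := IsAlgClosed.exists_pow_nat_eq (algebraMap κ K a) two_pos
      obtain ⟨δ, hδ⟩ := IsAlgClosed.exists_pow_nat_eq (algebraMap κ K d) two_pos
      obtain ⟨φ, hφ⟩ := IsAlgClosed.exists_pow_nat_eq (algebraMap κ K f) two_pos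
      have h2' : (2 : MvPolynomial (Fin 2) K) = 0 := by
        rw [← map_ofNat (MvPolynomial.C : K →+* MvPolynomial (Fin 2) K), ← map_ofNat (algebraMap κ K), h2,
          map_zero, map_zero]
      have hsq : MvPolynomial.map (algebraMap κ K) q = QuadIdealLib.lin α δ φ ^ 2 := by
        simp only [hq, hb, hc, he, map_add, map_mul, map_pow, map_zero, MvPolynomial.map_C, MvPolynomial.map_X,
          ← hα, ← hδ, ← hφ, QuadIdealLib.lin]
        linear_combination (-(MvPolynomial.C α * MvPolynomial.C δ * MvPolynomial.X 0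
          + MvPolynomial.C α * MvPolynomial.C φ * MvPolynomial.X 1
          + MvPolynomial.C δ * MvPolynomial.C φ * MvPolynomial.X 0 * MvPolynomial.X 1)) * h2'
      have hmem' : QuadIdealLib.lin α δ φ ^ 2 ∈ I.map (MvPolynomial.map (algebraMap κ K)) ^ 2 := by
        rw [← hsq, ← Ideal.map_pow]; exact Ideal.mem_map_of_mem _ hmem
      have hz : QuadIdealLib.lin α δ φ = 0 := by
        by_contra hz
        exact hz (QuadIdealLib.lin_eq_zero_of_map I hlin (QuadIdealLib.lin_mem_of_sq_mem hz hmem'))
      obtain ⟨ha', hd', hf'⟩ := QuadIdealLib.lin_eq_zero hz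
      rw [ha', zero_pow two_ne_zero, eq_comm, map_eq_zero] at hα
      rw [hd', zero_pow two_ne_zero, eq_comm, map_eq_zero] at hδ
      rw [hf', zero_pow two_ne_zero, eq_comm, map_eq_zero] at hφ
      exact hne (by simp [hα, hb, hc, hδ, he, hφ])
    · have hd := (mul_eq_zero.mp hd2).resolve_left h2
      have hf := (mul_eq_zero.mp hf2).resolve_left h2
      have : QuadIdealLib.lin a 0 0 ∈ I := by
        simpa [hq, QuadIdealLib.lin, hb, hc, hd, he, hf] using hqI
      exact hne (by simp [(QuadIdealLib.lin_eq_zero (hlin _ _ _ this)).1, hb, hc, hd, he, hf])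
  · simp only [QuadIdealLib.NoLin, not_forall] at hlin
    obtain ⟨g, h, i, hLI, hL⟩ := hlin
    have hhi : h ≠ 0 ∨ i ≠ 0 := by
      by_contra hh
      simp only [not_or, not_not] at hh
      obtain ⟨rfl, rfl⟩ := hh
      have hg : g ≠ 0 := fun h0 => hL (by simp [QuadIdealLib.lin, h0])
      have : I = ⊤ := Ideal.eq_top_of_isUnit_mem _ hLI (by
        simpa [QuadIdealLib.lin] using
          (isUnit_iff_ne_zero.mpr hg).map (MvPolynomial.C : κ →+* MvPolynomial (Fin 2) κ))
      haveI : Subsingleton (MvPolynomial (Fin 2) κ ⧸ I) := Ideal.Quotient.subsingleton_iff.mpr this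
      exact hI ⟨inferInstance, by rw [Module.finrank_zero_of_subsingleton]; exact zero_le_one⟩
    obtain ⟨u, hu, hs, hk⟩ := QuadIdealLib.exists_sub (g := g) hhi
    obtain ⟨p, hp⟩ : ∃ p, I.map (QuadIdealLib.sub u) = Ideal.span {p} :=
      ⟨_, (Submodule.IsPrincipal.span_singleton_generator _).symm⟩
    have hpdeg : p = 0 ∨ 2 ≤ p.natDegree := by
      by_contra hh
      simp only [not_or, not_le] at hh
      obtain ⟨hp0, hdeg⟩ := hh
      let T := LinearMap.toSpanSingleton κ (MvPolynomial (Fin 2) κ ⧸ I) 1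
      have hT : Function.Surjective T := by
        intro x
        obtain ⟨x, rfl⟩ := Ideal.Quotient.mk_surjective x
        have hdp : (QuadIdealLib.sub u x % p).degree ≤ 0 := by
          rw [← Polynomial.natDegree_eq_zero_iff_degree_le_zero]
          rcases eq_or_ne (QuadIdealLib.sub u x % p) 0 with h0 | h0
          · rw [h0, Polynomial.natDegree_zero]
          · have := Polynomial.natDegree_lt_natDegree h0 (Polynomial.degree_mod_lt _ hp0)
            omega
        refine ⟨(QuadIdealLib.sub u x % p).coeff 0, ?_⟩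
        change ((QuadIdealLib.sub u x % p).coeff 0) • (1 : MvPolynomial (Fin 2) κ ⧸ I) = _
        rw [← map_one (Ideal.Quotient.mkₐ κ I), ← map_smul, Ideal.Quotient.mkₐ_eq_mk, eq_comm,
          Ideal.Quotient.eq, Algebra.smul_def, mul_one]
        have hm : QuadIdealLib.sub u (x - algebraMap κ _ ((QuadIdealLib.sub u x % p).coeff 0)) ∈
            I.map (QuadIdealLib.sub u) := by
          rw [hp, map_sub, AlgHom.commutes, Polynomial.algebraMap_eq, ← Polynomial.eq_C_of_degree_le_zero hdp]
          exact Ideal.mem_span_singleton.mpr ⟨QuadIdealLib.sub u x / p,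
            sub_eq_of_eq_add (EuclideanDomain.div_add_mod (QuadIdealLib.sub u x) p).symm⟩
        obtain ⟨y, hy, hye⟩ := (Ideal.mem_map_iff_of_surjective _ hs).mp hm
        obtain ⟨z, hz⟩ := (hk _).mp (show QuadIdealLib.sub u
          (x - algebraMap κ _ ((QuadIdealLib.sub u x % p).coeff 0) - y) = 0 by rw [map_sub, hye, sub_self])
        rw [eq_add_of_sub_eq hz]
        exact I.add_mem (I.mul_mem_right _ hLI) hy
      exact hI ⟨Module.Finite.of_surjective T hT,
        (LinearMap.finrank_le_finrank_of_surjective hT).trans (Module.finrank_self κ).le⟩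
    have hzero : ∀ (x : MvPolynomial (Fin 2) κ) (n : ℕ), x ∈ I ^ n → x.totalDegree < 2 * n →
        QuadIdealLib.sub u x = 0 := by
      intro x n hx hdeg
      have h' : QuadIdealLib.sub u x ∈ Ideal.span {p ^ n} := by
        rw [← Ideal.span_singleton_pow, ← hp, ← Ideal.map_pow]; exact Ideal.mem_map_of_mem _ hx
      rcases hpdeg with h0 | h0
      · rw [h0, zero_pow (by rintro rfl; simp at hdeg), Ideal.span_singleton_eq_bot.mpr rfl] at h'
        exact h'
      · by_contra hne'
        have h1 := Polynomial.natDegree_le_of_dvd (Ideal.mem_span_singleton.mp h') hne'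
        rw [Polynomial.natDegree_pow] at h1
        have h2 := QuadIdealLib.natDegree_sub_le u hu x
        have h3 := Nat.mul_le_mul_left n h0
        omega
    have hqdeg : q.totalDegree ≤ 2 := by
      rw [hq]
      repeat refine (MvPolynomial.totalDegree_add _ _).trans (max_le ?_ ?_)
      all_goals
        first
          | (rw [MvPolynomial.totalDegree_C]; exact Nat.zero_le _)
          | (refine (MvPolynomial.totalDegree_mul _ _).trans ?_
             simp [MvPolynomial.totalDegree_C, MvPolynomial.totalDegree_X, MvPolynomial.totalDegree_X_pow]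
             done)
          | (refine (MvPolynomial.totalDegree_mul _ _).trans (Nat.add_le_add (b := 1) (d := 1) ?_ (by simp))
             refine (MvPolynomial.totalDegree_mul _ _).trans ?_
             simp)
    obtain ⟨M, hM⟩ := (hk q).mp (hzero q 2 hmem (by omega))
    rcases eq_or_ne M 0 with hM0 | hM0
    · exact ⟨0, 0, 0, 0, by rw [hM, hM0]; simp⟩
    have hLdeg : 1 ≤ (QuadIdealLib.lin g h i).totalDegree := by
      by_contra hh
      have e := MvPolynomial.totalDegree_eq_zero_iff_eq_C.mp (Nat.lt_one_iff.mp (not_le.mp hh))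
      have := QuadIdealLib.lin_eq_zero (g := g - MvPolynomial.coeff 0 (QuadIdealLib.lin g h i)) (h := h) (i := i) (by
        calc QuadIdealLib.lin (g - MvPolynomial.coeff 0 (QuadIdealLib.lin g h i)) h i
            = QuadIdealLib.lin g h i - MvPolynomial.C (MvPolynomial.coeff 0 (QuadIdealLib.lin g h i)) := by
              simp only [QuadIdealLib.lin, map_sub]; ring
          _ = 0 := sub_eq_zero.mpr e)
      rcases hhi with h0 | h0
      · exact h0 this.2.1
      · exact h0 this.2.2
    have hMI : M ∈ I := QuadIdealLib.mem_of_sq hL (QuadIdealLib.sub u).toRingHom hs hk hLI (hM ▸ hmem)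
    have hMdeg : M.totalDegree ≤ 1 := by
      have h' := MvPolynomial.totalDegree_mul_of_isDomain hL hM0
      rw [← hM] at h'
      omega
    obtain ⟨N, hN⟩ := (hk M).mp (hzero M 1 (by rwa [pow_one]) (by omega))
    have hN0 : N ≠ 0 := fun h0 => hM0 (by rw [hN, h0, mul_zero])
    have hNdeg : N.totalDegree = 0 := by
      have h' := MvPolynomial.totalDegree_mul_of_isDomain hL hN0
      rw [← hN] at h'
      omega
    refine ⟨MvPolynomial.coeff 0 N, g, h, i, ?_⟩
    rw [← MvPolynomial.totalDegree_eq_zero_iff_eq_C.mp hNdeg, hM, hN]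
    simp only [QuadIdealLib.lin]
    ring

end Groth.Agent.S1601
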