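import Groth.Statements.S16015
import Mathlib.RingTheory.TensorProduct.Basic
import Mathlib.Algebra.Module.Projective
import Mathlib.RingTheory.Finiteness.Projective
import Mathlib.LinearAlgebra.TensorProduct.Tower
import Mathlib.RingTheory.Ideal.Quotient.Operations
import Mathlib.LinearAlgebra.TensorProduct.Pi

set_option autoImplicit false
universe u v w
open W4c3ghconstell

namespace Groth.Agent.S16015

/-- Let B be a commutative ring, E a B-module, F a finitely generated projective B-module and β : E → F
a B-linear map. Then there is a unique ideal I of B such that for every commutative B-algebra C the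
base change β_C : C ⊗ E → C ⊗ F is zero if and only if the structure map B → C kills I. (The
published statement is for a homomorphism of modules on a scheme T into a locally free module and
produces a closed subscheme T₀ through which a morphism factors exactly when the pulled-back
homomorphism vanishes; this row is the case of an affine T with affine test schemes and F of finite
rank, to which it reduces.) -/
theorem result {B : Type u} [CommRing B]
    {E : Type v} [AddCommGroup E] [Module B E]
    {F : Type w} [AddCommGroup F] [Module B F] [Module.Finite B F] [Module.Projective B F]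
    (β : E →ₗ[B] F) :
    ∃! I : Ideal B, ∀ (C : Type u) [CommRing C] [Algebra B C],
      LinearMap.baseChange C β = 0 ↔ I ≤ RingHom.ker (algebraMap B C) := by
  obtain ⟨n, p, s, hp, hs, hps⟩ := Module.Finite.exists_comp_eq_id_of_projective B F
  let I : Ideal B := Ideal.span (Set.range fun q : E × Fin n => s (β q.1) q.2)
  have main : ∀ (C : Type u) [CommRing C] [Algebra B C],
      LinearMap.baseChange C β = 0 ↔ I ≤ RingHom.ker (algebraMap B C) := by
    intro C _ _
    constructor
    · intro h0
      refine Ideal.span_le.2 ?_
      rintro _ ⟨⟨x, j⟩, rfl⟩
      have h1 := LinearMap.congr_fun h0 ((1 : C) ⊗ₜ[B] x)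
      rw [LinearMap.baseChange_tmul, LinearMap.zero_apply] at h1
      have h2 := congrArg (fun z => TensorProduct.rid B C (LinearMap.lTensor C ((LinearMap.proj j).comp s) z)) h1
      simp only [map_zero, LinearMap.lTensor_tmul, TensorProduct.rid_tmul] at h2
      show algebraMap B C (s (β x) j) = 0
      rw [Algebra.algebraMap_eq_smul_one]
      exact h2
    · intro hle
      have hx : ∀ x : E, (1 : C) ⊗ₜ[B] β x = 0 := by
        intro x
        have e : β x = ∑ j, s (β x) j • p (Pi.single j 1) := by
          conv_lhs => rw [← LinearMap.id_apply (R := B) (β x), ← hps, LinearMap.comp_apply, pi_eq_sum_univ' (s (β x))]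
          simp [map_sum, map_smul]
        rw [e, TensorProduct.tmul_sum]
        refine Finset.sum_eq_zero fun j _ => ?_
        have h3 : algebraMap B C (s (β x) j) = 0 := hle (Ideal.subset_span ⟨(x, j), rfl⟩)
        rw [TensorProduct.tmul_smul, TensorProduct.smul_tmul', ← Algebra.algebraMap_eq_smul_one, h3, TensorProduct.zero_tmul]
      refine LinearMap.ext fun z => ?_
      induction z using TensorProduct.induction_on with
      | zero => rw [map_zero]; rfl
      | tmul c x =>
        rw [LinearMap.baseChange_tmul, LinearMap.zero_apply,
          show c ⊗ₜ[B] β x = c • ((1 : C) ⊗ₜ[B] β x) by rw [TensorProduct.smul_tmul', smul_eq_mul, mul_one], hx, smul_zero]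
      | add a b ha hb => rw [map_add, ha, hb]; simp
  refine ⟨I, main, fun I' hI' => le_antisymm ?_ ?_⟩
  · have h := (hI' (B ⧸ I)).1 ((main (B ⧸ I)).2 (Ideal.mk_ker (I := I)).ge)
    exact h.trans (Ideal.mk_ker (I := I)).le
  · have h := (main (B ⧸ I')).1 ((hI' (B ⧸ I')).2 (Ideal.mk_ker (I := I')).ge)
    exact h.trans (Ideal.mk_ker (I := I')).le

end Groth.Agent.S16015
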