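import Groth.Statements.S16016
import Mathlib
import Mathlib
-- import your own Groth.Agent.* helpers here

set_option autoImplicit false
universe u
open W4c3ghconstell

namespace Groth.Agent.S16016

/-- Let k be a field with 2 ≠ 0, index k⁶ by two copies of {0,1,2} (basis vectors p₁, p₂, p₃ in the
first copy and p₄, p₅, p₆ in the second), let Q be the symmetric matrix with blocks ((0, 1), (1,
0)), so that the form it defines pairs pᵢ with pᵢ₊₃, and let W₀ be the span of p₁ and p₂. Then a 6 ×
6 matrix A satisfies AᵀQ + QA = 0 (A lies in the orthogonal Lie algebra of Q) and has the image of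
Aᵀ contained in W₀ if and only if A = a · (E₄₂ − E₅₁) for some scalar a, where Eᵢⱼ is the matrix
unit. (The lemma in the source concludes that the set of such A inside a certain nilpotent orbit
closure of this Lie algebra is one-dimensional; this row is the computation its proof performs,
which determines all such A in the Lie algebra. Characteristic 2 is excluded: there E₁₄ᵀ also
qualifies.) -/
theorem result (k : Type u) [Field k] (h2 : (2 : k) ≠ 0)
    (A : Matrix (Fin 3 ⊕ Fin 3) (Fin 3 ⊕ Fin 3) k) :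
    (A.transpose * Matrix.fromBlocks (0 : Matrix (Fin 3) (Fin 3) k) 1 1 0 +
        Matrix.fromBlocks (0 : Matrix (Fin 3) (Fin 3) k) 1 1 0 * A = 0 ∧
      LinearMap.range (Matrix.mulVecLin A.transpose) ≤
        Submodule.span k {Pi.single (Sum.inl 0 : Fin 3 ⊕ Fin 3) (1 : k), Pi.single (Sum.inl 1 : Fin 3 ⊕ Fin 3) (1 : k)}) ↔
    ∃ a : k, A = a • (Matrix.single (Sum.inr 0) (Sum.inl 1) (1 : k) - Matrix.single (Sum.inr 1) (Sum.inl 0) (1 : k)) := by
  classical
  set J : Matrix (Fin 3 ⊕ Fin 3) (Fin 3 ⊕ Fin 3) k := Matrix.fromBlocks (0 : Matrix (Fin 3) (Fin 3) k) 1 1 0 with hJ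
  have hJA : ∀ i j, (J * A) i j = A (Sum.swap i) j := fun i j => by
    rcases i with i | i <;> simp [hJ, Matrix.mul_apply, Fintype.sum_sum_type, Matrix.one_apply]
  have hAJ : ∀ i j, (A.transpose * J) i j = A (Sum.swap j) i := fun i j => by
    rcases j with j | j <;> simp [hJ, Matrix.mul_apply, Fintype.sum_sum_type, Matrix.one_apply, Matrix.transpose_apply]
  constructor
  · rintro ⟨h1, hr⟩
    have hz : ∀ i j, j ≠ Sum.inl 0 → j ≠ Sum.inl 1 → A i j = 0 := by
      intro i j hj0 hj1
      have hle : Submodule.span k {Pi.single (Sum.inl 0 : Fin 3 ⊕ Fin 3) (1 : k), Pi.single (Sum.inl 1 : Fin 3 ⊕ Fin 3) (1 : k)} ≤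
          LinearMap.ker (LinearMap.proj j : ((Fin 3 ⊕ Fin 3) → k) →ₗ[k] k) := by
        rw [Submodule.span_le]
        rintro _ (rfl | rfl) <;> simp [hj0, hj1]
      have := hle (hr ⟨Pi.single i 1, rfl⟩)
      simpa [Matrix.mulVec_single] using this
    have hskew : ∀ i j, A (Sum.swap j) i + A (Sum.swap i) j = 0 := fun i j => by
      have := congrFun (congrFun h1 i) j
      rwa [Matrix.add_apply, hAJ, hJA, Matrix.zero_apply] at this
    refine ⟨A (Sum.inr 0) (Sum.inl 1), Matrix.ext fun i j => ?_⟩
    have hneg : A (Sum.inr 1) (Sum.inl 0) = -A (Sum.inr 0) (Sum.inl 1) := eq_neg_of_add_eq_zero_left (hskew (Sum.inl 0) (Sum.inl 1))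
    have hdiag : ∀ j, A (Sum.swap j) j = 0 := fun j => by
      have := hskew j j
      rw [← two_mul] at this
      exact (mul_eq_zero.1 this).resolve_left h2
    by_cases hj : j = Sum.inl 0 ∨ j = Sum.inl 1
    · by_cases hi : Sum.swap i = Sum.inl 0 ∨ Sum.swap i = Sum.inl 1
      · obtain rfl | rfl : i = Sum.inr 0 ∨ i = Sum.inr 1 := hi.imp (fun h => by rw [← Sum.swap_swap i, h]; rfl) (fun h => by rw [← Sum.swap_swap i, h]; rfl)
        · rcases hj with rfl | rfl
          · simpa using hdiag (Sum.inl 0)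
          · simp
        · rcases hj with rfl | rfl
          · simp [hneg]
          · simpa using hdiag (Sum.inl 1)
      · push_neg at hi
        have h := hskew (Sum.swap i) j
        rw [Sum.swap_swap, hz _ _ hi.1 hi.2, zero_add] at h
        rw [h]
        have n0 : i ≠ Sum.inr 0 := fun e => hi.1 (by rw [e]; rfl)
        have n1 : i ≠ Sum.inr 1 := fun e => hi.2 (by rw [e]; rfl)
        simp [n0, n1, Ne.symm n0, Ne.symm n1]
    · push_neg at hj
      rw [hz i j hj.1 hj.2]
      simp [hj.1, hj.2, Ne.symm hj.1, Ne.symm hj.2]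
  · rintro ⟨a, rfl⟩
    refine ⟨Matrix.ext fun i j => ?_, ?_⟩
    · rw [Matrix.add_apply, hAJ, hJA, Matrix.zero_apply]
      rcases i with i | i <;> rcases j with j | j <;> fin_cases i <;> fin_cases j <;> simp [Matrix.single_apply]
    · rintro _ ⟨v, rfl⟩
      rw [Submodule.mem_span_pair]
      refine ⟨-a * v (Sum.inr 1), a * v (Sum.inr 0), funext fun l => ?_⟩
      rcases l with l | l <;> fin_cases l <;>
        simp [Matrix.mulVec, dotProduct, Fintype.sum_sum_type, Fin.sum_univ_three, Matrix.single_apply]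

end Groth.Agent.S16016
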