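import Groth.Statements.S16017
import Mathlib
import Mathlib
-- import your own Groth.Agent.* helpers here

set_option autoImplicit false
universe u
open W4c3ghconstell

namespace Groth.Agent.S16017

/-- Let ι index the irreducible representations, θ : ι → ℚ a weight negative at only finitely many
indices (the finite set D₋), h h' : ι → ℕ with h' ≤ h pointwise (the isotypic dimensions of an
object and of a sub-object) and Σ_i θ_i h_i summable. For a finite set D of indices put S_D = Σ_{i ∉
D} θ_i h_i, d = #(D ∖ D₋), and θ̃_D = Σ_{i ∈ D} θ_i h'_i + (S_D / d) · Σ_{i ∈ D ∖ D₋} h'_i / h_i,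
the modified weight attached to the parameters chosen for D (for D ⊇ D₋ the first sum is the
negative part plus the part over D ∖ D₋). Then θ̃_D tends to Σ_i θ_i h'_i as D grows through the
finite subsets of ι. (Here D runs over all finite sets of indices and a quotient by zero is zero;
the source lets D run over the finite subsets of the locus θ ≠ 0 containing D₋, and the same tail
estimate gives both.) -/
theorem result {ι : Type u} [DecidableEq ι] (θ : ι → ℚ) (h h' : ι → ℕ)
    (hle : ∀ i, h' i ≤ h i) (hfin : {i | θ i < 0}.Finite)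
    (hsum : Summable (fun i => (θ i : ℝ) * (h i : ℝ))) :
    Filter.Tendsto
      (fun D : Finset ι =>
        (∑ i ∈ D, (θ i : ℝ) * (h' i : ℝ)) +
          ((∑' i, if i ∈ D then (0 : ℝ) else (θ i : ℝ) * (h i : ℝ)) / ((D \ hfin.toFinset).card : ℝ)) *
            ∑ i ∈ D \ hfin.toFinset, ((h' i : ℝ) / (h i : ℝ)))
      Filter.atTop (nhds (∑' i, (θ i : ℝ) * (h' i : ℝ))) := by
  classical
  set F := hfin.toFinset with hF
  have habs : Summable (fun i => |(θ i : ℝ) * (h i : ℝ)|) := hsum.abs
  have hsum' : Summable (fun i => (θ i : ℝ) * (h' i : ℝ)) := by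
    refine Summable.of_norm_bounded habs fun i => ?_
    rw [Real.norm_eq_abs, abs_mul, abs_mul]
    exact mul_le_mul_of_nonneg_left (by rw [abs_of_nonneg (Nat.cast_nonneg _), abs_of_nonneg (Nat.cast_nonneg _)]; exact_mod_cast hle i) (abs_nonneg _)
  have hrw : ∀ D : Finset ι, (∑' i, if i ∈ D then (0 : ℝ) else (θ i : ℝ) * (h i : ℝ)) =
      (∑' i, (θ i : ℝ) * (h i : ℝ)) - ∑ i ∈ D, (θ i : ℝ) * (h i : ℝ) := by
    intro D
    have h1 : Summable (fun i => if i ∈ D then (θ i : ℝ) * (h i : ℝ) else 0) :=
      summable_of_ne_finset_zero (s := D) fun i hi => if_neg hi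
    have h2 : (fun i => if i ∈ D then (0 : ℝ) else (θ i : ℝ) * (h i : ℝ)) =
        (fun i => (θ i : ℝ) * (h i : ℝ) - if i ∈ D then (θ i : ℝ) * (h i : ℝ) else 0) := funext fun i => by
      split_ifs <;> ring
    rw [h2, hsum.tsum_sub h1, tsum_eq_sum (s := D) (fun i hi => if_neg hi)]
    congr 1
    exact Finset.sum_congr rfl fun i hi => if_pos hi
  have htail : Filter.Tendsto (fun D : Finset ι => (∑' i, if i ∈ D then (0 : ℝ) else (θ i : ℝ) * (h i : ℝ))) Filter.atTop (nhds 0) := by
    simp only [hrw]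
    have := hsum.hasSum
    simpa using (tendsto_const_nhds (x := ∑' i, (θ i : ℝ) * (h i : ℝ))).sub this
  have hcorr : Filter.Tendsto (fun D : Finset ι => ((∑' i, if i ∈ D then (0 : ℝ) else (θ i : ℝ) * (h i : ℝ)) / ((D \ F).card : ℝ)) *
      ∑ i ∈ D \ F, ((h' i : ℝ) / (h i : ℝ))) Filter.atTop (nhds 0) := by
    refine squeeze_zero_norm (fun D => ?_) (by simpa using htail.norm)
    rw [norm_mul, norm_div, div_mul_eq_mul_div]
    rcases Nat.eq_zero_or_pos (D \ F).card with h0 | h0
    · rw [h0]; simp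
    rw [div_le_iff₀ (by simpa using h0)]
    refine mul_le_mul_of_nonneg_left ?_ (norm_nonneg _)
    rw [Real.norm_eq_abs, Real.norm_eq_abs, abs_of_nonneg (Finset.sum_nonneg fun i _ => by positivity),
      abs_of_nonneg (Nat.cast_nonneg _)]
    calc ∑ i ∈ D \ F, ((h' i : ℝ) / (h i : ℝ)) ≤ ∑ i ∈ D \ F, (1 : ℝ) :=
          Finset.sum_le_sum fun i _ => div_le_one_of_le₀ (by exact_mod_cast hle i) (Nat.cast_nonneg _)
      _ = _ := by simp
  simpa using Filter.Tendsto.add hsum'.hasSum hcorr

end Groth.Agent.S16017
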