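import Groth.Statements.S16030
import Mathlib.RingTheory.Spectrum.Prime.Topology
-- import your own Groth.Agent.* helpers here

set_option autoImplicit false
universe u
open CAlg

namespace Groth.Agent.S16030

/-- For a finite set F of points of the spectrum of a commutative ring A and an open subset U containing
F, some basic open D(a) contains F and is contained in U. -/
theorem result
    (A : Type u) [CommRing A] (F : Set (PrimeSpectrum A)) (hF : F.Finite)
    (U : TopologicalSpace.Opens (PrimeSpectrum A)) (hFU : F ⊆ (U : Set (PrimeSpectrum A))) :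
    ∃ a : A, F ⊆ (PrimeSpectrum.basicOpen a : Set (PrimeSpectrum A)) ∧ PrimeSpectrum.basicOpen a ≤ U := by
  classical
  obtain ⟨S, hS⟩ := (PrimeSpectrum.isClosed_iff_zeroLocus _).mp U.isOpen.isClosed_compl
  by_cases hF0 : F = ∅
  · exact ⟨0, by simp [hF0], by simp⟩
  suffices ∃ a ∈ Ideal.span S, ∀ x ∈ F, a ∉ x.asIdeal by
    obtain ⟨a, ha, hax⟩ := this
    refine ⟨a, fun x hx => hax x hx, fun x hx => ?_⟩
    by_contra hxU
    have hz : x ∈ PrimeSpectrum.zeroLocus S := hS ▸ hxU
    exact hx ((Ideal.span_le.mpr hz) ha)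
  obtain ⟨x₀, -⟩ := Set.nonempty_iff_ne_empty.mpr hF0
  by_contra hc
  simp only [not_exists, not_and, not_forall, not_not] at hc
  obtain ⟨x, hx, hle⟩ := (Ideal.subset_union_prime_finite hF (f := fun x : PrimeSpectrum A => x.asIdeal)
    x₀ x₀ (fun x _ _ _ => x.2)).mp (fun a ha => by
      obtain ⟨x, hx, hax⟩ := hc a ha
      exact Set.mem_biUnion hx hax)
  have hz : x ∈ PrimeSpectrum.zeroLocus S := fun s hs => hle (Ideal.subset_span hs)
  rw [← hS] at hz
  exact hz (hFU hx)

end Groth.Agent.S16030
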