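import Groth.Statements.S16031
import Mathlib
import Groth.Agent.PushLib.Over
-- import your own Groth.Agent.* helpers here

set_option autoImplicit false
universe u
open CategoryTheory CategoryTheory.Limits AlgebraicGeometry
open FlatMor

namespace Groth.Agent.S16031

/-- Let θ₁ : Y ⟶ X₁ and θ₂ : Y ⟶ X₂ be closed immersions of schemes and let X, with φ₁ : X₁ ⟶ X and φ₂ :
X₂ ⟶ X, be their pushout in the category of schemes. If a finite set E of points of X has each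
preimage φᵢ⁻¹(E) contained in an affine open of Xᵢ, then E is contained in an affine open of X. -/
theorem result
    {Y X₁ X₂ X : Scheme.{u}} (θ₁ : Y ⟶ X₁) (θ₂ : Y ⟶ X₂) [IsClosedImmersion θ₁] [IsClosedImmersion θ₂]
    (φ₁ : X₁ ⟶ X) (φ₂ : X₂ ⟶ X) (hX : IsPushout θ₁ θ₂ φ₁ φ₂)
    (E : Set ↥X) (hE : E.Finite)
    (h₁ : ∃ U₁ : X₁.Opens, IsAffineOpen U₁ ∧ φ₁ ⁻¹' E ⊆ (U₁ : Set ↥X₁))
    (h₂ : ∃ U₂ : X₂.Opens, IsAffineOpen U₂ ∧ φ₂ ⁻¹' E ⊆ (U₂ : Set ↥X₂)) :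
    ∃ U : X.Opens, IsAffineOpen U ∧ E ⊆ (U : Set ↥X) := by
  have hY : ∀ y : X₂, ∃ p : PushLib.Nice θ₁ θ₂, y ∈ p.V := PushLib.exists_nice_of_closedImmersion θ₁ θ₂
  haveI := PushLib.isClosedImmersion_of_isPushout hY hX
  haveI : IsClosedImmersion φ₁ := by
    rw [← PushLib.Nice.a_iso hY hX]
    haveI := PushLib.Nice.isClosedImmersion_a hY
    infer_instance
  obtain ⟨U₁, hU₁, hE₁⟩ := h₁
  obtain ⟨U₂, hU₂, hE₂⟩ := h₂
  obtain ⟨p, hp₁, hp₂⟩ := PushLib.exists_nice_finite (i := θ₁) (j := θ₂) (φ₁ ⁻¹' E) (φ₂ ⁻¹' E)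
    (hE.preimage φ₁.isClosedEmbedding.injective.injOn) (hE.preimage φ₂.isClosedEmbedding.injective.injOn)
    (fun z => by
      have : φ₁ (θ₁ z) = φ₂ (θ₂ z) := congrArg (fun g : Y ⟶ X => g z) hX.w
      show φ₁ (θ₁ z) ∈ E ↔ φ₂ (θ₂ z) ∈ E; rw [this]) U₁ hU₁ hE₁ U₂ hU₂ hE₂
  refine ⟨(p.ι ≫ (PushLib.Nice.iso hY hX).hom).opensRange, isAffineOpen_opensRange _, fun w hw => ?_⟩
  rcases PushLib.exists_or hY hX w with ⟨x, rfl⟩ | ⟨y, rfl⟩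
  · obtain ⟨z, hz⟩ : x ∈ Set.range p.hU.fromSpec := by rw [p.hU.range_fromSpec]; exact hp₁ hw
    refine ⟨PrimeSpectrum.comap p.sq.v z, ?_⟩
    rw [← hz]
    refine Eq.trans ?_ (congrArg (fun g : X₁ ⟶ X => g (p.hU.fromSpec z)) (PushLib.Nice.a_iso hY hX))
    exact congrArg (PushLib.Nice.iso hY hX).hom (congrArg (fun g : _ ⟶ PushLib.Nice.P θ₁ θ₂ => g z) (PushLib.Nice.fromSpec_a hY p)).symm
  · obtain ⟨z, hz⟩ : y ∈ Set.range p.hV.fromSpec := by rw [p.hV.range_fromSpec]; exact hp₂ hw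
    refine ⟨PrimeSpectrum.comap p.sq.u z, ?_⟩
    rw [← hz]
    refine Eq.trans ?_ (congrArg (fun g : X₂ ⟶ X => g (p.hV.fromSpec z)) (PushLib.Nice.b_iso hY hX))
    exact congrArg (PushLib.Nice.iso hY hX).hom (congrArg (fun g : _ ⟶ PushLib.Nice.P θ₁ θ₂ => g z) (PushLib.Nice.fromSpec_b hY p)).symm

end Groth.Agent.S16031
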