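import Groth.Statements.S16032
import Groth.Agent.DedHullLib.AffineKer

set_option linter.style.haveILetI false
set_option backward.isDefEq.respectTransparency false
set_option maxHeartbeats 1000000

set_option autoImplicit false
universe u
open CategoryTheory CategoryTheory.Limits AlgebraicGeometry MonoidalCategory MonObj
open GrpSch

namespace Groth.Agent.S16032

section
attribute [-instance] CategoryTheory.Hom.commGroup

theorem affine_bc_comp {S S' S'' : Scheme.{u}} {G G₀ : Over S} (u : G ⟶ G₀) (i : S' ⟶ S) (j : S'' ⟶ S')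
    (h : IsAffineHom ((Over.pullback (j ≫ i)).map u).left) :
    IsAffineHom ((Over.pullback j).map ((Over.pullback i).map u)).left := by
  let uK := ((Over.pullback j).map ((Over.pullback i).map u)).left
  let eG := pullbackLeftPullbackSndIso G.hom i j
  let e₀ := pullbackLeftPullbackSndIso G₀.hom i j
  have e : uK = eG.hom ≫ ((Over.pullback (j ≫ i)).map u).left ≫ e₀.inv := by
    rw [← Category.assoc, Iso.eq_comp_inv]
    refine pullback.hom_ext ?_ ?_
    · simp [uK, eG, e₀]
    · simp [uK, eG, e₀]
  show IsAffineHom uK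
  rw [e]
  haveI := h
  exact MorphismProperty.comp_mem _ _ _ (inferInstanceAs (IsAffineHom eG.hom))
    (MorphismProperty.comp_mem _ _ _ h (inferInstanceAs (IsAffineHom e₀.inv)))

theorem affine_global (S : Scheme.{u}) [IsIntegral S]
    (hD : ∀ U : S.affineOpens, Nonempty (U : S.Opens) → IsDedekindDomain Γ(S, U))
    (G G₀ : Over S) [GrpObj G] [GrpObj G₀]
    [LocallyOfFiniteType G.hom] [QuasiCompact G.hom] [LocallyOfFiniteType G₀.hom]
    [Flat G.hom] (u : G ⟶ G₀) [IsMonHom u] [IsSeparated u.left] [QuasiCompact u.left]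
    (hker : IsAffine ((pullback.fst u.left η[G₀].left ≫ G.hom).fiber (genericPoint ↥S))) :
    IsAffineHom u.left := by
  let x := genericPoint ↥S
  let jx := S.fromSpecResidueField x
  let K := S.residueField x
  let u_x := (Over.pullback jx).map u
  haveI : IsMonHom u_x := inferInstanceAs (IsMonHom ((Over.pullback jx).map u))
  haveI : LocallyOfFiniteType (Red.bc jx G).hom := MorphismProperty.pullback_snd _ _ ‹LocallyOfFiniteType G.hom›
  haveI : LocallyOfFiniteType (Red.bc jx G₀).hom := MorphismProperty.pullback_snd _ _ ‹LocallyOfFiniteType G₀.hom›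
  haveI : QuasiCompact (Red.bc jx G).hom := MorphismProperty.pullback_snd _ _ ‹QuasiCompact G.hom›
  have hx : IsAffineHom u_x.left :=
    DedHullLib.affine_of_kernel_field (k := K) (G := Red.bc jx G) (G₀ := Red.bc jx G₀) u_x
      (DedHullLib.isAffine_bc_kernel u jx hker)
  have hloc : ∀ (U : S.affineOpens), x ∈ U.1 → IsAffineHom ((Over.pullback U.2.fromSpec).map u).left := by
    intro U hxU
    haveI : Nonempty (U.1 : S.Opens) := ⟨⟨x, hxU⟩⟩
    haveI := hD U ‹_›
    let i := U.2.fromSpec
    let j : Spec (CommRingCat.of K) ⟶ Spec (CommRingCat.of Γ(S, U.1)) := IsOpenImmersion.lift i jx (by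
      rintro _ ⟨z, rfl⟩
      show jx z ∈ Set.range U.2.fromSpec
      rw [U.2.range_fromSpec, Scheme.fromSpecResidueField_apply]
      exact hxU)
    have hji : j ≫ i = jx := IsOpenImmersion.lift_fac _ _ _
    haveI : IsDominant j := by
      refine ⟨dense_iff_inter_open.2 fun V hV hVne => ?_⟩
      have hx' : x ∈ i '' V := ((genericPoint_spec ↥S).mem_open_set_iff (i.isOpenEmbedding.isOpenMap V hV)).2
        (by simpa using hVne.image i)
      obtain ⟨v, hv, hvx⟩ := hx'
      refine ⟨v, hv, IsLocalRing.closedPoint K, i.isOpenEmbedding.injective ?_⟩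
      rw [hvx]
      exact congr($(hji) (IsLocalRing.closedPoint K)).trans (Scheme.fromSpecResidueField_apply _ _)
    haveI : IsSchemeTheoreticallyDominant j := IsSchemeTheoreticallyDominant.of_isDominant j
    haveI : QuasiCompact j := quasiCompact_of_compactSpace _
    obtain ⟨φ, hφ⟩ : ∃ φ, Spec.map φ = j := Spec.map_surjective j
    haveI : Flat j := by
      rw [← hφ, Flat.SpecMap_iff]
      algebraize [φ.hom]
      show Module.Flat Γ(S, U.1) K
      have hinj : Function.Injective φ := by
        have h1 : Function.Injective (Spec.map φ).appTop := by rw [hφ]; exact j.app_injective ⊤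
        intro a b hab
        apply (Scheme.ΓSpecIso Γ(S, U.1)).commRingCatIsoToRingEquiv.symm.injective
        apply h1
        show (Spec.map φ).appTop ((Scheme.ΓSpecIso Γ(S, U.1)).inv a) = (Spec.map φ).appTop ((Scheme.ΓSpecIso Γ(S, U.1)).inv b)
        refine Eq.trans (congr($(Scheme.ΓSpecIso_inv_naturality φ) a)).symm (Eq.trans ?_ (congr($(Scheme.ΓSpecIso_inv_naturality φ) b)))
        exact congrArg (Scheme.ΓSpecIso _).inv hab
      rw [IsDedekindDomain.flat_iff_torsion_eq_bot, Submodule.eq_bot_iff]
      rintro y ⟨⟨r, hr⟩, hy⟩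
      change φ r * y = 0 at hy
      exact (mul_eq_zero.1 hy).resolve_left fun h0 => nonZeroDivisors.ne_zero hr (hinj (h0.trans (map_zero φ.hom).symm))
    haveI : Flat (Red.bc i G).hom := MorphismProperty.pullback_snd _ _ ‹Flat G.hom›
    haveI : LocallyOfFiniteType (Red.bc i G).hom := MorphismProperty.pullback_snd _ _ ‹LocallyOfFiniteType G.hom›
    haveI : QuasiCompact (Red.bc i G).hom := MorphismProperty.pullback_snd _ _ ‹QuasiCompact G.hom›
    haveI : LocallyOfFiniteType (Red.bc i G₀).hom := MorphismProperty.pullback_snd _ _ ‹LocallyOfFiniteType G₀.hom›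
    haveI : IsMonHom ((Over.pullback i).map u) := inferInstance
    haveI : IsSeparated ((Over.pullback i).map u).left :=
      MorphismProperty.of_isPullback (DedHullLib.isPullback_bcMap i u).flip ‹IsSeparated u.left›
    haveI : QuasiCompact ((Over.pullback i).map u).left :=
      MorphismProperty.of_isPullback (DedHullLib.isPullback_bcMap i u).flip ‹QuasiCompact u.left›
    refine DedHullLib.isAffineHom_of_generic Γ(S, U.1) (K := K) j ((Over.pullback i).map u)
      (affine_bc_comp u i j ?_)
    rw [hji]
    exact hx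
  rw [IsZariskiLocalAtTarget.iff_of_iSup_eq_top (P := @IsAffineHom)
    (fun U : {U : S.affineOpens // x ∈ U.1} => G₀.hom ⁻¹ᵁ U.1.1) (top_le_iff.1 fun z _ => TopologicalSpace.Opens.mem_iSup.2 ?_)]
  · intro U
    haveI := hloc U.1 U.2
    let i := U.1.2.fromSpec
    let g := pullback.fst G₀.hom i
    have hr : g.opensRange = G₀.hom ⁻¹ᵁ U.1.1 := by
      refine TopologicalSpace.Opens.ext ?_
      show Set.range g = _
      rw [Scheme.Pullback.range_fst, U.1.2.range_fromSpec]
      rfl
    have h1 : IsAffineHom (pullback.snd u.left g) := by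
      have sB := DedHullLib.isPullback_bcMap i u
      rw [← sB.flip.isoPullback_inv_snd]
      exact MorphismProperty.comp_mem _ _ _ (inferInstanceAs (IsAffineHom sB.flip.isoPullback.inv)) ‹_›
    rw [← hr]
    exact (MorphismProperty.arrow_mk_iso_iff @IsAffineHom (morphismRestrictOpensRange u.left g)).2 h1
  · obtain ⟨U, hU, hzU, -⟩ := exists_isAffineOpen_mem_and_subset (X := S) (x := G₀.hom z) (U := ⊤) trivial
    exact ⟨⟨⟨U, hU⟩, ((genericPoint_spec ↥S).mem_open_set_iff U.isOpen).2 (by simpa using ⟨_, hzU⟩)⟩, hzU⟩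

end

/-- Let S be a Dedekind scheme, G and G₀ group schemes of finite type over S and u : G ⟶ G₀ a
homomorphism which is separated, with G flat over S and with the generic fibre of the kernel of u
affine. Then u is affine. -/
theorem result
    (S : Scheme.{u}) [IsIntegral S] (hD : ∀ U : S.affineOpens, Nonempty (U : S.Opens) → IsDedekindDomain Γ(S, U))
    (G G₀ : Over S) [GrpObj G] [GrpObj G₀]
    [LocallyOfFiniteType G.hom] [QuasiCompact G.hom] [LocallyOfFiniteType G₀.hom] [QuasiCompact G₀.hom]
    [Flat G.hom] (u : G ⟶ G₀) [IsMonHom u] [IsSeparated u.left]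
    (hker : IsAffine ((pullback.fst u.left η[G₀].left ≫ G.hom).fiber (genericPoint ↥S))) :
    IsAffineHom u.left := by
  haveI : QuasiCompact u.left := by
    haveI : QuasiCompact (u.left ≫ G₀.hom) := by rw [Over.w]; infer_instance
    haveI : IsLocallyNoetherian S := by
      refine ⟨fun U => ?_⟩
      by_cases hU : Nonempty (U : S.Opens)
      · haveI := hD U hU
        infer_instance
      · haveI : Subsingleton Γ(S, (U : S.Opens)) := by
          have he : (U : S.Opens) = ⊥ :=
            (eq_bot_iff).2 fun z hz => (hU ⟨⟨z, hz⟩⟩).elim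
          rw [he]
          infer_instance
        exact isNoetherian_of_finite _ _
    haveI : IsLocallyNoetherian G₀.left := LocallyOfFiniteType.isLocallyNoetherian G₀.hom
    exact QuasiCompact.of_comp u.left G₀.hom
  exact affine_global S hD G G₀ u hker

end Groth.Agent.S16032
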