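import Groth.Statements.S16043
import Groth.Agent.TorsClosureLib.Main

set_option autoImplicit false
set_option backward.isDefEq.respectTransparency false
set_option backward.isDefEq.respectTransparency.types false
set_option maxHeartbeats 1000000
set_option synthInstance.maxHeartbeats 400000
universe u
open CategoryTheory CategoryTheory.Limits AlgebraicGeometry MonoidalCategory MonObj
open GrpSch

namespace Groth.Agent.S16043

/-- Let k be a field of characteristic p > 0, G a commutative group scheme of finite type over k, and H
the smallest closed subscheme of G containing the n-torsion subschemes _nG for all n > 0 prime to p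
(its ideal sheaf is the intersection of theirs). Then for some N the endomorphism (p^N)_G of G
factors through H ⟶ G. -/
theorem result
    (k : Type u) [Field k] (p : ℕ) [CharP k p] (hp : p.Prime)
    (G : Over (Spec (CommRingCat.of k))) [GrpObj G] [IsCommMonObj G]
    [LocallyOfFiniteType G.hom] [QuasiCompact G.hom] :
    ∃ (N : ℕ) (f : G.left ⟶ (⨅ (n : ℕ) (_ : 0 < n ∧ Nat.Coprime n p),
        (η[G].left.ker).comap (𝟙 G ^ n : G ⟶ G).left).subscheme),
      f ≫ (⨅ (n : ℕ) (_ : 0 < n ∧ Nat.Coprime n p), (η[G].left.ker).comap (𝟙 G ^ n : G ⟶ G).left).subschemeι =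
        (𝟙 G ^ (p ^ N) : G ⟶ G).left := by
  exact TorsClosure.exists_pow_factor p hp G

end Groth.Agent.S16043
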