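import Groth.Statements.S16044
import Groth.Agent.SubSpecLib.HullFibre
-- import your own Groth.Agent.* helpers here

set_option autoImplicit false
set_option backward.isDefEq.respectTransparency false
set_option maxHeartbeats 1000000
universe u
open CategoryTheory CategoryTheory.Limits AlgebraicGeometry
open GrpSch

namespace Groth.Agent.S16044

theorem transfer {S X W T : Scheme.{u}} (f : X ⟶ S) (g : W ⟶ S) (t : X ⟶ W) (hg : t ≫ g = f) {j j' : T ⟶ S}
    (e : j' = j)
    (h : Function.Injective (pullback.map f j' g j' t (𝟙 _) (𝟙 _) ((Category.comp_id f).trans hg.symm)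
      ((Category.comp_id _).trans (Category.id_comp _).symm)).appTop) :
    Function.Injective (pullback.map f j g j t (𝟙 _) (𝟙 _) ((Category.comp_id f).trans hg.symm)
      ((Category.comp_id _).trans (Category.id_comp _).symm)).appTop := by
  subst e
  exact h

/-- Let S be the spectrum of a discrete valuation ring and X a quasi-compact quasi-separated flat
S-scheme, with canonical morphism c : X ⟶ Spec Γ(X, O_X) over S. Then on each fibre over a point of
S the base change of c is schematically dominant (its kernel ideal sheaf vanishes). -/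
theorem result
    (A : Type u) [CommRing A] [IsDomain A] [IsDiscreteValuationRing A]
    (X : Scheme.{u}) (f : X ⟶ Spec (CommRingCat.of A)) [Flat f] [QuasiCompact f] [QuasiSeparated f]
    (g : Spec Γ(X, ⊤) ⟶ Spec (CommRingCat.of A)) (hg : X.toSpecΓ ≫ g = f) (s : ↥(Spec (CommRingCat.of A))) :
    (pullback.map f ((Spec (CommRingCat.of A)).fromSpecResidueField s) g ((Spec (CommRingCat.of A)).fromSpecResidueField s)
        X.toSpecΓ (𝟙 _) (𝟙 _) ((Category.comp_id f).trans hg.symm)
        ((Category.comp_id _).trans (Category.id_comp _).symm)).ker = ⊥ := by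
  haveI : CompactSpace X := QuasiCompact.compactSpace_of_compactSpace f
  haveI : IsIso X.toSpecΓ.appTop := by rw [Scheme.toSpecΓ_appTop]; infer_instance
  let j := (Spec (CommRingCat.of A)).fromSpecResidueField s
  let ψ := Spec.preimage j
  have hψ : Spec.map ψ = j := Spec.map_preimage j
  refine SubSpecLib.Hull.ker_eq_bot_of_injective _ ?_
  by_cases hs : s.asIdeal = ⊥
  · -- the generic fibre
    have hinj : Function.Injective ψ.hom := by
      have hr : j (IsLocalRing.closedPoint _) = s := (Spec (CommRingCat.of A)).fromSpecResidueField_apply s _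
      rw [← hψ] at hr
      have h2 : RingHom.ker ψ.hom = s.asIdeal := by
        refine Eq.trans ?_ (congrArg (fun p : PrimeSpectrum A => p.asIdeal) hr)
        show _ = Ideal.comap ψ.hom (IsLocalRing.maximalIdeal _)
        rw [IsLocalRing.maximalIdeal_eq_bot, ← RingHom.ker_eq_comap_bot]
      rw [RingHom.injective_iff_ker_eq_bot, h2, hs]
    haveI : Flat j := by
      rw [← hψ, HasRingHomProperty.Spec_iff (P := @Flat)]
      algebraize [ψ.hom]
      change Module.Flat A _
      rw [Module.Flat.flat_iff_torsion_eq_bot_of_isBezout, Submodule.eq_bot_iff]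
      rintro x ⟨⟨r, hr⟩, hx⟩
      change ψ.hom r * x = 0 at hx
      exact (mul_eq_zero.1 hx).resolve_left ((map_ne_zero_iff _ hinj).2 (nonZeroDivisors.ne_zero hr))
    let X₀ : Over (Spec (CommRingCat.of A)) := Over.mk f
    let Y₀ : Over (Spec (CommRingCat.of A)) := Over.mk j
    haveI : Flat X₀.hom := ‹Flat f›
    haveI : QuasiCompact X₀.hom := ‹QuasiCompact f›
    haveI : QuasiSeparated X₀.hom := ‹QuasiSeparated f›
    haveI : Flat Y₀.hom := ‹Flat j›
    haveI : IsAffine Y₀.left := inferInstanceAs (IsAffine (Spec _))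
    have hg' : g = (SubSpecLib.Hull.hull X₀).hom := by
      refine ext_of_isAffine ?_
      rw [← cancel_mono X.toSpecΓ.appTop, ← Scheme.Hom.comp_appTop, ← Scheme.Hom.comp_appTop, hg]
      exact congrArg (fun m => Scheme.Hom.appTop m) (Over.w (SubSpecLib.Hull.toHull X₀)).symm
    subst hg'
    haveI h := SubSpecLib.Hull.isΓIso_tensor (SubSpecLib.Hull.toHull X₀) (𝟙 Y₀)
    haveI := h.iso
    exact (ConcreteCategory.bijective_of_isIso (MonoidalCategory.tensorHom (SubSpecLib.Hull.toHull X₀) (𝟙 Y₀)).left.appTop).1
  · -- the special fibre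
    have hm : s.asIdeal = IsLocalRing.maximalIdeal A :=
      IsLocalRing.eq_maximalIdeal (Ideal.IsPrime.isMaximal s.isPrime hs)
    haveI : IsClosedImmersion j := isClosed_singleton_iff_isClosedImmersion.1
      ((PrimeSpectrum.isClosed_singleton_iff_isMaximal s).2 (hm ▸ inferInstance))
    have hsur : Function.Surjective ψ.hom := by
      haveI : IsClosedImmersion (Spec.map ψ) := by rw [hψ]; infer_instance
      intro x
      obtain ⟨y, hy⟩ := (Spec.map ψ).app_surjective ⊤ (isAffineOpen_top _) ((Scheme.ΓSpecIso _).inv x)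
      refine ⟨(Scheme.ΓSpecIso (CommRingCat.of A)).hom y,
        (ConcreteCategory.bijective_of_isIso (Scheme.ΓSpecIso _).inv).1 ?_⟩
      rw [← hy]
      show (ψ ≫ (Scheme.ΓSpecIso _).inv) ((Scheme.ΓSpecIso (CommRingCat.of A)).hom y) = _
      rw [Scheme.ΓSpecIso_inv_naturality, CommRingCat.comp_apply, Iso.hom_inv_id_apply]
      rfl
    have key := SubSpecLib.Hull.injective_special f g hg ψ.hom hsur
    exact transfer f g X.toSpecΓ hg hψ key

end Groth.Agent.S16044
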