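import Groth.Statements.S16046
import Mathlib

set_option autoImplicit false
universe u
open TensorProduct
open ValRing

namespace Groth.Agent.S16046

/-- Surjectivity assertion: let A ⊆ A' be valuation rings with fraction fields K ⊆ K', A' dominating A
and A dense in A' for the valuation topology, and L a finite extension of K; put L' = K' ⊗_K L. Then
every element of L' modulo its nilradical which is integral over A' is a finite sum Σ a'ᵢ·lᵢ with
a'ᵢ ∈ A' and lᵢ ∈ L integral over A. (The published statement also identifies the kernel of the map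
from the tensor product with the nilradical; that part is not stated here.) -/
theorem result
    (A K L A' K' : Type u) [CommRing A] [IsDomain A] [ValuationRing A] [Field K] [Algebra A K] [IsFractionRing A K]
    [Field L] [Algebra K L] [FiniteDimensional K L] [Algebra A L] [IsScalarTower A K L]
    [CommRing A'] [IsDomain A'] [ValuationRing A'] [Field K'] [Algebra A' K'] [IsFractionRing A' K']
    [Algebra A A'] [IsLocalHom (algebraMap A A')] (hinj : Function.Injective (algebraMap A A'))
    [Algebra K K'] [Algebra A K'] [IsScalarTower A A' K'] [IsScalarTower A K K']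
    (hdense : ∀ a' b' : A', b' ≠ 0 → ∃ a : A, b' ∣ a' - algebraMap A A' a)
    (x : (K' ⊗[K] L) ⧸ nilradical (K' ⊗[K] L))
    (hx : ((Ideal.Quotient.mk (nilradical (K' ⊗[K] L))).comp
            ((Algebra.TensorProduct.includeLeft : K' →ₐ[K] K' ⊗[K] L).toRingHom.comp (algebraMap A' K'))).IsIntegralElem x) :
    ∃ (n : ℕ) (a : Fin n → A') (l : Fin n → L), (∀ i, IsIntegral A (l i)) ∧
      x = Ideal.Quotient.mk (nilradical (K' ⊗[K] L)) (∑ i, algebraMap A' K' (a i) ⊗ₜ[K] l i) := by
  classical
  have hK'inj : Function.Injective (algebraMap A' K') := IsFractionRing.injective A' K'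
  have hAK'inj : Function.Injective (algebraMap A K') := by
    rw [IsScalarTower.algebraMap_eq A A' K', RingHom.coe_comp]
    exact hK'inj.comp hinj
  -- dominance
  have hdom : ∀ k : K, algebraMap K K' k ∈ Set.range (algebraMap A' K') → k ∈ Set.range (algebraMap A K) := by
    rintro k ⟨a', ha'⟩
    rcases ValuationRing.isInteger_or_isInteger A k with h | h
    · exact h
    · obtain ⟨b, hb⟩ := h
      by_cases hk : k = 0
      · exact ⟨0, by rw [map_zero, hk]⟩
      have hu : IsUnit (algebraMap A A' b) := IsUnit.of_mul_eq_one a' (hK'inj (by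
        rw [map_mul, ha', ← IsScalarTower.algebraMap_apply, IsScalarTower.algebraMap_apply A K K', hb,
          map_inv₀, inv_mul_cancel₀ ((map_ne_zero _).2 hk), map_one]))
      obtain ⟨u, rfl⟩ := IsLocalHom.map_nonunit b hu
      refine ⟨↑u⁻¹, inv_injective ?_⟩
      rw [← hb, ← map_units_inv, inv_inv]
  -- density
  have happrox : ∀ z : K', ∃ (k : K) (a' : A'), z = algebraMap K K' k + algebraMap A' K' a' := by
    intro z
    obtain ⟨c, d, hd, rfl⟩ := IsFractionRing.div_surjective A' z
    have hd0 : d ≠ 0 := nonZeroDivisors.ne_zero hd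
    by_cases hu : IsUnit d
    · obtain ⟨u, rfl⟩ := hu
      refine ⟨0, c * ↑u⁻¹, ?_⟩
      rw [map_zero, zero_add, map_mul, map_units_inv, div_eq_mul_inv]
    obtain ⟨b, t, hb⟩ := hdense d (d * d) (mul_ne_zero hd0 hd0)
    obtain ⟨a, hu'⟩ : ∃ v : A'ˣ, algebraMap A A' b = d * v := by
      have h1 : IsUnit (1 - d * t) := by
        by_contra h
        exact (IsLocalRing.maximalIdeal.isMaximal A').ne_top ((Ideal.eq_top_iff_one _).2 (by
          have h2 : d * t ∈ IsLocalRing.maximalIdeal A' := Ideal.mul_mem_right _ _ hu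
          simpa using add_mem (show (1 - d * t) ∈ IsLocalRing.maximalIdeal A' from h) h2))
      exact ⟨h1.unit, by rw [IsUnit.unit_spec]; linear_combination -hb⟩
    obtain ⟨e, s, hes⟩ := hdense (c * (a : A')) (algebraMap A A' b) (by
      rw [hu']; exact mul_ne_zero hd0 a.ne_zero)
    refine ⟨algebraMap A K e / algebraMap A K b, s, ?_⟩
    rw [map_div₀, ← IsScalarTower.algebraMap_apply, ← IsScalarTower.algebraMap_apply,
      IsScalarTower.algebraMap_apply A A' K', IsScalarTower.algebraMap_apply A A' K']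
    have h3 := congrArg (algebraMap A' K') hes
    rw [map_sub, map_mul, map_mul, hu', map_mul] at h3
    rw [hu', map_mul]
    have hd' : algebraMap A' K' d ≠ 0 := (map_ne_zero_iff _ hK'inj).2 hd0
    have ha' : algebraMap A' K' (a : A') ≠ 0 := (map_ne_zero_iff _ hK'inj).2 a.ne_zero
    field_simp
    linear_combination h3
  let Φ : L → K' ⊗[K] L := fun l => (1 : K') ⊗ₜ[K] l
  have hdec : ∀ t : K' ⊗[K] L, ∃ (l₀ : L) (n : ℕ) (a : Fin n → A') (l : Fin n → L),
      (∀ i, IsIntegral A (l i)) ∧ t = Φ l₀ + ∑ i, algebraMap A' K' (a i) ⊗ₜ[K] l i := by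
    intro t
    induction t using TensorProduct.induction_on with
    | zero => exact ⟨0, 0, Fin.elim0, Fin.elim0, fun i => i.elim0, by simp [Φ]⟩
    | tmul z w =>
      have : IsAlgebraic A w :=
        (IsFractionRing.isAlgebraic_iff A K L).2 (Algebra.IsAlgebraic.isAlgebraic w)
      obtain ⟨s, hs0, hs⟩ := this.exists_integral_multiple
      have hsK : algebraMap A K s ≠ 0 := (map_ne_zero_iff _ (IsFractionRing.injective A K)).2 hs0
      obtain ⟨k, a', hka⟩ := happrox (z * (algebraMap K K' (algebraMap A K s))⁻¹)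
      refine ⟨k • (s • w), 1, fun _ => a', fun _ => s • w, fun _ => hs, ?_⟩
      simp only [Φ, Finset.univ_unique, Finset.sum_singleton]
      rw [← TensorProduct.smul_tmul, ← TensorProduct.add_tmul, Algebra.smul_def, mul_one, ← hka,
        show s • w = algebraMap A K s • w by rw [IsScalarTower.algebraMap_smul],
        ← TensorProduct.smul_tmul, Algebra.smul_def, mul_left_comm,
        mul_inv_cancel₀ ((map_ne_zero _).2 hsK), mul_one]
    | add t₁ t₂ h₁ h₂ =>
      obtain ⟨l₁, n₁, a₁, w₁, i₁, e₁⟩ := h₁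
      obtain ⟨l₂, n₂, a₂, w₂, i₂, e₂⟩ := h₂
      refine ⟨l₁ + l₂, n₁ + n₂, Fin.append a₁ a₂, Fin.append w₁ w₂, fun i => ?_, ?_⟩
      · induction i using Fin.addCases with
        | left i => rw [Fin.append_left]; exact i₁ i
        | right i => rw [Fin.append_right]; exact i₂ i
      · rw [Fin.sum_univ_add]
        simp only [Fin.append_left, Fin.append_right, e₁, e₂, Φ, TensorProduct.tmul_add]
        abel
  obtain ⟨t, rfl⟩ := Ideal.Quotient.mk_surjective x
  obtain ⟨l₀, n, a, l, hl, rfl⟩ := hdec t
  set N := nilradical (K' ⊗[K] L)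
  let g : A' →+* (K' ⊗[K] L) ⧸ N := (Ideal.Quotient.mk N).comp
    ((Algebra.TensorProduct.includeLeft : K' →ₐ[K] K' ⊗[K] L).toRingHom.comp (algebraMap A' K'))
  have hli : ∀ i, g.IsIntegralElem (Ideal.Quotient.mk N (algebraMap A' K' (a i) ⊗ₜ[K] l i)) := by
    intro i
    have h1 : g.IsIntegralElem (g (a i)) := g.isIntegralElem_map
    have h2 : g.IsIntegralElem (Ideal.Quotient.mk N (Φ (l i))) := by
      obtain ⟨p, hp, hpe⟩ := hl i
      refine ⟨p.map (algebraMap A A'), hp.map _, ?_⟩
      let ψ : L →+* (K' ⊗[K] L) ⧸ N :=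
        (Ideal.Quotient.mk N).comp (Algebra.TensorProduct.includeRight : L →ₐ[K] K' ⊗[K] L).toRingHom
      have := congrArg ψ hpe
      rw [map_zero, Polynomial.hom_eval₂] at this
      rw [Polynomial.eval₂_map]
      refine Eq.trans (congrArg (fun χ => Polynomial.eval₂ χ (ψ (l i)) p) ?_) this
      refine RingHom.ext fun r => ?_
      show Ideal.Quotient.mk N (algebraMap A' K' (algebraMap A A' r) ⊗ₜ[K] 1) =
        Ideal.Quotient.mk N (1 ⊗ₜ[K] algebraMap A L r)
      rw [← IsScalarTower.algebraMap_apply, IsScalarTower.algebraMap_apply A K K',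
        IsScalarTower.algebraMap_apply A K L, Algebra.algebraMap_eq_smul_one (A := K'),
        Algebra.algebraMap_eq_smul_one (A := L), TensorProduct.smul_tmul]
    have h3 := h1.mul g h2
    have heq : g (a i) * Ideal.Quotient.mk N (Φ (l i)) =
        Ideal.Quotient.mk N (algebraMap A' K' (a i) ⊗ₜ[K] l i) := by
      show Ideal.Quotient.mk N (algebraMap A' K' (a i) ⊗ₜ[K] 1) * _ = _
      rw [← map_mul, Algebra.TensorProduct.tmul_mul_tmul, mul_one, one_mul]
    exact heq ▸ h3
  have hl₀ : g.IsIntegralElem (Ideal.Quotient.mk N (Φ l₀)) := by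
    letI := g.toAlgebra
    have hsum : IsIntegral A' (∑ i, Ideal.Quotient.mk N (algebraMap A' K' (a i) ⊗ₜ[K] l i)) :=
      IsIntegral.sum _ fun i _ => hli i
    have h := (show IsIntegral A' _ from hx).sub hsum
    rwa [map_add, map_sum, add_sub_cancel_right] at h
  let Ω := AlgebraicClosure K'
  set m := minpoly K l₀
  have hm : m.Monic := minpoly.monic (Algebra.IsIntegral.isIntegral l₀)
  have hroots : ∀ r ∈ m.rootSet Ω, IsIntegral A' r := by
    intro r hr
    rw [← Algebra.IsAlgebraic.range_eval_eq_rootSet_minpoly Ω l₀] at hr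
    obtain ⟨σ, rfl⟩ := hr
    let χ : K' ⊗[K] L →ₐ[K] Ω :=
      Algebra.TensorProduct.lift (IsScalarTower.toAlgHom K K' Ω) σ fun _ _ => Commute.all _ _
    let χ' : (K' ⊗[K] L) ⧸ N →+* Ω := Ideal.Quotient.lift N χ.toRingHom fun z hz => by
      obtain ⟨k, hk⟩ := mem_nilradical.1 hz
      exact eq_zero_of_pow_eq_zero (by show χ z ^ k = 0; rw [← map_pow, hk, map_zero])
    obtain ⟨p, hp, hpe⟩ := hl₀
    refine ⟨p, hp, ?_⟩
    have h := congrArg χ' hpe
    rw [map_zero, Polynomial.hom_eval₂] at h
    have e1 : χ'.comp g = algebraMap A' Ω := RingHom.ext fun r => by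
      rw [IsScalarTower.algebraMap_apply A' K' Ω]
      show χ (algebraMap A' K' r ⊗ₜ[K] 1) = algebraMap K' Ω (algebraMap A' K' r)
      simp [χ]
    have e2 : χ' (Ideal.Quotient.mk N (Φ l₀)) = σ l₀ := by
      show χ (1 ⊗ₜ[K] l₀) = σ l₀
      simp [χ]
    rw [e1, e2] at h
    exact h
  have hcoeff : ∀ i, m.coeff i ∈ Set.range (algebraMap A K) := by
    intro i
    refine hdom _ ?_
    have hsplit : (m.map (algebraMap K Ω)).Splits := IsAlgClosed.splits _
    have hint : IsIntegral A' ((m.map (algebraMap K Ω)).coeff i) := by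
      rw [hsplit.eq_prod_roots_of_monic (hm.map _)]
      let SΩ := integralClosure A' Ω
      have : ((m.map (algebraMap K Ω)).roots.map fun r => Polynomial.X - Polynomial.C r).prod ∈
          Polynomial.lifts SΩ.val.toRingHom := by
        refine multiset_prod_mem _ fun q hq => ?_
        obtain ⟨r, hr, rfl⟩ := Multiset.mem_map.1 hq
        have hr' : r ∈ m.rootSet Ω := by
          rw [Polynomial.rootSet, Finset.mem_coe, Multiset.mem_toFinset]; exact hr
        rw [sub_eq_add_neg, ← map_neg Polynomial.C]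
        exact add_mem (Polynomial.X_mem_lifts _)
          (Polynomial.C'_mem_lifts ⟨⟨-r, (hroots r hr').neg⟩, rfl⟩)
      obtain ⟨q, hq⟩ := (Polynomial.lifts_iff_coeff_lifts _).1 this i
      rw [← hq]
      exact q.2
    rw [Polynomial.coeff_map, IsScalarTower.algebraMap_apply K K' Ω] at hint
    exact IsIntegrallyClosed.isIntegral_iff.1
      ((isIntegral_algHom_iff (IsScalarTower.toAlgHom A' K' Ω) (algebraMap K' Ω).injective).1 hint)
  have hint₀ : IsIntegral A l₀ := by
    obtain ⟨q, hq, -, hqm⟩ := Polynomial.lifts_and_natDegree_eq_and_monic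
      ((Polynomial.lifts_iff_coeff_lifts _).2 hcoeff) hm
    refine ⟨q, hqm, ?_⟩
    rw [IsScalarTower.algebraMap_eq A K L, ← Polynomial.eval₂_map, hq]
    exact minpoly.aeval K l₀
  refine ⟨n + 1, Fin.cons 1 a, Fin.cons l₀ l, fun i => ?_, ?_⟩
  · induction i using Fin.cases with
    | zero => exact hint₀
    | succ i => exact hl i
  · rw [Fin.sum_univ_succ]
    simp [Φ, N]

end Groth.Agent.S16046
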