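import Groth.Statements.S16050
import Groth.Agent.CKaehlerLib.FracDiff
import Mathlib.Algebra.Homology.DerivedCategory.Ext.Linear
import Mathlib.FieldTheory.IsAlgClosed.Basic

set_option autoImplicit false
set_option linter.style.haveILetI false
set_option maxSynthPendingDepth 3
universe u
open CategoryTheory
open LCI

namespace Groth.Agent.S16050

abbrev PS (k : Type u) := MvPowerSeries (Fin 3) k

variable {k : Type u} [Field k]

theorem X_mem_max (i : Fin 3) : (MvPowerSeries.X i : PS k) ∈ IsLocalRing.maximalIdeal (PS k) := by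
  rw [IsLocalRing.mem_maximalIdeal, mem_nonunits_iff, MvPowerSeries.isUnit_iff_constantCoeff,
    MvPowerSeries.constantCoeff_X]
  exact not_isUnit_zero

theorem X_pow_ne_zero' (i : Fin 3) (N : ℕ) : (MvPowerSeries.X i : PS k) ^ N ≠ 0 := by
  classical
  intro h
  have := congrArg (MvPowerSeries.coeff (Finsupp.single i N)) h
  rw [MvPowerSeries.X_pow_eq, MvPowerSeries.coeff_monomial_same, map_zero] at this
  exact one_ne_zero this

theorem dvd_of_dvd_mul_X_pow {i j : Fin 3} (hij : i ≠ j) {N : ℕ} {a : PS k}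
    (h : MvPowerSeries.X i ^ N ∣ a * MvPowerSeries.X j ^ N) : MvPowerSeries.X i ^ N ∣ a := by
  classical
  rw [MvPowerSeries.X_pow_dvd_iff] at h ⊢
  intro m hm
  have := h (m + Finsupp.single j N) (by simpa [Finsupp.single_eq_of_ne hij] using hm)
  rwa [MvPowerSeries.X_pow_eq, MvPowerSeries.coeff_add_mul_monomial, mul_one] at this

/-- An element killed modulo `f` by an ideal containing a power of the maximal ideal lies in `(f)`. -/
theorem mem_span_of_mul_mem {f g : PS k} (hf0 : f ≠ 0) {N : ℕ}
    (h : ∀ a ∈ IsLocalRing.maximalIdeal (PS k) ^ N, g * a ∈ Ideal.span {f}) : g ∈ Ideal.span {f} := by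
  obtain ⟨a, ha⟩ := Ideal.mem_span_singleton.1 (h _ (Ideal.pow_mem_pow (X_mem_max 0) N))
  obtain ⟨b, hb⟩ := Ideal.mem_span_singleton.1 (h _ (Ideal.pow_mem_pow (X_mem_max 1) N))
  have hab : a * MvPowerSeries.X 1 ^ N = b * MvPowerSeries.X 0 ^ N :=
    mul_left_cancel₀ hf0 (by linear_combination (MvPowerSeries.X 0 : PS k) ^ N * hb - (MvPowerSeries.X 1 : PS k) ^ N * ha)
  obtain ⟨c, rfl⟩ := dvd_of_dvd_mul_X_pow (show (0 : Fin 3) ≠ 1 by decide) ⟨b, hab.trans (mul_comm _ _)⟩
  refine Ideal.mem_span_singleton.2 ⟨c, ?_⟩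
  exact mul_right_cancel₀ (X_pow_ne_zero' 0 N) (by rw [ha]; ring)

section
variable [IsAlgClosed k] (p : ℕ) [Fact p.Prime] [CharP k p]

include p in
theorem span_dX :
    Submodule.span (PS k) (Set.range fun i : Fin 3 => KaehlerDifferential.D k (PS k) (MvPowerSeries.X i)) = ⊤ := by
  haveI : ExpChar k p := ExpChar.prime Fact.out
  haveI : PerfectRing k p := inferInstance
  have hk : Module.Finite (frobenius k p).fieldRange k := by
    refine ⟨⟨{1}, eq_top_iff.2 fun x _ => ?_⟩⟩
    obtain ⟨y, hy⟩ := (PerfectRing.bijective_frobenius (R := k) (p := p)).2 x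
    rw [Finset.coe_singleton, Submodule.mem_span_singleton]
    exact ⟨⟨x, y, hy⟩, mul_one x⟩
  haveI : Module.Finite (PS k) (Ω[PS k⁄k]) :=
    CKaehlerLib.finite_kaehler_of_frobenius p hk (AlgHom.id k (PS k)) (RingHom.Finite.id _)
  let W := Submodule.span (PS k) (Set.range fun i : Fin 3 => KaehlerDifferential.D k (PS k) (MvPowerSeries.X i))
  let δ := W.mkQ.compDer (KaehlerDifferential.D k (PS k))
  rw [eq_top_iff, ← KaehlerDifferential.span_range_derivation, Submodule.span_le]
  rintro _ ⟨g, rfl⟩
  exact (Submodule.Quotient.mk_eq_zero W).1 (CKaehlerLib.derivation_algebraMap_eq_zero (A := PS k) δ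
    (fun i => (Submodule.Quotient.mk_eq_zero W).2 (Submodule.subset_span ⟨i, rfl⟩)) g)

include p in
/-- Derivations of the power series ring are combinations of the partial derivatives. -/
theorem der_eq_sum {M : Type u} [AddCommGroup M] [Module (PS k) M] [Module k M] [IsScalarTower k (PS k) M]
    (E : Derivation k (PS k) M) (g : PS k) :
    E g = ∑ i, MvPowerSeries.pderiv k i g • E (MvPowerSeries.X i) := by
  classical
  obtain ⟨c, hc⟩ := (Submodule.mem_span_range_iff_exists_fun (PS k)).1
    (show KaehlerDifferential.D k (PS k) g ∈ _ from (span_dX p).ge Submodule.mem_top)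
  have hcj : ∀ j, c j = MvPowerSeries.pderiv k j g := fun j => by
    have h := congrArg (MvPowerSeries.pderiv k j).liftKaehlerDifferential hc
    simp only [map_sum, map_smul, Derivation.liftKaehlerDifferential_comp_D, MvPowerSeries.pderiv_X] at h
    rw [Finset.sum_eq_single j (fun i _ hi => by simp [Pi.single_apply, hi, Ne.symm hi])
      (fun hn => absurd (Finset.mem_univ j) hn)] at h
    simpa using h
  have h := congrArg E.liftKaehlerDifferential hc
  simp only [map_sum, map_smul, Derivation.liftKaehlerDifferential_comp_D] at h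
  rw [← h]
  exact Finset.sum_congr rfl fun i _ => by rw [hcj]

include p in
theorem span_der_eq (f : PS k) :
    Ideal.span {g | ∃ D : Derivation k (PS k) (PS k), g = D f} =
      Ideal.span (Set.range fun i => MvPowerSeries.pderiv k i f) := by
  refine le_antisymm (Ideal.span_le.2 ?_) (Ideal.span_le.2 ?_)
  · rintro _ ⟨D, rfl⟩
    rw [der_eq_sum p D f]
    exact Ideal.sum_mem _ fun i _ => Ideal.mul_mem_right _ _ (Ideal.subset_span ⟨i, rfl⟩)
  · rintro _ ⟨i, rfl⟩
    exact Ideal.subset_span ⟨MvPowerSeries.pderiv k i, rfl⟩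

/-- The row of partial derivatives. -/
noncomputable def row (f : PS k) : Fin 3 → PS k ⧸ Ideal.span {f} :=
  fun i => Ideal.Quotient.mk _ (MvPowerSeries.pderiv k i f)

include p in
theorem rel (f : PS k) : ∃ e : Fin 3 → Ω[(PS k ⧸ Ideal.span {f})⁄k],
    Submodule.span (PS k ⧸ Ideal.span {f}) (Set.range e) = ⊤ ∧
    ∀ w : Fin 3 → PS k ⧸ Ideal.span {f}, ∑ j, w j • e j = 0 ↔ ∃ r : PS k ⧸ Ideal.span {f}, r • row f = w := by
  classical
  let B := PS k ⧸ Ideal.span {f}
  let φ : PS k →+* B := Ideal.Quotient.mk _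
  have hφ : Function.Surjective φ := Ideal.Quotient.mk_surjective
  let e : Fin 3 → Ω[B⁄k] := fun j => KaehlerDifferential.D k B (φ (MvPowerSeries.X j))
  have hD : ∀ g, KaehlerDifferential.D k B (φ g) = ∑ j, φ (MvPowerSeries.pderiv k j g) • e j := fun g => by
    refine (der_eq_sum p ((KaehlerDifferential.D k B).compAlgebraMap (PS k)) g).trans ?_
    exact Finset.sum_congr rfl fun j _ => (algebraMap_smul B _ _).symm
  have hf0 : φ f = 0 := Ideal.Quotient.eq_zero_iff_mem.2 (Ideal.subset_span rfl)
  refine ⟨e, eq_top_iff.2 ?_, fun w => ⟨fun hw => ?_, ?_⟩⟩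
  · rw [← KaehlerDifferential.span_range_derivation, Submodule.span_le]
    rintro _ ⟨y, rfl⟩
    obtain ⟨g, rfl⟩ := hφ y
    rw [hD]
    exact Submodule.sum_mem _ fun j _ => Submodule.smul_mem _ _ (Submodule.subset_span ⟨j, rfl⟩)
  · let W := (Fin 3 → B) ⧸ Submodule.span B {row f}
    let δ : PS k → W := fun g => Submodule.Quotient.mk fun j => φ (MvPowerSeries.pderiv k j g)
    have δadd : ∀ g h, δ (g + h) = δ g + δ h := fun g h => by
      simp only [δ, ← Submodule.Quotient.mk_add]
      congr 1
      funext j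
      simp
    have δmul : ∀ g h, δ (g * h) = φ g • δ h + φ h • δ g := fun g h => by
      simp only [δ, ← Submodule.Quotient.mk_smul, ← Submodule.Quotient.mk_add]
      exact congrArg _ (funext fun j => by simp [Derivation.leibniz])
    have δeq : ∀ g h, φ g = φ h → δ g = δ h := fun g h hgh => by
      obtain ⟨c, hc⟩ := Ideal.mem_span_singleton'.1 (Ideal.Quotient.eq.1 hgh)
      have h0 : δ (c * f) = 0 := by
        rw [δmul, hf0, zero_smul, add_zero]
        have : δ f = 0 := (Submodule.Quotient.mk_eq_zero _).2 (Submodule.mem_span_singleton_self _)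
        rw [this, smul_zero]
      rw [show g = c * f + h by rw [hc]; ring, δadd, h0, zero_add]
    let s : B → PS k := fun y => Function.surjInv hφ y
    have hs : ∀ y, φ (s y) = y := fun y => Function.surjInv_eq hφ y
    have hC : ∀ c : k, φ (MvPowerSeries.C c) = algebraMap k B c := fun c => rfl
    have δC : ∀ c : k, δ (MvPowerSeries.C c) = 0 := fun c =>
      (Submodule.Quotient.mk_eq_zero _).2 (by simp [MvPowerSeries.pderiv_C]; exact zero_mem _)
    let d : Derivation k B W :=
      { toFun := fun y => δ (s y)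
        map_add' := fun x y => by rw [← δadd]; exact δeq _ _ (by rw [map_add, hs, hs, hs])
        map_smul' := fun a x => by
          show δ (s (a • x)) = a • δ (s x)
          rw [δeq (s (a • x)) (MvPowerSeries.C a * s x) (by rw [map_mul, hs, hs, hC, Algebra.smul_def]), δmul,
            hC, algebraMap_smul, δC, smul_zero, add_zero]
        map_one_eq_zero' := by
          show δ (s 1) = 0
          rw [δeq (s 1) (MvPowerSeries.C 1) (by rw [hs, map_one, map_one]), δC]
        leibniz' := fun x y => by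
          show δ (s (x * y)) = x • δ (s y) + y • δ (s x)
          rw [δeq (s (x * y)) (s x * s y) (by rw [map_mul, hs, hs, hs]), δmul, hs, hs] }
    have he : ∀ j, d.liftKaehlerDifferential (e j) = Submodule.Quotient.mk (Pi.single j 1) := fun j => by
      rw [Derivation.liftKaehlerDifferential_comp_D]
      show δ (s (φ (MvPowerSeries.X j))) = _
      rw [δeq _ (MvPowerSeries.X j) (hs _)]
      simp only [δ]
      congr 1
      funext i
      by_cases hji : j = i
      · subst hji; simp [MvPowerSeries.pderiv_X]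
      · simp [MvPowerSeries.pderiv_X, hji, Ne.symm hji]
    have h0 := congrArg d.liftKaehlerDifferential hw
    rw [map_zero, map_sum] at h0
    simp only [map_smul, he] at h0
    have hsum : ∑ j, w j • (Submodule.Quotient.mk (Pi.single j 1) : W) = Submodule.Quotient.mk w := by
      simp only [← Submodule.mkQ_apply, ← map_smul, ← map_sum]
      exact congrArg _ (pi_eq_sum_univ' w).symm
    rw [hsum, Submodule.Quotient.mk_eq_zero, Submodule.mem_span_singleton] at h0
    exact h0
  · rintro ⟨r, rfl⟩
    simp only [Pi.smul_apply, smul_eq_mul, mul_smul]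
    rw [← Finset.smul_sum]
    have := hD f
    rw [hf0, map_zero] at this
    show r • (∑ j, row f j • e j) = 0
    rw [show ∑ j, row f j • e j = 0 from this.symm, smul_zero]



end

/-- `Ext` of a module with one relation on a free module. -/
theorem ext_of_one_relation {B Ω : Type u} [CommRing B] [AddCommGroup Ω] [Module B Ω] (v : Fin 3 → B)
    (P : (Fin 3 → B) →ₗ[B] Ω) (hP : Function.Surjective P)
    (hex : Function.Exact (LinearMap.toSpanSingleton B _ v) P)
    (hinj : Function.Injective (LinearMap.toSpanSingleton B _ v)) :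
    Subsingleton (Abelian.Ext.{u} (ModuleCat.of B Ω) (ModuleCat.of B B) 2) ∧
      Nonempty (Abelian.Ext.{u} (ModuleCat.of B Ω) (ModuleCat.of B B) 1 ≃ₗ[B] B ⧸ Ideal.span (Set.range v)) := by
  classical
  let i : B →ₗ[B] (Fin 3 → B) := LinearMap.toSpanSingleton B _ v
  let S : ShortComplex (ModuleCat.{u} B) := ShortComplex.mk (ModuleCat.ofHom i) (ModuleCat.ofHom P) (by
    ext x; exact hex.apply_apply_eq_zero _)
  have hS : S.ShortExact :=
    { exact := (ShortComplex.ShortExact.moduleCat_exact_iff_function_exact _).2 hex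
      mono_f := (ModuleCat.mono_iff_injective _).2 hinj
      epi_g := (ModuleCat.epi_iff_surjective _).2 hP }
  haveI : Projective S.X₂ := (IsProjective.iff_projective (Fin 3 → B)).1 inferInstance
  haveI : Projective S.X₁ := (IsProjective.iff_projective B).1 inferInstance
  refine ⟨⟨fun x y => ?_⟩, ?_⟩
  · have h0 : ∀ x : Abelian.Ext.{u} S.X₃ (ModuleCat.of B B) 2, x = 0 := fun x => by
      obtain ⟨x₁, hx₁⟩ := Abelian.Ext.contravariant_sequence_exact₃ hS _ x (Abelian.Ext.eq_zero_of_projective _)
        (n₀ := 1) (by norm_num)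
      rw [← hx₁, Abelian.Ext.eq_zero_of_projective x₁, Abelian.Ext.comp_zero]
    exact (h0 x).trans (h0 y).symm
  let L : B →ₗ[B] Abelian.Ext.{u} S.X₃ (ModuleCat.of B B) 1 :=
    { toFun := fun r => hS.extClass.comp
        (Abelian.Ext.mk₀ (ModuleCat.ofHom (LinearMap.toSpanSingleton B B r) : S.X₁ ⟶ ModuleCat.of B B)) (add_zero 1)
      map_add' := fun r r' => by
        rw [LinearMap.toSpanSingleton_add, ModuleCat.ofHom_add, Abelian.Ext.mk₀_add, Abelian.Ext.comp_add]
      map_smul' := fun b r => by
        rw [RingHom.id_apply, ← Abelian.Ext.comp_smul, ← Abelian.Ext.mk₀_smul, LinearMap.toSpanSingleton_smul]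
        rfl }
  have hL : Function.Surjective L := fun x => by
    obtain ⟨x₁, hx₁⟩ := Abelian.Ext.contravariant_sequence_exact₃ hS _ x (Abelian.Ext.eq_zero_of_projective _)
      (n₀ := 0) (add_zero 1)
    obtain ⟨g, rfl⟩ := Abelian.Ext.mk₀_bijective _ _ |>.2 x₁
    refine ⟨g.hom (1 : B), ?_⟩
    have hg : (ModuleCat.ofHom (LinearMap.toSpanSingleton B B (g.hom (1 : B))) : S.X₁ ⟶ ModuleCat.of B B) = g :=
      ModuleCat.hom_ext (LinearMap.ext_ring (by simp))
    show hS.extClass.comp (Abelian.Ext.mk₀ (ModuleCat.ofHom (LinearMap.toSpanSingleton B B (g.hom (1 : B))) : S.X₁ ⟶ ModuleCat.of B B)) (add_zero 1) = x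
    rw [hg]
    exact hx₁
  have hker : LinearMap.ker L = Ideal.span (Set.range v) := by
    ext r
    rw [LinearMap.mem_ker]
    constructor
    · intro h
      obtain ⟨x₂, hx₂⟩ := Abelian.Ext.contravariant_sequence_exact₁ hS _
        (Abelian.Ext.mk₀ (ModuleCat.ofHom (LinearMap.toSpanSingleton B B r) : S.X₁ ⟶ ModuleCat.of B B)) (add_zero 1) h
      obtain ⟨g, rfl⟩ := Abelian.Ext.mk₀_bijective _ _ |>.2 x₂
      rw [Abelian.Ext.mk₀_comp_mk₀] at hx₂
      have h1 := LinearMap.congr_fun (congrArg ModuleCat.Hom.hom ((Abelian.Ext.mk₀_bijective _ _).1 hx₂)) (1 : B)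
      have h2 : g.hom (v) = r := by
        simpa [S, i] using h1
      refine (Submodule.mem_span_range_iff_exists_fun B).2 ⟨fun j => g.hom (Pi.single j 1), ?_⟩
      rw [← h2]
      conv_rhs => rw [pi_eq_sum_univ' (v)]
      rw [map_sum]
      exact Finset.sum_congr rfl fun j _ => by rw [map_smul, smul_eq_mul, smul_eq_mul, mul_comm]
    · intro h
      obtain ⟨y, hy⟩ := (Submodule.mem_span_range_iff_exists_fun B).1 h
      let ψ : (Fin 3 → B) →ₗ[B] B := ∑ j, y j • LinearMap.proj j
      have hψ : (ModuleCat.ofHom (LinearMap.toSpanSingleton B B r) : S.X₁ ⟶ ModuleCat.of B B) = S.f ≫ ModuleCat.ofHom ψ :=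
        ModuleCat.hom_ext (LinearMap.ext_ring (by simp [ψ, i, S, LinearMap.sum_apply, ← hy]))
      show hS.extClass.comp
        (Abelian.Ext.mk₀ (ModuleCat.ofHom (LinearMap.toSpanSingleton B B r) : S.X₁ ⟶ ModuleCat.of B B)) (add_zero 1) = 0
      rw [hψ]
      rw [← Abelian.Ext.mk₀_comp_mk₀]
      exact hS.extClass_comp_assoc _
  exact ⟨((Submodule.quotEquivOfEq _ _ hker.symm).trans (L.quotKerEquivOfSurjective hL)).symm⟩

/-- Let k be an algebraically closed field of characteristic p > 0, P = k[[x, y, z]] the power series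
ring in three variables, f a non-unit of P defining an isolated singularity — some power of the
maximal ideal of P is contained in (f) + J, where J is the ideal generated by the values D(f) of all
k-derivations D of P (the Jacobian ideal (f_x, f_y, f_z)) — and R₀ = P/(f). Then Ext²_{R₀}(Ω_{R₀/k},
R₀) = 0 and Ext¹_{R₀}(Ω_{R₀/k}, R₀) is isomorphic as an R₀-module to R₀/J R₀, the Tjurina algebra
(existence of an R₀-linear isomorphism only; the source obtains it from the boundary map of the
dualized conormal sequence). The source states this for the normal form of a rational double point;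
the hypotheses used are those given here. Here Ω is the module of Kähler differentials of the
k-algebra R₀. (The lemma also identifies first-order deformations of R₀ with this Ext¹ group; that
identification is quoted there from another work and is not part of this row.) -/
theorem result (k : Type u) [Field k] [IsAlgClosed k]
    (p : ℕ) [Fact p.Prime] [CharP k p]
    (f : MvPowerSeries (Fin 3) k) (hf : f ∈ IsLocalRing.maximalIdeal (MvPowerSeries (Fin 3) k))
    (hiso : ∃ N : ℕ, IsLocalRing.maximalIdeal (MvPowerSeries (Fin 3) k) ^ N ≤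
      Ideal.span {f} ⊔ Ideal.span {g | ∃ D : Derivation k (MvPowerSeries (Fin 3) k) (MvPowerSeries (Fin 3) k), g = D f}) :
    Subsingleton (Abelian.Ext
        (ModuleCat.of (MvPowerSeries (Fin 3) k ⧸ Ideal.span {f})
          (KaehlerDifferential k (MvPowerSeries (Fin 3) k ⧸ Ideal.span {f})))
        (ModuleCat.of (MvPowerSeries (Fin 3) k ⧸ Ideal.span {f}) (MvPowerSeries (Fin 3) k ⧸ Ideal.span {f})) 2) ∧
      Nonempty (Abelian.Ext
        (ModuleCat.of (MvPowerSeries (Fin 3) k ⧸ Ideal.span {f})
          (KaehlerDifferential k (MvPowerSeries (Fin 3) k ⧸ Ideal.span {f})))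
        (ModuleCat.of (MvPowerSeries (Fin 3) k ⧸ Ideal.span {f}) (MvPowerSeries (Fin 3) k ⧸ Ideal.span {f})) 1 ≃ₗ[MvPowerSeries (Fin 3) k ⧸ Ideal.span {f}]
        ((MvPowerSeries (Fin 3) k ⧸ Ideal.span {f}) ⧸ Ideal.map (Ideal.Quotient.mk (Ideal.span {f}))
          (Ideal.span {g | ∃ D : Derivation k (MvPowerSeries (Fin 3) k) (MvPowerSeries (Fin 3) k), g = D f}))) := by
  classical
  obtain ⟨N, hN⟩ := hiso
  have hJ := span_der_eq p f
  rw [hJ] at hN
  let B := PS k ⧸ Ideal.span {f}
  have hf0 : f ≠ 0 := by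
    rintro rfl
    have h := hN (Ideal.pow_mem_pow (X_mem_max 0) N)
    rw [show (Set.range fun i : Fin 3 => MvPowerSeries.pderiv k i (0 : PS k)) = {0} by
      simp [Set.range_const]] at h
    simp only [Ideal.span_singleton_eq_bot.2 rfl, bot_sup_eq, Ideal.mem_bot] at h
    exact X_pow_ne_zero' 0 N h
  obtain ⟨e, hspan, hrel⟩ := rel p f
  let i : B →ₗ[B] (Fin 3 → B) := LinearMap.toSpanSingleton B _ (row f)
  have hinj : Function.Injective i := by
    rw [injective_iff_map_eq_zero]
    intro r hr
    obtain ⟨g, rfl⟩ := Ideal.Quotient.mk_surjective r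
    refine Ideal.Quotient.eq_zero_iff_mem.2 (mem_span_of_mul_mem hf0 (N := N) fun a ha => ?_)
    obtain ⟨u, hu, v, hv, rfl⟩ := Submodule.mem_sup.1 (hN ha)
    rw [mul_add]
    refine Ideal.add_mem _ (Ideal.mul_mem_left _ _ hu) ?_
    clear ha
    induction hv using Submodule.span_induction with
    | mem z hz =>
      obtain ⟨j, rfl⟩ := hz
      refine Ideal.Quotient.eq_zero_iff_mem.1 ?_
      rw [map_mul]
      exact congrFun hr j
    | zero => rw [mul_zero]; exact zero_mem _
    | add z z' _ _ h h' => rw [mul_add]; exact add_mem h h'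
    | smul c z _ h => rw [smul_eq_mul, mul_left_comm]; exact Ideal.mul_mem_left _ _ h
  let P := Fintype.linearCombination B e
  have hP : Function.Surjective P := fun x => by
    obtain ⟨c, hc⟩ := (Submodule.mem_span_range_iff_exists_fun B).1 (hspan.ge (Submodule.mem_top (x := x)))
    exact ⟨c, by rw [← hc, Fintype.linearCombination_apply]⟩
  have hex : Function.Exact i P := fun w => by
    rw [show P w = ∑ j, w j • e j from Fintype.linearCombination_apply ..]
    exact (hrel w).trans ⟨fun ⟨r, hr⟩ => ⟨r, hr⟩, fun ⟨r, hr⟩ => ⟨r, hr⟩⟩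
  obtain ⟨h2, ⟨e1⟩⟩ := ext_of_one_relation (row f) P hP hex hinj
  refine ⟨h2, ⟨e1.trans (Submodule.quotEquivOfEq _ _ ?_)⟩⟩
  rw [hJ, Ideal.map_span, ← Set.range_comp]
  rfl

end Groth.Agent.S16050
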