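import Groth.Statements.S16051
-- import your own Groth.Agent.* helpers here

set_option autoImplicit false
universe u
open LieAlg

namespace Groth.Agent.S16051

open LieAlgebra.SpecialLinear

variable {R : Type u} [CommRing R] {n : ℕ}

/-- Matrix entries, extended by zero. -/
def ent (M : Matrix (Fin (n + 1)) (Fin (n + 1)) R) (i j : ℕ) : R :=
  if h : i < n + 1 ∧ j < n + 1 then M ⟨i, h.1⟩ ⟨j, h.2⟩ else 0

theorem ent_val (M : Matrix (Fin (n + 1)) (Fin (n + 1)) R) (i j : Fin (n + 1)) : ent M i.val j.val = M i j := by
  rw [ent, dif_pos ⟨i.2, j.2⟩]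

theorem ent_mk (M : Matrix (Fin (n + 1)) (Fin (n + 1)) R) {i j : ℕ} (hi : i < n + 1) (hj : j < n + 1) :
    ent M i j = M ⟨i, hi⟩ ⟨j, hj⟩ := dif_pos ⟨hi, hj⟩

theorem ent_add (M N : Matrix (Fin (n + 1)) (Fin (n + 1)) R) (i j : ℕ) : ent (M + N) i j = ent M i j + ent N i j := by
  simp only [ent]; split <;> simp

theorem ent_smul (c : R) (M : Matrix (Fin (n + 1)) (Fin (n + 1)) R) (i j : ℕ) : ent (c • M) i j = c * ent M i j := by
  simp only [ent]; split <;> simp

/-- The diagonal sums of the upper block. -/
def t (M : Matrix (Fin (n + 1)) (Fin (n + 1)) R) (k : ℕ) : R :=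
  ∑ m ∈ Finset.range (n - k), ent M (k + m) m

/-- The functionals cutting out the image. -/
def φ : sl (Fin (n + 1)) R →ₗ[R] (Fin (n + 2) → R) where
  toFun M k := if k.val < n then t M.val k.val else if k.val = n then ent M.val n 0 else ent M.val (n - 1) n
  map_add' M N := funext fun k => by
    show (if k.val < n then t (M.val + N.val) k.val else if k.val = n then ent (M.val + N.val) n 0
      else ent (M.val + N.val) (n - 1) n) = _
    simp only [Pi.add_apply, t, ent_add, Finset.sum_add_distrib]
    split <;> [rfl; split <;> rfl]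
  map_smul' c M := funext fun k => by
    show (if k.val < n then t (c • M.val) k.val else if k.val = n then ent (c • M.val) n 0
      else ent (c • M.val) (n - 1) n) = _
    simp only [Pi.smul_apply, RingHom.id_apply, smul_eq_mul, t, ent_smul, Finset.mul_sum, mul_ite]

theorem φ_surjective (hn : 1 ≤ n) : Function.Surjective (φ (R := R) (n := n)) := by
  intro c
  let c' : ℕ → R := fun k => if h : k < n + 2 then c ⟨k, h⟩ else 0
  let M : Matrix (Fin (n + 1)) (Fin (n + 1)) R := Matrix.of fun i j =>
    if j.val = 0 then c' i.val else if i.val = n - 1 ∧ j.val = n then c' (n + 1)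
    else if i.val = n ∧ j.val = n then - c' 0 else 0
  have htr : M ∈ sl (Fin (n + 1)) R := by
    show Matrix.trace M = 0
    rw [Matrix.trace, Fin.sum_univ_succ]
    simp only [Matrix.diag_apply]
    rw [Finset.sum_eq_single (⟨n - 1, by omega⟩ : Fin n)]
    · simp only [M, Matrix.of_apply, Fin.val_zero, Fin.val_succ]
      rw [if_pos trivial, if_neg (show ¬ (n - 1 + 1 = 0) by omega), if_neg (show ¬ (n - 1 + 1 = n - 1 ∧ n - 1 + 1 = n) by omega),
        if_pos (show n - 1 + 1 = n ∧ n - 1 + 1 = n by omega)]
      ring
    · intro b _ hb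
      have hb' : b.val ≠ n - 1 := fun h => hb (Fin.ext h)
      simp only [M, Matrix.of_apply, Fin.val_succ]
      rw [if_neg (by omega), if_neg (by omega), if_neg (by omega)]
    · intro h; exact absurd (Finset.mem_univ _) h
  refine ⟨⟨M, htr⟩, funext fun k => ?_⟩
  have hent : ∀ {i j : ℕ}, i < n + 1 → j < n + 1 → ent M i j =
      if j = 0 then c' i else if i = n - 1 ∧ j = n then c' (n + 1) else if i = n ∧ j = n then - c' 0 else 0 :=
    fun hi hj => ent_mk M hi hj
  have hc : ∀ i : Fin (n + 2), c' i.val = c i := fun i => by simp only [c']; rw [dif_pos i.2]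
  show (if k.val < n then t M k.val else if k.val = n then ent M n 0 else ent M (n - 1) n) = c k
  rw [← hc k]
  split_ifs with h1 h2
  · rw [t, Finset.sum_eq_single 0]
    · rw [hent (by omega) (by omega), if_pos rfl, add_zero]
    · intro m hm hm0
      rw [Finset.mem_range] at hm
      rw [hent (by omega) (by omega), if_neg hm0, if_neg (by omega), if_neg (by omega)]
    · intro h; exact absurd (Finset.mem_range.2 (by omega)) h
  · rw [hent (by omega) (by omega), if_pos rfl, h2]
  · rw [hent (by omega) (by omega), if_neg (by omega), if_pos ⟨rfl, rfl⟩]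
    congr 1
    omega

variable (x : sl (Fin (n + 1)) R)
  (hx : ∀ i j : Fin (n + 1), (x : Matrix (Fin (n + 1)) (Fin (n + 1)) R) i j =
    if j.val = i.val + 1 ∧ j.val < n then 1 else 0)

include hx in
theorem bracket_apply (Y : sl (Fin (n + 1)) R) (i j : ℕ) (hi : i < n + 1) (hj : j < n + 1) :
    ent (⁅x, Y⁆ : sl (Fin (n + 1)) R).val i j = (if i + 1 < n then ent Y.val (i + 1) j else 0) -
      (if 1 ≤ j ∧ j < n then ent Y.val i (j - 1) else 0) := by
  rw [ent_mk _ hi hj, sl_bracket, Matrix.sub_apply, Matrix.mul_apply, Matrix.mul_apply]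
  congr 1
  · split_ifs with h
    · rw [Finset.sum_eq_single ⟨i + 1, by omega⟩]
      · rw [hx, if_pos ⟨rfl, h⟩, one_mul, ent_mk _ (by omega) hj]
      · intro b _ hb
        rw [hx, if_neg fun hh => hb (Fin.ext hh.1), zero_mul]
      · intro h'; exact absurd (Finset.mem_univ _) h'
    · refine Finset.sum_eq_zero fun b _ => ?_
      rw [hx, if_neg (by rintro ⟨hh, hh2⟩; simp only at hh hh2; exact h (by omega)), zero_mul]
  · split_ifs with h
    · rw [Finset.sum_eq_single ⟨j - 1, by omega⟩]
      · rw [hx, if_pos ⟨by simp only; omega, h.2⟩, mul_one, ent_mk _ hi (by omega)]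
      · intro b _ hb
        rw [hx, if_neg (by rintro ⟨hh, -⟩; exact hb (Fin.ext (by simp only at hh ⊢; omega))), mul_zero]
      · intro h'; exact absurd (Finset.mem_univ _) h'
    · refine Finset.sum_eq_zero fun b _ => ?_
      rw [hx, if_neg (by rintro ⟨hh, hh2⟩; simp only at hh hh2; exact h ⟨by omega, hh2⟩), mul_zero]

/-- Solution of the recursion inverting the bracket on the upper block. -/
def g (M : Matrix (Fin (n + 1)) (Fin (n + 1)) R) : ℕ → ℕ → R
  | 0, _ => 0
  | i + 1, j => ent M i j + if j = 0 then 0 else g M i (j - 1)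

theorem g_eq (M : Matrix (Fin (n + 1)) (Fin (n + 1)) R) :
    ∀ j i : ℕ, j < i → g M i j = ∑ m ∈ Finset.range (j + 1), ent M (i - 1 - j + m) m := by
  intro j
  induction j with
  | zero =>
    intro i hi
    obtain ⟨i', rfl⟩ : ∃ i', i = i' + 1 := ⟨i - 1, by omega⟩
    simp [g]
  | succ j ih =>
    intro i hi
    obtain ⟨i', rfl⟩ : ∃ i', i = i' + 1 := ⟨i - 1, by omega⟩
    rw [g, if_neg (by omega), Nat.add_sub_cancel, ih i' (by omega), Finset.sum_range_succ _ (j + 1), add_comm]
    congr 1
    · refine Finset.sum_congr rfl fun m hm => ?_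
      congr 1
      omega
    · congr 1
      omega

include hx in
theorem ker_eq : LinearMap.ker (φ (R := R) (n := n)) =
    LinearMap.range (LieAlgebra.ad R (sl (Fin (n + 1)) R) x) := by
  ext M
  constructor
  · intro hM
    have h0 : ∀ k : Fin (n + 2), φ M k = 0 := fun k => congrFun hM k
    have ht : ∀ k < n, t M.val k = 0 := fun k hk => by
      have := h0 ⟨k, by omega⟩
      simpa [φ, hk] using this
    have hn0 : ent M.val n 0 = 0 := by
      have := h0 ⟨n, by omega⟩
      simpa [φ] using this
    have hn1 : ent M.val (n - 1) n = 0 := by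
      have := h0 ⟨n + 1, by omega⟩
      simpa [φ, show ¬ n + 1 < n by omega] using this
    let Y₀ : ℕ → ℕ → R := fun i j =>
      if i < n ∧ j < n then g M.val i j else if j = n ∧ 1 ≤ i ∧ i < n then ent M.val (i - 1) n
      else if i = n ∧ j + 1 < n then - ent M.val n (j + 1)
      else if i = n ∧ j = n then - ∑ l ∈ Finset.range n, g M.val l l else 0
    let Y : Matrix (Fin (n + 1)) (Fin (n + 1)) R := Matrix.of fun i j => Y₀ i.val j.val
    have htr : Y ∈ sl (Fin (n + 1)) R := by
      show Matrix.trace Y = 0
      rw [Matrix.trace, Fin.sum_univ_castSucc]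
      simp only [Matrix.diag_apply, Y, Matrix.of_apply, Fin.val_castSucc, Fin.val_last]
      have h1 : ∀ l, l < n → Y₀ l l = g M.val l l := fun l hl => by simp [Y₀, hl]
      have h2 : Y₀ n n = - ∑ l ∈ Finset.range n, g M.val l l := by simp [Y₀]
      rw [h2, Finset.sum_congr rfl (fun (l : Fin n) _ => h1 l.val l.2),
        Fin.sum_univ_eq_sum_range (fun l => g M.val l l) n, add_neg_cancel]
    have hY : ∀ {i j : ℕ}, i < n + 1 → j < n + 1 → ent Y i j = Y₀ i j := fun hi hj => ent_mk Y hi hj
    have htrace : ent M.val n n = 0 := by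
      have h1 : Matrix.trace M.val = 0 := M.2
      rw [Matrix.trace, Fin.sum_univ_castSucc] at h1
      simp only [Matrix.diag_apply, ← ent_val, Fin.val_castSucc, Fin.val_last] at h1
      rw [Fin.sum_univ_eq_sum_range (fun l => ent M.val l l) n] at h1
      rcases Nat.eq_zero_or_pos n with h | h
      · subst h; simpa using h1
      · have h2 := ht 0 h
        simp only [t, Nat.sub_zero, zero_add] at h2
        rwa [h2, zero_add] at h1
    refine ⟨⟨Y, htr⟩, ?_⟩
    refine Subtype.ext (Matrix.ext fun i j => ?_)
    rw [LieAlgebra.ad_apply, ← ent_val (⁅x, (⟨Y, htr⟩ : sl (Fin (n + 1)) R)⁆ : sl (Fin (n + 1)) R).val i j, bracket_apply x hx ⟨Y, htr⟩ _ _ i.2 j.2, ← ent_val M.val i j]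
    obtain ⟨i, hi⟩ := i
    obtain ⟨j, hj⟩ := j
    show (if i + 1 < n then ent Y (i + 1) j else 0) - (if 1 ≤ j ∧ j < n then ent Y i (j - 1) else 0) = ent M.val i j
    by_cases hjn : j = n
    · subst hjn
      rw [if_neg (show ¬ (1 ≤ j ∧ j < j) by omega), sub_zero]
      split_ifs with h
      · rw [hY (by omega) hj]
        simp only [Y₀]
        rw [if_neg (show ¬ (i + 1 < j ∧ j < j) by omega), if_pos ⟨trivial, by omega, h⟩, Nat.add_sub_cancel]
      · rcases (show i = j ∨ i = j - 1 by omega) with rfl | rfl
        · exact htrace.symm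
        · exact hn1.symm
    have hjlt : j < n := by omega
    by_cases hin : i = n
    · subst hin
      rw [if_neg (show ¬ i + 1 < i by omega), zero_sub]
      split_ifs with h
      · rw [hY hi (by omega)]
        simp only [Y₀]
        rw [if_neg (show ¬ (i < i ∧ j - 1 < i) by omega), if_neg (show ¬ (j - 1 = i ∧ 1 ≤ i ∧ i < i) by omega),
          if_pos ⟨trivial, by omega⟩, show j - 1 + 1 = j by omega, neg_neg]
      · rw [show j = 0 by omega, neg_zero]
        exact hn0.symm
    have hilt : i < n := by omega
    by_cases hlast : i + 1 < n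
    · rw [if_pos hlast, hY (by omega) hj]
      simp only [Y₀]
      rw [if_pos ⟨hlast, hjlt⟩]
      split_ifs with h
      · rw [hY hi (by omega)]
        simp only [Y₀]
        rw [if_pos (show i < n ∧ j - 1 < n by omega), g, if_neg (by omega)]
        ring
      · rw [g, if_pos (by omega)]
        ring
    · have hni : n = i + 1 := by omega
      rw [if_neg hlast, zero_sub]
      have hz : g M.val n j = 0 := by
        rw [g_eq M.val j n hjlt]
        have h2 := ht (n - 1 - j) (by omega)
        simp only [t] at h2
        rwa [show n - (n - 1 - j) = j + 1 by omega] at h2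
      replace hz : g M.val (i + 1) j = 0 := by rw [← hni]; exact hz
      simp only [g] at hz
      split_ifs with h
      · rw [hY hi (by omega)]
        simp only [Y₀]
        rw [if_pos (show i < n ∧ j - 1 < n by omega)]
        rw [if_neg (show ¬ j = 0 by omega)] at hz
        linear_combination -hz
      · rw [if_pos (show j = 0 by omega), add_zero] at hz
        rw [hz, neg_zero]
  · rintro ⟨Y, rfl⟩
    refine funext fun k => ?_
    show (if k.val < n then t (⁅x, Y⁆ : sl (Fin (n + 1)) R).val k.val else if k.val = n then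
      ent (⁅x, Y⁆ : sl (Fin (n + 1)) R).val n 0 else ent (⁅x, Y⁆ : sl (Fin (n + 1)) R).val (n - 1) n) = 0
    split_ifs with h1 h2
    · let f : ℕ → R := fun m => if 1 ≤ m ∧ k.val + m < n then ent Y.val (k.val + m) (m - 1) else 0
      rw [t, Finset.sum_congr rfl (g := fun m => f (m + 1) - f m) fun m hm => ?_, Finset.sum_range_sub f]
      · simp only [f]
        rw [if_neg (by omega), if_neg (by omega), sub_zero]
      · rw [Finset.mem_range] at hm
        rw [bracket_apply x hx Y _ _ (by omega) (by omega)]
        simp only [f]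
        congr 1
        · simp only [Nat.add_sub_cancel, ← add_assoc]
          exact if_congr (by constructor <;> intro h <;> [exact ⟨by omega, h⟩; exact h.2]) rfl rfl
        · exact if_congr (by constructor <;> intro h <;> exact ⟨h.1, by omega⟩) rfl rfl
    · rw [bracket_apply x hx Y _ _ (by omega) (by omega), if_neg (by omega), if_neg (by omega), sub_zero]
    · rw [bracket_apply x hx Y _ _ (by omega) (by omega), if_neg (by omega), if_neg (by omega), sub_zero]

/-- Let O be a discrete valuation ring of characteristic zero with residue field of characteristic p,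
let 1 ≤ n with n + 1 < p (type A_n with p above the Coxeter number), and let x ∈ sl_{n+1}(O) be the
standard subregular nilpotent element, the matrix with entries x_{i,i+1} = 1 for i + 1 < n and 0
elsewhere (one Jordan block of size n and one of size 1; in the source this is the sum of the root
vectors of the first n − 1 simple roots, completed there to an sl₂-triple). Then the quotient of
sl_{n+1}(O) by the image of ad_x is a free O-module of rank n + 2. (The source works over a complete
such ring with algebraically closed residue field; completeness and algebraic closedness are not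
used for this statement.) -/
theorem result (O : Type u) [CommRing O] [IsDomain O] [IsDiscreteValuationRing O]
    [CharZero O] (p : ℕ) [Fact p.Prime] [CharP (IsLocalRing.ResidueField O) p]
    (n : ℕ) (hn : 1 ≤ n) (hp : n + 1 < p)
    (x : LieAlgebra.SpecialLinear.sl (Fin (n + 1)) O)
    (hx : ∀ i j : Fin (n + 1), (x : Matrix (Fin (n + 1)) (Fin (n + 1)) O) i j =
      if j.val = i.val + 1 ∧ j.val < n then 1 else 0) :
    Module.Free O (LieAlgebra.SpecialLinear.sl (Fin (n + 1)) O ⧸
        LinearMap.range (LieAlgebra.ad O (LieAlgebra.SpecialLinear.sl (Fin (n + 1)) O) x)) ∧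
      Module.finrank O (LieAlgebra.SpecialLinear.sl (Fin (n + 1)) O ⧸
        LinearMap.range (LieAlgebra.ad O (LieAlgebra.SpecialLinear.sl (Fin (n + 1)) O) x)) = n + 2 := by
  let e : (LieAlgebra.SpecialLinear.sl (Fin (n + 1)) O ⧸
      LinearMap.range (LieAlgebra.ad O (LieAlgebra.SpecialLinear.sl (Fin (n + 1)) O) x)) ≃ₗ[O] (Fin (n + 2) → O) :=
    (Submodule.quotEquivOfEq _ _ (ker_eq x hx).symm).trans
      ((φ (R := O) (n := n)).quotKerEquivOfSurjective (φ_surjective hn))
  exact ⟨Module.Free.of_equiv e.symm, by rw [e.finrank_eq, Module.finrank_fin_fun]⟩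

end Groth.Agent.S16051
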