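import Groth.Statements.S16052
import Mathlib
import Groth.Agent.HenselKummerLib.Basic
-- import your own Groth.Agent.* helpers here

set_option autoImplicit false
universe u
open Polynomial
open CAlg

namespace Groth.Agent.S16052

/-- Let O be a henselian discrete valuation ring of characteristic zero with algebraically closed
residue field of characteristic p, ϖ a uniformizer and K the fraction field. Let r_1, …, r_m ≥ 1 and
b_1, …, b_m ≥ 1 be integers with gcd(r_i, b_i) = 1 for each i and r_1 + ⋯ + r_m < p, and let v_1, …,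
v_m be units of O. Then the splitting field over K of the polynomial ∏_i (y^{r_i} − v_i ϖ^{b_i}) has
degree lcm(r_1, …, r_m) over K. (In the source O is complete and this polynomial is the y-part of a
deformation y ↦ x² + z² + f(y) of an A_n-singularity with n + 1 = Σ r_i; the proposition goes on to
identify the monodromy element, which is not stated here.) -/
theorem result (O : Type u) [CommRing O] [IsDomain O]
    [IsDiscreteValuationRing O] [HenselianLocalRing O] [CharZero O] [IsAlgClosed (IsLocalRing.ResidueField O)]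
    (p : ℕ) [Fact p.Prime] [CharP (IsLocalRing.ResidueField O) p]
    (ϖ : O) (hϖ : Irreducible ϖ) (m : ℕ) (r b : Fin m → ℕ) (v : Fin m → Oˣ)
    (hr : ∀ i, 1 ≤ r i) (hb : ∀ i, 1 ≤ b i) (hrb : ∀ i, Nat.Coprime (r i) (b i)) (hp : ∑ i, r i < p) :
    Module.finrank (FractionRing O)
        (∏ i, (X ^ (r i) - C (algebraMap O (FractionRing O) ((v i : O) * ϖ ^ (b i))))).SplittingField =
      Finset.univ.lcm r := by
  classical
  set K := FractionRing O with hK
  set N := Finset.univ.lcm r with hNdef
  have hpne : ∀ i, ¬ p ∣ r i := fun i h => by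
    have h1 : r i ≤ ∑ j, r j := Finset.single_le_sum (fun j _ => Nat.zero_le _) (Finset.mem_univ i)
    have := Nat.le_of_dvd (hr i) h
    omega
  have hpN : ¬ p ∣ N := fun h => by
    have h1 : N ∣ ∏ i, r i := Finset.lcm_dvd fun i hi => Finset.dvd_prod_of_mem r hi
    obtain ⟨i, -, hi⟩ := (Fact.out : p.Prime).prime.exists_mem_finset_dvd (h.trans h1)
    exact hpne i hi
  have hcast : ∀ k : ℕ, ¬ p ∣ k → (k : IsLocalRing.ResidueField O) ≠ 0 := fun k hk h =>
    hk ((CharP.cast_eq_zero_iff (IsLocalRing.ResidueField O) p k).1 h)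
  have hN0 : N ≠ 0 := fun h => hpN (h ▸ dvd_zero p)
  set a : K := algebraMap O K ϖ with ha
  have ha0 : a ≠ 0 := (map_ne_zero_iff _ (IsFractionRing.injective O K)).2 hϖ.ne_zero
  have hζ := HenselKummerLib.primitiveRoots_nonempty O (hcast N hpN)
  have hirr : Irreducible (X ^ N - C a) := HenselKummerLib.irreducible_X_pow_sub O hϖ hN0
  set E := (X ^ N - C a).SplittingField
  have hdegE : Module.finrank K E = N := finrank_of_isSplittingField_X_pow_sub_C hζ hirr E
  set β : E := rootOfSplits (SplittingField.splits (X ^ N - C a))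
    (by rw [Polynomial.degree_map, Polynomial.degree_X_pow_sub_C (Nat.pos_of_ne_zero hN0)]
        exact_mod_cast hN0) with hβdef
  have hβ : β ^ N = algebraMap K E a := by
    have h := Polynomial.eval_rootOfSplits (SplittingField.splits (X ^ N - C a))
      (by rw [Polynomial.degree_map, Polynomial.degree_X_pow_sub_C (Nat.pos_of_ne_zero hN0)]
          exact_mod_cast hN0)
    rw [← hβdef] at h
    simpa [sub_eq_zero] using h
  have hβ0 : β ≠ 0 := fun h => by
    rw [h, zero_pow hN0, eq_comm, map_eq_zero] at hβ
    exact ha0 hβ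
  have hrdvd : ∀ i, r i ∣ N := fun i => Finset.dvd_lcm (Finset.mem_univ i)
  choose q hq using hrdvd
  choose w hw using fun i => HenselKummerLib.exists_pow_eq' O (hcast (r i) (hpne i)) (v i : O) (v i).isUnit
  let γ : Fin m → E := fun i => algebraMap K E (algebraMap O K (w i)) * β ^ (q i * b i)
  have hγ : ∀ i, γ i ^ r i = algebraMap K E (algebraMap O K ((v i : O) * ϖ ^ (b i))) := by
    intro i
    have h1 : (β ^ (q i * b i)) ^ r i = (β ^ N) ^ b i := by
      rw [← pow_mul, ← pow_mul]; congr 1; rw [hq i]; ring
    rw [mul_pow, h1, hβ, ← map_pow, ← map_pow, ← map_pow, hw, map_mul, map_mul, map_pow, map_pow, map_pow]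
  set P : Polynomial K := ∏ i, (X ^ (r i) - C (algebraMap O K ((v i : O) * ϖ ^ (b i)))) with hP
  haveI hsplit : P.IsSplittingField K E := by
    constructor
    · rw [hP, Polynomial.map_prod]
      refine Polynomial.Splits.prod fun i _ => ?_
      rw [Polynomial.map_sub, Polynomial.map_pow, Polynomial.map_X, Polynomial.map_C]
      obtain ⟨ζ, hζi⟩ := HenselKummerLib.primitiveRoots_nonempty O (hcast (r i) (hpne i))
      rw [mem_primitiveRoots (hr i)] at hζi
      exact X_pow_sub_C_splits_of_isPrimitiveRoot (hζi.map_of_injective (algebraMap K E).injective) (hγ i)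
    · set S := Algebra.adjoin K (P.rootSet E) with hS
      have hPm : P.Monic := monic_prod_of_monic _ _ fun i _ => monic_X_pow_sub_C _ (by have := hr i; omega)
      have hγmem : ∀ i, γ i ∈ S := fun i => by
        refine Algebra.subset_adjoin ?_
        rw [Polynomial.mem_rootSet_of_ne hPm.ne_zero, hP, map_prod]
        refine Finset.prod_eq_zero (Finset.mem_univ i) ?_
        rw [map_sub, map_pow, Polynomial.aeval_X, Polynomial.aeval_C, hγ, sub_self]
      let F := S.toIntermediateField' (Subalgebra.isField_of_algebraic S)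
      have hF : ∀ x, x ∈ F ↔ x ∈ S := fun x => Iff.rfl
      let G : AddSubgroup ℤ :=
        { carrier := {z | β ^ z ∈ F}
          add_mem' := fun {x y} hx hy => by
            show β ^ (x + y) ∈ F
            rw [zpow_add₀ hβ0]; exact mul_mem hx hy
          zero_mem' := by
            show β ^ (0 : ℤ) ∈ F
            rw [zpow_zero]; exact one_mem F
          neg_mem' := fun {x} hx => by
            show β ^ (-x) ∈ F
            rw [zpow_neg]; exact inv_mem hx }
      have hNG : (N : ℤ) ∈ G := by
        show β ^ (N : ℤ) ∈ F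
        rw [zpow_natCast, hβ]; exact F.algebraMap_mem a
      have hqG : ∀ i, (q i : ℤ) ∈ G := by
        intro i
        have hqb : (↑(q i * b i) : ℤ) ∈ G := by
          show β ^ (↑(q i * b i) : ℤ) ∈ F
          rw [zpow_natCast]
          have h1 : algebraMap K E (algebraMap O K (w i)) ≠ 0 := by
            rw [ne_eq, map_eq_zero, map_eq_zero_iff _ (IsFractionRing.injective O K)]
            intro h
            have := hw i
            rw [h, zero_pow (by have := hr i; omega)] at this
            exact (v i).ne_zero this.symm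
          have h2 : β ^ (q i * b i) = (algebraMap K E (algebraMap O K (w i)))⁻¹ * γ i := by
            show _ = _ * (algebraMap K E (algebraMap O K (w i)) * β ^ (q i * b i))
            rw [← mul_assoc, inv_mul_cancel₀ h1, one_mul]
          rw [h2]
          exact mul_mem (inv_mem (F.algebraMap_mem _)) ((hF _).2 (hγmem i))
        have hg := Int.gcd_eq_gcd_ab (r i : ℤ) (b i : ℤ)
        rw [show Int.gcd (r i : ℤ) (b i : ℤ) = 1 by simpa [Int.gcd_natCast_natCast] using hrb i] at hg
        have h3 : (q i : ℤ) = (N : ℤ) * Int.gcdA (r i) (b i) + (↑(q i * b i) : ℤ) * Int.gcdB (r i) (b i) := by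
          have h4 : (N : ℤ) = (r i : ℤ) * q i := by exact_mod_cast hq i
          push_cast at hg ⊢
          rw [h4]
          linear_combination (q i : ℤ) * hg
        rw [h3]
        exact add_mem (by simpa [mul_comm] using AddSubgroup.zsmul_mem G hNG (Int.gcdA (r i) (b i)))
          (by simpa [mul_comm] using AddSubgroup.zsmul_mem G hqb (Int.gcdB (r i) (b i)))
      obtain ⟨g, hg⟩ := Int.subgroup_cyclic G
      have hgd : ∀ z ∈ G, g ∣ z := fun z hz => by
        rw [hg, AddSubgroup.mem_closure_singleton] at hz
        obtain ⟨t, rfl⟩ := hz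
        exact ⟨t, by rw [smul_eq_mul, mul_comm]⟩
      obtain ⟨c, hc⟩ := Int.natCast_dvd_natCast.1 (Int.natAbs_dvd.2 (hgd _ hNG))
      have hNc : N ∣ c := Finset.lcm_dvd fun i _ => by
        have hq0 : q i ≠ 0 := fun h => hN0 (by rw [hq i, h, mul_zero])
        obtain ⟨t, ht⟩ := Int.natCast_dvd_natCast.1 (Int.natAbs_dvd.2 (hgd _ (hqG i)))
        refine ⟨t, ?_⟩
        have hN' := hq i
        rw [ht] at hN'
        rw [hN'] at hc
        have hg0 : g.natAbs ≠ 0 := fun h => hq0 (by rw [ht, h, zero_mul])
        exact Nat.eq_of_mul_eq_mul_left (Nat.pos_of_ne_zero hg0) (by rw [← hc]; ring)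
      have hgne : g.natAbs = 1 := by
        have hc0 : c ≠ 0 := fun h => hN0 (by rw [hc, h, mul_zero])
        have hle : N ≤ c := Nat.le_of_dvd (Nat.pos_of_ne_zero hc0) hNc
        rw [hc] at hle
        have hle' : g.natAbs * c ≤ 1 * c := by rw [one_mul]; exact hle
        have := Nat.le_of_mul_le_mul_right hle' (Nat.pos_of_ne_zero hc0)
        have hgn0 : g.natAbs ≠ 0 := fun h => hN0 (by rw [hc, h, zero_mul])
        omega
      have h1G : (1 : ℤ) ∈ G := by
        have hgG : g ∈ G := hg ▸ AddSubgroup.subset_closure (Set.mem_singleton g)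
        rcases Int.natAbs_eq g with h | h
        · rw [h, hgne] at hgG; exact_mod_cast hgG
        · rw [h, hgne] at hgG; simpa using G.neg_mem hgG
      have hβS : β ∈ S := by
        have : β ^ (1 : ℤ) ∈ F := h1G
        rwa [zpow_one] at this
      rw [eq_top_iff, ← Polynomial.IsSplittingField.adjoin_rootSet E (X ^ N - C a), Algebra.adjoin_le_iff]
      intro x hx
      rw [Polynomial.mem_rootSet_of_ne (X_pow_sub_C_ne_zero (Nat.pos_of_ne_zero hN0) a), map_sub, map_pow,
        Polynomial.aeval_X, Polynomial.aeval_C, sub_eq_zero, ← hβ] at hx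
      obtain ⟨ζ, hζN⟩ := hζ
      rw [mem_primitiveRoots (Nat.pos_of_ne_zero hN0)] at hζN
      have hx1 : (x / β) ^ N = 1 := by rw [div_pow, hx, div_self (pow_ne_zero _ hβ0)]
      haveI : NeZero N := ⟨hN0⟩
      obtain ⟨t, -, ht⟩ := (hζN.map_of_injective (algebraMap K E).injective).eq_pow_of_pow_eq_one hx1
      have hxeq : x = algebraMap K E (ζ ^ t) * β := by rw [map_pow, ht, div_mul_cancel₀ _ hβ0]
      rw [hxeq]
      exact mul_mem (S.algebraMap_mem _) hβS
  rw [← hdegE, (Polynomial.IsSplittingField.algEquiv E P).toLinearEquiv.finrank_eq]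

end Groth.Agent.S16052
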