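import Groth.Statements.S16053
import Mathlib
import Groth.Agent.HenselKummerLib.Basic
import Groth.Agent.QfHensFiniteLib.Basic
-- import your own Groth.Agent.* helpers here

set_option autoImplicit false
universe u
open Polynomial
open CAlg

namespace Groth.Agent.S16053

/-- Let O be a henselian discrete valuation ring of characteristic zero with algebraically closed
residue field of characteristic p and fraction field K, and let f ∈ O[y] be a monic polynomial of
degree e with 1 ≤ e < p which is Eisenstein at the maximal ideal of O. Then the splitting field of f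
over K has degree e over K and the Galois group of f over K is cyclic. (In the source O is complete,
e = n + 1 and f is the y-part y^{n+1} + u_n ϖ^{a_n} y^{n−1} + ⋯ + u_1 ϖ of an A_n-degeneration
meeting the discriminant transversally; the corollary's conclusion that monodromy acts through a
Coxeter element is not stated here.) -/
theorem result (O : Type u) [CommRing O] [IsDomain O]
    [IsDiscreteValuationRing O] [HenselianLocalRing O] [CharZero O] [IsAlgClosed (IsLocalRing.ResidueField O)]
    (p : ℕ) [Fact p.Prime] [CharP (IsLocalRing.ResidueField O) p]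
    (f : O[X]) (hmon : f.Monic) (e : ℕ) (hdeg : f.natDegree = e) (he : 1 ≤ e) (hep : e < p)
    (hf : f.IsEisensteinAt (IsLocalRing.maximalIdeal O)) :
    Module.finrank (FractionRing O) (f.map (algebraMap O (FractionRing O))).SplittingField = e ∧
      IsCyclic (f.map (algebraMap O (FractionRing O))).Gal := by
  classical
  set K := FractionRing O with hK
  obtain ⟨ϖ, hϖ⟩ := IsDiscreteValuationRing.exists_irreducible O
  have hm : IsLocalRing.maximalIdeal O = Ideal.span {ϖ} := hϖ.maximalIdeal_eq
  set g : Polynomial K := f.map (algebraMap O K) with hg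
  have hgm : g.Monic := hmon.map _
  have hgdeg : g.natDegree = e := by rw [hg, hmon.natDegree_map, hdeg]
  have hfirr : Irreducible f := hf.irreducible (IsLocalRing.maximalIdeal.isMaximal O).isPrime hmon.isPrimitive
    (by rw [hdeg]; omega)
  have hgirr : Irreducible g := (hmon.irreducible_iff_irreducible_map_fraction_map (K := K)).1 hfirr
  haveI := Fact.mk hgirr
  set E := AdjoinRoot g
  set α : E := AdjoinRoot.root g with hα
  haveI : FiniteDimensional K E := Module.Finite.of_basis (AdjoinRoot.powerBasis hgirr.ne_zero).basis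
  have hEdeg : Module.finrank K E = e := by
    rw [(AdjoinRoot.powerBasis hgirr.ne_zero).finrank]
    exact hgdeg
  have hαf : Polynomial.aeval α f = 0 := by
    rw [← Polynomial.aeval_map_algebraMap K, ← hg]
    exact AdjoinRoot.eval₂_root g
  have hαint : IsIntegral O α := ⟨f, hmon, hαf⟩
  let B := Algebra.adjoin O ({α} : Set E)
  haveI : Module.Finite O B := Module.Finite.of_fg hαint.fg_adjoin_singleton
  let αB : B := ⟨α, Algebra.subset_adjoin rfl⟩
  have hαBf : Polynomial.aeval αB f = 0 := Subtype.ext (by
    rw [← Subalgebra.coe_val, ← Polynomial.aeval_algHom_apply]; exact hαf)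
  choose c hc using fun i : Fin e => Ideal.mem_span_singleton.1 (hm ▸ hf.mem (show (i : ℕ) < f.natDegree by rw [hdeg]; exact i.2))
  set γ : B := -∑ i : Fin e, algebraMap O B (c i) * αB ^ (i : ℕ) with hγ
  have hαe : αB ^ e = algebraMap O B ϖ * γ := by
    have h1 := hαBf
    rw [hmon.as_sum, hdeg, map_add, map_pow, Polynomial.aeval_X, map_sum, ← Fin.sum_univ_eq_sum_range] at h1
    rw [hγ, mul_neg, eq_neg_iff_add_eq_zero, Finset.mul_sum]
    rw [← h1]
    congr 1
    refine Finset.sum_congr rfl fun i _ => ?_
    rw [map_mul, Polynomial.aeval_C, map_pow, Polynomial.aeval_X, hc i, map_mul, mul_assoc]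
  -- every element is a constant modulo the root
  have hconst : ∀ x : B, ∃ (s : O) (y : B), x = algebraMap O B s + αB * y := by
    intro x
    have hx := x.2
    obtain ⟨q, hq⟩ := Algebra.adjoin_mem_exists_aeval O α hx
    refine ⟨q.coeff 0, Polynomial.aeval αB q.divX, ?_⟩
    have : x = Polynomial.aeval αB q := Subtype.ext (by
      rw [← Subalgebra.coe_val, ← Polynomial.aeval_algHom_apply]; exact hq.symm)
    rw [this]
    conv_lhs => rw [← Polynomial.X_mul_divX_add q]
    rw [map_add, map_mul, Polynomial.aeval_X, Polynomial.aeval_C, add_comm]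
  have hover : ∀ (P : Ideal B), P.IsMaximal → P.comap (algebraMap O B) = IsLocalRing.maximalIdeal O ∧ αB ∈ P := by
    intro P hP
    have h1 : P.comap (algebraMap O B) = IsLocalRing.maximalIdeal O :=
      IsLocalRing.eq_maximalIdeal (Ideal.isMaximal_comap_of_isIntegral_of_isMaximal P)
    have h2 : algebraMap O B ϖ ∈ P := by
      rw [← Ideal.mem_comap, h1, hm]; exact Ideal.mem_span_singleton_self ϖ
    exact ⟨h1, hP.isPrime.mem_of_pow_mem e (hαe ▸ P.mul_mem_right γ h2)⟩
  haveI : IsLocalRing B := by
    obtain ⟨P, hP⟩ := Ideal.exists_maximal B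
    refine IsLocalRing.of_unique_max_ideal ⟨P, hP, fun Q hQ => ?_⟩
    refine hQ.eq_of_le hP.ne_top fun x hx => ?_
    obtain ⟨s, y, rfl⟩ := hconst x
    have hs : s ∈ IsLocalRing.maximalIdeal O := by
      rw [← (hover Q hQ).1, Ideal.mem_comap]
      simpa using Q.sub_mem hx (Q.mul_mem_right y (hover Q hQ).2)
    refine P.add_mem ?_ (P.mul_mem_right y (hover P hP).2)
    rw [← Ideal.mem_comap, (hover P hP).1]
    exact hs
  obtain ⟨hB, hloc⟩ := QfHensFiniteLib.henselianLocalRing_of_finite (A := O) B
  have hmax := hover _ (IsLocalRing.maximalIdeal.isMaximal B)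
  have he0 : (e : IsLocalRing.ResidueField B) ≠ 0 := by
    rw [← map_natCast (IsLocalRing.ResidueField.map (algebraMap O B)), _root_.map_ne_zero]
    intro h
    have := Nat.le_of_dvd (by omega) ((CharP.cast_eq_zero_iff (IsLocalRing.ResidueField O) p e).1 h)
    omega
  have hγu : IsUnit γ := by
    rw [← IsLocalRing.residue_ne_zero_iff_isUnit]
    intro h
    rw [hγ, map_neg, neg_eq_zero, map_sum, Finset.sum_eq_single (⟨0, by omega⟩ : Fin e)
      (fun i _ hi => by
        rw [map_mul, map_pow, (IsLocalRing.residue_eq_zero_iff αB).2 hmax.2,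
          zero_pow (fun h0 => hi (Fin.ext h0)), mul_zero]) (by simp)] at h
    simp only [pow_zero, mul_one] at h
    rw [IsLocalRing.residue_eq_zero_iff, ← Ideal.mem_comap, hmax.1, hm, Ideal.mem_span_singleton] at h
    refine hf.notMem ?_
    rw [hm, Ideal.span_singleton_pow, Ideal.mem_span_singleton, sq]
    exact (hc ⟨0, by omega⟩) ▸ mul_dvd_mul_left ϖ h
  obtain ⟨s, y, hsy⟩ := hconst γ
  obtain ⟨z, hz⟩ := IsAlgClosed.exists_pow_nat_eq (IsLocalRing.residue O s) (show 0 < e by omega)
  obtain ⟨a₀, rfl⟩ := IsLocalRing.residue_surjective z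
  obtain ⟨w, hw, -⟩ := HenselKummerLib.exists_pow_eq he0 γ hγu (algebraMap O B a₀) (by
    rw [hsy, map_add, map_mul, (IsLocalRing.residue_eq_zero_iff αB).2 hmax.2, zero_mul, add_zero,
      ← IsLocalRing.ResidueField.map_residue (algebraMap O B), ← IsLocalRing.ResidueField.map_residue (algebraMap O B),
      ← map_pow, hz])
  have hwE : (w : E) ≠ 0 := by
    intro h
    have hw0 : w = 0 := Subtype.ext h
    rw [hw0, zero_pow (by omega)] at hw
    exact hγu.ne_zero hw.symm
  set a : K := algebraMap O K ϖ with ha
  set β : E := α / (w : E) with hβ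
  have hβe : β ^ e = algebraMap K E a := by
    rw [hβ, div_pow, div_eq_iff (pow_ne_zero _ hwE)]
    have h1 := congrArg (Subtype.val) hαe
    have h2 := congrArg (Subtype.val) hw
    simp only [Subalgebra.coe_pow, Subalgebra.coe_mul, Subalgebra.coe_algebraMap] at h1 h2
    rw [h2, ← IsScalarTower.algebraMap_apply]
    exact h1
  have hζ := HenselKummerLib.primitiveRoots_nonempty O (N := e) (by
    intro h
    have := Nat.le_of_dvd (by omega) ((CharP.cast_eq_zero_iff (IsLocalRing.ResidueField O) p e).1 h)
    omega)
  have hirr : Irreducible (X ^ e - C a) := HenselKummerLib.irreducible_X_pow_sub O hϖ (by omega)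
  have hβint : IsIntegral K β := IsIntegral.of_finite K β
  have htop : IntermediateField.adjoin K {β} = ⊤ := by
    refine IntermediateField.eq_of_le_of_finrank_eq le_top ?_
    rw [IntermediateField.adjoin.finrank hβint, IntermediateField.finrank_top', hEdeg,
      ← minpoly.eq_of_irreducible_of_monic hirr (by simp [hβe]) (monic_X_pow_sub_C a (by omega)),
      natDegree_X_pow_sub_C]
  haveI hsf : (X ^ e - C a).IsSplittingField K E := by
    have := isSplittingField_X_pow_sub_C_of_root_adjoin_eq_top (K := K) (L := E) (a := a) (α := β)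
      (hEdeg.symm ▸ hζ) (hEdeg.symm ▸ hβe) htop
    rwa [hEdeg] at this
  haveI : IsGalois K E := isGalois_of_isSplittingField_X_pow_sub_C hζ hirr E
  haveI : NeZero e := ⟨by omega⟩
  have hcyc : IsCyclic Gal(E/K) := isCyclic_of_isSplittingField_X_pow_sub_C hζ hirr E
  haveI hsg : g.IsSplittingField K E := by
    constructor
    · have h1 := Normal.splits (inferInstance : Normal K E) α
      rwa [← minpoly.eq_of_irreducible_of_monic hgirr (by exact AdjoinRoot.eval₂_root g) hgm] at h1
    · rw [eq_top_iff, ← AdjoinRoot.adjoinRoot_eq_top (f := g)]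
      refine Algebra.adjoin_mono (Set.singleton_subset_iff.2 ?_)
      rw [Polynomial.mem_rootSet_of_ne hgirr.ne_zero]
      exact AdjoinRoot.eval₂_root g
  let φ := Polynomial.IsSplittingField.algEquiv E g
  exact ⟨by rw [← φ.toLinearEquiv.finrank_eq, hEdeg],
    isCyclic_of_surjective φ.autCongr.toMonoidHom φ.autCongr.surjective⟩

end Groth.Agent.S16053
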