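import Groth.Statements.S1607
import Groth.Agent.CurveAmpLib.LocAffine

set_option autoImplicit false
universe u
open CategoryTheory CategoryTheory.Limits AlgebraicGeometry
open Variety

namespace Groth.Agent.S1607

/-- If X is affine and each of its local rings is Noetherian of dimension at most one, then every
quasi-compact open subscheme of X is affine. -/
theorem result (X : Scheme.{u}) [IsAffine X]
    (hX : ∀ x : X, IsNoetherianRing (X.presheaf.stalk x) ∧ ringKrullDim (X.presheaf.stalk x) ≤ 1)
    (U : X.Opens) (hU : IsCompact (U : Set X)) : IsAffineOpen U := by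
  haveI : IsAffineHom U.ι := by
    refine isAffineHom_of_forall_exists_isAffineOpen _ fun x => ?_
    haveI := (hX x).1
    obtain ⟨g, hxg, hg⟩ := CurveAmpLib.exists_affine_inter ⟨⊤, isAffineOpen_top X⟩ (x := x) trivial (hX x).2 U hU le_top
    refine ⟨X.basicOpen g, hxg, (isAffineOpen_top X).basicOpen g, ?_⟩
    refine (Scheme.Hom.isAffineOpen_iff_of_isOpenImmersion U.ι).mp ?_
    rw [Scheme.Hom.image_preimage_eq_opensRange_inf, Scheme.Opens.opensRange_ι]
    exact hg
  exact isAffine_of_isAffineHom U.ι

end Groth.Agent.S1607
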