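import Groth.Statements.S16071
import Mathlib


-- import your own Groth.Agent.* helpers here

set_option autoImplicit false
universe u
open CartDual

namespace Groth.Agent.S16071

/-- Let p be a prime, R a commutative ring of characteristic p and A = R[X]/(X^p) the Hopf algebra of
α_p over Spec R, with X primitive. Then the Cartier dual of α_p is again α_p: there is a bialgebra
isomorphism e from the dual Hopf algebra Hom_R(A, R), with the transposed structure maps, to A,
whose inverse sends X to the linear form dual to X with respect to the basis 1, X, …, X^{p-1} of A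
(so e⁻¹(X) takes the value 1 on X and 0 on the other powers X^i, i < p). (Any commutative base ring
of characteristic p is allowed.) -/
theorem result (p : ℕ) [Fact p.Prime] (R : Type u) [CommRing R] [CharP R p] :
    ∃ e : CartDual.D R (AlphaP.A p R) ≃ₐc[R] AlphaP.A p R,
      ∀ i : ℕ, i < p → (e.symm (AlphaP.x p R)) (AlphaP.x p R ^ i) = if i = 1 then 1 else 0 := by
  classical
  have hp := (Fact.out : p.Prime)
  haveI : Nontrivial R := CharP.nontrivial_of_char_ne_one (R := R) hp.ne_one
  let b := AlphaP.basis p R
  let i1 : Fin p := ⟨1, hp.one_lt⟩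
  set x := AlphaP.x p R with hx
  have hpow : ∀ (i : Fin p) (m : ℕ), b.coord i (x ^ m) = if m = (i : ℕ) then 1 else 0 := by
    intro i m
    rcases lt_or_ge m p with hm | hm
    · rw [show x ^ m = b ⟨m, hm⟩ by simp [b, hx], Module.Basis.coord_apply, Module.Basis.repr_self,
        Finsupp.single_apply]
      simp [Fin.ext_iff]
    · rw [hx, AlphaP.x_pow_of_le p R hm, map_zero, if_neg]
      have := i.2; omega
  set y : CartDual.D R (AlphaP.A p R) := WithConv.toConv (b.coord i1) with hy
  have hy' : ∀ m : ℕ, y (x ^ m) = if m = 1 then 1 else 0 := fun m => hpow i1 m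
  have hε : ∀ m : ℕ, Coalgebra.counit (R := R) (x ^ m) = (if m = 0 then 1 else 0 : R) := by
    intro m
    rw [Bialgebra.counit_pow, hx, AlphaP.counit_x, zero_pow_eq]
  have hyk : ∀ k m : ℕ, m < p → (y ^ k) (x ^ m) = if m = k then (k.factorial : R) else 0 := by
    intro k
    induction k with
    | zero => intro m hm; simp [LinearMap.convOne_apply, hε]
    | succ k ih =>
      intro m hm
      rw [pow_succ, LinearMap.convMul_apply, Bialgebra.comul_pow, hx, AlphaP.comul_x,
        (Commute.all _ _).add_pow, map_sum, map_sum]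
      rw [Finset.sum_congr rfl fun j hj => show
          (LinearMap.mul' R R) (TensorProduct.map (y ^ k).ofConv y.ofConv
            ((AlphaP.x p R ⊗ₜ[R] (1 : AlphaP.A p R)) ^ j * ((1 : AlphaP.A p R) ⊗ₜ[R] AlphaP.x p R) ^ (m - j) *
              (m.choose j : TensorProduct R (AlphaP.A p R) (AlphaP.A p R)))) =
          if j = k ∧ m - j = 1 then (m.choose j : R) * (k.factorial : R) else 0 by
        rw [← nsmul_eq_mul', map_nsmul, map_nsmul, Algebra.TensorProduct.tmul_pow,
          Algebra.TensorProduct.tmul_pow, one_pow, one_pow, Algebra.TensorProduct.tmul_mul_tmul, mul_one,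
          one_mul, TensorProduct.map_tmul, LinearMap.mul'_apply, ← hx]
        show _ • ((y ^ k) (x ^ j) * y (x ^ (m - j))) = _
        rw [hy', ih j (lt_of_le_of_lt (Finset.mem_range_succ_iff.mp hj) hm)]
        split_ifs <;> first | omega | simp_all]
      split_ifs with hmk
      · subst hmk
        rw [Finset.sum_eq_single k]
        · rw [if_pos ⟨rfl, by omega⟩, Nat.choose_succ_self_right, Nat.factorial_succ]
          push_cast; ring
        · intro j _ hj; rw [if_neg (fun h => hj h.1)]
        · intro hn; exact absurd (Finset.mem_range.mpr (by omega)) hn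
      · refine Finset.sum_eq_zero fun j _ => if_neg ?_
        rintro ⟨rfl, h2⟩; omega
  have hext : ∀ f f' : CartDual.D R (AlphaP.A p R), (∀ i : Fin p, f (x ^ (i : ℕ)) = f' (x ^ (i : ℕ))) → f = f' := by
    intro f f' h
    exact WithConv.ext (b.ext fun i => by rw [show b i = x ^ (i : ℕ) by simp [b, hx]]; exact h i)
  have hyp : y ^ p = 0 := hext _ _ fun i => by
    rw [hyk p i i.2, if_neg (by have := i.2; omega)]; rfl
  let g₀ : AlphaP.A p R →ₐ[R] CartDual.D R (AlphaP.A p R) := AlphaP.lift p R y hyp
  have hg₀ : g₀ x = y := AlphaP.lift_x (p := p) y hyp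
  let g : AlphaP.A p R →ₐc[R] CartDual.D R (AlphaP.A p R) := BialgHom.ofAlgHom g₀
    (by
      refine AlphaP.algHom_ext ?_
      simp only [AlgHom.comp_apply, Bialgebra.counitAlgHom_apply, ← hx, hg₀]
      rw [CartDual.coalgebra_counit_apply, show (1 : AlphaP.A p R) = x ^ 0 from (pow_zero x).symm, hy', hx,
        AlphaP.counit_x]
      simp)
    (by
      refine AlphaP.algHom_ext ?_
      simp only [AlgHom.comp_apply, Bialgebra.comulAlgHom_apply, ← hx, hg₀]
      rw [hx, AlphaP.comul_x, map_add, Algebra.TensorProduct.map_tmul, Algebra.TensorProduct.map_tmul,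
        map_one, ← hx, hg₀]
      apply (CartDual.ev₂ R (AlphaP.A p R)).injective
      refine (b.tensorProduct b).ext fun ⟨i, j⟩ => ?_
      have hb : ∀ i, b i = x ^ (i : ℕ) := fun i => by simp [b, hx]
      rw [Module.Basis.tensorProduct_apply, hb, hb, map_add, LinearMap.add_apply,
        CartDual.ev₂_coalgebra_comul_tmul, CartDual.ev₂_tmul, CartDual.ev₂_tmul, ← pow_add]
      simp only [hy', LinearMap.convOne_apply, hε, Algebra.algebraMap_self, RingHom.id_apply]
      split_ifs <;> first | omega | simp)
  have hbij : Function.Bijective g := by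
    let w : Fin p → Rˣ := fun i => IsUnit.unit (show IsUnit ((i : ℕ).factorial : R) from
      (CharP.isUnit_natCast_iff (R := R) hp).mpr fun h => by
        have := (hp.dvd_factorial).mp h; have := i.2; omega)
    let B' := (b.dualBasis.map (CartDual.toDual R (AlphaP.A p R)).symm).unitsSMul w
    have hgB : (g : AlphaP.A p R →ₗ[R] CartDual.D R (AlphaP.A p R)) = (b.equiv B' (Equiv.refl _)).toLinearMap := by
      refine b.ext fun i => ?_
      simp only [LinearEquiv.coe_coe, Module.Basis.equiv_apply, Equiv.refl_apply]
      show g (b i) = B' i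
      rw [show b i = x ^ (i : ℕ) by simp [b, hx], map_pow, show g x = y from hg₀]
      refine hext _ _ fun j => ?_
      rw [hyk _ _ j.2]
      simp only [B', Module.Basis.unitsSMul_apply, Module.Basis.map_apply, Units.smul_def, w, IsUnit.unit_spec]
      show _ = ((i : ℕ).factorial : R) * (b.dualBasis i) (x ^ (j : ℕ))
      rw [show x ^ (j : ℕ) = b j by simp [b, hx], Module.Basis.dualBasis_apply_self]
      simp [Fin.val_inj]
    have : (g : AlphaP.A p R → CartDual.D R (AlphaP.A p R)) = b.equiv B' (Equiv.refl _) :=
      congrArg DFunLike.coe hgB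
    rw [this]
    exact LinearEquiv.bijective _
  refine ⟨(BialgEquiv.ofBijective g hbij).symm, fun i _ => ?_⟩
  show g x (x ^ i) = _
  rw [show g x = y from hg₀, hy']

end Groth.Agent.S16071
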