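import Groth.Statements.S16072
import Mathlib


-- import your own Groth.Agent.* helpers here

set_option autoImplicit false
universe u
open Hopf

namespace Groth.Agent.S16072

/-- Let p be a prime and R a commutative ring of characteristic p (p = 0 in R, R nonzero). Then the
constant group scheme ℤ/p and the group scheme μ_p of p-th roots of unity over Spec R are not
isomorphic: there is no R-bialgebra isomorphism between the Hopf algebra Maps(ℤ/p, R) of functions
on the cyclic group of order p and the group algebra R[ℤ/p]. (Any nonzero commutative base ring of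
characteristic p is allowed. The published statement allows any ring R with p·R = 0; over the zero
ring both Hopf algebras are the zero ring and hence isomorphic, so R is assumed nonzero here.) -/
theorem result (p : ℕ) [Fact p.Prime] (R : Type u) [CommRing R]
    [CharP R p] :
    IsEmpty (ConstGrp.F R (Multiplicative (ZMod p)) ≃ₐc[R] MonoidAlgebra R (Multiplicative (ZMod p))) := by
  refine ⟨fun e => ?_⟩
  have hp := (Fact.out : p.Prime)
  haveI : Nontrivial R := CharP.nontrivial_of_char_ne_one (R := R) hp.ne_one
  obtain ⟨m, hm⟩ := Ideal.exists_maximal R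
  letI : Field (R ⧸ m) := Ideal.Quotient.field m
  set ψ : Multiplicative (ZMod p) → (MonoidAlgebra R (Multiplicative (ZMod p)) →ₐ[R] R ⧸ m) := fun g =>
    ((Ideal.Quotient.mkₐ R m).comp (ConstGrp.ev R g)).comp e.toAlgEquiv.symm.toAlgHom with hψ
  have hp0 : (p : R ⧸ m) = 0 := by
    rw [← map_natCast (Ideal.Quotient.mk m), CharP.cast_eq_zero, map_zero]
  haveI : CharP (R ⧸ m) p := (CharP.charP_iff_prime_eq_zero hp).2 hp0
  haveI : ExpChar (R ⧸ m) p := ExpChar.prime hp
  have hone : ∀ g h, ψ g (MonoidAlgebra.of R _ h) = 1 := fun g h => by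
    apply frobenius_inj (R ⧸ m) p
    rw [frobenius_def, frobenius_def, one_pow, ← map_pow, ← map_pow]
    have hh : h ^ p = 1 := by
      rw [← toAdd_eq_zero, toAdd_pow, nsmul_eq_mul, ZMod.natCast_self, zero_mul]
    rw [hh, map_one, map_one]
  have hne : (Multiplicative.ofAdd (1 : ZMod p)) ≠ 1 := by simp
  have h1 : ψ 1 = ψ (Multiplicative.ofAdd 1) := MonoidAlgebra.algHom_ext (fun h => by
    rw [← MonoidAlgebra.of_apply, hone, hone]) (Algebra.ext_id _ _ _)
  have h2 := AlgHom.congr_fun h1 (e.toAlgEquiv (ConstGrp.e R 1))
  simp only [hψ, AlgHom.comp_apply, AlgEquiv.coe_toAlgHom, AlgEquiv.symm_apply_apply,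
    ConstGrp.ev_apply, ConstGrp.e_apply_self, map_one, ConstGrp.e_apply_of_ne hne, map_zero] at h2
  exact one_ne_zero h2

end Groth.Agent.S16072
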