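import Groth.Statements.S16073
import Mathlib


-- import your own Groth.Agent.* helpers here

set_option autoImplicit false
universe u
open Hopf

namespace Groth.Agent.S16073

/-- Let p be a prime and R a commutative ring of characteristic p (p = 0 in R, R nonzero). Then the
constant group scheme ℤ/p and α_p over Spec R are not isomorphic: there is no R-bialgebra
isomorphism between the Hopf algebra Maps(ℤ/p, R) of functions on the cyclic group of order p and
the Hopf algebra R[X]/(X^p) of α_p (X primitive). (Any nonzero commutative base ring of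
characteristic p is allowed. The published statement allows any ring R with p·R = 0; over the zero
ring both Hopf algebras are the zero ring and hence isomorphic, so R is assumed nonzero here.) -/
theorem result (p : ℕ) [Fact p.Prime] (R : Type u) [CommRing R] [CharP R p] :
    IsEmpty (ConstGrp.F R (Multiplicative (ZMod p)) ≃ₐc[R] AlphaP.A p R) := by
  refine ⟨fun e => ?_⟩
  haveI : Nontrivial R := CharP.nontrivial_of_char_ne_one (R := R) (Fact.out : p.Prime).ne_one
  obtain ⟨m, hm⟩ := Ideal.exists_maximal R
  letI : Field (R ⧸ m) := Ideal.Quotient.field m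
  set ψ : Multiplicative (ZMod p) → (AlphaP.A p R →ₐ[R] R ⧸ m) := fun g =>
    ((Ideal.Quotient.mkₐ R m).comp (ConstGrp.ev R g)).comp e.toAlgEquiv.symm.toAlgHom with hψ
  have hx : ∀ g, ψ g (AlphaP.x p R) = 0 := fun g => by
    refine (pow_eq_zero_iff (Fact.out : p.Prime).ne_zero).1 ?_
    rw [← map_pow, AlphaP.x_pow, map_zero]
  have hne : (Multiplicative.ofAdd (1 : ZMod p)) ≠ 1 := by simp
  have h1 : ψ 1 = ψ (Multiplicative.ofAdd 1) := AlphaP.algHom_ext (by rw [hx, hx])
  have h2 := AlgHom.congr_fun h1 (e.toAlgEquiv (ConstGrp.e R 1))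
  simp only [hψ, AlgHom.comp_apply, AlgEquiv.coe_toAlgHom, AlgEquiv.symm_apply_apply,
    ConstGrp.ev_apply, ConstGrp.e_apply_self, map_one, ConstGrp.e_apply_of_ne hne, map_zero] at h2
  exact one_ne_zero h2

end Groth.Agent.S16073
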