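import Groth.Statements.S16074
import Mathlib


-- import your own Groth.Agent.* helpers here

set_option autoImplicit false
universe u
open Hopf

namespace Groth.Agent.S16074

/-- Let p be a prime and R a commutative ring of characteristic p (p = 0 in R, R nonzero). Then μ_p and
α_p over Spec R are not isomorphic: there is no R-bialgebra isomorphism between the group algebra
R[ℤ/p] of the cyclic group of order p (group elements group-like) and the Hopf algebra R[X]/(X^p) of
α_p (X primitive), although the underlying R-algebras R[ℤ/p] = R[Y]/(Y^p) and R[X]/(X^p) are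
isomorphic. (Any nonzero commutative base ring of characteristic p is allowed. The published
statement allows any ring R with p·R = 0; over the zero ring both Hopf algebras are the zero ring
and hence isomorphic, so R is assumed nonzero here.) -/
theorem result (p : ℕ) [Fact p.Prime] (R : Type u) [CommRing R] [CharP R p] :
    IsEmpty (MonoidAlgebra R (Multiplicative (ZMod p)) ≃ₐc[R] AlphaP.A p R) := by
  classical
  refine ⟨fun e => ?_⟩
  have hp := (Fact.out : p.Prime)
  haveI : Nontrivial R := CharP.nontrivial_of_char_ne_one (R := R) hp.ne_one
  set z : MonoidAlgebra R (Multiplicative (ZMod p)) := e.symm (AlphaP.x p R) with hz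
  have hΔ : Coalgebra.comul (R := R) z = z ⊗ₜ[R] 1 + 1 ⊗ₜ[R] z := by
    rw [hz, ← CoalgHomClass.map_comp_comul_apply e.symm (AlphaP.x p R), AlphaP.comul_x, map_add,
      TensorProduct.map_tmul, TensorProduct.map_tmul]
    simp
  let cf : Multiplicative (ZMod p) → MonoidAlgebra R (Multiplicative (ZMod p)) →ₗ[R] R :=
    fun g => Finsupp.lapply g ∘ₗ (MonoidAlgebra.coeffLinearEquiv R).toLinearMap
  let pr : Multiplicative (ZMod p) → Multiplicative (ZMod p) →
      (TensorProduct R (MonoidAlgebra R (Multiplicative (ZMod p))) (MonoidAlgebra R (Multiplicative (ZMod p)))) →ₗ[R] R :=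
    fun g h => (TensorProduct.lid R R).toLinearMap ∘ₗ TensorProduct.map (cf g) (cf h)
  have hdiag : ∀ (g h : Multiplicative (ZMod p)) (u : MonoidAlgebra R (Multiplicative (ZMod p))),
      pr g h (Coalgebra.comul (R := R) u) = if g = h then u.coeff g else 0 := by
    intro g h u
    induction u using MonoidAlgebra.induction_linear with
    | zero => simp
    | add u v hu hv => rw [map_add, map_add, hu, hv]; split_ifs <;> simp
    | single a r =>
      rw [MonoidAlgebra.comul_single]
      simp only [CommSemiring.comul_apply, TensorProduct.map_tmul, pr, cf, LinearMap.comp_apply,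
        LinearEquiv.coe_coe]
      simp [Finsupp.single_apply]
      split_ifs <;> simp_all
  have hgh : ∀ g h : Multiplicative (ZMod p), (if g = h then z.coeff g else 0)
      = z.coeff g * (if h = 1 then 1 else 0) + (if g = 1 then 1 else 0) * z.coeff h := by
    intro g h
    rw [← hdiag g h z, hΔ]
    simp [pr, cf, MonoidAlgebra.one_def, Finsupp.single_apply, eq_comm]
  have hz1 : z.coeff 1 = 0 := by
    have := hgh 1 1
    simp at this
    exact this
  have hz0 : z = 0 := by
    ext g
    rcases eq_or_ne g 1 with rfl | hg
    · exact hz1
    · have := hgh g 1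
      simpa [hg] using this.symm
  have hx : AlphaP.x p R = 0 := by
    have := congrArg e hz0
    rwa [hz, map_zero, ← BialgEquiv.coe_toAlgEquiv, ← BialgEquiv.coe_toAlgEquiv,
      show e.symm.toAlgEquiv = e.toAlgEquiv.symm from rfl, AlgEquiv.apply_symm_apply] at this
  have := (AlphaP.basis p R).ne_zero ⟨1, hp.one_lt⟩
  simp [hx] at this

end Groth.Agent.S16074
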