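import Groth.Statements.S16075
import Mathlib


-- import your own Groth.Agent.* helpers here

set_option autoImplicit false
universe u
open Hopf

namespace Groth.Agent.S16075

/-- Let p be a prime, T a commutative ring of characteristic p (p = 0 in T, T nonzero) and A =
T[X]/(X^p) the Hopf algebra of α_p over Spec T, with X primitive. Then the endomorphisms of the
T-group α_{p,T} are exactly the scalings: every T-bialgebra endomorphism f of A has f(X) = λ·X for a
unique λ ∈ T, and for every λ ∈ T there is a T-bialgebra endomorphism f of A with f(X) = λ·X. So the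
endomorphisms of α_{p,T} correspond bijectively to the elements of T. (Only this bijection is
stated; that it turns addition and composition of endomorphisms into addition and multiplication in
T, and its naturality in T, are not stated here. The zero ring, allowed as T in the published
statement, is excluded by the characteristic hypothesis here.) -/
theorem result (p : ℕ) [Fact p.Prime] (T : Type u) [CommRing T] [CharP T p] :
    (∀ f : AlphaP.A p T →ₐc[T] AlphaP.A p T, ∃! c : T, f (AlphaP.x p T) = c • AlphaP.x p T) ∧
      (∀ c : T, ∃ f : AlphaP.A p T →ₐc[T] AlphaP.A p T, f (AlphaP.x p T) = c • AlphaP.x p T) := by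
  classical
  have hp := (Fact.out : p.Prime)
  haveI : Nontrivial T := CharP.nontrivial_of_char_ne_one (R := T) hp.ne_one
  let b := AlphaP.basis p T
  let i1 : Fin p := ⟨1, hp.one_lt⟩
  have hb1 : b i1 = AlphaP.x p T := by simp [b, i1]
  have hpow : ∀ (i : Fin p) (m : ℕ), m < p → b.coord i (AlphaP.x p T ^ m) = if m = (i : ℕ) then 1 else 0 := by
    intro i m hm
    rw [show AlphaP.x p T ^ m = b ⟨m, hm⟩ by simp [b], Module.Basis.coord_apply, Module.Basis.repr_self,
      Finsupp.single_apply]
    simp [Fin.ext_iff]
  refine ⟨fun f => ?_, fun c => ?_⟩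
  · refine ⟨b.coord i1 (f (AlphaP.x p T)), ?_, fun c hc => ?_⟩
    · set y := f (AlphaP.x p T) with hy
      have hΔ : Coalgebra.comul (R := T) y = y ⊗ₜ[T] 1 + 1 ⊗ₜ[T] y := by
        rw [hy, ← CoalgHomClass.map_comp_comul_apply f (AlphaP.x p T), AlphaP.comul_x, map_add,
          TensorProduct.map_tmul, TensorProduct.map_tmul]
        simp
      have hε : Coalgebra.counit (R := T) y = 0 := by
        rw [hy, CoalgHomClass.counit_comp_apply, AlphaP.counit_x]
      have hsum : y = ∑ k : Fin p, b.coord k y • AlphaP.x p T ^ (k : ℕ) := by
        conv_lhs => rw [← b.sum_repr y]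
        simp [b, Module.Basis.coord_apply]
      have hk : ∀ k : Fin p, (k : ℕ) ≠ 1 → b.coord k y = 0 := by
        intro k hk1
        rcases Nat.eq_zero_or_pos (k : ℕ) with hk0 | hk0
        · rw [hsum, map_sum, Finset.sum_eq_single k] at hε
          · simpa [hk0, Bialgebra.counit_one] using hε
          · intro l _ hl
            rw [map_smul, Bialgebra.counit_pow, AlphaP.counit_x, zero_pow (fun h => hl (Fin.ext (by omega))),
              smul_zero]
          · simp
        · let j : Fin p := ⟨(k : ℕ) - 1, by omega⟩
          let pr : TensorProduct T (AlphaP.A p T) (AlphaP.A p T) →ₗ[T] T :=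
            (TensorProduct.lid T T).toLinearMap ∘ₗ TensorProduct.map (b.coord i1) (b.coord j)
          have hpr : ∀ u v, pr (u ⊗ₜ[T] v) = b.coord i1 u * b.coord j v := by
            intro u v; simp [pr]
          have h := congrArg pr hΔ
          rw [map_add, hpr, hpr] at h
          have h10 : b.coord i1 (1 : AlphaP.A p T) = 0 := by
            simpa [i1] using hpow i1 0 hp.pos
          have hj0 : b.coord j (1 : AlphaP.A p T) = 0 := by
            have h0 := hpow j 0 hp.pos
            rw [pow_zero, if_neg (by show ¬ 0 = (k : ℕ) - 1; omega)] at h0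
            exact h0
          rw [h10, hj0, mul_zero, zero_mul, add_zero, hsum, map_sum, map_sum] at h
          have hterm : ∀ l : Fin p, pr (Coalgebra.comul (R := T) (b.coord l y • AlphaP.x p T ^ (l : ℕ))) =
              if l = k then ((k : ℕ) : T) * b.coord k y else 0 := by
            intro l
            rw [map_smul, map_smul, Bialgebra.comul_pow, AlphaP.comul_x,
              (Commute.all _ _).add_pow, map_sum, smul_eq_mul]
            rw [Finset.sum_congr rfl fun m hm => show pr ((AlphaP.x p T ⊗ₜ[T] (1 : AlphaP.A p T)) ^ m *
              ((1 : AlphaP.A p T) ⊗ₜ[T] AlphaP.x p T) ^ ((l : ℕ) - m) * ((l : ℕ).choose m : TensorProduct T (AlphaP.A p T) (AlphaP.A p T))) =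
                if m = 1 ∧ (l : ℕ) - m = (k : ℕ) - 1 then ((l : ℕ).choose m : T) else 0 by
              rw [← nsmul_eq_mul', map_nsmul, Algebra.TensorProduct.tmul_pow, Algebra.TensorProduct.tmul_pow,
                one_pow, one_pow, Algebra.TensorProduct.tmul_mul_tmul, mul_one, one_mul, hpr,
                hpow _ _ (lt_of_le_of_lt (Finset.mem_range_succ_iff.mp hm) l.2),
                hpow _ _ (lt_of_le_of_lt (Nat.sub_le _ _) l.2)]
              simp only [i1, j]
              split_ifs <;> first | omega | simp]
            split_ifs with hl
            · subst hl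
              rw [Finset.sum_eq_single 1]
              · simp [mul_comm]
              · intro m _ hm; rw [if_neg (fun h => hm h.1)]
              · intro hn; exact absurd (Finset.mem_range.mpr (by omega)) hn
            · rw [Finset.sum_eq_zero, mul_zero]
              intro m _
              rw [if_neg]
              rintro ⟨rfl, h2⟩
              exact hl (Fin.ext (by omega))
          rw [Finset.sum_congr rfl fun l _ => hterm l, Finset.sum_ite_eq', if_pos (Finset.mem_univ _)] at h
          refine (IsUnit.mul_right_eq_zero ?_).mp h
          exact (CharP.isUnit_natCast_iff (R := T) hp).mpr fun hd => absurd (Nat.le_of_dvd hk0 hd) (by omega)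
      show y = _
      refine hsum.trans ?_
      rw [Finset.sum_eq_single i1]
      · simp [i1, y]
      · intro l _ hl
        rw [hk l (fun h => hl (Fin.ext h)), zero_smul]
      · simp
    · rw [hc, ← hb1]; simp
  · refine ⟨BialgHom.ofAlgHom (AlphaP.lift p T (c • AlphaP.x p T)
      (by rw [smul_pow, AlphaP.x_pow, smul_zero])) ?_ ?_, ?_⟩
    · refine AlphaP.algHom_ext ?_
      simp [map_smul, AlphaP.counit_x]
    · refine AlphaP.algHom_ext ?_
      simp [map_smul, AlphaP.comul_x, TensorProduct.smul_tmul', TensorProduct.tmul_smul, smul_add]
    · exact AlphaP.lift_x (p := p) (c • AlphaP.x p T) (by rw [smul_pow, AlphaP.x_pow, smul_zero])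

end Groth.Agent.S16075
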