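import Groth.Statements.S16076
import Mathlib
import Mathlib
-- import your own Groth.Agent.* helpers here

set_option autoImplicit false
universe u
open scoped TensorProduct
open Versch

open scoped TensorProduct

namespace Groth.Agent.S16076

/-- Let p be a prime, R a commutative ring of characteristic p and A = R[X]/(X^p) the Hopf algebra of
α_p over Spec R, with X primitive. Let v : A → A ⊗_R R^(Frob) be the comorphism of the Verschiebung
V : α_p^(p) → α_p (the ring map whose transpose under the canonical pairing is the relative
Frobenius of the dual Hopf algebra Hom_R(A, R)). Then V is the trivial homomorphism: v is the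
composite of the counit ε : A → R, the identity of underlying rings R → R^(Frob) and the inclusion
of the twisted factor R^(Frob) → A ⊗_R R^(Frob), i.e. v(a) = 1 ⊗ ε(a). (Any commutative base ring of
characteristic p is allowed.) -/
theorem result (p : ℕ) [Fact p.Prime] (R : Type u) [CommRing R] [CharP R p]
    (v : AlphaP.A p R →+* FrobAlg.BaseChange p R (AlphaP.A p R))
    (hv : Versch.IsVerschiebung p R (AlphaP.A p R) v) :
    v = ((Algebra.TensorProduct.includeRight (R := R) (A := AlphaP.A p R) (B := FrobAlg.Twist p R)).toRingHom.comp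
          (FrobAlg.toTwist p R).toRingHom).comp (Bialgebra.counitAlgHom R (AlphaP.A p R)).toRingHom := by
  rw [Versch.isVerschiebung_iff] at hv
  have hp := (Fact.out : p.Prime)
  have h1 : ∀ (y : CartDual.D R (AlphaP.A p R)) (m : ℕ),
      (y ^ m).ofConv (1 : AlphaP.A p R) = (y.ofConv 1) ^ m := by
    intro y m
    induction m with
    | zero => simp [LinearMap.convOne_def, Bialgebra.counit_one]
    | succ m ih =>
      rw [pow_succ, pow_succ, LinearMap.convMul_apply, Bialgebra.comul_one, Algebra.TensorProduct.one_def,
        TensorProduct.map_tmul, LinearMap.mul'_apply, ih]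
  have hx : ∀ (y : CartDual.D R (AlphaP.A p R)) (m : ℕ),
      (y ^ (m + 1)).ofConv (AlphaP.x p R) = ((m + 1 : ℕ) : R) * (y.ofConv 1) ^ m * y.ofConv (AlphaP.x p R) := by
    intro y m
    induction m with
    | zero => simp
    | succ m ih =>
      rw [pow_succ y (m + 1), LinearMap.convMul_apply, AlphaP.comul_x, map_add, map_add, TensorProduct.map_tmul,
        TensorProduct.map_tmul, LinearMap.mul'_apply, LinearMap.mul'_apply, ih, h1]
      push_cast
      ring
  have hs : ∀ r : R, v (algebraMap R (AlphaP.A p R) r) = (1 : AlphaP.A p R) ⊗ₜ[R] FrobAlg.toTwist p R r := by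
    intro r
    refine Versch.evTw_injective p R _ fun y => ?_
    rw [hv, Versch.evTw_tmul', ← map_mul]
    congr 1
    rw [Algebra.algebraMap_eq_smul_one, CartDual.coe_apply, map_smul, smul_eq_mul, h1, mul_comm]
  have hv0 : v (AlphaP.x p R) = 0 := by
    refine Versch.evTw_injective p R _ fun y => ?_
    rw [hv, map_zero, CartDual.coe_apply]
    obtain ⟨m, hm⟩ := Nat.exists_eq_succ_of_ne_zero hp.ne_zero
    have h2 := hx y m
    rw [← Nat.succ_eq_add_one, ← hm, CharP.cast_eq_zero, zero_mul, zero_mul] at h2
    rw [h2, map_zero]
  apply RingHom.ext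
  intro a
  obtain ⟨f, rfl⟩ := AlphaP.mk_surjective p R a
  induction f using Polynomial.induction_on with
  | C r =>
    rw [show AlphaP.mk p R (Polynomial.C r) = algebraMap R (AlphaP.A p R) r from (AlphaP.mk p R).commutes r, hs]
    simp [Bialgebra.counitAlgHom_apply]
  | add f g hf hg => rw [map_add, map_add, map_add, hf, hg]
  | monomial n r _ =>
    rw [map_mul, map_pow, AlphaP.mk_X, pow_succ, ← mul_assoc, map_mul v, hv0, mul_zero]
    simp [Bialgebra.counitAlgHom_apply]

end Groth.Agent.S16076
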