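import Groth.Statements.S16077
import Mathlib.RingTheory.MvPolynomial.Ideal
import Mathlib.Algebra.CharP.Lemmas
import Mathlib.LinearAlgebra.Dimension.Constructions
import Mathlib.Data.Fintype.BigOperators
import Mathlib.Algebra.CharP.Algebra
-- import your own Groth.Agent.* helpers here

set_option autoImplicit false
universe u
open CAlg

namespace Groth.Agent.S16077

/-- Let k be a perfect field of characteristic p > 0 and let e_1, …, e_r ≥ 1 and f_1, …, f_s ≥ 1 be
natural numbers. If the k-algebras k[X_1, …, X_r]/(X_i^{p^{e_i}} : 1 ≤ i ≤ r) and k[X_1, …,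
X_s]/(X_j^{p^{f_j}} : 1 ≤ j ≤ s) are isomorphic, then r = s and (f_j) is a permutation of (e_i):
there is a bijection σ between the index sets with f_{σ(i)} = e_i. Such truncated polynomial
algebras are the coordinate rings of the connected finite k-group schemes, and the row says that the
number of variables and the exponents are invariants of the group, indeed of its algebra. (Only this
invariance is stated here; the existence of such a presentation for every connected finite k-group
is a separate statement.) -/
theorem result (p : ℕ) [Fact p.Prime] (k : Type u) [Field k]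
    [CharP k p] [PerfectField k] (r s : ℕ) (e : Fin r → ℕ) (f : Fin s → ℕ) (he : ∀ i, 1 ≤ e i) (hf : ∀ j, 1 ≤ f j)
    (φ : (MvPolynomial (Fin r) k ⧸ Ideal.span (Set.range fun i : Fin r => (MvPolynomial.X i : MvPolynomial (Fin r) k) ^ p ^ e i)) ≃ₐ[k]
      (MvPolynomial (Fin s) k ⧸ Ideal.span (Set.range fun j : Fin s => (MvPolynomial.X j : MvPolynomial (Fin s) k) ^ p ^ f j))) :
    ∃ σ : Fin r ≃ Fin s, ∀ i : Fin r, f (σ i) = e i := by
  classical
  have hp := (Fact.out : p.Prime)
  let I : ∀ {n : ℕ}, (Fin n → ℕ) → Ideal (MvPolynomial (Fin n) k) := fun {n} a =>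
    Ideal.span (Set.range fun i : Fin n => (MvPolynomial.X i : MvPolynomial (Fin n) k) ^ p ^ a i)
  have key : ∀ (n : ℕ) (a : Fin n → ℕ) (m : ℕ),
      Module.finrank k (Submodule.span k (Set.range fun g : MvPolynomial (Fin n) k ⧸ I a => g ^ p ^ m)) = p ^ ∑ i, (a i - m) := by
    intro n a m
    haveI : CharP (MvPolynomial (Fin n) k) p := charP_of_injective_algebraMap (MvPolynomial.C_injective _ _) p
    have hmem : ∀ x, x ∈ I a ↔ ∀ d ∈ x.support, ∃ i, Finsupp.single i (p ^ a i) ≤ d := by
      intro x
      have : I a = Ideal.span ((fun D => MvPolynomial.monomial D (1 : k)) '' Set.range fun i => Finsupp.single i (p ^ a i)) := by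
        simp only [I, ← Set.range_comp]
        congr 1; ext y; simp [MvPolynomial.X_pow_eq_monomial]
      rw [this, MvPolynomial.mem_ideal_span_monomial_image]
      simp
    let D : (Fin n → ℕ) → (Fin n →₀ ℕ) := fun d => Finsupp.equivFunOnFinite.symm fun i => p ^ m * d i
    let Bx : Finset (Fin n → ℕ) := Fintype.piFinset fun i => Finset.range (p ^ (a i - m))
    let v : Bx → MvPolynomial (Fin n) k ⧸ I a := fun d => Ideal.Quotient.mk _ (MvPolynomial.monomial (D d.1) 1)
    have hpow : ∀ d : Fin n → ℕ, (MvPolynomial.monomial (Finsupp.equivFunOnFinite.symm d) (1 : k)) ^ p ^ m = MvPolynomial.monomial (D d) 1 := by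
      intro d
      rw [MvPolynomial.monomial_pow, one_pow]
      rw [show p ^ m • Finsupp.equivFunOnFinite.symm d = D d by ext i; simp [D]]
    have hspan : Submodule.span k (Set.range fun g : MvPolynomial (Fin n) k ⧸ I a => g ^ p ^ m) = Submodule.span k (Set.range v) := by
      refine le_antisymm (Submodule.span_le.mpr ?_) (Submodule.span_le.mpr ?_)
      · rintro _ ⟨g, rfl⟩
        obtain ⟨g, rfl⟩ := Ideal.Quotient.mk_surjective g
        induction g using MvPolynomial.induction_on' with
        | monomial d c =>
          show (Ideal.Quotient.mk (I a) _) ^ p ^ m ∈ _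
          rw [← map_pow, MvPolynomial.monomial_pow, show p ^ m • d = D d by ext i; simp [D], show (c ^ p ^ m : k) = c ^ p ^ m • (1 : k) by simp, ← MvPolynomial.smul_monomial,
            ← Ideal.Quotient.mkₐ_eq_mk k, map_smul]
          by_cases hd : (d : Fin n → ℕ) ∈ Bx
          · exact Submodule.smul_mem _ _ (Submodule.subset_span ⟨⟨d, hd⟩, rfl⟩)
          · simp only [Bx, Fintype.mem_piFinset, Finset.mem_range, not_forall, not_lt] at hd
            obtain ⟨i, hi⟩ := hd
            have h0 : MvPolynomial.monomial (D d) (1 : k) ∈ I a := by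
              rw [hmem]
              intro d' hd'
              rw [Finset.mem_singleton.mp (MvPolynomial.support_monomial_subset hd')]
              refine ⟨i, Finsupp.single_le_iff.mpr ?_⟩
              calc p ^ a i ≤ p ^ (m + (a i - m)) := Nat.pow_le_pow_right hp.pos (by omega)
                _ = p ^ m * p ^ (a i - m) := pow_add _ _ _
                _ ≤ _ := by simpa [D] using Nat.mul_le_mul_left (p ^ m) hi
            rw [Ideal.Quotient.mkₐ_eq_mk, Ideal.Quotient.eq_zero_iff_mem.mpr h0, smul_zero]
            exact Submodule.zero_mem _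
        | add g h hg hh =>
          show (Ideal.Quotient.mk (I a) (g + h)) ^ p ^ m ∈ _
          rw [← map_pow, add_pow_char_pow, map_add, map_pow, map_pow]
          exact Submodule.add_mem _ hg hh
      · rintro _ ⟨d, rfl⟩
        exact Submodule.subset_span ⟨Ideal.Quotient.mk _ (MvPolynomial.monomial (Finsupp.equivFunOnFinite.symm d.1) 1), by simp only [v, ← map_pow, hpow]⟩
    have hindep : LinearIndependent k v := by
      rw [Fintype.linearIndependent_iff]
      intro c hc d₀
      have hx : ∑ d : Bx, c d • MvPolynomial.monomial (D d.1) (1 : k) ∈ I a := by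
        rw [← Ideal.Quotient.eq_zero_iff_mem, ← Ideal.Quotient.mkₐ_eq_mk k, map_sum]
        rw [← hc]
        simp [v]
      have hinj : ∀ d d' : Bx, D d.1 = D d'.1 → d = d' := fun d d' h => Subtype.ext (funext fun i => by
        have := Finsupp.ext_iff.mp h i
        simp only [D, Finsupp.equivFunOnFinite_symm_apply_apply] at this
        exact Nat.eq_of_mul_eq_mul_left (pow_pos hp.pos m) this)
      have hcoef : MvPolynomial.coeff (D d₀.1) (∑ d : Bx, c d • MvPolynomial.monomial (D d.1) (1 : k)) = c d₀ := by
        rw [MvPolynomial.coeff_sum, Finset.sum_eq_single d₀]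
        · simp
        · intro d _ hd; rw [MvPolynomial.coeff_smul, MvPolynomial.coeff_monomial, if_neg (fun h => hd (hinj d d₀ h)), smul_zero]
        · simp
      by_contra hne
      obtain ⟨i, hi⟩ := (hmem _).mp hx (D d₀.1) (MvPolynomial.mem_support_iff.mpr (hcoef ▸ hne))
      have h1 := Finsupp.single_le_iff.mp hi
      have h2 : d₀.1 i < p ^ (a i - m) := by
        have := Fintype.mem_piFinset.mp d₀.2 i
        simpa using this
      simp [D] at h1
      by_cases hai : m ≤ a i
      · have : p ^ m * d₀.1 i < p ^ m * p ^ (a i - m) := Nat.mul_lt_mul_of_pos_left h2 (pow_pos hp.pos m)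
        rw [← pow_add, Nat.add_sub_cancel' hai] at this
        omega
      · rw [Nat.sub_eq_zero_of_le (by omega), pow_zero, Nat.lt_one_iff] at h2
        rw [h2, mul_zero] at h1
        have := pow_pos hp.pos (a i)
        omega
    rw [hspan, finrank_span_eq_card hindep, Fintype.card_coe, Fintype.card_piFinset, ← Finset.prod_pow_eq_pow_sum]
    simp
  have hS : ∀ m, ∑ i, (e i - m) = ∑ j, (f j - m) := by
    intro m
    apply Nat.pow_right_injective hp.two_le
    show p ^ _ = p ^ _
    rw [← key r e m, ← key s f m]
    refine LinearEquiv.finrank_eq ((φ.toLinearEquiv.submoduleMap _).trans (LinearEquiv.ofEq _ _ ?_))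
    rw [Submodule.map_span]
    congr 1
    ext y
    constructor
    · rintro ⟨_, ⟨g, rfl⟩, rfl⟩; exact ⟨φ g, (map_pow φ g _).symm⟩
    · rintro ⟨g, rfl⟩; exact ⟨_, ⟨φ.symm g, rfl⟩, by show φ (φ.symm g ^ p ^ m) = _; rw [map_pow, φ.apply_symm_apply]⟩
  have step : ∀ (n : ℕ) (a : Fin n → ℕ) (m : ℕ),
      ∑ i, (a i - m) = ∑ i, (a i - (m + 1)) + (Finset.univ.filter fun i => m < a i).card := by
    intro n a m
    rw [Finset.card_filter, ← Finset.sum_add_distrib]
    exact Finset.sum_congr rfl fun i _ => by split_ifs <;> omega
  have hgt : ∀ m, (Finset.univ.filter fun i => m < e i).card = (Finset.univ.filter fun j => m < f j).card := fun m => by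
    have h1 := step r e m
    have h2 := step s f m
    have h3 := hS m
    have h4 := hS (m + 1)
    omega
  have hfib : ∀ (n : ℕ) (a : Fin n → ℕ) (c : ℕ), (Finset.univ.filter fun i => c < a i).card =
      (Finset.univ.filter fun i => c + 1 < a i).card + (Finset.univ.filter fun i => a i = c + 1).card := by
    intro n a c
    simp only [Finset.card_filter, ← Finset.sum_add_distrib]
    exact Finset.sum_congr rfl fun i _ => by split_ifs <;> omega
  have heq : ∀ c, Fintype.card {i // e i = c} = Fintype.card {j // f j = c} := by
    intro c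
    rw [Fintype.card_subtype, Fintype.card_subtype]
    rcases c with _ | c
    · rw [Finset.filter_false_of_mem (fun i _ => by have := he i; omega), Finset.filter_false_of_mem (fun j _ => by have := hf j; omega)]
      rfl
    · have h1 := hfib r e c
      have h2 := hfib s f c
      have h3 := hgt c
      have h4 := hgt (c + 1)
      omega
  let σ := Equiv.ofFiberEquiv (f := e) (g := f) fun c => Fintype.equivOfCardEq (heq c)
  exact ⟨σ, fun i => Equiv.ofFiberEquiv_map _ i⟩

end Groth.Agent.S16077
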