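import Groth.Statements.S16078
import Groth.Agent.HopfConnLib.Basic
import Mathlib.RingTheory.Flat.Stability
import Mathlib.RingTheory.RingHom.FaithfullyFlat
import Mathlib.RingTheory.Ideal.GoingUp
-- import your own Groth.Agent.* helpers here

set_option autoImplicit false
universe u
open scoped TensorProduct
open Hopf

namespace Groth.Agent.S16078

/-- Let R be a henselian Noetherian local ring, A and A'' commutative Hopf algebras over R which are
finite and flat as R-modules, and A'' → A an R-algebra homomorphism compatible with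
comultiplications and counits making A faithfully flat over A'' (a faithfully flat homomorphism π :
G → G'' of finite flat R-groups); let J ⊆ A be the ideal generated by the image of the augmentation
ideal of A'' (G' = Spec A/J = ker π, so that 1 → G' → G → G'' → 1 is exact). Let e ∈ A and e'' ∈ A''
be idempotents with ε(e) = 1, ε(e'') = 1 and A/(1 − e), A''/(1 − e'') local rings (the unit
components G⁰ and G''⁰), and let e' ∈ A be an element whose image in A/J is an idempotent, with
ε(e') = 1 and A/(J + (1 − e')) local (so G'⁰ = Spec (A/J)/(1 − e') is the unit component of G').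
Suppose g : A''/(1 − e'') → A/(1 − e) is the ring homomorphism induced by A'' → A (the restriction
π⁰ : G⁰ → G''⁰ of π, which exists because G⁰ is connected). Then g is faithfully flat, and e ≡ e'
modulo J, i.e. J + (1 − e) = J + (1 − e') and the kernel of π⁰, which is cut out in G⁰ by J, is
exactly G'⁰: the sequence 1 → G'⁰ → G⁰ → G''⁰ → 1 is exact. (The published statement also asserts
exactness of the maximal étale quotient G ↦ G^ét, not stated here.) -/
theorem result (R : Type u) [CommRing R] [HenselianLocalRing R]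
    [IsNoetherianRing R] (A A'' : Type u) [CommRing A] [HopfAlgebra R A] [Module.Finite R A] [Module.Flat R A]
    [CommRing A''] [HopfAlgebra R A''] [Module.Finite R A''] [Module.Flat R A'']
    [Algebra A'' A] [IsScalarTower R A'' A] [Module.FaithfullyFlat A'' A]
    (hΔ : (Bialgebra.comulAlgHom R A).comp (IsScalarTower.toAlgHom R A'' A) =
      (Algebra.TensorProduct.map (IsScalarTower.toAlgHom R A'' A) (IsScalarTower.toAlgHom R A'' A)).comp
        (Bialgebra.comulAlgHom R A''))
    (hε : (Bialgebra.counitAlgHom R A).comp (IsScalarTower.toAlgHom R A'' A) = Bialgebra.counitAlgHom R A'')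
    (e : A) (he : IsIdempotentElem e) (heε : Bialgebra.counitAlgHom R A e = 1)
    [IsLocalRing (A ⧸ Ideal.span ({1 - e} : Set A))]
    (e'' : A'') (he'' : IsIdempotentElem e'') (he''ε : Bialgebra.counitAlgHom R A'' e'' = 1)
    [IsLocalRing (A'' ⧸ Ideal.span ({1 - e''} : Set A''))]
    (e' : A) (he' : IsIdempotentElem (Ideal.Quotient.mk ((RingHom.ker (Bialgebra.counitAlgHom R A'')).map (algebraMap A'' A)) e'))
    (he'ε : Bialgebra.counitAlgHom R A e' = 1)
    [IsLocalRing (A ⧸ (((RingHom.ker (Bialgebra.counitAlgHom R A'')).map (algebraMap A'' A)) ⊔ Ideal.span ({1 - e'} : Set A)))]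
    (g : (A'' ⧸ Ideal.span ({1 - e''} : Set A'')) →+* (A ⧸ Ideal.span ({1 - e} : Set A)))
    (hg : g.comp (Ideal.Quotient.mk (Ideal.span ({1 - e''} : Set A''))) =
      (Ideal.Quotient.mk (Ideal.span ({1 - e} : Set A))).comp (algebraMap A'' A)) :
    g.FaithfullyFlat ∧
      Ideal.Quotient.mk ((RingHom.ker (Bialgebra.counitAlgHom R A'')).map (algebraMap A'' A)) e = Ideal.Quotient.mk ((RingHom.ker (Bialgebra.counitAlgHom R A'')).map (algebraMap A'' A)) e' := by
  let J : Ideal A := (RingHom.ker (Bialgebra.counitAlgHom R A'')).map (algebraMap A'' A)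
  let E : Ideal A := Ideal.span {1 - e}
  let E'' : Ideal A'' := Ideal.span {1 - e''}
  let ε := Bialgebra.counitAlgHom R A
  have hεφ : ∀ c : A'', ε (algebraMap A'' A c) = Bialgebra.counitAlgHom R A'' c := fun c =>
    AlgHom.congr_fun hε c
  refine ⟨?_, ?_⟩
  · letI : Algebra (A'' ⧸ E'') (A ⧸ E) := g.toAlgebra
    haveI : IsScalarTower A'' (A'' ⧸ E'') (A ⧸ E) :=
      IsScalarTower.of_algebraMap_eq fun c => (RingHom.congr_fun hg c).symm
    haveI : Module.Finite A'' A := Module.Finite.of_restrictScalars_finite R A'' A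
    haveI : Module.Finite A'' (A ⧸ E) :=
      Module.Finite.of_surjective (Ideal.Quotient.mkₐ A'' E).toLinearMap Ideal.Quotient.mk_surjective
    haveI : Module.Flat A'' (A ⧸ E) := by
      let s : A ⧸ E →ₗ[A''] A :=
        Submodule.liftQ (E.restrictScalars A'') (LinearMap.mulLeft A'' e) (fun a ha => by
          obtain ⟨c, rfl⟩ := Ideal.mem_span_singleton'.1 ha
          rw [LinearMap.mem_ker, LinearMap.mulLeft_apply, mul_left_comm, mul_sub, mul_one, he.eq, sub_self,
            mul_zero])
      refine Module.Flat.of_retract s (Ideal.Quotient.mkₐ A'' E).toLinearMap (LinearMap.ext fun z => ?_)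
      obtain ⟨a, rfl⟩ := Ideal.Quotient.mk_surjective z
      change Ideal.Quotient.mk E (e * a) = Ideal.Quotient.mk E a
      rw [Ideal.Quotient.eq, show e * a - a = -a * (1 - e) by ring]
      exact Ideal.mem_span_singleton'.2 ⟨-a, rfl⟩
    haveI : Module.Finite (A'' ⧸ E'') (A ⧸ E) := Module.Finite.of_restrictScalars_finite A'' _ _
    haveI : Module.Flat (A'' ⧸ E'') (A ⧸ E) := by
      let f : (A'' ⧸ E'') ⊗[A''] (A ⧸ E) ≃ₗ[A'' ⧸ E''] (A ⧸ E) :=
        LinearEquiv.ofBijective
          (LinearMap.liftBaseChange (A'' ⧸ E'') (LinearMap.id : (A ⧸ E) →ₗ[A''] (A ⧸ E)))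
          ⟨by
            intro x y hxy
            have hsurj : ∀ z : (A'' ⧸ E'') ⊗[A''] (A ⧸ E), ∃ m, z = 1 ⊗ₜ[A''] m := by
              intro z
              induction z using TensorProduct.induction_on with
              | zero => exact ⟨0, by simp⟩
              | tmul a m =>
                obtain ⟨a, rfl⟩ := Ideal.Quotient.mk_surjective a
                exact ⟨a • m, by rw [← TensorProduct.smul_tmul, Algebra.smul_def, mul_one]; rfl⟩
              | add x y hx hy =>
                obtain ⟨m, rfl⟩ := hx
                obtain ⟨m', rfl⟩ := hy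
                exact ⟨m + m', (TensorProduct.tmul_add _ _ _).symm⟩
            obtain ⟨m, rfl⟩ := hsurj x
            obtain ⟨m', rfl⟩ := hsurj y
            simp only [LinearMap.liftBaseChange_tmul, LinearMap.id_coe, id_eq, one_smul] at hxy
            rw [hxy], fun m => ⟨1 ⊗ₜ[A''] m, by simp⟩⟩
      exact Module.Flat.of_linearEquiv f.symm
    haveI : IsLocalHom (algebraMap (A'' ⧸ E'') (A ⧸ E)) := by
      haveI : Algebra.IsIntegral (A'' ⧸ E'') (A ⧸ E) := Algebra.IsIntegral.of_finite _ _
      refine (IsLocalRing.local_hom_TFAE _).out 0 4 |>.2 ?_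
      exact IsLocalRing.eq_maximalIdeal (Ideal.isMaximal_comap_of_isIntegral_of_isMaximal _)
    exact Module.FaithfullyFlat.of_flat_of_isLocalHom
  · haveI : IsLocalRing (A ⧸ J ⊔ Ideal.span ({1 - e'} : Set A)) := inferInstance
    have hJε : ∀ a ∈ J, ε a = 0 := fun a ha => RingHom.mem_ker.1
      ((Ideal.map_le_iff_le_comap.2 fun c hc => by
        rw [Ideal.mem_comap, RingHom.mem_ker, hεφ]
        exact hc : J ≤ RingHom.ker ε) ha)
    let q := Ideal.Quotient.mk J
    let εb : A ⧸ J →ₐ[R] R := Ideal.Quotient.liftₐ J ε hJε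
    have hloc : ∀ f : A, IsLocalRing (A ⧸ J ⊔ Ideal.span {1 - f}) →
        IsLocalRing ((A ⧸ J) ⧸ Ideal.span {1 - q f}) := by
      intro f hf
      have hmap : (Ideal.span {1 - f}).map q = Ideal.span {1 - q f} := by
        rw [Ideal.map_span, Set.image_singleton, map_sub, map_one]
      let i := (Ideal.quotEquivOfEq hmap.symm).trans (DoubleQuot.quotQuotEquivQuotSup J (Ideal.span {1 - f}))
      haveI := hf
      exact i.symm.isLocalRing
    refine HopfConnLib.idem_eq_of_local εb (he.map q) he' heε he'ε (hloc e ?_) (hloc e' inferInstance)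
    haveI : Nontrivial (A ⧸ J ⊔ E) := Ideal.Quotient.nontrivial_iff.2 fun h => by
      obtain ⟨u, hu, v, hv, huv⟩ := Submodule.mem_sup.1 (show (1 : A) ∈ J ⊔ E by rw [h]; trivial)
      obtain ⟨c, rfl⟩ := Ideal.mem_span_singleton'.1 hv
      have := congrArg ε huv
      rw [map_add, map_mul, map_sub, map_one, hJε u hu, show ε e = 1 from heε, sub_self, mul_zero, add_zero] at this
      exact zero_ne_one this
    exact IsLocalRing.of_surjective' (Ideal.Quotient.factor (le_sup_right : E ≤ J ⊔ E))
      (Ideal.Quotient.factor_surjective _)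

end Groth.Agent.S16078
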