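import Groth.Statements.S16079
import Groth.Agent.CartMuLib.Basic

set_option autoImplicit false
set_option backward.isDefEq.respectTransparency false
set_option backward.isDefEq.respectTransparency.types false
set_option maxRecDepth 8000
set_option maxHeartbeats 1000000
universe u
open scoped TensorProduct
open Hopf

namespace Groth.Agent.S16079

/-- Let R be a henselian Noetherian local ring, A and B commutative and cocommutative Hopf algebras over
R which are finitely generated and projective as R-modules (finite flat commutative R-groups G =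
Spec A and H = Spec B), and ψ : B → A an R-bialgebra homomorphism (a homomorphism φ : G → H). Let
e_A ∈ A be an idempotent with ε(e_A) = 1 such that (1 − e_A) is a Hopf ideal and A⁰ = A/(1 − e_A) is
local, R-projective and cocommutative (the unit component G⁰), and let e'_A be an idempotent of the
dual Hopf algebra Hom_R(A⁰, R) with ε(e'_A) = 1 and local quotient by (1 − e'_A) (the unit component
of the Cartier dual (G⁰)^D); similarly e_B, B⁰ = B/(1 − e_B) and e'_B for H. Call a linear form x on
A⁰ invariant when (id ⊗ multiplication by e'_A)(Δx) = x ⊗ e'_A, i.e. x is invariant under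
translation by the unit component of (G⁰)^D and so lies in the Hopf algebra of its étale quotient;
the elements of A⁰ annihilated by all invariant x form the ideal of G_μ ⊆ G⁰ ⊆ G, the largest
connected multiplicative closed subgroup of G; likewise for B and H_μ. Then the filtration G_μ ⊆ G⁰
⊆ G is respected by φ at the G_μ step: φ maps G_μ into H_μ, i.e. for every b ∈ B whose image in B⁰
is annihilated by all invariant linear forms on B⁰ (b in the ideal of H_μ), the image of ψ(b) in A⁰
is annihilated by all invariant linear forms on A⁰ (ψ(b) in the ideal of G_μ). (That φ maps G⁰ into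
H⁰ is the universal property of the unit component and is not restated.) -/
theorem result (R : Type u) [CommRing R]
    [HenselianLocalRing R] [IsNoetherianRing R] (A B : Type u) [CommRing A] [HopfAlgebra R A] [Coalgebra.IsCocomm R A]
    [Module.Finite R A] [Module.Projective R A] [CommRing B] [HopfAlgebra R B] [Coalgebra.IsCocomm R B]
    [Module.Finite R B] [Module.Projective R B] (ψ : B →ₐc[R] A)
    (eA : A) (heA : IsIdempotentElem eA) (heAε : Bialgebra.counitAlgHom R A eA = 1)
    [(Ideal.span ({1 - eA} : Set A)).IsHopfIdeal R] [IsLocalRing (A ⧸ Ideal.span ({1 - eA} : Set A))] [Module.Projective R (A ⧸ Ideal.span ({1 - eA} : Set A))] [Coalgebra.IsCocomm R (A ⧸ Ideal.span ({1 - eA} : Set A))]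
    (fA : CartDual.D R (A ⧸ Ideal.span ({1 - eA} : Set A))) (hfA : IsIdempotentElem fA)
    (hfAε : Bialgebra.counitAlgHom R (CartDual.D R (A ⧸ Ideal.span ({1 - eA} : Set A))) fA = 1)
    [IsLocalRing (CartDual.D R (A ⧸ Ideal.span ({1 - eA} : Set A)) ⧸ Ideal.span ({1 - fA} : Set (CartDual.D R (A ⧸ Ideal.span ({1 - eA} : Set A)))))]
    (eB : B) (heB : IsIdempotentElem eB) (heBε : Bialgebra.counitAlgHom R B eB = 1)
    [(Ideal.span ({1 - eB} : Set B)).IsHopfIdeal R] [IsLocalRing (B ⧸ Ideal.span ({1 - eB} : Set B))] [Module.Projective R (B ⧸ Ideal.span ({1 - eB} : Set B))] [Coalgebra.IsCocomm R (B ⧸ Ideal.span ({1 - eB} : Set B))]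
    (fB : CartDual.D R (B ⧸ Ideal.span ({1 - eB} : Set B))) (hfB : IsIdempotentElem fB)
    (hfBε : Bialgebra.counitAlgHom R (CartDual.D R (B ⧸ Ideal.span ({1 - eB} : Set B))) fB = 1)
    [IsLocalRing (CartDual.D R (B ⧸ Ideal.span ({1 - eB} : Set B)) ⧸ Ideal.span ({1 - fB} : Set (CartDual.D R (B ⧸ Ideal.span ({1 - eB} : Set B)))))]
    (b : B) (hb : ∀ y : CartDual.D R (B ⧸ Ideal.span ({1 - eB} : Set B)), LinearMap.lTensor (CartDual.D R (B ⧸ Ideal.span ({1 - eB} : Set B))) (LinearMap.mulLeft R fB) (Coalgebra.comul (R := R) y) = y ⊗ₜ[R] fB → y (Ideal.Quotient.mk (Ideal.span ({1 - eB} : Set B)) b) = 0)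
    (x : CartDual.D R (A ⧸ Ideal.span ({1 - eA} : Set A))) (hx : LinearMap.lTensor (CartDual.D R (A ⧸ Ideal.span ({1 - eA} : Set A))) (LinearMap.mulLeft R fA) (Coalgebra.comul (R := R) x) = x ⊗ₜ[R] fA) :
    x (Ideal.Quotient.mk (Ideal.span ({1 - eA} : Set A)) (ψ b)) = 0 := by
  classical
  haveI : Nontrivial R := inferInstance
  let qA : A →ₐc[R] A ⧸ Ideal.span ({1 - eA} : Set A) := Bialgebra.Quotient.mkBialgHom (R := R) _
  let qB : B →ₐc[R] B ⧸ Ideal.span ({1 - eB} : Set B) := Bialgebra.Quotient.mkBialgHom (R := R) _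
  have he1 : Ideal.Quotient.mk (Ideal.span ({1 - eA} : Set A)) (ψ eB) = 1 :=
    CartMuLib.eq_one_of_idem (A := B) (Q := A ⧸ Ideal.span ({1 - eA} : Set A)) (Bialgebra.counitAlgHom R (A ⧸ Ideal.span ({1 - eA} : Set A)))
      ((Ideal.Quotient.mkₐ R (Ideal.span ({1 - eA} : Set A))).comp (ψ : B →ₐ[R] A)) heB
      ((CartMuLib.counit_mk _ (ψ eB)).trans ((CoalgHomClass.counit_comp_apply ψ eB).trans heBε))
  obtain ⟨ψ0, hψ0⟩ := CartMuLib.exists_factor qB Ideal.Quotient.mk_surjective (qA.comp ψ) fun z hz => by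
    have hle : Ideal.span ({1 - eB} : Set B) ≤ RingHom.ker (qA.comp ψ : B →+* A ⧸ Ideal.span ({1 - eA} : Set A)) :=
      (Ideal.span_singleton_le_iff_mem _).2 (by
        rw [RingHom.mem_ker]
        show Ideal.Quotient.mk (Ideal.span ({1 - eA} : Set A)) (ψ (1 - eB)) = 0
        rw [map_sub, map_one, map_sub, map_one, he1, sub_self])
    exact hle (Ideal.Quotient.eq_zero_iff_mem.1 hz)
  set t := CartDual.transpose R ψ0
  set I := Ideal.span ({1 - fB} : Set (CartDual.D R (B ⧸ Ideal.span ({1 - eB} : Set B))))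
  let εQ := Ideal.Quotient.liftₐ I (Bialgebra.counitAlgHom R (CartDual.D R (B ⧸ Ideal.span ({1 - eB} : Set B)))) (fun z hz => by
    have hle : I ≤ RingHom.ker (Bialgebra.counitAlgHom R (CartDual.D R (B ⧸ Ideal.span ({1 - eB} : Set B)))) :=
      (Ideal.span_singleton_le_iff_mem _).2 (by rw [RingHom.mem_ker, map_sub, map_one, hfBε, sub_self])
    exact hle hz)
  have hf1 : Ideal.Quotient.mk I (t fA) = 1 := CartMuLib.eq_one_of_idem (A := CartDual.D R (A ⧸ Ideal.span ({1 - eA} : Set A))) (Q := CartDual.D R (B ⧸ Ideal.span ({1 - eB} : Set B)) ⧸ I) εQ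
    ((Ideal.Quotient.mkₐ R I).comp
      (t : CartDual.D R (A ⧸ Ideal.span ({1 - eA} : Set A)) →ₐ[R] CartDual.D R (B ⧸ Ideal.span ({1 - eB} : Set B)))) hfA
    ((CoalgHomClass.counit_comp_apply t fA).trans hfAε)
  have hfB' : fB * t fA = fB := by
    have h1 : (1 : CartDual.D R (B ⧸ Ideal.span ({1 - eB} : Set B))) - t fA ∈ I := by
      rw [← Ideal.Quotient.eq_zero_iff_mem, map_sub, map_one, hf1, sub_self]
    obtain ⟨c, hc⟩ := Ideal.mem_span_singleton'.1 h1
    have h2 : fB * (1 - t fA) = 0 := by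
      rw [← hc, mul_comm c, ← mul_assoc, mul_sub, mul_one, hfB.eq, sub_self, zero_mul]
    rw [mul_sub, mul_one, sub_eq_zero] at h2
    exact h2.symm
  have h1 := hb (t x) (CartMuLib.invariant_transpose ψ0 fA fB hfB' hx)
  rw [CartDual.transpose_apply, show ψ0 (Ideal.Quotient.mk _ b) = Ideal.Quotient.mk _ (ψ b) from hψ0 b] at h1
  exact h1

end Groth.Agent.S16079
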