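import Groth.Statements.S16081
import Groth.Agent.RefHullLib.RankOne

set_option autoImplicit false
universe u
open CategoryTheory CategoryTheory.Limits AlgebraicGeometry TopologicalSpace
open SDiv

namespace Groth.Agent.S16081

/-- Let X be an integral locally Noetherian scheme and F, G coherent O_X-modules with G reflexive. Then
the sheaf Hom 𝓗om_{O_X}(F, G) is reflexive: its canonical map into its reflexive hull is an
isomorphism. -/
theorem result (X : Scheme.{u}) [IsIntegral X] [IsLocallyNoetherian X] (F G : X.Modules)
    (hF : Coh.IsCoh F) (hG : Coh.IsCoh G) (hGr : RefHull.IsReflexive G) :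
    RefHull.IsReflexive (RefHull.homSh F G) := by
  rw [RefHullLib.isReflexive_iff (RefHullLib.isCoh_homSh hF hG)]
  intro x
  haveI := hG.1
  haveI := hF.1
  haveI := DepthLib.finite_stalk F hF.2 x
  haveI := DepthLib.finite_stalk G hG.2 x
  haveI : Module.IsReflexive (X.presheaf.stalk x) (G.presheaf.stalk x) :=
    (RefHullLib.isReflexive_iff hG).1 hGr x
  haveI := ReflexLib.isReflexive_hom (A := X.presheaf.stalk x) (M := F.presheaf.stalk x) (G.presheaf.stalk x)
  exact Module.equiv (LinearEquiv.ofBijective _
    (RefHullLib.evalStalk_bijective (G := G) (QCohLib.isFP_of_isCoh F hF) x)).symm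

end Groth.Agent.S16081
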