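import Groth.Statements.S16082
import Groth.Agent.CohCmpLib.HomMod
-- import your own Groth.Agent.* helpers here

set_option autoImplicit false
universe u
open CategoryTheory CategoryTheory.Limits AlgebraicGeometry TopologicalSpace
open SDiv
open ProjFormLib (ger res ger_res ger_smul exists_ger)

namespace Groth.Agent.S16082

/-- Let X be an integral scheme and F, G quasi-coherent O_X-modules with F of finite presentation and G
torsion free (every stalk G_x is a torsion-free module over the domain O_{X,x}). Then every stalk of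
the sheaf Hom 𝓗om_{O_X}(F, G) is torsion free as well. -/
theorem result (X : Scheme.{u}) [IsIntegral X] (F G : X.Modules) (hF : Coh.IsQCoh F)
    (hFp : CohB1.IsFP F) (hG : Coh.IsQCoh G) (hGt : TorSh.IsTorsionFree G) :
    TorSh.IsTorsionFree (RefHull.homSh F G) := by
  intro x
  refine ⟨fun r hr a b hab => ?_⟩
  rw [← sub_eq_zero]
  have h0 : r • (a - b) = 0 := by rw [smul_sub]; exact sub_eq_zero.mpr hab
  generalize a - b = c at h0
  obtain ⟨V₁, hx₁, g, rfl⟩ := exists_ger (RefHull.homSh F G) x c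
  obtain ⟨V₂, hx₂, t, rfl⟩ := X.presheaf.exists_germ_eq (x := x) r
  let V := V₁ ⊓ V₂
  let t' : Γ(X, V) := X.presheaf.map (homOfLE (inf_le_right : V ≤ V₂)).op t
  let g' : Γ(RefHull.homSh F G, V) := res _ (inf_le_left : V ≤ V₁) g
  have h1 : ger (RefHull.homSh F G) x (U := V) ⟨hx₁, hx₂⟩ (t' • g') =
      ger (RefHull.homSh F G) x (U := V) ⟨hx₁, hx₂⟩ (0 : Γ(RefHull.homSh F G, V)) := by
    rw [ger_smul, ger_res, TopCat.Presheaf.germ_res_apply, CohCmpLib.ger_zero]
    exact h0
  obtain ⟨W, hxW, i₁, i₂, hW⟩ := (RefHull.homSh F G).presheaf.germ_eq x _ _ _ _ h1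
  have hg : (RefHull.homSh F G).presheaf.map i₁.op g' = 0 := by
    refine Subtype.ext (funext fun y => ?_)
    have h2 := congrArg (fun s : Γ(RefHull.homSh F G, W) => s.1 y) (hW.trans (map_zero _))
    change X.presheaf.germ V y.1 (i₁.le y.2) t' • g'.1 ⟨y.1, i₁.le y.2⟩ = 0 at h2
    have hne : X.presheaf.germ V y.1 (i₁.le y.2) t' ≠ 0 := fun h3 => by
      haveI : Nonempty ↥V := ⟨⟨y.1, i₁.le y.2⟩⟩
      have h4 : t' = 0 := germ_injective_of_isIntegral X y.1 (i₁.le y.2) (h3.trans (map_zero _).symm)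
      have h5 : X.presheaf.germ V₂ x hx₂ t = 0 := by
        rw [← TopCat.Presheaf.germ_res_apply X.presheaf (homOfLE (inf_le_right : V ≤ V₂)) x ⟨hx₁, hx₂⟩ t]
        change X.presheaf.germ V x _ t' = 0
        rw [h4, map_zero]
      exact hr.ne_zero h5
    refine LinearMap.ext fun v => ?_
    exact (hGt y.1).isSMulRegular (isRegular_of_ne_zero hne)
      ((LinearMap.congr_fun h2 v).trans (smul_zero _).symm)
  have h6 : ger (RefHull.homSh F G) x hxW ((RefHull.homSh F G).presheaf.map i₁.op g') =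
      ger (RefHull.homSh F G) x hxW (0 : Γ(RefHull.homSh F G, W)) := congrArg _ hg
  rw [CohCmpLib.ger_zero] at h6
  rw [← ger_res (RefHull.homSh F G) (inf_le_left : V ≤ V₁) x ⟨hx₁, hx₂⟩ g,
    ← ger_res (RefHull.homSh F G) i₁.le x hxW]
  exact h6

end Groth.Agent.S16082
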