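import Groth.Statements.S16084
import Groth.Agent.Ref1Lib.Ops

set_option autoImplicit false
universe u
open CategoryTheory CategoryTheory.Limits AlgebraicGeometry TopologicalSpace
open SDiv

namespace Groth.Agent.S16084

/-- Let X be an integral locally Noetherian normal scheme, F a rank one coherent reflexive O_X-module
and s a nonzero global section of F. Let Z be the set of points x at which multiplication by the
germ of s, O_{X,x} → F_x, fails to be bijective (the complement of the open where s generates F).
Then every irreducible component of Z has codimension 1 in X: at each point z of Z to which no other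
point of Z specializes, the local ring O_{X,z} has dimension 1. -/
theorem result (X : Scheme.{u}) [IsIntegral X] [IsLocallyNoetherian X]
    (hX : Pi1.IsNormalScheme X) (F : X.Modules) (hF : RefHull.IsRef1 F) (s : Γ(F, ⊤)) (hs : s ≠ 0) (z : ↥X)
    (hz : ¬ Function.Bijective fun a : ↑(X.presheaf.stalk z) => a • F.presheaf.germ ⊤ z trivial s)
    (hmax : ∀ y : ↥X, ¬ Function.Bijective (fun a : ↑(X.presheaf.stalk y) => a • F.presheaf.germ ⊤ y trivial s) →
      y ⤳ z → y = z) :
    ringKrullDim ↑(X.presheaf.stalk z) = 1 := by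
  let η := genericPoint ↥X
  have hsη : F.presheaf.germ ⊤ η trivial s ≠ 0 := fun h => hs (RefHullLib.germ_ext F _ _ fun y hy =>
    Ref1Lib.spec_injective hF y ((Ref1Lib.spec_germ F hy s).trans
      (h.trans ((map_zero _).symm.trans (congrArg (Ref1Lib.spec F y) (map_zero _).symm)))))
  obtain ⟨v0, hv0⟩ := Ref1Lib.exists_gen_generic hF
  obtain ⟨p, hp⟩ := hv0.2 (F.presheaf.germ ⊤ η trivial s)
  have hp0 : p ≠ 0 := fun h => hsη (by rw [← hp, h]; exact zero_smul _ v0)
  have hinj : ∀ y : X, Function.Injective fun a : X.presheaf.stalk y => a • F.presheaf.germ ⊤ y trivial s :=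
    fun y a b h => by
      haveI := Ref1Lib.torsionFree_stalk hF y
      have h0 : F.presheaf.germ ⊤ y trivial s ≠ 0 := fun h0 => hsη (by
        rw [← Ref1Lib.spec_germ F (x := y) (U := ⊤) trivial s, h0]
        exact map_zero _)
      exact smul_left_injective _ h0 h
  have hbη : Function.Bijective fun a : X.presheaf.stalk η => a • F.presheaf.germ ⊤ η trivial s := by
    refine ⟨hinj η, fun w => ?_⟩
    obtain ⟨q, hq⟩ := hv0.2 w
    refine ⟨(show X.functionField from q) / (show X.functionField from p), ?_⟩
    rw [← hp, ← hq]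
    dsimp only
    rw [smul_smul]
    exact congrArg (fun c => c • v0) (div_mul_cancel₀ (show X.functionField from q) hp0)
  have hzη : z ≠ η := fun h => hz (by subst h; exact hbη)
  have hne0 : ringKrullDim (X.presheaf.stalk z) ≠ 0 := fun h => hzη (RefHullLib.eq_generic_of_dim_zero h)
  by_contra hne1
  have hz1 : Order.coheight z ≠ 1 := fun h => hne1 (by rw [ringKrullDim_stalk_eq_coheight, h]; rfl)
  refine hz ⟨hinj z, fun w => ?_⟩
  obtain ⟨c, hc⟩ := hbη.2 (Ref1Lib.spec F z w)
  have hreg : CDivCoreLib.Reg (c : X.functionField) z :=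
    CDivCoreLib.reg_of_coheight_one hX fun y hy hy1 => by
      have hby : Function.Bijective fun a : X.presheaf.stalk y => a • F.presheaf.germ ⊤ y trivial s := by
        by_contra hb
        exact hz1 (hmax y hb hy ▸ hy1)
      obtain ⟨a, ha⟩ := hby.2 ((F.presheaf.stalkSpecializes hy).hom w)
      refine ⟨a, hbη.1 ?_⟩
      show (algebraMap (X.presheaf.stalk y) X.functionField a : X.presheaf.stalk η) • F.presheaf.germ ⊤ η trivial s =
        c • F.presheaf.germ ⊤ η trivial s
      refine Eq.trans ?_ hc.symm
      rw [← Ref1Lib.spec_germ F (x := y) (U := ⊤) trivial s, ← Ref1Lib.spec_smul]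
      refine (congrArg (Ref1Lib.spec F y) ha).trans ?_
      obtain ⟨U, hU, m, rfl⟩ := F.presheaf.exists_germ_eq (x := z) w
      refine (congrArg (Ref1Lib.spec F y) (TopCat.Presheaf.germ_stalkSpecializes_apply F.presheaf hU hy m)).trans ?_
      rw [Ref1Lib.spec_germ, Ref1Lib.spec_germ]
  obtain ⟨a, ha⟩ := hreg
  refine ⟨a, Ref1Lib.spec_injective hF z ?_⟩
  dsimp only at hc ⊢
  rw [Ref1Lib.spec_smul, ha, Ref1Lib.spec_germ]
  exact hc

end Groth.Agent.S16084
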