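import Groth.Statements.S16085
import Groth.Agent.Ref1Lib.Divs

set_option autoImplicit false
universe u
open CategoryTheory CategoryTheory.Limits AlgebraicGeometry TopologicalSpace
open SDiv

namespace Groth.Agent.S16085

/-- Let X be an integral locally Noetherian normal scheme. Sending (F, G) to the reflexive hull (F
⊗_{O_X} G)^** makes the isomorphism classes of rank one coherent reflexive O_X-modules into an
abelian group: on that set there are a commutative and associative composition law, a neutral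
element and inverses, such that the product of the classes of F and G is the class of the reflexive
hull of F ⊗_{O_X} G, the neutral element is the class of O_X, and the inverse of the class of F is
the class of its dual 𝓗om_{O_X}(F, O_X). -/
theorem result (X : Scheme.{u}) [IsIntegral X] [IsLocallyNoetherian X] (hX : Pi1.IsNormalScheme X) :
    ∃ (mul : {c : PicF.Cl X // ∃ F : X.Modules, PicF.cl F = c ∧ RefHull.IsRef1 F} →
          {c : PicF.Cl X // ∃ F : X.Modules, PicF.cl F = c ∧ RefHull.IsRef1 F} →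
            {c : PicF.Cl X // ∃ F : X.Modules, PicF.cl F = c ∧ RefHull.IsRef1 F})
      (one : {c : PicF.Cl X // ∃ F : X.Modules, PicF.cl F = c ∧ RefHull.IsRef1 F})
      (inv : {c : PicF.Cl X // ∃ F : X.Modules, PicF.cl F = c ∧ RefHull.IsRef1 F} →
          {c : PicF.Cl X // ∃ F : X.Modules, PicF.cl F = c ∧ RefHull.IsRef1 F}),
      (∀ a b, mul a b = mul b a) ∧ (∀ a b c, mul (mul a b) c = mul a (mul b c)) ∧ (∀ a, mul one a = a) ∧
        (∀ a, mul (inv a) a = one) ∧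
        (∀ (F G : X.Modules) (hF : RefHull.IsRef1 F) (hG : RefHull.IsRef1 G),
          (mul ⟨PicF.cl F, F, rfl, hF⟩ ⟨PicF.cl G, G, rfl, hG⟩).1 = PicF.cl (RefHull.ddual (CohB1.tensorMod F G))) ∧
        one.1 = PicF.cl (Coh.structureModule X) ∧
        (∀ (F : X.Modules) (hF : RefHull.IsRef1 F), (inv ⟨PicF.cl F, F, rfl, hF⟩).1 = PicF.cl (RefHull.dual F)) := by
  classical
  let T := {c : PicF.Cl X // ∃ F : X.Modules, PicF.cl F = c ∧ RefHull.IsRef1 F}
  let rep : T → X.Modules := fun a => a.2.choose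
  have hrep : ∀ a : T, RefHull.IsRef1 (rep a) := fun a => a.2.choose_spec.2
  have hcl : ∀ a : T, PicF.cl (rep a) = a.1 := fun a => a.2.choose_spec.1
  have hiso : ∀ (a : T) (D : X → ℤ) (G : X.Modules), RefHull.IsRef1 G → Ref1Lib.HasDiv (rep a) D →
      Ref1Lib.HasDiv G D → a.1 = PicF.cl G := fun a D G hG h h' =>
    (hcl a).symm.trans (Quot.sound (Ref1Lib.nonempty_iso_of_hasDiv hX (hrep a) hG h h'))
  have hext : ∀ (a b : T) (D : X → ℤ), Ref1Lib.HasDiv (rep a) D → Ref1Lib.HasDiv (rep b) D → a = b :=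
    fun a b D h h' => Subtype.ext ((hiso a D _ (hrep b) h h').trans (hcl b))
  have hof : ∀ (F : X.Modules) (hF : RefHull.IsRef1 F) (D : X → ℤ), Ref1Lib.HasDiv F D →
      Ref1Lib.HasDiv (rep ⟨PicF.cl F, F, rfl, hF⟩) D := fun F hF D h => by
    have heq : Equivalence fun L L' : X.Modules => Nonempty (L ≅ L') :=
      ⟨fun L => ⟨Iso.refl L⟩, fun ⟨e⟩ => ⟨e.symm⟩, fun ⟨e⟩ ⟨e'⟩ => ⟨e ≪≫ e'⟩⟩
    obtain ⟨e⟩ := heq.eqvGen_iff.1 (Quot.eqvGen_exact (hcl ⟨PicF.cl F, F, rfl, hF⟩))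
    exact Ref1Lib.hasDiv_of_iso hX hF e.symm h
  let mul : T → T → T := fun a b => ⟨PicF.cl (RefHull.ddual (CohB1.tensorMod (rep a) (rep b))),
    _, rfl, Ref1Lib.isRef1_ddualTensor (hrep a) (hrep b)⟩
  let one : T := ⟨PicF.cl (Coh.structureModule X), _, rfl, Ref1Lib.isRef1_unit⟩
  let inv : T → T := fun a => ⟨PicF.cl (RefHull.dual (rep a)), _, rfl, Ref1Lib.isRef1_dual (hrep a)⟩
  have dmul : ∀ (a b : T) (D E : X → ℤ), Ref1Lib.HasDiv (rep a) D → Ref1Lib.HasDiv (rep b) E →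
      Ref1Lib.HasDiv (rep (mul a b)) (D + E) := fun a b D E h h' =>
    hof _ (Ref1Lib.isRef1_ddualTensor (hrep a) (hrep b)) _ (Ref1Lib.hasDiv_ddualTensor hX (hrep a) (hrep b) h h')
  have done : Ref1Lib.HasDiv (rep one) (fun _ => 0) := hof _ Ref1Lib.isRef1_unit _ Ref1Lib.hasDiv_unit
  have dinv : ∀ (a : T) (D : X → ℤ), Ref1Lib.HasDiv (rep a) D → Ref1Lib.HasDiv (rep (inv a)) (-D) :=
    fun a D h => hof _ (Ref1Lib.isRef1_dual (hrep a)) _ (Ref1Lib.hasDiv_dual hX (hrep a) h)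
  have dex : ∀ a : T, ∃ D, Ref1Lib.HasDiv (rep a) D := fun a => Ref1Lib.exists_hasDiv (hrep a)
  refine ⟨mul, one, inv, fun a b => ?_, fun a b c => ?_, fun a => ?_, fun a => ?_, fun F G hF hG => ?_, rfl,
    fun F hF => ?_⟩
  · obtain ⟨D, hD⟩ := dex a
    obtain ⟨E, hE⟩ := dex b
    exact hext _ _ _ (dmul a b D E hD hE) (add_comm E D ▸ dmul b a E D hE hD)
  · obtain ⟨D, hD⟩ := dex a
    obtain ⟨E, hE⟩ := dex b
    obtain ⟨G, hG⟩ := dex c
    exact hext _ _ _ (dmul _ _ _ _ (dmul a b D E hD hE) hG)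
      ((add_assoc D E G).symm ▸ dmul _ _ _ _ hD (dmul b c E G hE hG))
  · obtain ⟨D, hD⟩ := dex a
    exact hext _ _ _ (dmul _ _ _ _ done hD) (by rw [show (fun _ => (0 : ℤ)) + D = D from zero_add D]; exact hD)
  · obtain ⟨D, hD⟩ := dex a
    exact hext _ _ _ (dmul _ _ _ _ (dinv a D hD) hD) (by rw [neg_add_cancel]; exact done)
  · obtain ⟨D, hD⟩ := Ref1Lib.exists_hasDiv hF
    obtain ⟨E, hE⟩ := Ref1Lib.exists_hasDiv hG
    exact hiso _ _ _ (Ref1Lib.isRef1_ddualTensor hF hG)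
      (dmul _ _ _ _ (hof F hF D hD) (hof G hG E hE)) (Ref1Lib.hasDiv_ddualTensor hX hF hG hD hE)
  · obtain ⟨D, hD⟩ := Ref1Lib.exists_hasDiv hF
    exact hiso _ _ _ (Ref1Lib.isRef1_dual hF) (dinv _ _ (hof F hF D hD)) (Ref1Lib.hasDiv_dual hX hF hD)

end Groth.Agent.S16085
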