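import Groth.Statements.S16088
import Groth.Agent.IntMultLib.Cartier
import Groth.Agent.S2297
import Groth.Agent.RefHullLib.Coherent
import Groth.Agent.KFlatLib.AffinePull
import Groth.Agent.TwistLib.HomGlue

-- import your own Groth.Agent.* helpers here

set_option autoImplicit false
universe u
open CategoryTheory CategoryTheory.Limits AlgebraicGeometry TopologicalSpace
open SDiv

namespace Groth.Agent.S16088

open CategoryTheory AlgebraicGeometry TopologicalSpace Opposite in
open AmpleLib (GenAt GenOn res) in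
/-- The germ of `1`. -/
noncomputable abbrev one1 {X : Scheme.{u}} (y : X) : (Coh.structureModule X).presheaf.stalk y :=
  (Coh.structureModule X).presheaf.germ ⊤ y trivial (1 : Γ(X, ⊤))

open CategoryTheory AlgebraicGeometry TopologicalSpace Opposite in
open AmpleLib (GenAt GenOn res) in
theorem one1_inj {X : Scheme.{u}} (y : X) : Function.Bijective fun c : X.presheaf.stalk y => c • one1 y :=
  (AmpleLib.one_genOn (X := X) ⊤).genAt (x := y) trivial

open CategoryTheory AlgebraicGeometry TopologicalSpace Opposite in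
open AmpleLib (GenAt GenOn res) in
theorem smul_one1 {X : Scheme.{u}} {V : X.Opens} (r : Γ(X, V)) (y : X) (hy : y ∈ V) :
    X.presheaf.germ V y hy r • one1 y =
      (Coh.structureModule X).presheaf.germ V y hy (show Γ(Coh.structureModule X, V) from r) := by
  rw [one1, ← AmpleLib.germ_res (Coh.structureModule X) (le_top : V ≤ ⊤) (1 : Γ(X, ⊤)) hy, ← AmpleLib.germ_smul]
  refine congrArg _ ?_
  exact (congrArg (r * ·) (map_one (X.presheaf.map (homOfLE (le_top : V ≤ ⊤)).op).hom)).trans (mul_one r)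

open CategoryTheory AlgebraicGeometry TopologicalSpace Opposite in
open AmpleLib (GenAt GenOn res) in
theorem exists_dualGen {X : Scheme.{u}} {M : X.Modules} {U : X.Opens} {σ : Γ(M, U)} (hσ : GenOn M σ) :
    ∃ θ : Γ(RefHull.dual M, U), (∀ y (hy : y ∈ U), θ.1 ⟨y, hy⟩ (M.presheaf.germ U y hy σ) = one1 y) ∧
      GenOn (RefHull.dual M) θ := by
  have hq : QCohLib.GenOn M U (fun _ : PUnit.{u+1} => σ) := Groth.Agent.S2297.genOn_of_stalk M _ fun p hp v => by
    obtain ⟨c, hc⟩ := (hσ.genAt hp).2 v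
    exact hc ▸ Submodule.smul_mem _ _ (Submodule.subset_span ⟨PUnit.unit, rfl⟩)
  let one : Γ(Coh.structureModule X, U) :=
    (Coh.structureModule X).presheaf.map (homOfLE (le_top : U ≤ ⊤)).op (1 : Γ(X, ⊤))
  obtain ⟨θ, hθ⟩ := RefHullLib.exists_sec_of_values (G := Coh.structureModule X) hq (fun _ => one)
    fun y hy c hc => by
      rw [Fintype.sum_unique] at hc ⊢
      have h0 : c default = 0 := (hσ.genAt hy).1 (hc.trans (zero_smul (X.presheaf.stalk y) _).symm)
      rw [h0, zero_smul]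
  have hval : ∀ y (hy : y ∈ U), θ.1 ⟨y, hy⟩ (M.presheaf.germ U y hy σ) = one1 y := fun y hy => by
    rw [← RefHullLib.germ_app, hθ PUnit.unit]
    exact TopCat.Presheaf.germ_res_apply _ (homOfLE (le_top : U ≤ ⊤)) y hy _
  refine ⟨θ, hval, fun V hV => ⟨fun r r' h => ?_, fun t => ?_⟩⟩
  · refine TopCat.Presheaf.section_ext X.sheaf V r r' fun y hy => (one1_inj y).1 ?_
    have h1 := congrArg (fun g : Γ(RefHull.dual M, V) => g.1 ⟨y, hy⟩ (M.presheaf.germ U y (hV hy) σ)) h
    change (X.presheaf.germ V y hy r) • θ.1 ⟨y, hV hy⟩ _ = (X.presheaf.germ V y hy r') • θ.1 ⟨y, hV hy⟩ _ at h1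
    rw [hval] at h1
    exact h1
  · refine ⟨RefHullLib.app t (res M hV σ), RefHullLib.hom_sec_ext _ _ fun y => LinearMap.ext fun v => ?_⟩
    obtain ⟨c, rfl⟩ := (hσ.genAt (hV y.2)).2 v
    have h2 := RefHullLib.germ_app t (res M hV σ) y.1 y.2
    rw [AmpleLib.germ_res] at h2
    change (X.presheaf.germ V y.1 y.2 (RefHullLib.app t (res M hV σ))) • θ.1 ⟨y.1, hV y.2⟩ (c • _) = t.1 y (c • _)
    rw [map_smul, map_smul, hval, smul_comm, ← h2]
    exact congrArg (c • ·) (smul_one1 (RefHullLib.app t (res M hV σ) : Γ(X, V)) y.1 y.2)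

open CategoryTheory AlgebraicGeometry TopologicalSpace Opposite in
open AmpleLib (GenAt GenOn res) in
theorem dual_trans {X : Scheme.{u}} {M : X.Modules} {A B V : X.Opens} {σ : Γ(M, A)} {τ : Γ(M, B)}
    (hσ : GenOn M σ) (hA : V ≤ A) (hB : V ≤ B) {θ : Γ(RefHull.dual M, A)} {η : Γ(RefHull.dual M, B)}
    (hθ : ∀ y (hy : y ∈ A), θ.1 ⟨y, hy⟩ (M.presheaf.germ A y hy σ) = one1 y)
    (hη : ∀ y (hy : y ∈ B), η.1 ⟨y, hy⟩ (M.presheaf.germ B y hy τ) = one1 y)
    {r : Γ(X, V)} (hr : r • res M hA σ = res M hB τ) :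
    r • res (RefHull.dual M) hB η = res (RefHull.dual M) hA θ := by
  refine RefHullLib.hom_sec_ext _ _ fun y => LinearMap.ext fun v => ?_
  obtain ⟨c, rfl⟩ := (hσ.genAt (hA y.2)).2 v
  change (X.presheaf.germ V y.1 y.2 r) • η.1 ⟨y.1, hB y.2⟩ (c • _) = θ.1 ⟨y.1, hA y.2⟩ (c • _)
  rw [map_smul, map_smul, hθ, smul_comm, ← map_smul]
  refine congrArg (c • ·) (Eq.trans ?_ (hη y.1 (hB y.2)))
  have h1 := congrArg (M.presheaf.germ V y.1 y.2) hr
  rw [AmpleLib.germ_smul, AmpleLib.germ_res, AmpleLib.germ_res] at h1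
  rw [h1]

open CategoryTheory AlgebraicGeometry TopologicalSpace Opposite in
open AmpleLib (GenAt GenOn res) in
theorem puSec_res {X Y : Scheme.{u}} (f : X ⟶ Y) {M : Y.Modules} {U V : Y.Opens} (h : V ≤ U) (m : Γ(M, U)) :
    KFlatLib.puSec f (res M h m) = res (KFlatLib.pb f M) (show f ⁻¹ᵁ V ≤ f ⁻¹ᵁ U from fun _ hx => h hx) (KFlatLib.puSec f m) :=
  ConcreteCategory.congr_hom (((Scheme.Modules.pullbackPushforwardAdjunction f).unit.app M).mapPresheaf.naturality
    (homOfLE h).op) m

open CategoryTheory AlgebraicGeometry TopologicalSpace Opposite in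
open AmpleLib (GenAt GenOn res) in
theorem main {X Y : Scheme.{u}} (f : X ⟶ Y) {L : Y.Modules} (hL : PicF.IsInvertible L) :
    Nonempty (RefHull.dual ((Scheme.Modules.pullback f).obj L) ≅ (Scheme.Modules.pullback f).obj (RefHull.dual L)) := by
  choose U e hxU he using fun y : Y => TwistLib.exists_genOn hL y
  choose θ hθ hθg using fun y => exists_dualGen (he y)
  let P := KFlatLib.pb f L
  have hpe : ∀ y, GenOn P (KFlatLib.puSec f (e y)) := fun y => TwistLib.genOn_of_genAt fun x hx =>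
    TwistLib.GenAt.puSec f ((he y).genAt (show f x ∈ U y from hx))
  choose η hη hηg using fun y => exists_dualGen (hpe y)
  let D : X → X.Opens := fun x => f ⁻¹ᵁ U (f x)
  have hcov : ∀ x : X, ∃ a, x ∈ D a := fun x => ⟨x, hxU (f x)⟩
  let t : ∀ x, Γ(KFlatLib.pb f (RefHull.dual L), D x) := fun x => KFlatLib.puSec f (θ (f x))
  obtain ⟨β, hβ⟩ := TwistLib.exists_hom_of_gens D (fun x => η (f x)) t hcov (fun x => hηg (f x))
    fun a b V ha hb c hc => by
      let O := U (f a) ⊓ U (f b)
      have hVO : V ≤ f ⁻¹ᵁ O := fun x hx => ⟨ha hx, hb hx⟩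
      obtain ⟨r, hr⟩ := (he (f a) O inf_le_left).2 (res L (inf_le_right : O ≤ U (f b)) (e (f b)))
      dsimp only at hr
      let r' : Γ(X, V) := X.presheaf.map (homOfLE hVO).op (f.app O r)
      have h1 := congrArg (fun z => res (KFlatLib.pb f L) hVO (KFlatLib.puSec f z)) hr
      simp only [KFlatLib.puSec_smul, puSec_res, AmpleLib.res_smul, AmpleLib.res_res] at h1
      have h2 : r' • res (RefHull.dual P) hb (η (f b)) = res (RefHull.dual P) ha (η (f a)) :=
        dual_trans (hpe (f a)) ha hb (hη _) (hη _) h1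
      have h3 : r' • res (KFlatLib.pb f (RefHull.dual L)) hb (t b) = res _ ha (t a) := by
        have h4 := congrArg (fun z => res (KFlatLib.pb f (RefHull.dual L)) hVO (KFlatLib.puSec f z))
          (dual_trans (he (f a)) (inf_le_left : O ≤ U (f a)) inf_le_right (hθ _) (hθ _) hr)
        simp only [KFlatLib.puSec_smul, puSec_res, AmpleLib.res_smul, AmpleLib.res_res] at h4
        exact h4
      rw [← h2, smul_smul] at hc
      have h5 : c * r' = 1 := (hηg (f b) V hb).1 (hc.trans (one_smul _ _).symm)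
      rw [← h3, smul_smul, h5, one_smul]
  haveI := TwistLib.isIso_of_gen β fun x => ⟨D x, hxU (f x), η (f x), (hηg _).genAt _, by
    rw [hβ x]
    exact TwistLib.GenAt.puSec f ((hθg (f x)).genAt (hxU (f x)))⟩
  exact ⟨asIso β⟩


/-- Let S be a scheme, D ⊆ S an effective Cartier divisor with ideal sheaf 𝓓 and i : D ⟶ S its closed
immersion. The normal sheaf of D in S, the O_D-dual of the conormal sheaf i^*𝓓, is isomorphic to the
restriction i^*(O_S(D)) to D of O_S(D) = 𝓗om_{O_S}(𝓓, O_S), the dual of the invertible ideal 𝓓.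
Existence of an isomorphism of O_D-modules only; the canonical identification is not named here. -/
theorem result (S : Scheme.{u}) (𝓓 : S.IdealSheafData)
    (hD : BlowUp.IsEffCartierIdeal 𝓓) :
    Nonempty (RefHull.dual (Omega.conormal 𝓓.subschemeι) ≅
      (Scheme.Modules.pullback 𝓓.subschemeι).obj (RefHull.dual (ClSub.idealMod 𝓓))) := by
  have h := main 𝓓.subschemeι (IntMultLib.isInvertible_idealMod 𝓓 hD)
  rw [Omega.conormal, Scheme.IdealSheafData.ker_subschemeι]
  exact h


end Groth.Agent.S16088
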