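import Groth.Statements.S16089
import Groth.Agent.DetModLib.Main

set_option autoImplicit false
set_option linter.style.haveILetI false
universe u
open CategoryTheory CategoryTheory.Limits AlgebraicGeometry TopologicalSpace
open SDiv

namespace Groth.Agent.S16089

/-- Suppose X is an integral regular scheme (locally Noetherian, with every local ring regular) whose
dimension is at most 2. Consider an effective Cartier divisor D ⊆ X with ideal sheaf 𝓓, whose
associated closed subscheme is integral, and write i : D ⟶ X for the closed immersion. Take G to be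
a finite locally free O_D-module of rank s, and assume F ⟶ F' ⟶ i_*G ⟶ 0 is exact, where F and F'
are coherent O_X-modules that are both locally free of rank r on some common nonempty open subset.
Then, for any r-th exterior power L of F and L' of F', the reflexive hulls L^** and L'^** are
invertible O_X-modules, and there is an integer k with 0 ≤ k ≤ min(s, r) such that L'^** ≅ L^** ⊗
O_X(D)^{⊗ k}, where O_X(D) = 𝓗om(𝓓, O_X). Although the published version assumes X has dimension
exactly 2, the proof only needs dimension at most 2. -/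
theorem result (X : Scheme.{u}) [IsIntegral X] [IsLocallyNoetherian X]
    (hreg : ∀ x : ↥X, IsRegularLocalRing ↑(X.presheaf.stalk x)) (hdim : topologicalKrullDim ↥X ≤ 2)
    (𝓓 : X.IdealSheafData) (hD : BlowUp.IsEffCartierIdeal 𝓓) (hDi : IsIntegral 𝓓.subscheme) (s : ℕ)
    (G : (𝓓.subscheme).Modules) (hG : FlatMod.IsFinLocFreeOfRank s G) (F F' : X.Modules) (hF : Coh.IsCoh F)
    (hF' : Coh.IsCoh F') (a : F ⟶ F') (b : F' ⟶ (Scheme.Modules.pushforward 𝓓.subschemeι).obj G) (w : a ≫ b = 0)
    (hex : (ShortComplex.mk a b w).Exact) (hb : Epi b) (r : ℕ)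
    (hU : ∃ U : X.Opens, (U : Set ↥X).Nonempty ∧ FlatMod.IsFinLocFreeOfRank r (F.restrict U.ι) ∧
      FlatMod.IsFinLocFreeOfRank r (F'.restrict U.ι))
    (L L' : X.Modules) (hL : ExtPow.IsExtPow r F L) (hL' : ExtPow.IsExtPow r F' L') :
    PicF.IsInvertible (RefHull.ddual L) ∧ PicF.IsInvertible (RefHull.ddual L') ∧
      ∃ k : ℕ, k ≤ min s r ∧
        Nonempty (RefHull.ddual L' ≅
          CohB1.tensorMod (RefHull.ddual L) (CohB1.tensorPow (RefHull.dual (ClSub.idealMod 𝓓)) k)) := by
  classical
  haveI := hDi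
  have hX := DetModLib.isNormal_of_regular hreg
  obtain ⟨U, hne, hUF, hUF'⟩ := hU
  obtain ⟨hN, B, ν, hν0, hdν, hord⟩ :=
    DetModLib.exists_ddual_data hreg hF (DetModLib.nonempty_basis_generic U hne hUF) hL
  obtain ⟨hN', B', ν', hν0', hdν', hord'⟩ :=
    DetModLib.exists_ddual_data hreg hF' (DetModLib.nonempty_basis_generic U hne hUF') hL'
  refine ⟨hN, hN', ?_⟩
  haveI := hb
  have hst := fun x => DetModLib.stalk_exact a b w hex x
  have hPoff : ∀ x, x ∉ Set.range 𝓓.subschemeι →
      Subsingleton (((Scheme.Modules.pushforward 𝓓.subschemeι).obj G).presheaf.stalk x) := fun x hx =>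
    not_not.mp fun hs => hx (DevissLib.support_push_subset 𝓓.subschemeι G hs)
  let η := genericPoint X
  -- `a` is an isomorphism at the generic point
  let d := B'.det (fun j => RefHull.stalkMapₗ a η (B j))
  have hd : d ≠ 0 := by
    haveI := hPoff η (DetModLib.generic_notMem 𝓓 hD)
    have hspan : ⊤ ≤ Submodule.span (X.presheaf.stalk η) (Set.range fun j => RefHull.stalkMapₗ a η (B j)) := by
      intro v _
      obtain ⟨v₀, rfl⟩ := (hst η).2 v (Subsingleton.elim _ _)
      rw [← B.sum_repr v₀, map_sum]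
      exact Submodule.sum_mem _ fun j _ => by
        rw [map_smul]
        exact Submodule.smul_mem _ _ (Submodule.subset_span ⟨j, rfl⟩)
    have hli := linearIndependent_of_top_le_span_of_card_eq_finrank hspan
      (Module.finrank_eq_card_basis B').symm
    exact (B'.is_basis_iff_det.1 ⟨hli, eq_top_iff.2 hspan⟩).ne_zero
  -- the comparison at each point of codimension one
  let D₁ : X → ℤ := fun x => Cyc.secOrdAt (RefHull.ddual L) η x (RefHullLib.specializes_generic x)
    (Submodule.Quotient.mk ν)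
  let D₂ : X → ℤ := fun x => Cyc.secOrdAt (RefHull.ddual L') η x (RefHullLib.specializes_generic x)
    (Submodule.Quotient.mk (d • ν'))
  have hloc : ∀ x : X, Order.coheight x = 1 → ∃ n : ℕ, D₂ x = D₁ x + n ∧
      (x ≠ DetModLib.dlt 𝓓 → n = 0) ∧ n ≤ min s r := by
    intro x hx
    obtain ⟨m, hm0, hm⟩ := DetModLib.exists_lattice hX hF B hx
    obtain ⟨m', hm0', hm'⟩ := DetModLib.exists_lattice hX hF' B' hx
    obtain ⟨A, hA, g, hg⟩ := DetModLib.exists_matrix hX a B B' hd hx m hm0 hm m' hm0' hm'
      (RefHull.stalkMapₗ b x) (hst x).1 (hst x).2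
    refine ⟨(Module.length (X.presheaf.stalk x)
        ((Fin r → X.presheaf.stalk x) ⧸ LinearMap.range A.mulVecLin)).toNat, ?_, ?_, ?_⟩
    · have h1 := hord x hx m hm0 hm (1 : X.functionField) one_ne_zero
      have hone : Scheme.ord (1 : X.functionField) x = 0 := by
        simpa using Ref1Lib.units_spec hx (isUnit_one (M := X.presheaf.stalk x))
      rw [one_smul, hone] at h1
      show Cyc.secOrdAt _ _ _ _ _ = Cyc.secOrdAt _ _ _ _ _ + _
      rw [hord' x hx m' hm0' hm' d hd, h1]
      linarith
    · intro hne'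
      haveI := hPoff x (DetModLib.notMem_of_ne 𝓓 hD hx hne')
      haveI := hg.subsingleton
      rw [Module.length_eq_zero]
      rfl
    · by_cases hxd : x = DetModLib.dlt 𝓓
      · subst hxd
        obtain ⟨hlen, hkill⟩ := DetModLib.push_generic 𝓓 G hG
        haveI : (RingHom.ker (𝓓.subschemeι.stalkMap (genericPoint 𝓓.subscheme)).hom).IsMaximal :=
          RingHom.ker_isMaximal_of_surjective (K := 𝓓.subscheme.functionField) _
            (𝓓.subschemeι.stalkMap_surjective (genericPoint 𝓓.subscheme))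
        have h1 := (Module.length_le_of_surjective g hg).trans hlen.le
        have h2 := DetModLib.length_le_of_killed
          (RingHom.ker (𝓓.subschemeι.stalkMap (genericPoint 𝓓.subscheme)).hom)
          (LinearMap.range A.mulVecLin).mkQ (Submodule.mkQ_surjective _) fun c hc v => by
          obtain ⟨p, rfl⟩ := hg v
          rw [← map_smul, hkill c hc p, map_zero]
        exact le_min (ENat.toNat_le_of_le_coe h1) (ENat.toNat_le_of_le_coe h2)
      · haveI := hPoff x (DetModLib.notMem_of_ne 𝓓 hD hx hxd)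
        haveI := hg.subsingleton
        rw [Module.length_eq_zero]
        exact Nat.zero_le _
  obtain ⟨k, hk, hD₂⟩ : ∃ k : ℕ, k ≤ min s r ∧ ∀ x : X, Order.coheight x = 1 →
      D₂ x = D₁ x + if x = DetModLib.dlt 𝓓 then (k : ℤ) else 0 := by
    by_cases hδ : Order.coheight (DetModLib.dlt 𝓓) = 1
    · obtain ⟨k, h1, -, h3⟩ := hloc _ hδ
      refine ⟨k, h3, fun x hx => ?_⟩
      by_cases hxd : x = DetModLib.dlt 𝓓
      · rw [if_pos hxd, hxd, h1]
      · obtain ⟨n, h1', h2', -⟩ := hloc x hx
        rw [if_neg hxd, h1', h2' hxd, Nat.cast_zero]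
    · refine ⟨0, Nat.zero_le _, fun x hx => ?_⟩
      obtain ⟨n, h1', h2', -⟩ := hloc x hx
      have hxd : x ≠ DetModLib.dlt 𝓓 := fun h => hδ (h ▸ hx)
      rw [if_neg hxd, h1', h2' hxd, Nat.cast_zero]
  refine ⟨k, hk, ?_⟩
  obtain ⟨hTk, hTkD⟩ := DetModLib.tensorPow_dual 𝓓 hreg hD k
  have hN2 : Ref1Lib.HasDiv (RefHull.ddual L) D₁ := ⟨ν, hν0, fun x _ => rfl⟩
  have hN2' : Ref1Lib.HasDiv (RefHull.ddual L') D₂ := ⟨d • ν', hdν' d hd, fun x _ => rfl⟩
  obtain ⟨v, hv, hvD⟩ := DetModLib.hasDiv_tensor hX hN hTk hN2 hTkD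
  exact Ref1Lib.nonempty_iso_of_hasDiv hX (Ref1Lib.isRef1_of_invertible hN')
    (Ref1Lib.isRef1_of_invertible (HilbPolyLib.isInvertible_tensor hN hTk)) hN2'
    ⟨v, hv, fun x hx => (hvD x hx).trans (hD₂ x hx).symm⟩

end Groth.Agent.S16089
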