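import Groth.Statements.S16092
import Groth.Agent.Ref1Lib.Ops

set_option autoImplicit false
universe u
open CategoryTheory CategoryTheory.Limits AlgebraicGeometry TopologicalSpace
open SDiv

namespace Groth.Agent.S16092

/-- Let X be an integral scheme that is locally Noetherian, with generic point η, let L and N be
invertible O_X-modules and s ∈ L_η, t ∈ N_η nonzero rational sections, with orders ord_{x,L}(s),
ord_{x,N}(t) along the prime divisors, i.e. at the points x with dim O_{X,x} = 1, taken with respect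
to generators of the stalks. Then L ⊗_{O_X} N has a nonzero rational section w with ord_{x,L ⊗ N}(w)
= ord_{x,L}(s) + ord_{x,N}(t) at every such x; hence the Weil divisor class of L ⊗ N is the sum of
the classes of L and N. The published statement names w as the product s·t; here only the existence
of such a w is asserted. -/
theorem result (X : Scheme.{u}) [IsIntegral X] [IsLocallyNoetherian X] (L N : X.Modules)
    (hL : PicF.IsInvertible L) (hN : PicF.IsInvertible N) (s : Cyc.secFibre L (genericPoint ↥X)) (hs : s ≠ 0)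
    (t : Cyc.secFibre N (genericPoint ↥X)) (ht : t ≠ 0) :
    ∃ w : Cyc.secFibre (CohB1.tensorMod L N) (genericPoint ↥X), w ≠ 0 ∧
      ∀ (x : ↥X), ringKrullDim ↑(X.presheaf.stalk x) = 1 →
        Cyc.secOrdAt (CohB1.tensorMod L N) (genericPoint ↥X) x ((genericPoint_spec ↥X).specializes (Set.mem_univ x)) w =
          Cyc.secOrdAt L (genericPoint ↥X) x ((genericPoint_spec ↥X).specializes (Set.mem_univ x)) s +
            Cyc.secOrdAt N (genericPoint ↥X) x ((genericPoint_spec ↥X).specializes (Set.mem_univ x)) t := by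
  let η := genericPoint ↥X
  obtain ⟨v, rfl⟩ := Submodule.Quotient.mk_surjective _ s
  obtain ⟨w, rfl⟩ := Submodule.Quotient.mk_surjective _ t
  have hv : v ≠ 0 := fun h => hs (by rw [h]; rfl)
  have hw : w ≠ 0 := fun h => ht (by rw [h]; rfl)
  obtain ⟨U, a, hU, ha⟩ := TwistLib.exists_genOn hL η
  obtain ⟨V, b, hV, hb⟩ := TwistLib.exists_genOn hN η
  obtain ⟨p, rfl⟩ := (ha.genAt hU).2 v
  obtain ⟨q, rfl⟩ := (hb.genAt hV).2 w
  have hp : p ≠ 0 := fun h => hv (by simp only [h, zero_smul])
  have hq : q ≠ 0 := fun h => hw (by simp only [h, zero_smul])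
  let z := Ref1Lib.tp L N η (p • L.presheaf.germ U η hU a) (q • N.presheaf.germ V η hV b)
  have hz : z ≠ 0 := fun h0 => by
    have h1 : z = (p * q) • Ref1Lib.tp L N η _ _ := Ref1Lib.tp_smul_smul L N η p q _ _
    exact mul_ne_zero (M₀ := X.functionField) hp hq
      ((Ref1Lib.freeGen_tp (ha.genAt hU) (hb.genAt hV)).1 ((h1.symm.trans h0).trans (zero_smul _ _).symm))
  refine ⟨Submodule.Quotient.mk z, fun h => hz (Ref1Lib.mk_injective _ h), fun x hdim => ?_⟩
  rw [ringKrullDim_stalk_eq_coheight] at hdim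
  have hx : Order.coheight x = 1 := by exact_mod_cast hdim
  obtain ⟨U', a', hxU, ha'⟩ := TwistLib.exists_genOn hL x
  obtain ⟨V', b', hxV, hb'⟩ := TwistLib.exists_genOn hN x
  have ht1 := ha'.genAt hxU
  have ht2 := hb'.genAt hxV
  obtain ⟨φ, hφ⟩ := (ha'.genAt (RefHullLib.mem_of_nonempty hxU)).2 (p • L.presheaf.germ U η hU a)
  obtain ⟨ψ, hψ⟩ := (hb'.genAt (RefHullLib.mem_of_nonempty hxV)).2 (q • N.presheaf.germ V η hV b)
  have hφ0 : φ ≠ 0 := fun h => hv (hφ.symm.trans (by simp only [h, zero_smul]))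
  have hψ0 : ψ ≠ 0 := fun h => hw (hψ.symm.trans (by simp only [h, zero_smul]))
  have hφ' : p • L.presheaf.germ U η hU a = φ • Ref1Lib.spec L x (L.presheaf.germ U' x hxU a') := by
    rw [Ref1Lib.spec_germ]; exact hφ.symm
  have hψ' : q • N.presheaf.germ V η hV b = ψ • Ref1Lib.spec N x (N.presheaf.germ V' x hxV b') := by
    rw [Ref1Lib.spec_germ]; exact hψ.symm
  have hrel : z = (φ * ψ) • Ref1Lib.spec _ x (Ref1Lib.tp L N x (L.presheaf.germ U' x hxU a') (N.presheaf.germ V' x hxV b')) := by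
    rw [Ref1Lib.spec_tp, ← Ref1Lib.tp_smul_smul, ← hφ', ← hψ']
  rw [Ref1Lib.secOrdAt_free _ hx _ hz (Ref1Lib.freeGen_tp ht1 ht2) hrel,
    Ref1Lib.secOrdAt_free L hx _ hv ht1 hφ', Ref1Lib.secOrdAt_free N hx _ hw ht2 hψ']
  exact Scheme.ord_mul (X := X) hφ0 hψ0

end Groth.Agent.S16092
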