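import Groth.Statements.S16095
import Groth.Agent.BMLib.PtMap

set_option autoImplicit false
universe u
open CategoryTheory AlgebraicGeometry Opposite
open BMCoh

namespace Groth.Agent.S16095

/-- Let T be a pre-theory (the groups, proper push-forwards and residue maps of a twisted Borel–Moore
cohomology theory, with their conditions) with coefficients in A on a constructible class V of
Noetherian schemes, X an object, w a point of X, Y an integral object identified by e with the
normalisation of the reduced closure of w, and φ : Y → X the normalisation map followed by the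
inclusion of that closure, assumed proper (so that the normalisation map is finite). Let L be a
push-forward datum of groups of points along φ from the generic point of Y to w: maps H^i(η_Y, M(n))
→ H^i(w, M(n)) that, read through nonempty opens of the two reduced closures, are proper
push-forward along the restrictions of φ. Then each map L is bijective. (Only the push-forward
structure of T is used, so the result is stated for a pre-theory; properness of φ is a hypothesis,
automatic when the closure of w has finite normalisation.) -/
theorem result
    (V : ObjectProperty Scheme.{u}) [BMCoh.IsConstructible V] (R : Type u) [CommRing R]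
    (A : BMCoh.Coefs R) (T : BMCoh.PreTheory V R A) (X : BMCoh.Obj V) (w : X.scheme)
    [IsIntegral (X.ptSub w).scheme]
    [QuasiCompact ((X.ptSub w).scheme.fromSpecStalk (genericPoint (X.ptSub w).scheme))]
    [QuasiSeparated ((X.ptSub w).scheme.fromSpecStalk (genericPoint (X.ptSub w).scheme))]
    (Y : BMCoh.Obj V) [IsIntegral Y.scheme] (e : Y.scheme ≅ Curv2.normalization (X.ptSub w).scheme)
    (φ : Y.scheme ⟶ X.scheme) [IsProper φ]
    (hφ : φ = e.hom ≫ Curv2.normalizationι (X.ptSub w).scheme ≫ X.ptSubι w)
    (L : T.PtPush φ (genericPoint Y.scheme) w) (M : A.Cat) (i n : ℤ) :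
    Function.Bijective (L.cpt M i n).hom := by
  haveI : LocallyOfFiniteType
      ((X.ptSub w).scheme.fromSpecStalk (genericPoint (X.ptSub w).scheme)).fromNormalization := by
    haveI : LocallyOfFiniteType
        (Curv2.normalizationι (X.ptSub w).scheme ≫ X.ptSubι w) := by
      have h : Curv2.normalizationι (X.ptSub w).scheme ≫ X.ptSubι w = e.inv ≫ φ := by
        rw [hφ, Iso.inv_hom_id_assoc]
      rw [h]
      infer_instance
    exact locallyOfFiniteType_of_comp (Curv2.normalizationι (X.ptSub w).scheme) (X.ptSubι w)
  obtain ⟨U, hU, hiso⟩ := BMLib.exists_isIso_normalization (X₀ := (X.ptSub w).scheme)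
  haveI : AlgebraicGeometry.Surjective (Y.ptSubι (genericPoint Y.scheme)) := ⟨fun z => by
    have hz : z ∈ Set.range (Y.ptSubι (genericPoint Y.scheme)) := by
      rw [BMLib.range_ptSubι, (genericPoint_spec Y.scheme).def]
      trivial
    exact hz⟩
  haveI : IsIso (Y.ptSubι (genericPoint Y.scheme)) := isIso_of_isClosedImmersion_of_surjective _
  have hψ : BMLib.ptMap φ L.maps_pt =
      (Y.ptSubι (genericPoint Y.scheme) ≫ e.hom) ≫ Curv2.normalizationι (X.ptSub w).scheme := by
    rw [← cancel_mono (X.ptSubι w), BMLib.ptMap_ι, hφ]
    simp only [Category.assoc]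
  refine BMLib.cpt_bijective φ T L U ⟨_, hU⟩ ?_ M i n
  rw [hψ, morphismRestrict_comp]
  haveI : IsIso (Y.ptSubι (genericPoint Y.scheme) ≫ e.hom) := inferInstance
  haveI h1 : IsIso (Curv2.normalizationι (X.ptSub w).scheme ∣_ U) := hiso
  haveI h2 := (inferInstance : IsIso ((Y.ptSubι (genericPoint Y.scheme) ≫ e.hom) ∣_
    (Curv2.normalizationι (X.ptSub w).scheme ⁻¹ᵁ U)))
  exact IsIso.comp_isIso' h2 h1

end Groth.Agent.S16095
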