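import Groth.Statements.S16098
import Groth.Agent.AdFnApproxLib.Basic
import Groth.Agent.FFLib.DegOne

set_option autoImplicit false
universe u
open AdFn

namespace Groth.Agent.S16098

/-- Let `K/k` be a function field of one variable (every element having finitely many poles, so that the
diagonal `K → A_K` exists), `A_K = ∏'_v (K_v, O_v)` its adele ring over all places, and `S` a
nonempty set of places. (1) For every adele `a` some `f ∈ K` has `a_v - f ∈ O_v` at every place `v ∉
S`: `A_K` is the sum of the principal adeles and the adeles integral outside `S`. (2) An adele `b`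
with `b_v = 0` for `v ∉ S` is a principal adele plus an everywhere-integral adele exactly when some
`S`-integer `f ∈ K` has `b_v - f ∈ O_v` for every `v ∈ S`. (The published statement is for a curve
over an algebraically closed field, possibly singular; here it is stated for the places of a
function field `K/k` of one variable over any field `k` algebraically closed in `K`.) -/
theorem result (k K : Type u) [Field k] [Field K]
    [Algebra k K] (hK : FunFld.IsFunctionField k K) [AdFn.HasFinitePoles k K]
    (S : Set (FunFld.Place k K)) (hS : S.Nonempty) :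
    (∀ a : AdFn.AdeleRing k K, ∃ f : K, ∀ v : FunFld.Place k K, v ∉ S →
        AdFn.AdeleRing.proj v (a - AdFn.AdeleRing.diag f) ∈ AdFn.Ov v) ∧
    (∀ b : AdFn.AdeleRing k K, (∀ v : FunFld.Place k K, v ∉ S → AdFn.AdeleRing.proj v b = 0) →
        ((∃ f : K, ∀ v : FunFld.Place k K, AdFn.AdeleRing.proj v (b - AdFn.AdeleRing.diag f) ∈ AdFn.Ov v) ↔
          ∃ f ∈ AdFn.SInt S, ∀ v ∈ S, AdFn.AdeleRing.proj v b - AdFn.toKv v f ∈ AdFn.Ov v)) := by
  classical
  obtain ⟨P, hPS⟩ := hS
  refine ⟨fun a => ?_, fun b hb => ?_⟩
  · choose y hy using fun v => AdFnApproxLib.exists_sub_mem v (AdFn.AdeleRing.proj v a)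
    have hyA : y ∈ FunFld.adele k K := by
      rw [Groth.Agent.FFLib.mem_adele]
      refine a.2.mono fun v hv => ?_
      rw [← AdFn.toKv_mem_Ov]
      have := sub_mem (show AdFn.AdeleRing.proj v a ∈ AdFn.Ov v from hv) (hy v)
      rwa [sub_sub_cancel] at this
    obtain ⟨N, hN⟩ := Groth.Agent.FFLib.exists_delta_eq_genus hK
    have hd := Groth.Agent.FFLib.deg_pos hK P
    have hD := Groth.Agent.FFLib.adele_eq hK (Finsupp.single P (N.toNat : ℤ)) (hN _ (by
      rw [Groth.Agent.FFLib.deg_single]
      have : (N.toNat : ℤ) ≤ N.toNat * P.deg := le_mul_of_one_le_right (Int.natCast_nonneg _) (by omega)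
      omega))
    obtain ⟨c, hc, _, ⟨f, rfl⟩, he⟩ := Submodule.mem_sup.1 (hD.ge hyA)
    refine ⟨f, fun v hv => ?_⟩
    rw [map_sub, AdFn.AdeleRing.proj_diag]
    have hvP : v ≠ P := fun h => hv (h ▸ hPS)
    have hcv := hc v
    rw [Finsupp.single_eq_of_ne hvP] at hcv
    have hyv : c v + f = y v := congrFun he v
    have h3 : AdFn.toKv v (c v) ∈ AdFn.Ov v := (AdFn.toKv_mem_Ov v _).2 (by simpa using hcv)
    have h4 := add_mem (hy v) h3
    have e : AdFn.AdeleRing.proj v a - AdFn.toKv v f =
        (AdFn.AdeleRing.proj v a - AdFn.toKv v (y v)) + AdFn.toKv v (c v) := by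
      rw [← hyv, map_add]; abel
    rw [e]; exact h4
  · constructor
    · rintro ⟨f, hf⟩
      refine ⟨f, fun v hv => ?_, fun v _ => ?_⟩
      · have := hf v
        rw [map_sub, AdFn.AdeleRing.proj_diag, hb v hv, zero_sub, neg_mem_iff, AdFn.toKv_mem_Ov] at this
        exact this
      · have := hf v
        rwa [map_sub, AdFn.AdeleRing.proj_diag] at this
    · rintro ⟨f, hf, hS⟩
      refine ⟨f, fun v => ?_⟩
      rw [map_sub, AdFn.AdeleRing.proj_diag]
      by_cases hv : v ∈ S
      · exact hS v hv
      · rw [hb v hv, zero_sub, neg_mem_iff]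
        exact (AdFn.toKv_mem_Ov v f).2 (hf v hv)

end Groth.Agent.S16098
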