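import Groth.Statements.S16099
import Groth.Agent.FFLib.DegOne

set_option autoImplicit false
universe u
open FunFld

namespace Groth.Agent.S16099

/-- For a function field `K/k` of one variable of genus `g` and any place `P`, the `k`-space `K /
(O_{\{P\}} + O_P)` is finite-dimensional of dimension `g` (the number of Weierstrass gaps when `P`
is rational), where `O_{\{P\}}` is the ring of elements of `K` integral at every place other than
`P` and `O_P` is the valuation ring of `P` (written as the elements integral at every place outside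
the complement of `\{P\}`). (The published example is for a curve over an algebraically closed field
and is stated with completions at `P`; this is the equivalent form inside `K`, over any field `k`
algebraically closed in `K`.) -/
theorem result (k K : Type u) [Field k] [Field K]
    [Algebra k K] (hK : FunFld.IsFunctionField k K) (P : FunFld.Place k K) :
    FiniteDimensional k (K ⧸ (Subalgebra.toSubmodule (AdFn.SInt ({P} : Set (FunFld.Place k K))) ⊔
        Subalgebra.toSubmodule (AdFn.SInt (({P} : Set (FunFld.Place k K))ᶜ)))) ∧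
    Module.finrank k (K ⧸ (Subalgebra.toSubmodule (AdFn.SInt ({P} : Set (FunFld.Place k K))) ⊔
        Subalgebra.toSubmodule (AdFn.SInt (({P} : Set (FunFld.Place k K))ᶜ)))) = FunFld.genus k K := by
  classical
  obtain ⟨h1, h2⟩ := Groth.Agent.FFLib.finite_adele_quotient hK (0 : FunFld.Divisor k K)
  rw [Groth.Agent.FFLib.delta_zero hK, sub_zero] at h2
  have hs : ∀ y : K, (Pi.single P y : FunFld.Place k K → K) ∈ FunFld.adele k K := fun y => by
    rw [Groth.Agent.FFLib.mem_adele, Filter.eventually_cofinite]
    exact (Set.finite_singleton P).subset fun Q hQ => by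
      by_contra hne
      exact hQ (by rw [Pi.single_eq_of_ne hne, map_zero]; exact zero_le)
  let e : K →ₗ[k] ↥(FunFld.adele k K) :=
    { toFun := fun y => ⟨Pi.single P y, hs y⟩
      map_add' := fun x y => Subtype.ext (funext fun Q => by
        show Pi.single (M := fun _ : FunFld.Place k K => K) P (x + y) Q =
          Pi.single (M := fun _ : FunFld.Place k K => K) P x Q + Pi.single (M := fun _ : FunFld.Place k K => K) P y Q
        rcases eq_or_ne Q P with rfl | hQ
        · rw [Pi.single_eq_same, Pi.single_eq_same, Pi.single_eq_same]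
        · rw [Pi.single_eq_of_ne hQ, Pi.single_eq_of_ne hQ, Pi.single_eq_of_ne hQ, add_zero])
      map_smul' := fun c y => Subtype.ext (funext fun Q => by
        show Pi.single (M := fun _ : FunFld.Place k K => K) P (c • y) Q =
          c • Pi.single (M := fun _ : FunFld.Place k K => K) P y Q
        rcases eq_or_ne Q P with rfl | hQ
        · rw [Pi.single_eq_same, Pi.single_eq_same]
        · rw [Pi.single_eq_of_ne hQ, Pi.single_eq_of_ne hQ, smul_zero]) }
  let φ : K →ₗ[k] ↥(FunFld.adele k K) ⧸ FunFld.ADK (0 : FunFld.Divisor k K) :=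
    (FunFld.ADK (0 : FunFld.Divisor k K)).mkQ.comp e
  have hφ : Function.Surjective φ := by
    intro q
    obtain ⟨⟨a, ha⟩, rfl⟩ := Submodule.mkQ_surjective _ q
    obtain ⟨N, hN⟩ := Groth.Agent.FFLib.exists_delta_eq_genus hK
    have hd := Groth.Agent.FFLib.deg_pos hK P
    have hD := Groth.Agent.FFLib.adele_eq hK (Finsupp.single P (N.toNat : ℤ)) (hN _ (by
      rw [Groth.Agent.FFLib.deg_single]
      have : (N.toNat : ℤ) ≤ N.toNat * P.deg := le_mul_of_one_le_right (Int.natCast_nonneg _) (by omega)
      omega))
    obtain ⟨b, hb, c, hc, he⟩ := Submodule.mem_sup.1 (hD.ge ha)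
    refine ⟨b P, (Submodule.Quotient.eq _).2 (Groth.Agent.FFLib.mem_ADK.2 ?_)⟩
    show Pi.single (M := fun _ : FunFld.Place k K => K) P (b P) - a ∈ _
    rw [← he, ← sub_sub, sub_eq_add_neg _ c]
    refine Submodule.add_mem_sup (fun Q => ?_) (Submodule.neg_mem _ hc)
    rcases eq_or_ne Q P with rfl | hQ
    · simp
    · have := hb Q
      rw [Finsupp.single_eq_of_ne hQ] at this
      simpa [Pi.single_eq_of_ne hQ] using this
  have hker : LinearMap.ker φ = Subalgebra.toSubmodule (AdFn.SInt ({P} : Set (FunFld.Place k K))) ⊔
        Subalgebra.toSubmodule (AdFn.SInt (({P} : Set (FunFld.Place k K))ᶜ)) := by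
    ext y
    rw [LinearMap.mem_ker]
    rw [show φ y = (FunFld.ADK (0 : FunFld.Divisor k K)).mkQ (e y) from rfl]
    rw [Submodule.mkQ_apply, Submodule.Quotient.mk_eq_zero, Groth.Agent.FFLib.mem_ADK]
    show Pi.single (M := fun _ : FunFld.Place k K => K) P y ∈ _ ↔ _
    constructor
    · intro h
      obtain ⟨b, hb, _, ⟨z, rfl⟩, he⟩ := Submodule.mem_sup.1 h
      refine Submodule.mem_sup.2 ⟨z, fun Q hQ => ?_, y - z, fun Q hQ => ?_, add_sub_cancel z y⟩
      · have h0 : b Q + z = 0 := (congrFun he Q).trans (Pi.single_eq_of_ne hQ _)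
        rw [eq_neg_of_add_eq_zero_right h0, Valuation.map_neg]
        simpa using hb Q
      · rw [Set.mem_compl_iff, not_not, Set.mem_singleton_iff] at hQ
        subst hQ
        have h0 : b Q + z = y := (congrFun he Q).trans (Pi.single_eq_same _ _)
        rw [← h0, add_sub_cancel_right]
        simpa using hb Q
    · intro h
      obtain ⟨z, hz, w, hw, he⟩ := Submodule.mem_sup.1 h
      refine Submodule.mem_sup.2 ⟨Pi.single P y - (fun _ => z), fun Q => ?_, fun _ => z, ⟨z, rfl⟩,
        sub_add_cancel _ _⟩
      rcases eq_or_ne Q P with rfl | hQ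
      · rw [Pi.sub_apply, Pi.single_eq_same, ← he, add_sub_cancel_left]
        simpa using hw Q (by simp)
      · rw [Pi.sub_apply, Pi.single_eq_of_ne hQ, zero_sub, Valuation.map_neg]
        simpa using hz Q hQ
  rw [← hker]
  exact ⟨(φ.quotKerEquivOfSurjective hφ).symm.finiteDimensional,
    by rw [(φ.quotKerEquivOfSurjective hφ).finrank_eq]; exact_mod_cast h2⟩

end Groth.Agent.S16099
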