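import Groth.Statements.S16100
import Groth.Agent.AdFnApproxLib.Basic
import Groth.Agent.S16099

set_option autoImplicit false
universe u
open AdFn

namespace Groth.Agent.S16100

/-- For a function field `K/k` of one variable of genus `g` and any place `P` with completion `K_P` and
valuation ring `O_P ⊆ K_P`, the `k`-space `K_P / (O_{\{P\}} + O_P)`, where `O_{\{P\}} ⊆ K ⊆ K_P` is
the ring of elements of `K` integral at every place other than `P`, is finite-dimensional of
dimension `g` (the number of Weierstrass gaps when `P` is rational). (The published example is for a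
curve over an algebraically closed field; here any field `k` algebraically closed in `K` and any
place `P` are allowed.) -/
theorem result (k K : Type u) [Field k] [Field K]
    [Algebra k K] (hK : FunFld.IsFunctionField k K) (P : FunFld.Place k K) :
    FiniteDimensional k (AdFn.Kv P ⧸
        (Subalgebra.toSubmodule ((AdFn.SInt ({P} : Set (FunFld.Place k K))).map
            (IsScalarTower.toAlgHom k K (AdFn.Kv P))) ⊔
          Submodule.span k (AdFn.Ov P : Set (AdFn.Kv P)))) ∧
    Module.finrank k (AdFn.Kv P ⧸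
        (Subalgebra.toSubmodule ((AdFn.SInt ({P} : Set (FunFld.Place k K))).map
            (IsScalarTower.toAlgHom k K (AdFn.Kv P))) ⊔
          Submodule.span k (AdFn.Ov P : Set (AdFn.Kv P)))) = FunFld.genus k K := by
  classical
  obtain ⟨h1, h2⟩ := Groth.Agent.S16099.result k K hK P
  let Tp : Submodule k (AdFn.Kv P) := Subalgebra.toSubmodule ((AdFn.SInt ({P} : Set (FunFld.Place k K))).map
            (IsScalarTower.toAlgHom k K (AdFn.Kv P))) ⊔ Submodule.span k (AdFn.Ov P : Set (AdFn.Kv P))
  let ψ : K →ₗ[k] AdFn.Kv P ⧸ Tp := Tp.mkQ.comp (IsScalarTower.toAlgHom k K (AdFn.Kv P)).toLinearMap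
  have hψ : Function.Surjective ψ := fun q => by
    obtain ⟨x, rfl⟩ := Submodule.mkQ_surjective _ q
    obtain ⟨y, hy⟩ := AdFnApproxLib.exists_sub_mem P x
    refine ⟨y, ((Submodule.Quotient.eq _).2 ?_).symm⟩
    exact Submodule.mem_sup_right (Submodule.subset_span hy)
  have hker : LinearMap.ker ψ = Subalgebra.toSubmodule (AdFn.SInt ({P} : Set (FunFld.Place k K))) ⊔
        Subalgebra.toSubmodule (AdFn.SInt (({P} : Set (FunFld.Place k K))ᶜ)) := by
    ext y
    rw [LinearMap.mem_ker, show ψ y = Tp.mkQ (AdFn.toKv P y) from rfl, Submodule.mkQ_apply,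
      Submodule.Quotient.mk_eq_zero]
    constructor
    · intro h
      obtain ⟨_, ⟨z, hz, rfl⟩, w, hw, he⟩ := Submodule.mem_sup.1 h
      refine Submodule.mem_sup.2 ⟨z, hz, y - z, fun Q hQ => ?_, add_sub_cancel z y⟩
      rw [Set.mem_compl_iff, not_not, Set.mem_singleton_iff] at hQ
      subst hQ
      rw [← AdFn.toKv_mem_Ov, map_sub, ← he]
      change (AdFn.toKv Q z + w) - AdFn.toKv Q z ∈ AdFn.Ov Q
      rw [add_sub_cancel_left]
      exact AdFnApproxLib.mem_span_Ov Q hw
    · intro h
      obtain ⟨z, hz, w, hw, rfl⟩ := Submodule.mem_sup.1 h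
      rw [map_add]
      exact Submodule.add_mem_sup ⟨z, hz, rfl⟩ (Submodule.subset_span ((AdFn.toKv_mem_Ov P w).2 (hw P (by simp))))
  rw [← hker] at h1 h2
  exact ⟨(ψ.quotKerEquivOfSurjective hψ).finiteDimensional,
    (ψ.quotKerEquivOfSurjective hψ).finrank_eq.symm.trans h2⟩

end Groth.Agent.S16100
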