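import Groth.Statements.S16106
import Groth.Agent.ApproxLib.ColimFP
import Groth.Agent.ApproxLib.EtaleHom

set_option autoImplicit false
universe u
open CategoryTheory CategoryTheory.Limits
open LunaSt

namespace Groth.Agent.S16106

/-- Local form. Let A be a local G-ring, that is a Noetherian local ring all of whose local rings have
regular completion maps (for instance an excellent local ring), with maximal ideal m and m-adic
completion Â. Let F be a functor from A-algebras (commutative rings under A) to sets preserving
filtered colimits, let ξ ∈ F(Â) and N ≥ 0. Then there exist an étale A-algebra A′, a map of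
A-algebras φ : A′ → A/m^(N+1) (an étale neighbourhood of the closed point with trivial residue field
extension) and ξ′ ∈ F(A′) such that ξ′ and ξ have the same image in F(A/m^(N+1)); here π is the
A-algebra map Â → A/m^(N+1), pinned by its underlying ring map. (The published statement is for any
point of the spectrum of a G-ring, with a functor locally of finite presentation on all schemes over
it; its proof first localizes at the point, and only the values of the functor on affine schemes
enter, so the row states this local form for a functor on A-algebras preserving filtered colimits.) -/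
theorem result (A : Type u) [CommRing A] [IsLocalRing A]
    (hG : CAlg.IsGRing A)
    (F : Under (CommRingCat.of A) ⥤ Type u)
    (hF : ∀ (J : Type u) [SmallCategory J] [IsFiltered J], PreservesColimitsOfShape J F)
    (N : ℕ)
    (π : Under.mk (CommRingCat.ofHom (algebraMap A
        (AdicCompletion (IsLocalRing.maximalIdeal A) A))) ⟶
      Under.mk (CommRingCat.ofHom (algebraMap A (A ⧸ IsLocalRing.maximalIdeal A ^ (N + 1)))))
    (hπ : π.right = CommRingCat.ofHom
      (AdicCompletion.evalₐ (IsLocalRing.maximalIdeal A) (N + 1) :
        AdicCompletion (IsLocalRing.maximalIdeal A) A →ₐ[A]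
          A ⧸ IsLocalRing.maximalIdeal A ^ (N + 1)).toRingHom)
    (ξ : F.obj (Under.mk (CommRingCat.ofHom (algebraMap A
        (AdicCompletion (IsLocalRing.maximalIdeal A) A))))) :
    ∃ (A' : Type u) (_ : CommRing A') (_ : Algebra A A') (_ : Algebra.Etale A A')
      (φ : Under.mk (CommRingCat.ofHom (algebraMap A A')) ⟶
        Under.mk (CommRingCat.ofHom (algebraMap A (A ⧸ IsLocalRing.maximalIdeal A ^ (N + 1)))))
      (ξ' : F.obj (Under.mk (CommRingCat.ofHom (algebraMap A A')))),
      F.map φ ξ' = F.map π ξ := by
  have hR : IsNoetherianRing A := hG.1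
  let I := IsLocalRing.maximalIdeal A
  let T := AdicCompletion I A
  have hfg : I.FG := IsNoetherian.noetherian I
  have : IsNoetherianRing T := AdicRingLib.isNoetherianRing_adicCompletion I
  have hmT : IsLocalRing.maximalIdeal T = I.map (algebraMap A T) := AdicCompletion.maximalIdeal_eq_map
  have hind : Smoothing.IndSmooth A T :=
    TransLib.indSmooth_of_isRegularHom (TransLib.isRegularHom_completion_of_isGRing hG)
  have hdense : ∀ (y : T) (k : ℕ), ∃ r s : A, IsUnit (algebraMap A T s) ∧
      algebraMap A T s * y - algebraMap A T r ∈ IsLocalRing.maximalIdeal T ^ k := fun y k => by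
    obtain ⟨r, hr⟩ := AdicRingLib.exists_sub_mem_map_pow hfg k y
    refine ⟨r, 1, by rw [map_one]; exact isUnit_one, ?_⟩
    rw [map_one, one_mul, hmT, ← Ideal.map_pow]
    exact hr
  obtain ⟨D, _, _, _, f, x, hx⟩ := ApproxLib.exists_fp_lift F hF T ξ
  obtain ⟨A', _, _, hA', ψ, g, hg⟩ := ApproxLib.exists_etale_approx_hom hind hdense f (N + 1)
  let φ : Under.mk (CommRingCat.ofHom (algebraMap A A')) ⟶
      Under.mk (CommRingCat.ofHom (algebraMap A (A ⧸ I ^ (N + 1)))) :=
    ((AdicCompletion.evalₐ I (N + 1)).comp ψ).toUnder
  refine ⟨A', inferInstance, inferInstance, hA', φ, F.map g.toUnder x, ?_⟩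
  have hcomp : g.toUnder ≫ φ = f.toUnder ≫ π := by
    apply Under.UnderMorphism.ext
    ext b
    show AdicCompletion.evalₐ I (N + 1) (ψ (g b)) = π.right.hom (f b)
    rw [hπ]
    show AdicCompletion.evalₐ I (N + 1) (ψ (g b)) = AdicCompletion.evalₐ I (N + 1) (f b)
    have h := hg b
    rw [hmT, ← Ideal.map_pow] at h
    refine (sub_eq_zero.1 ?_).symm
    rw [← map_sub]
    refine (Ideal.map_le_iff_le_comap (K := RingHom.ker (AdicCompletion.evalₐ I (N + 1)).toRingHom)).2 (fun z hz => ?_) h
    show AdicCompletion.evalₐ I (N + 1) (algebraMap A T z) = 0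
    rw [AlgHom.commutes, Ideal.Quotient.algebraMap_eq, Ideal.Quotient.eq_zero_iff_mem]
    exact hz
  rw [← hx]
  exact ((FunctorToTypes.map_comp_apply F g.toUnder φ x).symm.trans (congrArg (fun m => F.map m x) hcomp)).trans
    (FunctorToTypes.map_comp_apply F f.toUnder π x)

end Groth.Agent.S16106
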