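import Groth.Statements.S16108
import Groth.Agent.LunaLib.Fundamental
-- import your own Groth.Agent.* helpers here

set_option autoImplicit false
set_option maxHeartbeats 1000000
set_option synthInstance.maxHeartbeats 400000
universe u v w
open CategoryTheory
open scoped TensorProduct
open LunaSt

namespace Groth.Agent.S16108

/-- Affine case with one group. Let k be a field and H a commutative Hopf algebra of finite type over k
all of whose finite-dimensional comodules are semisimple (a linearly reductive affine group G of
finite type). Let A and B be Noetherian commutative k-algebras with coactions of H that are algebra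
maps, and let φ : A → B be an étale k-algebra map compatible with the coactions (a G-equivariant
étale morphism Spec B → Spec A, so that [Spec B/G] → [Spec A/G] is étale, separated and
representable, with good moduli spaces Spec B^G and Spec A^G); let ψ : A^G → B^G be the restriction
of φ to the invariant rings. Let w be a k-point of Spec B whose orbit is closed, such that the orbit
of φ(w) is closed and the scheme-theoretic stabilizers of w and of φ(w) in G coincide (equivalently
the inclusion of the first in the second is an isomorphism). Then there is an invariant function g ∈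
B^G with g(w) ≠ 0 such that A^G → (B^G)[1/g] is étale and B[1/g] is the pushout A ⊗_{A^G}
(B^G)[1/g]: the square of rings with corners A^G, A, (B^G)[1/g], B[1/g] is cocartesian. (The
published statement is for an étale, separated, representable morphism of Noetherian algebraic
stacks with good moduli spaces and a closed point; this row is its case of quotient stacks of affine
schemes by one linearly reductive group over a field, at a rational point.) -/
theorem result
    (k : Type u) [Field k] (H : Type v) [CommRing H] [HopfAlgebra k H] [Algebra.FiniteType k H]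
    (hG : HopfRep.IsLinearlyReductive k H)
    (A B : Type w) [CommRing A] [CommRing B] [Algebra k A] [Algebra k B]
    [IsNoetherianRing A] [IsNoetherianRing B]
    [HopfRep.Comod k H A] [GLin.IsCoactAlg k H A] [HopfRep.Comod k H B] [GLin.IsCoactAlg k H B]
    (φ : A →ₐ[k] B) (hφ : Hoch.IsComodHom H φ.toLinearMap) (het : φ.toRingHom.Etale)
    (ψ : ↥(GLin.invariants k H A) →+* ↥(GLin.invariants k H B))
    (hψ : ∀ a : ↥(GLin.invariants k H A), (ψ a : B) = φ (a : A))
    (w : B →ₐ[k] k) (hw : GLin.IsClosedOrbit k H w) (hφw : GLin.IsClosedOrbit k H (w.comp φ))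
    (hst : GLin.stabIdeal k H (w.comp φ) = GLin.stabIdeal k H w) :
    ∃ g : ↥(GLin.invariants k H B), w (g : B) ≠ 0 ∧
      ((algebraMap ↥(GLin.invariants k H B) (Localization.Away g)).comp ψ).Etale ∧
      IsPushout (CommRingCat.ofHom (GLin.invariants k H A).val.toRingHom)
        (CommRingCat.ofHom ((algebraMap ↥(GLin.invariants k H B) (Localization.Away g)).comp ψ))
        (CommRingCat.ofHom ((algebraMap B (Localization.Away (g : B))).comp φ.toRingHom))
        (CommRingCat.ofHom (Localization.awayMap (GLin.invariants k H B).val.toRingHom g)) := by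
  letI : Algebra A B := φ.toRingHom.toAlgebra
  haveI : IsScalarTower k A B := IsScalarTower.of_algebraMap_eq fun c => (φ.commutes c).symm
  haveI hAB : Algebra.Etale A B := het
  letI : Algebra ↥(GLin.invariants k H A) ↥(GLin.invariants k H B) := ψ.toAlgebra
  haveI : IsScalarTower ↥(GLin.invariants k H A) ↥(GLin.invariants k H B) B :=
    IsScalarTower.of_algebraMap_eq fun a => (hψ a).symm
  haveI : Algebra.Etale B (Localization.Away ((1 : ↥(GLin.invariants k H B)) : B)) :=
    Algebra.Etale.of_isLocalizationAway ((1 : ↥(GLin.invariants k H B)) : B)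
  haveI : Algebra.Etale A (Localization.Away ((1 : ↥(GLin.invariants k H B)) : B)) :=
    Algebra.Etale.comp A B _
  have e : IsScalarTower.toAlgHom k A B = φ := AlgHom.ext fun _ => rfl
  obtain ⟨g, hg, -, hget, hinj, hsurj⟩ := LunaLib.fundamental (k := k) (H := H) (A := A) (B := B) hG
    (x := w) (f := 1) (by rw [e]; exact hφ) (by rw [e]; exact hφw) (by rw [e]; exact hst.ge) (by simp)
  refine ⟨g, hg, ?_, ?_⟩
  · have h := RingHom.etale_algebraMap.2 hget
    rwa [IsScalarTower.algebraMap_eq ↥(GLin.invariants k H A) ↥(GLin.invariants k H B) (Localization.Away g)] at h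
  let A₀ := ↥(GLin.invariants k H A)
  let B₀ := ↥(GLin.invariants k H B)
  let W := TensorProduct A₀ A B₀
  let μ : W →ₐ[A₀] B := Algebra.TensorProduct.productMap (IsScalarTower.toAlgHom A₀ A B)
    (IsScalarTower.toAlgHom A₀ B₀ B)
  have hμ : ∀ a c, μ (a ⊗ₜ[A₀] c) = algebraMap A B a * (c : B) := fun a c =>
    Algebra.TensorProduct.productMap_apply_tmul _ _ a c
  let M := Localization.Away (g : B)
  let t : W := (1 : A) ⊗ₜ[A₀] g
  have ht : μ.toRingHom t = (g : B) := (hμ 1 g).trans (by rw [map_one, one_mul])
  haveI : IsLocalization.Away (μ.toRingHom t) M := by rw [ht]; infer_instance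
  letI : Algebra W M := ((algebraMap B M).comp μ.toRingHom).toAlgebra
  have hbij : Function.Bijective (IsLocalization.Away.map (Localization.Away t) M μ.toRingHom t) := by
    refine ⟨(IsLocalization.Away.map_injective_iff _ _ _).2 hinj,
      (IsLocalization.Away.map_surjective_iff _ _ _ _).2 fun b => ?_⟩
    obtain ⟨j, z, hz⟩ := hsurj b
    exact ⟨z, j, by rw [ht]; exact hz⟩
  let α : Localization.Away t ≃ₐ[W] M := AlgEquiv.ofBijective
    { IsLocalization.Away.map (Localization.Away t) M μ.toRingHom t with
      commutes' := fun z => IsLocalization.map_eq _ z } hbij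
  haveI hWM : IsLocalization.Away t M := IsLocalization.isLocalization_of_algEquiv (Submonoid.powers t) α
  let incR : B₀ →+* W := (Algebra.TensorProduct.includeRight : B₀ →ₐ[A₀] W).toRingHom
  haveI : IsLocalization ((Submonoid.powers g).map incR) M := by
    rw [Submonoid.map_powers]
    exact hWM
  have hsq := CommRingCat.isPushout_of_isLocalization (Sₘ := M) (Rₘ := Localization.Away g) incR
    (Localization.awayMap (GLin.invariants k H B).val.toRingHom g) (RingHom.ext fun c => by
      show Localization.awayMap (GLin.invariants k H B).val.toRingHom g (algebraMap B₀ _ c) =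
        algebraMap B M (μ ((1 : A) ⊗ₜ[A₀] c))
      rw [hμ, map_one, one_mul]
      exact IsLocalization.map_eq _ c) (Submonoid.powers g)
  have hmain := (CommRingCat.isPushout_tensorProduct A₀ A B₀).paste_vert hsq
  have e₁ : CommRingCat.ofHom (algebraMap A₀ B₀) ≫ CommRingCat.ofHom (algebraMap B₀ (Localization.Away g)) =
      CommRingCat.ofHom ((algebraMap B₀ (Localization.Away g)).comp ψ) := rfl
  have e₂ : CommRingCat.ofHom (S := W) Algebra.TensorProduct.includeLeftRingHom ≫
      CommRingCat.ofHom (algebraMap W M) = CommRingCat.ofHom ((algebraMap B M).comp φ.toRingHom) := by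
    ext a
    show algebraMap B M (μ (a ⊗ₜ[A₀] (1 : B₀))) = algebraMap B M (φ a)
    rw [hμ, OneMemClass.coe_one, mul_one]
    rfl
  rw [e₁, e₂] at hmain
  exact hmain


end Groth.Agent.S16108
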