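import Groth.Statements.S16113
import Mathlib
import Groth.Agent.UnitsFGLib.Scheme
-- import your own Groth.Agent.* helpers here

set_option autoImplicit false
universe u
open CategoryTheory MonoidalCategory CartesianMonoidalCategory MonObj GrpObj AlgebraicGeometry CategoryTheory.Limits
open AlgGrp

namespace Groth.Agent.S16113

/-- Over an algebraically closed field k, let X be an irreducible variety (an integral separated
k-scheme of finite type) and R = Γ(X, O_X). Then the quotient of the unit group R^× by the subgroup
k^× of nonzero constants is a free abelian group of finite rank: for some n there is a surjective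
group homomorphism from R^× onto ℤⁿ (written multiplicatively) whose kernel is exactly the image of
k^× under the structure map k → R. -/
theorem result (k : Type u) [Field k] [IsAlgClosed k]
    (X : Over (Spec (CommRingCat.of k))) [IsIntegral X.left] [IsSeparated X.hom] [LocallyOfFiniteType X.hom] [QuasiCompact X.hom] :
    ∃ (n : ℕ) (v : (Γ(X.left, ⊤))ˣ →* Multiplicative (Fin n → ℤ)), Function.Surjective v ∧
      v.ker = (Units.map (((Scheme.ΓSpecIso (CommRingCat.of k)).inv ≫ X.hom.appTop).hom : k →* Γ(X.left, ⊤))).range := by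
  classical
  have hirr : (irreducibleComponents (X.left : Type u)).Finite := by
    rw [irreducibleComponents_eq_singleton]; exact Set.finite_singleton _
  obtain ⟨σ, hσ, m, Φ, hΦ⟩ := UnitsFGLib.exists_hom_of_scheme k X.left X.hom hirr
  obtain ⟨n, v, hv, hker⟩ := UnitsFGLib.exists_surj_free m Φ
  refine ⟨n, v, hv, le_antisymm (fun u hu => ?_) ?_⟩
  · rw [hker] at hu
    refine UnitsFGLib.constants_of_integral k X.left _ u ?_
    obtain ⟨p, hp, hp0⟩ := hΦ u hu
    -- split the polynomial
    have hs := (IsAlgClosed.splits p).eq_prod_roots_of_monic hp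
    rw [hs, Polynomial.eval₂_multiset_prod, Multiset.map_map] at hp0
    haveI : IsDomain Γ(X.left, ⊤) := inferInstance
    obtain ⟨a, -, ha⟩ := Multiset.mem_map.mp (Multiset.prod_eq_zero_iff.mp hp0)
    rw [Function.comp_apply, Polynomial.eval₂_sub, Polynomial.eval₂_X, Polynomial.eval₂_C, sub_eq_zero] at ha
    exact ⟨a, ha.symm⟩
  · rintro _ ⟨c, rfl⟩
    rw [MonoidHom.mem_ker]
    apply Multiplicative.toAdd.injective
    funext i
    rw [toAdd_one, Pi.zero_apply]
    -- the constants form a divisible group
    set z := (Multiplicative.toAdd (v (Units.map (((Scheme.ΓSpecIso (CommRingCat.of k)).inv ≫ X.hom.appTop).hom : k →* Γ(X.left, ⊤)) c))) i with hz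
    have key : ∀ N : ℕ, 0 < N → (N : ℤ) ∣ z := fun N hN => by
      obtain ⟨d, hd⟩ := IsAlgClosed.exists_pow_nat_eq (c : k) hN
      have hd0 : d ≠ 0 := fun h => c.ne_zero (by rw [← hd, h, zero_pow hN.ne'])
      have hc : c = (Units.mk0 d hd0) ^ N := Units.ext (by rw [Units.val_pow_eq_pow_val, Units.val_mk0, hd])
      rw [hz, hc, map_pow, map_pow, toAdd_pow, Pi.smul_apply, nsmul_eq_mul]
      exact dvd_mul_right _ _
    exact Int.eq_zero_of_dvd_of_natAbs_lt_natAbs (key (z.natAbs + 1) (Nat.succ_pos _)) (by omega)

end Groth.Agent.S16113
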