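import Groth.Statements.S16116
import Groth.Agent.RosenUnitLib.Split
-- import your own Groth.Agent.* helpers here

set_option autoImplicit false
universe u
open CategoryTheory MonoidalCategory CartesianMonoidalCategory MonObj GrpObj AlgebraicGeometry CategoryTheory.Limits
open AlgGrp

namespace Groth.Agent.S16116

/-- Over an algebraically closed field k, let G be a connected algebraic group (a smooth connected
k-group scheme of finite type) acting by σ on an irreducible variety X (an integral separated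
k-scheme of finite type), and let f be a unit of Γ(X, O_X). Then f is a semi-invariant: there is a
unique character χ of G (a unit of Γ(G, O_G) with e^*(χ) = 1 and m^*(χ) = p₁^*(χ) · p₂^*(χ)) such
that σ^*(f) = p₁^*(χ) · p₂^*(f) in Γ(G × X, O). -/
theorem result (k : Type u) [Field k] [IsAlgClosed k]
    (G X : Over (Spec (CommRingCat.of k))) [GrpObj G] [Smooth G.hom] [QuasiCompact G.hom] [ConnectedSpace ↥G.left]
    [IsIntegral X.left] [IsSeparated X.hom] [LocallyOfFiniteType X.hom] [QuasiCompact X.hom] (a : AlgGrp.Action G X)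
    (f : Γ(X.left, ⊤)) (hf : IsUnit f) :
    ∃! χ : Γ(G.left, ⊤), IsUnit χ ∧ η[G].left.appTop χ = 1 ∧
      μ[G].left.appTop χ = (fst G G).left.appTop χ * (snd G G).left.appTop χ ∧
      a.act.left.appTop f = (fst G X).left.appTop χ * (snd G X).left.appTop f := by
  haveI := RosenUnit.isReduced_of_smooth G
  obtain ⟨x₀⟩ := RosenUnit.exists_point X
  obtain ⟨χ, h1, h2, h3, h4⟩ := RosenUnit.split_group x₀ (hf.map (RosenUnit.pull a.act))
  have hl : lift (toUnit X ≫ η[G]) (𝟙 X) ≫ a.act = 𝟙 X := by
    have e : lift (toUnit X ≫ η[G]) (𝟙 X) = lift (toUnit X) (𝟙 X) ≫ (η[G] ▷ X) := by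
      rw [lift_whiskerRight]
    rw [e, Category.assoc, a.one_act, lift_leftUnitor_hom]
  rw [RosenUnit.pull_comp _ a.act, hl, RosenUnit.pull_id] at h4
  refine ⟨χ, ⟨h1, h2, h3, h4⟩, fun χ' ⟨_, _, _, h4'⟩ => ?_⟩
  have e : RosenUnit.pull (fst G X) χ' * RosenUnit.pull (snd G X) f = RosenUnit.pull (fst G X) χ * RosenUnit.pull (snd G X) f :=
    h4'.symm.trans h4
  have hinj := congrArg (RosenUnit.pull (lift (𝟙 G) (toUnit G ≫ x₀)))
    (((hf.map (RosenUnit.pull (snd G X))).mul_left_inj).1 e)
  rwa [RosenUnit.pull_comp _ (fst G X), RosenUnit.pull_comp _ (fst G X), lift_fst, RosenUnit.pull_id, RosenUnit.pull_id] at hinj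

end Groth.Agent.S16116
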