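import Groth.Statements.S16117
import Groth.Agent.RosenUnitLib.Split
-- import your own Groth.Agent.* helpers here

set_option autoImplicit false
universe u
open CategoryTheory MonoidalCategory CartesianMonoidalCategory MonObj GrpObj AlgebraicGeometry CategoryTheory.Limits
open AlgGrp

namespace Groth.Agent.S16117

/-- Over an algebraically closed field k, let X and Y be irreducible varieties (integral separated
k-schemes of finite type). Then the product map on units is surjective: every unit of Γ(X × Y, O)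
equals p₁^*(g) · p₂^*(h) for some units g of Γ(X, O_X) and h of Γ(Y, O_Y). -/
theorem result (k : Type u) [Field k] [IsAlgClosed k]
    (X Y : Over (Spec (CommRingCat.of k))) [IsIntegral X.left] [IsSeparated X.hom] [LocallyOfFiniteType X.hom] [QuasiCompact X.hom]
    [IsIntegral Y.left] [IsSeparated Y.hom] [LocallyOfFiniteType Y.hom] [QuasiCompact Y.hom]
    (f : Γ((X ⊗ Y).left, ⊤)) (hf : IsUnit f) :
    ∃ (g : Γ(X.left, ⊤)) (h : Γ(Y.left, ⊤)), IsUnit g ∧ IsUnit h ∧
      f = (fst X Y).left.appTop g * (snd X Y).left.appTop h := by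
  obtain ⟨x₀⟩ := RosenUnit.exists_point X
  obtain ⟨y₀⟩ := RosenUnit.exists_point Y
  obtain ⟨c, hc⟩ := hf.map (RosenUnit.pull (lift x₀ y₀))
  let d : Γ(X.left, ⊤) := RosenUnit.pull (toUnit X) (c⁻¹ : _ˣ)
  refine ⟨RosenUnit.pull (lift (𝟙 X) (toUnit X ≫ y₀)) f * d, RosenUnit.pull (lift (toUnit Y ≫ x₀) (𝟙 Y)) f,
    (hf.map _).mul ((Units.isUnit _).map _), hf.map _, ?_⟩
  have h := RosenUnit.split x₀ y₀ hf
  rw [← hc] at h
  show f = RosenUnit.pull (fst X Y) _ * RosenUnit.pull (snd X Y) _
  rw [map_mul, RosenUnit.pull_comp (fst X Y) (toUnit X), toUnit_unique (fst X Y ≫ toUnit X) (toUnit (X ⊗ Y)),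
    mul_right_comm, ← h, _root_.mul_assoc, ← map_mul (RosenUnit.pull (toUnit (X ⊗ Y))), Units.mul_inv, map_one,
    _root_.mul_one]

end Groth.Agent.S16117
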