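import Groth.Statements.S16118
import Groth.Agent.UnirLib.Invariant
import Groth.Agent.S8423

set_option autoImplicit false
universe u
open CategoryTheory MonoidalCategory CartesianMonoidalCategory MonObj GrpObj AlgebraicGeometry CategoryTheory.Limits
open AlgGrp

namespace Groth.Agent.S16118

set_option backward.isDefEq.respectTransparency false
set_option linter.style.haveILetI false
open Groth.Agent
attribute [-instance] CategoryTheory.Hom.commGroup

/-- Over an algebraically closed field k, let G be a connected linear algebraic group (an affine,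
smooth, connected k-group scheme) acting by σ on a normal irreducible variety X (an integral normal
separated k-scheme of finite type), and let L be an invertible O_X-module. Then L is G-invariant:
for every k-point g of G, with translation t_g : X → X, x ↦ g · x, the inverse image t_g^*(L) is
isomorphic to L. -/
theorem result (k : Type u) [Field k] [IsAlgClosed k]
    (G X : Over (Spec (CommRingCat.of k))) [GrpObj G] [IsAffine G.left] [Smooth G.hom] [ConnectedSpace ↥G.left]
    [IsIntegral X.left] [IsSeparated X.hom] [LocallyOfFiniteType X.hom] [QuasiCompact X.hom]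
    (hX : Pi1.IsNormalScheme X.left) (a : AlgGrp.Action G X)
    (g : 𝟙_ (Over (Spec (CommRingCat.of k))) ⟶ G) (L : X.left.Modules) (hL : PicF.IsInvertible L) :
    Nonempty ((Scheme.Modules.pullback (lift (toUnit X ≫ g) (𝟙 X) ≫ a.act).left).obj L ≅ L) := by
  haveI : QuasiCompact G.hom := inferInstance
  obtain ⟨B, _, b, ⟨hbm, hbc, hBs, hBconn, ⟨n, hn⟩, -⟩, g', rfl⟩ := Groth.Agent.S8423.result k G g
  haveI := hbm; haveI := hbc; haveI := hBs; haveI := hBconn
  haveI : IsAffine B.left := isAffine_of_isAffineHom b.left
  haveI : QuasiCompact B.hom := inferInstance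
  haveI := AlbLib.geometricallyIntegral_grp B
  haveI : IsIntegral B.left := GeometricallyIntegral.isIntegral_of_subsingleton B.hom
  have h := Unir.pullCl_trl a hX (Unir.solvable_main n B (hn _)).2 b (c := PicF.cl L) ⟨L, rfl, hL⟩ g'
  have key : ∀ (M N : X.left.Modules), PicF.cl M = PicF.cl N → Nonempty (M ≅ N) := fun M N h =>
    (Quot.eqvGen_exact h).rec (fun _ _ h => h) (fun _ => ⟨Iso.refl _⟩) (fun _ _ _ h => ⟨h.some.symm⟩)
    (fun _ _ _ _ _ h h' => ⟨h.some ≪≫ h'.some⟩)
  exact key _ _ h

end Groth.Agent.S16118
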