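import Groth.Statements.S16124
import Groth.Agent.QuotNormLib.Quot

set_option autoImplicit false
universe u
open CategoryTheory MonoidalCategory CartesianMonoidalCategory MonObj GrpObj AlgebraicGeometry CategoryTheory.Limits
open AlgGrp

namespace Groth.Agent.S16124

/-- Over an algebraically closed field k, let X be a quasi-projective variety (a reduced separated
k-scheme, quasi-projective over k) with an action of a finite group Γ by k-automorphisms. Then X is
covered by Γ-stable affine open subschemes: every point x of X lies in an affine open U with σ⁻¹(U)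
= U for every σ in Γ. -/
theorem result (k : Type u) [Field k] [IsAlgClosed k]
    (X : Over (Spec (CommRingCat.of k))) [IsReduced X.left] [IsSeparated X.hom] (hX : RelProj.IsQuasiProjective X.hom)
    (Γgrp : Type u) [Group Γgrp] [Finite Γgrp] (ρ : Γgrp →* Aut X.left)
    (hρ : ∀ σ : Γgrp, (ρ σ).hom ≫ X.hom = X.hom) (x : ↥X.left) :
    ∃ U : X.left.Opens, x ∈ U ∧ IsAffineOpen U ∧ ∀ σ : Γgrp, (ρ σ).hom ⁻¹ᵁ U = U := by
  obtain ⟨-, -, L, hL⟩ := hX
  obtain ⟨U, hU, hx⟩ := QuotNormLib.exists_affine_orbit X.hom ρ hρ hL x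
  let W : X.left.Opens := ⟨⋂ g : Γgrp, (ρ g).hom ⁻¹' U,
    isOpen_iInter_of_finite fun g => U.2.preimage (ρ g).hom.continuous⟩
  obtain ⟨T, hT, -⟩ := QuotLib.exists_invAff ρ hU (W := W)
    (fun y hy => by have := Set.mem_iInter.1 hy 1; rwa [Set.mem_preimage, QuotLib.act_one] at this) x
    (fun g => Set.mem_iInter.2 fun g' => by rw [Set.mem_preimage, QuotLib.act_act]; exact hx _)
    (fun g y hy => Set.mem_iInter.2 fun g' => by
      rw [Set.mem_preimage, QuotLib.act_act]; exact Set.mem_iInter.1 hy _)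
  refine ⟨T.1, hT, T.2.1, fun σ => TopologicalSpace.Opens.ext (Set.ext fun y => ⟨fun hy => ?_, T.2.2 σ y⟩)⟩
  have := T.2.2 σ⁻¹ _ hy
  rwa [QuotLib.act_act, inv_mul_cancel, QuotLib.act_one] at this

end Groth.Agent.S16124
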