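import Groth.Statements.S16127
import Groth.Agent.FibBCLib.GeomQuotBasic
-- import your own Groth.Agent.* helpers here

set_option autoImplicit false
universe u
open CategoryTheory MonoidalCategory CartesianMonoidalCategory MonObj GrpObj AlgebraicGeometry CategoryTheory.Limits
open AlgGrp

namespace Groth.Agent.S16127

/-- Over an algebraically closed field k, let G be an algebraic group (a smooth k-group scheme of finite
type) acting by σ on a variety X, and let f : X → Y be a principal G-bundle over a variety Y (X, Y
reduced separated k-schemes of finite type; f flat and surjective, the square σ, p₂ : G × X → X, f,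
f cartesian). Then f^* identifies Γ(Y, O_Y) with the invariants Γ(X, O_X)^G: f^* on global sections
is injective and its range is the set of global functions s on X with σ^*(s) = p₂^*(s). -/
theorem result (k : Type u) [Field k] [IsAlgClosed k]
    (G X Y : Over (Spec (CommRingCat.of k))) [GrpObj G] [Smooth G.hom] [QuasiCompact G.hom]
    [IsReduced X.left] [IsSeparated X.hom] [LocallyOfFiniteType X.hom] [QuasiCompact X.hom]
    [IsReduced Y.left] [IsSeparated Y.hom] [LocallyOfFiniteType Y.hom] [QuasiCompact Y.hom]
    (a : AlgGrp.Action G X) (f : X ⟶ Y) [Flat f.left] [Surjective f.left]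
    (hsq : IsPullback a.act.left (snd G X).left f.left f.left) :
    Function.Injective (f.left.appTop) ∧
      Set.range (f.left.appTop) = {s : Γ(X.left, ⊤) | a.act.left.appTop s = (snd G X).left.appTop s} := by
  have hqc : QuasiCompact f.left := by
    have : QuasiCompact (f.left ≫ Y.hom) := by rw [Over.w]; infer_instance
    exact QuasiCompact.of_comp f.left Y.hom
  refine ⟨FibBCLib.app_injective_of_flat f.left ⊤, Set.ext fun s => ⟨?_, fun hs => ?_⟩⟩
  · rintro ⟨v, rfl⟩
    show a.act.left.appTop (f.left.appTop v) = (snd G X).left.appTop (f.left.appTop v)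
    rw [← CommRingCat.comp_apply, ← Scheme.Hom.comp_appTop, hsq.w, Scheme.Hom.comp_appTop]
    rfl
  · refine FibBCLib.exists_descend_function f.left s ?_
    have hs' : a.act.left.appTop s = (snd G X).left.appTop s := hs
    rw [← hsq.isoPullback_inv_fst, ← hsq.isoPullback_inv_snd, Scheme.Hom.comp_appTop, Scheme.Hom.comp_appTop]
    show hsq.isoPullback.inv.appTop (a.act.left.appTop s) = hsq.isoPullback.inv.appTop ((snd G X).left.appTop s)
    rw [hs']

end Groth.Agent.S16127
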