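import Groth.Statements.S16128
import Groth.Agent.S16119
import Groth.Agent.DescActLib.Descend
import Groth.Agent.LMLib.Rank

set_option autoImplicit false
universe u
open CategoryTheory MonoidalCategory CartesianMonoidalCategory MonObj GrpObj AlgebraicGeometry CategoryTheory.Limits
open AlgGrp

namespace Groth.Agent.S16128

set_option backward.isDefEq.respectTransparency false
set_option linter.style.haveILetI false
open Groth.Agent
open CubeConsLib (clA pullA PicA)
attribute [-instance] CategoryTheory.Hom.commGroup
open Groth.Agent.S16120 renaming toA → toA, toA_cls → toA_cls, toA_injective → toA_injective, toA_mul → toA_mul, toA_pullHom → toA_pullHom, pullA_point → pullA_point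

/-- Over an algebraically closed field k, let G be a connected linear algebraic group (an affine,
smooth, connected k-group scheme), and f : X → Y a principal G-bundle between normal irreducible
varieties (X, Y integral normal separated k-schemes of finite type; σ the action on X; f flat and
surjective with the square σ, p₂, f, f cartesian). Let x be a k-point of X with orbit map α_x : G →
X, g ↦ g · x, and assume the Picard group laws on G, X and Y with pullback along f and along α_x
multiplicative. Then the sequence Pic(Y) → Pic(X) → Pic(G) is exact at Pic(X): a class c satisfies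
α_x^*(c) = 1 if and only if c lies in the image of f^*. -/
theorem result (k : Type u) [Field k] [IsAlgClosed k]
    (G X Y : Over (Spec (CommRingCat.of k))) [GrpObj G] [IsAffine G.left] [Smooth G.hom] [ConnectedSpace ↥G.left]
    [IsIntegral X.left] [IsSeparated X.hom] [LocallyOfFiniteType X.hom] [QuasiCompact X.hom] (hX : Pi1.IsNormalScheme X.left)
    [IsIntegral Y.left] [IsSeparated Y.hom] [LocallyOfFiniteType Y.hom] [QuasiCompact Y.hom] (hY : Pi1.IsNormalScheme Y.left)
    (a : AlgGrp.Action G X) (f : X ⟶ Y) [Flat f.left] [Surjective f.left]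
    (hsq : IsPullback a.act.left (snd G X).left f.left f.left)
    (x : 𝟙_ (Over (Spec (CommRingCat.of k))) ⟶ X)
    [PicGrp.Law G.left] [PicGrp.Law X.left] [PicGrp.Law Y.left]
    (hf : PicGrp.PullMul f.left) (hα : PicGrp.PullMul (a.orbitMap x).left) (c : PicLoc.PicSet X.left) :
    PicGrp.pullHom (a.orbitMap x).left hα c = 1 ↔ c ∈ (PicGrp.pullHom f.left hf).range := by
  haveI : Subsingleton ↥(Spec (CommRingCat.of k)) := inferInstanceAs (Subsingleton (PrimeSpectrum k))
  haveI : Nonempty ↥(Spec (CommRingCat.of k)) := inferInstanceAs (Nonempty (PrimeSpectrum k))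
  haveI : Subsingleton ↥(𝟙_ (Over (Spec (CommRingCat.of k)))).left := inferInstanceAs (Subsingleton ↥(Spec (CommRingCat.of k)))
  haveI : Nonempty ↥(𝟙_ (Over (Spec (CommRingCat.of k)))).left := inferInstanceAs (Nonempty ↥(Spec (CommRingCat.of k)))
  letI := LMLib.law (G ⊗ X).left
  have hone : ∀ {Z : Scheme.{u}} [PicGrp.Law Z], toA (1 : PicLoc.PicSet Z) = 0 := by
    intro Z _
    have h := toA_mul (1 : PicLoc.PicSet Z) 1
    rw [_root_.mul_one] at h
    exact left_eq_add.mp h
  have hpt : ∀ {Z W : Scheme.{u}} (g : Z ⟶ (𝟙_ (Over (Spec (CommRingCat.of k)))).left)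
      (v : (𝟙_ (Over (Spec (CommRingCat.of k)))).left ⟶ W) (w : PicLoc.PicSet W), pullA (g ≫ v) (toA w) = 0 := by
    intro Z W g v w
    obtain ⟨N, hN, rfl⟩ := PicGrp.exists_eq_cls w
    rw [toA_cls, ← CubeConsLib.pullA_comp, pullA_point, map_zero]
  let t : G ⟶ G ⊗ X := lift (𝟙 G) (toUnit G ≫ x)
  constructor
  · intro h
    haveI := AlbLib.geometricallyIntegral_grp G
    haveI : IsIntegral G.left := GeometricallyIntegral.isIntegral_of_subsingleton G.hom
    letI : G.left.Over (Spec (CommRingCat.of k)) := ⟨G.hom⟩
    haveI : Smooth (G.left ↘ Spec (CommRingCat.of k)) := ‹Smooth G.hom›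
    have hG : Pi1.IsNormalScheme G.left := HurwitzLib.isNormalScheme_of_smooth (k := k)
    obtain ⟨⟨A, B⟩, hAB⟩ := (Groth.Agent.S16120.result k G X hG hX (Groth.Agent.S16121.result k G)
      (S16119.pullMul _) (S16119.pullMul _)).2 (PicGrp.pullHom a.act.left (S16119.pullMul _) c)
    have hAB' := congrArg toA hAB
    simp only [toA_mul, toA_pullHom] at hAB'
    have hB : toA B = toA c := by
      have h1 := congrArg (pullA (DescActLib.e₁ : X ⟶ G ⊗ X).left) hAB'
      simp only [map_add, CubeConsLib.pullA_comp] at h1
      erw [show (DescActLib.e₁ : X ⟶ G ⊗ X).left ≫ (fst G X).left = (toUnit X).left ≫ η[G].left from by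
          rw [← Over.comp_left, DescActLib.e₁, lift_fst]; rfl,
        show (DescActLib.e₁ : X ⟶ G ⊗ X).left ≫ (snd G X).left = 𝟙 X.left from congrArg CommaMorphism.left DescActLib.e₁_snd,
        show (DescActLib.e₁ : X ⟶ G ⊗ X).left ≫ a.act.left = 𝟙 X.left from congrArg CommaMorphism.left (DescActLib.e₁_act a)] at h1
      simpa only [hpt, zero_add, CubeConsLib.pullA_id] using h1
    have hA : toA A = 0 := by
      have h1 := congrArg (pullA t.left) hAB'
      have h2 := congrArg toA h
      rw [toA_pullHom, hone] at h2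
      simp only [map_add, CubeConsLib.pullA_comp] at h1
      erw [show t.left ≫ (fst G X).left = 𝟙 G.left from by rw [← Over.comp_left, lift_fst]; rfl,
        show t.left ≫ (snd G X).left = (toUnit G).left ≫ x.left from by rw [← Over.comp_left, lift_snd]; rfl,
        show t.left ≫ a.act.left = (a.orbitMap x).left from rfl, h2] at h1
      simpa only [hpt, add_zero, CubeConsLib.pullA_id] using h1
    rw [hA, hB, map_zero, zero_add] at hAB'
    obtain ⟨L, hL, rfl⟩ := PicGrp.exists_eq_cls c
    rw [toA_cls, CubeConsLib.pullA_clA, CubeConsLib.pullA_clA, CubeConsLib.clA_eq_iff] at hAB'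
    obtain ⟨φ⟩ := hAB'
    obtain ⟨ψ, hψ⟩ := DescActLib.exists_cocycle a hL φ.symm
    haveI : QuasiCompact f.left := by
      haveI : QuasiCompact (f.left ≫ Y.hom) := by rw [Over.w f]; infer_instance
      exact QuasiCompact.of_comp f.left Y.hom
    obtain ⟨N, hN, ⟨θ⟩⟩ := DescActLib.exists_descend hsq hψ hL
    refine ⟨PicGrp.cls N hN, toA_injective ?_⟩
    rw [toA_pullHom, toA_cls, toA_cls, CubeConsLib.pullA_clA, CubeConsLib.clA_eq_iff]
    exact ⟨θ⟩
  · rintro ⟨d, rfl⟩
    apply toA_injective
    rw [toA_pullHom, toA_pullHom, CubeConsLib.pullA_comp, hone]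
    have e : (a.orbitMap x).left ≫ f.left = (toUnit G).left ≫ (x.left ≫ f.left) := by
      show (t.left ≫ a.act.left) ≫ f.left = _
      rw [Category.assoc, hsq.w, ← Category.assoc, ← Over.comp_left, lift_snd, Over.comp_left, Category.assoc]
    rw [e]
    exact hpt _ _ _

end Groth.Agent.S16128
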