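import Groth.Statements.S16132
import Groth.Agent.TorusQuotLib.Main

set_option autoImplicit false
set_option backward.isDefEq.respectTransparency false
set_option linter.style.haveILetI false
set_option maxHeartbeats 1000000
universe u
open CategoryTheory MonoidalCategory CartesianMonoidalCategory MonObj GrpObj AlgebraicGeometry CategoryTheory.Limits
open AlgGrp

open scoped MonObj
attribute [-instance] CategoryTheory.Hom.commGroup

namespace Groth.Agent.S16132

/-- Over an algebraically closed field k, let G be a connected algebraic group (a smooth connected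
k-group scheme of finite type, not necessarily affine). Then G has a largest torus quotient through
which all characters factor: there are a torus T (isomorphic to the diagonalizable group of ℤ^r for
some r), a flat surjective homomorphism q : G → T such that every character χ : G → 𝔾_m is χ' ∘ q
for some character χ' of T, and a kernel h : H → G of q (a homomorphism from a k-group scheme H
making the square against the unit section of T cartesian) with H connected and every character of H
trivial. (So H is the smallest closed normal subgroup scheme of G with G/H a torus, and restriction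
identifies the characters of G/H with those of G.) -/
theorem result (k : Type u) [Field k] [IsAlgClosed k]
    (G : Over (Spec (CommRingCat.of k))) [GrpObj G] [Smooth G.hom] [QuasiCompact G.hom] [ConnectedSpace ↥G.left] :
    ∃ (r : ℕ) (T : Over (Spec (CommRingCat.of k))) (_ : GrpObj T) (_ : Red.IsSplitTorusWith (Fin r → ℤ) T)
      (q : G ⟶ T) (_ : IsMonHom q) (H : Over (Spec (CommRingCat.of k))) (_ : GrpObj H) (h : H ⟶ G) (_ : IsMonHom h),
      Flat q.left ∧ Surjective q.left ∧ AlgGrp.IsKernel h q ∧ ConnectedSpace ↥H.left ∧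
      (∀ χ : G ⟶ Red.Gm (Spec (CommRingCat.of k)), IsMonHom χ → ∃ χ' : T ⟶ Red.Gm (Spec (CommRingCat.of k)), IsMonHom χ' ∧ q ≫ χ' = χ) ∧
      (∀ ψ : H ⟶ Red.Gm (Spec (CommRingCat.of k)), IsMonHom ψ → ψ = 1) := by
  obtain ⟨r, q, hq, hinj, huniv⟩ := TorusQuotLib.exists_universal G
  haveI := hq
  obtain ⟨hft, -⟩ := TorusQuotLib.props_LT (k := k) r
  haveI := hft
  haveI : IsAffine (TorusQuotLib.LT k r).left := inferInstanceAs (IsAffine (Spec (CommRingCat.of _)))
  obtain ⟨hqf, hqs⟩ := TorusQuotLib.flat_surjective q hinj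
  have hU : TorusQuotLib.IsUnivTorus q := fun P _ hP f hfm hfe π hπ => by
    haveI := hfm; haveI := hfe
    exact TorusQuotLib.mono_of_universal q hinj huniv hP f π hπ
  obtain ⟨H, _, h, hh, hk, hHc, hHψ⟩ := TorusQuotLib.kernel_props (TorusQuotLib.isTorus_LT r) q hU
  obtain ⟨w, hw, hw'⟩ := Groth.Agent.TorusField.exists_DS_iso k (Fin r → ℤ)
  haveI := hw
  refine ⟨r, TorusQuotLib.LT k r, inferInstance,
    ⟨Grp.mkIso w (IsMonHom.one_hom w.hom) (IsMonHom.mul_hom w.hom)⟩, q, hq, H, inferInstance, h, hh,
    hqf, hqs, hk, hHc, ?_, hHψ⟩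
  intro χ hχ
  have hχ1 : Groth.Agent.RosenUnit.pull η[G] (Red.gmFn χ) = 1 := by
    show η[G].left.appTop (Red.gmFn χ) = 1
    rw [← GmPts.gmFn_comp, IsMonHom.one_hom, MonObj.one_eq_one, GmPts.gmFn_one]
  obtain ⟨m, hm⟩ := huniv _ (GmPts.isUnit_gmFn χ) hχ1
  obtain ⟨χ', hχ'm, hχ'⟩ := TorusQuotLib.exists_char (k := k) m
  refine ⟨χ', hχ'm, GmPts.gmFn_injective ?_⟩
  show Red.gmFn _ = Red.gmFn _
  rw [GmPts.gmFn_comp, hχ', ← hm]
  exact (TorusQuotLib.coordOf_comp q (𝟙 _) m).symm.trans (by rw [Category.comp_id])

end Groth.Agent.S16132
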