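import Groth.Statements.S16141
import Groth.Agent.RankTwoLatLib.Bridge
import Groth.Agent.GenusOneSSLib.Main
import Groth.Agent.CurveSDLib.Sections
import Groth.Agent.S11812
import Groth.Agent.CurveH0Lib.LinStable
import Groth.Agent.CurveVBLib.Integral

set_option autoImplicit false
universe u
open CategoryTheory CategoryTheory.Limits AlgebraicGeometry
open VBCurve

namespace Groth.Agent.S16141
attribute [local instance] CurveDualLib.algFF

/-- Let k be an algebraically closed field of characteristic zero and X a smooth proper geometrically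
connected curve over k (topological dimension one) of genus g ≥ 2 (the text's standing setting: a
smooth projective complex curve of genus at least 2). Let E be a slope-semistable finite locally
free O_X-module of rank 2 with trivial determinant: some second exterior power of E is isomorphic to
O_X. Then there is an invertible O_X-module L of degree g − 1 (degree χ(L) − χ(O_X)) with H^0(X, E ⊗
L) = 0. (The published statement says that the determinant linear series on the moduli space of
rank-2 bundles with trivial determinant has no base points; this row states the equivalent vanishing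
for every semistable bundle that its proof establishes.) -/
theorem result
    (k : Type u) [Field k] [IsAlgClosed k] [CharZero k]
    (X : Scheme.{u}) [X.Over (Spec (CommRingCat.of k))]
    [IsProper (X ↘ Spec (CommRingCat.of k))] [Smooth (X ↘ Spec (CommRingCat.of k))]
    [GeometricallyConnected (X ↘ Spec (CommRingCat.of k))] (hdim : topologicalKrullDim ↥X = 1)
    (g : ℕ) (hg : Curv2.genus k X = g) (hg2 : 2 ≤ g)
    (E : X.Modules) (hE : FlatMod.IsFinLocFreeOfRank 2 E) (hEss : ModFun.IsSlopeSemistable k X E 2)
    (hdet : ∃ D : X.Modules, ExtPow.IsExtPow 2 E D ∧ Nonempty (D ≅ Coh.structureModule X)) :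
    ∃ L : X.Modules, PicF.IsInvertible L ∧ Curv2.deg k X L 1 = (g : ℤ) - 1 ∧
      Subsingleton (Coh.HH X (CohB1.tensorMod E L) 0) := by
  classical
  haveI : IsIntegral X := CurveVBLib.isIntegral_of_smooth_geomConnected k
  haveI := CurvLib.isNoetherian k (X := X)
  have hK := CurveDualLib.isFunctionField (k := k) (X := X) hdim
  have hgen := CurveDualLib.genus_eq (k := k) (X := X) hdim
  have h0 := RRVanLib.finrank_h0_structure (k := k) (X := X)
  obtain ⟨C, -, hC⟩ := CurveH0Lib.LinStable.exists_canonical_hasDiv (k := k) hdim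
  obtain ⟨Λ, hΛ⟩ := RankTwoLatLib.exists_lat (k := k) hdim hE
  have hdE : Curv2.deg k X E 2 = 0 := by
    obtain ⟨D, hD, ⟨e⟩⟩ := hdet
    rw [DetDegLib.deg_eq_deg_extPow hE hdim.le hD, CurvLib.deg_congr (k := k) e 1, Curv2.deg]
    push_cast
    ring
  have hcoh : ∀ L : X.Modules, PicF.IsInvertible L → Coh.IsCoh (CohB1.tensorMod E L) := fun L hL =>
    CurvLib.isCoh_of_locFree (HopfIneqLib.locFree_tensor hE (CurvLib.locFree_of_isInvertible hL))
  have hfin : ∀ D, Module.Finite k (Λ.Γ D) := fun D => by
    obtain ⟨L, hL⟩ := ZetaCurveLib.exists_module (k := k) hdim h0 D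
    obtain ⟨e⟩ := hΛ L D hL
    haveI := CurvLib.finite_HH (k := k) (hcoh L hL.1) 0
    exact Module.Finite.equiv e
  obtain ⟨D, hD, hΓ⟩ := Λ.exists_no_sections hK hfin hC (fun D hD => by
    obtain ⟨L, hL⟩ := ZetaCurveLib.exists_module (k := k) hdim h0 D
    obtain ⟨e⟩ := hΛ L D hL
    haveI := hfin D
    refine Submodule.finrank_eq_zero.1 ?_
    rw [← e.finrank_eq]
    exact CurveSDLib.finrank_h0_eq_zero (k := k) hdim hE hEss hL.1 (by
      rw [hdE, hL.deg hdim h0]; push_cast; omega)) (2 * (g : ℤ) - 1) fun D hD => by
    obtain ⟨L, hL⟩ := ZetaCurveLib.exists_module (k := k) hdim h0 D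
    obtain ⟨e⟩ := hΛ L D hL
    have hLE : FlatMod.IsFinLocFreeOfRank 2 (CohB1.tensorMod L E) := by
      have := HopfIneqLib.locFree_tensor (CurvLib.locFree_of_isInvertible hL.1) hE
      rwa [one_mul] at this
    have hd := GenusOneSSLib.deg_twist (k := k) hdim hE hL.1
    rw [hdE, hL.deg hdim h0] at hd
    have h1 := Groth.Agent.S11812.result k X hdim 2 two_pos (CohB1.tensorMod L E) hLE
      (GenusOneSSLib.semistable_twist hdim hE hEss hL.1) (by rw [hd, hg]; push_cast; omega)
    haveI := h1
    have hz : Module.finrank k (Coh.HH X (CohB1.tensorMod L E) 1) = 0 := Module.finrank_zero_of_subsingleton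
    have heu := CurvLib.euler_curve (k := k) hdim (CohB1.tensorMod L E)
    have hst := RRVanLib.euler_structure (k := k) hdim h0
    rw [← e.finrank_eq, (CurvLib.hIso (k := k) (HilbPolyLib.swapIso E L) 0).finrank_eq]
    simp only [Curv2.deg, hst] at hd
    rw [hgen]
    push_cast at hd
    omega
  obtain ⟨L, hL⟩ := ZetaCurveLib.exists_module (k := k) hdim h0 D
  obtain ⟨e⟩ := hΛ L D hL
  refine ⟨L, hL.1, ?_, ?_⟩
  · rw [hL.deg hdim h0, hD, hgen, hg]
  · exact ⟨fun a b => e.injective (Subtype.ext (by
      have ha := (e a).2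
      have hb := (e b).2
      simp only [hΓ, Submodule.mem_bot] at ha hb
      rw [ha, hb]))⟩

end Groth.Agent.S16141
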