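import Groth.Statements.S16149
import Groth.Agent.DevissLib.Basic
import Groth.Agent.DevissLib.ClosedImm
-- import your own Groth.Agent.* helpers here

set_option autoImplicit false
universe u
open CategoryTheory CategoryTheory.Limits AlgebraicGeometry TopologicalSpace
open SDiv

namespace Groth.Agent.S16149

/-- Let X be a locally Noetherian scheme, F a coherent O_X-module (quasi-coherent of finite type) and s
: O_X → F a global section of F. Then the set of points x of X at which the stalk map (O_X)_x → F_x
of s is bijective is open. (The published statement assumes moreover X integral and normal and F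
reflexive of rank one; the openness assertion uses only that F is coherent on a locally Noetherian
scheme, and it can fail for F quasi-coherent of finite type on a scheme that is not locally
Noetherian.) -/
theorem result (X : Scheme.{u}) [IsLocallyNoetherian X] (F : X.Modules) (hF : Coh.IsCoh F)
    (s : Coh.structureModule X ⟶ F) : IsOpen (RefPow.isoLocus s) := by
  have hO : Coh.IsCoh (Coh.structureModule X) := DevissLib.isCoh_structureModule X
  have hK := (QCohLib.isCoh_kernel s hO hF.1)
  have hC : CohB1.IsFT (cokernel s) := (QCohLib.isCoh_cokernel s hO.1 hF).2
  have key : RefPow.isoLocus s = (CohB1.support (kernel s) ∪ CohB1.support (cokernel s))ᶜ := by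
    ext x
    have hbij : x ∈ RefPow.isoLocus s ↔ Function.Bijective ((DevissLib.St x).map s).hom := Iff.rfl
    rw [hbij, Set.mem_compl_iff, Set.mem_union, not_or]
    constructor
    · exact fun h => ⟨DevissLib.notMem_support_kernel s x h.1, DevissLib.notMem_support_cokernel s x h.2⟩
    · rintro ⟨h1, h2⟩
      have z1 := (DevissLib.notMem_support_iff (kernel s) x).mp h1
      have z2 := (DevissLib.notMem_support_iff (cokernel s) x).mp h2
      have e1 := (ShortComplex.exact_kernel s).map (DevissLib.St x)
      have e2 := (ShortComplex.exact_cokernel s).map (DevissLib.St x)
      exact ⟨(ModuleCat.mono_iff_injective _).mp (e1.mono_g (z1.eq_of_src _ _)),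
        (ModuleCat.epi_iff_surjective _).mp (e2.epi_f (z2.eq_of_tgt _ _))⟩
  rw [key]
  exact ((QCohLib.isClosed_support _ hK.2).union (QCohLib.isClosed_support _ hC)).isOpen_compl

end Groth.Agent.S16149
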