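import Groth.Statements.S1615
-- import your own Groth.Agent.* helpers here

set_option autoImplicit false
universe u
open CategoryTheory CategoryTheory.Limits AlgebraicGeometry
open Constr

namespace Groth.Agent.S1615

/-- For a graded ring A, quasi-compactness of Proj A is equivalent to the existence of finitely many
homogeneous elements of positive degree generating an ideal whose radical contains the irrelevant
ideal A_+. -/
theorem result {R A : Type u} [CommRing R] [CommRing A] [Algebra R A] (𝒜 : ℕ → Submodule R A) [GradedAlgebra 𝒜] :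
    CompactSpace ↥(Proj 𝒜) ↔ ∃ s : Finset A, (∀ f ∈ s, ∃ d : ℕ, 0 < d ∧ f ∈ 𝒜 d) ∧
      (HomogeneousIdeal.irrelevant 𝒜).toIdeal ≤ (Ideal.span (s : Set A)).radical := by
  classical
  have hcov : ∀ x : ↥(Proj 𝒜), ∃ f : A, (∃ d, 0 < d ∧ f ∈ 𝒜 d) ∧ f ∉ x.asHomogeneousIdeal := by
    intro x
    by_contra hne
    push_neg at hne
    apply x.not_irrelevant_le
    intro a ha
    change a ∈ x.asHomogeneousIdeal.toIdeal
    rw [← DirectSum.sum_support_decompose 𝒜 a]
    refine Ideal.sum_mem _ fun i hi => ?_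
    rcases Nat.eq_zero_or_pos i with rfl | hpos
    · have : GradedRing.proj 𝒜 0 a = 0 := ha
      rw [GradedRing.proj_apply] at this
      rw [this]; exact zero_mem _
    · exact hne _ ⟨i, hpos, SetLike.coe_mem _⟩
  constructor
  · intro hc
    choose f hf hfx using hcov
    obtain ⟨s, hs⟩ := isCompact_univ.elim_finite_subcover
      (fun x => (Proj.basicOpen 𝒜 (f x) : Set ↥(Proj 𝒜))) (fun x => (Proj.basicOpen 𝒜 (f x)).isOpen)
      (fun x _ => Set.mem_iUnion.mpr ⟨x, hfx x⟩)
    refine ⟨s.image f, fun g hg => ?_, ?_⟩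
    · obtain ⟨x, -, rfl⟩ := Finset.mem_image.mp hg
      exact hf x
    · rw [Ideal.radical_eq_sInf]
      refine le_sInf ?_
      rintro P ⟨hP, hPp⟩
      refine le_trans ?_ (Ideal.toIdeal_homogeneousCore_le 𝒜 P)
      by_contra hne
      let y : ↥(Proj 𝒜) := (⟨P.homogeneousCore 𝒜, hPp.homogeneousCore, hne⟩ : ProjectiveSpectrum 𝒜)
      obtain ⟨x, hxs, hyx⟩ := Set.mem_iUnion₂.mp (hs (Set.mem_univ y))
      apply (Proj.mem_basicOpen 𝒜 (f x) y).mp hyx
      obtain ⟨d, -, hd⟩ := hf x
      exact Ideal.mem_homogeneousCore_of_homogeneous_of_mem ⟨d, hd⟩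
        (hP (Ideal.subset_span (Finset.mem_coe.mpr (Finset.mem_image_of_mem f hxs))))
  · rintro ⟨s, hs, hle⟩
    refine ⟨?_⟩
    have : (Set.univ : Set ↥(Proj 𝒜)) = ⋃ f ∈ s, (Proj.basicOpen 𝒜 f : Set ↥(Proj 𝒜)) := by
      refine (Set.eq_univ_of_forall fun x => ?_).symm
      by_contra hx
      simp only [Set.mem_iUnion, not_exists] at hx
      apply x.not_irrelevant_le
      refine hle.trans ((x.isPrime).radical_le_iff.mpr (Ideal.span_le.mpr fun f hf => ?_))
      by_contra hfx
      exact hx f hf ((Proj.mem_basicOpen 𝒜 f x).mpr hfx)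
    rw [this]
    refine s.isCompact_biUnion fun f hf => ?_
    obtain ⟨d, hd, hfd⟩ := hs f hf
    exact (Proj.isAffineOpen_basicOpen 𝒜 f hfd hd).isCompact

end Groth.Agent.S1615
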