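import Groth.Statements.S16150
import Groth.Agent.RefPowLib.Functions
import Groth.Agent.KFlatLib.Stalk

set_option autoImplicit false
universe u
open CategoryTheory CategoryTheory.Limits AlgebraicGeometry TopologicalSpace
open SDiv

namespace Groth.Agent.S16150

open Opposite

variable {X : Scheme.{u}} (U : X.Opens)

/-- `j_* O_U`. -/
noncomputable abbrev jO : X.Modules := (Scheme.Modules.pushforward U.ι).obj ((Coh.structureModule X).restrict U.ι)

/-- The part of `V` in `U`. -/
abbrev wOpen (V : X.Opens) : X.Opens := U.ι ''ᵁ (U.ι ⁻¹ᵁ V)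

theorem mem_wOpen {V : X.Opens} {x : X} : x ∈ wOpen U V ↔ x ∈ V ∧ x ∈ U := by
  constructor
  · rintro ⟨y, hy, rfl⟩; exact ⟨hy, y.2⟩
  · rintro ⟨hV, hxU⟩; exact ⟨⟨x, hxU⟩, hV, rfl⟩

/-- A section as a function. -/
abbrev fn {V : X.Opens} (a : Γ(jO U, V)) : Γ(X, wOpen U V) := a

theorem fn_smul {V : X.Opens} (r : Γ(X, V)) (a : Γ(jO U, V)) :
    fn U (r • a) = X.presheaf.map (homOfLE (U.ι.image_preimage_le V)).op r * fn U a := by
  show ((U.ι.appIso (U.ι ⁻¹ᵁ V)).inv.hom ((U.ι.app V).hom r)) * fn U a = _
  refine congrArg (· * fn U a) ?_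
  exact congr($(U.ι.app_appIso_inv V).hom r)

variable [IsIntegral X]

theorem fn_ext {V : X.Opens} (a b : Γ(jO U, V))
    (h : ∀ hη : genericPoint X ∈ wOpen U V, X.presheaf.germ (wOpen U V) _ hη (fn U a) =
      X.presheaf.germ (wOpen U V) _ hη (fn U b)) : a = b := by
  refine TopCat.Presheaf.section_ext X.sheaf _ (fn U a) (fn U b) fun y hy => ?_
  haveI : Nonempty (wOpen U V) := ⟨⟨y, hy⟩⟩
  exact congrArg _ (germ_injective_of_isIntegral X _ (RefHullLib.mem_of_nonempty hy)
    (h (RefHullLib.mem_of_nonempty hy)))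

/-- Let X be an integral locally Noetherian normal scheme, F a rank one coherent reflexive O_X-module
and s : O_X → F a global section of F. Let U be the open subscheme of X whose points are those x at
which the stalk map (O_X)_x → F_x of s is bijective, and j : U → X its inclusion. Consider the
system O_X → F → F^[2] → F^[3] → ⋯ of reflexive powers (F^[0] = O_X, F^[1] = F, F^[n+1] the
reflexive hull of F^[n] ⊗ F), each map being multiplication by s. Then j_*(O_X|_U) is the colimit of
this system in the category of O_X-modules; precisely, there is a cocone from the system to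
j_*(O_X|_U) whose leg in degree 0 is the restriction map O_X → j_*(O_X|_U) (the unit of the
adjunction between restriction to U and direct image along j) and which is a colimit cocone. -/
theorem result (X : Scheme.{u}) [IsIntegral X] [IsLocallyNoetherian X]
    (hX : Pi1.IsNormalScheme X) (F : X.Modules) (hF : RefHull.IsRef1 F) (s : Coh.structureModule X ⟶ F)
    (U : X.Opens) (hU : (U : Set X) = RefPow.isoLocus s) :
    ∃ ι : RefPow.diagram F s ⟶ (Functor.const ℕ).obj ((Scheme.Modules.pushforward U.ι).obj ((Coh.structureModule X).restrict U.ι)),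
      ι.app 0 = (Scheme.Modules.restrictAdjunction U.ι).unit.app (Coh.structureModule X) ∧
        Nonempty (IsColimit (Cocone.mk _ ι)) := by
  classical
  let η := genericPoint X
  have hUle : ∀ V : X.Opens, wOpen U V ≤ V := fun V x hx => ((mem_wOpen U).1 hx).1
  have hWU : ∀ V : X.Opens, wOpen U V ≤ U := fun V x hx => ((mem_wOpen U).1 hx).2
  by_cases hη : η ∈ U
  · have hP : ∀ n, Ref1Lib.FreeGen (RefPow.refPow F n) η (RefPow.sPowGerm s n η) := fun n =>
      RefPowLib.freeGen_sPow s hF (show η ∈ RefPow.isoLocus s by rw [← hU]; exact hη) n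
    have hex : ∀ (n : ℕ) (V : X.Opens) (t : Γ(RefPow.refPow F n, V)), ∃ a : Γ(jO U, V),
        ∀ hW : η ∈ wOpen U V, X.presheaf.germ (wOpen U V) η hW (fn U a) • RefPow.sPowGerm s n η =
          (RefPow.refPow F n).presheaf.germ V η (hUle V hW) t := fun n V t =>
      RefPowLib.exists_coef s hF U hU hη (hUle V) (hWU V) n t
    choose f hf using hex
    have huniq : ∀ (n : ℕ) (V : X.Opens) (t : Γ(RefPow.refPow F n, V)) (a : Γ(jO U, V)),
        (∀ hW : η ∈ wOpen U V, X.presheaf.germ (wOpen U V) η hW (fn U a) • RefPow.sPowGerm s n η =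
          (RefPow.refPow F n).presheaf.germ V η (hUle V hW) t) → f n V t = a := fun n V t a ha =>
      fn_ext U _ _ fun hW => (hP n).1 ((hf n V t hW).trans (ha hW).symm)
    let g : ∀ (n : ℕ) (V : X.Opens), Γ(RefPow.refPow F n, V) →+ Γ(jO U, V) := fun n V =>
      AddMonoidHom.mk' (f n V) fun a b => huniq _ _ _ _ fun hW => by
        show X.presheaf.germ _ η hW (fn U (f n V a) + fn U (f n V b)) • _ = _
        rw [map_add, map_add, add_smul, hf, hf]
    have hsmul : ∀ (n : ℕ) (V : X.Opens) (r : Γ(X, V)) (t : Γ(RefPow.refPow F n, V)),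
        g n V (r • t) = r • g n V t := fun n V r t => huniq _ _ _ _ fun hW => by
      show X.presheaf.germ _ η hW (fn U (r • f n V t)) • _ = _
      rw [fn_smul, map_mul, mul_smul, hf, TopCat.Presheaf.germ_res_apply, Mero.germ_smul]
    have hres : ∀ (n : ℕ) (V V' : X.Opens) (i : V' ⟶ V) (t : Γ(RefPow.refPow F n, V)),
        g n V' ((RefPow.refPow F n).presheaf.map i.op t) = (jO U).presheaf.map i.op (g n V t) :=
      fun n V V' i t => huniq _ _ _ _ fun hW => by
        have hle : wOpen U V' ≤ wOpen U V := fun x hx =>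
          (mem_wOpen U).2 ⟨i.le ((mem_wOpen U).1 hx).1, ((mem_wOpen U).1 hx).2⟩
        show X.presheaf.germ _ η hW (X.presheaf.map (homOfLE hle).op (fn U (f n V t))) • _ = _
        rw [TopCat.Presheaf.germ_res_apply, hf, TopCat.Presheaf.germ_res_apply]
    let ιn : ∀ n, RefPow.refPow F n ⟶ jO U := fun n => RefHullLib.homMk (g n) (hsmul n) (hres n)
    have hcomm : ∀ n, RefPow.mulBy s n ≫ ιn (n + 1) = ιn n := fun n =>
      RefHullLib.hom_ext_sections _ _ fun V t => by
        refine huniq (n + 1) V _ (f n V t) fun hW => ?_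
        show _ = (RefPow.refPow F (n + 1)).presheaf.germ V η (hUle V hW) ((RefPow.mulBy s n).app V t)
        rw [← RefHull.stalkMapₗ_germ, ← hf n V t hW, map_smul, ← RefPowLib.sPowGerm_succ]
    let ι : RefPow.diagram F s ⟶ (Functor.const ℕ).obj (jO U) :=
      NatTrans.ofSequence ιn fun n => by
        rw [RefPow.diagram_map]
        exact (hcomm n).trans (Category.comp_id _).symm
    refine ⟨ι, ?_, ?_⟩
    · refine RefHullLib.hom_ext_sections _ _ fun V t => ?_
      refine huniq 0 V t _ fun hW => ?_
      show X.presheaf.germ (wOpen U V) η hW (X.presheaf.map _ (show Γ(X, V) from t)) • _ = _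
      rw [TopCat.Presheaf.germ_res_apply]
      have h1 : RefPow.sPowGerm s 0 η = (Coh.structureModule X).presheaf.germ V η (hUle V hW) (show Γ(X, V) from 1) :=
        ((TopCat.Presheaf.germ_res_apply (Coh.structureModule X).presheaf (homOfLE (le_top : V ≤ ⊤)) η
          (hUle V hW) _).symm.trans (congrArg _ (SecTwist.map_val (RefPow.sPow s 0) (homOfLE (le_top : V ≤ ⊤)))))
      rw [h1]
      exact (Mero.germ_smul _ V η (hUle V hW) (show Γ(X, V) from t) (show Γ(Coh.structureModule X, V) from (1 : Γ(X, V)))).symm.trans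
        (congrArg _ (mul_one (show Γ(X, V) from t)))
    let φ := colimit.desc (RefPow.diagram F s) (Cocone.mk _ ι)
    have hiso : IsIso φ := by
      refine (RefHullLib.isIso_iff_stalk φ).2 fun x => ⟨(injective_iff_map_eq_zero _).2 fun v hv => ?_, fun b => ?_⟩
      · haveI : PreservesColimitsOfShape (AsSmall.{u} ℕ) (forget (ModuleCat.{u} (X.presheaf.stalk x))) :=
          inferInstance
        haveI : PreservesColimitsOfShape ℕ (forget (ModuleCat.{u} (X.presheaf.stalk x))) :=
          preservesColimitsOfShape_of_equiv (AsSmall.equiv (C := ℕ)).symm _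
        obtain ⟨n, a, rfl⟩ := Concrete.isColimit_exists_rep _
          (isColimitOfPreserves (DerSch.stalkFunctor X x) (colimit.isColimit (RefPow.diagram F s))) v
        obtain ⟨V, hxV, t, rfl⟩ := TopCat.Presheaf.exists_germ_eq (RefPow.refPow F n).presheaf (x := x) a
        have e1 : ((DerSch.stalkFunctor X x).map (colimit.ι (RefPow.diagram F s) n)).hom
            ((RefPow.refPow F n).presheaf.germ V x hxV t) =
            (colimit (RefPow.diagram F s)).presheaf.germ V x hxV ((colimit.ι (RefPow.diagram F s) n).app V t) :=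
          DerSch.stalkFunctor_map_germ x _ V hxV t
        have e2 : (RefHull.stalkMapₗ φ x) ((colimit (RefPow.diagram F s)).presheaf.germ V x hxV
            ((colimit.ι (RefPow.diagram F s) n).app V t)) = (jO U).presheaf.germ V x hxV (f n V t) := by
          rw [RefHull.stalkMapₗ_germ]
          exact congrArg _ (congr(($(colimit.ι_desc (Cocone.mk _ ι) n)).app V t))
        have h0 : (jO U).presheaf.germ V x hxV (f n V t) = (jO U).presheaf.germ V x hxV 0 := by
          rw [map_zero, ← e2, ← e1]; exact hv
        obtain ⟨V', hxV', i₁, i₂, hV'⟩ := (jO U).presheaf.germ_eq x hxV hxV _ _ h0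
        rw [map_zero, show f n V t = g n V t from rfl, ← hres] at hV'
        have hη' : η ∈ wOpen U V' := (mem_wOpen U).2 ⟨RefHullLib.mem_of_nonempty hxV', hη⟩
        have h1 := hf n V' ((RefPow.refPow F n).presheaf.map i₁.op t) hη'
        rw [show f n V' ((RefPow.refPow F n).presheaf.map i₁.op t) = 0 from hV',
          show fn U (0 : Γ(jO U, V')) = 0 from rfl, map_zero, zero_smul, TopCat.Presheaf.germ_res_apply] at h1
        have h2 : (RefPow.refPow F n).presheaf.germ V x hxV t = 0 :=
          Ref1Lib.spec_injective (RefPowLib.isRef1_refPow hF n) x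
            ((Ref1Lib.spec_germ _ hxV t).trans (h1.symm.trans (map_zero _).symm))
        show ((DerSch.stalkFunctor X x).map (colimit.ι (RefPow.diagram F s) n)).hom _ = 0
        exact (congrArg _ h2).trans (map_zero _)
      · obtain ⟨V₀, hxV₀, a, rfl⟩ := TopCat.Presheaf.exists_germ_eq (jO U).presheaf (x := x) b
        obtain ⟨V, hV, hxV, hVV₀⟩ := exists_isAffineOpen_mem_and_subset (x := x) (U := V₀) hxV₀
        let a' : Γ(jO U, V) := (jO U).presheaf.map (homOfLE hVV₀).op a
        obtain ⟨N, hN⟩ := RefPowLib.exists_pow_extend s hF U hU hX hη hV (RefHullLib.mem_of_nonempty hxV)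
          (fun y hy hyU => (mem_wOpen U).2 ⟨hy, hyU⟩) (fn U a')
        obtain ⟨t, ht⟩ := hN N le_rfl
        have hfa : f N V t = a' := huniq N V t a' fun hW => ht.symm
        refine ⟨(colimit (RefPow.diagram F s)).presheaf.germ V x hxV
          ((colimit.ι (RefPow.diagram F s) N).app V t), ?_⟩
        rw [RefHull.stalkMapₗ_germ]
        refine (congrArg _ (congr(($(colimit.ι_desc (Cocone.mk _ ι) N)).app V t))).trans ?_
        refine (congrArg ((jO U).presheaf.germ V x hxV) hfa).trans ?_
        exact TopCat.Presheaf.germ_res_apply (jO U).presheaf (homOfLE hVV₀) x hxV a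
    haveI : IsIso ((colimit.isColimit (RefPow.diagram F s)).desc (Cocone.mk _ ι)) := hiso
    exact ⟨IsColimit.ofPointIso (colimit.isColimit (RefPow.diagram F s))⟩
  · have hs : RefPowLib.sGerm s η = 0 := by
      by_contra h
      exact hη (show η ∈ (U : Set X) from hU ▸ RefPowLib.eta_mem_of_ne s hF h)
    have hbot : ∀ x, x ∉ U := fun x hx => hη (RefHullLib.mem_of_nonempty hx)
    have hzero : ∀ (V : X.Opens) (a b : Γ(jO U, V)), a = b := fun V a b =>
      TopCat.Presheaf.section_ext X.sheaf _ (fn U a) (fn U b) fun y hy => absurd (hWU V hy) (hbot y)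
    have hsz : ∀ x, RefPowLib.sGerm s x = 0 := fun x => Ref1Lib.spec_injective hF x
      ((Ref1Lib.spec_germ F (U := (⊤ : X.Opens)) trivial _).trans (hs.trans (map_zero _).symm))
    have hzhom : ∀ n, RefPow.mulBy s n = 0 := fun n => RefHullLib.hom_ext_sections _ _ fun V t => by
      refine RefHullLib.germ_ext _ _ _ fun x hx => ?_
      rw [← RefHull.stalkMapₗ_germ]
      show _ = (RefPow.refPow F (n + 1)).presheaf.germ V x hx 0
      rw [map_zero]
      cases n with
      | zero =>
        obtain ⟨c, hc⟩ := ((AmpleLib.one_genOn (X := X) ⊤).genAt (x := x) trivial).2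
          ((Coh.structureModule X).presheaf.germ V x hx t)
        show RefHull.stalkMapₗ s x ((Coh.structureModule X).presheaf.germ V x hx t) = 0
        rw [← hc]
        dsimp only
        rw [map_smul]
        refine (congrArg (c • ·) ?_).trans (smul_zero c)
        exact (RefHull.stalkMapₗ_germ s (U := (⊤ : X.Opens)) x trivial _).trans (hsz x)
      | succ n =>
        rw [RefPowLib.mulBy_stalk, hsz]
        show RefHull.stalkMapₗ _ x (KFlatLib.stalkTensorLin _ _ x (_ ⊗ₜ[_] 0)) = 0
        rw [TensorProduct.tmul_zero, map_zero, map_zero]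
    let ι : RefPow.diagram F s ⟶ (Functor.const ℕ).obj (jO U) :=
      NatTrans.ofSequence (fun n => (0 : RefPow.refPow F n ⟶ jO U)) fun n =>
        RefHullLib.hom_ext_sections _ _ fun V t => hzero V _ _
    refine ⟨ι, RefHullLib.hom_ext_sections _ _ fun V t => hzero V _ _, ⟨?_⟩⟩
    refine
      { desc := fun c => 0
        fac := fun c n => ?_
        uniq := fun c m _ => RefHullLib.hom_ext_sections _ _ fun V t => ?_ }
    · have h1 := c.w (homOfLE (Nat.le_succ n))
      rw [RefPow.diagram_map, hzhom] at h1
      simp only [comp_zero]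
      exact (zero_comp.symm.trans h1)
    · rw [hzero V t 0, map_zero, map_zero]

end Groth.Agent.S16150
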