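import Groth.Statements.S16151
import Groth.Agent.RefPowLib.Functions
import Groth.Agent.FlatLib.QStalk
-- import your own Groth.Agent.* helpers here

set_option autoImplicit false
set_option linter.style.haveILetI false
universe u
open CategoryTheory CategoryTheory.Limits AlgebraicGeometry TopologicalSpace
open SDiv

namespace Groth.Agent.S16151

open Opposite
open Ref1Lib (spec)

variable {X : Scheme.{u}}

theorem germ_mem_max_iff {V : X.Opens} {x : X} (hx : x ∈ V) (f : Γ(X, V)) :
    X.presheaf.germ V x hx f ∈ IsLocalRing.maximalIdeal (X.presheaf.stalk x) ↔ x ∉ X.basicOpen f := by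
  rw [IsLocalRing.mem_maximalIdeal, mem_nonunits_iff, X.mem_basicOpen f x hx]

theorem fromSpec_mem_basicOpen {V : X.Opens} (hV : IsAffineOpen V) (q : PrimeSpectrum Γ(X, V)) (f : Γ(X, V)) :
    hV.fromSpec q ∈ X.basicOpen f ↔ f ∉ q.asIdeal := by
  show q ∈ hV.fromSpec ⁻¹ᵁ X.basicOpen f ↔ _
  rw [hV.fromSpec_preimage_basicOpen]
  exact Iff.rfl

theorem fromSpec_mem {V : X.Opens} (hV : IsAffineOpen V) (q : PrimeSpectrum Γ(X, V)) :
    hV.fromSpec q ∈ V := by
  show hV.fromSpec q ∈ (V : Set X)
  rw [← hV.range_fromSpec]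
  exact ⟨q, rfl⟩

theorem spec_zero [IsIntegral X] (F : X.Modules) (x : X) : spec F x 0 = 0 :=
  map_zero (F.presheaf.stalkSpecializes _).hom

theorem spec_add [IsIntegral X] (F : X.Modules) (x : X) (v v' : F.presheaf.stalk x) :
    spec F x (v + v') = spec F x v + spec F x v' :=
  map_add (F.presheaf.stalkSpecializes _).hom v v'

variable [IsIntegral X] [IsLocallyNoetherian X] (hX : Pi1.IsNormalScheme X) {F : X.Modules}
  (hF : RefHull.IsRef1 F) (s : Coh.structureModule X ⟶ F) (U : X.Opens)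
  (hU : (U : Set X) = RefPow.isoLocus s)

include hX hF hU in
theorem mem_of_affine (hη : genericPoint X ∈ U) [IsAffineHom U.ι] {x : X} (hxU : x ∉ U) :
    ∃ n : ℕ, 0 < n ∧
      RefPow.sPowGerm s n x ∈ IsLocalRing.maximalIdeal (X.presheaf.stalk x) •
        (⊤ : Submodule (X.presheaf.stalk x) ((RefPow.refPow F n).presheaf.stalk x)) := by
  obtain ⟨V, hV, hxV, -⟩ := exists_isAffineOpen_mem_and_subset (x := x) (U := (⊤ : X.Opens)) trivial
  have hηV : genericPoint X ∈ V := RefHullLib.mem_of_nonempty hxV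
  let W : X.Opens := V ⊓ U
  have hW : IsAffineOpen W := by
    have h := (hV.preimage U.ι).image_of_isOpenImmersion U.ι
    rwa [Scheme.Hom.image_preimage_eq_opensRange_inf, Scheme.Opens.opensRange_ι, inf_comm] at h
  let res : Γ(X, V) →+* Γ(X, W) := (X.presheaf.map (homOfLE (inf_le_left : W ≤ V)).op).hom
  let p : Ideal Γ(X, V) :=
    (IsLocalRing.maximalIdeal (X.presheaf.stalk x)).comap (X.presheaf.germ V x hxV).hom
  have h1 : Ideal.map res p = ⊤ := by
    by_contra hne
    obtain ⟨Q, hQ, hle⟩ := Ideal.exists_le_maximal _ hne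
    let y := hW.fromSpec ⟨Q, hQ.isPrime⟩
    have hy : y ∈ W := fromSpec_mem hW _
    obtain ⟨f, hfU, hyf⟩ := QCohLib.exists_basicOpen_nhd hV hy.2 hy.1
    refine hxU (hfU ?_)
    by_contra hxf
    have hfp : f ∈ p := (germ_mem_max_iff hxV f).2 hxf
    refine (fromSpec_mem_basicOpen hW ⟨Q, hQ.isPrime⟩ (res f)).1 ?_ (hle (Ideal.mem_map_of_mem res hfp))
    show y ∈ X.basicOpen (X.presheaf.map _ f)
    rw [Scheme.basicOpen_res]
    exact ⟨hy, hyf⟩
  let η := genericPoint X
  let P : Γ(X, W) → Prop := fun a => ∀ b : Γ(X, W), ∃ N : ℕ, ∀ n, N ≤ n →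
    ∃ v ∈ IsLocalRing.maximalIdeal (X.presheaf.stalk x) •
        (⊤ : Submodule (X.presheaf.stalk x) ((RefPow.refPow F n).presheaf.stalk x)),
      spec (RefPow.refPow F n) x v =
        X.presheaf.germ W η ⟨hηV, hη⟩ (b * a) • RefPow.sPowGerm s n η
  have hP : ∀ a ∈ Ideal.map res p, P a := fun a ha => by
    induction ha using Submodule.span_induction with
    | mem a ha =>
      obtain ⟨f, hf, rfl⟩ := ha
      intro b
      obtain ⟨N, hN⟩ := RefPowLib.exists_pow_extend s hF U hU hX hη hV hηV (W := W)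
        (fun y hy hyU => ⟨hy, hyU⟩) b
      refine ⟨N, fun n hn => ?_⟩
      obtain ⟨t, ht⟩ := hN n hn
      refine ⟨X.presheaf.germ V x hxV f • (RefPow.refPow F n).presheaf.germ V x hxV t,
        Submodule.smul_mem_smul hf trivial, ?_⟩
      rw [Ref1Lib.spec_smul, CDivCoreLib.algebraMap_germ hxV hηV, Ref1Lib.spec_germ, ht, smul_smul,
        mul_comm b, map_mul]
      show _ = (X.presheaf.germ W η _ (X.presheaf.map _ f) * _) • _
      rw [TopCat.Presheaf.germ_res_apply]
    | zero =>
      exact fun b => ⟨0, fun n _ => ⟨0, Submodule.zero_mem _, by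
        rw [mul_zero, map_zero, spec_zero, zero_smul]⟩⟩
    | add a a' _ _ h h' =>
      intro b
      obtain ⟨N, hN⟩ := h b
      obtain ⟨N', hN'⟩ := h' b
      refine ⟨max N N', fun n hn => ?_⟩
      obtain ⟨v, hv, e⟩ := hN n (le_of_max_le_left hn)
      obtain ⟨v', hv', e'⟩ := hN' n (le_of_max_le_right hn)
      exact ⟨v + v', Submodule.add_mem _ hv hv', by rw [spec_add, e, e', mul_add, map_add, add_smul]⟩
    | smul c a _ h =>
      intro b
      rw [smul_eq_mul]
      simpa only [mul_assoc] using h (b * c)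
  obtain ⟨N, hN⟩ := hP 1 (h1 ▸ Submodule.mem_top) 1
  obtain ⟨v, hv, e⟩ := hN (N + 1) (Nat.le_succ N)
  rw [mul_one, map_one, one_smul, ← RefPowLib.spec_sPowGerm s (N + 1) x] at e
  exact ⟨N + 1, N.succ_pos, Ref1Lib.spec_injective (RefPowLib.isRef1_refPow hF _) x e ▸ hv⟩

include hF hU in
theorem isAffineOpen_inter (hη : genericPoint X ∈ U)
    (h : ∀ x : X, x ∉ U → ∃ n : ℕ, 0 < n ∧
      RefPow.sPowGerm s n x ∈ IsLocalRing.maximalIdeal (X.presheaf.stalk x) •
        (⊤ : Submodule (X.presheaf.stalk x) ((RefPow.refPow F n).presheaf.stalk x)))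
    {V : X.Opens} (hV : IsAffineOpen V) : IsAffineOpen (V ⊓ U) := by
  let η := genericPoint X
  let W : X.Opens := V ⊓ U
  let res : Γ(X, V) →+* Γ(X, W) := (X.presheaf.map (homOfLE (inf_le_left : W ≤ V)).op).hom
  refine isAffineOpen_of_isAffineOpen_basicOpen W (res '' {r | X.basicOpen r ≤ U}) ?_ ?_
  · by_contra hne
    obtain ⟨M, hM, hle⟩ := Ideal.exists_le_maximal _ hne
    let q : PrimeSpectrum Γ(X, V) := ⟨M.comap res, hM.isPrime.comap res⟩
    let x := hV.fromSpec q
    have hxV : x ∈ V := fromSpec_mem hV q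
    have hηV : η ∈ V := RefHullLib.mem_of_nonempty hxV
    have hxU : x ∉ U := fun hxU => by
      obtain ⟨f, hfU, hxf⟩ := QCohLib.exists_basicOpen_nhd hV hxU hxV
      exact (fromSpec_mem_basicOpen hV q f).1 hxf (hle (Ideal.subset_span ⟨f, hfU, rfl⟩))
    obtain ⟨n, -, hn⟩ := h x hxU
    have hG := RefPowLib.freeGen_sPow s hF (show η ∈ RefPow.isoLocus s by rw [← hU]; exact hη) n
    haveI : Coh.IsQCoh (RefPow.refPow F n) := (RefPowLib.isRef1_refPow hF n).1.1
    have key : ∀ v ∈ IsLocalRing.maximalIdeal (X.presheaf.stalk x) •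
        (⊤ : Submodule (X.presheaf.stalk x) ((RefPow.refPow F n).presheaf.stalk x)),
        ∃ c : Γ(X, V), x ∈ X.basicOpen c ∧ ∃ a ∈ M,
          X.presheaf.germ V η hηV c • spec (RefPow.refPow F n) x v =
            X.presheaf.germ W η ⟨hηV, hη⟩ a • RefPow.sPowGerm s n η := fun v hv => by
      refine Submodule.smul_induction_on hv (fun r hr v _ => ?_) (fun v v' hv hv' => ?_)
      · letI : Algebra Γ(X, V) (X.presheaf.stalk x) := (X.presheaf.germ V x hxV).hom.toAlgebra
        haveI : IsLocalization.AtPrime (X.presheaf.stalk x) (hV.primeIdealOf ⟨x, hxV⟩).asIdeal :=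
          hV.isLocalization_stalk ⟨x, hxV⟩
        letI := Module.compHom ((RefPow.refPow F n).presheaf.stalk x) (X.presheaf.germ V x hxV).hom
        haveI := FlatLib.isLocalizedModule_germLin (RefPow.refPow F n) hV hxV
        obtain ⟨⟨m, d⟩, hmd⟩ := IsLocalizedModule.surj
          (hV.primeIdealOf ⟨x, hxV⟩).asIdeal.primeCompl (FlatLib.germLin (RefPow.refPow F n) hxV) v
        obtain ⟨⟨f, d'⟩, hfd⟩ := IsLocalization.surj (hV.primeIdealOf ⟨x, hxV⟩).asIdeal.primeCompl r
        obtain ⟨L, hL⟩ := RefPowLib.exists_coef s hF U hU hη (W := W) inf_le_left inf_le_right n m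
        have hd : ∀ d : (hV.primeIdealOf ⟨x, hxV⟩).asIdeal.primeCompl, x ∈ X.basicOpen d.1 := fun d =>
          (X.mem_basicOpen d.1 x hxV).2 (IsLocalization.map_units (X.presheaf.stalk x) d)
        replace hmd : X.presheaf.germ V x hxV d.1 • v = (RefPow.refPow F n).presheaf.germ V x hxV m := hmd
        replace hfd : r * X.presheaf.germ V x hxV d'.1 = X.presheaf.germ V x hxV f := hfd
        refine ⟨d.1 * d'.1, by rw [Scheme.basicOpen_mul]; exact ⟨hd d, hd d'⟩, res f * L,
          M.mul_mem_right _ (show f ∈ q.asIdeal from ?_), ?_⟩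
        · by_contra hf
          exact (germ_mem_max_iff hxV f).1 (hfd ▸ Ideal.mul_mem_right _ _ hr)
            ((fromSpec_mem_basicOpen hV q f).2 hf)
        · rw [← CDivCoreLib.algebraMap_germ hxV hηV]
          refine (Ref1Lib.spec_smul _ x _ _).symm.trans ?_
          rw [map_mul, smul_smul, show X.presheaf.germ V x hxV d.1 * X.presheaf.germ V x hxV d'.1 * r =
              (r * X.presheaf.germ V x hxV d'.1) * X.presheaf.germ V x hxV d.1 from by ring, hfd,
            mul_smul, hmd, Ref1Lib.spec_smul, CDivCoreLib.algebraMap_germ hxV hηV, Ref1Lib.spec_germ,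
            map_mul, mul_smul, hL]
          show _ = X.presheaf.germ W η _ (X.presheaf.map _ f) • _
          rw [TopCat.Presheaf.germ_res_apply]
      · obtain ⟨c, hc, a, ha, e⟩ := hv
        obtain ⟨c', hc', a', ha', e'⟩ := hv'
        refine ⟨c * c', by rw [Scheme.basicOpen_mul]; exact ⟨hc, hc'⟩, res c' * a + res c * a',
          M.add_mem (M.mul_mem_left _ ha) (M.mul_mem_left _ ha'), ?_⟩
        have k : ∀ r : Γ(X, V), X.presheaf.germ W η ⟨hηV, hη⟩ (res r) = X.presheaf.germ V η hηV r :=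
          fun r => TopCat.Presheaf.germ_res_apply X.presheaf _ η _ r
        rw [spec_add, smul_add, map_mul, map_add, map_mul, map_mul, k, k, add_smul, mul_smul, mul_smul,
          mul_smul, mul_smul, e', ← e]
        exact congrArg₂ (· + ·) (smul_comm _ _ _) rfl
    obtain ⟨c, hc, a, ha, e⟩ := key _ hn
    rw [RefPowLib.spec_sPowGerm] at e
    have h1 : X.presheaf.germ V η hηV c = X.presheaf.germ W η ⟨hηV, hη⟩ a := hG.1 e
    haveI : Nonempty (W : Scheme.{u}) := ⟨⟨η, hηV, hη⟩⟩
    have h2 : res c = a := germ_injective_of_isIntegral X η (U := W) ⟨hηV, hη⟩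
      ((TopCat.Presheaf.germ_res_apply X.presheaf _ η _ c).trans h1)
    exact (fromSpec_mem_basicOpen hV q c).1 hc (show res c ∈ M from h2 ▸ ha)
  · rintro _ ⟨r, hr, rfl⟩
    show IsAffineOpen (X.basicOpen (X.presheaf.map _ r))
    rw [Scheme.basicOpen_res, inf_eq_right.2 (le_inf (X.basicOpen_le r) hr)]
    exact hV.basicOpen r

/-- Let X be an integral locally Noetherian normal scheme, F a rank one coherent reflexive O_X-module
and s : O_X → F a global section of F; let U be the open subscheme of X whose points are those x at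
which the stalk map (O_X)_x → F_x of s is bijective, and let F^[n] denote the reflexive powers of F
(F^[0] = O_X, F^[1] = F, F^[n+1] the reflexive hull of F^[n] ⊗ F) with s^n ∈ Γ(X, F^[n]) the n-th
power of s. Then the following are equivalent: (1) the inclusion morphism U → X is affine; (2) for
every point x of X not in U there is an integer n > 0 such that the germ of s^n at x lies in m_x ·
(F^[n])_x, where m_x is the maximal ideal of the local ring at x. -/
theorem result (X : Scheme.{u}) [IsIntegral X] [IsLocallyNoetherian X]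
    (hX : Pi1.IsNormalScheme X) (F : X.Modules) (hF : RefHull.IsRef1 F) (s : Coh.structureModule X ⟶ F)
    (U : X.Opens) (hU : (U : Set X) = RefPow.isoLocus s) :
    IsAffineHom U.ι ↔
      ∀ x : X, x ∉ U → ∃ n : ℕ, 0 < n ∧
        RefPow.sPowGerm s n x ∈ IsLocalRing.maximalIdeal (X.presheaf.stalk x) •
          (⊤ : Submodule (X.presheaf.stalk x) ((RefPow.refPow F n).presheaf.stalk x)) := by
  have hsplit : ∀ h : ∀ V : X.Opens, IsAffineOpen V → IsAffineOpen (V ⊓ U), IsAffineHom U.ι := fun h =>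
    ⟨fun V hV => by
      have hW := (h V hV).preimage_of_isOpenImmersion U.ι
        (by rw [Scheme.Opens.opensRange_ι]; exact inf_le_right)
      rwa [show U.ι ⁻¹ᵁ (V ⊓ U) = U.ι ⁻¹ᵁ V from
        Opens.ext (Set.ext fun y => ⟨fun hy => hy.1, fun hy => ⟨hy, y.2⟩⟩)] at hW⟩
  by_cases hη : genericPoint X ∈ U
  · exact ⟨fun h x hx => mem_of_affine hX hF s U hU hη hx,
      fun h => hsplit fun V hV => isAffineOpen_inter hF s U hU hη h hV⟩
  · have hbot : ∀ x, x ∉ U := fun x hx => hη (RefHullLib.mem_of_nonempty hx)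
    have hs : RefPowLib.sGerm s (genericPoint X) = 0 := by
      by_contra h
      exact hη (show genericPoint X ∈ (U : Set X) from hU ▸ RefPowLib.eta_mem_of_ne s hF h)
    refine ⟨fun _ x _ => ⟨1, one_pos, ?_⟩, fun _ => hsplit fun V _ => ?_⟩
    · have hx0 : RefPowLib.sGerm s x = 0 := Ref1Lib.spec_injective hF x
        ((Ref1Lib.spec_germ F (U := (⊤ : X.Opens)) trivial _).trans (hs.trans (map_zero _).symm))
      rw [RefPowLib.sPowGerm_one, hx0]
      exact Submodule.zero_mem _
    · rw [show V ⊓ U = ⊥ from Opens.ext (Set.ext fun y => ⟨fun hy => (hbot y hy.2).elim, False.elim⟩)]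
      exact isAffineOpen_bot X

end Groth.Agent.S16151
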