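import Groth.Statements.S16153
import Mathlib.Algebra.Polynomial.Derivative
import Mathlib.Algebra.Polynomial.AlgebraMap
import Mathlib.Algebra.MvPolynomial.CommRing
import Mathlib.Algebra.BigOperators.Fin
import Mathlib.Tactic.LinearCombination
import Mathlib.Tactic.FieldSimp
import Mathlib.Tactic.FinCases
-- import your own Groth.Agent.* helpers here

set_option autoImplicit false
universe u
open SpinRat

namespace Groth.Agent.S16153

open MvPolynomial

section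
variable {k : Type u} [Field k]

noncomputable def M (i j : Fin 4) : MvPolynomial (Fin 4) k :=
  X 0 ^ i.1 * X 1 ^ (3 - i.1) * X 2 ^ j.1 * X 3 ^ (3 - j.1)

noncomputable def Fa (a : Fin 4 → Fin 4 → k) : MvPolynomial (Fin 4) k := ∑ i, ∑ j, C (a i j) * M i j

noncomputable def e (i j : Fin 4) : Fin 4 →₀ ℕ :=
  Finsupp.single 0 i.1 + Finsupp.single 1 (3 - i.1) + Finsupp.single 2 j.1 + Finsupp.single 3 (3 - j.1)

lemma e_inj {i j i' j' : Fin 4} (h : e i j = e i' j') : i = i' ∧ j = j' := by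
  have h0 := DFunLike.congr_fun h 0
  have h2 := DFunLike.congr_fun h 2
  simp [e] at h0 h2
  exact ⟨Fin.ext h0, Fin.ext h2⟩

lemma M_eq (i j : Fin 4) : (M i j : MvPolynomial (Fin 4) k) = monomial (e i j) 1 := by
  simp [M, e, X_pow_eq_monomial, monomial_mul]

lemma coeff_Fa (a : Fin 4 → Fin 4 → k) (i j : Fin 4) : coeff (e i j) (Fa a) = a i j := by
  simp only [Fa, coeff_sum, coeff_C_mul, M_eq, coeff_monomial]
  rw [Finset.sum_eq_single i, Finset.sum_eq_single j]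
  · simp
  · exact fun b _ hb => by rw [if_neg fun h => hb (e_inj h).2, mul_zero]
  · simp
  · exact fun b _ hb => Finset.sum_eq_zero fun c _ => by rw [if_neg fun h => hb (e_inj h).1, mul_zero]
  · simp

def Bi (m n : ℕ) (f : MvPolynomial (Fin 4) k) : Prop :=
  f.IsWeightedHomogeneous (![1, 1, 0, 0] : Fin 4 → ℕ) m ∧ f.IsWeightedHomogeneous (![0, 0, 1, 1] : Fin 4 → ℕ) n

lemma Bi.mul {a b c d : ℕ} {f g : MvPolynomial (Fin 4) k} (hf : Bi a b f) (hg : Bi c d g) :
    Bi (a + c) (b + d) (f * g) := ⟨hf.1.mul hg.1, hf.2.mul hg.2⟩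

lemma Bi.add {a b : ℕ} {f g : MvPolynomial (Fin 4) k} (hf : Bi a b f) (hg : Bi a b g) : Bi a b (f + g) :=
  ⟨hf.1.add hg.1, hf.2.add hg.2⟩

lemma Bi.sub {a b : ℕ} {f g : MvPolynomial (Fin 4) k} (hf : Bi a b f) (hg : Bi a b g) : Bi a b (f - g) :=
  ⟨(weightedHomogeneousSubmodule k _ a).sub_mem hf.1 hg.1, (weightedHomogeneousSubmodule k _ b).sub_mem hf.2 hg.2⟩

lemma bx (i : Fin 4) : Bi (k := k) ((![1, 1, 0, 0] : Fin 4 → ℕ) i) ((![0, 0, 1, 1] : Fin 4 → ℕ) i) (X i) :=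
  ⟨isWeightedHomogeneous_X k _ i, isWeightedHomogeneous_X k _ i⟩

lemma Bi.expand {f : MvPolynomial (Fin 4) k} (hf : Bi 3 3 f) : f = Fa fun i j => coeff (e i j) f := by
  ext d
  by_cases hd : ∃ i j, e i j = d
  · obtain ⟨i, j, rfl⟩ := hd
    exact (coeff_Fa (fun i j => coeff (e i j) f) i j).symm
  · have h0 : coeff d f = 0 := by
      by_contra h
      have h1 := hf.1 h
      have h2 := hf.2 h
      simp [Finsupp.weight_apply, Finsupp.sum_fintype, Fin.sum_univ_four] at h1 h2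
      refine hd ⟨⟨d 0, by omega⟩, ⟨d 2, by omega⟩, Finsupp.ext fun x => ?_⟩
      fin_cases x <;> simp [e] <;> omega
    rw [h0, Fa, coeff_sum]
    refine (Finset.sum_eq_zero fun i _ => ?_).symm
    rw [coeff_sum]
    refine Finset.sum_eq_zero fun j _ => ?_
    rw [coeff_C_mul, M_eq, coeff_monomial, if_neg fun h => hd ⟨i, j, h⟩, mul_zero]

lemma swap_Fa (a : Fin 4 → Fin 4 → k) :
    rename (![2, 3, 0, 1] : Fin 4 → Fin 4) (Fa a) = Fa fun i j => a j i := by
  simp only [Fa, map_sum, map_mul]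
  rw [Finset.sum_comm]
  refine Finset.sum_congr rfl fun i _ => Finset.sum_congr rfl fun j _ => ?_
  simp only [M, map_mul, map_pow, rename_X, rename_C, Matrix.cons_val]
  ring

lemma double_root (p w q : Polynomial k) (z : k) (h : p = w ^ 2 * q) (hw : w.eval z = 0) :
    p.eval z = 0 ∧ p.derivative.eval z = 0 := by
  subst h
  simp [Polynomial.derivative_mul, Polynomial.derivative_pow, hw]

lemma conds (a : Fin 4 → Fin 4 → k)
    (h : (X 0 * X 1 * (X 0 - X 1)) ^ 2 ∣ rename (![0, 1, 0, 1] : Fin 4 → Fin 2) (Fa a)) :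
    a 0 0 = 0 ∧ a 1 0 + a 0 1 = 0 ∧ a 3 3 = 0 ∧ a 3 2 + a 2 3 = 0 ∧
    (∑ i, ∑ j, a i j) = 0 ∧ (∑ i : Fin 4, ∑ j : Fin 4, ((i.1 + j.1 : ℕ) : k) * a i j) = 0 := by
  obtain ⟨Q, hQ⟩ := h
  let P : Polynomial k := ∑ i : Fin 4, ∑ j : Fin 4, Polynomial.C (a i j) * Polynomial.X ^ (i.1 + j.1)
  let P' : Polynomial k := ∑ i : Fin 4, ∑ j : Fin 4, Polynomial.C (a i j) * Polynomial.X ^ (6 - (i.1 + j.1))
  have hP : P = (Polynomial.X * (Polynomial.X - 1)) ^ 2 * aeval ![Polynomial.X, 1] Q := by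
    have := congrArg (aeval (R := k) ![(Polynomial.X : Polynomial k), 1]) hQ
    simp [aeval_rename, Fa, M, Function.comp_def] at this
    simp only [P, pow_add]
    exact this
  have hP' : P' = (Polynomial.X * (1 - Polynomial.X)) ^ 2 * aeval ![1, Polynomial.X] Q := by
    have := congrArg (aeval (R := k) ![(1 : Polynomial k), Polynomial.X]) hQ
    simp [aeval_rename, Fa, M, Function.comp_def] at this
    refine Eq.trans ?_ this
    refine Finset.sum_congr rfl fun i _ => Finset.sum_congr rfl fun j _ => ?_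
    rw [show 6 - (i.1 + j.1) = (3 - i.1) + (3 - j.1) by omega, pow_add]
  obtain ⟨e0, e1⟩ := double_root P _ _ 0 hP (by simp)
  obtain ⟨e2, e3⟩ := double_root P _ _ 1 hP (by simp)
  obtain ⟨e4, e5⟩ := double_root P' _ _ 0 hP' (by simp)
  simp [P, P', Fin.sum_univ_four, Polynomial.derivative_C_mul_X_pow] at e0 e1 e2 e3 e4 e5
  simp [Fin.sum_univ_four]
  refine ⟨e0, ?_, e4, ?_, ?_, ?_⟩
  · linear_combination e1
  · linear_combination e5
  · linear_combination e2
  · linear_combination e3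

end

open MvPolynomial in
/-- In the bigraded polynomial ring k[x0, x1, y0, y1] of the quadric surface (variables X 0, X 1, X 2, X
3 in this order), over a field k of characteristic zero, let iota exchange x_i with y_i, let l = x0
y1 - x1 y0 be the diagonal, h1 = x0 (y1 - y0) + y0 (x1 - x0), h2 = x1 (y0 - y1) + y1 (x0 - x1), h3 =
x0 y1 + x1 y0, h = h1 + h2 + h3, h13 = h1 - h3, h23 = h2 - h3, and let c = x0 x1 (x0 - x1) y0 y1 (y0
- y1) be the product of the six rulings through the three diagonal points (1:0)x(1:0), (0:1)x(0:1),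
(1:1)x(1:1). Let I be the space of forms of bidegree (3,3) whose restriction to the diagonal is
divisible by (x0 x1 (x0 - x1))^2, that is, the bidegree-(3,3) forms through the length-six subscheme
of the diagonal doubled at those three points. Then the iota-invariant forms in I are exactly the
span of c, l^2 h, l^2 h13, l^2 h23; the iota-anti-invariant forms in I are exactly the span of l
h^2, l h h13, l h h23, l h13^2, l h23^2, l h13 h23; and these ten forms are linearly independent.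
(The source works over the complex numbers and writes the two eigenspaces as direct sums of the
displayed pieces; the six-line form c is read as the product of the two cubic factors.) -/
theorem result
    (k : Type u) [Field k] [CharZero k]
    (l h1 h2 h3 h h13 h23 c : MvPolynomial (Fin 4) k)
    (hl : l = X 0 * X 3 - X 1 * X 2)
    (hh1 : h1 = X 0 * (X 3 - X 2) + X 2 * (X 1 - X 0))
    (hh2 : h2 = X 1 * (X 2 - X 3) + X 3 * (X 0 - X 1))
    (hh3 : h3 = X 0 * X 3 + X 1 * X 2)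
    (hh : h = h1 + h2 + h3) (hh13 : h13 = h1 - h3) (hh23 : h23 = h2 - h3)
    (hc : c = X 0 * X 1 * (X 0 - X 1) * (X 2 * X 3 * (X 2 - X 3)))
    (I : Submodule k (MvPolynomial (Fin 4) k))
    (hI : ∀ f, f ∈ I ↔
      (f.IsWeightedHomogeneous (![1, 1, 0, 0] : Fin 4 → ℕ) 3 ∧
       f.IsWeightedHomogeneous (![0, 0, 1, 1] : Fin 4 → ℕ) 3 ∧
       (X 0 * X 1 * (X 0 - X 1)) ^ 2 ∣ rename (![0, 1, 0, 1] : Fin 4 → Fin 2) f)) :
    (∀ f, (f ∈ I ∧ rename (![2, 3, 0, 1] : Fin 4 → Fin 4) f = f) ↔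
        f ∈ Submodule.span k ({c, l ^ 2 * h, l ^ 2 * h13, l ^ 2 * h23} : Set (MvPolynomial (Fin 4) k))) ∧
    (∀ f, (f ∈ I ∧ rename (![2, 3, 0, 1] : Fin 4 → Fin 4) f = -f) ↔
        f ∈ Submodule.span k ({l * h ^ 2, l * h * h13, l * h * h23, l * h13 ^ 2, l * h23 ^ 2, l * h13 * h23} :
          Set (MvPolynomial (Fin 4) k))) ∧
    LinearIndependent k
      ![c, l ^ 2 * h, l ^ 2 * h13, l ^ 2 * h23, l * h ^ 2, l * h * h13, l * h * h23, l * h13 ^ 2, l * h23 ^ 2,
        l * h13 * h23] := by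
  have bl : Bi 1 1 l := hl ▸ ((bx 0).mul (bx 3)).sub ((bx 1).mul (bx 2))
  have b1 : Bi 1 1 h1 := hh1 ▸ ((bx 0).mul ((bx 3).sub (bx 2))).add ((bx 2).mul ((bx 1).sub (bx 0)))
  have b2 : Bi 1 1 h2 := hh2 ▸ ((bx 1).mul ((bx 2).sub (bx 3))).add ((bx 3).mul ((bx 0).sub (bx 1)))
  have b3 : Bi 1 1 h3 := hh3 ▸ ((bx 0).mul (bx 3)).add ((bx 1).mul (bx 2))
  have bh : Bi 1 1 h := hh ▸ (b1.add b2).add b3
  have b13 : Bi 1 1 h13 := hh13 ▸ b1.sub b3
  have b23 : Bi 1 1 h23 := hh23 ▸ b2.sub b3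
  have bc : Bi 3 3 c := hc ▸ (((bx 0).mul (bx 1)).mul ((bx 0).sub (bx 1))).mul (((bx 2).mul (bx 3)).mul ((bx 2).sub (bx 3)))
  have rl : rename (![0, 1, 0, 1] : Fin 4 → Fin 2) l = 0 := by subst hl; simp [mul_comm]
  have sl : rename (![2, 3, 0, 1] : Fin 4 → Fin 4) l = -l := by subst hl; simp; ring
  have s1 : rename (![2, 3, 0, 1] : Fin 4 → Fin 4) h1 = h1 := by subst hh1; simp; ring
  have s2 : rename (![2, 3, 0, 1] : Fin 4 → Fin 4) h2 = h2 := by subst hh2; simp; ring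
  have s3 : rename (![2, 3, 0, 1] : Fin 4 → Fin 4) h3 = h3 := by subst hh3; simp; ring
  have sh : rename (![2, 3, 0, 1] : Fin 4 → Fin 4) h = h := by simp [hh, s1, s2, s3]
  have s13 : rename (![2, 3, 0, 1] : Fin 4 → Fin 4) h13 = h13 := by simp [hh13, s1, s3]
  have s23 : rename (![2, 3, 0, 1] : Fin 4 → Fin 4) h23 = h23 := by simp [hh23, s2, s3]
  have sc : rename (![2, 3, 0, 1] : Fin 4 → Fin 4) c = c := by subst hc; simp; ring
  have memL : ∀ p, Bi 2 2 p → l * p ∈ I := fun p hp =>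
    (hI _).2 ⟨(bl.mul hp).1, (bl.mul hp).2, by rw [map_mul, rl, zero_mul]; exact dvd_zero _⟩
  have memL2 : ∀ p, Bi 1 1 p → l ^ 2 * p ∈ I := fun p hp => by
    rw [pow_two, mul_assoc]; exact memL _ (bl.mul hp)
  have memc : c ∈ I := (hI _).2 ⟨bc.1, bc.2, by subst hc; exact dvd_of_eq (by simp; ring)⟩
  have h6 : (6 : k) ≠ 0 := by norm_num
  have h36 : (36 : k) ≠ 0 := by norm_num
  refine ⟨fun f => ⟨?_, fun hf => ?_⟩, fun f => ⟨?_, fun hf => ?_⟩, ?_⟩
  · rintro ⟨hfI, hs⟩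
    obtain ⟨f1, f2, f3⟩ := (hI f).1 hfI
    obtain ⟨a, rfl⟩ : ∃ a, f = Fa a := ⟨_, Bi.expand ⟨f1, f2⟩⟩
    have sy : ∀ i j, a j i = a i j := fun i j => by
      have := congrArg (coeff (e i j)) hs
      rwa [swap_Fa, coeff_Fa, coeff_Fa] at this
    obtain ⟨z00, z01, z33, z23, hS, hD⟩ := conds a f3
    simp [Fin.sum_univ_four] at hS hD
    simp only [sy 0 1, sy 0 2, sy 0 3, sy 1 2, sy 1 3, sy 2 3] at z01 z23 hS hD
    have y01 : a 0 1 = 0 := by linear_combination (1 / 2 : k) * z01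
    have y23 : a 2 3 = 0 := by linear_combination (1 / 2 : k) * z23
    simp only [z00, z33, y01, y23] at hS hD
    have y12 : a 1 2 = -2 * a 0 2 - a 1 1 - a 0 3 := by linear_combination (1 / 2 : k) * (4 * hS - hD)
    have y22 : a 2 2 = 2 * a 0 2 + a 1 1 - 2 * a 1 3 := by linear_combination hD - 3 * hS
    have key : (6 : k) • Fa a = (12 * a 0 2 + 6 * a 1 1) • c + (2 * a 0 3) • (l ^ 2 * h) +
        (-2 * a 0 3 - 3 * a 1 3) • (l ^ 2 * h13) + (-3 * a 0 2 - 2 * a 0 3) • (l ^ 2 * h23) := by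
      simp only [Fa, Fin.sum_univ_four, sy 0 1, sy 0 2, sy 0 3, sy 1 2, sy 1 3, sy 2 3, z00, z33, y01, y23, y12, y22]
      subst hh hh13 hh23 hc hl hh1 hh2 hh3
      simp [M, smul_eq_C_mul, map_ofNat]
      ring
    rw [← inv_smul_smul₀ h6 (Fa a), key]
    refine Submodule.smul_mem _ _ (Submodule.add_mem _ (Submodule.add_mem _ (Submodule.add_mem _ ?_ ?_) ?_) ?_) <;>
      exact Submodule.smul_mem _ _ (Submodule.subset_span (by simp))
  · induction hf using Submodule.span_induction with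
    | mem x hx =>
      rcases hx with rfl | rfl | rfl | rfl
      · exact ⟨memc, sc⟩
      · exact ⟨memL2 _ bh, by simp [sl, sh]⟩
      · exact ⟨memL2 _ b13, by simp [sl, s13]⟩
      · exact ⟨memL2 _ b23, by simp [sl, s23]⟩
    | zero => exact ⟨I.zero_mem, map_zero _⟩
    | add x y _ _ hx hy => exact ⟨I.add_mem hx.1 hy.1, by rw [map_add, hx.2, hy.2]⟩
    | smul t x _ hx => exact ⟨I.smul_mem t hx.1, by rw [map_smul, hx.2]⟩
  · rintro ⟨hfI, hs⟩
    obtain ⟨f1, f2, f3⟩ := (hI f).1 hfI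
    obtain ⟨a, rfl⟩ : ∃ a, f = Fa a := ⟨_, Bi.expand ⟨f1, f2⟩⟩
    have sy : ∀ i j, a j i = -a i j := fun i j => by
      have := congrArg (coeff (e i j)) hs
      rwa [swap_Fa, coeff_neg, coeff_Fa, coeff_Fa] at this
    have sd : ∀ i, a i i = 0 := fun i => by linear_combination (1 / 2 : k) * sy i i
    have key : (36 : k) • Fa a = (-4 * a 0 3) • (l * h ^ 2) + (8 * a 0 3 + 6 * a 1 3) • (l * h * h13) +
        (6 * a 0 2 + 8 * a 0 3) • (l * h * h23) + (-4 * a 0 3 - 6 * a 1 3 - 9 * a 2 3) • (l * h13 ^ 2) +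
        (-9 * a 0 1 - 6 * a 0 2 - 4 * a 0 3) • (l * h23 ^ 2) +
        (-6 * a 0 2 + a 0 3 - 9 * a 1 2 - 6 * a 1 3) • (l * h13 * h23) := by
      simp only [Fa, Fin.sum_univ_four, sd, sy 0 1, sy 0 2, sy 0 3, sy 1 2, sy 1 3, sy 2 3]
      subst hh hh13 hh23 hl hh1 hh2 hh3
      simp [M, smul_eq_C_mul, map_ofNat]
      ring
    rw [← inv_smul_smul₀ h36 (Fa a), key]
    refine Submodule.smul_mem _ _ (Submodule.add_mem _ (Submodule.add_mem _ (Submodule.add_mem _
      (Submodule.add_mem _ (Submodule.add_mem _ ?_ ?_) ?_) ?_) ?_) ?_) <;>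
      exact Submodule.smul_mem _ _ (Submodule.subset_span (by simp))
  · induction hf using Submodule.span_induction with
    | mem x hx =>
      rcases hx with rfl | rfl | rfl | rfl | rfl | rfl
      · exact ⟨memL _ (by rw [pow_two]; exact bh.mul bh), by simp [sl, sh]⟩
      · exact ⟨by rw [mul_assoc]; exact memL _ (bh.mul b13), by simp [sl, sh, s13]⟩
      · exact ⟨by rw [mul_assoc]; exact memL _ (bh.mul b23), by simp [sl, sh, s23]⟩
      · exact ⟨memL _ (by rw [pow_two]; exact b13.mul b13), by simp [sl, s13]⟩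
      · exact ⟨memL _ (by rw [pow_two]; exact b23.mul b23), by simp [sl, s23]⟩
      · exact ⟨by rw [mul_assoc]; exact memL _ (b13.mul b23), by simp [sl, s13, s23]⟩
    | zero => exact ⟨I.zero_mem, by simp⟩
    | add x y _ _ hx hy => exact ⟨I.add_mem hx.1 hy.1, by rw [map_add, hx.2, hy.2, neg_add]⟩
    | smul t x _ hx => exact ⟨I.smul_mem t hx.1, by rw [map_smul, hx.2, smul_neg]⟩
  rw [Fintype.linearIndependent_iff]
  intro g hg
  let B : Fin 4 → Fin 4 → k :=
      ![![0, (-4 : k) * g 4 + (-4 : k) * g 6 + (-4 : k) * g 8, (-2 : k) * g 1 + (-2 : k) * g 3 + (12 : k) * g 4 + (6 : k) * g 6, (3 : k) * g 1 + (-9 : k) * g 4],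
        ![(4 : k) * g 4 + (4 : k) * g 6 + (4 : k) * g 8, (1 : k) * g 0 + (4 : k) * g 1 + (4 : k) * g 3, (-1 : k) * g 0 + (-3 : k) * g 1 + (-17 : k) * g 4 + (-4 : k) * g 5 + (-4 : k) * g 6 + (-4 : k) * g 9, (-2 : k) * g 1 + (-2 : k) * g 2 + (12 : k) * g 4 + (6 : k) * g 5],
        ![(-2 : k) * g 1 + (-2 : k) * g 3 + (-12 : k) * g 4 + (-6 : k) * g 6, (-1 : k) * g 0 + (-3 : k) * g 1 + (17 : k) * g 4 + (4 : k) * g 5 + (4 : k) * g 6 + (4 : k) * g 9, (1 : k) * g 0 + (4 : k) * g 1 + (4 : k) * g 2, (-4 : k) * g 4 + (-4 : k) * g 5 + (-4 : k) * g 7],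
        ![(3 : k) * g 1 + (9 : k) * g 4, (-2 : k) * g 1 + (-2 : k) * g 2 + (-12 : k) * g 4 + (-6 : k) * g 5, (4 : k) * g 4 + (4 : k) * g 5 + (4 : k) * g 7, 0]]
  have hB : Fa B = 0 := by
    rw [← hg]
    subst hh hh13 hh23 hc hl hh1 hh2 hh3
    simp [Fa, B, M, Fin.sum_univ_succ, smul_eq_C_mul, map_ofNat]
    ring
  have hz : ∀ i j, B i j = 0 := fun i j => by
    have := congrArg (coeff (e i j)) hB
    rwa [coeff_Fa, coeff_zero] at this
  have q02 := hz 0 2
  have q03 := hz 0 3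
  have q11 := hz 1 1
  have q13 := hz 1 3
  have q01 := hz 0 1
  have q20 := hz 2 0
  have q30 := hz 3 0
  have q12 := hz 1 2
  have q31 := hz 3 1
  have q23 := hz 2 3
  simp [B] at q02 q03 q11 q13 q01 q20 q30 q12 q31 q23
  have g0 : g 0 = 0 := by linear_combination ((1 : k) / 1) * q02 + ((1 : k) / 1) * q11 + ((1 : k) / 1) * q20
  have g1 : g 1 = 0 := by linear_combination ((1 : k) / 6) * q03 + ((1 : k) / 6) * q30
  have g2 : g 2 = 0 := by linear_combination ((-1 : k) / 6) * q03 + ((-1 : k) / 4) * q13 + ((-1 : k) / 6) * q30 + ((-1 : k) / 4) * q31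
  have g3 : g 3 = 0 := by linear_combination ((-1 : k) / 4) * q02 + ((-1 : k) / 6) * q03 + ((-1 : k) / 4) * q20 + ((-1 : k) / 6) * q30
  have g4 : g 4 = 0 := by linear_combination ((-1 : k) / 18) * q03 + ((1 : k) / 18) * q30
  have g5 : g 5 = 0 := by linear_combination ((1 : k) / 9) * q03 + ((1 : k) / 12) * q13 + ((-1 : k) / 9) * q30 + ((-1 : k) / 12) * q31
  have g6 : g 6 = 0 := by linear_combination ((1 : k) / 12) * q02 + ((1 : k) / 9) * q03 + ((-1 : k) / 12) * q20 + ((-1 : k) / 9) * q30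
  have g7 : g 7 = 0 := by linear_combination ((-1 : k) / 18) * q03 + ((-1 : k) / 12) * q13 + ((1 : k) / 18) * q30 + ((1 : k) / 12) * q31 + ((-1 : k) / 4) * q23
  have g8 : g 8 = 0 := by linear_combination ((-1 : k) / 12) * q02 + ((-1 : k) / 18) * q03 + ((-1 : k) / 4) * q01 + ((1 : k) / 12) * q20 + ((1 : k) / 18) * q30
  have g9 : g 9 = 0 := by linear_combination ((-1 : k) / 3) * q02 + ((-1 : k) / 9) * q03 + ((-1 : k) / 4) * q11 + ((-1 : k) / 12) * q13 + ((-1 : k) / 6) * q20 + ((-5 : k) / 36) * q30 + ((-1 : k) / 4) * q12 + ((1 : k) / 12) * q31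
  intro m
  fin_cases m <;> assumption

end Groth.Agent.S16153
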