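import Groth.Statements.S16158
import Mathlib


-- import your own Groth.Agent.* helpers here

set_option autoImplicit false
universe u v w
open MadRed

namespace Groth.Agent.S16158

/-- Let R be a commutative Noetherian ring and M a finitely generated R-module. Then there is a natural
number n such that in every decomposition of M as an internal direct sum of a family of submodules,
at most n of the summands are nonzero (the nonzero summands are indexed by a finite set of size at
most n). -/
theorem result (R : Type u) [CommRing R] [IsNoetherianRing R]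
    (M : Type v) [AddCommGroup M] [Module R M] [Module.Finite R M] :
    ∃ n : ℕ, ∀ (ι : Type w) [DecidableEq ι] (N : ι → Submodule R M), DirectSum.IsInternal N →
      ∃ s : Finset ι, s.card ≤ n ∧ ∀ i, N i ≠ ⊥ → i ∈ s := by
  classical
  haveI : IsNoetherian R M := inferInstance
  have hass := associatedPrimes.finite R M
  have hP : ∀ p ∈ hass.toFinset, ∃ G : Finset M, Submodule.span R (G : Set M) = Submodule.torsionBySet R M (p : Set R) :=
    fun p _ => IsNoetherian.noetherian _
  choose G hG using hP
  refine ⟨∑ p ∈ hass.toFinset.attach, (G p.1 p.2).card, fun ι _ N hN => ?_⟩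
  let I' := {i : ι // N i ≠ ⊥}
  have hx : ∀ i : I', ∃ (p : {p // p ∈ hass.toFinset}) (x : M), x ∈ N i ∧ ∀ r : R, r • x = 0 ↔ r ∈ p.1 := by
    intro i
    haveI : Nontrivial (N i) := Submodule.nontrivial_iff_ne_bot.2 i.2
    obtain ⟨p, hp⟩ := associatedPrimes.nonempty R (N i)
    have hpM : p ∈ associatedPrimes R M := associatedPrimes.subset_of_injective (f := (N i).subtype) Subtype.val_injective hp
    obtain ⟨hpp, x, hx⟩ := isAssociatedPrime_iff.1 hp
    refine ⟨⟨p, hass.mem_toFinset.2 hpM⟩, (x : M), x.2, fun r => ?_⟩
    change r • (x : M) = 0 ↔ r ∈ p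
    refine Iff.trans ?_ (SetLike.ext_iff.1 hx r).symm
    rw [Submodule.mem_colon_singleton, Submodule.mem_bot]
    exact ⟨fun h => Subtype.ext h, fun h => congrArg Subtype.val h⟩
  choose P x hxN hxr using hx
  have hfib : ∀ (p : {p // p ∈ hass.toFinset}) (t : Finset I'), (∀ i ∈ t, P i = p) → t.card ≤ (G p.1 p.2).card := by
    intro p t ht
    haveI : p.1.IsPrime := (hass.mem_toFinset.1 p.2).1
    let T := Submodule.torsionBySet R M (p.1 : Set R)
    have hmemT : ∀ i ∈ t, x i ∈ T := fun i hi => (Submodule.mem_torsionBySet_iff _ _).2 fun r => (hxr i r).2 (by rw [ht i hi]; exact r.2)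
    letI : Module (R ⧸ p.1) T := (Submodule.torsionBySet_isTorsionBySet (p.1 : Set R)).module
    have hli : LinearIndependent (R ⧸ p.1) (fun i : t => (⟨x i, hmemT i i.2⟩ : T)) := by
      rw [Fintype.linearIndependent_iff]
      intro c hc j
      choose c' hc' using fun i => Ideal.Quotient.mk_surjective (I := p.1) (c i)
      have h2 : ∑ i : t, c' i • x i = 0 := by
        have := congrArg (Subtype.val : T → M) hc
        simp only [← hc', Submodule.coe_sum, Submodule.coe_zero] at this
        exact this
      have hind := (DirectSum.IsInternal.submodule_iSupIndep hN)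
      have h3 : c' j • x j = 0 := by
        have h4 : c' j • x j ∈ ⨆ k ≠ (j.1.1 : ι), N k := by
          rw [← Finset.add_sum_erase _ _ (Finset.mem_univ j), add_eq_zero_iff_eq_neg] at h2
          rw [h2]
          refine neg_mem (sum_mem fun i hi => Submodule.smul_mem _ _ ?_)
          refine Submodule.mem_iSup_of_mem i.1.1 (Submodule.mem_iSup_of_mem (fun he => (Finset.mem_erase.1 hi).1 (Subtype.ext (Subtype.ext he))) (hxN i.1))
        exact Submodule.disjoint_def.1 (hind j.1.1) _ (Submodule.smul_mem _ _ (hxN j.1)) h4
      rw [← hc', Ideal.Quotient.eq_zero_iff_mem, ← ht j.1 j.2, ← hxr]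
      exact h3
    have hspan : Submodule.span (R ⧸ p.1) (Set.range fun g : (G p.1 p.2 : Set M) => (⟨g.1, by rw [show T = Submodule.span R (G p.1 p.2 : Set M) from (hG p.1 p.2).symm]; exact Submodule.subset_span g.2⟩ : T)) = ⊤ := by
      rw [eq_top_iff]
      rintro ⟨m, hm⟩ -
      have hm' : m ∈ Submodule.span R (G p.1 p.2 : Set M) := by rw [hG]; exact hm
      suffices ∀ m (hm' : m ∈ Submodule.span R (G p.1 p.2 : Set M)) (hm : m ∈ T), (⟨m, hm⟩ : T) ∈ Submodule.span (R ⧸ p.1) _ from this m hm' hm
      intro m hm'
      induction hm' using Submodule.span_induction with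
      | mem y hy => intro hm; exact Submodule.subset_span ⟨⟨y, hy⟩, rfl⟩
      | zero => intro hm; exact zero_mem _
      | add y z hy hz ihy ihz =>
        intro hm
        exact add_mem (ihy ((hG p.1 p.2).le hy)) (ihz ((hG p.1 p.2).le hz))
      | smul r y hy ih =>
        intro hm
        exact Submodule.smul_mem _ (Ideal.Quotient.mk p.1 r) (ih ((hG p.1 p.2).le hy))
    have := linearIndependent_le_span _ hli _ hspan
    rw [Cardinal.mk_fintype, Nat.cast_le, Fintype.card_coe] at this
    refine this.trans ?_
    refine (Fintype.card_range_le _).trans ?_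
    simp
  have hall : ∀ t : Finset I', t.card ≤ ∑ p ∈ hass.toFinset.attach, (G p.1 p.2).card := fun t => by
    rw [Finset.card_eq_sum_card_fiberwise (f := P) (t := hass.toFinset.attach) fun i _ => Finset.mem_attach _ _]
    exact Finset.sum_le_sum fun p _ => hfib p _ fun i hi => (Finset.mem_filter.1 hi).2
  haveI : Finite I' := by
    by_contra hinf
    rw [not_finite_iff_infinite] at hinf
    obtain ⟨t, ht⟩ := Infinite.exists_subset_card_eq I' (∑ p ∈ hass.toFinset.attach, (G p.1 p.2).card + 1)
    have := hall t; omega
  haveI := Fintype.ofFinite I'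
  refine ⟨Finset.univ.map ⟨fun i : I' => i.1, Subtype.val_injective⟩, by rw [Finset.card_map]; exact hall _, fun i hi => ?_⟩
  exact Finset.mem_map.2 ⟨⟨i, hi⟩, Finset.mem_univ _, rfl⟩

end Groth.Agent.S16158
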