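import Groth.Statements.S16160
import Groth.Agent.PtActLib.Basic
import Groth.Agent.S16159

set_option autoImplicit false
universe u v w
open scoped TensorProduct
open MadRed

namespace Groth.Agent.S16160

/-- Let k be a field, G = Spec A an affine k-group with A a commutative Hopf algebra over k, and R a
commutative Noetherian k-algebra, so that R ⊗ A is the coordinate ring of the base change G_R and
the k-algebra maps A → R are its R-valued points. Let H be a set of R-valued points which pairwise
commute for the convolution product of G(R) (the case of an abelian subgroup of G(R)). If every g in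
H is diagonalizable over k on R ⊗ A, meaning that the eigenspaces of right translation by g, for
eigenvalues in k, span R ⊗ A, then H is simultaneously diagonalizable over k on R ⊗ A: the common
eigenspaces of the right translations by all g in H span R ⊗ A. The standing assumptions of the
source at this point (k algebraically closed of characteristic zero, G reductive) are not used. -/
theorem result (k : Type u) [Field k]
    (A : Type v) [CommRing A] [HopfAlgebra k A] (R : Type w) [CommRing R] [Algebra k R]
    [IsNoetherianRing R] (H : Set (A →ₐ[k] R))
    (hcomm : ∀ g ∈ H, ∀ h ∈ H,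
      WithConv.toConv g * WithConv.toConv h = WithConv.toConv h * WithConv.toConv g)
    (hdiag : ∀ g ∈ H, ⨆ μ : k,
      Module.End.eigenspace (((MadRed.ptAct k A R g).toLinearMap).restrictScalars k) μ = ⊤) :
    ⨆ χ : H → k, ⨅ g : H,
      Module.End.eigenspace (((MadRed.ptAct k A R g.1).toLinearMap).restrictScalars k) (χ g) = ⊤ := by
  refine Groth.Agent.S16159.result k R (R ⊗[k] A) H (fun g => (MadRed.ptAct k A R g.1).toLinearMap)
    (fun g h => LinearMap.ext fun x => ?_) (fun g => hdiag g.1 g.2)
    (fun v => ?_)
  · show MadRed.ptAct k A R g.1 (MadRed.ptAct k A R h.1 x) =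
      MadRed.ptAct k A R h.1 (MadRed.ptAct k A R g.1 x)
    rw [PtActLib.ptAct_comp, PtActLib.ptAct_comp, hcomm g.1 g.2 h.1 h.2]
  · obtain ⟨W, h1, h2, h3⟩ := PtActLib.exists_fg_stable (R := R) (A := A) v
    exact ⟨W, h1, h2, fun g => h3 g.1⟩
end Groth.Agent.S16160
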