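import Groth.Statements.S16161
import Mathlib
import Mathlib
-- import your own Groth.Agent.* helpers here

set_option autoImplicit false
universe u v
open MadRed

namespace Groth.Agent.S16161

/-- Let k be an algebraically closed field of characteristic zero and R a reduced finitely generated
commutative k-algebra whose spectrum is connected (R has no idempotents besides 0 and 1); let W =
R^n be a free R-module of finite rank and g an R-linear endomorphism of W of finite order, g^m = 1
with m > 0 (an element of finite order of GL(W)(R)). Then the action of g on W is diagonalizable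
over k: viewing g as a k-linear map, its eigenspaces for eigenvalues in k span W. The source also
assumes that g is diagonalizable over k on every fibre W ⊗ k(x), x a point of Spec R; for g of
finite order this holds automatically (k is algebraically closed of characteristic zero), as the
source itself notes, so that hypothesis is omitted. -/
theorem result
    (k : Type u) [Field k] [IsAlgClosed k] [CharZero k]
    (R : Type v) [CommRing R] [Algebra k R] [IsReduced R] [Algebra.FiniteType k R]
    (hconn : ∀ e : R, IsIdempotentElem e → e = 0 ∨ e = 1)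
    (n : ℕ) (g : Module.End R (Fin n → R)) (m : ℕ) (hm : 0 < m) (hg : g ^ m = 1) :
    ⨆ μ : k, Module.End.eigenspace (g.restrictScalars k) μ = ⊤ := by
  classical
  haveI : NeZero (m : k) := ⟨Nat.cast_ne_zero.2 hm.ne'⟩
  haveI : NeZero m := ⟨hm.ne'⟩
  obtain ⟨ζ, hζ⟩ := HasEnoughRootsOfUnity.exists_primitiveRoot k m
  set g' : Module.End k (Fin n → R) := g.restrictScalars k with hg'
  have hgm : g' ^ m = 1 := by
    refine LinearMap.ext fun v => ?_
    rw [Module.End.pow_apply]
    have := LinearMap.congr_fun hg v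
    rw [Module.End.pow_apply] at this
    exact this
  rw [eq_top_iff]
  intro v _
  let w : ℕ → (Fin n → R) := fun i => (m : k)⁻¹ • ∑ j ∈ Finset.range m, ((ζ ^ i)⁻¹) ^ j • (g' ^ j) v
  have hw : ∀ i, g' (w i) = ζ ^ i • w i := by
    intro i
    simp only [w, map_smul, map_sum]
    rw [smul_comm (ζ ^ i)]
    refine congrArg _ ?_
    have hi : ζ ^ i ≠ 0 := pow_ne_zero _ (hζ.ne_zero hm.ne')
    have hper : ∀ j, (ζ ^ i)⁻¹ ^ j • (g' ^ (j + 1)) v = ζ ^ i • ((ζ ^ i)⁻¹ ^ (j + 1) • (g' ^ (j + 1)) v) := fun j => by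
      rw [smul_smul, pow_succ' (ζ ^ i)⁻¹, ← mul_assoc, mul_inv_cancel₀ hi, one_mul]
    rw [Finset.sum_congr rfl fun j _ => show (ζ ^ i)⁻¹ ^ j • g' ((g' ^ j) v) = ζ ^ i • ((ζ ^ i)⁻¹ ^ (j + 1) • (g' ^ (j + 1)) v) by
      rw [← hper, pow_succ' g', Module.End.mul_apply]]
    rw [← Finset.smul_sum]
    refine congrArg _ ?_
    have h0 : (ζ ^ i)⁻¹ ^ m • (g' ^ m) v = (ζ ^ i)⁻¹ ^ 0 • (g' ^ 0) v := by
      rw [hgm, inv_pow, ← pow_mul, mul_comm, pow_mul, hζ.pow_eq_one, one_pow, inv_one, pow_zero, pow_zero]
    obtain ⟨l, rfl⟩ := Nat.exists_eq_succ_of_ne_zero hm.ne'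
    rw [Finset.sum_range_succ, Finset.sum_range_succ' _ l, h0]
  have hsum : ∑ i ∈ Finset.range m, w i = v := by
    simp only [w]
    rw [← Finset.smul_sum, Finset.sum_comm]
    simp only [← Finset.sum_smul]
    rw [Finset.sum_eq_single 0]
    · simp [smul_smul, inv_mul_cancel₀ (NeZero.ne (m : k)), Nat.cast_smul_eq_nsmul k]
      rw [show ((m : Fin n → R) * v) = (m : k) • v by funext i; simp [Algebra.smul_def], smul_smul, inv_mul_cancel₀ (NeZero.ne (m : k)), one_smul]
    · intro j hj hj0
      rw [Finset.mem_range] at hj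
      have : ∀ i, (ζ ^ i)⁻¹ ^ j = ((ζ ^ j)⁻¹) ^ i := fun i => by rw [inv_pow, inv_pow, ← pow_mul, ← pow_mul, mul_comm]
      simp only [this]
      have h1 : (ζ ^ j)⁻¹ ≠ 1 := fun h => hζ.pow_ne_one_of_pos_of_lt hj0 hj (inv_eq_one.1 h)
      rw [geom_sum_eq h1, inv_pow, ← pow_mul, mul_comm, pow_mul, hζ.pow_eq_one, one_pow, inv_one, sub_self, zero_div, zero_smul]
    · intro h; exact absurd (Finset.mem_range.2 hm) h
  rw [← hsum]
  exact Submodule.sum_mem _ fun i _ => Submodule.mem_iSup_of_mem (ζ ^ i) (Module.End.mem_eigenspace_iff.2 (hw i))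

end Groth.Agent.S16161
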