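import Groth.Statements.S16162
import Mathlib
-- import your own Groth.Agent.* helpers here

set_option autoImplicit false
open CategoryTheory MonoidalCategory CartesianMonoidalCategory MonObj GrpObj AlgebraicGeometry
universe u
open MadRed
set_option linter.all false
open Limits

namespace Groth.Agent.S16162

/-- Let S be a scheme, G a group scheme over S, and X an S-scheme with an action of G making X → S a
principal G-bundle (a torsor in the representable fppf sense: X → S surjective, flat and locally of
finite presentation, and G ×_S X → X ×_S X, (g, x) ↦ (g·x, x), an isomorphism). Let P be a closed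
subset of X stable under the action: the action map sends into P every point of G ×_S X whose second
projection lies in P. Then the image of P in S is closed, and P is the full preimage of its image.
(The source works with varieties over the complex numbers and an affine algebraic group; the
assertion holds over any base. Its second assertion, that P → image is again a principal bundle for
the induced reduced structures, then comes from base change and is not part of this row.) -/
theorem result {S : Scheme.{u}}
    {G X : Over S} [GrpObj G] (a : AlgGrp.Action G X) (ha : RedSub.IsTorsor a)
    (P : Set X.left) (hP : IsClosed P)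
    (hstab : ∀ w : (G ⊗ X).left, (snd G X).left.base w ∈ P → a.act.left.base w ∈ P) :
    IsClosed (X.hom.base '' P) ∧ X.hom.base ⁻¹' (X.hom.base '' P) = P := by
  obtain ⟨hs, hf, hl, hiso⟩ := ha
  have hsat : X.hom.base ⁻¹' (X.hom.base '' P) = P := by
    refine Set.Subset.antisymm ?_ (Set.subset_preimage_image _ _)
    rintro y ⟨p, hp, hpy⟩
    obtain ⟨z, hz1, hz2⟩ := Scheme.Pullback.exists_preimage_pullback
      (f := X.hom) (g := X.hom) y p hpy.symm
    haveI : IsIso ((lift a.act (snd G X)).left) :=
      (Over.forget S).map_isIso (lift a.act (snd G X))
    obtain ⟨w, hw⟩ := (lift a.act (snd G X)).left.homeomorph.surjective z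
    have e1 : (lift a.act (snd G X)).left ≫ pullback.fst X.hom X.hom = a.act.left := by
      show (lift a.act (snd G X)).left ≫ (fst X X).left = _
      rw [← Over.comp_left, lift_fst]
    have e2 : (lift a.act (snd G X)).left ≫ pullback.snd X.hom X.hom = (snd G X).left := by
      show (lift a.act (snd G X)).left ≫ (snd X X).left = _
      rw [← Over.comp_left, lift_snd]
    have h2 : (snd G X).left.base w = p := by
      rw [← e2]
      simp only [Scheme.Hom.comp_base, TopCat.coe_comp, Function.comp_apply]
      rw [← hz2]; exact congrArg _ hw
    have h1 : a.act.left.base w = y := by
      rw [← e1]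
      simp only [Scheme.Hom.comp_base, TopCat.coe_comp, Function.comp_apply]
      rw [← hz1]; exact congrArg _ hw
    rw [← h1]
    exact hstab w (by rw [h2]; exact hp)
  refine ⟨?_, hsat⟩
  have hop : IsOpen (X.hom.base '' Pᶜ) := X.hom.isOpenMap _ hP.isOpen_compl
  rw [← isOpen_compl_iff]
  have : (X.hom.base '' P)ᶜ = X.hom.base '' Pᶜ := by
    conv_rhs => rw [← hsat, ← Set.preimage_compl]
    rw [Set.image_preimage_eq _ X.hom.surjective]
  rw [this]; exact hop

end Groth.Agent.S16162
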