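import Groth.Statements.S16164
import Mathlib.LinearAlgebra.Matrix.ToLin
import Mathlib.Data.Matrix.Block
import Mathlib.LinearAlgebra.Matrix.Symmetric
-- import your own Groth.Agent.* helpers here

set_option autoImplicit false
open Neron

namespace Groth.Agent.S16164

/-- Let X, Y₁, Y₂ be finitely generated free abelian groups with chosen bases, so that homomorphisms are
integer matrices acting on column vectors and each group is identified with its dual; let P : X → Y₁
and Q : X → Y₂ be surjective with A = (P over Q) : X → Y₁ ⊕ Y₂ injective, and let Ψ₁, Ψ₂ be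
symmetric positive-definite integer matrices on Y₁ and Y₂, Ψ their block-diagonal sum. If the image
of Aᵀ Ψ : Y₁ ⊕ Y₂ → X coincides with the image of Aᵀ Ψ A : X → X (the reverse inclusion always
holds), then A is bijective. (In the source X, Y₁, Y₂ are character groups of maximal tori, P and Q
specialization maps, Ψ₁ and Ψ₂ monodromy pairings, and the hypothesis expresses that two groups of
components coincide.) -/
theorem result
    {ι κ₁ κ₂ : Type} [Fintype ι] [Fintype κ₁] [Fintype κ₂]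
    (P : Matrix κ₁ ι ℤ) (Q : Matrix κ₂ ι ℤ)
    (hP : Function.Surjective P.mulVec) (hQ : Function.Surjective Q.mulVec)
    (hA : Function.Injective (Matrix.fromRows P Q).mulVec)
    (Ψ₁ : Matrix κ₁ κ₁ ℤ) (Ψ₂ : Matrix κ₂ κ₂ ℤ) (hΨ₁ : Ψ₁.IsSymm) (hΨ₂ : Ψ₂.IsSymm)
    (hΨ₁pos : ∀ y : κ₁ → ℤ, y ≠ 0 → 0 < y ⬝ᵥ Ψ₁.mulVec y)
    (hΨ₂pos : ∀ y : κ₂ → ℤ, y ≠ 0 → 0 < y ⬝ᵥ Ψ₂.mulVec y)
    (himage : LinearMap.range ((Matrix.fromRows P Q).transpose * Matrix.fromBlocks Ψ₁ 0 0 Ψ₂).mulVecLin =
      LinearMap.range ((Matrix.fromRows P Q).transpose * Matrix.fromBlocks Ψ₁ 0 0 Ψ₂ * Matrix.fromRows P Q).mulVecLin) :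
    Function.Bijective (Matrix.fromRows P Q).mulVec := by
  classical
  set A := Matrix.fromRows P Q with hAdef
  set Ψ := Matrix.fromBlocks Ψ₁ 0 0 Ψ₂ with hΨdef
  let f : (κ₁ ⊕ κ₂ → ℤ) → (κ₁ ⊕ κ₂ → ℤ) → ℤ := fun y z => y ⬝ᵥ Ψ.mulVec z
  have hsym : ∀ y z, f y z = f z y := fun y z => by
    have hS : Ψ.transpose = Ψ := Matrix.IsSymm.fromBlocks hΨ₁ (by simp) hΨ₂
    simp only [f]
    rw [Matrix.dotProduct_mulVec, ← Matrix.mulVec_transpose, hS, dotProduct_comm]
  have hsplit : ∀ (a : κ₁ → ℤ) (b : κ₂ → ℤ), f (Sum.elim a b) (Sum.elim a b) = a ⬝ᵥ Ψ₁.mulVec a + b ⬝ᵥ Ψ₂.mulVec b := fun a b => by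
    simp [f, hΨdef, Matrix.fromBlocks_mulVec, sumElim_dotProduct_sumElim]
  have hnn : ∀ y, y ≠ 0 → 0 < f y y := fun y hy => by
    rw [← Sum.elim_comp_inl_inr y, hsplit]
    by_cases h1 : y ∘ Sum.inl = 0
    · rw [h1]
      have h2 : y ∘ Sum.inr ≠ 0 := fun h2 => hy (funext fun i => by cases i <;> [exact congrFun h1 _; exact congrFun h2 _])
      simpa using hΨ₂pos _ h2
    · refine add_pos_of_pos_of_nonneg (hΨ₁pos _ h1) ?_
      by_cases h2 : y ∘ Sum.inr = 0
      · rw [h2]; simp
      · exact (hΨ₂pos _ h2).le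
  have horth : ∀ z, (A.transpose * Ψ).mulVec z = 0 → ∀ x, f (A.mulVec x) z = 0 := fun z hz x => by
    simp only [f]
    rw [dotProduct_comm, Matrix.dotProduct_mulVec, ← Matrix.mulVec_transpose, Matrix.mulVec_mulVec, hz, zero_dotProduct]
  have hadd : ∀ y z, f (y + z) (y + z) = f y y + f z z + 2 * f y z := fun y z => by
    have := hsym z y
    simp only [f] at this ⊢
    rw [Matrix.mulVec_add, add_dotProduct, dotProduct_add, dotProduct_add, this]
    ring
  refine ⟨hA, fun v => ?_⟩
  suffices key : ∀ (N : ℕ) (v : κ₁ ⊕ κ₂ → ℤ), (f v v).toNat ≤ N → ∃ x, A.mulVec x = v from key _ v le_rfl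
  intro N
  induction N with
  | zero =>
    intro v hv
    refine ⟨0, ?_⟩
    by_contra hne
    rw [Matrix.mulVec_zero] at hne
    have := hnn v (Ne.symm hne)
    omega
  | succ N ih =>
    intro v hv
    by_cases hb : v ∘ Sum.inl ≠ 0 ∧ v ∘ Sum.inr ≠ 0
    · have h1 := hsplit (v ∘ Sum.inl) 0
      have h2 := hsplit 0 (v ∘ Sum.inr)
      have h3 := hsplit (v ∘ Sum.inl) (v ∘ Sum.inr)
      rw [Sum.elim_comp_inl_inr] at h3
      simp only [Matrix.mulVec_zero, dotProduct_zero, zero_add, add_zero] at h1 h2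
      have p1 := hΨ₁pos _ hb.1
      have p2 := hΨ₂pos _ hb.2
      obtain ⟨x1, hx1⟩ := ih (Sum.elim (v ∘ Sum.inl) 0) (by omega)
      obtain ⟨x2, hx2⟩ := ih (Sum.elim 0 (v ∘ Sum.inr)) (by omega)
      refine ⟨x1 + x2, ?_⟩
      rw [Matrix.mulVec_add, hx1, hx2]
      funext i
      cases i <;> simp
    · have hmem : (A.transpose * Ψ).mulVec v ∈ LinearMap.range (A.transpose * Ψ).mulVecLin := ⟨v, rfl⟩
      rw [himage] at hmem
      obtain ⟨x, hx⟩ := hmem
      rw [Matrix.mulVecLin_apply, ← Matrix.mulVec_mulVec x] at hx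
      let n := v - A.mulVec x
      have hn : (A.transpose * Ψ).mulVec n = 0 := by rw [Matrix.mulVec_sub, hx, sub_self]
      by_cases hn0 : n = 0
      · exact ⟨x, (sub_eq_zero.mp hn0).symm⟩
      exfalso
      have hv' : A.mulVec x + n = v := add_sub_cancel _ _
      have hne := hnn n hn0
      by_cases hl : A.mulVec x = 0
      · rw [hl, zero_add] at hv'
        rw [not_and_or, not_ne_iff, not_ne_iff] at hb
        rcases hb with h | h
        · obtain ⟨w, hw⟩ := hQ (v ∘ Sum.inr)
          have h0 := horth n hn w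
          rw [hv'] at h0 hne
          rw [← Sum.elim_comp_inl_inr v, h] at h0 hne
          rw [hAdef, Matrix.fromRows_mulVec, hw] at h0
          rw [hsplit] at hne
          simp [f, hΨdef, Matrix.fromBlocks_mulVec, sumElim_dotProduct_sumElim] at h0 hne
          omega
        · obtain ⟨w, hw⟩ := hP (v ∘ Sum.inl)
          have h0 := horth n hn w
          rw [hv'] at h0 hne
          rw [← Sum.elim_comp_inl_inr v, h] at h0 hne
          rw [hAdef, Matrix.fromRows_mulVec, hw] at h0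
          rw [hsplit] at hne
          simp [f, hΨdef, Matrix.fromBlocks_mulVec, sumElim_dotProduct_sumElim] at h0 hne
          omega
      · have hlp := hnn _ hl
        have h0 := horth n hn x
        have hsum := hadd (A.mulVec x) n
        rw [hv', h0] at hsum
        obtain ⟨y, hy⟩ := ih n (by omega)
        have := horth n hn y
        rw [hy] at this
        omega

end Groth.Agent.S16164
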