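import Groth.Statements.S16170
import Mathlib


-- import your own Groth.Agent.* helpers here

set_option autoImplicit false
open Neron

namespace Groth.Agent.S16170

/-- Let M and N be symmetric positive-semidefinite integer matrices on the same finite index set whose
sum M + N is positive definite, and let χ₁, χ₂ be integer matrices with χ₁ + χ₂ = 1 and M χ₂ = N χ₁.
Then χ₁ and χ₂ are idempotent. (In the intended application M = Pᵀ Ψ₁ P and N = Qᵀ Ψ₂ Q for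
surjective integer matrices P, Q and positive-definite Ψ₁, Ψ₂.) -/
theorem result
    {ι : Type} [Fintype ι] [DecidableEq ι]
    (M N χ₁ χ₂ : Matrix ι ι ℤ) (hM : M.IsSymm) (hN : N.IsSymm)
    (hMpos : ∀ v : ι → ℤ, 0 ≤ v ⬝ᵥ M.mulVec v) (hNpos : ∀ v : ι → ℤ, 0 ≤ v ⬝ᵥ N.mulVec v)
    (hpos : ∀ v : ι → ℤ, v ≠ 0 → 0 < v ⬝ᵥ (M + N).mulVec v)
    (hsum : χ₁ + χ₂ = 1) (hrel : M * χ₂ = N * χ₁) :
    χ₁ * χ₁ = χ₁ ∧ χ₂ * χ₂ = χ₂ := by
  set P := M + N with hP
  have hM1 : M = P * χ₁ := by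
    rw [hP, add_mul, ← hrel, ← mul_add, hsum, mul_one]
  have hN1 : N = P * χ₂ := by
    rw [hP, add_mul, hrel, ← mul_add, hsum, mul_one]
  have hPs : P.transpose = P := by rw [hP, Matrix.transpose_add, hM.eq, hN.eq]
  have hsa : ∀ v w : ι → ℤ, (χ₁.mulVec v) ⬝ᵥ P.mulVec w = v ⬝ᵥ M.mulVec w := fun v w => by
    rw [Matrix.dotProduct_mulVec, ← Matrix.vecMul_transpose, Matrix.vecMul_vecMul, ← Matrix.dotProduct_mulVec]
    congr 2
    rw [← hPs, ← Matrix.transpose_mul, ← hM1, hM.eq]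
  have hsa2 : ∀ v w : ι → ℤ, (χ₂.mulVec v) ⬝ᵥ P.mulVec w = v ⬝ᵥ N.mulVec w := fun v w => by
    rw [Matrix.dotProduct_mulVec, ← Matrix.vecMul_transpose, Matrix.vecMul_vecMul, ← Matrix.dotProduct_mulVec]
    congr 2
    rw [← hPs, ← Matrix.transpose_mul, ← hN1, hN.eq]
  have hPinj : ∀ v : ι → ℤ, P.mulVec v = 0 → v = 0 := fun v hv => by
    by_contra hne
    have := hpos v hne
    rw [hv, dotProduct_zero] at this
    exact lt_irrefl 0 this
  have hN0 : ∀ v : ι → ℤ, v ⬝ᵥ N.mulVec v = 0 → N.mulVec v = 0 := by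
    intro v hv
    refine dotProduct_eq_zero _ fun u => ?_
    rw [dotProduct_comm]
    by_contra hne
    set c := u ⬝ᵥ N.mulVec v with hc
    set t : ℤ := -((u ⬝ᵥ N.mulVec u) + 1) * c with ht
    have hsym : v ⬝ᵥ N.mulVec u = c := by
      rw [hc, Matrix.dotProduct_mulVec, ← Matrix.mulVec_transpose, hN.eq, dotProduct_comm]
    have h2 := hNpos (u + t • v)
    simp only [Matrix.mulVec_add, Matrix.mulVec_smul, dotProduct_add, add_dotProduct, smul_dotProduct, dotProduct_smul, smul_eq_mul, hv, hsym, ← hc] at h2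
    have hu := hNpos u
    have hc2 : 0 < c ^ 2 := by positivity
    rw [ht] at h2
    nlinarith
  let Q : (ι → ℤ) → ℤ := fun v => v ⬝ᵥ P.mulVec v
  have hQ : ∀ v, 0 ≤ Q v := fun v => by
    simp only [Q, hP, Matrix.add_mulVec, dotProduct_add]; exact add_nonneg (hMpos v) (hNpos v)
  have hcomm : χ₁ * χ₂ = χ₂ * χ₁ := by rw [eq_sub_of_add_eq' hsum]; noncomm_ring
  have hK : ∀ v, 0 ≤ (χ₁.mulVec v) ⬝ᵥ P.mulVec (χ₂.mulVec v) := by
    intro v
    have hv : v = χ₁.mulVec v + χ₂.mulVec v := by rw [← Matrix.add_mulVec, hsum, Matrix.one_mulVec]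
    have e : (χ₁.mulVec v) ⬝ᵥ P.mulVec (χ₂.mulVec v) = (χ₁.mulVec v) ⬝ᵥ N.mulVec v := by
      rw [Matrix.mulVec_mulVec, ← hN1]
    rw [e]
    conv_rhs => arg 2; arg 2; rw [hv]
    rw [Matrix.mulVec_add, dotProduct_add]
    refine add_nonneg (hNpos _) (le_of_le_of_eq (hMpos (χ₂.mulVec v)) ?_)
    rw [← hsa2 (χ₁.mulVec v) (χ₂.mulVec v), ← hsa (χ₂.mulVec v) (χ₂.mulVec v), Matrix.mulVec_mulVec _ χ₂ χ₁, Matrix.mulVec_mulVec _ χ₁ χ₂, hcomm]
  have hdec : ∀ v, Q (χ₁.mulVec v) + v ⬝ᵥ N.mulVec v ≤ Q v := by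
    intro v
    have h1 : Q v = Q (χ₁.mulVec v) + v ⬝ᵥ N.mulVec v + (χ₁.mulVec v) ⬝ᵥ P.mulVec (χ₂.mulVec v) := by
      have hv : v = χ₁.mulVec v + χ₂.mulVec v := by rw [← Matrix.add_mulVec, hsum, Matrix.one_mulVec]
      have hw : P.mulVec v = P.mulVec (χ₁.mulVec v) + P.mulVec (χ₂.mulVec v) := by rw [← Matrix.mulVec_add, ← hv]
      have e1 : Q v = (χ₁.mulVec v) ⬝ᵥ P.mulVec v + (χ₂.mulVec v) ⬝ᵥ P.mulVec v := by
        rw [← add_dotProduct, ← hv]
      rw [e1, hsa2, hw, dotProduct_add]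
      ring
    rw [h1]; linarith [hK v]
  have hkill : ∀ v, ∃ m, χ₂.mulVec ((χ₁ ^ m).mulVec v) = 0 := by
    intro v
    induction hq : (Q v).toNat using Nat.strong_induction_on generalizing v with
    | _ k ih =>
      by_cases h0 : v ⬝ᵥ N.mulVec v = 0
      · exact ⟨0, hPinj _ (by rw [pow_zero, Matrix.one_mulVec, Matrix.mulVec_mulVec, ← hN1, hN0 v h0])⟩
      · have h1 := hdec v; have h2 := hNpos v; have h3 := hQ (χ₁.mulVec v)
        obtain ⟨m, hm⟩ := ih _ (by omega) (χ₁.mulVec v) rfl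
        exact ⟨m + 1, by rw [pow_succ, ← Matrix.mulVec_mulVec]; exact hm⟩
  have hred : ∀ (m : ℕ) (u : ι → ℤ), (χ₁ ^ (m + 1)).mulVec u = 0 → χ₁.mulVec u = 0 := by
    intro m
    induction m with
    | zero => intro u hu; rwa [pow_one] at hu
    | succ m ih =>
      intro u hu
      refine ih u ?_
      set w := (χ₁ ^ (m + 1)).mulVec u with hw
      have hw0 : Q w = 0 := by
        simp only [Q]
        conv_lhs => arg 1; rw [hw, pow_succ', ← Matrix.mulVec_mulVec]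
        rw [hsa, hM1, ← Matrix.mulVec_mulVec, hw, Matrix.mulVec_mulVec _ χ₁, ← pow_succ', hu, Matrix.mulVec_zero, dotProduct_zero]
      by_contra hne
      exact absurd hw0 (hpos w hne).ne'
  have h12 : χ₁ * χ₂ = 0 := by
    refine Matrix.ext_of_mulVec_single fun j => ?_
    obtain ⟨m, hm⟩ := hkill (Pi.single j 1)
    rw [Matrix.zero_mulVec]
    set v : ι → ℤ := Pi.single j 1
    have : (χ₁ ^ (m + 1)).mulVec (χ₂.mulVec v) = 0 := by
      rw [pow_succ', Matrix.mulVec_mulVec, mul_assoc, ((show Commute χ₁ χ₂ from hcomm).pow_left m).eq, ← Matrix.mulVec_mulVec, ← Matrix.mulVec_mulVec, hm, Matrix.mulVec_zero]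
    rw [← Matrix.mulVec_mulVec]
    exact hred m _ this
  exact ⟨by conv_rhs => rw [← mul_one χ₁, ← hsum, mul_add, h12, add_zero],
    by conv_rhs => rw [← mul_one χ₂, ← hsum, mul_add, ← hcomm, h12, zero_add]⟩

end Groth.Agent.S16170
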