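import Groth.Statements.S16184
import Groth.Agent.BorelLib.PerfectScheme
import Groth.Agent.BorelLib.TorScheme

set_option autoImplicit false
set_option maxHeartbeats 4000000
set_option synthInstance.maxHeartbeats 400000
set_option backward.isDefEq.respectTransparency false

universe u
open CategoryTheory MonoidalCategory CartesianMonoidalCategory MonObj GrpObj AlgebraicGeometry
open AGF

attribute [-instance] CategoryTheory.Hom.commGroup

namespace Groth.Agent.S16184

open Groth.Agent CategoryTheory.Limits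
open CoactBr (sp)
attribute [local instance] BorelLib.pTop BorelLib.pTopTensor

/-- Let G be a semisimple group over an algebraically closed field k and T ⊆ G a maximal torus. A
character χ : T → 𝔾_m which is Weyl-invariant — χ ∘ φ = χ whenever φ : T → T is induced by
conjugation by a k-point of G carrying T into itself — is the trivial character. (In the source this
is the vanishing of the Weyl-invariants of the character lattice of the maximal torus of the derived
subgroup.) -/
theorem result (k : Type u) [Field k] [IsAlgClosed k]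
    (G : Over (Spec (CommRingCat.of k))) [GrpObj G] (hG : Red.IsSemisimple G)
    (T : Over (Spec (CommRingCat.of k))) [GrpObj T] (iT : T ⟶ G) (hT : Red.IsMaximalTorus iT)
    (χ : T ⟶ Red.Gm (Spec (CommRingCat.of k))) [IsMonHom χ]
    (hχ : ∀ (n : 𝟙_ (Over (Spec (CommRingCat.of k))) ⟶ G) (φ : T ⟶ T), φ ≫ iT = AGF.conjBy n iT → φ ≫ χ = χ) :
    χ = 1 := by
  let S := Spec (CommRingCat.of k)
  obtain ⟨⟨haff, hsm, hcon, -⟩, -⟩ := id (BorelLib.isSemisimpleOver_of_isSemisimple hG)
  haveI := haff; haveI := hsm; haveI := hcon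
  haveI := hT.1; haveI := hT.2.1
  obtain ⟨A, _, _, v, hv, hA, -⟩ := BorelLib.exists_setup G
  haveI := hv; haveI := hA
  haveI hci := BorelLib.isClosedImmersion_of_torus v iT hT.2.2.1
  obtain ⟨_, _, -, -, hTr, -, hTl, -⟩ := BorelLib.torus_facts hT.2.2.1
  haveI := hTr; haveI := hTl
  have hmax := BorelLib.isMaxTor_ptsSub v (BorelLib.isMaxTorus_of_isMaximalTorus hT)
  haveI : IsSeparated (Red.Gm S).hom := Groth.Agent.GrpField.isSeparated_grp (G := Red.Gm S)
  haveI : IsClosedImmersion (η[Red.Gm S] : 𝟙_ (Over S) ⟶ Red.Gm S).left := by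
    haveI : IsClosedImmersion ((η[Red.Gm S] : 𝟙_ (Over S) ⟶ Red.Gm S).left ≫ (Red.Gm S).hom) := by
      rw [Over.w]; exact inferInstanceAs (IsClosedImmersion (𝟙 _))
    exact IsClosedImmersion.of_comp _ (Red.Gm S).hom
  let ι' := pullback.fst χ.left (η[Red.Gm S] : 𝟙_ (Over S) ⟶ Red.Gm S).left
  haveI : Subsingleton (𝟙_ (Over S)).left := inferInstanceAs (Subsingleton (PrimeSpectrum k))
  haveI : AlgebraicGeometry.IsReduced (𝟙_ (Over S)).left :=
    inferInstanceAs (AlgebraicGeometry.IsReduced (Spec (CommRingCat.of k)))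
  -- the kernel of the character, as a closed group of points
  let ψ : BorelLib.RPt T →* BorelLib.RPt (Red.Gm S) := BorelLib.ptHom χ
  let N : Subgroup (BorelLib.Pt k A) := (ψ.ker.map (BorelLib.ptHom iT)).comap (BorelLib.ptEquiv v).toMonoidHom
  have hmemN : ∀ x, x ∈ N ↔ ∃ b : BorelLib.RPt T, b ≫ χ = 1 ∧ b ≫ iT = BorelLib.ptEquiv v x := fun x => Iff.rfl
  have hNc : IsClosed (N : Set (BorelLib.Pt k A)) := by
    haveI : IsClosedImmersion (ι' ≫ iT.left) := inferInstance
    rw [show (N : Set (BorelLib.Pt k A)) = BorelLib.toP ⁻¹' (v.hom.left ⁻¹' Set.range (ι' ≫ iT.left)) from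
      Set.ext fun x => ?_]
    · exact ((ι' ≫ iT.left).isClosedEmbedding.isClosed_range.preimage v.hom.left.continuous).preimage
        continuous_induced_dom
    rw [SetLike.mem_coe, hmemN, Set.mem_preimage, Set.mem_preimage, ← BorelLib.pt_ptEquiv]
    constructor
    · rintro ⟨b, hb, hbx⟩
      rw [Hom.one_def, toUnit_unique (toUnit _) (𝟙 _), Category.id_comp] at hb
      refine ⟨pullback.lift b.left (𝟙 _) (by simpa using congrArg CommaMorphism.left hb) (IsLocalRing.closedPoint k), ?_⟩
      show (pullback.lift _ _ _ ≫ ι' ≫ iT.left) _ = _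
      rw [pullback.lift_fst_assoc, ← hbx]
      rfl
    · rintro ⟨z, hz⟩
      obtain ⟨b, hb⟩ := ChevThmLib.exists_point_lift iT (BorelLib.ptEquiv v x) ⟨ι' z, (Scheme.Hom.comp_apply _ _ _).symm.trans hz⟩
      refine ⟨b, ?_, hb⟩
      rw [Hom.one_def]
      refine BorelLib.comp_eq_one_of_range _ χ ?_
      rintro _ ⟨p, rfl⟩
      rw [Subsingleton.elim p (IsLocalRing.closedPoint k)]
      refine ⟨z, iT.left.isClosedEmbedding.injective ?_⟩
      refine Eq.trans ((Scheme.Hom.comp_apply _ _ _).symm.trans hz) ?_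
      rw [← hb]
      rfl
  have hle := (BorelLib.isSSPts_of_isSemisimpleOver v (BorelLib.isSemisimpleOver_of_isSemisimple hG)).torus_le_of_normalizer
    (BorelLib.isPreconnected_univ_of_connected v) hmax hNc fun n hn x hx => ?_
  · -- every point of the torus is killed
    have h1 : χ = toUnit T ≫ η[Red.Gm S] := by
      rw [← Category.id_comp χ]
      refine BorelLib.comp_eq_one_of_range (𝟙 T) χ (AVAmpleLib.range_subset_of_points (𝟙 T)
        ι'.isClosedEmbedding.isClosed_range fun z => ?_)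
      obtain ⟨x, hx⟩ := (BorelLib.ptEquiv v).surjective (z ≫ iT)
      obtain ⟨b, hb, hbx⟩ := (hmemN x).1 (hle ⟨z, hx.symm⟩)
      rw [hx, cancel_mono] at hbx
      subst hbx
      rw [Category.comp_id]
      rw [Hom.one_def, toUnit_unique (toUnit _) (𝟙 _), Category.id_comp] at hb
      exact ⟨pullback.lift b.left (𝟙 _) (by simpa using congrArg CommaMorphism.left hb) (IsLocalRing.closedPoint k),
        by show (pullback.lift _ _ _ ≫ ι') _ = _; rw [pullback.lift_fst]; rfl⟩
    rw [h1, Hom.one_def]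
  -- conjugation by a normalising point is an endomorphism of the torus
  obtain ⟨b, hb⟩ := hx
  replace hb : b ≫ iT = BorelLib.ptEquiv v x := hb
  let cj := AGF.conjBy (BorelLib.ptEquiv v n) iT
  have hcj : ∀ z : BorelLib.RPt T, z ≫ cj = BorelLib.ptEquiv v n * (z ≫ iT) * (BorelLib.ptEquiv v n)⁻¹ := fun z => by
    simp only [cj, AGF.conjBy, MonObj.comp_mul, GrpObj.comp_inv, ← Category.assoc]
    rw [toUnit_unique (z ≫ toUnit T) (𝟙 _), Category.id_comp]
  obtain ⟨l, hl⟩ := AVAmpleLib.exists_lift_of_reduced iT.left cj.left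
    (AVAmpleLib.range_subset_of_points cj iT.left.isClosedEmbedding.isClosed_range fun z => by
      obtain ⟨y, hy⟩ := (BorelLib.ptEquiv v).surjective (z ≫ iT)
      have hy' : n * y * n⁻¹ ∈ BorelLib.ptsSub v iT := by
        have hmem : n * y * n⁻¹ ∈ BorelLib.conjSub n (BorelLib.ptsSub v iT) := ⟨y, ⟨z, hy.symm⟩, rfl⟩
        rwa [hn] at hmem
      obtain ⟨z', hz'⟩ := hy'
      replace hz' : z' ≫ iT = BorelLib.ptEquiv v (n * y * n⁻¹) := hz'
      exact ⟨AVAmpleLib.pt z', by rw [hcj, ← hy, ← map_inv, ← map_mul, ← map_mul, ← hz']; rfl⟩)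
  let φ : T ⟶ T := Over.homMk l (by rw [← Over.w iT, ← Category.assoc, hl, Over.w cj, Over.w iT])
  have hφ : φ ≫ iT = cj := Over.OverMorphism.ext hl
  refine (hmemN _).2 ⟨(b ≫ φ) * b⁻¹, ?_, ?_⟩
  · rw [MonObj.mul_comp, GrpObj.inv_comp, Category.assoc, hχ _ φ hφ, mul_inv_cancel]
  · rw [MonObj.mul_comp, GrpObj.inv_comp, Category.assoc, hφ, hcj, hb, map_mul, map_mul, map_mul, map_inv, map_inv]

end Groth.Agent.S16184
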