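import Groth.Statements.S16185
import Groth.Agent.GorLib.Scheme

set_option autoImplicit false
universe u
open CategoryTheory CategoryTheory.Limits AlgebraicGeometry
open Dual3

namespace Groth.Agent.S16185

/-- Let A be an Artinian local ring with maximal ideal m and let f : P → Spec A be a flat morphism of
schemes whose closed fibre X = P ×_{Spec A} Spec (A/m) is a Gorenstein scheme (locally Noetherian,
all local rings Gorenstein). Then f is a Gorenstein morphism: flat at every point with Gorenstein
local rings on its fibres. (The source takes A to be a local Artinian algebra over a field k with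
residue field k and X a k-scheme deformed flatly over A; the k-algebra structure plays no role, so
the residue field of A is used directly.) -/
theorem result
    {A : Type u} [CommRing A] [IsArtinianRing A] [IsLocalRing A]
    {P X : Scheme.{u}} (f : P ⟶ Spec (CommRingCat.of A)) [Flat f]
    (i : X ⟶ P) (q : X ⟶ Spec (CommRingCat.of (IsLocalRing.ResidueField A)))
    (hsq : IsPullback i q f (Spec.map (CommRingCat.ofHom (IsLocalRing.residue A))))
    (hX : Dual3.IsGorenstein X) : Dual3.IsGorensteinMor f := by
  intro x
  let p : Spec (CommRingCat.of A) := f x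
  have hp : p.asIdeal = IsLocalRing.maximalIdeal A := IsLocalRing.eq_maximalIdeal (IsArtinianRing.isMaximal_of_isPrime p.asIdeal)
  have hbij : Function.Bijective (Ideal.Quotient.lift (IsLocalRing.maximalIdeal A) (algebraMap A p.asIdeal.ResidueField)
      fun a ha => by rw [← RingHom.mem_ker, Ideal.ker_algebraMap_residueField, hp]; exact ha) := by
    refine ⟨?_, ?_⟩
    · rw [injective_iff_map_eq_zero]
      intro a ha
      obtain ⟨a, rfl⟩ := Ideal.Quotient.mk_surjective a
      rw [Ideal.Quotient.lift_mk, ← RingHom.mem_ker, Ideal.ker_algebraMap_residueField, hp] at ha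
      exact Ideal.Quotient.eq_zero_iff_mem.2 ha
    · intro z
      haveI : p.asIdeal.IsMaximal := IsArtinianRing.isMaximal_of_isPrime p.asIdeal
      obtain ⟨a, ha⟩ := Ideal.algebraMap_residueField_surjective p.asIdeal z
      exact ⟨Ideal.Quotient.mk _ a, ha⟩
  let σ : CommRingCat.of (IsLocalRing.ResidueField A) ≅ (Spec (CommRingCat.of A)).residueField p :=
    (RingEquiv.ofBijective _ hbij).toCommRingCatIso ≪≫ (Scheme.Spec.residueFieldIso (CommRingCat.of A) p).symm
  have hσ : (Spec (CommRingCat.of A)).fromSpecResidueField p =
      Spec.map σ.hom ≫ Spec.map (CommRingCat.ofHom (IsLocalRing.residue A)) := by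
    rw [← Scheme.Spec.map_residueFieldIso_inv_eq_fromSpecResidueField, ← Spec.map_comp, ← Spec.map_comp]
    rfl
  have h1 : IsPullback (f.fiberι p) (f.fiberToSpecResidueField p) f ((Spec (CommRingCat.of A)).fromSpecResidueField p) :=
    IsPullback.of_hasPullback f _
  have h2 : IsPullback (f.fiberι p) (f.fiberToSpecResidueField p ≫ Spec.map σ.hom) f
      (Spec.map (CommRingCat.ofHom (IsLocalRing.residue A))) :=
    h1.of_iso (Iso.refl _) (Iso.refl _) (asIso (Spec.map σ.hom)) (Iso.refl _) (by simp) (by simp) (by simp) (by simp [hσ])
  let e : f.fiber p ≅ X := h2.isoIsPullback _ _ hsq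
  refine ⟨Flat.stalkMap f x, ?_⟩
  haveI : IsIso (e.hom.stalkMap (f.asFiber x)) := inferInstance
  exact GorLib.gorenstein_of_ringEquiv (asIso (e.hom.stalkMap (f.asFiber x))).commRingCatIsoToRingEquiv.symm (hX.2 _)

end Groth.Agent.S16185
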