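import Groth.Statements.S16186
import Groth.Agent.GeomSmoothingLib.Main
import Groth.Agent.GeomSmoothingLib.PSpace

set_option autoImplicit false
set_option linter.style.haveILetI false
universe u
open CategoryTheory CategoryTheory.Limits AlgebraicGeometry
open Deform

namespace Groth.Agent.S16186

open GeomSmoothingLib

/-- A fibre of a base change over a point of the locus where all fibres are smooth is smooth. -/
theorem smooth_fiber_of_smoothLocus {Z S C : Scheme.{u}} (z : Z ⟶ S) [LocallyOfFinitePresentation z] (ν : C ⟶ S)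
    (η : C) (V : S.Opens) (hη : ν η ∈ V) (hV : ∀ x : Z, z x ∈ V → x ∈ z.smoothLocus) :
    Smooth ((pullback.snd z ν).fiberToSpecResidueField η) := by
  have h1 : Smooth ((z ⁻¹ᵁ V).ι ≫ z) := by
    rw [← Scheme.Hom.smoothLocus_eq_top_iff, ← Scheme.Hom.preimage_smoothLocus_eq]
    exact top_le_iff.1 fun w _ => hV _ w.2
  rw [← morphismRestrict_ι] at h1
  have sq : IsPullback (𝟙 _) (z ∣_ V) ((z ∣_ V) ≫ V.ι) V.ι := IsPullback.of_horiz_isIso_mono ⟨by simp⟩
  have h2 : Smooth (z ∣_ V) := MorphismProperty.of_isPullback (P := @Smooth) sq h1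
  let g := C.fromSpecResidueField η ≫ ν
  let l := IsOpenImmersion.lift V.ι g (by
    rintro _ ⟨w, rfl⟩
    rw [Scheme.Opens.range_ι, Scheme.Hom.comp_apply]
    have : C.fromSpecResidueField η w = η := by
      have h : C.fromSpecResidueField η w ∈ Set.range (C.fromSpecResidueField η) := ⟨w, rfl⟩
      rwa [Scheme.range_fromSpecResidueField] at h
    rw [this]
    exact hη)
  have hl : l ≫ V.ι = g := IsOpenImmersion.lift_fac _ _ _
  have h3 := (IsPullback.of_hasPullback (z ∣_ V) l).paste_horiz (isPullback_morphismRestrict z V).flip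
  rw [hl] at h3
  have h4 := (IsPullback.of_hasPullback (pullback.snd z ν) (C.fromSpecResidueField η)).paste_horiz
    (IsPullback.of_hasPullback z ν)
  show Smooth (pullback.snd (pullback.snd z ν) (C.fromSpecResidueField η))
  rw [← IsPullback.isoIsPullback_hom_snd _ _ h4 h3]
  infer_instance

/-- Projective space over an extension is the base change. -/
theorem exists_projSpace_bc (n : ℕ) (k T : Type u) [CommRing k] [CommRing T] [Algebra k T] :
    ∃ j : CohB1.ProjSpace n T ⟶ CohB1.ProjSpace n k,
      IsPullback j (CohB1.ProjSpace.toSpec n T) (CohB1.ProjSpace.toSpec n k) (sA (k := k) T) := by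
  obtain ⟨qT, hT⟩ := exists_projSpace_map n T
  obtain ⟨qk, hk⟩ := exists_projSpace_map n k
  let j := hk.lift qT (CohB1.ProjSpace.toSpec n T ≫ sA (k := k) T)
    (by rw [Category.assoc, specULiftZIsTerminal.hom_ext (sA (k := k) T ≫ specULiftZIsTerminal.from _)
      (specULiftZIsTerminal.from _)]; exact hT.w)
  refine ⟨j, IsPullback.of_right ?_ (hk.lift_snd _ _ _) hk⟩
  rw [hk.lift_fst, specULiftZIsTerminal.hom_ext (sA (k := k) T ≫ specULiftZIsTerminal.from _)
    (specULiftZIsTerminal.from _)]
  exact hT

/-- Let k be an algebraically closed field and let p : P → Spec k[[t]] be flat and projective, i.e. P is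
a closed subscheme of a projective space over k[[t]] compatibly with p; let X be its closed fibre
over k and suppose the generic fibre P ⊗ Frac k[[t]] is smooth. Then X is geometrically smoothable:
there exist an affine integral curve C, smooth of dimension one over k, a k-rational point c of C
and a flat proper morphism Y → C whose fibre over c is isomorphic to X over k and whose fibre over
the generic point of C is smooth. (The source's statement is the equivalence, for X reduced
projective and equidimensional over an algebraically closed field of characteristic zero with H^2(X,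
O_X) = 0 or with X Gorenstein and its dualizing sheaf or the dual of it ample, between the existence
of a formal smoothing and of a geometric smoothing; its proof first turns a formal smoothing into a
smoothing over Spec k[[t]] and then runs the argument stated here, which uses neither characteristic
zero nor the hypotheses on X.) -/
theorem result
    (k : Type u) [Field k] [IsAlgClosed k]
    (X : Scheme.{u}) (pX : X ⟶ Spec (CommRingCat.of k))
    (P : Scheme.{u}) (p : P ⟶ Spec (CommRingCat.of (PowerSeries k))) [Flat p]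
    (hproj : ∃ (d : ℕ) (ι : P ⟶ CohB1.ProjSpace d (PowerSeries k)), IsClosedImmersion ι ∧
      ι ≫ CohB1.ProjSpace.toSpec d (PowerSeries k) = p)
    (i : X ⟶ P)
    (hX : IsPullback i pX p (Spec.map (CommRingCat.ofHom (PowerSeries.constantCoeff (R := k)))))
    (hgen : Smooth (pullback.snd p
      (Spec.map (CommRingCat.ofHom (algebraMap (PowerSeries k) (FractionRing (PowerSeries k)))))))
    : ∃ (C : Scheme.{u}) (qC : C ⟶ Spec (CommRingCat.of k)) (c : Spec (CommRingCat.of k) ⟶ C)
      (_ : c ≫ qC = 𝟙 (Spec (CommRingCat.of k))) (_ : IsIntegral C) (_ : IsAffine C) (_ : Smooth qC)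
      (_ : topologicalKrullDim C = 1)
      (Y : Scheme.{u}) (π : Y ⟶ C) (_ : Flat π) (_ : IsProper π) (j : X ⟶ Y)
      (η : C) (_ : closure ({η} : Set C) = Set.univ),
      IsPullback j pX π c ∧ Smooth (π.fiberToSpecResidueField η) := by
  classical
  obtain ⟨d, i₀, hi₀, hi₀p⟩ := hproj
  haveI := hi₀
  obtain ⟨jT, hjT⟩ := exists_projSpace_bc d k (PowerSeries k)
  let q := CohB1.ProjSpace.toSpec d k
  haveI : IsProper q := isProper_projSpace d k
  let ι : P ⟶ qA q (PowerSeries k) := i₀ ≫ hjT.isoPullback.hom
  have hι : ι ≫ pullback.snd q (sA (PowerSeries k)) = p := by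
    rw [Category.assoc, IsPullback.isoPullback_hom_snd, hi₀p]
  haveI : Flat (ι ≫ pullback.snd q (sA (PowerSeries k))) := by rw [hι]; infer_instance
  obtain ⟨A, hA, htA, Z, j, hj, g, hflat, hpb⟩ := exists_flat_model q (PowerSeries k) PowerSeries.X ι
  rw [hι] at hpb
  let z : Z ⟶ Spec (CommRingCat.of A) := j ≫ pullback.snd q (sA A)
  haveI : Algebra.FiniteType k A := A.fg_iff_finiteType.1 hA
  haveI : IsNoetherianRing A := Algebra.FiniteType.isNoetherianRing k A
  haveI : IsProper z := inferInstance
  haveI : Flat z := hflat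
  haveI : IsLocallyNoetherian (Spec (CommRingCat.of A)) := inferInstance
  haveI : LocallyOfFinitePresentation z := inferInstance
  let L := FractionRing (PowerSeries k)
  have hinj : Function.Injective (algebraMap A L) := by
    rw [IsScalarTower.algebraMap_eq A (PowerSeries k) L]
    exact (IsFractionRing.injective (PowerSeries k) L).comp Subtype.val_injective
  have hAL : Spec.map (CommRingCat.ofHom (algebraMap (PowerSeries k) L)) ≫
      Spec.map (CommRingCat.ofHom (algebraMap A (PowerSeries k))) = sA (k := A) L := by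
    rw [← Spec.map_comp, ← CommRingCat.ofHom_comp, ← IsScalarTower.algebraMap_eq]
  have hsm : Smooth (pullback.snd z (sA (k := A) L)) := by
    have h := (IsPullback.of_hasPullback p (Spec.map (CommRingCat.ofHom (algebraMap (PowerSeries k) L)))).paste_horiz hpb
    rw [hAL] at h
    rw [← h.isoPullback_inv_snd]
    infer_instance
  -- the locus of smooth fibres
  let η₀ : PrimeSpectrum A := ⟨⊥, Ideal.isPrime_bot⟩
  have hclosed : IsClosed (z '' ((z.smoothLocus : Set Z)ᶜ)) :=
    (Scheme.Hom.isClosedMap z) _ z.smoothLocus.2.isClosed_compl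
  have hη : η₀ ∈ (z '' ((z.smoothLocus : Set Z)ᶜ))ᶜ := by
    rintro ⟨x, hx, hxe⟩
    exact hx (mem_smoothLocus_of_generic hinj z hsm x hxe)
  obtain ⟨_, ⟨g₀, rfl⟩, hg₀, hsub⟩ :=
    PrimeSpectrum.isTopologicalBasis_basic_opens.exists_subset_of_mem_open hη hclosed.isOpen_compl
  have hg0 : g₀ ≠ 0 := fun h => hg₀ (by show g₀ ∈ (⊥ : Ideal A); rw [h]; exact Submodule.zero_mem _)
  -- the curve
  let cT : PowerSeries k →ₐ[k] k :=
    { PowerSeries.constantCoeff (R := k) with commutes' := fun r => by simp [PowerSeries.algebraMap_eq] }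
  let φ : A →ₐ[k] k := cT.comp A.val
  obtain ⟨B, _, _, _, f, ψ, hsmB, hdim, hψ, hfg⟩ := exists_curve φ ⟨PowerSeries.X, htA⟩
    (fun h => PowerSeries.X_ne_zero (congrArg Subtype.val h)) (PowerSeries.constantCoeff_X) g₀ hg0
  let ν : Spec (CommRingCat.of B) ⟶ Spec (CommRingCat.of A) := Spec.map (CommRingCat.ofHom f.toRingHom)
  let c : Spec (CommRingCat.of k) ⟶ Spec (CommRingCat.of B) := Spec.map (CommRingCat.ofHom ψ.toRingHom)
  let π := pullback.snd z ν
  have hcν : c ≫ ν = Spec.map (CommRingCat.ofHom (PowerSeries.constantCoeff (R := k))) ≫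
      Spec.map (CommRingCat.ofHom (algebraMap A (PowerSeries k))) := by
    rw [← Spec.map_comp, ← Spec.map_comp, ← CommRingCat.ofHom_comp, ← CommRingCat.ofHom_comp]
    congr 2
    exact RingHom.ext fun a => AlgHom.congr_fun hψ a
  have hXZ : IsPullback (i ≫ g) pX z (c ≫ ν) := by
    rw [hcν]; exact hX.paste_horiz hpb
  let jX : X ⟶ pullback z ν := pullback.lift (i ≫ g) (pX ≫ c) (by rw [hXZ.w, Category.assoc])
  have hjX : IsPullback jX pX π c := by
    refine IsPullback.of_right ?_ (pullback.lift_snd _ _ _) (IsPullback.of_hasPullback z ν)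
    rw [pullback.lift_fst]
    exact hXZ
  let η : Spec (CommRingCat.of B) := (⟨⊥, Ideal.isPrime_bot⟩ : PrimeSpectrum B)
  refine ⟨Spec (CommRingCat.of B), Spec.map (CommRingCat.ofHom (algebraMap k B)), c, ?_, inferInstance, inferInstance,
    ?_, ?_, pullback z ν, π, inferInstance, inferInstance, jX, η, ?_, hjX, ?_⟩
  · rw [← Spec.map_comp, ← CommRingCat.ofHom_comp, ← Spec.map_id]
    congr 1
    exact CommRingCat.hom_ext (RingHom.ext fun a => ψ.commutes a)
  · exact (HasRingHomProperty.Spec_iff (P := @Smooth)).2 (RingHom.smooth_algebraMap.2 hsmB)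
  · exact (PrimeSpectrum.topologicalKrullDim_eq_ringKrullDim B).trans hdim
  · refine Set.eq_univ_iff_forall.2 fun w => specializes_iff_mem_closure.1 ?_
    exact (PrimeSpectrum.le_iff_specializes η w).1 bot_le
  · refine smooth_fiber_of_smoothLocus z ν η (PrimeSpectrum.basicOpen g₀) (fun h => hfg ((Ideal.mem_bot (R := B)).1 h))
      fun x hx => ?_
    by_contra hns
    exact hsub hx ⟨_, hns, rfl⟩

end Groth.Agent.S16186
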