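import Groth.Statements.S16188
import Mathlib

set_option autoImplicit false
universe u
open CategoryTheory AlgebraicGeometry TopologicalSpace
open SchMor

namespace Groth.Agent.S16188

/-- Let f : X → Y be a morphism of schemes with X reduced and irreducible. Then f factors through an
irreducible component of Y carrying its reduced closed-subscheme structure: there are an irreducible
component Z of Y and a morphism g from X to the closed subscheme of Y cut out by the vanishing ideal
sheaf of Z with g followed by the inclusion equal to f; that closed subscheme is integral. -/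
theorem result
    {X Y : Scheme.{u}} (f : X ⟶ Y) [IsReduced X] [IrreducibleSpace X] :
    ∃ (Z : Closeds Y) (_ : (Z : Set Y) ∈ irreducibleComponents Y)
      (_ : IsIntegral (Scheme.IdealSheafData.vanishingIdeal Z).subscheme)
      (g : X ⟶ (Scheme.IdealSheafData.vanishingIdeal Z).subscheme),
      g ≫ (Scheme.IdealSheafData.vanishingIdeal Z).subschemeι = f := by
  let η := genericPoint X
  have hC := irreducibleComponent_mem_irreducibleComponents (f η)
  let Z : TopologicalSpace.Closeds Y := ⟨irreducibleComponent (f η), isClosed_irreducibleComponent⟩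
  let I := Scheme.IdealSheafData.vanishingIdeal Z
  have hr : Set.range I.subschemeι = (Z : Set Y) :=
    I.range_subschemeι.trans (Scheme.IdealSheafData.coe_support_vanishingIdeal Z)
  have hred : ∀ i, IsReduced (I.subschemeCover.openCover.X i) := fun (U : Y.affineOpens) => by
    change IsReduced (Spec (CommRingCat.of (Γ(Y, U) ⧸ I.ideal U)))
    have : _root_.IsReduced (Γ(Y, U) ⧸ I.ideal U) :=
      (Ideal.isRadical_iff_quotient_reduced _).1 (by
        rw [Scheme.IdealSheafData.vanishingIdeal_ideal]
        exact PrimeSpectrum.isRadical_vanishingIdeal _)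
    infer_instance
  have : IsReduced I.subscheme := IsReduced.of_openCover (𝒰 := I.subschemeCover.openCover)
  have : IrreducibleSpace I.subscheme := by
    have hi := I.subschemeι.isEmbedding
    have h : IsPreirreducible (Set.univ : Set I.subscheme) := by
      rintro u v hu hv ⟨a, -, ha⟩ ⟨b, -, hb⟩
      obtain ⟨u', hu', rfl⟩ := hi.isInducing.isOpen_iff.mp hu
      obtain ⟨v', hv', rfl⟩ := hi.isInducing.isOpen_iff.mp hv
      obtain ⟨_, hy, hyu, hyv⟩ :=
        hC.1.2 u' v' hu' hv' ⟨_, hr.le ⟨a, rfl⟩, ha⟩ ⟨_, hr.le ⟨b, rfl⟩, hb⟩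
      obtain ⟨z, rfl⟩ := hr.ge hy
      exact ⟨z, trivial, hyu, hyv⟩
    obtain ⟨z, -⟩ := hr.ge (mem_irreducibleComponent (x := f η))
    exact { isPreirreducible_univ := h, toNonempty := ⟨z⟩ }
  have hsub : Set.range f ⊆ (Z : Set Y) := by
    rintro _ ⟨x, rfl⟩
    exact ((genericPoint_specializes x).map f.continuous).mem_closed Z.isClosed mem_irreducibleComponent
  have hker : I.subschemeι.ker ≤ f.ker := by
    rw [Scheme.IdealSheafData.ker_subschemeι]
    refine Scheme.IdealSheafData.le_ofIdeals_iff.2 fun U s hs => ?_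
    rw [Scheme.IdealSheafData.vanishingIdeal_ideal, PrimeSpectrum.mem_vanishingIdeal] at hs
    rw [RingHom.mem_ker]
    refine eq_zero_of_basicOpen_eq_bot _ (eq_bot_iff.2 fun w hw => ?_)
    exfalso
    rw [← Scheme.preimage_basicOpen] at hw
    have hwU : f w ∈ U.1 := Y.basicOpen_le s hw
    have hp : U.2.fromSpec (U.2.primeIdealOf ⟨f w, hwU⟩) = f w := U.2.fromSpec_primeIdealOf ⟨f w, hwU⟩
    have hsp := hs (U.2.primeIdealOf ⟨f w, hwU⟩) (by
      change U.2.fromSpec _ ∈ (Z : Set Y)
      rw [hp]; exact hsub ⟨w, rfl⟩)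
    have : U.2.primeIdealOf ⟨f w, hwU⟩ ∈ U.2.fromSpec ⁻¹ᵁ Y.basicOpen s := by
      change U.2.fromSpec _ ∈ Y.basicOpen s
      rw [hp]; exact hw
    rw [U.2.fromSpec_preimage_basicOpen] at this
    exact this hsp
  exact ⟨Z, hC, isIntegral_of_irreducibleSpace_of_isReduced _,
    IsClosedImmersion.lift I.subschemeι f hker, IsClosedImmersion.lift_fac _ _ _⟩

end Groth.Agent.S16188
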