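import Groth.Statements.S16189
import Groth.Agent.GorDualExtLib.BC
import Groth.Agent.GorDualExtLib.Fibre
import Groth.Agent.GorDualExtLib.Levels
import Groth.Agent.CubeConsLib.Hom

set_option autoImplicit false
set_option backward.isDefEq.respectTransparency false
set_option backward.isDefEq.respectTransparency.types false
set_option linter.style.haveILetI false
set_option maxHeartbeats 1000000
universe u
open CategoryTheory CategoryTheory.Limits AlgebraicGeometry
attribute [local instance] HasDerivedCategory.standard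
open Deform

namespace Groth.Agent.S16189

/-- Let k be a field and X a projective Gorenstein k-scheme, equidimensional of dimension n, and let ω_X
be its dualizing module, the cohomology sheaf in degree -n of f^! O for f : X → Spec k (computed
through an assumed right adjoint of Rf_* on D_QCoh, as the shared prelude presents f^!). Let 𝔛 → Spf
k[[t]] be a formal deformation of X: an adic morphism of systems of thickenings to the system (Spec
k[[t]]/(t^{m+1}))_m whose levels X_m → Spec k[[t]]/(t^{m+1}) are all flat and proper, together with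
an isomorphism of X with the level-0 scheme compatible with the structure maps to Spec k. Then ω_X
extends to an invertible formal sheaf on 𝔛: there is a system (L_m)_m of invertible O_{X_m}-modules
with transition isomorphisms L_{m+1}|_{X_m} ≅ L_m whose level-0 term pulls back to a module
isomorphic to ω_X (existence of an isomorphism only). (The published statement adds that this
invertible formal sheaf is unique; the proof gives existence only, and uniqueness fails already for
the constant deformation of an elliptic curve, whose trivial dualizing module extends both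
constantly and along a non-constant formal family of degree-zero invertible sheaves. The published
setting is an algebraically closed field of characteristic zero and a Gorenstein X with locally
constant dimension; the proof uses neither property of k, and a single dimension n is fixed here.) -/
theorem result
    (k : Type u) [Field k] (X : Scheme.{u}) [X.Over (Spec (CommRingCat.of k))]
    (hproj : ∃ (d : ℕ) (ι : X ⟶ CohB1.ProjSpace d k), IsClosedImmersion ι ∧
      ι ≫ CohB1.ProjSpace.toSpec d k = X ↘ Spec (CommRingCat.of k))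
    (hG : Dual3.IsGorenstein X) (n : ℕ)
    (hequi : ∀ Z ∈ irreducibleComponents (X : Type u), topologicalKrullDim Z = n)
    [DCoh.HasRpush (X ↘ Spec (CommRingCat.of k))] (h : DCoh.RpushPreservesQCoh (X ↘ Spec (CommRingCat.of k)))
    [DCoh.HasShriek (X ↘ Spec (CommRingCat.of k)) h]
    (OY : DCoh.DQCoh (Spec (CommRingCat.of k)))
    (hOY : Nonempty (OY.obj ≅ DCoh.inD (Spec (CommRingCat.of k)) (Coh.structureModule (Spec (CommRingCat.of k)))))
    (𝔛 : FSch.Sys.{u}) (𝔣 : 𝔛 ⟶ FSch.spf (PowerSeries k) (Ideal.span {PowerSeries.X (R := k)}))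
    (hadic : FSch.IsAdicHom 𝔣)
    (hflat : ∀ m : ℕ, Flat (FSch.Hom.app 𝔣 m)) (hprop : ∀ m : ℕ, IsProper (FSch.Hom.app 𝔣 m))
    (e : X ≅ 𝔛.X 0)
    (he : e.hom ≫ FSch.Hom.app 𝔣 0 ≫ Spec.map (CommRingCat.ofHom
      ((Ideal.Quotient.mk (Ideal.span {PowerSeries.X (R := k)} ^ (0 + 1))).comp (algebraMap k (PowerSeries k)))) =
      X ↘ Spec (CommRingCat.of k)) :
    ∃ 𝔏 : FSch.ModSys 𝔛, (∀ m : ℕ, PicF.IsInvertible (𝔏.F m)) ∧
      Nonempty ((Scheme.Modules.pullback e.hom).obj (𝔏.F 0) ≅
        DCoh.dualizingMod (X ↘ Spec (CommRingCat.of k)) h OY n) := by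
  haveI : ∀ m, Flat (FSch.Hom.app 𝔣 m) := hflat
  haveI : ∀ m, IsProper (FSch.Hom.app 𝔣 m) := hprop
  let fk : X ⟶ Spec (CommRingCat.of k) := X ↘ Spec (CommRingCat.of k)
  let S := FSch.spf (PowerSeries k) (Ideal.span {PowerSeries.X (R := k)})
  haveI : ∀ m, IsNoetherian (S.X m) := fun m => GorDualExtLib.isNoetherian_spf k m
  haveI : ∀ m, Subsingleton (S.X m) := fun m => GorDualExtLib.subsingleton_spf k m
  haveI := GorDualExtLib.isIso_level k
  let θ := Spec.map (CommRingCat.ofHom
    ((Ideal.Quotient.mk (Ideal.span {PowerSeries.X (R := k)} ^ (0 + 1))).comp (algebraMap k (PowerSeries k))))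
  have w : e.hom ≫ FSch.Hom.app 𝔣 0 = fk ≫ inv θ := by
    rw [IsIso.eq_comp_inv, Category.assoc]; exact he
  have hsq₀ : IsPullback e.hom fk (FSch.Hom.app 𝔣 0) (inv θ) := IsPullback.of_horiz_isIso ⟨w⟩
  have hsq : ∀ m, IsPullback (e.hom ≫ 𝔛.toX m) fk (FSch.Hom.app 𝔣 m) (inv θ ≫ S.toX m) := fun m =>
    hsq₀.paste_horiz (GorDualExtLib.isPullback_toX 𝔣 hadic m)
  haveI : ∀ m, IsClosedImmersion (inv θ ≫ S.toX m) := fun m => by
    haveI := GorDualExtLib.isClosedImmersion_toX k m
    infer_instance
  haveI : IsProper fk := MorphismProperty.of_isPullback (P := @IsProper) hsq₀ inferInstance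
  haveI : Flat fk := MorphismProperty.of_isPullback (P := @Flat) hsq₀ inferInstance
  haveI : ∀ m, DCoh.HasRpush (FSch.Hom.app 𝔣 m) := fun m => DCohRestrLib.hasRpush _
  have hf : ∀ m, DCoh.RpushPreservesQCoh (FSch.Hom.app 𝔣 m) := fun m E hE => QRlimLib.isQCohD_rpush _ hE
  haveI : ∀ m, (DCoh.RpushQ (FSch.Hom.app 𝔣 m) (hf m)).IsLeftAdjoint := fun m =>
    haveI : IsLocallyNoetherian (𝔛.X m) := LocallyOfFiniteType.isLocallyNoetherian (FSch.Hom.app 𝔣 m)
    haveI : CompactSpace (𝔛.X m) := QuasiCompact.compactSpace_of_compactSpace (FSch.Hom.app 𝔣 m)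
    KoszOrthLib.isLeftAdjoint_rpushQ _ (hf m)
  let O : ∀ m, DCoh.DQCoh (S.X m) := fun m =>
    ⟨DCoh.inD (S.X m) (Coh.structureModule (S.X m)),
      FMTransLib.isQCohD_inD_inv (CubeConsLib.isInvertible_one (S.X m))⟩
  have key := fun m => GorDualExtLib.exists_invertible_single (FSch.Hom.app 𝔣 m) (hf m) _
    (Adjunction.ofIsLeftAdjoint (DCoh.RpushQ (FSch.Hom.app 𝔣 m) (hf m))) (O m) ⟨Iso.refl _⟩
    (GorDualExtLib.isGorensteinMor_of_special (hsq m) hG) n
    (GorDualExtLib.dim_fiber_of_special (hsq m) n hequi)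
  choose L hL eL using key
  have htr : ∀ m, Nonempty ((Scheme.Modules.pullback (𝔛.ι m)).obj (L (m + 1)) ≅ L m) := fun m =>
    GorDualExtLib.nonempty_pullback_iso (hadic m) (hf (m + 1)) (hf m)
      (Adjunction.ofIsLeftAdjoint (DCoh.RpushQ (FSch.Hom.app 𝔣 (m + 1)) (hf (m + 1))))
      (Adjunction.ofIsLeftAdjoint (DCoh.RpushQ (FSch.Hom.app 𝔣 m) (hf m)))
      (O (m + 1)) ⟨Iso.refl _⟩ (O m) ⟨Iso.refl _⟩ n (hL (m + 1)) (eL (m + 1)).some (eL m).some
  refine ⟨⟨L, fun m => (htr m).some⟩, hL, ?_⟩
  haveI : IsNoetherian (Spec (CommRingCat.of k)) := GorDualExtLib.isNoetherian_spec k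
  have hid : IsPullback (𝟙 X) fk fk (𝟙 (Spec (CommRingCat.of k))) := IsPullback.id_horiz fk
  haveI : Subsingleton (Spec (CommRingCat.of k)) := GorDualExtLib.subsingleton_spec k
  obtain ⟨L', hL', ⟨e'⟩⟩ := GorDualExtLib.exists_invertible_single fk h (DCoh.shriek fk h)
    (DCoh.shriekAdj fk h) OY hOY (GorDualExtLib.isGorensteinMor_of_special hid hG) n
    (GorDualExtLib.dim_fiber_of_special hid n hequi)
  obtain ⟨p⟩ := GorDualExtLib.nonempty_pullback_iso hsq₀ (hf 0) h
    (Adjunction.ofIsLeftAdjoint (DCoh.RpushQ (FSch.Hom.app 𝔣 0) (hf 0))) (DCoh.shriekAdj fk h)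
    (O 0) ⟨Iso.refl _⟩ OY hOY n (hL 0) (eL 0).some e'
  exact ⟨p ≪≫ (GorDualExtLib.hdInD L').symm ≪≫ eqToIso (by rw [add_neg_cancel]) ≪≫
    (GorDualExtLib.hdShiftIso L' (n : ℤ) (-(n : ℤ))).symm ≪≫
    ((DerivedCategory.homologyFunctor X.Modules (-(n : ℤ))).mapIso e').symm⟩

end Groth.Agent.S16189
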