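import Groth.Statements.S1619
import Mathlib
import Groth.Agent.VarDimLib.Basic
-- import your own Groth.Agent.* helpers here

set_option autoImplicit false
universe u
open CategoryTheory CategoryTheory.Limits AlgebraicGeometry
attribute [local instance] Curv2.stalkAlgebra Curv2.resAlgebra
open Variety

namespace Groth.Agent.S1619

/-- Let X be irreducible and locally of finite type over a field k, with generic point ξ. If the residue
field of ξ has transcendence degree n over k then X has Krull dimension n. -/
theorem result (k : Type u) [Field k] (X : Scheme.{u}) [X.Over (Spec (CommRingCat.of k))] [LocallyOfFiniteType (X ↘ (Spec (CommRingCat.of k)))] [IrreducibleSpace X]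
    (n : ℕ) (hn : Algebra.trdeg k (X.residueField (genericPoint X)) = n) : topologicalKrullDim X = n := by
  obtain ⟨s, hs, hs'⟩ := VarDimLib.closureDim_eq_trdeg k X (genericPoint X)
  rw [VarDimLib.dim_eq_closure_generic X, hs]
  have : (s : Cardinal.{u}) = (n : Cardinal.{u}) := hs'.symm.trans hn
  exact_mod_cast (Nat.cast_inj.mp this)

end Groth.Agent.S1619
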