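import Groth.Statements.S16194
import Mathlib.RingTheory.Jacobson.Radical
import Mathlib.RingTheory.Ideal.Basic

set_option autoImplicit false
universe u
open DivAlg

namespace Groth.Agent.S16194

/-- In an associative unital ring R, not necessarily commutative, every element r of the Jacobson
radical (the set of elements lying in every maximal left ideal) is quasiregular, i.e. 1 - r is a
two-sided unit. -/
theorem result {R : Type u} [Ring R] (r : R)
    (hr : r ∈ Ring.jacobson R) : IsUnit (1 - r) := by
  have key : ∀ s ∈ Ring.jacobson R, ∃ u, u * (1 - s) = 1 := by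
    intro s hs
    by_contra hne
    push Not at hne
    obtain ⟨m, hm, hle⟩ := Ideal.exists_le_maximal (Ideal.span {1 - s}) (fun htop => by
      obtain ⟨u, hu⟩ := Ideal.mem_span_singleton'.1 ((Ideal.eq_top_iff_one _).1 htop)
      exact hne u hu)
    have hsm : s ∈ m := (sInf_le (Ideal.isMaximal_def.1 hm) : Module.jacobson R R ≤ m) hs
    have := m.add_mem (hle (Ideal.mem_span_singleton_self _)) hsm
    rw [sub_add_cancel] at this
    exact hm.ne_top ((Ideal.eq_top_iff_one m).2 this)
  obtain ⟨u, hu⟩ := key r hr
  obtain ⟨v, hv⟩ := key (-(u * r)) ((Ring.jacobson R).neg_mem ((Ring.jacobson R).smul_mem u hr))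
  have e : 1 - -(u * r) = u := by
    rw [sub_neg_eq_add]
    calc 1 + u * r = u * (1 - r) + u * r := by rw [hu]
      _ = u := by rw [mul_sub, mul_one, sub_add_cancel]
  rw [e] at hv
  have hve : v = 1 - r := by
    calc v = v * (u * (1 - r)) := by rw [hu, mul_one]
      _ = 1 - r := by rw [← mul_assoc, hv, one_mul]
  exact ⟨⟨1 - r, u, hve ▸ hv, hu⟩, rfl⟩

end Groth.Agent.S16194
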