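import Groth.Statements.S16196
import Mathlib


-- import your own Groth.Agent.* helpers here

set_option autoImplicit false
universe u v
open DivAlg

namespace Groth.Agent.S16196

/-- Let R be a ring (associative, unital, not necessarily commutative) and M a left R-module which is a
generator, in the form: for some n there is an R-linear surjection from M^n onto R. Then the natural
ring homomorphism from R to the double endomorphism ring BiEnd_R(M) = End_{End_R(M)}(M)
(endomorphisms of M commuting with every R-linear endomorphism), r ↦ multiplication by r, is
bijective. (The printed form takes R an algebra over a commutative ring k, embeds R in E = End_k(M)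
and asserts R = C_E(C_E(R)); the double centralizer there is BiEnd_R(M).) -/
theorem result {R : Type u} [Ring R] (M : Type v)
    [AddCommGroup M] [Module R M]
    (hgen : ∃ (n : ℕ) (f : (Fin n → M) →ₗ[R] R), Function.Surjective f) :
    Function.Bijective (Module.toModuleEnd (Module.End R M) (S := R) M) := by
  classical
  obtain ⟨n, f, hf⟩ := hgen
  obtain ⟨x, hx⟩ := hf 1
  constructor
  · rw [injective_iff_map_eq_zero]
    intro r hr
    have h0 : ∀ m : M, r • m = 0 := fun m => LinearMap.congr_fun hr m
    have : r • x = 0 := funext fun i => h0 (x i)
    have h2 := congrArg f this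
    rwa [map_smul, hx, smul_eq_mul, mul_one, map_zero] at h2
  · intro φ
    refine ⟨∑ i, f (Pi.single i (φ (x i))), LinearMap.ext fun m => ?_⟩
    have hφ : ∀ (i : Fin n) (z : M), φ (f (Pi.single i z) • m) = f (Pi.single i (φ z)) • m := fun i z =>
      φ.map_smul ((LinearMap.toSpanSingleton R M m).comp (f.comp (LinearMap.single R (fun _ : Fin n => M) i))) z
    change (∑ i, f (Pi.single i (φ (x i)))) • m = φ m
    rw [Finset.sum_smul]
    simp_rw [← hφ]
    rw [← map_sum φ, ← Finset.sum_smul, ← map_sum, Finset.univ_sum_single, hx, one_smul]

end Groth.Agent.S16196
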