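import Groth.Statements.S16197
import Mathlib.Tactic.Abel


set_option autoImplicit false
universe u v w
open DivAlg

namespace Groth.Agent.S16197

/-- Let R be a ring (associative, unital, not necessarily commutative) and M a left R-module which is a
generator, used here only through the existence of an R-linear surjection from a direct sum of
copies of M, indexed by an arbitrary type, onto R. Then some finite power M^n decomposes as R × Q
for a submodule Q of M^n. (The published statement is an equivalence; this row states only the
implication from the existence of such a surjection to the splitting.) -/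
theorem result {R : Type u} [Ring R] (M : Type v)
    [AddCommGroup M] [Module R M]
    (hgen : ∃ (ι : Type w) (f : (ι →₀ M) →ₗ[R] R), Function.Surjective f) :
    ∃ (n : ℕ) (Q : Submodule R (Fin n → M)), Nonempty ((Fin n → M) ≃ₗ[R] (R × Q)) := by
  classical
  obtain ⟨ι, f, hf⟩ := hgen
  obtain ⟨x, hx⟩ := hf 1
  let e := x.support.equivFin
  let n := x.support.card
  let g : (Fin n → M) →ₗ[R] R := ∑ k, (f.comp (Finsupp.lsingle (e.symm k : ι))).comp (LinearMap.proj k)
  let v : Fin n → M := fun k => x (e.symm k)
  have hgv : g v = 1 := by
    rw [← hx]
    conv_rhs => rw [← x.sum_single, Finsupp.sum, map_sum, ← Finset.sum_coe_sort, ← e.symm.sum_comp]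
    simp [g, v]
  let s : R →ₗ[R] (Fin n → M) := LinearMap.toSpanSingleton R _ v
  have hgs : ∀ r, g (s r) = r := fun r => by simp [s, hgv]
  refine ⟨n, LinearMap.ker g, ⟨{
    toFun := fun m => (g m, ⟨m - s (g m), by rw [LinearMap.mem_ker, map_sub, hgs, sub_self]⟩)
    invFun := fun p => s p.1 + p.2
    left_inv := fun m => by simp
    right_inv := fun p => by
      have h2 : g (p.2 : Fin n → M) = 0 := p.2.2
      have h1 : g (s p.1 + p.2) = p.1 := by rw [map_add, hgs, h2, add_zero]
      refine Prod.ext h1 (Subtype.ext ?_)
      simp [h1]
    map_add' := fun a b => by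
      refine Prod.ext (map_add g a b) (Subtype.ext ?_)
      simp only [map_add, Prod.snd_add, Submodule.coe_add]
      abel
    map_smul' := fun r a => by
      refine Prod.ext (map_smul g r a) (Subtype.ext ?_)
      simp only [map_smul, RingHom.id_apply, Prod.smul_snd, Submodule.coe_smul, smul_sub] }⟩⟩

end Groth.Agent.S16197
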