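import Groth.Statements.S16198
import Mathlib

-- import your own Groth.Agent.* helpers here

set_option autoImplicit false
universe u v
open DivAlg

open scoped TensorProduct
namespace Groth.Agent.S16198

/-- In the case of a commutative ring R, let N be an invertible R-module such that the direct sum N^n is
isomorphic to R^n for some natural number n. Then the class of N in Pic(R) satisfies [N]^n = 1. (The
published statement is for invertible modules on an arbitrary ringed site; this row states the case
of a commutative ring.) -/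
theorem result {R : Type u} [CommRing R] (N : Type v)
    [AddCommGroup N] [Module R N] [Module.Invertible R N] (n : ℕ)
    (e : (Fin n → N) ≃ₗ[R] (Fin n → R)) :
    CommRing.Pic.mk R N ^ n = 1 := by
  classical
  have hP : ∀ m : ℕ, ∃ _ : Module.Invertible R (TensorPower R m N),
      CommRing.Pic.mk R (TensorPower R m N) = CommRing.Pic.mk R N ^ m := by
    intro m
    induction m with
    | zero =>
      have e0 : R ≃ₗ[R] TensorPower R 0 N := (PiTensorProduct.isEmptyEquiv (Fin 0)).symm
      have := Module.Invertible.congr e0
      exact ⟨this, by rw [pow_zero]; exact CommRing.Pic.mk_eq_one_iff.mpr ⟨e0.symm⟩⟩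
    | succ m ih =>
      obtain ⟨_, ih2⟩ := ih
      let e1 : TensorPower R m N ⊗[R] N ≃ₗ[R] TensorPower R (m + 1) N :=
        (TensorProduct.congr (.refl R _) (PiTensorProduct.subsingletonEquiv (R := R) (s := fun _ : Fin 1 => N) 0).symm).trans
          TensorPower.mulEquiv
      have := Module.Invertible.congr e1
      exact ⟨this, by rw [pow_succ, ← ih2, ← CommRing.Pic.mk_tensor]; exact CommRing.Pic.mk_eq_mk_iff.mpr ⟨e1.symm⟩⟩
  obtain ⟨_, hP2⟩ := hP n
  rw [← hP2, CommRing.Pic.mk_eq_one_iff]
  let g : Fin n → N →ₗ[R] (Fin n → R) := fun i => e.toLinearMap ∘ₗ LinearMap.single R (fun _ => N) i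
  let D : MultilinearMap R (fun _ : Fin n => N) R :=
    (Pi.basisFun R (Fin n)).det.toMultilinearMap.compLinearMap g
  refine ⟨LinearEquiv.ofBijective (PiTensorProduct.lift D) (Module.Invertible.bijective_of_surjective ?_)⟩
  rw [← LinearMap.range_eq_top]
  by_contra hne
  obtain ⟨m, hm, hle⟩ := Ideal.exists_le_maximal (LinearMap.range (PiTensorProduct.lift D) : Ideal R) hne
  obtain ⟨φ, a, hφa⟩ : ∃ (φ : Module.Dual R N) (a : N), φ a ∉ m := by
    by_contra hc
    push Not at hc
    refine hm.ne_top (Ideal.eq_top_iff_one m |>.mpr ?_)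
    obtain ⟨z, hz⟩ := (Module.Invertible.bijective (R := R) (M := N)).2 1
    rw [← hz]
    clear hz
    induction z using TensorProduct.induction_on with
    | zero => simp
    | tmul φ a => rw [contractLeft_apply]; exact hc φ a
    | add x y hx hy => rw [map_add]; exact m.add_mem hx hy
  have hrank : ∀ z : N, φ a • z = φ z • a := fun z => by
    have := congrArg (fun t => TensorProduct.lid R N (TensorProduct.map φ LinearMap.id t))
      (Module.Invertible.tmul_comm (R := R) (m₁ := a) (m₂ := z))
    simpa using this
  let π := Ideal.Quotient.mk m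
  let := Ideal.Quotient.field m
  let M : Matrix (Fin n) (Fin n) (R ⧸ m) := Matrix.of fun j i => π (g i a j)
  have hsurj : Function.Surjective M.mulVecLin := by
    intro y
    choose y' hy' using fun j => Ideal.Quotient.mk_surjective (y j)
    obtain ⟨w, hw⟩ := e.surjective y'
    refine ⟨fun i => (π (φ a))⁻¹ * π (φ (w i)), funext fun j => ?_⟩
    have hu : π (φ a) ≠ 0 := fun h => hφa (Ideal.Quotient.eq_zero_iff_mem.mp h)
    have h1 : φ a • y' = ∑ i, φ (w i) • g i a := by
      rw [← hw, ← map_smul, show φ a • w = ∑ i, φ (w i) • LinearMap.single R (fun _ => N) i a from ?_, map_sum]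
      · simp [g]
      · funext l
        simp [Finset.sum_apply, Pi.single_apply, hrank]
    have h2 := congrArg π (congrFun h1 j)
    simp only [Pi.smul_apply, smul_eq_mul, map_mul, Finset.sum_apply, map_sum] at h2
    rw [Matrix.mulVecLin_apply, Matrix.mulVec, dotProduct]
    rw [← hy' j]
    apply mul_left_cancel₀ hu
    rw [h2, Finset.mul_sum]
    refine Finset.sum_congr rfl fun i _ => ?_
    simp only [M, Matrix.of_apply]
    field_simp
  have hdet : M.det ≠ 0 := by
    have := Matrix.mulVec_surjective_iff_isUnit.mp hsurj
    exact ((Matrix.isUnit_iff_isUnit_det M).mp this).ne_zero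
  refine hdet ?_
  have : D (fun _ => a) ∈ m := hle ⟨PiTensorProduct.tprod R (fun _ => a), PiTensorProduct.lift.tprod _⟩
  have h3 : M = π.mapMatrix ((Pi.basisFun R (Fin n)).toMatrix fun i => g i a) := by
    ext j i
    simp [M, Module.Basis.toMatrix_apply]
  rw [h3, ← RingHom.map_det, ← Module.Basis.det_apply]
  exact Ideal.Quotient.eq_zero_iff_mem.mpr this

end Groth.Agent.S16198
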