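import Groth.Statements.S16199
import Mathlib
import Groth.Agent.SerreSplitLib.Cancel

set_option autoImplicit false
universe u
open DivAlg

namespace Groth.Agent.S16199

open TensorProduct in
theorem invertible_of_pow {R : Type u} [CommRing R] {n : ℕ} (hn : 1 ≤ n) {N : Type u} [AddCommGroup N] [Module R N]
    (g : (Fin n → N) ≃ₗ[R] (Fin n → R)) : Module.Invertible R N := by
  classical
  let i₀ : Fin n := ⟨0, hn⟩
  let ι := g.toLinearMap ∘ₗ LinearMap.single R (fun _ : Fin n => N) i₀
  let p := LinearMap.proj (R := R) (φ := fun _ : Fin n => N) i₀ ∘ₗ g.symm.toLinearMap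
  have hpι : ∀ x, p (ι x) = x := fun x => by simp [p, ι]
  haveI : Module.Projective R N := Module.Projective.of_split ι p (LinearMap.ext hpι)
  haveI : Module.Finite R N := Module.Finite.of_surjective p fun x => ⟨ι x, hpι x⟩
  rcases subsingleton_or_nontrivial R with hR | hR
  · haveI : Subsingleton N := Module.subsingleton R N
    exact Module.Invertible.congr (R := R) (M := R)
      (LinearEquiv.ofSubsingleton R N)
  haveI : Module.Projective R (Fin n → N) := Module.Projective.of_equiv g.symm
  have hrk : ∀ P : PrimeSpectrum R, Module.rankAtStalk (R := R) N P = 1 := fun P => by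
    have h1 := congrFun (Module.rankAtStalk_eq_of_equiv g) P
    rw [Module.rankAtStalk_pi, Module.rankAtStalk_pi] at h1
    simp [finsum_eq_sum_of_fintype] at h1
    exact Nat.eq_of_mul_eq_mul_left (show 0 < n by omega) (h1.trans (Nat.mul_one n).symm)
  have hid : ∀ (f : N →ₗ[R] R) (x y : N), f y • x = f x • y := by
    intro f x y
    refine Module.eq_of_localization_maximal (fun (P : Ideal R) (_ : P.IsMaximal) => LocalizedModule P.primeCompl N) (fun (P : Ideal R) (_ : P.IsMaximal) => LocalizedModule.mkLinearMap P.primeCompl N) _ _ fun P hP => ?_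
    set A := Localization.AtPrime P
    set L := LocalizedModule P.primeCompl N
    haveI : Module.Free A L := Module.free_of_flat_of_isLocalRing
    have hfr : Module.finrank A L = 1 := hrk ⟨P, inferInstance⟩
    let b := Module.finBasisOfFinrankEq A L hfr
    let ιN := LocalizedModule.mkLinearMap P.primeCompl N
    have hb : ∀ z : L, b.repr z 0 • b 0 = z := fun z => by simpa using b.sum_repr z
    let F : L →ₗ[A] LocalizedModule P.primeCompl R := LocalizedModule.map P.primeCompl f
    have hF : ∀ z : N, F (ιN z) = f z • (LocalizedModule.mk (1 : R) 1) := fun z => by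
      simp [F, ιN, LocalizedModule.map_mk, LocalizedModule.smul'_mk]
      exact (IsLocalizedModule.map_apply P.primeCompl (LocalizedModule.mkLinearMap P.primeCompl N) (LocalizedModule.mkLinearMap P.primeCompl R) f z).trans rfl
    let e : LocalizedModule P.primeCompl R →ₗ[A] A :=
      (IsLocalizedModule.linearEquiv P.primeCompl (LocalizedModule.mkLinearMap P.primeCompl R)
        (Algebra.linearMap R A)).toLinearMap.extendScalarsOfIsLocalization P.primeCompl A
    have he : ∀ z : N, e (F (ιN z)) = algebraMap R A (f z) := fun z => by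
      rw [hF, LinearMap.map_smul_of_tower e]
      have h1 : e (LocalizedModule.mk (1 : R) 1) = 1 := by
        show (IsLocalizedModule.linearEquiv P.primeCompl (LocalizedModule.mkLinearMap P.primeCompl R)
          (Algebra.linearMap R A)) (LocalizedModule.mkLinearMap P.primeCompl R 1) = 1
        rw [IsLocalizedModule.linearEquiv_apply]
        simp
      rw [h1, Algebra.smul_def, _root_.mul_one]
    show ιN (f y • x) = ιN (f x • y)
    rw [map_smul, map_smul, ← IsScalarTower.algebraMap_smul A (f y), ← IsScalarTower.algebraMap_smul A (f x),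
      ← he y, ← he x]
    conv_lhs => rw [← hb (ιN x), ← hb (ιN y)]
    conv_rhs => rw [← hb (ιN x), ← hb (ιN y)]
    rw [map_smul F, map_smul F, map_smul e, map_smul e]
    simp only [smul_eq_mul, smul_smul]
    congr 1; ring
  have hsur : Function.Surjective (contractLeft R N) := by
    rw [← LinearMap.range_eq_top]
    by_contra h
    obtain ⟨P, hP, hle⟩ := Ideal.exists_le_maximal _ h
    let X : MaximalSpectrum R := ⟨P, hP⟩
    obtain ⟨m, hm⟩ := Groth.Agent.SerreSplitLib.exists_indep_of_rankAtStalk (M := N) (le_refl 1) X (hrk _)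
    obtain ⟨φ, hφ⟩ := (Groth.Agent.SerreSplitLib.indep_iff_det X m).1 hm
    exact hφ (by simpa using hle ⟨φ 0 ⊗ₜ[R] m 0, rfl⟩)
  obtain ⟨t₀, ht₀⟩ := hsur 1
  have hinj : ∀ t, contractLeft R N t • t₀ = t := by
    intro t
    induction t using TensorProduct.induction_on with
    | zero => simp
    | add a b ha hb => rw [map_add, add_smul, ha, hb]
    | tmul f x =>
      suffices ∀ s, contractLeft R N s • (f ⊗ₜ[R] x) = f x • s by
        simpa [ht₀] using (this t₀).symm
      intro s
      induction s using TensorProduct.induction_on with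
      | zero => simp
      | add a b ha hb => rw [map_add, add_smul, ha, hb, smul_add]
      | tmul g y =>
        have h1 : g x • f = f x • g := LinearMap.ext fun z => by
          have h2 := congrArg f (hid g z x)
          simpa [mul_comm] using h2
        rw [contractLeft_apply, ← TensorProduct.tmul_smul, hid g x y, TensorProduct.tmul_smul,
          TensorProduct.smul_tmul', h1, TensorProduct.smul_tmul']
  exact Module.Invertible.right (LinearEquiv.ofBijective (contractLeft R N)
    ⟨fun a b h => by rw [← hinj a, h, hinj b], hsur⟩)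

theorem mat_auto {R : Type u} [CommRing R] {n : ℕ} (φ : Matrix (Fin n) (Fin n) R ≃ₐ[R] Matrix (Fin n) (Fin n) R)
    (i₀ : Fin n) :
    ∃ (N : Submodule R (Fin n → R)) (Ψ : (Fin n → N) ≃ₗ[R] (Fin n → R)),
      ∀ (A : Matrix (Fin n) (Fin n) R) (x : Fin n → N), (φ A).mulVec (Ψ x) = Ψ fun i => ∑ j, A i j • x j := by
  classical
  let U : Fin n → Fin n → Matrix (Fin n) (Fin n) R := fun i j => φ (Matrix.single i j 1)
  have hU : ∀ i j k l, U i j * U k l = if j = k then U i l else 0 := fun i j k l => by
    simp only [U, ← map_mul]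
    by_cases h : j = k
    · subst h; simp [Matrix.single_mul_single_same]
    · simp [h, Matrix.single_mul_single_of_ne _ _ _ _ h]
  let N : Submodule R (Fin n → R) := LinearMap.range (U i₀ i₀).mulVecLin
  have hN : ∀ x : N, (U i₀ i₀).mulVec x.1 = x.1 := by
    rintro ⟨_, v, rfl⟩
    simp [Matrix.mulVec_mulVec, hU]
  let F : (Fin n → N) →ₗ[R] (Fin n → R) := ∑ i, (U i i₀).mulVecLin ∘ₗ N.subtype ∘ₗ LinearMap.proj i
  have hcr : ∀ i v, (U i₀ i).mulVec v ∈ N := fun i v => ⟨(U i₀ i).mulVec v, by simp [Matrix.mulVec_mulVec, hU]⟩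
  let G : (Fin n → R) →ₗ[R] (Fin n → N) := LinearMap.pi fun i => (U i₀ i).mulVecLin.codRestrict N (hcr i)
  have h1 : ∀ v, F (G v) = v := fun v => by
    have : F (G v) = ∑ i, (U i i).mulVec v := by simp [F, G, Matrix.mulVec_mulVec, hU]
    rw [this, ← Matrix.sum_mulVec]
    have hs : ∑ i, U i i = 1 := by
      rw [← map_sum, ← map_one φ]
      congr 1
      ext a b
      by_cases hab : a = b
      · subst hab; simp [Matrix.sum_apply, Matrix.single_apply]
      · simp only [Matrix.sum_apply, Matrix.single_apply, Matrix.one_apply, if_neg hab]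
        exact Finset.sum_eq_zero fun c _ => if_neg fun h => hab (h.1.symm.trans h.2)
    rw [hs, Matrix.one_mulVec]
  have h2 : ∀ x, G (F x) = x := fun x => by
    funext j
    refine Subtype.ext ?_
    simp only [F, G, LinearMap.pi_apply, LinearMap.codRestrict_apply, Matrix.mulVecLin_apply, LinearMap.coe_sum,
      Finset.sum_apply, LinearMap.comp_apply, LinearMap.proj_apply, Submodule.subtype_apply]
    rw [Matrix.mulVec_sum, Finset.sum_eq_single j]
    · rw [Matrix.mulVec_mulVec, hU, if_pos rfl, hN]
    · intro i _ hi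
      rw [Matrix.mulVec_mulVec, hU, if_neg (Ne.symm hi), Matrix.zero_mulVec]
    · simp
  refine ⟨N, LinearEquiv.ofLinear F G (LinearMap.ext h1) (LinearMap.ext h2), fun A x => ?_⟩
  show (φ A).mulVec (F x) = F _
  have hA : ∀ j, φ A * U j i₀ = ∑ i, A i j • U i i₀ := fun j => by
    simp only [U, ← map_mul, ← map_smul, ← map_sum]
    congr 1
    ext a b
    simp [Matrix.mul_apply, Matrix.sum_apply, Matrix.single_apply, Finset.sum_ite_eq, ite_and]
  simp only [F, LinearMap.coe_sum, Finset.sum_apply, LinearMap.comp_apply, LinearMap.proj_apply,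
    Submodule.subtype_apply, Matrix.mulVecLin_apply, Submodule.coe_sum, SetLike.val_smul, Matrix.mulVec_sum,
    Matrix.mulVec_mulVec, hA, Matrix.sum_mulVec, Matrix.smul_mulVec, Matrix.mulVec_smul]
  rw [Finset.sum_comm]

/-- Let R be a commutative ring and n ≥ 1. The natural map from GL_n(R) to the R-algebra automorphisms
of M_n(R) is surjective (every automorphism is inner) if and only if Pic_(n)(R) = 0, i.e. every
invertible R-module N with N^n ≅ R^n is free. (For n = 0 the left side holds trivially while the
right side fails whenever Pic(R) ≠ 0, so this row assumes n ≥ 1, which the published statement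
leaves implicit; invertible modules are quantified in the universe of R, which loses nothing since
every invertible module is finitely generated.) -/
theorem result {R : Type u} [CommRing R] (n : ℕ)
    (hn : 1 ≤ n) :
    (∀ φ : Matrix (Fin n) (Fin n) R ≃ₐ[R] Matrix (Fin n) (Fin n) R,
        ∃ P : GL (Fin n) R, ∀ A : Matrix (Fin n) (Fin n) R, φ A = P.1 * A * (P⁻¹).1) ↔
      (∀ (N : Type u) [AddCommGroup N] [Module R N] [Module.Invertible R N],
        Nonempty ((Fin n → N) ≃ₗ[R] (Fin n → R)) → Module.Free R N) := by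
  classical
  have hmap : ∀ {e : (Fin n → R) ≃ₗ[R] (Fin n → R)}, IsUnit (LinearMap.toMatrix' e.toLinearMap) := fun {e} =>
    ⟨⟨LinearMap.toMatrix' e.toLinearMap, LinearMap.toMatrix' e.symm.toLinearMap,
      by rw [← LinearMap.toMatrix'_comp]; simp, by rw [← LinearMap.toMatrix'_comp]; simp⟩, rfl⟩
  constructor
  · intro h N _ _ _ ⟨g⟩
    let ρ : Matrix (Fin n) (Fin n) R →ₗ[R] ((Fin n → N) →ₗ[R] (Fin n → N)) :=
      { toFun := fun A => LinearMap.pi fun i => ∑ j, A i j • LinearMap.proj j
        map_add' := fun A B => by ext x i; simp [add_smul, Finset.sum_add_distrib]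
        map_smul' := fun c A => by ext x i; simp [Finset.smul_sum, smul_smul] }
    have hρ : ∀ A x i, ρ A x i = ∑ j, A i j • x j := fun A x i => by simp [ρ]
    have hρmul : ∀ A B, ρ (A * B) = ρ A ∘ₗ ρ B := fun A B => LinearMap.ext fun x => funext fun i => by
      simp only [LinearMap.comp_apply, hρ, Matrix.mul_apply, Finset.sum_smul, Finset.smul_sum, smul_smul]
      exact Finset.sum_comm
    have hρinj : ∀ A, ρ A = 0 → A = 0 := fun A hA => by
      ext i j
      refine FaithfulSMul.eq_of_smul_eq_smul (α := N) fun z => ?_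
      have h1 := congrFun (LinearMap.congr_fun hA (Pi.single j z)) i
      simp only [hρ, LinearMap.zero_apply, Pi.zero_apply] at h1
      rw [Finset.sum_eq_single j (fun k _ hk => by simp [hk]) (by simp)] at h1
      simpa using h1
    have hρsur : Function.Surjective ρ := fun T => by
      choose A hA using fun i j => (Module.Invertible.toModuleEnd_bijective R N).2
        (LinearMap.proj i ∘ₗ T ∘ₗ LinearMap.single R (fun _ : Fin n => N) j)
      refine ⟨Matrix.of A, LinearMap.pi_ext fun j z => funext fun i => ?_⟩
      rw [hρ, Finset.sum_eq_single j (fun k _ hk => by simp [hk]) (by simp)]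
      simpa using LinearMap.congr_fun (hA i j) z
    let f : Matrix (Fin n) (Fin n) R →ₐ[R] Matrix (Fin n) (Fin n) R := AlgHom.ofLinearMap
      (LinearMap.toMatrix'.toLinearMap ∘ₗ g.conj.toLinearMap ∘ₗ ρ)
      (by
        have : ρ 1 = LinearMap.id := LinearMap.ext fun x => funext fun i => by simp [hρ, Matrix.one_apply]
        simp [this, LinearEquiv.conj_id])
      (fun A B => by simp [hρmul, LinearEquiv.conj_comp, LinearMap.toMatrix'_comp])
    have hf : Function.Bijective f := by
      refine ⟨(injective_iff_map_eq_zero f).2 fun A hA => hρinj A ?_, fun B => ?_⟩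
      · simpa [f] using hA
      · obtain ⟨A, hA⟩ := hρsur (g.conj.symm (LinearMap.toMatrix'.symm B))
        exact ⟨A, by simp [f, hA]⟩
    obtain ⟨P, hP⟩ := h (AlgEquiv.ofBijective f hf)
    let h' : (Fin n → N) →ₗ[R] (Fin n → R) := (Matrix.mulVecLin (P⁻¹).1) ∘ₗ g.toLinearMap
    have hcomm : ∀ A x, h' (ρ A x) = A.mulVec (h' x) := fun A x => by
      have h1 := hP A
      have h2 : f A = LinearMap.toMatrix' (g.conj (ρ A)) := rfl
      rw [AlgEquiv.ofBijective_apply, h2] at h1
      have h3 := congrArg (fun M => ((P⁻¹).1 * M).mulVec (g x)) h1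
      simp only [← Matrix.mulVec_mulVec] at h3
      rw [LinearMap.toMatrix'_mulVec, LinearEquiv.conj_apply_apply, LinearEquiv.symm_apply_apply,
        Matrix.mulVec_mulVec _ (P⁻¹).1 P.1, Units.inv_mul, Matrix.one_mulVec] at h3
      exact h3
    let i₀ : Fin n := ⟨0, hn⟩
    let u : N →ₗ[R] R := LinearMap.proj i₀ ∘ₗ h' ∘ₗ LinearMap.single R (fun _ : Fin n => N) i₀
    refine (Module.Invertible.free_iff_linearEquiv (R := R) (M := N)).2 ⟨LinearEquiv.ofBijective u ⟨?_, ?_⟩⟩
    · refine (injective_iff_map_eq_zero u).2 fun z hz => ?_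
      have h1 : h' (Pi.single i₀ z) = 0 := by
        funext i
        have h2 : ρ (Matrix.single i₀ i₀ 1) (Pi.single i₀ z) = Pi.single i₀ z := funext fun k => by
          by_cases hk : k = i₀
          · subst hk; simp [hρ, Matrix.single_apply]
          · simp [hρ, Matrix.single_apply, hk, Ne.symm hk]
        rw [← h2, hcomm, Matrix.mulVec, dotProduct]
        by_cases hi : i = i₀
        · subst hi; simpa [Matrix.single_apply, u] using hz
        · simp [Matrix.single_apply, Ne.symm hi]
      have h3 : g (Pi.single i₀ z) = 0 := by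
        have := congrArg (P.1).mulVec h1
        simpa [h', Matrix.mulVec_mulVec] using this
      simpa using congrFun (g.map_eq_zero_iff.1 h3) i₀
    · intro r
      obtain ⟨x, hx⟩ : ∃ x, h' x = Pi.single i₀ r := ⟨g.symm ((P.1).mulVec (Pi.single i₀ r)), by
        show (P⁻¹).1.mulVec (g (g.symm _)) = _
        rw [LinearEquiv.apply_symm_apply, Matrix.mulVec_mulVec, Units.inv_mul, Matrix.one_mulVec]⟩
      refine ⟨x i₀, ?_⟩
      have h2 : Pi.single i₀ (x i₀) = ρ (Matrix.single i₀ i₀ 1) x := funext fun k => by
        by_cases hk : k = i₀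
        · subst hk; simp [hρ, Matrix.single_apply]
        · simp [hρ, Matrix.single_apply, hk, Ne.symm hk]
      show h' (Pi.single i₀ (x i₀)) i₀ = r
      rw [h2, hcomm, hx, Matrix.mulVec_single]
      simp [Matrix.single_apply]
  · intro h φ
    obtain ⟨N, Ψ, hΨ⟩ := mat_auto φ ⟨0, hn⟩
    haveI : Module.Invertible R N := invertible_of_pow hn Ψ
    haveI := h N ⟨Ψ⟩
    obtain ⟨a⟩ := (Module.Invertible.free_iff_linearEquiv (R := R) (M := N)).1 inferInstance
    let T : (Fin n → R) ≃ₗ[R] (Fin n → R) := (LinearEquiv.piCongrRight fun _ : Fin n => a.symm).trans Ψ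
    refine ⟨(hmap (e := T)).unit, fun A => ?_⟩
    have hT : φ A * LinearMap.toMatrix' T.toLinearMap = LinearMap.toMatrix' T.toLinearMap * A := by
      refine Matrix.ext_iff_mulVec.2 fun v => ?_
      rw [← Matrix.mulVec_mulVec, ← Matrix.mulVec_mulVec, LinearMap.toMatrix'_mulVec, LinearMap.toMatrix'_mulVec]
      show (φ A).mulVec (Ψ fun i => a.symm (v i)) = Ψ fun i => a.symm (A.mulVec v i)
      rw [hΨ]
      congr 1
      funext i
      simp [Matrix.mulVec, dotProduct, ← map_smul, ← map_sum]
    show φ A = LinearMap.toMatrix' T.toLinearMap * A * _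
    rw [← hT, mul_assoc]
    exact (_root_.mul_one (φ A)).symm.trans (congrArg (φ A * ·) (Units.mul_inv (hmap (e := T)).unit).symm)

end Groth.Agent.S16199
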