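import Groth.Statements.S1620
import Mathlib
import Groth.Agent.VarDimLib.Basic
-- import your own Groth.Agent.* helpers here

set_option autoImplicit false
universe u
open CategoryTheory CategoryTheory.Limits AlgebraicGeometry
attribute [local instance] Curv2.stalkAlgebra Curv2.resAlgebra
open Variety

namespace Groth.Agent.S1620

/-- Let X be locally of finite type over a field k and x ⤳ x' an immediate specialisation (x ≠ x' and no
point strictly in between). If the residue field of x' has transcendence degree n over k then the
residue field of x has transcendence degree n + 1. -/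
theorem result (k : Type u) [Field k] (X : Scheme.{u}) [X.Over (Spec (CommRingCat.of k))] [LocallyOfFiniteType (X ↘ (Spec (CommRingCat.of k)))] (x x' : X) (hne : x ≠ x') (hsp : x ⤳ x')
    (himm : ∀ y : X, x ⤳ y → y ⤳ x' → y = x ∨ y = x')
    (n : ℕ) (hn : Algebra.trdeg k (X.residueField x') = n) : Algebra.trdeg k (X.residueField x) = n + 1 := by
  obtain ⟨s, hs, hs'⟩ := VarDimLib.closureDim_eq_trdeg k X x
  obtain ⟨t, ht, ht'⟩ := VarDimLib.closureDim_eq_trdeg k X x'
  have h := VarDimLib.closureDim_covBy (X ↘ (Spec (CommRingCat.of k))) hne hsp himm
  rw [hs, ht] at h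
  have hst : s = t + 1 := by exact_mod_cast h
  have htn : t = n := Nat.cast_inj.mp (ht'.symm.trans hn)
  refine hs'.trans ?_
  rw [hst, htn]; push_cast; rfl

end Groth.Agent.S1620
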