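import Groth.Statements.S16200
import Mathlib.RingTheory.PicardGroup
import Mathlib.RingTheory.DedekindDomain.Factorization
import Mathlib.RingTheory.Flat.Basic
import Mathlib.LinearAlgebra.TensorProduct.Tower
import Mathlib.LinearAlgebra.Pi
import Mathlib.Algebra.Module.Projective
-- import your own Groth.Agent.* helpers here

set_option autoImplicit false
open scoped TensorProduct
universe u v
open DivAlg

namespace Groth.Agent.S16200

/-- Let R be a Dedekind domain, N an invertible R-module and n a natural number with [N]^n = 1 in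
Pic(R). Then the direct sum N^n is isomorphic to R^n; thus over a Dedekind domain the invertible
modules N with N^n ≅ R^n are exactly the n-torsion classes of Pic(R), the other inclusion holding
over any commutative ring. -/
theorem result {R : Type u} [CommRing R]
    [IsDedekindDomain R] (N : Type v) [AddCommGroup N] [Module R N] [Module.Invertible R N]
    (n : ℕ) (h : CommRing.Pic.mk R N ^ n = 1) :
    Nonempty ((Fin n → N) ≃ₗ[R] (Fin n → R)) := by
  classical
  haveI : Subsingleton (CommRing.Pic (FractionRing R)) := inferInstance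
  obtain ⟨I, ⟨eI⟩⟩ := Module.Invertible.exists_linearEquiv_ideal R N
  haveI : Module.Flat R I := Module.Flat.of_linearEquiv eI.symm
  have hI : I ≠ ⊥ := fun h => by
    subst h
    haveI : Subsingleton N := eI.toEquiv.subsingleton
    haveI : Subsingleton (Module.Dual R N ⊗[R] N) := subsingleton_of_forall_eq 0 fun z => by
      induction z using TensorProduct.induction_on with
      | zero => rfl
      | tmul a b => rw [Subsingleton.elim b 0, TensorProduct.tmul_zero]
      | add a b ha hb => rw [ha, hb, add_zero]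
    exact one_ne_zero (α := R) ((Module.Invertible.linearEquiv R N).symm.injective (Subsingleton.elim _ _))
  -- Steinitz
  have steinitz : ∀ J : Ideal R, J ≠ ⊥ → Nonempty ((↥I × ↥J) ≃ₗ[R] (R × ↥(I * J))) := by
    intro J hJ
    obtain ⟨a, ha, ha0⟩ := Submodule.exists_mem_ne_zero_of_ne_bot hI
    obtain ⟨I', hI'⟩ := Ideal.dvd_iff_le.mpr (I.span_singleton_le_iff_mem.mpr ha)
    have hI'0 : I' * J ≠ 0 := by
      refine mul_ne_zero (fun h => ha0 ?_) hJ
      rw [h, mul_zero] at hI'
      exact Ideal.span_singleton_eq_bot.mp hI'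
    obtain ⟨x, hx⟩ := IsDedekindDomain.exists_sup_span_eq (I := I' * J) (J := I') Ideal.mul_le_left hI'0
    have hxI' : x ∈ I' := hx ▸ Submodule.mem_sup_right (Ideal.mem_span_singleton_self x)
    have hdiv : ∀ y : I, ∃ c, c * a = x * y := fun y => Ideal.mem_span_singleton'.mp (hI' ▸ by
      rw [mul_comm x]; exact Ideal.mul_mem_mul y.2 hxI')
    choose c hc using hdiv
    let φ : I →ₗ[R] R :=
      { toFun := c
        map_add' := fun y z => mul_right_cancel₀ ha0 (by rw [add_mul, hc, hc, hc, Submodule.coe_add, mul_add])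
        map_smul' := fun r y => mul_right_cancel₀ ha0 (by rw [RingHom.id_apply, smul_eq_mul, mul_assoc, hc, hc, Submodule.coe_smul, smul_eq_mul]; ring) }
    have hcross : ∀ y z : I, φ y * (z : R) = φ z * (y : R) := fun y z => mul_right_cancel₀ ha0 (by
      show c y * (z : R) * a = c z * (y : R) * a
      linear_combination (z : R) * hc y - (y : R) * hc z)
    obtain ⟨y₀, j₀, h1⟩ : ∃ (y₀ : I) (j₀ : J), φ y₀ + (j₀ : R) = 1 := by
      have hmem : a ∈ Ideal.span {a} * J ⊔ I * Ideal.span {x} := by
        rw [hI', mul_assoc, ← Ideal.mul_sup, hx, ← hI']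
        exact Ideal.mem_span_singleton_self a
      obtain ⟨p, hp, q, hq, hpq⟩ := Submodule.mem_sup.mp hmem
      obtain ⟨j, hj, rfl⟩ := Ideal.mem_span_singleton_mul.mp hp
      obtain ⟨y, hy, rfl⟩ := Ideal.mem_mul_span_singleton.mp hq
      refine ⟨⟨y, hy⟩, ⟨j, hj⟩, mul_right_cancel₀ ha0 ?_⟩
      show (c ⟨y, hy⟩ + j) * a = 1 * a
      rw [add_mul, hc]
      linear_combination hpq
    let q : ↥I × ↥J →ₗ[R] R := φ.coprod J.subtype
    let ψ : LinearMap.ker q →ₗ[R] ↥(I * J) :=
      { toFun := fun z => ⟨(z.1.1 : R) * j₀ - (z.1.2 : R) * y₀,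
          sub_mem (Ideal.mul_mem_mul z.1.1.2 j₀.2) (by rw [mul_comm (z.1.2 : R)]; exact Ideal.mul_mem_mul y₀.2 z.1.2.2)⟩
        map_add' := fun z w => Subtype.ext (by simp; ring)
        map_smul' := fun r z => Subtype.ext (by simp; ring) }
    have hψ : Function.Bijective ψ := by
      refine ⟨(injective_iff_map_eq_zero ψ).mpr fun z hz => ?_, fun w => ?_⟩
      · have hq : φ z.1.1 + (z.1.2 : R) = 0 := z.2
        have hz' : (z.1.1 : R) * j₀ - (z.1.2 : R) * y₀ = 0 := congrArg Subtype.val hz
        have e1 : (z.1.1 : R) = 0 := by linear_combination hz' + (y₀ : R) * hq - (z.1.1 : R) * h1 - hcross z.1.1 y₀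
        have e2 : z.1.1 = 0 := Subtype.ext e1
        rw [e2, map_zero, zero_add] at hq
        exact Subtype.ext (Prod.ext e2 (Subtype.ext hq))
      · suffices h : (w : R) ∈ Submodule.map ((I * J).subtype.comp ψ) ⊤ by
          obtain ⟨z, -, hz⟩ := h
          exact ⟨z, Subtype.ext hz⟩
        refine Submodule.mul_induction_on w.2 (fun y hy j hj => ?_) fun u v hu hv => add_mem hu hv
        refine ⟨⟨(⟨y * j, I.mul_mem_right j hy⟩, ⟨-(φ ⟨y, hy⟩ * j), neg_mem (J.mul_mem_left _ hj)⟩), ?_⟩, trivial, ?_⟩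
        · show φ ⟨y * j, _⟩ + -(φ ⟨y, hy⟩ * j) = 0
          rw [show (⟨y * j, I.mul_mem_right j hy⟩ : I) = j • ⟨y, hy⟩ from Subtype.ext (mul_comm y j), map_smul, smul_eq_mul]
          ring
        · show y * j * (j₀ : R) - -(φ ⟨y, hy⟩ * j) * y₀ = y * j
          linear_combination j * hcross ⟨y, hy⟩ y₀ + y * j * h1
    let s : ↥I × ↥J := (y₀, j₀)
    have hs : q s = 1 := h1
    let e : (↥I × ↥J) ≃ₗ[R] R × LinearMap.ker q :=
      { toFun := fun z => (q z, ⟨z - q z • s, by rw [LinearMap.mem_ker, map_sub, map_smul, hs, smul_eq_mul, mul_one, sub_self]⟩)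
        map_add' := fun z w => Prod.ext (map_add q z w) (Subtype.ext (by simp only [map_add, add_smul, Submodule.coe_add, Prod.snd_add]; abel))
        map_smul' := fun r z => Prod.ext (map_smul q r z) (Subtype.ext (by simp [smul_sub, mul_smul]))
        invFun := fun z => z.1 • s + z.2
        left_inv := fun z => by simp
        right_inv := fun z => by
          have : q (z.1 • s + z.2) = z.1 := by simp [map_add, map_smul, hs, LinearMap.mem_ker.mp z.2.2]
          refine Prod.ext this (Subtype.ext ?_)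
          show z.1 • s + (z.2 : ↥I × ↥J) - q (z.1 • s + z.2) • s = z.2
          rw [this, add_sub_cancel_left] }
    exact ⟨e.trans ((LinearEquiv.refl R R).prodCongr (LinearEquiv.ofBijective ψ hψ))⟩
  -- tensor powers
  have hpow : ∀ j : ℕ, Nonempty (((CommRing.Pic.mk R N) ^ j : CommRing.Pic R) ≃ₗ[R] ↥(I ^ j)) := by
    intro j
    induction j with
    | zero =>
      rw [pow_zero, pow_zero, Ideal.one_eq_top]
      exact ⟨((CommRing.Pic.mk_eq_iff.mp CommRing.Pic.mk_self).some).symm.trans Submodule.topEquiv.symm⟩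
    | succ j ih =>
      obtain ⟨e⟩ := ih
      obtain ⟨t⟩ := CommRing.Pic.mk_eq_iff.mp (show CommRing.Pic.mk R (((CommRing.Pic.mk R N) ^ j : CommRing.Pic R) ⊗[R] N) = CommRing.Pic.mk R N ^ (j + 1) by
        rw [CommRing.Pic.mk_tensor, CommRing.Pic.mk_eq_self, pow_succ])
      have hflat := Module.Flat.rTensor_preserves_injective_linearMap (M := ↥I) (I ^ j).subtype (Submodule.injective_subtype _)
      let μ : ↥(I ^ j) ⊗[R] ↥I →ₗ[R] R := (I.subtype).comp ((TensorProduct.lid R I).toLinearMap.comp (LinearMap.rTensor I (I ^ j).subtype))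
      have hμi : Function.Injective μ := I.injective_subtype.comp ((TensorProduct.lid R I).injective.comp hflat)
      have hμr : LinearMap.range μ = I ^ (j + 1) := by
        refine le_antisymm ?_ ?_
        · rintro _ ⟨z, rfl⟩
          induction z using TensorProduct.induction_on with
          | zero => rw [map_zero]; exact zero_mem _
          | tmul u v => exact pow_succ I j ▸ Ideal.mul_mem_mul u.2 v.2
          | add u v hu hv => rw [map_add]; exact add_mem hu hv
        · rw [pow_succ]
          refine Submodule.mul_le.mpr fun u hu v hv => ⟨⟨u, hu⟩ ⊗ₜ ⟨v, hv⟩, rfl⟩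
      exact ⟨t.symm.trans ((TensorProduct.congr e eI).trans ((LinearEquiv.ofInjective μ hμi).trans (LinearEquiv.ofEq _ _ hμr)))⟩
  obtain ⟨ep⟩ := hpow n
  rw [h] at ep
  let e1 : R ≃ₗ[R] ↥(I ^ n) := (CommRing.Pic.mk_eq_iff.mp CommRing.Pic.mk_self).some.trans ep
  have hsplit : ∀ j : ℕ, Nonempty ((Fin (j + 1) → ↥I) ≃ₗ[R] (Fin j → R) × ↥(I ^ (j + 1))) := by
    intro j
    induction j with
    | zero =>
      exact ⟨((LinearEquiv.funUnique (Fin 1) R I).trans (LinearEquiv.ofEq _ _ (pow_one I).symm)).trans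
        { toFun := fun y => (0, y), invFun := fun y => y.2, map_add' := fun _ _ => by simp, map_smul' := fun _ _ => by simp,
          left_inv := fun _ => rfl, right_inv := fun y => Prod.ext (Subsingleton.elim _ _) rfl }⟩
    | succ j ih =>
      obtain ⟨e⟩ := ih
      obtain ⟨f⟩ := steinitz (I ^ (j + 1)) (pow_ne_zero _ hI)
      let g : (↥I × ((Fin j → R) × ↥(I ^ (j + 1)))) ≃ₗ[R] (Fin j → R) × (↥I × ↥(I ^ (j + 1))) :=
        { toFun := fun z => (z.2.1, z.1, z.2.2), invFun := fun z => (z.2.1, z.1, z.2.2), map_add' := fun _ _ => rfl,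
          map_smul' := fun _ _ => rfl, left_inv := fun _ => rfl, right_inv := fun _ => rfl }
      let g' : ((Fin j → R) × (R × ↥(I * I ^ (j + 1)))) ≃ₗ[R] (R × (Fin j → R)) × ↥(I * I ^ (j + 1)) :=
        { toFun := fun z => ((z.2.1, z.1), z.2.2), invFun := fun z => (z.1.2, z.1.1, z.2), map_add' := fun _ _ => rfl,
          map_smul' := fun _ _ => rfl, left_inv := fun _ => rfl, right_inv := fun _ => rfl }
      exact ⟨(Fin.consLinearEquiv R (fun _ : Fin (j + 2) => ↥I)).symm.trans (((LinearEquiv.refl R I).prodCongr e).trans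
        (g.trans (((LinearEquiv.refl R _).prodCongr f).trans (g'.trans
          ((Fin.consLinearEquiv R (fun _ : Fin (j + 1) => R)).prodCongr (LinearEquiv.ofEq _ _ (pow_succ' I (j + 1)).symm))))))⟩
  rcases n with - | j
  · exact ⟨0, 0, fun x => Subsingleton.elim _ _, fun x => Subsingleton.elim _ _⟩
  obtain ⟨e2⟩ := hsplit j
  let g : ((Fin j → R) × R) ≃ₗ[R] (Fin (j + 1) → R) := (LinearEquiv.prodComm R _ _).trans (Fin.consLinearEquiv R (fun _ : Fin (j + 1) => R))
  exact ⟨(LinearEquiv.piCongrRight fun _ => eI).trans (e2.trans (((LinearEquiv.refl R _).prodCongr e1.symm).trans g))⟩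

end Groth.Agent.S16200
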