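import Groth.Statements.S16202
import Groth.Agent.LichtLib.Conn
import Groth.Agent.CurveAmpLib.Affine
import Groth.Agent.AmpleFinGenLib.Divisor
import Groth.Agent.ProjDegLib.Criterion

set_option autoImplicit false
open CategoryTheory CategoryTheory.Limits AlgebraicGeometry
open Variety

namespace Groth.Agent.S16202

/-- Let X be an integral projective scheme over ℂ of dimension at least 2 and D an effective ample
divisor on X. Then the support of D is connected. Here D is given by an ample invertible module L
together with a nonzero global section s (a monomorphism O_X → L), and its support is the zero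
scheme Z(s), which is asserted to be a connected (in particular nonempty) topological space. -/
theorem result
    (X : Scheme.{0}) (f : X ⟶ Spec (CommRingCat.of ℂ)) [IsIntegral X]
    (hproj : (∃ (n : ℕ) (ι : X ⟶ CohB1.ProjSpace n ℂ), IsClosedImmersion ι ∧ ι ≫ CohB1.ProjSpace.toSpec n ℂ = f))
    (hdim : (2 : WithBot ℕ∞) ≤ topologicalKrullDim X)
    (L : X.Modules) (hL : CohB1.IsAmple L) (s : Coh.structureModule X ⟶ L) (hs : Mono s) :
    ConnectedSpace ↥(PicF2.zeroScheme L s).subscheme := by
  obtain ⟨n, ι, hι, hιf⟩ := hproj
  haveI := hι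
  haveI : IsProper (CohB1.ProjSpace.toSpec n ℂ) := ProjDegLib.toSpec_isProper ℂ n
  haveI : IsProper f := by rw [← hιf]; infer_instance
  haveI := hs
  have hM : PicF.IsInvertible L := hL.1
  have haff := CurveAmpLib.isAffineOpen_genSet f hM hL (s.app ⊤ (1 : Γ(X, ⊤)))
  rw [← AmpleThLib.genLocus_hom hM] at haff
  have hc := LichtLib.isConnected_compl' f hdim _ haff
  let I := PicF2.zeroScheme L s
  have hset : Set.range I.subschemeι = ((CohB1.genLocus L s : X.Opens) : Set X)ᶜ := by
    rw [I.range_subschemeι]
    ext x
    rw [Set.mem_compl_iff, SetLike.mem_coe, SetLike.mem_coe, ← AmpleFinGenLib.notMem_support_zeroScheme hM s x, not_not]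
  rw [← hset, ← Set.image_univ] at hc
  rw [connectedSpace_iff_univ]
  exact ⟨Set.image_nonempty.1 hc.1, I.subschemeι.isClosedEmbedding.isInducing.isPreconnected_image.1 hc.2⟩

end Groth.Agent.S16202
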