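import Groth.Statements.S16203
import Groth.Agent.CurveThroughLib.Basic
import Groth.Agent.VarDimLib.Basic
import Groth.Agent.FibVALib.Core

set_option autoImplicit false
open CategoryTheory CategoryTheory.Limits AlgebraicGeometry
open Variety

namespace Groth.Agent.S16203

/-- Let f : Y → Z be a flat dominant morphism of integral projective schemes over ℂ, let B be an
irreducible closed curve in Z (an irreducible closed subset of dimension 1), p a closed point of B
and q a closed point of Y lying over p. Then there is an irreducible closed curve B' in Y passing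
through q which is a finite cover of B: an irreducible closed subset B' of Y containing q whose
image is B and which meets every fibre of f in a finite set. -/
theorem result
    (Y Z : Scheme.{0}) (g : Z ⟶ Spec (CommRingCat.of ℂ)) (f : Y ⟶ Z) [IsIntegral Y] [IsIntegral Z]
    (hZ : (∃ (m : ℕ) (ι : Z ⟶ CohB1.ProjSpace m ℂ), IsClosedImmersion ι ∧ ι ≫ CohB1.ProjSpace.toSpec m ℂ = g))
    (hY : (∃ (n : ℕ) (ι' : Y ⟶ CohB1.ProjSpace n ℂ), IsClosedImmersion ι' ∧ ι' ≫ CohB1.ProjSpace.toSpec n ℂ = f ≫ g))
    [Flat f] (hdomi : DenseRange f.base)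
    (B : Set Z) (hBc : IsClosed B) (hBi : IsIrreducible B) (hBd : topologicalKrullDim ↥B = 1)
    (p : Z) (hp : p ∈ B) (hpc : IsClosed ({p} : Set Z))
    (q : Y) (hqc : IsClosed ({q} : Set Y)) (hq : f.base q = p) :
    ∃ B' : Set Y, IsClosed B' ∧ IsIrreducible B' ∧ q ∈ B' ∧ f.base '' B' = B ∧
      ∀ z : Z, (B' ∩ f.base ⁻¹' {z}).Finite := by
  obtain ⟨m, ι, hι, hιg⟩ := hZ
  obtain ⟨n, ι', hι', hι'g⟩ := hY
  haveI : IsProper g := by
    haveI := FibVALib.isProper_toSpec m ℂ
    rw [← hιg]; infer_instance
  haveI : IsProper (f ≫ g) := by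
    haveI := FibVALib.isProper_toSpec n ℂ
    rw [← hι'g]; infer_instance
  haveI : IsProper f := IsProper.of_comp f g
  haveI : IsLocallyNoetherian Z := LocallyOfFiniteType.isLocallyNoetherian g
  haveI : CompactSpace Z := QuasiCompact.compactSpace_of_compactSpace g
  haveI : IsNoetherian Z := ⟨⟩
  haveI : IsLocallyNoetherian Y := LocallyOfFiniteType.isLocallyNoetherian (f ≫ g)
  haveI : CompactSpace Y := QuasiCompact.compactSpace_of_compactSpace (f ≫ g)
  haveI : IsNoetherian Y := ⟨⟩
  subst hq
  have hsing : ∀ {W : Scheme.{0}} (x : W), topologicalKrullDim ({x} : Set W) = 0 := fun x => by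
    refine le_antisymm ?_ ((FibDimLib.localDim_nonneg (⟨x, rfl⟩ : ({x} : Set _))).trans (FibDimLib.localDim_le _))
    rw [FibDimLib.topologicalKrullDim_eq_iSup_localDim]
    exact iSup_le fun a => FibDimLib.localDim_le_zero_of_isOpen (by
      rw [show ({a} : Set ({x} : Set _)) = Set.univ from Set.eq_univ_of_forall fun b => Subtype.ext (b.2.trans a.2.symm)]
      exact isOpen_univ)
  let η := hBi.genericPoint
  have hη : closure ({η} : Set Z) = B := by
    simp [η, hBi.closure_genericPoint, hBc.closure_eq]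
  have hηB : η ∈ B := hη ▸ subset_closure rfl
  have hηc : ¬ IsClosed ({η} : Set Z) := fun h => by
    rw [h.closure_eq] at hη
    have hd : topologicalKrullDim ({η} : Set Z) = 1 := hη ▸ hBd
    rw [hsing] at hd
    exact zero_ne_one hd
  have hBpt : ∀ b ∈ B, b ≠ η → IsClosed ({b} : Set Z) := fun b hb hbη =>
    (CurveThroughLib.finite_of_closed_ne hBc hBi hBd (isClosed_closure (s := {b}))
      (closure_minimal (Set.singleton_subset_iff.2 hb) hBc) fun h => hbη (by
        have h1 : b ⤳ η := specializes_iff_mem_closure.2 (h ▸ hηB)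
        have h2 : η ⤳ b := specializes_iff_mem_closure.2 (hη ▸ hb)
        exact (h1.antisymm h2).eq)).2 b (subset_closure rfl)
  have hpη : f.base q ≠ η := fun h => hηc (h ▸ hpc)
  obtain ⟨y, hyq, hyη⟩ := Flat.generalizingMap f (specializes_iff_mem_closure.2 (hη ▸ hp) : η ⤳ f.base q)
  -- the local ring at `q`
  let φ := Y.fromSpecStalk q
  have hφ : ∀ P : PrimeSpectrum (Y.presheaf.stalk q), φ.base P ⤳ q := fun P => by
    have : φ.base P ∈ Set.range φ.base := ⟨P, rfl⟩
    rwa [Scheme.range_fromSpecStalk] at this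
  have hφc : φ.base (IsLocalRing.closedPoint _) = q := Scheme.fromSpecStalk_closedPoint
  obtain ⟨Py, hPy⟩ : y ∈ Set.range φ.base := by rw [Scheme.range_fromSpecStalk]; exact hyq
  let σ := f.stalkMap q
  have hfφ : ∀ P : PrimeSpectrum (Y.presheaf.stalk q),
      f.base (φ.base P) = (Z.fromSpecStalk (f.base q)).base ((Spec.map σ).base P) := fun P =>
    (congrArg (fun t : Spec _ ⟶ Z => t.base P) (Scheme.SpecMap_stalkMap_fromSpecStalk f (x := q))).symm
  have hfP : ∀ P : PrimeSpectrum (Y.presheaf.stalk q),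
      f.base (φ.base P) = f.base q ↔ P.asIdeal.comap σ.hom = IsLocalRing.maximalIdeal _ := fun P => by
    rw [hfφ]
    constructor
    · intro h
      have h' := (Z.fromSpecStalk (f.base q)).isEmbedding.injective (h.trans Scheme.fromSpecStalk_closedPoint.symm)
      exact congrArg PrimeSpectrum.asIdeal h'
    · intro h
      refine (congrArg _ (PrimeSpectrum.ext h : (Spec.map σ).base P = IsLocalRing.closedPoint _)).trans ?_
      exact Scheme.fromSpecStalk_closedPoint
  obtain ⟨a, ha, haP⟩ : ∃ a ∈ IsLocalRing.maximalIdeal (Z.presheaf.stalk (f.base q)), σ.hom a ∉ Py.asIdeal := by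
    by_contra hcon
    push Not at hcon
    refine hpη (((hfP Py).2 (le_antisymm (IsLocalRing.le_maximalIdeal (Ideal.comap_ne_top σ.hom Py.isPrime.ne_top)) hcon)).symm.trans ?_)
    rw [hPy]; exact hyη
  let t := σ.hom a
  have ht : t ∈ IsLocalRing.maximalIdeal (Y.presheaf.stalk q) :=
    map_nonunit σ.hom a ha
  obtain ⟨P, ⟨hP, hle, htP⟩, hmax⟩ := set_has_maximal_iff_noetherian.2 inferInstance
    {b : Ideal (Y.presheaf.stalk q) | b.IsPrime ∧ Py.asIdeal ≤ b ∧ t ∉ b} ⟨Py.asIdeal, Py.isPrime, le_rfl, haP⟩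
  let P' : PrimeSpectrum (Y.presheaf.stalk q) := ⟨P, hP⟩
  let z := φ.base P'
  have hzq : z ⤳ q := hφ P'
  have hyz : y ⤳ z := hPy ▸ ((PrimeSpectrum.le_iff_specializes Py P').1 hle).map φ.continuous
  have hzB : f.base z ∈ B := hη ▸ specializes_iff_mem_closure.1 (hyη ▸ hyz.map f.continuous)
  have hzη : f.base z = η := by
    by_contra h
    have h1 : f.base z ⤳ f.base q := hzq.map f.continuous
    have h2 : f.base q ∈ ({f.base z} : Set Z) := (hBpt _ hzB h).closure_eq ▸ specializes_iff_mem_closure.1 h1
    have h3 : Ideal.comap σ.hom P = IsLocalRing.maximalIdeal _ := (hfP P').1 h2.symm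
    exact htP (show a ∈ Ideal.comap σ.hom P from h3 ▸ ha)
  have hzne : z ≠ q := fun h => hpη (h ▸ hzη)
  have himm : ∀ w : Y, z ⤳ w → w ⤳ q → w = z ∨ w = q := by
    intro w hzw hwq
    obtain ⟨Q, hQ⟩ : w ∈ Set.range φ.base := by rw [Scheme.range_fromSpecStalk]; exact hwq
    have hPQ : P' ≤ Q := (PrimeSpectrum.le_iff_specializes _ _).2
      (φ.isEmbedding.isInducing.specializes_iff.1 (hQ ▸ hzw))
    rcases eq_or_lt_of_le hPQ with h | h
    · exact Or.inl (by rw [← hQ, ← h])
    · refine Or.inr ?_
      have := CurveThroughLib.eq_maximal_of_lt ht htP (fun b hb hlt => by_contra fun htb =>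
        hmax b ⟨hb, hle.trans hlt.le, htb⟩ hlt) Q.asIdeal Q.isPrime h
      rw [← hQ, show Q = IsLocalRing.closedPoint _ from PrimeSpectrum.ext this]
      exact hφc
  have hd1 : topologicalKrullDim (closure ({z} : Set Y)) = 1 := by
    rw [VarDimLib.closureDim_covBy (f ≫ g) hzne hzq himm, hqc.closure_eq]
    rw [hsing, zero_add]
  have hC : IsIrreducible (closure ({z} : Set Y)) := isIrreducible_singleton.closure
  have himg : f.base '' closure ({z} : Set Y) = B := by
    rw [← f.isClosedMap.closure_image_eq_of_continuous f.continuous, Set.image_singleton, hzη, hη]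
  refine ⟨_, isClosed_closure, hC, specializes_iff_mem_closure.1 hzq, himg, fun w => ?_⟩
  by_cases hw : w = η
  · subst hw
    refine (Set.finite_singleton z).subset ?_
    rintro v ⟨hv, hvw⟩
    by_contra hvz
    have hvc : IsClosed ({v} : Set Y) := (CurveThroughLib.finite_of_closed_ne isClosed_closure hC hd1
      (isClosed_closure (s := {v})) (closure_minimal (Set.singleton_subset_iff.2 hv) isClosed_closure) fun h => hvz (by
        have h1 : v ⤳ z := specializes_iff_mem_closure.2 (h ▸ subset_closure rfl)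
        exact (h1.antisymm (specializes_iff_mem_closure.2 hv)).eq)).2 v (subset_closure rfl)
    have := f.isClosedMap _ hvc
    rw [Set.image_singleton, hvw] at this
    exact hηc this
  · by_cases hwB : w ∈ B
    · refine (CurveThroughLib.finite_of_closed_ne isClosed_closure hC hd1
        (isClosed_closure.inter ((hBpt w hwB hw).preimage f.continuous)) Set.inter_subset_left fun h => hw ?_).1
      have : z ∈ closure ({z} : Set Y) ∩ f.base ⁻¹' {w} := h.symm ▸ subset_closure rfl
      exact this.2.symm.trans hzη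
    · refine Set.Finite.subset Set.finite_empty ?_
      rintro v ⟨hv, hvw⟩
      exact hwB (hvw ▸ himg ▸ ⟨v, hv, rfl⟩)

end Groth.Agent.S16203
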