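import Groth.Statements.S16204
import Groth.Agent.RatCurvExtLib.Main

set_option autoImplicit false
set_option backward.isDefEq.respectTransparency false
set_option backward.isDefEq.respectTransparency.types false
open CategoryTheory MonoidalCategory CartesianMonoidalCategory AlgebraicGeometry
open RatCurv

namespace Groth.Agent.S16204

/-- Let X be a projective variety over ℂ, C a smooth projective curve, c₀ a point of C and p a point of
X. Suppose the pointed curve (C, c₀) moves in X keeping c₀ at p: there are an integral curve B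
(separated, of finite type over ℂ, not necessarily complete) and a morphism F : C × B → X over ℂ
with F(c₀, b) = p for every b, such that F does not factor through the projection C × B → C. Then X
contains a rational curve passing through p: a nonconstant ℂ-morphism from the projective line to X
whose image contains p. Products, points and the projection are taken in the cartesian monoidal
category of ℂ-schemes. (The published statement also assumes X smooth; smoothness is not used and is
not assumed here.) -/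
theorem result
    (X C B : Over (Spec (CommRingCat.of ℂ))) [IsIntegral X.left]
    (hX : (∃ (n : ℕ) (ι : X.left ⟶ CohB1.ProjSpace n ℂ), IsClosedImmersion ι ∧ ι ≫ CohB1.ProjSpace.toSpec n ℂ = X.hom))
    [IsIntegral C.left] [IsProper C.hom] [Smooth C.hom] (hC : topologicalKrullDim C.left = 1)
    [IsIntegral B.left] [IsSeparated B.hom] [LocallyOfFiniteType B.hom] [QuasiCompact B.hom]
    (hB : topologicalKrullDim B.left = 1)
    (F : C ⊗ B ⟶ X) (c₀ : 𝟙_ (Over (Spec (CommRingCat.of ℂ))) ⟶ C) (p : 𝟙_ (Over (Spec (CommRingCat.of ℂ))) ⟶ X)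
    (hfix : lift (toUnit B ≫ c₀) (𝟙 B) ≫ F = toUnit B ≫ p)
    (hvar : ¬ ∃ G : C ⟶ X, F = fst C B ≫ G) :
    ∃ (g : Over.mk (CohB1.ProjSpace.toSpec 1 ℂ) ⟶ X) (t : 𝟙_ (Over (Spec (CommRingCat.of ℂ))) ⟶ Over.mk (CohB1.ProjSpace.toSpec 1 ℂ)),
      t ≫ g = p ∧ ¬ ∃ x : X.left, Set.range g.left.base ⊆ {x} := by
  by_contra hcon
  obtain ⟨n, ι, hι, hιp⟩ := hX
  haveI := hι
  haveI : IsProper (CohB1.ProjSpace.toSpec n ℂ) := RelProjLib.isProper_polyToSpec (n + 1) ℂ
  haveI : IsProper X.hom := hιp ▸ inferInstance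
  haveI : IsProper (CohB1.ProjSpace.toSpec 1 ℂ) := RelProjLib.isProper_polyToSpec (1 + 1) ℂ
  let P1 : Over (Spec (CommRingCat.of ℂ)) := Over.mk (CohB1.ProjSpace.toSpec 1 ℂ)
  haveI : LocallyOfFiniteType P1.hom := inferInstanceAs (LocallyOfFiniteType (CohB1.ProjSpace.toSpec 1 ℂ))
  haveI : JacobsonSpace P1.left := LocallyOfFiniteType.jacobsonSpace P1.hom
  refine hvar (RatCurvExt.exists_factor_fst hC.le hB.le F c₀ p hfix fun ψ hψ z hz z' => ?_)
  by_contra hne
  have hxp : IsClosed ({p.left (IsLocalRing.closedPoint ℂ)} : Set X.left) :=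
    ((pointEquivClosedPoint X.hom) ⟨p.left, Over.w p⟩).2
  obtain ⟨z₀, hz₀, hz₀c⟩ := nonempty_inter_closedPoints (X := P1.left)
    (Z := ψ ⁻¹' {p.left (IsLocalRing.closedPoint ℂ)}) ⟨z, hz⟩ (hxp.preimage ψ.continuous).isLocallyClosed
  let g : P1 ⟶ X := Over.homMk ψ hψ
  let t := AlbLib.ratPt P1 z₀ hz₀c
  refine hcon ⟨g, t, Over.OverMorphism.ext ?_, fun ⟨x, hx⟩ => hne ?_⟩
  · refine ext_of_apply_closedPoint_eq X.hom (Over.w (t ≫ g)) (Over.w p) ?_
    show ψ (t.left (IsLocalRing.closedPoint ℂ)) = _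
    rw [AlbLib.ratPt_apply P1 z₀ hz₀c]
    exact hz₀
  · exact ((hx ⟨z', rfl⟩).trans (hx ⟨z, rfl⟩).symm).trans hz

end Groth.Agent.S16204
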