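import Groth.Statements.S16205
import Groth.Agent.RatCurvExtLib.Extend
import Groth.Agent.AlbLib.AlgClosed
import Groth.Agent.DimFieldBCLib.Prod

set_option autoImplicit false
set_option backward.isDefEq.respectTransparency false
set_option backward.isDefEq.respectTransparency.types false
open CategoryTheory MonoidalCategory CartesianMonoidalCategory AlgebraicGeometry
open RatCurv

namespace Groth.Agent.S16205

/-- Let X be a projective variety over ℂ and let C and B be smooth integral curves over ℂ (separated, of
finite type, not necessarily complete). If a rational map from the surface C × B to X, that is a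
ℂ-morphism φ defined on a nonempty open subset U of C × B, does not extend to a morphism defined on
all of C × B, then X contains a rational curve: there is a nonconstant ℂ-morphism from the
projective line to X. The product is taken in the cartesian monoidal category of ℂ-schemes. (The
published statement allows C and B singular, C even reducible, and X any variety; for C an elliptic
curve with two points glued to a node, B a curve and X that elliptic curve, the rational map induced
by the normalisation coordinate does not extend although X has no rational curve, and for smooth C,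
B the open immersion of the punctured affine plane into itself does not extend to the product of two
projective lines although the punctured plane has no complete or affine rational curves; so C and B
are taken smooth and X projective, the case the argument treats.) -/
theorem result
    (X C B : Over (Spec (CommRingCat.of ℂ))) [IsIntegral X.left]
    (hX : (∃ (n : ℕ) (ι : X.left ⟶ CohB1.ProjSpace n ℂ), IsClosedImmersion ι ∧ ι ≫ CohB1.ProjSpace.toSpec n ℂ = X.hom))
    [IsIntegral C.left] [Smooth C.hom] [IsSeparated C.hom] [QuasiCompact C.hom]
    (hC : topologicalKrullDim C.left = 1)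
    [IsIntegral B.left] [Smooth B.hom] [IsSeparated B.hom] [QuasiCompact B.hom]
    (hB : topologicalKrullDim B.left = 1)
    (U : (C ⊗ B).left.Opens) (hU : (U : Set (C ⊗ B).left).Nonempty)
    (φ : (U : Scheme.{0}) ⟶ X.left) (hφ : φ ≫ X.hom = U.ι ≫ (C ⊗ B).hom)
    (hne : ¬ ∃ ψ : (C ⊗ B).left ⟶ X.left, U.ι ≫ ψ = φ) :
    ∃ g : Over.mk (CohB1.ProjSpace.toSpec 1 ℂ) ⟶ X, ¬ ∃ x : X.left, Set.range g.left.base ⊆ {x} := by
  by_contra hcon
  obtain ⟨n, ι, hι, hιp⟩ := hX
  haveI := hι
  haveI : IsProper (CohB1.ProjSpace.toSpec n ℂ) := RelProjLib.isProper_polyToSpec (n + 1) ℂ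
  haveI : IsProper X.hom := hιp ▸ inferInstance
  have hnc : RatCurvExt.NoCurve X.hom := fun ψ hψ z z' => by
    by_contra hne'
    refine hcon ⟨Over.homMk ψ hψ, fun ⟨x, hx⟩ => hne' ?_⟩
    exact (hx ⟨z, rfl⟩).trans (hx ⟨z', rfl⟩).symm
  haveI : Smooth (C ⊗ B).hom := inferInstanceAs (Smooth (Limits.pullback.fst C.hom B.hom ≫ C.hom))
  haveI : QuasiCompact (C ⊗ B).hom := inferInstanceAs (QuasiCompact (Limits.pullback.fst C.hom B.hom ≫ C.hom))
  haveI : IsIntegral (C ⊗ B).left := AlbLib.isIntegral_tensor C B
  have hd : topologicalKrullDim (C ⊗ B).left ≤ 2 := by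
    show topologicalKrullDim ↥(Limits.pullback C.hom B.hom) ≤ 2
    rw [Groth.Agent.DimFieldBCLib.dim_prod C.hom B.hom, hC, hB]
    exact le_of_eq one_add_one_eq_two
  obtain ⟨ψ, -, hψ⟩ := RatCurvExt.exists_extend X.hom hnc (C ⊗ B).hom hd U hU φ hφ
  exact hne ⟨ψ, hψ⟩

end Groth.Agent.S16205
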