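import Groth.Statements.S16209
import Groth.Agent.NodalTreeLib.Main

set_option autoImplicit false
set_option backward.isDefEq.respectTransparency false
set_option backward.isDefEq.respectTransparency.types false
set_option maxHeartbeats 1000000

universe u
open CategoryTheory CategoryTheory.Limits AlgebraicGeometry
attribute [local instance] HasDerivedCategory.standard
open Curves

namespace Groth.Agent.S16209

/-- Let k be an algebraically closed field and X a proper reduced connected scheme of dimension 1 over k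
with at-worst-nodal singularities and H^1(X, O_X) = 0 (so X is a tree of smooth rational curves).
For an irreducible component E of X write k_E for the number of points of E lying on the other
components and deg_E for the degree of the restriction to E with its reduced structure. Let L be an
invertible module and E_0 an irreducible component with deg_{E_0}(L) ≤ k_{E_0} − 1 and deg_E(L) ≤
k_E − 2 for every other irreducible component E. Then H^0(X, L) = 0. -/
theorem result (k : Type u) [Field k] [IsAlgClosed k] (X : Scheme.{u}) [X.Over (Spec (CommRingCat.of k))]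
    [IsProper (X ↘ (Spec (CommRingCat.of k)))] [IsReduced X] [ConnectedSpace X]
    (hdim : topologicalKrullDim X = 1) (hX : Curv2.AtWorstNodal k X)
    (hg : Subsingleton (Coh.HH X (Coh.structureModule X) 1)) (L : X.Modules) (hL : PicF.IsInvertible L)
    (E₀ : Set X) (hE₀ : E₀ ∈ irreducibleComponents (X : Type u))
    (h₀ : @Curv2.deg k _ (Scheme.IdealSheafData.vanishingIdeal ⟨E₀, isClosed_of_mem_irreducibleComponents E₀ hE₀⟩).subscheme ⟨(Scheme.IdealSheafData.vanishingIdeal ⟨E₀, isClosed_of_mem_irreducibleComponents E₀ hE₀⟩).subschemeι ≫ (X ↘ (Spec (CommRingCat.of k)))⟩ ((Scheme.Modules.pullback (Scheme.IdealSheafData.vanishingIdeal ⟨E₀, isClosed_of_mem_irreducibleComponents E₀ hE₀⟩).subschemeι).obj L) 1 ≤ ((E₀ ∩ closure E₀ᶜ).ncard : ℤ) - 1)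
    (hE : ∀ (E : Set X) (hE : E ∈ irreducibleComponents (X : Type u)), E ≠ E₀ →
      @Curv2.deg k _ (Scheme.IdealSheafData.vanishingIdeal ⟨E, isClosed_of_mem_irreducibleComponents E hE⟩).subscheme ⟨(Scheme.IdealSheafData.vanishingIdeal ⟨E, isClosed_of_mem_irreducibleComponents E hE⟩).subschemeι ≫ (X ↘ (Spec (CommRingCat.of k)))⟩ ((Scheme.Modules.pullback (Scheme.IdealSheafData.vanishingIdeal ⟨E, isClosed_of_mem_irreducibleComponents E hE⟩).subschemeι).obj L) 1 ≤ ((E ∩ closure Eᶜ).ncard : ℤ) - 2) :
    Subsingleton (Coh.HH X L 0) := by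
  obtain ⟨ω, hω, hdual, hχ⟩ := NodalTreeLib.exists_omega k hdim hX
  haveI := CurvLib.isNoetherian k (X := X)
  obtain ⟨η₀, hη₀⟩ := QuasiSober.sober hE₀.1 (isClosed_of_mem_irreducibleComponents E₀ hE₀)
  have hη₀' : closure ({η₀} : Set X) = E₀ := hη₀.def
  refine NodalTreeLib.subsingleton_h0 k hdim hω hdual hχ hg hL fun J hr hc hd => ?_
  obtain ⟨T, B, hTm, -, -, -, -, rfl, -⟩ := NefH1Lib.Adj.exists_sub k hdim J hr hc hd
  rw [NefH1Lib.Adj.dJ, NefH1Lib.Adj.dJ, NefH1Lib.Adj.deg_subscheme k hL, NefH1Lib.Adj.deg_subscheme k hω]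
  have h := NodalTreeLib.delta_le k hdim hL hω η₀ hTm fun η hη => by
    obtain ⟨-, hr', hc', hd'⟩ := NefH1Lib.Adj.facts_single k hdim (hTm η hη)
    have hC : closure ({η} : Set X) ∈ irreducibleComponents (X : Type u) :=
      NefH1Lib.Subcurve.closure_mem_components (hTm η hη)
    rw [NodalTreeLib.dJ_omega_eq k hdim hω hdual hχ hg hr' hc' hd', NodalLib.kJ_eq_card k hdim hX _ hr' hc' hd',
      NefH1Lib.Subcurve.support_sub, Nat.card_coe_set_eq]
    by_cases he : η = η₀
    · subst hη₀'
      subst he
      rw [if_pos rfl]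
      change NefH1Lib.Adj.dJ k L (NefH1Lib.Subcurve.sub ({η} : Set X)) ≤ _ at h₀
      omega
    · rw [if_neg he]
      have hne : closure ({η} : Set X) ≠ E₀ := fun h' => he
        ((show IsGenericPoint η E₀ from h').eq hη₀)
      have h1 := hE _ hC hne
      change NefH1Lib.Adj.dJ k L (NefH1Lib.Subcurve.sub ({η} : Set X)) ≤ _ at h1
      omega
  split_ifs at h <;> omega

end Groth.Agent.S16209
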