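import Groth.Statements.S1621
import Groth.Agent.FibDimLib.Formula

set_option autoImplicit false
universe u
open CategoryTheory CategoryTheory.Limits AlgebraicGeometry
attribute [local instance] Curv2.stalkAlgebra Curv2.resAlgebra
open Variety

namespace Groth.Agent.S1621

/-- Let X be locally of finite type over a field k and x a point whose residue field has transcendence
degree a over k and whose local ring has dimension b. Then the local dimension of X at x is a + b. -/
theorem result (k : Type u) [Field k] (X : Scheme.{u}) [X.Over (Spec (CommRingCat.of k))] [LocallyOfFiniteType (X ↘ (Spec (CommRingCat.of k)))] (x : X) (a b : ℕ)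
    (ha : Algebra.trdeg k (X.residueField x) = a) (hb : ringKrullDim (X.presheaf.stalk x) = b) :
    FlatMor.localDim X x = (a + b : ℕ) := by
  rw [FibDimLib.localDim_eq_closure_add_stalk (X ↘ (Spec (CommRingCat.of k))) x, hb]
  let F : Over (Spec (CommRingCat.of k)) := Over.mk (X ↘ (Spec (CommRingCat.of k)))
  have hF : LocallyOfFiniteType F.hom := ‹LocallyOfFiniteType (X ↘ (Spec (CommRingCat.of k)))›
  obtain ⟨s, hs, hs'⟩ := @WeilLib.pdim_eq_trdeg k _ F hF x
  change topologicalKrullDim (closure ({x} : Set X)) = _ at hs
  have he : (WeilLib.kappaMap F x).hom = Curv2.resMap k X x := rfl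
  obtain rfl : s = a := by
    rw [he] at hs'
    exact_mod_cast hs'.symm.trans ha
  rw [hs, Nat.cast_add]


end Groth.Agent.S1621
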