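import Groth.Statements.S16210
import Groth.Agent.NodalLib.Pointed

set_option autoImplicit false
set_option backward.isDefEq.respectTransparency false
set_option backward.isDefEq.respectTransparency.types false
set_option maxHeartbeats 1000000
set_option linter.style.haveILetI false

universe u
open CategoryTheory CategoryTheory.Limits AlgebraicGeometry
attribute [local instance] HasDerivedCategory.standard
open Curves

namespace Groth.Agent.S16210

/-- Let k be an algebraically closed field and X a proper reduced connected scheme of dimension 1 over k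
with at-worst-nodal singularities and H^1(X, O_X) = 0, and let p_1, …, p_n (n ≥ 3) be distinct
closed points at which X is smooth over k. Let ω_X be the dualizing module of X (degree −1
cohomology sheaf of f^! O for the structure morphism f, for any choice of the data Rf_* on D_QCoh
with its right adjoint), N an inverse for the tensor product of the ideal sheaf of the reduced
closed subscheme {p_1, …, p_n}, and M any module isomorphic to ω_X ⊗ N (the dualizing module twisted
by the marked points). Then the n-pointed curve is semistable, i.e. every irreducible component E of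
X has at least 2 special points (points of E on other components plus marked points on E), if and
only if M is globally generated. -/
theorem result (k : Type u) [Field k] [IsAlgClosed k] (X : Scheme.{u}) [X.Over (Spec (CommRingCat.of k))]
    [IsProper (X ↘ (Spec (CommRingCat.of k)))] [IsReduced X] [ConnectedSpace X]
    (hdim : topologicalKrullDim X = 1) (hX : Curv2.AtWorstNodal k X)
    (hg : Subsingleton (Coh.HH X (Coh.structureModule X) 1))
    (n : ℕ) (p : Fin n → X) (hpinj : Function.Injective p) (hpcl : ∀ i, IsClosed ({p i} : Set X))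
    (hpsm : ∀ i, ∃ U : X.Opens, p i ∈ U ∧ Smooth (U.ι ≫ (X ↘ (Spec (CommRingCat.of k))))) (hn : 3 ≤ n)
    (N : X.Modules) (hN : ClSub.IsInverseOf N (ClSub.idealMod
      (Scheme.IdealSheafData.vanishingIdeal ⟨⋃ i, ({p i} : Set X), isClosed_iUnion_of_finite hpcl⟩)))
    [DCoh.HasRpush (X ↘ (Spec (CommRingCat.of k)))] (h : DCoh.RpushPreservesQCoh (X ↘ (Spec (CommRingCat.of k)))) [DCoh.HasShriek (X ↘ (Spec (CommRingCat.of k))) h]
    (OY : DCoh.DQCoh (Spec (CommRingCat.of k)))
    (hOY : Nonempty (OY.obj ≅ DCoh.inD (Spec (CommRingCat.of k)) (Coh.structureModule (Spec (CommRingCat.of k)))))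
    (M : X.Modules) (hM : Nonempty (M ≅ CohB1.tensorMod (DCoh.dualizingMod (X ↘ (Spec (CommRingCat.of k))) h OY 1) N)) :
    (∀ (E : Set X), E ∈ irreducibleComponents (X : Type u) → 2 ≤ (E ∩ closure Eᶜ).ncard + (p ⁻¹' E).ncard) ↔
      Curv2.IsGloballyGenerated M := by
  have hdimn := hdim
  obtain ⟨hdual, hχ⟩ := NefH1Lib.Adj.setup k hdim h OY hOY
  have hω := NodalLib.omega_invertible k hdim (fun x => (NodalLib.stalk_facts k hX x).2) h OY hOY
  obtain ⟨e⟩ := hM
  have hDf := NodalLib.finite_range_closed p hpcl
  have hDc := isClosed_iUnion_of_finite hpcl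
  have hsm : ∀ x ∈ ⋃ i, ({p i} : Set X), ∃ U : X.Opens, x ∈ U ∧ Smooth (U.ι ≫ (X ↘ (Spec (CommRingCat.of k)))) := by
    intro x hx
    obtain ⟨i, hi⟩ := Set.mem_iUnion.mp hx
    rw [Set.mem_singleton_iff.mp hi]
    exact hpsm i
  have hMi := NodalLib.isInvertible_twist hω hDc hN e
  have hg0 := NodalLib.gJ_eq_zero k hdim hdual hg
  constructor
  · intro hss
    refine NefH1Lib.Subcurve.globallyGenerated k hdim hMi fun J hr hc hd => ?_
    have h1 := NodalLib.nonneg_of_semistable k hdim hω hdual hχ hDf hDc hsm hN e hX
      (fun E hE _ => by rw [NodalLib.ncard_marked p hpinj E]; exact hss E hE) J hr hc hd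
    change 2 * (NefH1Lib.Adj.gJ k J : ℤ) ≤ NefH1Lib.Adj.dJ k M J
    rw [hg0 J]
    simpa using h1
  · intro hgg E hE
    obtain ⟨η, hη⟩ := QuasiSober.sober hE.1 (isClosed_of_mem_irreducibleComponents E hE)
    have hηm : NefH1Lib.Subcurve.IsMaxPt η := fun y hy => by
      have h1 : E ⊆ closure ({y} : Set X) := hη.def.symm.le.trans hy.closure_subset
      have h2 := hE.2 isIrreducible_singleton.closure h1
      have h3 : y ⤳ η := hy
      exact (h3.antisymm (hη.specializes (h2 (subset_closure (Set.mem_singleton y))))).eq
    have h0 := NodalLib.nonneg_of_gg k hdim hMi hgg hηm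
    obtain ⟨-, hr', hc', hd'⟩ := NefH1Lib.Adj.facts_single k hdim hηm
    have h1 := NodalLib.dJ_twist k hdim hω hdual hχ hDf hDc hsm hN e _ hr' hc' hd'
    rw [hg0, NodalLib.kJ_eq_card k hdim hX _ hr' hc' hd', NefH1Lib.Subcurve.support_sub, hη.def,
      Nat.card_coe_set_eq, NodalLib.ncard_marked p hpinj E] at h1
    omega

end Groth.Agent.S16210
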