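import Groth.Statements.S16211
import Mathlib


-- import your own Groth.Agent.* helpers here

set_option autoImplicit false
universe u v
open InvTh

namespace Groth.Agent.S16211

/-- Let R be a commutative ring, O a formally smooth R-algebra and G a finite group whose order is
invertible in R, acting on O by R-algebra automorphisms. Then the largest quotient algebra of O on
which G acts trivially, namely the quotient of O by the ideal generated by all g • f - f (the
coordinate ring of the subscheme of G-fixed points of Spec O), is again formally smooth over R: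
invariant homomorphisms lift along square-zero extensions. The published statement is about a scheme
X smooth and of finite presentation over the base and concludes that its fixed-point scheme is
smooth; this row, the affine step of its proof, assumes only that O is formally smooth over R and
concludes only formal smoothness. -/
theorem result (R : Type u) [CommRing R]
    (O : Type u) [CommRing O] [Algebra R O] [Algebra.FormallySmooth R O]
    (G : Type v) [Group G] [Finite G] [MulSemiringAction G O] [SMulCommClass G R O]
    (hG : IsUnit (Nat.card G : R)) :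
    Algebra.FormallySmooth R (O ⧸ Ideal.span {x : O | ∃ (g : G) (f : O), x = g • f - f}) := by
  classical
  haveI := Fintype.ofFinite G
  set I : Ideal O := Ideal.span {x : O | ∃ (g : G) (f : O), x = g • f - f}
  refine Algebra.FormallySmooth.of_comp_surjective fun B _ _ N hN ψ => ?_
  obtain ⟨φ, hφ⟩ := Algebra.FormallySmooth.comp_surjective R O N hN (ψ.comp (Ideal.Quotient.mkₐ R I))
  have hmod : ∀ (g : G) (x : O), φ (g • x) - φ x ∈ N := by
    intro g x
    rw [← Ideal.Quotient.eq_zero_iff_mem, map_sub]
    change (Ideal.Quotient.mkₐ R N).comp φ (g • x) - (Ideal.Quotient.mkₐ R N).comp φ x = 0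
    rw [hφ, ← map_sub]
    change ψ (Ideal.Quotient.mk I (g • x - x)) = 0
    rw [Ideal.Quotient.eq_zero_iff_mem.2 (show g • x - x ∈ I from Ideal.subset_span ⟨g, x, rfl⟩), map_zero]
  have hsq : ∀ a ∈ N, ∀ b ∈ N, a * b = 0 := fun a ha b hb => by
    have : a * b ∈ N ^ 2 := by rw [pow_two]; exact Ideal.mul_mem_mul ha hb
    rwa [hN, Ideal.mem_bot] at this
  obtain ⟨c, hc⟩ : ∃ c : B, c * (Fintype.card G : B) = 1 := by
    obtain ⟨c, hc⟩ := hG.exists_left_inv
    exact ⟨algebraMap R B c, by rw [← map_natCast (algebraMap R B), ← map_mul, ← Nat.card_eq_fintype_card, hc, map_one]⟩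
  let h : O → B := fun x => c * ∑ g : G, φ (g • x)
  have hh : ∀ x, h x = φ x + c * ∑ g : G, (φ (g • x) - φ x) := by
    intro x
    simp only [h, Finset.sum_sub_distrib, Finset.sum_const, Finset.card_univ, nsmul_eq_mul, mul_sub, ← mul_assoc, hc, one_mul]
    abel
  have hmul : ∀ x y, h (x * y) = h x * h y := by
    intro x y
    rw [hh, hh, hh, map_mul]
    have hD : ∀ g : G, φ (g • (x * y)) - φ x * φ y = φ x * (φ (g • y) - φ y) + φ y * (φ (g • x) - φ x) := by
      intro g
      rw [smul_mul', map_mul]
      linear_combination hsq _ (hmod g x) _ (hmod g y)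
    simp only [hD, Finset.sum_add_distrib, ← Finset.mul_sum]
    have h2 := hsq _ (Ideal.mul_mem_left N c (N.sum_mem (t := Finset.univ) fun g _ => hmod g x)) _
      (Ideal.mul_mem_left N c (N.sum_mem (t := Finset.univ) fun g _ => hmod g y))
    linear_combination -h2
  let H : O →ₐ[R] B :=
    { toFun := h
      map_one' := by simp [h, hc]
      map_mul' := hmul
      map_zero' := by simp [h]
      map_add' := fun x y => by simp [h, Finset.sum_add_distrib, mul_add]
      commutes' := fun r => by simp [h, ← mul_assoc, hc] }
  have hinv : ∀ a ∈ I, H a = 0 := by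
    intro a ha
    refine (Ideal.span_le.2 ?_ ha : a ∈ RingHom.ker H.toRingHom)
    rintro _ ⟨g, f, rfl⟩
    change H (g • f - f) = 0
    rw [map_sub, sub_eq_zero]
    change c * _ = c * _
    congr 1
    exact Fintype.sum_equiv (Equiv.mulRight g) _ _ fun g' => by simp [mul_smul]
  refine ⟨Ideal.Quotient.liftₐ I H hinv, AlgHom.ext fun z => ?_⟩
  obtain ⟨x, rfl⟩ := Ideal.Quotient.mk_surjective z
  change Ideal.Quotient.mk N (h x) = ψ (Ideal.Quotient.mk I x)
  rw [hh, map_add, Ideal.Quotient.eq_zero_iff_mem.2 (Ideal.mul_mem_left N c (N.sum_mem fun g _ => hmod g x)), add_zero]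
  exact congrArg (fun (F : O →ₐ[R] B ⧸ N) => F x) hφ

end Groth.Agent.S16211
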