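import Groth.Statements.S16212
import Groth.Agent.FinFixLib.Main

set_option autoImplicit false
set_option backward.isDefEq.respectTransparency false
set_option linter.style.haveILetI false
set_option maxHeartbeats 1000000
universe u v
open CategoryTheory AlgebraicGeometry
open AlgGrp

namespace Groth.Agent.S16212

/-- Let S be a scheme, X an S-scheme that is smooth, separated and of finite presentation over S, and G
a finite group whose order is invertible on S (a unit among the global functions of S) acting on X
by S-automorphisms. Then the scheme of G-fixed points of X, namely any S-scheme Z with an S-morphism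
ι to X that is itself fixed by every element of G (ι followed by the automorphism of each g equals
ι) and such that an S-morphism T → X is fixed by every element of G exactly when it factors through
ι, and then uniquely, is a closed subscheme of X (ι is a closed immersion) which is smooth and of
finite presentation over S (smooth, quasi-compact and quasi-separated). The published statement
assumes X only smooth and of finite presentation over S; this row also assumes X separated over S. -/
theorem result (S : Scheme.{u})
    (X : Over S) [Smooth X.hom] [QuasiCompact X.hom] [IsSeparated X.hom]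
    (G : Type v) [Group G] [Finite G] (ρ : G →* Aut X)
    (hG : IsUnit (Nat.card G : Γ(S, ⊤)))
    (Z : Over S) (ι : Z ⟶ X) (hι : ∀ g : G, ι ≫ (ρ g).hom = ι)
    (hZ : ∀ (T : Over S) (t : T ⟶ X), (∀ g : G, t ≫ (ρ g).hom = t) ↔ ∃! t' : T ⟶ Z, t' ≫ ι = t) :
    IsClosedImmersion ι.left ∧ Smooth Z.hom ∧ QuasiCompact Z.hom ∧ QuasiSeparated Z.hom := by
  cases nonempty_fintype G
  haveI : Mono ι := ⟨fun {T} a b h => by
    obtain ⟨w, -, hw⟩ := (hZ T (a ≫ ι)).1 fun g => by rw [Category.assoc, hι]
    exact (hw a rfl).trans (hw b h.symm).symm⟩
  obtain ⟨Z₀, j, hjc, hjp, hj⟩ := FinFixLib.exists_fixed_closed (fun g => (ρ g).hom) (Finset.univ : Finset G)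
  obtain ⟨l, hl⟩ := (hj Z ι).1 fun g _ => hι g
  have hjfix : ∀ g, j ≫ (ρ g).hom = j := fun g =>
    (hj Z₀ j).2 ⟨𝟙 _, Category.id_comp j⟩ g (Finset.mem_univ g)
  obtain ⟨l', hl', -⟩ := (hZ Z₀ j).1 hjfix
  haveI : IsClosedImmersion j.left := hjc
  haveI : LocallyOfFinitePresentation j.left := hjp
  haveI : Mono j := Over.mono_of_mono_left j
  haveI : IsIso l := ⟨l', by rw [← cancel_mono ι, Category.assoc, hl', hl, Category.id_comp],
    by rw [← cancel_mono j, Category.assoc, hl, hl', Category.id_comp]⟩
  haveI : IsIso l.left := inferInstanceAs (IsIso ((Over.forget _).map l))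
  haveI : IsClosedImmersion ι.left := by rw [← hl, Over.comp_left]; infer_instance
  haveI : LocallyOfFinitePresentation ι.left := by rw [← hl, Over.comp_left]; infer_instance
  haveI : LocallyOfFinitePresentation Z.hom := by rw [← Over.w ι]; infer_instance
  refine ⟨inferInstance, FinFixLib.smooth_fixed ρ hG ι hι fun T t ht => ((hZ T t).1 ht).exists, ?_, ?_⟩
  · rw [← Over.w ι]; infer_instance
  · rw [← Over.w ι]; infer_instance

end Groth.Agent.S16212
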