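import Groth.Statements.S16215
import Groth.Agent.MultiSecLib.Smooth
import Groth.Agent.SmDefLib.ArtSetup
-- import your own Groth.Agent.* helpers here

set_option autoImplicit false
set_option backward.isDefEq.respectTransparency false
set_option maxHeartbeats 1000000
universe u
open CategoryTheory CategoryTheory.Limits AlgebraicGeometry
open PtDefo

namespace Groth.Agent.S16215

section Aux
open CategoryTheory CategoryTheory.Limits AlgebraicGeometry

theorem isAdicComplete_of_isNilpotent {R : Type u} [CommRing R] (I : Ideal R) (h : IsNilpotent I) : IsAdicComplete I R := by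
  obtain ⟨k, hk⟩ := h
  rw [Submodule.zero_eq_bot] at hk
  have hbot : ∀ n, k ≤ n → (I ^ n • ⊤ : Submodule R R) = ⊥ := fun n hn => by
    rw [smul_eq_mul, Ideal.mul_top, eq_bot_iff, ← hk]
    exact Ideal.pow_le_pow_right hn
  refine { haus' := fun x hx => ?_, prec' := fun f hf => ⟨f k, fun n => ?_⟩ }
  · have := SModEq.sub_mem.1 (hx k)
    rwa [sub_zero, hbot k le_rfl, Submodule.mem_bot] at this
  · rcases le_total n k with h | h
    · exact hf h
    · have h2 := SModEq.sub_mem.1 (hf h)
      rw [hbot k le_rfl, Submodule.mem_bot, sub_eq_zero] at h2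
      rw [h2]

theorem henselian_of_artinian (A : Type u) [CommRing A] [IsLocalRing A] [IsArtinianRing A] :
    HenselianLocalRing A := by
  obtain ⟨n, hn⟩ := IsArtinianRing.isNilpotent_jacobson_bot (R := A)
  haveI : IsAdicComplete (IsLocalRing.maximalIdeal A) A := by
    rw [IsLocalRing.jacobson_eq_maximalIdeal ⊥ bot_ne_top] at hn
    exact isAdicComplete_of_isNilpotent _ ⟨n, hn⟩
  haveI : HenselianRing A (IsLocalRing.maximalIdeal A) := inferInstance
  exact { is_henselian := fun f hf a₀ h1 h2 => HenselianRing.is_henselian f hf a₀ h1
            (h2.map (Ideal.Quotient.mk _)) }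

end Aux

/-- Let k be an algebraically closed field of characteristic neither 2 nor 3, C a smooth proper integral
curve of genus one over k and P a rational point of C. For every local Artinian k-algebra A with
residue field k the forgetful map, from isomorphism classes of deformations of the pointed curve (C,
P) over A (deformations of C over A with a section through P) to isomorphism classes of deformations
of C over A, is surjective. (The characteristic assumption is the standing one of the source's
section and plays no role.) -/
theorem result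
    {k : Type u} [Field k] [IsAlgClosed k] (h2 : (2 : k) ≠ 0) (h3 : (3 : k) ≠ 0)
    (X : Scheme.{u}) [X.Over (Spec (CommRingCat.of k))]
    (hX : Curve.IsSmoothProperCurve k X (X ↘ Spec (CommRingCat.of k))) (hg : Curv2.genus k X = 1)
    (P : Spec (CommRingCat.of k) ⟶ X) (hP : P ≫ (X ↘ Spec (CommRingCat.of k)) = 𝟙 _)
    (A : ArtFun.Art k k) :
    Function.Surjective ((PtDefo.forgetPts (Λ := k) X (X ↘ Spec (CommRingCat.of k)) (fun _ : PUnit.{u + 1} => P)).app A) := by
  intro q
  induction q using Quotient.inductionOn with
  | h ξ =>
    haveI : Smooth (X ↘ Spec (CommRingCat.of k)) := hX.2.1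
    haveI : IsProper (X ↘ Spec (CommRingCat.of k)) := hX.1
    haveI := (SmDefLib.smooth_defSch (x := X ↘ Spec (CommRingCat.of k)) ξ).1
    haveI := henselian_of_artinian A.carrier
    let m := IsLocalRing.maximalIdeal A.carrier
    let e : (A.carrier ⧸ m) ≃+* k :=
      (Ideal.quotEquivOfEq (Ideal.ext fun a => by
        rw [RingHom.mem_ker]
        exact ArtFun.Art.mem_maximalIdeal_iff A a)).trans
        (RingHom.quotientKerEquivOfSurjective (f := A.res.toRingHom) A.res_surjective)
    have he : CommRingCat.ofHom (Ideal.Quotient.mk m) ≫ CommRingCat.ofHom e.toRingHom =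
        CommRingCat.ofHom A.res.toRingHom := by
      ext a
      rfl
    haveI : IsIso (CommRingCat.ofHom e.toRingHom) :=
      (inferInstance : IsIso e.toCommRingCatIso.hom)
    let u := Spec.map (CommRingCat.ofHom e.toRingHom)
    have hu : u ≫ Spec.map (CommRingCat.ofHom (Ideal.Quotient.mk m)) = ArtFun.Art.specRes A := by
      rw [← Spec.map_comp, he]
    have hg : (inv u ≫ P ≫ ξ.i) ≫ ξ.f = Spec.map (CommRingCat.ofHom (Ideal.Quotient.mk m)) := by
      rw [Category.assoc, Category.assoc, ξ.isPullback.w, ← Category.assoc P, hP, Category.id_comp,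
        IsIso.inv_comp_eq, hu]
    obtain ⟨s, hs1, hs2⟩ := MultiSecLib.exists_lift_of_smooth A.carrier m
      (IsLocalRing.maximalIdeal.isMaximal _).ne_top ξ.f _ hg
    exact ⟨Quotient.mk _ { toDefSch := ξ, sect := fun _ => s, sect_f := fun _ => hs1
                           pt_sect := fun _ => by rw [← hu, Category.assoc, hs2, IsIso.hom_inv_id_assoc] }, rfl⟩

end Groth.Agent.S16215
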