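import Groth.Statements.S16218
import Groth.Agent.ZeroFamLib.Triv
import Groth.Agent.EdP1Lib.Std
import Mathlib.AlgebraicGeometry.EffectiveEpi

set_option autoImplicit false
universe u
open CategoryTheory CategoryTheory.Limits AlgebraicGeometry
open Curves

set_option linter.style.haveILetI false
set_option backward.isDefEq.respectTransparency false

namespace Groth.Agent.S16218

variable {k : Type u} [Field k]

/-- The map to the point. -/
noncomputable def toPt (T : Over (Spec (CommRingCat.of k))) : T ⟶ Over.mk (𝟙 (Spec (CommRingCat.of k))) :=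
  Over.homMk T.hom (Category.comp_id _)

theorem toPt_unique {T : Over (Spec (CommRingCat.of k))} (g : T ⟶ Over.mk (𝟙 (Spec (CommRingCat.of k)))) :
    g = toPt T :=
  Over.OverMorphism.ext ((Category.comp_id _).symm.trans (Over.w g))

variable [IsAlgClosed k]

theorem exists_rat {K : Type u} [Field K] [IsAlgClosed K] {C : Scheme.{u}} (p : C ⟶ Spec (CommRingCat.of K))
    (hp : ModFun.IsCurveOfGenus 0 p) : ∃ w : Spec (CommRingCat.of K) ⟶ C, w ≫ p = 𝟙 _ := by
  haveI := hp.2.1
  haveI := hp.2.2.1
  haveI : IrreducibleSpace C := GeometricallyIrreducible.irreducibleSpace_of_subsingleton (f := p)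
  haveI : IsLocallyNoetherian C := LocallyOfFiniteType.isLocallyNoetherian p
  haveI : CompactSpace C := QuasiCompact.compactSpace_of_compactSpace p
  obtain ⟨z, -, hz⟩ := (isClosed_univ (X := C)).exists_closed_singleton Set.univ_nonempty
  exact ⟨pointOfClosedPoint p z hz, pointOfClosedPoint_comp p z hz⟩


/-- Let k be an algebraically closed field. For the moduli problem of curves of genus 0 over k-schemes
(smooth proper geometrically irreducible morphisms whose geometric fibres are one-dimensional of
genus 0, up to isomorphism over the base), the point M = Spec k with the morphism φ sending each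
family over T to the structure morphism of T satisfies: (b) every morphism ψ from the problem to a
functor of points h_N, both taken on test schemes of finite type over k, factors as φ followed by a
unique k-morphism Spec k → N; and (a) φ is bijective on geometric points: over every algebraically
closed field Ω over k there is a family of genus-0 curves over Spec Ω and any two are isomorphic. In
particular Spec k is a coarse moduli scheme for curves of genus 0 in this sense (universal property
for test schemes of finite type over k), and the family over Spec k in (a) is a tautological family.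
(The published statement asserts the universal property (b) for all k-schemes as test schemes and
for families projective over the base; its proof treats test schemes of finite type over k,
indicating the general case only in outline, so (b) is stated for finite-type test schemes here, and
properness replaces projectivity, which changes nothing in the argument. Since Spec k is terminal
among k-schemes, φ is unique and is quantified existentially.) -/
theorem result
    {k : Type u} [Field k] [IsAlgClosed k] :
    ∃ φ : (ModFun.Mg (Spec (CommRingCat.of k)) 0).Hom ⊤ (Over.mk (𝟙 (Spec (CommRingCat.of k)))),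
      ModFun.IsBestApprox
          (fun T : Over (Spec (CommRingCat.of k)) => LocallyOfFiniteType T.hom ∧ QuasiCompact T.hom)
          (ModFun.Mg (Spec (CommRingCat.of k)) 0) (Over.mk (𝟙 (Spec (CommRingCat.of k)))) (φ.ofLE le_top) ∧
        ModFun.GeomBij (ModFun.Mg (Spec (CommRingCat.of k)) 0) (Over.mk (𝟙 (Spec (CommRingCat.of k)))) φ := by
  let S := Spec (CommRingCat.of k)
  let M : Over S := Over.mk (𝟙 S)
  let φ : (ModFun.Mg S 0).Hom ⊤ M :=
    { app := fun T _ _ _ => toPt T
      natural := fun g _ _ _ _ _ => (toPt_unique _).symm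
      resp := fun _ _ _ _ _ _ => rfl }
  let x₀ : (ModFun.Mg S 0).Fam M := Over.mk (CohB1.ProjSpace.toSpec 1 k)
  have hx₀ : (ModFun.Mg S 0).ok M x₀ := ⟨trivial, EdP1Lib.isCurveOfGenus_P1 k⟩
  refine ⟨φ, fun N ψ => ?_, fun Ω _ _ t _ => ⟨fun g => ?_, fun x y hx hy _ => ?_⟩⟩
  · have hPM : LocallyOfFiniteType M.hom ∧ QuasiCompact M.hom :=
      ⟨inferInstanceAs (LocallyOfFiniteType (𝟙 S)), inferInstanceAs (QuasiCompact (𝟙 S))⟩
    refine ⟨ψ.app M x₀ hPM hx₀, fun T x hT hx => ?_, fun f' hf' => ?_⟩
    swap
    · have h := hf' M x₀ hPM hx₀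
      rw [h]
      show f' = toPt M ≫ f'
      rw [← toPt_unique (𝟙 M), Category.id_comp]
    show ψ.app T x hT hx = toPt T ≫ ψ.app M x₀ hPM hx₀
    have hc : ModFun.IsCurveOfGenus 0 x.hom := hx.2
    let p := x.hom
    haveI : Smooth p := hc.1
    haveI : IsProper p := hc.2.1
    haveI : GeometricallyIrreducible p := hc.2.2.1
    haveI : Surjective p := ⟨fun y => by
      haveI : IrreducibleSpace (p.fiber y) :=
        GeometricallyIrreducible.geometrically_irreducibleSpace (f := p) _ _ _
          (IsPullback.of_hasPullback p (Scheme.fromSpecResidueField _ y))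
      obtain ⟨w⟩ : Nonempty (p.fiber y) := inferInstance
      refine ⟨p.fiberι y w, ?_⟩
      have := Set.mem_range_self (f := p.fiberι y) w
      rwa [p.range_fiberι] at this⟩
    haveI : Epi p := Flat.epi_of_flat_of_surjective p
    refine Over.OverMorphism.ext ((cancel_epi p).1 (Scheme.hom_ext_of_forall _ _ fun c => ?_))
    let p₂ := pullback.snd p p
    have hp₂ : ModFun.IsCurveOfGenus 0 p₂ :=
      IsotrivLib.isCurveOfGenus_of_isPullback hc (IsPullback.of_hasPullback p p)
    obtain ⟨R, _, i, hi, hci, e, he⟩ := ZeroFamLib.exists_local_triv hp₂ (pullback.diagonal p)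
      (pullback.diagonal_snd p) c
    haveI := hi
    let T' : Over S := Over.mk (i ≫ p ≫ T.hom)
    haveI := hT.1
    have hT' : LocallyOfFiniteType T'.hom ∧ QuasiCompact T'.hom :=
      ⟨inferInstanceAs (LocallyOfFiniteType (i ≫ p ≫ T.hom)), by
        haveI : IsAffineHom T'.hom := inferInstanceAs (IsAffineHom (i ≫ p ≫ T.hom))
        infer_instance⟩
    let g : T' ⟶ T := Over.homMk (i ≫ p) (by simp [T', Category.assoc])
    have hx' : (ModFun.Mg S 0).ok T' ((ModFun.Mg S 0).pull g x) :=
      ⟨trivial, IsotrivLib.isCurveOfGenus_of_isPullback hc (IsPullback.of_hasPullback x.hom g.left)⟩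
    have h1 := ψ.natural g x hT hT' hx hx'
    let t₀ : T' ⟶ M := toPt T'
    have hx₀' : (ModFun.Mg S 0).ok T' ((ModFun.Mg S 0).pull t₀ x₀) :=
      ⟨trivial, IsotrivLib.isCurveOfGenus_of_isPullback hx₀.2 (IsPullback.of_hasPullback x₀.hom t₀.left)⟩
    have h2 := ψ.natural t₀ x₀ hPM hT' hx₀ hx₀'
    have hr : (ModFun.Mg S 0).r T' ((ModFun.Mg S 0).pull g x) ((ModFun.Mg S 0).pull t₀ x₀) := by
      obtain ⟨j, hj, -, -⟩ := FibVALib.exists_baseChange 1 (R := k) (Spec.preimage T'.hom).hom
      have hT₀ : Spec.map (CommRingCat.ofHom (Spec.preimage T'.hom).hom) = T'.hom := Spec.map_preimage T'.hom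
      rw [hT₀] at hj
      have hP := (IsPullback.of_hasPullback p₂ i).paste_horiz (IsPullback.of_hasPullback p p)
      refine ⟨Over.isoMk (hP.isoPullback.symm ≪≫ e ≪≫ hj.isoPullback) ?_⟩
      show (hP.isoPullback.inv ≫ e.hom ≫ hj.isoPullback.hom) ≫ pullback.snd _ _ = _
      rw [Category.assoc, Category.assoc, hj.isoPullback_hom_snd, he]
      exact hP.isoPullback_inv_snd
    have h3 := congrArg (fun m : T' ⟶ N => m.left) (h1.symm.trans ((ψ.resp _ _ hT' hx' hx₀' hr).trans h2))
    refine ⟨i.opensRange, hci, ?_⟩
    rw [← cancel_epi i.isoOpensRange.hom, ← Category.assoc, ← Category.assoc, i.isoOpensRange_hom_ι]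
    refine Eq.trans h3 ?_
    rw [← Category.assoc i.isoOpensRange.hom, i.isoOpensRange_hom_ι]
    show (i ≫ p ≫ T.hom) ≫ (ψ.app M x₀ hPM hx₀).left = i ≫ p ≫ T.hom ≫ (ψ.app M x₀ hPM hx₀).left
    simp only [Category.assoc]
  · exact ⟨Over.mk (CohB1.ProjSpace.toSpec 1 Ω), ⟨trivial, EdP1Lib.isCurveOfGenus_P1 Ω⟩, (toPt_unique g).symm⟩
  · obtain ⟨w, hw⟩ := exists_rat _ hx.2
    obtain ⟨w', hw'⟩ := exists_rat _ hy.2
    obtain ⟨e, he⟩ := EdP1Lib.exists_iso_P1 _ hx.2 w hw
    obtain ⟨e', he'⟩ := EdP1Lib.exists_iso_P1 _ hy.2 w' hw'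
    refine ⟨Over.isoMk (e ≪≫ e'.symm) ?_⟩
    rw [Iso.trans_hom, Iso.symm_hom, Category.assoc, ← he', e'.inv_hom_id_assoc, he]

end Groth.Agent.S16218
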