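import Groth.Statements.S16219
import Mathlib.AlgebraicGeometry.Morphisms.SchemeTheoreticallyDominant
import Mathlib.AlgebraicGeometry.Morphisms.FiniteType
import Mathlib.AlgebraicGeometry.ValuativeCriterion
-- import your own Groth.Agent.* helpers here

set_option autoImplicit false
universe u
open Lim

open AlgebraicGeometry CategoryTheory CategoryTheory.Limits TopologicalSpace
set_option backward.isDefEq.respectTransparency false
set_option backward.isDefEq.respectTransparency.types false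
namespace Groth.Agent.S16219

/-- Morphisms on an open agree when they agree on a covering by smaller opens. -/
theorem hom_ext_opens {Z Y : Scheme.{u}} {V : Z.Opens} {κ : Type u} (O : κ → Z.Opens) (hle : ∀ k, O k ≤ V)
    (hcov : V ≤ ⨆ k, O k) (a b : V.toScheme ⟶ Y) (h : ∀ k, Z.homOfLE (hle k) ≫ a = Z.homOfLE (hle k) ≫ b) :
    a = b := by
  let 𝒱 : V.toScheme.OpenCover := Scheme.Cover.mkOfCovers κ (fun k => (O k).toScheme) (fun k => Z.homOfLE (hle k))
    (fun x => by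
      obtain ⟨k, hk⟩ := Opens.mem_iSup.1 (hcov x.2)
      exact ⟨k, ⟨x.1, hk⟩, Subtype.ext (by simp)⟩) (fun _ => inferInstance)
  exact Scheme.Cover.hom_ext 𝒱 _ _ h

/-- The canonical map to sections. -/
noncomputable abbrev res (R : CommRingCat.{u}) (D : (Spec R).Opens) : R ⟶ Γ(Spec R, D) :=
  (Scheme.ΓSpecIso R).inv ≫ (Spec R).presheaf.map (homOfLE le_top).op

theorem exists_mul_pow (R : CommRingCat.{u}) (c : R) (z : Γ(Spec R, PrimeSpectrum.basicOpen c)) :
    ∃ (n : ℕ) (a : R), z * (res R (PrimeSpectrum.basicOpen c)) c ^ n = res R (PrimeSpectrum.basicOpen c) a := by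
  obtain ⟨n, a, h⟩ := IsLocalization.Away.surj c z
  exact ⟨n, a, by simpa [IsAffineOpen.algebraMap_Spec_obj, map_pow] using h⟩

theorem isUnit_res (R : CommRingCat.{u}) (c : R) : IsUnit (res R (PrimeSpectrum.basicOpen c) c) := by
  have := IsLocalization.Away.algebraMap_isUnit (S := Γ(Spec R, PrimeSpectrum.basicOpen c)) c
  simpa [IsAffineOpen.algebraMap_Spec_obj] using this

theorem res_appLE {R R' : CommRingCat.{u}} (φ : R ⟶ R') (V : (Spec R).Opens) (D : (Spec R').Opens)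
    (h : D ≤ Spec.map φ ⁻¹ᵁ V) : res R V ≫ (Spec.map φ).appLE V D h = φ ≫ res R' D := by
  rw [Category.assoc, Scheme.Hom.map_appLE, ← Category.assoc φ, Scheme.ΓSpecIso_inv_naturality, Category.assoc]
  congr 1

section

variable {A C : Type u} [CommRing A] [CommRing C] [Algebra A C] {ι : Type u} (S : ι → Subalgebra A C)
  {X : Scheme.{u}} (f : X ⟶ Spec (CommRingCat.of A))

/-- The stage `i`. -/
noncomputable abbrev Z (i : ι) : Scheme.{u} := Spec (CommRingCat.of (S i))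

/-- The projection from the limit. -/
noncomputable abbrev pr (i : ι) : Spec (CommRingCat.of C) ⟶ Z S i :=
  Spec.map (CommRingCat.ofHom (S i).val.toRingHom)

/-- The transition maps. -/
noncomputable abbrev tr {i j : ι} (h : S i ≤ S j) : Z S j ⟶ Z S i :=
  Spec.map (CommRingCat.ofHom (Subalgebra.inclusion h).toRingHom)

/-- The structure map of a stage. -/
noncomputable abbrev str (i : ι) : Z S i ⟶ Spec (CommRingCat.of A) :=
  Spec.map (CommRingCat.ofHom (algebraMap A (S i)))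

theorem pr_tr {i j : ι} (h : S i ≤ S j) : pr S j ≫ tr S h = pr S i := by
  rw [← Spec.map_comp]; rfl

theorem tr_str {i j : ι} (h : S i ≤ S j) : tr S h ≫ str S i = str S j := by
  rw [← Spec.map_comp]; rfl

/-- The basic open of a stage. -/
abbrev bas {i : ι} (c : S i) : (Z S i).Opens := PrimeSpectrum.basicOpen c

variable [IsDomain C]

instance dominant_pr (i : ι) : IsSchemeTheoreticallyDominant (pr S i) := by
  haveI : IsDominant (pr S i) := by
    refine ⟨?_⟩
    refine (PrimeSpectrum.denseRange_comap_iff_ker_le_nilRadical (f := (S i).val.toRingHom)).2 ?_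
    intro x hx
    rw [show x = 0 from Subtype.ext (RingHom.mem_ker.1 hx)]
    exact Ideal.zero_mem _
  exact .of_isDominant _

/-- Morphisms to an affine scheme are detected on the limit. -/
theorem hom_ext_affine {i : ι} {Y : Scheme.{u}} [IsAffine Y] {V : (Z S i).Opens} (a b : V.toScheme ⟶ Y)
    (h : (pr S i ∣_ V) ≫ a = (pr S i ∣_ V) ≫ b) : a = b := by
  refine ext_of_isAffine (CommRingCat.hom_ext (RingHom.ext fun y => ?_))
  have h' := congrArg (fun m => m.appTop y) h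
  simp only [Scheme.Hom.comp_appTop, CommRingCat.comp_apply] at h'
  haveI : IsSchemeTheoreticallyDominant (pr S i ∣_ V) := by
    haveI : IsDominant (pr S i ∣_ V) := IsZariskiLocalAtTarget.restrict (P := @IsDominant) inferInstance V
    exact .of_isDominant _
  exact (pr S i ∣_ V).app_injective ⊤ h'

/-- A local lift of `g` on an open of a stage. -/
def IsLift (g : Spec (CommRingCat.of C) ⟶ X) {i : ι} (V : (Z S i).Opens) (a : V.toScheme ⟶ X) : Prop :=
  a ≫ f = V.ι ≫ str S i ∧ (pr S i ∣_ V) ≫ a = (pr S i ⁻¹ᵁ V).ι ≫ g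

theorem tr_tr {i j k : ι} (h : S i ≤ S j) (h' : S j ≤ S k) : tr S h' ≫ tr S h = tr S (h.trans h') := by
  rw [← Spec.map_comp]; rfl

variable {S f}

theorem IsLift.restrict {g : Spec (CommRingCat.of C) ⟶ X} {i : ι} {V : (Z S i).Opens} {a : V.toScheme ⟶ X}
    (ha : IsLift S f g V a) {W : (Z S i).Opens} (h : W ≤ V) : IsLift S f g W ((Z S i).homOfLE h ≫ a) := by
  refine ⟨by rw [Category.assoc, ha.1, Scheme.homOfLE_ι_assoc], ?_⟩
  have h' : (pr S i ∣_ W) ≫ (Z S i).homOfLE h =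
      (Spec (CommRingCat.of C)).homOfLE ((pr S i).preimage_mono h) ≫ (pr S i ∣_ V) := by
    rw [← cancel_mono V.ι]; simp
  rw [reassoc_of% h', ha.2, Scheme.homOfLE_ι_assoc]

theorem IsLift.raise {g : Spec (CommRingCat.of C) ⟶ X} {i j : ι} {V : (Z S i).Opens} {a : V.toScheme ⟶ X}
    (ha : IsLift S f g V a) (h : S i ≤ S j) : IsLift S f g (tr S h ⁻¹ᵁ V) ((tr S h ∣_ V) ≫ a) := by
  refine ⟨by rw [Category.assoc, ha.1, morphismRestrict_ι_assoc, tr_str], ?_⟩
  have hle : pr S j ⁻¹ᵁ tr S h ⁻¹ᵁ V ≤ pr S i ⁻¹ᵁ V := le_of_eq (by rw [← Scheme.Hom.comp_preimage, pr_tr])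
  have h' : (pr S j ∣_ (tr S h ⁻¹ᵁ V)) ≫ (tr S h ∣_ V) =
      (Spec (CommRingCat.of C)).homOfLE hle ≫ (pr S i ∣_ V) := by
    rw [← cancel_mono V.ι]
    simp only [Category.assoc, morphismRestrict_ι, morphismRestrict_ι_assoc, Scheme.homOfLE_ι_assoc, pr_tr]
  rw [reassoc_of% h', ha.2, Scheme.homOfLE_ι_assoc]

variable (hdir : Directed (· ≤ ·) S) (hcov : ∀ c : C, ∃ i, c ∈ S i)
include hdir hcov

theorem exists_le_forall_mem (i : ι) (s : Finset C) : ∃ j, S i ≤ S j ∧ ∀ c ∈ s, c ∈ S j := by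
  classical
  choose k hk using hcov
  haveI : Nonempty ι := ⟨i⟩
  obtain ⟨j, hj⟩ := hdir.finset_le (insert i (s.image k))
  exact ⟨j, hj i (Finset.mem_insert_self _ _), fun c hc =>
    hj (k c) (Finset.mem_insert_of_mem (Finset.mem_image_of_mem k hc)) (hk c)⟩

/-- An inclusion of opens on the limit holds at some stage. -/
theorem exists_preimage_le {i : ι} (c : S i) (O : (Z S i).Opens)
    (h : pr S i ⁻¹ᵁ PrimeSpectrum.basicOpen c ≤ pr S i ⁻¹ᵁ O) :
    ∃ (j : ι) (hij : S i ≤ S j), tr S hij ⁻¹ᵁ PrimeSpectrum.basicOpen c ≤ tr S hij ⁻¹ᵁ O := by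
  obtain ⟨T, hT⟩ := (PrimeSpectrum.isClosed_iff_zeroLocus _).1 (O.isOpen.isClosed_compl)
  have hmem : (c : C) ∈ (Ideal.span ((S i).val '' T)).radical := by
    rw [Ideal.radical_eq_sInf]
    refine Submodule.mem_sInf.2 fun p ⟨hp, hpp⟩ => ?_
    by_contra hcp
    have hq : pr S i ⟨p, hpp⟩ ∈ O := h (show (⟨p, hpp⟩ : PrimeSpectrum C) ∈ pr S i ⁻¹ᵁ _ from hcp)
    apply (show pr S i ⟨p, hpp⟩ ∉ (O : Set (Z S i))ᶜ from fun h' => h' hq)
    rw [hT]
    exact fun t ht => hp (Ideal.subset_span ⟨t, ht, rfl⟩)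
  obtain ⟨n, hn⟩ := hmem
  obtain ⟨l, hl⟩ := (Submodule.mem_span_set).1 hn
  classical
  obtain ⟨j, hij, hj⟩ := exists_le_forall_mem hdir hcov i (l.support.image l)
  refine ⟨j, hij, fun q hq => ?_⟩
  by_contra hqO
  have hqT : tr S hij q ∈ PrimeSpectrum.zeroLocus (R := S i) T := hT ▸ hqO
  refine hq (PrimeSpectrum.isPrime q |>.mem_of_pow_mem n ?_)
  show Subalgebra.inclusion hij c ^ n ∈ PrimeSpectrum.asIdeal (R := S j) q
  have e : Subalgebra.inclusion hij c ^ n = ∑ m ∈ l.support.attach,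
      (⟨l m.1, hj _ (Finset.mem_image_of_mem l m.2)⟩ : S j) * ⟨m.1, by
        obtain ⟨t, -, ht⟩ := hl.1 (Finset.mem_coe.2 m.2)
        exact ht ▸ hij t.2⟩ := by
    apply Subtype.ext
    simp only [SubmonoidClass.coe_pow, AddSubmonoidClass.coe_finsetSum, MulMemClass.coe_mul]
    rw [Finset.sum_attach l.support (fun m => l m * m)]
    exact hl.2.symm
  rw [e]
  refine sum_mem fun m _ => Ideal.mul_mem_left _ _ ?_
  obtain ⟨t, ht, htm⟩ := hl.1 (Finset.mem_coe.2 m.2)
  have := hqT ht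
  change Subalgebra.inclusion hij t ∈ PrimeSpectrum.asIdeal (R := S j) q at this
  rwa [show (⟨m.1, _⟩ : S j) = Subalgebra.inclusion hij t from Subtype.ext htm.symm]

/-- Two lifts on a basic open agree at a later stage. -/
theorem exists_agree {g : Spec (CommRingCat.of C) ⟶ X} {i : ι} (c : S i)
    {a b : (bas S c).toScheme ⟶ X}
    (ha : IsLift S f g (PrimeSpectrum.basicOpen c) a) (hb : IsLift S f g (PrimeSpectrum.basicOpen c) b) :
    ∃ (j : ι) (hij : S i ≤ S j),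
      (tr S hij ∣_ PrimeSpectrum.basicOpen c) ≫ a = (tr S hij ∣_ PrimeSpectrum.basicOpen c) ≫ b := by
  let V : (Z S i).Opens := bas S c
  let O : X.affineOpens → (Z S i).Opens := fun U => V.ι ''ᵁ (a ⁻¹ᵁ U.1 ⊓ b ⁻¹ᵁ U.1)
  have hO : pr S i ⁻¹ᵁ V ≤ pr S i ⁻¹ᵁ (⨆ U, O U) := fun p hp => by
    have : g p ∈ (⊤ : X.Opens) := trivial
    rw [← iSup_affineOpens_eq_top X, Opens.mem_iSup] at this
    obtain ⟨U, hU⟩ := this
    refine Opens.mem_iSup.2 ⟨U, ⟨(pr S i ∣_ V) ⟨p, hp⟩, ⟨?_, ?_⟩, ?_⟩⟩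
    · show a ((pr S i ∣_ V) ⟨p, hp⟩) ∈ U.1
      rw [← Scheme.Hom.comp_apply, ha.2]; exact hU
    · show b ((pr S i ∣_ V) ⟨p, hp⟩) ∈ U.1
      rw [← Scheme.Hom.comp_apply, hb.2]; exact hU
    · exact morphismRestrict_base_coe (pr S i) V ⟨p, hp⟩
  obtain ⟨j, hij, hj⟩ := exists_preimage_le hdir hcov c _ hO
  refine ⟨j, hij, hom_ext_opens (fun U => tr S hij ⁻¹ᵁ O U)
    (fun U => (tr S hij).preimage_mono (V.ι_image_le _)) ?_ _ _ fun U => ?_⟩
  · refine hj.trans ?_
    rw [Scheme.Hom.preimage_iSup]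
  have h₁ : (Z S j).homOfLE ((tr S hij).preimage_mono (V.ι_image_le (a ⁻¹ᵁ U.1 ⊓ b ⁻¹ᵁ U.1))) ≫ (tr S hij ∣_ V) =
      (tr S hij ∣_ O U) ≫ (Z S i).homOfLE (V.ι_image_le _) := by
    rw [← cancel_mono V.ι]; simp [O]
  rw [reassoc_of% h₁, reassoc_of% h₁]
  congr 1
  have hmem : ∀ z : (O U).toScheme,
      ((Z S i).homOfLE (V.ι_image_le _) ≫ a) z ∈ U.1 ∧ ((Z S i).homOfLE (V.ι_image_le _) ≫ b) z ∈ U.1 := by
    rintro ⟨z, ⟨w, hw, rfl⟩⟩
    have : (Z S i).homOfLE (V.ι_image_le _) ⟨V.ι w, ⟨w, hw, rfl⟩⟩ = w := Subtype.ext (by simp)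
    refine ⟨?_, ?_⟩ <;> rw [Scheme.Hom.comp_apply] <;> erw [this]
    · exact hw.1
    · exact hw.2
  have r₁ : Set.range ((Z S i).homOfLE (V.ι_image_le _) ≫ a : (O U).toScheme ⟶ X) ⊆ Set.range U.1.ι := by
    rintro _ ⟨z, rfl⟩; rw [Scheme.Opens.range_ι]; exact (hmem z).1
  have r₂ : Set.range ((Z S i).homOfLE (V.ι_image_le _) ≫ b : (O U).toScheme ⟶ X) ⊆ Set.range U.1.ι := by
    rintro _ ⟨z, rfl⟩; rw [Scheme.Opens.range_ι]; exact (hmem z).2
  haveI : IsAffine U.1.toScheme := U.2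
  rw [← IsOpenImmersion.lift_fac U.1.ι _ r₁, ← IsOpenImmersion.lift_fac U.1.ι _ r₂]
  congr 1
  refine hom_ext_affine S _ _ ?_
  rw [← cancel_mono U.1.ι, Category.assoc, Category.assoc, IsOpenImmersion.lift_fac, IsOpenImmersion.lift_fac,
    (ha.restrict _).2, (hb.restrict _).2]

/-- Local lifts exist. -/
theorem exists_lift [LocallyOfFiniteType f] {g : Spec (CommRingCat.of C) ⟶ X}
    (hg : g ≫ f = Spec.map (CommRingCat.ofHom (algebraMap A C))) (p : Spec (CommRingCat.of C)) :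
    ∃ (i : ι) (c : S i) (a : (bas S c).toScheme ⟶ X),
      p ∈ pr S i ⁻¹ᵁ PrimeSpectrum.basicOpen c ∧ IsLift S f g (PrimeSpectrum.basicOpen c) a := by
  obtain ⟨_, ⟨U, hU, rfl⟩, hpU, -⟩ :=
    X.isBasis_affineOpens.exists_subset_of_mem_open (Set.mem_univ (g p)) isOpen_univ
  obtain ⟨_, ⟨c, rfl⟩, hpc, hc⟩ := PrimeSpectrum.isTopologicalBasis_basic_opens.exists_subset_of_mem_open
    (show p ∈ (g ⁻¹ᵁ U : Set _) from hpU) (g ⁻¹ᵁ U).isOpen
  let D : (Spec (CommRingCat.of C)).Opens := PrimeSpectrum.basicOpen c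
  let φ : Γ(X, U) ⟶ Γ(Spec (CommRingCat.of C), D) := g.appLE U D hc
  classical
  have hft := f.finiteType_appLE (U := ⊤) (V := U) (isAffineOpen_top _) hU le_top
  algebraize [(f.appLE ⊤ U le_top).hom]
  obtain ⟨s, hs⟩ := hft.out
  choose y z hy using fun x : Γ(X, U) => exists_mul_pow (CommRingCat.of C) c (φ x)
  obtain ⟨i₀, hi₀⟩ := hcov c
  obtain ⟨i, hi, hiy⟩ := exists_le_forall_mem hdir hcov i₀ (s.image z)
  let c' : S i := ⟨c, hi hi₀⟩
  let V : (Z S i).Opens := bas S c'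
  have hV : pr S i ⁻¹ᵁ V = D := rfl
  let ψ : Γ(Z S i, V) ⟶ Γ(Spec (CommRingCat.of C), D) := (pr S i).appLE V D hV.ge
  have hV' : IsAffineOpen V := IsAffineOpen.Spec_basicOpen (R := CommRingCat.of (S i)) c'
  have hψ : Function.Injective ψ.hom := by
    intro x z hxz
    exact (pr S i).app_injective V (by rw [Scheme.Hom.app_eq_appLE]; exact hxz)
  have hψC : ∀ x : S i, ψ.hom (res (CommRingCat.of (S i)) V x) = res (CommRingCat.of C) D (x : C) := fun x =>
    ConcreteCategory.congr_hom (res_appLE (CommRingCat.ofHom (S i).val.toRingHom) V D hV.ge) x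
  have hrange : ∀ x, φ.hom x ∈ ψ.hom.range := by
    let T : Subalgebra Γ(Spec (CommRingCat.of A), ⊤) Γ(X, U) :=
      { ψ.hom.range.comap φ.hom with
        algebraMap_mem' := fun r => ⟨(str S i).appLE ⊤ V le_top r, by
          show ((str S i).appLE ⊤ V le_top ≫ ψ) r = (f.appLE ⊤ U le_top ≫ φ) r
          simp only [ψ, φ, Scheme.Hom.appLE_comp_appLE]
          congr 3
          rw [hg, ← Spec.map_comp]; rfl⟩ }
    suffices T = ⊤ from fun x => this.ge (Algebra.mem_top (x := x))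
    rw [eq_top_iff, ← hs, Algebra.adjoin_le_iff]
    intro x hx
    have hamem : z x ∈ S i := hiy _ (Finset.mem_image_of_mem _ hx)
    obtain ⟨v, hv⟩ := (isUnit_res (CommRingCat.of (S i)) c').pow (y x)
    refine ⟨res (CommRingCat.of (S i)) V ⟨_, hamem⟩ * v.inv, ?_⟩
    have hvu : ψ.hom v.val = res (CommRingCat.of C) D c ^ y x := by
      rw [hv, map_pow]
      exact congrArg (· ^ y x) (hψC c')
    show ψ.hom _ = φ.hom x
    rw [map_mul, hψC]
    show res (CommRingCat.of C) D (z x) * ψ.hom v.inv = _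
    rw [← hy x, mul_assoc, ← hvu, ← map_mul, v.val_inv, map_one, mul_one]
  choose θ hθ using hrange
  let θ' : Γ(X, U) ⟶ Γ(Z S i, V) := CommRingCat.ofHom
    { toFun := θ
      map_one' := hψ (by rw [hθ, map_one, map_one])
      map_mul' := fun x z => hψ (by rw [map_mul, hθ, hθ, hθ, map_mul])
      map_zero' := hψ (by rw [hθ, map_zero, map_zero])
      map_add' := fun x z => hψ (by rw [map_add, hθ, hθ, hθ, map_add]) }
  let a : V.toScheme ⟶ X := hV'.isoSpec.hom ≫ Spec.map θ' ≫ hU.fromSpec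
  have ha₂ : (pr S i ∣_ V) ≫ a = (pr S i ⁻¹ᵁ V).ι ≫ g := by
    have hD : IsAffineOpen D := IsAffineOpen.Spec_basicOpen c
    have e : θ' ≫ ψ = φ := CommRingCat.hom_ext (RingHom.ext hθ)
    rw [← cancel_epi hD.isoSpec.inv]
    calc hD.isoSpec.inv ≫ (pr S i ∣_ V) ≫ a
        = Spec.map ψ ≫ Spec.map θ' ≫ hU.fromSpec := by
          have h₀ : hD.isoSpec.inv ≫ (pr S i ∣_ V) = Spec.map ψ ≫ hV'.isoSpec.inv := by
            rw [← cancel_mono V.ι, Category.assoc, Category.assoc, morphismRestrict_ι,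
              IsAffineOpen.isoSpec_inv_ι, IsAffineOpen.SpecMap_appLE_fromSpec (pr S i) hV' hD hV.ge]
            exact IsAffineOpen.isoSpec_inv_ι_assoc _ _
          rw [reassoc_of% h₀]; simp [a]
      _ = Spec.map φ ≫ hU.fromSpec := by rw [← e, Spec.map_comp, Category.assoc]
      _ = hD.isoSpec.inv ≫ D.ι ≫ g := by
          rw [IsAffineOpen.SpecMap_appLE_fromSpec g hU hD hc, IsAffineOpen.isoSpec_inv_ι_assoc]
  refine ⟨i, c', a, hpc, ?_, ha₂⟩
  refine hom_ext_affine S _ _ ?_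
  rw [reassoc_of% ha₂, hg, morphismRestrict_ι_assoc, ← Spec.map_comp]
  rfl

end


open AlgebraicGeometry CategoryTheory in
/-- Let A be a commutative ring, X a scheme of finite type over Spec A (quasi-compact and locally of
finite type), C an A-algebra that is an integral domain and the union of a directed family of
A-subalgebras C_i, and g : Spec C → X an A-morphism. Then for some index i there is an A-morphism
Spec C_i → X whose composite with the morphism Spec C → Spec C_i induced by the inclusion is g. The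
published statement asserts that the map from the colimit of the sets of A-morphisms Spec C_i → X to
the set of A-morphisms Spec C → X is bijective; this row states only that it is surjective
(injectivity holds for every filtered colimit of A-algebras). -/
theorem result
    {ι : Type u} (A C : Type u) [CommRing A] [CommRing C] [Algebra A C] [IsDomain C]
    (S : ι → Subalgebra A C) (hdir : Directed (· ≤ ·) S) (hcov : ∀ c : C, ∃ i, c ∈ S i)
    (X : Scheme.{u}) (f : X ⟶ Spec (CommRingCat.of A))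
    [LocallyOfFiniteType f] [QuasiCompact f]
    (g : Spec (CommRingCat.of C) ⟶ X)
    (hg : g ≫ f = Spec.map (CommRingCat.ofHom (algebraMap A C))) :
    ∃ (i : ι) (g' : Spec (CommRingCat.of (S i)) ⟶ X),
      g' ≫ f = Spec.map (CommRingCat.ofHom (algebraMap A (S i))) ∧
      Spec.map (CommRingCat.ofHom (S i).val.toRingHom) ≫ g' = g := by
  classical
  choose i c a hp ha using exists_lift (f := f) hdir hcov hg
  let U : Spec (CommRingCat.of C) → Set (Spec (CommRingCat.of C)) := fun p =>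
    ((pr S (i p) ⁻¹ᵁ bas S (c p)) : Set _)
  obtain ⟨s, hs⟩ := CompactSpace.isCompact_univ.elim_finite_subcover U
    (fun p => (pr S (i p) ⁻¹ᵁ bas S (c p)).isOpen) (fun p _ => Set.mem_iUnion.2 ⟨p, hp p⟩)
  obtain ⟨i₁, -⟩ := hcov 0
  haveI : Nonempty ι := ⟨i₁⟩
  obtain ⟨i₀, hi₀⟩ := hdir.finset_le (s.image i)
  have hle : ∀ p : s, S (i p.1) ≤ S i₀ := fun p => hi₀ _ (Finset.mem_image_of_mem i p.2)
  let e : s → S i₀ := fun p => Subalgebra.inclusion (hle p) (c p.1)
  let a₀ : ∀ p : s, (bas S (e p)).toScheme ⟶ X := fun p =>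
    (tr S (hle p) ∣_ bas S (c p.1)) ≫ a p.1
  have ha₀ : ∀ p, IsLift S f g (bas S (e p)) (a₀ p) := fun p => (ha p.1).raise (hle p)
  have hagree : ∀ x : s × s, ∃ (j : ι) (hj : S i₀ ≤ S j),
      (tr S hj ∣_ bas S (e x.1 * e x.2)) ≫
        (Z S i₀).homOfLE (show bas S (e x.1 * e x.2) ≤ bas S (e x.1) from PrimeSpectrum.basicOpen_mul_le_left _ _) ≫ a₀ x.1 =
      (tr S hj ∣_ bas S (e x.1 * e x.2)) ≫
        (Z S i₀).homOfLE (show bas S (e x.1 * e x.2) ≤ bas S (e x.2) from PrimeSpectrum.basicOpen_mul_le_right _ _) ≫ a₀ x.2 := fun x =>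
    exists_agree hdir hcov _ ((ha₀ x.1).restrict _) ((ha₀ x.2).restrict _)
  choose J hJ hJe using hagree
  obtain ⟨j₁, hj₁, hcov₁⟩ := exists_preimage_le (S := S) hdir hcov (1 : S i₀)
    (⨆ p, bas S (e p)) (fun q _ => by
      obtain ⟨p, hps, hq⟩ := Set.mem_iUnion₂.1 (hs (Set.mem_univ q))
      exact Opens.mem_iSup.2 ⟨⟨p, hps⟩, hq⟩)
  obtain ⟨j, hj⟩ := hdir.finset_le (insert i₀ (insert j₁ (Finset.univ.image J)))
  have hij : S i₀ ≤ S j := hj _ (Finset.mem_insert_self _ _)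
  let V : s → (Z S j).Opens := fun p => tr S hij ⁻¹ᵁ bas S (e p)
  have hVcov : IsOpenCover V := by
    rw [IsOpenCover, eq_top_iff]
    intro q _
    have h1 := hcov₁ (show tr S (hj _ (Finset.mem_insert_of_mem (Finset.mem_insert_self _ _))) q ∈
      tr S hj₁ ⁻¹ᵁ PrimeSpectrum.basicOpen (1 : S i₀) from by
        show _ ∈ PrimeSpectrum.basicOpen (1 : S i₀); rw [PrimeSpectrum.basicOpen_one]; trivial)
    obtain ⟨p, hp'⟩ := Opens.mem_iSup.1 h1
    exact Opens.mem_iSup.2 ⟨p, hp'⟩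
  let 𝒲 := (Z S j).openCoverOfIsOpenCover V hVcov
  let b : ∀ p : s, (V p).toScheme ⟶ X := fun p => (tr S hij ∣_ _) ≫ a₀ p
  have hb : ∀ p, IsLift S f g (V p) (b p) := fun p => (ha₀ p).raise hij
  have hov : ∀ p q, (Z S j).homOfLE inf_le_left ≫ b p = (Z S j).homOfLE (inf_le_right : V p ⊓ V q ≤ V q) ≫ b q := by
    intro p q
    have hJj : S (J (p, q)) ≤ S j := hj _ (Finset.mem_insert_of_mem (Finset.mem_insert_of_mem
      (Finset.mem_image_of_mem J (Finset.mem_univ _))))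
    have H : V p ⊓ V q ≤ tr S hJj ⁻¹ᵁ tr S (hJ (p, q)) ⁻¹ᵁ bas S (e p * e q) := by
      rw [← Scheme.Hom.comp_preimage, tr_tr]
      exact fun x hx => (PrimeSpectrum.basicOpen_mul (e p) (e q)).ge hx
    have h := congrArg (fun m => (Z S j).homOfLE H ≫ (tr S hJj ∣_ _) ≫ m) (hJe (p, q))
    have k₁ : (Z S j).homOfLE H ≫ (tr S hJj ∣_ _) ≫ (tr S (hJ (p, q)) ∣_ _) ≫
        (Z S i₀).homOfLE (PrimeSpectrum.basicOpen_mul_le_left (e p) (e q)) =
        (Z S j).homOfLE inf_le_left ≫ (tr S hij ∣_ bas S (e p)) := by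
      rw [← cancel_mono (bas S (e p)).ι]
      simp only [V, Category.assoc, morphismRestrict_ι, morphismRestrict_ι_assoc, Scheme.homOfLE_ι, Scheme.homOfLE_ι_assoc, tr_tr]
    have k₂ : (Z S j).homOfLE H ≫ (tr S hJj ∣_ _) ≫ (tr S (hJ (p, q)) ∣_ _) ≫
        (Z S i₀).homOfLE (PrimeSpectrum.basicOpen_mul_le_right (e p) (e q)) =
        (Z S j).homOfLE (inf_le_right : V p ⊓ V q ≤ V q) ≫ (tr S hij ∣_ bas S (e q)) := by
      rw [← cancel_mono (bas S (e q)).ι]
      simp only [V, Category.assoc, morphismRestrict_ι, morphismRestrict_ι_assoc, Scheme.homOfLE_ι, Scheme.homOfLE_ι_assoc, tr_tr]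
    simp only [b]
    rw [← reassoc_of% k₁, ← reassoc_of% k₂]
    exact h
  let G := 𝒲.glueMorphisms b fun p q => by
    rw [← cancel_epi (isPullback_opens_inf (V p) (V q)).isoPullback.hom]
    erw [IsPullback.isoPullback_hom_fst_assoc, IsPullback.isoPullback_hom_snd_assoc]
    exact hov p q
  have hG : ∀ p, (V p).ι ≫ G = b p := fun p => Scheme.Cover.ι_glueMorphisms ..
  refine ⟨j, G, 𝒲.hom_ext _ _ fun p => ?_, ?_⟩
  · show (V p).ι ≫ G ≫ f = (V p).ι ≫ _
    rw [reassoc_of% hG p]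
    exact (hb p).1
  · refine ((Spec (CommRingCat.of C)).openCoverOfIsOpenCover (fun p => pr S j ⁻¹ᵁ V p)
      (hVcov.comap (pr S j).base.hom)).hom_ext _ _ fun p => ?_
    show (pr S j ⁻¹ᵁ V p).ι ≫ pr S j ≫ G = (pr S j ⁻¹ᵁ V p).ι ≫ g
    rw [← morphismRestrict_ι_assoc, hG p]
    exact (hb p).2

end Groth.Agent.S16219
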