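import Groth.Statements.S16231
import Groth.Agent.MorseLib.Hessian

set_option autoImplicit false
universe u
open VanCyc

namespace Groth.Agent.S16231

/-- Let A be a local ring with maximal ideal m that is separated and complete for the m-adic topology (A
is not assumed Noetherian), n a natural number, q an n × n coefficient table over A whose quadratic
form Q(x) = Σ_{i≤j} q_ij x_i x_j is non-degenerate (unit Gram determinant of the polar bilinear
form), a and ℓ_1, …, ℓ_n elements of m, and F a formal power series in x_1, …, x_n over A whose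
coefficients in total degree at most 2 agree with those of a + Σ ℓ_i x_i + Q(x). Then there are an
element a' of m and a non-degenerate coefficient table q' such that A[[x]]/(F) and A[[x]]/(Q'(x) +
a') are isomorphic as A-algebras, Q' the quadratic form of q'. -/
theorem result
    (A : Type u) [CommRing A] [IsLocalRing A]
    [IsAdicComplete (IsLocalRing.maximalIdeal A) A] (n : ℕ)
    (q : Fin n → Fin n → A) (hq : VanCyc.QuadNondeg q)
    (a : A) (ha : a ∈ IsLocalRing.maximalIdeal A)
    (ℓ : Fin n → A) (hℓ : ∀ i, ℓ i ∈ IsLocalRing.maximalIdeal A)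
    (F : MvPowerSeries (Fin n) A)
    (hF : ∀ e : Fin n →₀ ℕ, e.degree ≤ 2 →
      MvPowerSeries.coeff e F = MvPowerSeries.coeff e ((VanCyc.quadPoly q + ∑ i, MvPolynomial.C (ℓ i) * MvPolynomial.X i + MvPolynomial.C a : MvPolynomial (Fin n) A) : MvPowerSeries (Fin n) A)) :
    ∃ (a' : A) (q' : Fin n → Fin n → A), a' ∈ IsLocalRing.maximalIdeal A ∧ VanCyc.QuadNondeg q' ∧
      Nonempty ((MvPowerSeries (Fin n) A ⧸ Ideal.span {F}) ≃ₐ[A]
        (MvPowerSeries (Fin n) A ⧸ Ideal.span {((VanCyc.quadPoly q' + MvPolynomial.C a' : MvPolynomial (Fin n) A) : MvPowerSeries (Fin n) A)})) := by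
  classical
  let m := IsLocalRing.maximalIdeal A
  set G := F - ((VanCyc.quadPoly q + MvPolynomial.C a : MvPolynomial (Fin n) A) : MvPowerSeries (Fin n) A) with hGdef
  have hco : ∀ e : Fin n →₀ ℕ, e.degree ≤ 2 →
      MvPowerSeries.coeff e G = MvPolynomial.coeff e (∑ i, MvPolynomial.C (ℓ i) * MvPolynomial.X i) := fun e he => by
    rw [hGdef, map_sub, hF e he, MvPolynomial.coeff_coe, MvPolynomial.coeff_coe,
      MvPolynomial.coeff_add, MvPolynomial.coeff_add, MvPolynomial.coeff_add]
    ring
  have hlin : ∀ e : Fin n →₀ ℕ, MvPolynomial.coeff e (∑ i, MvPolynomial.C (ℓ i) * MvPolynomial.X i) =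
      ∑ i, if Finsupp.single i 1 = e then ℓ i else 0 := fun e => by
    rw [MvPolynomial.coeff_sum]
    refine Finset.sum_congr rfl fun i _ => ?_
    rw [MvPolynomial.X, MvPolynomial.C_mul_monomial, mul_one, MvPolynomial.coeff_monomial]
  have hG : G ∈ MorseLib.Low m (2 + 1) := fun e => by
    by_cases he : e.degree ≤ 2
    · rw [hco e he, hlin]
      refine Submodule.sum_mem _ fun i _ => ?_
      split_ifs with h
      · subst h
        rw [Finsupp.degree_single]
        simpa [m] using hℓ i
      · exact zero_mem _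
    · rw [show (2 + 1 - e.degree + 1) / 2 = 0 by omega]; simp
  have hG0 : MvPowerSeries.constantCoeff G = 0 := by
    rw [← MvPowerSeries.coeff_zero_eq_constantCoeff, hco 0 (by simp), hlin]
    simp
  obtain ⟨ε, c, hε1, hε, hc, heq⟩ := MorseLib.exists_eps q hq a le_rfl G hG hG0
  rw [hGdef, add_sub_cancel] at heq
  exact ⟨a - c, q, sub_mem ha (Ideal.pow_le_self two_ne_zero hc), hq,
    MorseLib.quotient_equiv le_rfl ε hε _ _ heq⟩

end Groth.Agent.S16231
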