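import Groth.Statements.S16233
import Mathlib

-- import your own Groth.Agent.* helpers here

set_option autoImplicit false
open NCTr

namespace Groth.Agent.S16233

/-- Let Λ be a ring, not necessarily commutative, G a finite group, P a left Λ[G]-module with a finite
Λ[G]-basis b, regarded also as a Λ-module by restriction of scalars and equipped with any finite
Λ-basis c, and u a Λ[G]-linear endomorphism of P with diagonal matrix entries u_ii = (b.repr (u (b
i))) i in Λ[G]. Then the trace of u as a Λ-linear endomorphism, taken in Λ modulo additive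
commutators with respect to c, equals |G| times the class of the sum over i of the coefficients of
the identity element of G in the u_ii (that sum of coefficients is the value at the identity class
of the Λ[G]-trace of u, the G-trace of u). The source states this for P finitely generated
projective over Λ[G]; this row is the free case. -/
theorem result
    (Λ : Type*) [Ring Λ] (G : Type*) [Group G] [Fintype G]
    (P : Type*) [AddCommGroup P] [Module Λ P] [Module (MonoidAlgebra Λ G) P]
    [IsScalarTower Λ (MonoidAlgebra Λ G) P]
    {ι κ : Type*} [Fintype ι] [Fintype κ]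
    (b : Module.Basis ι (MonoidAlgebra Λ G) P) (c : Module.Basis κ Λ P)
    (u : P →ₗ[MonoidAlgebra Λ G] P) :
    NCTr.hsTrace c (u.restrictScalars Λ) =
      Fintype.card G • ∑ i, (QuotientAddGroup.mk ((b.repr (u (b i)) i).coeff 1) : NCTr.Abel Λ) := by
  classical
  let b' : Module.Basis (G × ι) Λ P := (MonoidAlgebra.basis G Λ).smulTower b
  let v : P →ₗ[Λ] P := u.restrictScalars Λ
  have hcomm : ∀ x y : Λ, (QuotientAddGroup.mk (x * y) : NCTr.Abel Λ) = QuotientAddGroup.mk (y * x) := fun x y =>
    QuotientAddGroup.eq_iff_sub_mem.2 (AddSubgroup.subset_closure ⟨x, y, rfl⟩)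
  have hindep : ∀ {α : Type _} [Fintype α] (d : Module.Basis α Λ P), NCTr.hsTrace c v = NCTr.hsTrace d v := by
    intro α _ d
    let q : Λ →+ NCTr.Abel Λ := QuotientAddGroup.mk' _
    change ∑ i, q (c.repr (v (c i)) i) = ∑ l, q (d.repr (v (d l)) l)
    have e1 : ∀ i, c.repr (v (c i)) i = ∑ j, ∑ l, d.repr (c i) j * (d.repr (v (d j)) l * c.repr (d l) i) := fun i => by
      conv_lhs => rw [← d.sum_repr (c i), map_sum, map_sum, Finsupp.finsetSum_apply]
      refine Finset.sum_congr rfl fun j _ => ?_
      rw [map_smul, map_smul, Finsupp.smul_apply, smul_eq_mul, ← Finset.mul_sum]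
      congr 1
      conv_lhs => rw [← d.sum_repr (v (d j)), map_sum, Finsupp.finsetSum_apply]
      simp
    have e2 : ∀ j, d.repr (v (d j)) j = ∑ l, ∑ i, d.repr (v (d j)) l * c.repr (d l) i * d.repr (c i) j := fun j => by
      have hA : ∀ l, ∑ i, c.repr (d l) i * d.repr (c i) j = d.repr (d l) j := fun l => by
        conv_rhs => rw [← c.sum_repr (d l), map_sum, Finsupp.finsetSum_apply]
        simp
      simp_rw [mul_assoc, ← Finset.mul_sum, hA, d.repr_self, Finsupp.single_apply]
      simp
    simp_rw [e1, e2, map_sum]
    rw [Finset.sum_comm]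
    refine Finset.sum_congr rfl fun j _ => ?_
    rw [Finset.sum_comm]
    exact Finset.sum_congr rfl fun l _ => Finset.sum_congr rfl fun i _ => hcomm _ _
  rw [hindep b']
  unfold NCTr.hsTrace
  rw [Fintype.sum_prod_type]
  rw [show Fintype.card G = (Finset.univ : Finset G).card from rfl, ← Finset.sum_const]
  refine Finset.sum_congr rfl fun g _ => Finset.sum_congr rfl fun i _ => congrArg _ ?_
  simp only [b', v, Module.Basis.smulTower_repr, Module.Basis.smulTower_apply, MonoidAlgebra.basis_apply, LinearMap.restrictScalars_apply, map_smul, Finsupp.smul_apply, smul_eq_mul]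
  change (MonoidAlgebra.single g (1 : Λ) * (b.repr (u (b i))) i).coeff g = _
  rw [MonoidAlgebra.coeff_single_mul_apply, inv_mul_cancel, one_mul]

end Groth.Agent.S16233
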