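import Groth.Statements.S16236
import Groth.Agent.CycKSuppLib.Main
import Groth.Agent.KHeartLib.Classes
-- import your own Groth.Agent.* helpers here

set_option autoImplicit false
universe u
open CategoryTheory CategoryTheory.Limits AlgebraicGeometry
attribute [local instance] HasDerivedCategory.standard
open SGA6

namespace Groth.Agent.S16236

/-- Let X be a Noetherian scheme and i : X' ⟶ X a closed immersion which is surjective on points (a
closed subscheme with the same underlying space, such as X_red ⊂ X). Direct image along i is exact
and preserves coherence (instance hypotheses and hypothesis hi); the induced homomorphism K₀(Coh X')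
⟶ K₀(Coh X) between the Grothendieck groups of coherent modules is bijective. (The published
statement is the case X' = X_red; this row takes any closed immersion that is surjective on points.) -/
theorem result {X X' : Scheme.{u}} [IsNoetherian X]
    (i : X' ⟶ X) [IsClosedImmersion i] [Surjective i]
    [(Scheme.Modules.pushforward i).Additive] [PreservesFiniteLimits (Scheme.Modules.pushforward i)]
    [PreservesFiniteColimits (Scheme.Modules.pushforward i)]
    (hi : ∀ M : X'.Modules, Coh.IsCoh M → Coh.IsCoh ((Scheme.Modules.pushforward i).obj M)) :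
    Function.Bijective (SGA6.mapSub (Scheme.Modules.pushforward i) (fun M : (X').Modules => Coh.IsCoh M)
      (fun M : (X).Modules => Coh.IsCoh M) hi) := by
  obtain ⟨φ, hφ⟩ := CycKSuppLib.exists_equiv i
  have e1 : (CycK0Lib.P fun _ : X' => True) = (fun M : X'.Modules => Coh.IsCoh M) :=
    funext fun M => propext ⟨fun h => h.1, fun h => ⟨h, fun _ _ => trivial⟩⟩
  have e2 : (CycK0Lib.P fun x : X => x ∈ Set.range ⇑i) = (fun M : X.Modules => Coh.IsCoh M) :=
    funext fun M => propext ⟨fun h => h.1, fun h => ⟨h, fun x _ => i.surjective x⟩⟩
  have key : ∀ (P P' : ObjectProperty X'.Modules) (Q Q' : ObjectProperty X.Modules), P = P' → Q = Q' →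
      ∀ e : KZero.K0sub P ≃+ KZero.K0sub Q, (∀ F, P F → e (KZero.clSub P F) = KZero.clSub Q ((Scheme.Modules.pushforward i).obj F)) →
      ∀ g : KZero.K0sub P' →+ KZero.K0sub Q', (∀ F, P' F → g (KZero.clSub P' F) = KZero.clSub Q' ((Scheme.Modules.pushforward i).obj F)) →
      Function.Bijective g := by
    rintro P _ Q _ rfl rfl e he g hg
    have : g = e.toAddMonoidHom := AddMonoidHom.eq_of_eqOn_dense
      (Groth.Agent.KHeartLib.clSub_closure_eq_top P) (by rintro _ ⟨F, hF, rfl⟩; exact (hg F hF).trans (he F hF).symm)
    rw [this]
    exact e.bijective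
  refine key _ _ _ _ e1 e2 φ (fun F hF => hφ F hF.1) _ fun F hF => ?_
  rw [Groth.Agent.KHeartLib.clSub_of _ hF, Groth.Agent.KHeartLib.clSub_of _ (hi F hF)]
  simp [SGA6.mapSub, SGA6.objMap, FreeAbelianGroup.map_of_apply]

end Groth.Agent.S16236
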