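import Groth.Statements.S16237
import Groth.Agent.CohGenLib.Line
import Groth.Agent.CohGenLib.Localization

set_option autoImplicit false
universe u
open CategoryTheory CategoryTheory.Limits AlgebraicGeometry
attribute [local instance] HasDerivedCategory.standard
open SGA6

namespace Groth.Agent.S16237

/-- Let X be a Noetherian scheme, 𝔸¹_X the affine line over X with coordinate t, and j : U ⟶ 𝔸¹_X an
open immersion whose image is the open subset D(t) where t is invertible (so U is X × Spec ℤ[t,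
t⁻¹]). Restriction along j is exact and preserves coherence (instance hypothesis and hypothesis hj);
the induced homomorphism K₀(Coh 𝔸¹_X) ⟶ K₀(Coh U) between Grothendieck groups of coherent modules is
bijective. -/
theorem result (X : Scheme.{u}) [IsNoetherian X] {U : Scheme.{u}}
    (j : U ⟶ 𝔸(ULift.{u} (Fin 1); X)) [IsOpenImmersion j]
    (hU : Set.range j = ((𝔸(ULift.{u} (Fin 1); X)).basicOpen (AffineSpace.coord X (ULift.up (0 : Fin 1))) : Set (𝔸(ULift.{u} (Fin 1); X))))
    [PreservesFiniteLimits (Scheme.Modules.restrictFunctor j)]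
    (hj : ∀ M : (𝔸(ULift.{u} (Fin 1); X)).Modules, Coh.IsCoh M → Coh.IsCoh ((Scheme.Modules.restrictFunctor j).obj M)) :
    Function.Bijective (SGA6.mapSub (Scheme.Modules.restrictFunctor j) (fun M : (𝔸(ULift.{u} (Fin 1); X)).Modules => Coh.IsCoh M)
      (fun M : (U).Modules => Coh.IsCoh M) hj) := by
  haveI : IsNoetherian (𝔸(ULift.{u} (Fin 1); X)) :=
    { toIsLocallyNoetherian := LocallyOfFiniteType.isLocallyNoetherian (𝔸(ULift.{u} (Fin 1); X) ↘ X)
      toCompactSpace := QuasiCompact.compactSpace_of_compactSpace (𝔸(ULift.{u} (Fin 1); X) ↘ X) }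
  haveI : IsLocallyNoetherian U := LocallyOfFiniteType.isLocallyNoetherian j
  let Z : TopologicalSpace.Closeds (𝔸(ULift.{u} (Fin 1); X)) :=
    ⟨((𝔸(ULift.{u} (Fin 1); X)).basicOpen (AffineSpace.coord X (ULift.up (0 : Fin 1))) : Set (𝔸(ULift.{u} (Fin 1); X)))ᶜ,
      ((𝔸(ULift.{u} (Fin 1); X)).basicOpen _).isOpen.isClosed_compl⟩
  let i := (Scheme.IdealSheafData.vanishingIdeal Z).subschemeι
  have hr : Set.range ⇑i = (Z : Set (𝔸(ULift.{u} (Fin 1); X))) := by
    rw [Scheme.IdealSheafData.range_subschemeι, Scheme.IdealSheafData.coe_support_vanishingIdeal]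
  have hU' : Set.range j = (Set.range i)ᶜ := by
    rw [hr]
    exact hU.trans (compl_compl _).symm
  haveI : IsLocallyNoetherian (Scheme.IdealSheafData.vanishingIdeal Z).subscheme :=
    LocallyOfFiniteType.isLocallyNoetherian i
  haveI := ProjClosedImmLib.preservesHomology_push i
  haveI : PreservesFiniteLimits (Scheme.Modules.pushforward i) := Functor.preservesFiniteLimits_of_preservesHomology _
  haveI : PreservesFiniteColimits (Scheme.Modules.pushforward i) := Functor.preservesFiniteColimits_of_preservesHomology _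
  have hi : ∀ M, Coh.IsCoh M → Coh.IsCoh ((Scheme.Modules.pushforward i).obj M) :=
    fun M hM => QCohLib.isCoh_push_finite i M hM
  refine ⟨(injective_iff_map_eq_zero _).2 fun a ha => ?_, fun a => ?_⟩
  · obtain ⟨ψ, hψ⟩ := CohGenLib.exists_localized i j hi hU'
    obtain ⟨F, G, hF, hG, rfl⟩ := CohGenLib.exists_diff a
    have h := congrArg ψ ha
    rw [map_sub, map_sub, map_zero] at h
    erw [VBResLib.mapSub_clSub _ _ _ hj hF, VBResLib.mapSub_clSub _ _ _ hj hG] at h
    rw [hψ F hF, hψ G hG, ← QuotientAddGroup.mk_sub, QuotientAddGroup.eq_zero_iff] at h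
    obtain ⟨b, hb⟩ := h
    obtain ⟨M, N, hM, hN, rfl⟩ := CohGenLib.exists_diff b
    have hz : ∀ M, Coh.IsCoh M → CohGenLib.cl ((Scheme.Modules.pushforward i).obj M) = 0 := fun M hM =>
      CohGenLib.Line.cl_eq_zero (hi M hM) ((DevissLib.support_push_subset i M).trans hr.subset)
    rw [← hb, map_sub]
    erw [VBResLib.mapSub_clSub _ _ _ hi hM, VBResLib.mapSub_clSub _ _ _ hi hN]
    exact (congrArg₂ (· - ·) (hz M hM) (hz N hN)).trans (sub_self 0)
  · have hall : (⊤ : AddSubgroup (SGA6.Kcoh U)) ≤ (SGA6.mapSub (Scheme.Modules.restrictFunctor j)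
        (fun M : (𝔸(ULift.{u} (Fin 1); X)).Modules => Coh.IsCoh M) (fun M : (U).Modules => Coh.IsCoh M) hj).range := by
      rw [← Groth.Agent.KHeartLib.clSub_closure_eq_top, AddSubgroup.closure_le]
      rintro _ ⟨G, hG, rfl⟩
      obtain ⟨F, hF, ⟨e⟩⟩ := CohGenLib.exists_extension j hG
      exact ⟨CohGenLib.cl F, (VBResLib.mapSub_clSub _ _ _ hj hF).trans
        ((CohGenLib.addOn_cl (fun _ : U => True)).iso e (CohGenLib.mem_top (CohGenLib.isCoh_restrict j hF)))⟩
    exact hall (show a ∈ (⊤ : AddSubgroup (SGA6.Kcoh U)) from trivial)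

end Groth.Agent.S16237
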