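import Groth.Statements.S16242
import Groth.Agent.NodeK0Lib.Basic
import Mathlib


-- import your own Groth.Agent.* helpers here

set_option autoImplicit false
universe u
open CategoryTheory
open KZero

namespace Groth.Agent.S16242

/-- Let k be a field and A = k[x, y]/(xy) (polynomial ring in two variables x = X_0, y = X_1 modulo xy).
In the Grothendieck group of finitely generated A-modules (free abelian group on them modulo short
exact sequences), the classes of A/(x) ≅ k[y] and A/(y) ≅ k[x] form a basis: the homomorphism ℤ × ℤ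
⟶ K₀ sending (a, b) to a·[A/(x)] + b·[A/(y)] is bijective. -/
theorem result (k : Type u) [Field k] :
    Function.Bijective (fun p : ℤ × ℤ =>
      p.1 • KZero.clSub (fun M : ModuleCat.{u} (MvPolynomial (Fin 2) k ⧸ Ideal.span {(MvPolynomial.X 0 * MvPolynomial.X 1 : MvPolynomial (Fin 2) k)}) => Module.Finite (MvPolynomial (Fin 2) k ⧸ Ideal.span {(MvPolynomial.X 0 * MvPolynomial.X 1 : MvPolynomial (Fin 2) k)}) M)
          (ModuleCat.of (MvPolynomial (Fin 2) k ⧸ Ideal.span {(MvPolynomial.X 0 * MvPolynomial.X 1 : MvPolynomial (Fin 2) k)}) ((MvPolynomial (Fin 2) k ⧸ Ideal.span {(MvPolynomial.X 0 * MvPolynomial.X 1 : MvPolynomial (Fin 2) k)}) ⧸ Ideal.span {Ideal.Quotient.mk (Ideal.span {(MvPolynomial.X 0 * MvPolynomial.X 1 : MvPolynomial (Fin 2) k)}) (MvPolynomial.X 0)})) +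
        p.2 • KZero.clSub (fun M : ModuleCat.{u} (MvPolynomial (Fin 2) k ⧸ Ideal.span {(MvPolynomial.X 0 * MvPolynomial.X 1 : MvPolynomial (Fin 2) k)}) => Module.Finite (MvPolynomial (Fin 2) k ⧸ Ideal.span {(MvPolynomial.X 0 * MvPolynomial.X 1 : MvPolynomial (Fin 2) k)}) M)
          (ModuleCat.of (MvPolynomial (Fin 2) k ⧸ Ideal.span {(MvPolynomial.X 0 * MvPolynomial.X 1 : MvPolynomial (Fin 2) k)}) ((MvPolynomial (Fin 2) k ⧸ Ideal.span {(MvPolynomial.X 0 * MvPolynomial.X 1 : MvPolynomial (Fin 2) k)}) ⧸ Ideal.span {Ideal.Quotient.mk (Ideal.span {(MvPolynomial.X 0 * MvPolynomial.X 1 : MvPolynomial (Fin 2) k)}) (MvPolynomial.X 1)}))) := by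
  classical
  let I : Ideal (MvPolynomial (Fin 2) k) := Ideal.span {(MvPolynomial.X 0 * MvPolynomial.X 1 : MvPolynomial (Fin 2) k)}
  let π := Ideal.Quotient.mk I
  have key : ∀ (i j : Fin 2), i ≠ j →
      Nonempty (Polynomial k ≃+* ((MvPolynomial (Fin 2) k ⧸ I) ⧸ Ideal.span {π (MvPolynomial.X i)})) ∧
        π (MvPolynomial.X j) ∉ Ideal.span {π (MvPolynomial.X i)} := by
    intro i j hij
    let v : Fin 2 → Polynomial k := fun l => if l = j then Polynomial.X else 0
    have hv : v 0 * v 1 = 0 := by fin_cases i <;> fin_cases j <;> simp_all [v]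
    let ev : MvPolynomial (Fin 2) k →ₐ[k] Polynomial k := MvPolynomial.aeval v
    let ev1 : (MvPolynomial (Fin 2) k ⧸ I) →ₐ[k] Polynomial k := Ideal.Quotient.liftₐ I ev (by
      intro a ha
      obtain ⟨c, rfl⟩ := Ideal.mem_span_singleton'.1 ha
      simp [ev, hv])
    have hi : ev1 (π (MvPolynomial.X i)) = 0 := by
      show ev (MvPolynomial.X i) = 0
      simp [ev, v, hij]
    have hj : ev1 (π (MvPolynomial.X j)) = Polynomial.X := by
      show ev (MvPolynomial.X j) = _
      simp [ev, v]
    let B := (MvPolynomial (Fin 2) k ⧸ I) ⧸ Ideal.span {π (MvPolynomial.X i)}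
    let ev2 : B →ₐ[k] Polynomial k := Ideal.Quotient.liftₐ _ ev1 (by
      intro a ha
      obtain ⟨c, rfl⟩ := Ideal.mem_span_singleton'.1 ha
      rw [map_mul, hi, mul_zero])
    let ψ : Polynomial k →ₐ[k] B := Polynomial.aeval (Ideal.Quotient.mk _ (π (MvPolynomial.X j)))
    let q : MvPolynomial (Fin 2) k →ₐ[k] B :=
      (Ideal.Quotient.mkₐ k (Ideal.span {π (MvPolynomial.X i)})).comp (Ideal.Quotient.mkₐ k I)
    have hq : Function.Surjective q :=
      (Ideal.Quotient.mkₐ_surjective k _).comp (Ideal.Quotient.mkₐ_surjective k _)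
    have h2 : ψ.comp ev = q := by
      refine MvPolynomial.algHom_ext fun l => ?_
      by_cases hl : l = j
      · subst hl
        simp [ψ, ev, v, q]; rfl
      · have : l = i := by fin_cases i <;> fin_cases j <;> fin_cases l <;> simp_all
        subst this
        simp only [AlgHom.comp_apply, ev, MvPolynomial.aeval_X, v, if_neg hl, map_zero]
        exact (Ideal.Quotient.eq_zero_iff_mem.2 (Ideal.mem_span_singleton_self (π (MvPolynomial.X l)))).symm
    have hsurj : Function.Surjective ψ := fun b => by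
      obtain ⟨a, rfl⟩ := hq b
      exact ⟨ev a, AlgHom.congr_fun h2 a⟩
    have hinj : Function.Injective ψ := by
      have : ev2.comp ψ = AlgHom.id k _ := Polynomial.algHom_ext (by
        simp only [AlgHom.comp_apply, ψ, Polynomial.aeval_X, AlgHom.coe_id, id]
        exact hj)
      exact Function.LeftInverse.injective (g := ev2) fun p => AlgHom.congr_fun this p
    refine ⟨⟨RingEquiv.ofBijective ψ.toRingHom ⟨hinj, hsurj⟩⟩, fun h => ?_⟩
    obtain ⟨c, hc⟩ := Ideal.mem_span_singleton'.1 h
    have := congrArg ev1 hc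
    rw [map_mul, hi, hj, mul_zero] at this
    exact Polynomial.X_ne_zero this.symm
  obtain ⟨⟨e0⟩, hy⟩ := key 0 1 (by decide)
  obtain ⟨⟨e1⟩, hx⟩ := key 1 0 (by decide)
  haveI := e0.symm.toMulEquiv.isDomain (Polynomial k)
  haveI := e1.symm.toMulEquiv.isDomain (Polynomial k)
  haveI := IsPrincipalIdealRing.of_surjective e0.toRingHom e0.surjective
  haveI := IsPrincipalIdealRing.of_surjective e1.toRingHom e1.surjective
  exact NodeK0Lib.bijective (π (MvPolynomial.X 0)) (π (MvPolynomial.X 1))
    (by rw [← map_mul]; exact Ideal.Quotient.eq_zero_iff_mem.2 (Ideal.mem_span_singleton_self _)) hy hx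

end Groth.Agent.S16242
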