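import Groth.Statements.S16243
import Groth.Agent.AnnPairLib.Resolution


-- import your own Groth.Agent.* helpers here

set_option autoImplicit false
universe u
open CategoryTheory
open CAlg

namespace Groth.Agent.S16243

/-- Let k be a field, A = k[x, y]/(xy) (x = X_0, y = X_1) and κ = A/(x, y) the residue field at the
origin, viewed as an A-module. Then for every i ≥ 1 the A-module Tor_i^A(κ, κ) has length 2 (it is a
two-dimensional κ-vector space; Tor_0 is κ), and κ admits no finite projective resolution over A: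
for no n is its projective dimension less than n. -/
theorem result (k : Type u) [Field k] :
    (∀ i : ℕ, 1 ≤ i →
      Module.length (MvPolynomial (Fin 2) k ⧸ Ideal.span {(MvPolynomial.X 0 * MvPolynomial.X 1 : MvPolynomial (Fin 2) k)}) ((((Tor (ModuleCat.{u} (MvPolynomial (Fin 2) k ⧸ Ideal.span {(MvPolynomial.X 0 * MvPolynomial.X 1 : MvPolynomial (Fin 2) k)})) i).obj (ModuleCat.of (MvPolynomial (Fin 2) k ⧸ Ideal.span {(MvPolynomial.X 0 * MvPolynomial.X 1 : MvPolynomial (Fin 2) k)}) ((MvPolynomial (Fin 2) k ⧸ Ideal.span {(MvPolynomial.X 0 * MvPolynomial.X 1 : MvPolynomial (Fin 2) k)}) ⧸ Ideal.span {Ideal.Quotient.mk (Ideal.span {(MvPolynomial.X 0 * MvPolynomial.X 1 : MvPolynomial (Fin 2) k)}) (MvPolynomial.X 0), Ideal.Quotient.mk (Ideal.span {(MvPolynomial.X 0 * MvPolynomial.X 1 : MvPolynomial (Fin 2) k)}) (MvPolynomial.X 1)}))).obj (ModuleCat.of (MvPolynomial (Fin 2) k ⧸ Ideal.span {(MvPolynomial.X 0 * MvPolynomial.X 1 : MvPolynomial (Fin 2) k)}) ((MvPolynomial (Fin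 2) k ⧸ Ideal.span {(MvPolynomial.X 0 * MvPolynomial.X 1 : MvPolynomial (Fin 2) k)}) ⧸ Ideal.span {Ideal.Quotient.mk (Ideal.span {(MvPolynomial.X 0 * MvPolynomial.X 1 : MvPolynomial (Fin 2) k)}) (MvPolynomial.X 0), Ideal.Quotient.mk (Ideal.span {(MvPolynomial.X 0 * MvPolynomial.X 1 : MvPolynomial (Fin 2) k)}) (MvPolynomial.X 1)}))) : Type u) = 2) ∧
    ∀ n : ℕ, ¬ HasProjectiveDimensionLT (ModuleCat.of (MvPolynomial (Fin 2) k ⧸ Ideal.span {(MvPolynomial.X 0 * MvPolynomial.X 1 : MvPolynomial (Fin 2) k)}) ((MvPolynomial (Fin 2) k ⧸ Ideal.span {(MvPolynomial.X 0 * MvPolynomial.X 1 : MvPolynomial (Fin 2) k)}) ⧸ Ideal.span {Ideal.Quotient.mk (Ideal.span {(MvPolynomial.X 0 * MvPolynomial.X 1 : MvPolynomial (Fin 2) k)}) (MvPolynomial.X 0), Ideal.Quotient.mk (Ideal.span {(MvPolynomial.X 0 * MvPolynomial.X 1 : MvPolynomial (Fin 2) k)}) (MvPolynomial.X 1)})) n := by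
  let S := MvPolynomial (Fin 2) k
  let I : Ideal S := Ideal.span {(MvPolynomial.X 0 * MvPolynomial.X 1 : S)}
  let A := S ⧸ I
  let a : A := Ideal.Quotient.mk I (MvPolynomial.X 0)
  let b : A := Ideal.Quotient.mk I (MvPolynomial.X 1)
  have hX : ∀ i, (MvPolynomial.X i : S) ≠ 0 := fun i => MvPolynomial.X_ne_zero i
  have h : AnnPairLib.IsNode a b := by
    refine ⟨?_, fun r hr => ?_, fun r hr => ?_, fun u v huv => ?_⟩
    · rw [← map_mul, Ideal.Quotient.eq_zero_iff_mem]; exact Ideal.mem_span_singleton_self _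
    · obtain ⟨f, rfl⟩ := Ideal.Quotient.mk_surjective r
      rw [← map_mul, Ideal.Quotient.eq_zero_iff_mem] at hr
      obtain ⟨c, hc⟩ := Ideal.mem_span_singleton.1 hr
      refine ⟨Ideal.Quotient.mk I c, ?_⟩
      rw [← map_mul]
      congr 1
      apply mul_right_cancel₀ (hX 1)
      rw [hc]; ring
    · obtain ⟨f, rfl⟩ := Ideal.Quotient.mk_surjective r
      rw [← map_mul, Ideal.Quotient.eq_zero_iff_mem] at hr
      obtain ⟨c, hc⟩ := Ideal.mem_span_singleton.1 hr
      refine ⟨Ideal.Quotient.mk I c, ?_⟩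
      rw [← map_mul]
      congr 1
      apply mul_right_cancel₀ (hX 0)
      rw [hc]; ring
    · obtain ⟨f, rfl⟩ := Ideal.Quotient.mk_surjective u
      obtain ⟨g, rfl⟩ := Ideal.Quotient.mk_surjective v
      rw [← map_mul, ← map_mul, ← map_add, Ideal.Quotient.eq_zero_iff_mem] at huv
      obtain ⟨c, hc⟩ := Ideal.mem_span_singleton.1 huv
      have hdvd : (MvPolynomial.X 1 : S) ∣ MvPolynomial.X 0 * f :=
        ⟨MvPolynomial.X 0 * c - g, by linear_combination hc⟩
      have hp : Prime (MvPolynomial.X 1 : S) := MvPolynomial.X_prime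
      obtain ⟨e, rfl⟩ := (hp.dvd_or_dvd hdvd).resolve_left
        (fun h => absurd (MvPolynomial.X_dvd_X.1 h) (by decide))
      rw [← map_mul, Ideal.Quotient.eq_zero_iff_mem, Ideal.mem_span_singleton]
      exact ⟨e, by ring⟩
  let ε : A →+* k := Ideal.Quotient.lift I MvPolynomial.constantCoeff fun f hf => by
    obtain ⟨g, rfl⟩ := Ideal.mem_span_singleton.1 hf
    exact (map_mul _ _ _).trans (by rw [map_mul, MvPolynomial.constantCoeff_X, zero_mul, zero_mul])
  have hker : RingHom.ker ε = Ideal.span {a, b} := by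
    apply le_antisymm
    · intro r hr
      obtain ⟨f, rfl⟩ := Ideal.Quotient.mk_surjective r
      have hf : f ∈ Ideal.span (Set.range (MvPolynomial.X : Fin 2 → S)) := by
        rw [← Set.image_univ, MvPolynomial.mem_ideal_span_X_image]
        intro m hm
        have hm0 : m ≠ 0 := fun h0 => by
          subst h0
          exact (MvPolynomial.mem_support_iff.1 hm) hr
        obtain ⟨i, hi⟩ := Finsupp.ne_iff.1 hm0
        exact ⟨i, trivial, hi⟩
      have hle : Ideal.span (Set.range (MvPolynomial.X : Fin 2 → S)) ≤ (Ideal.span {a, b}).comap (Ideal.Quotient.mk I) := by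
        rw [Ideal.span_le]
        rintro _ ⟨i, rfl⟩
        fin_cases i <;> exact Ideal.subset_span (by simp [a, b])
      exact hle hf
    · rw [Ideal.span_le]
      rintro x (rfl | rfl)
      · exact MvPolynomial.constantCoeff_X (R := k) (σ := Fin 2) _
      · exact MvPolynomial.constantCoeff_X (R := k) (σ := Fin 2) _
  have hm : (Ideal.span ({a, b} : Set A)).IsMaximal := by
    rw [← hker]
    exact RingHom.ker_isMaximal_of_surjective ε fun c => ⟨Ideal.Quotient.mk I (MvPolynomial.C c), MvPolynomial.constantCoeff_C _ c⟩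
  exact ⟨fun i hi => AnnPairLib.length_tor h hm i hi, fun n => AnnPairLib.not_lt_residue h hm.ne_top n⟩

end Groth.Agent.S16243
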