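import Groth.Statements.S16246
import Groth.Agent.EllDivLib.AutBound
import Groth.Agent.H0Lib.Group

set_option autoImplicit false
set_option linter.style.haveILetI false
set_option backward.isDefEq.respectTransparency false
set_option backward.isDefEq.respectTransparency.types false

set_option autoImplicit false
universe u
open CategoryTheory CategoryTheory.Limits AlgebraicGeometry MonObj
open AgPol

namespace Groth.Agent.S16246

open MonoidalCategory CartesianMonoidalCategory

/-- Let S be a connected scheme and E an S-group scheme which is smooth and proper over S with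
geometrically connected fibres of dimension one (a family of elliptic curves over S with its group
law). Let G ⊆ E be a closed subgroup scheme which is finite, flat and locally of finite presentation
over S of constant rank N with N ≥ 5, and let ε be an automorphism of the S-group scheme E. Then the
restriction of ε to G is the identity of G exactly when ε is the identity of E. -/
theorem result
    {S : Scheme.{u}} [ConnectedSpace S] (E : Over S) [GrpObj E] (hE : AgPol.IsAbSch E 1)
    (G : Over S) [GrpObj G] (i : G ⟶ E) [IsMonHom i] [IsClosedImmersion i.left]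
    [IsFinite G.hom] [Flat G.hom] [LocallyOfFinitePresentation G.hom]
    (N : ℕ) (hN : 5 ≤ N) (hrk : ∀ s : S, G.hom.finrank s = N)
    (ε : E ≅ E) [IsMonHom ε.hom] :
    i ≫ ε.hom = i ↔ ε.hom = 𝟙 E := by
  refine ⟨fun h => ?_, fun h => by rw [h, Category.comp_id]⟩
  haveI := hE.smooth
  haveI := hE.proper
  haveI := hE.geomConnected
  haveI := AbSchLib.geometricallyReduced_of_smooth E.hom
  haveI := CubeConsLib.geometricallyIntegral_of_group E
  haveI : IsCommMonObj E := H0Lib.isCommMonObj (X := E)
  haveI := EllDivLib.smoothOfRelativeDimension hE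
  haveI : IsSeparated E.hom := inferInstance
  obtain ⟨s⟩ : Nonempty S := inferInstance
  let Ω := AlgebraicClosure (S.residueField s)
  let u : Spec (CommRingCat.of Ω) ⟶ Spec (S.residueField s) :=
    Spec.map (CommRingCat.ofHom (algebraMap (S.residueField s) Ω))
  let t : Spec (CommRingCat.of Ω) ⟶ S := u ≫ S.fromSpecResidueField s
  let A := Red.bc t E
  haveI : IsCommMonObj A := Functor.isCommMonObj_obj (F := Over.pullback t)
  haveI : IsProper A.hom := MorphismProperty.pullback_snd (P := @IsProper) _ _ ‹_›
  haveI : GeometricallyIntegral A.hom := inferInstanceAs (GeometricallyIntegral (pullback.snd E.hom t))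
  haveI := smoothOfRelativeDimension_isStableUnderBaseChange.{u} 1
  haveI : SmoothOfRelativeDimension 1 A.hom :=
    MorphismProperty.pullback_snd (P := @SmoothOfRelativeDimension 1) E.hom t ‹_›
  haveI : IsIntegral A.left := GeometricallyIntegral.isIntegral_of_subsingleton A.hom
  have hdim : topologicalKrullDim A.left = ((1 : ℕ) : WithBot ℕ∞) := by
    obtain ⟨x⟩ : Nonempty A.left := inferInstance
    have h1 := ((CurvOpenLib.smoothOfRelativeDimension_iff_forall 1 A.hom).1 ‹_›).2 x
    have hopen : Topology.IsOpenEmbedding (A.hom.fiberι (A.hom x)) := by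
      refine ⟨(A.hom.fiberι (A.hom x)).isEmbedding, ?_⟩
      rw [Scheme.Hom.range_fiberι, show A.hom ⁻¹' {A.hom x} = Set.univ from
        Set.eq_univ_of_forall fun y => Subsingleton.elim (α := PrimeSpectrum Ω) _ _]
      exact isOpen_univ
    rw [FlatMor.fibreDimAt, ← FibDimLib.localDim_eq_of_isOpenEmbedding hopen,
      FibDimLib.localDim_of_irreducible A.hom] at h1
    exact h1
  let Gt := Red.bc t G
  haveI : IsFinite Gt.hom := MorphismProperty.pullback_snd (P := @IsFinite) _ _ ‹_›
  let εt := (Over.pullback t).map ε.hom
  let it : Gt ⟶ A := (Over.pullback t).map i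
  have sq : IsPullback (pullback.fst G.hom t) it.left i.left (pullback.fst E.hom t) := by
    refine IsPullback.of_bot ?_ (pullback.lift_fst _ _ _).symm (IsPullback.of_hasPullback E.hom t)
    rw [Over.w i, show it.left ≫ pullback.snd E.hom t = pullback.snd G.hom t from pullback.lift_snd _ _ _]
    exact IsPullback.of_hasPullback G.hom t
  haveI : IsClosedImmersion it.left := MorphismProperty.of_isPullback sq ‹_›
  haveI : IsMonHom εt := inferInstanceAs (IsMonHom ((Over.pullback t).map ε.hom))
  haveI : IsIso εt.left := inferInstanceAs (IsIso ((Over.forget _).map ((Over.pullback t).map ε.hom)))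
  have hr : 5 ≤ Gt.hom.finrank (IsLocalRing.closedPoint Ω) :=
    hN.trans (le_of_eq ((Scheme.Hom.finrank_pullback_snd G.hom t _).trans (hrk _)).symm)
  have hfix : εt = 𝟙 A := EllDivLib.eq_id_of_fix hdim εt Gt it hr (by
    show (Over.pullback t).map i ≫ (Over.pullback t).map ε.hom = (Over.pullback t).map i
    rw [← Functor.map_comp, h])
  have ht : pullback.fst E.hom t ≫ ε.hom.left = pullback.fst E.hom t := by
    have := congrArg (fun m : A ⟶ A => m.left ≫ pullback.fst E.hom t) hfix
    exact (pullback.lift_fst _ _ _).symm.trans (this.trans (Category.id_comp _))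
  let p := E.hom.fiberToSpecResidueField s
  let π := pullback.fst p u
  haveI : Surjective π := MorphismProperty.pullback_fst (P := @Surjective) _ _ inferInstance
  haveI : Flat π := MorphismProperty.pullback_fst (P := @Flat) _ _ inferInstance
  haveI : QuasiCompact π := MorphismProperty.pullback_fst (P := @QuasiCompact) _ _ inferInstance
  haveI : Epi π := Flat.epi_of_flat_of_surjective π
  have hs : E.hom.fiberι s ≫ ε.hom.left = E.hom.fiberι s ≫ (𝟙 E : E ⟶ E).left := by
    rw [← cancel_epi π, Over.id_left, Category.comp_id]
    let m : pullback p u ⟶ pullback E.hom t := pullback.lift (π ≫ E.hom.fiberι s) (pullback.snd p u) (by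
      rw [Category.assoc, E.hom.fiber_fac, ← Category.assoc, pullback.condition, Category.assoc])
    have hm : m ≫ pullback.fst E.hom t = π ≫ E.hom.fiberι s := pullback.lift_fst _ _ _
    rw [← Category.assoc, ← hm, Category.assoc, ht]
  obtain ⟨W, hW, hsW, he⟩ := H0Lib.eq_on_clopen ε.hom (𝟙 E) s hs
  have hWu : W = ⊤ := TopologicalSpace.Opens.ext (IsClopen.eq_univ ⟨hW, W.2⟩ ⟨s, hsW⟩)
  subst hWu
  haveI : IsIso (E.hom ⁻¹ᵁ ⊤).ι := inferInstanceAs (IsIso (Scheme.topIso _).hom)
  ext1
  exact (cancel_epi (E.hom ⁻¹ᵁ ⊤).ι).1 he

end Groth.Agent.S16246
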