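import Groth.Statements.S16247
import Groth.Agent.EllDivLib.RelDim
import Groth.Agent.HilbPtsLib.SmoothCurve
import Groth.Agent.HilbPtsLib.LeLocus
import Groth.Agent.WeilResLib.Maps

set_option autoImplicit false
set_option linter.style.haveILetI false
set_option backward.isDefEq.respectTransparency false
set_option backward.isDefEq.respectTransparency.types false

set_option autoImplicit false
universe u
open CategoryTheory CategoryTheory.Limits AlgebraicGeometry MonObj
open AgPol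

namespace Groth.Agent.S16247

open MonoidalCategory CartesianMonoidalCategory

/-- Let E be an S-group scheme which is smooth and proper over S with geometrically connected fibres of
dimension one (a family of elliptic curves over S with its group law), and let D ⊆ E be an effective
Cartier divisor with ideal sheaf 𝓓 such that D is flat over S (a relative effective Cartier divisor
on E/S). Then there is a closed subscheme Z ⊆ S such that a morphism g : T → S factors through Z
exactly when the pulled-back closed subscheme D_T ⊆ E_T is a subgroup scheme of E_T over T, that is,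
when for every scheme T' over T the T'-valued points of E (over S) that factor through D form a
subgroup of the group of all T'-valued points. This universal property determines Z, and
compatibility of Z with base change follows from it. -/
theorem result
    {S : Scheme.{u}} (E : Over S) [GrpObj E] (hE : AgPol.IsAbSch E 1)
    (𝓓 : E.left.IdealSheafData) (hD : BlowUp.IsEffCartierIdeal 𝓓) [Flat (𝓓.subschemeι ≫ E.hom)] :
    ∃ 𝓩 : S.IdealSheafData, ∀ (T : Scheme.{u}) (g : T ⟶ S),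
      (∃ t : T ⟶ 𝓩.subscheme, t ≫ 𝓩.subschemeι = g) ↔
        ∀ (T' : Scheme.{u}) (a : T' ⟶ T), ∃ H : Subgroup (Over.mk (a ≫ g) ⟶ E),
          (H : Set (Over.mk (a ≫ g) ⟶ E)) =
            {x | ∃ d : T' ⟶ 𝓓.subscheme, d ≫ 𝓓.subschemeι = x.left} := by
  haveI := hE.smooth
  haveI := hE.proper
  haveI := EllDivLib.smoothOfRelativeDimension hE
  let δ₀ := 𝓓.subschemeι ≫ E.hom
  let D : Over S := Over.mk δ₀
  let δ : D ⟶ E := Over.homMk 𝓓.subschemeι rfl
  haveI : IsClosedImmersion δ.left := inferInstanceAs (IsClosedImmersion 𝓓.subschemeι)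
  obtain ⟨hq, hf, hp⟩ := (HilbPts.SC.effCartier_iff E.hom 𝓓).1 ⟨hD, ‹_›⟩
  haveI := hq
  haveI := hf
  haveI := hp
  haveI : IsFinite D.hom := IsFinite.of_isProper_of_locallyQuasiFinite δ₀
  haveI : Flat D.hom := hf
  haveI : LocallyOfFinitePresentation D.hom := hp
  haveI : IsFinite (D ⊗ D).hom := inferInstanceAs (IsFinite (pullback.fst D.hom D.hom ≫ D.hom))
  haveI : Flat (D ⊗ D).hom := inferInstanceAs (Flat (pullback.fst D.hom D.hom ≫ D.hom))
  haveI : LocallyOfFinitePresentation (D ⊗ D).hom :=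
    inferInstanceAs (LocallyOfFinitePresentation (pullback.fst D.hom D.hom ≫ D.hom))
  haveI : IsFinite (𝟙_ (Over S)).hom := inferInstanceAs (IsFinite (𝟙 S))
  haveI : Flat (𝟙_ (Over S)).hom := inferInstanceAs (Flat (𝟙 S))
  haveI : LocallyOfFinitePresentation (𝟙_ (Over S)).hom := inferInstanceAs (LocallyOfFinitePresentation (𝟙 S))
  have hloc : ∀ (X : Over S) [IsFinite X.hom] [Flat X.hom] [LocallyOfFinitePresentation X.hom] (c : X ⟶ E),
      ∃ K : S.IdealSheafData, ∀ (T : Scheme.{u}) (g : T ⟶ S), K ≤ g.ker ↔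
        ∀ (T' : Scheme.{u}) (a : T' ⟶ T) (x : Over.mk (a ≫ g) ⟶ X),
          ∃ x' : Over.mk (a ≫ g) ⟶ D, x' ≫ δ = x ≫ c := by
    intro X _ _ _ c
    obtain ⟨Z, z, hz, hzf, -⟩ := Groth.Agent.WeilRes.exists_mapsInto_closed_finite
      (CartesianMonoidalCategory.snd (𝟙_ (Over S)) X ≫ c) δ
    haveI := hz
    refine ⟨z.left.ker, fun T g => ?_⟩
    let T₀ : Over S := Over.mk g
    have hfac : z.left.ker ≤ g.ker ↔ ∃ w : T₀ ⟶ Z, w ≫ z = toUnit T₀ := by
      constructor
      · intro h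
        have hl : IsClosedImmersion.lift z.left g h ≫ z.left = g := IsClosedImmersion.lift_fac _ _ _
        have hz' : z.left = Z.hom := (Category.comp_id _).symm.trans (Over.w z)
        exact ⟨Over.homMk (IsClosedImmersion.lift z.left g h) (by rw [← hz']; exact hl), toUnit_unique _ _⟩
      · rintro ⟨w, hw⟩
        rw [show g = w.left ≫ z.left from (congrArg Over.Hom.left hw).symm]
        exact Scheme.Hom.le_ker_comp w.left z.left
    rw [hfac, hzf]
    constructor
    · intro h T' a x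
      obtain ⟨x', hx'⟩ := h (Over.mk (a ≫ g)) (Over.homMk a rfl) x
      exact ⟨x', by rw [← hx', lift_snd_assoc]⟩
    · intro h W s x
      let j : Over.mk (s.left ≫ g) ⟶ W := Over.homMk (𝟙 W.left) (by
        show 𝟙 W.left ≫ W.hom = s.left ≫ g
        rw [Category.id_comp]; exact (Over.w s).symm)
      let j' : W ⟶ Over.mk (s.left ≫ g) := Over.homMk (𝟙 W.left) (by
        show 𝟙 W.left ≫ s.left ≫ g = W.hom
        rw [Category.id_comp]; exact Over.w s)
      obtain ⟨x', hx'⟩ := h W.left s.left (j ≫ x)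
      refine ⟨j' ≫ x', ?_⟩
      rw [lift_snd_assoc, Category.assoc, hx', ← Category.assoc, ← Category.assoc,
        show j' ≫ j = 𝟙 W by ext1; exact Category.id_comp _, Category.id_comp]
  obtain ⟨K₁, hK₁⟩ := hloc (𝟙_ (Over S)) η[E]
  obtain ⟨K₂, hK₂⟩ := hloc (D ⊗ D) ((CartesianMonoidalCategory.fst D D ≫ δ) * (CartesianMonoidalCategory.snd D D ≫ δ))
  obtain ⟨K₃, hK₃⟩ := hloc D δ⁻¹
  refine ⟨K₁ ⊔ K₂ ⊔ K₃, fun T g => ?_⟩
  have hfac : (∃ t : T ⟶ (K₁ ⊔ K₂ ⊔ K₃).subscheme, t ≫ (K₁ ⊔ K₂ ⊔ K₃).subschemeι = g) ↔ K₁ ⊔ K₂ ⊔ K₃ ≤ g.ker := by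
    constructor
    · rintro ⟨t, rfl⟩
      exact (Scheme.IdealSheafData.ker_subschemeι _).symm.le.trans (Scheme.Hom.le_ker_comp t _)
    · intro h
      exact ⟨IsClosedImmersion.lift _ g ((Scheme.IdealSheafData.ker_subschemeι _).le.trans h),
        IsClosedImmersion.lift_fac _ _ _⟩
  rw [hfac, sup_le_iff, sup_le_iff, hK₁, hK₂, hK₃]
  have hmem : ∀ {T' : Scheme.{u}} {a : T' ⟶ T} (x : Over.mk (a ≫ g) ⟶ E),
      (∃ d : T' ⟶ 𝓓.subscheme, d ≫ 𝓓.subschemeι = x.left) ↔ ∃ x' : Over.mk (a ≫ g) ⟶ D, x' ≫ δ = x := by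
    intro T' a x
    constructor
    · rintro ⟨d, hd⟩
      exact ⟨Over.homMk d (by
        show d ≫ 𝓓.subschemeι ≫ E.hom = a ≫ g
        rw [← Category.assoc, hd]; exact Over.w x), Over.OverMorphism.ext hd⟩
    · rintro ⟨x', rfl⟩
      exact ⟨x'.left, rfl⟩
  constructor
  · rintro ⟨⟨h1, h2⟩, h3⟩ T' a
    refine ⟨{ carrier := {x | ∃ d : T' ⟶ 𝓓.subscheme, d ≫ 𝓓.subschemeι = x.left}
              mul_mem' := fun {x y} hx hy => ?_
              one_mem' := ?_
              inv_mem' := fun {x} hx => ?_ }, rfl⟩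
    · obtain ⟨x', rfl⟩ := (hmem x).1 hx
      obtain ⟨y', rfl⟩ := (hmem y).1 hy
      refine (hmem _).2 ?_
      obtain ⟨z, hz⟩ := h2 T' a (CartesianMonoidalCategory.lift x' y')
      exact ⟨z, by rw [hz, MonObj.comp_mul, lift_fst_assoc, lift_snd_assoc]⟩
    · refine (hmem _).2 ?_
      obtain ⟨z, hz⟩ := h1 T' a (toUnit _)
      exact ⟨z, by rw [hz, Hom.one_def]⟩
    · obtain ⟨x', rfl⟩ := (hmem x).1 hx
      refine (hmem _).2 ?_
      obtain ⟨z, hz⟩ := h3 T' a x'
      exact ⟨z, by rw [hz, GrpObj.comp_inv]⟩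
  · intro h
    refine ⟨⟨fun T' a x => ?_, fun T' a x => ?_⟩, fun T' a x => ?_⟩
    · obtain ⟨H, hH⟩ := h T' a
      have : (1 : Over.mk (a ≫ g) ⟶ E) ∈ {x | ∃ d : T' ⟶ 𝓓.subscheme, d ≫ 𝓓.subschemeι = x.left} := hH ▸ H.one_mem
      obtain ⟨z, hz⟩ := (hmem _).1 this
      exact ⟨z, by rw [hz, Hom.one_def, toUnit_unique x (toUnit _)]⟩
    · obtain ⟨H, hH⟩ := h T' a
      have hb : ∀ (u : Over.mk (a ≫ g) ⟶ D), u ≫ δ ∈ H := fun u => by
        rw [← SetLike.mem_coe, hH]; exact (hmem _).2 ⟨u, rfl⟩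
      have := H.mul_mem (hb (x ≫ CartesianMonoidalCategory.fst D D)) (hb (x ≫ CartesianMonoidalCategory.snd D D))
      rw [← SetLike.mem_coe, hH] at this
      obtain ⟨z, hz⟩ := (hmem _).1 this
      exact ⟨z, by rw [hz, MonObj.comp_mul, Category.assoc, Category.assoc]⟩
    · obtain ⟨H, hH⟩ := h T' a
      have hb : x ≫ δ ∈ H := by
        rw [← SetLike.mem_coe, hH]; exact (hmem _).2 ⟨x, rfl⟩
      have := H.inv_mem hb
      rw [← SetLike.mem_coe, hH] at this
      obtain ⟨z, hz⟩ := (hmem _).1 this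
      exact ⟨z, by rw [hz, GrpObj.comp_inv]⟩

end Groth.Agent.S16247
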