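import Groth.Statements.S16248
import Groth.Agent.AbSchLib.MulN
import Groth.Agent.H0Lib.Group
import Groth.Agent.EtLocLib.Equalizer

set_option autoImplicit false
set_option linter.style.haveILetI false
set_option backward.isDefEq.respectTransparency false
set_option backward.isDefEq.respectTransparency.types false

set_option autoImplicit false
universe u
open CategoryTheory CategoryTheory.Limits AlgebraicGeometry MonObj
open AgPol

namespace Groth.Agent.S16248

open MonoidalCategory CartesianMonoidalCategory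

/-- Let E be an S-group scheme which is smooth and proper over S with geometrically connected fibres of
dimension one (a family of elliptic curves over S with its group law), and let N ≥ 1 be an integer
invertible on S. Consider, for an S-scheme T, the T-valued points Q of E with N·Q = 0 whose value at
every geometric point of T has order exactly N (for N invertible these are exactly the level
structures of type ℤ/N sending 1 to Q). This functor is represented by an S-scheme Z which is finite
and étale over S: there are such a Z and a point P of E with values in Z having this property, such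
that every Q with the property over any T is the pull-back of P along a unique S-morphism T → Z. -/
theorem result
    {S : Scheme.{u}} (E : Over S) [GrpObj E] (hE : AgPol.IsAbSch E 1)
    (N : ℕ) (hN : 1 ≤ N) (hNu : IsUnit (N : Γ(S, ⊤))) :
    ∃ (Z : Over S) (P : Z ⟶ E), IsFinite Z.hom ∧ Etale Z.hom ∧
      (P ^ N = 1 ∧ ∀ (Ω : Type u) [Field Ω] [IsAlgClosed Ω] (t : Spec (CommRingCat.of Ω) ⟶ Z.left),
        orderOf ((Over.homMk t rfl : Over.mk (t ≫ Z.hom) ⟶ Z) ≫ P) = N) ∧
      ∀ (T : Over S) (Q : T ⟶ E), Q ^ N = 1 →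
        (∀ (Ω : Type u) [Field Ω] [IsAlgClosed Ω] (t : Spec (CommRingCat.of Ω) ⟶ T.left),
          orderOf ((Over.homMk t rfl : Over.mk (t ≫ T.hom) ⟶ T) ≫ Q) = N) →
        ∃! v : T ⟶ Z, v ≫ P = Q := by
  haveI := hE.smooth
  haveI := hE.proper
  haveI := hE.geomConnected
  haveI := AbSchLib.geometricallyReduced_of_smooth E.hom
  haveI : IsCommMonObj E := H0Lib.isCommMonObj (X := E)
  obtain ⟨hmf, hme⟩ := AbSchLib.isFinite_etale_zpow E (N : ℤ) (by rwa [Int.cast_natCast])
  rw [zpow_natCast] at hmf hme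
  let m := 𝟙 E ^ N
  let e : 𝟙_ (Over S) ⟶ E := η[E]
  haveI : IsFinite m.left := hmf
  haveI : Etale m.left := hme
  let K : Over S := Over.mk (pullback.snd m.left e.left)
  let k : K ⟶ E := Over.homMk (pullback.fst m.left e.left) (by
    show pullback.fst m.left e.left ≫ E.hom = pullback.snd m.left e.left
    rw [← Over.w m, pullback.condition_assoc, Over.w e]
    exact Category.comp_id _)
  haveI : IsFinite K.hom := inferInstanceAs (IsFinite (pullback.snd m.left e.left))
  haveI : Etale K.hom := inferInstanceAs (Etale (pullback.snd m.left e.left))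
  haveI : Mono e.left := (IsSplitMono.mk' ⟨E.hom, Over.w e⟩).mono
  haveI : Mono k.left := inferInstanceAs (Mono (pullback.fst m.left e.left))
  haveI : Mono k := Over.mono_of_mono_left k
  have hk : k ^ N = 1 := by
    have h : k ≫ m = 1 := by
      ext1
      show pullback.fst m.left e.left ≫ m.left = (toUnit K).left ≫ e.left
      rw [pullback.condition]
      rfl
    rwa [MonObj.comp_pow, Category.comp_id] at h
  have hlift : ∀ {V : Over S} (x : V ⟶ E), x ^ N = 1 → ∃ l : V ⟶ K, l ≫ k = x := fun {V} x hx => by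
    refine ⟨Over.homMk (pullback.lift x.left V.hom ?_) (pullback.lift_snd _ _ _),
      Over.OverMorphism.ext (pullback.lift_fst _ _ _)⟩
    exact congrArg CommaMorphism.left (show x ≫ m = 1 by rw [MonObj.comp_pow, Category.comp_id, hx])
  choose q hq using fun d : ℕ => hlift (k ^ d) (by rw [← pow_mul, mul_comm, pow_mul, hk, one_pow])
  obtain ⟨o, ho⟩ := hlift (1 : K ⟶ E) (one_pow N)
  have hw : ∀ d, (q d).left ≫ K.hom = o.left ≫ K.hom := fun d => (Over.w _).trans (Over.w o).symm
  let W : Finset.Ioo 0 N → K.left.Opens := fun d => EtLocLib.eqLocus K.hom (q d).left o.left (hw d)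
  have hcl : IsClosed (⋃ d, (W d : Set K.left)) :=
    isClosed_iUnion_of_finite fun d => EtLocLib.isClosed_eqLocus K.hom _ _ _
  let U : K.left.Opens := ⟨(⋃ d, (W d : Set K.left))ᶜ, hcl.isOpen_compl⟩
  have hUc : IsClosed (U : Set K.left) := (isOpen_iUnion fun d => (W d).2).isClosed_compl
  have hpt : ∀ {Ω : Type u} [Field Ω] (t : Spec (CommRingCat.of Ω) ⟶ K.left) (d : Finset.Ioo 0 N),
      ((Over.homMk t rfl : Over.mk (t ≫ K.hom) ⟶ K) ≫ k) ^ (d : ℕ) = 1 ↔ t (IsLocalRing.closedPoint Ω) ∈ W d := by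
    intro Ω _ t d
    let T : Over S := Over.mk (t ≫ K.hom)
    let tt : T ⟶ K := Over.homMk t rfl
    show (tt ≫ k) ^ (d : ℕ) = 1 ↔ _
    rw [← MonObj.comp_pow, ← hq, show (1 : T ⟶ E) = tt ≫ (1 : K ⟶ E) from (MonObj.comp_one tt).symm, ← ho,
      ← Category.assoc, ← Category.assoc, cancel_mono]
    constructor
    · intro h
      exact EtLocLib.mem_eqLocus_of_comp_eq K.hom _ _ (hw d) t (congrArg Over.Hom.left h) _
    · intro h
      have hr : Set.range t.base ⊆ Set.range (W d).ι.base := by
        rw [Scheme.Opens.range_ι]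
        rintro _ ⟨z, rfl⟩
        rw [Subsingleton.elim (α := PrimeSpectrum Ω) z (IsLocalRing.closedPoint Ω)]
        exact h
      ext1
      show t ≫ (q d).left = t ≫ o.left
      rw [← IsOpenImmersion.lift_fac (W d).ι t hr, Category.assoc, Category.assoc,
        EtLocLib.eqLocus_ι_comp K.hom _ _ (hw d)]
  have hord : ∀ {Ω : Type u} [Field Ω] (t : Spec (CommRingCat.of Ω) ⟶ K.left),
      orderOf ((Over.homMk t rfl : Over.mk (t ≫ K.hom) ⟶ K) ≫ k) = N ↔ t (IsLocalRing.closedPoint Ω) ∈ U := by
    intro Ω _ t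
    let x := (Over.homMk t rfl : Over.mk (t ≫ K.hom) ⟶ K) ≫ k
    have hx : x ^ N = 1 := by rw [← MonObj.comp_pow, hk, MonObj.comp_one]
    show orderOf x = N ↔ t (IsLocalRing.closedPoint Ω) ∈ ((⋃ d, (W d : Set K.left))ᶜ)
    rw [orderOf_eq_iff (by omega : 0 < N)]
    simp only [Set.mem_compl_iff, Set.mem_iUnion, not_exists, SetLike.mem_coe]
    refine ⟨fun h d hd => h.2 d (Finset.mem_Ioo.1 d.2).2 (Finset.mem_Ioo.1 d.2).1 ((hpt t d).2 hd),
      fun h => ⟨hx, fun d h1 h2 h3 => h ⟨d, Finset.mem_Ioo.2 ⟨h2, h1⟩⟩ ((hpt t ⟨d, Finset.mem_Ioo.2 ⟨h2, h1⟩⟩).1 h3)⟩⟩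
  haveI : IsClosedImmersion U.ι := IsClosedImmersion.of_isPreimmersion U.ι (by
    rw [Scheme.Opens.range_ι]; exact hUc)
  let Z : Over S := Over.mk (U.ι ≫ K.hom)
  let j : Z ⟶ K := Over.homMk U.ι rfl
  haveI : Mono j.left := inferInstanceAs (Mono U.ι)
  haveI : Mono j := Over.mono_of_mono_left j
  refine ⟨Z, j ≫ k, inferInstanceAs (IsFinite (U.ι ≫ K.hom)), inferInstanceAs (Etale (U.ι ≫ K.hom)),
    ⟨by rw [← MonObj.comp_pow, hk, MonObj.comp_one], fun Ω _ _ t => ?_⟩, fun T Q hQN hQo => ?_⟩
  · have hu : (t ≫ U.ι) (IsLocalRing.closedPoint Ω) ∈ U := by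
      rw [Scheme.Hom.comp_apply]; exact (t (IsLocalRing.closedPoint Ω)).2
    have h := (hord (t ≫ U.ι)).2 hu
    let i : Over.mk (t ≫ Z.hom) ⟶ Over.mk ((t ≫ U.ι) ≫ K.hom) := Over.homMk (𝟙 _) (by
      show 𝟙 _ ≫ (t ≫ U.ι) ≫ K.hom = t ≫ U.ι ≫ K.hom
      rw [Category.id_comp, Category.assoc])
    haveI : IsIso i := by
      have : IsIso ((Over.forget S).map i) := inferInstanceAs (IsIso (𝟙 (Spec (CommRingCat.of Ω))))
      exact isIso_of_reflects_iso i (Over.forget S)
    have e : (Over.homMk t rfl : Over.mk (t ≫ Z.hom) ⟶ Z) ≫ j ≫ k =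
        i ≫ (Over.homMk (t ≫ U.ι) rfl : Over.mk ((t ≫ U.ι) ≫ K.hom) ⟶ K) ≫ k := by
      rw [← Category.assoc, ← Category.assoc]
      congr 1
    let φ : (Over.mk ((t ≫ U.ι) ≫ K.hom) ⟶ E) →* (Over.mk (t ≫ Z.hom) ⟶ E) :=
      MonoidHom.mk' (fun y => i ≫ y) fun a b => MonObj.comp_mul _ _ _
    have hφ : Function.Injective φ := fun a b hab => (cancel_epi i).1 hab
    rw [e]
    exact (orderOf_injective φ hφ _).trans h
  · obtain ⟨l, rfl⟩ := hlift Q hQN
    have hr : Set.range l.left.base ⊆ Set.range U.ι.base := by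
      rw [Scheme.Opens.range_ι]
      rintro _ ⟨z, rfl⟩
      let Ω := AlgebraicClosure (T.left.residueField z)
      let t : Spec (CommRingCat.of Ω) ⟶ T.left :=
        Spec.map (CommRingCat.ofHom (algebraMap (T.left.residueField z) Ω)) ≫ T.left.fromSpecResidueField z
      have ht : t (IsLocalRing.closedPoint Ω) = z := by
        rw [Scheme.Hom.comp_apply]
        exact T.left.fromSpecResidueField_apply z _
      let i : Over.mk ((t ≫ l.left) ≫ K.hom) ⟶ Over.mk (t ≫ T.hom) := Over.homMk (𝟙 _) (by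
        show 𝟙 _ ≫ t ≫ T.hom = (t ≫ l.left) ≫ K.hom
        rw [Category.id_comp, Category.assoc]
        exact congrArg (t ≫ ·) (Over.w l).symm)
      haveI : IsIso i := by
        have : IsIso ((Over.forget S).map i) := inferInstanceAs (IsIso (𝟙 (Spec (CommRingCat.of Ω))))
        exact isIso_of_reflects_iso i (Over.forget S)
      have e : (Over.homMk (t ≫ l.left) rfl : Over.mk ((t ≫ l.left) ≫ K.hom) ⟶ K) ≫ k =
          i ≫ (Over.homMk t rfl : Over.mk (t ≫ T.hom) ⟶ T) ≫ l ≫ k := by
        rw [← Category.assoc, ← Category.assoc]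
        congr 1
      let φ : (Over.mk (t ≫ T.hom) ⟶ E) →* (Over.mk ((t ≫ l.left) ≫ K.hom) ⟶ E) :=
        MonoidHom.mk' (fun y => i ≫ y) fun a b => MonObj.comp_mul _ _ _
      have hφ : Function.Injective φ := fun a b hab => (cancel_epi i).1 hab
      have h := (hord (t ≫ l.left)).1 (by rw [e]; exact (orderOf_injective φ hφ _).trans (hQo Ω t))
      rwa [Scheme.Hom.comp_apply, ht] at h
    refine ⟨Over.homMk (IsOpenImmersion.lift U.ι l.left hr) (by
      show IsOpenImmersion.lift U.ι l.left hr ≫ U.ι ≫ K.hom = T.hom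
      rw [← Category.assoc, IsOpenImmersion.lift_fac]; exact Over.w l), ?_, fun v hv => ?_⟩
    · show _ ≫ j ≫ k = l ≫ k
      rw [← Category.assoc]
      congr 1
      ext1
      exact IsOpenImmersion.lift_fac _ _ _
    · rw [← cancel_mono j, ← cancel_mono k, Category.assoc, hv]
      congr 1
      ext1
      exact (IsOpenImmersion.lift_fac _ _ _).symm

end Groth.Agent.S16248
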