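import Groth.Statements.S16249
import Groth.Agent.EllLawLib.PicZero
import Groth.Agent.RelDualLib.RelDim

set_option autoImplicit false
universe u
open CategoryTheory CategoryTheory.Limits AlgebraicGeometry
open PicF

namespace Groth.Agent.S16249

/-- Let f : E → S be a family of elliptic curves: f is proper and smooth of relative dimension one with
geometrically connected fibres whose structure sheaf has Euler characteristic 0 (genus one), and σ
is a section of f. Then for every invertible O_E-module L whose restriction to every fibre of f has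
degree zero (Euler characteristic equal to that of the structure sheaf of the fibre) there is
exactly one section P of f such that L ⊗ I_P ≅ I_σ ⊗ f^*M for some invertible O_S-module M, where
I_P and I_σ are the ideal sheaves of the closed subschemes P(S) and σ(S) of E. In other words P ↦
O(P − σ) is a bijection from E(S) onto the classes of fibrewise-degree-zero invertible modules
modulo modules pulled back from S. (The published statement goes on to say that E is thereby an
S-group scheme, with P + Q = R exactly when O(P) ⊗ O(Q) ⊗ O(−σ) ≅ O(R) ⊗ f^*M for some invertible M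
on the base — its printed formula has O(−R), a misprint — ; that transport of the group structure is
not part of this statement.) -/
theorem result
    {E S : Scheme.{u}} (f : E ⟶ S) [IsProper f] [SmoothOfRelativeDimension 1 f]
    (hc : GeometricallyConnected f)
    (hg : ∀ s : S, @FGA.eulerCharLE (S.residueField s) _ (f.fiber s) (f.fiberOverSpecResidueField s)
      (Coh.structureModule (f.fiber s)) 1 = 0)
    (σ : S ⟶ E) (hσ : σ ≫ f = 𝟙 S)
    (L : E.Modules) (hL : PicF.IsInvertible L)
    (hL0 : ∀ s : S, @FGA.eulerCharLE (S.residueField s) _ (f.fiber s) (f.fiberOverSpecResidueField s)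
      ((Scheme.Modules.pullback (f.fiberι s)).obj L) 1 = 0) :
    ∃! P : S ⟶ E, P ≫ f = 𝟙 S ∧ ∃ M : S.Modules, PicF.IsInvertible M ∧
      Nonempty (CohB1.tensorMod L (ClSub.idealMod P.ker) ≅
        CohB1.tensorMod (ClSub.idealMod σ.ker) ((Scheme.Modules.pullback f).obj M)) := by
  haveI : Smooth f := SmoothOfRelativeDimension.smooth 1 f
  haveI : GeometricallyConnected f := hc
  have hdim : ∀ s : S, topologicalKrullDim ↥(f.fiber s) = 1 := fun s => RelDualLib.hdim_of_relDim f s
  have hf : EllLawLib.IsCurveFam f := ⟨inferInstance, inferInstance, hc, hdim, fun s => by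
    let K : Type u := S.residueField s
    letI : (f.fiber s).Over (Spec (CommRingCat.of K)) := ⟨f.fiberToSpecResidueField s⟩
    haveI : IsProper ((f.fiber s) ↘ Spec (CommRingCat.of K)) := MorphismProperty.pullback_snd f _ ‹IsProper f›
    haveI : Smooth ((f.fiber s) ↘ Spec (CommRingCat.of K)) := MorphismProperty.pullback_snd f _ ‹Smooth f›
    haveI : GeometricallyConnected ((f.fiber s) ↘ Spec (CommRingCat.of K)) := MorphismProperty.pullback_snd f _ hc
    haveI := FibVALib.geometricallyIntegral_of_geometricallyConnected ((f.fiber s) ↘ Spec (CommRingCat.of K))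
    have h0 := FibVALib.finrank_h0_structure K (f.fiber s) (hdim s)
    have h : (Finset.range (1 + 1)).sum (fun i => (-1 : ℤ) ^ i *
        (Module.finrank K (Coh.HH (f.fiber s) (Coh.structureModule (f.fiber s)) i) : ℤ)) = 0 := hg s
    rw [Finset.sum_range_succ, Finset.sum_range_one, h0] at h
    refine ((CurvLib.hIso (k := K) (KFlatLib.pullUnitIso (f.fiberι s)) 1).finrank_eq).trans ?_
    push_cast at h
    omega⟩
  open CubeConsLib EllLawLib in
  suffices h : (∃ (x : S ⟶ E) (M : S.Modules), x ≫ f = 𝟙 S ∧ PicF.IsInvertible M ∧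
      CubeConsLib.cl L * idCls x.ker = idCls σ.ker * pull f (CubeConsLib.cl M)) ∧
      ∀ P Q : S ⟶ E, P ≫ f = 𝟙 S → Q ≫ f = 𝟙 S →
        (∃ M : S.Modules, PicF.IsInvertible M ∧ CubeConsLib.cl L * idCls P.ker = idCls σ.ker * pull f (CubeConsLib.cl M)) →
        (∃ M : S.Modules, PicF.IsInvertible M ∧ CubeConsLib.cl L * idCls Q.ker = idCls σ.ker * pull f (CubeConsLib.cl M)) → P = Q by
    obtain ⟨⟨x, M, hx, hM, hxM⟩, huniq⟩ := h
    refine ⟨x, ⟨hx, M, hM, cl_eq_iff.1 hxM⟩, fun P hP => ?_⟩
    obtain ⟨hPf, N, hN, hPN⟩ := hP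
    exact huniq P x hPf hx ⟨N, hN, cl_eq_iff.2 hPN⟩ ⟨M, hM, hxM⟩
  open CubeConsLib EllLawLib in
  constructor
  · have hLd : FibDeg f L 0 := fun s => by
      let K : Type u := S.residueField s
      letI : (f.fiber s).Over (Spec (CommRingCat.of K)) := ⟨f.fiberToSpecResidueField s⟩
      haveI : IsProper ((f.fiber s) ↘ Spec (CommRingCat.of K)) := MorphismProperty.pullback_snd f _ ‹IsProper f›
      have hd : topologicalKrullDim ↥(f.fiber s) ≤ ((1 : ℕ) : WithBot ℕ∞) := (hdim s).le
      have h1 : FGA.eulerCharLE K (f.fiber s) (CohIII.fiberMod f L s) 1 = 0 := hL0 s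
      have h2 : FGA.eulerCharLE K (f.fiber s) (Coh.structureModule (f.fiber s)) 1 = 0 := hg s
      rw [HilbPolyLib.eulerCharLE_eq hd] at h1 h2
      rw [Curv2.deg, h1, h2]
      simp
    obtain ⟨J, hIJ, hJd⟩ := (hasDeg_idCls hf σ hσ).exists_inv hf
    obtain ⟨L', hL', hL'c, hL'd⟩ := HasDeg.mul hf ⟨L, hL, rfl, hLd⟩ hJd
    obtain ⟨x, N, hx, hN, hxN⟩ := exists_section hf hL' (by simpa using hL'd)
    refine ⟨x, N, hx, hN, ?_⟩
    rw [hL'c] at hxN
    calc CubeConsLib.cl L * idCls x.ker = CubeConsLib.cl L * idCls x.ker * (idCls σ.ker * J) := by rw [hIJ, mul_one]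
      _ = idCls σ.ker * (idCls x.ker * (CubeConsLib.cl L * J)) := by ac_rfl
      _ = idCls σ.ker * pull f (CubeConsLib.cl N) := by rw [hxN]
  · rintro P Q hP hQ ⟨M, hM, eM⟩ ⟨N, hN, eN⟩
    let T : Over S := Over.mk (𝟙 S)
    have key : ptCls (origin P hP T) * pull (PicF.XTproj f T) (CubeConsLib.cl N) =
        ptCls (origin Q hQ T) * pull (PicF.XTproj f T) (CubeConsLib.cl M) := by
      have h : idCls P.ker * pull f (CubeConsLib.cl N) = idCls Q.ker * pull f (CubeConsLib.cl M) := by
        refine ((isUnit_cl hL).mul (isUnit_idCls (hf.isEffCartier σ hσ))).mul_left_injective ?_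
        simp only
        calc idCls P.ker * pull f (CubeConsLib.cl N) * (CubeConsLib.cl L * idCls σ.ker)
            = CubeConsLib.cl L * idCls P.ker * (idCls σ.ker * pull f (CubeConsLib.cl N)) := by ac_rfl
          _ = CubeConsLib.cl L * idCls Q.ker * (idCls σ.ker * pull f (CubeConsLib.cl M)) := by rw [eM, ← eN]; ac_rfl
          _ = idCls Q.ker * pull f (CubeConsLib.cl M) * (CubeConsLib.cl L * idCls σ.ker) := by ac_rfl
      have h' := congrArg (pull (pullback.fst f T.hom)) h
      rw [map_mul, map_mul, pull_fst_section hf P hP T, pull_fst_section hf Q hQ T, pull_comp, pull_comp,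
        show pullback.fst f T.hom ≫ f = PicF.XTproj f T from pullback.condition.trans (Category.comp_id _)] at h'
      exact h'
    have h3 := congrArg Over.Hom.left (pt_eq hf hN hM key)
    exact (Category.id_comp P).symm.trans (h3.trans (Category.id_comp Q))


end Groth.Agent.S16249
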