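import Groth.Statements.S16250
import Groth.Agent.EllLawLib.Law
import Groth.Agent.RelDualLib.RelDim

set_option autoImplicit false
universe u
open CategoryTheory CategoryTheory.Limits AlgebraicGeometry MonObj
open AgPol

namespace Groth.Agent.S16250

/-- Let f : E → S be a family of elliptic curves: proper, smooth of relative dimension one, with
geometrically connected fibres whose structure sheaf has Euler characteristic 0 (genus one),
together with a section σ. Then E, regarded over S, carries one and only one structure of S-group
scheme whose multiplication on T-valued points (T any S-scheme) is characterised by: P·Q = R if and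
only if I_P ⊗ I_Q ≅ I_R ⊗ I_{σ_T} ⊗ q^*M on E_T = E ×_S T for some invertible O_T-module M, where q
: E_T → T is the projection, I_P denotes the ideal sheaf of the section of q induced by P, and σ_T
is the section induced by σ; in divisor notation O(P) ⊗ O(Q) ⊗ O(−σ) ≅ O(R) up to a module pulled
back from T. (The published display of this relation carries O(−R) instead of O(R), a misprint: the
fibre degrees would be 1 and −1.) -/
theorem result
    {E S : Scheme.{u}} (f : E ⟶ S) [IsProper f] [SmoothOfRelativeDimension 1 f]
    (hc : GeometricallyConnected f)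
    (hg : ∀ s : S, @FGA.eulerCharLE (S.residueField s) _ (f.fiber s) (f.fiberOverSpecResidueField s)
      (Coh.structureModule (f.fiber s)) 1 = 0)
    (σ : S ⟶ E) (hσ : σ ≫ f = 𝟙 S) :
    ∃! g : GrpObj (Over.mk f), ∀ (T : Over S) (P Q R : T ⟶ Over.mk f),
      P * Q = R ↔ ∃ M : T.left.Modules, PicF.IsInvertible M ∧
        Nonempty (CohB1.tensorMod
            (ClSub.idealMod (pullback.lift P.left (𝟙 T.left)
              ((Over.w P).trans (Category.id_comp T.hom).symm) : T.left ⟶ PicF.XT f T).ker)
            (ClSub.idealMod (pullback.lift Q.left (𝟙 T.left)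
              ((Over.w Q).trans (Category.id_comp T.hom).symm) : T.left ⟶ PicF.XT f T).ker) ≅
          CohB1.tensorMod (CohB1.tensorMod
            (ClSub.idealMod (pullback.lift R.left (𝟙 T.left)
              ((Over.w R).trans (Category.id_comp T.hom).symm) : T.left ⟶ PicF.XT f T).ker)
            (ClSub.idealMod (PicF.secT f σ hσ T).ker))
            ((Scheme.Modules.pullback (PicF.XTproj f T)).obj M)) := by
  haveI : Smooth f := SmoothOfRelativeDimension.smooth 1 f
  haveI : GeometricallyConnected f := hc
  have hdim : ∀ s : S, topologicalKrullDim ↥(f.fiber s) = 1 := fun s => RelDualLib.hdim_of_relDim f s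
  have hf : EllLawLib.IsCurveFam f := ⟨inferInstance, inferInstance, hc, hdim, fun s => by
    let K : Type u := S.residueField s
    letI : (f.fiber s).Over (Spec (CommRingCat.of K)) := ⟨f.fiberToSpecResidueField s⟩
    haveI : IsProper ((f.fiber s) ↘ Spec (CommRingCat.of K)) := MorphismProperty.pullback_snd f _ ‹IsProper f›
    haveI : Smooth ((f.fiber s) ↘ Spec (CommRingCat.of K)) := MorphismProperty.pullback_snd f _ ‹Smooth f›
    haveI : GeometricallyConnected ((f.fiber s) ↘ Spec (CommRingCat.of K)) := MorphismProperty.pullback_snd f _ hc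
    haveI := FibVALib.geometricallyIntegral_of_geometricallyConnected ((f.fiber s) ↘ Spec (CommRingCat.of K))
    have h0 := FibVALib.finrank_h0_structure K (f.fiber s) (hdim s)
    have h : (Finset.range (1 + 1)).sum (fun i => (-1 : ℤ) ^ i *
        (Module.finrank K (Coh.HH (f.fiber s) (Coh.structureModule (f.fiber s)) i) : ℤ)) = 0 := hg s
    rw [Finset.sum_range_succ, Finset.sum_range_one, h0] at h
    refine ((CurvLib.hIso (k := K) (KFlatLib.pullUnitIso (f.fiberι s)) 1).finrank_eq).trans ?_
    push_cast at h
    omega⟩
  have key : ∀ (T : Over S) (P Q R : T ⟶ Over.mk f),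
      EllLawLib.Rel σ hσ P Q R ↔ ∃ M : T.left.Modules, PicF.IsInvertible M ∧
        Nonempty (CohB1.tensorMod
            (ClSub.idealMod (pullback.lift P.left (𝟙 T.left)
              ((Over.w P).trans (Category.id_comp T.hom).symm) : T.left ⟶ PicF.XT f T).ker)
            (ClSub.idealMod (pullback.lift Q.left (𝟙 T.left)
              ((Over.w Q).trans (Category.id_comp T.hom).symm) : T.left ⟶ PicF.XT f T).ker) ≅
          CohB1.tensorMod (CohB1.tensorMod
            (ClSub.idealMod (pullback.lift R.left (𝟙 T.left)
              ((Over.w R).trans (Category.id_comp T.hom).symm) : T.left ⟶ PicF.XT f T).ker)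
            (ClSub.idealMod (PicF.secT f σ hσ T).ker))
            ((Scheme.Modules.pullback (PicF.XTproj f T)).obj M)) := fun T P Q R => by
    unfold EllLawLib.Rel
    refine exists_congr fun M => and_congr_right fun _ => ?_
    exact CubeConsLib.cl_eq_iff
  refine ⟨EllLawLib.grpObj hf σ hσ, fun T P Q R => (EllLawLib.mul_iff_rel hf σ hσ P Q R).trans (key T P Q R), ?_⟩
  intro g hg'
  apply GrpObj.ext
  have h := (EllLawLib.mul_iff_rel hf σ hσ (CartesianMonoidalCategory.fst (Over.mk f) (Over.mk f))
    (CartesianMonoidalCategory.snd (Over.mk f) (Over.mk f)) _).1 rfl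
  have h' := (hg' _ _ _ _).2 ((key _ _ _ _).1 h)
  have e1 : (letI := g; CartesianMonoidalCategory.fst (Over.mk f) (Over.mk f) *
      CartesianMonoidalCategory.snd (Over.mk f) (Over.mk f)) = g.mul := by
    letI := g
    show CartesianMonoidalCategory.lift _ _ ≫ MonObj.mul = _
    rw [CartesianMonoidalCategory.lift_fst_snd, Category.id_comp]
  have e2 : (letI := EllLawLib.grpObj hf σ hσ; CartesianMonoidalCategory.fst (Over.mk f) (Over.mk f) *
      CartesianMonoidalCategory.snd (Over.mk f) (Over.mk f)) = (EllLawLib.grpObj hf σ hσ).mul := by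
    letI := EllLawLib.grpObj hf σ hσ
    show CartesianMonoidalCategory.lift _ _ ≫ MonObj.mul = _
    rw [CartesianMonoidalCategory.lift_fst_snd, Category.id_comp]
  apply MonObj.ext
  exact e1.symm.trans (h'.trans e2)


end Groth.Agent.S16250
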