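import Groth.Statements.S16251
import Groth.Agent.EtShLib.NoethCons
-- import your own Groth.Agent.* helpers here

set_option autoImplicit false
open CategoryTheory CategoryTheory.Limits AlgebraicGeometry Opposite
universe u
set_option backward.isDefEq.respectTransparency false
set_option backward.isDefEq.respectTransparency.types false
open EtPBC

namespace Groth.Agent.S16251

/-- Let ℓ be a prime, X a locally Noetherian scheme and F = (F_n) an ℓ-adic projective system of abelian
sheaves on the small étale site of X, indexed from 0 (so ℓ^(n+1) F_n = 0 and, for n ≤ m, the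
transition map F_m ⟶ F_n is a quotient map modulo ℓ^(n+1)). If the first member F_0 is
constructible, then every member F_n is constructible. (The converse is trivial. The published
statement indexes the system from 1, with ℓ^n killing the n-th member; the statement here indexes it
from 0.) -/
theorem result (ℓ : ℕ) [Fact ℓ.Prime]
    (X : Scheme.{u}) [IsLocallyNoetherian X]
    (F : ARSys.PS (EtCoh.Ab X)) (hF : ARSys.IsAdic (Ideal.span {(ℓ : ℤ)}) F)
    (h0 : EtPBC.IsConstructible (F.obj (op 0))) (n : ℕ) :
    EtPBC.IsConstructible (F.obj (op n)) := by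
  induction n with
  | zero => exact h0
  | succ n ih =>
    refine (Groth.Agent.EtShLib.isConstructible_iff _).2 ?_
    rw [Groth.Agent.EtShLib.isConstructible_iff] at ih h0
    let t := ARSys.tr F (Nat.le_succ n)
    let t₀ := ARSys.tr F (Nat.zero_le (n + 1))
    have hq := hF.2 n (n + 1) (Nat.le_succ n)
    haveI : Epi t := ⟨fun {Z} g h e => by
      obtain ⟨ψ, -, hu⟩ := hq.2 Z (t ≫ g) fun a ha => by
        rw [← Linear.smul_comp, ← Category.comp_id t, ← Linear.comp_smul, hq.1 a ha, comp_zero, zero_comp]
      exact (hu g rfl).trans (hu h e.symm).symm⟩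
    obtain ⟨ψ, hψ, -⟩ := (hF.2 0 (n + 1) (Nat.zero_le _)).2 _
      (((ℓ : ℤ) ^ (n + 1)) • 𝟙 (F.obj (op (n + 1)))) fun a ha => by
        rw [smul_smul]
        refine hF.1 (n + 1) _ ?_
        rw [pow_succ' _ (n + 1)]
        refine Ideal.mul_mem_mul (by simpa using ha) ?_
        exact Ideal.pow_mem_pow (Ideal.subset_span (Set.mem_singleton _)) _
    have hπ : ARSys.HomKilledBy (Ideal.span {(ℓ : ℤ)} ^ (n + 1)) (cokernel.π ψ) := fun a ha => by
      rw [Ideal.span_singleton_pow, Ideal.mem_span_singleton'] at ha
      obtain ⟨b, rfl⟩ := ha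
      rw [← Category.id_comp (cokernel.π ψ), ← Linear.smul_comp, ← smul_smul, ← hψ]
      simp
    obtain ⟨φ, hφ, -⟩ := hq.2 _ (cokernel.π ψ) hπ
    have hk : kernel.ι t ≫ cokernel.π ψ = 0 := by rw [← hφ, kernel.condition_assoc, zero_comp]
    let j : kernel t ⟶ Abelian.image ψ := kernel.lift _ (kernel.ι t) hk
    haveI : Mono j := mono_of_mono_fac (kernel.lift_ι _ _ hk)
    refine Groth.Agent.EtShLib.cons_extension (S := ShortComplex.mk (kernel.ι t) t (kernel.condition t))
      { exact := ShortComplex.exact_of_f_is_kernel _ (kernelIsKernel t)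
        mono_f := inferInstanceAs (Mono (kernel.ι t))
        epi_g := ‹Epi t› }
      (Groth.Agent.EtShLib.cons_of_mono j ?_) ih
    exact Groth.Agent.EtShLib.cons_of_epi (Abelian.factorThruImage ψ) h0

end Groth.Agent.S16251
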