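import Groth.Statements.S16253
import Groth.Agent.LciJacLib.Embed
import Groth.Agent.SmoothDimLib.Omega
import Groth.Agent.OmegaAffLib.Universal
import Groth.Agent.FittLib.OmegaFitt
import Groth.Agent.FibDimLib.Smooth

set_option autoImplicit false
set_option backward.isDefEq.respectTransparency false
set_option maxHeartbeats 1000000
universe u
open TensorProduct CategoryTheory CategoryTheory.Limits AlgebraicGeometry TopologicalSpace
open SDiv

namespace Groth.Agent.S16253

/-- Let f : X ⟶ Y be locally of finite presentation and quasi-separated and p ≥ 0, and let J^p(X/Y) ⊆ X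
be the closed subset cut out by the p-th Fitting ideal of the module of differentials Ω_{X/Y} (the
p-th Jacobian locus). Then a point x of X lies outside J^p(X/Y) if and only if x has an open
neighbourhood U admitting a closed immersion over Y into a Y-scheme U' which is smooth of relative
dimension p over Y. (The published statement takes f of finite presentation and asks U' smooth over
Y with fibre dimension p at x; after shrinking U' this is smoothness of relative dimension p.
Quasi-separatedness of f is assumed because the module Ω_{X/Y} used here is defined for such f.) -/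
theorem result
    {X Y : Scheme.{u}} (f : X ⟶ Y) [LocallyOfFinitePresentation f] [QuasiSeparated f] (p : ℕ) (x : ↥X) :
    x ∉ (Fitt.sheafIdeal (Omega.sheaf f) p).support ↔
      ∃ (U : X.Opens) (U' : Scheme.{u}) (i : (U : Scheme.{u}) ⟶ U') (g : U' ⟶ Y),
        x ∈ U ∧ IsClosedImmersion i ∧ SmoothOfRelativeDimension p g ∧ i ≫ g = U.ι ≫ f := by
  classical
  have hft := FittLib.isFT_omega f
  haveI := FittLib.isQCoh_omega f
  constructor
  · intro hx
    obtain ⟨S, hS, hxS, -⟩ := exists_isAffineOpen_mem_and_subset (X := Y) (x := f x) (U := ⊤) trivial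
    obtain ⟨V, hV, hxV, eV⟩ := exists_isAffineOpen_mem_and_subset (X := X) (x := x) (U := f ⁻¹ᵁ S) hxS
    have eV : V ≤ f ⁻¹ᵁ S := eV
    letI : Algebra Γ(Y, S) Γ(X, V) := (f.appLE S V eV).hom.toAlgebra
    haveI : Algebra.FinitePresentation Γ(Y, S) Γ(X, V) := f.finitePresentation_appLE hS hV eV
    obtain ⟨e, -⟩ := OmegaAffLib.exists_equiv (OmegaAffLib.isUniversal_dOmega (f := f)) hS hV eV
    haveI : Module.Finite Γ(X, V) Γ(Omega.sheaf f, V) := QCohLib.finite_of_isFT hft hV
    let Q := (hV.primeIdealOf ⟨x, hxV⟩).asIdeal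
    rw [FittLib.mem_support_iff _ hft p hV hxV, FittLib.finrank_fibre_le_iff,
      ← (AlgebraTensorModule.congr (LinearEquiv.refl Q.ResidueField Q.ResidueField) e).finrank_eq] at hx
    obtain ⟨A, _, _, π, g, hπ, hgQ, hstd⟩ := LciJacLib.exists_smooth_embedding Q hx
    let U : X.Opens := X.basicOpen (π g)
    have hU : IsAffineOpen U := hV.basicOpen _
    have hUV : U ≤ V := X.basicOpen_le _
    have hxU : x ∈ U := by
      letI : Algebra Γ(X, V) (X.presheaf.stalk x) := (X.presheaf.germ V x hxV).hom.toAlgebra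
      have hloc := hV.isLocalization_stalk ⟨x, hxV⟩
      exact (X.mem_basicOpen (π g) x hxV).mpr
        ((IsLocalization.AtPrime.isUnit_to_map_iff (X.presheaf.stalk x) Q (π g)).mpr hgQ)
    let ρ : Γ(X, V) →+* Γ(X, U) := (X.presheaf.map (homOfLE hUV).op).hom
    letI : Algebra Γ(X, V) Γ(X, U) := ρ.toAlgebra
    haveI : IsLocalization.Away (π g) Γ(X, U) := hV.isLocalization_basicOpen (π g)
    let A' := Localization.Away g
    have hu : IsUnit (ρ.comp π.toRingHom g) := IsLocalization.Away.algebraMap_isUnit (π g)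
    let ψ : A' →+* Γ(X, U) := IsLocalization.Away.lift g hu
    have hψs : Function.Surjective ψ := by
      intro b
      obtain ⟨b₀, ⟨_, n, rfl⟩, rfl⟩ := IsLocalization.exists_mk'_eq (Submonoid.powers (π g)) b
      obtain ⟨a₀, rfl⟩ := hπ b₀
      refine ⟨IsLocalization.mk' A' a₀ (⟨g ^ n, n, rfl⟩ : Submonoid.powers g), ?_⟩
      rw [IsLocalization.eq_mk'_iff_mul_eq]
      show ψ _ * ρ (π g ^ n) = ρ (π a₀)
      have h1 : ∀ a, ψ (algebraMap A A' a) = ρ (π a) := fun a => IsLocalization.Away.lift_eq g hu a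
      rw [← map_pow π g n, ← h1, ← h1, ← map_mul, IsLocalization.mk'_spec]
    let s : CommRingCat.of Γ(Y, S) ⟶ CommRingCat.of A' := CommRingCat.ofHom (algebraMap Γ(Y, S) A')
    let g' : Spec (CommRingCat.of A') ⟶ Y := Spec.map s ≫ hS.fromSpec
    haveI : SmoothOfRelativeDimension p (Spec.map s) := by
      rw [HasRingHomProperty.Spec_iff (P := @SmoothOfRelativeDimension p)]
      refine RingHom.locally_of ?_ _ ?_
      · exact RingHom.isStandardSmoothOfRelativeDimension_respectsIso
      · exact (RingHom.isStandardSmoothOfRelativeDimension_algebraMap p).mpr hstd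
    haveI : SmoothOfRelativeDimension (p + 0) g' := inferInstance
    let i : (U : Scheme.{u}) ⟶ Spec (CommRingCat.of A') :=
      hU.isoSpec.hom ≫ Spec.map (CommRingCat.ofHom ψ)
    haveI : IsClosedImmersion (Spec.map (CommRingCat.ofHom ψ)) := IsClosedImmersion.spec_of_surjective _ hψs
    refine ⟨U, _, i, g', hxU, inferInstanceAs (IsClosedImmersion (_ ≫ _)), ?_, ?_⟩
    · simpa using ‹SmoothOfRelativeDimension (p + 0) g'›
    · have h2 : s ≫ CommRingCat.ofHom ψ = f.appLE S U (hUV.trans eV) := by
        refine CommRingCat.hom_ext (RingHom.ext fun r => ?_)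
        have h3 : f.appLE S V eV ≫ X.presheaf.map (homOfLE hUV).op = f.appLE S U (hUV.trans eV) :=
          Scheme.Hom.appLE_map _ _ _
        refine Eq.trans ?_ (congrArg (fun m => m r) h3)
        show ψ (algebraMap Γ(Y, S) A' r) = ρ (algebraMap Γ(Y, S) Γ(X, V) r)
        rw [IsScalarTower.algebraMap_apply Γ(Y, S) A A', IsLocalization.Away.lift_eq g hu, ← π.commutes]
        rfl
      show (hU.isoSpec.hom ≫ Spec.map (CommRingCat.ofHom ψ)) ≫ Spec.map s ≫ hS.fromSpec = U.ι ≫ f
      rw [Category.assoc, ← Spec.map_comp_assoc, h2, IsAffineOpen.SpecMap_appLE_fromSpec f hS hU,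
        ← IsAffineOpen.isoSpec_inv_ι, Category.assoc, Iso.hom_inv_id_assoc]
  · rintro ⟨U, U', i, g', hxU, hi, hg', hcomm⟩
    haveI : Smooth g' := SmoothOfRelativeDimension.smooth p g'
    let z : (U : Scheme.{u}) := ⟨x, hxU⟩
    obtain ⟨S, hS, hzS, -⟩ := exists_isAffineOpen_mem_and_subset (X := Y) (x := g' (i z)) (U := ⊤) trivial
    obtain ⟨W, hW, hzW, eW⟩ := exists_isAffineOpen_mem_and_subset (X := U') (x := i z) (U := g' ⁻¹ᵁ S) hzS
    have eW : W ≤ g' ⁻¹ᵁ S := eW
    let T : (U : Scheme.{u}).Opens := i ⁻¹ᵁ W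
    have hT : IsAffineOpen T := hW.preimage i
    have hsurj : Function.Surjective (i.app W).hom := by
      haveI : IsAffine W := hW
      haveI : IsClosedImmersion (i ∣_ W) := IsZariskiLocalAtTarget.restrict hi W
      have h1 : Function.Surjective (i ∣_ W).appTop :=
        ((HasAffineProperty.iff_of_isAffine (P := @IsClosedImmersion)).mp inferInstance).2
      rw [morphismRestrict_appTop] at h1
      have key : ∀ (W' : U'.Opens), W' = W →
          Function.Surjective (i.app W').hom → Function.Surjective (i.app W).hom := by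
        rintro _ rfl; exact id
      refine key (W.ι ''ᵁ ⊤) W.ι_image_top ?_
      exact (Function.Surjective.of_comp_iff' (ConcreteCategory.bijective_of_isIso
        ((U : Scheme.{u}).presheaf.map _)) _).mp h1
    let V : X.Opens := U.ι ''ᵁ T
    have hV : IsAffineOpen V := hT.image_of_isOpenImmersion U.ι
    have hyT : z ∈ T := hzW
    have hxV : x ∈ V := ⟨z, hyT, rfl⟩
    have eV : V ≤ f ⁻¹ᵁ S := by
      rintro _ ⟨w, hw, rfl⟩
      show (U.ι ≫ f) w ∈ S
      rw [← hcomm]
      exact eW hw
    let φ : Γ(U', W) →+* Γ(X, V) := (i.app W).hom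
    letI : Algebra Γ(U', W) Γ(X, V) := φ.toAlgebra
    letI : Algebra Γ(Y, S) Γ(U', W) := (g'.appLE S W eW).hom.toAlgebra
    letI : Algebra Γ(Y, S) Γ(X, V) := (f.appLE S V eV).hom.toAlgebra
    have hid : U.ι.appLE V T (U.ι.preimage_image_eq T).ge = 𝟙 _ := by
      rw [Scheme.Opens.ι_appLE]
      exact (congrArg X.presheaf.map (Subsingleton.elim _ (𝟙 (Opposite.op V)))).trans (X.presheaf.map_id _)
    haveI : IsScalarTower Γ(Y, S) Γ(U', W) Γ(X, V) := IsScalarTower.of_algebraMap_eq' <| by
      have h1 : g'.appLE S W eW ≫ i.appLE W T le_rfl = f.appLE S V eV ≫ U.ι.appLE V T (U.ι.preimage_image_eq T).ge := by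
        rw [Scheme.Hom.appLE_comp_appLE, Scheme.Hom.appLE_comp_appLE]
        congr 1
      rw [hid, Category.comp_id] at h1
      refine (congrArg CommRingCat.Hom.hom h1).symm.trans ?_
      simp [φ, RingHom.algebraMap_toAlgebra, Scheme.Hom.app_eq_appLE]
      rfl
    haveI : Algebra.Smooth Γ(Y, S) Γ(U', W) :=
      RingHom.smooth_algebraMap.mp (HasRingHomProperty.appLE @Smooth g' ‹_› ⟨S, hS⟩ ⟨W, hW⟩ eW)
    let Q := (hV.primeIdealOf ⟨x, hxV⟩).asIdeal
    have hqQ : Q.comap φ = (hW.primeIdealOf ⟨i z, hzW⟩).asIdeal := by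
      have h1 := IsAffineOpen.comap_primeIdealOf_appLE V hV T hT (U.ι.preimage_image_eq T).ge hyT
      rw [hid] at h1
      have h2 := IsAffineOpen.comap_primeIdealOf_appLE W hW T hT (le_refl (i ⁻¹ᵁ W)) hyT
      have h1' : (hT.primeIdealOf ⟨z, hyT⟩).asIdeal = Q := congrArg PrimeSpectrum.asIdeal h1
      rw [← congrArg PrimeSpectrum.asIdeal h2, ← h1']
      simp [φ, Scheme.Hom.app_eq_appLE]
      rfl
    have hrank : Module.finrank (Q.comap φ).ResidueField
        ((Q.comap φ).ResidueField ⊗[Γ(U', W)] Ω[Γ(U', W)⁄Γ(Y, S)]) = p := by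
      have hsm : i z ∈ g'.smoothLocus := by rw [Scheme.Hom.smoothLocus_eq_top]; trivial
      have h1 := (SmoothDimLib.mem_smoothLocus_iff g' hS hW eW (i z) hzW).2 hsm
      rw [FibDimLib.fibreDimAt_smoothOfRelativeDimension p g'] at h1
      revert h1
      generalize hq : (hW.primeIdealOf ⟨i z, hzW⟩).asIdeal = q₀, (hW.primeIdealOf ⟨i z, hzW⟩).2 = hp
      obtain rfl := hqQ.trans hq
      intro h1
      exact_mod_cast h1.symm
    obtain ⟨e, -⟩ := OmegaAffLib.exists_equiv (OmegaAffLib.isUniversal_dOmega (f := f)) hS hV eV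
    haveI : Module.Finite Γ(X, V) Γ(Omega.sheaf f, V) := QCohLib.finite_of_isFT hft hV
    rw [FittLib.mem_support_iff _ hft p hV hxV, FittLib.finrank_fibre_le_iff,
      ← (AlgebraTensorModule.congr (LinearEquiv.refl Q.ResidueField Q.ResidueField) e).finrank_eq]
    exact (LciJacLib.finrank_omega_le_of_surjective hsurj Q).trans hrank.le

end Groth.Agent.S16253
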