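import Groth.Statements.S8719
import Groth.Agent.ArSingLib.Jac
import Groth.Agent.MorseLib.Hessian

set_option autoImplicit false
universe u
open VanCyc

namespace Groth.Agent.S8719

/-- The formal computation carried out in its proof: let k be a field and f a power series in k[[x_0,
..., x_n]] with vanishing constant and linear terms whose degree-two part is a non-degenerate
quadratic form (the Gram determinant of its polar bilinear form is a unit). Then the partial
derivatives of f generate the maximal ideal of k[[x_0, ..., x_n]] (so f together with its partial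
derivatives cut out the origin with multiplicity one). -/
theorem result (k : Type u) [Field k] (n : ℕ)
    (f : MvPowerSeries (Fin (n + 1)) k) (hf : VanCyc.NondegQuadSeries f) :
    Ideal.span (Set.range fun i : Fin (n + 1) => MvPowerSeries.pderiv k i f) =
      IsLocalRing.maximalIdeal (MvPowerSeries (Fin (n + 1)) k) := by
  classical
  obtain ⟨⟨h0, h1⟩, hq⟩ := hf
  let U : Fin (n + 1) → MvPowerSeries (Fin (n + 1)) k := fun i => MvPowerSeries.pderiv k i f
  have hU : ∀ i, U i ∈ MorseLib.Low (n := n + 1) (⊥ : Ideal k) 1 := fun i => by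
    rw [ArSingLib.mem_low_one, ← MvPowerSeries.coeff_zero_eq_constantCoeff_apply, MvPowerSeries.coeff_pderiv]
    simp [h1]
  have hdet : IsUnit (ArSingLib.jac U).det := by
    rw [show ArSingLib.jac U = VanCyc.polarMatrix (VanCyc.quadPart f) from
      Matrix.ext fun i l => MorseLib.polarMatrix_quadPart_apply f i l]
    exact hq
  have hbij := ArSingLib.Ev_bijective U hU hdet
  have hm : IsLocalRing.maximalIdeal (MvPowerSeries (Fin (n + 1)) k) =
      Ideal.span (Set.range fun i => (MvPowerSeries.X i : MvPowerSeries (Fin (n + 1)) k)) := by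
    refine le_antisymm (fun g hg => ?_) (Ideal.span_le.2 ?_)
    · rw [ArSingLib.maximalIdeal_eq, ArSingLib.mem_low_one] at hg
      rw [ArSingLib.eq_sum_X_mul hg]
      exact Submodule.sum_mem _ fun i _ => Ideal.mul_mem_right _ _ (Ideal.subset_span ⟨i, rfl⟩)
    · rintro _ ⟨i, rfl⟩
      rw [SetLike.mem_coe, ArSingLib.maximalIdeal_eq, ArSingLib.mem_low_one]
      exact MvPowerSeries.constantCoeff_X i
  refine le_antisymm (Ideal.span_le.2 ?_) fun g hg => ?_
  · rintro _ ⟨i, rfl⟩
    rw [SetLike.mem_coe, ArSingLib.maximalIdeal_eq]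
    exact hU i
  · obtain ⟨g', rfl⟩ := hbij.2 g
    have hg' : g' ∈ IsLocalRing.maximalIdeal (MvPowerSeries (Fin (n + 1)) k) := by
      rw [IsLocalRing.mem_maximalIdeal, mem_nonunits_iff] at hg ⊢
      exact fun hu => hg (hu.map _)
    rw [hm] at hg'
    have := Ideal.mem_map_of_mem (MorseLib.Ev U hU) hg'
    rw [Ideal.map_span, ← Set.range_comp] at this
    rw [show (⇑(MorseLib.Ev U hU) ∘ fun i => (MvPowerSeries.X i : MvPowerSeries (Fin (n + 1)) k)) = U from
      funext fun i => MorseLib.Ev_X U hU i] at this
    exact this

end Groth.Agent.S8719
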