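import Groth.Statements.S16256
import Groth.Agent.LciJacLib.Alg
import Groth.Agent.KoszDetLib.Cone
import Groth.Agent.SmoothDimLib.Omega
import Groth.Agent.OmegaAffLib.Universal
import Groth.Agent.FittLib.OmegaFitt
import Groth.Agent.FibDimLib.Smooth

set_option autoImplicit false
set_option backward.isDefEq.respectTransparency false
set_option maxHeartbeats 1000000
universe u
open CategoryTheory CategoryTheory.Limits TensorProduct AlgebraicGeometry TopologicalSpace
open SDiv

namespace Groth.Agent.S16256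

/-- Let f : Y ⟶ X be locally of finite presentation and quasi-separated, m ≥ 0, and y a point of Y near
which f is a local complete intersection of virtual dimension m, in the factorisation sense: some
open neighbourhood U of y admits a Koszul-regular immersion i of constant codimension c into a
scheme P smooth of relative dimension m + c over X, compatibly with f. Then f is smooth on some open
neighbourhood of y if and only if y does not lie in the m-th Jacobian locus of Y over X, the closed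
subset cut out by the m-th Fitting ideal of Ω_{Y/X}. (Quasi-separatedness of f is assumed because
the module Ω_{Y/X} used here is defined for such f.) -/
theorem result
    {Y X : Scheme.{u}} (f : Y ⟶ X) [LocallyOfFinitePresentation f] [QuasiSeparated f] (m : ℕ) (y : ↥Y)
    (hlci : ∃ (U : Y.Opens) (P : Scheme.{u}) (i : (U : Scheme.{u}) ⟶ P) (π : P ⟶ X) (c : ℕ),
      y ∈ U ∧ RegImm.IsRegularImmersionOfCodim RegImm.Kind.koszul c i ∧
        SmoothOfRelativeDimension (m + c) π ∧ i ≫ π = U.ι ≫ f) :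
    (∃ V : Y.Opens, y ∈ V ∧ Smooth (V.ι ≫ f)) ↔ y ∉ (Fitt.sheafIdeal (Omega.sheaf f) m).support := by
  classical
  obtain ⟨U, P, i, π, c, hyU, ⟨-, hreg⟩, hπ, hcomm⟩ := hlci
  haveI : Smooth π := SmoothOfRelativeDimension.smooth (m + c) π
  obtain ⟨W₀, hzW₀, hclosed, rs, hlen, hseq, hker⟩ := hreg ⟨y, hyU⟩
  subst hlen
  let z : (U : Scheme.{u}) := ⟨y, hyU⟩
  obtain ⟨S, hS, hzS, -⟩ := exists_isAffineOpen_mem_and_subset (X := X) (x := π (i z)) (U := ⊤) trivial
  obtain ⟨g, hgS, hzg⟩ := W₀.2.exists_basicOpen_le (V := π ⁻¹ᵁ S) ⟨i z, hzS⟩ hzW₀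
  let W : P.Opens := P.basicOpen g
  have hW : IsAffineOpen W := W₀.2.basicOpen g
  let T₀ : (U : Scheme.{u}).Opens := i ⁻¹ᵁ W₀.1
  haveI : IsAffine W₀.1 := W₀.2
  haveI := hclosed
  have hT₀ : IsAffineOpen T₀ := isAffine_of_isAffineHom (i ∣_ W₀.1)
  let T : (U : Scheme.{u}).Opens := i ⁻¹ᵁ W
  have hTeq : T = (U : Scheme.{u}).basicOpen (i.app W₀.1 g) := Scheme.preimage_basicOpen i g
  have hT : IsAffineOpen T := hTeq ▸ hT₀.basicOpen _
  -- the ring maps
  have hsurj₀ : Function.Surjective (i.app W₀.1).hom := by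
    have h1 : Function.Surjective (i ∣_ W₀.1).appTop :=
      ((HasAffineProperty.iff_of_isAffine (P := @IsClosedImmersion)).mp hclosed).2
    rw [morphismRestrict_appTop] at h1
    have key : ∀ (W' : P.Opens), W' = W₀.1 →
        Function.Surjective (i.app W').hom → Function.Surjective (i.app W₀.1).hom := by
      rintro _ rfl; exact id
    refine key (W₀.1.ι ''ᵁ ⊤) W₀.1.ι_image_top ?_
    exact (Function.Surjective.of_comp_iff' (ConcreteCategory.bijective_of_isIso
      ((U : Scheme.{u}).presheaf.map _)) _).mp h1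
  letI : Algebra Γ(P, W₀.1) Γ(P, W) := (P.presheaf.map (homOfLE (P.basicOpen_le g)).op).hom.toAlgebra
  haveI : IsLocalization.Away g Γ(P, W) := W₀.2.isLocalization_basicOpen g
  let ρ : Γ((U : Scheme.{u}), T₀) →+* Γ((U : Scheme.{u}), T) :=
    ((U : Scheme.{u}).presheaf.map (homOfLE (i.preimage_mono (P.basicOpen_le g))).op).hom
  letI : Algebra Γ((U : Scheme.{u}), T₀) Γ((U : Scheme.{u}), T) := ρ.toAlgebra
  haveI hlocT : IsLocalization.Away (i.app W₀.1 g) Γ((U : Scheme.{u}), T) :=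
    hT₀.isLocalization_of_eq_basicOpen _ (homOfLE (i.preimage_mono (P.basicOpen_le g))) hTeq
  have hψ : (i.app W).hom = IsLocalization.map Γ((U : Scheme.{u}), T) (i.app W₀.1).hom
      (show Submonoid.powers g ≤ (Submonoid.powers (i.app W₀.1 g)).comap _ by
        rintro _ ⟨n, rfl⟩; exact ⟨n, by simp⟩) := by
    refine IsLocalization.ringHom_ext (Submonoid.powers g) ?_
    rw [IsLocalization.map_comp]
    exact congrArg CommRingCat.Hom.hom (i.naturality (homOfLE (P.basicOpen_le g)).op)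
  have hsurj : Function.Surjective (i.app W).hom := by
    intro b
    obtain ⟨b₀, ⟨_, n, rfl⟩, rfl⟩ := IsLocalization.exists_mk'_eq (Submonoid.powers (i.app W₀.1 g)) b
    obtain ⟨a₀, rfl⟩ := hsurj₀ b₀
    refine ⟨IsLocalization.mk' Γ(P, W) a₀ (⟨g ^ n, n, rfl⟩ : Submonoid.powers g), ?_⟩
    rw [hψ, IsLocalization.map_mk']
    congr 1
    exact Subtype.ext (map_pow _ _ _)
  let f' : Fin rs.length → Γ(P, W) := fun j => algebraMap Γ(P, W₀.1) Γ(P, W) (rs.get j)
  have hexact : KoszDetLib.IsExactK f' := by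
    haveI : Module.Flat Γ(P, W₀.1) Γ(P, W) := IsLocalization.flat _ (Submonoid.powers g)
    refine KRLib.isExactK_of_flat (KoszDetLib.isExactK_of_isKoszulRegularSeq rs.get ?_)
    rw [List.ofFn_get]
    exact hseq
  have hker' : RingHom.ker (i.app W).hom = Ideal.span (Set.range f') := by
    rw [hψ, @IsLocalization.ker_map _ Γ(P, W) _ Γ((U : Scheme.{u}), T) _ _ _ _ (Submonoid.powers g)
      (Submonoid.powers (i.app W₀.1 g)) _ _ _ _ _ (Submonoid.map_powers _ _), hker, Ideal.map_ofList]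
    show Ideal.span {x | x ∈ rs.map _} = _
    congr 1
    ext x
    show x ∈ rs.map _ ↔ _
    rw [List.mem_map]
    constructor
    · rintro ⟨w, hw, rfl⟩
      obtain ⟨n, rfl⟩ := List.mem_iff_get.mp hw
      exact ⟨n, rfl⟩
    · rintro ⟨n, rfl⟩
      exact ⟨_, List.get_mem rs n, rfl⟩
  -- the chart on Y
  let V : Y.Opens := U.ι ''ᵁ T
  have hV : IsAffineOpen V := hT.image_of_isOpenImmersion U.ι
  have hyT : z ∈ T := hzg
  have hyV : y ∈ V := ⟨z, hyT, rfl⟩
  have eW : W ≤ π ⁻¹ᵁ S := hgS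
  have eV : V ≤ f ⁻¹ᵁ S := by
    rintro _ ⟨w, hw, rfl⟩
    show (U.ι ≫ f) w ∈ S
    rw [← hcomm]
    exact eW hw
  let φ : Γ(P, W) →+* Γ(Y, V) := (i.app W).hom
  letI : Algebra Γ(P, W) Γ(Y, V) := φ.toAlgebra
  letI : Algebra Γ(X, S) Γ(P, W) := (π.appLE S W eW).hom.toAlgebra
  letI : Algebra Γ(X, S) Γ(Y, V) := (f.appLE S V eV).hom.toAlgebra
  have hid : U.ι.appLE V T (U.ι.preimage_image_eq T).ge = 𝟙 _ := by
    rw [Scheme.Opens.ι_appLE]
    exact (congrArg Y.presheaf.map (Subsingleton.elim _ (𝟙 (Opposite.op V)))).trans (Y.presheaf.map_id _)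
  haveI : IsScalarTower Γ(X, S) Γ(P, W) Γ(Y, V) := IsScalarTower.of_algebraMap_eq' <| by
    have h1 : π.appLE S W eW ≫ i.appLE W T le_rfl = f.appLE S V eV ≫ U.ι.appLE V T (U.ι.preimage_image_eq T).ge := by
      rw [Scheme.Hom.appLE_comp_appLE, Scheme.Hom.appLE_comp_appLE]
      congr 1
    rw [hid, Category.comp_id] at h1
    refine (congrArg CommRingCat.Hom.hom h1).symm.trans ?_
    simp [φ, RingHom.algebraMap_toAlgebra, Scheme.Hom.app_eq_appLE]
    rfl
  haveI : Algebra.Smooth Γ(X, S) Γ(P, W) :=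
    RingHom.smooth_algebraMap.mp (HasRingHomProperty.appLE @Smooth π ‹_› ⟨S, hS⟩ ⟨W, hW⟩ eW)
  let Q := (hV.primeIdealOf ⟨y, hyV⟩).asIdeal
  have hqQ : Q.comap φ = (hW.primeIdealOf ⟨i z, hzg⟩).asIdeal := by
    have h1 := IsAffineOpen.comap_primeIdealOf_appLE V hV T hT (U.ι.preimage_image_eq T).ge hyT
    rw [hid] at h1
    have h2 := IsAffineOpen.comap_primeIdealOf_appLE W hW T hT (le_refl (i ⁻¹ᵁ W)) hyT
    have h1' : (hT.primeIdealOf ⟨z, hyT⟩).asIdeal = Q := congrArg PrimeSpectrum.asIdeal h1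
    rw [← congrArg PrimeSpectrum.asIdeal h2, ← h1']
    simp [φ, Scheme.Hom.app_eq_appLE]
    rfl
  have hrank : Module.finrank (Q.comap φ).ResidueField
      ((Q.comap φ).ResidueField ⊗[Γ(P, W)] Ω[Γ(P, W)⁄Γ(X, S)]) = m + rs.length := by
    have hsm : i z ∈ π.smoothLocus := by rw [Scheme.Hom.smoothLocus_eq_top]; trivial
    have h1 := (SmoothDimLib.mem_smoothLocus_iff π hS hW eW (i z) hzg).2 hsm
    rw [FibDimLib.fibreDimAt_smoothOfRelativeDimension (m + rs.length) π] at h1
    revert h1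
    generalize hq : (hW.primeIdealOf ⟨i z, hzg⟩).asIdeal = q₀, (hW.primeIdealOf ⟨i z, hzg⟩).2 = hp
    obtain rfl := hqQ.trans hq
    intro h1
    exact_mod_cast h1.symm
  -- the two sides
  have hft := FittLib.isFT_omega f
  haveI := FittLib.isQCoh_omega f
  obtain ⟨e, -⟩ := OmegaAffLib.exists_equiv (OmegaAffLib.isUniversal_dOmega (f := f)) hS hV eV
  haveI : Module.Finite Γ(Y, V) Γ(Omega.sheaf f, V) := QCohLib.finite_of_isFT hft hV
  rw [← SmoothDimLib.mem_smoothLocus_iff_exists, Scheme.Hom.mem_smoothLocus,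
    formallySmooth_stalkMap_iff S hS V hV eV hyV, FittLib.mem_support_iff _ hft m hV hyV,
    FittLib.finrank_fibre_le_iff,
    ← (AlgebraTensorModule.congr (LinearEquiv.refl Q.ResidueField Q.ResidueField) e).finrank_eq]
  exact LciJacLib.isSmoothAt_iff_finrank_le hsurj f' hexact hker' Q hrank

end Groth.Agent.S16256
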