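import Groth.Statements.S16257
import Groth.Agent.SkySumLib.Curve
import Groth.Agent.EtShLib.RestrPull
import Groth.Agent.FibDimLib.Smooth
import Groth.Agent.FibDimLib.TopLocalDim
import Groth.Agent.SmoothDimLib.Chart

set_option autoImplicit false
set_option linter.all false
set_option backward.isDefEq.respectTransparency false
set_option backward.isDefEq.respectTransparency.types false
set_option synthInstance.maxHeartbeats 400000
set_option maxHeartbeats 1600000
universe u
open CategoryTheory CategoryTheory.Limits AlgebraicGeometry Opposite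

namespace Groth.Agent.S16257

open Groth.Agent.EtShLib

theorem eq_of_specializes_of_integral {X W : Scheme.{u}} [IsAffine X] [IsAffine W] (g : X ⟶ W) [IsIntegralHom g]
    {x x' : X} (h : x ⤳ x') (e : g x = g x') : x = x' := by
  have e' : Spec.map g.appTop = X.isoSpec.inv ≫ g ≫ W.isoSpec.hom := by
    rw [← Scheme.isoSpec_hom_naturality, Iso.inv_hom_id_assoc]
  haveI : IsIntegralHom (Spec.map g.appTop) := by rw [e']; infer_instance
  have hint := IsIntegralHom.SpecMap_iff.1 ‹IsIntegralHom (Spec.map g.appTop)›
  letI := g.appTop.hom.toAlgebra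
  haveI : Algebra.IsIntegral Γ(W, ⊤) Γ(X, ⊤) := ⟨hint⟩
  let P := X.isoSpec.hom x
  let Q := X.isoSpec.hom x'
  have hle : P.asIdeal ≤ Q.asIdeal :=
    (PrimeSpectrum.le_iff_specializes P Q).2 (h.map X.isoSpec.hom.continuous)
  have hc : P.asIdeal.comap g.appTop.hom = Q.asIdeal.comap g.appTop.hom := by
    have h1 : ∀ z, Spec.map g.appTop (X.isoSpec.hom z) = W.isoSpec.hom (g z) := fun z => by
      rw [← Scheme.Hom.comp_apply, Scheme.isoSpec_hom_naturality, Scheme.Hom.comp_apply]
    exact congrArg PrimeSpectrum.asIdeal ((h1 x).trans ((congrArg _ e).trans (h1 x').symm))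
  refine X.isoSpec.hom.homeomorph.injective (PrimeSpectrum.ext (le_antisymm hle fun b hb => ?_) : P = Q)
  by_contra hbP
  exact (Ideal.comap_lt_comap_of_integral_mem_sdiff (R := Γ(W, ⊤)) hle ⟨hb, hbP⟩ (Algebra.IsIntegral.isIntegral b)).ne hc

/-- Points over closed points are closed along integral morphisms. -/
theorem isClosed_singleton_of_map {X Y : Scheme.{u}} (g : X ⟶ Y) [IsIntegralHom g] {z : X}
    (hz : IsClosed ({g.base z} : Set Y)) : IsClosed ({z} : Set X) := by
  obtain ⟨_, ⟨W, hW, rfl⟩, hzW, -⟩ :=
    (Y.isBasis_affineOpens).exists_subset_of_mem_open (Set.mem_univ (g.base z)) isOpen_univ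
  refine closure_eq_iff_isClosed.1 (Set.Subset.antisymm (fun w hw => ?_) subset_closure)
  have hs : z ⤳ w := specializes_iff_mem_closure.2 hw
  have he : g.base w = g.base z :=
    (closure_minimal (t := g.base ⁻¹' {g.base z}) (Set.singleton_subset_iff.2 rfl) (hz.preimage g.continuous) hw :)
  haveI : IsAffine (W : Scheme.{u}) := hW
  haveI : IsAffine ((g ⁻¹ᵁ W : X.Opens) : Scheme.{u}) := hW.preimage g
  haveI : IsIntegralHom (g ∣_ W) := IsZariskiLocalAtTarget.restrict ‹_› W
  have hwW : w ∈ g ⁻¹ᵁ W := show g.base w ∈ W by rw [he]; exact hzW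
  have := eq_of_specializes_of_integral (g ∣_ W) (x := ⟨z, hzW⟩) (x' := ⟨w, hwW⟩)
    (subtype_specializes_iff _ _ |>.2 hs) (Subtype.ext (by simp [morphismRestrict_base, he]))
  exact (congrArg Subtype.val this).symm

theorem krullDim_le_one {k : Type u} [Field k] {X : Scheme.{u}} (f : X ⟶ Spec (CommRingCat.of k))
    [SmoothOfRelativeDimension 1 f] : topologicalKrullDim X ≤ (1 : WithBot ℕ∞) := by
  haveI : Smooth f := SmoothOfRelativeDimension.smooth 1 f
  rw [FibDimLib.topologicalKrullDim_eq_iSup_localDim]
  exact iSup_le fun x => ((SmoothDimLib.fibreDimAt_eq_localDim f x).symm.trans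
    (FibDimLib.fibreDimAt_smoothOfRelativeDimension 1 f x)).le.trans_eq Nat.cast_one

/-- Let k be a field, K an algebraic closure of k, X₀ a smooth, separated, geometrically irreducible
k-curve of finite type, j : X₀ ⟶ P₀ an open immersion into a proper k-scheme (a compactification,
through which compactly supported cohomology is computed as H^*(P₀ ⊗_k K, j_!(-))), i : U₀ ⟶ X₀ the
inclusion of a non-empty open subscheme, and F an abelian étale sheaf on X₀ killed by an integer ν
invertible in k. Then the canonical map H^2_c(U₀ ⊗_k K, F|U) ⟶ H^2_c(X₀ ⊗_k K, F), namely the map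
induced on H^2(P₀ ⊗_k K, -) by j_! of the counit i_! i^{-1} F ⟶ F, is bijective. (The published
statement is for an arbitrary constructible ℓ-adic sheaf with Q̄_ℓ-coefficients; the statement here
is the finite-coefficient form of its excision argument, over any base field.) -/
theorem result
    (k K : Type u) [Field k] [Field K] [Algebra k K] [IsAlgClosed K] [Algebra.IsAlgebraic k K]
    {X₀ P₀ U₀ : Scheme.{u}} (a : X₀ ⟶ Spec (CommRingCat.of k))
    [SmoothOfRelativeDimension 1 a] [IsSeparated a] [QuasiCompact a] [GeometricallyIrreducible a]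
    (j : X₀ ⟶ P₀) [IsOpenImmersion j] [EtShriek.JCont j] (b : P₀ ⟶ Spec (CommRingCat.of k)) [IsProper b]
    (hj : j ≫ b = a) (i : U₀ ⟶ X₀) [IsOpenImmersion i] [EtShriek.JCont i] [Nonempty ↥U₀]
    (ν : ℕ) (hν : (ν : k) ≠ 0) (F : EtCoh.Ab X₀) (hF : EtCoh.KilledBy ν F) :
    Function.Bijective (Sheaf.H.map ((EtCoh.pull (FinFr.extπ K b)).map
      ((EtShriek.extZero j).map ((EtShriek.extZeroAdj i).counit.app F))) 2) := by
  haveI : IrreducibleSpace X₀ := GeometricallyIrreducible.irreducibleSpace_of_subsingleton a
  haveI : IsIntegralHom (FinFr.specι k K) := by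
    rw [IsIntegralHom.SpecMap_iff]
    exact fun x => (Algebra.IsIntegral.isIntegral (R := k) x)
  haveI : IsIntegralHom (FinFr.extπ K b) := MorphismProperty.pullback_fst _ _ inferInstance
  haveI : LocallyOfFiniteType (FinFr.extStr K b) := MorphismProperty.pullback_snd _ _ inferInstance
  haveI : IsLocallyNoetherian (FinFr.ext K b) := LocallyOfFiniteType.isLocallyNoetherian (FinFr.extStr K b)
  haveI : QuasiCompact (FinFr.extStr K b) := MorphismProperty.pullback_snd _ _ inferInstance
  haveI : CompactSpace (FinFr.ext K b) := QuasiCompact.compactSpace_of_compactSpace (FinFr.extStr K b)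
  haveI : IsNoetherian (FinFr.ext K b) := ⟨⟩
  haveI : JacobsonSpace P₀ := LocallyOfFiniteType.jacobsonSpace b
  haveI : Smooth a := SmoothOfRelativeDimension.smooth 1 a
  haveI : JacobsonSpace X₀ := LocallyOfFiniteType.jacobsonSpace a
  haveI : LocallyOfFiniteType j := inferInstance
  let π := FinFr.extπ K b
  let ψ := (EtShriek.extZero j).map ((EtShriek.extZeroAdj i).counit.app F)
  have key : ∀ (Ω : Type u) [Field Ω] [IsSepClosed Ω] (ξ : Spec (CommRingCat.of Ω) ⟶ FinFr.ext K b),
      ¬ IsClosed ({ξ.base default} : Set (FinFr.ext K b)) →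
        IsIso ((stk (A := AddCommGrpCat.{u + 1}) ξ).map ((EtCoh.pull π).map ψ)) := fun Ω _ _ ξ hξ => by
    have h1 : IsIso ((stk (A := AddCommGrpCat.{u + 1}) (ξ ≫ π)).map ψ) := by
      by_cases hr : (ξ ≫ π).base default ∈ Set.range j.base
      · obtain ⟨x, hx⟩ := hr
        obtain ⟨v, hv, -⟩ := Scheme.exists_fac_of_etale_of_isSepClosed j (ξ ≫ π) x hx
        have hvi : v.base default ∈ Set.range i.base := by
          by_contra hvi
          apply hξ
          refine isClosed_singleton_of_map π ?_
          have he : π.base (ξ.base default) = j.base (v.base default) :=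
            congrArg (fun t : Spec (CommRingCat.of Ω) ⟶ P₀ => t.base default) hv.symm
          rw [he]
          refine mem_closedPoints_iff.1 (j.closePoints_subset_preimage_closedPoints (mem_closedPoints_iff.2 ?_))
          by_contra hnc
          apply hvi
          have hg : genericPoint X₀ ∈ Set.range i.base :=
            ((genericPoint_spec X₀).mem_open_set_iff i.isOpenEmbedding.isOpen_range).2
              ⟨i.base (Classical.arbitrary _), trivial, ⟨_, rfl⟩⟩
          rwa [← SkySumLib.isMax_of_not_isClosed (krullDim_le_one a) hnc (genericPoint X₀)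
            ((genericPoint_spec X₀).specializes trivial)]
        haveI := isIso_counit_stalk i F v hvi
        rw [← hv]
        exact isIso_extZero_map_stalk j ((EtShriek.extZeroAdj i).counit.app F) v
      · exact ⟨0, (isZero_stalk_extZero j _ (ξ ≫ π) hr).eq_of_src _ _,
          (isZero_stalk_extZero j _ (ξ ≫ π) hr).eq_of_src _ _⟩
    exact (NatIso.isIso_map_iff (stalkPull π ξ AddCommGrpCat.{u + 1}) ψ).1 h1
  let φ := (EtCoh.pull π).map ψ
  have hk : SkySumLib.SuppClosed (kernel φ) := fun Ω _ _ ξ hξ => by
    haveI := key Ω ξ hξ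
    exact IsZero.of_iso (isZero_kernel_of_mono _) (PreservesKernel.iso (stk (A := AddCommGrpCat.{u + 1}) ξ) φ)
  have hc : SkySumLib.SuppClosed (cokernel φ) := fun Ω _ _ ξ hξ => by
    haveI := key Ω ξ hξ
    exact IsZero.of_iso (isZero_cokernel_of_epi _) (PreservesCokernel.iso (stk (A := AddCommGrpCat.{u + 1}) ξ) φ)
  haveI := (SkySumLib.bijective_map_of_suppClosed φ
    (fun x => SkySumLib.isSepClosed_residueField (FinFr.extStr K b) x.1 x.2) hk hc).1 2 (by norm_num)
  exact ConcreteCategory.bijective_of_isIso ((EtCoh.HF (FinFr.ext K b) 2).map φ)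

end Groth.Agent.S16257
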