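import Groth.Statements.S16258
import Groth.Agent.SkySumLib.Curve
import Groth.Agent.EtShLib.RestrPull
import Groth.Agent.ConstTorsLib.Topo
import Groth.Agent.S0107
import Groth.Agent.S6642
import Groth.Agent.S0651

set_option autoImplicit false
set_option linter.all false
set_option backward.isDefEq.respectTransparency false
set_option backward.isDefEq.respectTransparency.types false
set_option synthInstance.maxHeartbeats 400000
set_option maxHeartbeats 1600000
universe u
open CategoryTheory CategoryTheory.Limits AlgebraicGeometry Opposite CategoryTheory.Abelian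

namespace Groth.Agent.S16258

open Groth.Agent.EtShLib

/-- The support of a section of a finite locally constant sheaf is open and closed. -/
theorem isClopen_NZ {X : Scheme.{u}} (G : EtCoh.Ab X) (hG : EtCoh.IsFiniteLocallyConstant G)
    (s : ToType (G.obj.obj (op (EtCoh.top X)))) :
    IsClopen {x : X | SkySumLib.NZ G (V := EtCoh.top X) s x} := by
  obtain ⟨U, _, ⟨e⟩⟩ := Groth.Agent.S0107.result G hG
  haveI : AlgebraicGeometry.Etale U.hom := U.prop
  let a : EtCoh.top X ⟶ U := (e.hom.app (op (EtCoh.top X)) s).down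
  let z : EtCoh.top X ⟶ U := (e.hom.app (op (EtCoh.top X)) (0 : ToType (G.obj.obj (op (EtCoh.top X))))).down
  have key : ∀ (W : X.Etale) (g : W ⟶ EtCoh.top X), G.obj.map g.op s = 0 ↔ g ≫ a = g ≫ z := fun W g => by
    have h0 : G.obj.map g.op (0 : ToType (G.obj.obj (op (EtCoh.top X)))) = 0 := map_zero _
    have n1 : (e.hom.app (op W) (G.obj.map g.op s)).down = g ≫ a :=
      congrArg ULift.down (NatTrans.naturality_apply e.hom g.op s)
    have n2 : (e.hom.app (op W) (G.obj.map g.op (0 : ToType (G.obj.obj (op (EtCoh.top X)))))).down = g ≫ z :=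
      congrArg ULift.down (NatTrans.naturality_apply e.hom g.op _)
    rw [← n1, ← n2, h0]
    exact ⟨fun h => by rw [h], fun h => (e.app (op W)).toEquiv.injective (ULift.down_injective h)⟩
  obtain ⟨O, hO, hOe, hmax⟩ := ConstTorsLib.exists_clopen_eq U.hom a.left z.left
    ((MorphismProperty.Over.w a).trans (MorphismProperty.Over.w z).symm)
  have hset : {x : X | SkySumLib.NZ G (V := EtCoh.top X) s x}ᶜ = (O.1 : Set X) := by
    ext x
    constructor
    · intro hx
      obtain ⟨W, g, w, hw, he⟩ := not_not.1 hx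
      exact hmax W.left g.left (congrArg (fun t : W ⟶ U => t.left) ((key W g).1 he)) ⟨w, hw⟩
    · intro hx
      refine not_not.2 ⟨Scheme.Etale.mk O.ι, MorphismProperty.Over.homMk O.ι (Category.comp_id _), ⟨x, hx⟩, rfl, ?_⟩
      exact (key _ _).2 (MorphismProperty.Over.Hom.ext hOe)
  have : IsClopen ({x : X | SkySumLib.NZ G (V := EtCoh.top X) s x}ᶜ) := by
    rw [hset]; exact ⟨hO, O.2⟩
  simpa using this.compl

/-- The support of a section is closed. -/
theorem isClosed_NZ {X : Scheme.{u}} (G : EtCoh.Ab X) (s : ToType (G.obj.obj (op (EtCoh.top X)))) :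
    IsClosed {x : X | SkySumLib.NZ G (V := EtCoh.top X) s x} := by
  refine isOpen_compl_iff.1 (isOpen_iff_forall_mem_open.2 fun v hv => ?_)
  obtain ⟨W, g, w, hw, he⟩ := not_not.1 hv
  haveI := etale_left g
  exact ⟨Set.range g.left.base, fun _ ⟨w', hw'⟩ => not_not.2 ⟨W, g, w', hw', he⟩,
    g.left.isOpenMap.isOpen_range, w, hw⟩

/-- Supports of sections are compatible with inverse images. -/
theorem nz_pull {X Y : Scheme.{u}} (f : X ⟶ Y) (G : EtCoh.Ab Y)
    (s : ToType (G.obj.obj (op (EtCoh.top Y)))) :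
    ∃ s' : ToType (((EtCoh.pull f).obj G).obj.obj (op (EtCoh.top X))), ∀ x : X,
      SkySumLib.NZ ((EtCoh.pull f).obj G) (V := EtCoh.top X) s' x ↔
        SkySumLib.NZ G (V := EtCoh.top Y) s (f.base x) := by
  let t : EtCoh.top X ⟶ (EtCoh.bc f).obj (EtCoh.top Y) :=
    MorphismProperty.Over.homMk (pullback.lift f (𝟙 X) (by
      show f ≫ 𝟙 Y = 𝟙 X ≫ f
      simp)) (pullback.lift_snd _ _ _)
  let s₁ := ((adjA f AddCommGrpCat.{u + 1}).unit.app G).hom.app (op (EtCoh.top Y)) s
  refine ⟨((EtCoh.pull f).obj G).obj.map t.op s₁, fun x => ?_⟩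
  obtain ⟨Ω, _, _, ξ, v, hv⟩ := exists_geometric (U := EtCoh.top X) x
  let y : Fib (ξ ≫ f) (EtCoh.top Y) := Fib.mk (ξ ≫ f) (Category.comp_id _)
  have hy : y.pt = f.base x := by
    show (ξ ≫ f).base default = _
    have : v.hom = ξ := (Category.comp_id v.hom).symm.trans v.w
    rw [← hv]
    show f.base (ξ.base default) = f.base (v.hom.base default)
    rw [this]
    rfl
  rw [← hy, ← hv, ← not_iff_not, ← germ_eq_zero_iff' , ← germ_eq_zero_iff']
  have e1 : germ ξ ((EtCoh.pull f).obj G) (EtCoh.top X) v (((EtCoh.pull f).obj G).obj.map t.op s₁) =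
      (stalkPull f ξ AddCommGrpCat.{u + 1}).hom.app G (germ (ξ ≫ f) G (EtCoh.top Y) y s) := by
    rw [germ_res_apply, ← ConcreteCategory.comp_apply, germ_stalkPull]
    have : v.map t = y.lift f ξ := by
      refine Fib.ext (pullback.hom_ext ?_ ?_)
      · rw [Fib.map_hom, Category.assoc]
        show v.hom ≫ pullback.lift f (𝟙 X) _ ≫ pullback.fst _ _ = _
        rw [pullback.lift_fst]
        refine (congrArg (· ≫ f) ?_).trans (pullback.lift_fst _ _ _).symm
        exact (Category.comp_id v.hom).symm.trans v.w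
      · exact ((v.map t).w).trans ((y.lift f ξ).w).symm
    rw [this]
    rfl
  rw [e1]
  exact map_eq_zero_iff _ (ConcreteCategory.bijective_of_isIso ((stalkPull f ξ AddCommGrpCat.{u + 1}).hom.app G)).1
where germ_eq_zero_iff' {X : Scheme.{u}} {G : EtCoh.Ab X} {V : X.Etale} {s : ToType (G.obj.obj (op V))}
    {Ω : Type u} [Field Ω] [IsSepClosed Ω] {ξ : Spec (CommRingCat.of Ω) ⟶ X} {v : Fib ξ V} :
    germ ξ G V v s = 0 ↔ ¬ SkySumLib.NZ G s v.pt := SkySumLib.germ_eq_zero_iff G s v

/-- Let k be a field, K an algebraic closure of k, X₀ a smooth, separated, geometrically irreducible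
k-curve of finite type which is NOT proper over k, j : X₀ ⟶ P₀ an open immersion into a proper
k-scheme, and F a finite locally constant abelian étale sheaf on X₀. Then the compactly supported
cohomology in degree 0, H^0_c(X₀ ⊗_k K, F) = H^0(P₀ ⊗_k K, j_! F), is zero. (The published statement
is for a smooth ℓ-adic sheaf with Q̄_ℓ-coefficients, together with H^0_c = H^0 for proper curves;
the statement here is the finite locally constant case of the non-proper half.) -/
theorem result
    (k K : Type u) [Field k] [Field K] [Algebra k K] [IsAlgClosed K] [Algebra.IsAlgebraic k K]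
    {X₀ P₀ : Scheme.{u}} (a : X₀ ⟶ Spec (CommRingCat.of k))
    [SmoothOfRelativeDimension 1 a] [IsSeparated a] [QuasiCompact a] [GeometricallyIrreducible a]
    (ha : ¬ IsProper a)
    (j : X₀ ⟶ P₀) [IsOpenImmersion j] [EtShriek.JCont j] (b : P₀ ⟶ Spec (CommRingCat.of k)) [IsProper b]
    (hj : j ≫ b = a) (F : EtCoh.Ab X₀) (hF : EtCoh.IsFiniteLocallyConstant F) :
    Subsingleton (EtCoh.H (FinFr.ext K b) ((EtCoh.pull (FinFr.extπ K b)).obj ((EtShriek.extZero j).obj F)) 0) := by
  let π := FinFr.extπ K b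
  let G := (EtCoh.pull π).obj ((EtShriek.extZero j).obj F)
  let jK : pullback π j ⟶ FinFr.ext K b := pullback.fst π j
  let q : pullback π j ⟶ X₀ := pullback.snd π j
  haveI : IsIntegralHom (FinFr.specι k K) := by
    rw [IsIntegralHom.SpecMap_iff]
    exact fun x => (Algebra.IsIntegral.isIntegral (R := k) x)
  haveI : IsIntegralHom π := MorphismProperty.pullback_fst _ _ inferInstance
  haveI : Surjective (FinFr.specι k K) := ⟨fun x => ⟨default, Subsingleton.elim _ _⟩⟩
  haveI : Surjective π := MorphismProperty.pullback_fst _ _ inferInstance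
  have hsq : IsPullback q (jK ≫ FinFr.extStr K b) a (FinFr.specι k K) := by
    rw [← hj]
    exact (IsPullback.of_hasPullback π j).flip.paste_vert (IsPullback.of_hasPullback b (FinFr.specι k K))
  haveI : IrreducibleSpace ↥(pullback π j) :=
    GeometricallyIrreducible.geometrically_irreducibleSpace (f := a) _ _ _ hsq
  haveI : IsIso ((EtShriek.extZeroAdj j).unit.app F) := (Groth.Agent.S0651.result j F).2
  obtain ⟨θ⟩ := nonempty_pull_iso_restrAlong j ((EtShriek.extZero j).obj F)
  let e : (EtCoh.pull q).obj F ≅ (EtCoh.pull jK).obj G :=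
    (EtCoh.pull q).mapIso (asIso ((EtShriek.extZeroAdj j).unit.app F) ≪≫ θ.symm) ≪≫
      ((EtCore.pullComp q j).symm ≪≫ EtCore.pullCongr pullback.condition.symm ≪≫ EtCore.pullComp jK π).app _
  have hlc : EtCoh.IsFiniteLocallyConstant ((EtCoh.pull jK).obj G) := by
    obtain ⟨ι, U, hU, hU'⟩ := (Groth.Agent.S6642.result q).2.1 F hF
    refine ⟨ι, U, hU, fun i => ?_⟩
    obtain ⟨M, hM, hfin, ⟨c⟩⟩ := hU' i
    exact ⟨M, hM, hfin, ⟨((Over.forget (U i)).sheafPushforwardContinuous AddCommGrpCat.{u + 1} _ _).mapIso e.symm ≪≫ c⟩⟩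
  have hsub : ∀ s : ToType (G.obj.obj (op (EtCoh.top (FinFr.ext K b)))), s = 0 := fun s => by
    refine SkySumLib.eq_zero_of_forall G s fun x hx => ha ?_
    let Z : Set (FinFr.ext K b) := {x | SkySumLib.NZ G (V := EtCoh.top (FinFr.ext K b)) s x}
    have hZsub : Z ⊆ Set.range jK.base := fun y hy => by
      rw [Scheme.Pullback.range_fst]
      by_contra hy'
      obtain ⟨Ω, _, _, ξ, v, hv⟩ := exists_geometric (U := EtCoh.top (FinFr.ext K b)) y
      have hξ : ξ.base default = y := by
        have := (Category.comp_id v.hom).symm.trans v.w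
        rw [← hv]
        exact (congrArg (fun t : Spec (CommRingCat.of Ω) ⟶ FinFr.ext K b => t.base default) this).symm
      refine (SkySumLib.germ_eq_zero_iff G s v).not.2 (not_not.2 (hv ▸ hy)) ?_
      haveI : Subsingleton ((stk (A := AddCommGrpCat.{u + 1}) ξ).obj G) :=
        AddCommGrpCat.subsingleton_of_isZero ((isZero_stalk_extZero j F (ξ ≫ π)
          (show π.base (ξ.base default) ∉ _ by rw [hξ]; exact hy')).of_iso
            ((stalkPull π ξ AddCommGrpCat.{u + 1}).app _).symm)
      exact Subsingleton.elim _ _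
    obtain ⟨s', hs'⟩ := nz_pull jK G s
    have huniv : {z | SkySumLib.NZ ((EtCoh.pull jK).obj G) (V := EtCoh.top _) s' z} = Set.univ := by
      obtain ⟨z, hz⟩ := hZsub hx
      exact ((isClopen_iff.1 (isClopen_NZ _ hlc s')).resolve_left
        (Set.nonempty_iff_ne_empty.1 ⟨z, (hs' z).2 (hz.symm ▸ hx)⟩))
    have hZ : Z = π.base ⁻¹' Set.range j.base := by
      rw [← Scheme.Pullback.range_fst π j]
      refine Set.Subset.antisymm hZsub ?_
      rintro _ ⟨z, rfl⟩
      exact (hs' z).1 ((Set.ext_iff.1 huniv z).2 (Set.mem_univ z))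
    have hcl : IsClosed (Set.range j.base) := by
      have h1 : IsClosed (π.base '' Z) := π.isClosedMap _ (isClosed_NZ G s)
      rwa [hZ, Set.image_preimage_eq _ π.surjective] at h1
    haveI : IsClosedImmersion j := IsClosedImmersion.of_isPreimmersion j hcl
    rw [← hj]
    infer_instance
  refine subsingleton_of_forall_eq 0 fun x => ?_
  obtain ⟨m, rfl⟩ := (Ext.mk₀_bijective _ _).2 x
  have : m = 0 := ((EtCore.constAdj _).homEquiv _ _).injective (AddCommGrpCat.ext fun n => (hsub _).trans (hsub _).symm)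
  rw [this, Ext.mk₀_zero]

end Groth.Agent.S16258
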