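import Groth.Statements.S16259
import Mathlib


-- import your own Groth.Agent.* helpers here

set_option autoImplicit false
open W4c3wronskmg

namespace Groth.Agent.S16259

open Polynomial in
/-- Over a field of characteristic zero, for positive integers `i, j` and a natural number `n`, the
polynomial `h(W) = ∑_{l=0}^{n} (i choose l) (j choose (n-l)) W^(n-l)`, the coefficient of
`X^(i+j-n)` in `(X+1)^i (X+W)^j`, has no multiple root other than possibly `0` and `1`: every `c ≠
0, 1` has root multiplicity at most one. -/
theorem result
    (k : Type*) [Field k] [CharZero k] (i j n : ℕ) (hi : 0 < i) (hj : 0 < j) (c : k) (hc0 : c ≠ 0) (hc1 : c ≠ 1) :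
    Polynomial.rootMultiplicity c
      (∑ l ∈ Finset.range (n + 1),
        Polynomial.C (((i.choose l) * (j.choose (n - l)) : ℕ) : k) * Polynomial.X ^ (n - l)) ≤ 1 := by
  classical
  set h := ∑ l ∈ Finset.range (n + 1), Polynomial.C (((i.choose l) * (j.choose (n - l)) : ℕ) : k) * Polynomial.X ^ (n - l) with hdef
  let a : ℕ → k := fun m => if m ≤ n then ((i.choose (n - m) : k) * (j.choose m : k)) else 0
  have hcoeff : ∀ m, h.coeff m = a m := by
    intro m
    rw [hdef, Polynomial.finsetSum_coeff]
    simp only [Polynomial.coeff_C_mul_X_pow, a]
    split_ifs with hm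
    · rw [Finset.sum_eq_single (n - m)]
      · rw [if_pos (by omega), show n - (n - m) = m by omega]; push_cast; rfl
      · intro l hl hne; rw [if_neg (by simp at hl; omega)]
      · intro hnot; simp at hnot
    · exact Finset.sum_eq_zero fun l hl => if_neg (by omega)
  have hrec : ∀ m : ℕ, ((m : k) + 1) * ((m : k) + ((i : k) - n + 1)) * a (m + 1) = ((m : k) - n) * ((m : k) - j) * a m := by
    intro m
    have hj1 : ((m : k) + 1) * (j.choose (m + 1) : k) = ((j : k) - m) * (j.choose m : k) := by
      rcases le_or_gt m j with hmj | hmj
      · have := congrArg (Nat.cast (R := k)) (Nat.choose_succ_right_eq j m)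
        push_cast [Nat.cast_sub hmj] at this
        linear_combination this
      · rw [Nat.choose_eq_zero_of_lt hmj, Nat.choose_eq_zero_of_lt (by omega)]; simp
    simp only [a]
    by_cases h1 : m + 1 ≤ n
    · rw [if_pos h1, if_pos (by omega)]
      set t := n - (m + 1) with ht
      rw [show n - m = t + 1 by omega]
      have htk : (n : k) = (t : k) + (m : k) + 1 := by
        have : n = t + m + 1 := by omega
        rw [this]; push_cast; rfl
      have hi1 : ((t : k) + 1) * (i.choose (t + 1) : k) = ((i : k) - t) * (i.choose t : k) := by
        rcases le_or_gt t i with hti | hti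
        · have := congrArg (Nat.cast (R := k)) (Nat.choose_succ_right_eq i t)
          push_cast [Nat.cast_sub hti] at this
          linear_combination this
        · rw [Nat.choose_eq_zero_of_lt hti, Nat.choose_eq_zero_of_lt (by omega)]; simp
      rw [htk]
      linear_combination ((i : k) - (t : k)) * (i.choose t : k) * hj1 - ((j : k) - (m : k)) * (j.choose m : k) * hi1
    · rw [if_neg h1]
      by_cases h2 : m ≤ n
      · have : m = n := by omega
        subst this; simp
      · rw [if_neg h2]; simp
  set C0 : k := (i : k) - n + 1 with hC0
  have hode : Polynomial.X * (1 - Polynomial.X) * Polynomial.derivative (Polynomial.derivative h) +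
      (Polynomial.C C0 - Polynomial.C (1 - (n : k) - j) * Polynomial.X) * Polynomial.derivative h -
        Polynomial.C ((n : k) * j) * h = 0 := by
    have e : Polynomial.X * (1 - Polynomial.X) * Polynomial.derivative (Polynomial.derivative h) +
      (Polynomial.C C0 - Polynomial.C (1 - (n : k) - j) * Polynomial.X) * Polynomial.derivative h -
        Polynomial.C ((n : k) * j) * h = Polynomial.derivative (Polynomial.derivative h) * Polynomial.X
        - Polynomial.derivative (Polynomial.derivative h) * Polynomial.X * Polynomial.X + Polynomial.C C0 * Polynomial.derivative h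
        - Polynomial.C (1 - (n : k) - j) * (Polynomial.derivative h * Polynomial.X) - Polynomial.C ((n : k) * j) * h := by ring
    rw [e]
    ext m
    simp only [Polynomial.coeff_sub, Polynomial.coeff_add, Polynomial.coeff_C_mul, Polynomial.coeff_zero]
    rcases m with _ | _ | m
    · simp only [Polynomial.coeff_mul_X_zero, Polynomial.coeff_derivative, hcoeff]
      have := hrec 0
      simp at this ⊢
      linear_combination this
    · simp only [Polynomial.coeff_mul_X, Polynomial.coeff_mul_X_zero, Polynomial.coeff_derivative, hcoeff]
      have := hrec 1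
      simp at this ⊢
      linear_combination this
    · simp only [Polynomial.coeff_mul_X, Polynomial.coeff_derivative, hcoeff]
      have := hrec (m + 2)
      push_cast at this ⊢
      linear_combination this
  by_contra hlt
  push Not at hlt
  by_cases h0 : h = 0
  · rw [h0, Polynomial.rootMultiplicity_zero] at hlt; omega
  obtain ⟨g, hg, hgd⟩ := Polynomial.exists_eq_pow_rootMultiplicity_mul_and_not_dvd h h0 c
  obtain ⟨r, hrr⟩ : ∃ r, Polynomial.rootMultiplicity c h = r + 2 := ⟨_, (Nat.sub_add_cancel hlt).symm⟩
  rw [hrr] at hg
  have hgc : g.eval c ≠ 0 := fun hh => hgd (Polynomial.dvd_iff_isRoot.2 hh)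
  set L := Polynomial.X - Polynomial.C c with hL
  rw [hg] at hode
  simp only [Polynomial.derivative_mul, Polynomial.derivative_pow, Polynomial.derivative_add, hL ▸ (show Polynomial.derivative (Polynomial.X - Polynomial.C c) = 1 by simp), Polynomial.derivative_C, mul_one, Nat.add_sub_cancel, zero_mul, zero_add] at hode
  have key : L ^ r * (Polynomial.X * (1 - Polynomial.X) * (Polynomial.C (((r + 2 : ℕ) : k) * ((r + 1 : ℕ) : k)) * g) + L *
      (Polynomial.X * (1 - Polynomial.X) * (2 * Polynomial.C (((r + 2 : ℕ) : k)) * Polynomial.derivative g + L * Polynomial.derivative (Polynomial.derivative g)) +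
      (Polynomial.C C0 - Polynomial.C (1 - (n : k) - j) * Polynomial.X) * (Polynomial.C (((r + 2 : ℕ) : k)) * g + L * Polynomial.derivative g) -
      Polynomial.C ((n : k) * j) * (L * g))) = 0 := by
    rw [show r + 2 - 1 = r + 1 by omega] at hode
    rw [show r + 1 - 1 = r by omega] at hode
    rw [Polynomial.C_mul]
    linear_combination hode
  have h2 := congrArg (Polynomial.eval c) ((mul_eq_zero.1 key).resolve_left (pow_ne_zero _ (Polynomial.X_sub_C_ne_zero c)))
  simp [hL, hc0, hgc, sub_eq_zero, Ne.symm hc1] at h2
  rcases h2 with h2 | h2 <;> · norm_cast at h2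

end Groth.Agent.S16259
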