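import Groth.Statements.S1626
import Groth.Agent.S1625
import Groth.Agent.S9676
import Groth.Agent.S0566
import Groth.Agent.NormFinVarLib.Scheme
import Groth.Agent.ModifLib.Norm
import Groth.Agent.CurveAmpLib.Proj
import Groth.Agent.CurveAmpLib.Integral
import Mathlib.AlgebraicGeometry.ZariskisMainTheorem

set_option autoImplicit false
universe u
open CategoryTheory CategoryTheory.Limits AlgebraicGeometry
open Variety

namespace Groth.Agent.S1626

theorem isNagata_field (K : Type u) [Field K] : CAlg.IsNagata K := by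
  refine ⟨inferInstance, fun p hp => ?_⟩
  intro L _ _ _ _ hfd
  haveI : p.IsMaximal := (Ideal.eq_bot_of_prime p).symm ▸ Ideal.bot_isMaximal
  letI : Field (K ⧸ p) := Ideal.Quotient.field p
  haveI := hfd
  haveI : Module.Finite (K ⧸ p) (FractionRing (K ⧸ p)) :=
    Module.Finite.of_surjective (Algebra.linearMap (K ⧸ p) (FractionRing (K ⧸ p)))
      (fun z => (IsLocalization.algEquiv (nonZeroDivisors (K ⧸ p)) (K ⧸ p) (FractionRing (K ⧸ p))).surjective z |>.imp fun a ha => ((IsLocalization.algEquiv (nonZeroDivisors (K ⧸ p)) (K ⧸ p) (FractionRing (K ⧸ p))).commutes a).symm.trans ha)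
  haveI : Module.Finite (K ⧸ p) L := Module.Finite.trans (FractionRing (K ⧸ p)) L
  exact inferInstanceAs (Module.Finite (K ⧸ p) (integralClosure (K ⧸ p) L).toSubmodule)

/-- Let X be reduced, separated and of finite type over k with dim X ≤ 1. Then there are a closed
subscheme Y of some P^d_k and a dense, scheme-theoretically dense open immersion j : X → Y over k
whose complement is a finite set of closed points at each of which the local ring of Y is a discrete
valuation ring. -/
theorem result (k : Type u) [Field k] (X : Scheme.{u}) [X.Over (Spec (CommRingCat.of k))] [IsReduced X] [IsSeparated (X ↘ (Spec (CommRingCat.of k)))] [LocallyOfFiniteType (X ↘ (Spec (CommRingCat.of k)))] [QuasiCompact (X ↘ (Spec (CommRingCat.of k)))] (hdim : topologicalKrullDim X ≤ 1) :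
    ∃ (d : ℕ) (Y : Scheme.{u}) (c : Y ⟶ CohB1.ProjSpace d k) (j : X ⟶ Y), IsClosedImmersion c ∧ IsOpenImmersion j ∧
      j ≫ c ≫ CohB1.ProjSpace.toSpec d k = X ↘ (Spec (CommRingCat.of k)) ∧ Dense (Set.range j.base) ∧ IsSchemeTheoreticallyDominant j ∧
      (Set.range j.base)ᶜ.Finite ∧ ∀ y ∈ (Set.range j.base)ᶜ, IsClosed ({y} : Set Y) ∧
        ∃ _ : IsDomain (Y.presheaf.stalk y), IsDiscreteValuationRing (Y.presheaf.stalk y) := by
  classical
  let q := X ↘ (Spec (CommRingCat.of k))
  obtain ⟨d, Y₀, c₀, j₀, hc₀, hj₀, hjc, -, -, -, -⟩ := Groth.Agent.S1625.result k X hdim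
  haveI := hc₀
  haveI := hj₀
  haveI : IsProper (CohB1.ProjSpace.toSpec d k) := ProjDegLib.toSpec_isProper k d
  let s₀ : Y₀ ⟶ Spec (CommRingCat.of k) := c₀ ≫ CohB1.ProjSpace.toSpec d k
  haveI : IsProper s₀ := inferInstanceAs (IsProper (c₀ ≫ _))
  haveI : IsLocallyNoetherian X := LocallyOfFiniteType.isLocallyNoetherian q
  haveI : IsLocallyNoetherian Y₀ := LocallyOfFiniteType.isLocallyNoetherian s₀
  haveI : CompactSpace X := QuasiCompact.compactSpace_of_compactSpace q
  haveI : IsNoetherian X := ⟨⟩
  haveI : QuasiCompact (j₀ ≫ s₀) := hjc.symm ▸ (inferInstance : QuasiCompact q)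
  haveI : QuasiCompact j₀ := QuasiCompact.of_comp j₀ s₀
  haveI : QuasiSeparated j₀ := inferInstance
  haveI hfin : IsFinite j₀.fromNormalization := NormFinVarLib.isFinite_fromNormalization k s₀ j₀
  let j : X ⟶ j₀.normalization := j₀.toNormalization
  haveI hj : IsOpenImmersion j := inferInstanceAs (IsOpenImmersion j₀.toNormalization)
  letI ov : j₀.normalization.Over (Spec (CommRingCat.of k)) := ⟨j₀.fromNormalization ≫ s₀⟩
  haveI : IsProper (j₀.normalization ↘ Spec (CommRingCat.of k)) := inferInstanceAs (IsProper (j₀.fromNormalization ≫ s₀))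
  haveI := CurvLib.isNoetherian k (X := j₀.normalization)
  have hd : Dense (Set.range j.base) := j₀.toNormalization.denseRange
  have hmem : ∀ z : j₀.normalization, FinPicLib.IsGen z → z ∈ Set.range j.base := fun z hz =>
    FinPicLib.mem_of_dense hz j.isOpenEmbedding.isOpen_range hd
  have hdimY : topologicalKrullDim j₀.normalization ≤ 1 := by
    refine FibDimLib.topologicalKrullDim_le_of_generic fun z hz => ?_
    have hzG : FinPicLib.IsGen z := fun w hw => by
      have h1 : closure ({z} : Set j₀.normalization) ⊆ closure {w} :=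
        (isClosed_closure.closure_subset_iff).mpr (Set.singleton_subset_iff.mpr (specializes_iff_mem_closure.mp hw))
      have h2 := hz.2 isIrreducible_singleton.closure h1
      exact (hw.antisymm (specializes_iff_mem_closure.mpr (h2 (subset_closure rfl)))).eq
    obtain ⟨a, rfl⟩ := hmem z hzG
    rw [← FibDimLib.topologicalKrullDim_closure_of_isOpenEmbedding (j₀.fromNormalization ≫ s₀) j.isOpenEmbedding a]
    exact (Topology.IsInducing.subtypeVal.topologicalKrullDim_le).trans hdim
  obtain ⟨N, c, hc, hcc⟩ := CurveAmpLib.exists_proj k j₀.normalization hdimY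
  have hnG : ∀ y ∈ (Set.range j.base)ᶜ, ¬ FinPicLib.IsGen y := fun y hy h => hy (hmem y h)
  refine ⟨N, j₀.normalization, c, j, hc, hj, ?_, hd, IsSchemeTheoreticallyDominant.of_isDominant j₀.toNormalization,
    FinPicLib.finite_of_closed hdimY j.isOpenEmbedding.isOpen_range.isClosed_compl hnG, fun y hy => ⟨?_, ?_⟩⟩
  · rw [hcc]
    show j₀.toNormalization ≫ j₀.fromNormalization ≫ s₀ = _
    rw [j₀.toNormalization_fromNormalization_assoc]
    exact hjc
  · refine closure_subset_iff_isClosed.mp fun w hw => ?_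
    exact (FinPicLib.eq_of_specializes_of_not_isGen hdimY (hnG y hy) (specializes_iff_mem_closure.mpr hw)).symm
  · refine Groth.Agent.S9676.result j₀ (ModifLib.isNagata_affineOpens s₀ fun U => ?_) y ?_ hy
    · letI : Algebra k Γ(Spec (CommRingCat.of k), U.1) :=
        ((Scheme.ΓSpecIso (CommRingCat.of k)).inv ≫ (𝟙 (Spec (CommRingCat.of k)) : _ ⟶ _).appLE ⊤ U.1 le_top).hom.toAlgebra
      haveI : Algebra.FiniteType k Γ(Spec (CommRingCat.of k), U.1) :=
        RingHom.finiteType_algebraMap.1 (((𝟙 (Spec (CommRingCat.of k)) : _ ⟶ _).finiteType_appLE (isAffineOpen_top _) U.2 _).comp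
          (RingHom.FiniteType.of_surjective _ (Scheme.ΓSpecIso (CommRingCat.of k)).symm.commRingCatIsoToRingEquiv.surjective))
      exact Groth.Agent.S0566.result k (isNagata_field k) _
    · haveI := CurveAmpLib.krullDimLE_stalk hdimY y
      refine le_antisymm (Ring.krullDimLE_iff.mp inferInstance) ?_
      obtain ⟨z, hzy, hne⟩ : ∃ z : j₀.normalization, z ⤳ y ∧ z ≠ y := by
        have := hnG y hy
        simp only [FinPicLib.IsGen, not_forall] at this
        obtain ⟨z, hz, hne⟩ := this
        exact ⟨z, hz, hne⟩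
      rw [AlgebraicGeometry.ringKrullDim_stalk_eq_coheight]
      have hlt : y < z := lt_of_le_not_ge (show y ≤ z from hzy) fun h => hne ((show y ⤳ z from h).antisymm hzy).eq.symm
      exact_mod_cast Order.one_le_iff_pos.2 (Order.coheight_pos.2 (not_isMax_iff.2 ⟨z, hlt⟩))

end Groth.Agent.S1626
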