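import Groth.Statements.S16260
import Mathlib
-- import your own Groth.Agent.* helpers here

set_option autoImplicit false
open W4c3wronskmg

namespace Groth.Agent.S16260

open Polynomial in
/-- Let `k` be a field of characteristic zero, `a, b, i` positive integers with `i ≤ a + b`, and `j = a
+ b + 2 - i`. On the projective line with three marked points `A = 0`, `B = 1`, `C = ∞`, the
`(a+b+1)`-dimensional linear system `V = H⁰(ω((1+a)A)) ⊕ H⁰(ω((1+b)B)) ⊕ H⁰(ω(2C)) ⊆ H⁰(ω((1+a)A +
(1+b)B + 2C)) ≅ H⁰(O(a+b+2))` becomes, in the affine coordinate, the span of the multiples of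
`X^(a+1)` of degree at most `a+b`, the multiples of `(X-1)^(b+1)` of degree at most `a+b`, and
`X^(a+1) (X-1)^(b+1)`; and `V(-iP-jQ)` is the subspace of members divisible by `(X-p)^i (X-q)^j`.
Then there are no points `P = p`, `Q = q` other than `A, B, C` (that is, `p, q ∉ {0, 1}`; `p = q`
allowed) with both `dim V(-iP-jQ) ≥ 1` and `dim V(-(i-1)P-(j-1)Q) ≥ 2`. (The published statement is
over the complex numbers.) -/
theorem result
    (k : Type*) [Field k] [CharZero k] (a b i j : ℕ) (ha : 0 < a) (hb : 0 < b) (hi : 0 < i) (hiab : i ≤ a + b)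
    (hj : i + j = a + b + 2)
    (V : Submodule k (Polynomial k))
    (hV : V = ((Ideal.span {(X : Polynomial k) ^ (a + 1)}).restrictScalars k ⊓ Polynomial.degreeLE k ↑(a + b)) ⊔
      ((Ideal.span {((X : Polynomial k) - 1) ^ (b + 1)}).restrictScalars k ⊓ Polynomial.degreeLE k ↑(a + b)) ⊔
      Submodule.span k {(X : Polynomial k) ^ (a + 1) * (X - 1) ^ (b + 1)})
    (p q : k) (hp0 : p ≠ 0) (hp1 : p ≠ 1) (hq0 : q ≠ 0) (hq1 : q ≠ 1) :
    ¬ (1 ≤ Module.finrank k ↥(V ⊓ (Ideal.span {(X - C p) ^ i * (X - C q) ^ j}).restrictScalars k) ∧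
       2 ≤ Module.finrank k ↥(V ⊓ (Ideal.span {(X - C p) ^ (i - 1) * (X - C q) ^ (j - 1)}).restrictScalars k)) := by
  classical
  rintro ⟨h1, h2⟩
  obtain ⟨i, rfl⟩ : ∃ t, i = t + 1 := ⟨i - 1, by omega⟩
  obtain ⟨j, rfl⟩ : ∃ t, j = t + 1 := ⟨j - 1, by omega⟩
  rw [Nat.add_sub_cancel, Nat.add_sub_cancel] at h2
  set g : k[X] := (X - C p) ^ i * (X - C q) ^ j with hg
  set h0 : k[X] := (X - C p) * (X - C q) with hh0
  set den : k[X] := X ^ (a + 1) * (X - 1) ^ (b + 1) with hden
  have hX1 : (X - 1 : k[X]) = X - C 1 := by simp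
  have hgmon : g.Monic := ((monic_X_sub_C p).pow i).mul ((monic_X_sub_C q).pow j)
  have hgdeg : g.natDegree = a + b := by
    rw [hg, ((monic_X_sub_C p).pow i).natDegree_mul ((monic_X_sub_C q).pow j)]
    simp [natDegree_pow]
    omega
  have hh0mon : h0.Monic := (monic_X_sub_C p).mul (monic_X_sub_C q)
  have hh0deg : h0.natDegree = 2 := by
    rw [hh0, (monic_X_sub_C p).natDegree_mul (monic_X_sub_C q)]; simp
  have hdenmon : den.Monic := by
    rw [hden, hX1]; exact (monic_X_pow _).mul ((monic_X_sub_C 1).pow _)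
  have hdendeg : den.natDegree = a + b + 2 := by
    rw [hden, hX1, (monic_X_pow (a+1)).natDegree_mul ((monic_X_sub_C 1).pow _)]
    simp only [natDegree_pow, natDegree_X_sub_C, natDegree_X, mul_one]
    omega
  let W1 : Submodule k k[X] := (Polynomial.degreeLT k b).map (LinearMap.mulLeft k (X ^ (a + 1)))
  let W2 : Submodule k k[X] := (Polynomial.degreeLT k a).map (LinearMap.mulLeft k ((X - 1) ^ (b + 1)))
  let Dn : Submodule k k[X] := (Ideal.span {den}).restrictScalars k
  let Z : Submodule k k[X] := W1 ⊔ W2 ⊔ Dn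
  have hmon1 : ((X : k[X]) ^ (a + 1)).Monic := monic_X_pow _
  have hmon2 : ((X - 1 : k[X]) ^ (b + 1)).Monic := by rw [hX1]; exact (monic_X_sub_C 1).pow _
  have hW : ∀ (m : k[X]), m.Monic → ∀ r : ℕ, m.natDegree + r = a + b + 1 →
      ((Ideal.span {m}).restrictScalars k ⊓ Polynomial.degreeLE k ↑(a + b)) ≤
        (Polynomial.degreeLT k r).map (LinearMap.mulLeft k m) := by
    intro m hm r hr f hf
    obtain ⟨hf1, hf2⟩ := Submodule.mem_inf.mp hf
    rw [Submodule.restrictScalars_mem, Ideal.mem_span_singleton] at hf1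
    obtain ⟨h, rfl⟩ := hf1
    refine ⟨h, ?_, rfl⟩
    rw [SetLike.mem_coe, Polynomial.mem_degreeLT]
    by_cases hh : h = 0
    · subst hh; simp
    rw [Polynomial.mem_degreeLE, degree_eq_natDegree (mul_ne_zero hm.ne_zero hh), Nat.cast_le,
      natDegree_mul hm.ne_zero hh] at hf2
    rw [degree_eq_natDegree hh, Nat.cast_lt]
    omega
  have hd1 : ((X : k[X]) ^ (a + 1)).natDegree = a + 1 := natDegree_X_pow _
  have hd2 : ((X - 1 : k[X]) ^ (b + 1)).natDegree = b + 1 := by rw [hX1, natDegree_pow, natDegree_X_sub_C, mul_one]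
  have hVform : ∀ f ∈ V, ∃ c : k, f - c • den ∈ W1 ⊔ W2 ∧ f - c • den ∈ Polynomial.degreeLE k ↑(a + b) := by
    intro f hf
    rw [hV] at hf
    obtain ⟨w, hw, e, he, rfl⟩ := Submodule.mem_sup.mp hf
    obtain ⟨c, rfl⟩ := Submodule.mem_span_singleton.mp he
    refine ⟨c, ?_, ?_⟩
    · rw [add_sub_cancel_right]
      exact sup_le_sup (hW _ hmon1 b (by rw [hd1]; omega)) (hW _ hmon2 a (by rw [hd2]; omega)) hw
    · rw [add_sub_cancel_right]
      have hle : _ ⊔ _ ≤ Polynomial.degreeLE k ↑(a + b) := sup_le (inf_le_right (a := (Ideal.span {(X : k[X]) ^ (a + 1)}).restrictScalars k)) (inf_le_right (a := (Ideal.span {((X : k[X]) - 1) ^ (b + 1)}).restrictScalars k))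
      exact hle hw
  have hVdeg : ∀ f ∈ V, f.natDegree ≤ a + b + 2 := by
    intro f hf
    obtain ⟨c, -, hc⟩ := hVform f hf
    rw [Polynomial.mem_degreeLE] at hc
    have h3 := natDegree_le_iff_degree_le.mpr hc
    have h4 : f = (f - c • den) + c • den := by ring
    rw [h4]
    refine (natDegree_add_le _ _).trans (max_le (by omega) ?_)
    exact (natDegree_smul_le _ _).trans hdendeg.le
  have hVZ : V ≤ Z := by
    intro f hf
    obtain ⟨c, hc, -⟩ := hVform f hf
    have h4 : f = (f - c • den) + c • den := by ring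
    rw [h4]
    refine add_mem (Submodule.mem_sup_left hc) (Submodule.smul_mem _ _ (Submodule.mem_sup_right ?_))
    exact Ideal.mem_span_singleton_self den
  -- g * h0 ∈ V
  have hgh0 : g * h0 ∈ V := by
    have hne : V ⊓ (Ideal.span {(X - C p) ^ (i + 1) * (X - C q) ^ (j + 1)}).restrictScalars k ≠ ⊥ := by
      intro hb'
      rw [hb', finrank_bot] at h1
      omega
    obtain ⟨f, hf, hf0⟩ := Submodule.exists_mem_ne_zero_of_ne_bot hne
    obtain ⟨hfV, hfI⟩ := Submodule.mem_inf.mp hf
    rw [Submodule.restrictScalars_mem, Ideal.mem_span_singleton] at hfI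
    obtain ⟨h, rfl⟩ := hfI
    have hh : h ≠ 0 := right_ne_zero_of_mul hf0
    have hee : (X - C p) ^ (i + 1) * (X - C q) ^ (j + 1) = g * h0 := by rw [hg, hh0]; ring
    rw [hee] at hfV
    have := hVdeg _ hfV
    rw [natDegree_mul (hgmon.mul hh0mon).ne_zero hh, hgmon.natDegree_mul hh0mon, hgdeg, hh0deg] at this
    rw [eq_C_of_natDegree_le_zero (by omega : h.natDegree ≤ 0)] at hfV hh
    have hc : h.coeff 0 ≠ 0 := fun h0' => hh (by rw [h0', map_zero])
    have := V.smul_mem (h.coeff 0)⁻¹ hfV
    rwa [smul_eq_C_mul, mul_comm (C _), mul_assoc, ← map_mul, mul_inv_cancel₀ hc, map_one, mul_one] at this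
  -- g ∈ V
  have hgV : g ∈ V := by
    have hnle : ¬ V ⊓ (Ideal.span {g}).restrictScalars k ≤ Submodule.span k {g * h0} := by
      intro hle
      have := (Submodule.finrank_mono hle).trans_eq (finrank_span_singleton (mul_ne_zero hgmon.ne_zero hh0mon.ne_zero))
      omega
    obtain ⟨f, hf, hfnot⟩ := SetLike.not_le_iff_exists.mp hnle
    obtain ⟨hfV, hfI⟩ := Submodule.mem_inf.mp hf
    rw [Submodule.restrictScalars_mem, Ideal.mem_span_singleton] at hfI
    obtain ⟨h, rfl⟩ := hfI
    have hh : h.natDegree ≤ 2 := by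
      by_cases hh : h = 0
      · simp [hh]
      have := hVdeg _ hfV
      rw [natDegree_mul hgmon.ne_zero hh, hgdeg] at this
      omega
    let h' := h - h.coeff 2 • h0
    have hh'V : g * h' ∈ V := by
      rw [mul_sub, mul_smul_comm]
      exact sub_mem hfV (V.smul_mem _ hgh0)
    have hh'0 : h' ≠ 0 := by
      intro h0'
      apply hfnot
      rw [show h = h.coeff 2 • h0 from sub_eq_zero.mp h0', mul_smul_comm]
      exact Submodule.smul_mem _ _ (Submodule.mem_span_singleton_self _)
    have hh'1 : h'.natDegree ≤ 1 := by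
      rw [natDegree_le_iff_coeff_eq_zero]
      intro m hm
      rcases lt_or_eq_of_le (show 2 ≤ m by omega) with hm2 | rfl
      · simp [h', coeff_eq_zero_of_natDegree_lt (lt_of_le_of_lt hh hm2),
          coeff_eq_zero_of_natDegree_lt (lt_of_le_of_lt hh0deg.le hm2)]
      · have : h0.coeff 2 = 1 := by rw [← hh0deg]; exact hh0mon.coeff_natDegree
        simp [h', this]
    obtain ⟨c, -, hc⟩ := hVform _ hh'V
    rw [Polynomial.mem_degreeLE] at hc
    have hdeg := natDegree_le_iff_degree_le.mpr hc
    have hc0 : c = 0 := by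
      have h5 := coeff_eq_zero_of_natDegree_lt (lt_of_le_of_lt hdeg (show a + b < a + b + 2 by omega))
      rw [coeff_sub, coeff_smul, ← hdendeg, hdenmon.coeff_natDegree, coeff_eq_zero_of_natDegree_lt] at h5
      · simpa using h5
      · rw [natDegree_mul hgmon.ne_zero hh'0, hgdeg, hdendeg]; omega
    rw [hc0, zero_smul, sub_zero, natDegree_mul hgmon.ne_zero hh'0, hgdeg] at hdeg
    rw [eq_C_of_natDegree_le_zero (by omega : h'.natDegree ≤ 0)] at hh'V hh'0
    have hc' : h'.coeff 0 ≠ 0 := fun h0' => hh'0 (by rw [h0', map_zero])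
    have := V.smul_mem (h'.coeff 0)⁻¹ hh'V
    rwa [smul_eq_C_mul, mul_comm (C _), mul_assoc, ← map_mul, mul_inv_cancel₀ hc', map_one, mul_one] at this
  -- exact forms
  let D : k[X] → k[X] := fun P => X * (X - 1) * derivative P - (C (a : k) * (X - 1) + C (b : k) * X) * P
  have hDadd : ∀ P Q, D (P + Q) = D P + D Q := by intro P Q; simp only [D, map_add]; ring
  have hXp : ∀ n : ℕ, (X : k[X]) * derivative (X ^ n) = C (n : k) * X ^ n := by
    intro n
    rw [derivative_X_pow]
    cases n with
    | zero => simp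
    | succ n => simp; ring
  have hX1p : ∀ n : ℕ, (X - 1 : k[X]) * derivative ((X - 1) ^ n) = C (n : k) * (X - 1) ^ n := by
    intro n
    rw [derivative_pow]
    cases n with
    | zero => simp
    | succ n => simp; ring
  have hlow : ∀ (S : k[X]) (r : ℕ) (c : k), S.natDegree ≤ r → 0 < r →
      (X - C c) * derivative S - C (r : k) * S ∈ Polynomial.degreeLT k r := by
    intro S r c hS hr
    rw [Polynomial.mem_degreeLT, degree_lt_iff_coeff_zero]
    intro m hm
    obtain ⟨m, rfl⟩ : ∃ t, m = t + 1 := ⟨m - 1, by omega⟩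
    rw [coeff_sub, sub_mul, coeff_sub, coeff_X_mul, coeff_C_mul, coeff_C_mul, coeff_derivative, coeff_derivative]
    rw [coeff_eq_zero_of_natDegree_lt (show S.natDegree < m + 1 + 1 by omega)]
    rcases eq_or_lt_of_le hm with h | h
    · rw [h]; push_cast; ring
    · rw [coeff_eq_zero_of_natDegree_lt (show S.natDegree < m + 1 by omega)]; ring
  have hD : ∀ P, D P ∈ Z := by
    intro P
    obtain ⟨u, v, huv⟩ : IsCoprime ((X : k[X]) ^ a) ((X - 1) ^ b) := by
      refine IsCoprime.pow ?_
      rw [hX1]
      exact ⟨1, -1, by simp⟩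
    have hm2 : ((X - 1 : k[X]) ^ b).Monic := by rw [hX1]; exact (monic_X_sub_C 1).pow _
    let B0 := (P * v) %ₘ (X ^ a)
    let B1 := (P * v) /ₘ (X ^ a)
    let A := P * u + (X - 1) ^ b * B1
    let S0 := A %ₘ ((X - 1) ^ b)
    let H := A /ₘ ((X - 1) ^ b)
    have e1 : B0 + X ^ a * B1 = P * v := modByMonic_add_div _ _
    have e2 : S0 + (X - 1) ^ b * H = A := modByMonic_add_div _ _
    have hP : P = X ^ a * S0 + (X - 1) ^ b * B0 + X ^ a * (X - 1) ^ b * H := by
      linear_combination (-P) * huv - (X - 1) ^ b * e1 - X ^ a * e2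
    rw [hP, hDadd, hDadd]
    have hS0 : S0.natDegree ≤ b := by
      have := natDegree_modByMonic_lt A hm2 (by
        intro h
        have := congrArg natDegree h
        rw [hX1, natDegree_pow, natDegree_X_sub_C, natDegree_one] at this
        omega)
      rw [hX1, natDegree_pow, natDegree_X_sub_C] at this
      simp only [S0, hX1] at this ⊢
      omega
    have hB0 : B0.natDegree ≤ a := by
      have := natDegree_modByMonic_lt (P * v) (monic_X_pow (R := k) a) (by
        intro h
        have := congrArg natDegree h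
        rw [natDegree_X_pow, natDegree_one] at this
        omega)
      rw [natDegree_X_pow] at this
      exact this.le
    refine add_mem (add_mem ?_ ?_) ?_
    · refine Submodule.mem_sup_left (Submodule.mem_sup_left ⟨_, hlow S0 b 1 hS0 hb, ?_⟩)
      simp only [LinearMap.mulLeft_apply, D, derivative_mul, map_one]
      linear_combination (-(X - 1) * S0) * hXp a
    · refine Submodule.mem_sup_left (Submodule.mem_sup_right ⟨_, hlow B0 a 0 hB0 ha, ?_⟩)
      simp only [LinearMap.mulLeft_apply, D, derivative_mul, map_zero, sub_zero]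
      linear_combination (-X * B0) * hX1p b
    · refine Submodule.mem_sup_right ?_
      show _ ∈ Ideal.span {den}
      rw [Ideal.mem_span_singleton]
      refine ⟨derivative H, ?_⟩
      simp only [D, derivative_mul, hden]
      linear_combination ((X - 1) * (X - 1) ^ b * H) * hXp a + (X * X ^ a * H) * hX1p b
  -- g * k[X] lies in Z + k gX
  let Z' : Submodule k k[X] := Z ⊔ Submodule.span k {g * X}
  let J : Submodule k k[X] := Z'.comap (LinearMap.mulLeft k g)
  have hJ1 : (1 : k[X]) ∈ J := by
    show g * 1 ∈ Z'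
    rw [mul_one]; exact Submodule.mem_sup_left (hVZ hgV)
  have hJX : (X : k[X]) ∈ J := Submodule.mem_sup_right (Submodule.mem_span_singleton_self _)
  have hJh0 : h0 ∈ J := Submodule.mem_sup_left (hVZ hgh0)
  have hJX2 : (X : k[X]) ^ 2 ∈ J := by
    have : (X : k[X]) ^ 2 = h0 + (p + q) • X - (p * q) • 1 := by
      rw [hh0]; simp [smul_eq_C_mul]; ring
    rw [this]
    exact sub_mem (add_mem hJh0 (J.smul_mem _ hJX)) (J.smul_mem _ hJ1)
  have hijc : ((i : k) + 1) + ((j : k) + 1) = (a : k) + b + 2 := by exact_mod_cast hj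
  have hJn : ∀ n : ℕ, (X : k[X]) ^ n ∈ J := by
    intro n
    induction n using Nat.strong_induction_on with
    | _ n ih =>
      rcases n with _ | _ | _ | n
      · simpa using hJ1
      · simpa using hJX
      · exact hJX2
      ·
        let c2 : k := -((i + 1) + (j + 1)) - ((i + 1) * q + (j + 1) * p) - n + a
          - (n - a - b) * (p + q)
        let c1 : k := ((i + 1) * q + (j + 1) * p) + (n - a - b) * (p * q) + (n - a) * (p + q)
        let c0 : k := -((n : k) - a) * (p * q)
        let Qn : k[X] := ((n : k) + 2) • X ^ (n + 3) + c2 • X ^ (n + 2) + c1 • X ^ (n + 1) + c0 • X ^ n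
        have hQ : Qn ∈ J := by
          refine Submodule.mem_sup_left ?_
          have key : g * Qn = D ((X - C p) ^ (i + 1) * (X - C q) ^ (j + 1) * X ^ n) := by
            have e3 : derivative ((X - C p) ^ (i + 1) * (X - C q) ^ (j + 1)) =
                g * (C ((i : k) + 1) * (X - C q) + C ((j : k) + 1) * (X - C p)) := by
              simp [hg, derivative_mul, derivative_pow]
              ring
            have e5 : C ((i : k) + 1) + C ((j : k) + 1) = C (a : k) + C (b : k) + 2 := by
              rw [← map_add, hijc]; simp [map_ofNat]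
            simp only [D, derivative_mul (f := (X - C p) ^ (i + 1) * (X - C q) ^ (j + 1)), e3]
            simp only [Qn, c0, c1, c2, hg, smul_eq_C_mul, map_sub, map_add, map_mul, map_neg, map_one, map_ofNat]
            simp only [map_add, map_one] at e5
            linear_combination
              (-(X - 1) * (X - C p) ^ (i + 1) * (X - C q) ^ (j + 1)) * hXp n
              - ((X - C p) ^ i * (X - C q) ^ j * X ^ (n + 3)) * e5
          rw [show (LinearMap.mulLeft k g) Qn = g * Qn from rfl, key]
          exact hD _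
        have hne : ((n : k) + 2) ≠ 0 := by exact_mod_cast Nat.succ_ne_zero (n + 1)
        have h6 : (X : k[X]) ^ (n + 3) =
            ((n : k) + 2)⁻¹ • (Qn - c2 • X ^ (n + 2) - c1 • X ^ (n + 1) - c0 • X ^ n) := by
          rw [show Qn - c2 • X ^ (n + 2) - c1 • X ^ (n + 1) - c0 • X ^ n = ((n : k) + 2) • X ^ (n + 3) by
            simp only [Qn]; abel, smul_smul, inv_mul_cancel₀ hne, one_smul]
        rw [h6]
        exact J.smul_mem _ (sub_mem (sub_mem (sub_mem hQ (J.smul_mem _ (ih _ (by omega))))
          (J.smul_mem _ (ih _ (by omega)))) (J.smul_mem _ (ih _ (by omega))))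
  have hJall : ∀ h, h ∈ J := by
    intro h
    induction h using Polynomial.induction_on' with
    | add f1 f2 hf1 hf2 => exact add_mem hf1 hf2
    | monomial n c => rw [← smul_X_eq_monomial]; exact J.smul_mem _ (hJn n)
  -- coprimality
  have htop : Z' = ⊤ := by
    rw [eq_top_iff]
    intro f _
    have hcop : IsCoprime g den := by
      rw [hden, hX1, hg]
      have hc : ∀ c d : k, c ≠ d → IsCoprime (X - C c) (X - C d) := fun c d hcd =>
        isCoprime_X_sub_C_of_isUnit_sub (sub_ne_zero_of_ne hcd).isUnit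
      have hc0 : ∀ c : k, c ≠ 0 → IsCoprime (X - C c) X := fun c hcd => by simpa using hc c 0 hcd
      exact ((hc0 p hp0).pow.mul_right (hc p 1 hp1).pow).mul_left ((hc0 q hq0).pow.mul_right (hc q 1 hq1).pow)
    obtain ⟨u, v, huv⟩ := hcop
    have : f = g * (f * u) + den * (f * v) := by linear_combination (-f) * huv
    rw [this]
    refine add_mem (hJall (f * u)) (Submodule.mem_sup_left (Submodule.mem_sup_right ?_))
    exact Ideal.mul_mem_right _ _ (Ideal.mem_span_singleton_self den)
  -- dimension count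
  let π : k[X] →ₗ[k] (k[X] ⧸ Ideal.span {den}) := (Ideal.Quotient.mkₐ k (Ideal.span {den})).toLinearMap
  have hπ : Function.Surjective π := Ideal.Quotient.mkₐ_surjective k _
  have hQdim : Module.finrank k (k[X] ⧸ Ideal.span {den}) = a + b + 2 := by
    rw [finrank_quotient_span_eq_natDegree, hdendeg]
  haveI : FiniteDimensional k (k[X] ⧸ Ideal.span {den}) := Module.finite_of_finrank_pos (by omega)
  have hDn : Dn.map π = ⊥ := by
    rw [Submodule.eq_bot_iff]
    rintro _ ⟨x, hx, rfl⟩
    exact Ideal.Quotient.eq_zero_iff_mem.mpr hx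
  have hsmall : ∀ (m : k[X]) (r : ℕ),
      Module.finrank k ((((Polynomial.degreeLT k r).map (LinearMap.mulLeft k m))).map π) ≤ r := by
    intro m r
    haveI : Module.Finite k (Polynomial.degreeLT k r) := Module.Finite.equiv (Polynomial.degreeLTEquiv k r).symm
    rw [← Submodule.map_comp]
    refine (Submodule.finrank_map_le _ _).trans ?_
    rw [(Polynomial.degreeLTEquiv k r).finrank_eq, Module.finrank_fin_fun]
  have h7 : Z'.map π = ⊤ := by rw [htop, Submodule.map_top, LinearMap.range_eq_top.mpr hπ]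
  have h8 : Z'.map π = W1.map π ⊔ W2.map π ⊔ Submodule.span k {π (g * X)} := by
    simp only [Z', Z, Submodule.map_sup, Submodule.map_span, Set.image_singleton, hDn, sup_bot_eq]
  have h9 := Submodule.finrank_add_le_finrank_add_finrank (W1.map π) (W2.map π)
  have h10 := Submodule.finrank_add_le_finrank_add_finrank (W1.map π ⊔ W2.map π) (Submodule.span k {π (g * X)})
  have h11 : Module.finrank k (Submodule.span k {π (g * X)}) ≤ 1 := by
    have := finrank_span_le_card (R := k) ({π (g * X)} : Set (k[X] ⧸ Ideal.span {den}))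
    simpa using this
  rw [← h8, h7, finrank_top, hQdim] at h10
  have hw1 : Module.finrank k (W1.map π) ≤ b := hsmall _ b
  have hw2 : Module.finrank k (W2.map π) ≤ a := hsmall _ a
  omega

end Groth.Agent.S16260
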