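import Groth.Statements.S16263
import Mathlib

-- import your own Groth.Agent.* helpers here

set_option autoImplicit false
open W4c3wronskmg

namespace Groth.Agent.S16263

open Polynomial in
/-- Let `k` be a field of characteristic zero and `a` a positive integer. On the projective line with `A
= 0`, `B = -1`, `C = ∞`, the `(a+1)`-dimensional system `V = H⁰(ω((1+a)C)) ⊕ H⁰(ω(A+B)) ⊆
H⁰(ω((1+a)C + A + B)) ≅ H⁰(O(a+1))` is, in the affine coordinate, the space of polynomials `c + X
(X+1) F` with `c` a constant and `deg F ≤ a - 1`. Then `V` has no special ramification point (no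
point of weight at least two): since the members have degree at most `a + 1`, this says that for
every point `p` of the affine line at most a one-dimensional subspace of `V` is divisible by
`(X-p)^a`, and at `C` that at most a one-dimensional subspace has degree at most one (degree less
than two). (The published statement carries two further positive integers `i, j` with `i + j = a -
1`, used only in its second assertion, and is over the complex numbers.) -/
theorem result
    (k : Type*) [Field k] [CharZero k] (a : ℕ) (ha : 0 < a)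
    (V : Submodule k (Polynomial k))
    (hV : V = Submodule.span k {(1 : Polynomial k)} ⊔
      ((Ideal.span {(X : Polynomial k) * (X + 1)}).restrictScalars k ⊓ Polynomial.degreeLE k ↑(a + 1))) :
    (∀ p : k, Module.finrank k ↥(V ⊓ (Ideal.span {(X - C p) ^ a}).restrictScalars k) ≤ 1) ∧
      Module.finrank k ↥(V ⊓ Polynomial.degreeLT k 2) ≤ 1 := by
  subst hV
  have heval : ∀ f, f ∈ Submodule.span k {(1 : Polynomial k)} ⊔ ((Ideal.span {(X : Polynomial k) * (X + 1)}).restrictScalars k ⊓ Polynomial.degreeLE k ↑(a + 1)) → f.eval 0 = f.eval (-1) ∧ f.natDegree ≤ a + 1 := by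
    intro f hf
    obtain ⟨u, hu, v, ⟨hv, hv'⟩, rfl⟩ := Submodule.mem_sup.1 hf
    obtain ⟨c, rfl⟩ := Submodule.mem_span_singleton.1 hu
    obtain ⟨w, rfl⟩ := Ideal.mem_span_singleton'.1 hv
    refine ⟨by simp, (natDegree_add_le _ _).trans (max_le ?_ ?_)⟩
    · exact (natDegree_smul_le _ _).trans (by simp)
    · exact natDegree_le_iff_degree_le.2 (Polynomial.mem_degreeLE.1 hv')
  constructor
  · intro p
    let L : k × k →ₗ[k] Polynomial k := LinearMap.mulLeft k ((X - C p) ^ a) ∘ₗ ((LinearMap.fst k k k).smulRight (X : Polynomial k) + (LinearMap.snd k k k).smulRight (1 : Polynomial k))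
    let ℓ : k × k →ₗ[k] k := ((aeval (0 : k)).toLinearMap - (aeval (-1 : k)).toLinearMap) ∘ₗ L
    have hℓ : ℓ ≠ 0 := by
      intro h0
      have h1 := LinearMap.congr_fun h0 (0, 1)
      have h2 := LinearMap.congr_fun h0 (1, 0)
      simp [ℓ, L, sub_eq_zero] at h1 h2
      rcases eq_or_ne p (-1) with rfl | hp
      · simp [zero_pow (by omega : a ≠ 0)] at h1
      · exact hp h2.1.symm
    have hle : (Submodule.span k {(1 : Polynomial k)} ⊔ ((Ideal.span {(X : Polynomial k) * (X + 1)}).restrictScalars k ⊓ Polynomial.degreeLE k ↑(a + 1))) ⊓ (Ideal.span {(X - C p) ^ a}).restrictScalars k ≤ (LinearMap.ker ℓ).map L := by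
      rintro f ⟨hf, hf'⟩
      obtain ⟨h01, hdeg⟩ := heval f hf
      obtain ⟨g, rfl⟩ := Ideal.mem_span_singleton'.1 hf'
      have hg : g.natDegree ≤ 1 := by
        rcases eq_or_ne g 0 with rfl | hg0
        · simp
        rw [natDegree_mul hg0 (pow_ne_zero _ (X_sub_C_ne_zero p)), natDegree_pow, natDegree_X_sub_C] at hdeg
        omega
      have e : L (g.coeff 1, g.coeff 0) = g * (X - C p) ^ a := by
        conv_rhs => rw [eq_X_add_C_of_natDegree_le_one hg]
        simp [L, smul_eq_C_mul]
        ring
      refine ⟨(g.coeff 1, g.coeff 0), ?_, e⟩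
      change aeval (0 : k) (L (g.coeff 1, g.coeff 0)) - aeval (-1 : k) (L (g.coeff 1, g.coeff 0)) = 0
      rw [e]
      simp only [coe_aeval_eq_eval]
      rw [h01, sub_self]
    refine (Submodule.finrank_mono hle).trans ((Submodule.finrank_map_le _ _).trans ?_)
    have hsurj : LinearMap.range ℓ = ⊤ := LinearMap.range_eq_top.2 (LinearMap.surjective hℓ)
    have := LinearMap.finrank_range_add_finrank_ker ℓ
    rw [hsurj, finrank_top, Module.finrank_self, Module.finrank_prod, Module.finrank_self] at this
    omega
  · refine (Submodule.finrank_mono (t := Submodule.span k {(1 : Polynomial k)}) ?_).trans (finrank_span_le_card _ |>.trans (by simp))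
    rintro f ⟨hf, hf'⟩
    have hdeg : f.natDegree ≤ 1 := by
      rcases eq_or_ne f 0 with rfl | hf0
      · simp
      exact Nat.lt_succ_iff.1 ((natDegree_lt_iff_degree_lt hf0).2 (Polynomial.mem_degreeLT.1 hf'))
    have h01 := (heval f hf).1
    have e := eq_X_add_C_of_natDegree_le_one hdeg
    rw [e] at h01
    simp at h01
    rw [e, h01]
    simp only [map_zero, zero_mul, zero_add]
    exact Submodule.mem_span_singleton.2 ⟨f.coeff 0, by rw [smul_eq_C_mul, mul_one]⟩

end Groth.Agent.S16263
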