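import Groth.Statements.S16265
import Groth.Agent.GeomFFLib.LowGenus
-- import your own Groth.Agent.* helpers here

set_option autoImplicit false
open FunFld

namespace Groth.Agent.S16265

/-- Let `K/k` be a function field of one variable over an algebraically closed field `k` of
characteristic zero (the function field of a smooth projective curve), `D` a divisor and `V ⊆ L(D)`
a linear system of dimension `r + 1`; write `V(-mP-nQ) = V ∩ L(D - mP - nQ)` for the members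
vanishing to the indicated orders. Assume `V` has no special ramification point, i.e. no place of
weight at least two: for every place `R`, `dim V(-rR) ≤ 1` and `V(-(r+2)R) = 0`. Let `P ≠ Q` be
places and `a, b ≥ 1` with `a + b = r + 1` (so that `V(-aP)` and `V(-bQ)` have dimensions `b` and
`a`). Then the following are equivalent: (1) the system `V(-aP)` has weight at least two at `Q`,
that is `dim V(-aP-(b-1)Q) ≥ 2` or `dim V(-aP-(b+1)Q) ≥ 1`, and the system `V(-bQ)` has weight at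
least two at `P`, that is `dim V(-(a-1)P-bQ) ≥ 2` or `dim V(-(a+1)P-bQ) ≥ 1`; (2) one of (a) `dim
V(-(a+1)P-(b+1)Q) ≥ 1`, (b) `dim V(-(a-1)P-(b-1)Q) ≥ 3`, (c) `dim V(-aP-(b+1)Q) ≥ 1` and `dim
V(-(a-1)P-bQ) ≥ 2`, (d) `dim V(-(a+1)P-bQ) ≥ 1` and `dim V(-aP-(b-1)Q) ≥ 2`. (The published
statement is for a smooth curve over the complex numbers.) -/
theorem result
    (k K : Type*) [Field k] [IsAlgClosed k] [CharZero k] [Field K] [Algebra k K]
    (hK : FunFld.IsFunctionField k K) (D : FunFld.Divisor k K)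
    (V : Submodule k K) (hVD : V ≤ FunFld.L D) (r : ℕ) (hr : Module.finrank k ↥V = r + 1)
    (hns : ∀ R : FunFld.Place k K,
      Module.finrank k ↥(V ⊓ FunFld.L (D - Finsupp.single R (r : ℤ))) ≤ 1 ∧
        V ⊓ FunFld.L (D - Finsupp.single R ((r : ℤ) + 2)) = ⊥)
    (P Q : FunFld.Place k K) (hPQ : P ≠ Q) (a b : ℕ) (ha : 1 ≤ a) (hb : 1 ≤ b) (hab : a + b = r + 1) :
    ((2 ≤ Module.finrank k ↥(V ⊓ FunFld.L (D - Finsupp.single P (a : ℤ) - Finsupp.single Q ((b : ℤ) - 1 : ℤ))) ∨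
        1 ≤ Module.finrank k ↥(V ⊓ FunFld.L (D - Finsupp.single P (a : ℤ) - Finsupp.single Q ((b : ℤ) + 1 : ℤ)))) ∧
      (2 ≤ Module.finrank k ↥(V ⊓ FunFld.L (D - Finsupp.single P ((a : ℤ) - 1 : ℤ) - Finsupp.single Q (b : ℤ))) ∨
        1 ≤ Module.finrank k ↥(V ⊓ FunFld.L (D - Finsupp.single P ((a : ℤ) + 1 : ℤ) - Finsupp.single Q (b : ℤ))))) ↔
    (1 ≤ Module.finrank k ↥(V ⊓ FunFld.L (D - Finsupp.single P ((a : ℤ) + 1 : ℤ) - Finsupp.single Q ((b : ℤ) + 1 : ℤ))) ∨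
      3 ≤ Module.finrank k ↥(V ⊓ FunFld.L (D - Finsupp.single P ((a : ℤ) - 1 : ℤ) - Finsupp.single Q ((b : ℤ) - 1 : ℤ))) ∨
      (1 ≤ Module.finrank k ↥(V ⊓ FunFld.L (D - Finsupp.single P (a : ℤ) - Finsupp.single Q ((b : ℤ) + 1 : ℤ))) ∧
        2 ≤ Module.finrank k ↥(V ⊓ FunFld.L (D - Finsupp.single P ((a : ℤ) - 1 : ℤ) - Finsupp.single Q (b : ℤ)))) ∨
      (1 ≤ Module.finrank k ↥(V ⊓ FunFld.L (D - Finsupp.single P ((a : ℤ) + 1 : ℤ) - Finsupp.single Q (b : ℤ))) ∧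
        2 ≤ Module.finrank k ↥(V ⊓ FunFld.L (D - Finsupp.single P (a : ℤ) - Finsupp.single Q ((b : ℤ) - 1 : ℤ))))) := by
  classical
  open Groth.Agent.FFLib Groth.Agent.GeomFFLib in
  set W : ℤ → ℤ → Submodule k K := fun m n => V ⊓ FunFld.L (D - Finsupp.single P m - Finsupp.single Q n) with hW
  haveI hfd : ∀ m n, FiniteDimensional k (W m n) := fun m n => finiteDimensional_inf hK V _
  have hmono : ∀ m m' n n', m' ≤ m → n' ≤ n → W m n ≤ W m' n' := fun m m' n n' hm hn => inf_le_inf_left V (L_mono' fun R => by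
    simp only [Finsupp.sub_apply, Finsupp.single_apply]; split_ifs <;> omega)
  set w : ℤ → ℤ → ℕ := fun m n => Module.finrank k (W m n) with hw
  have hwm : ∀ m m' n n', m' ≤ m → n' ≤ n → w m n ≤ w m' n' := fun m m' n n' hm hn => Submodule.finrank_mono (hmono _ _ _ _ hm hn)
  have hQs : ∀ m n, w m n ≤ w m (n + 1) + 1 := fun m n => by
    have h := finrank_inf_le_succ hK V (D - Finsupp.single P m - Finsupp.single Q n) Q
    rwa [sub_sub _ (Finsupp.single Q n) (Finsupp.single Q 1), ← Finsupp.single_add] at h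
  have hPs : ∀ m n, w m n ≤ w (m + 1) n + 1 := fun m n => by
    have h := finrank_inf_le_succ hK V (D - Finsupp.single P m - Finsupp.single Q n) P
    rwa [sub_right_comm _ (Finsupp.single Q n) (Finsupp.single P 1), sub_sub _ (Finsupp.single P m) (Finsupp.single P 1),
      ← Finsupp.single_add] at h
  have hsq : ∀ m n, w (m + 1) n + w m (n + 1) ≤ w m n + w (m + 1) (n + 1) := fun m n => by
    have h1 := Submodule.finrank_sup_add_finrank_inf_eq (W (m + 1) n) (W m (n + 1))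
    have h2 : Module.finrank k ↥(W (m + 1) n ⊔ W m (n + 1)) ≤ w m n :=
      Submodule.finrank_mono (sup_le (hmono _ _ _ _ (by omega) le_rfl) (hmono _ _ _ _ le_rfl (by omega)))
    have h3 : Module.finrank k ↥(W (m + 1) n ⊓ W m (n + 1)) ≤ w (m + 1) (n + 1) :=
      Submodule.finrank_mono fun f hf => ⟨hf.1.1, mem_L_inf (fun R => by
        simp only [Finsupp.sub_apply, Finsupp.single_apply]
        split_ifs with h4 h5 h5 <;> first | omega | exact absurd (h4.trans h5.symm) hPQ) hf.1.2 hf.2.2⟩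
    simp only [hw] at h2 h3 ⊢
    omega
  show (2 ≤ w a ((b : ℤ) - 1) ∨ 1 ≤ w a ((b : ℤ) + 1)) ∧ (2 ≤ w ((a : ℤ) - 1) b ∨ 1 ≤ w ((a : ℤ) + 1) b) ↔
    1 ≤ w ((a : ℤ) + 1) ((b : ℤ) + 1) ∨ 3 ≤ w ((a : ℤ) - 1) ((b : ℤ) - 1) ∨
      (1 ≤ w a ((b : ℤ) + 1) ∧ 2 ≤ w ((a : ℤ) - 1) b) ∨ (1 ≤ w ((a : ℤ) + 1) b ∧ 2 ≤ w a ((b : ℤ) - 1))
  have m1 := hwm a ((a : ℤ) - 1) b b (by omega) le_rfl
  have m3 := hwm ((a : ℤ) + 1) a ((b : ℤ) + 1) ((b : ℤ) + 1) (by omega) le_rfl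
  have m4 := hwm ((a : ℤ) + 1) ((a : ℤ) + 1) ((b : ℤ) + 1) b le_rfl (by omega)
  have d1 := hQs a b
  have d3 : w ((a : ℤ) - 1) ((b : ℤ) - 1) ≤ w ((a : ℤ) - 1) b + 1 := by simpa using hQs ((a : ℤ) - 1) ((b : ℤ) - 1)
  have d4 : w ((a : ℤ) - 1) ((b : ℤ) - 1) ≤ w (a : ℤ) ((b : ℤ) - 1) + 1 := by simpa using hPs ((a : ℤ) - 1) ((b : ℤ) - 1)
  have s1 := hsq a b
  have s2 : w (a : ℤ) ((b : ℤ) - 1) + w ((a : ℤ) - 1) b ≤ w ((a : ℤ) - 1) ((b : ℤ) - 1) + w (a : ℤ) (b : ℤ) := by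
    simpa using hsq ((a : ℤ) - 1) ((b : ℤ) - 1)
  omega

end Groth.Agent.S16265
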