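import Groth.Statements.S16266
import Groth.Agent.GeomFFLib.LowGenus
-- import your own Groth.Agent.* helpers here

set_option autoImplicit false
open FunFld

namespace Groth.Agent.S16266

/-- Let `K/k` be a function field of one variable over an algebraically closed field `k` of
characteristic zero, `D` a divisor, `V ⊆ L(D)` a linear system of dimension `r + 1` with `r ≥ 1`,
and `P` a place with `V' = V(-P) = V ∩ L(D - P) ≠ V`, an `r`-dimensional system in `L(D - P)`.
Assume that neither `V` nor `V'` has a special ramification point (a place of weight at least two):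
for every place `R`, `dim V ∩ L(D - rR) ≤ 1`, `V ∩ L(D - (r+2)R) = 0`, `dim V' ∩ L(D - P - (r-1)R) ≤
1` and `V' ∩ L(D - P - (r+1)R) = 0`. Then no place `Q ≠ P` is a ramification point of both `V` and
`V'`: for no such `Q` are both `V ∩ L(D - (r+1)Q)` and `V' ∩ L(D - P - rQ)` nonzero. (The published
statement is for a smooth curve over the complex numbers.) -/
theorem result
    (k K : Type*) [Field k] [IsAlgClosed k] [CharZero k] [Field K] [Algebra k K]
    (hK : FunFld.IsFunctionField k K) (D : FunFld.Divisor k K)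
    (V : Submodule k K) (hVD : V ≤ FunFld.L D) (r : ℕ) (hr : Module.finrank k ↥V = r + 1) (hr1 : 1 ≤ r)
    (P : FunFld.Place k K) (hP : V ⊓ FunFld.L (D - Finsupp.single P 1) ≠ V)
    (hns : ∀ R : FunFld.Place k K,
      Module.finrank k ↥(V ⊓ FunFld.L (D - Finsupp.single R (r : ℤ))) ≤ 1 ∧
        V ⊓ FunFld.L (D - Finsupp.single R ((r : ℤ) + 2)) = ⊥)
    (hns' : ∀ R : FunFld.Place k K,
      Module.finrank k ↥(V ⊓ FunFld.L (D - Finsupp.single P 1 - Finsupp.single R ((r : ℤ) - 1))) ≤ 1 ∧
        V ⊓ FunFld.L (D - Finsupp.single P 1 - Finsupp.single R ((r : ℤ) + 1)) = ⊥)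
    (Q : FunFld.Place k K) (hQP : Q ≠ P) :
    ¬ (V ⊓ FunFld.L (D - Finsupp.single Q ((r : ℤ) + 1)) ≠ ⊥ ∧
       V ⊓ FunFld.L (D - Finsupp.single P 1 - Finsupp.single Q (r : ℤ)) ≠ ⊥) := by
  classical
  open Groth.Agent.FFLib Groth.Agent.GeomFFLib in
  rintro ⟨h1, h2⟩
  set X := V ⊓ FunFld.L (D - Finsupp.single Q (r : ℤ))
  have := finiteDimensional_inf hK V (D - Finsupp.single Q (r : ℤ))
  have hX : Module.finrank k X ≤ 1 := (hns Q).1
  have hA : V ⊓ FunFld.L (D - Finsupp.single Q ((r : ℤ) + 1)) ≤ X := inf_le_inf_left V (L_mono' fun R => by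
    simp only [Finsupp.sub_apply, Finsupp.single_apply]; split_ifs <;> omega)
  have hB : V ⊓ FunFld.L (D - Finsupp.single P 1 - Finsupp.single Q (r : ℤ)) ≤ X := inf_le_inf_left V (L_mono' fun R => by
    simp only [Finsupp.sub_apply, Finsupp.single_apply]; split_ifs <;> omega)
  have eA := Submodule.eq_of_le_of_finrank_le hA (hX.trans
    (haveI := finiteDimensional_inf hK V (D - Finsupp.single Q ((r : ℤ) + 1)); Submodule.one_le_finrank_iff.2 h1))
  have eB := Submodule.eq_of_le_of_finrank_le hB (hX.trans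
    (haveI := finiteDimensional_inf hK V (D - Finsupp.single P 1 - Finsupp.single Q (r : ℤ)); Submodule.one_le_finrank_iff.2 h2))
  obtain ⟨f, hf, hf0⟩ := Submodule.exists_mem_ne_zero_of_ne_bot h2
  have hfA : f ∈ V ⊓ FunFld.L (D - Finsupp.single Q ((r : ℤ) + 1)) := by rw [eA]; exact hB hf
  have hbad : f ∈ V ⊓ FunFld.L (D - Finsupp.single P 1 - Finsupp.single Q ((r : ℤ) + 1)) := by
    refine ⟨hf.1, mem_L_inf (fun R => ?_) hfA.2 hf.2⟩
    simp only [Finsupp.sub_apply, Finsupp.single_apply]
    split_ifs with h3 h4 h4 <;> first | omega | exact absurd (h4.trans h3.symm) hQP | exact absurd (h3.trans h4.symm) hQP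
  rw [(hns' Q).2] at hbad
  exact hf0 hbad

end Groth.Agent.S16266
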