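import Groth.Statements.S16269
import Groth.Agent.EtShLib.GaloisCover
-- import your own Groth.Agent.* helpers here

set_option autoImplicit false
universe u w
open CategoryTheory CategoryTheory.Limits AlgebraicGeometry Opposite
open EtCore

namespace Groth.Agent.S16269

/-- Let X be a scheme, Y an etale X-scheme with Y -> X surjective, and G a finite group acting on Y by
X-automorphisms such that the morphisms (id, g) : Y -> Y x_X Y exhibit Y x_X Y as the coproduct of
copies of Y indexed by G (a Galois covering with group G). For an abelian sheaf F on the small etale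
site of X, the restriction map F(X) -> F(Y) is injective and its image is the set of sections of F
over Y fixed by every element of G. -/
theorem result (X : Scheme.{u})
    (Y : X.Etale) (hY : Function.Surjective Y.hom.base)
    {G : Type u} [Group G] [Finite G] (σ : G →* Aut Y)
    (hgal : Nonempty (IsColimit (Cofan.mk (Y ⨯ Y) (fun g : G => prod.lift (𝟙 Y) (σ g).hom))))
    (F : EtCoh.Ab X) :
    Function.Injective (F.obj.map ((EtCore.topIsTerminal X).from Y).op) ∧
      Set.range (F.obj.map ((EtCore.topIsTerminal X).from Y).op) =
        {s : EtCoh.sect F Y | ∀ g : G, F.obj.map (σ g).hom.op s = s} := by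
  have hsh : Presheaf.IsSheaf X.smallEtaleTopology F.obj := F.property
  have hT := (isSheaf_iff_isSheaf_of_type _ _).1
    ((Presheaf.isSheaf_iff_isSheaf_forget _ _ (forget AddCommGrpCat.{u + 1})).1 hsh)
  refine (Groth.Agent.EtShLib.isSheafFor_galois_iff σ (F.obj ⋙ forget AddCommGrpCat.{u + 1}) ?_).1 ?_
  · intro s t hst
    refine Groth.Agent.EtShLib.res_ext F s t fun y => ?_
    obtain ⟨g, hg⟩ := Groth.Agent.EtShLib.exists_mem_range_of_isColimit_cofan _ hgal.some y
    exact ⟨Y, _, hg, congrFun hst g⟩
  · have hs : ((EtCore.topIsTerminal X).from Y).left.base.hom.toFun.Surjective := by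
      have h : ((EtCore.topIsTerminal X).from Y).left = Y.hom := by
        have := MorphismProperty.Over.w ((EtCore.topIsTerminal X).from Y)
        exact (Category.comp_id _).symm.trans this
      rw [h]; exact hY
    have hmem : Sieve.generate (Presieve.singleton ((EtCore.topIsTerminal X).from Y)) ∈ X.smallEtaleTopology (EtCoh.top X) := by
      refine GrothendieckTopology.superset_covering _ ?_
        ((Scheme.ofArrows_mem_smallEtaleTopology_iff (fun _ : PUnit.{u + 1} => (EtCore.topIsTerminal X).from Y)).2
          (Set.eq_univ_of_forall fun y => Set.mem_iUnion.2 ⟨PUnit.unit, hs y⟩))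
      rw [Sieve.generate_le_iff]
      rintro Z q ⟨_⟩
      exact ⟨_, 𝟙 _, _, Presieve.singleton_self _, Category.id_comp _⟩
    exact (Presieve.isSheafFor_iff_generate _).2 (hT _ hmem)

end Groth.Agent.S16269
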