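import Groth.Statements.S16273
import Groth.Prelude.Def_NonAbH1
import Mathlib.CategoryTheory.Sites.CoversTop.Basic

set_option autoImplicit false
universe w' w v u
open CategoryTheory
open NonAbH1

namespace Groth.Agent.S16273

/-- Let C be a category with a Grothendieck topology J, G a sheaf of groups and U a family of objects
which covers every object of the site. Two G-torsors admitting a common Cech class in H^1(U, G)
(each cut out by some family of sections over the U_i) are equivariantly isomorphic. (The published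
statement is for an etale covering of a scheme; this row is stated for any family of objects
covering the site.) -/
theorem result {C : Type u} [Category.{v} C]
    {J : GrothendieckTopology C} {G : Sheaf J GrpCat.{w}} {I : Type w'} (U : I → C) (hU : J.CoversTop U)
    (P Q : NonAbH1.Torsor G)
    (c : PresheafOfGroups.H1 G.obj U) (hPc : P.HasCechClass U c) (hQc : Q.HasCechClass U c) :
    Nonempty (P.toGSheaf ≅ Q.toGSheaf) := by
  classical
  obtain ⟨s, γ, hγ, rfl⟩ := hPc
  obtain ⟨t₀, δ, hδ, hδc⟩ := hQc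
  obtain ⟨α, hα⟩ := (PresheafOfGroups.OneCocycle.class_eq_iff δ γ).1 hδc
  let t : ∀ i, Q.P.obj.obj (Opposite.op (U i)) := fun i => Q.smul (α i) (t₀ i)
  have hδ' : ∀ (i j : I) ⦃T : C⦄ (a : T ⟶ U i) (b : T ⟶ U j),
      Q.smul (γ.ev i j a b) (Q.P.obj.map b.op (t j)) = Q.P.obj.map a.op (t i) := fun i j T a b => by
    show Q.smul _ (Q.P.obj.map b.op (Q.smul (α j) (t₀ j))) = Q.P.obj.map a.op (Q.smul (α i) (t₀ i))
    rw [Q.map_smul, Q.map_smul, ← Q.mul_smul, ← hα i j a b, Q.mul_smul, hδ i j a b]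
  -- the correspondence
  let R : ∀ V : Cᵒᵖ, P.P.obj.obj V → Q.P.obj.obj V → Prop := fun V p q =>
    ∀ ⦃T : C⦄ (f : T ⟶ V.unop) (i : I) (a : T ⟶ U i) (g : G.obj.obj (Opposite.op T)),
      P.smul g (P.P.obj.map a.op (s i)) = P.P.obj.map f.op p →
      Q.smul g (Q.P.obj.map a.op (t i)) = Q.P.obj.map f.op q
  obtain ⟨hP, -⟩ := P.isTorsor
  obtain ⟨hQ, -⟩ := Q.isTorsor
  have hRsymm : ∀ V p q, R V p q → ∀ ⦃T : C⦄ (f : T ⟶ V.unop) (i : I) (a : T ⟶ U i) (g : G.obj.obj (Opposite.op T)),
      Q.smul g (Q.P.obj.map a.op (t i)) = Q.P.obj.map f.op q →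
      P.smul g (P.P.obj.map a.op (s i)) = P.P.obj.map f.op p := by
    intro V p q h T f i a g hg
    obtain ⟨g', hg', -⟩ := hP _ (P.P.obj.map a.op (s i)) (P.P.obj.map f.op p)
    have := (hQ _ (Q.P.obj.map a.op (t i)) (Q.P.obj.map f.op q)).unique hg (h f i a g' hg')
    rw [this]
    exact hg'
  have hexist : ∀ (P' Q' : NonAbH1.Torsor G) (s' : ∀ i, P'.P.obj.obj (Opposite.op (U i)))
      (t' : ∀ i, Q'.P.obj.obj (Opposite.op (U i))),
      (∀ (i j : I) ⦃T : C⦄ (a : T ⟶ U i) (b : T ⟶ U j),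
        P'.smul (γ.ev i j a b) (P'.P.obj.map b.op (s' j)) = P'.P.obj.map a.op (s' i)) →
      (∀ (i j : I) ⦃T : C⦄ (a : T ⟶ U i) (b : T ⟶ U j),
        Q'.smul (γ.ev i j a b) (Q'.P.obj.map b.op (t' j)) = Q'.P.obj.map a.op (t' i)) →
      ∀ (V : Cᵒᵖ) (p : P'.P.obj.obj V), ∃! q : Q'.P.obj.obj V,
        ∀ ⦃T : C⦄ (f : T ⟶ V.unop) (i : I) (a : T ⟶ U i) (g : G.obj.obj (Opposite.op T)),
          P'.smul g (P'.P.obj.map a.op (s' i)) = P'.P.obj.map f.op p →
          Q'.smul g (Q'.P.obj.map a.op (t' i)) = Q'.P.obj.map f.op q := by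
    intro P' Q' s' t' hs ht V p
    obtain ⟨hP', -⟩ := P'.isTorsor
    have hsh : Presieve.IsSheaf J Q'.P.obj := (isSheaf_iff_isSheaf_of_type J _).1 Q'.P.2
    have hcov := hsh (Sieve.ofObjects U V.unop) (hU V.unop)
    choose g hg hguniq using fun (T : C) (f : T ⟶ V.unop) (i : I) (a : T ⟶ U i) =>
      hP' _ (P'.P.obj.map a.op (s' i)) (P'.P.obj.map f.op p)
    have hindep : ∀ (T : C) (f : T ⟶ V.unop) (i j : I) (a : T ⟶ U i) (b : T ⟶ U j),
        Q'.smul (g T f i a) (Q'.P.obj.map a.op (t' i)) = Q'.smul (g T f j b) (Q'.P.obj.map b.op (t' j)) := by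
      intro T f i j a b
      have h1 : g T f i a * γ.ev i j a b = g T f j b := hguniq T f j b _ (by
        show P'.smul _ _ = _
        rw [P'.mul_smul, hs, hg])
      rw [← h1, Q'.mul_smul, ht]
    have hex : ∀ (T : C) (f : T ⟶ V.unop), Sieve.ofObjects U V.unop f → ∃ i : I, Nonempty (T ⟶ U i) :=
      fun T f h => h
    choose idx hidx using hex
    let x : Presieve.FamilyOfElements Q'.P.obj (Sieve.ofObjects U V.unop).arrows := fun T f h =>
      Q'.smul (g T f _ (hidx T f h).some) (Q'.P.obj.map (hidx T f h).some.op (t' (idx T f h)))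
    have hx : x.Compatible := by
      rw [Presieve.compatible_iff_sieveCompatible]
      intro T T' f φ hf
      show Q'.smul _ _ = Q'.P.obj.map φ.op (Q'.smul _ _)
      rw [Q'.map_smul, ← Functor.map_comp_apply, ← op_comp,
        hindep T' (φ ≫ f) _ (idx T f hf) _ (φ ≫ (hidx T f hf).some)]
      congr 1
      symm
      refine hguniq _ _ _ _ _ ?_
      show P'.smul _ _ = _
      rw [op_comp, op_comp, Functor.map_comp_apply, Functor.map_comp_apply, ← P'.map_smul, hg]
    obtain ⟨q, hq, hquniq⟩ := hcov x hx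
    refine ⟨q, fun T f i a g' hg' => ?_, fun q' hq' => hquniq q' fun T f hf => ?_⟩
    · have hf : Sieve.ofObjects U V.unop f := ⟨i, ⟨a⟩⟩
      rw [hguniq T f i a g' hg', hindep T f i _ a (hidx T f hf).some]
      exact (hq f hf).symm
    · exact (hq' f _ _ _ (hg T f _ _)).symm
  choose F hF hFuniq using hexist P Q s t hγ hδ'
  choose F' hF' hF'uniq using hexist Q P t s hδ' hγ
  let h : P.P ⟶ Q.P := ⟨{
    app := fun V => TypeCat.ofHom (F V)
    naturality := fun V W φ => by
      refine ConcreteCategory.hom_ext _ _ fun p => ?_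
      symm
      refine hFuniq W _ _ fun T f i a g hg => ?_
      show _ = Q.P.obj.map f.op (Q.P.obj.map φ (F V p))
      rw [← Functor.map_comp_apply, show φ ≫ f.op = (f ≫ φ.unop).op from rfl]
      refine hF V p (f ≫ φ.unop) i a g ?_
      rw [op_comp, Functor.map_comp_apply]
      exact hg }⟩
  let h' : Q.P ⟶ P.P := ⟨{
    app := fun V => TypeCat.ofHom (F' V)
    naturality := fun V W φ => by
      refine ConcreteCategory.hom_ext _ _ fun p => ?_
      symm
      refine hF'uniq W _ _ fun T f i a g hg => ?_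
      show _ = P.P.obj.map f.op (P.P.obj.map φ (F' V p))
      rw [← Functor.map_comp_apply, show φ ≫ f.op = (f ≫ φ.unop).op from rfl]
      refine hF' V p (f ≫ φ.unop) i a g ?_
      rw [op_comp, Functor.map_comp_apply]
      exact hg }⟩
  have hleft : ∀ V p, F' V (F V p) = p := fun V p => (hF'uniq V _ p (hRsymm V p _ (hF V p))).symm
  have hright : ∀ V q, F V (F' V q) = q := fun V q => by
    refine (hFuniq V _ q fun T f i a g hg => ?_).symm
    obtain ⟨g', hg', -⟩ := hQ _ (Q.P.obj.map a.op (t i)) (Q.P.obj.map f.op q)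
    rw [(hP _ (P.P.obj.map a.op (s i)) (P.P.obj.map f.op (F' V q))).unique hg (hF' V q f i a g' hg')]
    exact hg'
  have hsmul : ∀ V (g : G.obj.obj V) p, F V (P.smul g p) = Q.smul g (F V p) := fun V g p => by
    symm
    refine hFuniq V _ _ fun T f i a g' hg' => ?_
    conv_rhs => rw [Q.map_smul]
    rw [← hF V p f i a ((G.obj.map f.op g)⁻¹ * g') ?_, Q.mul_smul, ← Q.mul_smul, mul_inv_cancel,
      Q.one_smul]
    rw [P.mul_smul, hg', P.map_smul, ← P.mul_smul, inv_mul_cancel, P.one_smul]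
  refine ⟨{ hom := ⟨h, fun g p => hsmul _ g p⟩, inv := ⟨h', fun {V} g q => ?_⟩, hom_inv_id := ?_, inv_hom_id := ?_ }⟩
  · show F' V (Q.smul g q) = P.smul g (F' V q)
    rw [← hleft V (P.smul g (F' V q)), hsmul, hright]
  · refine NonAbH1.GSheaf.hom_ext (Sheaf.hom_ext ?_)
    refine NatTrans.ext (funext fun V => ConcreteCategory.hom_ext _ _ fun p => ?_)
    exact hleft V p
  · refine NonAbH1.GSheaf.hom_ext (Sheaf.hom_ext ?_)
    refine NatTrans.ext (funext fun V => ConcreteCategory.hom_ext _ _ fun p => ?_)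
    exact hright V p

end Groth.Agent.S16273
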