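import Groth.Statements.S16274
import Mathlib
-- import your own Groth.Agent.* helpers here

set_option autoImplicit false
set_option linter.all false
universe w' w v u
open CategoryTheory
open NonAbH1

namespace Groth.Agent.S16274

open CategoryTheory Opposite PresheafOfGroups in
section
variable {C : Type u} [Category.{v} C] {J : GrothendieckTopology C} (G : Sheaf J GrpCat.{w})

theorem exists_amalg {T : C} (S : Sieve T) (hS : S ∈ J T) (x : ∀ ⦃Y⦄ (f : Y ⟶ T), S f → G.obj.obj (op Y))
    (hx : ∀ ⦃Y Z⦄ (g : Z ⟶ Y) (f : Y ⟶ T) (hf : S f), G.obj.map g.op (x f hf) = x (g ≫ f) (S.downward_closed hf g)) :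
    ∃! y : G.obj.obj (op T), ∀ ⦃Y⦄ (f : Y ⟶ T) (hf : S f), G.obj.map f.op y = x f hf := by
  let E : GrpCat.{w} := GrpCat.of (FreeGroup PUnit.{w+1})
  have hG := G.property E S hS
  let xx : Presieve.FamilyOfElements (G.obj ⋙ coyoneda.obj (op E)) S.arrows :=
    fun Y f hf => GrpCat.ofHom (FreeGroup.lift fun _ => x f hf)
  have hxx : xx.Compatible := by
    rw [Presieve.compatible_iff_sieveCompatible]
    intro Y Z f g hf
    refine GrpCat.hom_ext (FreeGroup.ext_hom _ _ fun a => ?_)
    show FreeGroup.lift (fun _ => x (g ≫ f) _) (FreeGroup.of a) = G.obj.map g.op (FreeGroup.lift (fun _ => x f hf) (FreeGroup.of a))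
    rw [FreeGroup.lift_apply_of, FreeGroup.lift_apply_of, hx]
  obtain ⟨y, hy, huniq⟩ := hG xx hxx
  refine ⟨y.hom (FreeGroup.of PUnit.unit), fun Y f hf => ?_, fun z hz => ?_⟩
  · have h := congrArg (fun t : E ⟶ G.obj.obj (op Y) => t.hom (FreeGroup.of PUnit.unit)) (hy f hf)
    exact h.trans FreeGroup.lift_apply_of
  · have h := huniq (GrpCat.ofHom (FreeGroup.lift fun _ => z)) (fun Y f hf => by
      refine GrpCat.hom_ext (FreeGroup.ext_hom _ _ fun a => ?_)
      show G.obj.map f.op (FreeGroup.lift (fun _ => z) (FreeGroup.of a)) = FreeGroup.lift (fun _ => x f hf) (FreeGroup.of a)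
      rw [FreeGroup.lift_apply_of, FreeGroup.lift_apply_of]
      exact hz f hf)
    exact (FreeGroup.lift_apply_of (f := fun _ => z)).symm.trans
      (congrArg (fun t : E ⟶ G.obj.obj (op T) => t.hom (FreeGroup.of PUnit.unit)) h)

theorem ext_of_sieve {T : C} (S : Sieve T) (hS : S ∈ J T) {y z : G.obj.obj (op T)}
    (h : ∀ ⦃Y⦄ (f : Y ⟶ T), S f → G.obj.map f.op y = G.obj.map f.op z) : y = z :=
  (exists_amalg G S hS (fun _ f _ => G.obj.map f.op z)
    fun _ _ g f _ => by rw [op_comp, Functor.map_comp_apply]).unique h fun _ _ _ => rfl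

variable {I : Type w'} {U : I → C} (γ : OneCocycle G.obj U)

/-- Sections of the torsor cut out by a cocycle. -/
@[ext]
structure Sec (T : C) where
  val : ∀ (i : I) (T' : C), (T' ⟶ T) → (T' ⟶ U i) → G.obj.obj (op T')
  natural : ∀ i (T' T'' : C) (φ : T'' ⟶ T') (a : T' ⟶ T) (b : T' ⟶ U i),
    G.obj.map φ.op (val i T' a b) = val i T'' (φ ≫ a) (φ ≫ b)
  change : ∀ i j (T' : C) (a : T' ⟶ T) (b : T' ⟶ U i) (b' : T' ⟶ U j),
    val i T' a b * γ.ev i j b b' = val j T' a b'

namespace Sec

variable {G γ}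

def res {T T₁ : C} (f : T₁ ⟶ T) (p : Sec G γ T) : Sec G γ T₁ where
  val i T' a b := p.val i T' (a ≫ f) b
  natural i T' T'' φ a b := by rw [p.natural, Category.assoc]
  change i j T' a b b' := p.change i j T' (a ≫ f) b b'

def act {T : C} (g : G.obj.obj (op T)) (p : Sec G γ T) : Sec G γ T where
  val i T' a b := G.obj.map a.op g * p.val i T' a b
  natural i T' T'' φ a b := by rw [map_mul, p.natural, op_comp, Functor.map_comp_apply]
  change i j T' a b b' := by rw [mul_assoc, p.change]

variable (γ) in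
def ofIndex (i : I) : Sec G γ (U i) where
  val j T' a b := γ.ev i j a b
  natural j T' T'' φ a b := γ.ev_precomp i j φ a b
  change j k T' a b b' := γ.ev_trans i j k a b b'

theorem existsUnique_act (hU : J.CoversTop U) {T : C} (p q : Sec G γ T) : ∃! g, act g p = q := by
  classical
  have hind : ∀ (i j : I) (T' : C) (a : T' ⟶ T) (b : T' ⟶ U i) (b' : T' ⟶ U j),
      q.val i T' a b * (p.val i T' a b)⁻¹ = q.val j T' a b' * (p.val j T' a b')⁻¹ := fun i j T' a b b' => by
    rw [← q.change i j T' a b b', ← p.change i j T' a b b', mul_inv_rev, mul_assoc, mul_inv_cancel_left]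
  choose ix hix using fun (Y : C) (f : Y ⟶ T) (hf : Sieve.ofObjects U T f) => (hf : ∃ i, Nonempty (Y ⟶ U i))
  let x : ∀ ⦃Y⦄ (f : Y ⟶ T), Sieve.ofObjects U T f → G.obj.obj (op Y) := fun Y f hf =>
    q.val _ Y f (hix Y f hf).some * (p.val _ Y f (hix Y f hf).some)⁻¹
  obtain ⟨g, hg, hgu⟩ := exists_amalg G _ (hU T) x fun Y Z φ f hf => by
    show G.obj.map φ.op (q.val _ Y f _ * (p.val _ Y f _)⁻¹) = q.val _ Z _ _ * (p.val _ Z _ _)⁻¹
    rw [map_mul, map_inv, q.natural, p.natural]
    exact hind _ _ _ _ _ _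
  refine ⟨g, ?_, fun g' hg' => hgu g' fun Y f hf => ?_⟩
  · refine Sec.ext (funext fun i => funext fun T' => funext fun a => funext fun b => ?_)
    show G.obj.map a.op g * p.val i T' a b = _
    rw [hg a ⟨i, ⟨b⟩⟩, show x a ⟨i, ⟨b⟩⟩ = q.val i T' a b * (p.val i T' a b)⁻¹ from hind _ _ _ _ _ _]
    exact inv_mul_cancel_right _ _
  · subst hg'
    show G.obj.map f.op g' = (G.obj.map f.op g' * p.val _ Y f _) * (p.val _ Y f _)⁻¹
    exact (mul_inv_cancel_right _ _).symm

theorem small (hU : J.CoversTop U) (T : C) : Small.{w} (Sec G γ T) := by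
  rcases isEmpty_or_nonempty (Sec G γ T) with h | ⟨⟨p⟩⟩
  · exact ⟨⟨PEmpty, ⟨Equiv.equivPEmpty _⟩⟩⟩
  · exact small_of_surjective (f := fun g : G.obj.obj (op T) => act g p) fun q => (existsUnique_act hU p q).exists

end Sec

variable {G} (hU : J.CoversTop U)

include hU in
theorem exists_torsor : ∃ P : NonAbH1.Torsor G, P.TrivialisedBy U ∧ P.HasCechClass U γ.class := by
  classical
  haveI := fun T => Sec.small (γ := γ) hU T
  let e : ∀ T : C, Sec G γ T ≃ Shrink.{w} (Sec G γ T) := fun T => equivShrink _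
  let P : Cᵒᵖ ⥤ Type w :=
    { obj := fun T => Shrink.{w} (Sec G γ T.unop)
      map := fun {T T₁} f => TypeCat.ofHom fun p => e _ (Sec.res f.unop ((e _).symm p))
      map_id := fun T => ConcreteCategory.hom_ext _ _ fun p => by
        show e _ (Sec.res (𝟙 T).unop ((e _).symm p)) = p
        refine (congrArg (e _) (Sec.ext ?_)).trans ((e _).apply_symm_apply p)
        funext i T' a b
        show ((e _).symm p).val i T' (a ≫ 𝟙 _) b = _
        rw [Category.comp_id]
      map_comp := fun {T T₁ T₂} f g => ConcreteCategory.hom_ext _ _ fun p => by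
        show e _ (Sec.res (f ≫ g).unop ((e _).symm p)) = e _ (Sec.res g.unop ((e _).symm (e _ (Sec.res f.unop ((e _).symm p)))))
        rw [Equiv.symm_apply_apply]
        refine congrArg (e _) (Sec.ext ?_)
        funext i T' a b
        show ((e _).symm p).val i T' (a ≫ g.unop ≫ f.unop) b = ((e _).symm p).val i T' ((a ≫ g.unop) ≫ f.unop) b
        rw [Category.assoc] }
  have hP : Presheaf.IsSheaf J P := by
    rw [isSheaf_iff_isSheaf_of_type]
    intro T S hS x hx
    rw [Presieve.compatible_iff_sieveCompatible] at hx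
    let p : ∀ ⦃Y⦄ (f : Y ⟶ T), S f → Sec G γ Y := fun Y f hf => (e _).symm (x f hf)
    have hp : ∀ ⦃Y Z⦄ (g : Z ⟶ Y) (f : Y ⟶ T) (hf : S f), p (g ≫ f) (S.downward_closed hf g) = Sec.res g (p f hf) :=
      fun Y Z g f hf => (congrArg (e _).symm (hx f g hf)).trans ((e _).symm_apply_apply _)
    have hm : ∀ (i : I) (T' : C) (a : T' ⟶ T) (b : T' ⟶ U i), ∃! y : G.obj.obj (op T'),
        ∀ ⦃Y⦄ (c : Y ⟶ T') (hc : S.pullback a c), G.obj.map c.op y = (p (c ≫ a) hc).val i Y (𝟙 Y) (c ≫ b) := by
      intro i T' a b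
      refine exists_amalg G _ (J.pullback_stable a hS) _ fun Y Z g c hc => ?_
      rw [Sec.natural]
      have h := hp g (c ≫ a) hc
      have h2 : (p ((g ≫ c) ≫ a) ((S.pullback a).downward_closed hc g)).val i Z (𝟙 Z) ((g ≫ c) ≫ b) =
          (Sec.res g (p (c ≫ a) hc)).val i Z (𝟙 Z) ((g ≫ c) ≫ b) := by
        rw [← h]
        congr 1 <;> simp
      rw [h2]
      show _ = (p (c ≫ a) hc).val i Z (𝟙 Z ≫ g) ((g ≫ c) ≫ b)
      rw [Category.id_comp, Category.assoc]
      simp
    choose y hy hyu using hm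
    let q : Sec G γ T :=
      { val := y
        natural := fun i T' T'' φ a b => hyu i T'' (φ ≫ a) (φ ≫ b) _ fun Y c hc => by
          rw [← Functor.map_comp_apply, ← op_comp, hy i T' a b (c ≫ φ) (by simpa [Category.assoc] using hc)]
          congr 1
          · congr 1 <;> simp
          · simp
        change := fun i j T' a b b' => hyu j T' a b' _ fun Y c hc => by
          rw [map_mul, hy i T' a b c hc, γ.ev_precomp]
          exact (p _ hc).change i j Y _ _ _ }
    refine ⟨e _ q, fun Y f hf => ?_, fun z hz => ?_⟩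
    · show e _ (Sec.res f ((e _).symm (e _ q))) = x f hf
      rw [Equiv.symm_apply_apply]
      refine (congrArg (e _) (Sec.ext ?_)).trans ((e _).apply_symm_apply (x f hf))
      funext i T' a b
      show y i T' (a ≫ f) b = (p f hf).val i T' a b
      refine (hyu i T' (a ≫ f) b _ fun Y' c hc => ?_).symm
      rw [Sec.natural]
      have h2 : (p (c ≫ a ≫ f) hc) = Sec.res (c ≫ a) (p f hf) := by
        rw [← hp (c ≫ a) f hf]
        congr 1
        simp
      rw [h2]
      show _ = (p f hf).val i Y' (𝟙 Y' ≫ c ≫ a) (c ≫ b)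
      rw [Category.id_comp]
    · refine ((e _).apply_symm_apply z).symm.trans (congrArg (e _) (Sec.ext ?_))
      funext i T' a b
      refine hyu i T' a b _ fun Y c hc => ?_
      rw [Sec.natural]
      have h := congrArg (e _).symm (hz (c ≫ a) hc)
      change (e _).symm (e _ (Sec.res (c ≫ a) ((e _).symm z))) = p (c ≫ a) hc at h
      rw [Equiv.symm_apply_apply] at h
      rw [← h]
      show _ = ((e _).symm z).val i Y (𝟙 Y ≫ c ≫ a) (c ≫ b)
      rw [Category.id_comp]
  let Q : NonAbH1.GSheaf G :=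
    { P := ⟨P, hP⟩
      smul := fun {T} g p => e _ (Sec.act g ((e _).symm p))
      one_smul := fun {T} p => by
        refine (congrArg (e _) (Sec.ext ?_)).trans ((e _).apply_symm_apply p)
        funext i T' a b
        show G.obj.map a.op 1 * _ = _
        rw [map_one, one_mul]
      mul_smul := fun {T} g h p => by
        show _ = e _ (Sec.act g ((e _).symm (e _ (Sec.act h ((e _).symm p)))))
        rw [Equiv.symm_apply_apply]
        refine congrArg (e _) (Sec.ext ?_)
        funext i T' a b
        show G.obj.map a.op (g * h) * _ = G.obj.map a.op g * (G.obj.map a.op h * _)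
        rw [map_mul, mul_assoc]
      map_smul := fun {T T₁} f g p => by
        show e _ (Sec.res f.unop ((e _).symm (e _ (Sec.act g ((e _).symm p))))) =
          e _ (Sec.act (G.obj.map f g) ((e _).symm (e _ (Sec.res f.unop ((e _).symm p)))))
        rw [Equiv.symm_apply_apply, Equiv.symm_apply_apply]
        refine congrArg (e _) (Sec.ext ?_)
        funext i T' a b
        show G.obj.map (a ≫ f.unop).op g * _ = G.obj.map a.op (G.obj.map f g) * _
        rw [op_comp, Functor.map_comp_apply]
        rfl }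
  have hps : Q.IsPseudoTorsor := fun T p q => by
    obtain ⟨g, hg, hu⟩ := Sec.existsUnique_act hU ((e _).symm p) ((e _).symm q)
    refine ⟨g, ?_, fun g' hg' => hu g' ?_⟩
    · show e _ (Sec.act g ((e _).symm p)) = q
      rw [hg, Equiv.apply_symm_apply]
    · rw [← hg']
      exact ((e _).symm_apply_apply _).symm
  let s : ∀ i, Q.P.obj.obj (op (U i)) := fun i => e _ (Sec.ofIndex γ i)
  have hln : Q.LocallyNonempty := fun T => ⟨_, hU T, fun V f hf => by
    obtain ⟨i, ⟨b⟩⟩ := hf
    exact ⟨Q.P.obj.map b.op (s i)⟩⟩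
  refine ⟨⟨Q, hps, hln⟩, fun i => ⟨s i⟩, s, γ, fun i j T a b => ?_, rfl⟩
  show e _ (Sec.act (γ.ev i j a b) ((e _).symm (e _ (Sec.res b ((e _).symm (e _ (Sec.ofIndex γ j))))))) =
    e _ (Sec.res a ((e _).symm (e _ (Sec.ofIndex γ i))))
  simp only [Equiv.symm_apply_apply]
  refine congrArg (e _) (Sec.ext ?_)
  funext k T' c d
  show G.obj.map c.op (γ.ev i j a b) * γ.ev j k (c ≫ b) d = γ.ev i k (c ≫ a) d
  rw [γ.ev_precomp, γ.ev_trans]

end

/-- Let C be a category with a Grothendieck topology J, G a sheaf of groups and U a family of objects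
which covers every object of the site. Every class in the Cech cohomology set H^1(U, G) is the Cech
class of some G-torsor that has a section over every U_i. (The published statement is for an etale
covering of a scheme; this row is stated for any family of objects covering the site.) -/
theorem result {C : Type u} [Category.{v} C]
    {J : GrothendieckTopology C} (G : Sheaf J GrpCat.{w}) {I : Type w'} (U : I → C) (hU : J.CoversTop U)
    (c : PresheafOfGroups.H1 G.obj U) :
    ∃ P : NonAbH1.Torsor G, P.TrivialisedBy U ∧ P.HasCechClass U c := by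
  obtain ⟨γ, rfl⟩ := Quot.exists_rep c
  exact exists_torsor γ hU

end Groth.Agent.S16274
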