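import Groth.Statements.S16281
import Groth.Agent.HomRestrLib.Basic
import Groth.Agent.DCohRestrLib.Iso
import Groth.Agent.ExtShLib.Hcx
import Groth.Agent.PerfCompLib.LocalNull
-- import your own Groth.Agent.* helpers here

set_option autoImplicit false
universe u
open CategoryTheory CategoryTheory.Limits AlgebraicGeometry
open Coherent

namespace Groth.Agent.S16281


/-- Derived functors commute with exact functors preserving injectives. -/
theorem nonempty_rightDerived_square {A B A' B' : Type (u + 1)} [Category.{u} A] [Abelian A] [Category.{u} B]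
    [Abelian B] [Category.{u} A'] [Abelian A'] [Category.{u} B'] [Abelian B'] [HasInjectiveResolutions A]
    [HasInjectiveResolutions A'] (T : A ⥤ B) [T.Additive] (T' : A' ⥤ B') [T'.Additive] (a : A ⥤ A') [a.Additive]
    [a.PreservesHomology] (b : B ⥤ B') [b.Additive] [b.PreservesHomology] (e : T ⋙ b ≅ a ⋙ T')
    (ha : ∀ I : A, Injective I → Injective (a.obj I)) (N : A) (p : ℕ) :
    Nonempty (b.obj ((T.rightDerived p).obj N) ≅ (T'.rightDerived p).obj (a.obj N)) := by
  let R : InjectiveResolution N := injectiveResolution N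
  let R' : InjectiveResolution (a.obj N) :=
    { cocomplex := (a.mapHomologicalComplex _).obj R.cocomplex
      injective := fun n => ha _ (R.injective n)
      ι := ((HomologicalComplex.singleMapHomologicalComplex a (ComplexShape.up ℕ) 0).app N).inv ≫
        (a.mapHomologicalComplex _).map R.ι }
  exact ⟨b.mapIso (R.isoRightDerivedObj T p) ≪≫
    ((((T.mapHomologicalComplex _).obj R.cocomplex).sc p).mapHomologyIso b).symm ≪≫
    HomologicalComplex.homologyMapIso
      (HomologicalComplex.Hom.isoOfComponents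
        (C₁ := (b.mapHomologicalComplex _).obj ((T.mapHomologicalComplex _).obj R.cocomplex))
        (C₂ := (T'.mapHomologicalComplex _).obj R'.cocomplex) (fun n => e.app (R.cocomplex.X n))
        (fun i j _ => (e.hom.naturality (R.cocomplex.d i j)).symm)) p ≪≫
    (R'.isoRightDerivedObj T' p).symm⟩

/-- Let f : X → Y be a morphism of schemes, F and G O_X-modules, W ⊆ Y an open subscheme and p ≥ 0.
Write Ext^p_f(F, -) for the p-th right derived functor of the left exact functor G ↦ f_*
Hom_{O_X}(F, G) from O_X-modules to O_Y-modules (the relative Ext sheaves). Then the restriction of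
Ext^p_f(F, G) to W is isomorphic to Ext^p_{f'}(F|_{f⁻¹W}, G|_{f⁻¹W}), where f' : f⁻¹W → W is the
restricted morphism. (Stated for schemes, the published statement being for ringed spaces; existence
of an isomorphism of O_W-modules only. The internal Hom functors, injective resolutions and
additivity of the composite functors on X and on f⁻¹W are the stated instance hypotheses, all true.) -/
theorem result (X Y : Scheme.{u}) (f : X ⟶ Y) (W : Y.Opens)
    (F G : X.Modules) (p : ℕ)
    [ModSite.HasSheafHom (O := X.sheaf) F] [HasInjectiveResolutions (ModSite.Mod X.sheaf)]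
    [(ModSite.sheafHom (O := X.sheaf) F ⋙ Scheme.Modules.pushforward f).Additive]
    [ModSite.HasSheafHom (O := (↑(f ⁻¹ᵁ W) : Scheme.{u}).sheaf) (F.restrict (f ⁻¹ᵁ W).ι)]
    [HasInjectiveResolutions (ModSite.Mod (↑(f ⁻¹ᵁ W) : Scheme.{u}).sheaf)]
    [(ModSite.sheafHom (O := (↑(f ⁻¹ᵁ W) : Scheme.{u}).sheaf) (F.restrict (f ⁻¹ᵁ W).ι) ⋙ Scheme.Modules.pushforward (f ∣_ W)).Additive] :
    Nonempty ((Scheme.Modules.restrictFunctor W.ι).obj (((ModSite.sheafHom (O := X.sheaf) F ⋙ Scheme.Modules.pushforward f).rightDerived p).obj G) ≅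
      ((ModSite.sheafHom (O := (↑(f ⁻¹ᵁ W) : Scheme.{u}).sheaf) (F.restrict (f ⁻¹ᵁ W).ι) ⋙ Scheme.Modules.pushforward (f ∣_ W)).rightDerived p).obj
        (G.restrict (f ⁻¹ᵁ W).ι)) := by
  let j := (f ⁻¹ᵁ W).ι
  haveI : HasInjectiveResolutions X.Modules := ‹HasInjectiveResolutions (ModSite.Mod X.sheaf)›
  haveI : HasInjectiveResolutions (f ⁻¹ᵁ W).toScheme.Modules :=
    ‹HasInjectiveResolutions (ModSite.Mod (↑(f ⁻¹ᵁ W) : Scheme.{u}).sheaf)›
  let e : (ModSite.sheafHom (O := X.sheaf) F ⋙ Scheme.Modules.pushforward f) ⋙ Scheme.Modules.restrictFunctor W.ι ≅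
      Scheme.Modules.restrictFunctor j ⋙
        (ModSite.sheafHom (O := (↑(f ⁻¹ᵁ W) : Scheme.{u}).sheaf) (F.restrict j) ⋙ Scheme.Modules.pushforward (f ∣_ W)) :=
    Functor.associator _ _ _ ≪≫
      Functor.isoWhiskerLeft _ (Groth.Agent.DCohRestrLib.restrictPushIso f W) ≪≫
      (Functor.associator _ _ _).symm ≪≫
      Functor.isoWhiskerRight
        (Functor.isoWhiskerRight (ExtShLib.shIso F) (Scheme.Modules.restrictFunctor j) ≪≫
          Groth.Agent.HomRestrLib.restrHomFun j F ≪≫
          (Functor.isoWhiskerLeft (Scheme.Modules.restrictFunctor j) (ExtShLib.shIso (F.restrict j)).symm)) _ ≪≫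
      Functor.associator _ _ _
  exact @nonempty_rightDerived_square X.Modules Y.Modules (f ⁻¹ᵁ W).toScheme.Modules W.toScheme.Modules _ _ _ _ _ _ _ _ _ _
    _ ‹_› _ ‹_› (Scheme.Modules.restrictFunctor j) _ _ (Scheme.Modules.restrictFunctor W.ι) _ _ e
    (fun I hI => PerfCompLib.injective_restrict I) G p

end Groth.Agent.S16281
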