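import Groth.Statements.S16283
import Groth.Agent.AcycCxLib.RelExtCoh
import Groth.Agent.SpSeqLib.Grothendieck
import Groth.Agent.RightDerCompLib.Basic

open Groth.Agent.AcycCxLib AlgebraicGeometry CategoryTheory CategoryTheory.Limits

set_option autoImplicit false
set_option backward.isDefEq.respectTransparency false
set_option backward.isDefEq.respectTransparency.types false
universe u
open CategoryTheory CategoryTheory.Limits AlgebraicGeometry ZeroObject
open Coherent

namespace Groth.Agent.S16283

/-- Let f : X → Y and g : Y → Z be morphisms of schemes, h = g ∘ f, and F, G O_X-modules. For a morphism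
u out of X write Ext^b_u(F, -) for the b-th right derived functor of the left exact functor G ↦ u_*
Hom_{O_X}(F, G) from O_X-modules. Then there is an E₂ spectral sequence of O_Z-modules with E₂^{a,b}
≅ R^a g_*(Ext^b_f(F, G)) for a, b ≥ 0 (and 0 otherwise), bounded, abutting with finite filtrations
to Ext^n_h(F, G) (n ≥ 0; 0 for n < 0). (Stated for schemes, the published statement being for ringed
spaces. Existence only: the E₂ identifications and the abutment are some isomorphisms. The internal
Hom functor of F, injective resolutions on X and Y and additivity of the composite functors are the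
stated instance hypotheses, all true.) -/
theorem result (X Y Z : Scheme.{u}) (f : X ⟶ Y) (g : Y ⟶ Z)
    (F G : X.Modules)
    [ModSite.HasSheafHom (O := X.sheaf) F] [HasInjectiveResolutions (ModSite.Mod X.sheaf)] [HasInjectiveResolutions Y.Modules]
    [(ModSite.sheafHom (O := X.sheaf) F ⋙ Scheme.Modules.pushforward f).Additive]
    [(ModSite.sheafHom (O := X.sheaf) F ⋙ Scheme.Modules.pushforward (f ≫ g)).Additive] :
    ∃ (E : E₂CohomologicalSpectralSequence Z.Modules)
      (a : SpSeq.Abutment E (fun n : ℤ =>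
        if 0 ≤ n then ((ModSite.sheafHom (O := X.sheaf) F ⋙ Scheme.Modules.pushforward (f ≫ g)).rightDerived n.toNat).obj G else (0 : Z.Modules))),
      (∀ n : ℤ, a.IsFinite n) ∧ SpSeq.IsBounded E ∧
      ∀ p q : ℤ, Nonempty ((E.page 2 le_rfl).X (p, q) ≅
        (if 0 ≤ p ∧ 0 ≤ q then (Coh.Rpush g p.toNat).obj (((ModSite.sheafHom (O := X.sheaf) F ⋙ Scheme.Modules.pushforward f).rightDerived q.toNat).obj G)
          else (0 : Z.Modules))) := by
  haveI : HasInjectiveResolutions X.Modules := ‹HasInjectiveResolutions (ModSite.Mod X.sheaf)›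
  letI := HasDerivedCategory.standard Y.Modules
  haveI : PreservesFiniteLimits (Scheme.Modules.pushforward g) :=
    have : PreservesLimitsOfSize.{0, 0} (Scheme.Modules.pushforward g) :=
      (Scheme.Modules.pullbackPushforwardAdjunction g).rightAdjoint_preservesLimits
    PreservesLimitsOfSize.preservesFiniteLimits _
  let T : X.Modules ⥤ Y.Modules := sh F ⋙ Scheme.Modules.pushforward f
  haveI : T.Additive := ‹(ModSite.sheafHom (O := X.sheaf) F ⋙ Scheme.Modules.pushforward f).Additive›
  have hT : ∀ Q : X.Modules, Injective Q → ∀ q : ℕ, 0 < q →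
      IsZero (((Scheme.Modules.pushforward g).rightDerived q).obj (T.obj Q)) := fun Q hQ q hq => by
    haveI := hQ
    refine (SpSeqLib.isSAcyclic_iff _ _).1 (@RpushLib.isSAcyclic_pushforward Y Z g _ (T.obj Q) ?_) q hq
    refine ⟨fun {A B} a => (AddCommGrpCat.epi_iff_surjective _).mpr fun t => ?_⟩
    obtain ⟨s, hs⟩ := (AddCommGrpCat.epi_iff_surjective _).1
      ((isFlasque_sh F Q).epi ((TopologicalSpace.Opens.map f.base).map a.unop).op) t
    exact ⟨s, hs⟩
  let Tg : X.Modules ⥤ Z.Modules := sh F ⋙ Scheme.Modules.pushforward (f ≫ g)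
  haveI : Tg.Additive := ‹(ModSite.sheafHom (O := X.sheaf) F ⋙ Scheme.Modules.pushforward (f ≫ g)).Additive›
  let ν : T ⋙ Scheme.Modules.pushforward g ≅ Tg :=
    Functor.associator _ _ _ ≪≫ Functor.isoWhiskerLeft (sh F) (Scheme.Modules.pushforwardComp f g)
  let H : ℤ → Z.Modules := fun n => if 0 ≤ n then (Tg.rightDerived n.toNat).obj G else (0 : Z.Modules)
  obtain ⟨E, a, h₁, h₂, h₃, h₄⟩ := SpSeqLib.exists_grothendieck_spectralSequence (Scheme.Modules.pushforward g) T hT G H
    (fun n => ⟨eqToIso (by simp [H]) ≪≫ ((Groth.Agent.RightDerCompLib.rightDerivedCongr ν n).app G).symm⟩)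
    (fun n hn => by simp only [H, if_neg (show ¬ 0 ≤ n by lia)]; exact isZero_zero _)
  refine ⟨E, a, h₁, h₂, fun p q => ?_⟩
  by_cases hpq : 0 ≤ p ∧ 0 ≤ q
  · rw [if_pos hpq]
    obtain ⟨p, rfl⟩ := Int.eq_ofNat_of_zero_le hpq.1
    obtain ⟨q, rfl⟩ := Int.eq_ofNat_of_zero_le hpq.2
    exact h₃ p q
  · rw [if_neg hpq]
    exact ⟨(h₄ p q (by lia)).iso (isZero_zero _)⟩


end Groth.Agent.S16283
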