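import Groth.Statements.S16287
import Mathlib.Topology.Sheaves.MayerVietoris
import Mathlib.CategoryTheory.Abelian.Refinements

set_option autoImplicit false
universe u
open CategoryTheory CategoryTheory.Limits TopologicalSpace
open LocCohZ CategoryTheory.Abelian

namespace Groth.Agent.S16287

open Abelian

variable {X : TopCat.{u}} (U U' : Opens X)

/-- Shorthand for the free sheaf map. -/
noncomputable abbrev fm {W V : Opens X} (h : W ≤ V) :=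
  CohCx.freeSheafMap (Opens.grothendieckTopology X) (homOfLE h)

theorem fm_comp {A B D : Opens X} (h : A ≤ B) (h' : B ≤ D) (h'' : A ≤ D) : fm h ≫ fm h' = fm h'' :=
  (CohFree.freeSheafMap_comp _ _ _).symm

theorem π_zqMap {W W' : Opens X} (hW : W' ≤ W) :
    cokernel.π (fm (le_top : W' ≤ ⊤)) ≫ LocCohZ.zqMap (le_top : W ≤ ⊤) (le_top : W' ≤ ⊤) hW le_rfl =
      cokernel.π (fm (le_top : W ≤ ⊤)) := by
  refine (cokernel.π_desc _ _ _).trans ?_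
  have hid : CohCx.freeSheafMap (Opens.grothendieckTopology X) (homOfLE (le_rfl : (⊤ : Opens X) ≤ ⊤)) = 𝟙 _ := by
    simp [CohCx.freeSheafMap]
  exact (congrArg (· ≫ cokernel.π _) hid).trans (Category.id_comp _)

section Abstract

variable {C : Type*} [Category C] [Abelian C] {T Z₀ Z₁ Z₂ Z₃ : C} {a₁ : Z₀ ⟶ Z₁} {a₂ : Z₀ ⟶ Z₂} {b₁ : Z₁ ⟶ Z₃}
  {b₂ : Z₂ ⟶ Z₃} {c₀ : Z₀ ⟶ T} {c₁ : Z₁ ⟶ T} {c₂ : Z₂ ⟶ T} {c₃ : Z₃ ⟶ T}
  {φ₁ : cokernel c₀ ⟶ cokernel c₁} {φ₂ : cokernel c₀ ⟶ cokernel c₂}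
  {ψ₁ : cokernel c₁ ⟶ cokernel c₃} {ψ₂ : cokernel c₂ ⟶ cokernel c₃}

/-- The cokernel sequence of a Mayer-Vietoris square over a common target. -/
theorem exists_shortExact (h₁ : a₁ ≫ c₁ = c₀) (_h₂ : a₂ ≫ c₂ = c₀) (h₁₃ : b₁ ≫ c₃ = c₁) (h₂₃ : b₂ ≫ c₃ = c₂)
    [Mono c₃] (hw : biprod.lift a₁ (-a₂) ≫ biprod.desc b₁ b₂ = 0)
    (hS : (ShortComplex.mk _ _ hw).ShortExact)
    (e₁ : cokernel.π c₀ ≫ φ₁ = cokernel.π c₁) (e₂ : cokernel.π c₀ ≫ φ₂ = cokernel.π c₂)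
    (f₁ : cokernel.π c₁ ≫ ψ₁ = cokernel.π c₃) (f₂ : cokernel.π c₂ ≫ ψ₂ = cokernel.π c₃) :
    ∃ w : biprod.lift φ₁ (-φ₂) ≫ biprod.desc ψ₁ ψ₂ = 0, (ShortComplex.mk _ _ w).ShortExact := by
  have w : biprod.lift φ₁ (-φ₂) ≫ biprod.desc ψ₁ ψ₂ = 0 := by
    rw [biprod.lift_desc, Preadditive.neg_comp, ← sub_eq_add_neg, sub_eq_zero, ← cancel_epi (cokernel.π c₀),
      reassoc_of% e₁, reassoc_of% e₂, f₁, f₂]
  haveI : Epi (biprod.desc ψ₁ ψ₂) := by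
    haveI : Epi ((cokernel.π c₁ ≫ biprod.inl) ≫ biprod.desc ψ₁ ψ₂) := by
      rw [Category.assoc, biprod.inl_desc, f₁]
      infer_instance
    exact epi_of_epi (cokernel.π c₁ ≫ biprod.inl) _
  haveI : Mono (biprod.lift φ₁ (-φ₂)) := by
    refine Preadditive.mono_of_cancel_zero _ fun {A} x hx => ?_
    have hx₁ : x ≫ φ₁ = 0 := by simpa using congrArg (· ≫ biprod.fst) hx
    have hx₂ : x ≫ φ₂ = 0 := by simpa using congrArg (· ≫ biprod.snd) hx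
    obtain ⟨A', π, hπ, y, hy⟩ := surjective_up_to_refinements_of_epi (cokernel.π c₀) x
    obtain ⟨A₁, π₁, hπ₁, z, hz⟩ := (ShortComplex.exact_iff_exact_up_to_refinements _).1
      (ShortComplex.exact_of_g_is_cokernel (ShortComplex.mk c₁ (cokernel.π c₁) (cokernel.condition _))
        (cokernelIsCokernel _)) y (by
        show y ≫ cokernel.π c₁ = 0
        rw [← e₁, ← Category.assoc, ← hy, Category.assoc, hx₁, comp_zero])
    obtain ⟨A₂, π₂, hπ₂, z', hz'⟩ := (ShortComplex.exact_iff_exact_up_to_refinements _).1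
      (ShortComplex.exact_of_g_is_cokernel (ShortComplex.mk c₂ (cokernel.π c₂) (cokernel.condition _))
        (cokernelIsCokernel _)) (π₁ ≫ y) (by
        show (π₁ ≫ y) ≫ cokernel.π c₂ = 0
        rw [← e₂, Category.assoc, ← Category.assoc y, ← hy, Category.assoc π, hx₂, comp_zero, comp_zero])
    dsimp at hz hz'
    have hzz : (π₂ ≫ z) ≫ b₁ = z' ≫ b₂ := by
      rw [← cancel_mono c₃, Category.assoc, h₁₃, Category.assoc z', h₂₃, Category.assoc, ← hz, hz']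
    obtain ⟨A₃, π₃, hπ₃, v, hv⟩ := (ShortComplex.exact_iff_exact_up_to_refinements _).1 hS.exact
      (biprod.lift (π₂ ≫ z) (-z')) (by
        show biprod.lift _ _ ≫ biprod.desc _ _ = 0
        rw [biprod.lift_desc, Preadditive.neg_comp, ← sub_eq_add_neg, sub_eq_zero]
        exact hzz)
    have hv' : π₃ ≫ π₂ ≫ z = v ≫ a₁ := by
      simpa using congrArg (· ≫ biprod.fst) hv
    rw [← cancel_epi π, ← cancel_epi π₁, ← cancel_epi π₂, ← cancel_epi π₃, hy, reassoc_of% hz,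
      reassoc_of% hv', reassoc_of% h₁, cokernel.condition]
    simp only [comp_zero]
  refine ⟨w, { exact := ?_ }⟩
  refine ShortComplex.exact_of_g_is_cokernel _ (CokernelCofork.IsColimit.ofπ' _ _ fun {Z} k hk => ?_)
  dsimp at k hk ⊢
  have hk' : cokernel.π c₁ ≫ biprod.inl ≫ k = cokernel.π c₂ ≫ biprod.inr ≫ k := by
    have h := congrArg (cokernel.π c₀ ≫ ·) hk
    simp only [biprod.lift_eq, Preadditive.add_comp, Preadditive.neg_comp, Category.assoc,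
      Preadditive.comp_add, Preadditive.comp_neg, comp_zero, reassoc_of% e₁, reassoc_of% e₂] at h
    rwa [← sub_eq_add_neg, sub_eq_zero] at h
  haveI : Epi (biprod.desc b₁ b₂) := hS.epi_g
  have h0 : c₃ ≫ cokernel.π c₁ ≫ biprod.inl ≫ k = 0 := by
    rw [← cancel_epi (biprod.desc b₁ b₂), comp_zero]
    apply biprod.hom_ext'
    · rw [biprod.inl_desc_assoc, reassoc_of% h₁₃, cokernel.condition_assoc, zero_comp, comp_zero]
    · rw [biprod.inr_desc_assoc, hk', reassoc_of% h₂₃, cokernel.condition_assoc, zero_comp, comp_zero]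
  refine ⟨cokernel.desc _ _ h0, ?_⟩
  apply biprod.hom_ext'
  · rw [biprod.inl_desc_assoc, ← cancel_epi (cokernel.π c₁), reassoc_of% f₁, cokernel.π_desc]
  · rw [biprod.inr_desc_assoc, ← cancel_epi (cokernel.π c₂), reassoc_of% f₂, cokernel.π_desc, hk']

end Abstract

section ExtSeq

universe v w

variable {C : Type*} [Category.{v} C] [Abelian C] [HasExt.{w} C] {Q₀ Q₁ Q₂ Q₃ : C}
  {φ₁ : Q₀ ⟶ Q₁} {φ₂ : Q₀ ⟶ Q₂} {ψ₁ : Q₁ ⟶ Q₃} {ψ₂ : Q₂ ⟶ Q₃}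

set_option maxHeartbeats 2000000 in
/-- The long exact `Ext` sequence of a Mayer-Vietoris short exact sequence. -/
theorem ext_mv (F : C) (w₀ : biprod.lift φ₁ (-φ₂) ≫ biprod.desc ψ₁ ψ₂ = 0)
    (hS : (ShortComplex.mk _ _ w₀).ShortExact) :
    Function.Injective (fun x : Ext Q₃ F 0 =>
      ((Ext.mk₀ ψ₁).precomp F (zero_add 0) x, (Ext.mk₀ ψ₂).precomp F (zero_add 0) x)) ∧
    ∃ δ : ∀ i : ℕ, Ext Q₀ F i →+ Ext Q₃ F (i + 1), ∀ i : ℕ,
      (∀ y : Ext Q₁ F i × Ext Q₂ F i,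
        (Ext.mk₀ φ₁).precomp F (zero_add i) y.1 - (Ext.mk₀ φ₂).precomp F (zero_add i) y.2 = 0 ↔
          ∃ x : Ext Q₃ F i, (Ext.mk₀ ψ₁).precomp F (zero_add i) x = y.1 ∧
            (Ext.mk₀ ψ₂).precomp F (zero_add i) x = y.2) ∧
      (∀ w : Ext Q₀ F i, δ i w = 0 ↔ ∃ y : Ext Q₁ F i × Ext Q₂ F i,
        (Ext.mk₀ φ₁).precomp F (zero_add i) y.1 - (Ext.mk₀ φ₂).precomp F (zero_add i) y.2 = w) ∧
      (∀ x : Ext Q₃ F (i + 1),
        ((Ext.mk₀ ψ₁).precomp F (zero_add (i + 1)) x = 0 ∧ (Ext.mk₀ ψ₂).precomp F (zero_add (i + 1)) x = 0) ↔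
          ∃ w : Ext Q₀ F i, δ i w = x) := by
  let g := biprod.desc ψ₁ ψ₂
  let f := biprod.lift φ₁ (-φ₂)
  have hpre : ∀ {A B : C} (α : A ⟶ B) (i : ℕ) (x : Ext B F i),
      (Ext.mk₀ α).precomp F (zero_add i) x = (Ext.mk₀ α).comp x (zero_add i) := fun _ _ _ => rfl
  have hgl : biprod.inl ≫ g = ψ₁ := biprod.inl_desc _ _
  have hgr : biprod.inr ≫ g = ψ₂ := biprod.inr_desc _ _
  have hfl : f ≫ biprod.fst = φ₁ := biprod.lift_fst _ _
  have hfr : f ≫ biprod.snd = -φ₂ := biprod.lift_snd _ _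
  have hg : ∀ i (x : Ext Q₃ F i), Ext.biprodAddEquiv ((Ext.mk₀ g).comp x (zero_add i)) =
      ((Ext.mk₀ ψ₁).precomp F (zero_add i) x, (Ext.mk₀ ψ₂).precomp F (zero_add i) x) := fun i x => by
    rw [hpre, hpre]
    refine Prod.ext ?_ ?_
    · rw [Ext.biprodAddEquiv_apply_fst, Ext.mk₀_comp_mk₀_assoc, hgl]
    · rw [Ext.biprodAddEquiv_apply_snd, Ext.mk₀_comp_mk₀_assoc, hgr]
  have hf : ∀ i (y : Ext Q₁ F i × Ext Q₂ F i),
      (Ext.mk₀ f).comp (Ext.biprodAddEquiv.symm y) (zero_add i) =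
        (Ext.mk₀ φ₁).precomp F (zero_add i) y.1 - (Ext.mk₀ φ₂).precomp F (zero_add i) y.2 := fun i y => by
    rw [hpre, hpre, Ext.biprodAddEquiv_symm_apply, Ext.comp_add, Ext.mk₀_comp_mk₀_assoc, Ext.mk₀_comp_mk₀_assoc,
      hfl, hfr, Ext.mk₀_neg, Ext.neg_comp, sub_eq_add_neg]
  haveI : Epi g := hS.epi_g
  refine ⟨fun x x' h => ?_, fun i => hS.extClass.precomp F (show 1 + i = i + 1 by omega), fun i => ⟨fun y => ?_, fun w => ?_, fun x => ?_⟩⟩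
  · have h' : (Ext.mk₀ g).comp x (zero_add 0) = (Ext.mk₀ g).comp x' (zero_add 0) :=
      Ext.biprodAddEquiv.injective ((hg 0 x).trans (h.trans (hg 0 x').symm))
    obtain ⟨x, rfl⟩ := Ext.homEquiv₀.symm.surjective x
    obtain ⟨x', rfl⟩ := Ext.homEquiv₀.symm.surjective x'
    simp only [Ext.homEquiv₀_symm_apply, Ext.mk₀_comp_mk₀] at h' ⊢
    exact congrArg Ext.mk₀ ((cancel_epi _).1 ((Ext.mk₀_bijective _ _).1 h'))
  · rw [← hf i y]
    constructor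
    · intro hy
      obtain ⟨x, hx⟩ := Ext.contravariant_sequence_exact₂ hS F _ hy
      have := (hg i x).symm.trans ((congrArg Ext.biprodAddEquiv hx).trans (AddEquiv.apply_symm_apply _ y))
      exact ⟨x, congrArg Prod.fst this, congrArg Prod.snd this⟩
    · rintro ⟨x, h1, h2⟩
      have : Ext.biprodAddEquiv.symm y = (Ext.mk₀ g).comp x (zero_add i) := by
        rw [AddEquiv.symm_apply_eq, hg i x]
        exact Prod.ext h1.symm h2.symm
      rw [this, Ext.mk₀_comp_mk₀_assoc, w₀, Ext.mk₀_zero, Ext.zero_comp]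
  · constructor
    · intro hw
      obtain ⟨y, hy⟩ := Ext.contravariant_sequence_exact₁ hS F w (show 1 + i = i + 1 by omega) hw
      refine ⟨Ext.biprodAddEquiv y, ?_⟩
      rw [← hf i, AddEquiv.symm_apply_apply]
      exact hy
    · rintro ⟨y, hy⟩
      rw [← hy, ← hf i y]
      exact hS.extClass_comp_assoc _ (h := show 1 + i = i + 1 by omega)
  · constructor
    · intro hx
      refine Ext.contravariant_sequence_exact₃ hS F x ?_ (show 1 + i = i + 1 by omega)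
      exact Ext.biprodAddEquiv.injective ((hg (i + 1) x).trans ((Prod.ext hx.1 hx.2).trans (map_zero _).symm))
    · rintro ⟨w, rfl⟩
      have h0 := hg (i + 1) (hS.extClass.precomp F (show 1 + i = i + 1 by omega) w)
      rw [show (Ext.mk₀ g).comp (hS.extClass.precomp F (show 1 + i = i + 1 by omega) w) (zero_add (i+1)) = 0 from
        hS.comp_extClass_assoc _ (show 1 + i = i + 1 by omega), map_zero] at h0
      exact ⟨congrArg Prod.fst h0.symm, congrArg Prod.snd h0.symm⟩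

end ExtSeq

theorem mv_exists :
    ∃ w : biprod.lift (LocCohZ.zqMap (le_top : U ≤ ⊤) (le_top : U ⊓ U' ≤ ⊤) inf_le_left le_rfl)
        (-LocCohZ.zqMap (le_top : U' ≤ ⊤) (le_top : U ⊓ U' ≤ ⊤) inf_le_right le_rfl) ≫
      biprod.desc (LocCohZ.zqMap (le_top : U ⊔ U' ≤ ⊤) (le_top : U ≤ ⊤) le_sup_left le_rfl)
        (LocCohZ.zqMap (le_top : U ⊔ U' ≤ ⊤) (le_top : U' ≤ ⊤) le_sup_right le_rfl) = 0,
      (ShortComplex.mk _ _ w).ShortExact :=
  haveI : Mono (fm (le_top : U ⊔ U' ≤ ⊤)) := (LocCohZ.zqSeq_shortExact (le_top : U ⊔ U' ≤ ⊤)).mono_f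
  exists_shortExact (a₁ := fm (inf_le_left : U ⊓ U' ≤ U)) (a₂ := fm (inf_le_right : U ⊓ U' ≤ U'))
    (b₁ := fm (le_sup_left : U ≤ U ⊔ U')) (b₂ := fm (le_sup_right : U' ≤ U ⊔ U'))
    (fm_comp _ _ _) (fm_comp _ _ _) (fm_comp _ _ _) (fm_comp _ _ _)
    (Opens.mayerVietorisSquare U U').shortComplex.zero
    (Opens.mayerVietorisSquare U U').shortComplex_shortExact
    (π_zqMap _) (π_zqMap _) (π_zqMap _) (π_zqMap _)

set_option maxHeartbeats 1000000 in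
/-- Let X be a topological space, F an abelian sheaf on X, and U, U' open subsets with closed
complements Z = X ∖ U and Z' = X ∖ U' (so Z ∩ Z' = X ∖ (U ∪ U') and Z ∪ Z' = X ∖ (U ∩ U')). With
H^i_{X∖W}(X, F) = Ext^i(Z_X/Z_W, F) and the enlargement-of-support maps r : H^i_{Z∩Z'} → H^i_Z, r' :
H^i_{Z∩Z'} → H^i_{Z'}, s : H^i_Z → H^i_{Z∪Z'}, s' : H^i_{Z'} → H^i_{Z∪Z'}: the map H^0_{Z∩Z'} →
H^0_Z ⊕ H^0_{Z'}, x ↦ (r x, r' x), is injective, and there are connecting homomorphisms δ_i :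
H^i_{Z∪Z'}(X, F) → H^{i+1}_{Z∩Z'}(X, F) such that for every i the sequence H^i_{Z∩Z'} → H^i_Z ⊕
H^i_{Z'} → H^i_{Z∪Z'} → H^{i+1}_{Z∩Z'} → H^{i+1}_Z ⊕ H^{i+1}_{Z'} is exact, the middle map being (y,
y') ↦ s y − s' y'. -/
theorem result {X : TopCat.{u}} (F : CohTop.Ab X) (U U' : Opens X) :
    Function.Injective (fun x : LocCohZ.HZc F 0 (U ⊔ U') =>
      (LocCohZ.resZ F 0 (le_top : U ⊔ U' ≤ ⊤) (le_top : U ≤ ⊤) le_sup_left le_rfl x,
       LocCohZ.resZ F 0 (le_top : U ⊔ U' ≤ ⊤) (le_top : U' ≤ ⊤) le_sup_right le_rfl x)) ∧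
    ∃ δ : ∀ i : ℕ, LocCohZ.HZc F i (U ⊓ U') →+ LocCohZ.HZc F (i + 1) (U ⊔ U'),
      ∀ i : ℕ,
        (∀ y : LocCohZ.HZc F i U × LocCohZ.HZc F i U',
          LocCohZ.resZ F i (le_top : U ≤ ⊤) (le_top : U ⊓ U' ≤ ⊤) inf_le_left le_rfl y.1 -
              LocCohZ.resZ F i (le_top : U' ≤ ⊤) (le_top : U ⊓ U' ≤ ⊤) inf_le_right le_rfl y.2 = 0 ↔
            ∃ x : LocCohZ.HZc F i (U ⊔ U'),
              LocCohZ.resZ F i (le_top : U ⊔ U' ≤ ⊤) (le_top : U ≤ ⊤) le_sup_left le_rfl x = y.1 ∧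
              LocCohZ.resZ F i (le_top : U ⊔ U' ≤ ⊤) (le_top : U' ≤ ⊤) le_sup_right le_rfl x = y.2) ∧
        (∀ w : LocCohZ.HZc F i (U ⊓ U'),
          δ i w = 0 ↔ ∃ y : LocCohZ.HZc F i U × LocCohZ.HZc F i U',
            LocCohZ.resZ F i (le_top : U ≤ ⊤) (le_top : U ⊓ U' ≤ ⊤) inf_le_left le_rfl y.1 -
              LocCohZ.resZ F i (le_top : U' ≤ ⊤) (le_top : U ⊓ U' ≤ ⊤) inf_le_right le_rfl y.2 = w) ∧
        (∀ x : LocCohZ.HZc F (i + 1) (U ⊔ U'),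
          (LocCohZ.resZ F (i + 1) (le_top : U ⊔ U' ≤ ⊤) (le_top : U ≤ ⊤) le_sup_left le_rfl x = 0 ∧
            LocCohZ.resZ F (i + 1) (le_top : U ⊔ U' ≤ ⊤) (le_top : U' ≤ ⊤) le_sup_right le_rfl x = 0) ↔
            ∃ w : LocCohZ.HZc F i (U ⊓ U'), δ i w = x) := by
  obtain ⟨w₀, hS⟩ := mv_exists U U'
  exact ext_mv F w₀ hS

end Groth.Agent.S16287
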