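import Groth.Statements.S16294
import Groth.Agent.NodalLib.Pointed

set_option autoImplicit false
set_option backward.isDefEq.respectTransparency false
set_option backward.isDefEq.respectTransparency.types false
set_option maxHeartbeats 1000000
set_option linter.style.haveILetI false

universe u
open CategoryTheory CategoryTheory.Limits AlgebraicGeometry
attribute [local instance] HasDerivedCategory.standard
open Curves

namespace Groth.Agent.S16294

/-- Let k be an algebraically closed field and (X, D) a semi-stable n-pointed curve over k, taken in the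
form: X is proper and connected over k, of dimension 1, with at-worst-nodal singularities; D ⊆ X is
a finite closed set of points each having an open neighbourhood smooth over k; ω_X is the dualizing
module of X (degree -1 cohomology sheaf of f^! O for the structure morphism f, for any choice of the
data Rf_* on D_QCoh with its right adjoint); L_D is an invertible module with L_D ⊗ I_D ≅ O_X for
the ideal sheaf I_D of D with its reduced structure. Let (V, E, ends) be the dual graph of X over k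
(vertices = irreducible components C_v, edges = singular points, each edge joining the components
through its node). Then (X, D) is stable, i.e. ω_X ⊗ L_D is ample, if and only if for every vertex v
one has 2 p_a(C_v) - 2 + e_v + d_v > 0, where p_a(C_v) = dim_k H^1(C_v, O) for the reduced component
C_v, e_v is the number of nodes of X lying on C_v and on another component (non-loop edges at v) and
d_v is the number of marked points on C_v. (The published criterion is stated per component C̃_v of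
the normalisation as 2 g(C̃_v) - 2 + n(C̃_v) > 0, n(C̃_v) counting its points over D and over the
nodes of X; since p_a(C_v) = g(C̃_v) + (number of nodes of X lying on C_v alone) and each such node
has two preimages in C̃_v, the two counts agree.) -/
theorem result (k : Type u) [Field k] [IsAlgClosed k] (X : Scheme.{u}) [X.Over (Spec (CommRingCat.of k))]
    [IsProper (X ↘ (Spec (CommRingCat.of k)))] [ConnectedSpace X] (hdim : topologicalKrullDim X = 1) (hX : Curv2.AtWorstNodal k X)
    [DCoh.HasRpush (X ↘ (Spec (CommRingCat.of k)))] (h : DCoh.RpushPreservesQCoh (X ↘ (Spec (CommRingCat.of k)))) [DCoh.HasShriek (X ↘ (Spec (CommRingCat.of k))) h]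
    (OY : DCoh.DQCoh (Spec (CommRingCat.of k))) (hOY : Nonempty (OY.obj ≅ DCoh.inD (Spec (CommRingCat.of k)) (Coh.structureModule (Spec (CommRingCat.of k)))))
    (D : Set X) (hDfin : D.Finite) (hDcl : IsClosed D) (hDsm : ∀ x ∈ D, ∃ U : X.Opens, x ∈ U ∧ Smooth (U.ι ≫ (X ↘ (Spec (CommRingCat.of k)))))
    (LD : X.Modules) (hLD : PicF.IsInvertible LD)
    (hinv : ClSub.IsInverseOf LD (ClSub.idealMod (Scheme.IdealSheafData.vanishingIdeal (⟨D, hDcl⟩ : TopologicalSpace.Closeds X))))
    (V E : Type u) [Finite E] (cv : V → Set X) (ce : E → X) (ends : E → V × V)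
    (hΓ : DualGr.IsDualGraph (X ↘ (Spec (CommRingCat.of k))) cv ce ends) :
    CohB1.IsAmple (CohB1.tensorMod (DCoh.dualizingMod (X ↘ (Spec (CommRingCat.of k))) h OY 1) LD) ↔
      ∀ v : V, 0 < 2 * (@Curv2.genus k _ (Scheme.IdealSheafData.vanishingIdeal (⟨cv v, isClosed_of_mem_irreducibleComponents (cv v) (hΓ.comp_mem v)⟩ : TopologicalSpace.Closeds X)).subscheme ⟨(Scheme.IdealSheafData.vanishingIdeal (⟨cv v, isClosed_of_mem_irreducibleComponents (cv v) (hΓ.comp_mem v)⟩ : TopologicalSpace.Closeds X)).subschemeι ≫ (X ↘ (Spec (CommRingCat.of k)))⟩ : ℤ) - 2 +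
        (Nat.card {e : E // (ends e).1 ≠ (ends e).2 ∧ ((ends e).1 = v ∨ (ends e).2 = v)} : ℤ) +
        (Nat.card ↥(D ∩ cv v) : ℤ) := by
  haveI := NodalLib.isReduced k hX
  haveI := CurvLib.isNoetherian k (X := X)
  obtain ⟨hdual, hχ⟩ := NefH1Lib.Adj.setup k hdim h OY hOY
  have hω := NodalLib.omega_invertible k hdim (fun x => (NodalLib.stalk_facts k hX x).2) h OY hOY
  let M := CohB1.tensorMod (DCoh.dualizingMod (X ↘ (Spec (CommRingCat.of k))) h OY 1) LD
  have hM : PicF.IsInvertible M := NodalLib.isInvertible_twist hω hDcl hinv (Iso.refl _)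
  let f := X ↘ (Spec (CommRingCat.of k))
  haveI : LocallyOfFinitePresentation f := inferInstance
  have hsmooth : ∀ x : X, (f.stalkMap x).hom.FormallySmooth → ∃ U : X.Opens, x ∈ U ∧ Smooth (U.ι ≫ f) := fun x hx => by
    refine ⟨f.smoothLocus, Scheme.Hom.mem_smoothLocus.mpr hx, Scheme.Hom.smoothLocus_eq_top_iff.mp ?_⟩
    rw [← Scheme.Hom.preimage_smoothLocus_eq]
    exact TopologicalSpace.Opens.ext (Set.eq_univ_of_forall fun y => y.2)
  have hgen : ∀ Z ∈ irreducibleComponents (X : Type u), ∃ η : X, NefH1Lib.Subcurve.IsMaxPt η ∧ closure {η} = Z := by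
    intro Z hZ
    obtain ⟨η, hη⟩ := QuasiSober.sober hZ.1 (isClosed_of_mem_irreducibleComponents Z hZ)
    refine ⟨η, fun y hy => ?_, hη.def⟩
    have h1 : Z ⊆ closure ({y} : Set X) := hη.def.symm.le.trans hy.closure_subset
    have h2 := hZ.2 isIrreducible_singleton.closure h1
    have h3 : y ⤳ η := hy
    exact (h3.antisymm (hη.specializes (h2 (subset_closure (Set.mem_singleton y))))).eq
  have hcard : ∀ v : V, Nat.card {e : E // (ends e).1 ≠ (ends e).2 ∧ ((ends e).1 = v ∨ (ends e).2 = v)} =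
      (cv v ∩ closure (cv v)ᶜ).ncard := fun v => by
    rw [← Nat.card_coe_set_eq]
    have hcl := isClosed_of_mem_irreducibleComponents (cv v) (hΓ.comp_mem v)
    refine Nat.card_congr (Equiv.ofBijective (fun e => ⟨ce e.1, (hΓ.incidence e.1 v).mp e.2.2, ?_⟩) ⟨?_, ?_⟩)
    · obtain ⟨w, hw, hwv⟩ : ∃ w, ((ends e.1).1 = w ∨ (ends e.1).2 = w) ∧ w ≠ v := by
        rcases e.2.2 with h' | h'
        · exact ⟨(ends e.1).2, Or.inr rfl, fun h'' => e.2.1 (h'.trans h''.symm)⟩
        · exact ⟨(ends e.1).1, Or.inl rfl, fun h'' => e.2.1 (h''.trans h'.symm)⟩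
      obtain ⟨η, hη, hηw⟩ := hgen _ (hΓ.comp_mem w)
      have hn : η ∉ cv v := fun hmem => hwv (hΓ.comp_injective (le_antisymm
        (hηw ▸ closure_minimal (Set.singleton_subset_iff.mpr hmem) hcl)
        ((hΓ.comp_mem w).2 (hΓ.comp_mem v).1 (hηw ▸ closure_minimal (Set.singleton_subset_iff.mpr hmem) hcl))))
      have hx : ce e.1 ∈ closure ({η} : Set X) := hηw.ge ((hΓ.incidence e.1 w).mp hw)
      exact closure_mono (Set.singleton_subset_iff.mpr hn) hx
    · intro a b hab
      exact Subtype.ext (hΓ.pt_injective (congrArg Subtype.val hab))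
    · rintro ⟨x, hxv, hxc⟩
      obtain ⟨η, hη, hηv⟩ := hgen _ (hΓ.comp_mem v)
      have hfin : {ζ : X | NefH1Lib.Subcurve.IsMaxPt ζ ∧ ζ ∉ cv v}.Finite :=
        NefH1Lib.Subcurve.finite_maxPts.subset fun ζ hζ => hζ.1
      have hsub : closure (cv v)ᶜ ⊆ ⋃ ζ ∈ {ζ : X | NefH1Lib.Subcurve.IsMaxPt ζ ∧ ζ ∉ cv v}, closure ({ζ} : Set X) := by
        refine closure_minimal (fun y hy => ?_) (hfin.isClosed_biUnion fun _ _ => isClosed_closure)
        obtain ⟨ζ, hζ, hsp⟩ := NefH1Lib.Subcurve.exists_maxPt y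
        exact Set.mem_biUnion (show ζ ∈ {ζ : X | NefH1Lib.Subcurve.IsMaxPt ζ ∧ ζ ∉ cv v} from
          ⟨hζ, fun h' => hy (hsp.mem_closed hcl h')⟩) (specializes_iff_mem_closure.mp hsp)
      have hx' := hsub hxc
      simp only [Set.mem_iUnion] at hx'
      obtain ⟨ζ, ⟨hζ, hζv⟩, hxζ⟩ := hx'
      obtain ⟨w, hw⟩ := hΓ.comp_surjective _ (NefH1Lib.Subcurve.closure_mem_components hζ)
      have hwv : w ≠ v := fun h' => hζv (h' ▸ hw ▸ subset_closure (Set.mem_singleton ζ))
      obtain ⟨e, he⟩ := hΓ.pt_surjective x (show ¬ (f.stalkMap x).hom.FormallySmooth from fun hs => hζv (by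
        rw [← NodalLib.eq_of_specializes_smooth k (hsmooth x hs) hη hζ
          (specializes_iff_mem_closure.mpr (hηv.ge hxv)) (specializes_iff_mem_closure.mpr hxζ), ← hηv]
        exact subset_closure (Set.mem_singleton η)))
      have i1 := (hΓ.incidence e v).mpr (he ▸ hxv)
      have i2 := (hΓ.incidence e w).mpr (he ▸ hw ▸ hxζ)
      exact ⟨⟨e, fun h' => hwv (by rcases i1 with a | a <;> rcases i2 with b | b <;> simp_all), i1⟩, Subtype.ext he⟩
  have hdeg : ∀ (v : V) (η : X), NefH1Lib.Subcurve.IsMaxPt η → closure {η} = cv v →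
      NefH1Lib.Adj.dJ k M (NefH1Lib.Subcurve.sub ({η} : Set X)) =
      2 * (@Curv2.genus k _ (Scheme.IdealSheafData.vanishingIdeal (⟨cv v, isClosed_of_mem_irreducibleComponents (cv v) (hΓ.comp_mem v)⟩ : TopologicalSpace.Closeds X)).subscheme ⟨(Scheme.IdealSheafData.vanishingIdeal (⟨cv v, isClosed_of_mem_irreducibleComponents (cv v) (hΓ.comp_mem v)⟩ : TopologicalSpace.Closeds X)).subschemeι ≫ (X ↘ (Spec (CommRingCat.of k)))⟩ : ℤ) - 2 +
        (Nat.card {e : E // (ends e).1 ≠ (ends e).2 ∧ ((ends e).1 = v ∨ (ends e).2 = v)} : ℤ) +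
        (Nat.card ↥(D ∩ cv v) : ℤ) := fun v η hη hηv => by
    obtain ⟨-, hr', hc', hd'⟩ := NefH1Lib.Adj.facts_single k hdim hη
    have hJ : (Scheme.IdealSheafData.vanishingIdeal (⟨cv v, isClosed_of_mem_irreducibleComponents (cv v) (hΓ.comp_mem v)⟩ : TopologicalSpace.Closeds X)) = NefH1Lib.Subcurve.sub ({η} : Set X) :=
      congrArg _ (TopologicalSpace.Closeds.ext hηv.symm)
    rw [NodalLib.dJ_twist k hdim hω hdual hχ hDfin hDcl hDsm hinv (Iso.refl _) _ hr' hc' hd', hcard v,
      NodalLib.kJ_eq_card k hdim hX _ hr' hc' hd', NefH1Lib.Subcurve.support_sub, hηv, Nat.card_coe_set_eq,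
      Nat.card_coe_set_eq, hJ]
  constructor
  · intro hA v
    obtain ⟨η, hη, hηv⟩ := hgen _ (hΓ.comp_mem v)
    obtain ⟨-, hr', hc', hd'⟩ := NefH1Lib.Adj.facts_single k hdim hη
    rw [← hdeg v η hη hηv]
    have := (NefH1Lib.Adj.deg_pos_of_ample k hdim hA _ hr' hc' hd').1
    change 1 ≤ NefH1Lib.Adj.dJ k M (NefH1Lib.Subcurve.sub ({η} : Set X)) at this
    omega
  · intro hv
    have hpos : ∀ η, NefH1Lib.Subcurve.IsMaxPt η → 0 < NefH1Lib.Adj.dJ k M (NefH1Lib.Subcurve.sub ({η} : Set X)) := by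
      intro η hη
      obtain ⟨v, hv'⟩ := hΓ.comp_surjective _ (NefH1Lib.Subcurve.closure_mem_components hη)
      rw [hdeg v η hη hv'.symm]
      exact hv v
    refine NefH1Lib.Adj.isAmple_of_pos k hdim hM fun J hr hc hd => ?_
    obtain ⟨T, B, hTm, -, hTne, -, -, rfl, -⟩ := NefH1Lib.Adj.exists_sub k hdim J hr hc hd
    rw [NefH1Lib.Adj.dJ, NefH1Lib.Adj.deg_subscheme k hM]
    exact (NefH1Lib.Adj.delta_nonneg k hdim hM hTm fun η hη => (hpos η (hTm η hη)).le).2 hTne
      fun η hη => hpos η (hTm η hη)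

end Groth.Agent.S16294
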