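import Groth.Statements.S16296
import Groth.Agent.NefH1Lib.Field
import Groth.Agent.CurvLib.RRBasic

set_option autoImplicit false
set_option backward.isDefEq.respectTransparency false
set_option backward.isDefEq.respectTransparency.types false
universe u
open CategoryTheory CategoryTheory.Limits AlgebraicGeometry
open Curves

namespace Groth.Agent.S16296

/-- Let k be a field and X a proper scheme over k of dimension one (not assumed reduced or irreducible)
with H^1(X, O_X) = 0, and L a nef invertible O_X-module (nonnegative degree over k on every integral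
one-dimensional closed subscheme of X). Then dim_k H^0(X, L) = dim_k H^0(X, O_X) + deg_k L, where
deg_k L = χ(X, L) - χ(X, O_X). -/
theorem result (k : Type u) [Field k] (X : Scheme.{u}) [X.Over (Spec (CommRingCat.of k))]
    [IsProper (X ↘ (Spec (CommRingCat.of k)))] (hdim : topologicalKrullDim X = 1)
    (h1 : Subsingleton (Coh.HH X (Coh.structureModule X) 1))
    (L : X.Modules) (hL : PicF.IsInvertible L)
    (hnef : ∀ J : X.IdealSheafData, IsIntegral J.subscheme → topologicalKrullDim J.subscheme = 1 →
      0 ≤ @Curv2.deg k _ J.subscheme ⟨J.subschemeι ≫ (X ↘ (Spec (CommRingCat.of k)))⟩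
        ((Scheme.Modules.pullback J.subschemeι).obj L) 1) :
    (Module.finrank k (Coh.HH X L 0) : ℤ) =
      Module.finrank k (Coh.HH X (Coh.structureModule X) 0) + Curv2.deg k X L 1 := by
  haveI := (NefH1Lib.gg_and_h1 k hdim.le h1 hL (NefH1Lib.nef'_of_ideals k hL hnef)).2
  haveI := CurvLib.isNoetherian k (X := X)
  rw [Curv2.deg,
    CurvLib.euler_eq_sub (k := k) (M := L) (fun n hn => CurvLib.subsingleton_HH_of_dim_le L (d := 1) hdim.le n (by omega)),
    CurvLib.euler_eq_sub (k := k) (M := Coh.structureModule X)
      (fun n hn => CurvLib.subsingleton_HH_of_dim_le _ (d := 1) hdim.le n (by omega)),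
    Module.finrank_zero_of_subsingleton (R := k) (M := Coh.HH X L 1),
    Module.finrank_zero_of_subsingleton (R := k) (M := Coh.HH X (Coh.structureModule X) 1)]
  push_cast
  ring

end Groth.Agent.S16296
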