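import Groth.Statements.S16297
import Groth.Agent.NefH1Lib.Field
import Groth.Agent.NefH1Lib.Embed
import Groth.Agent.SerreVanLib.CurveAmple
import Groth.Agent.AmpleDevLib.Pull

set_option autoImplicit false
set_option backward.isDefEq.respectTransparency false
set_option backward.isDefEq.respectTransparency.types false
universe u
open CategoryTheory CategoryTheory.Limits AlgebraicGeometry
open Curves

namespace Groth.Agent.S16297

/-- Let k be a field and X a proper scheme over k of dimension one (not assumed reduced or irreducible)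
with H^1(X, O_X) = 0, and let L be an ample invertible O_X-module. Then L is very ample: for some n
there is a closed immersion i : X → P^n_k over k with i^*O(1) isomorphic to L (existence of an
isomorphism only). -/
theorem result (k : Type u) [Field k] (X : Scheme.{u}) [X.Over (Spec (CommRingCat.of k))]
    [IsProper (X ↘ (Spec (CommRingCat.of k)))] (hdim : topologicalKrullDim X = 1)
    (h1 : Subsingleton (Coh.HH X (Coh.structureModule X) 1))
    (L : X.Modules) (hA : CohB1.IsAmple L) :
    ∃ (n : ℕ) (i : X ⟶ CohB1.ProjSpace n k), IsClosedImmersion i ∧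
      i ≫ CohB1.ProjSpace.toSpec n k = X ↘ (Spec (CommRingCat.of k)) ∧
      Nonempty ((Scheme.Modules.pullback i).obj (Twist.twistProjSpace n k 1) ≅ L) := by
  haveI := CurvLib.isNoetherian k (X := X)
  haveI : X.IsSeparated := ⟨by rw [← terminal.comp_from (X ↘ Spec (CommRingCat.of k))]; infer_instance⟩
  have hL := hA.1
  have hnef : NefH1Lib.Nef' k L := fun Z i hi hZ hd => by
    haveI := hi
    haveI := hZ
    letI : Z.Over (Spec (CommRingCat.of k)) := ⟨i ≫ (X ↘ Spec (CommRingCat.of k))⟩
    haveI : IsProper (Z ↘ Spec (CommRingCat.of k)) :=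
      inferInstanceAs (IsProper (i ≫ (X ↘ Spec (CommRingCat.of k))))
    exact (SerreVanLib.deg_pos_of_isAmple (k := k) hd (AmpleDevLib.isAmple_pb (f := i) hL hA)).le
  have hgg := (NefH1Lib.gg_and_h1 k hdim.le h1 hL hnef).1
  have hvan : ∀ N : X.Modules, Coh.IsQCoh N → Subsingleton (Coh.HH X N 2) := fun N _ =>
    CurvLib.subsingleton_HH_of_dim_le N hdim.le 2 one_lt_two
  obtain ⟨m, v, hspan⟩ := NefH1Lib.exists_span (X ↘ Spec (CommRingCat.of k)) (CurvLib.isCoh_of_isInvertible hL)
  have hspan' : ∀ σ : Γ(L, ⊤), ∃ c : Fin (m + 1) → Γ(X, ⊤), σ = ∑ l, c l • v l := fun σ =>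
    (hspan σ).elim fun c hc => ⟨_, hc⟩
  obtain ⟨r, hr, hrb, hτ⟩ := NefH1Lib.exists_closedImmersion (X ↘ Spec (CommRingCat.of k)) hL v hspan
    (fun n τ => NefH1Lib.mul_surjective hvan h1 hL hgg v hspan' n τ) hA (NefH1Lib.cover_of_span hL hgg v hspan')
  exact ⟨m, r, hr, hrb, hτ⟩

end Groth.Agent.S16297
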