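import Groth.Statements.S16298
import Groth.Agent.GenusPushLib.Main
import Groth.Agent.S1585

set_option autoImplicit false
universe u
open CategoryTheory CategoryTheory.Limits AlgebraicGeometry
open Curves

namespace Groth.Agent.S16298

/-- Let k be a field and X a genus-zero curve over k, that is, an integral scheme proper over k of
dimension one with H^1(X, O_X) = 0. Then the normalization Y of X again satisfies H^1(Y, O_Y) = 0,
so Y is again a genus-zero curve. (The two instance binders on the morphism from the generic point
always hold; they are only needed to form the normalization.) -/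
theorem result (k : Type u) [Field k] (X : Scheme.{u}) [X.Over (Spec (CommRingCat.of k))]
    [IsIntegral X] [IsProper (X ↘ (Spec (CommRingCat.of k)))] (hdim : topologicalKrullDim X = 1)
    (h1 : Subsingleton (Coh.HH X (Coh.structureModule X) 1))
    [QuasiCompact (X.fromSpecStalk (genericPoint X))] [QuasiSeparated (X.fromSpecStalk (genericPoint X))] :
    Subsingleton (Coh.HH (Curv2.normalization X) (Coh.structureModule (Curv2.normalization X)) 1) := by
  obtain ⟨hfin, -, ⟨V, hV, hiso⟩, -, -⟩ := Groth.Agent.S1585.result k X
  haveI := hfin
  haveI := hiso
  let ν := Curv2.normalizationι X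
  letI : (Curv2.normalization X).Over (Spec (CommRingCat.of k)) := ⟨ν ≫ (X ↘ Spec (CommRingCat.of k))⟩
  haveI : IsProper ((Curv2.normalization X) ↘ Spec (CommRingCat.of k)) :=
    inferInstanceAs (IsProper (ν ≫ (X ↘ Spec (CommRingCat.of k))))
  have hle := GenusPushLib.genus_le (k := k) hdim.le ν rfl V (V.isOpen.dense hV)
  haveI := CurvLib.finite_HH (k := k) (DevissLib.isCoh_structureModule (Curv2.normalization X)) 1
  unfold Curv2.genus at hle
  rw [Module.finrank_zero_of_subsingleton (M := Coh.HH X (Coh.structureModule X) 1)] at hle
  exact Module.finrank_zero_iff.1 (Nat.le_zero.1 hle)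

end Groth.Agent.S16298
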