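import Groth.Statements.S1630
import Mathlib
import Groth.Agent.GeomIrrLib.Basic

set_option autoImplicit false
universe u
open CategoryTheory CategoryTheory.Limits AlgebraicGeometry
open Variety

namespace Groth.Agent.S1630

open CategoryTheory CategoryTheory.Limits AlgebraicGeometry

/-- Let X be a scheme over k. If X has a cover by a nonempty family of open subschemes, each
geometrically irreducible over k and any two of which meet, then X is geometrically irreducible over
k. -/
theorem result (k : Type u) [Field k] (X : Scheme.{u}) [X.Over (Spec (CommRingCat.of k))]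
    (ι : Type u) (U : ι → X.Opens) (hne : Nonempty ι) (hcov : (⨆ i, U i) = ⊤)
    (hmeet : ∀ i j, ((U i : Set X) ∩ (U j : Set X)).Nonempty)
    (hU : ∀ i, GeometricallyIrreducible ((U i).ι ≫ (X ↘ (Spec (CommRingCat.of k))))) : GeometricallyIrreducible (X ↘ (Spec (CommRingCat.of k))) := by
  let f := X ↘ Spec (CommRingCat.of k)
  refine (GeomIrrLib.gi_iff_forall f).2 fun K _ _ => ?_
  refine GeomIrrLib.irreducibleSpace_of_cover (fun i => (ConnBC.pr f K) ⁻¹' (U i : Set X))
    (fun i => (U i).isOpen.preimage (ConnBC.pr f K).continuous) (fun x => ?_) (fun i => ?_) (fun i j => ?_)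
  · obtain ⟨i, hi⟩ := TopologicalSpace.Opens.mem_iSup.1 (hcov.ge (show ConnBC.pr f K x ∈ (⊤ : X.Opens) from trivial))
    exact ⟨i, hi⟩
  · haveI := hU i
    haveI := GeomIrrLib.irreducibleSpace_bc ((U i).ι ≫ f) K
    let m : ConnBC.BC ((U i).ι ≫ f) K ⟶ ConnBC.BC f K :=
      pullback.map _ _ _ _ (U i).ι (𝟙 _) (𝟙 _) (by simp) (by simp)
    have hm : Set.range m = (ConnBC.pr f K) ⁻¹' (U i : Set X) := by
      simp [m, Scheme.Pullback.range_map, ConnBC.pr]
    rw [← hm, ← Set.image_univ]
    exact (IrreducibleSpace.isIrreducible_univ _).image _ m.continuous.continuousOn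
  · obtain ⟨x, hx⟩ := hmeet i j
    obtain ⟨y, rfl⟩ := (ConnBC.pr f K).surjective x
    exact ⟨y, hx⟩

end Groth.Agent.S1630
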