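import Groth.Statements.S16301
import Groth.Agent.NefH1Lib.MinimalPoint

set_option autoImplicit false
set_option backward.isDefEq.respectTransparency false
set_option backward.isDefEq.respectTransparency.types false
set_option maxHeartbeats 1000000
set_option linter.style.haveILetI false
universe u
open CategoryTheory CategoryTheory.Limits AlgebraicGeometry
open Curves

namespace Groth.Agent.S16301

/-- Let k be an infinite field and X a genus-zero curve over k, that is, an integral scheme proper over
k of dimension one with H^1(X, O_X) = 0. Let P be a closed point of X whose local ring is regular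
and whose degree deg_k P = dim_k H^0(P, O_P) is least among all closed points of X with regular
local ring, and let I_P be the ideal sheaf of the reduced point P (an invertible module, P being a
regular point of a curve; this is carried as a hypothesis). Then the Picard group of X is generated
by the class of I_P, equivalently by O_X(P): every class of an invertible O_X-module is an integer
power of the class of I_P (the group law on the Picard group is the tensor product, supplied by the
binder). (The published statement is for an arbitrary base field; this row assumes k infinite, the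
case in which the published argument applies: it twice replaces an ample divisor by a member of its
base-point-free complete linear system whose support avoids the finitely many non-regular points of
X, and over a finite field such a member need not exist.) -/
theorem result (k : Type u) [Field k] [Infinite k] (X : Scheme.{u}) [X.Over (Spec (CommRingCat.of k))]
    [IsIntegral X] [IsProper (X ↘ (Spec (CommRingCat.of k)))] (hdim : topologicalKrullDim X = 1)
    (h1 : Subsingleton (Coh.HH X (Coh.structureModule X) 1))
    (P : X) (hPc : IsClosed ({P} : Set X)) (hPreg : IsRegularLocalRing (X.presheaf.stalk P))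
    (hmin : ∀ (Q : X) (hQc : IsClosed ({Q} : Set X)), IsRegularLocalRing (X.presheaf.stalk Q) →
      Module.finrank k (Coh.HH X (ClSub.quotMod (Scheme.IdealSheafData.vanishingIdeal ⟨{P}, hPc⟩)) 0) ≤ Module.finrank k (Coh.HH X (ClSub.quotMod (Scheme.IdealSheafData.vanishingIdeal ⟨{Q}, hQc⟩)) 0))
    (hI : PicF.IsInvertible (ClSub.idealMod (Scheme.IdealSheafData.vanishingIdeal ⟨{P}, hPc⟩))) [PicGrp.Law X]
    (c : PicLoc.PicSet X) :
    c ∈ Subgroup.zpowers (PicGrp.cls (ClSub.idealMod (Scheme.IdealSheafData.vanishingIdeal ⟨{P}, hPc⟩)) hI) := by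
  classical
  haveI := CurvLib.isNoetherian k (X := X)
  -- the degree on classes
  let δ : PicLoc.PicSet X → ℤ := fun c => Curv2.deg k X (PicGrp.exists_eq_cls c).choose 1
  have hδ : ∀ (L : X.Modules) (hL : PicF.IsInvertible L), δ (PicGrp.cls L hL) = Curv2.deg k X L 1 := fun L hL => by
    obtain ⟨hM, hc⟩ := (PicGrp.exists_eq_cls (PicGrp.cls L hL)).choose_spec
    obtain ⟨e⟩ := (PicGrp.cls_eq_cls_iff hL hM).mp hc
    exact (CurvLib.deg_congr (k := k) e 1).symm
  have hmul : ∀ a b : PicLoc.PicSet X, δ (a * b) = δ a + δ b := fun a b => by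
    obtain ⟨A, hA, rfl⟩ := PicGrp.exists_eq_cls a
    obtain ⟨B, hB, rfl⟩ := PicGrp.exists_eq_cls b
    have e : PicGrp.cls A hA * PicGrp.cls B hB =
        PicGrp.cls (CohB1.tensorMod A B) (AmpleThLib.shT_isInvertible hA hB) :=
      Subtype.ext (PicGrp.cls_mul_cls_val hA hB)
    rw [e, hδ, hδ, hδ]
    exact GenusZeroLib.deg_tensor k hdim hA hB
  let φ : PicLoc.PicSet X →* Multiplicative ℤ := MonoidHom.mk' (fun c => Multiplicative.ofAdd (δ c)) fun a b => by
    simp only [hmul, ofAdd_add]
  -- the point
  haveI := NefH1Lib.dvr_of_regular k hdim hPc hPreg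
  obtain ⟨hpos, -⟩ := NefH1Lib.exists_point_bundle' k hdim hPc hPreg
  obtain ⟨I, ⟨eI⟩, hI', hdI⟩ := GenusZeroLib.exists_idealMod_iso (k := k) hPc hdim
  let g := PicGrp.cls (ClSub.idealMod (Scheme.IdealSheafData.vanishingIdeal ⟨{P}, hPc⟩)) hI
  have hg : δ g = -(NefH1Lib.ptDeg k P : ℤ) := by
    rw [hδ, ← CurvLib.deg_congr (k := k) eI 1]
    exact hdI
  let d : ℤ := (NefH1Lib.ptDeg k P : ℤ)
  have hd0 : 0 < d := by simpa [d] using hpos
  have hpow : ∀ (a : PicLoc.PicSet X) (q : ℤ), δ (a * g ^ q) = δ a - q * d := fun a q => by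
    have h : φ (a * g ^ q) = φ a * φ g ^ q := by rw [map_mul, map_zpow]
    have h2 := congrArg Multiplicative.toAdd h
    rw [toAdd_mul, toAdd_zpow] at h2
    refine h2.trans ?_
    show δ a + q • δ g = _
    rw [hg, smul_eq_mul]
    ring
  obtain ⟨M, hM, hMc⟩ := PicGrp.exists_eq_cls (c * g ^ (δ c / d))
  have hMd : Curv2.deg k X M 1 = δ c % d := by
    rw [← hδ M hM, ← hMc, hpow, Int.emod_def]
    ring
  have hM0 : Curv2.deg k X M 1 = 0 := by
    have h0 : 0 ≤ Curv2.deg k X M 1 := hMd ▸ Int.emod_nonneg _ hd0.ne'
    have h1' : Curv2.deg k X M 1 < d := hMd ▸ Int.emod_lt_of_pos _ hd0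
    rcases h0.eq_or_lt with h | h
    · exact h.symm
    exfalso
    obtain ⟨x, -, hxc, hxr, hle⟩ := NefH1Lib.exists_point_le_deg k hdim h1 hM h Set.finite_empty
    have hmin' := hmin x hxc hxr
    rw [NefH1Lib.finrank_h0_point k hdim hPc hPreg, NefH1Lib.finrank_h0_point k hdim hxc hxr] at hmin'
    omega
  -- degree zero is trivial
  obtain ⟨e⟩ : Nonempty (M ≅ Coh.structureModule X) := by
    rw [Curv2.deg] at hM0
    push_cast at hM0
    have hO : Curv2.euler k X (Coh.structureModule X) =
        (Module.finrank k (Coh.HH X (Coh.structureModule X) 0) : ℤ) := by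
      rw [CurvLib.euler_curve (k := k) hdim, Module.finrank_zero_of_subsingleton (M := Coh.HH X (Coh.structureModule X) 1)]
      simp
    haveI := CurvLib.finite_HH (k := k) (CurvLib.isCoh_of_isInvertible (X := X) CurvLib.isInvertible_structureModule) 0
    haveI := CurvLib.finite_HH (k := k) (CurvLib.isCoh_of_isInvertible hM) 0
    haveI : Nontrivial (Coh.HH X (Coh.structureModule X) 0) :=
      (GenusZeroLib.e0k k (Coh.structureModule X)).toEquiv.nontrivial_congr.mpr (inferInstanceAs (Nontrivial Γ(X, ⊤)))
    have hpos0 : 0 < Module.finrank k (Coh.HH X (Coh.structureModule X) 0) := Module.finrank_pos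
    have hM1 := CurvLib.euler_curve (k := k) hdim M
    have hne : Nontrivial (Coh.HH X M 0) := Module.nontrivial_of_finrank_pos (R := k) (by omega)
    obtain ⟨s, hs⟩ := CurvLib.exists_hom_ne_zero hne
    haveI := CurvLib.isIso_of_euler_le (k := k) CurvLib.isInvertible_structureModule hM hdim hs (by omega)
    exact ⟨(asIso s).symm⟩
  have h1c : c * g ^ (δ c / d) = 1 := by
    rw [hMc]
    exact (PicGrp.cls_eq_one_iff hM).mpr ⟨e⟩
  exact Subgroup.mem_zpowers_iff.mpr ⟨-(δ c / d), by rw [zpow_neg]; exact (eq_inv_of_mul_eq_one_left h1c).symm⟩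
end Groth.Agent.S16301
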