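import Groth.Statements.S16305
import Groth.Agent.CodimOneRestrLib.Main
import Groth.Agent.FormalCohLib.ProjAmple

set_option autoImplicit false
set_option backward.isDefEq.respectTransparency false
set_option backward.isDefEq.respectTransparency.types false
set_option maxRecDepth 8000
set_option maxHeartbeats 1000000
universe u
open CategoryTheory CategoryTheory.Limits AlgebraicGeometry
open ProjSp

namespace Groth.Agent.S16305

/-- Let k be a field and Z a zero-dimensional closed subscheme of projective N-space P^N_k, with closed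
immersion i : Z → P^N_k. For an integer n write ρ_n : H^0(P^N_k, O(n)) → H^0(P^N_k, i_* i^* O(n)) =
H^0(Z, O(n)|_Z) for the map induced on global sections by the unit O(n) → i_* i^* O(n) (restriction
of sections to Z). If the image of ρ_1 has codimension at most one in H^0(Z, O(1)|_Z), in the sense
that for some v every element is of the form ρ_1(s) + c v with c in k, then ρ_2 is surjective. -/
theorem result (k : Type u) [Field k] (N : ℕ)
    (Z : (CohB1.ProjSpace N k).IdealSheafData)
    (hZ : topologicalKrullDim (Z.support : Set (CohB1.ProjSpace N k)) ≤ 0) :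
    letI : (CohB1.ProjSpace N k).Over (Spec (CommRingCat.of k)) := ⟨CohB1.ProjSpace.toSpec N k⟩
    (∃ v : (Coh.HH (CohB1.ProjSpace N k) ((Scheme.Modules.pushforward Z.subschemeι).obj
        ((Scheme.Modules.pullback Z.subschemeι).obj (Twist.twistProjSpace N k 1))) 0),
      ∀ t : (Coh.HH (CohB1.ProjSpace N k) ((Scheme.Modules.pushforward Z.subschemeι).obj
        ((Scheme.Modules.pullback Z.subschemeι).obj (Twist.twistProjSpace N k 1))) 0),
        ∃ (s : Coh.HH (CohB1.ProjSpace N k) (Twist.twistProjSpace N k 1) 0) (c : k),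
        t = @id (Coh.HH (CohB1.ProjSpace N k) ((Scheme.Modules.pushforward Z.subschemeι).obj
        ((Scheme.Modules.pullback Z.subschemeι).obj (Twist.twistProjSpace N k 1))) 0)
          (Sheaf.H.map ((SheafOfModules.toSheaf (CohB1.ProjSpace N k).ringCatSheaf).map
            ((Scheme.Modules.pullbackPushforwardAdjunction Z.subschemeι).unit.app (Twist.twistProjSpace N k 1))) 0 s) + c • v) →
    Function.Surjective (fun s : Coh.HH (CohB1.ProjSpace N k) (Twist.twistProjSpace N k 2) 0 =>
      @id (Coh.HH (CohB1.ProjSpace N k) ((Scheme.Modules.pushforward Z.subschemeι).obj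
        ((Scheme.Modules.pullback Z.subschemeι).obj (Twist.twistProjSpace N k 2))) 0)
          (Sheaf.H.map ((SheafOfModules.toSheaf (CohB1.ProjSpace N k).ringCatSheaf).map
            ((Scheme.Modules.pullbackPushforwardAdjunction Z.subschemeι).unit.app (Twist.twistProjSpace N k 2))) 0 s)) := by
  letI : (CohB1.ProjSpace N k).Over (Spec (CommRingCat.of k)) := ⟨CohB1.ProjSpace.toSpec N k⟩
  rintro ⟨v, hv⟩ t
  have hd : topologicalKrullDim Z.subscheme ≤ 0 := by
    refine le_trans ?_ hZ
    let f : Z.subscheme → (Z.support : Set (CohB1.ProjSpace N k)) := fun x =>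
      ⟨Z.subschemeι x, by rw [← Z.range_subschemeι]; exact Set.mem_range_self x⟩
    exact Topology.IsInducing.topologicalKrullDim_le
      (f := f) (Z.subschemeι.isClosedEmbedding.isInducing.codRestrict _)
  haveI : IsProper (CohB1.ProjSpace.toSpec N k) := FormalCohLib.isProper_projToSpec N k
  haveI : IsLocallyNoetherian (CohB1.ProjSpace N k) :=
    LocallyOfFiniteType.isLocallyNoetherian (CohB1.ProjSpace.toSpec N k)
  haveI : IsLocallyNoetherian Z.subscheme := LocallyOfFiniteType.isLocallyNoetherian Z.subschemeι
  haveI := IsLocallyArtinian.of_topologicalKrullDim_le_zero hd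
  haveI : CompactSpace (CohB1.ProjSpace N k) := QuasiCompact.compactSpace_of_compactSpace (CohB1.ProjSpace.toSpec N k)
  haveI : CompactSpace Z.subscheme := Z.subschemeι.isClosedEmbedding.compactSpace
  haveI : DiscreteTopology Z.subscheme := inferInstance
  haveI : Finite Z.subscheme := finite_of_compact_of_discrete
  let η := fun n : ℤ => (Scheme.Modules.pullbackPushforwardAdjunction Z.subschemeι).unit.app (Twist.twistProjSpace N k n)
  obtain ⟨s, hs⟩ := CodimOneRestrLib.surjective_puSec_two Z.subschemeι
    (show Γ((Scheme.Modules.pullback Z.subschemeι).obj (Twist.twistProjSpace N k 1), ⊤) from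
      DegPullLib.e0 ((Scheme.Modules.pushforward Z.subschemeι).obj ((Scheme.Modules.pullback Z.subschemeι).obj (Twist.twistProjSpace N k 1))) v) (fun w => by
    let M := (Scheme.Modules.pushforward Z.subschemeι).obj ((Scheme.Modules.pullback Z.subschemeι).obj (Twist.twistProjSpace N k 1))
    obtain ⟨s, c, e⟩ := hv ((DegPullLib.e0 M).symm w)
    refine ⟨DegPullLib.e0 _ s, c, ?_⟩
    have h1 := congrArg (DegPullLib.e0 M) e
    rw [AddEquiv.apply_symm_apply, map_add] at h1
    exact h1.trans (congr_arg₂ (· + ·) (PnCohLib.e0_map (k := k) (η 1) s) (DegPullLib.e0_smul _ _ v)))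
    (DegPullLib.e0 ((Scheme.Modules.pushforward Z.subschemeι).obj ((Scheme.Modules.pullback Z.subschemeι).obj (Twist.twistProjSpace N k 2))) t)
  refine ⟨(DegPullLib.e0 _).symm s, (DegPullLib.e0 _).injective ?_⟩
  exact (PnCohLib.e0_map (k := k) (η 2) _).trans ((congrArg ((η 2).app ⊤) (AddEquiv.apply_symm_apply _ s)).trans hs)

end Groth.Agent.S16305
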