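import Groth.Statements.S16307
import Groth.Agent.NefH1Lib.GenusOne
import Groth.Agent.EtSectLib.Ring

set_option autoImplicit false
set_option backward.isDefEq.respectTransparency false
set_option backward.isDefEq.respectTransparency.types false
set_option maxHeartbeats 1000000
set_option linter.style.haveILetI false
universe u
open CategoryTheory CategoryTheory.Limits AlgebraicGeometry
open Curves

namespace Groth.Agent.S16307

/-- In the case of a separably closed base field and a curve that is not geometrically integral (the
case proved in the text), let k be a separably closed field and X a Gorenstein genus-one curve over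
k: an integral scheme, proper over k, of dimension one, all of whose local rings are Gorenstein,
with dim_k H^1(X, O_X) = 1 (so H^0(X, O_X) = k). Assume that X is not geometrically integral over k.
Let L be an invertible O_X-module of degree at least 3 over k. Then the section ring ⊕_{m ≥ 0}
H^0(X, L^{⊗ m}) is generated in degree one: for every m, the global sections of L^{⊗ m} ⊗ L = L^{⊗
(m+1)} are spanned over H^0(X, O_X) by the sections a ⊗ b with a a global section of L^{⊗ m} and b a
global section of L; and L is very ample: for some n there is a closed immersion i : X → P^n_k over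
k with i^*O(1) isomorphic to L (existence of an isomorphism only). (The published statement is for
an arbitrary base field and any Gorenstein genus-one curve; the text reduces to a separably closed
field, cites the literature for the geometrically integral case, and proves the remaining case,
which is the one stated here.) -/
theorem result (k : Type u) [Field k] (X : Scheme.{u}) [X.Over (Spec (CommRingCat.of k))] [IsSepClosed k]
    [IsIntegral X] [IsProper (X ↘ (Spec (CommRingCat.of k)))] (hdim : topologicalKrullDim X = 1)
    (hgor : ∀ x : X, LocCoh.IsGorensteinLocalRing (X.presheaf.stalk x)) (hg : Curv2.genus k X = 1)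
    (hngi : ¬ GeometricallyIntegral (X ↘ (Spec (CommRingCat.of k))))
    (L : X.Modules) (hL : PicF.IsInvertible L) (hdeg : 3 ≤ Curv2.deg k X L 1) :
    (∀ m : ℕ, Submodule.span (X.ringCatSheaf.obj.obj (Opposite.op ⊤))
        (Set.range (fun p : (CohB1.tensorPow L m).val.obj (Opposite.op ⊤) × L.val.obj (Opposite.op ⊤) =>
          SecTwist.tmul (CohB1.tensorPow L m) L ⊤ p.1 p.2)) = ⊤) ∧
    ∃ (n : ℕ) (i : X ⟶ CohB1.ProjSpace n k), IsClosedImmersion i ∧
      i ≫ CohB1.ProjSpace.toSpec n k = X ↘ (Spec (CommRingCat.of k)) ∧
      Nonempty ((Scheme.Modules.pullback i).obj (Twist.twistProjSpace n k 1) ≅ L) := by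
  haveI : Infinite k := EtSectLib.infinite_of_isSepClosed k
  haveI := CurvLib.isNoetherian k (X := X)
  have h0 := NefH1Lib.h0_eq_one (X := X) k hg
  have h1 : Subsingleton (Coh.HH X L 1) := RRVanLib.subsingleton_h1 (k := k) hdim h0 hL (by rw [hg]; omega)
  have hgg : Curv2.IsGloballyGenerated L := RRVanLib.isGloballyGenerated (k := k) hdim h0 hL (by rw [hg]; omega)
  have hA : CohB1.IsAmple L := SerreVanLib.isAmple_of_deg_pos (k := k) hdim hL (by omega)
  obtain ⟨r, v, hv⟩ := NefH1Lib.exists_span (X ↘ Spec (CommRingCat.of k)) (CurvLib.isCoh_of_isInvertible hL)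
  have hspan : ∀ σ : Γ(L, ⊤), ∃ c : Fin (r + 1) → Γ(X, ⊤), σ = ∑ l, c l • v l := fun σ =>
    (hv σ).elim fun c hc => ⟨_, hc⟩
  have hcov := NefH1Lib.cover_of_span hL hgg v hspan
  have hmul := NefH1Lib.mul_surjective_genus_one k hdim hg hL hdeg hgg h1 v hspan hcov
  refine ⟨fun m => eq_top_iff.2 fun τ _ => ?_, ?_⟩
  · obtain ⟨w, hw⟩ := hmul m τ
    rw [hw]
    exact Submodule.sum_mem _ fun l _ => Submodule.subset_span ⟨(w l, v l), rfl⟩
  obtain ⟨i, hi, hib, hτ⟩ := NefH1Lib.exists_closedImmersion (X ↘ Spec (CommRingCat.of k)) hL v hv hmul hA hcov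
  exact ⟨r, i, hi, hib, hτ⟩
end Groth.Agent.S16307
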