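import Groth.Statements.S16308
import Groth.Agent.NefH1Lib.Koszul
import Groth.Agent.NefH1Lib.Embed

set_option autoImplicit false
set_option backward.isDefEq.respectTransparency false
set_option backward.isDefEq.respectTransparency.types false
set_option maxHeartbeats 1000000
set_option linter.style.haveILetI false
universe u
open CategoryTheory CategoryTheory.Limits AlgebraicGeometry
open Curves

namespace Groth.Agent.S16308

/-- Let k be a field and X a proper scheme over k of dimension one (a one-dimensional projective scheme)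
with H^0(X, O_X) = k. Let A be a globally generated ample invertible O_X-module and m ≥ 0 an integer
with H^1(X, A^{⊗ m}) = 0. Then for every n ≥ m + 1 the global sections of A^{⊗ n} ⊗ A = A^{⊗ (n+1)}
are spanned over H^0(X, O_X) = k by the sections a ⊗ b with a a global section of A^{⊗ n} and b a
global section of A; consequently the section ring ⊕_{n ≥ 0} H^0(X, A^{⊗ n}) is generated as a
k-algebra by its homogeneous pieces of degrees 1, …, m + 1. -/
theorem result (k : Type u) [Field k] (X : Scheme.{u}) [X.Over (Spec (CommRingCat.of k))]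
    [IsProper (X ↘ (Spec (CommRingCat.of k)))] (hdim : topologicalKrullDim X = 1)
    (h0 : Module.finrank k (Coh.HH X (Coh.structureModule X) 0) = 1)
    (A : X.Modules) (hA : CohB1.IsAmple A) (hgg : Curv2.IsGloballyGenerated A)
    (m : ℕ) (hm : Subsingleton (Coh.HH X (CohB1.tensorPow A m) 1))
    (n : ℕ) (hn : m + 1 ≤ n) :
    Submodule.span (X.ringCatSheaf.obj.obj (Opposite.op ⊤))
        (Set.range (fun p : (CohB1.tensorPow A n).val.obj (Opposite.op ⊤) × A.val.obj (Opposite.op ⊤) =>
          SecTwist.tmul (CohB1.tensorPow A n) A ⊤ p.1 p.2)) = ⊤ := by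
  haveI := CurvLib.isNoetherian k (X := X)
  haveI : IsLocallyNoetherian X := LocallyOfFiniteType.isLocallyNoetherian (X ↘ Spec (CommRingCat.of k))
  haveI : CompactSpace X := QuasiCompact.compactSpace_of_compactSpace (X ↘ Spec (CommRingCat.of k))
  haveI : X.IsSeparated := ⟨by rw [← terminal.comp_from (X ↘ Spec (CommRingCat.of k))]; infer_instance⟩
  have hL := hA.1
  have hvan : ∀ N : X.Modules, Coh.IsQCoh N → Subsingleton (Coh.HH X N 2) := fun N _ =>
    CurvLib.subsingleton_HH_of_dim_le (d := 1) N (hdim.le.trans (by simp)) 2 one_lt_two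
  obtain ⟨r, v, hv⟩ := NefH1Lib.exists_span (X ↘ Spec (CommRingCat.of k)) (CurvLib.isCoh_of_isInvertible hL)
  have hspan : ∀ σ : Γ(A, ⊤), ∃ c : Fin (r + 1) → Γ(X, ⊤), σ = ∑ l, c l • v l := fun σ => by
    obtain ⟨c, hc⟩ := hv σ
    exact ⟨fun l => NefH1Lib.gl _ (c l), hc⟩
  have hpow : ∀ j, m ≤ j → Subsingleton (Coh.HH X (CohB1.tensorPow A j) 1) := fun j hj => by
    induction j, hj using Nat.le_induction with
    | base => exact hm
    | succ j _ ih =>
      exact NefH1Lib.h1_tensor_gg hvan (CurvLib.isCoh_of_isInvertible (AmpleThLib.tensorPow_isInvertible hL j)).1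
        ih hL hgg
  obtain ⟨p, rfl⟩ : ∃ p, n = p + 1 := ⟨n - 1, by omega⟩
  refine eq_top_iff.2 fun τ _ => ?_
  obtain ⟨w, hw⟩ := NefH1Lib.mul_surjective_pow hL v hvan hgg (NefH1Lib.cover_of_span hL hgg v hspan) hspan p
    (hpow p (by omega)) τ
  rw [hw]
  exact Submodule.sum_mem _ fun l _ => Submodule.subset_span ⟨(w l, v l), rfl⟩
end Groth.Agent.S16308
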