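import Groth.Statements.S16309
import Groth.Agent.NefH1Lib.Field
import Groth.Agent.NefH1Lib.Mult
import Groth.Agent.NefH1Lib.Embed

set_option autoImplicit false
set_option backward.isDefEq.respectTransparency false
set_option backward.isDefEq.respectTransparency.types false
set_option maxHeartbeats 1000000
set_option linter.style.haveILetI false
universe u
open CategoryTheory CategoryTheory.Limits AlgebraicGeometry
open Curves

namespace Groth.Agent.S16309

/-- Let k be a field and X a proper scheme over k of dimension one (not assumed reduced or irreducible)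
with H^1(X, O_X) = 0 and H^0(X, O_X) = k, and let L be an ample invertible O_X-module. Then the
section ring ⊕_{n ≥ 0} H^0(X, L^{⊗ n}) is generated by H^0(X, L) as a k-algebra: for every n, the
global sections of L^{⊗ n} ⊗ L = L^{⊗ (n+1)} are spanned over H^0(X, O_X) = k by the sections a ⊗ b
with a a global section of L^{⊗ n} and b a global section of L. -/
theorem result (k : Type u) [Field k] (X : Scheme.{u}) [X.Over (Spec (CommRingCat.of k))]
    [IsProper (X ↘ (Spec (CommRingCat.of k)))] (hdim : topologicalKrullDim X = 1)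
    (h1 : Subsingleton (Coh.HH X (Coh.structureModule X) 1))
    (h0 : Module.finrank k (Coh.HH X (Coh.structureModule X) 0) = 1)
    (L : X.Modules) (hA : CohB1.IsAmple L) (n : ℕ) :
    Submodule.span (X.ringCatSheaf.obj.obj (Opposite.op ⊤))
        (Set.range (fun p : (CohB1.tensorPow L n).val.obj (Opposite.op ⊤) × L.val.obj (Opposite.op ⊤) =>
          SecTwist.tmul (CohB1.tensorPow L n) L ⊤ p.1 p.2)) = ⊤ := by
  haveI := CurvLib.isNoetherian k (X := X)
  haveI : IsLocallyNoetherian X := LocallyOfFiniteType.isLocallyNoetherian (X ↘ Spec (CommRingCat.of k))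
  haveI : CompactSpace X := QuasiCompact.compactSpace_of_compactSpace (X ↘ Spec (CommRingCat.of k))
  haveI : X.IsSeparated := ⟨by rw [← terminal.comp_from (X ↘ Spec (CommRingCat.of k))]; infer_instance⟩
  have hL := hA.1
  have hd : topologicalKrullDim X ≤ ((1 : ℕ) : WithBot ℕ∞) := hdim.le.trans (by simp)
  have hvan : ∀ N : X.Modules, Coh.IsQCoh N → Subsingleton (Coh.HH X N 2) := fun N _ =>
    CurvLib.subsingleton_HH_of_dim_le N hd 2 one_lt_two
  have hnef : NefH1Lib.Nef' k L := fun Z i hi hZ hdZ => by
    haveI := hi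
    haveI := hZ
    letI : Z.Over (Spec (CommRingCat.of k)) := ⟨i ≫ (X ↘ Spec (CommRingCat.of k))⟩
    haveI : IsProper (Z ↘ Spec (CommRingCat.of k)) :=
      inferInstanceAs (IsProper (i ≫ (X ↘ Spec (CommRingCat.of k))))
    exact (SerreVanLib.deg_pos_of_isAmple hdZ (AmpleDevLib.isAmple_pb i hL hA)).le
  have hgg := (NefH1Lib.gg_and_h1 k hd h1 hL hnef).1
  obtain ⟨m, v, hv⟩ := NefH1Lib.exists_span (X ↘ Spec (CommRingCat.of k)) (CurvLib.isCoh_of_isInvertible hL)
  refine eq_top_iff.2 fun τ _ => ?_
  obtain ⟨w, hw⟩ := NefH1Lib.mul_surjective hvan h1 hL hgg v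
    (fun σ => by obtain ⟨c, hc⟩ := hv σ; exact ⟨fun l => NefH1Lib.gl _ (c l), hc⟩) n τ
  rw [hw]
  exact Submodule.sum_mem _ fun l _ => Submodule.subset_span ⟨(w l, v l), rfl⟩
end Groth.Agent.S16309
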