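import Groth.Statements.S16312
import Mathlib.Analysis.Normed.Module.Basic
import Mathlib.Topology.Order.Compact
import Mathlib.Topology.Algebra.IsUniformGroup.Basic
-- import your own Groth.Agent.* helpers here

set_option autoImplicit false
universe u
open W4c3irrattreebun

namespace Groth.Agent.S16312

/-- Let N be a closed cone in real n-space, f a function continuous on N, positive at the nonzero points
of N and homogeneous of degree one under scaling by nonnegative reals, and Λ a discrete additive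
subgroup. Then for every real c the set of points H of Λ lying in N with f(H) ≤ c is finite. (The
published statement takes Λ to be a lattice; this row allows any discrete additive subgroup.) -/
theorem result (n : ℕ)
    (N : Set (EuclideanSpace ℝ (Fin n))) (hN : IsClosed N)
    (hcone : ∀ x ∈ N, ∀ r : ℝ, 0 ≤ r → r • x ∈ N)
    (f : EuclideanSpace ℝ (Fin n) → ℝ) (hf : ContinuousOn f N)
    (hpos : ∀ x ∈ N, x ≠ 0 → 0 < f x)
    (hhom : ∀ x ∈ N, ∀ r : ℝ, 0 ≤ r → f (r • x) = r * f x)
    (Λ : Submodule ℤ (EuclideanSpace ℝ (Fin n))) [DiscreteTopology Λ] (c : ℝ) :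
    ({x : EuclideanSpace ℝ (Fin n) | x ∈ N ∧ f x ≤ c} ∩ (Λ : Set (EuclideanSpace ℝ (Fin n)))).Finite := by
  let K := N ∩ Metric.sphere (0 : EuclideanSpace ℝ (Fin n)) 1
  obtain ⟨m, hm, hmf⟩ : ∃ m : ℝ, 0 < m ∧ ∀ x ∈ K, m ≤ f x := by
    by_cases hK : K.Nonempty
    · obtain ⟨x0, hx0, hmin⟩ := ((isCompact_sphere _ _).inter_left hN).exists_isMinOn hK (hf.mono Set.inter_subset_left)
      refine ⟨f x0, hpos x0 hx0.1 (fun e => ?_), fun x hx => hmin hx⟩
      have := hx0.2
      simp [e] at this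
    · exact ⟨1, one_pos, fun x hx => (hK ⟨x, hx⟩).elim⟩
  haveI : DiscreteTopology Λ.toAddSubgroup := ‹DiscreteTopology Λ›
  have hcl : IsClosed (Λ : Set (EuclideanSpace ℝ (Fin n))) := AddSubgroup.isClosed_of_discrete (H := Λ.toAddSubgroup)
  have hfin : (Metric.closedBall (0 : EuclideanSpace ℝ (Fin n)) (max c 0 / m) ∩ (Λ : Set (EuclideanSpace ℝ (Fin n)))).Finite := by
    have : IsDiscrete (Λ : Set (EuclideanSpace ℝ (Fin n))) := isDiscrete_iff_discreteTopology.mpr ‹_›
    exact ((isCompact_closedBall _ _).inter_right hcl).finite (this.mono Set.inter_subset_right)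
  refine hfin.subset fun x hx => ⟨?_, hx.2⟩
  obtain ⟨hxN, hxc⟩ := hx.1
  rw [mem_closedBall_zero_iff, le_div_iff₀ hm]
  rcases eq_or_ne x 0 with rfl | hx0
  · simp
  have hn : 0 < ‖x‖ := norm_pos_iff.mpr hx0
  have h1 := hmf (‖x‖⁻¹ • x) ⟨hcone x hxN _ (inv_nonneg.mpr hn.le), by simp [norm_smul, hn.ne']⟩
  rw [hhom x hxN _ (inv_nonneg.mpr hn.le)] at h1
  have h2 : ‖x‖ * m ≤ f x := by
    have := mul_le_mul_of_nonneg_left h1 hn.le
    rwa [mul_inv_cancel_left₀ hn.ne'] at this
  exact h2.trans (hxc.trans (le_max_left _ _))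

end Groth.Agent.S16312
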