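import Groth.Statements.S16315
import Groth.Agent.CanonRingLib.Main

set_option autoImplicit false
open CategoryTheory CategoryTheory.Limits AlgebraicGeometry
universe u
open Curves

namespace Groth.Agent.S16315

/-- Let k be an algebraically closed field of characteristic zero and X a smooth proper integral curve
over k (integral, proper and smooth over k, of dimension one) of genus g ≥ 3 which is
non-hyperelliptic (every invertible module of degree 2 has at most a one-dimensional space of global
sections), and let K be a module isomorphic to the sheaf of differentials of X over k. Then the
canonical ring ⊕_m H^0(X, K^{⊗ m}) is generated in degree one: for every m ≥ 0 the multiplication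
map H^0(X, K^{⊗ m}) ⊗ H^0(X, K) → H^0(X, K^{⊗ (m+1)}) is surjective (written as the map from the
global sections of the sectionwise tensor product presheaf to the global sections of its
sheafification). (The published statement phrases this as the canonical ring being the homogeneous
coordinate ring of the canonically embedded curve; its further assertion on the vanishing of the
first cohomology of the twisted ideal sheaves is not restated.) -/
theorem result
    (k : Type u) [Field k] [IsAlgClosed k] [CharZero k]
    (X : Scheme.{u}) [X.Over (Spec (CommRingCat.of k))] [IsIntegral X]
    [IsProper (X ↘ Spec (CommRingCat.of k))] [Smooth (X ↘ Spec (CommRingCat.of k))]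
    (hdim : topologicalKrullDim X = 1) (hg : 3 ≤ Curv2.genus k X)
    (hnh : ∀ M : X.Modules, PicF.IsInvertible M → Curv2.deg k X M 1 = 2 →
      Module.finrank k (Coh.HH X M 0) ≤ 1)
    (K : X.Modules) (eK : K ≅ Omega.sheaf (X ↘ Spec (CommRingCat.of k))) (m : ℕ) :
    Function.Surjective
      ((toSheafify (Opens.grothendieckTopology X)
        (CohB1.tensorPre (CohB1.tensorPow K m) K).presheaf).app (Opposite.op ⊤)) := by
  have h0 := RRVanLib.finrank_h0_structure (k := k) (X := X)
  refine CanonRingLib.surjective_mulMap (k := k) hdim hg (fun A hA => ?_) eK m
  obtain ⟨L, hL⟩ := ZetaCurveLib.exists_module (k := k) hdim h0 A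
  have := hnh L hL.1 (by rw [hL.deg hdim h0]; exact hA)
  rwa [CurveH0Lib.LinStable.h0_eq_ell hdim hL] at this

end Groth.Agent.S16315
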