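import Groth.Statements.S16316
import Groth.Agent.CurveH0Lib.NineBridge
-- import your own Groth.Agent.* helpers here

set_option autoImplicit false
open CategoryTheory CategoryTheory.Limits AlgebraicGeometry
universe u
open Curves

namespace Groth.Agent.S16316

attribute [local instance] CurveDualLib.algFF

/-- Let k be an algebraically closed field of characteristic zero and X a smooth proper integral curve
over k (integral, proper and smooth over k, of dimension one) of genus 9 whose Clifford index is 1:
some invertible module M with h^0(M) ≥ 2 and h^1(M) ≥ 2 has deg M − 2(h^0(M) − 1) = 1, and every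
invertible module M with h^0(M) ≥ 2 and h^1(M) ≥ 2 has deg M − 2(h^0(M) − 1) ≥ 1 (degrees are χ(M) −
χ(O_X); in particular X is not hyperelliptic). Then X is trigonal: it carries a g^1_3, an invertible
module of degree 3 together with two k-linearly independent global sections. -/
theorem result
    (k : Type u) [Field k] [IsAlgClosed k] [CharZero k]
    (X : Scheme.{u}) [X.Over (Spec (CommRingCat.of k))] [IsIntegral X]
    [IsProper (X ↘ Spec (CommRingCat.of k))] [Smooth (X ↘ Spec (CommRingCat.of k))]
    (hdim : topologicalKrullDim X = 1) (hg : Curv2.genus k X = 9)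
    (hex : ∃ M : X.Modules, PicF.IsInvertible M ∧ 2 ≤ Module.finrank k (Coh.HH X M 0) ∧
      2 ≤ Module.finrank k (Coh.HH X M 1) ∧ Curv2.deg k X M 1 = 2 * (Module.finrank k (Coh.HH X M 0) : ℤ) - 1)
    (hmin : ∀ M : X.Modules, PicF.IsInvertible M → 2 ≤ Module.finrank k (Coh.HH X M 0) →
      2 ≤ Module.finrank k (Coh.HH X M 1) → 2 * (Module.finrank k (Coh.HH X M 0) : ℤ) - 1 ≤ Curv2.deg k X M 1) :
    ∃ (L : X.Modules) (s : Fin (1 + 1) → LinSer.Sect X L), LinSer.IsLinSer k X L 3 1 s := by
  haveI : NeZero (2 : k) := ⟨two_ne_zero⟩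
  have h0 := RRVanLib.finrank_h0_structure (k := k) (X := X)
  obtain ⟨C, hCd, hC⟩ := CurveH0Lib.LinStable.exists_canonical_hasDiv (k := k) hdim
  have hK := CurveDualLib.isFunctionField (k := k) (X := X) hdim
  have hgF : FunFld.genus k X.functionField = 9 := by rw [CurveDualLib.genus_eq (k := k) hdim]; exact hg
  obtain ⟨M, hM, hM0, hM1, hMd⟩ := hex
  obtain ⟨D, hD⟩ := ZetaCurveLib.exists_hasDiv (k := k) hdim hM
  rw [CurveH0Lib.LinStable.h0_eq_ell hdim hD] at hM0 hMd
  rw [CurveH0Lib.Nine.h1_eq hdim hC hD] at hM1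
  rw [hD.deg hdim h0] at hMd
  obtain ⟨N, hN, hN2⟩ := CurveH0Lib.Nine.exists_g13 hK hC hgF
    (CurveH0Lib.Nine.hmin_div hdim hC (fun M hM h h' => by have := hmin M hM h h'; omega)) hM0 hM1 hMd
  exact CurveH0Lib.Nine.exists_linSer hdim (d := 3) hN hN2

end Groth.Agent.S16316
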