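import Groth.Statements.S16319
import Groth.Agent.CurveH0Lib.NineBridge
-- import your own Groth.Agent.* helpers here

set_option autoImplicit false
open CategoryTheory CategoryTheory.Limits AlgebraicGeometry
universe u
open Curves

namespace Groth.Agent.S16319

attribute [local instance] CurveDualLib.algFF

/-- Let k be an algebraically closed field of characteristic zero and X a smooth proper integral curve
over k (integral, proper and smooth over k, of dimension one) of genus 9 whose Clifford index is 3:
some invertible module M with h^0(M) ≥ 2 and h^1(M) ≥ 2 has deg M − 2(h^0(M) − 1) = 3, and every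
invertible module M with h^0(M) ≥ 2 and h^1(M) ≥ 2 has deg M − 2(h^0(M) − 1) ≥ 3 (degrees are χ(M) −
χ(O_X); in particular X is not hyperelliptic); let H be an invertible module of degree 7 with h^0(H)
= 3 (a g^2_7) and D a globally generated invertible module of degree 5 with h^0(D) = 2 (a
base-point-free complete g^1_5). Then every module N with D ⊗ N ≅ H has h^0(N) = 1: the difference
of the two series is the class of an effective divisor of degree 2 with a one-dimensional space of
sections, so the pencil is cut out by the lines through a double point of the plane model of degree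
7. -/
theorem result
    (k : Type u) [Field k] [IsAlgClosed k] [CharZero k]
    (X : Scheme.{u}) [X.Over (Spec (CommRingCat.of k))] [IsIntegral X]
    [IsProper (X ↘ Spec (CommRingCat.of k))] [Smooth (X ↘ Spec (CommRingCat.of k))]
    (hdim : topologicalKrullDim X = 1) (hg : Curv2.genus k X = 9)
    (hex : ∃ M : X.Modules, PicF.IsInvertible M ∧ 2 ≤ Module.finrank k (Coh.HH X M 0) ∧
      2 ≤ Module.finrank k (Coh.HH X M 1) ∧ Curv2.deg k X M 1 = 2 * (Module.finrank k (Coh.HH X M 0) : ℤ) + 1)
    (hmin : ∀ M : X.Modules, PicF.IsInvertible M → 2 ≤ Module.finrank k (Coh.HH X M 0) →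
      2 ≤ Module.finrank k (Coh.HH X M 1) → 2 * (Module.finrank k (Coh.HH X M 0) : ℤ) + 1 ≤ Curv2.deg k X M 1)
    (H : X.Modules) (hH : PicF.IsInvertible H) (hdH : Curv2.deg k X H 1 = 7)
    (h0H : Module.finrank k (Coh.HH X H 0) = 3)
    (D : X.Modules) (hD : PicF.IsInvertible D) (hgD : Curv2.IsGloballyGenerated D)
    (hdD : Curv2.deg k X D 1 = 5) (h0D : Module.finrank k (Coh.HH X D 0) = 2)
    (N : X.Modules) (e : CohB1.tensorMod D N ≅ H) :
    Module.finrank k (Coh.HH X N 0) = 1 := by
  haveI : NeZero (2 : k) := ⟨two_ne_zero⟩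
  have h0 := RRVanLib.finrank_h0_structure (k := k) (X := X)
  obtain ⟨C, hCd, hC⟩ := CurveH0Lib.LinStable.exists_canonical_hasDiv (k := k) hdim
  have hK := CurveDualLib.isFunctionField (k := k) (X := X) hdim
  have hgF : FunFld.genus k X.functionField = 9 := by rw [CurveDualLib.genus_eq (k := k) hdim]; exact hg
  have hminF := CurveH0Lib.Nine.hmin_div hdim hC hmin
  obtain ⟨eD⟩ := MiscFlat6.nonempty_dualIso hD
  have hN : PicF.IsInvertible N :=
    HilbPolyLib.isInvertible_of_iso ((HilbPolyLib.congrRight (MiscFlat6.dual D) e).symm ≪≫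
      (HilbPolyLib.assocIso _ D N).symm ≪≫ HilbPolyLib.congrLeft (HilbPolyLib.swapIso _ D ≪≫ eD) N ≪≫ HilbPolyLib.unitLeft N)
      (HilbPolyLib.isInvertible_tensor (MiscFlat6.dual_isInvertible hD) hH)
  obtain ⟨A, hA⟩ := ZetaCurveLib.exists_hasDiv (k := k) hdim hD
  obtain ⟨B, hB⟩ := ZetaCurveLib.exists_hasDiv (k := k) hdim hN
  have hAB := (hA.tensor hdim hB).of_iso hdim e hH
  rw [hA.deg hdim h0] at hdD
  rw [CurveH0Lib.LinStable.h0_eq_ell hdim hA] at h0D
  rw [hAB.deg hdim h0] at hdH
  rw [CurveH0Lib.LinStable.h0_eq_ell hdim hAB] at h0H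
  rw [CurveH0Lib.LinStable.h0_eq_ell hdim hB, show B = A + B - A by abel]
  exact CurveH0Lib.Nine.h0_diff hK hC hgF hminF hdD h0D (CurveH0Lib.ell_sub_lt_of_gg hdim hA hgD) hdH h0H

end Groth.Agent.S16319
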