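import Groth.Statements.S16320
import Groth.Agent.CurveH0Lib.NineBridge
-- import your own Groth.Agent.* helpers here

set_option autoImplicit false
open CategoryTheory CategoryTheory.Limits AlgebraicGeometry
universe u
open Curves

namespace Groth.Agent.S16320

attribute [local instance] CurveDualLib.algFF

/-- Let k be an algebraically closed field of characteristic zero and X a smooth proper integral curve
over k (integral, proper and smooth over k, of dimension one) of genus 9 whose Clifford index is 3:
some invertible module M with h^0(M) ≥ 2 and h^1(M) ≥ 2 has deg M − 2(h^0(M) − 1) = 3, and every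
invertible module M with h^0(M) ≥ 2 and h^1(M) ≥ 2 has deg M − 2(h^0(M) − 1) ≥ 3 (degrees are χ(M) −
χ(O_X); in particular X is not hyperelliptic), and let D be a globally generated invertible module
of degree 5 with h^0(D) = 2 (a base-point-free complete g^1_5). Then h^0(D^{⊗2}) is 3 or 4,
h^0(D^{⊗3}) is 7 or 8, and h^0(D^{⊗3}) = 7 whenever h^0(D^{⊗2}) = 3. (The published statement says,
equivalently by Riemann–Roch applied to the numbers h^0(K − iD) − h^0(K − (i+1)D) for a canonical
module K, that the rational normal fourfold scroll formed by the linear spans of the pencil's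
divisors in the canonical embedding has type S(2,1,1,1), S(2,2,1,0) or S(3,1,1,0); the scroll itself
is not restated here.) -/
theorem result
    (k : Type u) [Field k] [IsAlgClosed k] [CharZero k]
    (X : Scheme.{u}) [X.Over (Spec (CommRingCat.of k))] [IsIntegral X]
    [IsProper (X ↘ Spec (CommRingCat.of k))] [Smooth (X ↘ Spec (CommRingCat.of k))]
    (hdim : topologicalKrullDim X = 1) (hg : Curv2.genus k X = 9)
    (hex : ∃ M : X.Modules, PicF.IsInvertible M ∧ 2 ≤ Module.finrank k (Coh.HH X M 0) ∧
      2 ≤ Module.finrank k (Coh.HH X M 1) ∧ Curv2.deg k X M 1 = 2 * (Module.finrank k (Coh.HH X M 0) : ℤ) + 1)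
    (hmin : ∀ M : X.Modules, PicF.IsInvertible M → 2 ≤ Module.finrank k (Coh.HH X M 0) →
      2 ≤ Module.finrank k (Coh.HH X M 1) → 2 * (Module.finrank k (Coh.HH X M 0) : ℤ) + 1 ≤ Curv2.deg k X M 1)
    (D : X.Modules) (hD : PicF.IsInvertible D) (hgD : Curv2.IsGloballyGenerated D)
    (hdD : Curv2.deg k X D 1 = 5) (h0D : Module.finrank k (Coh.HH X D 0) = 2) :
    (Module.finrank k (Coh.HH X (CohB1.tensorPow D 2) 0) = 3 ∨
        Module.finrank k (Coh.HH X (CohB1.tensorPow D 2) 0) = 4) ∧
      (Module.finrank k (Coh.HH X (CohB1.tensorPow D 3) 0) = 7 ∨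
        Module.finrank k (Coh.HH X (CohB1.tensorPow D 3) 0) = 8) ∧
      (Module.finrank k (Coh.HH X (CohB1.tensorPow D 2) 0) = 3 →
        Module.finrank k (Coh.HH X (CohB1.tensorPow D 3) 0) = 7) := by
  haveI : NeZero (2 : k) := ⟨two_ne_zero⟩
  have h0 := RRVanLib.finrank_h0_structure (k := k) (X := X)
  obtain ⟨C, hCd, hC⟩ := CurveH0Lib.LinStable.exists_canonical_hasDiv (k := k) hdim
  have hK := CurveDualLib.isFunctionField (k := k) (X := X) hdim
  have hgF : FunFld.genus k X.functionField = 9 := by rw [CurveDualLib.genus_eq (k := k) hdim]; exact hg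
  have hminF := CurveH0Lib.Nine.hmin_div hdim hC hmin
  obtain ⟨A, hA⟩ := ZetaCurveLib.exists_hasDiv (k := k) hdim hD
  rw [hA.deg hdim h0] at hdD
  rw [CurveH0Lib.LinStable.h0_eq_ell hdim hA] at h0D
  obtain ⟨O, hO⟩ := ZetaCurveLib.exists_module (k := k) hdim h0 (0 : FunFld.Divisor k X.functionField)
  have h1 : ZetaCurveLib.HasDiv (k := k) hdim (CohB1.tensorPow D 1) A :=
    hA.of_iso hdim (HilbPolyLib.unitLeft D).symm (HilbPolyLib.isInvertible_tensor CurvLib.isInvertible_structureModule hD)
  have h2 : ZetaCurveLib.HasDiv (k := k) hdim (CohB1.tensorPow D 2) (2 • A) := by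
    rw [two_nsmul]; exact h1.tensor hdim hA
  have h3 : ZetaCurveLib.HasDiv (k := k) hdim (CohB1.tensorPow D 3) (3 • A) := by
    rw [succ_nsmul]; exact h2.tensor hdim hA
  rw [CurveH0Lib.LinStable.h0_eq_ell hdim h2, CurveH0Lib.LinStable.h0_eq_ell hdim h3]
  exact CurveH0Lib.Nine.h0_multiples hK hC hgF hminF hdD h0D (CurveH0Lib.ell_sub_lt_of_gg hdim hA hgD)

end Groth.Agent.S16320
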