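import Groth.Statements.S16323
import Groth.Agent.GrSyzLib.LocalPD
import Groth.Agent.DepthLib.AB
import Groth.Agent.S5152
import Groth.Agent.TransLib.RelField

set_option autoImplicit false
universe u
open GrSyz

namespace Groth.Agent.S16323

/-- Let k be an algebraically closed field of characteristic zero, S = k[x_0, …, x_n] graded by degree,
𝔪 = (x_0, …, x_n), M a finitely generated ℤ-graded S-module and F a minimal graded free resolution
of M (finite-rank free modules with homogeneous bases, every matrix entry of every differential in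
𝔪) of length exactly ℓ: F_ℓ ≠ 0 and F_i = 0 for i > ℓ, so that ℓ is the projective dimension of M.
Then ℓ + depth(𝔪, M) = n + 1, where depth(𝔪, M) is the 𝔪-depth of M (supremum in ℕ∞ of the lengths
of M-regular sequences with terms in 𝔪). (The published statement is pd M = depth(𝔪, S) − depth(𝔪,
M) for a graded ring S with maximal ideal 𝔪 and a finitely generated module of finite projective
dimension; stated here, as the text then specialises it, for the polynomial ring, where depth(𝔪, S)
= n + 1 and the projective dimension is the length of a minimal graded free resolution.) -/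
theorem result (k : Type u) [Field k] [IsAlgClosed k] [CharZero k] (n : ℕ)
    (M : Type u) [AddCommGroup M] [Module k M] [Module (MvPolynomial (Fin (n + 1)) k) M]
    [IsScalarTower k (MvPolynomial (Fin (n + 1)) k) M] [Module.Finite (MvPolynomial (Fin (n + 1)) k) M]
    (ℳ : ℤ → Submodule k M) [DirectSum.Decomposition ℳ] [SetLike.GradedSMul (GrSyz.stdGr k (Fin (n + 1))) ℳ]
    (F : GrSyz.FreeRes (GrSyz.stdGr k (Fin (n + 1))) ℳ) (hF : F.IsMinimal (GrSyz.irrel (GrSyz.stdGr k (Fin (n + 1)))).toIdeal)
    (ℓ : ℕ) (hℓ : F.HasLengthLE ℓ) (hℓ' : F.rk ℓ ≠ 0) :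
    (ℓ : ℕ∞) + LocCoh.idealDepth (GrSyz.irrel (GrSyz.stdGr k (Fin (n + 1)))).toIdeal M = ((n + 1 : ℕ) : ℕ∞) := by
  let S := MvPolynomial (Fin (n + 1)) k
  let p : Ideal S := RingHom.ker (MvPolynomial.constantCoeff (R := k) (σ := Fin (n + 1)))
  let L := Localization.AtPrime p
  let N := LocalizedModule p.primeCompl M
  have hirr : (GrSyz.irrel (GrSyz.stdGr k (Fin (n + 1)))).toIdeal = p := by
    ext x
    rw [GrSyzLib.mem_irrel_iff, RingHom.mem_ker]
  haveI : Module.Finite L N := Module.Finite.of_isLocalizedModule p.primeCompl (LocalizedModule.mkLinearMap p.primeCompl M)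
  haveI : IsRegularLocalRing L := IsRegularRing.isRegularLocalRing_localization p
  have hdim : ringKrullDim L = ((n + 1 : ℕ) : WithBot ℕ∞) := by
    have h := TransLib.ringKrullDim_quotient_add_height_mvPolynomial k (n + 1) p
    letI := Ideal.Quotient.field p
    rw [ringKrullDim_eq_zero_of_field, zero_add] at h
    rw [IsLocalization.AtPrime.ringKrullDim_eq_height p L]
    exact h
  have hdepth : LocCoh.idealDepth p M = LocCoh.depth L N := by
    rw [Groth.Agent.S5152.result]
    refine le_antisymm (iInf₂_le (⟨p, inferInstance⟩ : PrimeSpectrum S) le_rfl) (le_iInf₂ fun q hq => ?_)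
    have : q = ⟨p, inferInstance⟩ := PrimeSpectrum.ext
      (Ideal.IsMaximal.eq_of_le (inferInstanceAs p.IsMaximal) q.isPrime.ne_top hq).symm
    subst this
    exact le_rfl
  haveI : Nontrivial N := GrSyzLib.nontrivial_loc F hF hℓ'
  have hpd : CommAlgDim.PDLT L N (ℓ + 1) :=
    ((GrSyzLib.hasLength_iff_pdlt F hF ℓ).1 hℓ).localization p.primeCompl (LocalizedModule.mkLinearMap p.primeCompl M)
  have hmin : ∀ t, CommAlgDim.PDLT L N (t + 1) → ℓ ≤ t := fun t ht => by
    by_contra hlt
    exact hℓ' (GrSyzLib.hasLengthLE_of_pdlt_loc F hF t ht ℓ (by omega))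
  have hle : ℓ ≤ n + 1 :=
    hmin (n + 1) ((DepthLib.le_depth_iff_pdlt L N hdim (n := 0) (Nat.zero_le _)).1 (by simp))
  have hge : ((n + 1 - ℓ : ℕ) : ℕ∞) ≤ LocCoh.depth L N :=
    (DepthLib.le_depth_iff_pdlt L N hdim (n := n + 1 - ℓ) (Nat.sub_le _ _)).2
      (by rwa [show n + 1 + 1 - (n + 1 - ℓ) = ℓ + 1 by omega])
  have hlt : ¬ ((n + 1 - ℓ + 1 : ℕ) : ℕ∞) ≤ LocCoh.depth L N := fun h => by
    rcases Nat.eq_zero_or_pos ℓ with rfl | hpos
    · exact not_subsingleton N (DepthLib.subsingleton_of_lt_depth L N hdim (by simpa using h))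
    · obtain ⟨t, rfl⟩ : ∃ t, ℓ = t + 1 := ⟨ℓ - 1, by omega⟩
      have := (DepthLib.le_depth_iff_pdlt L N hdim (n := n + 1 - (t + 1) + 1) (by omega)).1 h
      rw [show n + 1 + 1 - (n + 1 - (t + 1) + 1) = t + 1 by omega] at this
      have := hmin t this
      omega
  rw [hirr, hdepth]
  obtain ⟨d, hd⟩ : ∃ d : ℕ, LocCoh.depth L N = d := by
    refine ⟨_, (ENat.coe_toNat fun htop => hlt ?_).symm⟩
    rw [htop]
    exact le_top
  rw [hd] at hge hlt ⊢
  norm_cast at hge hlt ⊢
  omega

end Groth.Agent.S16323
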