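import Groth.Statements.S16324
import Groth.Agent.S16323
import Groth.Agent.S13215
import Groth.Agent.GrModLib.Hilbert
import Groth.Agent.GrModLib.RegStd

set_option autoImplicit false
universe u
open GrSyz

namespace Groth.Agent.S16324

/-- Let k be an algebraically closed field of characteristic zero, S = k[x_0, …, x_n] graded by degree,
𝔪 = (x_0, …, x_n), and M a finitely generated ℤ-graded S-module which is Cohen–Macaulay: the Krull
dimension of its support equals its 𝔪-depth. Let F be a minimal graded free resolution of M of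
length exactly ℓ (F_ℓ ≠ 0, F_i = 0 for i > ℓ; so ℓ = pd M) and let ρ be its regularity: every basis
vector of F_i has degree at most ρ + i, with equality for some i and some basis vector (so ρ = reg
M). Let P be the Hilbert polynomial of M, i.e. a polynomial over ℚ with dim_k M_d = P(d) for all
sufficiently large d. Then dim_k M_d ≠ P(d) for d = ρ + ℓ − n − 1: the bound d ≥ reg M + pd M − n
beyond which the Hilbert function agrees with the Hilbert polynomial is sharp for Cohen–Macaulay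
modules. (Part (1) of the published statement, the agreement for d ≥ reg M + pd M − n, follows from
the agreement for d at least the largest generator degree minus n and is not restated.) -/
theorem result (k : Type u) [Field k] [IsAlgClosed k] [CharZero k] (n : ℕ)
    (M : Type u) [AddCommGroup M] [Module k M] [Module (MvPolynomial (Fin (n + 1)) k) M]
    [IsScalarTower k (MvPolynomial (Fin (n + 1)) k) M] [Module.Finite (MvPolynomial (Fin (n + 1)) k) M]
    (ℳ : ℤ → Submodule k M) [DirectSum.Decomposition ℳ] [SetLike.GradedSMul (GrSyz.stdGr k (Fin (n + 1))) ℳ]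
    (hCM : Module.supportDim (MvPolynomial (Fin (n + 1)) k) M = ((LocCoh.idealDepth (GrSyz.irrel (GrSyz.stdGr k (Fin (n + 1)))).toIdeal M : ℕ∞) : WithBot ℕ∞))
    (F : GrSyz.FreeRes (GrSyz.stdGr k (Fin (n + 1))) ℳ) (hF : F.IsMinimal (GrSyz.irrel (GrSyz.stdGr k (Fin (n + 1)))).toIdeal)
    (ℓ : ℕ) (hℓ : F.HasLengthLE ℓ) (hℓ' : F.rk ℓ ≠ 0)
    (ρ : ℤ) (hρ : F.IsGenLE ρ) (hρ' : ∃ (i : ℕ) (b : Fin (F.rk i)), F.deg i b = ρ + i)
    (P : Polynomial ℚ) (hP : ∃ d₁ : ℤ, ∀ d : ℤ, d₁ ≤ d → ((Module.finrank k ↥(ℳ d) : ℤ) : ℚ) = P.eval (d : ℚ)) :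
    ((Module.finrank k ↥(ℳ (ρ + ℓ - n - 1)) : ℤ) : ℚ) ≠ P.eval ((ρ + ℓ - n - 1 : ℤ) : ℚ) := by
  classical
  let 𝒮 := GrModLib.toAdd (GrSyz.stdGr k (Fin (n + 1)))
  let a := GrModLib.stdIrrel k n
  have hpos := GrModLib.stdGr_hpos (k := k) (r := n)
  let N : GrLC.GMod.{u} 𝒮 := GrLC.GMod.of 𝒮 M (GrModLib.toAdd ℳ)
  haveI : Module.Finite (MvPolynomial (Fin (n + 1)) k) N.carrier := ‹_›
  let φ : k →+* GrLC.deg0 𝒮 := (algebraMap k (MvPolynomial (Fin (n + 1)) k)).codRestrict _ fun c =>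
    (GrSyz.mem_stdGr_iff k (Fin (n + 1)) 0 _).2 (by rw [MvPolynomial.algebraMap_eq]; exact MvPolynomial.isWeightedHomogeneous_C _ c)
  have hφ : Function.Surjective φ := fun x => by
    have h := GrSyzLib.decompose_zero k n x.1
    rw [DirectSum.decompose_of_mem_same (GrSyz.stdGr k (Fin (n + 1))) x.2] at h
    exact ⟨MvPolynomial.constantCoeff x.1, Subtype.ext h.symm⟩
  haveI : IsArtinianRing (GrLC.deg0 𝒮) := hφ.isArtinianRing
  letI : Algebra k (GrLC.deg0 𝒮) := φ.toAlgebra
  have hlen : ∀ d : ℤ, GrModLib.hf N d = (Module.finrank k (ℳ d) : ℚ) := by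
    intro d
    haveI : IsScalarTower k (GrLC.deg0 𝒮) M := ⟨fun c x m => by
      show ((φ c * x : GrLC.deg0 𝒮) : MvPolynomial (Fin (n + 1)) k) • m = c • ((x : MvPolynomial (Fin (n + 1)) k) • m)
      rw [Subring.coe_mul, mul_smul]
      exact algebraMap_smul _ c _⟩
    haveI : IsNoetherian (GrLC.deg0 𝒮) (GrLC.comp 𝒮 (GrModLib.toAdd ℳ) d) := GrModLib.isNoetherian_comp N d
    let e : GrLC.comp 𝒮 (GrModLib.toAdd ℳ) d ≃ₗ[k] ℳ d :=
      { toFun := fun m => ⟨(m : M), m.2⟩
        invFun := fun m => ⟨(m : M), m.2⟩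
        left_inv := fun m => rfl
        right_inv := fun m => rfl
        map_add' := fun x y => rfl
        map_smul' := fun c x => rfl }
    haveI : Module.Finite k (GrLC.deg0 𝒮) := Module.Finite.of_surjective (Algebra.linearMap k (GrLC.deg0 𝒮)) hφ
    haveI : Module.Finite k (GrLC.comp 𝒮 (GrModLib.toAdd ℳ) d) := Module.Finite.trans (GrLC.deg0 𝒮) _
    show GrModLib.qlen (K := GrLC.deg0 𝒮) (GrLC.comp 𝒮 (GrModLib.toAdd ℳ) d) = _
    rw [GrModLib.qlen, ← Module.length_eq_of_surjective (S := k) hφ, Module.length_eq_finrank,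
      ENat.toNat_natCast, e.finrank_eq]
  have hP' : ∃ n₀ : ℤ, ∀ d : ℤ, n₀ ≤ d → P.eval (d : ℚ) = GrModLib.hf N d := by
    obtain ⟨d₁, hd₁⟩ := hP
    refine ⟨d₁, fun d hd => ?_⟩
    rw [hlen, ← hd₁ d hd]
    push_cast
    rfl
  have hha : (GrModLib.posIdeal 𝒮).toIdeal ≤ a.toIdeal := by
    refine Ideal.span_le.2 fun x hx => ?_
    obtain ⟨m, hm, hxm⟩ := Set.mem_iUnion₂.1 hx
    exact Ideal.subset_span ⟨m, hm, hxm⟩
  have har : a.toIdeal ≤ (GrModLib.posIdeal 𝒮).toIdeal.radical := by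
    refine le_trans ?_ Ideal.le_radical
    refine Ideal.span_le.2 ?_
    rintro x ⟨m, hm, hxm⟩
    exact GrModLib.mem_posIdeal hm hxm
  obtain ⟨E⟩ : Nonempty (GrLC.StarInjRes 𝒮 N.gr) := Groth.Agent.S13215.result _ 𝒮 N.carrier N.gr
  have hdim : ringKrullDim (MvPolynomial (Fin (n + 1)) k) ≤ ((n + 1 : ℕ) : WithBot ℕ∞) := by
    rw [MvPolynomial.ringKrullDim_of_isNoetherianRing, ringKrullDim_eq_zero_of_field, zero_add,
      Nat.card_eq_fintype_card, Fintype.card_fin]
  have hAB := Groth.Agent.S16323.result k n M ℳ F hF ℓ hℓ hℓ'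
  obtain ⟨D, hD⟩ : ∃ D : ℕ, LocCoh.idealDepth (GrSyz.irrel (GrSyz.stdGr k (Fin (n + 1)))).toIdeal M = D := by
    refine ⟨_, (ENat.coe_toNat fun htop => ?_).symm⟩
    rw [htop, add_top] at hAB
    exact ENat.top_ne_coe _ hAB
  rw [hD] at hAB hCM
  norm_cast at hAB
  have hvan : ∀ i, i ≠ D → ∀ m, GrModLib.Van a N.gr i m := by
    intro i hi m
    refine GrModLib.van_of_subsingleton_H ?_ m
    rcases lt_or_gt_of_ne hi with h | h
    · exact (LocCohLib.le_idealDepth_iff_subsingleton_H (I := a.toIdeal) M D).1 (le_of_eq hD.symm) i h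
    · refine LocCohLib.subsingleton_H_of_supportDim_lt i M ?_
      refine lt_of_eq_of_lt hCM ?_
      exact_mod_cast h
  have hreg : GrModLib.RegLE a N.gr ρ := (GrModLib.isGenLE_iff_regLE k n ℳ F hF ρ).1 hρ
  have hnot : ¬ GrModLib.Van a N.gr D (ρ - D) := by
    intro hv
    obtain ⟨i, b, hb⟩ := hρ'
    have : F.IsGenLE (ρ - 1) := (GrModLib.isGenLE_iff_regLE k n ℳ F hF (ρ - 1)).2 fun j m hm => by
      by_cases hj : j = D
      · subst hj
        rcases lt_or_eq_of_le (show ρ ≤ (j : ℤ) + m by omega) with h | h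
        · exact hreg j m h
        · rwa [show m = ρ - (j : ℤ) by omega]
      · exact hvan j hj m
    have := this i b
    omega
  have key := GrModLib.hf_sub_eval_eq_chi hpos hha har hdim P N hP' E (ρ - D)
  rw [GrModLib.chi, Finset.sum_eq_single D
    (fun i _ hi => by rw [GrModLib.qlen_Hcomp_of_van (hvan i hi _) E, mul_zero])
    (fun h => absurd (Finset.mem_range.2 (by omega : D < n + 1 + 1)) h), hlen] at key
  rw [show ρ + (ℓ : ℤ) - (n : ℤ) - 1 = ρ - (D : ℤ) by omega]
  intro heq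
  push_cast at heq
  rw [heq] at key
  push_cast at key
  rw [sub_self] at key
  haveI := GrModLib.isNoetherian_Hcomp hpos a hha har N E D (ρ - D)
  have h0 := GrModLib.qlen_eq_zero ((mul_eq_zero.1 key.symm).resolve_left (pow_ne_zero _ (by norm_num)))
  exact hnot ((GrModLib.van_iff E D (ρ - D)).2 fun x hx => congrArg Subtype.val (h0.elim ⟨x, hx⟩ 0))

end Groth.Agent.S16324
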