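import Groth.Statements.S1633
import Groth.Agent.NagataFG.Main
import Groth.Agent.NagataFG.FiniteType
import Groth.Agent.NormalLib.CompletionReduced
import Groth.Agent.AlgSpLib.ReducedSmooth
import Groth.Agent.LocFFLib.Norm
import Mathlib

set_option backward.isDefEq.respectTransparency false

set_option autoImplicit false
universe u
open CategoryTheory CategoryTheory.Limits AlgebraicGeometry
open Resolve

namespace Groth.Agent.S1633

open scoped TensorProduct nonZeroDivisors in
/-- A finite type birational model of an etale algebra over an analytically unramified local ring has finite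
integral closure. -/
theorem finite_integralClosure_aux (A : Type u) [CommRing A] [IsLocalRing A] [IsNoetherianRing A]
    [_root_.IsReduced (AdicCompletion (IsLocalRing.maximalIdeal A) A)]
    (B₀ : Type u) [CommRing B₀] [Algebra A B₀] [Algebra.Etale A B₀]
    (B : Type u) [CommRing B] [IsDomain B] [Algebra A B] [Algebra.FiniteType A B]
    (L : Type u) [Field L] [Algebra A L] [Algebra B L] [IsFractionRing B L] [IsScalarTower A B L]
    [Algebra B₀ L] [IsScalarTower A B₀ L] [IsLocalization B₀⁰ L] :
    Module.Finite B (integralClosure B L) := by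
  let H := AdicCompletion (IsLocalRing.maximalIdeal A) A
  obtain ⟨hHn, hff, hN, -, -⟩ := NormalLib.completion_props A
  have : IsNoetherianRing B := Algebra.FiniteType.isNoetherianRing A B
  have : _root_.IsReduced (H ⊗[A] B₀) := AlgSpLib.isReduced_of_etale H (H ⊗[A] B₀)
  have h1 : _root_.IsReduced (L ⊗[A] H) := by
    have : _root_.IsReduced (B₀ ⊗[A] H) := isReduced_of_injective
      (Algebra.TensorProduct.comm A B₀ H) (AlgEquiv.injective _)
    let C := B₀ ⊗[A] H
    have : _root_.IsReduced (L ⊗[B₀] C) := by
      let _ := Algebra.TensorProduct.rightAlgebra (R := B₀) (A := L) (B := C)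
      have := IsLocalization.tensorRight (S := C) L B₀⁰
      exact isReduced_localizationPreserves (Algebra.algebraMapSubmonoid C B₀⁰) (L ⊗[B₀] C) inferInstance
    exact isReduced_of_injective (Algebra.TensorProduct.cancelBaseChange A B₀ B₀ L H).toRingEquiv.symm
      (RingEquiv.injective _)
  have : Module.FaithfullyFlat A H := hff
  have hN' : CAlg.IsNagata (B ⊗[A] H) := NagataFG.isNagata_of_surjective
    (Algebra.TensorProduct.comm A H B).toRingEquiv.toRingHom
    (Algebra.TensorProduct.comm A H B).surjective
    (NagataFG.isNagata_of_finiteType H hN (H ⊗[A] B))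
  have : _root_.IsReduced ((B ⊗[A] H) ⊗[B] L) := by
    refine isReduced_of_injective ((Algebra.TensorProduct.comm B (B ⊗[A] H) L).toRingEquiv.trans
      (Algebra.TensorProduct.cancelBaseChange A B B L H).toRingEquiv) (RingEquiv.injective _)
  exact NormalLib.finite_integralClosure_of_isReduced_tensor (B := B ⊗[A] H) hN' (K := L)

/-- Let (A, m) be a Noetherian local ring whose m-adic completion is reduced, and X an integral scheme
locally of finite type over Spec A such that some open neighbourhood of the generic point of X is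
étale over Spec A. Then the normalization morphism of X is finite. -/
theorem result (A : Type u) [CommRing A] [IsLocalRing A] [IsNoetherianRing A]
    [IsReduced (AdicCompletion (IsLocalRing.maximalIdeal A) A)]
    (X : Scheme.{u}) [IsIntegral X] (f : X ⟶ Spec (CommRingCat.of A)) [LocallyOfFiniteType f]
    (U : X.Opens) (hU : genericPoint X ∈ U) [Etale (U.ι ≫ f)]
    [QuasiCompact (X.fromSpecStalk (genericPoint X))] [QuasiSeparated (X.fromSpecStalk (genericPoint X))] :
    IsFinite (Curv2.normalizationι X) := by
  have hint : IsIntegralHom (Curv2.normalizationι X) := inferInstance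
  obtain ⟨-, ⟨V', hV', rfl⟩, hηV, hVU'⟩ := X.isBasis_affineOpens.exists_subset_of_mem_open hU U.2
  let V : X.Opens := V'
  have hV : IsAffineOpen V := hV'
  have hVU : V ≤ U := hVU'
  have hneV : Nonempty ↥V := ⟨⟨_, hηV⟩⟩
  have hneV' : Nonempty (V : Scheme.{u}) := hneV
  have hetV : Etale (V.ι ≫ f) := by
    have e : X.homOfLE hVU ≫ U.ι ≫ f = V.ι ≫ f := by rw [Scheme.homOfLE_ι_assoc]
    rw [← e]; infer_instance
  let ρ : ∀ W : X.Opens, A →+* Γ(X, W) := fun W =>
    ((Scheme.ΓSpecIso (CommRingCat.of A)).inv ≫ f.appLE ⊤ W (by simp)).hom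
  haveI : IsFractionRing Γ(X, V) X.functionField := functionField_isFractionRing_of_isAffineOpen X _ hV
  refine (isFinite_iff _).2 ⟨inferInstance, fun W hW => ?_⟩
  by_cases hne : Nonempty W
  · obtain ⟨ψ, hψ, hψa, -, hint'⟩ := NormDimOneLib.exists_chart X ⟨W, hW⟩
    haveI : IsFractionRing Γ(X, W) X.functionField := functionField_isFractionRing_of_isAffineOpen X _ hW
    letI := (ρ W).toAlgebra
    letI := (ρ V).toAlgebra
    letI : Algebra A X.functionField :=
      ((algebraMap Γ(X, W) X.functionField).comp (ρ W)).toAlgebra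
    haveI : IsScalarTower A Γ(X, W) X.functionField := IsScalarTower.of_algebraMap_eq' rfl
    haveI : IsScalarTower A Γ(X, V) X.functionField := IsScalarTower.of_algebraMap_eq fun a => by
      refine Eq.trans ?_ ?_ (b := (X.presheaf.germ ⊤ (genericPoint X) trivial).hom
        ((f.appTop).hom ((Scheme.ΓSpecIso (CommRingCat.of A)).inv.hom a)))
      · show (X.presheaf.germ W (genericPoint X) _).hom ((X.presheaf.map _).hom _) = _
        exact X.presheaf.germ_res_apply _ _ _ _
      · exact (X.presheaf.germ_res_apply _ _ _ _).symm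
    haveI : Algebra.Etale A Γ(X, V) := by
      rw [← RingHom.etale_algebraMap, RingHom.algebraMap_toAlgebra]
      have h1 := HasRingHomProperty.appLE @Etale (V.ι ≫ f)
        hetV ⟨⊤, isAffineOpen_top _⟩ ⟨⊤, @isAffineOpen_top _ hV⟩ (by simp)
      rw [← Scheme.Hom.appLE_comp_appLE V.ι f ⊤ V ⊤ (by simp) (by simp)] at h1
      have h2 : (f.appLE ⊤ V (by simp)) = (f.appLE ⊤ V (by simp) ≫ V.ι.appLE V ⊤ (by simp)) ≫ V.topIso.hom := by
        rw [Category.assoc, Scheme.Opens.ι_appLE, Scheme.Opens.topIso_hom, ← X.presheaf.map_comp]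
        simp
      have h3 := RingHom.Etale.respectsIso.cancel_right_isIso _ V.topIso.hom |>.2 h1
      rw [← CommRingCat.hom_comp, ← h2] at h3
      exact RingHom.Etale.respectsIso.cancel_left_isIso (Scheme.ΓSpecIso (CommRingCat.of A)).inv _ |>.2 h3
    haveI : Algebra.FiniteType A Γ(X, W) := by
      rw [← RingHom.finiteType_algebraMap, RingHom.algebraMap_toAlgebra]
      have h1 := HasRingHomProperty.appLE @LocallyOfFiniteType f inferInstance ⟨⊤, isAffineOpen_top _⟩ ⟨W, hW⟩
        (by simp)
      exact h1.comp (RingHom.FiniteType.of_surjective _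
        (Scheme.ΓSpecIso (CommRingCat.of A)).commRingCatIsoToRingEquiv.symm.surjective)
    haveI hfin : Module.Finite Γ(X, W) (integralClosure Γ(X, W) X.functionField) :=
      finite_integralClosure_aux A Γ(X, V) Γ(X, W) X.functionField
    letI := ((Curv2.normalizationι X).app W).hom.toAlgebra
    letI := ψ.toAlgebra
    haveI : IsScalarTower Γ(X, W) Γ(Curv2.normalization X, Curv2.normalizationι X ⁻¹ᵁ W) X.functionField :=
      IsScalarTower.of_algebraMap_eq fun a => (hψa a).symm
    let φ := (IsScalarTower.toAlgHom Γ(X, W) Γ(Curv2.normalization X, Curv2.normalizationι X ⁻¹ᵁ W)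
      X.functionField).codRestrict (integralClosure Γ(X, W) X.functionField) fun b =>
        (show _root_.IsIntegral Γ(X, W) b from (Curv2.normalizationι X).isIntegral_app W hW b).algebraMap
    exact Module.Finite.equiv (LinearEquiv.ofBijective φ.toLinearMap
      ⟨fun a b h => hψ (congrArg Subtype.val h), fun z => by
        obtain ⟨b, hb⟩ := hint' z.1 z.2
        exact ⟨b, Subtype.ext hb⟩⟩).symm
  · have : IsEmpty (Curv2.normalizationι X ⁻¹ᵁ W : (Curv2.normalization X).Opens) :=
      ⟨fun q => hne ⟨⟨_, q.2⟩⟩⟩
    haveI : Subsingleton Γ(Curv2.normalization X, Curv2.normalizationι X ⁻¹ᵁ W) := by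
      constructor
      intro a b
      exact TopCat.Sheaf.eq_of_locally_eq' (Curv2.normalization X).sheaf (fun i : Empty => i.elim) _
        (fun i => i.elim) (fun q hq => (this.false ⟨q, hq⟩).elim) a b fun i => i.elim
    exact RingHom.Finite.of_surjective _ fun b => ⟨0, Subsingleton.elim _ _⟩

end Groth.Agent.S1633
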