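import Groth.Statements.S16330
import Groth.Agent.FreeCplxLib.Basic
-- import your own Groth.Agent.* helpers here

set_option autoImplicit false
universe v
open CategoryTheory
open W4c3biextchow

namespace Groth.Agent.S16330

private theorem proj_int {M : Type*} [AddCommGroup M] {m₁ m₂ : Module ℤ M}
    (h : @Module.Free ℤ M _ _ m₁) : @Module.Projective ℤ _ M _ m₂ := by
  obtain rfl : m₁ = m₂ := Subsingleton.elim _ _
  exact Module.Projective.of_free

/-- Let f : A' ⟶ A be a chain map of ℕ-indexed chain complexes of free abelian groups which is injective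
in every degree, whose degreewise quotients A_q / f(A'_q) are free abelian groups, and which is a
quasi-isomorphism. Then any two chain maps g₁, g₂ : A ⟶ A' with f ≫ g₁ = f ≫ g₂ = 𝟙 differ by a
null-homotopic map: there is a chain homotopy between g₁ and g₂ all of whose components vanish on
the image of f (so g₁ - g₂ factors through the quotient complex A / A', and the homotopy does too).
(The source allows complexes indexed by all integers; stated here for complexes in non-negative
degrees.) -/
theorem result
    (A' A : ChainComplex (ModuleCat.{v} ℤ) ℕ) (f : A' ⟶ A)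
    [∀ q, Module.Free ℤ (A'.X q)] [∀ q, Module.Free ℤ (A.X q)]
    (hf : ∀ q, Function.Injective (f.f q).hom)
    (hq : ∀ q, Module.Free ℤ ((A.X q) ⧸ LinearMap.range (f.f q).hom)) [QuasiIso f]
    (g₁ g₂ : A ⟶ A') (h₁ : f ≫ g₁ = 𝟙 A') (h₂ : f ≫ g₂ = 𝟙 A') :
    ∃ H : Homotopy g₁ g₂, ∀ i j : ℕ, f.f i ≫ H.hom i j = 0 := by
  obtain ⟨g, Hr, hg, hH⟩ := FreeCplxLib.exists_retraction f hf (fun q => proj_int (hq q))
  have e1 : (g₁ - g₂) = 𝟙 A ≫ (g₁ - g₂) := (Category.id_comp _).symm
  have e2 : (g ≫ f) ≫ (g₁ - g₂) = 0 := by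
    rw [Category.assoc, Preadditive.comp_sub, h₁, h₂, sub_self, Limits.comp_zero]
  refine ⟨Homotopy.equivSubZero.symm (((Homotopy.ofEq e1).trans (Hr.compRight (g₁ - g₂)).symm).trans (Homotopy.ofEq e2)),
    fun i j => ?_⟩
  simp [Homotopy.equivSubZero, Preadditive.comp_sub, Preadditive.comp_neg, reassoc_of% (hH i j)]

end Groth.Agent.S16330
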