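import Groth.Statements.S16334
import Groth.Agent.AlgEqFamLib.Alg
import Groth.Agent.S4277
import Groth.Agent.AlbLib.AlgClosed
-- import your own Groth.Agent.* helpers here

set_option autoImplicit false
universe u
open CategoryTheory CategoryTheory.Limits AlgebraicGeometry
open Pic13

namespace Groth.Agent.S16334

/-- Let k be an algebraically closed field, X an integral smooth projective scheme over k and L an
invertible O_X-module which is numerically equivalent to zero (degree 0 on every closed subscheme of
X that is integral of dimension one). Then the class of L is the sum of an algebraically trivial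
class and a torsion class: there are invertible O_X-modules E and T with E algebraically equivalent
to zero, some positive tensor power of T isomorphic to O_X, and L ≅ E ⊗ T. -/
theorem result (k : Type u) [Field k] [IsAlgClosed k]
    (X : Scheme.{u}) [X.Over (Spec (CommRingCat.of k))] [IsIntegral X]
    [Smooth (X ↘ Spec (CommRingCat.of k))] [IsProper (X ↘ Spec (CommRingCat.of k))]
    (hproj : Neron.IsProjectiveOver k (Over.mk (X ↘ Spec (CommRingCat.of k))))
    (L : X.Modules) (hL : PicF.IsInvertible L) (hnum : Pic13.IsNumEquivZero k X L) :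
    ∃ (E T : X.Modules), PicF.IsInvertible E ∧ PicF.IsInvertible T ∧ Pic13.IsAlgEquivZero k X E ∧
      (∃ m : ℕ, 0 < m ∧ Nonempty (CohB1.tensorPow T m ≅ Coh.structureModule X)) ∧
      Nonempty (L ≅ CohB1.tensorMod E T) := by
  let V : Over (Spec (CommRingCat.of k)) := Over.mk (X ↘ Spec (CommRingCat.of k))
  haveI : Smooth V.hom := inferInstanceAs (Smooth (X ↘ Spec (CommRingCat.of k)))
  haveI : IsProper V.hom := inferInstanceAs (IsProper (X ↘ Spec (CommRingCat.of k)))
  haveI : GeometricallyIntegral V.hom :=
    by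
    haveI : LocallyOfFiniteType V.hom := inferInstanceAs (LocallyOfFiniteType (X ↘ Spec (CommRingCat.of k)))
    haveI : IsIntegral V.left := inferInstanceAs (IsIntegral X)
    exact AlbLib.geometricallyIntegral_of_isIntegral V
  obtain ⟨m, hm, hLm⟩ := Groth.Agent.S4277.result k X L hL hnum
  obtain ⟨e, he, h⟩ := (AlgEqFam.inFam_of_algEquiv (W := V) (AmpleThLib.tensorPow_isInvertible hL m) hLm).exists_root hm
  obtain ⟨E, hE, hEe⟩ : e ∈ SquareLib.Inv V.left := by
    obtain ⟨J, gJ, hp, hg, M, hM, x, y, hne⟩ := he
    rw [hne]; exact sub_mem (SquareLib.pb_mem _ hM) (SquareLib.pb_mem _ hM)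
  obtain ⟨P, hP, hPe⟩ : -e ∈ SquareLib.Inv V.left := by
    obtain ⟨J, gJ, hp, hg, M, hM, x, y, hne⟩ := he.neg
    rw [hne]; exact sub_mem (SquareLib.pb_mem _ hM) (SquareLib.pb_mem _ hM)
  have hT := HilbPolyLib.isInvertible_tensor hL hP
  refine ⟨E, CohB1.tensorMod L P, hE, hT, AlgEqFam.algEquiv_of_inFam (W := V) hE (hEe ▸ he), ⟨m, hm, ?_⟩, ?_⟩
  · rw [← CubeConsLib.clA_eq_iff (AmpleThLib.tensorPow_isInvertible hT m) (CubeConsLib.isInvertible_one _),
      CubeConsLib.clA_pow hT, CubeConsLib.clA_tensor hL hP, CubeConsLib.clA_one, smul_add, ← CubeConsLib.clA_pow hL]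
    rw [show CubeConsLib.clA hP = -e from hPe, smul_neg, ← h]
    exact add_neg_cancel _
  · rw [← CubeConsLib.clA_eq_iff hL (HilbPolyLib.isInvertible_tensor hE hT), CubeConsLib.clA_tensor hE hT,
      CubeConsLib.clA_tensor hL hP, show CubeConsLib.clA hP = -e from hPe, show CubeConsLib.clA hE = e from hEe]
    abel

end Groth.Agent.S16334
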