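import Groth.Statements.S16337
import Mathlib.Algebra.BigOperators.GroupWithZero.Action
import Mathlib.Algebra.Module.LinearMap.End

set_option autoImplicit false
universe u v w
open InvTh

namespace Groth.Agent.S16337

/-- Let `A` be a commutative ring, `Γ` a finite group whose order is invertible in `A`, `M` an
`A`-module with an `A`-linear action of `Γ`, and `I` an ideal of `A`. Then reduction modulo `I`
induces a bijection `M^Γ / I·M^Γ ≅ (M / IM)^Γ`: (a) an element of `M` fixed by `Γ` modulo `IM` is
congruent modulo `IM` to a `Γ`-fixed element, and (b) a `Γ`-fixed element lying in `IM` lies in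
`I·M^Γ`, where `M^Γ` is the submodule of `Γ`-fixed elements. (The published lemma says that
push-forward to the coarse space of a tame stack over a complete local base commutes with reduction
modulo powers of the maximal ideal; this row is the module statement its proof establishes, for an
arbitrary ideal.) -/
theorem result
    (A : Type u) [CommRing A] (Γ : Type v) [Group Γ] [Finite Γ] (hΓ : IsUnit (Nat.card Γ : A))
    (M : Type w) [AddCommGroup M] [Module A M] [DistribMulAction Γ M] [SMulCommClass Γ A M]
    (I : Ideal A) :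
    (∀ x : M, (∀ γ : Γ, γ • x - x ∈ I • (⊤ : Submodule A M)) →
        ∃ y : M, (∀ γ : Γ, γ • y = y) ∧ x - y ∈ I • (⊤ : Submodule A M)) ∧
      ∀ y : M, (∀ γ : Γ, γ • y = y) → y ∈ I • (⊤ : Submodule A M) →
        y ∈ I • Submodule.span A {m : M | ∀ γ : Γ, γ • m = m} := by
  have := Fintype.ofFinite Γ
  obtain ⟨u, hu⟩ := hΓ
  let E : M →ₗ[A] M := (u⁻¹ : Aˣ).val • ∑ γ : Γ, DistribSMul.toLinearMap A M γ
  have hE : ∀ m, E m = (u⁻¹ : Aˣ).val • ∑ γ : Γ, γ • m := fun m => by simp only [E, LinearMap.smul_apply, LinearMap.sum_apply]; rfl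
  have hfix : ∀ m (δ : Γ), δ • E m = E m := fun m δ => by
    rw [hE, smul_comm, Finset.smul_sum]
    congr 1
    exact Fintype.sum_equiv (Equiv.mulLeft δ) _ _ fun γ => (mul_smul δ γ m).symm
  have hid : ∀ m, (∀ γ : Γ, γ • m = m) → E m = m := fun m hm => by
    simp only [hE, hm, Finset.sum_const, Finset.card_univ]
    rw [← Nat.cast_smul_eq_nsmul A, smul_smul, ← Nat.card_eq_fintype_card, ← hu, Units.inv_mul, one_smul]
  constructor
  · intro x hx
    refine ⟨E x, hfix x, ?_⟩
    have hx' : x - E x = -((u⁻¹ : Aˣ).val • ∑ γ : Γ, (γ • x - x)) := by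
      rw [Finset.sum_sub_distrib, Finset.sum_const, Finset.card_univ, ← Nat.cast_smul_eq_nsmul A,
        smul_sub, smul_smul, ← Nat.card_eq_fintype_card, ← hu, Units.inv_mul, one_smul, hE, neg_sub]
    rw [hx']
    exact Submodule.neg_mem _ (Submodule.smul_mem _ _ (Submodule.sum_mem _ fun γ _ => hx γ))
  · intro y hy hyI
    rw [← hid y hy]
    have h1 : E y ∈ Submodule.map E (I • ⊤) := Submodule.mem_map_of_mem hyI
    rw [Submodule.map_smul''] at h1
    refine Submodule.smul_mono le_rfl ?_ h1
    rintro _ ⟨m, -, rfl⟩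
    exact Submodule.subset_span (hfix m)

end Groth.Agent.S16337
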