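import Groth.Statements.S16339
import Groth.Agent.AlgStSetoidLib.Geom
import Groth.Agent.S10543

set_option autoImplicit false
set_option linter.all false
set_option backward.isDefEq.respectTransparency false
set_option backward.isDefEq.respectTransparency.types false
universe u
open AlgebraicGeometry
open CategoryTheory
open AlgSt

namespace Groth.Agent.S16339

/-- Let `S` be a scheme and `g : 𝒢 → ℱ` a functor over `(Sch/S)` between Deligne–Mumford stacks (fppf
topology). Suppose that for every algebraically closed field `k` and every object `ξ` of `𝒢` lying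
over `Spec k → S`, the homomorphism `Aut(ξ) → Aut(g(ξ))` of automorphism groups over the identity is
injective, stated here as: every endomorphism `a` of `ξ` over the identity of `Spec k` with `g(a) =
𝟙` is `𝟙` (such `a` are automorphisms, the fibres being groupoids). Then `g` is representable by
algebraic spaces. (The published statement is the equivalence of the two conditions. The converse
implication — a functor representable by algebraic spaces is injective on automorphism groups over
identities — holds for every morphism of algebraic stacks and every object, and is not part of this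
row. The published statement works under the convention that Deligne–Mumford stacks have isomorphism
spaces of finite type and separated over a Noetherian base; this row assumes only that both stacks
are Deligne–Mumford.) -/
theorem result
    (S : AlgebraicGeometry.Scheme.{u}) (𝒢 ℱ : AlgSt.Cat S)
    (h𝒢 : AlgSt.IsDM AlgebraicGeometry.Scheme.fppfPrecoverage 𝒢)
    (hℱ : AlgSt.IsDM AlgebraicGeometry.Scheme.fppfPrecoverage ℱ)
    (g : 𝒢 ⥤ᵇ ℱ)
    (hinj : ∀ (k : Type u) [Field k] [IsAlgClosed k] (s : AlgebraicGeometry.Spec (CommRingCat.of k) ⟶ S)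
        (ξ : 𝒢.obj) (hξ : 𝒢.p.obj ξ = Over.mk s) (a : ξ ⟶ ξ),
        𝒢.p.IsHomLift (𝟙 (𝒢.p.obj ξ)) a → g.map a = 𝟙 (g.obj ξ) → a = 𝟙 ξ) :
    AlgSt.RepByAlgSp1 g := by
  haveI := h𝒢.1.isStack.1
  haveI := hℱ.1.isStack.1
  obtain ⟨U, x, hx, hxs⟩ := h𝒢.2
  haveI := AlgStBig.isFibGrpd_overCat U
  have m : ∀ (Q : MorphismProperty Scheme.{u}), (@Etale : MorphismProperty Scheme.{u}) ≤ Q →
      AlgSt.RepByAlgSpWith (AlgSp.LocP Q) x := fun Q hQ =>
    AlgStBig.repByAlgSpWith_mono (fun _ _ a _ _ ha =>
      AlgSpLib.locP_mono hQ (AlgSpLib.locP_etale_of_isEtaleMor ha)) hx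
  have hO : AlgSt.IsDMMor (FibCat.toSelf 𝒢) :=
    AlgStBig.repByAlgSpWith_diag_toSelf_of_cover AlgStBig.good_unramified.bc
      (AlgStBig.isLocalOnBase_fppf_of_fpqc (Groth.Agent.S10543.result S))
      (fun _ _ _ h₁ h₂ h₃ _ _ hab => AlgStBig.cancel_unramified h₁ h₂ h₃ hab) h𝒢.1.diag
      (AlgStBig.repByAlgSp_overCat U) x
      (m _ fun _ _ f hf => by haveI : Etale f := hf; exact (inferInstance : Flat f))
      (m _ fun _ _ f hf => by haveI : Etale f := hf; exact (inferInstance : LocallyOfFinitePresentation f))
      hxs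
      (m _ fun _ _ f hf => by
        haveI : Etale f := hf
        exact ⟨(inferInstance : LocallyOfFiniteType f), (inferInstance : FormallyUnramified f)⟩)
  have hOrep : AlgSt.RepByAlgSp1 (FibCat.diag (FibCat.toSelf ℱ)) := hℱ.1.diag
  have hg : AlgSt.IsDMMor g := AlgStBig.repByAlgSpWith_diag_of_comp AlgStBig.good_unramified.bc (Q := ⊤)
    (AlgStBig.repByAlgSpWith_diag_congr (FibLib.compToSelfIso g) hO)
    ((AlgStBig.repByAlgSp1_iff_with_top _).mp hOrep)
    (fun _ _ _ h₁ h₂ h₃ _ _ hab _ => AlgStBig.cancel_unramified h₁ h₂ h₃ hab)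
  refine (AlgStSetoidLib.repByAlgSp1_iff_faithful h𝒢.1 hℱ.1 g).mpr
    (AlgStSetoidLib.faithful_of_isDMMor_of_geom_kerTriv h𝒢.1 hℱ.1 g hg fun k _ _ s ξ hξ a ha hga => ?_)
  refine hinj k s ξ hξ a ?_ hga
  rw [← ha]
  infer_instance

end Groth.Agent.S16339
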