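import Groth.Statements.S16340
import Mathlib
import Groth.Agent.StabLib.Filt
-- import your own Groth.Agent.* helpers here

set_option autoImplicit false
open CategoryTheory CategoryTheory.Limits AlgebraicGeometry Polynomial
universe u
open ShStab

namespace Groth.Agent.S16340

/-- Let X be a scheme proper over a field k carrying an ample invertible sheaf L, Hilbert polynomials
being taken with respect to L, and let ι : E → E' be a monomorphism of coherent O_X-modules with
Hilbert polynomials P_E and P_E'. Then P_E(m) ≤ P_E'(m) for all large m; and if the cokernel of ι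
has support of topological Krull dimension less than d (for example, if the cokernel is zero), then
the multiplicities in dimension d agree: α_d(P_E) = α_d(P_E'), where α_d(P) is d! times the
coefficient of degree d. (The published statement is the case where E' is the saturation of E inside
a coherent sheaf of dimension d, over an algebraically closed field; the argument is unchanged for
any field.) -/
theorem result (k : Type u) [Field k] (X : Scheme.{u})
    [X.Over (Spec (CommRingCat.of k))] [IsProper (X ↘ Spec (CommRingCat.of k))]
    (L : X.Modules) (hL : CohB1.IsAmple L) (d : ℕ) (E E' : X.Modules)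
    (hE : Coh.IsCoh E) (hE' : Coh.IsCoh E') (ι : E ⟶ E') [Mono ι]
    (pE pE' : ℚ[X]) (hpE : ShStab.IsHilbPoly k X L E pE) (hpE' : ShStab.IsHilbPoly k X L E' pE') :
    StabCat.PolyLE pE pE' ∧
      (topologicalKrullDim (CohB1.support (cokernel ι)) < (d : WithBot ℕ∞) →
        StabCat.alpha d pE = StabCat.alpha d pE') := by
  haveI := CurvLib.isNoetherian k (X := X)
  have hC := QCohLib.isCoh_cokernel ι hE.1 hE'
  have e := StabLib.hPoly_coker (k := k) hL ι hE hE'
  rw [StabLib.hPoly_eq hL hE hpE, StabLib.hPoly_eq hL hE' hpE'] at e
  refine ⟨StabLib.polyLE_iff.mpr ?_, fun hlt => ?_⟩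
  · rw [e, add_sub_cancel_left]
    exact StabLib.hPoly_nn hL hC
  · obtain ⟨P, hP, hP'⟩ := HilbPolyLib.exists_isHilbPoly (k := k) hL.1 hC hlt
    rw [e, StabLib.alpha_add, StabLib.hPoly_eq hL hC hP', StabCat.alpha, StabCat.alpha,
      Polynomial.coeff_eq_zero_of_degree_lt hP, mul_zero, add_zero]

end Groth.Agent.S16340
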