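import Groth.Statements.S16345
import Groth.Agent.LichtLib.Conn
import Groth.Agent.CurveVBLib.Integral
import Groth.Agent.FibDimLib.Smooth
import Groth.Agent.FibDimLib.Semicont

set_option autoImplicit false
universe u
open KatoHom

namespace Groth.Agent.S16345

open AlgebraicGeometry CategoryTheory in
/-- Let X be a connected scheme, proper and smooth of relative dimension d ≥ 2 over a field L, and let D
⊆ X be a closed subscheme, smooth of relative dimension d − 1 over L (a smooth divisor), whose
complement in X is an affine open subset. Then D is connected (in particular non-empty). -/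
theorem result
    {L : Type u} [Field L] {X D : Scheme.{u}} (f : X ⟶ Spec (CommRingCat.of L)) (i : D ⟶ X)
    [IsProper f] (d : ℕ) (hd : 1 < d) [SmoothOfRelativeDimension d f]
    [IsClosedImmersion i] [SmoothOfRelativeDimension (d - 1) (i ≫ f)]
    [ConnectedSpace X] (U : X.Opens) (hU : IsAffineOpen U)
    (hDU : Set.range i.base = (U : Set X)ᶜ) : ConnectedSpace D := by
  letI : X.Over (Spec (CommRingCat.of L)) := ⟨f⟩
  haveI : Smooth f := SmoothOfRelativeDimension.smooth d f
  haveI : Smooth (X ↘ Spec (CommRingCat.of L)) := ‹Smooth f›
  haveI : IsLocallyNoetherian X := LocallyOfFiniteType.isLocallyNoetherian f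
  haveI : CompactSpace X := QuasiCompact.compactSpace_of_compactSpace f
  haveI : AlgebraicGeometry.IsNoetherian X := {}
  haveI : ∀ x : X, IsDomain (X.presheaf.stalk x) := fun x =>
    haveI := CurveVBLib.regular_stalk (k := L) x
    CommAlgDim.isDomain_of_isRegularLocalRing _
  haveI := CurveVBLib.isIntegral_of_connected (X := X)
  obtain ⟨x⟩ : Nonempty X := inferInstance
  have hdim : (2 : WithBot ℕ∞) ≤ topologicalKrullDim X := by
    haveI : Subsingleton (Spec (CommRingCat.of L)) := inferInstanceAs (Subsingleton (PrimeSpectrum L))
    have h1 := FibDimLib.fibreDimAt_smoothOfRelativeDimension d f x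
    have h2 := FibDimLib.fibreDimAt_le_fiber (f := f) x
    rw [h1, IsHomeomorph.topologicalKrullDim_eq _ (((f.fiberHomeo (f.base x)).trans
      (Homeomorph.setCongr (Set.eq_univ_of_forall fun _ => Subsingleton.elim _ _))).trans
        (Homeomorph.Set.univ _)).isHomeomorph] at h2
    exact le_trans (by exact_mod_cast hd) h2
  have hc := LichtLib.isConnected_compl' f hdim U hU
  rw [← hDU, ← Set.image_univ] at hc
  rw [connectedSpace_iff_univ]
  exact ⟨Set.image_nonempty.1 hc.1, i.isClosedEmbedding.isInducing.isPreconnected_image.1 hc.2⟩

end Groth.Agent.S16345
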