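import Groth.Statements.S16352
import Groth.Agent.CubicPolarLib.Basic

set_option autoImplicit false
universe u
open Cubic

namespace Groth.Agent.S16352

/-- Let K be an algebraically closed field of characteristic zero and S = V(F) ⊂ P^3_K a cubic surface
which is irreducible and not a cone (no nonzero vector v has Σ_i v_i ∂F/∂x_i = 0). Let a be a smooth
point of S which is not a T-point: with ℓ = Σ_i ∂F/∂x_i(a) · x_i the (nonzero) linear form of the
tangent plane T_a S, F is not congruent modulo ℓ to a product of three linear forms (i.e. T_a S ∩ S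
is not set-theoretically a union of lines). Let P = Σ_i a_i ∂F/∂x_i be the first polar of a. Then
V(P) ∩ T_a S is a union of at most two lines through a, and every line through a lying on S lies in
V(P) ∩ T_a S; lines are 2-dimensional subspaces of K^4 and T_a S is the 3-dimensional subspace where
ℓ vanishes. -/
theorem result (K : Type u) [Field K] [IsAlgClosed K] [CharZero K]
    (F : MvPolynomial (Fin 4) K) (hF : F.IsHomogeneous 3) (hirr : Irreducible F)
    (hcone : ¬ ∃ v : Fin 4 → K, v ≠ 0 ∧ ∑ i : Fin 4, v i • MvPolynomial.pderiv i F = 0)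
    (a : Fin 4 → K) (ha : a ≠ 0) (hFa : MvPolynomial.eval a F = 0)
    (hsm : ∃ i : Fin 4, MvPolynomial.eval a (MvPolynomial.pderiv i F) ≠ 0)
    (ℓ : MvPolynomial (Fin 4) K)
    (hℓ : ℓ = ∑ i : Fin 4, MvPolynomial.C (MvPolynomial.eval a (MvPolynomial.pderiv i F)) * MvPolynomial.X i)
    (hT : ¬ ∃ L₁ L₂ L₃ : MvPolynomial (Fin 4) K, L₁.IsHomogeneous 1 ∧ L₂.IsHomogeneous 1 ∧ L₃.IsHomogeneous 1 ∧
      F - L₁ * L₂ * L₃ ∈ Ideal.span {ℓ})
    (P : MvPolynomial (Fin 4) K) (hP : P = ∑ i : Fin 4, a i • MvPolynomial.pderiv i F)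
    (H : Submodule K (Fin 4 → K)) (hH : ∀ x : Fin 4 → K, x ∈ H ↔ MvPolynomial.eval x ℓ = 0) :
    (∃ U₁ U₂ : Submodule K (Fin 4 → K), Module.finrank K ↥U₁ = 2 ∧ Module.finrank K ↥U₂ = 2 ∧ a ∈ U₁ ∧ a ∈ U₂ ∧
        U₁ ≤ H ∧ U₂ ≤ H ∧ {x : Fin 4 → K | x ∈ H ∧ MvPolynomial.eval x P = 0} = (U₁ : Set (Fin 4 → K)) ∪ (U₂ : Set (Fin 4 → K))) ∧
      ∀ U : Submodule K (Fin 4 → K), a ∈ U → Module.finrank K ↥U = 2 → (∀ u ∈ U, MvPolynomial.eval u F = 0) →
        U ≤ H ∧ ∀ u ∈ U, MvPolynomial.eval u P = 0 := by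
  let l : (Fin 4 → K) →ₗ[K] K :=
    ∑ i, MvPolynomial.eval a (MvPolynomial.pderiv i F) • LinearMap.proj i
  have hl' : ∀ x, l x = MvPolynomial.eval x ℓ := fun x => by simp [l, hℓ]
  have hl : ∀ x, l x = CubicPfaff.polar F a x := fun x => by rw [hl', hℓ, CubicPfaff.polar_eq_sum]
  have hP' : ∀ x, CubicPfaff.polar F x a = MvPolynomial.eval x P := fun x => by
    simp [hP, CubicPfaff.polar, CubicPfaff.aeval_k, MvPolynomial.smul_eval]
  have hl0 : l ≠ 0 := by
    obtain ⟨i, hi⟩ := hsm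
    intro h0
    exact hi (by simpa [l, Pi.single_apply] using LinearMap.congr_fun h0 (Pi.single i 1))
  have hker : ∀ x, x ∈ H ↔ l x = 0 := fun x => by rw [hH, hl']
  constructor
  · obtain ⟨U₁, U₂, h1, h2, m1, m2, e1, e2, hset⟩ :=
      CubicPolarLib.polar_locus hF ha hFa l hl hl0 (fun hT' => hT (by subst hℓ; exact hT'))
    refine ⟨U₁, U₂, h1, h2, m1, m2, fun x hx => (hker x).2 (e1 hx), fun x hx => (hker x).2 (e2 hx), ?_⟩
    rw [← hset]
    ext x
    simp only [Set.mem_setOf_eq, hker, hP']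
  · intro U haU _ hU
    exact ⟨fun u hu => (hker u).2 (by rw [hl]; exact (CubicPolarLib.lines_le hF U haU hU u hu).1),
      fun u hu => by rw [← hP']; exact (CubicPolarLib.lines_le hF U haU hU u hu).2⟩

end Groth.Agent.S16352
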