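import Groth.Statements.S16353
import Mathlib
import Mathlib
-- import your own Groth.Agent.* helpers here

set_option autoImplicit false
universe u
open DegLoci

namespace Groth.Agent.S16353

/-- Let k be a field of characteristic zero, R = k[y_0, …, y_{m−1}] acting on S = k[∂_0, …, ∂_{m−1}] by
apolarity (y_i acts as the derivative with respect to ∂_i), F ∈ S homogeneous of degree e and d ≤ e.
Then the degree-d part of the apolar ideal of F is the orthogonal complement of the partial
derivatives of F of order e − d: a homogeneous D ∈ R_d satisfies D(F) = 0 if and only if D(y^α(F)) =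
0 for every multi-index α with |α| = e − d (each D(y^α(F)) being a constant, the value of the
apolarity pairing of D with y^α(F)). -/
theorem result (k : Type u) [Field k] [CharZero k] (m : ℕ)
    (F : MvPolynomial (Fin m) k) (e : ℕ) (hF : F.IsHomogeneous e) (d : ℕ) (hd : d ≤ e)
    (D : MvPolynomial (Fin m) k) (hD : D.IsHomogeneous d) :
    W4c3degenlocivb.contract D F = 0 ↔
      ∀ α : Fin m →₀ ℕ, α.degree = e - d → W4c3degenlocivb.contract D (W4c3degenlocivb.contract (MvPolynomial.monomial α 1) F) = 0 := by
  classical
  let P : (Fin m →₀ ℕ) → (Fin m →₀ ℕ) → ℕ := fun β α => ∏ i, Nat.descFactorial (β i) (α i)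
  have coeff_contract : ∀ (A G : MvPolynomial (Fin m) k) (γ : Fin m →₀ ℕ),
      MvPolynomial.coeff γ (W4c3degenlocivb.contract A G) =
        ∑ α ∈ A.support, MvPolynomial.coeff α A * MvPolynomial.coeff (α + γ) G * (P (α + γ) α : k) := by
    intro A G γ
    rw [W4c3degenlocivb.contract, MvPolynomial.coeff_sum]
    refine Finset.sum_congr rfl fun α _ => ?_
    rw [MvPolynomial.coeff_sum, Finset.sum_eq_single (α + γ)]
    · rw [if_pos le_self_add, add_tsub_cancel_left, MvPolynomial.coeff_monomial, if_pos rfl,
        Finset.prod_subset (Finset.subset_univ _) fun i _ hi => ?_]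
      rw [Finsupp.notMem_support_iff, Finsupp.add_apply] at hi
      rw [Finsupp.add_apply, hi, show α i = 0 by omega, Nat.descFactorial_zero]
    · intro β _ hne
      split_ifs with h
      · rw [MvPolynomial.coeff_monomial, if_neg]
        rintro rfl
        exact hne (add_tsub_cancel_of_le h).symm
      · exact MvPolynomial.coeff_zero _
    · intro h
      rw [MvPolynomial.notMem_support_iff] at h
      simp [h]
  have hFdeg : ∀ β, MvPolynomial.coeff β F ≠ 0 → β.degree = e := fun β h => by
    by_contra hne; exact h (hF.coeff_eq_zero hne)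
  have hDdeg : ∀ δ ∈ D.support, δ.degree = d := fun δ h => by
    by_contra hne; exact MvPolynomial.mem_support_iff.1 h (hD.coeff_eq_zero hne)
  have mon : ∀ α γ, MvPolynomial.coeff γ (W4c3degenlocivb.contract (MvPolynomial.monomial α 1) F) =
      MvPolynomial.coeff (α + γ) F * (P (α + γ) α : k) := fun α γ => by
    rw [coeff_contract, MvPolynomial.support_monomial, if_neg one_ne_zero, Finset.sum_singleton,
      MvPolynomial.coeff_monomial, if_pos rfl, one_mul]
  have hP : ∀ δ α : Fin m →₀ ℕ, (P (δ + α) α : k) * (P δ δ : k) = (P (δ + α) δ : k) * (P α α : k) := by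
    intro δ α
    rw [← Nat.cast_mul, ← Nat.cast_mul, ← Finset.prod_mul_distrib, ← Finset.prod_mul_distrib]
    refine congrArg _ (Finset.prod_congr rfl fun i _ => ?_)
    rw [Finsupp.add_apply, Nat.descFactorial_self, Nat.descFactorial_self, mul_comm,
      mul_comm _ (Nat.factorial (α i))]
    have h1 := Nat.factorial_mul_descFactorial (show α i ≤ δ i + α i by omega)
    have h2 := Nat.factorial_mul_descFactorial (show δ i ≤ δ i + α i by omega)
    rw [show δ i + α i - α i = δ i by omega] at h1
    rw [show δ i + α i - δ i = α i by omega] at h2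
    rw [h1, h2]
  have key : ∀ α, MvPolynomial.coeff 0 (W4c3degenlocivb.contract D (W4c3degenlocivb.contract (MvPolynomial.monomial α 1) F)) =
      (P α α : k) * MvPolynomial.coeff α (W4c3degenlocivb.contract D F) := by
    intro α
    rw [coeff_contract, coeff_contract, Finset.mul_sum]
    refine Finset.sum_congr rfl fun δ _ => ?_
    rw [add_zero, mon, add_comm α δ]
    linear_combination (MvPolynomial.coeff δ D * MvPolynomial.coeff (δ + α) F) * hP δ α
  constructor
  · intro h α hα
    refine MvPolynomial.ext _ _ fun γ => ?_
    rw [MvPolynomial.coeff_zero]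
    by_cases hγ : γ = 0
    · rw [hγ, key, h, MvPolynomial.coeff_zero, mul_zero]
    · rw [coeff_contract]
      refine Finset.sum_eq_zero fun δ hδ => ?_
      rw [mon]
      by_cases hF0 : MvPolynomial.coeff (α + (δ + γ)) F = 0
      · simp [hF0]
      · have hh := hFdeg _ hF0
        rw [map_add, map_add, hα, hDdeg δ hδ] at hh
        exact absurd ((Finsupp.degree_eq_zero_iff γ).1 (by omega)) hγ
  · intro h
    refine MvPolynomial.ext _ _ fun α => ?_
    rw [MvPolynomial.coeff_zero]
    by_cases hα : α.degree = e - d
    · have h0 := key α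
      rw [h α hα, MvPolynomial.coeff_zero] at h0
      refine (mul_eq_zero.1 h0.symm).resolve_left ?_
      show (P α α : k) ≠ 0
      rw [Nat.cast_ne_zero, Finset.prod_ne_zero_iff]
      intro i _
      rw [Nat.descFactorial_self]
      exact Nat.factorial_ne_zero _
    · rw [coeff_contract]
      refine Finset.sum_eq_zero fun δ hδ => ?_
      by_cases hF0 : MvPolynomial.coeff (δ + α) F = 0
      · simp [hF0]
      · have hh := hFdeg _ hF0
        rw [map_add, hDdeg δ hδ] at hh
        omega

end Groth.Agent.S16353
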