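import Groth.Statements.S16354
import Groth.Agent.CubicDeg3Lib.Main
import Mathlib.Analysis.Complex.Polynomial.Basic
import Mathlib.Algebra.Polynomial.SpecificDegree
-- import your own Groth.Agent.* helpers here

set_option autoImplicit false
universe u
open Cubic

namespace Groth.Agent.S16354

/-- Let k be a subfield of ℝ (a field equipped with an embedding into the reals) and S = V(F) ⊂ P^3 the
cubic surface of a homogeneous cubic F ∈ k[x_0, …, x_3] which is geometrically irreducible and not a
cone (no nonzero vector v has Σ_i v_i ∂F/∂x_i = 0). Then S admits a linear Pfaffian representation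
over a real intermediate field k ⊆ E ⊆ ℝ of degree [E : k] ≤ 3. A linear Pfaffian representation
over E is a 6 × 6 alternating matrix M of linear forms in E[x_0, …, x_3] whose Pfaffian is a nonzero
constant multiple of F; since the determinant of an alternating matrix is the square of its Pfaffian
and the polynomial ring is factorial with no nonconstant units, this is the same as det M = c · F^2
for a nonzero constant c, which is how it is written here. -/
theorem result (k : Type u) [Field k] [Algebra k ℝ]
    (F : MvPolynomial (Fin 4) k) (hF : F.IsHomogeneous 3)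
    (hirr : Irreducible (MvPolynomial.map (algebraMap k (AlgebraicClosure k)) F))
    (hcone : ¬ ∃ v : Fin 4 → k, v ≠ 0 ∧ ∑ i : Fin 4, v i • MvPolynomial.pderiv i F = 0) :
    ∃ E : IntermediateField k ℝ, FiniteDimensional k ↥E ∧ Module.finrank k ↥E ≤ 3 ∧
      ∃ M : Matrix (Fin 6) (Fin 6) (MvPolynomial (Fin 4) ↥E), (∀ i j, (M i j).IsHomogeneous 1) ∧ M.transpose = -M ∧ (∀ i, M i i = 0) ∧
        ∃ c : ↥E, c ≠ 0 ∧ M.det = MvPolynomial.C c * (MvPolynomial.map (algebraMap k ↥E) F) ^ 2 := by
  haveI : CharZero k := RingHom.charZero (algebraMap k ℝ)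
  refine CubicDeg3.exists_rep hF hirr hcone fun p hp => ?_
  have hp0 : p ≠ 0 := fun h => by rw [h, Polynomial.natDegree_zero] at hp; exact absurd hp (by decide)
  have hq : (p.map (algebraMap k ℝ)).natDegree = 3 := by rw [Polynomial.natDegree_map, hp]
  obtain ⟨s, hs⟩ : ∃ s, s ∈ (p.map (algebraMap k ℝ)).roots := by
    by_contra h
    push Not at h
    have hirr' := (Polynomial.irreducible_iff_roots_eq_zero_of_degree_le_three (by omega) hq.le).2
      (Multiset.eq_zero_iff_forall_notMem.2 h)
    have := hirr'.natDegree_le_two
    omega
  refine ⟨s, ?_⟩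
  rw [← Polynomial.eval_map_algebraMap]
  exact (Polynomial.mem_roots (Polynomial.map_ne_zero hp0)).1 hs

end Groth.Agent.S16354
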