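import Groth.Statements.S16356
import Mathlib


-- import your own Groth.Agent.* helpers here

set_option autoImplicit false
universe u
open OrdAV

namespace Groth.Agent.S16356

/-- For an odd prime p and a perfect field k of characteristic p, a root of unity in the ring of Witt
vectors W(k) whose residue in k is 1 is itself 1: if x ^ n = 1 with n ≥ 1 and the zeroth Witt
component of x is 1, then x = 1. (For p = 2 this fails: -1 in W(F_2).) -/
theorem result (p : ℕ) [Fact p.Prime] (hp : p ≠ 2)
    (k : Type u) [Field k] [CharP k p] [PerfectRing k p]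
    (x : WittVector p k) (n : ℕ) (hn : 0 < n) (hx : x ^ n = 1) (h0 : x.coeff 0 = 1) : x = 1 := by
  have hp' := (Fact.out : p.Prime)
  have hp0 : (p : WittVector p k) ≠ 0 := WittVector.p_nonzero p k
  have hpu : ¬ IsUnit (p : WittVector p k) := fun h => by
    have := h.map (WittVector.constantCoeff (R := k))
    rw [map_natCast, CharP.cast_eq_zero] at this
    exact not_isUnit_zero this
  have key : ∀ m : ℕ, m.Prime → ∀ y : WittVector p k, WittVector.constantCoeff y = 1 → y ^ m = 1 →
      y = 1 := by
    intro m hm y hy hym
    have hmul := geom_sum_mul y m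
    rw [hym, sub_self] at hmul
    rcases mul_eq_zero.1 hmul with hs | hs
    swap
    · exact sub_eq_zero.1 hs
    exfalso
    have hc := congrArg WittVector.constantCoeff hs
    simp only [map_sum, map_pow, hy, one_pow, Finset.sum_const, Finset.card_range, nsmul_eq_mul,
      mul_one, map_zero] at hc
    have hpm : p = m := by
      rw [CharP.cast_eq_zero_iff k p] at hc
      exact (Nat.prime_dvd_prime_iff_eq hp' hm).1 hc
    subst hpm
    have hmem : y - 1 ∈ Ideal.span {(p : WittVector p k)} := by
      rw [← WittVector.ker_constantCoeff, RingHom.mem_ker, map_sub, hy, map_one, sub_self]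
    obtain ⟨z, hz⟩ := Ideal.mem_span_singleton.1 hmem
    have hy' : y = 1 + p * z := by rw [← hz]; ring
    have hexp : ∀ i : ℕ, ∃ w : WittVector p k, y ^ i = 1 + i * (p * z) + (p : WittVector p k) ^ 2 * w := by
      intro i
      induction i with
      | zero => exact ⟨0, by simp⟩
      | succ i ih =>
        obtain ⟨w, hw⟩ := ih
        refine ⟨i * z ^ 2 + w * (1 + p * z), ?_⟩
        rw [pow_succ, hw, hy']; push_cast; ring
    choose w hw using hexp
    obtain ⟨j, hj⟩ : ∃ j : ℕ, ∑ i ∈ Finset.range p, i = p * j := by
      refine ⟨(p - 1) / 2, ?_⟩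
      obtain ⟨c, hc⟩ := hp'.eq_two_or_odd'.resolve_left hp
      rw [Finset.sum_range_id, hc, show 2 * c + 1 - 1 = 2 * c from rfl,
        show (2 * c + 1) * (2 * c) = (2 * c + 1) * c * 2 by ring,
        Nat.mul_div_cancel _ (by norm_num : 0 < 2), Nat.mul_div_cancel_left c (by norm_num : 0 < 2)]
    have hjc : ∑ i ∈ Finset.range p, (i : WittVector p k) = p * j := by
      rw [← Nat.cast_sum, hj, Nat.cast_mul]
    have hsum : ∑ i ∈ Finset.range p, y ^ i =
        (p : WittVector p k) * (1 + (p : WittVector p k) * (j * z + ∑ i ∈ Finset.range p, w i)) := by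
      simp only [hw, Finset.sum_add_distrib, Finset.sum_const, Finset.card_range, nsmul_eq_mul,
        mul_one, ← Finset.sum_mul, ← Finset.mul_sum, hjc]
      ring
    rw [hsum] at hs
    have h1 := (mul_eq_zero.1 hs).resolve_left hp0
    exact hpu (IsUnit.of_mul_eq_one
      (-(j * z + ∑ i ∈ Finset.range p, w i)) (by linear_combination -h1))
  induction n using Nat.strong_induction_on generalizing x with
  | _ n ih =>
    rcases eq_or_ne n 1 with rfl | h1
    · simpa using hx
    obtain ⟨q, hq, hqn⟩ := Nat.exists_prime_and_dvd h1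
    obtain ⟨c, rfl⟩ := hqn
    rw [pow_mul] at hx
    have hcpos : 0 < c := Nat.pos_of_ne_zero fun h => by simp [h] at hn
    have hy : x ^ q = 1 := by
      refine ih c ?_ (x ^ q) hcpos hx ?_
      · exact lt_mul_of_one_lt_left hcpos hq.one_lt
      · have : WittVector.constantCoeff (x ^ q) = 1 := by
          rw [map_pow, WittVector.constantCoeff_apply, h0, one_pow]
        simpa using this
    exact key q hq x (by simpa using h0) hy

end Groth.Agent.S16356
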