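import Groth.Statements.S16357
import Mathlib


-- import your own Groth.Agent.* helpers here

set_option autoImplicit false
universe u
open OrdAV

namespace Groth.Agent.S16357

/-- Over a field L of characteristic zero, a monic polynomial h whose square has rational coefficients
has rational coefficients itself. -/
theorem result (L : Type u) [Field L] [CharZero L]
    (h : Polynomial L) (hm : h.Monic) (f : Polynomial ℚ)
    (hf : h ^ 2 = Polynomial.map (algebraMap ℚ L) f) :
    ∃ g : Polynomial ℚ, Polynomial.map (algebraMap ℚ L) g = h := by
  classical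
  set S := (algebraMap ℚ L).fieldRange with hS
  set d := h.natDegree with hd
  have hd1 : h.coeff d = 1 := hm
  have key : ∀ j, j ≤ d → h.coeff (d - j) ∈ S := by
    intro j
    induction j using Nat.strong_induction_on with
    | _ j ih =>
      intro hj
      rcases Nat.eq_zero_or_pos j with rfl | hpos
      · rw [Nat.sub_zero, hd1]; exact one_mem S
      · have hk : d - j ≠ d := by omega
        have hsum : ∑ x ∈ Finset.HasAntidiagonal.antidiagonal (d + (d - j)), h.coeff x.1 * h.coeff x.2 ∈ S := by
          rw [← Polynomial.coeff_mul, ← sq, hf, Polynomial.coeff_map]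
          exact ⟨_, rfl⟩
        have hmem1 : ((d, d - j) : ℕ × ℕ) ∈ Finset.HasAntidiagonal.antidiagonal (d + (d - j)) := by simp
        have hmem2 : ((d - j, d) : ℕ × ℕ) ∈ (Finset.HasAntidiagonal.antidiagonal (d + (d - j))).erase (d, d - j) := by
          simp only [Finset.mem_erase, Finset.HasAntidiagonal.mem_antidiagonal, ne_eq, Prod.mk.injEq]
          exact ⟨fun hh => hk hh.1, by omega⟩
        rw [← Finset.add_sum_erase _ _ hmem1, ← Finset.add_sum_erase _ _ hmem2, hd1, one_mul, mul_one, ← add_assoc] at hsum
        have hrest : ∑ x ∈ ((Finset.HasAntidiagonal.antidiagonal (d + (d - j))).erase (d, d - j)).erase (d - j, d), h.coeff x.1 * h.coeff x.2 ∈ S := by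
          refine sum_mem fun x hx => ?_
          simp only [Finset.mem_erase, Finset.HasAntidiagonal.mem_antidiagonal, ne_eq] at hx
          obtain ⟨h1, h2, h3⟩ := hx
          by_cases ha : d < x.1
          · rw [Polynomial.coeff_eq_zero_of_natDegree_lt ha, zero_mul]; exact zero_mem S
          by_cases hb : d < x.2
          · rw [Polynomial.coeff_eq_zero_of_natDegree_lt hb, mul_zero]; exact zero_mem S
          have e1 : x.1 ≠ d - j := fun hh => h1 (Prod.ext hh (by dsimp only; omega))
          have e2 : x.1 ≠ d := fun hh => h2 (Prod.ext hh (by dsimp only; omega))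
          have m1 := ih (d - x.1) (by omega) (by omega)
          have m2 := ih (d - x.2) (by omega) (by omega)
          rw [show d - (d - x.1) = x.1 by omega] at m1
          rw [show d - (d - x.2) = x.2 by omega] at m2
          exact mul_mem m1 m2
        have h2mem := sub_mem hsum hrest
        rw [add_sub_cancel_right] at h2mem
        have h2 : ((2 : L)) ∈ S := ⟨2, map_ofNat _ 2⟩
        have := div_mem h2mem h2
        rwa [← two_mul, mul_div_cancel_left₀ _ (two_ne_zero' L)] at this
  have hl : h ∈ Polynomial.lifts (algebraMap ℚ L) := by
    rw [Polynomial.lifts_iff_coeff_lifts]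
    intro k
    by_cases hk : k ≤ d
    · have := key (d - k) (by omega)
      rwa [show d - (d - k) = k by omega] at this
    · rw [Polynomial.coeff_eq_zero_of_natDegree_lt (by omega)]
      exact ⟨0, map_zero _⟩
  exact (Polynomial.mem_lifts h).1 hl

end Groth.Agent.S16357
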