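import Groth.Statements.S1636
import Groth.Agent.GenusZeroLib.Embed

set_option autoImplicit false
universe u
open CategoryTheory CategoryTheory.Limits AlgebraicGeometry
open Curves

namespace Groth.Agent.S1636

/-- Let X be a proper curve over k with global functions k and genus 0, and L an invertible module of
degree d > 0. Then there is a closed immersion i : X → P^d_k over k with i^* O(1) ≅ L. -/
theorem result (k : Type u) [Field k] (X : Scheme.{u}) [X.Over (Spec (CommRingCat.of k))]
    [IsIntegral X] [IsProper (X ↘ (Spec (CommRingCat.of k)))] (hdim : topologicalKrullDim X = 1)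
    (h0 : Module.finrank k (Coh.HH X (Coh.structureModule X) 0) = 1) (hg : Curv2.genus k X = 0)
    (L : X.Modules) (hL : PicF.IsInvertible L) (d : ℕ) (hd : 0 < d) (hdeg : Curv2.deg k X L 1 = d) :
    ∃ i : X ⟶ CohB1.ProjSpace d k, IsClosedImmersion i ∧ i ≫ CohB1.ProjSpace.toSpec d k = X ↘ (Spec (CommRingCat.of k)) ∧
      Nonempty ((Scheme.Modules.pullback i).obj (Twist.twistProjSpace d k 1) ≅ L) := by
  haveI : Module.Finite k (Coh.HH X (Coh.structureModule X) 1) :=
    CurvLib.finite_HH (CurvLib.isCoh_of_isInvertible CurvLib.isInvertible_structureModule) 1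
  rw [Curv2.genus] at hg
  have h1 : Subsingleton (Coh.HH X (Coh.structureModule X) 1) := (Module.finrank_zero_iff (R := k)).mp hg
  obtain ⟨r, hr, hrb, hτ⟩ := GenusZeroLib.exists_closedImmersion k hdim h0 h1 hL hd hdeg
  exact ⟨r, hr, hrb, hτ⟩

end Groth.Agent.S1636
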