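import Groth.Statements.S16360
import Groth.Agent.DvrPerfExt.Basic

set_option autoImplicit false
universe u
open Hensel

namespace Groth.Agent.S16360

/-- Let R be a discrete valuation ring that is Henselian and excellent, write k for its residue field
and p for the characteristic exponent of k. There is a Henselian discrete valuation ring R' and an
injective ring map R → R' such that the maximal ideal of R generates that of R' (so a uniformizer of
R is a uniformizer of R'), R' is the directed union of R-subalgebras that are finite free R-modules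
of rank a power of p, and the residue field k' of R' is a perfect closure of k: every element of k'
is a p-th power in k', and some p-power-th power of it lies in the image of k. (The published
statement also asserts that R' is excellent; that is not asserted here.) -/
theorem result (R : Type u) [CommRing R] [IsDomain R]
    [IsDiscreteValuationRing R] [HenselianLocalRing R] (hR : EGA4.IsExcellent R) :
    ∃ (R' : Type u) (_ : CommRing R') (_ : IsDomain R') (_ : IsDiscreteValuationRing R')
      (_ : HenselianLocalRing R') (_ : Algebra R R'),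
      Function.Injective (algebraMap R R') ∧
      Ideal.map (algebraMap R R') (IsLocalRing.maximalIdeal R) = IsLocalRing.maximalIdeal R' ∧
      (∀ s : Finset R', ∃ S : Subalgebra R R', (↑s : Set R') ⊆ ↑S ∧ Module.Finite R S ∧ Module.Free R S ∧
        ∃ m : ℕ, Module.finrank R S = ringExpChar (IsLocalRing.ResidueField R) ^ m) ∧
      (∀ y : R', ∃ z : R', z ^ ringExpChar (IsLocalRing.ResidueField R) - y ∈ IsLocalRing.maximalIdeal R') ∧
      (∀ y : R', ∃ (m : ℕ) (z : R),
        algebraMap R R' z - y ^ (ringExpChar (IsLocalRing.ResidueField R) ^ m) ∈ IsLocalRing.maximalIdeal R') := by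
  classical
  obtain ⟨π, hπ⟩ := IsDiscreteValuationRing.exists_irreducible R
  have hinj : Function.Injective (algebraMap R (AlgebraicClosure (FractionRing R))) := by
    rw [IsScalarTower.algebraMap_eq R (FractionRing R) (AlgebraicClosure (FractionRing R))]
    exact (algebraMap (FractionRing R) _).injective.comp (IsFractionRing.injective R (FractionRing R))
  have hpR : ringExpChar (IsLocalRing.ResidueField R) = 1 ∨ (ringExpChar (IsLocalRing.ResidueField R)).Prime ∧
      π ∣ (ringExpChar (IsLocalRing.ResidueField R) : R) := by
    rcases ExpChar.exists (IsLocalRing.ResidueField R) with ⟨q, hq⟩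
    rw [ringExpChar.eq (IsLocalRing.ResidueField R) q]
    cases hq with
    | zero => exact Or.inl rfl
    | prime hq' =>
      refine Or.inr ⟨hq', ?_⟩
      rw [← Ideal.mem_span_singleton, ← hπ.maximalIdeal_eq, ← IsLocalRing.residue_eq_zero_iff, map_natCast]
      exact CharP.cast_eq_zero _ q
  obtain ⟨S, hS, hperf⟩ := DvrPerfExt.exists_perfect hinj hπ hpR
  haveI := DvrPerfExt.algebraIsIntegral hS
  haveI := DvrPerfExt.isDiscreteValuationRing hinj hπ hS
  obtain ⟨hH, -⟩ := HensFormalLib.henselian_of_integral_domain R S
  have hmem : ∀ y : S, y ∈ IsLocalRing.maximalIdeal S ↔ algebraMap R S π ∣ y := fun y =>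
    ⟨fun h => (hS.dich y).resolve_right h, fun h hu =>
      DvrPerfExt.not_isUnit_pi hinj hπ hS (isUnit_of_dvd_unit h hu)⟩
  refine ⟨S, inferInstance, inferInstance, inferInstance, hH, inferInstance, ?_, ?_, ?_, ?_, ?_⟩
  · exact fun a b h => hinj (congrArg Subtype.val h)
  · ext y
    rw [hπ.maximalIdeal_eq, Ideal.map_span, Set.image_singleton, Ideal.mem_span_singleton, hmem]
  · intro s
    obtain ⟨S0, hle, hs0, hfin, hfree, m, hm⟩ := hS.free (s.image Subtype.val) (by
      intro x hx
      obtain ⟨x, -, rfl⟩ := Finset.mem_image.1 hx
      exact x.2)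
    let e : S0 ≃ₐ[R] (Subalgebra.inclusion hle).range := AlgEquiv.ofInjective _ (Subalgebra.inclusion_injective hle)
    refine ⟨_, ?_, Module.Finite.equiv e.toLinearEquiv, Module.Free.of_equiv e.toLinearEquiv, m, ?_⟩
    · exact fun x hx => ⟨⟨x.1, hs0 (Finset.mem_coe.2 (Finset.mem_image_of_mem _ hx))⟩, Subtype.ext rfl⟩
    · rw [← e.toLinearEquiv.finrank_eq, hm]
  · intro y
    obtain ⟨c, hc⟩ := hperf y
    exact ⟨c, (hmem _).2 hc⟩
  · intro y
    obtain ⟨m, r, hr⟩ := hS.pur y
    exact ⟨m, r, (hmem _).2 hr⟩

end Groth.Agent.S16360
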