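import Groth.Statements.S16361
import Groth.Agent.FibLib.Fp

set_option autoImplicit false
universe v u
open CategoryTheory CategoryTheory.Limits
open FibCat

namespace Groth.Agent.S16361

/-- Let S be a category, π_X : X ⥤ S and π_Y : Y ⥤ S be fibred in groupoids, and F : Y ⥤ X a functor
with F ⋙ π_X = π_Y. Consider the category of triples (y, x, φ) with φ : F y ≅ x an arbitrary
isomorphism of X and morphisms the compatible pairs of morphisms (the categorical pullback of F and
the identity of X; the isomorphism φ is not required to lie over an identity of S). Its projection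
to X is fibred in groupoids over X, and the composite of that projection with π_X is fibred in
groupoids over S. (The published statement also asserts that y ↦ (y, F y, id) and (y, x, φ) ↦ y form
an equivalence over S; that is not asserted here.) -/
theorem result {S : Type u} [Category.{v} S] {X : Type u} [Category.{v} X]
    {Y : Type u} [Category.{v} Y] (πX : X ⥤ S) (πY : Y ⥤ S) (hX : FibCat.IsFibGrpd πX) (hY : FibCat.IsFibGrpd πY)
    (F : Y ⥤ X) (hF : F ⋙ πX = πY) :
    FibCat.IsFibGrpd (CategoricalPullback.π₂ F (𝟭 X)) ∧
      FibCat.IsFibGrpd (CategoricalPullback.π₂ F (𝟭 X) ⋙ πX) := by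
  let Q : BasedCategory.ofFunctor πY ⥤ᵇ BasedCategory.ofFunctor πX := { toFunctor := F, w := hF }
  haveI : FibCat.IsFibGrpd (BasedCategory.ofFunctor πY).p := hY
  haveI : FibCat.IsFibGrpd (BasedCategory.ofFunctor πX).p := hX
  have h := FibLib.isFibGrpd_pi₂ Q
  exact ⟨h, @FibLib.isFibGrpd_comp _ _ _ _ _ _ _ _ h hX⟩

end Groth.Agent.S16361
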