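import Groth.Statements.S16362
import Mathlib
-- helpers

set_option autoImplicit false
universe u
open MovLem

namespace Groth.Agent.S16362

/-- Let A be a commutative ring, p a prime ideal of A, and ζ, u elements of A with u not in p. Then the
quotient of the classes of ζ and u in the fraction field of the domain A ⧸ p is integral over A ⧸ p
if and only if there exist a natural number N and elements a_1, …, a_N of A such that ζ^N + a_1
ζ^(N-1) u + ⋯ + a_N u^N lies in p; equivalently, some binary form of degree N with coefficients in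
A, monic in the first variable, evaluated at (ζ, u), lies in p. -/
theorem result
    {A : Type u} [CommRing A] (p : Ideal A) [p.IsPrime] (ζ u : A) (hu : u ∉ p) :
    IsIntegral (A ⧸ p)
        (algebraMap (A ⧸ p) (FractionRing (A ⧸ p)) (Ideal.Quotient.mk p ζ) /
          algebraMap (A ⧸ p) (FractionRing (A ⧸ p)) (Ideal.Quotient.mk p u)) ↔
      ∃ (N : ℕ) (a : ℕ → A),
        ζ ^ N + ∑ i ∈ Finset.Icc 1 N, a i * ζ ^ (N - i) * u ^ i ∈ p := by
  let π := Ideal.Quotient.mk p
  let ι := algebraMap (A ⧸ p) (FractionRing (A ⧸ p))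
  have hu' : ι (π u) ≠ 0 := by
    rw [Ne, map_eq_zero_iff _ (IsFractionRing.injective _ _), Ideal.Quotient.eq_zero_iff_mem]
    exact hu
  let x := ι (π ζ) / ι (π u)
  have key : ∀ (N : ℕ) (a : ℕ → A),
      ζ ^ N + ∑ i ∈ Finset.Icc 1 N, a i * ζ ^ (N - i) * u ^ i ∈ p ↔
        x ^ N + ∑ i ∈ Finset.Icc 1 N, ι (π (a i)) * x ^ (N - i) = 0 := fun N a => by
    rw [← Ideal.Quotient.eq_zero_iff_mem, ← map_eq_zero_iff ι (IsFractionRing.injective _ _),
      ← mul_eq_zero_iff_right (pow_ne_zero N hu') (a := x ^ N + ∑ i ∈ Finset.Icc 1 N, ι (π (a i)) * x ^ (N - i))]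
    refine iff_of_eq (congrArg (· = 0) ?_)
    simp only [map_add, map_sum, map_mul, map_pow, add_mul, Finset.sum_mul]
    congr 1
    · simp only [x, π, div_pow]
      rw [div_mul_cancel₀ _ (pow_ne_zero _ hu')]
    · refine Finset.sum_congr rfl fun i hi => ?_
      have hiN := (Finset.mem_Icc.mp hi).2
      simp only [x, π, div_pow]
      obtain ⟨k, rfl⟩ := Nat.exists_eq_add_of_le hiN
      rw [Nat.add_sub_cancel_left, pow_add, mul_assoc _ (_ / _), ← mul_assoc (_ / _) _ _,
        mul_right_comm _ (_ ^ i), div_mul_cancel₀ _ (pow_ne_zero _ hu'), mul_assoc]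
  constructor
  · rintro ⟨P, hP, hx⟩
    choose a ha using fun i => Ideal.Quotient.mk_surjective (P.coeff (P.natDegree - i))
    refine ⟨P.natDegree, a, (key _ _).mpr ?_⟩
    rw [← hx, Polynomial.eval₂_eq_sum_range, Finset.sum_range_succ, hP.coeff_natDegree, map_one, one_mul, add_comm]
    congr 1
    refine Finset.sum_nbij' (fun i => P.natDegree - i) (fun j => P.natDegree - j) ?_ ?_ ?_ ?_ ?_
    · intro i hi; simp at hi ⊢; omega
    · intro j hj; simp at hj ⊢; omega
    · intro i hi; simp at hi ⊢; omega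
    · intro j hj; simp at hj ⊢; omega
    · intro i hi; simp only [π, ι, x] at *; rw [ha]
  · rintro ⟨N, a, h⟩
    refine ⟨Polynomial.X ^ N + ∑ i ∈ Finset.Icc 1 N, Polynomial.C (π (a i)) * Polynomial.X ^ (N - i), ?_, ?_⟩
    · refine Polynomial.monic_X_pow_add ?_
      refine (Polynomial.degree_sum_le _ _).trans_lt ((Finset.sup_lt_iff (WithBot.bot_lt_coe N)).mpr fun i hi => ?_)
      refine (Polynomial.degree_C_mul_X_pow_le _ _).trans_lt (Nat.cast_lt.mpr ?_)
      have := Finset.mem_Icc.mp hi
      omega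
    · have := (key N a).mp h
      simpa [Polynomial.eval₂_finset_sum, x, ι, π] using this

end Groth.Agent.S16362
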