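import Groth.Statements.S16365
import Groth.Agent.UnitSmoothLib.Crit
-- import your own Groth.Agent.* helpers here

set_option autoImplicit false
universe u
open CategoryTheory Limits
open MovLem

namespace Groth.Agent.S16365

open AlgebraicGeometry in
/-- Smoothness can be checked on an open immersion through every point. -/
theorem smooth_of_forall_exists {X Y : Scheme.{u}} (f : X ⟶ Y)
    (h : ∀ x : X, ∃ (W : Scheme.{u}) (w : W ⟶ X) (_ : IsOpenImmersion w), x ∈ Set.range w ∧ Smooth (w ≫ f)) :
    Smooth f := by
  choose W w hw hx hs using h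
  refine IsZariskiLocalAtSource.of_iSup_eq_top (fun x => (w x).opensRange) ?_ fun x => ?_
  · ext y
    simpa using ⟨y, hx y⟩
  · rw [← IsOpenImmersion.isoOfRangeEq_inv_fac (w x) (Scheme.Opens.ι _)
      (congr_arg TopologicalSpace.Opens.carrier (w x).opensRange.opensRange_ι.symm), Category.assoc,
      MorphismProperty.cancel_left_of_respectsIso (P := @Smooth)]
    exact hs x

open AlgebraicGeometry in
/-- The differentials of algebra generators span the differentials of every localization. -/
theorem span_differentials {k A B : Type u} [Field k] [CommRing A] [CommRing B] [Algebra k A]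
    [Algebra k B] [Algebra A B] [IsScalarTower k A B] (M : Submonoid A) [IsLocalization M B]
    {n : ℕ} (t : Fin n → A) (ht : Algebra.adjoin k (Set.range t) = ⊤) :
    Submodule.span B (Set.range fun l => KaehlerDifferential.D k B (algebraMap A B (t l))) = ⊤ := by
  rw [eq_top_iff, ← KaehlerDifferential.span_range_derivation k B, Submodule.span_le]
  rintro _ ⟨y, rfl⟩
  let N := Submodule.span B (Set.range fun l => KaehlerDifferential.D k B (algebraMap A B (t l)))
  have hA : ∀ a : A, KaehlerDifferential.D k B (algebraMap A B a) ∈ N := by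
    intro a
    have ha : a ∈ Algebra.adjoin k (Set.range t) := by rw [ht]; trivial
    induction ha using Algebra.adjoin_induction with
    | mem z hz => obtain ⟨l, rfl⟩ := hz; exact Submodule.subset_span ⟨l, rfl⟩
    | algebraMap r =>
      rw [← IsScalarTower.algebraMap_apply k A B, Derivation.map_algebraMap]; exact zero_mem _
    | add a b _ _ iha ihb => rw [map_add, map_add]; exact add_mem iha ihb
    | mul a b _ _ iha ihb =>
      rw [map_mul, Derivation.leibniz]
      exact add_mem (N.smul_mem _ ihb) (N.smul_mem _ iha)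
  obtain ⟨⟨a, r⟩, hy⟩ := IsLocalization.surj M y
  have hu : IsUnit (algebraMap A B r) := IsLocalization.map_units B r
  obtain ⟨w, hw⟩ := hu
  have h1 : algebraMap A B r • KaehlerDifferential.D k B y ∈ N := by
    have h2 := hA a
    rw [← hy, Derivation.leibniz] at h2
    simpa using N.sub_mem h2 (N.smul_mem y (hA r))
  have h3 := N.smul_mem (↑w⁻¹ : B) h1
  rwa [← hw, smul_smul, Units.inv_mul, one_smul] at h3

open AlgebraicGeometry in
/-- Let k be an infinite field, X a scheme of finite type over k, U an open subscheme of X which is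
smooth over k, and x a point of X. Assume that if x lies in U then x is not an isolated point of X.
Then there exist an open neighbourhood V of x in X and a k-morphism v from V to the multiplicative
group Spec k[T, T⁻¹] whose restriction to V ∩ U is a smooth morphism. (The published statement has
no hypothesis on x; when x is an isolated point of X lying in U the conclusion fails, since a
zero-dimensional scheme admits no smooth morphism to a curve, and in every other case an isolated
point can be discarded, so that case is excluded here.) -/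
theorem result
    {k : Type u} [Field k] [Infinite k]
    (X : Scheme.{u}) (f : X ⟶ Spec (CommRingCat.of k)) [LocallyOfFiniteType f] [QuasiCompact f]
    (U : X.Opens) [Smooth (U.ι ≫ f)] (x : ↥X) (hx : x ∈ U → ¬ IsOpen ({x} : Set ↥X)) :
    ∃ (V : X.Opens) (v : (↑V : Scheme.{u}) ⟶ Spec (CommRingCat.of (LaurentPolynomial k))),
      x ∈ V ∧
      v ≫ Spec.map (CommRingCat.ofHom (algebraMap k (LaurentPolynomial k))) = V.ι ≫ f ∧
      Smooth (X.homOfLE (inf_le_left : V ⊓ U ≤ V) ≫ v) := by
  classical
  obtain ⟨W₀, hW, hxW, -⟩ := exists_isAffineOpen_mem_and_subset (x := x) (U := ⊤) trivial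
  let A := Γ(X, W₀)
  let j : Spec A ⟶ X := hW.fromSpec
  obtain ⟨x₀, hx₀⟩ : x ∈ Set.range j := hW.range_fromSpec.symm ▸ hxW
  letI : Algebra k A := (Spec.preimage (j ≫ f)).hom.toAlgebra
  have hjf : j ≫ f = Spec.map (CommRingCat.ofHom (algebraMap k A)) := (Spec.map_preimage (j ≫ f)).symm
  have : LocallyOfFiniteType (Spec.map (CommRingCat.ofHom (algebraMap k A))) := hjf ▸ inferInstance
  have : Algebra.FiniteType k A :=
    RingHom.finiteType_algebraMap.1 ((HasRingHomProperty.Spec_iff (P := @LocallyOfFiniteType)).1 this)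
  have : IsNoetherianRing A := Algebra.FiniteType.isNoetherianRing k A
  obtain ⟨n, φ, hφ⟩ := Algebra.FiniteType.iff_quotient_mvPolynomial''.mp (inferInstance : Algebra.FiniteType k A)
  let t : Fin n → A := fun l => φ (MvPolynomial.X l)
  have ht : Algebra.adjoin k (Set.range t) = ⊤ := by
    rw [show Set.range t = φ '' Set.range MvPolynomial.X by rw [← Set.range_comp]; rfl,
      ← AlgHom.map_adjoin, MvPolynomial.adjoin_range_X, Algebra.map_top, AlgHom.range_eq_top]
    exact hφ
  let U' : Set (PrimeSpectrum A) := ⇑j ⁻¹' (U : Set X)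
  have hU' : IsOpen U' := U.2.preimage j.continuous
  obtain ⟨S, hS1, hS2⟩ : ∃ S : Finset A, (∀ a ∈ S, (PrimeSpectrum.basicOpen a : Set _) ⊆ U') ∧
      U' ⊆ ⋃ a ∈ S, (PrimeSpectrum.basicOpen a : Set (PrimeSpectrum A)) := by
    have hc : IsCompact U' := TopologicalSpace.NoetherianSpace.isCompact U'
    obtain ⟨b, hb, hbf, hbU⟩ := hc.elim_finite_subcover_image (b := {a : A | (PrimeSpectrum.basicOpen a : Set (PrimeSpectrum A)) ⊆ U'})
      (c := fun a => (PrimeSpectrum.basicOpen a : Set (PrimeSpectrum A)))
      (fun a _ => PrimeSpectrum.isOpen_basicOpen) (by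
        intro z hz
        obtain ⟨_, ⟨a, rfl⟩, hza, haU⟩ := PrimeSpectrum.isTopologicalBasis_basic_opens.exists_subset_of_mem_open hz hU'
        exact Set.mem_biUnion haU hza)
    exact ⟨hbf.toFinset, fun a ha => hb (hbf.mem_toFinset.mp ha), by simpa using hbU⟩
  -- the charts
  have hsm : ∀ a ∈ S, Algebra.Smooth k (Localization.Away a) := by
    intro a ha
    let ι := Spec.map (CommRingCat.ofHom (algebraMap A (Localization.Away a)))
    have hsub : Set.range (ι ≫ j) ⊆ Set.range U.ι := by
      rintro _ ⟨z, rfl⟩
      rw [Scheme.Opens.range_ι]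
      refine hS1 a ha ?_
      rw [← PrimeSpectrum.localization_away_comap_range (Localization.Away a) a]
      exact ⟨z, rfl⟩
    have hcomp : Spec.map (CommRingCat.ofHom (algebraMap k (Localization.Away a))) =
        IsOpenImmersion.lift U.ι (ι ≫ j) hsub ≫ U.ι ≫ f := by
      rw [IsOpenImmersion.lift_fac_assoc, Category.assoc, hjf, ← Spec.map_comp,
        IsScalarTower.algebraMap_eq k A (Localization.Away a)]
      rfl
    have : IsOpenImmersion ι := IsOpenImmersion.of_isLocalization a
    have : IsOpenImmersion (IsOpenImmersion.lift U.ι (ι ≫ j) hsub) :=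
      have : IsOpenImmersion (IsOpenImmersion.lift U.ι (ι ≫ j) hsub ≫ U.ι) := by
        rw [IsOpenImmersion.lift_fac]; infer_instance
      IsOpenImmersion.of_comp _ U.ι
    have : Smooth (Spec.map (CommRingCat.ofHom (algebraMap k (Localization.Away a)))) := by
      rw [hcomp]; infer_instance
    exact RingHom.smooth_algebraMap.1 ((HasRingHomProperty.Spec_iff (P := @Smooth)).1 this)
  have hspan := fun a : A => span_differentials (k := k) (B := Localization.Away a) (Submonoid.powers a) t ht
  -- general coefficients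
  have hH : ∀ a : A, ∃ h : MvPolynomial (Fin n) k, h ≠ 0 ∧ ∀ c : Fin n → k, MvPolynomial.eval c h ≠ 0 →
      a ∈ S → ∃ I : Ideal (Localization.Away a), Module.Finite k (Localization.Away a ⧸ I) ∧
        ∀ p : PrimeSpectrum (Localization.Away a),
        (∀ φ : Ω[Localization.Away a⁄k] →ₗ[Localization.Away a] Localization.Away a,
          φ (KaehlerDifferential.D k _ (UnitSmoothLib.lin (fun l => algebraMap A (Localization.Away a) (t l)) c)) ∈ p.asIdeal) →
        I ≤ p.asIdeal := by
    intro a
    by_cases ha : a ∈ S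
    · have := hsm a ha
      obtain ⟨h, h0, hh⟩ := UnitSmoothLib.exists_open_finite_critical _ (hspan a)
      exact ⟨h, h0, fun c hc _ => hh c hc⟩
    · exact ⟨1, one_ne_zero, fun c _ h => absurd h ha⟩
  have hL : ∀ a : A, ∃ L : MvPolynomial (Fin n) k, L ≠ 0 ∧ ∀ c : Fin n → k, MvPolynomial.eval c L ≠ 0 →
      a ∈ S → ∀ p : PrimeSpectrum (Localization.Away a),
        PrimeSpectrum.comap (algebraMap A (Localization.Away a)) p = x₀ →
        ∃ φ : Ω[Localization.Away a⁄k] →ₗ[Localization.Away a] Localization.Away a,
          φ (KaehlerDifferential.D k _ (UnitSmoothLib.lin (fun l => algebraMap A (Localization.Away a) (t l)) c)) ∉ p.asIdeal := by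
    intro a
    by_cases ha : a ∈ S ∧ ∃ p : PrimeSpectrum (Localization.Away a), PrimeSpectrum.comap (algebraMap A (Localization.Away a)) p = x₀
    · obtain ⟨ha, p, hp⟩ := ha
      have hinj := PrimeSpectrum.localization_comap_injective (Localization.Away a) (Submonoid.powers a)
      have := hsm a ha
      have hcrit : ∃ (φ : Ω[Localization.Away a⁄k] →ₗ[Localization.Away a] Localization.Away a) (l : Fin n),
          φ (KaehlerDifferential.D k _ (algebraMap A (Localization.Away a) (t l))) ∉ p.asIdeal := by
        by_contra hno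
        push Not at hno
        have hopen := UnitSmoothLib.exists_unramified_away_of_critical _ (hspan a) p hno
        have h1 : IsOpen ({x₀} : Set (PrimeSpectrum A)) := by
          have h2 := (PrimeSpectrum.localization_away_isOpenEmbedding (Localization.Away a) a).isOpenMap _ hopen
          rw [Set.image_singleton, hp] at h2
          exact h2
        refine hx ?_ ?_
        · rw [← hx₀]
          refine hS1 a ha ?_
          rw [← PrimeSpectrum.localization_away_comap_range (Localization.Away a) a]
          exact ⟨p, hp⟩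
        · rw [← hx₀, ← Set.image_singleton]
          exact j.isOpenEmbedding.isOpenMap _ h1
      obtain ⟨φ, l₀, hl₀⟩ := hcrit
      let K := p.asIdeal.ResidueField
      let π : Localization.Away a →ₐ[k] K := IsScalarTower.toAlgHom k _ K
      let val : Fin n → K := fun l =>
        π (φ (KaehlerDifferential.D k _ (algebraMap A (Localization.Away a) (t l))))
      have hval : val l₀ ≠ 0 := fun h => hl₀ (Ideal.algebraMap_residueField_eq_zero.mp h)
      obtain ⟨ψ, hψ⟩ : ∃ ψ : Module.Dual k K, ψ (val l₀) ≠ 0 := by
        by_contra hno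
        push Not at hno
        exact hval ((Module.forall_dual_apply_eq_zero_iff k _).mp hno)
      refine ⟨∑ l, MvPolynomial.C (ψ (val l)) * MvPolynomial.X l, ?_, fun c hc _ p' hp' => ?_⟩
      · intro h0
        apply hψ
        have := congrArg (MvPolynomial.eval (Pi.single l₀ 1 : Fin n → k)) h0
        simpa [Pi.single_apply] using this
      · obtain rfl : p' = p := hinj (hp'.trans hp.symm)
        refine ⟨φ, fun hmem => hc ?_⟩
        have h1 : π (φ (KaehlerDifferential.D k _
            (UnitSmoothLib.lin (fun l => algebraMap A (Localization.Away a) (t l)) c))) = 0 :=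
          Ideal.algebraMap_residueField_eq_zero.mpr hmem
        have h2 : ∑ l, c l • val l = 0 := by
          simpa [UnitSmoothLib.lin, val] using h1
        have h3 := congrArg ψ h2
        rw [map_sum, map_zero] at h3
        simpa [map_smul, smul_eq_mul, mul_comm] using h3
    · exact ⟨1, one_ne_zero, fun c _ h p hp => absurd ⟨h, p, hp⟩ ha⟩
  choose h h0 hh using hH
  choose L L0 hL' using hL
  obtain ⟨c, hc⟩ : ∃ c : Fin n → k, MvPolynomial.eval c (∏ a ∈ S, h a * L a) ≠ 0 := by
    by_contra hno
    push Not at hno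
    exact (Finset.prod_ne_zero_iff.mpr fun a _ => mul_ne_zero (h0 a) (L0 a))
      (MvPolynomial.funext (fun c => by rw [hno c, map_zero]))
  rw [map_prod, Finset.prod_ne_zero_iff] at hc
  have hch : ∀ a ∈ S, MvPolynomial.eval c (h a) ≠ 0 := fun a ha => by
    have := hc a ha; rw [map_mul] at this; exact left_ne_zero_of_mul this
  have hcL : ∀ a ∈ S, MvPolynomial.eval c (L a) ≠ 0 := fun a ha => by
    have := hc a ha; rw [map_mul] at this; exact right_ne_zero_of_mul this
  obtain ⟨e₀, he₀⟩ : ∃ e₀ : k, UnitSmoothLib.lin t c + algebraMap k A e₀ ∉ x₀.asIdeal := by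
    by_cases hg : UnitSmoothLib.lin t c ∈ x₀.asIdeal
    · refine ⟨1, fun h => x₀.isPrime.ne_top ((Ideal.eq_top_iff_one _).mpr ?_)⟩
      simpa using Ideal.sub_mem _ h hg
    · exact ⟨0, by simpa using hg⟩
  let g : A := UnitSmoothLib.lin t c + algebraMap k A e₀
  have hDg : ∀ (B : Type u) [CommRing B] [Algebra k B] [Algebra A B] [IsScalarTower k A B],
      KaehlerDifferential.D k B (algebraMap A B g) =
        KaehlerDifferential.D k B (UnitSmoothLib.lin (fun l => algebraMap A B (t l)) c) := by
    intro B _ _ _ _
    simp only [g, UnitSmoothLib.lin, map_add, map_sum, Algebra.smul_def, map_mul,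
      ← IsScalarTower.algebraMap_apply k A B, Derivation.map_algebraMap, add_zero]
  let crit : (a : A) → Set (PrimeSpectrum (Localization.Away a)) := fun a =>
    {p | ∀ φ : Ω[Localization.Away a⁄k] →ₗ[Localization.Away a] Localization.Away a,
      φ (KaehlerDifferential.D k _ (algebraMap A (Localization.Away a) g)) ∈ p.asIdeal}
  let Z : Set (PrimeSpectrum A) := ⋃ a ∈ S, PrimeSpectrum.comap (algebraMap A (Localization.Away a)) '' crit a
  have hZ : IsClosed Z := by
    refine Set.Finite.isClosed_biUnion S.finite_toSet fun a ha => ?_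
    obtain ⟨I, hI, hIc⟩ := hh a c (hch a ha) ha
    have hcI : crit a ⊆ Set.range (PrimeSpectrum.comap (Ideal.Quotient.mk I)) := by
      intro p hp
      rw [range_comap_of_surjective _ _ Ideal.Quotient.mk_surjective, Ideal.mk_ker]
      refine hIc p fun φ => ?_
      rw [← hDg]
      exact hp φ
    rw [← Set.biUnion_of_singleton (_ '' crit a)]
    have : IsArtinianRing (Localization.Away a ⧸ I) := IsArtinianRing.of_finite k _
    have hfin : (crit a).Finite := (Set.finite_range _).subset hcI
    refine Set.Finite.isClosed_biUnion (hfin.image _) ?_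
    rintro _ ⟨p, hp, rfl⟩
    obtain ⟨q, rfl⟩ := hcI hp
    rw [PrimeSpectrum.isClosed_singleton_iff_isMaximal]
    let θ : A →ₐ[k] (Localization.Away a ⧸ I) ⧸ q.asIdeal :=
      (Ideal.Quotient.mkₐ k q.asIdeal).comp
        ((Ideal.Quotient.mkₐ k I).comp (IsScalarTower.toAlgHom k A (Localization.Away a)))
    have hker : (PrimeSpectrum.comap (algebraMap A (Localization.Away a))
        (PrimeSpectrum.comap (Ideal.Quotient.mk I) q)).asIdeal = RingHom.ker θ := by
      ext z
      simp only [θ, RingHom.mem_ker, AlgHom.comp_apply, IsScalarTower.coe_toAlgHom', Ideal.Quotient.mkₐ_eq_mk,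
        Ideal.Quotient.eq_zero_iff_mem]
      rfl
    rw [hker]
    have hinj := Ideal.kerLiftAlg_injective θ
    have : FiniteDimensional k (A ⧸ RingHom.ker θ) :=
      Module.Finite.of_injective (Ideal.kerLiftAlg θ).toLinearMap hinj
    have : (RingHom.ker θ).IsPrime := RingHom.ker_isPrime θ
    exact Ideal.Quotient.maximal_of_isField _
      (Algebra.IsIntegral.isField_iff_isField (RingHom.injective (algebraMap k (A ⧸ RingHom.ker θ))) |>.mp (Field.toIsField k))
  let V₀ : (Spec A).Opens :=
    ⟨(PrimeSpectrum.basicOpen g : Set (PrimeSpectrum A)) ∩ Zᶜ,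
      PrimeSpectrum.isOpen_basicOpen.inter hZ.isOpen_compl⟩
  have hx₀V : x₀ ∈ V₀ := by
    refine ⟨he₀, fun hxZ => ?_⟩
    obtain ⟨a, ha, p, hp, hpx⟩ := Set.mem_iUnion₂.mp hxZ
    obtain ⟨φ, hφ⟩ := hL' a c (hcL a ha) ha p hpx
    apply hφ
    rw [← hDg]
    exact hp φ
  let ιg := Spec.map (CommRingCat.ofHom (algebraMap A (Localization.Away g)))
  have : IsOpenImmersion ιg := IsOpenImmersion.of_isLocalization g
  have hV₀g : Set.range V₀.ι ⊆ Set.range ιg := by
    rw [Scheme.Opens.range_ι]
    intro z hz
    exact (PrimeSpectrum.localization_away_comap_range (Localization.Away g) g).ge hz.1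
  have hgu : IsUnit (algebraMap A (Localization.Away g) g) := IsLocalization.Away.algebraMap_isUnit g
  let ψ : LaurentPolynomial k →ₐ[k] Localization.Away g :=
    { LaurentPolynomial.eval₂ (algebraMap k (Localization.Away g)) hgu.unit with
      commutes' := fun r => by
        change LaurentPolynomial.eval₂ _ _ (LaurentPolynomial.C r) = _
        simp }
  have hψT : ψ (LaurentPolynomial.T 1) = algebraMap A (Localization.Away g) g := by
    change LaurentPolynomial.eval₂ _ _ (LaurentPolynomial.T 1) = _
    simp
  let v₀ : (↑V₀ : Scheme.{u}) ⟶ Spec (CommRingCat.of (LaurentPolynomial k)) :=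
    IsOpenImmersion.lift ιg V₀.ι hV₀g ≫ Spec.map (CommRingCat.ofHom ψ.toRingHom)
  refine ⟨j ''ᵁ V₀, (j.isoImage V₀).inv ≫ v₀, ⟨x₀, hx₀V, hx₀⟩, ?_, ?_⟩
  · have h1 : Spec.map (CommRingCat.ofHom ψ.toRingHom) ≫
        Spec.map (CommRingCat.ofHom (algebraMap k (LaurentPolynomial k))) =
        ιg ≫ Spec.map (CommRingCat.ofHom (algebraMap k A)) := by
      rw [← Spec.map_comp, ← Spec.map_comp, ← CommRingCat.ofHom_comp, ← CommRingCat.ofHom_comp]
      congr 2
      ext r
      exact (ψ.commutes r).trans (IsScalarTower.algebraMap_apply k A _ r)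
    simp only [v₀, Category.assoc]
    rw [h1, IsOpenImmersion.lift_fac_assoc, ← hjf, Scheme.Hom.isoImage_inv_ι_assoc]
  · refine smooth_of_forall_exists _ fun y => ?_
    obtain ⟨z, hzV, hzy⟩ := y.2.1
    have hzU : z ∈ U' := (congrArg (fun q => q ∈ (U : Set X)) hzy).mpr y.2.2
    obtain ⟨a, ha, hza⟩ := Set.mem_iUnion₂.mp (hS2 hzU)
    obtain ⟨p, hp⟩ : z ∈ Set.range (PrimeSpectrum.comap (algebraMap A (Localization.Away a))) := by
      rw [PrimeSpectrum.localization_away_comap_range (Localization.Away a) a]; exact hza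
    let B := Localization.Away a
    have := hsm a ha
    obtain ⟨φ, hφ⟩ : ∃ φ : Ω[B⁄k] →ₗ[B] B, φ (KaehlerDifferential.D k B (algebraMap A B g)) ∉ p.asIdeal := by
      by_contra hno
      push Not at hno
      exact hzV.2 (Set.mem_biUnion ha ⟨p, hno, hp⟩)
    have hgp : algebraMap A B g ∉ p.asIdeal := by
      have := hzV.1
      rw [← hp] at this
      exact this
    obtain ⟨_, ⟨e, rfl⟩, hze, heZ⟩ := PrimeSpectrum.isTopologicalBasis_basic_opens.exists_subset_of_mem_open
      hzV.2 hZ.isOpen_compl
    have hep : algebraMap A B e ∉ p.asIdeal := by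
      have := hze
      rw [← hp] at this
      exact this
    let r : B := φ (KaehlerDifferential.D k B (algebraMap A B g)) * (algebraMap A B g * algebraMap A B e)
    have hr : r ∉ p.asIdeal := fun h =>
      (p.isPrime.mem_or_mem h).elim hφ fun h' => (p.isPrime.mem_or_mem h').elim hgp hep
    let B' := Localization.Away r
    have : IsScalarTower k A B' := IsScalarTower.of_algebraMap_eq (R := k) (S := A) (A := B') fun x => by
      rw [IsScalarTower.algebraMap_apply k B B', IsScalarTower.algebraMap_apply k A B]
      exact (IsScalarTower.algebraMap_apply A B B' _).symm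
    have : Algebra.Smooth B B' := Algebra.Smooth.of_isLocalization_Away r
    have : Algebra.Smooth k B' := Algebra.Smooth.comp k B B'
    have : Algebra.FormallyEtale B B' := Algebra.FormallyEtale.of_isLocalization (Submonoid.powers r)
    have hru : IsUnit (algebraMap B B' r) := IsLocalization.Away.algebraMap_isUnit r
    rw [map_mul, map_mul, IsUnit.mul_iff, IsUnit.mul_iff] at hru
    have hg' : IsUnit (algebraMap A B' g) := by
      rw [IsScalarTower.algebraMap_apply A B B']; exact hru.2.1
    let gB : Localization.Away g →+* B' := IsLocalization.Away.lift g hg'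
    have hgB : gB.comp (algebraMap A (Localization.Away g)) = algebraMap A B' := IsLocalization.Away.lift_comp g hg'
    have hgBk : gB.comp (algebraMap k (Localization.Away g)) = algebraMap k B' := by
      rw [IsScalarTower.algebraMap_eq k A (Localization.Away g), ← RingHom.comp_assoc, hgB,
        ← IsScalarTower.algebraMap_eq]
    let ψ' : LaurentPolynomial k →ₐ[k] B' :=
      { gB.comp ψ.toRingHom with
        commutes' := fun x => by
          change gB (ψ (algebraMap k _ x)) = _
          rw [ψ.commutes]
          exact RingHom.congr_fun hgBk x }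
    let f' : Ω[B'⁄k] →ₗ[B'] B' :=
      (LinearMap.liftBaseChange B' ((Algebra.linearMap B B').comp φ)) ∘ₗ
        (KaehlerDifferential.tensorKaehlerEquivOfFormallyEtale k B B').symm.toLinearMap
    have hsmooth : ψ'.toRingHom.Smooth := by
      refine UnitSmoothLib.smooth_of_unit_differential ψ' f' ?_
      have hT : ψ' (LaurentPolynomial.T 1) = algebraMap B B' (algebraMap A B g) := by
        change gB (ψ (LaurentPolynomial.T 1)) = _
        rw [hψT, ← RingHom.comp_apply, hgB, ← IsScalarTower.algebraMap_apply]
      rw [hT]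
      simp only [f', LinearMap.comp_apply, LinearEquiv.coe_coe,
        KaehlerDifferential.tensorKaehlerEquivOfFormallyEtale_symm_D_algebraMap,
        LinearMap.liftBaseChange_tmul, one_smul]
      exact hru.1
    let ι' := Spec.map (CommRingCat.ofHom (algebraMap B B'))
    let ιa := Spec.map (CommRingCat.ofHom (algebraMap A B))
    have : IsOpenImmersion ι' := IsOpenImmersion.of_isLocalization r
    have : IsOpenImmersion ιa := IsOpenImmersion.of_isLocalization a
    have hcomp : ι' ≫ ιa = Spec.map (CommRingCat.ofHom (algebraMap A B')) := by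
      rw [← Spec.map_comp, ← CommRingCat.ofHom_comp, ← IsScalarTower.algebraMap_eq]
    have hrange : Set.range (ι' ≫ ιa ≫ j) ⊆ Set.range ((j ''ᵁ V₀) ⊓ U).ι := by
      rw [Scheme.Opens.range_ι]
      rintro _ ⟨q, rfl⟩
      have hq1 : ιa (ι' q) ∈ (PrimeSpectrum.basicOpen a : Set (PrimeSpectrum A)) := by
        rw [← PrimeSpectrum.localization_away_comap_range (Localization.Away a) a]
        exact ⟨ι' q, rfl⟩
      have hqr : ι' q ∈ (PrimeSpectrum.basicOpen r : Set (PrimeSpectrum B)) := by
        rw [← PrimeSpectrum.localization_away_comap_range B' r]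
        exact ⟨q, rfl⟩
      refine ⟨⟨ιa (ι' q), ⟨?_, ?_⟩, rfl⟩, hS1 a ha hq1⟩
      · intro hmem
        exact hqr (Ideal.mul_mem_left _ _ (Ideal.mul_mem_right _ _ hmem))
      · refine heZ fun hmem => hqr (Ideal.mul_mem_left _ _ (Ideal.mul_mem_left _ _ hmem))
    let w : Spec (CommRingCat.of B') ⟶ ((j ''ᵁ V₀) ⊓ U : X.Opens) :=
      IsOpenImmersion.lift ((j ''ᵁ V₀) ⊓ U).ι (ι' ≫ ιa ≫ j) hrange
    have hw : IsOpenImmersion w :=
      have : IsOpenImmersion (w ≫ ((j ''ᵁ V₀) ⊓ U).ι) := by
        rw [IsOpenImmersion.lift_fac]; infer_instance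
      IsOpenImmersion.of_comp w ((j ''ᵁ V₀) ⊓ U).ι
    refine ⟨_, w, hw, ?_, ?_⟩
    · obtain ⟨q, hq⟩ : p ∈ Set.range (PrimeSpectrum.comap (algebraMap B B')) := by
        rw [PrimeSpectrum.localization_away_comap_range B' r]; exact hr
      refine ⟨q, Subtype.ext ?_⟩
      change ((w ≫ ((j ''ᵁ V₀) ⊓ U).ι) q : X) = y.1
      rw [IsOpenImmersion.lift_fac]
      change j (ιa (ι' q)) = y.1
      exact (congrArg j (((congrArg ιa hq : ιa (ι' q) = ιa p)).trans hp)).trans hzy
    · let u : Spec (CommRingCat.of B') ⟶ (↑V₀ : Scheme.{u}) :=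
        w ≫ X.homOfLE inf_le_left ≫ (j.isoImage V₀).inv
      have hu : u ≫ V₀.ι = ι' ≫ ιa := by
        rw [← cancel_mono j]
        simp only [u, Category.assoc, Scheme.Hom.isoImage_inv_ι, Scheme.homOfLE_ι]
        exact IsOpenImmersion.lift_fac _ _ _
      have hu2 : u ≫ IsOpenImmersion.lift ιg V₀.ι hV₀g = Spec.map (CommRingCat.ofHom gB) := by
        rw [← cancel_mono ιg, Category.assoc, IsOpenImmersion.lift_fac, hu, hcomp, ← Spec.map_comp,
          ← CommRingCat.ofHom_comp, hgB]
      have : w ≫ X.homOfLE inf_le_left ≫ (j.isoImage V₀).inv ≫ v₀ =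
          Spec.map (CommRingCat.ofHom ψ'.toRingHom) := by
        rw [show w ≫ X.homOfLE inf_le_left ≫ (j.isoImage V₀).inv ≫ v₀ = u ≫ v₀ by simp [u]]
        simp only [v₀]
        rw [reassoc_of% hu2, ← Spec.map_comp]
        rfl
      rw [this, HasRingHomProperty.Spec_iff (P := @Smooth)]
      exact hsmooth

end Groth.Agent.S16365
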