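import Groth.Statements.S16368
import Mathlib
import Mathlib
-- import your own Groth.Agent.* helpers here

set_option autoImplicit false
set_option maxHeartbeats 1000000
universe u v
open TensorProduct
open FrobAlg

namespace Groth.Agent.S16368

/-- Let R be a local ring of prime characteristic p and M a finitely presented R-module. Write R' for R
regarded as an R-algebra through its Frobenius a ↦ a^p, so that R' ⊗_R M is the pull-back of M along
the absolute Frobenius of Spec R, an R'-module. If this pull-back is isomorphic to M — there is a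
bijective map e : R' ⊗_R M → M, additive and semilinear for the identification R' = R — then M is
free. -/
theorem result
    (p : ℕ) [Fact p.Prime] (R : Type u) [CommRing R] [IsLocalRing R] [CharP R p]
    (M : Type v) [AddCommGroup M] [Module R M] [Module.FinitePresentation R M]
    (e : (FrobAlg.Twist p R ⊗[R] M) →ₛₗ[((FrobAlg.toTwist p R).symm : FrobAlg.Twist p R →+* R)] M)
    (he : Function.Bijective e) :
    Module.Free R M := by
  classical
  let τ := FrobAlg.toTwist p R
  have hex : ∃ n, ∃ m : Fin n → M, Submodule.span R (Set.range m) = ⊤ := Module.Finite.exists_fin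
  let n := Nat.find hex
  obtain ⟨m, hm⟩ := Nat.find_spec hex
  let π : (Fin n → R) →ₗ[R] M := Fintype.linearCombination R m
  have hπ : Function.Surjective π := by
    rw [← LinearMap.range_eq_top, Fintype.range_linearCombination, hm]
  -- a minimal presentation
  have hmin : ∀ c, π c = 0 → ∀ i, c i ∈ IsLocalRing.maximalIdeal R := by
    intro c hc i
    by_contra hu
    rw [IsLocalRing.mem_maximalIdeal, mem_nonunits_iff, not_not] at hu
    obtain ⟨N, hN⟩ : ∃ N, n = N + 1 := ⟨n - 1, by have := i.2; omega⟩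
    have hle : Submodule.span R (Set.range m) ≤ Submodule.span R (m '' {i}ᶜ) := by
      rw [Submodule.span_le]
      rintro _ ⟨j, rfl⟩
      rcases eq_or_ne j i with rfl | hj
      · obtain ⟨v, hv⟩ := hu.exists_left_inv
        rw [SetLike.mem_coe, ← one_smul R (m j), ← hv, mul_smul]
        refine Submodule.smul_mem _ _ ?_
        have hc' : ∑ l, c l • m l = 0 := hc
        rw [← Finset.add_sum_erase _ _ (Finset.mem_univ j), add_eq_zero_iff_eq_neg] at hc'
        rw [hc']
        exact Submodule.neg_mem _ (Submodule.sum_mem _ fun l hl => Submodule.smul_mem _ _ (Submodule.subset_span ⟨l, (Finset.mem_erase.1 hl).1, rfl⟩))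
      · exact Submodule.subset_span ⟨j, hj, rfl⟩
    let i' : Fin (N + 1) := Fin.cast hN i
    refine Nat.find_min hex (show N < n by omega) ⟨fun l => m (Fin.cast hN.symm (i'.succAbove l)), top_le_iff.1 ?_⟩
    refine hm.ge.trans (hle.trans (Submodule.span_mono ?_))
    rintro _ ⟨j, hj, rfl⟩
    obtain ⟨l, hl⟩ := Fin.exists_succAbove_eq (x := Fin.cast hN j) (y := i') (fun h => hj (Fin.cast_injective hN h))
    exact ⟨l, congrArg m (by rw [hl]; exact Fin.ext rfl)⟩
  -- relations
  obtain ⟨G, hG⟩ : (LinearMap.ker π).FG := Module.FinitePresentation.fg_ker π hπ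
  let J : Ideal R := Ideal.span ((fun g : (Fin n → R) × Fin n => g.1 g.2) '' ((G : Set _) ×ˢ Set.univ))
  have hJmem : ∀ g ∈ G, ∀ i, g i ∈ J := fun g hg i => Ideal.subset_span ⟨(g, i), ⟨hg, trivial⟩, rfl⟩
  have hJm : J ≤ IsLocalRing.maximalIdeal R := Ideal.span_le.2 (by
    rintro _ ⟨⟨g, i⟩, ⟨hg, -⟩, rfl⟩
    exact hmin g (LinearMap.mem_ker.1 (hG ▸ Submodule.subset_span hg)) i)
  -- the second presentation
  let π' : (Fin n → R) →ₗ[R] M :=
    { toFun := fun c => e (∑ i, τ (c i) ⊗ₜ[R] m i)
      map_add' := fun a b => by simp [TensorProduct.add_tmul, Finset.sum_add_distrib]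
      map_smul' := fun r a => by
        have : ∑ i, τ ((r • a) i) ⊗ₜ[R] m i = τ r • ∑ i, τ (a i) ⊗ₜ[R] m i := by
          rw [Finset.smul_sum]
          refine Finset.sum_congr rfl fun i _ => ?_
          rw [TensorProduct.smul_tmul', Pi.smul_apply, smul_eq_mul, map_mul, smul_eq_mul]
        show e (∑ i, τ ((r • a) i) ⊗ₜ[R] m i) = r • e (∑ i, τ (a i) ⊗ₜ[R] m i)
        rw [this, e.map_smulₛₗ]
        rfl }
  have hπ' : Function.Surjective π' := by
    intro y
    obtain ⟨z, rfl⟩ := he.2 y
    suffices ∃ c : Fin n → R, ∑ i, τ (c i) ⊗ₜ[R] m i = z by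
      obtain ⟨c, hc⟩ := this
      exact ⟨c, congrArg e hc⟩
    induction z using TensorProduct.induction_on with
    | zero => exact ⟨0, by simp⟩
    | tmul a x =>
      obtain ⟨c, rfl⟩ := hπ x
      refine ⟨fun i => τ.symm a * c i ^ p, ?_⟩
      show _ = a ⊗ₜ[R] (∑ i, c i • m i)
      rw [TensorProduct.tmul_sum]
      refine Finset.sum_congr rfl fun i _ => ?_
      rw [TensorProduct.tmul_smul, TensorProduct.smul_tmul', Algebra.smul_def, FrobAlg.algebraMap_twist, map_mul,
        RingEquiv.apply_symm_apply, mul_comm]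
    | add a b ha hb =>
      obtain ⟨c, rfl⟩ := ha
      obtain ⟨c', rfl⟩ := hb
      exact ⟨c + c', by simp [TensorProduct.add_tmul, Finset.sum_add_distrib]⟩
  have hker : ∀ c, π' c = 0 → ∀ i, c i ∈ Ideal.span ((fun g => g ^ p) '' (J : Set R)) := by
    intro c hc
    have h0 : ∑ i, τ (c i) ⊗ₜ[R] m i = 0 := he.1 (hc.trans (map_zero e).symm)
    let z : FrobAlg.Twist p R ⊗[R] (Fin n → R) := ∑ i, τ (c i) ⊗ₜ[R] (Pi.single i (1 : R) : Fin n → R)
    have hz : LinearMap.lTensor (FrobAlg.Twist p R) π z = 0 := by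
      rw [← h0]
      simp [z, π, Fintype.linearCombination_apply_single]
    have hex' := lTensor_exact (FrobAlg.Twist p R) (f := (LinearMap.ker π).subtype) (g := π)
      (LinearMap.exact_subtype_ker_map π) hπ
    obtain ⟨w, hw⟩ := (hex' z).1 hz
    intro i
    let ev : FrobAlg.Twist p R ⊗[R] (Fin n → R) →ₗ[R] FrobAlg.Twist p R :=
      TensorProduct.rid R (FrobAlg.Twist p R) ∘ₗ LinearMap.lTensor _ (LinearMap.proj i)
    have hev : ∀ (a : FrobAlg.Twist p R) (v : Fin n → R), τ.symm (ev (a ⊗ₜ v)) = τ.symm a * v i ^ p := fun a v => by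
      simp only [ev, LinearMap.comp_apply, LinearMap.lTensor_tmul, LinearEquiv.coe_coe, TensorProduct.rid_tmul,
        LinearMap.proj_apply, Algebra.smul_def, FrobAlg.algebraMap_twist, map_mul]
      rw [mul_comm]
      rfl
    have e1 : τ.symm (ev z) = c i := by
      simp only [z, map_sum, hev]
      rw [Finset.sum_eq_single i (fun l _ hl => by simp [Pi.single_eq_of_ne hl.symm, zero_pow (Fact.out : p.Prime).ne_zero])
        (fun h => absurd (Finset.mem_univ i) h)]
      simp [τ]
    rw [← e1, ← hw]
    clear hw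
    induction w using TensorProduct.induction_on with
    | zero => simp
    | tmul a v =>
      rw [LinearMap.lTensor_tmul, hev]
      refine Ideal.mul_mem_left _ _ (Ideal.subset_span ⟨(v : Fin n → R) i, ?_, rfl⟩)
      have hv : (v : Fin n → R) ∈ Submodule.span R (G : Set (Fin n → R)) := by rw [hG]; exact v.2
      exact Submodule.span_le.2 (fun g hg => show g ∈ (Submodule.pi Set.univ fun _ : Fin n => (J : Submodule R R)) from
        fun l _ => hJmem g hg l) hv i trivial
    | add a b ha hb => rw [map_add, map_add, map_add]; exact Ideal.add_mem _ ha hb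
  -- comparison
  obtain ⟨U, hU⟩ := Module.projective_lifting_property π π' hπ
  have hUs : Function.Surjective U := by
    rw [← LinearMap.range_eq_top]
    refine top_le_iff.1 (Submodule.le_of_le_smul_of_le_jacobson_bot (I := IsLocalRing.maximalIdeal R) Module.Finite.fg_top (IsLocalRing.maximalIdeal_le_jacobson ⊥) fun v _ => ?_)
    obtain ⟨c, hc⟩ := hπ' (π v)
    have hd : π (v - U c) = 0 := by
      rw [map_sub, ← LinearMap.comp_apply, hU, hc, sub_self]
    rw [← add_sub_cancel (U c) v]
    refine Submodule.add_mem_sup ⟨c, rfl⟩ ?_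
    rw [pi_eq_sum_univ (v - U c)]
    exact Submodule.sum_mem _ fun l _ => Submodule.smul_mem_smul (hmin _ hd l) Submodule.mem_top
  have hJ : J ≤ IsLocalRing.maximalIdeal R • J := by
    rw [Ideal.span_le]
    rintro _ ⟨⟨g, i⟩, ⟨hg, -⟩, rfl⟩
    obtain ⟨c, rfl⟩ := hUs g
    have hc : π' c = 0 := by
      have : U c ∈ LinearMap.ker π := by rw [← hG]; exact Submodule.subset_span hg
      rw [← hU]; exact this
    have hsub : Ideal.span ((fun g => g ^ p) '' (J : Set R)) ≤ IsLocalRing.maximalIdeal R • J := by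
      rw [Ideal.span_le]
      rintro _ ⟨a, ha, rfl⟩
      obtain ⟨q, hq⟩ : ∃ q, p = q + 2 := ⟨p - 2, by have := (Fact.out : p.Prime).two_le; omega⟩
      show a ^ p ∈ _
      rw [hq, show q + 2 = (q + 1) + 1 from rfl, pow_succ, Ideal.smul_eq_mul]
      exact Ideal.mul_mem_mul (Ideal.pow_mem_of_mem _ (hJm ha) _ (by omega)) ha
    show U c i ∈ _
    rw [pi_eq_sum_univ c, map_sum, Finset.sum_apply]
    refine Ideal.sum_mem _ fun l _ => ?_
    rw [map_smul, Pi.smul_apply, smul_eq_mul]
    exact Ideal.mul_mem_right _ _ (hsub (hker c hc l))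
  have hJfg : J.FG := ⟨(G ×ˢ Finset.univ).image fun g => g.1 g.2, by simp [J]⟩
  have hJ0 : J = ⊥ := Submodule.eq_bot_of_le_smul_of_le_jacobson_bot _ _ hJfg hJ (IsLocalRing.maximalIdeal_le_jacobson ⊥)
  have hinj : Function.Injective π := by
    rw [← LinearMap.ker_eq_bot, ← hG, Submodule.span_eq_bot]
    intro g hg
    funext i
    have := hJmem g hg i
    rw [hJ0] at this
    exact this
  exact Module.Free.of_equiv (LinearEquiv.ofBijective π ⟨hinj, hπ⟩)

end Groth.Agent.S16368
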