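import Groth.Statements.S16369
import Mathlib
import Groth.Agent.EtTwoLib.FrobCoker
-- import your own Groth.Agent.* helpers here

set_option autoImplicit false
universe u
open CategoryTheory AlgebraicGeometry Opposite
open FrobSch

namespace Groth.Agent.S16369

/-- (i) ⇒ (ii): let k be a perfect field of characteristic p and X a scheme proper over k. Let φ be the
p-th power map on the sheaf of additive groups underlying O_X and B its cokernel in abelian sheaves
(for X smooth over k this is the sheaf B¹ of locally exact one-forms, pushed down along Frobenius).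
If X is Frobenius split — φ admits a retraction s, an additive endomorphism of O_X with s(t^p) = t
and s(a^p·b) = a·s(b) on every open — then H^i(X, B) = 0 for every i. (The source states this for X
normal; normality is not used for this implication, and a split X is reduced anyway.) -/
theorem result
    (p : ℕ) [Fact p.Prime] (k : Type u) [Field k] [CharP k p] [PerfectField k]
    (X : Scheme.{u}) [X.Over (Spec (CommRingCat.of k))] [IsProper (X ↘ Spec (CommRingCat.of k))]
    (φ : Coh.toAb (Coh.structureModule X) ⟶ Coh.toAb (Coh.structureModule X))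
    (hφ : ∀ (U : X.Opens) (t : Γ(X, U)), φ.hom.app (op U) t = t ^ p)
    (s : Coh.toAb (Coh.structureModule X) ⟶ Coh.toAb (Coh.structureModule X))
    (hs : φ ≫ s = 𝟙 _)
    (hlin : ∀ (U : X.Opens) (a b : Γ(X, U)),
      s.hom.app (op U) (a ^ p * b) = a * @id Γ(X, U) (s.hom.app (op U) b))
    (i : ℕ) : Subsingleton (Sheaf.H (Limits.cokernel φ) i) := by
  classical
  haveI : Mono φ := mono_of_mono_fac hs
  let T : ShortComplex _ := ShortComplex.mk φ (Limits.cokernel.π φ) (Limits.cokernel.condition φ)
  have hT : T.ShortExact :=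
    { exact := ShortComplex.exact_of_g_is_cokernel _ (Limits.cokernelIsCokernel φ)
      mono_f := inferInstanceAs (Mono φ)
      epi_g := inferInstanceAs (Epi (Limits.cokernel.π φ)) }
  have hinj : ∀ j : ℕ, Function.Injective (Sheaf.H.map φ j) := fun j a b h => by
    have := congrArg (Sheaf.H.map s j) h
    rwa [← Sheaf.H.map_comp_apply, ← Sheaf.H.map_comp_apply, hs, Sheaf.H.map_id_apply, Sheaf.H.map_id_apply] at this
  have hsurj : Function.Surjective (Sheaf.H.map φ i) := by
    haveI : Module.Finite k (Coh.HH X (Coh.structureModule X) i) :=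
      CurvLib.finite_HH (DevissLib.isCoh_structureModule X) i
    have hk : ∀ c : k, ∃ d : k, d ^ p = c := fun c => surjective_frobenius k p c
    let ψ : Coh.HH X (Coh.structureModule X) i →+ Coh.HH X (Coh.structureModule X) i :=
      { toFun := fun x => Sheaf.H.map φ i x
        map_zero' := map_zero _
        map_add' := map_add _ }
    have hcomm : ∀ r : Coh.Γtop X, Coh.smulAb (Coh.structureModule X) r ≫ φ =
        φ ≫ Coh.smulAb (Coh.structureModule X) ((show Γ(X, ⊤) from r) ^ p : Γ(X, ⊤)) := fun r => by
      ext U m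
      change φ.hom.app U ((Coh.smulAb (Coh.structureModule X) r).hom.app U m) =
        (Coh.smulAb (Coh.structureModule X) _).hom.app U (φ.hom.app U m)
      erw [hφ U.unop, hφ U.unop, Coh.smulAb_app, Coh.smulAb_app]
      refine (mul_pow (show Γ(X, U.unop) from Coh.resTop X U r) (show Γ(X, U.unop) from m) p).trans ?_
      exact congrArg (· * _) (map_pow (Coh.resTop X U) r p).symm
    refine EtTwoLib.surjective_of_semilinear p hk ψ (fun c x => ?_) (hinj i)
    change Sheaf.H.map φ i (Sheaf.H.map (Coh.smulAb _ (Coh.toGlobal (X ↘ Spec (CommRingCat.of k)) c)) i x) =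
      Sheaf.H.map (Coh.smulAb _ (Coh.toGlobal (X ↘ Spec (CommRingCat.of k)) (c ^ p))) i (Sheaf.H.map φ i x)
    rw [map_pow, ← Sheaf.H.map_comp_apply, ← Sheaf.H.map_comp_apply, hcomm]
    rfl
  refine ⟨fun a b => ?_⟩
  let σ : Limits.cokernel φ ⟶ Coh.toAb (Coh.structureModule X) :=
    Limits.cokernel.desc φ (𝟙 _ - s ≫ φ) (by rw [Preadditive.comp_sub, ← Category.assoc, hs, Category.id_comp, Category.comp_id, sub_self])
  have hσ : σ ≫ Limits.cokernel.π φ = 𝟙 _ := by
    rw [← cancel_epi (Limits.cokernel.π φ), Limits.cokernel.π_desc_assoc, Preadditive.sub_comp, Category.assoc,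
      Limits.cokernel.condition, Category.id_comp, Limits.comp_zero, sub_zero, Category.comp_id]
  have h0 : ∀ w, Sheaf.H.map (φ ≫ Limits.cokernel.π φ) i w = 0 := fun w => by
    rw [Limits.cokernel.condition]
    change ((Sheaf.functorH _ i).map (0 : Coh.toAb (Coh.structureModule X) ⟶ Limits.cokernel φ)).hom w = 0
    rw [Functor.map_zero]
    rfl
  have hzero : ∀ z : Sheaf.H (Limits.cokernel φ) i, z = 0 := fun z => by
    obtain ⟨w, hw⟩ := hsurj (Sheaf.H.map σ i z)
    have := h0 w
    rwa [Sheaf.H.map_comp_apply, hw, ← Sheaf.H.map_comp_apply, hσ, Sheaf.H.map_id_apply] at this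
  exact (hzero a).trans (hzero b).symm

end Groth.Agent.S16369
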