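import Groth.Statements.S16370
import Mathlib
import Groth.Agent.EtTwoLib.FrobCoker
-- import your own Groth.Agent.* helpers here

set_option autoImplicit false
universe u
open CategoryTheory AlgebraicGeometry Opposite
open FrobSch

namespace Groth.Agent.S16370

/-- (ii) ⇒ (iii): let X be a reduced scheme of prime characteristic p, φ the p-th power map on the sheaf
of additive groups underlying O_X (a monomorphism, X being reduced) and B its cokernel in abelian
sheaves. If H^i(X, B) = 0 for all i ≥ 0, then the endomorphism of H^i(X, O_X) induced by φ — the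
Hasse–Witt operation — is bijective for all i. (The source has X normal and proper over a perfect
field; only reducedness enters this implication.) -/
theorem result
    (p : ℕ) [Fact p.Prime] (X : Scheme.{u}) [IsReduced X] (hp : (p : Γ(X, ⊤)) = 0)
    (φ : Coh.toAb (Coh.structureModule X) ⟶ Coh.toAb (Coh.structureModule X))
    (hφ : ∀ (U : X.Opens) (t : Γ(X, U)), φ.hom.app (op U) t = t ^ p)
    (hB : ∀ i : ℕ, Subsingleton (Sheaf.H (Limits.cokernel φ) i))
    (i : ℕ) : Function.Bijective (Sheaf.H.map φ i) := by
  classical
  haveI : Mono φ := Preadditive.mono_of_cancel_zero _ fun {G} g hg => by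
    ext U x
    have h : φ.hom.app U (g.hom.app U x) = 0 := by
      have := congrArg (fun ψ => ψ.hom.app U x) hg
      simpa using this
    have h' : (show Γ(X, U.unop) from g.hom.app U x) ^ p = 0 := (hφ U.unop _).symm.trans h
    exact (pow_eq_zero_iff (Fact.out : p.Prime).ne_zero).mp h'
  let T : ShortComplex _ := ShortComplex.mk φ (Limits.cokernel.π φ) (Limits.cokernel.condition φ)
  have hT : T.ShortExact :=
    { exact := ShortComplex.exact_of_g_is_cokernel _ (Limits.cokernelIsCokernel φ)
      mono_f := inferInstanceAs (Mono φ)
      epi_g := inferInstanceAs (Epi (Limits.cokernel.π φ)) }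
  refine ⟨?_, fun y => ?_⟩
  · rcases i with _ | i
    · exact AtlasCoh.hMap_injective (Y := X) (T := T) hT
    · refine (injective_iff_map_eq_zero _).mpr fun y hy => ?_
      obtain ⟨z, rfl⟩ := AtlasCoh.hExact₁ (Y := X) (T := T) hT i y hy
      haveI := hB i
      rw [Subsingleton.elim z (0 : Sheaf.H T.X₃ i), map_zero]
  · haveI := hB i
    exact AtlasCoh.hExact₂ (Y := X) (T := T) hT i y (Subsingleton.elim _ _)

end Groth.Agent.S16370
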