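import Groth.Statements.S16375
import Groth.Agent.DualFMLib.Twist.Adj
import Groth.Agent.ProjFormLib.Main
import Groth.Agent.DCohRestrLib.Scheme
import Groth.Agent.TensorAssocLib.Derived

set_option autoImplicit false
set_option backward.isDefEq.respectTransparency false
set_option backward.isDefEq.respectTransparency.types false
universe u
open CategoryTheory CategoryTheory.Limits AlgebraicGeometry
attribute [local instance] HasDerivedCategory.standard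
open FMK

namespace Groth.Agent.S16375

/-- Let k be an algebraically closed field, X and Y schemes over k with structure morphisms a and b, and
P a cochain complex of modules on the fibre product X ×_k Y (no condition on P, X or Y). Write Φ_P =
Rpr_{Y,*}(Lpr_X^*(−) ⊗^L P) : D(O_X) → D(O_Y) and Ψ_P = Rpr_{X,*}(Lpr_Y^*(−) ⊗^L P) : D(O_Y) →
D(O_X), the derived functors involved being assumed to exist. Let E be a cochain complex of
O_X-modules and F a cochain complex of O_Y-modules whose images in the derived categories are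
perfect. Then RΓ(X, Ψ_P(F) ⊗^L E) and RΓ(Y, Φ_P(E) ⊗^L F) are isomorphic objects of D(Ab) (existence
of an isomorphism only; the published statement records the resulting isomorphisms H^i(X, E ⊗ Ψ_P F)
≅ H^i(Y, Φ_P E ⊗ F) of hypercohomology groups for every i). -/
theorem result (k : Type u) [Field k] [IsAlgClosed k]
    (X Y : Scheme.{u}) (a : X ⟶ Spec (CommRingCat.of k)) (b : Y ⟶ Spec (CommRingCat.of k))
    (P : CochainComplex (pullback a b).Modules ℤ)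
    [DCoh.HasLpull (pullback.fst a b)] [DCoh.HasLpull (pullback.snd a b)] [DCoh.HasLTensorCx P]
    [DCoh.HasRpush (pullback.fst a b)] [DCoh.HasRpush (pullback.snd a b)]
    [DCoh.HasRΓ X] [DCoh.HasRΓ Y]
    (E : CochainComplex X.Modules ℤ) (hE : DCoh.IsPerfect (DCoh.toD X E)) [DCoh.HasLTensorCx E]
    (F : CochainComplex Y.Modules ℤ) (hF : DCoh.IsPerfect (DCoh.toD Y F)) [DCoh.HasLTensorCx F] :
    Nonempty ((DCoh.RΓ X).obj ((DCoh.LTensorCx E).obj
        ((DCoh.Lpull (pullback.snd a b) ⋙ DCoh.LTensorCx P ⋙ DCoh.Rpush (pullback.fst a b)).obj (DCoh.toD Y F))) ≅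
      (DCoh.RΓ Y).obj ((DCoh.LTensorCx F).obj ((FMK.phi a b P).obj (DCoh.toD X E)))) := by
  let p := pullback.fst a b
  let q := pullback.snd a b
  obtain ⟨E₀, hE₀, ⟨eE⟩⟩ := DualFMLib.exists_flat_rep (DCoh.toD X E)
  obtain ⟨F₀, hF₀, ⟨eF⟩⟩ := DualFMLib.exists_flat_rep (DCoh.toD Y F)
  obtain ⟨P₀, hP₀, ⟨eP⟩⟩ := DualFMLib.exists_flat_rep (DCoh.toD _ P)
  haveI := KFlatLib.hasLTensorCx E₀
  haveI := KFlatLib.hasLTensorCx F₀
  haveI := KFlatLib.hasLTensorCx P₀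
  let E₁ := (ProjFormLib.pullC p).obj E₀
  let F₁ := (ProjFormLib.pullC q).obj F₀
  haveI := KFlatLib.hasLTensorCx E₁
  haveI := KFlatLib.hasLTensorCx F₁
  have hE₁ : DCoh.IsKFlat E₁ := KFlatLib.isKFlat_pull p hE₀
  have hF₁ : DCoh.IsKFlat F₁ := KFlatLib.isKFlat_pull q hF₀
  obtain ⟨cE⟩ := ProjFormLib.nonempty_lTensor_congr_iso eE
  obtain ⟨cF⟩ := ProjFormLib.nonempty_lTensor_congr_iso eF
  obtain ⟨cP⟩ := ProjFormLib.nonempty_lTensor_congr_iso eP
  haveI := BidualSchLib.hasRSheafHom E₀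
  haveI : DCoh.HasRΓ (pullback a b) := DCohRestrLib.hasRΓ (pullback a b)
  obtain ⟨gX⟩ := DCohRestrLib.nonempty_RΓ_Rpush p
  obtain ⟨gY⟩ := DCohRestrLib.nonempty_RΓ_Rpush q
  let T := ((DCoh.tensorCx (X := pullback a b)).obj P₀).obj E₁
  haveI := KFlatLib.hasLTensorCx T
  obtain ⟨cT⟩ := TensorAssocLib.nonempty_lTensor_comp P₀ E₁ hE₁
  let lF : DCoh.toD _ F₁ ≅ (DCoh.Lpull q).obj (DCoh.toD Y F) :=
    (KFlatLib.lpullObjIso q F₀ hF₀).symm ≪≫ (DCoh.Lpull q).mapIso eF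
  let lE : DCoh.toD _ E₁ ≅ (DCoh.Lpull p).obj (DCoh.toD X E) :=
    (KFlatLib.lpullObjIso p E₀ hE₀).symm ≪≫ (DCoh.Lpull p).mapIso eE
  have hT : DCoh.IsKFlat T := KFlatLib.isKFlat_tensorCx hP₀ hE₁
  -- the swap
  let sw : (DCoh.LTensorCx E₁).obj ((DCoh.LTensorCx P₀).obj (DCoh.toD _ F₁)) ≅
      (DCoh.LTensorCx F₁).obj ((DCoh.LTensorCx P₀).obj (DCoh.toD _ E₁)) :=
    cT.app _ ≪≫ (Dual3Lib.flatCnt' T hT).app F₁ ≪≫
      DerivedCategory.Q.mapIso (PerfDualLib.bX F₁ T ≪≫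
        ((DCoh.tensorCx (X := pullback a b)).mapIso (PerfDualLib.bX P₀ E₁)).app F₁) ≪≫
      ((Dual3Lib.flatCnt' F₁ hF₁).app _).symm ≪≫
      (DCoh.LTensorCx F₁).mapIso ((Dual3Lib.flatCnt' P₀ hP₀).app E₁).symm
  let AF := (DCoh.LTensorCx P).obj ((DCoh.Lpull q).obj (DCoh.toD Y F))
  let AE := (DCoh.LTensorCx P).obj ((DCoh.Lpull p).obj (DCoh.toD X E))
  obtain ⟨pX⟩ := ProjFormLib.nonempty_projection_formula p E₀ hE₀
    (PerfLib.isPerfect_of_iso eE.symm hE) AF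
  obtain ⟨pY⟩ := ProjFormLib.nonempty_projection_formula q F₀ hF₀
    (PerfLib.isPerfect_of_iso eF.symm hF) AE
  exact ⟨(DCoh.RΓ X).mapIso ((cE.app _).symm ≪≫ pX) ≪≫ gX.app _ ≪≫
    (DCoh.RΓ _).mapIso ((DCoh.LTensorCx E₁).mapIso ((cP.app _).symm ≪≫
        (DCoh.LTensorCx P₀).mapIso lF.symm) ≪≫ sw ≪≫
      (DCoh.LTensorCx F₁).mapIso ((DCoh.LTensorCx P₀).mapIso lE ≪≫ cP.app _)) ≪≫
    (gY.app _).symm ≪≫ (DCoh.RΓ Y).mapIso (pY.symm ≪≫ cF.app _)⟩

end Groth.Agent.S16375
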