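import Groth.Statements.S16377
import Groth.Agent.S16375
import Groth.Agent.FMKLib.Supp

set_option autoImplicit false
set_option backward.isDefEq.respectTransparency false
set_option backward.isDefEq.respectTransparency.types false
universe u
open CategoryTheory CategoryTheory.Limits AlgebraicGeometry
attribute [local instance] HasDerivedCategory.standard
open FMK

namespace Groth.Agent.S16377

/-- Let k be an algebraically closed field, X a scheme over k and Y a quasi-compact scheme locally of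
finite type over k (structure morphisms a and b) of dimension at most g, and P a cochain complex of
modules on X ×_k Y. Write Φ_P = Rpr_{Y,*}(Lpr_X^*(−) ⊗^L P) : D(O_X) → D(O_Y), Ψ_P =
Rpr_{X,*}(Lpr_Y^*(−) ⊗^L P) : D(O_Y) → D(O_X) and R^iΦ_P(F) = H^i(Φ_P(F)), the derived functors
involved being assumed to exist. Let k' ≥ 0 and let F be a cochain complex of O_X-modules defining a
perfect object which is a GV_{k'}-object with respect to P: R^iΦ_P(F) = 0 for i < 0, and for i ≥ 0
the support of R^iΦ_P(F) has codimension at least i − k' in Y (the local ring of Y at each point of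
the support has Krull dimension ≥ i − k'). Let N be a finite locally free O_Y-module. Then H^i(X,
Ψ_P(N) ⊗^L F) = 0 for every i < 0 and every i > g + k'. (The published statement carries an extra
shift N[h] by an integer h and asserts vanishing of H^i(X, F ⊗ Ψ_P(N[h])) for i outside [0, dim Y −
h + k']; since that group is H^{i+h}(X, F ⊗ Ψ_P N), the correct range is i outside [−h, dim Y + k' −
h], which for h = 0 is the statement here, and for h > 0 the published range is wrong: X = Y = Spec
k, P = k, F = N = k, k' = 0, h = 1 gives H^{−1}(F ⊗ N[1]) = k ≠ 0.) -/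
theorem result (k : Type u) [Field k] [IsAlgClosed k]
    (X Y : Scheme.{u}) (a : X ⟶ Spec (CommRingCat.of k)) (b : Y ⟶ Spec (CommRingCat.of k))
    [LocallyOfFiniteType b] [QuasiCompact b] (g : ℕ) (hg : topologicalKrullDim ↥Y ≤ (g : WithBot ℕ∞))
    (P : CochainComplex (pullback a b).Modules ℤ)
    [DCoh.HasLpull (pullback.fst a b)] [DCoh.HasLpull (pullback.snd a b)] [DCoh.HasLTensorCx P]
    [DCoh.HasRpush (pullback.fst a b)] [DCoh.HasRpush (pullback.snd a b)] [DCoh.HasRΓ X]
    (k' : ℕ) (F : CochainComplex X.Modules ℤ) (hF : DCoh.IsPerfect (DCoh.toD X F)) [DCoh.HasLTensorCx F]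
    (hneg : ∀ i : ℤ, i < 0 → IsZero (DCoh.HD ((FMK.phi a b P).obj (DCoh.toD X F)) i))
    (hcodim : ∀ (i : ℕ) (y : ↥Y), y ∈ CohB1.support (DCoh.HD ((FMK.phi a b P).obj (DCoh.toD X F)) (i : ℤ)) →
      ((i - k' : ℕ) : WithBot ℕ∞) ≤ ringKrullDim ↑(Y.presheaf.stalk y))
    (N : Y.Modules) (hN : FlatMod.IsFinLocFree N) (i : ℤ) (hi : i < 0 ∨ (g : ℤ) + k' < i) :
    IsZero ((DerivedCategory.homologyFunctor AddCommGrpCat.{u} i).obj ((DCoh.RΓ X).obj
      ((DCoh.LTensorCx F).obj ((DCoh.Lpull (pullback.snd a b) ⋙ DCoh.LTensorCx P ⋙ DCoh.Rpush (pullback.fst a b)).obj (DCoh.inD Y N))))) := by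
  haveI : IsLocallyNoetherian Y := LocallyOfFiniteType.isLocallyNoetherian b
  haveI : CompactSpace Y := QuasiCompact.compactSpace_of_compactSpace b
  haveI : IsNoetherian Y := ⟨⟩
  haveI := KFlatLib.hasLTensorCx (FMKLib.oneCx N)
  haveI := DCohRestrLib.hasRΓ Y
  obtain ⟨e⟩ := S16375.result k X Y a b P F hF (FMKLib.oneCx N) (FMKLib.isPerfect_oneCx N hN)
  let Φ := (FMK.phi a b P).obj (DCoh.toD X F)
  let T := (DCoh.LTensorCx (FMKLib.oneCx N)).obj Φ
  have hflat : FlatMod.IsFlat N := KFlatLib.isFlat_of_isFinLocFree hN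
  have hsupp : ∀ (q : ℤ) (y : Y), y ∈ CohB1.support (DCoh.HD T q) →
      0 ≤ q ∧ Order.height (irreducibleSetEquivPoints.symm y) + ((q.toNat - k' : ℕ) : ℕ∞) ≤ (g : ℕ∞) := by
    intro q y hy
    have hy' := FMKLib.support_HD_twist N hflat Φ q hy
    have hq : 0 ≤ q := by
      by_contra hq
      rw [(DCohRestrLib.isZero_iff_support_empty _).1 (hneg q (by omega))] at hy'
      exact hy'
    refine ⟨hq, FMKLib.height_add_le g hg y _ (hcodim q.toNat y ?_)⟩
    rwa [Int.toNat_of_nonneg hq]
  have hzero : ∀ q : ℤ, (q < 0 ∨ (g : ℤ) + k' < q) → IsZero (DCoh.HD T q) := fun q hq => by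
    rw [DCohRestrLib.isZero_iff_support_empty, Set.eq_empty_iff_forall_notMem]
    intro y hy
    obtain ⟨h0, h1⟩ := hsupp q y hy
    have h2 : ((q.toNat - k' : ℕ) : ℕ∞) ≤ (g : ℕ∞) := le_trans le_add_self h1
    have := Nat.cast_le.mp h2
    omega
  haveI : T.IsGE 0 := (DerivedCategory.isGE_iff T 0).2 fun q hq => hzero q (Or.inl hq)
  haveI : T.IsLE ((g : ℤ) + k') := (DerivedCategory.isLE_iff T _).2 fun q hq => hzero q (Or.inr hq)
  rw [FMKLib.isZero_RΓ_iff]
  have key : FMKLib.NoHom T i := FMKLib.noHom_of_HD T 0 ((g : ℤ) + k') i fun q hqi => by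
    by_cases hq : q < 0
    · exact AVIndexLib.subsingleton_HH_isZero (hzero q (Or.inl hq)) _
    · by_cases hq' : (g : ℤ) + k' < q
      · exact AVIndexLib.subsingleton_HH_isZero (hzero q (Or.inr hq')) _
      refine FMKLib.subsingleton_HH_of_height (DCoh.HD T q) (g - (q.toNat - k')) (fun y hy => ?_) _ (by omega)
      have h1 := (hsupp q y hy).2
      have hle : q.toNat - k' ≤ g := by omega
      rw [← (ENat.addLECancellable_of_ne_top (ENat.natCast_ne_top (q.toNat - k'))).add_le_add_iff_right]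
      refine h1.trans (le_of_eq ?_)
      rw [← Nat.cast_add, Nat.sub_add_cancel hle]
  exact (FMKLib.isZero_RΓ_iff _ i).1 (((FMKLib.isZero_RΓ_iff T i).2 key).of_iso
    ((DerivedCategory.homologyFunctor AddCommGrpCat.{u} i).mapIso e))

end Groth.Agent.S16377
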