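import Groth.Statements.S16379
import Groth.Agent.FMKLib.ShiftHom
import Groth.Agent.FMKLib.GV
import Groth.Agent.FMKLib.CMDual
import Groth.Agent.FMKLib.Ample

set_option autoImplicit false
set_option backward.isDefEq.respectTransparency false
set_option backward.isDefEq.respectTransparency.types false
universe u
open CategoryTheory CategoryTheory.Limits AlgebraicGeometry
attribute [local instance] HasDerivedCategory.standard
open FMK

namespace Groth.Agent.S16379

/-- Let k be an algebraically closed field, X and Y proper schemes over k with structure morphisms a and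
b, all of whose local rings are Cohen–Macaulay, X equidimensional of dimension d (every irreducible
component has dimension d). Let Ra_* on D_QCoh have the right adjoint a^× (given as data with its
adjunction), O an object of D_QCoh(Spec k) isomorphic to the structure sheaf in degree 0, and ω_X =
H^{−d}(a^×O) the dualizing module of X; write RΔ(F) = RHom(F, ω_X). Let P be a cochain complex of
modules on X ×_k Y defining a perfect object, and P' a cochain complex representing its derived dual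
RHom(P, O_{X×Y}). For a kernel K write Φ_K = Rpr_{Y,*}(Lpr_X^*(−) ⊗^L K) : D(O_X) → D(O_Y) and
R^iΦ_K = H^i ∘ Φ_K; the derived functors and internal RHom involved are assumed to exist. Let k' ≥ 0
and let F be a cochain complex of O_X-modules defining a perfect object which satisfies WIT_[d−k',d]
with respect to P: R^iΦ_P(F) = 0 for every i outside [d − k', d]. Then RΔ(F) is a GV_{k'}-object
with respect to P': R^iΦ_{P'}(RΔ F) = 0 for i < 0, and for i ≥ 0 the support of R^iΦ_{P'}(RΔ F) has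
codimension at least i − k' (the local ring of Y at each of its points has Krull dimension ≥ i −
k'). -/
theorem result (k : Type u) [Field k] [IsAlgClosed k]
    (X Y : Scheme.{u}) (a : X ⟶ Spec (CommRingCat.of k)) (b : Y ⟶ Spec (CommRingCat.of k)) [IsProper a] [IsProper b]
    (hXcm : ∀ x : ↥X, LocCoh.IsCohenMacaulayLocalRing ↑(X.presheaf.stalk x))
    (hYcm : ∀ y : ↥Y, LocCoh.IsCohenMacaulayLocalRing ↑(Y.presheaf.stalk y))
    (d : ℕ) (hd : topologicalKrullDim ↥X = (d : WithBot ℕ∞))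
    (hXeq : ∀ Z ∈ irreducibleComponents ↥X, topologicalKrullDim ↥Z = (d : WithBot ℕ∞))
    [DCoh.HasRpush a] (ha : DCoh.RpushPreservesQCoh a)
    (adx : DCoh.DQCoh (Spec (CommRingCat.of k)) ⥤ DCoh.DQCoh X) (adj : DCoh.RpushQ a ha ⊣ adx)
    (O : DCoh.DQCoh (Spec (CommRingCat.of k)))
    (hO : Nonempty (O.obj ≅ DCoh.inD (Spec (CommRingCat.of k)) (Coh.structureModule (Spec (CommRingCat.of k)))))
    (P : CochainComplex (pullback a b).Modules ℤ) (hP : DCoh.IsPerfect (DCoh.toD (pullback a b) P))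
    [DCoh.HasLpull (pullback.fst a b)] [DCoh.HasLTensorCx P] [DCoh.HasRSheafHom P] [DCoh.HasRpush (pullback.snd a b)]
    (P' : CochainComplex (pullback a b).Modules ℤ) [DCoh.HasLTensorCx P']
    (hP' : Nonempty (DCoh.toD (pullback a b) P' ≅
      (DCoh.RSheafHom P).obj (DCoh.inD (pullback a b) (Coh.structureModule (pullback a b)))))
    (k' : ℕ) (F : CochainComplex X.Modules ℤ) (hF : DCoh.IsPerfect (DCoh.toD X F)) [DCoh.HasLTensorCx F] [DCoh.HasRSheafHom F]
    (hWIT : ∀ i : ℤ, i < (d : ℤ) - k' ∨ (d : ℤ) < i → IsZero (DCoh.HD ((FMK.phi a b P).obj (DCoh.toD X F)) i)) :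
    (∀ i : ℤ, i < 0 → IsZero (DCoh.HD ((FMK.phi a b P').obj
      ((DCoh.RSheafHom F).obj (DCoh.inD X (DCoh.HD (adx.obj O).obj (-(d : ℤ)))))) i)) ∧
    (∀ (i : ℕ) (y : ↥Y), y ∈ CohB1.support (DCoh.HD ((FMK.phi a b P').obj
      ((DCoh.RSheafHom F).obj (DCoh.inD X (DCoh.HD (adx.obj O).obj (-(d : ℤ)))))) (i : ℤ)) →
      ((i - k' : ℕ) : WithBot ℕ∞) ≤ ringKrullDim ↑(Y.presheaf.stalk y)) := by
  haveI : IsLocallyNoetherian Y := LocallyOfFiniteType.isLocallyNoetherian b
  haveI : CompactSpace Y := QuasiCompact.compactSpace_of_compactSpace b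
  haveI : IsNoetherian Y := ⟨⟩
  obtain ⟨eO⟩ := hO
  obtain ⟨eP'⟩ := hP'
  obtain ⟨-, ⟨ew⟩⟩ := FMKLib.nonempty_rightAdjoint_iso_single a ha adx adj O eO hXcm d hd hXeq
  let w := DCoh.HD (adx.obj O).obj (-(d : ℤ))
  obtain ⟨F', hF'h, hF'r, eF', hW⟩ := FMKLib.exists_shift_model F (d : ℤ)
  haveI := hF'h
  haveI := hF'r
  have hF'p : DCoh.IsPerfect (DerivedCategory.Q.obj F') :=
    PerfLib.isPerfect_of_iso eF'.symm (PerfLib.isPerfect_shift hF d)
  obtain ⟨sh⟩ := FMKLib.nonempty_phi_shift a b P (DCoh.toD X F) (d : ℤ)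
  let K' := DerivedCategory.Q.objPreimage ((FMK.phi a b P).obj (DerivedCategory.Q.obj F'))
  let eK := DerivedCategory.Q.objObjPreimageIso ((FMK.phi a b P).obj (DerivedCategory.Q.obj F'))
  haveI := KFlatLib.hasLTensorCx K'
  haveI := BidualSchLib.hasRSheafHom K'
  obtain ⟨main⟩ := FMKLib.nonempty_dual_phi a b ha adx adj O eO P hP P' eP' F' hF'p K' eK
  let e : (DerivedCategory.singleFunctor X.Modules (-(d : ℤ))).obj w ≅ (DCoh.inD X w)⟦(d : ℤ)⟧ :=
    (((DerivedCategory.singleFunctors X.Modules).shiftIso (d : ℤ) (-(d : ℤ)) 0 (by omega)).app w).symm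
  obtain ⟨hw⟩ := hW (DCoh.inD X w)
  have hK'p : DCoh.IsPerfect (DerivedCategory.Q.obj K') :=
    PerfLib.isPerfect_of_iso eK.symm (FMKLib.isPerfect_phi k a b P hP _ hF'p)
  let eH : ∀ j : ℤ, DCoh.HD (DerivedCategory.Q.obj K') j ≅
      DCoh.HD ((FMK.phi a b P).obj (DCoh.toD X F)) ((d : ℤ) + j) := fun j =>
    (DerivedCategory.homologyFunctor Y.Modules j).mapIso (eK ≪≫ (FMK.phi a b P).mapIso eF' ≪≫ sh) ≪≫
      ((DerivedCategory.homologyFunctor Y.Modules 0).shiftIso (d : ℤ) j ((d : ℤ) + j) rfl).app _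
  refine FMKLib.gv_of_isDualOf K' hK'p _ (fun {_ _} => ?_) k' fun j hj =>
    (hWIT _ (by omega)).of_iso (eH j)
  exact ⟨(main ≪≫ (FMK.phi a b P').mapIso ((DCoh.RSheafHom F').mapIso (ew ≪≫ e) ≪≫ hw)).symm⟩

end Groth.Agent.S16379
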