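import Groth.Statements.S1638
import Groth.Agent.CSALib.Basic

set_option autoImplicit false
universe u
open Brauer

namespace Groth.Agent.S1638

open scoped TensorProduct

/-- Let A and A' be algebras over a field k with subalgebras B ⊆ A and B' ⊆ A' having centralizers C and
C'. Then the centralizer of the image of B ⊗ B' in A ⊗_k A' is the image of C ⊗_k C'. -/
theorem result (k : Type u) [Field k] (A A' : Type u) [Ring A] [Ring A'] [Algebra k A] [Algebra k A']
    (B : Subalgebra k A) (B' : Subalgebra k A') :
    Subalgebra.centralizer k ((Algebra.TensorProduct.map B.val B'.val).range : Set (TensorProduct k A A')) =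
      (Algebra.TensorProduct.map (Subalgebra.centralizer k (B : Set A)).val (Subalgebra.centralizer k (B' : Set A')).val).range := by
  apply le_antisymm
  · intro z hz
    rw [Subalgebra.mem_centralizer_iff] at hz
    let C := Subalgebra.centralizer k (B : Set A)
    let C' := Subalgebra.centralizer k (B' : Set A')
    let e := Module.Free.chooseBasis k A'
    obtain ⟨f, hf⟩ := TensorProduct.eq_repr_basis_right e z
    have hmem : ∀ i, f i ∈ C := fun i => (Subalgebra.mem_centralizer_iff k).2 fun b hb => by
      have h := hz (b ⊗ₜ[k] (1 : A')) ⟨(⟨b, hb⟩ : B) ⊗ₜ (1 : B'), by simp⟩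
      rw [← hf] at h
      simp only [Finsupp.sum, Finset.mul_sum, Finset.sum_mul, Algebra.TensorProduct.tmul_mul_tmul, one_mul,
        mul_one] at h
      have h0 := TensorProduct.sum_tmul_basis_right_eq_zero e (f.mapRange (fun a => b * a - a * b) (by simp)) (by
        rw [Finsupp.sum_mapRange_index (fun i => by simp), Finsupp.sum]
        simp only [TensorProduct.sub_tmul, Finset.sum_sub_distrib, h, sub_self])
      have h1 := DFunLike.congr_fun h0 i
      rwa [Finsupp.mapRange_apply, Finsupp.coe_zero, Pi.zero_apply, sub_eq_zero] at h1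
    let w : C ⊗[k] A' := ∑ i ∈ f.support, (⟨f i, hmem i⟩ : C) ⊗ₜ e i
    have hw : Algebra.TensorProduct.map C.val (AlgHom.id k A') w = z := by
      rw [← hf, Finsupp.sum, map_sum]; simp
    have hinj : Function.Injective (Algebra.TensorProduct.map C.val (AlgHom.id k A')) :=
      Module.Flat.rTensor_preserves_injective_linearMap (M := A') C.val.toLinearMap Subtype.val_injective
    let e' := Module.Free.chooseBasis k C
    obtain ⟨g, hg⟩ := TensorProduct.eq_repr_basis_left e' w
    have hmem' : ∀ i, g i ∈ C' := fun i => (Subalgebra.mem_centralizer_iff k).2 fun b hb => by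
      have h : ((1 : C) ⊗ₜ[k] b) * w = w * ((1 : C) ⊗ₜ[k] b) := by
        apply hinj
        rw [map_mul, map_mul, hw]
        simpa using hz ((1 : A) ⊗ₜ[k] b) ⟨(1 : B) ⊗ₜ (⟨b, hb⟩ : B'), by simp⟩
      rw [← hg] at h
      simp only [Finsupp.sum, Finset.mul_sum, Finset.sum_mul, Algebra.TensorProduct.tmul_mul_tmul, one_mul,
        mul_one] at h
      have h0 := TensorProduct.sum_tmul_basis_left_eq_zero e' (g.mapRange (fun a => b * a - a * b) (by simp)) (by
        rw [Finsupp.sum_mapRange_index (fun i => by simp), Finsupp.sum]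
        simp only [TensorProduct.tmul_sub, Finset.sum_sub_distrib, h, sub_self])
      have h1 := DFunLike.congr_fun h0 i
      rwa [Finsupp.mapRange_apply, Finsupp.coe_zero, Pi.zero_apply, sub_eq_zero] at h1
    refine ⟨∑ i ∈ g.support, (e' i) ⊗ₜ (⟨g i, hmem' i⟩ : C'), ?_⟩
    rw [← hw, ← hg, Finsupp.sum]
    simp [C, C']
  · rintro _ ⟨w, rfl⟩
    rw [Subalgebra.mem_centralizer_iff]
    rintro _ ⟨v, rfl⟩
    change Commute _ _
    induction v with
    | zero => simp
    | add p q hp hq => rw [map_add]; exact hp.add_left hq
    | tmul b b' =>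
      induction w with
      | zero => simp
      | add p q hp hq => rw [map_add]; exact hp.add_right hq
      | tmul c c' =>
        exact Commute.tmul ((Subalgebra.mem_centralizer_iff k).1 c.2 _ b.2)
          ((Subalgebra.mem_centralizer_iff k).1 c'.2 _ b'.2)

end Groth.Agent.S1638
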