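import Groth.Statements.S16380
import Groth.Agent.FMKLib.GV
import Groth.Agent.FMKLib.DualVan
import Groth.Agent.FMKLib.TwistBound
import Groth.Agent.MiscFlat6.TensorGG

set_option autoImplicit false
set_option backward.isDefEq.respectTransparency false
set_option backward.isDefEq.respectTransparency.types false
universe u
open CategoryTheory CategoryTheory.Limits AlgebraicGeometry
attribute [local instance] HasDerivedCategory.standard
open FMK

namespace Groth.Agent.S16380

/-- Let k be an algebraically closed field, X and Y proper schemes over k with structure morphisms a and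
b, all of whose local rings are Cohen–Macaulay, X equidimensional of dimension d and Y
equidimensional of dimension g. Let Rb_* on D_QCoh have the right adjoint b^× (given as data with
its adjunction), O an object of D_QCoh(Spec k) isomorphic to the structure sheaf in degree 0, and
ω_Y = H^{−g}(b^×O) the dualizing module of Y. Let L be an ample invertible O_Y-module with an
inverse L' (L ⊗ L' ≅ O_Y), and P a cochain complex of modules on X ×_k Y defining a perfect object.
Write Φ_P = Rpr_{Y,*}(Lpr_X^*(−) ⊗^L P), Ψ_P = Rpr_{X,*}(Lpr_Y^*(−) ⊗^L P) and R^iΦ_P = H^i ∘ Φ_P,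
the derived functors involved being assumed to exist. Let k' ≥ 0 and F a cochain complex of
O_X-modules defining a perfect object. Suppose that for every sufficiently large n (all n ≥ some n₀)
the hypercohomology H^j(X, Ψ_P(L'^{⊗ n} ⊗ ω_Y) ⊗^L F) vanishes for every integer j outside [g, g +
k']. Then F is a GV_{k'}-object with respect to P: R^iΦ_P(F) = 0 for i < 0, and for i ≥ 0 the
support of R^iΦ_P(F) has codimension at least i − k' in Y (the local ring of Y at each of its points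
has Krull dimension ≥ i − k'). (The published hypothesis is H^i(F ⊗ Ψ_{P[g]}(A^{−1} ⊗ ω_Y)) = 0 for
i outside [0, k'] and A any sufficiently positive ample line bundle; the kernel shift [g] is
absorbed into the degree, and A^{−1} is rendered as the powers of the inverse of a fixed ample L.) -/
theorem result (k : Type u) [Field k] [IsAlgClosed k]
    (X Y : Scheme.{u}) (a : X ⟶ Spec (CommRingCat.of k)) (b : Y ⟶ Spec (CommRingCat.of k)) [IsProper a] [IsProper b]
    (hXcm : ∀ x : ↥X, LocCoh.IsCohenMacaulayLocalRing ↑(X.presheaf.stalk x))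
    (hYcm : ∀ y : ↥Y, LocCoh.IsCohenMacaulayLocalRing ↑(Y.presheaf.stalk y))
    (d : ℕ) (hd : topologicalKrullDim ↥X = (d : WithBot ℕ∞))
    (hXeq : ∀ Z ∈ irreducibleComponents ↥X, topologicalKrullDim ↥Z = (d : WithBot ℕ∞))
    (g : ℕ) (hg : topologicalKrullDim ↥Y = (g : WithBot ℕ∞))
    (hYeq : ∀ Z ∈ irreducibleComponents ↥Y, topologicalKrullDim ↥Z = (g : WithBot ℕ∞))
    [DCoh.HasRpush b] (hb : DCoh.RpushPreservesQCoh b)
    (bdx : DCoh.DQCoh (Spec (CommRingCat.of k)) ⥤ DCoh.DQCoh Y) (adj : DCoh.RpushQ b hb ⊣ bdx)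
    (O : DCoh.DQCoh (Spec (CommRingCat.of k)))
    (hO : Nonempty (O.obj ≅ DCoh.inD (Spec (CommRingCat.of k)) (Coh.structureModule (Spec (CommRingCat.of k)))))
    (L L' : Y.Modules) (hL : CohB1.IsAmple L) (hLL' : Nonempty (CohB1.tensorMod L L' ≅ Coh.structureModule Y))
    (P : CochainComplex (pullback a b).Modules ℤ) (hP : DCoh.IsPerfect (DCoh.toD (pullback a b) P))
    [DCoh.HasLpull (pullback.fst a b)] [DCoh.HasLpull (pullback.snd a b)] [DCoh.HasLTensorCx P]
    [DCoh.HasRpush (pullback.fst a b)] [DCoh.HasRpush (pullback.snd a b)] [DCoh.HasRΓ X]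
    (k' : ℕ) (F : CochainComplex X.Modules ℤ) (hF : DCoh.IsPerfect (DCoh.toD X F)) [DCoh.HasLTensorCx F]
    (hvan : ∃ n₀ : ℕ, ∀ n : ℕ, n₀ ≤ n → ∀ j : ℤ, j < (g : ℤ) ∨ (g : ℤ) + k' < j →
      IsZero ((DerivedCategory.homologyFunctor AddCommGrpCat.{u} j).obj ((DCoh.RΓ X).obj
        ((DCoh.LTensorCx F).obj ((DCoh.Lpull (pullback.snd a b) ⋙ DCoh.LTensorCx P ⋙ DCoh.Rpush (pullback.fst a b)).obj
          (DCoh.inD Y (CohB1.tensorMod (CohB1.tensorPow L' n) (DCoh.HD (bdx.obj O).obj (-(g : ℤ))))))))))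
    :
    (∀ i : ℤ, i < 0 → IsZero (DCoh.HD ((FMK.phi a b P).obj (DCoh.toD X F)) i)) ∧
    (∀ (i : ℕ) (y : ↥Y), y ∈ CohB1.support (DCoh.HD ((FMK.phi a b P).obj (DCoh.toD X F)) (i : ℤ)) →
      ((i - k' : ℕ) : WithBot ℕ∞) ≤ ringKrullDim ↑(Y.presheaf.stalk y)) := by
  haveI : IsLocallyNoetherian Y := LocallyOfFiniteType.isLocallyNoetherian b
  haveI : CompactSpace Y := QuasiCompact.compactSpace_of_compactSpace b
  haveI : IsNoetherian Y := ⟨⟩
  haveI : IsProper (pullback.snd a b) := MorphismProperty.pullback_snd (P := @IsProper) a b inferInstance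
  obtain ⟨eO⟩ := hO
  obtain ⟨hwc, ⟨ew⟩⟩ := FMKLib.nonempty_rightAdjoint_iso_single b hb bdx adj O eO hYcm g hg hYeq
  let ω := DCoh.HD (bdx.obj O).obj (-(g : ℤ))
  have hΦ := FMKLib.isPerfect_phi k a b P hP _ hF
  obtain ⟨K, hK, ⟨eK⟩⟩ := PerfDualLib.exists_kFlat_model ((FMK.phi a b P).obj (DCoh.toD X F))
  haveI := KFlatLib.hasLTensorCx K
  haveI := BidualSchLib.hasRSheafHom K
  have hKp : DCoh.IsPerfect (DerivedCategory.Q.obj K) := PerfLib.isPerfect_of_iso eK.symm hΦ
  let D := (DCoh.RSheafHom K).obj (DerivedCategory.Q.obj (PerfDualLib.unitCx Y))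
  let G := DerivedCategory.Q.objPreimage D
  let eG := DerivedCategory.Q.objObjPreimageIso D
  haveI := KFlatLib.hasLTensorCx G
  haveI := BidualSchLib.hasRSheafHom G
  haveI := KFlatLib.hasLTensorCx (PerfDualLib.unitCx Y)
  haveI := BidualSchLib.hasRSheafHom (PerfDualLib.unitCx Y)
  have hGp : DCoh.IsPerfect (DerivedCategory.Q.obj G) :=
    PerfLib.isPerfect_of_iso eG.symm (PerfDualLib.isPerfect_dual K hKp)
  obtain ⟨n₁, hn₁⟩ := FMKLib.exists_bound_twist k Y b L hL (DerivedCategory.Q.obj G) hGp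
  obtain ⟨n₂, hn₂⟩ := hvan
  obtain ⟨eLL⟩ := hLL'
  let n := max n₁ n₂
  let N := CohB1.tensorPow L n
  let N' := CohB1.tensorPow L' n
  have hN : PicF.IsInvertible N := AmpleThLib.tensorPow_isInvertible hL.1 n
  obtain ⟨eN⟩ := AmpleAffLib.nonempty_powInverse eLL n
  have hN' := CohCmpLib.isInvertible_of_inverse' hN eN
  haveI := KFlatLib.hasLTensorCx (FMKLib.oneCx N)
  haveI := hwc.1
  have hq : Coh.IsQCoh (CohB1.tensorMod N' ω) := by
    haveI : Coh.IsQCoh (CohB1.tensorMod ω N') := MiscFlat6.isQCoh_tensor hN'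
    exact QCohLib.isQCoh_of_iso (HilbPolyLib.swapIso ω N')
  obtain ⟨M, hMh, hM, eM, hj⟩ := FMKLib.exists_hyper_transfer a b P hP F hF (CohB1.tensorMod N' ω) hq
  haveI := hMh
  have hG : ∀ m : ℤ, m < -(k' : ℤ) ∨ 0 < m → IsZero (DCoh.HD (DerivedCategory.Q.obj G) m) := fun m hm => by
    refine hn₁ n (le_max_left _ _) m ?_
    have h0 := (hj ((g : ℤ) - m)).1 (hn₂ n (le_max_right _ _) ((g : ℤ) - m) (by omega))
    have h1 := FMKLib.noHom_dual_twist b hb bdx adj O eO (g : ℤ) ω ew N N' hN eN K hK hKp G eG M hM eM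
      ((g : ℤ) - m) (h0.of_iso ((DCoh.LTensorCx M).mapIso eK.symm))
    rwa [show (g : ℤ) - ((g : ℤ) - m) = m by omega] at h1
  refine FMKLib.gv_of_isDualOf G hGp _ (fun {_ _} => ?_) k' hG
  obtain ⟨d⟩ := Dual3Lib.nonempty_rSheafHom_dual K G hKp hGp eG (DerivedCategory.Q.obj (PerfDualLib.unitCx Y))
  obtain ⟨u⟩ := Dual3Lib.nonempty_lTensorCx_unit K
  exact ⟨eK.symm ≪≫ u.symm ≪≫ d ≪≫ (DCoh.RSheafHom G).mapIso (DualFMLib.inDUnit Y).symm⟩

end Groth.Agent.S16380
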