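import Groth.Statements.S16384
import Groth.Agent.FMKLib.DualWIT
import Groth.Agent.FMKLib.DualCM
import Groth.Agent.FMKLib.ShiftHom
import Groth.Agent.FMKLib.CMDual
import Groth.Agent.HomCohLib.Adj
import Groth.Agent.Formal2VBLib.Dual
import Groth.Agent.DualCxLib.Chart

set_option autoImplicit false
set_option backward.isDefEq.respectTransparency false
set_option backward.isDefEq.respectTransparency.types false
set_option backward.isDefEq.respectTransparency false
set_option backward.isDefEq.respectTransparency.types false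
set_option maxHeartbeats 1000000
set_option synthInstance.maxHeartbeats 200000
set_option linter.style.haveILetI false
universe u
open CategoryTheory CategoryTheory.Limits AlgebraicGeometry
attribute [local instance] HasDerivedCategory.standard
open FMK

namespace Groth.Agent.S16384

/-- For a sheaf F and a locally free kernel P, let k be an algebraically closed field, X and Y proper
schemes over k with structure morphisms a and b, all of whose local rings are Cohen–Macaulay, X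
equidimensional of dimension d and Y equidimensional of dimension g. Let Ra_* and Rb_* on D_QCoh
have right adjoints a^× and b^× (given as data with their adjunctions), O an object of D_QCoh(Spec
k) isomorphic to the structure sheaf in degree 0, and ω_X = H^{−d}(a^×O), ω_Y = H^{−g}(b^×O) the
dualizing modules; write RΔ(F) = RHom(F, ω_X). Let P be a finite locally free module on X ×_k Y, P^∨
= Hom(P, O) its dual (the sheaf Hom as right adjoint of P ⊗ −) and Q = P^∨ ⊗ pr_Y^*ω_Y, both used as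
kernels in degree 0; for a kernel K write Φ_K = Rpr_{Y,*}(Lpr_X^*(−) ⊗^L K) and R^iΦ_K = H^i ∘ Φ_K,
the derived functors involved being assumed to exist. Let k' ≥ 0 and F a coherent O_X-module,
perfect as an object of D(O_X), which is a GV_{k'}-sheaf with respect to P: for every i ≥ 0 the
support of R^iΦ_P(F) has codimension ≥ i − k' (the local ring of Y at each of its points has Krull
dimension ≥ i − k'). Then RΔ(F) satisfies WIT_[d−k',d] with respect to Q: R^iΦ_Q(RΔ F) = 0 for every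
integer i outside [d − k', d]. (The published statement is for an arbitrary object F of D(X) and an
arbitrary kernel P; in that generality the vanishing above degree d fails — for F = O_X[1] on an
abelian variety of dimension d ≥ 1 with the Poincaré kernel, F is GV_0 while Φ_Q(RΔF) is a
skyscraper in degree d + 1 — so the row keeps F a sheaf and P locally free, the case of the
applications.) -/
theorem result (k : Type u) [Field k] [IsAlgClosed k]
    (X Y : Scheme.{u}) (a : X ⟶ Spec (CommRingCat.of k)) (b : Y ⟶ Spec (CommRingCat.of k)) [IsProper a] [IsProper b]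
    (hXcm : ∀ x : ↥X, LocCoh.IsCohenMacaulayLocalRing ↑(X.presheaf.stalk x))
    (hYcm : ∀ y : ↥Y, LocCoh.IsCohenMacaulayLocalRing ↑(Y.presheaf.stalk y))
    (d : ℕ) (hd : topologicalKrullDim ↥X = (d : WithBot ℕ∞))
    (hXeq : ∀ Z ∈ irreducibleComponents ↥X, topologicalKrullDim ↥Z = (d : WithBot ℕ∞))
    (g : ℕ) (hg : topologicalKrullDim ↥Y = (g : WithBot ℕ∞))
    (hYeq : ∀ Z ∈ irreducibleComponents ↥Y, topologicalKrullDim ↥Z = (g : WithBot ℕ∞))
    [DCoh.HasRpush a] (ha : DCoh.RpushPreservesQCoh a)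
    (adx : DCoh.DQCoh (Spec (CommRingCat.of k)) ⥤ DCoh.DQCoh X) (adja : DCoh.RpushQ a ha ⊣ adx)
    [DCoh.HasRpush b] (hb : DCoh.RpushPreservesQCoh b)
    (bdx : DCoh.DQCoh (Spec (CommRingCat.of k)) ⥤ DCoh.DQCoh Y) (adjb : DCoh.RpushQ b hb ⊣ bdx)
    (O : DCoh.DQCoh (Spec (CommRingCat.of k)))
    (hO : Nonempty (O.obj ≅ DCoh.inD (Spec (CommRingCat.of k)) (Coh.structureModule (Spec (CommRingCat.of k)))))
    (P₀ : (pullback a b).Modules) (hP₀ : FlatMod.IsFinLocFree P₀) [DCoh.HasSheafHom P₀]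
    [DCoh.HasLpull (pullback.fst a b)] [DCoh.HasRpush (pullback.snd a b)]
    [DCoh.HasLTensorCx ((HomologicalComplex.single (pullback a b).Modules (ComplexShape.up ℤ) 0).obj P₀)]
    [DCoh.HasLTensorCx ((HomologicalComplex.single (pullback a b).Modules (ComplexShape.up ℤ) 0).obj (CohB1.tensorMod ((DCoh.sheafHom P₀).obj (Coh.structureModule (pullback a b))) ((Scheme.Modules.pullback (pullback.snd a b)).obj (DCoh.HD (bdx.obj O).obj (-(g : ℤ))))))]
    (F : X.Modules) (hFc : Coh.IsCoh F) (hF : DCoh.IsPerfect (DCoh.inD X F))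
    [DCoh.HasLTensorCx ((HomologicalComplex.single X.Modules (ComplexShape.up ℤ) 0).obj F)] [DCoh.HasRSheafHom ((HomologicalComplex.single X.Modules (ComplexShape.up ℤ) 0).obj F)]
    (k' : ℕ)
    (hGV : ∀ (i : ℕ) (y : ↥Y), y ∈ CohB1.support (DCoh.HD ((FMK.phi a b ((HomologicalComplex.single (pullback a b).Modules (ComplexShape.up ℤ) 0).obj P₀)).obj (DCoh.inD X F)) (i : ℤ)) →
      ((i - k' : ℕ) : WithBot ℕ∞) ≤ ringKrullDim ↑(Y.presheaf.stalk y))
    (i : ℤ) (hi : i < (d : ℤ) - k' ∨ (d : ℤ) < i) :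
    IsZero (DCoh.HD ((FMK.phi a b ((HomologicalComplex.single (pullback a b).Modules (ComplexShape.up ℤ) 0).obj (CohB1.tensorMod ((DCoh.sheafHom P₀).obj (Coh.structureModule (pullback a b))) ((Scheme.Modules.pullback (pullback.snd a b)).obj (DCoh.HD (bdx.obj O).obj (-(g : ℤ))))))).obj
      ((DCoh.RSheafHom ((HomologicalComplex.single X.Modules (ComplexShape.up ℤ) 0).obj F)).obj (DCoh.inD X (DCoh.HD (adx.obj O).obj (-(d : ℤ)))))) i) := by
  haveI : IsNoetherian (Spec (CommRingCat.of k)) := inferInstance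
  haveI : Flat a := inferInstance
  haveI : Flat b := inferInstance
  haveI : IsLocallyNoetherian Y := LocallyOfFiniteType.isLocallyNoetherian b
  haveI : IsProper (pullback.snd a b) := MorphismProperty.pullback_snd a b inferInstance
  haveI : Flat (pullback.snd a b) := inferInstance
  obtain ⟨eO⟩ := hO
  obtain ⟨hwc, -⟩ := FMKLib.nonempty_rightAdjoint_iso_single b hb bdx adjb O eO hYcm g hg hYeq
  obtain ⟨-, ⟨ewX⟩⟩ := FMKLib.nonempty_rightAdjoint_iso_single a ha adx adja O eO hXcm d hd hXeq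
  let w := DCoh.HD (bdx.obj O).obj (-(g : ℤ))
  let wX := DCoh.HD (adx.obj O).obj (-(d : ℤ))
  haveI : Coh.IsQCoh w := hwc.1
  let E := FMKLib.oneCx F
  let P := FMKLib.oneCx P₀
  haveI := BidualSchLib.hasRSheafHom P
  let D0 := (DCoh.sheafHom P₀).obj (Coh.structureModule (pullback a b))
  have hD0 : FlatMod.IsFinLocFree D0 := PerfLib.isFinLocFree_of_iso
    (HomCohLib.sheafHomIso P₀ _).symm
    (CohCmpLib.isFinLocFree_homMod hP₀ (Formal2VBLib.isFinLocFree_structureModule _))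
  let P' := FMKLib.oneCx D0
  have hP'k : DCoh.IsKFlat P' := KFlatLib.isKFlat_of_isStrictlyPerfect (FMKLib.isStrictlyPerfect_oneCx D0 hD0)
  haveI := KFlatLib.hasLTensorCx P'
  obtain ⟨eP⟩ := FMKLib.nonempty_rSheafHom_locFree P₀ hP₀ (Coh.structureModule (pullback a b))
  let eP' : DerivedCategory.Q.obj P' ≅
      (DCoh.RSheafHom P).obj (DCoh.inD (pullback a b) (Coh.structureModule (pullback a b))) :=
    FMKLib.oneCxIso D0 ≪≫ eP.symm
  have hP : DCoh.IsPerfect (DerivedCategory.Q.obj P) := FMKLib.isPerfect_oneCx P₀ hP₀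
  have hE : DCoh.IsPerfect (DerivedCategory.Q.obj E) := PerfLib.isPerfect_of_iso (FMKLib.oneCxIso F).symm hF
  -- a model of the transform
  let Φ := (FMK.phi a b P).obj (DerivedCategory.Q.obj E)
  obtain ⟨K, hKk, ⟨eK⟩⟩ := DualFMLib.exists_flat_rep Φ
  haveI := KFlatLib.hasLTensorCx K
  haveI := BidualSchLib.hasRSheafHom K
  have hΦ : DCoh.IsPerfect Φ := FMKLib.isPerfect_phi k a b P hP _ hE
  have hK : DCoh.IsPerfect (DerivedCategory.Q.obj K) := PerfLib.isPerfect_of_iso eK.symm hΦ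
  -- the dual of the transform
  obtain ⟨main⟩ := FMKLib.nonempty_dual_phi a b ha adx adja O eO P hP P' eP' E hE K eK
  let e1 : (DerivedCategory.singleFunctor X.Modules (-(d : ℤ))).obj wX ≅ (DCoh.inD X wX)⟦(d : ℤ)⟧ :=
    (((DerivedCategory.singleFunctors X.Modules).shiftIso (d : ℤ) (-(d : ℤ)) 0 (by omega)).app wX).symm
  obtain ⟨sh⟩ := FMKLib.nonempty_rSheafHom_shift E hE (DCoh.inD X wX) (d : ℤ)
  let RΔ := (DCoh.RSheafHom E).obj (DCoh.inD X wX)
  obtain ⟨sh2⟩ := FMKLib.nonempty_phi_shift a b P' RΔ (d : ℤ)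
  let main' : (DCoh.RSheafHom K).obj (DCoh.inD Y (Coh.structureModule Y)) ≅ ((FMK.phi a b P').obj RΔ)⟦(d : ℤ)⟧ :=
    main ≪≫ (FMK.phi a b P').mapIso ((DCoh.RSheafHom E).mapIso (ewX ≪≫ e1) ≪≫ sh) ≪≫ sh2
  -- the kernel as a twist
  obtain ⟨W, hW, ⟨eW⟩⟩ := KFlatLib.exists_good_rep (DCoh.inD Y w)
  haveI := KFlatLib.hasLTensorCx W
  let W₁ := (ProjFormLib.pullC (pullback.snd a b)).obj W
  haveI := KFlatLib.hasLpull (pullback.snd a b)
  haveI := KFlatLib.hasLTensorCx W₁
  have hW₁ : DCoh.IsKFlat W₁ := KFlatLib.isKFlat_pull _ hW.1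
  let wP := (Scheme.Modules.pullback (pullback.snd a b)).obj w
  obtain ⟨ew₁⟩ := FMKLib.nonempty_lpull_inD (pullback.snd a b) w
  let eW₁ : DerivedCategory.Q.obj W₁ ≅ DCoh.inD (pullback a b) wP :=
    (KFlatLib.lpullObjIso (pullback.snd a b) W hW.1).symm ≪≫ (DCoh.Lpull _).mapIso eW ≪≫ ew₁
  obtain ⟨e2⟩ := FMKLib.nonempty_lTensor_single D0 hP'k wP
  let G := CohB1.tensorMod D0 wP
  let swap : (DCoh.tensorRightMod D0).obj wP ≅ G := ((FMKLib.tensorSwapNat D0).app wP).symm
  let T2 := ((DCoh.tensorCx (X := pullback a b)).obj P').obj W₁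
  haveI := KFlatLib.hasLTensorCx T2
  let eG : DerivedCategory.Q.obj T2 ≅ DerivedCategory.Q.obj (FMKLib.oneCx G) :=
    DerivedCategory.Q.mapIso (PerfDualLib.bX P' W₁) ≪≫
      ((Dual3Lib.flatCnt' P' hP'k).app W₁).symm ≪≫ (DCoh.LTensorCx P').mapIso eW₁ ≪≫ e2 ≪≫
      (DerivedCategory.singleFunctor _ 0).mapIso swap ≪≫ (FMKLib.oneCxIso G).symm
  obtain ⟨cG⟩ := ProjFormLib.nonempty_lTensor_congr_iso eG
  obtain ⟨cc⟩ := TensorAssocLib.nonempty_lTensor_comp P' W₁ hW₁
  have hWq : DCoh.IsQCohD (DerivedCategory.Q.obj W) :=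
    KFlatLib.isQCohD_iso eW.symm (PerfBaseLib.isQCohD_inD w hwc.1)
  have hRΔ : DCoh.IsQCohD RΔ := by
    obtain ⟨D, _, hD, eD, hDM⟩ := FMKLib.exists_dual_model E hE
    obtain ⟨h₁⟩ := hDM (DCoh.inD X wX)
    haveI : IsLocallyNoetherian X := LocallyOfFiniteType.isLocallyNoetherian a
    obtain ⟨hwXc, -⟩ := FMKLib.nonempty_rightAdjoint_iso_single a ha adx adja O eO hXcm d hd hXeq
    exact KFlatLib.isQCohD_iso h₁ (KFlatLib.isQCohD_lTensorCx D (KoszOrthLib.isQCohD_of_isPerfect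
      (PerfLib.isPerfect_of_iso eD.symm (PerfDualLib.isPerfect_dual E hE))) _
      (PerfBaseLib.isQCohD_inD wX hwXc.1))
  obtain ⟨pf⟩ := ProjFormLib.nonempty_projection_qcoh (pullback.snd a b) W hW.1 hWq
    ((DCoh.LTensorCx P').obj ((DCoh.Lpull (pullback.fst a b)).obj RΔ))
    (KFlatLib.isQCohD_lTensorCx P' (KoszOrthLib.isQCohD_of_isPerfect (FMKLib.isPerfect_oneCx D0 hD0)) _
      (KFlatLib.isQCohD_lpull _ _ hRΔ))
  obtain ⟨D, _, hD, eD, hDM⟩ := FMKLib.exists_dual_model K hK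
  obtain ⟨hDW⟩ := hDM (DerivedCategory.Q.obj W)
  let eU : DerivedCategory.Q.obj (PerfDualLib.unitCx Y) ≅ DCoh.inD Y (Coh.structureModule Y) :=
    ((DerivedCategory.singleFunctorIsoCompQ Y.Modules 0).app (Coh.structureModule Y)).symm
  let R := (DCoh.RSheafHom K).obj (DCoh.inD Y w)
  obtain ⟨shW⟩ := FMKLib.nonempty_lTensor_shift W ((FMK.phi a b P').obj RΔ) (d : ℤ)
  let eR : (((FMK.phi a b (FMKLib.oneCx G)).obj RΔ)⟦(d : ℤ)⟧) ≅ R :=
    (shiftFunctor _ (d : ℤ)).mapIso ((DCoh.Rpush (pullback.snd a b)).mapIso (cG.symm.app _ ≪≫ cc.symm.app _) ≪≫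
      pf.symm) ≪≫ shW.symm ≪≫
    (DCoh.LTensorCx W).mapIso (main'.symm ≪≫ (DCoh.RSheafHom K).mapIso eU.symm ≪≫ eD.symm) ≪≫
    (Dual3Lib.flatCnt' W hW.1).app D ≪≫ DerivedCategory.Q.mapIso (PerfDualLib.bX D W) ≪≫
    ((Dual3Lib.flatCnt' D hD).app W).symm ≪≫ hDW ≪≫ (DCoh.RSheafHom K).mapIso eW
  -- vanishing
  refine IsZero.of_iso ?_ ((((DerivedCategory.homologyFunctor Y.Modules 0).shiftIso (d : ℤ) (i - d) i
    (by omega)).app _).symm ≪≫ (DerivedCategory.homologyFunctor Y.Modules (i - d)).mapIso eR)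
  haveI : ∀ (U V : Scheme.{u}) (j : U ⟶ V) [IsOpenImmersion j],
      PreservesFiniteLimits (Scheme.Modules.restrictFunctor j) := fun U V j _ => inferInstance
  haveI : ∀ (B : CommRingCat.{u}), PreservesFiniteLimits (tilde.functor B) := fun B => inferInstance
  obtain ⟨hdual, -, -⟩ := Dual3Lib.amplitude b hb bdx adjb O eO g hg.le
  obtain ⟨-, ⟨ewY⟩⟩ := FMKLib.nonempty_rightAdjoint_iso_single b hb bdx adjb O eO hYcm g hg hYeq
  refine (DCohRestrLib.isZero_iff_subsingleton_stalks _).2 fun y => ?_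
  have hGV' : ∀ (i : ℕ) (y : ↥Y), y ∈ CohB1.support (DCoh.HD Φ (i : ℤ)) →
      ((i - k' : ℕ) : WithBot ℕ∞) ≤ ringKrullDim ↑(Y.presheaf.stalk y) := fun m z hz => hGV m z (by
    intro hs
    refine hz ?_
    exact ModuleCat.subsingleton_of_isZero ((@ModuleCat.isZero_of_subsingleton _ _ _ hs).of_iso
      ((DerSch.stalkFunctor Y z).mapIso ((DerivedCategory.homologyFunctor Y.Modules (m : ℤ)).mapIso
        ((FMK.phi a b P).mapIso (FMKLib.oneCxIso F))))))
  obtain ⟨A, _, j, _, p, M, r, c₀, d₀, α, rfl, hr, hM, hsub, hfin, hproj, hH⟩ :=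
    FMKLib.exists_phi_affine k a b P hP _ hE k' hGV' y
  obtain ⟨ω, hω, ⟨eω⟩⟩ := hdual A j
  let N : ModuleCat.{u} A := ModuleCat.of A (Dual.HD A ω (-(g : ℤ)))
  have hs : ∀ m : ℤ, m ≠ -(g : ℤ) → Subsingleton (Dual.HD A ω m) := fun m hm => by
    refine Module.subsingleton_of_localization_maximal (R := A)
      (fun J _ => LocalizedModule J.primeCompl (Dual.HD A ω m))
      (fun J _ => LocalizedModule.mkLinearMap J.primeCompl _) fun J hJ => ?_
    have h0 : Subsingleton ((DCoh.HD (bdx.obj O).obj m).presheaf.stalk (j ⟨J, hJ.isPrime⟩)) :=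
      (DCohRestrLib.isZero_iff_subsingleton_stalks _).1 (((DerivedCategory.homologyFunctor Y.Modules m).mapIso
        ewY).isZero_iff.2 (by
          rcases lt_or_gt_of_ne hm with h | h
          · exact DerivedCategory.isZero_of_isGE _ (-(g : ℤ)) m h
          · exact DerivedCategory.isZero_of_isLE _ (-(g : ℤ)) m h)) _
    exact (DualCxLib.stalkHD j eω ⟨J, hJ.isPrime⟩ m).symm.subsingleton
  refine FMKLib.subsingleton_stalk_rSheafHom K hK w hwc.1 j M c₀ d₀ (fun m hm => ?_) hfin hproj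
    (α ≪≫ (PerfLib.resD j).mapIso eK.symm) N (DualCxLib.chartIso j eω (-(g : ℤ))) (i - d) (d - i) (by omega) ?_ p
  · rcases hm with h | h
    · haveI : IsEmpty (Fin (r m)) := by rw [hr m (Or.inl h)]; infer_instance
      exact (hM m).some.injective.subsingleton
    · exact hsub m h
  intro γ hγ
  rcases hi with h | h
  · exact FMKLib.dual_exact_of_depth hfin hproj d₀ hsub N k'
      (fun P' _ n hn => FMKLib.hasSeq_of_single hω (-(g : ℤ)) hs P' n hn) hH _ (by omega) γ hγ
  · refine FMKLib.exists_factor_of_locContr _ (fun P' hP' => ?_) γ hγ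
    haveI := KFlatLib.hasLpull (Y.fromSpecResidueField (j ⟨P', hP'⟩))
    refine (((FMKLib.affine_model_spec Φ j M r c₀ d₀ hr hM α ⟨P', hP'⟩ _).2).1 ?_)
    exact (FMKLib.isZero_HD_fibre_neg k a b P₀ hP₀ F hF (j ⟨P', hP'⟩) ((d : ℤ) - i) (by omega)).of_iso
      ((DerivedCategory.homologyFunctor _ ((d : ℤ) - i)).mapIso ((DCoh.Lpull _).mapIso
        ((FMK.phi a b P).mapIso (FMKLib.oneCxIso F))))

end Groth.Agent.S16384
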