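import Groth.Statements.S16388
import Groth.Agent.TateThmLib.EndConseq

set_option linter.style.haveILetI false
set_option backward.isDefEq.respectTransparency false
set_option maxHeartbeats 1000000
-- import your own Groth.Agent.* helpers here

set_option autoImplicit false
universe u
open CategoryTheory MonoidalCategory CartesianMonoidalCategory MonObj GrpObj AlgebraicGeometry
open AbVar

namespace Groth.Agent.S16388

/-- For a single prime l different from the characteristic; let k be a finite field with algebraic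
closure Ω, l a prime number invertible in k, and A, B abelian varieties over k (proper,
geometrically integral commutative group schemes over k). For each k-automorphism τ of Ω let ρ_A(τ),
ρ_B(τ) be the ℤ_l-linear endomorphisms of the l-adic Tate modules of Ω-points T_l A, T_l B which act
on every component by the Galois action of τ (this pins them). Then T_l A and T_l B are isomorphic
as Galois modules — there is a ℤ_l-linear isomorphism e with e ∘ ρ_A(τ) = ρ_B(τ) ∘ e for all τ — if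
and only if there is an isogeny A → B of degree prime to l, expressed here as: homomorphisms f : A →
B and g : B → A and an integer N ≥ 1 not divisible by l such that g ∘ f is multiplication by N on A
and f ∘ g is multiplication by N on B. -/
theorem result (k Ω : Type u)
    [Field k] [Finite k] [Field Ω] [Algebra k Ω] [IsAlgClosure k Ω] (l : ℕ) [Fact l.Prime] (hl : (l : k) ≠ 0)
    (A B : Over (Spec (CommRingCat.of k))) [GrpObj A] [IsCommMonObj A] [IsProper A.hom] [GeometricallyIntegral A.hom]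
    [GrpObj B] [IsCommMonObj B] [IsProper B.hom] [GeometricallyIntegral B.hom]
    (ρA : (Ω ≃ₐ[k] Ω) → Module.End ℤ_[l] (AbDual.TateMod A l (SGA7.pt Ω)))
    (hρA : ∀ (τ : Ω ≃ₐ[k] Ω) (z : AbDual.TateMod A l (SGA7.pt Ω)) (m : ℕ),
      (AbDual.TateMod.component A l (SGA7.pt Ω) m (ρA τ z)).toMul =
        SGA7.galAct τ (AbDual.TateMod.component A l (SGA7.pt Ω) m z).toMul)
    (ρB : (Ω ≃ₐ[k] Ω) → Module.End ℤ_[l] (AbDual.TateMod B l (SGA7.pt Ω)))
    (hρB : ∀ (τ : Ω ≃ₐ[k] Ω) (z : AbDual.TateMod B l (SGA7.pt Ω)) (m : ℕ),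
      (AbDual.TateMod.component B l (SGA7.pt Ω) m (ρB τ z)).toMul =
        SGA7.galAct τ (AbDual.TateMod.component B l (SGA7.pt Ω) m z).toMul) :
    (∃ e : AbDual.TateMod A l (SGA7.pt Ω) ≃ₗ[ℤ_[l]] AbDual.TateMod B l (SGA7.pt Ω),
        ∀ τ : Ω ≃ₐ[k] Ω, e.toLinearMap ∘ₗ ρA τ = ρB τ ∘ₗ e.toLinearMap) ↔
      ∃ (f : A ⟶ B) (_ : IsMonHom f) (g : B ⟶ A) (_ : IsMonHom g) (N : ℕ), 0 < N ∧ ¬ l ∣ N ∧
        f ≫ g = (𝟙 A) ^ N ∧ g ≫ f = (𝟙 B) ^ N := by
  classical
  obtain rfl := TateThmLib.eq_galT l A ρA hρA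
  obtain rfl := TateThmLib.eq_galT l B ρB hρB
  haveI : IsAlgClosed Ω := IsAlgClosure.isAlgClosed k
  obtain ⟨_, _⟩ := TateThmLib.free_finite (A := A) (Ω := Ω) hl
  obtain ⟨_, _⟩ := TateThmLib.free_finite (A := B) (Ω := Ω) hl
  let T := SGA7.pt (K := k) Ω
  constructor
  · rintro ⟨e, he⟩
    have hsymm : ∀ τ : Ω ≃ₐ[k] Ω, e.symm.toLinearMap ∘ₗ TateThmLib.galT B l τ = TateThmLib.galT A l τ ∘ₗ e.symm.toLinearMap :=
      fun τ => LinearMap.ext fun y => by
        obtain ⟨x, rfl⟩ := e.surjective y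
        show e.symm (TateThmLib.galT B l τ (e x)) = TateThmLib.galT A l τ (e.symm (e x))
        rw [← LinearEquiv.coe_coe e, ← LinearMap.comp_apply (TateThmLib.galT B l τ), ← he τ, LinearMap.comp_apply,
          LinearEquiv.coe_coe, e.symm_apply_apply, e.symm_apply_apply]
    have approx : ∀ {A B : Over (Spec (CommRingCat.of k))} [GrpObj A] [IsCommMonObj A] [GrpObj B] [IsCommMonObj B]
        [Module.Finite ℤ_[l] (AbDual.TateMod A l T)] [Module.Finite ℤ_[l] (AbDual.TateMod B l T)]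
        (u : AbDual.TateMod A l T →ₗ[ℤ_[l]] AbDual.TateMod B l T),
        u ∈ Submodule.span ℤ_[l] (Set.range (EndAV.Hom.tateMap (A := A) (B := B) l T)) → Function.Bijective u →
        ∃ f : EndAV.Hom A B, Function.Bijective (EndAV.Hom.tateMap (A := A) (B := B) l T f) := by
      intro A B _ _ _ _ _ _ u hu hb
      obtain ⟨c, hc⟩ := Finsupp.mem_span_range_iff_exists_finsupp.1 hu
      choose d hd using fun φ => Ideal.mem_span_singleton'.mp (PadicInt.appr_spec 1 (c φ))
      refine ⟨∑ φ ∈ c.support, (c φ).appr 1 • φ, TateThmLib.bijective_of_congr u _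
        (-∑ φ ∈ c.support, d φ • EndAV.Hom.tateMap (A := A) (B := B) l T φ) hb ?_⟩
      rw [map_sum, ← hc, Finsupp.sum, smul_neg, Finset.smul_sum, ← sub_eq_add_neg, ← Finset.sum_sub_distrib]
      refine Finset.sum_congr rfl fun φ _ => ?_
      rw [map_nsmul, smul_smul, ← sub_smul, mul_comm, show d φ * (l : ℤ_[l]) = c φ - ((c φ).appr 1 : ℕ) from by
        simpa using hd φ, sub_sub_cancel, Nat.cast_smul_eq_nsmul]
    obtain ⟨f, hf⟩ := approx e.toLinearMap (TateThmLib.tate_hom hl A B _ he) e.bijective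
    obtain ⟨g, hg⟩ := approx e.symm.toLinearMap (TateThmLib.tate_hom hl B A _ hsymm) e.symm.bijective
    obtain ⟨χ, N, hN, hlN, -, h₂⟩ := TateThmLib.exists_mul_eq_int' (Ω := Ω) hl (EndAV.End.of (f.toHom ≫ g.toHom)) (by
      have h := hg.comp hf
      refine (congrArg Function.Bijective (funext fun x => ?_)).mp h
      exact TateThmLib.tateMapₗ_comp f.toHom g.toHom x)
    have h1 : f.toHom ≫ (g.toHom ≫ EndAV.End.toHom χ) = (𝟙 A) ^ N := by
      rw [← EndAV.End.toHom_natCast, ← h₂, EndAV.End.toHom_mul, EndAV.End.toHom_of, Category.assoc]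
    let v : EndAV.Hom B A := EndAV.Hom.of (g.toHom ≫ EndAV.End.toHom χ)
    refine ⟨f.toHom, inferInstance, v.toHom, inferInstance, N, hN, hlN, h1, ?_⟩
    have e1 : (f ≫ v : EndAV.Hom A A) = N • 𝟙 (CommGrp.mk A) := EndAV.Hom.ext (by rw [EndAV.Hom.toHom_nsmul]; exact h1)
    have e2 : (v ≫ f : EndAV.Hom B B) = N • 𝟙 (CommGrp.mk B) := by
      refine AVAmpleLib.tateMap_injective_ext (A := B) (B := B) Ω l (TateThmLib.natCast_Ω_ne_zero hl) (LinearMap.ext fun y => ?_)
      obtain ⟨x, rfl⟩ := hf.surjective y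
      have hA := LinearMap.congr_fun (congrArg (EndAV.Hom.tateMap (A := A) (B := A) l T) e1) x
      rw [map_nsmul] at hA ⊢
      show AbDual.tateMapₗ (l := l) (T := T) (v.toHom ≫ f.toHom) (EndAV.Hom.tateMap (A := A) (B := B) l T f x) =
        N • AbDual.tateMapₗ (l := l) (T := T) (𝟙 B) (EndAV.Hom.tateMap (A := A) (B := B) l T f x)
      rw [TateThmLib.tateMapₗ_comp v.toHom f.toHom]
      show AbDual.tateMapₗ (l := l) (T := T) f.toHom (AbDual.tateMapₗ v.toHom (AbDual.tateMapₗ f.toHom x)) = _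
      rw [TateThmLib.tateMapₗ_comp_eq_pow f.toHom v.toHom h1 x, map_nsmul]
      refine congrArg (fun z => N • z) ?_
      refine (AbDual.TateMod.ext fun n => ?_).symm
      exact congrArg Additive.ofMul (Category.comp_id _)
    exact (congrArg EndAV.Hom.toHom e2).trans (EndAV.Hom.toHom_nsmul _ _)
  · rintro ⟨f, hf, g, hg, N, hN, hlN, h₁, h₂⟩
    have hu : IsUnit (N : ℤ_[l]) := by
      rw [PadicInt.isUnit_iff]
      refine le_antisymm (PadicInt.norm_le_one _) (not_lt.1 fun h => hlN ?_)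
      exact_mod_cast (PadicInt.norm_int_lt_one_iff_dvd (p := l) (N : ℤ)).1 (by simpa using h)
    have c1 : ∀ x : AbDual.TateMod A l T, AbDual.tateMapₗ (l := l) (T := T) g (AbDual.tateMapₗ f x) = (N : ℤ_[l]) • x :=
      fun x => (TateThmLib.tateMapₗ_comp_eq_pow (A := A) f g h₁ x).trans (Nat.cast_smul_eq_nsmul _ _ _).symm
    have c2 : ∀ y : AbDual.TateMod B l T, AbDual.tateMapₗ (l := l) (T := T) f (AbDual.tateMapₗ g y) = (N : ℤ_[l]) • y :=
      fun y => (TateThmLib.tateMapₗ_comp_eq_pow (A := B) g f h₂ y).trans (Nat.cast_smul_eq_nsmul _ _ _).symm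
    refine ⟨LinearEquiv.ofBijective (AbDual.tateMapₗ (l := l) (T := T) f) ⟨fun x x' h => ?_, fun y => ?_⟩,
      fun τ => TateThmLib.galT_natural l f τ⟩
    · have := congrArg (AbDual.tateMapₗ (l := l) (T := T) g) h
      rw [c1, c1] at this
      exact (IsUnit.smul_left_cancel hu).1 this
    · refine ⟨((hu.unit⁻¹ : ℤ_[l]ˣ) : ℤ_[l]) • AbDual.tateMapₗ (l := l) (T := T) g y, ?_⟩
      rw [map_smul, c2, smul_smul, IsUnit.val_inv_mul, one_smul]

end Groth.Agent.S16388
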