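import Groth.Statements.S16851
import Groth.Agent.TateThmLib.Range

set_option linter.style.haveILetI false
set_option backward.isDefEq.respectTransparency false
set_option maxHeartbeats 1000000

set_option autoImplicit false
universe u
open CategoryTheory MonoidalCategory CartesianMonoidalCategory MonObj GrpObj AlgebraicGeometry
open scoped TensorProduct
open AbVar

namespace Groth.Agent.S16851

/-- Let k be a field with algebraic closure Ω, ℓ a prime invertible in k, and X an abelian variety over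
k (a proper, geometrically integral commutative group scheme over k) satisfying the finiteness
condition Fin(X/k, ℓ): up to isomorphism of k-schemes only finitely many abelian varieties Y over k
admit an isogeny X → Y of ℓ-power degree (rendered by homomorphisms u : X → Y, v : Y → X with v ∘ u
= [ℓ^m], u ∘ v = [ℓ^m]). Let T = T_ℓ X be the Tate module of Ω-points, assumed (as is the case) free
of finite rank over ℤ_ℓ, V = ℚ_ℓ ⊗ T, and ρ(τ) the componentwise Galois action of τ ∈ Aut_k(Ω) on T.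
Then for every ℚ_ℓ-subspace W ⊆ V stable under all ρ(τ) there is an element u of ℚ_ℓ ⊗ End_k(X) with
W = u · V: W is the range of some ℚ_ℓ-linear combination of the endomorphisms V_ℓ(f) = ℚ_ℓ ⊗ T_ℓ(f),
f an endomorphism of X over k. -/
theorem result (k Ω : Type u) [Field k] [Field Ω] [Algebra k Ω] [IsAlgClosure k Ω]
    (l : ℕ) [Fact l.Prime] (hl : (l : k) ≠ 0)
    (X : Over (Spec (CommRingCat.of k)))
    [GrpObj X] [IsCommMonObj X] [IsProper X.hom] [GeometricallyIntegral X.hom]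
    (hFin : (∃ (J : Type u) (_ : Finite J) (F : J → Over (Spec (CommRingCat.of k))),
        ∀ (Y : Over (Spec (CommRingCat.of k))) [GrpObj Y] [IsCommMonObj Y] [IsProper Y.hom] [GeometricallyIntegral Y.hom]
          (u : X ⟶ Y) [IsMonHom u] (v : Y ⟶ X) [IsMonHom v] (m : ℕ),
          u ≫ v = (𝟙 X) ^ (l ^ m) → v ≫ u = (𝟙 Y) ^ (l ^ m) → ∃ i, Nonempty (Y ≅ F i)))
    (ρ : (Ω ≃ₐ[k] Ω) → Module.End ℤ_[l] (AbDual.TateMod X l (SGA7.pt Ω)))
    (hρ : ∀ (τ : Ω ≃ₐ[k] Ω) (z : AbDual.TateMod X l (SGA7.pt Ω)) (m : ℕ),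
      (AbDual.TateMod.component X l (SGA7.pt Ω) m (ρ τ z)).toMul =
        SGA7.galAct τ (AbDual.TateMod.component X l (SGA7.pt Ω) m z).toMul)
    [Module.Free ℤ_[l] (AbDual.TateMod X l (SGA7.pt Ω))] [Module.Finite ℤ_[l] (AbDual.TateMod X l (SGA7.pt Ω))]
    (W : Submodule ℚ_[l] (ℚ_[l] ⊗[ℤ_[l]] AbDual.TateMod X l (SGA7.pt Ω)))
    (hW : ∀ τ : Ω ≃ₐ[k] Ω, W.map ((ρ τ).baseChange ℚ_[l]) ≤ W) :
    ∃ u ∈ Submodule.span ℚ_[l] {ψ : Module.End ℚ_[l] (ℚ_[l] ⊗[ℤ_[l]] AbDual.TateMod X l (SGA7.pt Ω)) |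
          ∃ (f : X ⟶ X) (_ : IsMonHom f), ψ = (AbDual.tateMapₗ (l := l) (T := SGA7.pt Ω) f).baseChange ℚ_[l]},
      LinearMap.range u = W := by
  haveI : IsAlgClosed Ω := IsAlgClosure.isAlgClosed k
  let inc : AbDual.TateMod X l (SGA7.pt Ω) →ₗ[ℤ_[l]] ℚ_[l] ⊗[ℤ_[l]] AbDual.TateMod X l (SGA7.pt Ω) :=
    TensorProduct.mk ℤ_[l] ℚ_[l] _ 1
  let Λ := (W.restrictScalars ℤ_[l]).comap inc
  obtain ⟨s, hs, hsΛ, c, hc⟩ := TateThmLib.exists_endo_range hl hFin Λ fun σ x hx =>
    ⟨ρ σ x, hW σ ⟨inc x, hx, LinearMap.baseChange_tmul _ _ _⟩, fun m => hρ σ x m⟩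
  refine ⟨s.baseChange ℚ_[l], ?_, ?_⟩
  · clear hsΛ hc
    induction hs using Submodule.span_induction with
    | mem x hx =>
      obtain ⟨f, hf, rfl⟩ := hx
      exact Submodule.subset_span ⟨f, hf, rfl⟩
    | zero => rw [LinearMap.baseChange_zero]; exact Submodule.zero_mem _
    | add x y _ _ hx hy => rw [LinearMap.baseChange_add]; exact Submodule.add_mem _ hx hy
    | smul a x _ hx =>
      rw [LinearMap.baseChange_smul, ← algebraMap_smul ℚ_[l] a]
      exact Submodule.smul_mem _ _ hx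
  · refine le_antisymm ?_ fun w hw => ?_
    · rintro _ ⟨z, rfl⟩
      induction z with
      | zero => rw [map_zero]; exact W.zero_mem
      | tmul a x =>
        rw [LinearMap.baseChange_tmul, show a ⊗ₜ[ℤ_[l]] s x = a • inc (s x) by simp [inc, TensorProduct.smul_tmul']]
        exact W.smul_mem a (hsΛ x)
      | add x y hx hy => rw [map_add]; exact W.add_mem hx hy
    · obtain ⟨⟨x, d⟩, hd⟩ := IsLocalizedModule.surj (nonZeroDivisors ℤ_[l]) inc w
      have hd0 : (d : ℤ_[l]) ≠ 0 := nonZeroDivisors.coe_ne_zero d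
      have hxw : inc x = algebraMap ℤ_[l] ℚ_[l] d • w := by rw [algebraMap_smul]; exact hd.symm
      obtain ⟨t, ht⟩ := hc x (show inc x ∈ W by rw [hxw]; exact W.smul_mem _ hw)
      have hcd : (l : ℚ_[l]) ^ c * algebraMap ℤ_[l] ℚ_[l] d ≠ 0 :=
        mul_ne_zero (pow_ne_zero _ (by exact_mod_cast (Fact.out : l.Prime).ne_zero))
          ((map_ne_zero_iff _ (IsFractionRing.injective ℤ_[l] ℚ_[l])).2 hd0)
      rw [← Submodule.smul_mem_iff _ hcd, mul_smul, ← hxw]
      refine ⟨inc t, ?_⟩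
      show s.baseChange ℚ_[l] (1 ⊗ₜ t) = _
      rw [LinearMap.baseChange_tmul, ht, ← Nat.cast_pow, Nat.cast_smul_eq_nsmul]
      exact map_nsmul inc _ _


end Groth.Agent.S16851
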