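import Groth.Statements.S16390
import Mathlib.Tactic.ComputeDegree
import Mathlib.Algebra.Polynomial.SpecificDegree
import Mathlib.NumberTheory.Padics.Hensel
import Mathlib.Tactic.LinearCombination
-- import your own Groth.Agent.* helpers here

set_option autoImplicit false
open AbVar

namespace Groth.Agent.S16390

/-- Let p be a prime number, r > 2 and q = p^r. The polynomial x² − p x + q is irreducible over ℚ, each
of its complex roots has absolute value √q (so its roots are Weil q-numbers), and it has two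
distinct roots in ℚ_p, of p-adic valuations 1 and r − 1. The published lemma also computes the index
of the endomorphism algebra of the simple abelian variety attached to a root; this row does not
state that part. -/
theorem result (p r : ℕ) [Fact p.Prime] (hr : 2 < r) :
    Irreducible (Polynomial.X ^ 2 - Polynomial.C (p : ℚ) * Polynomial.X + Polynomial.C ((p : ℚ) ^ r)) ∧
      (∀ π : ℂ, π ^ 2 - (p : ℂ) * π + (p : ℂ) ^ r = 0 → ‖π‖ = Real.sqrt ((p : ℝ) ^ r)) ∧
      ∃ a b : ℚ_[p], a ≠ b ∧ a ^ 2 - (p : ℚ_[p]) * a + (p : ℚ_[p]) ^ r = 0 ∧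
        b ^ 2 - (p : ℚ_[p]) * b + (p : ℚ_[p]) ^ r = 0 ∧ a.valuation = 1 ∧ b.valuation = (r : ℤ) - 1 := by
  have hp : p.Prime := Fact.out
  have hp2 : (2:ℝ) ≤ p := by exact_mod_cast hp.two_le
  have hdisc : ∀ x : ℝ, x ^ 2 - (p:ℝ) * x + (p:ℝ) ^ r ≠ 0 := by
    intro x hx
    have h1 : (p:ℝ) ^ 3 ≤ (p:ℝ) ^ r := pow_le_pow_right₀ (by linarith) (by omega)
    nlinarith [sq_nonneg (2 * x - (p:ℝ)), h1, sq_nonneg ((p:ℝ))]
  refine ⟨?_, ?_, ?_⟩
  · have hdeg : (Polynomial.X ^ 2 - Polynomial.C (p : ℚ) * Polynomial.X +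
        Polynomial.C ((p : ℚ) ^ r)).natDegree = 2 := by compute_degree!
    apply (Polynomial.irreducible_iff_roots_eq_zero_of_degree_le_three (by omega) (by omega)).2
    refine Multiset.eq_zero_of_forall_notMem fun x hx => ?_
    rw [Polynomial.mem_roots'] at hx
    have h := hx.2
    simp only [Polynomial.IsRoot.def, Polynomial.eval_add, Polynomial.eval_sub, Polynomial.eval_pow,
      Polynomial.eval_X, Polynomial.eval_mul, Polynomial.eval_C] at h
    apply hdisc (x:ℝ)
    exact_mod_cast h
  · intro z hz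
    have hre := congrArg Complex.re hz
    have him := congrArg Complex.im hz
    have hpr : ((p : ℂ) ^ r) = (((p:ℝ) ^ r : ℝ) : ℂ) := by push_cast; rfl
    rw [hpr, pow_two] at hre him
    simp only [Complex.add_re, Complex.sub_re, Complex.mul_re, Complex.natCast_re, Complex.natCast_im,
      Complex.ofReal_re, Complex.zero_re] at hre
    simp only [Complex.add_im, Complex.sub_im, Complex.mul_im, Complex.natCast_re, Complex.natCast_im,
      Complex.ofReal_im, Complex.zero_im] at him
    have hi : z.im ≠ 0 := by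
      intro h0
      apply hdisc z.re
      rw [h0] at hre
      linear_combination hre
    have h2 : z.re = (p:ℝ) / 2 := by
      have : z.im * (2 * z.re - p) = 0 := by linear_combination him
      rcases mul_eq_zero.1 this with h | h
      · exact absurd h hi
      · linarith
    rw [show ‖z‖ = Real.sqrt (Complex.normSq z) from rfl]
    congr 1
    rw [Complex.normSq_apply]
    rw [h2] at hre ⊢
    linear_combination -hre
  · let F : Polynomial ℤ_[p] := Polynomial.X ^ 2 - Polynomial.X + Polynomial.C ((p : ℤ_[p]) ^ (r - 2))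
    have hd : F.derivative.aeval (1 : ℤ_[p]) = 1 := by
      simp [F, Polynomial.derivative_pow]; ring
    have hv : F.aeval (1 : ℤ_[p]) = (p : ℤ_[p]) ^ (r - 2) := by simp [F]
    have hlt : ‖F.aeval (1 : ℤ_[p])‖ < ‖F.derivative.aeval (1 : ℤ_[p])‖ ^ 2 := by
      rw [hd, hv, norm_one, one_pow, norm_pow]
      exact pow_lt_one₀ (norm_nonneg _) (by rw [PadicInt.norm_p]; exact inv_lt_one_of_one_lt₀ (by linarith)) (by omega)
    obtain ⟨z, hz0, hz1, -, -⟩ := hensels_lemma hlt
    rw [hd, norm_one] at hz1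
    have hzn : ‖z‖ = 1 := by
      have h := PadicInt.norm_add_eq_max_of_ne (q := z - 1) (r := 1) (by rw [norm_one]; exact ne_of_lt hz1)
      rw [sub_add_cancel, norm_one, max_eq_right hz1.le] at h
      exact h
    have hzr : z ^ 2 - z + (p : ℤ_[p]) ^ (r - 2) = 0 := by simpa [F] using hz0
    have hzQ : ((z : ℚ_[p])) ^ 2 - (z : ℚ_[p]) + (p : ℚ_[p]) ^ (r - 2) = 0 := by
      have := congrArg (fun t : ℤ_[p] => (t : ℚ_[p])) hzr
      push_cast at this
      exact this
    have hp0 : (p : ℚ_[p]) ≠ 0 := Nat.cast_ne_zero.2 hp.ne_zero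
    have hz' : (z : ℚ_[p]) ≠ 0 := by
      intro h
      have : ‖(z:ℚ_[p])‖ = 1 := by rw [← PadicInt.norm_def]; exact hzn
      rw [h, norm_zero] at this
      exact zero_ne_one this
    have hvz : (z : ℚ_[p]).valuation = 0 := by
      have h1 := Padic.norm_eq_zpow_neg_valuation hz'
      rw [← PadicInt.norm_def, hzn] at h1
      have h2 : (p:ℝ) ^ (-(z : ℚ_[p]).valuation) = (p:ℝ) ^ (0:ℤ) := by rw [← h1, zpow_zero]
      have := zpow_right_injective₀ (by linarith) (by linarith) h2
      omega
    have hprod : (z : ℚ_[p]) * (1 - z) = (p : ℚ_[p]) ^ (r - 2) := by linear_combination -hzQ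
    have h1z : (1 - (z : ℚ_[p])) ≠ 0 := by
      intro h
      rw [h, mul_zero] at hprod
      exact pow_ne_zero _ hp0 hprod.symm
    have hv1 : (1 - (z : ℚ_[p])).valuation = (r : ℤ) - 2 := by
      have h := congrArg Padic.valuation hprod
      rw [Padic.valuation_mul hz' h1z, hvz, Padic.valuation_pow, Padic.valuation_p] at h
      omega
    have hr2 : (p : ℚ_[p]) ^ r = p ^ 2 * p ^ (r - 2) := by rw [← pow_add]; congr 1; omega
    have va : ((p : ℚ_[p]) * z).valuation = 1 := by
      rw [Padic.valuation_mul hp0 hz', hvz, Padic.valuation_p]; rfl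
    have vb : ((p : ℚ_[p]) * (1 - z)).valuation = (r:ℤ) - 1 := by
      rw [Padic.valuation_mul hp0 h1z, hv1, Padic.valuation_p]; ring
    refine ⟨p * z, p * (1 - z), ?_, ?_, ?_, va, vb⟩
    · intro h
      rw [h, vb] at va
      omega
    · rw [hr2]; linear_combination (p:ℚ_[p]) ^ 2 * hzQ
    · rw [hr2]; linear_combination (p:ℚ_[p]) ^ 2 * hzQ

end Groth.Agent.S16390
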