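import Groth.Statements.S16394
import Groth.Agent.AlbNormLib.ChowImage
import Groth.Agent.S4362

set_option autoImplicit false
set_option linter.style.haveILetI false
set_option backward.isDefEq.respectTransparency false
set_option maxHeartbeats 1000000
universe u
open CategoryTheory MonoidalCategory CartesianMonoidalCategory MonObj GrpObj AlgebraicGeometry
open AbVar

namespace Groth.Agent.S16394

/-- (b₁) ⇒ (c₁): let k be a finite field and X, A abelian varieties over k (proper, geometrically
integral commutative group schemes over k). Suppose the common kernel of all homomorphisms X → A is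
trivial: every T-valued point of X over k that is sent to the unit by every homomorphism X → A is
the unit point (this is condition (b₁) for the trivial subgroup). Then there are finitely many
homomorphisms ψ_1, …, ψ_n : X → A which are jointly monomorphic on T-valued points — two T-valued
points of X with the same image under every ψ_i are equal — so that (ψ_i) is an injective
homomorphism X → A^n. The published statement restricts X and A to abelian varieties whose Frobenius
is killed by a fixed polynomial; this row has no such restriction. -/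
theorem result
    (k : Type u) [Field k] [Finite k] (X A : Over (Spec (CommRingCat.of k))) [GrpObj X] [IsCommMonObj X] [IsProper X.hom] [GeometricallyIntegral X.hom]
    [GrpObj A] [IsCommMonObj A] [IsProper A.hom] [GeometricallyIntegral A.hom]
    (hsep : ∀ (T : Over (Spec (CommRingCat.of k))) (x : T ⟶ X), (∀ f : EndAV.Hom X A, x ≫ f.toHom = 1) → x = 1) :
    ∃ (n : ℕ) (ψ : Fin n → EndAV.Hom X A), ∀ (T : Over (Spec (CommRingCat.of k))) (x y : T ⟶ X),
      (∀ i, x ≫ (ψ i).toHom = y ≫ (ψ i).toHom) → x = y := by
  classical
  haveI : IsLocallyNoetherian X.left := LocallyOfFiniteType.isLocallyNoetherian X.hom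
  haveI : CompactSpace X.left := QuasiCompact.compactSpace_of_compactSpace X.hom
  haveI : IsNoetherian X.left := {}
  haveI := Groth.Agent.S4362.result X.left
  let S : Set X.left.IdealSheafData := Set.range fun s : Finset (EndAV.Hom X A) =>
    s.sup fun f => AlbNormLib.kerIdeal f.toHom
  obtain ⟨I, ⟨s, rfl⟩, hmax⟩ := wellFounded_gt.has_min S ⟨_, ⟨∅, rfl⟩⟩
  refine ⟨s.card, fun i => (s.equivFin.symm i).1, fun T x y h => ?_⟩
  refine mul_inv_eq_one.1 (hsep T (x * y⁻¹) fun f => ?_)
  have hkill : ∀ g ∈ s, (x * y⁻¹) ≫ g.toHom = 1 := fun g hg => by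
    have hi := h (s.equivFin ⟨g, hg⟩)
    simp only [Equiv.symm_apply_apply] at hi
    rw [MonObj.mul_comp, GrpObj.inv_comp, hi, mul_inv_cancel]
  have hle : (s.sup fun g => AlbNormLib.kerIdeal g.toHom) ≤ ((x * y⁻¹).left : T.left ⟶ X.left).ker :=
    Finset.sup_le fun g hg => (AlbNormLib.comp_eq_one_iff (x * y⁻¹) g.toHom).1 (hkill g hg)
  have hf : AlbNormLib.kerIdeal f.toHom ≤ s.sup fun g => AlbNormLib.kerIdeal g.toHom := by
    have h1 : (insert f s).sup (fun g : EndAV.Hom X A => AlbNormLib.kerIdeal g.toHom) = _ := Finset.sup_insert
    by_contra hne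
    refine hmax _ ⟨insert f s, rfl⟩ (lt_of_le_of_ne (Finset.sup_mono (Finset.subset_insert _ _)) fun e => hne ?_)
    exact (Finset.le_sup (f := fun g : EndAV.Hom X A => AlbNormLib.kerIdeal g.toHom) (Finset.mem_insert_self f s)).trans e.ge
  exact (AlbNormLib.comp_eq_one_iff (x * y⁻¹) f.toHom).2 (hf.trans hle)

end Groth.Agent.S16394
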