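import Groth.Statements.S16396
import Mathlib.Algebra.Polynomial.Derivative
import Mathlib.Algebra.Polynomial.Eval.Degree
import Mathlib.RingTheory.Adjoin.Basic
-- import your own Groth.Agent.* helpers here

set_option autoImplicit false
universe u
open CAlg

namespace Groth.Agent.S16396

open Polynomial in
/-- For a commutative ℚ-algebra A, a ℚ-subalgebra B of the polynomial algebra A[X] that contains X and
is closed under d/dX consists exactly of the polynomials each of whose coefficients is the value at
0 of some element of B; in other words B = ev(B)[X], with ev the evaluation at 0. -/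
theorem result
    (A : Type u) [CommRing A] [Algebra ℚ A] (B : Subalgebra ℚ A[X])
    (hX : (X : A[X]) ∈ B) (hD : ∀ P ∈ B, Polynomial.derivative P ∈ B) (P : A[X]) :
    P ∈ B ↔ ∀ i : ℕ, ∃ Q ∈ B, Polynomial.eval 0 Q = P.coeff i := by
  classical
  have hDn : ∀ k, ∀ P ∈ B, Polynomial.derivative^[k] P ∈ B := by
    intro k
    induction k with
    | zero => exact fun P hP => hP
    | succ k ih => intro P hP; rw [Function.iterate_succ_apply']; exact hD _ (ih P hP)
  constructor
  · intro hP i
    refine ⟨((Nat.factorial i : ℚ)⁻¹) • Polynomial.derivative^[i] P, B.smul_mem (hDn i P hP) _, ?_⟩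
    rw [← Polynomial.coeff_zero_eq_eval_zero, Polynomial.coeff_smul, Polynomial.coeff_iterate_derivative,
      Nat.zero_add, Nat.descFactorial_self, ← Nat.cast_smul_eq_nsmul ℚ, smul_smul, inv_mul_cancel₀ (by positivity), one_smul]
  · intro h
    have hC : ∀ Q : A[X], Q ∈ B → C (Q.eval 0) ∈ B := by
      intro Q
      induction hn : Q.natDegree using Nat.strong_induction_on generalizing Q with
      | _ n ih =>
        intro hQ
        have hsum := Q.as_sum_range_C_mul_X_pow
        rw [Finset.sum_range_succ', pow_zero, mul_one] at hsum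
        have hQ0 : C (Q.eval 0) = Q - ∑ k ∈ Finset.range Q.natDegree, C (Q.coeff (k + 1)) * X ^ (k + 1) := by
          rw [← Polynomial.coeff_zero_eq_eval_zero]
          conv_rhs => lhs; rw [hsum]
          abel
        rw [hQ0]
        refine sub_mem hQ (sum_mem fun k hk => mul_mem ?_ (pow_mem hX _))
        have hk' : k < n := hn ▸ Finset.mem_range.mp hk
        have hkey : C (Q.coeff (k + 1)) =
            ((Nat.factorial (k + 1) : ℚ)⁻¹) • C ((Polynomial.derivative^[k + 1] Q).eval 0) := by
          rw [Polynomial.smul_C]
          congr 1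
          rw [← Polynomial.coeff_zero_eq_eval_zero, Polynomial.coeff_iterate_derivative, Nat.zero_add,
            Nat.descFactorial_self, ← Nat.cast_smul_eq_nsmul ℚ, smul_smul,
            inv_mul_cancel₀ (by positivity), one_smul]
        rw [hkey]
        refine B.smul_mem (ih _ ?_ _ rfl (hDn _ Q hQ)) _
        exact lt_of_le_of_lt (Q.natDegree_iterate_derivative (k + 1)) (by omega)
    rw [P.as_sum_range_C_mul_X_pow]
    refine sum_mem fun i _ => mul_mem ?_ (pow_mem hX _)
    obtain ⟨Q, hQ, hQe⟩ := h i
    exact hQe ▸ hC Q hQ

end Groth.Agent.S16396
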