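import Groth.Statements.S16398
import Groth.Agent.TautRelLib.Basic
-- import your own Groth.Agent.* helpers here

set_option autoImplicit false
open W4c3tautjacobian

namespace Groth.Agent.S16398

/-- In the formal relation ring of genus g ≥ 1, an element of the relation ideal which is bihomogeneous
of bidegree (0, n) with 3n ≤ 2g vanishes; that is, the relations impose nothing on the
first-degree-0 part in second degree at most 2g/3. -/
theorem result
    (g : ℕ) (hg : 1 ≤ g) (n : ℕ) (hn : 3 * n ≤ 2 * g) (P : W4c3tautjacobian.RelRing g)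
    (hP : P ∈ W4c3tautjacobian.relIdeal g)
    (hhom : MvPolynomial.IsWeightedHomogeneous (W4c3tautjacobian.wt g) P ((0, n) : ℕ × ℕ)) :
    P = 0 := by
  classical
  open MvPolynomial in
  -- the ideal of polynomials without monomials of bidegree `(0, ≤ n)`
  let S : Ideal (W4c3tautjacobian.RelRing g) :=
    { carrier := {Q | ∀ d ∈ Q.support, 0 < (Finsupp.weight (W4c3tautjacobian.Low.wz g) d).1 ∨
        (n : ℤ) < (Finsupp.weight (W4c3tautjacobian.Low.wz g) d).2}
      zero_mem' := by simp
      add_mem' := fun {A B} hA hB d hd => by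
        rcases Finset.mem_union.1 (MvPolynomial.support_add hd) with h | h
        · exact hA d h
        · exact hB d h
      smul_mem' := fun A B hB d hd => by
        obtain ⟨x, _, y, hy, rfl⟩ := Finset.mem_add.1 (MvPolynomial.support_mul A B hd)
        have h1 : 0 ≤ (Finsupp.weight (W4c3tautjacobian.Low.wz g) x).1 := W4c3tautjacobian.Low.wz_nonneg x
        have h2 : 0 ≤ (Finsupp.weight (W4c3tautjacobian.Low.wz g) x).2 := by
          rw [Finsupp.weight_apply, Finsupp.sum, Prod.snd_sum]
          refine Finset.sum_nonneg fun v _ => ?_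
          rcases v with _ | v <;> simp [W4c3tautjacobian.Low.wz] <;> positivity
        rw [map_add, Prod.fst_add, Prod.snd_add]
        rcases hB y hy with h | h
        · exact Or.inl (by omega)
        · exact Or.inr (by omega) }
  have hw : ∀ d : W4c3tautjacobian.Var g →₀ ℕ, Finsupp.weight (W4c3tautjacobian.Low.wz g) d =
      (((Finsupp.weight (W4c3tautjacobian.wt g) d).1 : ℤ), ((Finsupp.weight (W4c3tautjacobian.wt g) d).2 : ℤ)) := by
    intro d
    simp only [Finsupp.weight_apply, Finsupp.sum]
    refine Prod.ext ?_ ?_
    · simp only [Prod.fst_sum]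
      push_cast
      refine Finset.sum_congr rfl fun v _ => ?_
      rcases v with _ | v <;> simp [W4c3tautjacobian.Low.wz, W4c3tautjacobian.wt]
    · simp only [Prod.snd_sum]
      push_cast
      refine Finset.sum_congr rfl fun v _ => ?_
      rcases v with _ | v <;> simp [W4c3tautjacobian.Low.wz, W4c3tautjacobian.wt]
  have hle : W4c3tautjacobian.relIdeal g ≤ S := by
    rw [W4c3tautjacobian.relIdeal, Ideal.span_le]
    rintro Q ⟨d, s, hd, rfl⟩ e he
    have hm : W4c3tautjacobian.Low.Hom g (MvPolynomial.monomial d (1 : ℚ))
        (Finsupp.weight (W4c3tautjacobian.Low.wz g) d).1 (Finsupp.weight (W4c3tautjacobian.Low.wz g) d).2 :=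
      MvPolynomial.isWeightedHomogeneous_monomial _ _ _ rfl
    have he' := (W4c3tautjacobian.Low.hom_iterate hm s) (MvPolynomial.mem_support_iff.1 he)
    have h1 := congrArg Prod.fst he'
    have h2 := congrArg Prod.snd he'
    by_contra hc
    push Not at hc
    have hpos := W4c3tautjacobian.Low.wz_nonneg e
    have ha : (Finsupp.weight (W4c3tautjacobian.Low.wz g) d).1 = 2 * (s : ℤ) := by
      simp only at h1; omega
    refine MvPolynomial.mem_support_iff.1 he ?_
    rw [W4c3tautjacobian.Low.iterate_monomial_eq_zero hg d s ha (by rw [hw] at ha; simp only at ha; omega)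
      (by simp only at h2; omega), MvPolynomial.coeff_zero]
  refine MvPolynomial.ext _ _ fun d => ?_
  rw [MvPolynomial.coeff_zero]
  by_contra hd
  have h := hle hP d (MvPolynomial.mem_support_iff.2 hd)
  rw [hw, hhom hd] at h
  simp at h

end Groth.Agent.S16398
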