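import Groth.Statements.S6370
import Groth.Agent.NormalLib.KrullAkizuki
import Mathlib.RingTheory.Ideal.GoingUp
import Mathlib.RingTheory.DedekindDomain.IntegralClosure
import Mathlib.RingTheory.Artinian.Ring

set_option autoImplicit false
universe u
open CAlg

namespace Groth.Agent.S6370

/-- For a one-dimensional Noetherian domain A with fraction field K, a finite field extension L of K
(separable or not) and B the integral closure of A in L: B is a Dedekind domain, Spec B → Spec A is
surjective and has finite fibres, and at every maximal ideal Q of B the residue field B/Q is finite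
over A/(Q ∩ A). -/
theorem result (A K L B : Type u) [CommRing A] [IsDomain A]
    [IsNoetherianRing A] (hdim : ringKrullDim A = 1) [Field K] [Algebra A K] [IsFractionRing A K]
    [Field L] [Algebra K L] [FiniteDimensional K L] [Algebra A L] [IsScalarTower A K L]
    [CommRing B] [IsDomain B] [Algebra A B] [Algebra B L] [IsScalarTower A B L] [IsIntegralClosure B A L] :
    IsDedekindDomain B ∧ Function.Surjective (PrimeSpectrum.comap (algebraMap A B)) ∧
      (∀ p : PrimeSpectrum A, (PrimeSpectrum.comap (algebraMap A B) ⁻¹' {p}).Finite) ∧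
      ∀ Q : Ideal B, Q.IsMaximal → Module.Finite (A ⧸ Q.comap (algebraMap A B)) (B ⧸ Q) := by
  classical
  have hkd : Ring.KrullDimLE 1 A := Ring.krullDimLE_iff.2 hdim.le
  have hinjB : Function.Injective (algebraMap B L) := IsIntegralClosure.algebraMap_injective B A L
  have hint : Algebra.IsIntegral A B := IsIntegralClosure.isIntegral_algebra A L
  have hinjA : Function.Injective (algebraMap A B) := fun a b h => by
    have h' := congrArg (algebraMap B L) h
    rw [← IsScalarTower.algebraMap_apply, ← IsScalarTower.algebraMap_apply, IsScalarTower.algebraMap_apply A K L,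
      IsScalarTower.algebraMap_apply A K L] at h'
    exact IsFractionRing.injective A K ((algebraMap K L).injective h')
  have : FaithfulSMul A B := (faithfulSMul_iff_algebraMap_injective A B).2 hinjA
  have : IsNoetherianRing B := NormalLib.isNoetherianRing_of_between (R := A) K (L := L) B hinjB
  have : Algebra.IsAlgebraic K L := Algebra.IsAlgebraic.of_finite K L
  have : IsFractionRing B L := IsIntegralClosure.isFractionRing_of_finite_extension A K L B
  have hmax : ∀ p : Ideal A, p ≠ ⊥ → p.IsPrime → p.IsMaximal := Ring.krullDimLE_one_iff_of_isPrime_bot.1 hkd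
  have : IsIntegrallyClosed B := (isIntegrallyClosed_iff L).2 fun {y} hy => by
    have hyA : IsIntegral A y := isIntegral_trans y hy
    exact ⟨IsIntegralClosure.mk' B y hyA, IsIntegralClosure.algebraMap_mk' B y hyA⟩
  have : Ring.DimensionLEOne B := ⟨fun {P} hP hPp => by
    have hne : P.comap (algebraMap A B) ≠ ⊥ := fun h => hP (Ideal.eq_bot_of_comap_eq_bot h)
    have := hmax _ hne (Ideal.IsPrime.comap (algebraMap A B))
    exact Ideal.isMaximal_of_isIntegral_of_isMaximal_comap P this⟩
  have : IsDedekindRing B := { }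
  have hdd : IsDedekindDomain B := { }
  have hart : ∀ x : A, x ≠ 0 → IsArtinian A (B ⧸ (Ideal.span {x} • ⊤ : Submodule A B)) := fun x hx =>
    (isFiniteLength_iff_isNoetherian_isArtinian.1 (NormalLib.isFiniteLength_quot (R := A) K (L := L) B hinjB hx)).2
  refine ⟨hdd, fun p => ?_, fun p => ?_, fun Q hQ => ?_⟩
  · obtain ⟨Q, -, hQp, hQ⟩ := Ideal.exists_ideal_over_prime_of_isIntegral_of_isPrime p.asIdeal (⊥ : Ideal B)
      (by rw [← RingHom.ker_eq_comap_bot, (RingHom.injective_iff_ker_eq_bot _).1 hinjA]; exact bot_le)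
    exact ⟨⟨Q, hQp⟩, PrimeSpectrum.ext hQ⟩
  · by_cases hp : p.asIdeal = ⊥
    · refine Set.Finite.subset (Set.finite_singleton ⟨⊥, Ideal.isPrime_bot⟩) fun q hq => PrimeSpectrum.ext ?_
      exact Ideal.eq_bot_of_comap_eq_bot ((congrArg PrimeSpectrum.asIdeal hq).trans hp)
    obtain ⟨x, hx, hx0⟩ := Submodule.exists_mem_ne_zero_of_ne_bot hp
    let J : Ideal B := Ideal.span {algebraMap A B x}
    have hJ : (Ideal.span {x} • ⊤ : Submodule A B) = J.restrictScalars A := by
      rw [Ideal.smul_top_eq_map, Ideal.map_span, Set.image_singleton]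
    have : IsArtinian A (B ⧸ (Ideal.span {x} • ⊤ : Submodule A B)) := hart x hx0
    have : IsArtinian A (B ⧸ J) :=
      ((Submodule.quotEquivOfEq _ _ hJ).trans (Submodule.Quotient.restrictScalarsEquiv A J)).isArtinian_iff.1 this
    have : IsArtinianRing (B ⧸ J) := isArtinian_of_tower A this
    refine Set.Finite.subset ((Set.finite_range fun q : PrimeSpectrum (B ⧸ J) =>
      PrimeSpectrum.comap (Ideal.Quotient.mk J) q)) fun q hq => ?_
    have hJq : J ≤ q.asIdeal := (Ideal.span_singleton_le_iff_mem _).2
      ((SetLike.ext_iff.1 (congrArg PrimeSpectrum.asIdeal hq) x).2 hx)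
    exact ((range_comap_of_surjective _ (Ideal.Quotient.mk J) Ideal.Quotient.mk_surjective).symm ▸
      (show q ∈ PrimeSpectrum.zeroLocus (RingHom.ker (Ideal.Quotient.mk J) : Set B) by
        rw [Ideal.mk_ker]; exact hJq))
  · let P := Q.comap (algebraMap A B)
    have hne : P ≠ ⊥ := by
      intro h
      have hQ0 : Q = ⊥ := Ideal.eq_bot_of_comap_eq_bot h
      subst hQ0
      have hA : (⊥ : Ideal A).IsMaximal := h ▸ Ideal.isMaximal_comap_of_isIntegral_of_isMaximal (R := A) (⊥ : Ideal B)
      have : ringKrullDim A = 0 := ringKrullDim_eq_zero_of_isField (by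
        rw [← not_not (a := IsField A), Ring.not_isField_iff_exists_prime]
        rintro ⟨q, hq, hqp⟩
        exact hq (hA.eq_of_le hqp.ne_top bot_le).symm)
      rw [hdim] at this
      exact one_ne_zero this
    obtain ⟨x, hx, hx0⟩ := Submodule.exists_mem_ne_zero_of_ne_bot hne
    have : IsNoetherian A (B ⧸ (Ideal.span {x} • ⊤ : Submodule A B)) :=
      (isFiniteLength_iff_isNoetherian_isArtinian.1 (NormalLib.isFiniteLength_quot (R := A) K (L := L) B hinjB hx0)).1
    have hle : (Ideal.span {x} • ⊤ : Submodule A B) ≤ Q.restrictScalars A := by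
      rw [Ideal.smul_top_eq_map, Ideal.map_span, Set.image_singleton]
      exact (Ideal.span_singleton_le_iff_mem _).2 hx
    let f : (B ⧸ (Ideal.span {x} • ⊤ : Submodule A B)) →ₗ[A] B ⧸ Q :=
      Submodule.liftQ _ (Ideal.Quotient.mkₐ A Q).toLinearMap fun y hy =>
        LinearMap.mem_ker.2 (Ideal.Quotient.eq_zero_iff_mem.2 (hle hy))
    have hf : Function.Surjective f := fun y => by
      obtain ⟨y, rfl⟩ := Ideal.Quotient.mk_surjective y
      exact ⟨Submodule.Quotient.mk y, rfl⟩
    have : Module.Finite A (B ⧸ Q) := Module.Finite.of_surjective f hf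
    exact Module.Finite.of_restrictScalars_finite A (A ⧸ P) (B ⧸ Q)

end Groth.Agent.S6370
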