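import Groth.Statements.S1665
import Groth.Agent.S6370
import Mathlib


-- import your own Groth.Agent.* helpers here

set_option autoImplicit false
universe u
open Variety

namespace Groth.Agent.S1665

/-- Let B be a Noetherian domain of dimension one with finitely many maximal ideals and B' its integral
closure in its fraction field. Then B' is a Dedekind domain with finitely many maximal ideals, and
for every nonzero x in the Jacobson radical of B' and every y ∈ B' some power x^n satisfies x^n y ∈
B. -/
theorem result (B : Type u) [CommRing B] [IsDomain B] [IsNoetherianRing B]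
    (hdim : ringKrullDim B = 1) (hsl : Finite (MaximalSpectrum B)) :
    IsDedekindDomain (integralClosure B (FractionRing B)) ∧ Finite (MaximalSpectrum (integralClosure B (FractionRing B))) ∧
      ∀ x : integralClosure B (FractionRing B), x ≠ 0 → x ∈ (⊥ : Ideal (integralClosure B (FractionRing B))).jacobson →
        ∀ y : integralClosure B (FractionRing B), ∃ n : ℕ, (x ^ n * y).1 ∈ (algebraMap B (FractionRing B)).range := by
  classical
  let K := FractionRing B
  let B' := integralClosure B K
  have : IsIntegralClosure B' B K := integralClosure.isIntegralClosure B K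
  obtain ⟨hD, hsurj, hfib, -⟩ := Groth.Agent.S6370.result B K K B' hdim
  have hint : Algebra.IsIntegral B B' := inferInstance
  refine ⟨hD, ?_, ?_⟩
  · have hfinB : {q : PrimeSpectrum B | q.asIdeal.IsMaximal}.Finite := by
      haveI := hsl
      refine (Set.finite_range MaximalSpectrum.toPrimeSpectrum).subset fun q hq => ⟨⟨q.asIdeal, hq⟩, rfl⟩
    have hfin : {Q : PrimeSpectrum B' | Q.asIdeal.IsMaximal}.Finite := by
      refine (hfinB.biUnion fun q _ => hfib q).subset fun Q hQ => ?_
      simp only [Set.mem_iUnion, Set.mem_preimage, Set.mem_singleton_iff, Set.mem_ofPred_eq]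
      have : Q.asIdeal.IsMaximal := hQ
      exact ⟨PrimeSpectrum.comap (algebraMap B B') Q,
        Ideal.IsMaximal.under B Q.asIdeal, rfl⟩
    have := hfin.to_subtype
    exact Finite.of_injective (fun m : MaximalSpectrum B' =>
      (⟨m.toPrimeSpectrum, m.isMaximal⟩ : {Q : PrimeSpectrum B' | Q.asIdeal.IsMaximal}))
      fun a b h => MaximalSpectrum.toPrimeSpectrum_injective (congrArg Subtype.val h)
  · intro x hx0 hxJ y
    let C := Algebra.adjoin B ({x, y} : Set B')
    have hfg : (Subalgebra.toSubmodule C).FG :=
      fg_adjoin_of_finite (Set.toFinite _) fun z _ => hint.isIntegral z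
    obtain ⟨s, hs⟩ := hfg
    obtain ⟨c, hc⟩ := IsLocalization.exist_integer_multiples (nonZeroDivisors B) s (fun z => (z : K))
    have hcC : ∀ z ∈ C, (algebraMap B K c) * (z : K) ∈ (algebraMap B K).range := by
      intro z hz
      have hz' : z ∈ Submodule.span B (s : Set B') := hs.ge hz
      induction hz' using Submodule.span_induction with
      | mem a ha =>
        obtain ⟨r, hr⟩ := hc a ha
        exact ⟨r, by rw [hr]; exact Algebra.smul_def _ _⟩
      | zero => exact ⟨0, by simp⟩
      | add a b ha hb iha ihb =>
        obtain ⟨r, hr⟩ := iha (hs.le ha)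
        obtain ⟨t, ht⟩ := ihb (hs.le hb)
        exact ⟨r + t, by rw [map_add, hr, ht]; push_cast; ring⟩
      | smul r a ha iha =>
        obtain ⟨t, ht⟩ := iha (hs.le ha)
        refine ⟨r * t, ?_⟩
        rw [map_mul, ht, show ((r • a : B') : K) = r • (a : K) from rfl, Algebra.smul_def]
        ring
    let x' : C := ⟨x, Algebra.subset_adjoin (by simp)⟩
    let c' : C := algebraMap B C c
    have hrad : x' ∈ (Ideal.span {c'}).radical := by
      rw [Ideal.radical_eq_sInf, Ideal.mem_sInf]
      rintro P ⟨hcP, hP⟩
      have : Algebra.IsIntegral C B' := Algebra.IsIntegral.tower_top B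
      obtain ⟨Q, -, hQ, hQP⟩ := @Ideal.exists_ideal_over_prime_of_isIntegral C _ B' _ _ _ P _ (⊥ : Ideal B')
        (by rw [Ideal.comap_bot_of_injective (algebraMap C B') Subtype.val_injective]; exact bot_le)
      have hcQ : algebraMap C B' c' ∈ Q := by
        rw [← hQP] at hcP
        exact hcP (Ideal.subset_span rfl)
      have hQ0 : Q ≠ ⊥ := by
        rintro rfl
        rw [Ideal.mem_bot] at hcQ
        have h0 : (algebraMap B K c : K) = 0 := congrArg (Subtype.val) hcQ
        exact nonZeroDivisors.coe_ne_zero c ((IsFractionRing.injective B K) (by rw [h0, map_zero]))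
      have hmax : Q.IsMaximal := hQ.isMaximal hQ0
      have hxQ : x ∈ Q := (Ideal.mem_sInf.mp hxJ) ⟨bot_le, hmax⟩
      rw [← hQP]
      exact hxQ
    obtain ⟨n, hn⟩ := hrad
    obtain ⟨z, hz⟩ := Ideal.mem_span_singleton'.mp hn
    refine ⟨n, ?_⟩
    obtain ⟨r, hr⟩ := hcC ((z : B') * y) (C.mul_mem z.2 (Algebra.subset_adjoin (by simp)))
    refine ⟨r, hr.trans ?_⟩
    have h1 := congrArg (fun w : C => (((w : B') : K))) hz
    push_cast at h1 ⊢
    rw [← h1]
    show _ = ((z : B') : K) * algebraMap B K c * (y : K)
    ring

end Groth.Agent.S1665
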