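import Groth.Statements.S1640
import Mathlib
import Groth.Agent.S1665
-- import your own Groth.Agent.* helpers here

set_option autoImplicit false
universe u
open Variety

namespace Groth.Agent.S1640

/-- Let K be a field, A ⊆ K a subring with fraction field K, and B_1, …, B_r ⊆ K Noetherian
one-dimensional subrings with finitely many maximal ideals and fraction field K, such that for each
i the subring generated by A and B_i is all of K. Then some nonzero x ∈ A has x⁻¹ lying in B_i and
in the Jacobson radical of B_i for every i. -/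
theorem result (K : Type u) [Field K] (A : Subring K) [IsFractionRing A K]
    (r : ℕ) (B : Fin r → Subring K) [∀ i, IsNoetherianRing (B i)] [∀ i, IsFractionRing (B i) K]
    (hdim : ∀ i, ringKrullDim (B i) = 1) (hsl : ∀ i, Finite (MaximalSpectrum (B i)))
    (hgen : ∀ i, A ⊔ B i = ⊤) :
    ∃ x : K, x ∈ A ∧ x ≠ 0 ∧ ∀ i, ∃ hx : x⁻¹ ∈ B i, (⟨x⁻¹, hx⟩ : B i) ∈ (⊥ : Ideal (B i)).jacobson := by
  classical
  have hdata : ∀ i, ∃ (S : Finset (Valuation K (WithZero (Multiplicative ℤ)))),
      (∀ v ∈ S, ∀ b : B i, v b ≤ 1) ∧ (∀ v ∈ S, ∃ t : K, 1 < v t) ∧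
      ∀ z : K, z ≠ 0 → (∀ v ∈ S, v z < 1) →
        ∃ n : ℕ, ∃ h : z ^ (n + 1) ∈ B i, (⟨z ^ (n + 1), h⟩ : B i) ∈ (⊥ : Ideal (B i)).jacobson := fun i => by
    obtain ⟨hD, hfin, hpow⟩ := Groth.Agent.S1665.result (B i) (hdim i) (hsl i)
    haveI := hD
    let e : FractionRing (B i) ≃ₐ[B i] K := IsLocalization.algEquiv (nonZeroDivisors (B i)) _ _
    let C := integralClosure (B i) (FractionRing (B i))
    haveI : IsFractionRing C (FractionRing (B i)) :=
      integralClosure.isFractionRing_of_finite_extension (K := FractionRing (B i)) (L := FractionRing (B i))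
    have hnf : ¬ IsField (B i) := fun h => by
      have := ringKrullDim_eq_zero_of_isField h
      rw [hdim i] at this
      exact one_ne_zero this
    have hnfC : ¬ IsField C := fun h =>
      hnf ((Algebra.IsIntegral.isField_iff_isField (FaithfulSMul.algebraMap_injective (B i) C)).2 h)
    let toH : MaximalSpectrum C → IsDedekindDomain.HeightOneSpectrum C := fun M =>
      ⟨M.asIdeal, M.isMaximal.isPrime, Ring.ne_bot_of_isMaximal_of_not_isField M.isMaximal hnfC⟩
    haveI := hfin
    haveI : Fintype (MaximalSpectrum C) := Fintype.ofFinite _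
    let vM : MaximalSpectrum C → Valuation K (WithZero (Multiplicative ℤ)) := fun M =>
      ((toH M).valuation (FractionRing (B i))).comap (e.symm.toRingEquiv.toRingHom)
    refine ⟨Finset.univ.image vM, ?_, ?_, ?_⟩
    · intro v hv b
      obtain ⟨M, -, rfl⟩ := Finset.mem_image.1 hv
      show (toH M).valuation (FractionRing (B i)) (e.symm (algebraMap (B i) K b)) ≤ 1
      rw [e.symm.commutes, IsScalarTower.algebraMap_apply (B i) C (FractionRing (B i))]
      exact (toH M).valuation_le_one _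
    · intro v hv
      obtain ⟨M, -, rfl⟩ := Finset.mem_image.1 hv
      obtain ⟨π, hπ⟩ := (toH M).valuation_exists_uniformizer (FractionRing (B i))
      refine ⟨e π⁻¹, ?_⟩
      show (1 : WithZero (Multiplicative ℤ)) < (toH M).valuation (FractionRing (B i)) (e.symm (e π⁻¹))
      rw [e.symm_apply_apply, map_inv₀, hπ, ← WithZero.exp_neg, ← WithZero.exp_zero, WithZero.exp_lt_exp]
      omega
    · intro z hz0 hz
      have hz' : ∀ M : MaximalSpectrum C, (toH M).valuation (FractionRing (B i)) (e.symm z) < 1 := fun M =>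
        hz _ (Finset.mem_image_of_mem vM (Finset.mem_univ M))
      obtain ⟨c, hc⟩ := IsDedekindDomain.HeightOneSpectrum.mem_integers_of_valuation_le_one (FractionRing (B i))
        (e.symm z) fun P => (hz' ⟨P.asIdeal, P.isPrime.isMaximal P.ne_bot⟩).le
      have hcM : ∀ M : MaximalSpectrum C, c ∈ M.asIdeal := fun M => by
        have h := hz' M
        rw [← hc, IsDedekindDomain.HeightOneSpectrum.valuation_lt_one_iff_mem] at h
        exact h
      have hc0 : c ≠ 0 := fun h => hz0 (by
        rw [h, map_zero] at hc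
        simpa using (congrArg e hc).symm)
      obtain ⟨n, w, hw⟩ := hpow c hc0 (Ideal.mem_sInf.2 fun {J} hJ => hcM ⟨J, hJ.2⟩) c
      have hwC : algebraMap (B i) C w = c ^ (n + 1) := Subtype.ext (by
        rw [pow_succ]; exact hw)
      have hw' : algebraMap (B i) (FractionRing (B i)) w = e.symm z ^ (n + 1) := by
        rw [← hc, ← map_pow, ← hwC]; rfl
      have hzn : (w : K) = z ^ (n + 1) := by
        have h := congrArg e hw'
        rw [e.commutes, map_pow, e.apply_symm_apply] at h
        exact h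
      refine ⟨n, hzn ▸ w.2, ?_⟩
      rw [show (⟨z ^ (n + 1), hzn ▸ w.2⟩ : B i) = w from Subtype.ext hzn.symm]
      refine Ideal.mem_sInf.2 fun {m} hm => ?_
      haveI : m.IsMaximal := hm.2
      obtain ⟨M, hM, hMm⟩ := Ideal.exists_ideal_over_maximal_of_isIntegral (R := B i) (S := C) m
        ((RingHom.injective_iff_ker_eq_bot _).1 (FaithfulSMul.algebraMap_injective (B i) C) |>.symm ▸ bot_le)
      rw [← hMm, Ideal.mem_comap, hwC]
      exact Ideal.pow_mem_of_mem M (hcM ⟨M, hM⟩) _ (Nat.succ_pos n)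
  choose S hSB hSt hSz using hdata
  -- every valuation in sight has a pole on `A`
  have hA : ∀ v ∈ Finset.univ.biUnion S, ∃ a ∈ A, 1 < v a := fun v hv => by
    obtain ⟨i, -, hi⟩ := Finset.mem_biUnion.1 hv
    by_contra h
    simp only [not_exists, not_and, not_lt] at h
    obtain ⟨t, ht⟩ := hSt i v hi
    have hle : A ⊔ B i ≤ v.valuationSubring.toSubring :=
      sup_le (fun a ha => h a ha) (fun b hb => hSB i v hi ⟨b, hb⟩)
    rw [hgen i] at hle
    exact not_le.2 ht (hle (Subring.mem_top t))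
  have hsep : ∀ T : Finset (Valuation K (WithZero (Multiplicative ℤ))),
      (∀ v ∈ T, ∃ a ∈ A, 1 < v a) → ∃ a ∈ A, a ≠ 0 ∧ ∀ v ∈ T, 1 < v a := by
    intro T
    induction T using Finset.induction_on with
    | empty => exact fun _ => ⟨1, A.one_mem, one_ne_zero, by simp⟩
    | insert v T _ ih =>
      intro hT
      obtain ⟨x, hx, hx0, hxT⟩ := ih fun w hw => hT w (Finset.mem_insert_of_mem hw)
      by_cases hvx : 1 < v x
      · exact ⟨x, hx, hx0, fun w hw => (Finset.mem_insert.1 hw).elim (fun h => h ▸ hvx) (hxT w)⟩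
      obtain ⟨y, hy, hvy⟩ := hT v (Finset.mem_insert_self _ _)
      have hN : ∀ w ∈ T, ∃ n : ℕ, w y ≤ w x ^ n := fun w hw => MulArchimedean.arch _ (hxT w hw)
      choose! n hn using hN
      let N := T.sup n + 1
      have hvxy : v (x ^ N + y) = v y := v.map_add_eq_of_lt_right (lt_of_le_of_lt (by
        rw [map_pow]; exact pow_le_one₀ zero_le (not_lt.1 hvx)) hvy)
      have hwxy : ∀ w ∈ T, w (x ^ N + y) = w x ^ N := fun w hw => by
        rw [w.map_add_eq_of_lt_left, map_pow]
        rw [map_pow]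
        exact lt_of_le_of_lt (hn w hw) (pow_lt_pow_right₀ (hxT w hw) (Nat.lt_succ_of_le (Finset.le_sup hw)))
      refine ⟨x ^ N + y, A.add_mem (pow_mem hx N) hy, fun h => ?_, fun w hw => ?_⟩
      · rw [h, map_zero] at hvxy
        exact absurd (hvxy ▸ hvy) (not_lt.2 zero_le)
      · rcases Finset.mem_insert.1 hw with rfl | hw
        · rw [hvxy]; exact hvy
        · rw [hwxy w hw]; exact one_lt_pow₀ (hxT w hw) (Nat.succ_ne_zero _)
  obtain ⟨a, ha, ha0, hpole⟩ := hsep _ hA
  have hk : ∀ i, ∃ n : ℕ, ∃ h : a⁻¹ ^ (n + 1) ∈ B i, (⟨a⁻¹ ^ (n + 1), h⟩ : B i) ∈ (⊥ : Ideal (B i)).jacobson := fun i =>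
    hSz i a⁻¹ (inv_ne_zero ha0) fun v hv => by
      rw [map_inv₀]
      exact inv_lt_one_of_one_lt₀ (hpole v (Finset.mem_biUnion.2 ⟨i, Finset.mem_univ i, hv⟩))
  choose n hnB hnJ using hk
  refine ⟨a ^ (∏ i, (n i + 1)), pow_mem ha _, pow_ne_zero _ ha0, fun i => ?_⟩
  obtain ⟨q, hq⟩ := Finset.dvd_prod_of_mem (fun i => n i + 1) (Finset.mem_univ i)
  have hq0 : q ≠ 0 := right_ne_zero_of_mul (hq ▸ (Finset.prod_ne_zero_iff.2 fun i _ => Nat.succ_ne_zero (n i)))
  rw [hq, ← inv_pow, pow_mul]
  refine ⟨pow_mem (hnB i) q, ?_⟩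
  exact Ideal.pow_mem_of_mem _ (hnJ i) _ (Nat.pos_of_ne_zero hq0)

end Groth.Agent.S1640
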