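import Groth.Statements.S16400
import Mathlib


-- import your own Groth.Agent.* helpers here

set_option autoImplicit false
universe u v
open CAlgX

namespace Groth.Agent.S16400

/-- Let K be a field, N a finite index set and A a square matrix over K indexed by N whose linear map on
column vectors has kernel equal to its range (so A composed with A is zero and the three-term
sequence it defines is exact in the middle). Then there are subsets N₁₂, N₂₁, N₃₁ of N such that the
block of A with rows in N₃₁ and columns in N₂₁, and the block of A with rows outside N₂₁ and columns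
in N₁₂, both act bijectively on column vectors. (In the original setting K is the prime field and
middle exactness is supplied by the Cartier isomorphism; here exactness is the hypothesis and K is
any field.) -/
theorem result
    {K : Type u} [Field K] {N : Type v} [Fintype N] [DecidableEq N]
    (A : Matrix N N K)
    (hA : LinearMap.ker A.mulVecLin = LinearMap.range A.mulVecLin) :
    ∃ N₁₂ N₂₁ N₃₁ : Finset N,
      Function.Bijective (A.submatrix (Subtype.val : ↥N₃₁ → N) (Subtype.val : ↥N₂₁ → N)).mulVecLin ∧
      Function.Bijective
        (A.submatrix (Subtype.val : {x : N // x ∉ N₂₁} → N) (Subtype.val : ↥N₁₂ → N)).mulVecLin := by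
  classical
  let c : N → (N → K) := fun j i => A i j
  have hmv : ∀ (v : N → K), A.mulVecLin v = ∑ j, v j • c j := fun v => by
    ext i; simp [c, Matrix.mulVec, dotProduct, mul_comm]
  have hc : Submodule.span K (Set.range c) = LinearMap.range A.mulVecLin := (Matrix.range_mulVecLin A).symm
  have sel : ∀ {α : Type v} [Fintype α] {W : Type (max u v)} [AddCommGroup W] [Module K W] (g : α → W), ∃ t : Finset α, LinearIndependent K (fun a : t => g a) ∧ Submodule.span K (Set.range fun a : t => g a) = Submodule.span K (Set.range g) := by
    intro α _ W _ _ g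
    obtain ⟨κ, a, ha, hspan, hli⟩ := exists_linearIndependent' K g
    let t : Finset α := Finset.univ.filter (· ∈ Set.range a)
    have ht : ∀ x : t, (x : α) ∈ Set.range a := fun x => (Finset.mem_filter.1 x.2).2
    choose e he using ht
    refine ⟨t, ?_, ?_⟩
    · have := hli.comp e (fun x y h => Subtype.ext (by rw [← he x, ← he y, h]))
      simpa [Function.comp_def, he] using this
    · rw [← hspan]
      congr 1
      ext w
      simp [t]
  have bij : ∀ {α : Type v} [Fintype α] {β : Type v} [Fintype β] [DecidableEq β] (M : Matrix α β K), Function.Injective M.mulVecLin → ∃ R : Finset α, Function.Bijective (M.submatrix (Subtype.val : R → α) id).mulVecLin := by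
    intro α _ β _ _ M hM
    obtain ⟨R, hR1, hR2⟩ := sel (fun i => (fun j => M i j))
    have hinj : Function.Injective (M.submatrix (Subtype.val : R → α) id).mulVecLin := by
      rw [injective_iff_map_eq_zero]
      intro v hv
      refine (injective_iff_map_eq_zero M.mulVecLin).1 hM v (funext fun i => ?_)
      let φ : (β → K) →ₗ[K] K :=
        { toFun := fun w => dotProduct w v
          map_add' := fun a b => add_dotProduct a b v
          map_smul' := fun a b => smul_dotProduct a b v }
      have hle : Submodule.span K (Set.range fun a : R => fun j => M a j) ≤ LinearMap.ker φ :=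
        Submodule.span_le.2 (by rintro _ ⟨a, rfl⟩; exact congrFun hv a)
      rw [hR2] at hle
      exact hle (Submodule.subset_span ⟨i, rfl⟩)
    refine ⟨R, hinj, (LinearMap.injective_iff_surjective_of_finrank_eq_finrank (le_antisymm ?_ ?_)).1 hinj⟩
    · simpa using LinearMap.finrank_le_finrank_of_injective hinj
    · simpa using hR1.fintype_card_le_finrank
  obtain ⟨N₂₁, h1, h2⟩ := sel c
  rw [hc] at h2
  have hinj1 : Function.Injective (A.submatrix id (Subtype.val : N₂₁ → N)).mulVecLin := by
    rw [Matrix.coe_mulVecLin, Matrix.mulVec_injective_iff]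
    exact h1
  obtain ⟨N₃₁, h3⟩ := bij _ hinj1
  let B : Matrix {x : N // x ∉ N₂₁} N K := A.submatrix Subtype.val id
  have hkerB : LinearMap.ker B.mulVecLin = LinearMap.ker A.mulVecLin := by
    refine le_antisymm (fun v hv => ?_) (fun v hv => LinearMap.mem_ker.2 (funext fun i => congrFun (LinearMap.mem_ker.1 hv) i.1))
    rw [LinearMap.mem_ker] at hv ⊢
    set w := A.mulVecLin v with hw
    have hsupp : ∀ i ∉ N₂₁, w i = 0 := fun i hi => congrFun hv ⟨i, hi⟩
    have h0 : A.mulVecLin w = 0 := LinearMap.mem_ker.1 (hA ▸ ⟨v, rfl⟩)
    rw [hmv, ← Finset.sum_subset (Finset.subset_univ N₂₁) (fun j _ hj => by rw [hsupp j hj, zero_smul]), ← Finset.sum_attach] at h0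
    have := Fintype.linearIndependent_iff.1 h1 (fun a => w a) h0
    funext i
    by_cases hi : i ∈ N₂₁
    · exact this ⟨i, hi⟩
    · exact hsupp i hi
  have hr : Module.finrank K (LinearMap.range A.mulVecLin) = N₂₁.card := by
    rw [← h2, finrank_span_eq_card h1, Fintype.card_coe]
  have hn := LinearMap.finrank_range_add_finrank_ker A.mulVecLin
  rw [hA, hr, Module.finrank_pi] at hn
  have hnB := LinearMap.finrank_range_add_finrank_ker B.mulVecLin
  rw [hkerB, hA, hr, Module.finrank_pi] at hnB
  have htop : LinearMap.range B.mulVecLin = ⊤ := by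
    apply Submodule.eq_top_of_finrank_eq
    rw [Module.finrank_pi, Fintype.card_subtype_compl, Fintype.card_coe]
    omega
  obtain ⟨N₁₂, h4, h5⟩ := sel (fun j => fun i => B i j)
  refine ⟨N₁₂, N₂₁, N₃₁, h3, ?_⟩
  have h4' : Function.Injective (A.submatrix (Subtype.val : {x : N // x ∉ N₂₁} → N) (Subtype.val : N₁₂ → N)).mulVecLin := by
    rw [Matrix.coe_mulVecLin, Matrix.mulVec_injective_iff]
    exact h4
  refine ⟨h4', ?_⟩
  rw [← LinearMap.range_eq_top, Matrix.range_mulVecLin]
  exact h5.trans (by rw [← htop, Matrix.range_mulVecLin]; rfl)

end Groth.Agent.S16400
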