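import Groth.Statements.S16401
import Mathlib


-- import your own Groth.Agent.* helpers here

set_option autoImplicit false
universe u v
open CAlgX

namespace Groth.Agent.S16401

/-- Let R be a commutative ring and (E_a), a ∈ ι, a family of additive subgroups of R indexed by an
additive commutative group ι, with E_0 = R and E_a · E_b ⊆ E_{a+b}. Let β, γ : Fin r → ι be weight
vectors with Σ_j β_j = Σ_i γ_i, and let ϑ be an r × r matrix over R with ϑ_{ij} ∈ E_{γ_i − β_j} for
all i, j and with unit determinant. Then a column vector u satisfies u_j ∈ E_{β_j} for every j if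
and only if (ϑ u)_i ∈ E_{γ_i} for every i; since ϑ is invertible this says that ϑ maps the box Π_j
E_{β_j} bijectively onto the box Π_i E_{γ_i}. -/
theorem result
    {R : Type u} [CommRing R] {ι : Type v} [AddCommGroup ι]
    (E : ι → AddSubgroup R) (h0 : E 0 = ⊤)
    (hmul : ∀ a b : ι, ∀ x ∈ E a, ∀ y ∈ E b, x * y ∈ E (a + b))
    {r : ℕ} (wβ wγ : Fin r → ι) (hsum : ∑ j, wβ j = ∑ i, wγ i)
    (ϑ : Matrix (Fin r) (Fin r) R) (hϑ : ∀ i j, ϑ i j ∈ E (wγ i - wβ j))
    (hdet : IsUnit ϑ.det) (u : Fin r → R) :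
    (∀ j, u j ∈ E (wβ j)) ↔ ∀ i, ϑ.mulVec u i ∈ E (wγ i) := by
  classical
  have hfwd : ∀ (M : Matrix (Fin r) (Fin r) R) (a b : Fin r → ι), (∀ i j, M i j ∈ E (b i - a j)) → ∀ v : Fin r → R, (∀ j, v j ∈ E (a j)) → ∀ i, M.mulVec v i ∈ E (b i) := by
    intro M a b hM v hv i
    change ∑ j, M i j * v j ∈ E (b i)
    refine AddSubgroup.sum_mem _ fun j _ => ?_
    have := hmul _ _ _ (hM i j) _ (hv j)
    rwa [sub_add_cancel] at this
  have hprod : ∀ (s : Finset (Fin r)) (g : Fin r → R) (d : Fin r → ι), (∀ k ∈ s, g k ∈ E (d k)) → ∏ k ∈ s, g k ∈ E (∑ k ∈ s, d k) := by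
    intro s g d
    induction s using Finset.induction_on with
    | empty => intro _; simp [h0]
    | insert k s hk ih =>
      intro h
      rw [Finset.prod_insert hk, Finset.sum_insert hk]
      exact hmul _ _ _ (h k (Finset.mem_insert_self k s)) _ (ih fun l hl => h l (Finset.mem_insert_of_mem hl))
  refine ⟨fun hu => hfwd ϑ wβ wγ hϑ u hu, fun hu j => ?_⟩
  have hadj : ∀ i k, ϑ.adjugate k i ∈ E (wβ k - wγ i) := by
    intro i k
    rw [Matrix.adjugate_apply, ← Matrix.det_transpose, Matrix.det_apply]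
    refine AddSubgroup.sum_mem _ fun σ _ => ?_
    simp only [Matrix.transpose_apply, Units.smul_def]
    refine AddSubgroup.zsmul_mem _ ?_ _
    by_cases hσ : σ i = k
    · rw [← Finset.mul_prod_erase Finset.univ _ (Finset.mem_univ i), Matrix.updateRow_self, hσ, Pi.single_eq_same, one_mul]
      have hd : ∑ l ∈ Finset.univ.erase i, (wγ l - wβ (σ l)) = wβ k - wγ i := by
        rw [Finset.sum_erase_eq_sub (Finset.mem_univ i), Finset.sum_sub_distrib, Equiv.sum_comp σ wβ, hsum, sub_self, hσ]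
        abel
      rw [← hd]
      exact hprod _ _ _ fun l hl => by rw [Matrix.updateRow_ne (Finset.ne_of_mem_erase hl)]; exact hϑ _ _
    · rw [Finset.prod_eq_zero (Finset.mem_univ i) (by rw [Matrix.updateRow_self, Pi.single_eq_of_ne hσ])]
      exact zero_mem _
  obtain ⟨d, hd⟩ := hdet.exists_left_inv
  have e : u = d • ϑ.adjugate.mulVec (ϑ.mulVec u) := by
    rw [Matrix.mulVec_mulVec, Matrix.adjugate_mul, Matrix.smul_mulVec, Matrix.one_mulVec, smul_smul, hd, one_smul]
  rw [e, Pi.smul_apply, smul_eq_mul, ← zero_add (wβ j)]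
  exact hmul _ _ _ (by rw [h0]; trivial) _ (hfwd ϑ.adjugate wγ wβ (fun k i => hadj i k) _ hu j)

end Groth.Agent.S16401
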