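import Groth.Statements.S16402
import Groth.Agent.Sweep9Lib.SplitAlg
-- import your own Groth.Agent.* helpers here

set_option autoImplicit false
set_option maxHeartbeats 1000000
open SymBasis

universe u
namespace Groth.Agent.S16402

open Polynomial Groth.Agent.Sweep9Lib in
theorem exists_staircase_basis_splitAlg : ∀ (r : ℕ) {S : Type u} [CommRing S] [Nontrivial S] (p : S[X]),
    p.Monic → p.natDegree = r → ∃ B : Module.Basis (Π i : Fin r, Fin (r - (i : ℕ))) S (SplitAlg r p),
      ∀ d, B d = ∏ i, sroot r p i ^ (d i : ℕ)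
  | 0, S, _, _, p, _, _ => by
    let e : SplitAlg 0 p ≃ₐ[S] S :=
      ((Ideal.quotientEquivAlgOfEq S (show splitIdeal 0 p = ⊥ by simp [splitIdeal])).trans
        (AlgEquiv.quotientBot S _)).trans (MvPolynomial.isEmptyAlgEquiv S (Fin 0))
    refine ⟨((Module.Basis.singleton (Fin 1) S).map e.symm.toLinearEquiv).reindex (Equiv.ofUnique _ _), fun d => ?_⟩
    simp
  | r + 1, S, _, _, p, hp, hr => by
    let pb := AdjoinRoot.powerBasis' hp
    let S' := AdjoinRoot p
    have : Nontrivial S' := by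
      have h1 : Nonempty (Fin pb.dim) := ⟨⟨0, by rw [AdjoinRoot.powerBasis'_dim, hr]; omega⟩⟩
      exact pb.basis.repr.toEquiv.nontrivial
    let α := AdjoinRoot.root p
    let pS := p.map (algebraMap S S')
    have hroot : pS.IsRoot α := AdjoinRoot.isRoot_root p
    let q := pS /ₘ (X - C α)
    have hpq : (X - C α) * q = pS := mul_divByMonic_eq_iff_isRoot.2 hroot
    have hq : q.Monic := (monic_X_sub_C α).of_mul_monic_left (hpq ▸ hp.map _)
    have hqd : q.natDegree = r := by
      rw [natDegree_divByMonic _ (monic_X_sub_C α), hp.natDegree_map, hr, natDegree_X_sub_C]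
      omega
    obtain ⟨b, hb⟩ := exists_staircase_basis_splitAlg r q hq hqd
    have hT := map_eq_prod_sroot r hq hqd
    have hP := map_eq_prod_sroot (r + 1) hp hr
    let T' := SplitAlg r q
    let T := SplitAlg (r + 1) p
    have hΦ : p.map (algebraMap S T') =
        ∏ i, (X - C ((Fin.cons (algebraMap S' T' α) (sroot r q) : Fin (r + 1) → T') i)) := by
      rw [Fin.prod_univ_succ]
      simp only [Fin.cons_zero, Fin.cons_succ]
      rw [← hT, IsScalarTower.algebraMap_eq S S' T', ← Polynomial.map_map,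
        ← show (X - C α) * q = p.map (algebraMap S S') from hpq, Polynomial.map_mul, Polynomial.map_sub,
        Polynomial.map_X, Polynomial.map_C]
    let Φ : T →ₐ[S] T' := splitLift (r + 1) p _ hΦ
    have hx0 : p.eval₂ (Algebra.ofId S T) (sroot (r + 1) p 0) = 0 := by
      change p.eval₂ (algebraMap S T) _ = 0
      rw [← Polynomial.eval_map, hP, Fin.prod_univ_succ]
      simp
    let ι : S' →ₐ[S] T := AdjoinRoot.liftAlgHom p (Algebra.ofId S T) _ hx0
    have hια : ι α = sroot (r + 1) p 0 := AdjoinRoot.lift_root hx0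
    letI : Algebra S' T := ι.toRingHom.toAlgebra
    haveI : IsScalarTower S S' T := IsScalarTower.of_algebraMap_eq fun s => (ι.commutes s).symm
    have hΨ : q.map (algebraMap S' T) = ∏ i : Fin r, (X - C (sroot (r + 1) p i.succ)) := by
      have h1 := hP
      rw [Fin.prod_univ_succ, IsScalarTower.algebraMap_eq S S' T, ← Polynomial.map_map,
        ← show (X - C α) * q = p.map (algebraMap S S') from hpq, Polynomial.map_mul, Polynomial.map_sub,
        Polynomial.map_X, Polynomial.map_C, show algebraMap S' T α = sroot (r + 1) p 0 from hια] at h1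
      exact (monic_X_sub_C _).isRegular.left h1
    let Ψ : T' →ₐ[S'] T := splitLift r q _ hΨ
    let Ψ' : T' →ₐ[S] T := Ψ.restrictScalars S
    have h12 : Ψ'.comp Φ = AlgHom.id S T := splitAlg_algHom_ext fun i => by
      rw [AlgHom.comp_apply, AlgHom.id_apply, splitLift_sroot]
      refine Fin.cases ?_ (fun j => ?_) i
      · rw [Fin.cons_zero]; exact (Ψ.commutes α).trans hια
      · rw [Fin.cons_succ]; exact splitLift_sroot _ _ _ hΨ j
    have hΦι : Φ.comp ι = IsScalarTower.toAlgHom S S' T' := AdjoinRoot.algHom_ext (by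
      rw [AlgHom.comp_apply]
      change Φ (ι α) = algebraMap S' T' α
      rw [hια, splitLift_sroot, Fin.cons_zero])
    let Φ' : T →ₐ[S'] T' :=
      { Φ.toRingHom with commutes' := fun s => AlgHom.congr_fun hΦι s }
    have h21 : Φ'.comp Ψ = AlgHom.id S' T' := splitAlg_algHom_ext fun j => by
      rw [AlgHom.comp_apply, AlgHom.id_apply, splitLift_sroot]
      change Φ (sroot (r + 1) p j.succ) = _
      rw [splitLift_sroot, Fin.cons_succ]
    let e : T' ≃ₐ[S] T := AlgEquiv.ofAlgHom Ψ' Φ h12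
      (AlgHom.ext fun x => AlgHom.congr_fun h21 x)
    let B := (pb.basis.smulTower b).map e.toLinearEquiv
    let σ : Fin pb.dim × (Π i : Fin r, Fin (r - (i : ℕ))) ≃ (Π i : Fin (r + 1), Fin (r + 1 - (i : ℕ))) :=
      ((finCongr (show pb.dim = r + 1 - ((0 : Fin (r + 1)) : ℕ) by
        rw [AdjoinRoot.powerBasis'_dim, hr, Fin.val_zero, Nat.sub_zero])).prodCongr
        (Equiv.piCongrRight fun i : Fin r => finCongr (show r - (i : ℕ) = r + 1 - (i.succ : ℕ) by
          rw [Fin.val_succ]; omega))).trans (Fin.consEquiv fun i => Fin (r + 1 - (i : ℕ)))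
    refine ⟨B.reindex σ, σ.surjective.forall.2 fun x => ?_⟩
    rw [Module.Basis.reindex_apply, Equiv.symm_apply_apply, Fin.prod_univ_succ]
    obtain ⟨k, d⟩ := x
    rw [show B (k, d) = Ψ (pb.basis k • b d) by simp [B, Module.Basis.smulTower_apply, e, Ψ']]
    rw [map_smul, hb, PowerBasis.basis_eq_pow, Algebra.smul_def, map_pow,
      show algebraMap S' T pb.gen = sroot (r + 1) p 0 from hια, map_prod]
    congr 1
    refine Finset.prod_congr rfl fun i _ => ?_
    rw [map_pow, splitLift_sroot]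
    rfl


/-- For n ≥ 2, the polynomial ring ℤ[t_1, …, t_n] is a free module of rank n! over ℤ[c_1, …, c_n] acting
through c_i ↦ e_i(t), the i-th elementary symmetric polynomial in the t_j, and the monomials
t_1^{d_1} ⋯ t_n^{d_n} with 0 ≤ d_i ≤ n − i form a basis: every polynomial is in exactly one way a
sum Σ_d f(p_d) · t^d with p_d ∈ ℤ[c_1, …, c_n], f the substitution c_i ↦ e_i(t). The published
statement is phrased for the Chow ring of the classifying stack of the diagonal torus as a module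
over that of the classifying stack of GL_n, identified with ℤ[t_1, …, t_n] ⊇ ℤ[c_1, …, c_n] in this
way. -/
theorem result (n : ℕ) (hn : 2 ≤ n) :
    Function.Bijective (fun p : (Π i : Fin n, Fin (n - (i : ℕ))) → MvPolynomial (Fin n) ℤ =>
      ∑ d : (Π i : Fin n, Fin (n - (i : ℕ))),
        (MvPolynomial.aeval (fun i : Fin n => MvPolynomial.esymm (Fin n) ℤ ((i : ℕ) + 1))) (p d) *
          ∏ i : Fin n, MvPolynomial.X i ^ ((d i : ℕ))) := by
  let I : Ideal (MvPolynomial (Fin n) (MvPolynomial (Fin n) ℤ)) := Ideal.span (Set.range fun i : Fin n =>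
    MvPolynomial.esymm (Fin n) (MvPolynomial (Fin n) ℤ) ((i : ℕ) + 1) - MvPolynomial.C (MvPolynomial.X i))
  obtain ⟨p, hd, hp, hI⟩ := Sweep9Lib.splitIdeal_esymm (S := MvPolynomial (Fin n) ℤ) n (fun i => MvPolynomial.X i)
  obtain ⟨B₀, hB₀⟩ := exists_staircase_basis_splitAlg n p hp (hd inferInstance)
  let B := B₀.map (Ideal.quotientEquivAlgOfEq (MvPolynomial (Fin n) ℤ) hI.symm).toLinearEquiv
  have hB : ∀ d, B d = Ideal.Quotient.mk I (∏ i, MvPolynomial.X i ^ (d i : ℕ)) := fun d => by
    simp [B, hB₀, Sweep9Lib.sroot, map_prod, map_pow, I]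
  let φ : (MvPolynomial (Fin n) ℤ) →ₐ[ℤ] (MvPolynomial (Fin n) ℤ) := MvPolynomial.aeval (fun i : Fin n => MvPolynomial.esymm (Fin n) ℤ ((i : ℕ) + 1))
  let ψ : MvPolynomial (Fin n) (MvPolynomial (Fin n) ℤ) →+* (MvPolynomial (Fin n) ℤ) := MvPolynomial.eval₂Hom φ.toRingHom MvPolynomial.X
  have hes : ∀ m, ψ (MvPolynomial.esymm (Fin n) (MvPolynomial (Fin n) ℤ) m) = MvPolynomial.esymm (Fin n) ℤ m := by
    intro m
    simp [ψ, MvPolynomial.esymm, MvPolynomial.eval₂_prod]
  have hψI : ∀ z ∈ I, ψ z = 0 := by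
    intro z hz
    refine (Ideal.span_le.2 ?_ : I ≤ RingHom.ker ψ) hz
    rintro _ ⟨i, rfl⟩
    rw [SetLike.mem_coe, RingHom.mem_ker, map_sub, hes]
    simp [ψ, φ]
  let ψ' : MvPolynomial (Fin n) (MvPolynomial (Fin n) ℤ) ⧸ I →+* (MvPolynomial (Fin n) ℤ) := Ideal.Quotient.lift I ψ hψI
  let χ : (MvPolynomial (Fin n) ℤ) →+* MvPolynomial (Fin n) (MvPolynomial (Fin n) ℤ) ⧸ I :=
    MvPolynomial.eval₂Hom (((Ideal.Quotient.mk I).comp MvPolynomial.C).comp MvPolynomial.C)
      (fun i => Ideal.Quotient.mk I (MvPolynomial.X i))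
  have h1 : ψ'.comp χ = RingHom.id (MvPolynomial (Fin n) ℤ) := MvPolynomial.ringHom_ext
    (fun s => by simp [ψ', χ, ψ, φ]) (fun i => by simp [ψ', χ, ψ])
  have h2 : χ.comp ψ' = RingHom.id _ := by
    refine Ideal.Quotient.ringHom_ext (MvPolynomial.ringHom_ext (fun t => ?_) fun i => by simp [ψ', χ, ψ])
    have : (χ.comp φ.toRingHom) = (Ideal.Quotient.mk I).comp MvPolynomial.C := by
      refine MvPolynomial.ringHom_ext (fun s => by simp [χ, φ]) fun i => ?_
      have h3 : χ (MvPolynomial.esymm (Fin n) ℤ ((i : ℕ) + 1)) =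
          Ideal.Quotient.mk I (MvPolynomial.esymm (Fin n) (MvPolynomial (Fin n) ℤ) ((i : ℕ) + 1)) := by
        simp [χ, MvPolynomial.esymm, MvPolynomial.eval₂_prod]
      change χ (φ (MvPolynomial.X i)) = _
      rw [show φ (MvPolynomial.X i) = MvPolynomial.esymm (Fin n) ℤ ((i : ℕ) + 1) from MvPolynomial.aeval_X _ i,
        h3, RingHom.comp_apply, Ideal.Quotient.eq]
      exact Ideal.subset_span ⟨i, rfl⟩
    simpa [ψ', ψ] using RingHom.congr_fun this t
  have hbij : Function.Bijective ψ' := Function.bijective_iff_has_inverse.2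
    ⟨χ, fun z => RingHom.congr_fun h2 z, fun z => RingHom.congr_fun h1 z⟩
  convert hbij.comp B.equivFun.symm.bijective using 1
  funext v
  rw [Function.comp_apply, B.equivFun_symm_apply, map_sum]
  refine Finset.sum_congr rfl fun d _ => ?_
  rw [hB]
  change _ = ψ' (Ideal.Quotient.mk I (v d • ∏ i, MvPolynomial.X i ^ (d i : ℕ)))
  rw [MvPolynomial.smul_eq_C_mul]
  simp [ψ', ψ, φ, map_prod]

end Groth.Agent.S16402
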