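import Groth.Statements.S16403
import Mathlib
import Groth.Agent.StaircaseLib.Basic
-- import your own Groth.Agent.* helpers here

set_option autoImplicit false
universe u
open SymBasis

namespace Groth.Agent.S16403

/-- Let R be a commutative ring and a_1, …, a_n ∈ R with n ≥ 2, making R an algebra over ℤ[c_1, …, c_n]
by c_i ↦ a_i. The base change R ⊗ ℤ[t_1, …, t_n] over ℤ[c_1, …, c_n], where c_i ↦ e_i(t) is the i-th
elementary symmetric polynomial, is R[t_1, …, t_n]/I with I the ideal generated by the elements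
e_i(t) − a_i, and the extension of an ideal J of R to it is (I + J·R[t])/I. For families (α_d),
(β_d) of elements of R indexed by the exponent vectors d with 0 ≤ d_i ≤ n − i, the sums Σ_d α_d t^d
and Σ_d β_d t^d agree modulo I + J·R[t] if and only if α_d ≡ β_d mod J for every d. The published
statement takes R positively graded over ℤ[c_1, …, c_n] and each α_d homogeneous of degree k − |d|
for a fixed integer k ≥ 0; this row assumes neither. -/
theorem result {R : Type u} [CommRing R] (n : ℕ) (hn : 2 ≤ n)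
    (a : Fin n → R) (J : Ideal R) (α β : (Π i : Fin n, Fin (n - (i : ℕ))) → R) :
    (∑ d : (Π i : Fin n, Fin (n - (i : ℕ))), MvPolynomial.C (α d) * ∏ i : Fin n, MvPolynomial.X i ^ ((d i : ℕ))) -
        (∑ d : (Π i : Fin n, Fin (n - (i : ℕ))), MvPolynomial.C (β d) * ∏ i : Fin n, MvPolynomial.X i ^ ((d i : ℕ)))
      ∈ Ideal.span (Set.range fun i : Fin n => MvPolynomial.esymm (Fin n) R ((i : ℕ) + 1) - MvPolynomial.C (a i))
        ⊔ Ideal.map (MvPolynomial.C : R →+* MvPolynomial (Fin n) R) J
    ↔ ∀ d : (Π i : Fin n, Fin (n - (i : ℕ))), α d - β d ∈ J := by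
  classical
  set I := Ideal.span (Set.range fun i : Fin n => MvPolynomial.esymm (Fin n) R ((i : ℕ) + 1) - MvPolynomial.C (a i))
  obtain ⟨B, hB⟩ : ∃ B : Module.Basis (Π i : Fin n, Fin (n - (i : ℕ))) R (MvPolynomial (Fin n) R ⧸ I),
      ∀ d, B d = Ideal.Quotient.mk I (∏ i, MvPolynomial.X i ^ (d i : ℕ)) := Groth.Agent.StaircaseLib.exists_basis n a
  have hmk : ∀ γ : (Π i : Fin n, Fin (n - (i : ℕ))) → R, Ideal.Quotient.mk I
      (∑ d, MvPolynomial.C (γ d) * ∏ i : Fin n, MvPolynomial.X i ^ ((d i : ℕ))) = ∑ d, γ d • B d := fun γ => by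
    rw [map_sum]
    refine Finset.sum_congr rfl fun d _ => ?_
    rw [hB, ← MvPolynomial.smul_eq_C_mul]
    rfl
  rw [← Finset.sum_sub_distrib]
  simp only [← sub_mul, ← map_sub]
  constructor
  · intro h d
    rw [Submodule.mem_sup] at h
    obtain ⟨y, hy, z, hz, hyz⟩ := h
    have h1 : Ideal.Quotient.mk I z ∈ (J • ⊤ : Submodule R (MvPolynomial (Fin n) R ⧸ I)) := by
      rw [Ideal.smul_top_eq_map, Submodule.restrictScalars_mem,
        show algebraMap R (MvPolynomial (Fin n) R ⧸ I) = (Ideal.Quotient.mk I).comp MvPolynomial.C from rfl,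
        ← Ideal.map_map]
      exact Ideal.mem_map_of_mem _ hz
    have h2 : Ideal.Quotient.mk I z = ∑ d, (α d - β d) • B d := by
      rw [← hmk, ← hyz, map_add, Ideal.Quotient.eq_zero_iff_mem.mpr hy, zero_add]
    have h3 : B.repr (Ideal.Quotient.mk I z) d ∈ J := by
      refine Submodule.smul_induction_on h1 (fun r hr w _ => ?_) fun p q hp hq => by
        rw [map_add, Finsupp.add_apply]; exact J.add_mem hp hq
      rw [map_smul, Finsupp.smul_apply, smul_eq_mul]
      exact J.mul_mem_right _ hr
    rwa [h2, B.repr_sum_self] at h3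
  · exact fun h => Submodule.mem_sup_right (Ideal.sum_mem _ fun d _ => Ideal.mul_mem_right _ _ (Ideal.mem_map_of_mem _ (h d)))

end Groth.Agent.S16403
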