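import Groth.Statements.S16404
import Mathlib
import Groth.Agent.StaircaseLib.Basic
-- import your own Groth.Agent.* helpers here

set_option autoImplicit false
universe u
open SymBasis

namespace Groth.Agent.S16404

/-- Let R be a commutative ring and a_1, …, a_n ∈ R with n ≥ 2; write I for the ideal of R[t_1, …, t_n]
generated by the elements e_i(t) − a_i (e_i the i-th elementary symmetric polynomial), so that
R[t_1, …, t_n]/I is the base change R ⊗ ℤ[t_1, …, t_n] over ℤ[c_1, …, c_n] (c_i ↦ a_i on one side,
c_i ↦ e_i(t) on the other). For an ideal J of R, a polynomial x lies in I + J·R[t], i.e. its class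
lies in the extension of J to R[t]/I, if and only if x ≡ Σ_d j_d t^d mod I for some family (j_d) of
elements of J indexed by the exponent vectors d with 0 ≤ d_i ≤ n − i. With the companion uniqueness
statement this says the extension of J is the direct sum of the submodules t^d · J. The published
statement takes R positively graded over ℤ[c_1, …, c_n]; this row takes any commutative ring R with
chosen elements a_1, …, a_n. -/
theorem result {R : Type u} [CommRing R] (n : ℕ) (hn : 2 ≤ n)
    (a : Fin n → R) (J : Ideal R) (x : MvPolynomial (Fin n) R) :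
    x ∈ Ideal.span (Set.range fun i : Fin n => MvPolynomial.esymm (Fin n) R ((i : ℕ) + 1) - MvPolynomial.C (a i))
        ⊔ Ideal.map (MvPolynomial.C : R →+* MvPolynomial (Fin n) R) J
    ↔ ∃ j : (Π i : Fin n, Fin (n - (i : ℕ))) → R, (∀ d : (Π i : Fin n, Fin (n - (i : ℕ))), j d ∈ J) ∧
        x - (∑ d : (Π i : Fin n, Fin (n - (i : ℕ))), MvPolynomial.C (j d) * ∏ i : Fin n, MvPolynomial.X i ^ ((d i : ℕ)))
          ∈ Ideal.span (Set.range fun i : Fin n => MvPolynomial.esymm (Fin n) R ((i : ℕ) + 1) - MvPolynomial.C (a i)) := by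
  classical
  set I := Ideal.span (Set.range fun i : Fin n => MvPolynomial.esymm (Fin n) R ((i : ℕ) + 1) - MvPolynomial.C (a i))
  obtain ⟨B, hB⟩ : ∃ B : Module.Basis (Π i : Fin n, Fin (n - (i : ℕ))) R (MvPolynomial (Fin n) R ⧸ I),
      ∀ d, B d = Ideal.Quotient.mk I (∏ i, MvPolynomial.X i ^ (d i : ℕ)) := Groth.Agent.StaircaseLib.exists_basis n a
  constructor
  · intro h
    rw [Submodule.mem_sup] at h
    obtain ⟨y, hy, z, hz, rfl⟩ := h
    have h1 : Ideal.Quotient.mk I z ∈ (J • ⊤ : Submodule R (MvPolynomial (Fin n) R ⧸ I)) := by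
      rw [Ideal.smul_top_eq_map, Submodule.restrictScalars_mem,
        show algebraMap R (MvPolynomial (Fin n) R ⧸ I) = (Ideal.Quotient.mk I).comp MvPolynomial.C from rfl,
        ← Ideal.map_map]
      exact Ideal.mem_map_of_mem _ hz
    have h3 : ∀ d, B.repr (Ideal.Quotient.mk I z) d ∈ J := fun d => by
      refine Submodule.smul_induction_on h1 (fun r hr w _ => ?_) fun p q hp hq => by
        rw [map_add, Finsupp.add_apply]; exact J.add_mem hp hq
      rw [map_smul, Finsupp.smul_apply, smul_eq_mul]
      exact J.mul_mem_right _ hr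
    refine ⟨fun d => B.repr (Ideal.Quotient.mk I z) d, h3, Ideal.Quotient.eq.mp ?_⟩
    rw [map_add, Ideal.Quotient.eq_zero_iff_mem.mpr hy, zero_add, map_sum]
    refine (B.sum_repr _).symm.trans (Finset.sum_congr rfl fun d _ => ?_)
    rw [hB, ← MvPolynomial.smul_eq_C_mul]
    rfl
  · rintro ⟨j, hj, h⟩
    exact (sub_add_cancel x _) ▸ Ideal.add_mem _ (Submodule.mem_sup_left h)
      (Submodule.mem_sup_right (Ideal.sum_mem _ fun d _ => Ideal.mul_mem_right _ _ (Ideal.mem_map_of_mem _ (hj d))))

end Groth.Agent.S16404
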