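import Mathlib
import Groth.Statements.S16405

-- import your own Groth.Agent.* helpers here

set_option autoImplicit false
universe u v
open InvQ

namespace Groth.Agent.S16405

/-- In weight form. Let b : L → ℤ^r be an injective homomorphism of abelian groups (the case in view: L
the character group of a maximal torus T of a semisimple group over ℂ and b the map dual to the
surjection of the rank-r split torus T' onto T that sends the i-th coordinate cocharacter to the
primitive generator of the i-th ray of the Weyl chamber; only the injectivity of b is used, and ℂ is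
replaced by any commutative ring k). Grade the monoid algebra k[L × ℕ^r] (the coordinate ring of T ×
𝔸^r) by ℤ^r, the monomial (w, n) having weight b(w) + n (the weights of the T'-action u·(t, v) =
(b^∨(u) t, u v)), and grade k[ℕ^r] by ℤ^r/b(L), the monomial n having weight the class of n (the
weights of the action on 𝔸^r of the diagonalizable kernel Z of T' → T, a finite group in the case in
view). For a diagonalizable group acting on an affine scheme the ring of invariants is the
weight-zero part, so the two weight-zero parts are the coordinate rings of the quotients (T ×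
𝔸^r)//T' and 𝔸^r//Z. The statement: the algebra map k[L × ℕ^r] → k[ℕ^r] induced by the projection L
× ℕ^r → ℕ^r (restriction to the slice 1 × 𝔸^r) maps the weight-zero part of k[L × ℕ^r] bijectively
onto the weight-zero part of k[ℕ^r]; hence it induces an isomorphism of k-algebras between them. -/
theorem result
    (k : Type u) [CommRing k] (r : ℕ) (L : Type v) [AddCommGroup L]
    (b : L →+ (Fin r → ℤ)) (hb : Function.Injective b) :
    Set.BijOn
      (AddMonoidAlgebra.mapDomainAlgHom k k (AddMonoidHom.snd L (Fin r → ℕ)))
      (AddMonoidAlgebra.gradeBy k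
        (b.comp (AddMonoidHom.fst L (Fin r → ℕ)) +
          (AddMonoidHom.compLeft (Nat.castAddMonoidHom ℤ) (Fin r)).comp (AddMonoidHom.snd L (Fin r → ℕ))) 0 :
        Set (AddMonoidAlgebra k (L × (Fin r → ℕ))))
      (AddMonoidAlgebra.gradeBy k
        ((QuotientAddGroup.mk' b.range).comp (AddMonoidHom.compLeft (Nat.castAddMonoidHom ℤ) (Fin r))) 0 :
        Set (AddMonoidAlgebra k (Fin r → ℕ))) := by
  classical
  let W := b.comp (AddMonoidHom.fst L (Fin r → ℕ)) +
      (AddMonoidHom.compLeft (Nat.castAddMonoidHom ℤ) (Fin r)).comp (AddMonoidHom.snd L (Fin r → ℕ))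
  let c := AddMonoidHom.compLeft (Nat.castAddMonoidHom ℤ) (Fin r)
  have hW : ∀ p, W p = b p.1 + c p.2 := fun p => rfl
  refine ⟨fun x hx => ?_, fun x hx y hy h => ?_, fun y hy => ?_⟩
  · intro n hn
    have hn' := Finsupp.mapDomain_support hn
    obtain ⟨p, hp, rfl⟩ := Finset.mem_image.1 hn'
    have h0 : b p.1 + c p.2 = 0 := hx p hp
    show QuotientAddGroup.mk' b.range (c p.2) = 0
    exact (QuotientAddGroup.eq_zero_iff _).2 ⟨-p.1, by rw [map_neg]; exact neg_eq_of_add_eq_zero_right h0⟩
  · refine AddMonoidAlgebra.coeff_injective (Finsupp.mapDomain_injOn (f := Prod.snd) {p | W p = 0} ?_ hx hy (congrArg AddMonoidAlgebra.coeff h))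
    intro p (hp : b p.1 + c p.2 = 0) q (hq : b q.1 + c q.2 = 0) (hpq : p.2 = q.2)
    refine Prod.ext (hb ?_) hpq
    rw [hpq] at hp
    exact add_right_cancel (hp.trans hq.symm)
  · have hsec : ∀ n : Fin r → ℕ, ∃ w : L, QuotientAddGroup.mk' b.range (c n) = 0 → b w + c n = 0 := by
      intro n
      by_cases h : QuotientAddGroup.mk' b.range (c n) = 0
      · obtain ⟨w, hw⟩ := (QuotientAddGroup.eq_zero_iff _).1 h
        exact ⟨-w, fun _ => by rw [map_neg, hw, neg_add_cancel]⟩
      · exact ⟨0, fun h' => absurd h' h⟩
    choose sec hsec using hsec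
    refine ⟨AddMonoidAlgebra.ofCoeff (Finsupp.mapDomain (fun n => (sec n, n)) y.coeff), ?_, ?_⟩
    · intro p hp
      obtain ⟨n, hn, rfl⟩ := Finset.mem_image.1 (Finsupp.mapDomain_support hp)
      exact hsec n (hy n hn)
    · refine AddMonoidAlgebra.coeff_injective ?_
      show Finsupp.mapDomain Prod.snd (Finsupp.mapDomain (fun n => (sec n, n)) y.coeff) = y.coeff
      rw [← Finsupp.mapDomain_comp]
      exact Finsupp.mapDomain_id

end Groth.Agent.S16405
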