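import Groth.Statements.S16414
import Mathlib


-- import your own Groth.Agent.* helpers here

set_option autoImplicit false
open Dieud

namespace Groth.Agent.S16414

/-- Let μ be a rational number with 0 < μ ≤ 1 and i an integer, and put f(i,j) = max(−i−j, −j, 0) for
integers j. Then min over all integers j of f(i,j) + jμ exists and equals max(−iμ, 0). -/
theorem result (μ : ℚ) (hμ0 : 0 < μ) (hμ1 : μ ≤ 1) (i : ℤ) :
    IsLeast (Set.range fun j : ℤ => ((max (max (-i - j) (-j)) 0 : ℤ) : ℚ) + (j : ℚ) * μ)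
      (max (-(i : ℚ) * μ) 0) := by
  have hi0 : (i : ℚ) ≤ 0 ∨ 0 ≤ (i : ℚ) := le_total _ _
  refine ⟨⟨max (-i) 0, ?_⟩, ?_⟩
  · show ((max (max (-i - max (-i) 0) (-max (-i) 0)) 0 : ℤ) : ℚ) + ((max (-i) 0 : ℤ) : ℚ) * μ = _
    rcases le_total i 0 with h | h
    · have hq : (i : ℚ) ≤ 0 := by exact_mod_cast h
      rw [max_eq_left (by omega : (0:ℤ) ≤ -i), max_eq_left (by nlinarith : (0:ℚ) ≤ -(i:ℚ) * μ),
        show max (max (-i - -i) (- -i)) 0 = (0:ℤ) by omega]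
      push_cast; ring
    · have hq : (0 : ℚ) ≤ i := by exact_mod_cast h
      rw [max_eq_right (by omega : -i ≤ (0:ℤ)), max_eq_right (by nlinarith : -(i:ℚ) * μ ≤ 0),
        show max (max (-i - 0) (-0)) 0 = (0:ℤ) by omega]
      push_cast; ring
  · rintro _ ⟨j, rfl⟩
    show _ ≤ ((max (max (-i - j) (-j)) 0 : ℤ) : ℚ) + (j : ℚ) * μ
    push_cast
    have h1 : -(i:ℚ) - j ≤ max (max (-(i:ℚ) - j) (-(j:ℚ))) 0 := le_trans (le_max_left _ _) (le_max_left _ _)
    have h2 : -(j:ℚ) ≤ max (max (-(i:ℚ) - j) (-(j:ℚ))) 0 := le_trans (le_max_right _ _) (le_max_left _ _)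
    have h3 : (0:ℚ) ≤ max (max (-(i:ℚ) - j) (-(j:ℚ))) 0 := le_max_right _ _
    refine max_le ?_ ?_
    · rcases le_total (0:ℚ) (-(i:ℚ) - j) with h | h <;> nlinarith
    · rcases le_total (0:ℚ) (-(j:ℚ)) with h | h <;> nlinarith

end Groth.Agent.S16414
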