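import Groth.Statements.S16421
import Mathlib

set_option autoImplicit false
universe u
open FrobAlg

namespace Groth.Agent.S16421

lemma flat_of_forall_exists_flat {R M : Type*} [CommRing R] [AddCommGroup M] [Module R M]
    (h : ∀ s : Finset M, ∃ N : Submodule R M, ↑s ⊆ (N : Set M) ∧ Module.Flat R N) : Module.Flat R M := by
  classical
  rw [Module.Flat.iff_rTensor_injective']
  intro I
  rw [injective_iff_map_eq_zero]
  intro z hz
  obtain ⟨t, rfl⟩ := TensorProduct.exists_finset z
  obtain ⟨N, hN, hflat⟩ := h (t.image Prod.snd)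
  have hmem : ∀ q : {q // q ∈ t}, q.1.2 ∈ N := fun q => hN (Finset.mem_image_of_mem _ q.2)
  let z' : TensorProduct R I N := ∑ q ∈ t.attach, q.1.1 ⊗ₜ ⟨q.1.2, hmem q⟩
  have h1 : N.subtype.lTensor I z' = ∑ q ∈ t, q.1 ⊗ₜ q.2 := by
    simp only [z', map_sum, LinearMap.lTensor_tmul, Submodule.subtype_apply]
    exact Finset.sum_attach t fun q => q.1 ⊗ₜ[R] q.2
  have h2 : N.subtype.lTensor R (I.subtype.rTensor N z') = 0 := by
    rw [← LinearMap.comp_apply, LinearMap.lTensor_comp_rTensor, ← LinearMap.rTensor_comp_lTensor,
      LinearMap.comp_apply, h1, hz]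
  have h3 : I.subtype.rTensor N z' = 0 :=
    (injective_iff_map_eq_zero _).mp (Module.Flat.lTensor_preserves_injective_linearMap _ N.injective_subtype) _ h2
  have h4 : z' = 0 :=
    (injective_iff_map_eq_zero _).mp (Module.Flat.rTensor_preserves_injective_linearMap _ I.injective_subtype) _ h3
  rw [← h1, h4, map_zero]

lemma flat_of_bijective_combination {R S : Type*} [CommRing R] [CommRing S] (f : R →+* S) {κ : Type*}
    (m : κ → S) (hm : Function.Bijective fun c : κ →₀ R => c.sum fun e r => f r * m e) : f.Flat := by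
  letI : Algebra R S := f.toAlgebra
  let l : (κ →₀ R) →ₗ[R] S := Finsupp.linearCombination R m
  show Module.Flat R S
  exact Module.Flat.of_linearEquiv (LinearEquiv.ofBijective l hm).symm

lemma exists_flat_submodule {R S M : Type*} [CommRing R] [CommRing S] [CommRing M] (g : R →+* M)
    (f : R →+* S) (hf : f.Flat) (j : S →+* M) (hj : Function.Injective j) (hg : g = j.comp f) :
    letI := g.toAlgebra
    ∃ N : Submodule R M, (N : Set M) = Set.range j ∧ Module.Flat R N := by
  letI := g.toAlgebra
  letI : Algebra R S := f.toAlgebra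
  haveI : Module.Flat R S := hf
  let l : S →ₗ[R] M :=
    { toFun := j
      map_add' := map_add j
      map_smul' := fun c y => by
        show j (f c * y) = g c * j y
        rw [map_mul, hg]
        rfl }
  exact ⟨LinearMap.range l, rfl, Module.Flat.of_linearEquiv (LinearEquiv.ofInjective l hj).symm⟩

lemma flat_frobenius (p : ℕ) [Fact p.Prime] (R : Type u) [CommRing R] [CharP R p] (ι : Type u) (x : ι → R)
    (hx : Function.Bijective
      (fun c : {e : ι →₀ ℕ // ∀ i, e i < p} →₀ R =>
        c.sum (fun e r => r ^ p * e.1.prod (fun i n => x i ^ n)))) :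
    (frobenius R p).Flat :=
  flat_of_bijective_combination (frobenius R p) (fun e : {e : ι →₀ ℕ // ∀ i, e i < p} => e.1.prod fun i n => x i ^ n) hx


/-- Let p be a prime and R a commutative ring of characteristic p with a p-basis (x_i), meaning that the
monomials ∏ x_i^(e i) with every exponent e i < p form a basis of R as a module over itself through
the Frobenius, i.e. the map sending a finitely supported family of coefficients c to ∑_e (c e)^p · ∏
x_i^(e i) is a bijection onto R. Then the canonical ring map from R to its perfect closure is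
faithfully flat. -/
theorem result (p : ℕ) [Fact p.Prime]
    (R : Type u) [CommRing R] [CharP R p] (ι : Type u) (x : ι → R)
    (hx : Function.Bijective
      (fun c : {e : ι →₀ ℕ // ∀ i, e i < p} →₀ R =>
        c.sum (fun e r => r ^ p * e.1.prod (fun i n => x i ^ n)))) :
    (PerfectClosure.of R p).FaithfullyFlat := by
  have hfl := flat_frobenius p R ι x hx
  let j : ℕ → R →+* PerfectClosure R p := fun n =>
    { toFun := fun r => PerfectClosure.mk R p (n, r)
      map_one' := by
        rw [PerfectClosure.one_def, PerfectClosure.mk_eq_iff]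
        exact ⟨0, by simp [iterate_map_one]⟩
      map_zero' := PerfectClosure.mk_zero_right R p n
      map_add' := fun a b => by
        rw [PerfectClosure.mk_add_mk, PerfectClosure.mk_eq_iff]
        exact ⟨0, by simp [iterate_map_add, Function.iterate_add_apply]⟩
      map_mul' := fun a b => by
        rw [PerfectClosure.mk_mul_mk, PerfectClosure.mk_eq_iff]
        exact ⟨0, by simp [iterate_map_mul, Function.iterate_add_apply]⟩ }
  have hj : ∀ n, PerfectClosure.of R p = (j n).comp ((frobenius R p) ^ n) := fun n => RingHom.ext fun r => by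
    show PerfectClosure.mk R p (0, r) = PerfectClosure.mk R p (n, ((frobenius R p) ^ n) r)
    rw [PerfectClosure.mk_eq_iff]
    exact ⟨0, by simp [RingHom.coe_pow]⟩
  have hinjF : Function.Injective (frobenius R p) := by
    intro a b hab
    have h := @hx.1 (Finsupp.single ⟨0, fun i => (Fact.out : p.Prime).pos⟩ a)
      (Finsupp.single ⟨0, fun i => (Fact.out : p.Prime).pos⟩ b) (by
        simp [Finsupp.sum_single_index, zero_pow (Fact.out : p.Prime).ne_zero]
        exact hab)
    exact Finsupp.single_injective _ h
  have hjinj : ∀ n, Function.Injective (j n) := fun n a b hab => by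
    obtain ⟨k, hk⟩ := (PerfectClosure.mk_eq_iff R p (n, a) (n, b)).mp hab
    exact (hinjF.iterate _) hk
  have hflatn : ∀ n : ℕ, ((frobenius R p) ^ n).Flat := fun n => by
    induction n with
    | zero => exact RingHom.Flat.id R
    | succ n ih =>
      rw [pow_succ']
      exact RingHom.Flat.comp ih hfl
  have hup : ∀ (n k : ℕ) (r : R), ∃ r', j (n + k) r' = j n r := fun n k r => ⟨(frobenius R p)^[k] r, by
    show PerfectClosure.mk R p _ = PerfectClosure.mk R p _
    rw [PerfectClosure.mk_eq_iff]
    exact ⟨0, by simp [Function.iterate_add_apply]⟩⟩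
  rw [RingHom.FaithfullyFlat.iff_flat_and_comap_surjective]
  have hint : (PerfectClosure.of R p).IsIntegral := fun z => by
    obtain ⟨⟨n, r⟩, rfl⟩ := PerfectClosure.mk_surjective R p z
    refine ⟨Polynomial.X ^ p ^ n - Polynomial.C r, Polynomial.monic_X_pow_sub_C _ (pow_ne_zero _ (Fact.out : p.Prime).ne_zero), ?_⟩
    rw [Polynomial.eval₂_sub, Polynomial.eval₂_X_pow, Polynomial.eval₂_C, sub_eq_zero]
    show (j n r) ^ p ^ n = _
    rw [← map_pow, hj n, RingHom.comp_apply, RingHom.coe_pow, iterate_frobenius]
  refine ⟨?_, ?_⟩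
  · letI : Algebra R (PerfectClosure R p) := (PerfectClosure.of R p).toAlgebra
    show Module.Flat R (PerfectClosure R p)
    refine flat_of_forall_exists_flat fun s => ?_
    have hs : ∀ z ∈ s, ∃ n r, j n r = z := fun z _ => by
      obtain ⟨⟨n, r⟩, rfl⟩ := PerfectClosure.mk_surjective R p z
      exact ⟨n, r, rfl⟩
    choose! n r hr using hs
    let m := s.sup n
    obtain ⟨N, hN, hNf⟩ := exists_flat_submodule (PerfectClosure.of R p) _ (hflatn m) (j m) (hjinj m) (hj m)
    refine ⟨N, fun z hz => ?_, hNf⟩
    obtain ⟨k, hk⟩ := Nat.exists_eq_add_of_le (Finset.le_sup (f := n) hz)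
    obtain ⟨r', hr'⟩ := hup (n z) k (r z)
    rw [hN]
    exact ⟨r', by rw [show m = n z + k from hk, hr', hr z hz]⟩
  · intro q
    letI : Algebra R (PerfectClosure R p) := (PerfectClosure.of R p).toAlgebra
    haveI : Algebra.IsIntegral R (PerfectClosure R p) := ⟨hint⟩
    obtain ⟨Q, -, hQp, hQ⟩ := Ideal.exists_ideal_over_prime_of_isIntegral q.asIdeal (⊥ : Ideal (PerfectClosure R p)) (by
      intro a ha
      have h0 : PerfectClosure.of R p a = 0 := ha
      have : a = 0 := hjinj 0 (by rw [map_zero]; exact h0)
      rw [this]; exact q.asIdeal.zero_mem)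
    exact ⟨⟨Q, hQp⟩, PrimeSpectrum.ext hQ⟩

end Groth.Agent.S16421
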