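import Groth.Statements.S16422
import Mathlib.Algebra.Module.Projective
import Mathlib.RingTheory.GradedAlgebra.Homogeneous.Ideal
import Mathlib.Algebra.Module.GradedModule
import Mathlib.RingTheory.Finiteness.Basic
import Mathlib.LinearAlgebra.Pi
import Mathlib.Algebra.Module.Submodule.Pointwise

set_option autoImplicit false
universe u
open GrMod

namespace Groth.Agent.S16422

/-- Let S be a commutative ring graded by ℤ with pieces 𝒜 n, and V a decreasing sequence of homogeneous
ideals for which S is graded-complete, i.e. for each degree n the map from 𝒜 n to the inverse limit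
of the quotients 𝒜 n / (𝒜 n ∩ V m) is bijective (stated as: a degree-n element in every V m
vanishes, and every sequence in 𝒜 n whose consecutive differences lie in the V m has a limit in 𝒜
n). Then every graded S-module M which is finitely generated and projective as an S-module is
graded-complete in the same sense for the submodules V m · M: for each n the map from ℳ n to the
inverse limit of ℳ n / (ℳ n ∩ V m · M) is bijective. -/
theorem result
    (S : Type u) [CommRing S] (𝒜 : ℤ → AddSubgroup S) [GradedRing 𝒜]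
    (V : ℕ → HomogeneousIdeal 𝒜) (hV : ∀ m, (V (m + 1)).toIdeal ≤ (V m).toIdeal)
    (hsep : ∀ (n : ℤ) (s : S), s ∈ 𝒜 n → (∀ m, s ∈ (V m).toIdeal) → s = 0)
    (hcpl : ∀ (n : ℤ) (f : ℕ → S), (∀ m, f m ∈ 𝒜 n) →
      (∀ m, f (m + 1) - f m ∈ (V m).toIdeal) → ∃ s ∈ 𝒜 n, ∀ m, s - f m ∈ (V m).toIdeal)
    (M : Type u) [AddCommGroup M] [Module S M] (ℳ : ℤ → AddSubgroup M)
    [DirectSum.Decomposition ℳ] [SetLike.GradedSMul 𝒜 ℳ]
    [Module.Finite S M] [Module.Projective S M] :
    (∀ (n : ℤ) (x : M), x ∈ ℳ n → (∀ m, x ∈ (V m).toIdeal • (⊤ : Submodule S M)) → x = 0) ∧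
    (∀ (n : ℤ) (g : ℕ → M), (∀ m, g m ∈ ℳ n) →
      (∀ m, g (m + 1) - g m ∈ (V m).toIdeal • (⊤ : Submodule S M)) →
      ∃ x ∈ ℳ n, ∀ m, x - g m ∈ (V m).toIdeal • (⊤ : Submodule S M)) := by
  classical
  obtain ⟨G, hG⟩ := Module.Finite.fg_top (R := S) (M := M)
  let ι := Σ x : G, (DFinsupp.support (DirectSum.decompose ℳ (x : M)) : Finset ℤ)
  let e : ι → M := fun j => (DirectSum.decompose ℳ (j.1 : M) (j.2 : ℤ) : M)
  let d : ι → ℤ := fun j => (j.2 : ℤ)
  have he : ∀ j, e j ∈ ℳ (d j) := fun j => (DirectSum.decompose ℳ (j.1 : M) (j.2 : ℤ)).2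
  let π : (ι → S) →ₗ[S] M := Fintype.linearCombination S e
  have hπ : Function.Surjective π := by
    rw [← LinearMap.range_eq_top, eq_top_iff, ← hG, Submodule.span_le]
    intro x hx
    rw [SetLike.mem_coe, ← DirectSum.sum_support_decompose ℳ x]
    refine sum_mem fun i hi => ?_
    exact ⟨Pi.single ⟨⟨x, hx⟩, ⟨i, hi⟩⟩ 1, by rw [Fintype.linearCombination_apply_single, one_smul]⟩
  obtain ⟨φ, hφ⟩ := Module.projective_lifting_property π LinearMap.id hπ
  have hsum : ∀ x, x = ∑ j, φ x j • e j := fun x => (LinearMap.congr_fun hφ x).symm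
  have hV' : ∀ (m : ℕ) (x : M), x ∈ (V m).toIdeal • (⊤ : Submodule S M) → ∀ j, φ x j ∈ (V m).toIdeal := by
    intro m x hx j
    refine Submodule.smul_induction_on (p := fun x => φ x j ∈ (V m).toIdeal) hx (fun r hr y _ => ?_) fun a b ha hb => ?_
    · rw [map_smul, Pi.smul_apply, smul_eq_mul]
      exact Ideal.mul_mem_right _ _ hr
    · rw [map_add, Pi.add_apply]; exact add_mem ha hb
  have hhom : ∀ (m : ℕ) (i : ℤ) (c : S), c ∈ (V m).toIdeal → (DirectSum.decompose 𝒜 c i : S) ∈ (V m).toIdeal :=
    fun m i c hc => (V m).isHomogeneous i hc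
  refine ⟨fun n x _ hx => ?_, fun n g hg hd => ?_⟩
  · have hz : φ x = 0 := funext fun j => by
      rw [Pi.zero_apply, ← DirectSum.sum_support_decompose 𝒜 (φ x j)]
      exact Finset.sum_eq_zero fun i _ => hsep i _ (DirectSum.decompose 𝒜 (φ x j) i).2
        fun m => hhom m i _ (hV' m x (hx m) j)
    rw [hsum x, hz]
    simp
  · have hcomp : ∀ (c : S) (j : ι) (n : ℤ),
        (DirectSum.decompose ℳ (c • e j) n : M) = (DirectSum.decompose 𝒜 c (n - d j) : S) • e j := by
      intro c j n
      induction c using DirectSum.Decomposition.inductionOn 𝒜 with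
      | zero => simp
      | add a b ha hb =>
        rw [add_smul, DirectSum.decompose_add, DirectSum.add_apply, AddSubgroup.coe_add, ha, hb,
          DirectSum.decompose_add, DirectSum.add_apply, AddSubgroup.coe_add, add_smul]
      | @homogeneous i c =>
        have hm : (c : S) • e j ∈ ℳ (i + d j) := SetLike.GradedSMul.smul_mem c.2 (he j)
        by_cases h : i = n - d j
        · rw [DirectSum.decompose_of_mem_same 𝒜 (h ▸ c.2),
            DirectSum.decompose_of_mem_same ℳ (show _ ∈ ℳ n by rwa [show n = i + d j by omega])]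
        · rw [DirectSum.decompose_of_mem_ne 𝒜 c.2 h, zero_smul,
            DirectSum.decompose_of_mem_ne ℳ hm (by omega)]
    have hg' : ∀ m, g m = ∑ j, (DirectSum.decompose 𝒜 (φ (g m) j) (n - d j) : S) • e j := by
      intro m
      conv_lhs => rw [← DirectSum.decompose_of_mem_same ℳ (hg m), hsum (g m)]
      rw [DirectSum.decompose_sum, DFinsupp.finsetSum_apply, AddSubmonoidClass.coe_finsetSum]
      exact Finset.sum_congr rfl fun j _ => hcomp _ _ _
    have hs : ∀ j : ι, ∃ s ∈ 𝒜 (n - d j), ∀ m,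
        s - (DirectSum.decompose 𝒜 (φ (g m) j) (n - d j) : S) ∈ (V m).toIdeal := fun j =>
      hcpl (n - d j) (fun m => (DirectSum.decompose 𝒜 (φ (g m) j) (n - d j) : S))
        (fun m => (DirectSum.decompose 𝒜 (φ (g m) j) (n - d j)).2) (fun m => by
          have h1 := hhom m (n - d j) _ (hV' m _ (hd m) j)
          rw [map_sub, Pi.sub_apply, DirectSum.decompose_sub, DirectSum.sub_apply, AddSubgroup.coe_sub] at h1
          exact h1)
    choose s hs hs' using hs
    refine ⟨∑ j, s j • e j, sum_mem fun j _ => ?_, fun m => ?_⟩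
    · have := SetLike.GradedSMul.smul_mem (hs j) (he j) (B := ℳ)
      rwa [show (n - d j) +ᵥ d j = n by rw [vadd_eq_add]; omega] at this
    · rw [hg' m, ← Finset.sum_sub_distrib]
      refine sum_mem fun j _ => ?_
      rw [← sub_smul]
      exact Submodule.smul_mem_smul (hs' j m) trivial

end Groth.Agent.S16422
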