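import Groth.Statements.S16431
import Groth.Agent.SHSubLib.BranchExt

set_option autoImplicit false
universe u
open Hensel

namespace Groth.Agent.S16431

/-- Let A be an excellent reduced local ring with residue field k, let A' be the integral closure of A
in its total ring of fractions, let A^h be a henselization and A^hs a strict henselization of A, and
let A^h → A^hs be the A-algebra map between them (it is the unique one). Then the residue field of
A' at every maximal ideal is purely inseparable over k — every element has some p^n-th power in the
image of A, p the characteristic exponent — if and only if every minimal prime ideal of A^hs is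
generated by its contraction to A^h. -/
theorem result
    (A Ah Ash : Type u) [CommRing A] [IsLocalRing A] [IsReduced A] (hA : EGA4.IsExcellent A)
    [CommRing Ah] [IsLocalRing Ah] [Algebra A Ah] [IsLocalHom (algebraMap A Ah)]
    [Hensel.IsHenselization A Ah]
    [CommRing Ash] [IsLocalRing Ash] [Algebra A Ash] [IsLocalHom (algebraMap A Ash)]
    [Hensel.IsStrictHenselization A Ash] [Algebra Ah Ash] [IsScalarTower A Ah Ash] :
    (∀ (M : Ideal (integralClosure A (FractionRing A))) [M.IsMaximal], ∀ x : (integralClosure A (FractionRing A)) ⧸ M, ∃ n : ℕ,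
        x ^ (ringExpChar ((integralClosure A (FractionRing A)) ⧸ M)) ^ n ∈
          ((Ideal.Quotient.mk M).comp (algebraMap A (integralClosure A (FractionRing A)))).range) ↔
      (∀ Q ∈ minimalPrimes Ash, Q = Ideal.map (algebraMap Ah Ash) (Q.comap (algebraMap Ah Ash))) := by
  classical
  haveI := hA.1
  rw [SHSubLib.extended_iff_card_eq A Ah Ash]
  have hfin : (minimalPrimes A).Finite := minimalPrimes.finite_of_isNoetherianRing A
  haveI : Module.FaithfullyFlat A Ash := Groth.Agent.S0539.result A Ash
  haveI : IsNoetherianRing Ash := (Groth.Agent.S0540.result A Ash).1 inferInstance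
  haveI : HenselianLocalRing Ash := Hensel.IsStrictHenselization.henselian A
  haveI : IsSepClosure (IsLocalRing.ResidueField A) (IsLocalRing.ResidueField Ash) :=
    Hensel.IsStrictHenselization.isSepClosure
  haveI : IsSepClosed (IsLocalRing.ResidueField Ash) := IsSepClosure.sep_closed (IsLocalRing.ResidueField A)
  obtain ⟨es⟩ := HenselLib.nonempty_algEquiv_SH (R := A) Ash
  have hgeom := HenselBranchLib.card_eq_numGeomBranches A Ash
    (HenselLib.etCov_of_algEquiv es (HenselLib.etCov_hens _))
  haveI : Finite (minimalPrimes Ash) := (minimalPrimes.finite_of_isNoetherianRing Ash).to_subtype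
  have hσ : Finite (Σ m' : MaximalSpectrum (CAlg2.normRed A), Brnch.Emb A m') := by
    have h : ENat.card (Σ m' : MaximalSpectrum (CAlg2.normRed A), Brnch.Emb A m') < ⊤ := by
      have h2 := hgeom
      unfold Brnch.numGeomBranches at h2
      rw [if_pos hfin] at h2
      rw [← h2]
      exact ENat.card_lt_top.2 inferInstance
    exact ENat.card_lt_top.1 h
  haveI : ∀ m' : MaximalSpectrum (CAlg2.normRed A), Nonempty (Brnch.Emb A m') := fun m' => (BranchLib.emb_equiv A m').1
  unfold Brnch.numBranches Brnch.numGeomBranches
  rw [if_pos hfin, if_pos hfin, SHSubLib.sigma_card_eq_iff]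
  obtain ⟨e, he⟩ := SHSubLib.exists_normRed_equiv A
  constructor
  · intro h m'
    refine (BranchLib.emb_equiv A m').2.2 ?_
    haveI := m'.isMaximal
    exact SHSubLib.pure_transfer (algebraMap A (integralClosure A (FractionRing A)))
      ((algebraMap (CAlg2.red A) (CAlg2.normRed A)).comp (Ideal.Quotient.mk (nilradical A))) e he h m'.asIdeal
  · intro h
    refine SHSubLib.pure_transfer ((algebraMap (CAlg2.red A) (CAlg2.normRed A)).comp (Ideal.Quotient.mk (nilradical A)))
      (algebraMap A (integralClosure A (FractionRing A))) e.symm (fun a => ?_)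
      (fun M hM => (BranchLib.emb_equiv A ⟨M, hM⟩).2.1 (h ⟨M, hM⟩))
    rw [RingHom.comp_apply, ← he, RingEquiv.symm_apply_apply]

end Groth.Agent.S16431
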