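import Groth.Statements.S16432
import Groth.Agent.SHSubLib.Normal
import Groth.Agent.HenselBranchLib.EssEtLift
import Groth.Agent.S2748
import Groth.Agent.S2654
import Groth.Agent.S16438

set_option autoImplicit false
universe u
open EGA4loc

namespace Groth.Agent.S16432

/-- Let A be an excellent normal local domain and S a strict henselization of A; let D be an
A-subalgebra of S which is a local ring dominated by S (the inclusion is a local homomorphism), an
integrally closed domain, and whose fraction field is generated as a field over the image of A by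
finitely many elements of D. Then D is an essentially etale local A-algebra: A-isomorphic to the
localization of an etale A-algebra at a prime ideal over the maximal ideal of A. -/
theorem result
    (A S : Type u) [CommRing A] [IsLocalRing A] [IsDomain A] [IsIntegrallyClosed A]
    (hA : EGA4.IsExcellent A) [CommRing S] [IsLocalRing S] [Algebra A S] [IsLocalHom (algebraMap A S)]
    [Hensel.IsStrictHenselization A S] (D : Subalgebra A S) [IsLocalRing D]
    [IsLocalHom (algebraMap D S)] [IsDomain D] [IsIntegrallyClosed D]
    (hfg : ∃ s : Finset D, Subfield.closure (Set.range (algebraMap A (FractionRing D)) ∪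
        (algebraMap D (FractionRing D)) '' (s : Set D)) = ⊤) :
    EGA4loc.IsEssentiallyEtale A D := by
  classical
  haveI := hA.1
  haveI : Module.FaithfullyFlat A S := Groth.Agent.S0539.result A S
  obtain ⟨hSdom, -⟩ := (Groth.Agent.S2748.result A S).2 ⟨inferInstance, inferInstance⟩
  haveI := hSdom
  obtain ⟨s, hs⟩ := hfg
  obtain ⟨E, hsE, _, hEh, hE, hff⟩ := SHSubLib.exists_essEt_ge A S (s.image fun d : D => (d : S))
  haveI := hEh
  haveI := hff
  let jD := algebraMap D (FractionRing D)
  let Ω : Subalgebra A D := E.comap D.val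
  have hgens : Set.range (algebraMap A (FractionRing D)) ∪ jD '' (s : Set D) ⊆
      (Ω.toSubring.map jD : Set (FractionRing D)) := by
    rintro _ (⟨a, rfl⟩ | ⟨d, hd, rfl⟩)
    · exact ⟨algebraMap A D a, E.algebraMap_mem a, (IsScalarTower.algebraMap_apply A D (FractionRing D) a).symm⟩
    · refine ⟨d, ?_, rfl⟩
      apply hsE
      simp only [Finset.coe_image, Set.mem_image, Finset.mem_coe]
      exact ⟨d, hd, rfl⟩
  have hDE : D ≤ E := fun d hd => by
    have hmem : jD ⟨d, hd⟩ ∈ Subfield.closure (Set.range (algebraMap A (FractionRing D)) ∪ jD '' (s : Set D)) := by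
      rw [hs]; trivial
    obtain ⟨y, hy, z, hz, hyz⟩ := Subfield.mem_closure_iff.1 hmem
    obtain ⟨p, hp, rfl⟩ := (Subring.closure_le.2 hgens) hy
    obtain ⟨q, hq, rfl⟩ := (Subring.closure_le.2 hgens) hz
    by_cases hq0 : q = 0
    · subst hq0
      have h0 : (⟨d, hd⟩ : D) = 0 := IsFractionRing.injective D (FractionRing D) (by
        rw [← hyz, map_zero, div_zero])
      rw [show d = 0 from congrArg Subtype.val h0]
      exact E.zero_mem
    have hqd : q * ⟨d, hd⟩ = p := by
      apply IsFractionRing.injective D (FractionRing D)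
      rw [map_mul, ← hyz, mul_div_cancel₀]
      exact fun h => hq0 (IsFractionRing.injective D (FractionRing D) (by rw [h, map_zero]))
    have hqd' : (q : S) * d = (p : S) := congrArg Subtype.val hqd
    have hmemE : (⟨(p : S), hp⟩ : E) ∈ Ideal.span {(⟨(q : S), hq⟩ : E)} := by
      rw [← Ideal.comap_map_eq_self_of_faithfullyFlat (B := S) (Ideal.span {(⟨(q : S), hq⟩ : E)}),
        Ideal.mem_comap, Ideal.map_span, Set.image_singleton, Ideal.mem_span_singleton]
      exact ⟨d, hqd'.symm⟩
    obtain ⟨z, hz⟩ := Ideal.mem_span_singleton.1 hmemE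
    have hz' : (p : S) = (q : S) * (z : S) := congrArg Subtype.val hz
    have hzd : (z : S) = d := mul_left_cancel₀ (fun h => hq0 (Subtype.ext h)) (hz'.symm.trans hqd'.symm)
    exact hzd ▸ z.2
  haveI : IsLocalHom (algebraMap A E) := ⟨fun a ha => by
    have := ha.map (algebraMap E S)
    rw [← IsScalarTower.algebraMap_apply] at this
    exact isUnit_of_map_unit _ a this⟩
  let DE : Subalgebra A E := D.comap E.val
  let e : DE ≃ₐ[A] D := AlgEquiv.ofBijective ((E.val.comp DE.val).codRestrict D fun y => y.2)
    ⟨fun y z h => Subtype.ext (Subtype.ext (congrArg Subtype.val h :)), fun d => ⟨⟨⟨d, hDE d.2⟩, d.2⟩, rfl⟩⟩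
  haveI : IsLocalRing DE := RingEquiv.isLocalRing e.symm.toRingEquiv
  haveI : IsDomain DE := e.injective.isDomain
  haveI : IsIntegrallyClosed DE := IsIntegrallyClosed.of_equiv e.symm.toRingEquiv
  haveI : IsLocalHom (algebraMap DE E) := ⟨fun y hy => by
    have h2 : IsUnit (algebraMap D S (e y)) := hy.map (algebraMap E S)
    have h3 := (isUnit_of_map_unit _ _ h2).map e.symm
    rwa [e.symm_apply_apply] at h3⟩
  haveI := SHSubLib.essFiniteType_of_normal (Groth.Agent.S2654.result A ⟨hA.1, hA.2.2.1, hA.2.2.2⟩) hE DE
  haveI : Algebra.EssFiniteType A D := Algebra.EssFiniteType.of_surjective e.toAlgHom e.surjective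
  haveI : Module.Flat DE E := SHSubLib.flat_of_normal Subtype.val_injective hE
  haveI : Module.FaithfullyFlat DE E := Module.FaithfullyFlat.of_flat_of_isLocalHom
  refine Groth.Agent.S16438.result A S D ?_
  have hm : Ideal.map (algebraMap A DE) (IsLocalRing.maximalIdeal A) = IsLocalRing.maximalIdeal DE := by
    have h0 : (IsLocalRing.maximalIdeal E).comap (algebraMap DE E) = IsLocalRing.maximalIdeal DE :=
      ((IsLocalRing.local_hom_TFAE (algebraMap DE E)).out 0 4).1 ‹IsLocalHom (algebraMap DE E)›
    rw [← h0, ← HenselBranchLib.map_maximal_of_essEt hE, IsScalarTower.algebraMap_eq A DE E, ← Ideal.map_map,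
      Ideal.comap_map_eq_self_of_faithfullyFlat (B := E)]
  have h1 : (IsLocalRing.maximalIdeal DE).map e.toAlgHom.toRingHom = IsLocalRing.maximalIdeal D := by
    have h2 : (IsLocalRing.maximalIdeal D).comap e.toAlgHom.toRingHom = IsLocalRing.maximalIdeal DE :=
      IsLocalRing.eq_maximalIdeal (Ideal.comap_isMaximal_of_surjective _ e.surjective)
    rw [← h2]
    exact Ideal.map_comap_of_surjective e.toAlgHom.toRingHom e.surjective _
  rw [← h1, ← hm, Ideal.map_map]
  exact congrArg (fun g : A →+* D => Ideal.map g (IsLocalRing.maximalIdeal A)) e.toAlgHom.comp_algebraMap.symm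

end Groth.Agent.S16432
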