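import Groth.Statements.S16433
import Groth.Agent.S16432
import Groth.Agent.S2748

set_option autoImplicit false
universe u
open EGA4loc

namespace Groth.Agent.S16433

/-- Let A be an excellent normal local domain and S a strict henselization of A; let D be an
A-subalgebra of S which is a local ring dominated by S (the inclusion is a local homomorphism) and
an integrally closed domain. Then D is a directed union of local etale extensions of A: every finite
subset of D is contained in an A-subalgebra D' of S with D' contained in D, D' a local ring whose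
inclusion into S is local, and D' an essentially etale local A-algebra (a localization of an etale
A-algebra at a prime over the maximal ideal). -/
theorem result
    (A S : Type u) [CommRing A] [IsLocalRing A] [IsDomain A] [IsIntegrallyClosed A]
    (hA : EGA4.IsExcellent A) [CommRing S] [IsLocalRing S] [Algebra A S] [IsLocalHom (algebraMap A S)]
    [Hensel.IsStrictHenselization A S] (D : Subalgebra A S) [IsLocalRing D]
    [IsLocalHom (algebraMap D S)] [IsDomain D] [IsIntegrallyClosed D]
    (s : Finset S) (hs : (s : Set S) ⊆ (D : Set S)) :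
    ∃ D' : Subalgebra A S, D' ≤ D ∧ (s : Set S) ⊆ (D' : Set S) ∧
      ∃ _ : IsLocalRing D', IsLocalHom (algebraMap D' S) ∧ EGA4loc.IsEssentiallyEtale A D' := by
  classical
  obtain ⟨hSdom, -⟩ := (Groth.Agent.S2748.result A S).2 ⟨inferInstance, inferInstance⟩
  haveI := hSdom
  let G := Algebra.adjoin A (s : Set S)
  have hGD : G ≤ D := Algebra.adjoin_le hs
  let D' : Subalgebra A S :=
    { carrier := {x | x ∈ D ∧ ∃ p ∈ G, ∃ q ∈ G, q ≠ 0 ∧ q * x = p}
      mul_mem' := by
        rintro x y ⟨hx, p, hp, q, hq, hq0, hqx⟩ ⟨hy, p', hp', q', hq', hq0', hqy⟩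
        exact ⟨D.mul_mem hx hy, p * p', G.mul_mem hp hp', q * q', G.mul_mem hq hq', mul_ne_zero hq0 hq0', by
          rw [← hqx, ← hqy]; ring⟩
      add_mem' := by
        rintro x y ⟨hx, p, hp, q, hq, hq0, hqx⟩ ⟨hy, p', hp', q', hq', hq0', hqy⟩
        exact ⟨D.add_mem hx hy, q' * p + q * p', G.add_mem (G.mul_mem hq' hp) (G.mul_mem hq hp'), q * q',
          G.mul_mem hq hq', mul_ne_zero hq0 hq0', by rw [← hqx, ← hqy]; ring⟩
      algebraMap_mem' := fun a => ⟨D.algebraMap_mem a, _, G.algebraMap_mem a, 1, G.one_mem, one_ne_zero, one_mul _⟩ }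
  have hle : D' ≤ D := fun x hx => hx.1
  have hGD' : G ≤ D' := fun x hx => ⟨hGD hx, x, hx, 1, G.one_mem, one_ne_zero, one_mul _⟩
  let ψ : D' →ₐ[A] D := Subalgebra.inclusion hle
  haveI hψloc : IsLocalHom (ψ : D' →+* D) := by
    refine ⟨fun x hx => ?_⟩
    obtain ⟨v, hv⟩ := hx.exists_right_inv
    have hv' : (x : S) * (v : S) = 1 := congrArg Subtype.val hv
    obtain ⟨-, p, hp, q, hq, hq0, hqx⟩ := x.2
    have hp0 : p ≠ 0 := fun h => hq0 (by
      calc q = q * ((x : S) * (v : S)) := by rw [hv', mul_one]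
        _ = 0 := by rw [← mul_assoc, hqx, h, zero_mul])
    have hvD' : (v : S) ∈ D' := ⟨v.2, q, hq, p, hp, hp0, by rw [← hqx, mul_assoc, hv', mul_one]⟩
    exact IsUnit.of_mul_eq_one ⟨(v : S), hvD'⟩ (Subtype.ext hv')
  haveI : IsLocalRing D' := (ψ : D' →+* D).domain_isLocalRing
  haveI : IsLocalHom (algebraMap D' S) := ⟨fun x hx =>
    hψloc.map_nonunit x (isUnit_of_map_unit (algebraMap D S) (ψ x) hx)⟩
  haveI : IsIntegrallyClosed D' := by
    refine (isIntegrallyClosed_iff (FractionRing D')).2 fun {x} hx => ?_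
    obtain ⟨n, d, hd, rfl⟩ := IsFractionRing.div_surjective (A := D') x
    have hinj : Function.Injective ((algebraMap D (FractionRing D)).comp (ψ : D' →+* D)) :=
      (IsFractionRing.injective D (FractionRing D)).comp (Subalgebra.inclusion_injective hle)
    let Ψ : FractionRing D' →+* FractionRing D := IsFractionRing.lift hinj
    have hΨ : ∀ z, Ψ (algebraMap D' (FractionRing D') z) = algebraMap D (FractionRing D) (ψ z) := fun z =>
      IsFractionRing.lift_algebraMap hinj z
    obtain ⟨g, hg, hgx⟩ := hx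
    have hint : IsIntegral D (Ψ (algebraMap D' _ n / algebraMap D' _ d)) := by
      refine ⟨g.map (ψ : D' →+* D), hg.map _, ?_⟩
      rw [Polynomial.eval₂_map, show (algebraMap D (FractionRing D)).comp (ψ : D' →+* D) =
        Ψ.comp (algebraMap D' (FractionRing D')) from RingHom.ext fun z => (hΨ z).symm,
        ← Polynomial.hom_eval₂, hgx, map_zero]
    obtain ⟨y, hy⟩ := (isIntegrallyClosed_iff (FractionRing D)).1 ‹IsIntegrallyClosed D› hint
    have hd0 : (d : D') ≠ 0 := nonZeroDivisors.ne_zero hd
    have hdy : ψ d * y = ψ n := by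
      apply IsFractionRing.injective D (FractionRing D)
      rw [map_mul, hy, ← hΨ, ← hΨ, ← map_mul, mul_div_cancel₀]
      exact fun h => hd0 (IsFractionRing.injective D' (FractionRing D') (by rw [h, map_zero]))
    have hdy' : (d : S) * (y : S) = (n : S) := congrArg Subtype.val hdy
    obtain ⟨-, p, hp, q, hq, hq0, hqd⟩ := d.2
    obtain ⟨-, p', hp', q', hq', hq0', hqn⟩ := n.2
    have hp0 : p ≠ 0 := fun h => by
      rw [h] at hqd
      rcases mul_eq_zero.1 hqd with h' | h'
      · exact hq0 h'
      · exact hd0 (Subtype.ext h')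
    have hyD' : (y : S) ∈ D' := ⟨y.2, q * p', G.mul_mem hq hp', q' * p, G.mul_mem hq' hp, mul_ne_zero hq0' hp0, by
      rw [← hqd, ← hqn, ← hdy']; ring⟩
    refine ⟨⟨(y : S), hyD'⟩, ?_⟩
    rw [eq_div_iff fun h => hd0 (IsFractionRing.injective D' (FractionRing D') (by rw [h, map_zero])), ← map_mul]
    exact congrArg _ (Subtype.ext ((mul_comm _ _).trans hdy'))
  have hfg : ∃ t : Finset D', Subfield.closure (Set.range (algebraMap A (FractionRing D')) ∪
      (algebraMap D' (FractionRing D')) '' (t : Set D')) = ⊤ := by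
    refine ⟨s.attach.image fun x => ⟨x.1, hGD' (Algebra.subset_adjoin x.2)⟩, eq_top_iff.2 fun z _ => ?_⟩
    set W := Subfield.closure (Set.range (algebraMap A (FractionRing D')) ∪ (algebraMap D' (FractionRing D')) ''
      ((s.attach.image fun x => (⟨x.1, hGD' (Algebra.subset_adjoin x.2)⟩ : D')) : Set D'))
    have hG : ∀ g (hg : g ∈ G), algebraMap D' (FractionRing D') ⟨g, hGD' hg⟩ ∈ W := by
      intro g hg
      induction hg using Algebra.adjoin_induction with
      | mem g hg =>
        exact Subfield.subset_closure (Or.inr ⟨_, Finset.mem_coe.2 (Finset.mem_image.2 ⟨⟨g, hg⟩, Finset.mem_attach _ _, rfl⟩), rfl⟩)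
      | algebraMap a =>
        exact Subfield.subset_closure (Or.inl ⟨a, IsScalarTower.algebraMap_apply A D' (FractionRing D') a⟩)
      | add x y hxG hyG hx hy =>
        rw [show (⟨x + y, hGD' (G.add_mem hxG hyG)⟩ : D') = ⟨x, hGD' hxG⟩ + ⟨y, hGD' hyG⟩ from rfl, map_add]
        exact add_mem hx hy
      | mul x y hxG hyG hx hy =>
        rw [show (⟨x * y, hGD' (G.mul_mem hxG hyG)⟩ : D') = ⟨x, hGD' hxG⟩ * ⟨y, hGD' hyG⟩ from rfl, map_mul]
        exact mul_mem hx hy
    obtain ⟨n, d, -, rfl⟩ := IsFractionRing.div_surjective (A := D') z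
    have hmem : ∀ x : D', algebraMap D' (FractionRing D') x ∈ W := fun x => by
      obtain ⟨-, p, hp, q, hq, hq0, hqx⟩ := x.2
      have h : algebraMap D' (FractionRing D') x = algebraMap D' _ ⟨p, hGD' hp⟩ / algebraMap D' _ ⟨q, hGD' hq⟩ := by
        rw [eq_div_iff fun h => hq0 (congrArg Subtype.val (IsFractionRing.injective D' (FractionRing D') (h.trans (map_zero _).symm))),
          ← map_mul]
        exact congrArg _ (Subtype.ext ((mul_comm _ _).trans hqx))
      rw [h]
      exact div_mem (hG p hp) (hG q hq)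
    exact div_mem (hmem n) (hmem d)
  exact ⟨D', hle, fun x hx => hGD' (Algebra.subset_adjoin hx), inferInstance, inferInstance,
    Groth.Agent.S16432.result A S hA D' hfg⟩

end Groth.Agent.S16433
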