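import Groth.Statements.S16434
import Mathlib
import Groth.Agent.SHGalLib.Descend

set_option autoImplicit false
universe u
open EGA4loc

namespace Groth.Agent.S16434

/-- Let A be an excellent henselian local domain such that a strict henselization S of A is again a
domain, let K be the fraction field of S, and let L be the subfield of K generated over the image of
A by a finite subset t of K (so L is an intermediate field between the fraction fields of A and of
S, finitely generated over the former). Then the intersection of L with S is (the underlying set of)
an A-subalgebra D of S which is a local ring with local inclusion into S and which is an essentially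
etale local A-algebra: A-isomorphic to the localization of an etale A-algebra at a prime over the
maximal ideal. -/
theorem result
    (A S : Type u) [CommRing A] [HenselianLocalRing A] [IsDomain A] (hA : EGA4.IsExcellent A)
    [CommRing S] [IsLocalRing S] [Algebra A S] [IsLocalHom (algebraMap A S)]
    [Hensel.IsStrictHenselization A S] [IsDomain S] (t : Finset (FractionRing S)) :
    ∃ D : Subalgebra A S, (D : Set S) = (algebraMap S (FractionRing S)) ⁻¹'
        (Subfield.closure (Set.range (algebraMap A (FractionRing S)) ∪ (t : Set (FractionRing S))) :
          Set (FractionRing S)) ∧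
      ∃ _ : IsLocalRing D, IsLocalHom (algebraMap D S) ∧ EGA4loc.IsEssentiallyEtale A D := by
  haveI : HenselianLocalRing S := Hensel.IsStrictHenselization.henselian A
  haveI : Module.FaithfullyFlat A S := Groth.Agent.S0539.result A S
  let K := FractionRing A
  let FS := FractionRing S
  have hinj : Function.Injective (algebraMap A FS) := by
    rw [IsScalarTower.algebraMap_eq A S FS]
    exact (IsFractionRing.injective S FS).comp (FaithfulSMul.algebraMap_injective A S)
  letI : Algebra K FS := (IsFractionRing.lift (K := K) hinj).toAlgebra
  haveI : IsScalarTower A K FS := IsScalarTower.of_algebraMap_eq fun a => (IsFractionRing.lift_algebraMap _ a).symm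
  obtain ⟨F, D, hD⟩ := SHGalLib.exists_fel_of_finset (A := A) (S := S) K FS t
  have hL : ((IntermediateField.adjoin K (t : Set FS)).toSubfield) =
      Subfield.closure (Set.range (algebraMap A FS) ∪ (t : Set FS)) := by
    have hK : Set.range (algebraMap K FS) ⊆ Subfield.closure (Set.range (algebraMap A FS) ∪ (t : Set FS)) := by
      rintro _ ⟨z, rfl⟩
      obtain ⟨a, b, -, rfl⟩ := IsFractionRing.div_surjective (A := A) z
      rw [map_div₀, ← IsScalarTower.algebraMap_apply, ← IsScalarTower.algebraMap_apply]
      exact div_mem (Subfield.subset_closure (Or.inl ⟨a, rfl⟩)) (Subfield.subset_closure (Or.inl ⟨b, rfl⟩))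
    refine le_antisymm (Subfield.closure_le.mpr (Set.union_subset hK fun z hz => Subfield.subset_closure (Or.inr hz))) ?_
    refine Subfield.closure_mono (Set.union_subset_union ?_ le_rfl)
    rintro _ ⟨a, rfl⟩
    exact ⟨algebraMap A K a, (IsScalarTower.algebraMap_apply A K FS a).symm⟩
  let e : D.B ≃ₐ[A] D.j.range := AlgEquiv.ofInjective D.j D.inj
  haveI : IsLocalRing D.j.range := RingEquiv.isLocalRing e.toRingEquiv
  refine ⟨D.j.range, Set.ext fun x => ?_, inferInstance, ⟨fun y hy => ?_⟩, ?_⟩
  · rw [Set.mem_preimage, ← hL]
    exact (hD x).symm
  · obtain ⟨b, rfl⟩ := e.surjective y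
    exact (D.loc.map_nonunit b hy).map e
  · refine ⟨D.B, inferInstance, inferInstance, IsLocalRing.maximalIdeal D.B, inferInstance, inferInstance, ?_, ⟨e.symm.trans
      (IsLocalization.atUnits D.B (IsLocalRing.maximalIdeal D.B).primeCompl ?_ |>.restrictScalars A)⟩⟩
    · haveI : Algebra.IsIntegral A D.B := inferInstance
      exact IsLocalRing.eq_maximalIdeal (Ideal.isMaximal_comap_of_isIntegral_of_isMaximal (IsLocalRing.maximalIdeal D.B))
    · exact fun x hx => IsLocalRing.notMem_maximalIdeal.mp hx

end Groth.Agent.S16434
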