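import Groth.Statements.S16435
import Groth.Agent.SHSubLib.HensIff
import Groth.Agent.S2654

set_option autoImplicit false
set_option maxHeartbeats 2000000
universe u
open Hensel

namespace Groth.Agent.S16435

/-- Eliminator for the comparison of normalizations. -/
theorem with_normalizations {A S : Type u} [CommRing A] [IsLocalRing A] [IsReduced A] [IsNoetherianRing A]
    [CommRing S] [IsLocalRing S] [Algebra A S] [IsLocalHom (algebraMap A S)] [Hensel.IsStrictHenselization A S]
    (D : Subalgebra A S) [IsLocalRing D] [IsLocalHom (algebraMap D S)] {P : Prop}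
    (h : ∀ (A' D' : Subalgebra A (FractionRing S)),
      (∀ x : (FractionRing S), x ∈ A' ↔ (IsIntegral A x ∧
        ∃ a ∈ nonZeroDivisors A, ∃ b : A, algebraMap A (FractionRing S) a * x = algebraMap A (FractionRing S) b)) →
      (∀ x : (FractionRing S), x ∈ D' ↔ (IsIntegral D x ∧
        ∃ a ∈ nonZeroDivisors A, ∃ d ∈ D, algebraMap A (FractionRing S) a * x = algebraMap S (FractionRing S) d)) →
      A' ≤ D' → ∀ (ι : D →ₐ[A] D'), (∀ d : D, (ι d : (FractionRing S)) = algebraMap S (FractionRing S) d) →
      ∀ (G : D' →ₐ[A] TensorProduct A A' S), (∀ x, SHSubLib.muS A' (G x) = (x : FractionRing S)) →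
      ∀ (e : integralClosure D (FractionRing D) ≃+* D'),
        (∀ d, e (algebraMap D (integralClosure D (FractionRing D)) d) = ι d) → P) : P :=
  (SHSubLib.exists_normalizations D).elim fun A' h1 => h1.elim fun D' ⟨hA', hD', hle, ι, hι, e, he⟩ =>
    (SHSubLib.exists_inclS A' hA' hD' (minimalPrimes.finite_of_isNoetherianRing A)).elim fun G hG =>
      h A' D' hA' hD' hle ι hι G hG e he

set_option synthInstance.maxHeartbeats 400000 in
/-- The criterion, for any model of the normalization. -/
theorem iff_generic {A S : Type u} [CommRing A] [HenselianLocalRing A] [IsReduced A] [IsNoetherianRing A]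
    [CommRing S] [IsLocalRing S] [Algebra A S] [IsLocalHom (algebraMap A S)] [Hensel.IsStrictHenselization A S]
    (hN : CAlg.IsNagata A) {D : Subalgebra A S} [IsLocalRing D] [IsLocalHom (algebraMap D S)]
    {A' D' : Subalgebra A (FractionRing S)}
    (hA' : ∀ x : (FractionRing S), x ∈ A' ↔ (IsIntegral A x ∧
      ∃ a ∈ nonZeroDivisors A, ∃ b : A, algebraMap A (FractionRing S) a * x = algebraMap A (FractionRing S) b))
    (hD' : ∀ x : (FractionRing S), x ∈ D' ↔ (IsIntegral D x ∧
      ∃ a ∈ nonZeroDivisors A, ∃ d ∈ D, algebraMap A (FractionRing S) a * x = algebraMap S (FractionRing S) d))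
    (hle : A' ≤ D') (ι : D →ₐ[A] D') (hι : ∀ d : D, (ι d : (FractionRing S)) = algebraMap S (FractionRing S) d)
    (G : D' →ₐ[A] TensorProduct A A' S) (hG : ∀ x, SHSubLib.muS A' (G x) = (x : FractionRing S))
    {R : Type u} [CommRing R] [Algebra D R] [Algebra.IsIntegral D R] (e : R ≃+* D')
    (he : ∀ d, e (algebraMap D R d) = ι d) :
    IsNoetherianRing D ↔ ∀ (M : Ideal R) [M.IsMaximal],
      FiniteDimensional (Subfield.closure (Set.range ((algebraMap R M.ResidueField).comp (algebraMap D R))))
        (separableClosure (Subfield.closure (Set.range ((algebraMap R M.ResidueField).comp (algebraMap D R))))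
          M.ResidueField) := by
  have data : ∀ (M : Ideal R) [M.IsMaximal], ∀ y,
      y ∈ Subfield.closure (Set.range ((algebraMap R M.ResidueField).comp (algebraMap D R))) ↔
        ∃ d, ((algebraMap R M.ResidueField).comp e.symm.toRingHom) (ι d) = y := by
    intro M _ y
    rw [SHSubLib.mem_closure_range]
    · refine exists_congr fun d => ?_
      rw [RingHom.comp_apply, RingHom.comp_apply, RingEquiv.toRingHom_eq_coe, RingEquiv.coe_toRingHom, ← he d,
        RingEquiv.symm_apply_apply]
    · intro r hr
      haveI : (M.comap (algebraMap D R)).IsMaximal := Ideal.isMaximal_comap_of_isIntegral_of_isMaximal M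
      rw [← IsLocalRing.eq_maximalIdeal this] at hr
      rw [RingHom.comp_apply, Ideal.algebraMap_residueField_eq_zero]
      exact hr
  constructor
  · intro _ M _
    have hq : Function.Surjective ((algebraMap R M.ResidueField).comp e.symm.toRingHom) :=
      M.algebraMap_residueField_surjective.comp e.symm.surjective
    haveI : (RingHom.ker ((algebraMap R M.ResidueField).comp e.symm.toRingHom)).IsMaximal :=
      RingHom.ker_isMaximal_of_surjective _ hq
    haveI := SHSubLib.finiteDimensional_of_isNoetherianRing hA' hD' ι hι G hG hN _ _ hq rfl _ (data M)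
    infer_instance
  · intro h
    refine SHSubLib.isNoetherianRing_of_spanned hA' hD' ι hι G hG hN fun N hNm => ?_
    haveI := hNm
    haveI : (N.comap e.toRingHom).IsMaximal := Ideal.comap_isMaximal_of_surjective _ e.surjective
    haveI := h (N.comap e.toRingHom)
    refine SHSubLib.residue_spanned hA' hD' hle ι hι G hG hN N
      ((algebraMap R (N.comap e.toRingHom).ResidueField).comp e.symm.toRingHom)
      ((N.comap e.toRingHom).algebraMap_residueField_surjective.comp e.symm.surjective) (Ideal.ext fun x => ?_) _ (data _)
    rw [RingHom.mem_ker, RingHom.comp_apply, Ideal.algebraMap_residueField_eq_zero, Ideal.mem_comap]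
    simp

/-- Let A be an excellent henselian reduced local ring, S a strict henselization of A and D any
A-subalgebra of S (an intermediate ring between A and S). Write D' for the integral closure of D in
its total ring of fractions. Then D is Noetherian if and only if, for every maximal ideal M of D'
with residue field l, writing k_0 for the subfield of l generated by the image of D (it is the image
itself, a copy of the residue field of the local ring D), the separable closure of k_0 in l has
finite degree over k_0. -/
theorem result
    (A S : Type u) [CommRing A] [HenselianLocalRing A] [IsReduced A] (hA : EGA4.IsExcellent A)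
    [CommRing S] [IsLocalRing S] [Algebra A S] [IsLocalHom (algebraMap A S)]
    [Hensel.IsStrictHenselization A S] (D : Subalgebra A S) :
    IsNoetherianRing D ↔
      ∀ (M : Ideal (integralClosure D (FractionRing D))) [M.IsMaximal],
        FiniteDimensional (Subfield.closure (Set.range ((algebraMap (integralClosure D (FractionRing D)) M.ResidueField).comp (algebraMap D (integralClosure D (FractionRing D)))))) (separableClosure (Subfield.closure (Set.range ((algebraMap (integralClosure D (FractionRing D)) M.ResidueField).comp (algebraMap D (integralClosure D (FractionRing D)))))) M.ResidueField) := by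
  have hN : CAlg.IsNagata A := Groth.Agent.S2654.result A ⟨hA.1, hA.2.2.1, hA.2.2.2⟩
  haveI := hN.1
  obtain ⟨hDl, -, hDS, -⟩ := SHSubLib.intermediate_data (A := A) D
  haveI := hDl
  haveI := hDS
  refine with_normalizations D fun A' D' hA' hD' hle ι hι G hG e he => ?_
  exact iff_generic hN hA' hD' hle ι hι G hG e he

end Groth.Agent.S16435
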