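import Groth.Statements.S16436
import Groth.Agent.SHSubLib.HensEtale
import Groth.Agent.SHSubLib.HensExtend
import Groth.Agent.S2654

set_option autoImplicit false
set_option maxHeartbeats 2000000
universe u
open Hensel

namespace Groth.Agent.S16436

/-- Eliminator for the comparison of normalizations. -/
theorem with_normalizations {A S : Type u} [CommRing A] [IsLocalRing A] [IsReduced A] [IsNoetherianRing A]
    [CommRing S] [IsLocalRing S] [Algebra A S] [IsLocalHom (algebraMap A S)] [Hensel.IsStrictHenselization A S]
    (D : Subalgebra A S) [IsLocalRing D] [IsLocalHom (algebraMap D S)] {P : Prop}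
    (h : ∀ (A' D' : Subalgebra A (FractionRing S)),
      (∀ x : (FractionRing S), x ∈ A' ↔ (IsIntegral A x ∧
        ∃ a ∈ nonZeroDivisors A, ∃ b : A, algebraMap A (FractionRing S) a * x = algebraMap A (FractionRing S) b)) →
      (∀ x : (FractionRing S), x ∈ D' ↔ (IsIntegral D x ∧
        ∃ a ∈ nonZeroDivisors A, ∃ d ∈ D, algebraMap A (FractionRing S) a * x = algebraMap S (FractionRing S) d)) →
      A' ≤ D' → ∀ (ι : D →ₐ[A] D'), (∀ d : D, (ι d : (FractionRing S)) = algebraMap S (FractionRing S) d) →
      ∀ (G : D' →ₐ[A] TensorProduct A A' S), (∀ x, SHSubLib.muS A' (G x) = (x : FractionRing S)) →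
      ∀ (e : integralClosure D (FractionRing D) ≃+* D'),
        (∀ d, e (algebraMap D (integralClosure D (FractionRing D)) d) = ι d) → P) : P :=
  (SHSubLib.exists_normalizations D).elim fun A' h1 => h1.elim fun D' ⟨hA', hD', hle, ι, hι, e, he⟩ =>
    (SHSubLib.exists_inclS A' hA' hD' (minimalPrimes.finite_of_isNoetherianRing A)).elim fun G hG =>
      h A' D' hA' hD' hle ι hι G hG e he

set_option synthInstance.maxHeartbeats 400000 in
/-- The criterion, for any model of the normalization. -/
theorem iff_generic {A S : Type u} [CommRing A] [HenselianLocalRing A] [IsReduced A] [IsNoetherianRing A]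
    [CommRing S] [IsLocalRing S] [Algebra A S] [IsLocalHom (algebraMap A S)] [Hensel.IsStrictHenselization A S]
    (hN : CAlg.IsNagata A) {D : Subalgebra A S} [Module.Finite A D] [IsLocalRing D] [IsLocalHom (algebraMap D S)]
    {A' D' : Subalgebra A (FractionRing S)}
    (hA' : ∀ x : (FractionRing S), x ∈ A' ↔ (IsIntegral A x ∧
      ∃ a ∈ nonZeroDivisors A, ∃ b : A, algebraMap A (FractionRing S) a * x = algebraMap A (FractionRing S) b))
    (hD' : ∀ x : (FractionRing S), x ∈ D' ↔ (IsIntegral D x ∧
      ∃ a ∈ nonZeroDivisors A, ∃ d ∈ D, algebraMap A (FractionRing S) a * x = algebraMap S (FractionRing S) d))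
    (hle : A' ≤ D') (ι : D →ₐ[A] D') (hι : ∀ d : D, (ι d : (FractionRing S)) = algebraMap S (FractionRing S) d)
    (G : D' →ₐ[A] TensorProduct A A' S) (hG : ∀ x, SHSubLib.muS A' (G x) = (x : FractionRing S))
    {R : Type u} [CommRing R] [Algebra D R] [Algebra.IsIntegral D R] (e : R ≃+* D')
    (he : ∀ d, e (algebraMap D R d) = ι d) :
    (Algebra.Etale A D ∧ ∀ Q ∈ minimalPrimes S, Q = Ideal.map (algebraMap D S) (Q.comap (algebraMap D S))) ↔
      ∀ (M : Ideal R) [M.IsMaximal],
        separableClosure (Subfield.closure (Set.range ((algebraMap R M.ResidueField).comp (algebraMap D R))))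
          M.ResidueField = ⊥ := by
  classical
  have hkill : ∀ (M : Ideal R) [M.IsMaximal], ∀ r ∈ IsLocalRing.maximalIdeal D,
      ((algebraMap R M.ResidueField).comp (algebraMap D R)) r = 0 := by
    intro M _ r hr
    haveI : (M.comap (algebraMap D R)).IsMaximal := Ideal.isMaximal_comap_of_isIntegral_of_isMaximal M
    rw [← IsLocalRing.eq_maximalIdeal this] at hr
    rw [RingHom.comp_apply, Ideal.algebraMap_residueField_eq_zero]
    exact hr
  have data : ∀ (M : Ideal R) [M.IsMaximal], ∀ y,
      y ∈ Subfield.closure (Set.range ((algebraMap R M.ResidueField).comp (algebraMap D R))) ↔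
        ∃ d, ((algebraMap R M.ResidueField).comp e.symm.toRingHom) (ι d) = y := by
    intro M _ y
    rw [SHSubLib.mem_closure_range _ (hkill M)]
    refine exists_congr fun d => ?_
    rw [RingHom.comp_apply, RingHom.comp_apply, RingEquiv.toRingHom_eq_coe, RingEquiv.coe_toRingHom, ← he d,
      RingEquiv.symm_apply_apply]
  constructor
  · rintro ⟨het, hext⟩ M _
    haveI := het
    have hq : Function.Surjective ((algebraMap R M.ResidueField).comp e.symm.toRingHom) :=
      M.algebraMap_residueField_surjective.comp e.symm.surjective
    haveI : (RingHom.ker ((algebraMap R M.ResidueField).comp e.symm.toRingHom)).IsMaximal :=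
      RingHom.ker_isMaximal_of_surjective _ hq
    rw [eq_bot_iff]
    intro y hy
    have h := SHSubLib.mem_of_isSeparable hA' hD' hle ι hι G hG hext _ _ hq rfl _ (data M) y
      (mem_separableClosure_iff.1 hy)
    exact IntermediateField.mem_bot.2 ⟨⟨y, h⟩, rfl⟩
  · intro h
    obtain ⟨q, hq⟩ := ExpChar.exists (IsLocalRing.ResidueField A)
    haveI := hq
    refine SHSubLib.extended_of_pure hA' hD' hle ι hι G hG hN q fun N hNm x => ?_
    haveI := hNm
    haveI : (N.comap e.toRingHom).IsMaximal := Ideal.comap_isMaximal_of_surjective _ e.surjective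
    let M := N.comap e.toRingHom
    let k₀ := Subfield.closure (Set.range ((algebraMap R M.ResidueField).comp (algebraMap D R)))
    haveI : Algebra.IsAlgebraic k₀ M.ResidueField := ⟨fun z => by
      obtain ⟨r, rfl⟩ := M.algebraMap_residueField_surjective z
      obtain ⟨p, hp, hpr⟩ := Algebra.IsIntegral.isIntegral (R := D) r
      refine IsIntegral.isAlgebraic ⟨p.map (((algebraMap R M.ResidueField).comp (algebraMap D R)).codRestrict k₀
        fun d => Subfield.subset_closure ⟨d, rfl⟩), hp.map _, ?_⟩
      have h1 := congrArg (algebraMap R M.ResidueField) hpr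
      rw [Polynomial.hom_eval₂, map_zero] at h1
      rw [Polynomial.eval₂_map]
      exact h1⟩
    haveI : IsPurelyInseparable k₀ M.ResidueField := separableClosure.eq_bot_iff.1 (h M)
    obtain ⟨hADl, -, -, hAD⟩ := SHSubLib.intermediate_data (A := A) D
    let ρ : IsLocalRing.ResidueField A →+* k₀ := Ideal.Quotient.lift (IsLocalRing.maximalIdeal A)
      ((((algebraMap R M.ResidueField).comp (algebraMap D R)).codRestrict k₀
        fun d => Subfield.subset_closure ⟨d, rfl⟩).comp (algebraMap A D)) fun a ha => Subtype.ext (hkill M _ fun hu =>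
          ha (by haveI := hAD; exact isUnit_of_map_unit (algebraMap A D) a hu))
    haveI : ExpChar k₀ q := expChar_of_injective_ringHom ρ.injective q
    obtain ⟨n, hn⟩ := (isPurelyInseparable_iff_pow_mem k₀ q).1 inferInstance (algebraMap R M.ResidueField (e.symm x))
    obtain ⟨r, hr⟩ := hn
    obtain ⟨d, hd⟩ := (data M _).1 r.2
    refine ⟨n, d, ?_⟩
    have h2 : algebraMap R M.ResidueField (e.symm (x ^ q ^ n - ι d)) = 0 := by
      rw [map_sub, map_sub, map_pow, map_pow, sub_eq_zero, ← hr]
      exact hd.symm
    rw [Ideal.algebraMap_residueField_eq_zero, Ideal.mem_comap] at h2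
    simpa using h2

/-- Let A be an excellent henselian reduced local ring, S a strict henselization of A and D an
A-subalgebra of S which is finitely generated as an A-module. Write D' for the integral closure of D
in its total ring of fractions. Then D is etale over A and every minimal prime ideal of S is
generated by its contraction to D, if and only if, for every maximal ideal M of D' with residue
field l, writing k_0 for the subfield of l generated by the image of D (the image itself, a copy of
the residue field of D), k_0 is separably closed in l: every element of l separable over k_0 lies in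
k_0. -/
theorem result
    (A S : Type u) [CommRing A] [HenselianLocalRing A] [IsReduced A] (hA : EGA4.IsExcellent A)
    [CommRing S] [IsLocalRing S] [Algebra A S] [IsLocalHom (algebraMap A S)]
    [Hensel.IsStrictHenselization A S] (D : Subalgebra A S) [Module.Finite A D] :
    (Algebra.Etale A D ∧
        ∀ Q ∈ minimalPrimes S, Q = Ideal.map (algebraMap D S) (Q.comap (algebraMap D S))) ↔
      ∀ (M : Ideal (integralClosure D (FractionRing D))) [M.IsMaximal],
        separableClosure (Subfield.closure (Set.range ((algebraMap (integralClosure D (FractionRing D)) M.ResidueField).comp (algebraMap D (integralClosure D (FractionRing D)))))) M.ResidueField = ⊥ := by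
  have hN : CAlg.IsNagata A := Groth.Agent.S2654.result A ⟨hA.1, hA.2.2.1, hA.2.2.2⟩
  haveI := hN.1
  obtain ⟨hDl, -, hDS, -⟩ := SHSubLib.intermediate_data (A := A) D
  haveI := hDl
  haveI := hDS
  refine with_normalizations D fun A' D' hA' hD' hle ι hι G hG e he => ?_
  exact iff_generic hN hA' hD' hle ι hι G hG e he

end Groth.Agent.S16436
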