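import Groth.Statements.S16437
import Groth.Agent.SHSubLib.HensSplit
import Groth.Agent.SHSubLib.HensExtend
import Groth.Agent.S2654

set_option autoImplicit false
set_option maxHeartbeats 2000000
universe u
open Hensel

namespace Groth.Agent.S16437

/-- Eliminator for the comparison of normalizations. -/
theorem with_normalizations {A S : Type u} [CommRing A] [IsLocalRing A] [IsReduced A] [IsNoetherianRing A]
    [CommRing S] [IsLocalRing S] [Algebra A S] [IsLocalHom (algebraMap A S)] [Hensel.IsStrictHenselization A S]
    (D : Subalgebra A S) [IsLocalRing D] [IsLocalHom (algebraMap D S)] {P : Prop}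
    (h : ∀ (A' D' : Subalgebra A (FractionRing S)),
      (∀ x : (FractionRing S), x ∈ A' ↔ (IsIntegral A x ∧
        ∃ a ∈ nonZeroDivisors A, ∃ b : A, algebraMap A (FractionRing S) a * x = algebraMap A (FractionRing S) b)) →
      (∀ x : (FractionRing S), x ∈ D' ↔ (IsIntegral D x ∧
        ∃ a ∈ nonZeroDivisors A, ∃ d ∈ D, algebraMap A (FractionRing S) a * x = algebraMap S (FractionRing S) d)) →
      A' ≤ D' → ∀ (ι : D →ₐ[A] D'), (∀ d : D, (ι d : (FractionRing S)) = algebraMap S (FractionRing S) d) →
      ∀ (G : D' →ₐ[A] TensorProduct A A' S), (∀ x, SHSubLib.muS A' (G x) = (x : FractionRing S)) →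
      ∀ (e : integralClosure D (FractionRing D) ≃+* D'),
        (∀ d, e (algebraMap D (integralClosure D (FractionRing D)) d) = ι d) → P) : P :=
  (SHSubLib.exists_normalizations D).elim fun A' h1 => h1.elim fun D' ⟨hA', hD', hle, ι, hι, e, he⟩ =>
    (SHSubLib.exists_inclS A' hA' hD' (minimalPrimes.finite_of_isNoetherianRing A)).elim fun G hG =>
      h A' D' hA' hD' hle ι hι G hG e he

set_option synthInstance.maxHeartbeats 400000 in
/-- The criterion, for any model of the normalization of the base. -/
theorem iff_generic {A S : Type u} [CommRing A] [HenselianLocalRing A] [IsReduced A] [IsNoetherianRing A]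
    [CommRing S] [IsLocalRing S] [Algebra A S] [IsLocalHom (algebraMap A S)] [Hensel.IsStrictHenselization A S]
    (hN : CAlg.IsNagata A) {D : Subalgebra A S} [Module.Finite A D] [Algebra.Etale A D] [IsLocalRing D]
    [IsLocalHom (algebraMap D S)] {A' D' : Subalgebra A (FractionRing S)}
    (hA' : ∀ x : (FractionRing S), x ∈ A' ↔ (IsIntegral A x ∧
      ∃ a ∈ nonZeroDivisors A, ∃ b : A, algebraMap A (FractionRing S) a * x = algebraMap A (FractionRing S) b))
    (hD' : ∀ x : (FractionRing S), x ∈ D' ↔ (IsIntegral D x ∧
      ∃ a ∈ nonZeroDivisors A, ∃ d ∈ D, algebraMap A (FractionRing S) a * x = algebraMap S (FractionRing S) d))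
    (hle : A' ≤ D') (ι : D →ₐ[A] D') (hι : ∀ d : D, (ι d : (FractionRing S)) = algebraMap S (FractionRing S) d)
    (G : D' →ₐ[A] TensorProduct A A' S) (hG : ∀ x, SHSubLib.muS A' (G x) = (x : FractionRing S))
    {R : Type u} [CommRing R] [IsLocalRing R] [Algebra A R] [IsLocalHom (algebraMap A R)] [Module.Finite A R]
    (g : R →ₐ[A] A') (hg : Function.Bijective g)
    {K' : Type u} [Field K'] [Algebra (IsLocalRing.ResidueField A) K']
    (τ : K' →ₐ[IsLocalRing.ResidueField A] IsLocalRing.ResidueField S)
    (hτ : ∀ z, z ∈ τ.range ↔ ∃ d ∈ D, IsLocalRing.residue S d = z) :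
    (∀ Q ∈ minimalPrimes S, Q = Ideal.map (algebraMap D S) (Q.comap (algebraMap D S))) ↔
      Nat.card (separableClosure (IsLocalRing.ResidueField A) (IsLocalRing.ResidueField R) →ₐ[IsLocalRing.ResidueField A] K') =
        Module.finrank (IsLocalRing.ResidueField A)
          (separableClosure (IsLocalRing.ResidueField A) (IsLocalRing.ResidueField R)) := by
  classical
  haveI : FiniteDimensional (IsLocalRing.ResidueField A) (IsLocalRing.ResidueField R) := inferInstance
  haveI : Algebra.IsSeparable (IsLocalRing.ResidueField A)
      (separableClosure (IsLocalRing.ResidueField A) (IsLocalRing.ResidueField R)) := separableClosure.isSeparable _ _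
  haveI : IsSepClosure (IsLocalRing.ResidueField A) (IsLocalRing.ResidueField S) :=
    Hensel.IsStrictHenselization.isSepClosure
  haveI : IsSepClosed (IsLocalRing.ResidueField S) := IsSepClosure.sep_closed (IsLocalRing.ResidueField A)
  rw [SHSubLib.natCard_eq_iff τ]
  let e : R ≃ₐ[A] A' := AlgEquiv.ofBijective g hg
  let f₀ : A' →+* IsLocalRing.ResidueField R := (IsLocalRing.residue R).comp e.symm.toRingEquiv.toRingHom
  have hf₀ : Function.Surjective f₀ := IsLocalRing.residue_surjective.comp e.symm.surjective
  have hf₀A : ∀ a : A, f₀ (algebraMap A A' a) =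
      algebraMap (IsLocalRing.ResidueField A) (IsLocalRing.ResidueField R) (IsLocalRing.residue A a) := fun a => by
    change IsLocalRing.residue R (e.symm (algebraMap A A' a)) = _
    rw [e.symm.commutes]
    rfl
  haveI : IsLocalRing A' := RingEquiv.isLocalRing e.toRingEquiv
  constructor
  · intro hext φ y
    obtain ⟨d, hd, h⟩ := SHSubLib.embeds_of_extended hA' hD' hle ι hι G hG f₀ hf₀ hf₀A hext φ y
    exact (hτ _).2 ⟨d, hd, h⟩
  · intro h
    obtain ⟨q, hq⟩ := ExpChar.exists (IsLocalRing.ResidueField A)
    haveI := hq
    exact (SHSubLib.extended_of_pure hA' hD' hle ι hι G hG hN q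
      (SHSubLib.pure_of_embeds hA' hD' hle ι hι G hG f₀ hf₀ hf₀A q fun φ y => (hτ _).1 (h φ y))).2

open IsLocalRing in
/-- Let A be an excellent henselian local domain with residue field k, whose integral closure A' in its
fraction field is a local ring (as it is, A being henselian) with local inclusion A → A' and residue
field k'; let k^s be the separable closure of k in k', S a strict henselization of A, and E a local
ring which is an essentially etale local A-algebra with local structure map, together with an
A-algebra map E → S. Then every minimal prime ideal of S is generated by its contraction to E if and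
only if the number of k-algebra maps from k^s to the residue field of E equals the degree [k^s : k];
equivalently, the minimal polynomial of a primitive element of k^s over k splits into linear factors
over the residue field of E. -/
theorem result
    (A S E : Type u) [CommRing A] [HenselianLocalRing A] [IsDomain A] (hA : EGA4.IsExcellent A)
    [IsLocalRing (integralClosure A (FractionRing A))] [IsLocalHom (algebraMap A (integralClosure A (FractionRing A)))]
    [CommRing S] [IsLocalRing S] [Algebra A S] [IsLocalHom (algebraMap A S)]
    [Hensel.IsStrictHenselization A S]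
    [CommRing E] [IsLocalRing E] [Algebra A E] [IsLocalHom (algebraMap A E)]
    (hE : EGA4loc.IsEssentiallyEtale A E) [Algebra E S] [IsScalarTower A E S] :
    (∀ Q ∈ minimalPrimes S, Q = Ideal.map (algebraMap E S) (Q.comap (algebraMap E S))) ↔
      Nat.card (separableClosure (ResidueField A) (ResidueField (integralClosure A (FractionRing A))) →ₐ[ResidueField A]
          ResidueField E) =
        Module.finrank (ResidueField A)
          (separableClosure (ResidueField A) (ResidueField (integralClosure A (FractionRing A)))) := by
  classical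
  have hN : CAlg.IsNagata A := Groth.Agent.S2654.result A ⟨hA.1, hA.2.2.1, hA.2.2.2⟩
  haveI := hN.1
  obtain ⟨hEf, hEet⟩ := SHSubLib.finite_etale_of_essEt hE
  haveI := hEf
  haveI := hEet
  haveI : Module.FaithfullyFlat A S := Groth.Agent.S0539.result A S
  haveI : Module.Flat E S := HenselLib.flat_of_etale (R := A)
  haveI : IsLocalHom (algebraMap E S) := by
    refine ((IsLocalRing.local_hom_TFAE (algebraMap E S)).out 4 0).1 ?_
    haveI : ((maximalIdeal S).comap (algebraMap E S)).IsPrime := Ideal.IsPrime.comap _
    refine IsLocalRing.eq_maximalIdeal (Ideal.isMaximal_of_isIntegral_of_isMaximal_comap (R := A) _ ?_)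
    have h0 : (maximalIdeal S).comap (algebraMap A S) = maximalIdeal A :=
      ((IsLocalRing.local_hom_TFAE (algebraMap A S)).out 0 4).1 ‹_›
    rw [Ideal.comap_comap, ← IsScalarTower.algebraMap_eq, h0]
    infer_instance
  haveI : Module.FaithfullyFlat E S := Module.FaithfullyFlat.of_flat_of_isLocalHom
  let ψE := IsScalarTower.toAlgHom A E S
  let eD : E ≃ₐ[A] ψE.range := AlgEquiv.ofInjective ψE (FaithfulSMul.algebraMap_injective E S)
  haveI : Algebra.Etale A ψE.range := Algebra.Etale.of_equiv eD
  haveI : Module.Finite A ψE.range := Module.Finite.equiv eD.toLinearEquiv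
  obtain ⟨hDl, -, hDS, -⟩ := SHSubLib.intermediate_data (A := A) ψE.range
  haveI := hDl
  haveI := hDS
  have hmap : ∀ Q : Ideal S, Ideal.map (algebraMap E S) (Q.comap (algebraMap E S)) =
      Ideal.map (algebraMap ψE.range S) (Q.comap (algebraMap ψE.range S)) := fun Q => by
    have h : algebraMap E S = (algebraMap ψE.range S).comp eD.toAlgHom.toRingHom := rfl
    rw [h, ← Ideal.comap_comap, ← Ideal.map_map]
    exact congrArg (Ideal.map (algebraMap ψE.range S)) (Ideal.map_comap_of_surjective _ eD.surjective _)
  simp only [hmap]
  let τ : ResidueField E →ₐ[ResidueField A] ResidueField S :=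
    { ResidueField.map (algebraMap E S) with
      commutes' := fun c => by
        obtain ⟨c, rfl⟩ := IsLocalRing.residue_surjective c
        exact congrArg (residue S) (IsScalarTower.algebraMap_apply A E S c).symm }
  refine with_normalizations ψE.range fun A' D' hA' hD' hle ι hι G hG _ _ => ?_
  obtain ⟨g, hg⟩ := SHSubLib.exists_normA_equiv (A := A) (S := S) hA'
  haveI := SHSubLib.finite_normA A' hA' hN
  haveI : Module.Finite A (integralClosure A (FractionRing A)) :=
    Module.Finite.equiv (AlgEquiv.ofBijective g hg).symm.toLinearEquiv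
  refine iff_generic hN hA' hD' hle ι hι G hG g hg τ fun z => ⟨?_, ?_⟩
  · rintro ⟨w, rfl⟩
    obtain ⟨w, rfl⟩ := IsLocalRing.residue_surjective w
    exact ⟨algebraMap E S w, ⟨w, rfl⟩, rfl⟩
  · rintro ⟨_, ⟨w, rfl⟩, rfl⟩
    exact ⟨residue E w, rfl⟩

end Groth.Agent.S16437
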