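import Groth.Statements.S16439
import Groth.Agent.SHSubLib.Main
import Groth.Agent.S16438
import Groth.Agent.S2654

set_option autoImplicit false
universe u
open EGA4loc

namespace Groth.Agent.S16439

open IsLocalRing in
/-- Let A be an excellent reduced local ring with maximal ideal m, S a strict henselization of A, and D
an A-subalgebra of S which is a Noetherian local ring dominated by S (the inclusion is local), whose
total ring of fractions K_D is finitely generated over that of A — there is a finite subset t of K_D
such that every element of K_D, after multiplication by (the image of) a non-zero-divisor of A, is a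
polynomial expression in t with coefficients from A — and such that m D is the maximal ideal of D.
Then D is an essentially etale local A-algebra: A-isomorphic to the localization of an etale
A-algebra at a prime over m. -/
theorem result
    (A S : Type u) [CommRing A] [IsLocalRing A] [IsReduced A] (hA : EGA4.IsExcellent A)
    [CommRing S] [IsLocalRing S] [Algebra A S] [IsLocalHom (algebraMap A S)]
    [Hensel.IsStrictHenselization A S] (D : Subalgebra A S) [IsLocalRing D]
    [IsLocalHom (algebraMap D S)] [IsNoetherianRing D]
    (hfg : ∃ t : Finset (FractionRing D), ∀ x : FractionRing D, ∃ a ∈ nonZeroDivisors A,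
      algebraMap A (FractionRing D) a * x ∈ Algebra.adjoin A (t : Set (FractionRing D)))
    (hm : Ideal.map (algebraMap A D) (maximalIdeal A) = maximalIdeal D) :
    EGA4loc.IsEssentiallyEtale A D := by
  haveI := hA.1
  obtain ⟨E, hDE, _, hEh, hE, hff⟩ :=
    SHSubLib.exists_le_of_fg (minimalPrimes.finite_of_isNoetherianRing A) D hfg
  haveI := hEh
  haveI := EssEtFracLib.essFiniteType_of_essEt hE
  haveI : IsNoetherianRing E := Algebra.EssFiniteType.isNoetherianRing A E
  haveI := EssEtFracLib.flat_of_essEt hE
  haveI : IsLocalHom (algebraMap A E) := ⟨fun a ha => by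
    have := ha.map (algebraMap E S)
    rw [← IsScalarTower.algebraMap_apply] at this
    exact isUnit_of_map_unit _ a this⟩
  let DE : Subalgebra A E := D.comap E.val
  let e : DE ≃ₐ[A] D := AlgEquiv.ofBijective ((E.val.comp DE.val).codRestrict D fun y => y.2)
    ⟨fun y z h => Subtype.ext (Subtype.ext (congrArg Subtype.val h :)), fun d => ⟨⟨⟨d, hDE d.2⟩, d.2⟩, rfl⟩⟩
  haveI : IsLocalRing DE := RingEquiv.isLocalRing e.symm.toRingEquiv
  haveI : IsNoetherianRing DE := isNoetherianRing_of_ringEquiv D e.symm.toRingEquiv
  haveI : IsLocalHom (algebraMap DE E) := ⟨fun y hy => by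
    have h2 : IsUnit (algebraMap D S (e y)) := hy.map (algebraMap E S)
    have h3 := (isUnit_of_map_unit _ _ h2).map e.symm
    rwa [e.symm_apply_apply] at h3⟩
  have hm' : Ideal.map (algebraMap A DE) (maximalIdeal A) = maximalIdeal DE := by
    have h1 : (maximalIdeal D).comap (e.toAlgHom.toRingHom) = maximalIdeal DE :=
      IsLocalRing.eq_maximalIdeal (Ideal.comap_isMaximal_of_surjective _ e.surjective)
    rw [← h1, ← hm, show algebraMap A D = e.toAlgHom.toRingHom.comp (algebraMap A DE) from
      e.toAlgHom.comp_algebraMap.symm, ← Ideal.map_map]
    exact (Ideal.comap_map_of_bijective e.toAlgHom.toRingHom e.bijective).symm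
  haveI := SHSubLib.flat_of_map_maximalIdeal (E := E) hm'
  haveI := SHSubLib.essFiniteType_of_flat (Groth.Agent.S2654.result A ⟨hA.1, hA.2.2.1, hA.2.2.2⟩) hE DE
  haveI : Algebra.EssFiniteType A D := Algebra.EssFiniteType.of_surjective e.toAlgHom e.surjective
  exact Groth.Agent.S16438.result A S D hm

end Groth.Agent.S16439
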