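import Groth.Statements.S16443
import Groth.Agent.EssEtFracLib.Main

set_option autoImplicit false
universe u
open EGA4loc

namespace Groth.Agent.S16443

/-- Let A be a reduced local ring with finitely many minimal prime ideals, E a local ring which is an
essentially etale local A-algebra with local structure map, K_E the total ring of fractions of E,
and L an A-subalgebra of K_E containing an inverse of the image of every non-zero-divisor of A (so L
is an intermediate ring between the total rings of fractions of A and of E). Then the preimage D of
L in E is (the underlying set of) an A-subalgebra of E which is a local ring with local inclusion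
into E — its maximal ideal lies under that of E — and L is the total ring of fractions of D in the
sense that every element of L is the image of an element of D times the inverse of the image of a
non-zero-divisor of A. -/
theorem result
    (A E : Type u) [CommRing A] [IsLocalRing A] [IsReduced A] (hmin : (minimalPrimes A).Finite)
    [CommRing E] [IsLocalRing E] [Algebra A E] [IsLocalHom (algebraMap A E)]
    (hE : EGA4loc.IsEssentiallyEtale A E) (L : Subalgebra A (FractionRing E))
    (hL : ∀ s ∈ nonZeroDivisors A, ∃ y ∈ L, algebraMap A (FractionRing E) s * y = 1) :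
    ∃ D : Subalgebra A E, (D : Set E) = (algebraMap E (FractionRing E)) ⁻¹' (L : Set (FractionRing E)) ∧
      ∃ _ : IsLocalRing D, IsLocalHom (algebraMap D E) ∧
        ∀ l ∈ L, ∃ d ∈ D, ∃ s ∈ nonZeroDivisors A, ∃ y ∈ L,
          algebraMap A (FractionRing E) s * y = 1 ∧ l = algebraMap E (FractionRing E) d * y := by
  classical
  let := EssEtFracLib.fracAlgebra hE
  have := EssEtFracLib.fracTower hE
  obtain ⟨hloc, hart, hfinK⟩ := EssEtFracLib.main_frac hmin hE
  haveI := hfinK
  haveI := hloc
  haveI : IsArtinianRing (FractionRing A) := (BranchLib.fractionRing_data A hmin).1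
  let K := FractionRing E
  haveI : IsNoetherian (FractionRing A) K := isNoetherian_of_isNoetherianRing_of_finite _ _
  have hLK : ∀ k : FractionRing A, algebraMap (FractionRing A) K k ∈ L := by
    intro k
    obtain ⟨a, s, rfl⟩ := IsLocalization.exists_mk'_eq (nonZeroDivisors A) k
    obtain ⟨y, hy, hsy⟩ := hL s s.2
    have : algebraMap (FractionRing A) K (IsLocalization.mk' (FractionRing A) a s) = algebraMap A K a * y := by
      calc algebraMap (FractionRing A) K (IsLocalization.mk' (FractionRing A) a s)
          = algebraMap (FractionRing A) K (IsLocalization.mk' (FractionRing A) a s) * (algebraMap A K s * y) := by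
            rw [hsy, mul_one]
        _ = _ := by
          rw [← mul_assoc, IsScalarTower.algebraMap_apply A (FractionRing A) K (s : A), ← map_mul,
            IsLocalization.mk'_spec, ← IsScalarTower.algebraMap_apply]
    rw [this]
    exact L.mul_mem (L.algebraMap_mem a) hy
  let L' : Subalgebra (FractionRing A) K := { L.toSubsemiring with algebraMap_mem' := hLK }
  haveI : Module.Finite (FractionRing A) L' :=
    Module.Finite.of_injective L'.val.toLinearMap Subtype.val_injective
  haveI : IsArtinianRing L' := IsArtinianRing.of_finite (FractionRing A) L'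
  have hinv : ∀ c d : K, c ∈ L → c * d = 1 → d ∈ L := by
    intro c d hc hcd
    have hnzd : (⟨c, hc⟩ : L') ∈ nonZeroDivisors L' := by
      rw [mem_nonZeroDivisors_iff_right]
      intro x hx
      have hx' : (x : K) * c = 0 := congrArg Subtype.val hx
      exact Subtype.ext (by
        calc (x : K) = (x : K) * c * d := by rw [mul_assoc, hcd, mul_one]
          _ = 0 := by rw [hx', zero_mul])
    obtain ⟨v, hv⟩ := (IsArtinianRing.isUnit_of_mem_nonZeroDivisors hnzd).exists_left_inv
    have hv' : (v : K) * c = 1 := congrArg Subtype.val hv
    have : d = (v : K) := by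
      calc d = (v : K) * c * d := by rw [hv', one_mul]
        _ = v := by rw [mul_assoc, hcd, mul_one]
    rw [this]
    exact v.2
  let D : Subalgebra A E := L.comap (IsScalarTower.toAlgHom A E K)
  have hD : ∀ e : E, e ∈ D ↔ algebraMap E K e ∈ L := fun _ => Iff.rfl
  haveI hlocD : IsLocalHom (D.val : D →+* E) := ⟨fun x hx => by
    obtain ⟨v, hv⟩ := hx.exists_right_inv
    have hvD : v ∈ D := (hD v).2 (hinv _ _ ((hD x.1).1 x.2) (by
      rw [← map_mul]
      exact (congrArg (algebraMap E K) hv).trans (map_one _)))
    exact IsUnit.of_mul_eq_one ⟨v, hvD⟩ (Subtype.ext hv)⟩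
  haveI : IsLocalRing D := (D.val : D →+* E).domain_isLocalRing
  refine ⟨D, rfl, inferInstance, hlocD, fun l hl => ?_⟩
  obtain ⟨e, ⟨_, s, hs, rfl⟩, hes⟩ := IsLocalization.exists_mk'_eq ((nonZeroDivisors A).map (algebraMap A E)) l
  obtain ⟨y, hy, hsy⟩ := hL s hs
  have h1 : algebraMap A K s * l = algebraMap E K e := by
    rw [← hes, mul_comm, IsScalarTower.algebraMap_apply A E K]
    exact IsLocalization.mk'_spec K e _
  refine ⟨e, (hD e).2 (by rw [← h1]; exact L.mul_mem (L.algebraMap_mem s) hl), s, hs, y, hy, hsy, ?_⟩
  rw [← h1, mul_comm (algebraMap A K s) l, mul_assoc, hsy, mul_one]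

end Groth.Agent.S16443
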