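import Groth.Statements.S16445
import Mathlib
import Groth.Agent.SHGalLib.QuotDescend
import Groth.Agent.GRingFinLib.Excellent

set_option autoImplicit false
universe u
open Hensel

namespace Groth.Agent.S16445

/-- Let A be an excellent henselian reduced local ring, S a strict henselization of A and Q a minimal
prime ideal of S; let K be the fraction field of the domain S/Q and L the subfield of K generated
over the image of A by a finite subset t of K. Then the intersection of L with S/Q is (the
underlying set of) an A-subalgebra D' of S/Q which is an excellent henselian local ring (a domain,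
as a subring of S/Q) whose fraction field is L: every element of L is the quotient of the images of
two elements of D'. (The source's further description of the completion of D' is not stated here.) -/
theorem result
    (A S : Type u) [CommRing A] [HenselianLocalRing A] [IsReduced A] (hA : EGA4.IsExcellent A)
    [CommRing S] [IsLocalRing S] [Algebra A S] [IsLocalHom (algebraMap A S)]
    [Hensel.IsStrictHenselization A S] (Q : Ideal S) (hQ : Q ∈ minimalPrimes S) [Q.IsPrime]
    (t : Finset (FractionRing (S ⧸ Q))) :
    ∃ D' : Subalgebra A (S ⧸ Q), (D' : Set (S ⧸ Q)) = (algebraMap (S ⧸ Q) (FractionRing (S ⧸ Q))) ⁻¹'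
        (Subfield.closure (Set.range (algebraMap A (FractionRing (S ⧸ Q))) ∪
          (t : Set (FractionRing (S ⧸ Q)))) : Set (FractionRing (S ⧸ Q))) ∧
      EGA4.IsExcellent D' ∧ ∃ _ : HenselianLocalRing D',
        ∀ l ∈ Subfield.closure (Set.range (algebraMap A (FractionRing (S ⧸ Q))) ∪
            (t : Set (FractionRing (S ⧸ Q)))),
          ∃ a ∈ D', ∃ b ∈ D', algebraMap (S ⧸ Q) (FractionRing (S ⧸ Q)) b ≠ 0 ∧
            l * algebraMap (S ⧸ Q) (FractionRing (S ⧸ Q)) b =
              algebraMap (S ⧸ Q) (FractionRing (S ⧸ Q)) a := by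
  haveI : IsNoetherianRing A := hA.1
  haveI : HenselianLocalRing S := Hensel.IsStrictHenselization.henselian A
  obtain ⟨F, D, hD, hfrac⟩ := SHGalLib.exists_fel_preimage (A := A) (S := S) Q t
  let π : D.B →ₐ[A] S ⧸ Q := (Ideal.Quotient.mkₐ A Q).comp D.j
  haveI : Module.Finite A π.range := Module.Finite.of_surjective π.rangeRestrict.toLinearMap π.rangeRestrict_surjective
  haveI : Nontrivial π.range := ⟨⟨0, 1, fun h => zero_ne_one (congrArg Subtype.val h : (0 : S ⧸ Q) = 1)⟩⟩
  haveI : IsLocalRing π.range := IsLocalRing.of_surjective' π.rangeRestrict.toRingHom π.rangeRestrict_surjective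
  refine ⟨π.range, Set.ext fun x => (hD x).symm, GRingFinLib.isExcellent_of_finite A π.range hA,
    Groth.Agent.S0505.result A π.range, fun l hl => ?_⟩
  obtain ⟨a, b, ha, hb, hb0, h⟩ := hfrac l hl
  exact ⟨a, ha, b, hb, fun hc => hb0 (IsFractionRing.injective (S ⧸ Q) _ (hc.trans (map_zero _).symm)), h⟩

end Groth.Agent.S16445
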