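import Groth.Statements.S16446
import Groth.Agent.SHSubLib.HensBasic
import Groth.Agent.SHGalLib.QuotDescend
import Groth.Agent.S0540

set_option autoImplicit false
universe u
open Hensel

namespace Groth.Agent.S16446

/-- Let A be an excellent henselian reduced local ring, S a strict henselization of A and Q a minimal
prime ideal of S with contraction q to A; let K be the fraction field of S/Q and L the subfield of K
generated over the image of A by a finite subset t of K. Then there is an A-subalgebra E of S, a
local ring and an essentially etale local A-algebra, such that (i) every minimal prime ideal of S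
over the ideal qS is generated by its contraction to E, and (ii) every element of S/Q whose image in
K lies in L is the class of an element of E — so that the intersection of L with S/Q equals its
intersection with the image of E. -/
theorem result
    (A S : Type u) [CommRing A] [HenselianLocalRing A] [IsReduced A] (hA : EGA4.IsExcellent A)
    [CommRing S] [IsLocalRing S] [Algebra A S] [IsLocalHom (algebraMap A S)]
    [Hensel.IsStrictHenselization A S] (Q : Ideal S) (hQ : Q ∈ minimalPrimes S) [Q.IsPrime]
    (t : Finset (FractionRing (S ⧸ Q))) :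
    ∃ E : Subalgebra A S, ∃ _ : IsLocalRing E, EGA4loc.IsEssentiallyEtale A E ∧
      (∀ Q' ∈ ((Q.comap (algebraMap A S)).map (algebraMap A S)).minimalPrimes,
        Q' = Ideal.map (algebraMap E S) (Q'.comap (algebraMap E S))) ∧
      ∀ x : S, algebraMap (S ⧸ Q) (FractionRing (S ⧸ Q)) (Ideal.Quotient.mk Q x) ∈
          Subfield.closure (Set.range (algebraMap A (FractionRing (S ⧸ Q))) ∪
            (t : Set (FractionRing (S ⧸ Q)))) →
        ∃ e ∈ E, Ideal.Quotient.mk Q e = Ideal.Quotient.mk Q x := by
  classical
  haveI := hA.1
  haveI : Module.FaithfullyFlat A S := Groth.Agent.S0539.result A S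
  haveI : IsNoetherianRing S := (Groth.Agent.S0540.result A S).1 inferInstance
  obtain ⟨F₀, B₀, hB₀, -⟩ := SHGalLib.exists_fel_preimage (A := A) Q t
  obtain ⟨g, hg⟩ := Module.Finite.fg_top (R := A) (M := B₀.B)
  let R := ((Q.comap (algebraMap A S)).map (algebraMap A S)).minimalPrimes
  have hR : R.Finite := Ideal.finite_minimalPrimes_of_isNoetherianRing S _
  choose gen hgen using fun I : Ideal S => (IsNoetherian.noetherian I : I.FG)
  obtain ⟨F, _, _, B, hB⟩ := SHSubLib.exists_FEL_ge (A := A) (g.image B₀.j ∪ hR.toFinset.biUnion gen)
  obtain ⟨hEl, -, -, -⟩ := SHSubLib.intermediate_data (A := A) B.j.range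
  refine ⟨B.j.range, hEl, (SHSubLib.essEt_range (A := A) B).1, fun Q' hQ' => le_antisymm ?_ Ideal.map_comap_le,
    fun x hx => ?_⟩
  · conv_lhs => rw [← hgen Q']
    refine Submodule.span_le.2 fun y hy => ?_
    have hyE : y ∈ B.j.range := hB y (Finset.mem_union_right _
      (Finset.mem_biUnion.2 ⟨Q', hR.mem_toFinset.2 hQ', hy⟩))
    exact Ideal.mem_map_of_mem (algebraMap B.j.range S)
      (show (⟨y, hyE⟩ : B.j.range) ∈ Q'.comap (algebraMap B.j.range S) from (hgen Q').le (Submodule.subset_span hy))
  · obtain ⟨b, hb⟩ := (hB₀ _).1 hx
    refine ⟨B₀.j b, ?_, hb⟩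
    clear hb hx
    have h : b ∈ Submodule.span A (g : Set B₀.B) := hg ▸ Submodule.mem_top
    induction h using Submodule.span_induction with
    | mem y hy => exact hB _ (Finset.mem_union_left _ (Finset.mem_image_of_mem _ hy))
    | zero => rw [map_zero]; exact zero_mem _
    | add y y' _ _ hy hy' => rw [map_add]; exact add_mem hy hy'
    | smul a y _ hy => rw [map_smul]; exact Subalgebra.smul_mem _ hy a

end Groth.Agent.S16446
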