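import Groth.Statements.S16447
import Groth.Agent.EssEtFracLib.Main
import Groth.Agent.SemilocalNormLib.Artinian

set_option autoImplicit false
universe u
open EGA4loc

namespace Groth.Agent.S16447

/-- Let A be a Noetherian reduced local ring, E a local ring which is an essentially etale local
A-algebra with local structure map, K_E the total ring of fractions of E, E' the integral closure of
E in K_E (viewed as an A-subalgebra of K_E), and L an A-subalgebra of K_E containing an inverse of
the image of every non-zero-divisor of A. Let C be the A-subalgebra L ⊓ E' of K_E. Then C is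
integrally closed in L, C has only finitely many maximal ideals, the maximal ideals of C are exactly
the contractions of the maximal ideals of E', and every element of L is an element of C times the
inverse of the image of a non-zero-divisor of A. (The published statement assumes only that A is
reduced; its proof uses that the integral closure of E in K_E has finitely many maximal ideals,
which holds when A is Noetherian and can fail otherwise, so A is taken Noetherian here.) -/
theorem result
    (A E : Type u) [CommRing A] [IsLocalRing A] [IsReduced A] [IsNoetherianRing A]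
    [CommRing E] [IsLocalRing E] [Algebra A E] [IsLocalHom (algebraMap A E)]
    (hE : EGA4loc.IsEssentiallyEtale A E) (L : Subalgebra A (FractionRing E))
    (hL : ∀ s ∈ nonZeroDivisors A, ∃ y ∈ L, algebraMap A (FractionRing E) s * y = 1)
    (C : Subalgebra A (FractionRing E))
    (hC : C = L ⊓ (integralClosure E (FractionRing E)).restrictScalars A) :
    (∀ x ∈ L, IsIntegral C x → x ∈ C) ∧
      {N : Ideal C | N.IsMaximal}.Finite ∧
      (∀ N : Ideal C, N.IsMaximal ↔ ∃ M : Ideal ((integralClosure E (FractionRing E)).restrictScalars A),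
          M.IsMaximal ∧ N = M.comap (Subalgebra.inclusion (hC.trans_le inf_le_right))) ∧
      ∀ l ∈ L, ∃ c ∈ C, ∃ s ∈ nonZeroDivisors A, ∃ y ∈ L,
        algebraMap A (FractionRing E) s * y = 1 ∧ l = c * y := by
  classical
  have hmin : (minimalPrimes A).Finite := minimalPrimes.finite_of_isNoetherianRing A
  have := EssEtFracLib.essFiniteType_of_essEt hE
  have := EssEtFracLib.quasiFinite_of_essEt hE
  have : IsNoetherianRing E := Algebra.EssFiniteType.isNoetherianRing A E
  let := EssEtFracLib.fracAlgebra hE
  have := EssEtFracLib.fracTower hE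
  obtain ⟨-, hart, hfinK⟩ := EssEtFracLib.main_frac hmin hE
  have := hart
  have : IsArtinianRing (FractionRing A) := (BranchLib.fractionRing_data A hmin).1
  set K := FractionRing E with hK
  let E'' := integralClosure E K
  let incl : C →ₐ[A] E''.restrictScalars A := Subalgebra.inclusion (hC.trans_le inf_le_right)
  have hCmem : ∀ x : K, x ∈ C ↔ x ∈ L ∧ IsIntegral E x := fun x => by rw [hC]; rfl
  -- `L` is stable under the total fraction ring of `A`
  have hLK : ∀ k : FractionRing A, algebraMap (FractionRing A) K k ∈ L := by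
    intro k
    obtain ⟨a, s, rfl⟩ := IsLocalization.exists_mk'_eq (nonZeroDivisors A) k
    obtain ⟨y, hy, hsy⟩ := hL s s.2
    have : algebraMap (FractionRing A) K (IsLocalization.mk' (FractionRing A) a s) =
        algebraMap A K a * y := by
      calc algebraMap (FractionRing A) K (IsLocalization.mk' (FractionRing A) a s)
          = algebraMap (FractionRing A) K (IsLocalization.mk' (FractionRing A) a s) *
              (algebraMap A K s * y) := by rw [hsy, mul_one]
        _ = _ := by
          rw [← mul_assoc, IsScalarTower.algebraMap_apply A (FractionRing A) K (s : A), ← map_mul,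
            IsLocalization.mk'_spec, ← IsScalarTower.algebraMap_apply]
    rw [this]
    exact L.mul_mem (L.algebraMap_mem a) hy
  let L' : Subalgebra (FractionRing A) K :=
    { L.toSubsemiring with algebraMap_mem' := hLK }
  have : Module.Finite (FractionRing A) L' :=
    Module.Finite.iff_fg.2 (IsNoetherian.noetherian (Subalgebra.toSubmodule L'))
  have : IsArtinianRing L' := IsArtinianRing.of_finite (FractionRing A) L'
  have hinv : ∀ c d : K, c ∈ L → c * d = 1 → d ∈ L := by
    intro c d hc hcd
    have hnzd : (⟨c, hc⟩ : L') ∈ nonZeroDivisors L' := by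
      rw [mem_nonZeroDivisors_iff_right]
      intro x hx
      have hx' : (x : K) * c = 0 := congrArg Subtype.val hx
      exact Subtype.ext (by
        calc (x : K) = (x : K) * c * d := by rw [mul_assoc, hcd, mul_one]
          _ = 0 := by rw [hx', zero_mul])
    obtain ⟨u, hu⟩ := IsArtinianRing.isUnit_of_mem_nonZeroDivisors hnzd
    have huc : ((u⁻¹ : L'ˣ) : L').1 * c = 1 := by
      have := congrArg Subtype.val u.inv_mul
      rw [hu] at this
      exact this
    have : d = ((u⁻¹ : L'ˣ) : L').1 := by
      calc d = ((u⁻¹ : L'ˣ) : L').1 * c * d := by rw [huc, one_mul]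
        _ = _ := by rw [mul_assoc, hcd, mul_one]
    rw [this]
    exact ((u⁻¹ : L'ˣ) : L').2
  -- contractions of maximal ideals are maximal
  have hcontr : ∀ M : Ideal (E''.restrictScalars A), M.IsMaximal → (M.comap incl).IsMaximal := by
    intro M hM
    let M' : Ideal E'' := M
    have hM' : M'.IsMaximal := hM
    have hME : M'.comap (algebraMap E E'') = IsLocalRing.maximalIdeal E :=
      IsLocalRing.eq_maximalIdeal (Ideal.isMaximal_comap_of_isIntegral_of_isMaximal (R := E) M')
    have hmA : (IsLocalRing.maximalIdeal E).comap (algebraMap A E) = IsLocalRing.maximalIdeal A :=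
      ((IsLocalRing.local_hom_TFAE (algebraMap A E)).out 0 4).1 ‹IsLocalHom (algebraMap A E)›
    have : (IsLocalRing.maximalIdeal E).LiesOver (IsLocalRing.maximalIdeal A) := ⟨hmA.symm⟩
    have : Algebra.IsIntegral A (E ⧸ IsLocalRing.maximalIdeal E) := by
      have : Algebra.QuasiFinite (A ⧸ IsLocalRing.maximalIdeal A) (E ⧸ IsLocalRing.maximalIdeal E) :=
        Algebra.QuasiFinite.of_restrictScalars A _ _
      let := Ideal.Quotient.field (IsLocalRing.maximalIdeal A)
      have : Module.Finite (A ⧸ IsLocalRing.maximalIdeal A) (E ⧸ IsLocalRing.maximalIdeal E) := Module.Finite.of_quasiFinite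
      have : Module.Finite A (E ⧸ IsLocalRing.maximalIdeal E) := Module.Finite.trans (A ⧸ IsLocalRing.maximalIdeal A) _
      exact Algebra.IsIntegral.of_finite A _
    have : M'.LiesOver (IsLocalRing.maximalIdeal E) := ⟨hME.symm⟩
    have : IsScalarTower A (E ⧸ IsLocalRing.maximalIdeal E) (E'' ⧸ M') := IsScalarTower.of_algebraMap_eq fun x => rfl
    have : IsScalarTower E (E ⧸ IsLocalRing.maximalIdeal E) (E'' ⧸ M') := IsScalarTower.of_algebraMap_eq fun x => rfl
    have : Algebra.IsIntegral (E ⧸ IsLocalRing.maximalIdeal E) (E'' ⧸ M') :=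
      ⟨fun x => ((Algebra.IsIntegral.isIntegral (R := E) x : IsIntegral E x)).tower_top⟩
    have hQint : Algebra.IsIntegral A (E'' ⧸ M') := Algebra.IsIntegral.trans (E ⧸ IsLocalRing.maximalIdeal E)
    let P := M.comap incl
    let j : (C ⧸ P) →ₐ[A] ((E''.restrictScalars A) ⧸ M) := Ideal.quotientMapₐ (I := P) M incl le_rfl
    have hj : Function.Injective j := Ideal.quotientMap_injective
    have : P.IsPrime := Ideal.IsPrime.comap _
    have hPint : Algebra.IsIntegral A (C ⧸ P) := ⟨fun x =>
      (isIntegral_algHom_iff j hj).1 ((hQint.isIntegral _ : IsIntegral A (j x)))⟩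
    have hPA : P.comap (algebraMap A C) = IsLocalRing.maximalIdeal A := by
      rw [← hmA, ← hME]
      ext a
      simp only [Ideal.mem_comap, P]
      rw [AlgHom.commutes]
      rfl
    have : P.LiesOver (IsLocalRing.maximalIdeal A) := ⟨hPA.symm⟩
    have : Algebra.IsIntegral (A ⧸ IsLocalRing.maximalIdeal A) (C ⧸ P) :=
      ⟨fun x => (hPint.isIntegral x).tower_top⟩
    refine (Ideal.Quotient.maximal_ideal_iff_isField_quotient P).2 ?_
    exact isField_of_isIntegral_of_isField' (R := A ⧸ IsLocalRing.maximalIdeal A) (S := C ⧸ P) ((Ideal.Quotient.maximal_ideal_iff_isField_quotient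
      (IsLocalRing.maximalIdeal A)).1 inferInstance)
  have hfinM : {M : Ideal (E''.restrictScalars A) | M.IsMaximal}.Finite :=
    SemilocalNormLib.finite_maximal_of_artinian (E := E) (Q := K)
  have hiff : ∀ N : Ideal C, N.IsMaximal ↔
      ∃ M : Ideal (E''.restrictScalars A), M.IsMaximal ∧ N = M.comap incl := by
    intro N
    refine ⟨fun hN => ?_, fun ⟨M, hM, hMN⟩ => hMN ▸ hcontr M hM⟩
    have hsub : (N : Set C) ⊆ ⋃ M ∈ hfinM.toFinset, (M.comap incl : Set C) := by
      intro c hc
      by_contra hcon
      simp only [Set.mem_iUnion, Set.Finite.mem_toFinset, Set.mem_setOf_eq, not_exists] at hcon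
      have hu : IsUnit (incl c) := by
        by_contra hnu
        obtain ⟨M, hM, hcM⟩ := exists_max_ideal_of_mem_nonunits hnu
        exact hcon M hM hcM
      obtain ⟨u, hu⟩ := hu
      have hcd : (c : K) * ((u⁻¹ : (E''.restrictScalars A)ˣ) : E''.restrictScalars A).1 = 1 := by
        have := congrArg Subtype.val u.mul_inv
        rw [hu] at this
        exact this
      have hdC : ((u⁻¹ : (E''.restrictScalars A)ˣ) : E''.restrictScalars A).1 ∈ C :=
        (hCmem _).2 ⟨hinv _ _ ((hCmem _).1 c.2).1 hcd,
          ((u⁻¹ : (E''.restrictScalars A)ˣ) : E''.restrictScalars A).2⟩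
      exact hN.ne_top (N.eq_top_of_isUnit_mem hc
        (IsUnit.of_mul_eq_one ⟨_, hdC⟩ (Subtype.ext hcd)))
    obtain ⟨M, hM, hNM⟩ := (Ideal.subset_union_prime ⊥ ⊥ fun M hM _ _ =>
      Ideal.IsPrime.comap (hK := (hfinM.mem_toFinset.1 hM).isPrime) incl).1 hsub
    refine ⟨M, hfinM.mem_toFinset.1 hM, hN.eq_of_le ?_ hNM⟩
    exact (hcontr M (hfinM.mem_toFinset.1 hM)).ne_top
  refine ⟨fun x hxL hx => (hCmem x).2 ⟨hxL, ?_⟩, ?_, hiff, ?_⟩
  · let i : C →+* E'' := incl.toRingHom
    let : Algebra C E'' := i.toAlgebra
    have : IsScalarTower C E'' K := IsScalarTower.of_algebraMap_eq fun _ => rfl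
    exact isIntegral_trans x (hx.tower_top (A := E''))
  · refine (hfinM.image fun M => M.comap incl).subset fun N hN => ?_
    obtain ⟨M, hM, rfl⟩ := (hiff N).1 hN
    exact ⟨M, hM, rfl⟩
  · intro l hl
    have hint : IsIntegral (FractionRing A) l := Algebra.IsIntegral.isIntegral l
    obtain ⟨⟨s, hs⟩, hsl⟩ := hint.exists_multiple_integral_of_isLocalization (nonZeroDivisors A) l
    obtain ⟨y, hy, hsy⟩ := hL s hs
    refine ⟨s • l, (hCmem _).2 ⟨L.smul_mem hl s, (hsl : IsIntegral A (s • l)).tower_top⟩,
      s, hs, y, hy, hsy, ?_⟩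
    rw [Algebra.smul_def, mul_assoc, mul_comm l y, ← mul_assoc, hsy, one_mul]

end Groth.Agent.S16447
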