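import Groth.Statements.S16450
import Groth.Agent.SHSubLib.Residue
import Groth.Agent.SHSubLib.Descent
import Groth.Agent.SHSubLib.Main
import Groth.Agent.S2654

set_option autoImplicit false
universe u
open scoped TensorProduct
open EGA4loc

namespace Groth.Agent.S16450

open IsLocalRing in
/-- Let A be an excellent reduced local ring with maximal ideal m and residue field k, S a strict
henselization of A with total ring of fractions K, and D an A-subalgebra of S which is a local ring
dominated by S (local inclusion) and whose total ring of fractions is finitely generated over that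
of A. Inside K, let A' and D' be the normalizations of A and of D: the elements of K integral over A
(resp. over D) which are carried into A (resp. into D) by the image of some non-zero-divisor of A;
so A' ⊆ D', and let ι : D → D' be the inclusion. Then D is an essentially etale local A-algebra if
and only if D' has finitely many maximal ideals and the canonical map A' ⊗_A D → D'/Rad(D') is
surjective with kernel the ideal generated by Rad(A') ⊗ D and A' ⊗ m_D — in other words the residual
field products satisfy (A'/Rad A') ⊗_k (D/m_D) ≅ D'/Rad(D') via the canonical maps. -/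
theorem result
    (A S : Type u) [CommRing A] [IsLocalRing A] [IsReduced A] (hA : EGA4.IsExcellent A)
    [CommRing S] [IsLocalRing S] [Algebra A S] [IsLocalHom (algebraMap A S)]
    [Hensel.IsStrictHenselization A S] (D : Subalgebra A S) [IsLocalRing D]
    [IsLocalHom (algebraMap D S)]
    (hfg : ∃ t : Finset (FractionRing D), ∀ x : FractionRing D, ∃ a ∈ nonZeroDivisors A,
      algebraMap A (FractionRing D) a * x ∈ Algebra.adjoin A (t : Set (FractionRing D)))
    (A' D' : Subalgebra A (FractionRing S))
    (hA' : ∀ x : (FractionRing S), x ∈ A' ↔ (IsIntegral A x ∧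
      ∃ a ∈ nonZeroDivisors A, ∃ b : A, algebraMap A (FractionRing S) a * x = algebraMap A (FractionRing S) b))
    (hD' : ∀ x : (FractionRing S), x ∈ D' ↔ (IsIntegral D x ∧
      ∃ a ∈ nonZeroDivisors A, ∃ d ∈ D, algebraMap A (FractionRing S) a * x = algebraMap S (FractionRing S) d))
    (hle : A' ≤ D') (ι : D →ₐ[A] D') (hι : ∀ d : D, (ι d : (FractionRing S)) = algebraMap S (FractionRing S) d) :
    EGA4loc.IsEssentiallyEtale A D ↔
      ({N : Ideal D' | N.IsMaximal}.Finite ∧
        Function.Surjective ((Ideal.Quotient.mkₐ A (Ideal.jacobson (⊥ : Ideal D'))).comp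
          (Algebra.TensorProduct.productMap (Subalgebra.inclusion hle) ι)) ∧
        RingHom.ker ((Ideal.Quotient.mkₐ A (Ideal.jacobson (⊥ : Ideal D'))).comp
          (Algebra.TensorProduct.productMap (Subalgebra.inclusion hle) ι)) =
          (Ideal.jacobson (⊥ : Ideal A')).map
              (Algebra.TensorProduct.includeLeft : A' →ₐ[A] A' ⊗[A] D) ⊔
            (maximalIdeal D).map
              (Algebra.TensorProduct.includeRight : D →ₐ[A] A' ⊗[A] D)) := by
  have hN : CAlg.IsNagata A := Groth.Agent.S2654.result A ⟨hA.1, hA.2.2.1, hA.2.2.2⟩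
  haveI := hN.1
  have hmin : (minimalPrimes A).Finite := minimalPrimes.finite_of_isNoetherianRing A
  refine ⟨fun hX => SHSubLib.residue_conditions hA' hD' hle ι hι hN hX, fun ⟨hfin, hsurj, _⟩ => ?_⟩
  obtain ⟨E, hDE, hEl, hEh, hE, -⟩ := SHSubLib.exists_le_of_fg hmin D hfg
  haveI := hEl
  haveI := hEh
  haveI hAD : IsLocalHom (algebraMap A D) := ⟨fun a ha => isUnit_of_map_unit (algebraMap A S) a (by
    rw [IsScalarTower.algebraMap_apply A D S]; exact ha.map (algebraMap D S))⟩
  haveI hAE : IsLocalHom (algebraMap A E) := ⟨fun a ha => isUnit_of_map_unit (algebraMap A S) a (by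
    rw [IsScalarTower.algebraMap_apply A E S]; exact ha.map (algebraMap E S))⟩
  obtain ⟨g, hg, hgA, hgD⟩ := SHSubLib.exists_incl hA' hD' hle ι hι E hE hmin hDE
  obtain ⟨heft, hfinD⟩ := SHSubLib.essFiniteType_and_finite hA' hD' hle ι hι E hDE g hg hgA hgD hN hE hfin hsurj
  haveI := heft
  haveI : IsNoetherianRing D := Algebra.EssFiniteType.isNoetherianRing A D
  haveI := SHSubLib.finite_normA A' hA' hN
  haveI := EssEtFracLib.flat_of_essEt hE
  haveI : Module.Finite A (ResidueField E) := SHSubLib.finite_quotient_maximal E hE
  have hj : IsLocalHom ((Subalgebra.inclusion hDE : D →ₐ[A] E) : D →+* E) := ⟨fun d hd =>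
    isUnit_of_map_unit (algebraMap D S) d (hd.map (algebraMap E S))⟩
  have hιinj : Function.Injective ι := fun d e h => Subtype.ext
    (IsFractionRing.injective S (FractionRing S) (by rw [← hι, ← hι, h]))
  have hιmax : ∀ d ∈ maximalIdeal D, ι d ∈ Ideal.jacobson (⊥ : Ideal D') := fun d hd =>
    Ideal.mem_sInf.2 fun {N} hN' => by
      haveI := hN'.2
      rw [← SHSubLib.comap_iota_maximal hD' ι hι N] at hd
      exact hd
  have hm := SHSubLib.map_maximalIdeal_of_residue (A := A) (B := A') (U := E) (R := D') (D := D)
    (HenselBranchLib.map_maximal_of_essEt hE) (Subalgebra.inclusion hle) ι (Subalgebra.inclusion hDE) hj hιinj hfinD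
    g hgA hgD (SHSubLib.faithfullyFlat_normalization hA' hD' hle ι hι E hDE g hg hgA hgD hmin hE hsurj)
    (fun M hM => by haveI := hM; exact SHSubLib.isMaximal_comap_g hA' E g hE M)
    (fun N hN' => by haveI := hN'; exact SHSubLib.exists_maximal_over hA' hD' hle ι hι E hDE g hgA hgD hE hsurj N)
    (SHSubLib.jacobson_tensor A' hA' hN E hE) hιmax hsurj
  exact Groth.Agent.S16438.result A S D hm

end Groth.Agent.S16450
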