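import Groth.Statements.S16451
import Groth.Agent.SHSubLib.Radical
import Groth.Agent.SHSubLib.Approx
import Groth.Agent.SHSubLib.Cover
import Groth.Agent.SHSubLib.Inj
import Groth.Agent.SHSubLib.IndConverse
import Groth.Agent.S0510
import Groth.Agent.S2654

set_option autoImplicit false
universe u
open scoped TensorProduct
open EGA4loc

namespace Groth.Agent.S16451

open IsLocalRing in
/-- Let A be an excellent reduced local ring with maximal ideal m and residue field k, S a strict
henselization of A with total ring of fractions K, and D an A-subalgebra of S which is a local ring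
dominated by S (local inclusion); let D^h be a henselization of D and θ : D^h → S the D-algebra map
to S (the unique one, S being henselian). Inside K, let A' and D' be the normalizations of A and of
D — the elements of K integral over A (resp. over D) and carried into A (resp. into D) by the image
of some non-zero-divisor of A — so A' ⊆ D', and let ι : D → D' be the inclusion. Then θ is injective
and its image is a directed union of A-subalgebras of S which are local rings and essentially etale
local A-algebras (that is, D^h is a direct limit of local etale extensions of A) if and only if D'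
has finitely many maximal ideals and the canonical map A' ⊗_A D → D'/Rad(D') is surjective with
kernel the ideal generated by Rad(A') ⊗ D and A' ⊗ m_D (the residual field products satisfy (A'/Rad
A') ⊗_k (D/m_D) ≅ D'/Rad(D')). -/
theorem result
    (A S : Type u) [CommRing A] [IsLocalRing A] [IsReduced A] (hA : EGA4.IsExcellent A)
    [CommRing S] [IsLocalRing S] [Algebra A S] [IsLocalHom (algebraMap A S)]
    [Hensel.IsStrictHenselization A S] (D : Subalgebra A S) [IsLocalRing D]
    [IsLocalHom (algebraMap D S)]
    (Dh : Type u) [CommRing Dh] [IsLocalRing Dh] [Algebra D Dh] [IsLocalHom (algebraMap D Dh)]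
    [Hensel.IsHenselization D Dh] [Algebra Dh S] [IsScalarTower D Dh S]
    (A' D' : Subalgebra A (FractionRing S))
    (hA' : ∀ x : (FractionRing S), x ∈ A' ↔ (IsIntegral A x ∧
      ∃ a ∈ nonZeroDivisors A, ∃ b : A, algebraMap A (FractionRing S) a * x = algebraMap A (FractionRing S) b))
    (hD' : ∀ x : (FractionRing S), x ∈ D' ↔ (IsIntegral D x ∧
      ∃ a ∈ nonZeroDivisors A, ∃ d ∈ D, algebraMap A (FractionRing S) a * x = algebraMap S (FractionRing S) d))
    (hle : A' ≤ D') (ι : D →ₐ[A] D') (hι : ∀ d : D, (ι d : (FractionRing S)) = algebraMap S (FractionRing S) d) :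
    (Function.Injective (algebraMap Dh S) ∧
        ∀ s : Finset S, (s : Set S) ⊆ Set.range (algebraMap Dh S) →
          ∃ E : Subalgebra A S, (s : Set S) ⊆ (E : Set S) ∧ (E : Set S) ⊆ Set.range (algebraMap Dh S) ∧
            ∃ _ : IsLocalRing E, EGA4loc.IsEssentiallyEtale A E) ↔
      ({N : Ideal D' | N.IsMaximal}.Finite ∧
        Function.Surjective ((Ideal.Quotient.mkₐ A (Ideal.jacobson (⊥ : Ideal D'))).comp
          (Algebra.TensorProduct.productMap (Subalgebra.inclusion hle) ι)) ∧
        RingHom.ker ((Ideal.Quotient.mkₐ A (Ideal.jacobson (⊥ : Ideal D'))).comp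
          (Algebra.TensorProduct.productMap (Subalgebra.inclusion hle) ι)) =
          (Ideal.jacobson (⊥ : Ideal A')).map
              (Algebra.TensorProduct.includeLeft : A' →ₐ[A] A' ⊗[A] D) ⊔
            (maximalIdeal D).map
              (Algebra.TensorProduct.includeRight : D →ₐ[A] A' ⊗[A] D)) := by
  have hN : CAlg.IsNagata A := Groth.Agent.S2654.result A ⟨hA.1, hA.2.2.1, hA.2.2.2⟩
  haveI := hN.1
  have hmin : (minimalPrimes A).Finite := minimalPrimes.finite_of_isNoetherianRing A
  have hmS : (maximalIdeal A).map (algebraMap A S) = maximalIdeal S := Groth.Agent.S0538.result A S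
  haveI hDhS : IsLocalHom (algebraMap Dh S) := by
    refine ((IsLocalRing.local_hom_TFAE (algebraMap Dh S)).out 2 0).1 ?_
    rw [← Groth.Agent.S0507.result D Dh, Ideal.map_map, ← IsScalarTower.algebraMap_eq]
    exact Ideal.map_le_iff_le_comap.2 fun d hd => fun hu => hd (isUnit_of_map_unit (algebraMap D S) d hu)
  refine ⟨fun ⟨hinj, hdir⟩ => SHSubLib.conditions_of_indEssEt hA' hD' hle ι hι hN hinj hdir,
    fun ⟨hfin, hsurj, _⟩ => ?_⟩
  haveI : HenselianLocalRing Dh := Hensel.IsHenselization.henselian D
  letI : Algebra A Dh := ((algebraMap D Dh).comp (algebraMap A D)).toAlgebra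
  haveI : IsScalarTower A D Dh := IsScalarTower.of_algebraMap_eq' rfl
  haveI hAD : IsLocalHom (algebraMap A D) := ⟨fun a ha => isUnit_of_map_unit (algebraMap A S) a (by
    rw [IsScalarTower.algebraMap_apply A D S]; exact ha.map (algebraMap D S))⟩
  haveI hADh : IsLocalHom (algebraMap A Dh) := ⟨fun a ha => isUnit_of_map_unit (algebraMap A D) a
    (isUnit_of_map_unit (algebraMap D Dh) _ ha)⟩
  let θ : Dh →ₐ[A] S :=
    { algebraMap Dh S with
      commutes' := fun a => by
        change algebraMap Dh S (algebraMap D Dh (algebraMap A D a)) = _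
        rw [← IsScalarTower.algebraMap_apply D Dh S, ← IsScalarTower.algebraMap_apply] }
  haveI : IsLocalHom (θ : Dh →+* S) := hDhS
  have hθD : ∀ d : D, θ (algebraMap D Dh d) = (d : S) := fun d => (IsScalarTower.algebraMap_apply D Dh S d).symm
  have happrox : ∀ (z : Dh) (n : ℕ), ∃ d ∈ D, θ z - d ∈ (maximalIdeal A ^ n).map (algebraMap A S) := by
    intro z n
    obtain ⟨y, hy⟩ := (Groth.Agent.S0510.result D Dh n).2 (Ideal.Quotient.mk _ z)
    obtain ⟨d, rfl⟩ := Ideal.Quotient.mk_surjective y
    rw [Ideal.quotientMap_mk, Ideal.Quotient.eq] at hy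
    refine ⟨(d : S), d.2, ?_⟩
    have h := Ideal.mem_map_of_mem (algebraMap Dh S) hy
    rw [Ideal.map_map, ← IsScalarTower.algebraMap_eq, Ideal.map_pow, map_sub,
      ← IsScalarTower.algebraMap_apply] at h
    rw [Ideal.map_pow, hmS]
    have h2 := Ideal.pow_right_mono (Ideal.map_le_iff_le_comap.2
      (fun e he => fun hu => he (isUnit_of_map_unit (algebraMap D S) e hu)) :
      (maximalIdeal D).map (algebraMap D S) ≤ maximalIdeal S) n h
    rw [← neg_sub]
    exact neg_mem h2
  obtain ⟨G, hG⟩ := SHSubLib.exists_inclS A' hA' hD' hmin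
  haveI := SHSubLib.finite_normA A' hA' hN
  haveI : Module.FaithfullyFlat A S := Groth.Agent.S0539.result A S
  have hBinj : Function.Injective (algebraMap A A') := fun a b h => by
    have h1 : algebraMap A (FractionRing S) a = algebraMap A (FractionRing S) b := congrArg Subtype.val h
    rw [IsScalarTower.algebraMap_apply A S (FractionRing S), IsScalarTower.algebraMap_apply A S (FractionRing S)] at h1
    exact FaithfulSMul.algebraMap_injective A S (IsFractionRing.injective S (FractionRing S) h1)
  have hιmax : ∀ d ∈ maximalIdeal D, ι d ∈ Ideal.jacobson (⊥ : Ideal D') := fun d hd =>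
    Ideal.mem_sInf.2 fun {N} hN' => by
      haveI := hN'.2
      rw [← SHSubLib.comap_iota_maximal hD' ι hι N] at hd
      exact hd
  have hD : ∀ x : D, (x : S) ∈ maximalIdeal S → ∀ n : ℕ, ∃ y ∈ (maximalIdeal A).map (algebraMap A D),
      (x : S) - ((y : D) : S) ∈ (maximalIdeal A ^ n).map (algebraMap A S) := fun x hx n =>
    SHSubLib.exists_sub_mem_of_residue (A := A) (B := A') (U := S) (R := D') (D := D) hBinj hmS
      (Subalgebra.inclusion hle) ι D.val ⟨fun d hd => isUnit_of_map_unit (algebraMap D S) d hd⟩ G
      (SHSubLib.G_inclusion A' hA' hle G hG) (SHSubLib.G_iota A' hA' ι hι G hG)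
      (SHSubLib.jacobson_le_map hA' hD' hle ι hι hN hfin hsurj) hιmax hsurj x hx n
  refine ⟨SHSubLib.injective_henselization hA' hD' hle ι hι hsurj, fun s hs => ?_⟩
  obtain ⟨E, hsE, hEr, hEl, -, hE⟩ := SHSubLib.exists_cover D θ (fun d hd => ⟨_, hθD ⟨d, hd⟩⟩) happrox hD s
    fun x hx => hs hx
  exact ⟨E, hsE, fun y hy => hEr hy, hEl, hE⟩

end Groth.Agent.S16451
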