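import Groth.Statements.S16452
import Mathlib
import Mathlib
-- import your own Groth.Agent.* helpers here

set_option autoImplicit false
universe u
open CAlg

namespace Groth.Agent.S16452

/-- Let R → S be formally étale and J an ideal of S such that the composite R → S → S/J is surjective;
let I ⊆ R be its kernel, the preimage of J in R. Then the homomorphism of associated graded rings ⊕ₙ
Iⁿ/Iⁿ⁺¹ → ⊕ₙ Jⁿ/Jⁿ⁺¹ induced by R → S (which carries I into J) is bijective. -/
theorem result (R : Type u) [CommRing R] (S : Type u)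
    [CommRing S] [Algebra R S] [Algebra.FormallyEtale R S] (J : Ideal S)
    (hJ : Function.Surjective (algebraMap R (S ⧸ J))) :
    Function.Bijective (AssocGr.map (AssocGr.IsFiltHom.adic
      (Ideal.map_comap_le : (J.comap (algebraMap R S)).map (algebraMap R S) ≤ J))) := by
  classical
  set I := J.comap (algebraMap R S) with hI
  have hle : ∀ k, (I ^ k).map (algebraMap R S) ≤ J ^ k := fun k => by
    rw [Ideal.map_pow]; exact Ideal.pow_right_mono Ideal.map_comap_le k
  have main : ∀ n : ℕ, (∀ r : R, algebraMap R S r ∈ J ^ (n + 1) → r ∈ I ^ (n + 1)) ∧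
      ∀ s : S, ∃ r : R, s - algebraMap R S r ∈ J ^ (n + 1) := by
    intro n
    let Q := R ⧸ I ^ (n + 1)
    let Ib : Ideal Q := I.map (Ideal.Quotient.mk (I ^ (n + 1)))
    have hIb : Ib ^ (n + 1) = ⊥ := by
      rw [← Ideal.map_pow, Ideal.map_quotient_self]
    let e : (Q ⧸ Ib) →ₐ[R] S ⧸ J := Ideal.Quotient.liftₐ Ib
      (Ideal.Quotient.liftₐ (I ^ (n + 1)) (Algebra.ofId R (S ⧸ J)) fun r hr => by
        show algebraMap R (S ⧸ J) r = 0
        rw [IsScalarTower.algebraMap_apply R S (S ⧸ J), Ideal.Quotient.algebraMap_eq, Ideal.Quotient.eq_zero_iff_mem]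
        exact (Ideal.pow_le_self n.succ_ne_zero hr : r ∈ I)) (fun q hq => by
      obtain ⟨r, hr, rfl⟩ := (Ideal.mem_map_iff_of_surjective _ Ideal.Quotient.mk_surjective).1 hq
      show algebraMap R (S ⧸ J) r = 0
      rw [IsScalarTower.algebraMap_apply R S (S ⧸ J), Ideal.Quotient.algebraMap_eq, Ideal.Quotient.eq_zero_iff_mem]
      exact hr)
    have he : Function.Bijective e := by
      refine ⟨(injective_iff_map_eq_zero e).2 fun q hq => ?_, fun s => ?_⟩
      · obtain ⟨q, rfl⟩ := Ideal.Quotient.mk_surjective q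
        obtain ⟨r, rfl⟩ := Ideal.Quotient.mk_surjective q
        have h0 : algebraMap R (S ⧸ J) r = 0 := hq
        rw [IsScalarTower.algebraMap_apply R S (S ⧸ J), Ideal.Quotient.algebraMap_eq, Ideal.Quotient.eq_zero_iff_mem] at h0
        rw [Ideal.Quotient.eq_zero_iff_mem]
        exact Ideal.mem_map_of_mem _ h0
      · obtain ⟨r, rfl⟩ := hJ s
        exact ⟨algebraMap R _ r, e.commutes r⟩
    obtain ⟨g, hg⟩ := Algebra.FormallySmooth.exists_lift Ib ⟨n + 1, hIb⟩
      ((AlgEquiv.ofBijective e he).symm.toAlgHom.comp (Ideal.Quotient.mkₐ R J))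
    have hgJ : ∀ x ∈ J, g x ∈ Ib := fun x hx => by
      have h := AlgHom.congr_fun hg x
      rw [← Ideal.Quotient.eq_zero_iff_mem]
      refine h.trans ?_
      show (AlgEquiv.ofBijective e he).symm (Ideal.Quotient.mk J x) = 0
      rw [Ideal.Quotient.eq_zero_iff_mem.2 hx, map_zero]
    have hgker : ∀ x ∈ J ^ (n + 1), g x = 0 := fun x hx => by
      have h : g x ∈ Ib ^ (n + 1) := by
        have h' := Ideal.mem_map_of_mem g hx
        rw [Ideal.map_pow] at h'
        exact Ideal.pow_right_mono (Ideal.map_le_iff_le_comap.2 hgJ) (n + 1) h'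
      rwa [hIb] at h
    refine ⟨fun r hr => ?_, fun s => ?_⟩
    · have h := hgker _ hr
      rw [g.commutes] at h
      exact Ideal.Quotient.eq_zero_iff_mem.1 h
    · let c : Q →ₐ[R] S ⧸ J ^ (n + 1) := Ideal.Quotient.liftₐ _ (Algebra.ofId R _) fun r hr => by
        show algebraMap R (S ⧸ J ^ (n + 1)) r = 0
        rw [IsScalarTower.algebraMap_apply R S (S ⧸ J ^ (n + 1)), Ideal.Quotient.algebraMap_eq, Ideal.Quotient.eq_zero_iff_mem]
        exact hle _ (Ideal.mem_map_of_mem _ hr)
      have hc : c.comp g = Ideal.Quotient.mkₐ R (J ^ (n + 1)) := by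
        refine Algebra.FormallyUnramified.ext (J.map (Ideal.Quotient.mk (J ^ (n + 1))))
          ⟨n + 1, by rw [← Ideal.map_pow, Ideal.map_quotient_self]; rfl⟩ fun x => ?_
        obtain ⟨r, hr⟩ := hJ (Ideal.Quotient.mk J x)
        have hx : x - algebraMap R S r ∈ J := by
          rw [IsScalarTower.algebraMap_apply R S (S ⧸ J), Ideal.Quotient.algebraMap_eq] at hr
          exact Ideal.Quotient.eq.1 hr.symm
        rw [Ideal.Quotient.eq]
        obtain ⟨j, hj, hxj⟩ : ∃ j ∈ J, x = algebraMap R S r + j := ⟨_, hx, by ring⟩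
        rw [hxj, map_add, map_add, AlgHom.commutes, AlgHom.commutes, add_sub_add_left_eq_sub]
        refine Ideal.sub_mem _ ?_ (Ideal.mem_map_of_mem _ hj)
        obtain ⟨q, hq, hqj⟩ := (Ideal.mem_map_iff_of_surjective _ Ideal.Quotient.mk_surjective).1 (hgJ j hj)
        show c (g j) ∈ _
        rw [← hqj]
        show algebraMap R (S ⧸ J ^ (n + 1)) q ∈ _
        rw [IsScalarTower.algebraMap_apply R S (S ⧸ J ^ (n + 1)), Ideal.Quotient.algebraMap_eq]
        exact Ideal.mem_map_of_mem _ hq
      obtain ⟨r, hr⟩ := Ideal.Quotient.mk_surjective (g s)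
      refine ⟨r, Ideal.Quotient.eq.1 ?_⟩
      have h := AlgHom.congr_fun hc s
      rw [AlgHom.comp_apply, ← hr] at h
      exact h.symm.trans (IsScalarTower.algebraMap_apply R S (S ⧸ J ^ (n + 1)) r)
  refine ⟨(injective_iff_map_eq_zero _).2 fun x hx => ?_, fun y => ?_⟩
  · obtain ⟨f, rfl⟩ := AssocGr.mkG_surjective _ x
    rw [AssocGr.map_mkG, AssocGr.mkG_eq_zero_iff] at hx
    rw [AssocGr.mkG_eq_zero_iff]
    intro k
    have h := hx k
    rw [AssocGr.coe_reesMap, Polynomial.coeff_map] at h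
    exact (main k).1 _ h
  · obtain ⟨f, rfl⟩ := AssocGr.mkG_surjective _ y
    rw [← AssocGr.sum_term _ f, map_sum]
    have hk : ∀ k, ∃ z, AssocGr.map (AssocGr.IsFiltHom.adic (φ := algebraMap R S) (Ideal.map_comap_le : I.map (algebraMap R S) ≤ J)) z =
        AssocGr.mkG _ (AssocGr.term (FiltBl.IdealFiltration.adic J) f k) := fun k => by
      obtain ⟨r, hr⟩ := (main k).2 ((f : Polynomial S).coeff k)
      have hrI : r ∈ I ^ k := by
        rcases k with _ | k
        · simp
        · refine (main k).1 r ?_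
          have := (J ^ (k + 1)).sub_mem (f.2 (k + 1)) (Ideal.pow_le_pow_right (Nat.le_succ _) hr)
          rwa [sub_sub_cancel] at this
      refine ⟨AssocGr.mkG _ (AssocGr.monom (FiltBl.IdealFiltration.adic I) k ⟨r, hrI⟩ : _), ?_⟩
      rw [AssocGr.map_mkG, AssocGr.reesMap_monom, eq_comm, ← sub_eq_zero, ← map_sub, AssocGr.mkG_eq_zero_iff]
      intro m
      rw [Subalgebra.coe_sub, Polynomial.coeff_sub, AssocGr.coe_coe_monom, AssocGr.coe_term, Polynomial.coeff_monomial,
        Polynomial.coeff_monomial]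
      split_ifs with hkm
      · subst hkm; exact hr
      · simp
    choose z hz using hk
    exact ⟨∑ k ∈ (f : Polynomial S).support, z k, (map_sum _ _ _).trans (Finset.sum_congr rfl fun k _ => hz k)⟩

end Groth.Agent.S16452
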