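import Groth.Statements.S16453
import Mathlib
import Mathlib
-- import your own Groth.Agent.* helpers here

set_option autoImplicit false
universe u
open AdicGr

namespace Groth.Agent.S16453

/-- Let A be a commutative ring, I an ideal and Â the I-adic completion, filtered by the kernels Âₙ of
the projections Â → A/Iⁿ. Then the homomorphism of associated graded rings ⊕ₙ Iⁿ/Iⁿ⁺¹ → ⊕ₙ Âₙ/Âₙ₊₁
induced by the canonical map A → Â is bijective. No hypothesis on A or I is needed. (The published
statement is for an arbitrary filtered ring and also asserts the analogous isomorphism for a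
compatibly filtered module; this row is the ring assertion for the filtration by the powers of one
ideal.) -/
theorem result (A : Type u) [CommRing A] (I : Ideal A) :
    Function.Bijective (AssocGr.map (AssocGr.isFiltHom_kerFilt I)) := by
  have key : ∀ (a : A) (n : ℕ), algebraMap A (AdicCompletion I A) a ∈ (AssocGr.kerFilt I).F n ↔ a ∈ I ^ n := by
    intro a n
    rw [AssocGr.mem_kerFilt_iff_val, AdicCompletion.algebraMap_apply, Algebra.algebraMap_self,
      RingHom.id_apply, AdicCompletion.of_apply, Submodule.mkQ_apply, Submodule.Quotient.mk_eq_zero,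
      AssocGr.pow_smul_top]
  constructor
  · refine (injective_iff_map_eq_zero _).mpr fun x hx => ?_
    obtain ⟨f, rfl⟩ := AssocGr.mkG_surjective _ x
    rw [AssocGr.map_mkG, AssocGr.mkG_eq_zero_iff] at hx
    refine (AssocGr.mkG_eq_zero_iff _ f).mpr fun n => ?_
    have h := hx n
    rw [AssocGr.coe_reesMap, Polynomial.coeff_map] at h
    exact (key _ _).mp h
  · intro y
    obtain ⟨g, rfl⟩ := AssocGr.mkG_surjective _ y
    suffices h : ∀ n, AssocGr.mkG _ (AssocGr.term _ g n) ∈ (AssocGr.map (AssocGr.isFiltHom_kerFilt I)).range by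
      rw [← RingHom.mem_range, ← AssocGr.sum_term _ g, map_sum]
      exact Subring.sum_mem _ fun n _ => h n
    intro n
    set b : (AssocGr.kerFilt I).F n := ⟨(g : Polynomial (AdicCompletion I A)).coeff n, g.2 n⟩ with hb
    obtain ⟨a, ha⟩ := Submodule.mkQ_surjective _ ((b : AdicCompletion I A).val (n + 1))
    have hd : algebraMap A (AdicCompletion I A) a - (b : AdicCompletion I A) ∈ (AssocGr.kerFilt I).F (n + 1) := by
      rw [AssocGr.mem_kerFilt_iff_val, AdicCompletion.val_sub_apply, AdicCompletion.algebraMap_apply,
        Algebra.algebraMap_self, RingHom.id_apply, AdicCompletion.of_apply, ha, sub_self]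
    have ha' : a ∈ I ^ n := (key a n).mp (by
      have := Ideal.add_mem _ ((AssocGr.kerFilt I).antitone (Nat.le_succ n) hd) b.2
      rwa [sub_add_cancel] at this)
    refine ⟨(AssocGr.inDeg (FiltBl.IdealFiltration.adic I) n ⟨a, ha'⟩ : AssocGr.GrRing _), ?_⟩
    rw [AssocGr.map_inDeg, AssocGr.mkG_term, ← sub_eq_zero, ← Submodule.coe_sub, ← map_sub,
      (AssocGr.inDeg_eq_zero_iff _ n _).mpr hd, Submodule.coe_zero]

end Groth.Agent.S16453
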