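import Groth.Statements.S16454
import Groth.Agent.NilFlatLib.Basic

set_option autoImplicit false
universe u
open TensorProduct
open EGA43

namespace Groth.Agent.S16454

/-- Let A be a commutative ring, I a nilpotent ideal of A and M an A-module, and form the associated
graded ring G = ⊕ₙ Iⁿ/Iⁿ⁺¹ and the associated graded G-module gr_I(M) = ⊕ₙ IⁿM/Iⁿ⁺¹M. Assume that
M/IM is flat over A/I and that the canonical homomorphism (M/IM) ⊗ G → gr_I(M), [x] ⊗ [a] ↦ [a·x],
is injective: degree by degree, whenever elements a_i ∈ Iⁿ and x_i ∈ M satisfy Σ_i [a_i]·[x_i] = 0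
in gr_I(M) (that is Σ a_i x_i ∈ Iⁿ⁺¹M), the element Σ_i [a_i] ⊗ [x_i] of (Iⁿ/Iⁿ⁺¹) ⊗ (M/IM) is zero.
Then M is a flat A-module. (The published lemma is stated for any finite decreasing multiplicative
filtration A = J₀ ⊇ J₁ ⊇ … ⊇ J_N₊₁ = 0 of A with M filtered by the submodules JₙM; this row is its
case Jₙ = Iⁿ.) -/
theorem result (A : Type u) [CommRing A] (I : Ideal A)
    (hI : IsNilpotent I) (M : Type u) [AddCommGroup M] [Module A M]
    (hflat : Module.Flat (A ⧸ I) (M ⧸ (I • (⊤ : Submodule A M))))
    (hinj : ∀ (n k : ℕ) (a : Fin k → ↥((FiltBl.IdealFiltration.adic I).F n))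
      (x : Fin k → ↥((Rees.powFilt I M).N 0)),
      (∑ i, (AssocGr.inDeg (FiltBl.IdealFiltration.adic I) n (a i) :
          AssocGr.GrRing (FiltBl.IdealFiltration.adic I)) •
        (AssocGr.inDegM (Rees.powFilt I M) 0 (x i) : AssocGr.GrMod (Rees.powFilt I M))) = 0 →
      (∑ i, (AssocGr.inDeg (FiltBl.IdealFiltration.adic I) n (a i)) ⊗ₜ[A]
          (Submodule.Quotient.mk (x i : M)) :
        ↥(AssocGr.gr (FiltBl.IdealFiltration.adic I) n) ⊗[A] (M ⧸ (I • (⊤ : Submodule A M)))) = 0) :
    Module.Flat A M := by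
  classical
  have key : ∀ n : ℕ, Function.Injective (LinearMap.rTensor M (Submodule.subtype (I ^ n))) := by
    obtain ⟨N, hN⟩ := hI
    suffices h : ∀ d n, N ≤ n + d → Function.Injective (LinearMap.rTensor M (Submodule.subtype (I ^ n))) from
      fun n => h N n (by omega)
    intro d
    induction d with
    | zero =>
      intro n hn
      haveI : Subsingleton ↥(I ^ n) := by
        rw [Submodule.subsingleton_iff_eq_bot]
        exact eq_bot_iff.2 ((Ideal.pow_le_pow_right (by omega)).trans hN.le)
      intro a b _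
      exact Subsingleton.elim _ _
    | succ d ih =>
      intro n hn
      refine (injective_iff_map_eq_zero _).2 fun z hz => ?_
      obtain ⟨S, rfl⟩ := TensorProduct.exists_finset (R := A) z
      let e := S.equivFin
      let a : Fin S.card → ↥(I ^ n) := fun i => (e.symm i).1.1
      let x : Fin S.card → ↥((Rees.powFilt I M).N 0) := fun i => ⟨(e.symm i).1.2, by
        show _ ∈ I ^ 0 • (⊤ : Submodule A M)
        rw [pow_zero, Ideal.one_eq_top, Submodule.top_smul]
        trivial⟩
      have hsum : ∑ p ∈ S, p.1 ⊗ₜ[A] p.2 = ∑ i, a i ⊗ₜ[A] ((x i : ↥((Rees.powFilt I M).N 0)) : M) := by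
        rw [← Finset.sum_coe_sort S]
        exact (Equiv.sum_comp e.symm fun p : S => p.1.1 ⊗ₜ[A] p.1.2).symm
      rw [hsum] at hz ⊢
      have hmul : ∑ i, (a i : A) • ((x i : ↥((Rees.powFilt I M).N 0)) : M) = 0 := by
        have h := congrArg (TensorProduct.lid A M) hz
        simpa [map_sum] using h
      have h1 := hinj n S.card a x (by
        rw [Finset.sum_congr rfl fun i _ => AssocGr.inDeg_smul_inDegM (F := Rees.powFilt I M) n 0 (a i) (x i),
          ← AddSubmonoidClass.coe_finsetSum, ← map_sum]
        refine (ZeroMemClass.coe_eq_zero).2 ((AssocGr.inDegM_eq_zero_iff _ _ _).2 ?_)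
        rw [AddSubmonoidClass.coe_finsetSum]
        simp only [hmul]
        exact zero_mem _)
      let g : ↥(I ^ n) →ₗ[A] ↥(AssocGr.gr (FiltBl.IdealFiltration.adic I) n) :=
        AssocGr.inDeg (FiltBl.IdealFiltration.adic I) n
      let f : ↥(I ^ (n + 1)) →ₗ[A] ↥(I ^ n) := Submodule.inclusion (Ideal.pow_le_pow_right (Nat.le_succ n))
      have hfg : Function.Exact f g := by
        intro b
        constructor
        · intro hb
          exact ⟨⟨b, (AssocGr.inDeg_eq_zero_iff (FiltBl.IdealFiltration.adic I) n b).1 hb⟩, Subtype.ext rfl⟩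
        · rintro ⟨c, rfl⟩
          exact (AssocGr.inDeg_eq_zero_iff _ n _).2 c.2
      have hker := TensorProduct.map_ker hfg (AssocGr.inDeg_surjective _ n)
        (LinearMap.exact_subtype_mkQ (I • (⊤ : Submodule A M))) (Submodule.mkQ_surjective _)
      have hmem : (∑ i, a i ⊗ₜ[A] ((x i : ↥((Rees.powFilt I M).N 0)) : M)) ∈
          LinearMap.ker (TensorProduct.map g (I • (⊤ : Submodule A M)).mkQ) := by
        rw [LinearMap.mem_ker, map_sum]
        simp only [TensorProduct.map_tmul, Submodule.mkQ_apply]
        exact h1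
      obtain ⟨w, hw⟩ : ∃ w, f.rTensor M w = ∑ i, a i ⊗ₜ[A] ((x i : ↥((Rees.powFilt I M).N 0)) : M) := by
        have hle : LinearMap.range ((I • (⊤ : Submodule A M)).subtype.lTensor ↥(I ^ n)) ≤
            LinearMap.range (f.rTensor M) := by
          rintro _ ⟨t, rfl⟩
          induction t using TensorProduct.induction_on with
          | zero => exact ⟨0, by simp⟩
          | add p q hp hq => rw [map_add]; exact add_mem hp hq
          | tmul b y =>
            obtain ⟨y, hy⟩ := y
            show b ⊗ₜ[A] y ∈ LinearMap.range (f.rTensor M)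
            induction hy using Submodule.smul_induction_on' with
            | smul r hr m _ =>
              refine ⟨(⟨r * (b : A), by rw [pow_succ']; exact Ideal.mul_mem_mul hr b.2⟩ : ↥(I ^ (n + 1))) ⊗ₜ[A] m, ?_⟩
              rw [LinearMap.rTensor_tmul, TensorProduct.tmul_smul, TensorProduct.smul_tmul']
              rfl
            | add p _ q _ hp hq => rw [TensorProduct.tmul_add]; exact add_mem hp hq
        rw [hker] at hmem
        exact LinearMap.mem_range.1 (sup_le hle le_rfl hmem)
      have hw0 : w = 0 := ih (n + 1) (by omega) (by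
        rw [map_zero, show Submodule.subtype (I ^ (n + 1)) = Submodule.subtype (I ^ n) ∘ₗ f from rfl,
          LinearMap.rTensor_comp, LinearMap.comp_apply, hw]
        exact hz)
      rw [← hw, hw0, map_zero]
  haveI : Module.Flat (A ⧸ I) (TensorProduct A (A ⧸ I) M) := by
    let e : TensorProduct A (A ⧸ I) M ≃ₗ[A] M ⧸ (I • (⊤ : Submodule A M)) := TensorProduct.quotTensorEquivQuotSMul M I
    haveI := hflat
    exact Module.Flat.of_linearEquiv (e.extendScalarsOfSurjective (S := A ⧸ I) Ideal.Quotient.mk_surjective)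
  have h := key 1
  rw [pow_one] at h
  exact NilFlatLib.flat_of_isNilpotent hI h

end Groth.Agent.S16454
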