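import Groth.Statements.S16456
import Mathlib
import Groth.Agent.AdicGrLib.Basic
-- import your own Groth.Agent.* helpers here

set_option autoImplicit false
universe u
open AdicGr

namespace Groth.Agent.S16456

/-- Let φ : A → B be a ring homomorphism, I ⊆ A and J ⊆ B ideals with φ(I)B ⊆ J, so that φ is a
homomorphism of filtered rings for the I-adic and J-adic filtrations. Assume that A is I-adically
complete in the sense that every I-adically Cauchy sequence has a limit, that B is J-adically
separated, and that the induced homomorphism of associated graded rings ⊕ₙ Iⁿ/Iⁿ⁺¹ → ⊕ₙ Jⁿ/Jⁿ⁺¹ is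
surjective. Then φ is surjective, φ is strict (Jⁿ = φ(Iⁿ)B for all n, that is J = φ(I)B), and B is
J-adically separated and complete. (The published statement is for a homomorphism of filtered
modules over a filtered ring, with arbitrary compatible filtrations; this row is its case of a ring
homomorphism with adic filtrations.) -/
theorem result (A : Type u) [CommRing A] (B : Type u)
    [CommRing B] (φ : A →+* B) (I : Ideal A) (J : Ideal B) (hIJ : I.map φ ≤ J)
    [IsPrecomplete I A] [IsHausdorff J B]
    (h : Function.Surjective (AssocGr.map (AssocGr.IsFiltHom.adic hIJ))) :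
    Function.Surjective φ ∧ I.map φ = J ∧ IsAdicComplete J B := by
  classical
  letI : Algebra A B := φ.toAlgebra
  let N : ℕ → Submodule A B := fun n => (J ^ n).restrictScalars A
  have hstep : ∀ n, ∀ y ∈ (⊤ : Submodule A B), y ∈ N n →
      ∃ a : Unit → A, (∀ i, a i ∈ I ^ (n - (fun _ : Unit => 0) i)) ∧ y - ∑ i, a i • (fun _ : Unit => (1 : B)) i ∈ N (n + 1) := by
    intro n y _ hy
    obtain ⟨g, hg⟩ := h (AssocGr.mkG _ (AssocGr.monom (FiltBl.IdealFiltration.adic J) n ⟨y, hy⟩ : _))
    obtain ⟨f, rfl⟩ := AssocGr.mkG_surjective (FiltBl.IdealFiltration.adic I) g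
    rw [AssocGr.map_mkG, eq_comm, ← sub_eq_zero, ← map_sub, AssocGr.mkG_eq_zero_iff] at hg
    have h3 := hg n
    rw [Subalgebra.coe_sub, Polynomial.coeff_sub, AssocGr.coe_coe_monom, AssocGr.coe_reesMap, Polynomial.coeff_monomial,
      if_pos rfl, Polynomial.coeff_map] at h3
    refine ⟨fun _ => (f : Polynomial A).coeff n, fun _ => f.2 n, ?_⟩
    rw [Fintype.sum_unique, Algebra.smul_def, mul_one]
    exact h3
  have hsep : ∀ z, (∀ n, z ∈ N n) → z = 0 := fun z hz =>
    IsHausdorff.haus (I := J) inferInstance z fun n => by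
      rw [SModEq.zero, Ideal.smul_eq_mul, Ideal.mul_top]
      exact hz n
  have key : ∀ n, ∀ y ∈ J ^ n, ∃ a ∈ I ^ n, φ a = y := by
    intro n y hy
    obtain ⟨a, ha, rfl⟩ := AdicGrLib.exists_repr N (fun _ _ hmn => Ideal.pow_le_pow_right hmn) (fun k n => by
        refine Submodule.smul_le.2 fun a ha b hb => ?_
        show φ a * b ∈ J ^ (k + n)
        rw [pow_add]
        refine Ideal.mul_mem_mul ?_ hb
        have h' := Ideal.mem_map_of_mem φ ha
        rw [Ideal.map_pow] at h'
        exact Ideal.pow_right_mono hIJ k h') hsep (fun _ : Unit => 0) (fun _ => (1 : B)) (fun _ => by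
        show (1 : B) ∈ J ^ 0
        simp) ⊤ (fun _ => trivial) hstep n y trivial hy
    refine ⟨a (), ha (), ?_⟩
    rw [Fintype.sum_unique, Algebra.smul_def, mul_one]
    rfl
  have hsurj : Function.Surjective φ := fun y => by
    obtain ⟨a, -, ha⟩ := key 0 y (by simp)
    exact ⟨a, ha⟩
  refine ⟨hsurj, le_antisymm hIJ fun y hy => ?_, { prec' := fun f hf => ?_ }⟩
  · obtain ⟨a, ha, rfl⟩ := key 1 y (by rwa [pow_one])
    exact Ideal.mem_map_of_mem φ (by rwa [pow_one] at ha)
  · have hd : ∀ k, ∃ a ∈ I ^ k, φ a = f (k + 1) - f k := fun k => key k _ (by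
      have h' := hf (Nat.le_add_right k 1)
      rw [SModEq.sub_mem, Ideal.smul_eq_mul, Ideal.mul_top] at h'
      rwa [← neg_sub, Ideal.neg_mem_iff])
    choose δ hδ hδf using hd
    obtain ⟨a0, ha0⟩ := hsurj (f 0)
    let s : ℕ → A := fun k => Nat.rec a0 (fun k a => a + δ k) k
    have hs : ∀ k, φ (s k) = f k := fun k => by
      induction k with
      | zero => exact ha0
      | succ k ih =>
        show φ (s k + δ k) = _
        rw [map_add, ih, hδf, add_sub_cancel]
    obtain ⟨L, hL⟩ := IsPrecomplete.prec (I := I) inferInstance (f := s) (fun {m n} hmn => by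
      rw [SModEq.sub_mem, Ideal.smul_eq_mul, Ideal.mul_top]
      induction n, hmn using Nat.le_induction with
      | base => simp
      | succ j hj ih =>
        show s m - (s j + δ j) ∈ _
        rw [← sub_sub]
        exact (I ^ m).sub_mem ih (Ideal.pow_le_pow_right hj (hδ j)))
    refine ⟨φ L, fun n => ?_⟩
    have h' := hL n
    rw [SModEq.sub_mem, Ideal.smul_eq_mul, Ideal.mul_top] at h' ⊢
    rw [← hs, ← map_sub]
    have h'' := Ideal.mem_map_of_mem φ h'
    rw [Ideal.map_pow] at h''
    exact Ideal.pow_right_mono hIJ n h''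

end Groth.Agent.S16456
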