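import Groth.Statements.S16457
import Mathlib
import Mathlib
-- import your own Groth.Agent.* helpers here

set_option autoImplicit false
universe u
open AdicGr

namespace Groth.Agent.S16457

/-- Let A be a commutative ring and I an ideal such that every I-adically Cauchy sequence in A has a
limit; let M be an A-module with an I-filtration M = N₀ ⊇ N₁ ⊇ N₂ ⊇ … (I·Nₙ ⊆ Nₙ₊₁) which is
separated, ⋂ₙ Nₙ = 0; and let x₁, …, x_k be finitely many elements of M with x_i ∈ N_{d_i}. If the
classes of the x_i in degrees d_i generate the associated graded module gr(M) = ⊕ₙ Nₙ/Nₙ₊₁ as a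
module over the associated graded ring ⊕ₙ Iⁿ/Iⁿ⁺¹, then the x_i generate M. (The published statement
allows any complete filtered ring and also concludes that M is complete; this row takes the I-adic
filtration on A and states the generation.) -/
theorem result (A : Type u) [CommRing A] (I : Ideal A)
    [IsPrecomplete I A] (M : Type u) [AddCommGroup M] [Module A M] (F : I.Filtration M)
    (h0 : F.N 0 = ⊤) (hsep : ⨅ n, F.N n = ⊥) {k : ℕ} (d : Fin k → ℕ) (x : (i : Fin k) → ↥(F.N (d i)))
    (hgen : Submodule.span (AssocGr.GrRing (FiltBl.IdealFiltration.adic I))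
      (Set.range fun i => (AssocGr.inDegM F (d i) (x i) : AssocGr.GrMod F)) = ⊤) :
    Submodule.span A (Set.range fun i => ((x i : ↥(F.N (d i))) : M)) = ⊤ := by
  classical
  set adic := FiltBl.IdealFiltration.adic I
  have hstep : ∀ n, ∀ y ∈ F.N n, ∃ a : Fin k → A, (∀ i, a i ∈ I ^ (n - d i)) ∧ (∀ i, n < d i → a i = 0) ∧
      y - ∑ i, a i • ((x i : ↥(F.N (d i))) : M) ∈ F.N (n + 1) := by
    intro n y hy
    have hmem : AssocGr.mkGM F (AssocGr.monomM F n ⟨y, hy⟩) ∈ Submodule.span (AssocGr.GrRing adic) (Set.range fun i => (AssocGr.inDegM F (d i) (x i) : AssocGr.GrMod F)) := by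
      rw [hgen]; exact Submodule.mem_top
    obtain ⟨c, hc⟩ := (Submodule.mem_span_range_iff_exists_fun _).1 hmem
    choose f hf using fun i => AssocGr.mkG_surjective adic (c i)
    have h2 : AssocGr.mkGM F (AssocGr.monomM F n ⟨y, hy⟩ - ∑ i, f i • AssocGr.monomM F (d i) (x i)) = 0 := by
      rw [map_sub, map_sum, ← hc, sub_eq_zero]
      refine Finset.sum_congr rfl fun i _ => ?_
      rw [AssocGr.coe_inDegM, ← hf i, AssocGr.mkG_smul_mkGM]
    rw [AssocGr.mkGM_eq_zero_iff, AssocGr.mem_succMod_iff] at h2
    have h3 := h2 n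
    rw [← AssocGr.ReesM.coeffHom_apply, map_sub, map_sum] at h3
    simp only [AssocGr.ReesM.coeffHom_apply, AssocGr.ReesM.coeff_smul, AssocGr.ReesM.coeff_monomM, if_true, smul_ite, smul_zero] at h3
    refine ⟨fun i => if d i ≤ n then ((f i : ↥adic.rees) : Polynomial A).coeff (n - d i) else 0, fun i => ?_, fun i hi => if_neg (by omega), ?_⟩
    · show (if d i ≤ n then _ else 0) ∈ _
      split_ifs with h
      · exact (f i).2 _
      · exact zero_mem _
    · convert h3 using 2
      refine Finset.sum_congr rfl fun i _ => ?_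
      show (if d i ≤ n then _ else 0) • _ = _
      erw [AssocGr.ReesM.coeff_smul]
      simp only [AssocGr.ReesM.coeff_monomM, smul_ite, smul_zero]
      split_ifs with h
      · rw [Finset.sum_eq_single (n - d i, d i)]
        · rw [if_pos rfl]
        · intro p hp hne
          rw [if_neg]
          intro hd
          have hp' := Finset.HasAntidiagonal.mem_antidiagonal.1 hp
          exact hne (Prod.ext (by show p.1 = n - d i; omega) hd.symm)
        · intro hn'
          exact absurd (Finset.HasAntidiagonal.mem_antidiagonal.2 (show n - d i + d i = n by omega)) hn'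
      · rw [zero_smul, Finset.sum_eq_zero]
        intro p hp
        have hp' := Finset.HasAntidiagonal.mem_antidiagonal.1 hp
        rw [if_neg (by omega)]
  rw [eq_top_iff]
  intro y _
  choose g hg1 hg0 hg2 using hstep
  let S : (n : ℕ) → {s : Fin k → A // y - ∑ i, s i • ((x i : ↥(F.N (d i))) : M) ∈ F.N n} := fun n =>
    Nat.rec (motive := fun n => {s : Fin k → A // y - ∑ i, s i • ((x i : ↥(F.N (d i))) : M) ∈ F.N n})
      ⟨0, by simp [h0]⟩ (fun n s => ⟨s.1 + g n _ s.2, by
        have := hg2 n _ s.2
        simpa [add_smul, Finset.sum_add_distrib, sub_sub] using this⟩) n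
  let s : ℕ → Fin k → A := fun n => (S n).1
  have hinc : ∀ n m, n ≤ m → ∀ i, s m i - s n i ∈ I ^ (n - d i) := by
    intro n m hnm i
    induction hnm with
    | refl => rw [sub_self]; exact zero_mem _
    | @step m hnm ih =>
      have h1 : s (m + 1) i - s m i ∈ I ^ (m - d i) := by
        show (S m).1 i + g m _ (S m).2 i - (S m).1 i ∈ _
        rw [add_sub_cancel_left]; exact hg1 m _ (S m).2 i
      have hle : n ≤ m := hnm
      have := (I ^ (n - d i)).add_mem (Ideal.pow_le_pow_right (by omega) h1) ih
      rwa [sub_add_sub_cancel] at this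
  have hlim : ∀ i, ∃ L : A, ∀ n, L - s n i ∈ I ^ (n - d i) := by
    intro i
    obtain ⟨L, hL⟩ := IsPrecomplete.prec (I := I) (M := A) (inferInstance) (f := fun n => s (n + d i) i) (fun {a b} hab => by
      rw [SModEq.sub_mem, smul_eq_mul, Ideal.mul_top]
      have := hinc (a + d i) (b + d i) (by omega) i
      rw [Nat.add_sub_cancel] at this
      rw [← neg_sub]; exact neg_mem this)
    refine ⟨L, fun n => ?_⟩
    have h1 := hL (n - d i)
    rw [SModEq.sub_mem, smul_eq_mul, Ideal.mul_top] at h1
    have h2 := hinc n (n - d i + d i) (by omega) i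
    rw [show L - s n i = -(s (n - d i + d i) i - L) + (s (n - d i + d i) i - s n i) by ring]
    exact add_mem (neg_mem h1) h2
  choose L hL using hlim
  have hfinal : y - ∑ i, L i • ((x i : ↥(F.N (d i))) : M) ∈ ⨅ n, F.N n := by
    rw [Submodule.mem_iInf]
    intro n
    obtain ⟨N, hN⟩ : ∃ N, n ≤ N ∧ ∀ i, d i ≤ N := ⟨n + Finset.univ.sup d, Nat.le_add_right _ _, fun i =>
      le_trans (Finset.le_sup (Finset.mem_univ i)) (Nat.le_add_left _ _)⟩
    refine F.antitone hN.1 ?_
    rw [show y - ∑ i, L i • ((x i : ↥(F.N (d i))) : M) = (y - ∑ i, s N i • ((x i : ↥(F.N (d i))) : M)) - ∑ i, (L i - s N i) • ((x i : ↥(F.N (d i))) : M) by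
      simp only [sub_smul, Finset.sum_sub_distrib]; abel]
    refine sub_mem (S N).2 (Submodule.sum_mem _ fun i _ => ?_)
    have := F.pow_smul_le (N - d i) (d i) (Submodule.smul_mem_smul (hL i N) (x i).2)
    rwa [Nat.sub_add_cancel (hN.2 i)] at this
  rw [hsep, Submodule.mem_bot, sub_eq_zero] at hfinal
  rw [hfinal]
  exact Submodule.sum_mem _ fun i _ => Submodule.smul_mem _ _ (Submodule.subset_span ⟨i, rfl⟩)

end Groth.Agent.S16457
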