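import Groth.Statements.S16459
import Mathlib
import Groth.Agent.AdicGrLib.Basic
-- import your own Groth.Agent.* helpers here

set_option autoImplicit false
universe u
open AdicGr

namespace Groth.Agent.S16459

/-- Let A be a commutative ring and I an ideal such that every I-adically Cauchy sequence in A has a
limit, and let M be an A-module with an I-filtration M = N₀ ⊇ N₁ ⊇ … (I·Nₙ ⊆ Nₙ₊₁) which is
separated, ⋂ₙ Nₙ = 0. If the associated graded module gr(M) = ⊕ₙ Nₙ/Nₙ₊₁ is a Noetherian module over
the associated graded ring ⊕ₙ Iⁿ/Iⁿ⁺¹, then M is a Noetherian A-module and every submodule M' of M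
is closed for the topology defined by the filtration, that is ⋂ₙ (M' + Nₙ) = M'. (The published
statement allows any complete filtered ring; this row takes the I-adic filtration on A.) -/
theorem result (A : Type u) [CommRing A]
    (I : Ideal A) [IsPrecomplete I A] (M : Type u) [AddCommGroup M] [Module A M] (F : I.Filtration M)
    (h0 : F.N 0 = ⊤) (hsep : ⨅ n, F.N n = ⊥)
    [IsNoetherian (AssocGr.GrRing (FiltBl.IdealFiltration.adic I)) (AssocGr.GrMod F)] :
    IsNoetherian A M ∧ ∀ M' : Submodule A M, ⨅ n, M' ⊔ F.N n = M' := by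
  classical
  have key : ∀ M' : Submodule A M, (⨅ n, M' ⊔ F.N n ≤ M') ∧ M'.FG := fun M' => by
    obtain ⟨t, htM, ht⟩ := AdicGrLib.closure_le F hsep M' (IsNoetherian.noetherian _)
    have h1 : Submodule.span A (t : Set M) ≤ M' := Submodule.span_le.2 htM
    exact ⟨fun y hy => h1 (ht y (h0 ▸ Submodule.mem_top) (Submodule.mem_iInf _ |>.1 hy)),
      ⟨t, le_antisymm h1 fun y hy => ht y (h0 ▸ Submodule.mem_top) fun n => Submodule.mem_sup_left hy⟩⟩
  exact ⟨⟨fun M' => (key M').2⟩, fun M' => le_antisymm (key M').1 (le_iInf fun n => le_sup_left)⟩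

end Groth.Agent.S16459
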