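import Groth.Statements.S16460
import Mathlib


-- import your own Groth.Agent.* helpers here

set_option autoImplicit false
universe u
open AdicGr

namespace Groth.Agent.S16460

/-- Let A be a commutative ring with a decreasing filtration by ideals A = F₀ ⊇ F₁ ⊇ F₂ ⊇ … satisfying
F_m·F_n ⊆ F_{m+n}, and assume the filtration is separated, ⋂ₙ Fₙ = 0. If the associated graded ring
⊕ₙ Fₙ/Fₙ₊₁ is an integral domain, then A is an integral domain. -/
theorem result (A : Type u) [CommRing A]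
    (𝓕 : FiltBl.IdealFiltration A) (hsep : ⨅ n, 𝓕.F n = ⊥) [IsDomain (AssocGr.GrRing 𝓕)] :
    IsDomain A := by
  haveI : Nontrivial A := by
    by_contra h
    rw [not_nontrivial_iff_subsingleton] at h
    have h1 : (1 : AssocGr.GrRing 𝓕) = 0 := by
      rw [← map_one (algebraMap A (AssocGr.GrRing 𝓕)), Subsingleton.elim (1 : A) 0, map_zero]
    exact one_ne_zero h1
  haveI : NoZeroDivisors A := by
    refine ⟨fun {a b} hab => ?_⟩
    by_contra hc
    push_neg at hc
    have hex : ∀ c : A, c ≠ 0 → ∃ n, ∃ h : c ∈ 𝓕.F n, AssocGr.inDeg 𝓕 n ⟨c, h⟩ ≠ 0 := by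
      intro c hc0
      by_contra h
      push_neg at h
      have hall : ∀ n, c ∈ 𝓕.F n := by
        intro n
        induction n with
        | zero => rw [𝓕.zero_eq]; trivial
        | succ n ih => exact (AssocGr.inDeg_eq_zero_iff 𝓕 n ⟨c, ih⟩).1 (h n ih)
      exact hc0 ((Submodule.mem_bot A).1 (hsep ▸ (Submodule.mem_iInf _).2 hall))
    obtain ⟨m, hm, hm0⟩ := hex a hc.1
    obtain ⟨n, hn, hn0⟩ := hex b hc.2
    have h := AssocGr.coe_inDeg_mul 𝓕 m n ⟨a, hm⟩ ⟨b, hn⟩
    have h2 : AssocGr.inDeg 𝓕 (m + n) ⟨a * b, 𝓕.mul_le m n (Ideal.mul_mem_mul hm hn)⟩ = 0 := by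
      rw [AssocGr.inDeg_eq_zero_iff]
      simp [hab]
    rw [h2, ZeroMemClass.coe_zero] at h
    rcases mul_eq_zero.1 h with h' | h'
    · exact hm0 (Subtype.ext h')
    · exact hn0 (Subtype.ext h')
  exact NoZeroDivisors.to_isDomain A

end Groth.Agent.S16460
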