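import Groth.Statements.S16466
import Groth.Agent.CohCmpLib.StratRep
import Groth.Agent.S9805

set_option autoImplicit false
universe u
open PicF

namespace Groth.Agent.S16466

open CategoryTheory AlgebraicGeometry AlgebraicGeometry.Scheme.Modules in
/-- Suppose f : X → S is a proper, flat morphism between Noetherian schemes, and L is an invertible
O_X-module. Then there is a locally closed subscheme Z of S (an immersion i : Z → S) with the
following universal property: a morphism t : T → S factors through i if and only if, for a cartesian
square X_T = X ×_S T with projections f_T and g_T, the direct image (f_T)_*(g_T^* L) is an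
invertible O_T-module whose formation commutes with every further base change T' → T (the
degree-zero base change morphism is an isomorphism for every cartesian square over T' → T). In
particular Z is unique and (f_Z)_*(L_Z) is invertible of formation compatible with base change.
(Characterising the factorisation by invertibility of the direct image alone is not correct: for a
genus-two curve C over a field, p a point of C and S the spectrum of the local ring of C at the
hyperelliptic conjugate of p, the family C × S → S with L = O(p + q), q the tautological point, has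
direct image free of rank one while the closed fibre has a two-dimensional space of sections, so S →
S does not factor through Z.) -/
theorem result {X S : Scheme.{u}} (f : X ⟶ S) [IsProper f] [Flat f]
    [IsNoetherian S] [IsNoetherian X] (L : X.Modules) (hL : PicF.IsInvertible L) :
    ∃ (Z : Scheme.{u}) (i : Z ⟶ S), IsImmersion i ∧
      ∀ (T : Scheme.{u}) (t : T ⟶ S) (XT : Scheme.{u}) (fT : XT ⟶ T) (gT : XT ⟶ X)
        (hT : IsPullback gT fT f t),
        (∃ z : T ⟶ Z, z ≫ i = t) ↔
          (PicF.IsInvertible ((pushforward fT).obj ((pullback gT).obj L)) ∧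
            ∀ (T' : Scheme.{u}) (u : T' ⟶ T) (XT' : Scheme.{u}) (fT' : XT' ⟶ T') (u' : XT' ⟶ XT)
              (hT' : IsPullback u' fT' fT u),
              IsIso (CohBC.bc0 fT u fT' u' hT'.w ((pullback gT).obj L))) := by
  have hrk : ∀ {Y : Scheme.{u}} (M : Y.Modules), PicF.IsInvertible M ↔ FlatMod.IsFinLocFreeOfRank 1 M := fun {Y} M =>
    forall_congr' fun y => exists_congr fun U => and_congr_right fun _ => by
      have e : FlatMod.freeMod (↑U) 1 ≅ Coh.structureModule (↑U) :=
        Limits.coproductUniqueIso fun _ : Fin 1 => Coh.structureModule (↑U)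
      exact ⟨fun ⟨a⟩ => ⟨a ≪≫ e.symm⟩, fun ⟨a⟩ => ⟨a ≪≫ e⟩⟩
  have hfree : FlatMod.IsFinLocFree L := fun x => by
    obtain ⟨U, hU, h⟩ := (hrk L).1 hL x
    exact ⟨U, 1, hU, h⟩
  have hQ : Coh.IsQCoh L := (LocSuppLib.isCoh_of_isFinLocFree hfree).1
  obtain ⟨hflat, hfp⟩ := (Groth.Agent.S9805.result X L hQ).2 hfree
  have hfl : FlatMod.IsFlatOver f L := fun x => by
    letI : Algebra (S.presheaf.stalk (f.base x)) (X.presheaf.stalk x) := (f.stalkMap x).hom.toAlgebra
    letI := FlatMod.moduleStalkOver f L x
    haveI : IsScalarTower (S.presheaf.stalk (f.base x)) (X.presheaf.stalk x) (L.presheaf.stalk x) :=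
      IsScalarTower.of_algebraMap_smul fun _ _ => rfl
    haveI : Module.Flat (S.presheaf.stalk (f.base x)) (X.presheaf.stalk x) := RingHom.flat_algebraMap_iff.1 (Flat.stalkMap f x)
    haveI : Module.Flat (X.presheaf.stalk x) (L.presheaf.stalk x) := hflat x
    exact Module.Flat.trans _ (X.presheaf.stalk x) _
  haveI : LocallyOfFinitePresentation f := LocallyOfFinitePresentation.iff_locallyOfFiniteType.2 inferInstance
  obtain ⟨Z, ι, h1, -, -, -, h4, -⟩ := CohCmpLib.exists_strat (F := L) 1 hfp hfl
  refine ⟨Z, ι, h1, fun T t XT fT gT hT => (h4 T t XT fT gT hT).trans ?_⟩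
  rw [hrk]
  exact and_congr_right fun _ => ⟨fun h T' u XT' fT' u' hT' => h u' fT' u hT', fun h X'' T' v' f'' u' hp => h T' u' X'' f'' v' hp⟩

end Groth.Agent.S16466
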