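import Groth.Statements.S16483
import Mathlib.AlgebraicGeometry.Morphisms.Affine
import Mathlib.AlgebraicGeometry.Morphisms.ClosedImmersion
-- import your own Groth.Agent.* helpers here

set_option autoImplicit false
set_option maxHeartbeats 2000000
set_option backward.isDefEq.respectTransparency false
open CategoryTheory CategoryTheory.Limits AlgebraicGeometry
universe u
open FrobSch

namespace Groth.Agent.S16483

theorem quasiCompact_frobIter (T : Scheme.{u}) (p : ℕ) [Fact p.Prime] [FrobSch.IsCharP T p] (n : ℕ) :
    QuasiCompact (FrobSch.frobIter T p n) := by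
  induction n with
  | zero => rw [FrobSch.frobIter_zero]; infer_instance
  | succ n ih =>
    have : IsAffineHom (FrobSch.frob T p) := ⟨fun U hU => by simpa using hU⟩
    rw [FrobSch.frobIter_succ]
    infer_instance

theorem frob_commute (T : Scheme.{u}) (p : ℕ) [Fact p.Prime] [FrobSch.IsCharP T p] (n : ℕ) :
    FrobSch.frobIter T p (n + 1) = FrobSch.frobIter T p n ≫ FrobSch.frob T p := by
  rw [FrobSch.frobIter_succ, FrobSch.frob_comp]

theorem ker_le (T : Scheme.{u}) (p : ℕ) [Fact p.Prime] [FrobSch.IsCharP T p] (n : ℕ) :
    (FrobSch.frobIter T p (n + 1)).ker ≤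
      ((FrobSch.frobIter T p n).ker.subschemeι ≫ FrobSch.frob T p).ker := by
  have := quasiCompact_frobIter T p n
  have := quasiCompact_frobIter T p (n + 1)
  have : IsAffineHom (FrobSch.frob T p) := ⟨fun U hU => by simpa using hU⟩
  intro U s hs
  rw [Scheme.Hom.ker_apply, RingHom.mem_ker] at hs ⊢
  have h1 : (FrobSch.frobIter T p n).toImage ≫
      ((FrobSch.frobIter T p n).imageι ≫ FrobSch.frob T p) = FrobSch.frobIter T p (n + 1) := by
    rw [frob_commute, ← Category.assoc, Scheme.Hom.toImage_imageι]
  have h2 := Scheme.Hom.congr_app h1 U.1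
  rw [Scheme.Hom.comp_app] at h2
  have h3 := congrArg (fun φ => φ.hom s) h2
  simp only [CommRingCat.hom_comp, RingHom.comp_apply, hs, map_zero] at h3
  have hinj : Function.Injective ((FrobSch.frobIter T p n).toImage.app
      (((FrobSch.frobIter T p n).imageι ≫ FrobSch.frob T p) ⁻¹ᵁ U.1)).hom :=
    (FrobSch.frobIter T p n).toImage_app_injective U
  exact hinj (h3.trans (map_zero _).symm)


/-- Let p be a prime, k a perfect field of characteristic p, T a k-scheme and X a k-scheme with
Frobenius twist X^(p) = X ×_{Spec k, F} Spec k and relative Frobenius F_{X/k} : X ⟶ X^(p). For m ≥ 0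
write T^(m) for the closed subscheme of T cut out by the sections whose p^m-th power vanishes (the
scheme-theoretic image of the m-fold absolute Frobenius F_T^m), and T_0 for the reduced closed
subscheme of T; the inclusions T_0 ⟶ T^(n+1) and T_0 ⟶ T^(n) over T are the given morphisms i and j.
Then for every k-morphism w : T^(n+1) ⟶ X there is a k-morphism v : T^(n) ⟶ X^(p) whose restriction
to T_0 is F_{X/k} composed with the restriction of w to T_0. (The published statement takes T to be
the special fibre of a flat p-adic formal scheme of finite type over the Witt vectors of k, is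
phrased for categories of such objects, and takes X locally of finite type over k; none of this is
used, so T and X are arbitrary k-schemes here.) -/
theorem result (p : ℕ) [Fact p.Prime]
    (k : Type u) [Field k] [CharP k p] [PerfectField k] (n : ℕ)
    {T X : Scheme.{u}} [FrobSch.IsCharP T p] (t : T ⟶ Spec (CommRingCat.of k))
    (x : X ⟶ Spec (CommRingCat.of k))
    (i : T.nilradical.subscheme ⟶ (FrobSch.frobIter T p (n + 1)).ker.subscheme)
    (hi : i ≫ (FrobSch.frobIter T p (n + 1)).ker.subschemeι = T.nilradical.subschemeι)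
    (j : T.nilradical.subscheme ⟶ (FrobSch.frobIter T p n).ker.subscheme)
    (hj : j ≫ (FrobSch.frobIter T p n).ker.subschemeι = T.nilradical.subschemeι)
    (w : (FrobSch.frobIter T p (n + 1)).ker.subscheme ⟶ X)
    (hw : w ≫ x = (FrobSch.frobIter T p (n + 1)).ker.subschemeι ≫ t) :
    ∃ v : (FrobSch.frobIter T p n).ker.subscheme ⟶ FrobSch.frobTwist x p,
      v ≫ pullback.snd x (FrobSch.frob (Spec (CommRingCat.of k)) p) =
          (FrobSch.frobIter T p n).ker.subschemeι ≫ t ∧
        j ≫ v = i ≫ w ≫ FrobSch.relFrob x p := by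
  haveI : FrobSch.IsCharP X p := FrobSch.IsCharP.of_hom x p
  haveI : FrobSch.IsCharP T.nilradical.subscheme p := FrobSch.IsCharP.of_hom T.nilradical.subschemeι p
  haveI : FrobSch.IsCharP (FrobSch.frobIter T p (n + 1)).ker.subscheme p :=
    FrobSch.IsCharP.of_hom (FrobSch.frobIter T p (n + 1)).ker.subschemeι p
  let F' : (FrobSch.frobIter T p n).ker.subscheme ⟶ (FrobSch.frobIter T p (n + 1)).ker.subscheme :=
    IsClosedImmersion.lift (FrobSch.frobIter T p (n + 1)).ker.subschemeι
      ((FrobSch.frobIter T p n).ker.subschemeι ≫ FrobSch.frob T p)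
      (by rw [Scheme.IdealSheafData.ker_subschemeι]; exact ker_le T p n)
  have hF : F' ≫ (FrobSch.frobIter T p (n + 1)).ker.subschemeι =
      (FrobSch.frobIter T p n).ker.subschemeι ≫ FrobSch.frob T p := IsClosedImmersion.lift_fac _ _ _
  refine ⟨pullback.lift (F' ≫ w) ((FrobSch.frobIter T p n).ker.subschemeι ≫ t) ?_,
    pullback.lift_snd _ _ _, ?_⟩
  · rw [Category.assoc, hw, reassoc_of% hF, FrobSch.frob_comp, Category.assoc]
  · have hji : j ≫ F' = FrobSch.frob T.nilradical.subscheme p ≫ i := by
      rw [← cancel_mono (FrobSch.frobIter T p (n + 1)).ker.subschemeι, Category.assoc, hF,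
        reassoc_of% hj, Category.assoc, hi, FrobSch.frob_comp]
    apply pullback.hom_ext
    · simp only [Category.assoc, pullback.lift_fst, FrobSch.relFrob_fst]
      rw [reassoc_of% hji, ← Category.assoc i w, ← FrobSch.frob_comp]
    · simp only [Category.assoc, pullback.lift_snd, FrobSch.relFrob_snd, hw]
      rw [reassoc_of% hj, reassoc_of% hi]

end Groth.Agent.S16483
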