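import Groth.Statements.S16486
import Groth.Agent.RefHullLib.NormalHull
import Groth.Agent.QCohLib.Extend
import Groth.Agent.FiltSectLib.Stalks

-- import your own Groth.Agent.* helpers here

set_option autoImplicit false
universe u
open CategoryTheory AlgebraicGeometry
open SGA3

namespace Groth.Agent.S16486

open ModGlueLib (rs rs_rs app_rs)

noncomputable section

variable {X : Scheme.{u}}

/-- Sections in the range of a monomorphism. -/
def rangeSub {F A : X.Modules} (ι : F ⟶ A) [Mono ι] : QCohLib.LocSub A where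
  mem V a := ∃ b, ι.app V b = a
  zero V := ⟨0, map_zero _⟩
  add := by rintro V a b ⟨a', rfl⟩ ⟨b', rfl⟩; exact ⟨a' + b', map_add _ _ _⟩
  smul := by rintro V r a ⟨a', rfl⟩; exact ⟨r • a', QCohLib.app_smul ι V r a'⟩
  res := by rintro V W h a ⟨a', rfl⟩; exact ⟨F.presheaf.map (homOfLE h).op a', QCohLib.app_map ι (homOfLE h) a'⟩
  local' := by
    intro V a h
    choose W hWV hpW b hb using fun p : V => h p.1 p.2
    have hinj : ∀ U : X.Opens, Function.Injective (ι.app U) := QCohLib.app_injective_of_mono ι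
    obtain ⟨g, hg⟩ := ModGlueLib.exists_glue (M := F) (V := V) W hWV (fun x hx => ⟨⟨x, hx⟩, hpW ⟨x, hx⟩⟩) b
      fun p q => hinj _ (by rw [app_rs, app_rs, hb, hb]; exact (rs_rs A _ _ a).trans (rs_rs A _ _ a).symm)
    refine ⟨g, RefHullLib.germ_ext A _ _ fun x hx => ?_⟩
    have h1 : rs A (hWV ⟨x, hx⟩) (ι.app V g) = rs A (hWV ⟨x, hx⟩) a := by
      rw [← app_rs, hg, hb]
    have h2 := congrArg (A.presheaf.germ (W ⟨x, hx⟩) x (hpW ⟨x, hx⟩)) h1
    rwa [ZClosLib.germ_rs, ZClosLib.germ_rs] at h2

/-- Finite type submodules of quasi-coherent modules are quasi-coherent. -/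
theorem isQCoh_of_mono {F A : X.Modules} [Coh.IsQCoh A] (ι : F ⟶ A) [Mono ι] (hF : CohB1.IsFT F) :
    Coh.IsQCoh F := by
  let S := rangeSub ι
  have hft : QCohLib.LocSub.FTBelow S ⊤ := by
    intro p _
    obtain ⟨U, hp, n, s, hs⟩ := QCohLib.exists_genOn_of_isFT hF p
    refine ⟨U, le_top, hp, n, fun i => ι.app U (s i), fun i => ⟨s i, rfl⟩, ?_⟩
    rintro W hW _ ⟨b, rfl⟩ q hq _
    obtain ⟨O, hO, hOU, hqO, c, hc⟩ := hs W hW b q hq
    refine ⟨O, hO, hOU, hqO, c, ?_⟩
    rw [← QCohLib.app_map ι (homOfLE hO) b, hc, map_sum]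
    exact Finset.sum_congr rfl fun i _ => by rw [QCohLib.app_smul, QCohLib.app_map]
  rw [QCohLib.isQCoh_iff_localizingAt]
  intro W hW g
  refine ⟨fun z => ?_, fun z hz => ?_⟩
  · obtain ⟨N, t, ht⟩ := (QCohLib.localizingAt_of_isQCoh hW A g).exists_extend (ι.app _ z)
    obtain ⟨k, b, hb⟩ := QCohLib.LocSub.exists_pow_smul_mem S (QCohLib.LocSub.canon_top S) hft hW
      (by rw [inf_top_eq]; exact hW.isCompact) g t (by
        have h1 := S.res (inf_le_left : X.basicOpen g ⊓ ⊤ ≤ X.basicOpen g) (ht ▸ S.smul _ ⟨z, rfl⟩)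
        rw [QCohLib.map_map'] at h1
        exact h1)
    refine ⟨k + N, b, QCohLib.app_injective_of_mono ι _ ?_⟩
    rw [QCohLib.app_map, hb, QCohLib.app_smul, QCohLib.map_smul', ht, map_pow, ← mul_smul, ← pow_add]
  · obtain ⟨N, hN⟩ := (QCohLib.localizingAt_of_isQCoh hW A g).eq_zero (ι.app _ z)
      (by rw [← QCohLib.app_map, hz, map_zero])
    exact ⟨N, QCohLib.app_injective_of_mono ι _ (by rw [QCohLib.app_smul, hN, map_zero])⟩

theorem injective_stalk {F A : X.Modules} (ι : F ⟶ A) [Mono ι] (x : X) :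
    Function.Injective (RefHull.stalkMapₗ ι x) := by
  refine (injective_iff_map_eq_zero _).2 fun v hv => ?_
  obtain ⟨V, hx, s, rfl⟩ := TopCat.Presheaf.exists_germ_eq F.presheaf (x := x) v
  rw [RefHull.stalkMapₗ_germ] at hv
  obtain ⟨W, hW, i, i', e⟩ := A.presheaf.germ_eq x hx hx _ 0 (hv.trans (map_zero _).symm)
  have h0 : F.presheaf.map i.op s = 0 := QCohLib.app_injective_of_mono ι W (by
    rw [QCohLib.app_map, e, map_zero, map_zero])
  rw [← TopCat.Presheaf.germ_res_apply F.presheaf i x hW s, h0, map_zero]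

variable [IsLocallyNoetherian X]

theorem isFlatAt_of_dim_le_one (hX : Pi1.IsNormalScheme X) {F A : X.Modules} (hF : Coh.IsCoh F)
    (ι : F ⟶ A) [Mono ι] (hA : FlatMod.IsFlat A) {x : X} (hx : x ∉ ZClos.dimGe X 2) :
    FlatMod.IsFlatAt F x := by
  haveI := (hX x).1
  haveI := (hX x).2
  haveI := hF.1
  haveI := DepthLib.finite_stalk F hF.2 x
  haveI : Module.Flat (X.presheaf.stalk x) (A.presheaf.stalk x) := hA x
  haveI : Module.IsTorsionFree (X.presheaf.stalk x) (F.presheaf.stalk x) :=
    Function.Injective.moduleIsTorsionFree _ (injective_stalk ι x) fun r v => map_smul _ r v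
  haveI : Ring.KrullDimLE 1 (X.presheaf.stalk x) := Ring.krullDimLE_iff.2 (by
    rcases ZClosLib.dim_eq_zero_or_one hx with h | h <;> rw [h] <;> norm_num)
  haveI : Ring.DimensionLEOne (X.presheaf.stalk x) :=
    ⟨fun hp hpp => Ring.krullDimLE_one_iff_of_noZeroDivisors.1 ‹_› _ hp hpp⟩
  haveI : IsDedekindDomain (X.presheaf.stalk x) := { }
  show Module.Flat (X.presheaf.stalk x) (F.presheaf.stalk x)
  infer_instance

theorem isZClosed_ddual (hX : Pi1.IsNormalScheme X) {F : X.Modules} (hF : Coh.IsCoh F) :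
    ZClos.IsZClosed (ZClos.dimGe X 2) (RefHull.ddual F) := by
  refine RefHullLib.isZClosed_of_depth (ZClosLib.stableUnderSpecialization_dimGe 2)
    (RefHullLib.isCoh_dual (RefHullLib.isCoh_dual hF)) fun x hx => ?_
  haveI := (hX x).1
  haveI := (hX x).2
  have hd := RefHullLib.isCoh_dual hF
  haveI := hd.1
  haveI := DepthLib.finite_stalk (RefHull.dual F) hd.2 x
  haveI := (RefHullLib.isCoh_dual hd).1
  haveI := DepthLib.finite_stalk (RefHull.ddual F) (RefHullLib.isCoh_dual hd).2 x
  obtain ⟨e⟩ := RefHullLib.nonempty_dual_stalk hd x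
  haveI := ReflexLib.isReflexive_dual (A := X.presheaf.stalk x) (M := (RefHull.dual F).presheaf.stalk x)
  haveI : Module.IsReflexive (X.presheaf.stalk x) ((RefHull.ddual F).presheaf.stalk x) := Module.equiv e.symm
  exact RefHullLib.depth_reflexive_normal _ (RefHullLib.mem_dimGe_two.1 hx)

theorem bijective_bidual_of_flat (hX : Pi1.IsNormalScheme X) {F : X.Modules} (hF : Coh.IsCoh F) {x : X}
    (h : FlatMod.IsFlatAt F x) : Function.Bijective (RefHull.stalkMapₗ (RefHull.bidualMap F) x) := by
  haveI := hF.1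
  haveI := DepthLib.finite_stalk F hF.2 x
  haveI : Module.Flat (X.presheaf.stalk x) (F.presheaf.stalk x) := h
  haveI := Module.free_of_flat_of_isLocalRing (R := X.presheaf.stalk x) (P := F.presheaf.stalk x)
  exact (RefHullLib.bijective_stalk_bidual_iff hF x).2
    (inferInstanceAs (Module.IsReflexive (X.presheaf.stalk x) (F.presheaf.stalk x)))

omit [IsLocallyNoetherian X] in
theorem isIso_restrict {V : Scheme.{u}} (j : V ⟶ X) [IsOpenImmersion j] {M N : X.Modules}
    (φ : M ⟶ N) (h : ∀ v : V, Function.Bijective (RefHull.stalkMapₗ φ (j v))) :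
    IsIso ((Scheme.Modules.restrictFunctor j).map φ) := by
  refine FiltSectLib.isIso_of_stalks _ fun v => ?_
  have hfun : ((DerSch.stalkFunctor X (j v)).map φ : _ → _) = RefHull.stalkMapₗ φ (j v) := by
    funext w
    obtain ⟨U, hx, s, rfl⟩ := TopCat.Presheaf.exists_germ_eq M.presheaf (x := j v) w
    exact (DerSch.stalkFunctor_map_germ (j v) φ U hx s).trans (RefHull.stalkMapₗ_germ φ (j v) hx s).symm
  rw [ConcreteCategory.isIso_iff_bijective]
  haveI : IsIso ((Scheme.Modules.toPresheaf X ⋙
      TopCat.Presheaf.stalkFunctor Ab.{u} (j v : X.toTopCat)).map φ) :=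
    (ConcreteCategory.isIso_iff_bijective _).2 (show Function.Bijective ⇑((DerSch.stalkFunctor X (j v)).map φ) by
      rw [hfun]; exact h v)
  haveI hv : IsIso ((Scheme.Modules.restrictFunctor j ⋙ Scheme.Modules.toPresheaf V ⋙
      TopCat.Presheaf.stalkFunctor Ab.{u} (v : V.toTopCat)).map φ) :=
    (NatIso.isIso_map_iff (Scheme.Modules.restrictStalkNatIso j v) φ).2 inferInstance
  exact @ConcreteCategory.bijective_of_isIso _ _ _ _ _ _ _ _
    ((Scheme.Modules.restrictFunctor j ⋙ Scheme.Modules.toPresheaf V ⋙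
      TopCat.Presheaf.stalkFunctor Ab.{u} (v : V.toTopCat)).map φ) hv


/-- Let S be a Noetherian normal scheme, A a flat quasi-coherent O_S-module, F ⊆ A a sub-O_S-module of
finite type, and U ⊆ S the set of points s at which the stalk F_s is a flat O_{S,s}-module (the
flatness locus of F, which is open); write j : U → S for the inclusion of the corresponding open
subscheme. Then the bidual F^** = 𝓗om(𝓗om(F, O_S), O_S) is identified with j_* j^* F: there is an
isomorphism F^** ≅ j_*(F|_U) whose composite with the canonical map F → F^** is the unit F → j_* j^*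
F of the adjunction between restriction to U and direct image (such an isomorphism is unique). The
openness of U is taken as part of the hypothesis that U is an open with this underlying set. -/
theorem result (S : Scheme.{u}) [IsNoetherian S]
    (hS : Pi1.IsNormalScheme S) (A F : S.Modules) (hA : Coh.IsQCoh A) (hAfl : FlatMod.IsFlat A)
    (ι : F ⟶ A) [Mono ι] (hF : CohB1.IsFT F) (U : S.Opens) (hU : (U : Set S) = {s : S | FlatMod.IsFlatAt F s}) :
    ∃ e : RefHull.ddual F ≅ (Scheme.Modules.pushforward U.ι).obj (F.restrict U.ι),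
      RefHull.bidualMap F ≫ e.hom = (Scheme.Modules.restrictAdjunction U.ι).unit.app F := by
  haveI := hA
  have hFc : Coh.IsCoh F := ⟨isQCoh_of_mono ι hF, hF⟩
  haveI : IsIso ((Scheme.Modules.restrictFunctor U.ι).map (RefHull.bidualMap F)) :=
    isIso_restrict U.ι _ fun v => bijective_bidual_of_flat hS hFc
      (show U.ι v ∈ {s : S | FlatMod.IsFlatAt F s} from hU ▸ v.2)
  haveI : IsIso ((Scheme.Modules.restrictAdjunction U.ι).unit.app (RefHull.ddual F)) := by
    refine Scheme.Modules.Hom.isIso_iff_isIso_app.mpr fun W => (ConcreteCategory.isIso_iff_bijective _).mpr ?_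
    rw [Scheme.Modules.restrictAdjunction_unit_app_app]
    refine (RefHullLib.normalSec_iff _).2 (isZClosed_ddual hS hFc) W _ (U.ι.image_preimage_le W) fun x hxW hx => ?_
    have hxU : x ∉ U := fun h => hx ⟨⟨x, h⟩, hxW, rfl⟩
    by_contra hd
    exact hxU (hU.ge (isFlatAt_of_dim_le_one hS hFc ι hAfl fun h => hd (RefHullLib.mem_dimGe_two.1 h)))
  refine ⟨asIso ((Scheme.Modules.restrictAdjunction U.ι).unit.app (RefHull.ddual F)) ≪≫
    (Scheme.Modules.pushforward U.ι).mapIso
      (asIso ((Scheme.Modules.restrictFunctor U.ι).map (RefHull.bidualMap F))).symm, ?_⟩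
  have hn := (Scheme.Modules.restrictAdjunction U.ι).unit.naturality (RefHull.bidualMap F)
  simp only [Functor.id_map, Functor.comp_map] at hn
  simp only [Iso.trans_hom, asIso_hom, Functor.mapIso_hom, Iso.symm_hom, asIso_inv]
  rw [← Category.assoc, hn, Category.assoc, ← Functor.map_comp, IsIso.hom_inv_id]
  exact (congrArg _ (CategoryTheory.Functor.map_id _ _)).trans (Category.comp_id _)


end

end Groth.Agent.S16486
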