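import Groth.Statements.S16490
import Groth.Agent.RefHullLib.Hartogs

set_option autoImplicit false
universe u
open CategoryTheory CategoryTheory.Limits AlgebraicGeometry TopologicalSpace
open VBPn

namespace Groth.Agent.S16490

/-- Let X be an integral locally Noetherian scheme all of whose local rings are regular, and let 0 → F →
E → Q → 0 be a short exact sequence of coherent O_X-modules in which E is reflexive (the canonical
map E → E^** is an isomorphism) and Q is torsion-free (every stalk Q_x is a torsion-free
O_{X,x}-module). Then F is normal: for all open subsets V ⊆ U of X such that every point of U not in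
V has local ring of dimension at least 2, the restriction map F(U) → F(V) is bijective. The
published statement is for coherent analytic sheaves on a complex manifold, a sheaf being called
normal when for every open U and every analytic subset A ⊆ U of codimension at least 2 the
restriction F(U) → F(U ∖ A) is bijective; this row is its statement for coherent sheaves on a
regular integral locally Noetherian scheme, with normality phrased through open subsets V ⊆ U whose
complement in U consists of points with local ring of dimension at least 2, where the same argument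
applies. -/
theorem result (X : Scheme.{u}) [IsIntegral X] [IsLocallyNoetherian X]
    (hreg : ∀ x : X, IsRegularLocalRing (X.presheaf.stalk x)) (S : ShortComplex X.Modules) (hS : S.ShortExact)
    (hF : Coh.IsCoh S.X₁) (hE : Coh.IsCoh S.X₂) (hQ : Coh.IsCoh S.X₃)
    (hErefl : RefHull.IsReflexive S.X₂) (hQtf : TorSh.IsTorsionFree S.X₃) :
    (∀ (U V : X.Opens) (hVU : V ≤ U), (∀ x : X, x ∈ U → x ∉ V → (2 : WithBot ℕ∞) ≤ ringKrullDim (X.presheaf.stalk x)) →
        Function.Bijective (S.X₁.presheaf.map (homOfLE hVU).op)) := by
  have hZ := ZClosLib.stableUnderSpecialization_dimGe (X := X) 2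
  show RefHullLib.NormalSec S.X₁
  rw [RefHullLib.normalSec_iff]
  refine RefHullLib.isZClosed_of_depth hZ hF fun x hx => ?_
  haveI := hreg x
  haveI := hE.1
  haveI := DepthLib.finite_stalk S.X₂ hE.2 x
  haveI := hQtf x
  haveI := hF.1
  haveI := DepthLib.finite_stalk S.X₁ hF.2 x
  haveI : Module.IsReflexive (X.presheaf.stalk x) (S.X₂.presheaf.stalk x) :=
    (RefHullLib.isReflexive_iff hE).1 hErefl x
  have h2 := DepthTwoLib.two_le_iff.1
    (RefHullLib.depth_reflexive (S.X₂.presheaf.stalk x) (RefHullLib.mem_dimGe_two.1 hx))
  have hm : IsLocalRing.maximalIdeal (X.presheaf.stalk x) ≠ ⊥ := fun h => by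
    letI := (IsLocalRing.isField_iff_maximalIdeal_eq.2 h).toField
    have := RefHullLib.mem_dimGe_two.1 hx
    rw [ringKrullDim_eq_zero_of_field] at this
    exact absurd this (by decide)
  have hT := hS.map_of_exact (DerSch.stalkFunctor X x)
  refine DepthTwoLib.two_le_iff.2 (DepthTwoLib.D2.left
    ((DerSch.stalkFunctor X x).map S.f).hom ((DerSch.stalkFunctor X x).map S.g).hom
    ((ModuleCat.mono_iff_injective _).1 hT.mono_f)
    ((CategoryTheory.ShortComplex.ShortExact.moduleCat_exact_iff_function_exact _).1 hT.exact) h2 ?_)
  intro m hm'
  obtain ⟨j, hj, hj0⟩ := Submodule.exists_mem_ne_zero_of_ne_bot hm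
  exact (hQtf x).isSMulRegular (isRegular_of_ne_zero hj0) ((hm' j hj).trans (smul_zero _).symm)

end Groth.Agent.S16490
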