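import Groth.Statements.S16492
import Groth.Agent.DuFunLib.Main
import Groth.Agent.LefFlatLib.Neg

set_option autoImplicit false
set_option backward.isDefEq.respectTransparency false
set_option backward.isDefEq.respectTransparency.types false
set_option maxHeartbeats 1000000
universe u
open CategoryTheory CategoryTheory.Limits AlgebraicGeometry
open VBCurve

namespace Groth.Agent.S16492

/-- Let X be a smooth proper integral curve (integral, smooth and proper of dimension one) over an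
algebraically closed field k, and E a finite locally free O_X-module of rank r. Say that a module M
is finite in the sense of Weil when there are distinct polynomials P ≠ Q with natural-number
coefficients and an isomorphism P(M) ≅ Q(M), where P(M) is the direct sum over i of P_i copies of
the i-th tensor power of M (the 0-th power being O_X). Then E is finite in this sense if and only if
its dual E^* = 𝓗om_{O_X}(E, O_X) is. -/
theorem result (k : Type u) [Field k] [IsAlgClosed k] (X : Scheme.{u}) [X.Over (Spec (CommRingCat.of k))]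
    [IsIntegral X] [IsProper (X ↘ Spec (CommRingCat.of k))] [Smooth (X ↘ Spec (CommRingCat.of k))]
    (hdim : topologicalKrullDim X = 1)
    (r : ℕ) (E : X.Modules) (hE : FlatMod.IsFinLocFreeOfRank r E) :
    (∃ P Q : Polynomial ℕ, P ≠ Q ∧ Nonempty ((∐ fun i : Fin (P.natDegree + 1) => ∐ fun _ : Fin (P.coeff ↑i) => CohB1.tensorPow E ↑i) ≅
        (∐ fun i : Fin (Q.natDegree + 1) => ∐ fun _ : Fin (Q.coeff ↑i) => CohB1.tensorPow E ↑i))) ↔
      (∃ P Q : Polynomial ℕ, P ≠ Q ∧ Nonempty ((∐ fun i : Fin (P.natDegree + 1) => ∐ fun _ : Fin (P.coeff ↑i) => CohB1.tensorPow (RefHull.dual E) ↑i) ≅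
        (∐ fun i : Fin (Q.natDegree + 1) => ∐ fun _ : Fin (Q.coeff ↑i) => CohB1.tensorPow (RefHull.dual E) ↑i))) := by
  haveI : IsLocallyNoetherian X :=
    LocallyOfFiniteType.isLocallyNoetherian (X ↘ Spec (CommRingCat.of k))
  have hE' : FlatMod.IsFinLocFree E := fun x => let ⟨U, hx, hU⟩ := hE x; ⟨U, r, hx, hU⟩
  have key : ∀ A : X.Modules, FlatMod.IsFinLocFree A → ∀ B : X.Modules, (ChernOpLib.du A ≅ B) → ∀ P Q : Polynomial ℕ,
      ((∐ fun i : Fin (P.natDegree + 1) => ∐ fun _ : Fin (P.coeff ↑i) => CohB1.tensorPow A ↑i) ≅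
        (∐ fun i : Fin (Q.natDegree + 1) => ∐ fun _ : Fin (Q.coeff ↑i) => CohB1.tensorPow A ↑i)) →
      Nonempty ((∐ fun i : Fin (P.natDegree + 1) => ∐ fun _ : Fin (P.coeff ↑i) => CohB1.tensorPow B ↑i) ≅
        (∐ fun i : Fin (Q.natDegree + 1) => ∐ fun _ : Fin (Q.coeff ↑i) => CohB1.tensorPow B ↑i)) := by
    intro A hA B b P Q φ
    have one : ∀ R : Polynomial ℕ,
        Nonempty (ChernOpLib.du (∐ fun i : Fin (R.natDegree + 1) => ∐ fun _ : Fin (R.coeff ↑i) => CohB1.tensorPow A ↑i) ≅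
          ∐ fun i : Fin (R.natDegree + 1) => ∐ fun _ : Fin (R.coeff ↑i) => CohB1.tensorPow B ↑i) := fun R => by
      obtain ⟨d⟩ := DuFunLib.nonempty_du_sigma
        (fun i : Fin (R.natDegree + 1) => ∐ fun _ : Fin (R.coeff ↑i) => CohB1.tensorPow A ↑i)
      exact ⟨d ≪≫ Sigma.mapIso fun i => (DuFunLib.nonempty_du_sigma (fun _ : Fin (R.coeff ↑i) => CohB1.tensorPow A ↑i)).some ≪≫
        Sigma.mapIso fun _ => (DuFunLib.nonempty_du_tensorPow hA ↑i).some ≪≫ DuFunLib.tensorPowCongr b _⟩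
    exact ⟨(one P).some.symm ≪≫ LMLib.homModLeftIso φ _ ≪≫ (one Q).some⟩
  have hd : RefHull.dual E ≅ ChernOpLib.du E := LMLib.homShIso E (Coh.structureModule X)
  obtain ⟨bb⟩ := LMLib.exists_bidual hE'
  constructor
  · rintro ⟨P, Q, hne, ⟨φ⟩⟩
    exact ⟨P, Q, hne, key E hE' _ hd.symm P Q φ⟩
  · rintro ⟨P, Q, hne, ⟨φ⟩⟩
    refine ⟨P, Q, hne, key (RefHull.dual E) ?_ E ?_ P Q φ⟩
    · exact PerfLib.isFinLocFree_of_iso hd.symm (LefFlatLib.isFinLocFree_du hE')
    · exact LMLib.homModLeftIso hd _ ≪≫ bb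

end Groth.Agent.S16492
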