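import Groth.Statements.S16493
import Groth.Agent.CurveDualModLib.Bidual
import Groth.Agent.CurveDualModLib.Setup
import Groth.Agent.CurveDualModLib.Hom
import Groth.Agent.CurvLib.RRBasic
import Groth.Agent.RefHullLib.Coherent

set_option autoImplicit false
set_option backward.isDefEq.respectTransparency false
set_option backward.isDefEq.respectTransparency.types false
set_option maxHeartbeats 1000000
set_option linter.style.haveILetI false
set_option backward.isDefEq.respectTransparency false
set_option backward.isDefEq.respectTransparency.types false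
universe u
open CategoryTheory CategoryTheory.Limits AlgebraicGeometry
attribute [local instance] HasDerivedCategory.standard
open TFCurv

namespace Groth.Agent.S16493

/-- Let X be an integral proper curve (integral, proper, of dimension one) over an algebraically closed
field k, ω_X its dualizing module (the cohomology sheaf in degree -1 of f^! O for f : X → Spec k,
assuming the derived direct image Rf_* on D_QCoh and its right adjoint exist, which is how the
prelude presents f^!), and F a coherent torsion-free O_X-module of rank n (its stalk at the generic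
point has dimension n over the function field). Define the degree of a module G of rank n by the
formula deg G = χ(G) − n·χ(O_X), and the arithmetic genus by g = 1 − χ(O_X). Then the ω-dual F* =
𝓗om_{O_X}(F, ω_X) has degree deg F* = n(2g − 2) − deg F. -/
theorem result (k : Type u) [Field k] [IsAlgClosed k] (X : Scheme.{u}) [X.Over (Spec (CommRingCat.of k))]
    [IsIntegral X] [IsProper (X ↘ (Spec (CommRingCat.of k)))] (hdim : topologicalKrullDim X = 1)
    [DCoh.HasRpush (X ↘ (Spec (CommRingCat.of k)))] (h : DCoh.RpushPreservesQCoh (X ↘ (Spec (CommRingCat.of k)))) [DCoh.HasShriek (X ↘ (Spec (CommRingCat.of k))) h]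
    (OY : DCoh.DQCoh (Spec (CommRingCat.of k))) (hOY : Nonempty (OY.obj ≅ DCoh.inD (Spec (CommRingCat.of k)) (Coh.structureModule (Spec (CommRingCat.of k)))))
    (F : X.Modules) (hFc : Coh.IsCoh F) (hFt : TorSh.IsTorsionFree F) (n : ℕ)
    (hn : Module.finrank (X.presheaf.stalk (genericPoint X)) (F.presheaf.stalk (genericPoint X)) = n) :
    Curv2.deg k X (RefHull.homSh F (DCoh.dualizingMod (X ↘ (Spec (CommRingCat.of k))) h OY 1)) n =
      (n : ℤ) * (2 * (1 - Curv2.euler k X (Coh.structureModule X)) - 2) - Curv2.deg k X F n := by
  haveI : IsLocallyNoetherian X := LocallyOfFiniteType.isLocallyNoetherian (X ↘ Spec (CommRingCat.of k))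
  haveI : CompactSpace X := QuasiCompact.compactSpace_of_compactSpace (X ↘ Spec (CommRingCat.of k))
  haveI : QuasiSeparatedSpace X := quasiSeparatedSpace_of_quasiSeparated (X ↘ Spec (CommRingCat.of k))
  obtain ⟨eO⟩ := hOY
  obtain ⟨hω, t, ht⟩ := FieldDualLib.exists_duality (k := k) (CurveDualModLib.isCM_of_reduced hdim.le) 1
    (CurveDualModLib.equidim_integral hdim) hdim h _ (DCoh.shriekAdj (X ↘ Spec (CommRingCat.of k)) h) OY eO
  let ω := DCoh.dualizingMod (X ↘ (Spec (CommRingCat.of k))) h OY 1
  have key : ∀ G : X.Modules, Coh.IsCoh G → Module.finrank k (Coh.HH X G 1) =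
      Module.finrank k (Coh.HH X (RefHull.homSh G ω) 0) := fun G hG => by
    let e₀ : (G ⟶ ω) ≃ₗ[k] (CurveDualModLib.inH G ⟶ CurveDualModLib.inH ω) :=
      LinearEquiv.ofBijective ((DerivedCategory.singleFunctor X.Modules 0).mapLinearMap k)
        ⟨(DerivedCategory.singleFunctor X.Modules 0).map_injective,
          (DerivedCategory.singleFunctor X.Modules 0).map_surjective⟩
    let e₁ := (Linear.homCongr k (Iso.refl (CurveDualModLib.inH G)) (CurveDualModLib.zH ω).symm).trans
      (LinearEquiv.ofBijective _ (ht G hG.1 0 ((1 : ℕ) : ℤ) (zero_add _)))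
    let e₂ := (e₀.trans e₁).trans (FieldDualLib.homEquivHH (k := k) G 1).symm.dualMap
    rw [← CurveDualModLib.finrank_hom_eq G ω k, e₂.finrank_eq, Subspace.dual_finrank_eq]
  have hH := RefHullLib.isCoh_homSh hFc hω
  haveI := CurveDualModLib.isIso_bidual (X ↘ (Spec (CommRingCat.of k))) hdim h _ (DCoh.shriekAdj _ h) OY eO hFc
    (fun x r m hrm => by
      haveI := hFt x
      exact smul_eq_zero.1 hrm)
  have h1 := key F hFc
  have h2 := (key _ hH).trans (CurvLib.hIso (k := k) (asIso (CurveDualModLib.bidualMapG F ω)) 0).finrank_eq.symm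
  rw [Curv2.deg, Curv2.deg, CurvLib.euler_curve hdim (RefHull.homSh F _), CurvLib.euler_curve hdim F, ← h1, h2]
  ring

end Groth.Agent.S16493
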