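import Groth.Statements.S16498
import Mathlib.Data.Nat.Choose.Lucas
import Mathlib.Algebra.CharP.Lemmas
import Mathlib.Algebra.Polynomial.Taylor
import Mathlib.Data.Matrix.Basic
import Mathlib.Algebra.Polynomial.Degree.Lemmas
-- import your own Groth.Agent.* helpers here

set_option autoImplicit false
universe u
open Curves

namespace Groth.Agent.S16498

/-- Let k be a field of odd characteristic p, g ≤ p a natural number, f ∈ k[x] of degree at most 2g + 2,
and α ∈ k. Write f^((p-1)/2) = Σ_l c_l x^l and f(x + α)^((p-1)/2) = Σ_l d_l x^l, and form the g × g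
Cartier–Manin matrices (c_{ip-j}) and (d_{ip-j}), indices i, j = 1, …, g (below written with i, j
ranging over Fin g, so that the entry at (i, j) is the coefficient of x^((i+1)p-(j+1))). Then
(d_{ip-j}) = L · (c_{ip-j}) · U with L_{i,I} = binom(I-1, i-1) α^((I-i)p) and U_{J,j} = binom(p-J,
p-j) α^(j-J); both L and U are unitriangular since a binomial coefficient vanishes when its lower
index exceeds its upper index. (The source works over a perfect field, with f separable of degree 2g
+ 2 and α ∈ k^* a root of f, hypotheses this identity does not use.) -/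
theorem result (k : Type u) [Field k] (p : ℕ) [Fact p.Prime] (hp : p ≠ 2) [CharP k p]
    (g : ℕ) (hg : g ≤ p) (f : Polynomial k) (hf : f.natDegree ≤ 2 * g + 2) (α : k) :
    (Matrix.of fun i j : Fin g =>
        ((f.comp (Polynomial.X + Polynomial.C α)) ^ ((p - 1) / 2)).coeff (((i : ℕ) + 1) * p - ((j : ℕ) + 1))) =
      (Matrix.of fun i I : Fin g => (((I : ℕ).choose (i : ℕ) : ℕ) : k) * α ^ (((I : ℕ) - (i : ℕ)) * p)) *
        (Matrix.of fun i j : Fin g => (f ^ ((p - 1) / 2)).coeff (((i : ℕ) + 1) * p - ((j : ℕ) + 1))) *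
        (Matrix.of fun J j : Fin g => (((p - ((J : ℕ) + 1)).choose (p - ((j : ℕ) + 1)) : ℕ) : k) * α ^ ((j : ℕ) - (J : ℕ))) := by
  classical
  have hpp : p.Prime := Fact.out
  let h := f ^ ((p - 1) / 2)
  have hdeg : h.natDegree ≤ (g + 1) * (p - 1) := by
    refine Polynomial.natDegree_pow_le.trans ?_
    calc (p - 1) / 2 * f.natDegree ≤ (p - 1) / 2 * (2 * g + 2) := Nat.mul_le_mul_left _ hf
      _ = (g + 1) * ((p - 1) / 2 * 2) := by ring
      _ ≤ (g + 1) * (p - 1) := Nat.mul_le_mul_left _ (Nat.div_mul_le_self _ _)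
  have hlt : h.natDegree < (g + 1) * p :=
    lt_of_le_of_lt hdeg (Nat.mul_lt_mul_of_pos_left (Nat.sub_lt hpp.pos one_pos) g.succ_pos)
  ext i j
  simp only [Matrix.of_apply, Matrix.mul_apply, Finset.sum_mul]
  rw [← Polynomial.pow_comp]
  change (h.comp (Polynomial.X + Polynomial.C α)).coeff _ = _
  rw [Polynomial.comp, Polynomial.eval₂_eq_sum_range' Polynomial.C hlt, Polynomial.finset_sum_coeff]
  let T : ℕ → k := fun l => h.coeff l *
    (α ^ (l - (((i : ℕ) + 1) * p - ((j : ℕ) + 1))) * ((l.choose (((i : ℕ) + 1) * p - ((j : ℕ) + 1)) : ℕ) : k))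
  have hT : ∀ l, (Polynomial.C (h.coeff l) * (Polynomial.X + Polynomial.C α) ^ l).coeff
      (((i : ℕ) + 1) * p - ((j : ℕ) + 1)) = T l := fun l => by
    rw [Polynomial.coeff_C_mul, Polynomial.coeff_X_add_C_pow]
  rw [Finset.sum_congr rfl fun l _ => hT l, Finset.sum_comm, ← Finset.sum_product']
  have hj := j.isLt
  have hi := i.isLt
  have hn : ((i : ℕ) + 1) * p - ((j : ℕ) + 1) = (i : ℕ) * p + (p - ((j : ℕ) + 1)) := by
    rw [add_mul, one_mul]; omega
  have hch : ∀ l : ℕ, ((l.choose (((i : ℕ) + 1) * p - ((j : ℕ) + 1)) : ℕ) : k) =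
      (((l % p).choose (p - ((j : ℕ) + 1)) : ℕ) : k) * (((l / p).choose (i : ℕ) : ℕ) : k) := fun l => by
    have hb : p - ((j : ℕ) + 1) < p := by omega
    rw [← Nat.cast_mul, CharP.natCast_eq_natCast k p, hn]
    refine (Choose.choose_modEq_choose_mod_mul_choose_div_nat).trans ?_
    rw [add_comm, Nat.add_mul_div_right _ _ hpp.pos, Nat.div_eq_of_lt hb, zero_add,
      Nat.add_mul_mod_self_right, Nat.mod_eq_of_lt hb]
  let e : Fin g × Fin g → ℕ := fun q => (q.1 : ℕ) * p + (p - ((q.2 : ℕ) + 1))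
  have he : ∀ q : Fin g × Fin g, e q / p = q.1 ∧ e q % p = p - ((q.2 : ℕ) + 1) := fun q => by
    have hb : p - ((q.2 : ℕ) + 1) < p := by omega
    simp only [e]
    rw [add_comm, Nat.add_mul_div_right _ _ hpp.pos, Nat.div_eq_of_lt hb, zero_add,
      Nat.add_mul_mod_self_right, Nat.mod_eq_of_lt hb]
    exact ⟨rfl, rfl⟩
  have hinj : Function.Injective e := fun a b hab => by
    have h1 := he a
    have h2 := he b
    rw [hab] at h1
    have := a.2.isLt
    have := b.2.isLt
    exact Prod.ext (Fin.ext (h1.1.symm.trans h2.1)) (Fin.ext (by omega))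
  rw [← Finset.sum_subset (s₁ := (Finset.univ : Finset (Fin g × Fin g)).image e) (fun l hl => ?_)
    (fun l hl hne => ?_), Finset.sum_image fun a _ b _ hab => hinj hab]
  · refine Finset.sum_congr rfl fun q _ => ?_
    obtain ⟨I, J⟩ := q
    have hJ := J.isLt
    simp only [T]
    rw [hch, (he (I, J)).1, (he (I, J)).2]
    have e1 : ((I : ℕ) + 1) * p - ((J : ℕ) + 1) = (I : ℕ) * p + (p - ((J : ℕ) + 1)) := by
      rw [add_mul, one_mul]; omega
    rw [e1]
    change h.coeff (e (I, J)) * _ = _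
    by_cases h1 : (I : ℕ) < i
    · simp [Nat.choose_eq_zero_of_lt h1]
    by_cases h2 : p - ((J : ℕ) + 1) < p - ((j : ℕ) + 1)
    · simp [Nat.choose_eq_zero_of_lt h2]
    have hsub : e (I, J) - (((i : ℕ) + 1) * p - ((j : ℕ) + 1)) =
        ((I : ℕ) - i) * p + ((j : ℕ) - J) := by
      rw [hn, Nat.sub_mul]
      have := Nat.mul_le_mul_right p (not_lt.mp h1)
      simp only [e]
      omega
    rw [hsub, pow_add]
    ring
  · obtain ⟨q, -, rfl⟩ := Finset.mem_image.mp hl
    rw [Finset.mem_range]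
    have h1 : ((q.1 : ℕ) + 1) * p ≤ (g + 1) * p := Nat.mul_le_mul_right p (by omega)
    have h2 : e q < ((q.1 : ℕ) + 1) * p := by simp only [e, add_mul, one_mul]; omega
    omega
  · by_contra hT0
    apply hne
    have hc : h.coeff l ≠ 0 := fun h0 => hT0 (by simp only [T, h0, zero_mul])
    have hlN : l ≤ (g + 1) * (p - 1) := (Polynomial.le_natDegree_of_ne_zero hc).trans hdeg
    have hb : p - ((j : ℕ) + 1) ≤ l % p := not_lt.mp fun hlt' => hT0 (by
      simp only [T, hch, Nat.choose_eq_zero_of_lt hlt', Nat.cast_zero, zero_mul, mul_zero])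
    have hbp : l % p < p := Nat.mod_lt _ hpp.pos
    have hdiv := Nat.div_add_mod l p
    have ha : l / p < g := by
      by_contra hcon
      have h3 : g * p ≤ p * (l / p) := by rw [mul_comm g]; exact Nat.mul_le_mul_left p (not_lt.mp hcon)
      have h4 : (g + 1) * (p - 1) + (g + 1) = (g + 1) * p := by
        rw [← Nat.mul_succ, Nat.succ_eq_add_one, Nat.sub_add_cancel hpp.pos]
      rw [add_mul g 1 p] at h4
      omega
    refine Finset.mem_image.mpr ⟨(⟨l / p, ha⟩, ⟨p - (l % p + 1), by omega⟩), Finset.mem_univ _, ?_⟩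
    simp only [e]
    rw [mul_comm (l / p)]
    omega

end Groth.Agent.S16498
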