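import Groth.Statements.S16509
import Groth.Agent.RatCurvExtLib.Exc
import Groth.Agent.AbRegExtLib.Projective

set_option autoImplicit false
set_option backward.isDefEq.respectTransparency false
set_option backward.isDefEq.respectTransparency.types false
universe u
open CategoryTheory AlgebraicGeometry
open Curves

namespace Groth.Agent.S16509

/-- Over an algebraically closed field k, let f : Y → X be a birational k-morphism from a projective
variety to a smooth projective variety, and let Exc(f) be its exceptional locus, the set of points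
of Y over no neighbourhood of whose image f restricts to an isomorphism. Then through a general
point of each component of Exc(f) there is a rational curve contracted by f: some subset of Exc(f),
open and dense in it, consists of points each of whose closed points lies on the image of a
nonconstant k-morphism from the projective line that f maps to a single point. (The base field is
taken algebraically closed here.) -/
theorem result
    (k : Type u) [Field k] [IsAlgClosed k]
    (Y : Scheme.{u}) [Y.Over (Spec (CommRingCat.of k))] [IsIntegral Y]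
    (hY : ∃ (n : ℕ) (ι : Y ⟶ CohB1.ProjSpace n k), IsClosedImmersion ι ∧
      ι ≫ CohB1.ProjSpace.toSpec n k = Y ↘ Spec (CommRingCat.of k))
    (X : Scheme.{u}) [X.Over (Spec (CommRingCat.of k))] [IsIntegral X] [Smooth (X ↘ Spec (CommRingCat.of k))]
    (hX : ∃ (n : ℕ) (ι : X ⟶ CohB1.ProjSpace n k), IsClosedImmersion ι ∧
      ι ≫ CohB1.ProjSpace.toSpec n k = X ↘ Spec (CommRingCat.of k))
    (f : Y ⟶ X) (hf : f ≫ (X ↘ Spec (CommRingCat.of k)) = Y ↘ Spec (CommRingCat.of k))
    (hbir : ∃ V : X.Opens, (V : Set X).Nonempty ∧ IsIso (f ∣_ V))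
    (Exc : Set Y) (hExc : Exc = {y : Y | ∀ V : X.Opens, f.base y ∈ V → ¬ IsIso (f ∣_ V)}) :
    ∃ O : Set Y, O ⊆ Exc ∧ IsOpen (Subtype.val ⁻¹' O : Set Exc) ∧ Dense (Subtype.val ⁻¹' O : Set Exc) ∧
      ∀ y ∈ O, IsClosed ({y} : Set Y) → ∃ g : CohB1.ProjSpace 1 k ⟶ Y,
        g ≫ (Y ↘ Spec (CommRingCat.of k)) = CohB1.ProjSpace.toSpec 1 k ∧
        (¬ ∃ z : Y, Set.range g.base ⊆ {z}) ∧ y ∈ Set.range g.base ∧
        ∃ x : X, Set.range (g ≫ f).base ⊆ {x} := by
  subst hExc
  haveI := AbRegExt.isProper_of_closedImmersion (Y ↘ Spec (CommRingCat.of k)) hY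
  haveI := AbRegExt.isProper_of_closedImmersion (X ↘ Spec (CommRingCat.of k)) hX
  obtain ⟨V₀, hV₀, hi⟩ := hbir
  haveI := hi
  refine ⟨{y : Y | ∀ V : X.Opens, f.base y ∈ V → ¬ IsIso (f ∣_ V)}, subset_rfl, ?_, ?_, fun y hy hyc => ?_⟩
  · exact (by convert isOpen_univ using 1; ext z; exact iff_of_true z.2 trivial)
  · convert dense_univ using 1; ext z; exact iff_of_true z.2 trivial
  · obtain ⟨y', hy'c, hy'f, hne⟩ : ∃ y', IsClosed ({y'} : Set Y) ∧ f y' = f y ∧ y' ≠ y := by
      by_contra hcon
      push Not at hcon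
      obtain ⟨V, hV, hVi⟩ := RatCurvExt.exists_isIso_of_unique (X ↘ Spec (CommRingCat.of k))
        (Y ↘ Spec (CommRingCat.of k)) f hf V₀ hV₀ y hyc hcon
      exact hy V hV hVi
    obtain ⟨ψ, hψ, hnc, hmem, hconst⟩ := RatCurvExt.exists_line_through (X ↘ Spec (CommRingCat.of k))
      (Y ↘ Spec (CommRingCat.of k)) f hf V₀ hV₀ y y' hyc hy'c hne.symm hy'f.symm
    refine ⟨ψ, hψ, hnc, hmem, f y, ?_⟩
    rintro _ ⟨z, rfl⟩
    exact hconst z

end Groth.Agent.S16509
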