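import Groth.Statements.S16515
import Mathlib


-- import your own Groth.Agent.* helpers here

set_option autoImplicit false
universe u
open RatCurv

namespace Groth.Agent.S16515

/-- If C ⊂ P^n is a rational normal curve and P ⊂ P^n a linear r-plane with (r + 2) k ≥ (r + 1)(n + 1),
then P is contained in a k-secant (k − 1)-plane of C, i.e. in the span of some effective divisor of
degree k on C. Stated through the identification of the linear forms on P^n with the binary forms of
degree n on C ≅ P^1: the r-plane P is recorded by the space U of degree-n binary forms vanishing on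
it (of codimension r + 1), an effective divisor of degree k on C by a nonzero binary form g of
degree k, and P ⊂ span(div g) says that every degree-n form divisible by g lies in U. Here k ≤ n,
and the ground field is arbitrary (the source works over the complex numbers). -/
theorem result (K : Type u) [Field K] (n r k : ℕ)
    (hkn : k ≤ n) (hineq : (r + 1) * (n + 1) ≤ (r + 2) * k)
    (U : Submodule K (MvPolynomial (Fin 2) K))
    (hU : U ≤ MvPolynomial.homogeneousSubmodule (Fin 2) K n)
    (hcodim : Module.finrank K ↥U + (r + 1) = n + 1) :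
    ∃ g ∈ MvPolynomial.homogeneousSubmodule (Fin 2) K k, g ≠ 0 ∧
      ∀ h ∈ MvPolynomial.homogeneousSubmodule (Fin 2) K (n - k), g * h ∈ U := by
  classical
  let V : ℕ → Submodule K (MvPolynomial (Fin 2) K) := MvPolynomial.homogeneousSubmodule (Fin 2) K
  have hdim : ∀ d : ℕ, Module.Finite K (V d) ∧ Module.finrank K (V d) = d + 1 := by
    intro d
    let S : Set (Fin 2 →₀ ℕ) := {s | s.degree = d}
    have hS : V d = MvPolynomial.restrictSupport K S := by
      show MvPolynomial.homogeneousSubmodule (Fin 2) K d = _
      rw [MvPolynomial.homogeneousSubmodule_eq_finsupp_supported]; rfl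
    let e : S ≃ Fin (d + 1) :=
      { toFun := fun s => ⟨s.1 0, by have := s.2; simp [S, Finsupp.degree_eq_sum, Fin.sum_univ_two] at this; omega⟩
        invFun := fun i => ⟨Finsupp.single 0 (i : ℕ) + Finsupp.single 1 (d - i), by
          have := i.2; simp [S, Finsupp.degree_eq_sum, Fin.sum_univ_two]; omega⟩
        left_inv := fun s => by
          apply Subtype.ext; ext j
          have := s.2; simp [S, Finsupp.degree_eq_sum, Fin.sum_univ_two] at this
          fin_cases j <;> simp <;> omega
        right_inv := fun i => by ext; simp }
    rw [hS]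
    let b := (MvPolynomial.basisRestrictSupport K S).reindex e
    exact ⟨Module.Finite.of_basis b, by rw [Module.finrank_eq_card_basis b, Fintype.card_fin]⟩
  obtain ⟨hfk, hk⟩ := hdim k
  obtain ⟨hfnk, hnk⟩ := hdim (n - k)
  obtain ⟨hfn, hn⟩ := hdim n
  haveI := hfk; haveI := hfnk; haveI := hfn
  haveI : Module.Finite K U := Submodule.finiteDimensional_of_le hU
  let U' : Submodule K (V n) := U.comap (V n).subtype
  have hU' : Module.finrank K U' = Module.finrank K U := (Submodule.comapSubtypeEquivOfLe hU).finrank_eq
  let mult : V k →ₗ[K] (V (n - k) →ₗ[K] ((V n) ⧸ U')) :=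
    LinearMap.mk₂ K (fun g h => U'.mkQ ⟨g.1 * h.1, by
        have := MvPolynomial.IsHomogeneous.mul g.2 h.2
        rwa [show k + (n - k) = n by omega] at this⟩)
      (fun a b h => by rw [← map_add]; congr 1; ext1; simp [add_mul])
      (fun c a h => by rw [← map_smul]; congr 1; ext1; simp [smul_mul_assoc])
      (fun g a b => by rw [← map_add]; congr 1; ext1; simp [mul_add])
      (fun c g a => by rw [← map_smul]; congr 1; ext1; simp [mul_smul_comm])
  have hlt : Module.finrank K (V (n - k) →ₗ[K] ((V n) ⧸ U')) < Module.finrank K (V k) := by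
    rw [Module.finrank_linearMap, hnk, hk]
    have h := Submodule.finrank_quotient_add_finrank U'
    rw [hU', hn] at h
    have hq : Module.finrank K ((V n) ⧸ U') = r + 1 := by omega
    rw [hq]
    have hnk' : n + 1 = k + (n - k + 1) := by omega
    rw [hnk'] at hineq
    nlinarith
  obtain ⟨g, hg, hg0⟩ : ∃ g, mult g = 0 ∧ g ≠ 0 := by
    by_contra hcon
    push Not at hcon
    exact absurd (LinearMap.finrank_le_finrank_of_injective ((injective_iff_map_eq_zero mult).mpr fun g hg => hcon g hg)) (by omega)
  refine ⟨g.1, g.2, fun h0 => hg0 (Subtype.ext h0), fun h hh => ?_⟩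
  have hh' : g.1 * h ∈ V n := by
    have := MvPolynomial.IsHomogeneous.mul g.2 hh
    rwa [show k + (n - k) = n by omega] at this
  have h' : Submodule.Quotient.mk (p := U') (⟨g.1 * h, hh'⟩ : V n) = 0 := LinearMap.congr_fun hg ⟨h, hh⟩
  exact (Submodule.Quotient.mk_eq_zero U').mp h'

end Groth.Agent.S16515
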