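import Groth.Statements.S16517
import Groth.Agent.GorLib.MCM
import Groth.Agent.S0390

set_option autoImplicit false
universe u
open CAlg

namespace Groth.Agent.S16517

/-- Let R be a regular local ring, A a Gorenstein local ring which is a flat R-algebra through a local
homomorphism, I ⊂ A an ideal of codimension zero (the Krull dimension of A/I equals that of A) with
A/I Cohen–Macaulay, and J = (0 : I) the annihilator of I in A (the ideal of the residual subscheme).
Then A/I and A/J are flat over R. -/
theorem result (R A : Type u)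
    [CommRing R] [IsRegularLocalRing R] [CommRing A] [Algebra R A] [LocCoh.IsGorensteinLocalRing A]
    [IsLocalHom (algebraMap R A)] [Module.Flat R A] (I : Ideal A)
    (hI : ringKrullDim (A ⧸ I) = ringKrullDim A) [LocCoh.IsCohenMacaulayLocalRing (A ⧸ I)] :
    Module.Flat R (A ⧸ I) ∧ Module.Flat R (A ⧸ (Submodule.annihilator I)) := by
  obtain ⟨d, hd⟩ := CommAlgDim.exists_ringKrullDim_eq (R := A)
  have hM := GorLib.hasSeqIn_of_cm I (hI.trans hd)
  obtain ⟨rs, -, hrev, hm⟩ := GorLib.exists_regular_generators R
  obtain ⟨hreg, hmem⟩ := GorLib.isWeaklyRegular_map_of_flat (A := A) hrev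
  obtain ⟨hregI, -, hint⟩ := GorLib.mcm_colon _ A d hd I hM _ rfl hreg hmem
  refine ⟨Groth.Agent.S0390.result (S := A) ?_, Groth.Agent.S0390.result (S := A) ?_⟩
  · rw [← hm]
    exact GorLib.rTensor_injective_ofList rs
      ((RingTheory.Sequence.isWeaklyRegular_map_algebraMap_iff A (A ⧸ I) rs.reverse).1 hregI)
  · refine GorLib.rTensor_injective_quotient _ _ ?_
    have h : (IsLocalRing.maximalIdeal R).map (algebraMap R A) = Ideal.ofList (rs.reverse.map (algebraMap R A)) := by
      rw [← Ideal.map_ofList, ← hm]
      congr 1
      unfold Ideal.ofList; congr 1; ext; simp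
    rw [h]
    exact hint

end Groth.Agent.S16517
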