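import Groth.Statements.S16519
import Mathlib


-- import your own Groth.Agent.* helpers here

set_option autoImplicit false
open CubicSurf

namespace Groth.Agent.S16519

/-- On a smooth cubic surface there are exactly 72 divisor classes L with L² = 1 and L · K = −3. Stated
in the lattice ℤ^{1,6} with basis l, e_1, …, e_6 (l² = 1, e_i² = −1, K = −3l + Σ e_i): the integer
vectors (a, b) ∈ ℤ × ℤ^6, standing for a·l − Σ b_i e_i, with 3a − Σ b_i = 3 and a² − Σ b_i² = 1 form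
a set of exactly 72 elements. -/
theorem result :
    {p : ℤ × (Fin 6 → ℤ) | 3 * p.1 - (Finset.univ.sum fun i => p.2 i) = 3 ∧
        p.1 ^ 2 - (Finset.univ.sum fun i => p.2 i ^ 2) = 1}.ncard = 72 := by
  classical
  let S : Finset (Fin 5 × Fin 4 × Fin 4 × Fin 4 × Fin 4 × Fin 4 × Fin 4) := Finset.univ.filter
    fun ⟨a, b0, b1, b2, b3, b4, b5⟩ =>
      3 * ((a : ℕ) + 1) = 3 + ((b0 : ℕ) + b1 + b2 + b3 + b4 + b5) ∧
      ((a : ℕ) + 1) * ((a : ℕ) + 1) = 1 + ((b0 : ℕ) * b0 + (b1 : ℕ) * b1 + (b2 : ℕ) * b2 + (b3 : ℕ) * b3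
        + (b4 : ℕ) * b4 + (b5 : ℕ) * b5)
  let φ : Fin 5 × Fin 4 × Fin 4 × Fin 4 × Fin 4 × Fin 4 × Fin 4 → ℤ × (Fin 6 → ℤ) :=
    fun ⟨a, b0, b1, b2, b3, b4, b5⟩ => (((a : ℕ) : ℤ) + 1, fun i =>
      ((![(b0 : ℕ), b1, b2, b3, b4, b5] i : ℕ) : ℤ))
  have hφ : Function.Injective φ := by
    rintro ⟨a, b0, b1, b2, b3, b4, b5⟩ ⟨a', c0, c1, c2, c3, c4, c5⟩ h
    simp only [φ, Prod.mk.injEq] at h
    obtain ⟨h, hb⟩ := h
    have e0 := congrFun hb 0; have e1 := congrFun hb 1; have e2 := congrFun hb 2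
    have e3 := congrFun hb 3; have e4 := congrFun hb 4; have e5 := congrFun hb 5
    simp at e0 e1 e2 e3 e4 e5
    simp only [Prod.mk.injEq]
    exact ⟨Fin.ext (by omega), Fin.ext (by omega), Fin.ext (by omega), Fin.ext (by omega),
      Fin.ext (by omega), Fin.ext (by omega), Fin.ext (by omega)⟩
  have hset : {p : ℤ × (Fin 6 → ℤ) | 3 * p.1 - (Finset.univ.sum fun i => p.2 i) = 3 ∧
      p.1 ^ 2 - (Finset.univ.sum fun i => p.2 i ^ 2) = 1} = φ '' (S : Set _) := by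
    ext ⟨a, b⟩
    constructor
    · rintro ⟨h1, h2⟩
      simp only [Fin.sum_univ_six] at h1 h2
      have hcs : ∀ x y₁ y₂ y₃ y₄ y₅ : ℤ, (y₁ + y₂ + y₃ + y₄ + y₅) ^ 2 ≤
          5 * (y₁ ^ 2 + y₂ ^ 2 + y₃ ^ 2 + y₄ ^ 2 + y₅ ^ 2) ∧ (x + y₁ + y₂ + y₃ + y₄ + y₅) ^ 2 ≤
          6 * (x ^ 2 + y₁ ^ 2 + y₂ ^ 2 + y₃ ^ 2 + y₄ ^ 2 + y₅ ^ 2) := by
        intro x y₁ y₂ y₃ y₄ y₅
        constructor
        · linarith [sq_nonneg (y₁ - y₂), sq_nonneg (y₁ - y₃), sq_nonneg (y₁ - y₄), sq_nonneg (y₁ - y₅),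
            sq_nonneg (y₂ - y₃), sq_nonneg (y₂ - y₄), sq_nonneg (y₂ - y₅), sq_nonneg (y₃ - y₄),
            sq_nonneg (y₃ - y₅), sq_nonneg (y₄ - y₅)]
        · linarith [sq_nonneg (x - y₁), sq_nonneg (x - y₂), sq_nonneg (x - y₃), sq_nonneg (x - y₄),
            sq_nonneg (x - y₅), sq_nonneg (y₁ - y₂), sq_nonneg (y₁ - y₃), sq_nonneg (y₁ - y₄),
            sq_nonneg (y₁ - y₅), sq_nonneg (y₂ - y₃), sq_nonneg (y₂ - y₄), sq_nonneg (y₂ - y₅),
            sq_nonneg (y₃ - y₄), sq_nonneg (y₃ - y₅), sq_nonneg (y₄ - y₅)]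
      have ha : 1 ≤ a ∧ a ≤ 5 := by
        have hh := (hcs (b 0) (b 1) (b 2) (b 3) (b 4) (b 5)).2
        rw [show b 0 + b 1 + b 2 + b 3 + b 4 + b 5 = 3 * a - 3 by linarith,
          show b 0 ^ 2 + b 1 ^ 2 + b 2 ^ 2 + b 3 ^ 2 + b 4 ^ 2 + b 5 ^ 2 = a ^ 2 - 1 by linarith] at hh
        constructor <;> nlinarith
      have hb : ∀ x y₁ y₂ y₃ y₄ y₅ : ℤ, 3 * a - (x + y₁ + y₂ + y₃ + y₄ + y₅) = 3 →
          a ^ 2 - (x ^ 2 + y₁ ^ 2 + y₂ ^ 2 + y₃ ^ 2 + y₄ ^ 2 + y₅ ^ 2) = 1 → 0 ≤ x ∧ x < 4 := by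
        intro x y₁ y₂ y₃ y₄ y₅ e1 e2
        have hh := (hcs x y₁ y₂ y₃ y₄ y₅).1
        rw [show y₁ + y₂ + y₃ + y₄ + y₅ = 3 * a - 3 - x by linarith,
          show y₁ ^ 2 + y₂ ^ 2 + y₃ ^ 2 + y₄ ^ 2 + y₅ ^ 2 = a ^ 2 - 1 - x ^ 2 by linarith] at hh
        obtain ⟨a1, a5⟩ := ha
        interval_cases a <;> constructor <;> nlinarith
      have hB : ∀ i, 0 ≤ b i ∧ b i < 4 := by
        intro i
        fin_cases i
        · exact hb (b 0) (b 1) (b 2) (b 3) (b 4) (b 5) h1 h2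
        · exact hb (b 1) (b 0) (b 2) (b 3) (b 4) (b 5) (by linarith) (by linarith)
        · exact hb (b 2) (b 0) (b 1) (b 3) (b 4) (b 5) (by linarith) (by linarith)
        · exact hb (b 3) (b 0) (b 1) (b 2) (b 4) (b 5) (by linarith) (by linarith)
        · exact hb (b 4) (b 0) (b 1) (b 2) (b 3) (b 5) (by linarith) (by linarith)
        · exact hb (b 5) (b 0) (b 1) (b 2) (b 3) (b 4) (by linarith) (by linarith)
      have hn : ∀ i, (b i).toNat < 4 := fun i => by have := hB i; omega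
      refine ⟨(⟨(a - 1).toNat, by omega⟩, ⟨_, hn 0⟩, ⟨_, hn 1⟩, ⟨_, hn 2⟩, ⟨_, hn 3⟩, ⟨_, hn 4⟩, ⟨_, hn 5⟩),
        ?_, ?_⟩
      · simp only [S, Finset.coe_filter, Finset.mem_univ, true_and, Set.mem_setOf_eq]
        have hc : ∀ i, (((b i).toNat : ℕ) : ℤ) = b i := fun i => Int.toNat_of_nonneg (hB i).1
        have hca : (((a - 1).toNat + 1 : ℕ) : ℤ) = a := by omega
        constructor
        · have : ((3 * ((a - 1).toNat + 1) : ℕ) : ℤ) = ((3 + ((b 0).toNat + (b 1).toNat + (b 2).toNat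
              + (b 3).toNat + (b 4).toNat + (b 5).toNat) : ℕ) : ℤ) := by
            rw [Nat.cast_mul, hca]; push_cast [hc]; linarith
          exact_mod_cast this
        · have : ((((a - 1).toNat + 1) * ((a - 1).toNat + 1) : ℕ) : ℤ) = ((1 + ((b 0).toNat * (b 0).toNat + (b 1).toNat * (b 1).toNat
              + (b 2).toNat * (b 2).toNat + (b 3).toNat * (b 3).toNat + (b 4).toNat * (b 4).toNat + (b 5).toNat * (b 5).toNat) : ℕ) : ℤ) := by
            rw [Nat.cast_mul, hca]; push_cast [hc]; linarith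
          exact_mod_cast this
      · simp only [φ, Prod.mk.injEq]
        refine ⟨by omega, funext fun i => ?_⟩
        fin_cases i <;> exact Int.toNat_of_nonneg (hB _).1
    · rintro ⟨⟨c, d0, d1, d2, d3, d4, d5⟩, hcd, hφq⟩
      simp only [S, Finset.coe_filter, Finset.mem_univ, true_and, Set.mem_setOf_eq] at hcd
      simp only [φ, Prod.mk.injEq] at hφq
      obtain ⟨rfl, rfl⟩ := hφq
      simp only [Set.mem_setOf_eq, Fin.sum_univ_six]
      simp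
      obtain ⟨e1, e2⟩ := hcd
      zify at e1 e2
      constructor <;> linarith
  rw [hset, Set.ncard_image_of_injective _ hφ, Set.ncard_coe_finset]
  decide +kernel

end Groth.Agent.S16519
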