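import Groth.Statements.S1652
import Groth.Agent.SerreVanLib.CurveAmple

set_option autoImplicit false
universe u
open CategoryTheory CategoryTheory.Limits AlgebraicGeometry
open Variety

namespace Groth.Agent.S1652

/-- On a proper curve over a field, if L and M are invertible modules with L ⊗ M ≅ O_X and both L and M
have a nonzero global section, then L is isomorphic to the structure sheaf. -/
theorem result (k : Type u) [Field k] (X : Scheme.{u}) [X.Over (Spec (CommRingCat.of k))]
    [IsIntegral X] [IsProper (X ↘ (Spec (CommRingCat.of k)))] (hdim : topologicalKrullDim X = 1)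
    (L M : X.Modules) (hL : PicF.IsInvertible L) (hM : PicF.IsInvertible M) (hLM : ClSub.IsInverseOf L M)
    (s : Coh.structureModule X ⟶ L) (hs : s ≠ 0) (t : Coh.structureModule X ⟶ M) (ht : t ≠ 0) :
    Nonempty (L ≅ Coh.structureModule X) := by
  have rM : CurvLib.genRank M = 1 := by
    obtain ⟨U, e, hU, he⟩ := TwistLib.exists_genOn hM (genericPoint X)
    have h := (LinearEquiv.ofBijective (LinearMap.toSpanSingleton (X.presheaf.stalk (genericPoint X))
      (M.presheaf.stalk (genericPoint X)) (M.presheaf.germ U _ hU e)) (he.genAt hU)).finrank_eq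
    rw [CurvLib.genRank, ← h, Module.finrank_self]
  have e1 : Curv2.euler k X (CohB1.tensorMod L M) =
      (CurvLib.genRank M : ℤ) * Curv2.deg k X L 1 + (1 : ℕ) * Curv2.euler k X M :=
    (CurvLib.eulerTensorFormula_of_isCoh (k := k) hdim (CurvLib.locFree_of_isInvertible hL) M
      (CurvLib.isCoh_of_isInvertible hM)).2
  obtain ⟨φ⟩ := hLM
  rw [CurvLib.euler_congr (k := k) φ, rM, Curv2.deg] at e1
  have hMt := CurvLib.euler_le (k := k) CurvLib.isInvertible_structureModule hM hdim ht
  haveI : IsIso s := CurvLib.isIso_of_euler_le (k := k) CurvLib.isInvertible_structureModule hL hdim hs (by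
    push_cast at e1
    linarith)
  exact ⟨(asIso s).symm⟩

end Groth.Agent.S1652
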