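import Groth.Statements.S16520
import Groth.Agent.S7797
import Groth.Agent.S0028
import Groth.Agent.DblTrLib.Trace
import Groth.Agent.HypSqLib.Curve
import Groth.Agent.PnCohLib.K0
import Groth.Agent.PushLinLib.HH
import Groth.Agent.ProjFormLib.Proj
import Groth.Agent.CohBCLib.Cons
import Groth.Agent.KiehlLib.PushFree
import Groth.Agent.KRRRegLib.Push
import Groth.Agent.KFlatLib.PerfectPull
import Groth.Agent.BlowPtLib.Seq
import Groth.Agent.CurveVBLib.Integral
import Groth.Agent.VertChiLib.Field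

set_option autoImplicit false
set_option backward.isDefEq.respectTransparency false
set_option backward.isDefEq.respectTransparency.types false
set_option maxHeartbeats 1000000

universe u
open CategoryTheory CategoryTheory.Limits AlgebraicGeometry
open Curves

namespace Groth.Agent.S16520

open VBP1Lib HilbPolyLib
open KFlatLib (pb)

noncomputable section Aux

variable {k : Type u} [Field k] {E : Scheme.{u}} (π : E ⟶ CohB1.ProjSpace 1 k) [IsFinite π] [Flat π]

local notation "P" => CohB1.ProjSpace 1 k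
local notation "O'" => Twist.twistProjSpace 1 k

/-- Direct images of line bundles along a finite flat map to the line are bundles. -/
theorem vb_push_inv [IsLocallyNoetherian E] {M : E.Modules} (hM : PicF.IsInvertible M) :
    FlatMod.IsFinLocFree ((Coh.push π).obj M) := by
  have hc := CurvLib.isCoh_of_isInvertible hM
  haveI := hc.1
  have hF : FlatMod.IsFinLocFree M := AmpleDevLib.isFinLocFree_of_isInvertible hM
  haveI : IsLocallyNoetherian P := CurvLib.isNoetherian k (X := CohB1.ProjSpace 1 k) |>.toIsLocallyNoetherian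
  haveI : LocallyOfFinitePresentation π := inferInstance
  refine KiehlLib.isFinLocFree_push π M (MiscFlat6.isFlat_and_isFP_iff.2 hF).2 (KRRRegLib.isFlatOver_of_vb π hF) ?_
    fun i hi => ?_
  · refine ⟨QCohLib.isClosed_support M hc.2, ?_⟩
    infer_instance
  · obtain ⟨e⟩ := RpushLib.nonempty_toAb_rpush_iso π M i
    exact RpushLib.isZero_of_isZero_toAb ((Groth.Agent.S0028.result π M i hi).of_iso e)

/-- The projection formula for twists. -/
theorem nonempty_push_twist (M : E.Modules) (m : ℤ) :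
    Nonempty (CohB1.tensorMod (O' m) ((Coh.push π).obj M) ≅ (Coh.push π).obj (CohB1.tensorMod (pb π (O' m)) M)) := by
  obtain ⟨e⟩ := _root_.ProjFormLib.nonempty_projection_formula π (O' m)
    (AmpleDevLib.isFinLocFree_of_isInvertible (twist_inv k m)) M 0
  exact ⟨(congrRight _ (CohBCLib.rpushZero π M)).symm ≪≫ e ≪≫ CohBCLib.rpushZero π _⟩

variable [E.Over (Spec (CommRingCat.of k))] [IsProper (E ↘ Spec (CommRingCat.of k))]
  [IsIntegral E] (hE : topologicalKrullDim E = 1)
  (hπ : π ≫ CohB1.ProjSpace.toSpec 1 k = E ↘ Spec (CommRingCat.of k))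

include hπ in
/-- Euler characteristics of twisted line bundles on the double cover. -/
theorem euler_twist {M : E.Modules} (hM : PicF.IsInvertible M) (m : ℤ) :
    Curv2.euler k E (CohB1.tensorMod (pb π (O' m)) M) =
      (CurvLib.genRank ((Coh.push π).obj M) : ℤ) * m + Curv2.euler k E M := by
  haveI := CurvLib.isNoetherian k (X := E)
  haveI := CurvLib.isNoetherian k (X := CohB1.ProjSpace 1 k)
  haveI := (CurvLib.isCoh_of_isInvertible hM).1
  haveI := (CurvLib.isCoh_of_isInvertible (isInvertible_tensor (AmpleDevLib.isInvertible_pb π (twist_inv k m)) hM)).1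
  obtain ⟨e⟩ := nonempty_push_twist π M m
  have h := (CurvLib.eulerTensorFormula_of_isCoh (k := k) (dim_line k)
    (CurvLib.locFree_of_isInvertible (twist_inv k m)) _
    (LocSuppLib.isCoh_of_isFinLocFree (vb_push_inv π hM))).2
  rw [deg_twist, Nat.cast_one, one_mul] at h
  rw [(PushLinLib.euler_push k π hπ _).2, (PushLinLib.euler_push k π hπ M).2,
    ← CurvLib.euler_congr (k := k) e]
  exact h

include hπ in
theorem h0_twist {M : E.Modules} (hM : PicF.IsInvertible M) (m : ℤ) :
    Module.finrank k (Coh.HH E (CohB1.tensorMod (pb π (O' m)) M) 0) =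
      Module.finrank k (Coh.HH P (CohB1.tensorMod (O' m) ((Coh.push π).obj M)) 0) := by
  haveI := (CurvLib.isCoh_of_isInvertible (isInvertible_tensor (AmpleDevLib.isInvertible_pb π (twist_inv k m)) hM)).1
  obtain ⟨e⟩ := nonempty_push_twist π M m
  rw [(PushLinLib.euler_push k π hπ _).1 0]
  exact ((CurvLib.hIso (k := k) e 0).finrank_eq).symm

/-- The Euler characteristic of two twists. -/
theorem euler_pair (a : Fin 2 → ℤ) : Curv2.euler k P (∐ fun i => O' (a i)) = a 0 + a 1 + 2 := by
  haveI := CurvLib.isNoetherian k (X := CohB1.ProjSpace 1 k)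
  have hc : ∀ d, Coh.IsCoh (O' d) := fun d => CurvLib.isCoh_of_isInvertible (twist_inv k d)
  have he : ∀ d, Curv2.euler k P (O' d) = d + 1 := fun d => by
    have h := deg_twist k d
    rw [Curv2.deg, PnCohLib.euler_structure] at h
    push_cast at h
    omega
  let e : (∐ fun i : Fin 1 => O' (a i.succ)) ≅ O' (a 1) :=
    { hom := Sigma.desc fun i => eqToHom (by rw [Subsingleton.elim i 0]; rfl)
      inv := Sigma.ι (fun i : Fin 1 => O' (a i.succ)) 0
      hom_inv_id := Sigma.hom_ext _ _ fun i => by fin_cases i; simp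
      inv_hom_id := by simp }
  have hS := (coprodSeqSplitting fun i => O' (a i)).shortExact
  have h1 : Coh.IsCoh (coprodSeq fun i => O' (a i)).X₁ := hc _
  have h3 : Coh.IsCoh (coprodSeq fun i => O' (a i)).X₃ := QCohLib.isCoh_of_iso e.symm (hc _)
  have h2 : Coh.IsCoh (∐ fun i => O' (a i)) :=
    QCohLib.isCoh_of_iso (coprodSeqSplitting fun i => O' (a i)).isoBinaryBiproduct.symm (DevissLib.isCoh_biprod h1 h3)
  refine (CurvLib.euler_add_of_isCoh (k := k) hS h1 h2 h3).trans ?_
  rw [show Curv2.euler k P (coprodSeq fun i => O' (a i)).X₃ = _ from CurvLib.euler_congr (k := k) e,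
    show Curv2.euler k P (coprodSeq fun i => O' (a i)).X₁ = _ from he (a 0), he]
  ring

variable [Smooth (E ↘ Spec (CommRingCat.of k))] [ConnectedSpace E] [IsAlgClosed k]
  (hg : Curv2.genus k E = 1) (hrk : ∀ y : ↥(CohB1.ProjSpace 1 k), Scheme.Hom.finrank π y = 2)

include hπ hE hg hrk in
/-- The splitting and the numerical data. -/
theorem exists_data {L : E.Modules} (hL : PicF.IsInvertible L) {d : ℤ} (hd : Curv2.deg k E L 1 = d) :
    ∃ a : Fin 2 → ℤ, a 1 ≤ a 0 ∧ a 0 + a 1 + 2 = d ∧
      Nonempty ((Coh.push π).obj L ≅ ∐ fun i => O' (a i)) ∧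
      (∀ c, ∑ i, (-c + a i + 1).toNat = Module.finrank k (Coh.HH E (CohB1.tensorMod (pb π (O' (-c))) L) 0)) ∧
      (∀ c, Curv2.deg k E (CohB1.tensorMod (pb π (O' (-c))) L) 1 = d - 2 * c) := by
  haveI := CurvLib.isNoetherian k (X := E)
  haveI := CurvLib.isNoetherian k (X := CohB1.ProjSpace 1 k)
  haveI : LocallyOfFinitePresentation π := inferInstance
  have hO : PicF.IsInvertible (Coh.structureModule E) := CurvLib.isInvertible_structureModule
  have hχ : Curv2.euler k E (Coh.structureModule E) = 0 := by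
    rw [HypSqLib.euler_structure (k := k) hE, hg]; norm_num
  have hpb : ∀ m, Curv2.deg k E (pb π (O' m)) 1 = 2 * m := fun m => by
    have h := euler_twist π hπ hO m
    rw [CurveVBLib.genRank_eq (DblTrLib.rank_dirO π hrk), hχ,
      CurvLib.euler_congr (k := k) (swapIso _ _ ≪≫ unitLeft _)] at h
    rw [Curv2.deg, hχ]
    push_cast at h ⊢
    linarith
  have hdeg : ∀ m, Curv2.deg k E (CohB1.tensorMod (pb π (O' m)) L) 1 = d + 2 * m := fun m => by
    rw [GenusZeroLib.deg_tensor k hE (AmpleDevLib.isInvertible_pb π (twist_inv k m)) hL, hpb, hd]; ring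
  have hLd : Curv2.euler k E L = d := by
    rw [← hd, Curv2.deg, hχ]; ring
  have hr : CurvLib.genRank ((Coh.push π).obj L) = 2 := by
    have h := euler_twist π hπ hL 1
    have h' := hdeg 1
    rw [Curv2.deg, hχ, h, hLd] at h'
    push_cast at h'
    omega
  have hvb := CurveVBLib.rank_genRank (vb_push_inv π hL)
  rw [hr] at hvb
  obtain ⟨a, ⟨ha, ⟨ea⟩⟩, -⟩ := Groth.Agent.S7797.result k 2 _ hvb
  refine ⟨a, ha (Fin.zero_le 1), ?_, ⟨ea⟩, fun c => ?_, fun c => by rw [hdeg]; ring⟩
  · haveI := (CurvLib.isCoh_of_isInvertible hL).1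
    rw [← euler_pair (k := k) a, ← CurvLib.euler_congr (k := k) ea, ← (PushLinLib.euler_push k π hπ L).2, hLd]
  · rw [h0_twist π hπ hL (-c), (CurvLib.hIso (k := k) (congrRight _ ea) 0).finrank_eq]
    exact (Groth.Agent.S7797.h0_sum (-c) 2 a).2.symm

include hE in
/-- Sections in degree zero. -/
theorem nonempty_trivial {M : E.Modules} (hM : PicF.IsInvertible M) (hd : Curv2.deg k E M 1 = 0)
    (h0 : Module.finrank k (Coh.HH E M 0) ≠ 0) : Nonempty (M ≅ Coh.structureModule E) := by
  haveI := CurvLib.finite_HH (k := k) (CurvLib.isCoh_of_isInvertible hM) 0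
  obtain ⟨s, hs⟩ := CurvLib.exists_hom_ne_zero (L := M) (Module.nontrivial_of_finrank_pos (R := k) (by omega))
  rw [Curv2.deg] at hd
  haveI := CurvLib.isIso_of_euler_le (k := k) CurvLib.isInvertible_structureModule hM hE hs (by push_cast at hd; omega)
  exact ⟨(asIso s).symm⟩

include hE in
theorem h0_neg {M : E.Modules} (hM : PicF.IsInvertible M) (hd : Curv2.deg k E M 1 < 0) :
    Module.finrank k (Coh.HH E M 0) = 0 :=
  haveI := VertChiLib.subsingleton_h0_of_deg_neg (k := k) hE hM hd
  Module.finrank_zero_of_subsingleton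

theorem pair_iso {M : (CohB1.ProjSpace 1 k).Modules} {a : Fin 2 → ℤ} (e : M ≅ ∐ fun i => O' (a i)) {x y : ℤ} (h0 : a 0 = x)
    (h1 : a 1 = y) : Nonempty (M ≅ ∐ fun j : Fin 2 => O' (![x, y] j)) :=
  ⟨e ≪≫ Sigma.mapIso fun i => eqToIso (congrArg O' (by fin_cases i <;> simp [h0, h1]))⟩

end Aux

/-- Let E be an elliptic curve over an algebraically closed field k of characteristic zero (in place of
the complex numbers): smooth, proper and geometrically connected over k, of dimension one and genus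
dim_k H^1(E, O_E) = 1; let π : E → P^1_k be a k-morphism which is finite and flat of constant rank
2, and L an invertible O_E-module of degree d = χ(L) − χ(O_E). If d = 2e + 1 then π_*L ≅ O(e) ⊕ O(e
− 1); if d = 2e and L ≅ π^*O(e) then π_*L ≅ O(e) ⊕ O(e − 2); if d = 2e and L is not isomorphic to
π^*O(e) then π_*L ≅ O(e − 1) ⊕ O(e − 1). (Existence of isomorphisms of O-modules on P^1_k; the
source states the isomorphisms abstractly.) -/
theorem result (k : Type u) [Field k]
    [IsAlgClosed k] [CharZero k] (E : Scheme.{u}) [E.Over (Spec (CommRingCat.of k))] [IsProper (E ↘ Spec (CommRingCat.of k))]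
    [Smooth (E ↘ Spec (CommRingCat.of k))] [GeometricallyConnected (E ↘ Spec (CommRingCat.of k))]
    (hE : topologicalKrullDim E = 1) (hg : Curv2.genus k E = 1)
    (π : E ⟶ CohB1.ProjSpace 1 k) (hπ : π ≫ CohB1.ProjSpace.toSpec 1 k = E ↘ Spec (CommRingCat.of k))
    [IsFinite π] [Flat π] (hrk : ∀ y : ↥(CohB1.ProjSpace 1 k), Scheme.Hom.finrank π y = 2)
    (L : E.Modules) (hL : PicF.IsInvertible L) (d : ℤ) (hd : Curv2.deg k E L 1 = d) :
    (∀ e : ℤ, d = 2 * e + 1 → Nonempty ((Scheme.Modules.pushforward π).obj L ≅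
        ∐ fun j : Fin 2 => Twist.twistProjSpace 1 k (![e, e - 1] j))) ∧
    (∀ e : ℤ, d = 2 * e → Nonempty (L ≅ (Scheme.Modules.pullback π).obj (Twist.twistProjSpace 1 k e)) →
        Nonempty ((Scheme.Modules.pushforward π).obj L ≅
          ∐ fun j : Fin 2 => Twist.twistProjSpace 1 k (![e, e - 2] j))) ∧
    (∀ e : ℤ, d = 2 * e → IsEmpty (L ≅ (Scheme.Modules.pullback π).obj (Twist.twistProjSpace 1 k e)) →
        Nonempty ((Scheme.Modules.pushforward π).obj L ≅
          ∐ fun j : Fin 2 => Twist.twistProjSpace 1 k (![e - 1, e - 1] j))) := by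
  haveI := CurveVBLib.isIntegral_of_smooth_geomConnected (X := E) k
  haveI : ConnectedSpace E := GeometricallyConnected.connectedSpace_of_subsingleton (E ↘ Spec (CommRingCat.of k))
  obtain ⟨a, ha, hsum, ⟨ea⟩, hcnt, hdeg⟩ := exists_data π hE hπ hg hrk hL hd
  have hinv : ∀ c, PicF.IsInvertible (CohB1.tensorMod (pb π (Twist.twistProjSpace 1 k (-c))) L) := fun c =>
    isInvertible_tensor (AmpleDevLib.isInvertible_pb π (twist_inv k (-c))) hL
  have hcount : ∀ c, (-c + a 0 + 1).toNat + (-c + a 1 + 1).toNat =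
      Module.finrank k (Coh.HH E (CohB1.tensorMod (pb π (Twist.twistProjSpace 1 k (-c))) L) 0) := fun c => by
    rw [← hcnt c, Fin.sum_univ_two]
  have hneg : ∀ c, d < 2 * c → a 0 < c := fun c hc => by
    have h := hcount c
    rw [h0_neg hE (hinv c) (by rw [hdeg]; omega)] at h
    omega
  refine ⟨fun e he => ?_, fun e he ⟨f⟩ => ?_, fun e he hf => ?_⟩
  · have h := hneg (e + 1) (by omega)
    exact pair_iso ea (by omega) (by omega)
  · have h := hneg (e + 1) (by omega)
    have hc := hcount e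
    obtain ⟨t⟩ := twist_add k (-e) e
    obtain ⟨t0⟩ := twist_zero k
    obtain ⟨p⟩ := BlowPtLib.nonempty_pb_tensor π (Twist.twistProjSpace 1 k (-e)) (Twist.twistProjSpace 1 k e)
    let g : CohB1.tensorMod (pb π (Twist.twistProjSpace 1 k (-e))) L ≅ Coh.structureModule E :=
      congrRight _ f ≪≫ p.symm ≪≫ (Scheme.Modules.pullback π).mapIso (t ≪≫ eqToIso (by rw [neg_add_cancel]) ≪≫ t0) ≪≫
        KFlatLib.pullUnitIso π
    rw [(CurvLib.hIso (k := k) g 0).finrank_eq, HypSqLib.hh0_structure (k := k) hE] at hc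
    exact pair_iso ea (by omega) (by omega)
  · have hc := hcount e
    by_cases hz : Module.finrank k (Coh.HH E (CohB1.tensorMod (pb π (Twist.twistProjSpace 1 k (-e))) L) 0) = 0
    · rw [hz] at hc
      exact pair_iso ea (by omega) (by omega)
    obtain ⟨s⟩ := nonempty_trivial hE (hinv e) (by rw [hdeg]; omega) hz
    obtain ⟨t⟩ := twist_add k e (-e)
    obtain ⟨t0⟩ := twist_zero k
    obtain ⟨p⟩ := BlowPtLib.nonempty_pb_tensor π (Twist.twistProjSpace 1 k e) (Twist.twistProjSpace 1 k (-e))
    exact hf.elim ((unitLeft L).symm ≪≫ congrLeft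
      ((KFlatLib.pullUnitIso π).symm ≪≫ (Scheme.Modules.pullback π).mapIso
        (t0.symm ≪≫ eqToIso (by rw [add_neg_cancel]) ≪≫ t.symm) ≪≫ p) L ≪≫
      assocIso _ _ L ≪≫ congrRight _ s ≪≫ swapIso _ _ ≪≫ unitLeft _)

end Groth.Agent.S16520
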