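import Groth.Statements.S1653
import Groth.Agent.FibDimLib.ClosureDim

set_option autoImplicit false
universe u
open CategoryTheory CategoryTheory.Limits AlgebraicGeometry
open Variety

namespace Groth.Agent.S1653

/-- Let f : X → Y be a k-morphism of schemes locally of finite type over a field k, with X irreducible
of dimension a, and let the closure of the image of f have dimension b. Then the local fibre
dimension of f at every point of X is at least a - b, and the set of points where it equals a - b is
open and dense. -/
theorem result (k : Type u) [Field k] (X Y : Scheme.{u}) [X.Over (Spec (CommRingCat.of k))] [Y.Over (Spec (CommRingCat.of k))]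
    [LocallyOfFiniteType (X ↘ (Spec (CommRingCat.of k)))] [LocallyOfFiniteType (Y ↘ (Spec (CommRingCat.of k)))] [IrreducibleSpace X]
    (f : X ⟶ Y) (hf : f ≫ (Y ↘ (Spec (CommRingCat.of k))) = X ↘ (Spec (CommRingCat.of k))) (a b : ℕ) (ha : topologicalKrullDim X = a)
    (hb : topologicalKrullDim (closure (Set.range f.base)) = b) :
    (∀ x : X, ((a - b : ℕ) : WithBot ℕ∞) ≤ FlatMor.fibreDimAt f x) ∧
      IsOpen {x : X | FlatMor.fibreDimAt f x = (a - b : ℕ)} ∧ Dense {x : X | FlatMor.fibreDimAt f x = (a - b : ℕ)} := by
  let q : Y ⟶ Spec (CommRingCat.of k) := Y ↘ (Spec (CommRingCat.of k))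
  haveI : LocallyOfFiniteType (f ≫ q) := hf.symm ▸ inferInstance
  haveI : LocallyOfFiniteType f := locallyOfFiniteType_of_comp f q
  have hη : closure ({f.base (genericPoint X)} : Set Y) = closure (Set.range f.base) :=
    ((genericPoint_spec X).image f.continuous).def.trans (by rw [Set.image_univ])
  have h := FibDimLib.topologicalKrullDim_closure_eq_add q f (genericPoint X)
  rw [hη, hb, (genericPoint_spec X).def] at h
  have hu : topologicalKrullDim (Set.univ : Set X) = topologicalKrullDim X :=
    IsHomeomorph.topologicalKrullDim_eq _ (Homeomorph.Set.univ X).isHomeomorph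
  rw [hu, ha] at h
  obtain ⟨m, hm⟩ := UOpenLib.exists_fibreClosureDim_eq_nat f (genericPoint X)
  rw [hm] at h
  have hm' : m = a - b := by
    have : a = b + m := by exact_mod_cast h
    omega
  have hd : FlatMor.fibreDimAt f (genericPoint X) = ((a - b : ℕ) : WithBot ℕ∞) := by
    rw [UOpenLib.fibreDimAt_eq_of_max f, hm, hm']
    intro x' _ hx'
    exact (genericPoint_spec X).eq ((specializes_iff_mem_closure.mpr hx').antisymm
      (genericPoint_specializes x') |>.eq.symm ▸ genericPoint_spec X) |>.symm
  have hle : ∀ x : X, ((a - b : ℕ) : WithBot ℕ∞) ≤ FlatMor.fibreDimAt f x := fun x => by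
    rw [← hm', ← hm]
    exact UOpenLib.fibreClosureDim_le_fibreDimAt f (genericPoint_specializes x)
  have he : {x : X | FlatMor.fibreDimAt f x = (a - b : ℕ)} = {x : X | FlatMor.fibreDimAt f x ≤ (a - b : ℕ)} := by
    ext x
    exact ⟨fun h => h.le, fun h => le_antisymm h (hle x)⟩
  refine ⟨hle, he ▸ FibDimLib.isOpen_fibreDimAt_le f _, ?_⟩
  have hmem : genericPoint X ∈ {x : X | FlatMor.fibreDimAt f x = (a - b : ℕ)} := hd
  exact (dense_iff_closure_eq.mpr
    (Set.eq_univ_of_univ_subset ((genericPoint_spec X).def.ge.trans (closure_mono (Set.singleton_subset_iff.mpr hmem)))))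


end Groth.Agent.S1653
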