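import Groth.Statements.S16534
import Groth.Agent.EllSecLib.FormEval
import Groth.Agent.S1537

set_option autoImplicit false
set_option backward.isDefEq.respectTransparency false
set_option backward.isDefEq.respectTransparency.types false
set_option maxHeartbeats 1000000
universe u
open CategoryTheory CategoryTheory.Limits AlgebraicGeometry
open Curves

namespace Groth.Agent.S16534

/-- Over an algebraically closed field k of characteristic zero (in place of the complex numbers), a
smooth connected quintic curve of genus 2 in P^4 lies in a hyperplane and on a quadric surface in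
that hyperplane. Here C is smooth, proper and integral of dimension one over k with dim_k H^1(C,
O_C) = 2, i : C → P^4_k is a closed immersion over k with deg i^*O(1) = χ(i^*O(1)) − χ(O_C) = 5, and
the conclusion provides a nonzero linear form l and a quadratic form q not divisible by l such that
i factors through V_+(l) ∩ V_+(q). -/
theorem result (k : Type u) [Field k] [IsAlgClosed k]
    [CharZero k] (C : Scheme.{u}) [C.Over (Spec (CommRingCat.of k))] [Smooth (C ↘ Spec (CommRingCat.of k))] [IsProper (C ↘ Spec (CommRingCat.of k))]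
    [IsIntegral C] (hC : topologicalKrullDim C = 1) (hg : Curv2.genus k C = 2)
    (i : C ⟶ CohB1.ProjSpace 4 k) [IsClosedImmersion i] (hi : i ≫ CohB1.ProjSpace.toSpec 4 k = C ↘ Spec (CommRingCat.of k))
    (hdeg : Curv2.deg k C ((Scheme.Modules.pullback i).obj (Twist.twistProjSpace 4 k 1)) 1 = 5) :
    ∃ (l : LefPen.Form 4 k 1) (q : LefPen.Form 4 k 2), l ≠ 0 ∧ q.1 ∉ Ideal.span {l.1} ∧
      ∃ j : C ⟶ (LefPen.hypIdeal l ⊔ LefPen.hypIdeal q).subscheme,
        j ≫ (LefPen.hypIdeal l ⊔ LefPen.hypIdeal q).subschemeι = i := by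
  haveI := CurvLib.isNoetherian k (X := C)
  obtain ⟨z, -, hz⟩ := IsClosed.exists_closed_singleton (isClosed_univ (X := C)) ⟨Classical.arbitrary _, trivial⟩
  haveI : GeometricallyConnected (C ↘ Spec (CommRingCat.of k)) :=
    Groth.Agent.S1537.result k C z fun a ha => by
      letI : Algebra k (C.residueField z) := Curv2.resAlgebra k C z
      have hi : _root_.IsIntegral k a := ha
      exact minpoly.mem_range_of_degree_eq_one k a
        (IsAlgClosed.degree_eq_one_of_irreducible k (minpoly.irreducible hi))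
  -- a hyperplane
  have hL1 := AmpleDevLib.isInvertible_pb i (PicPnLib.twist_inv 4 k ((1 : ℕ) : ℤ))
  have h01 := JacAlbLib.h0_of_deg (k := k) hC hL1 (by
    rw [show Curv2.deg k C (KFlatLib.pb i (Twist.twistProjSpace 4 k ((1 : ℕ) : ℤ))) 1 = 5 from hdeg, hg]; norm_num)
  rw [show Curv2.deg k C (KFlatLib.pb i (Twist.twistProjSpace 4 k ((1 : ℕ) : ℤ))) 1 = 5 from hdeg, hg] at h01
  obtain ⟨Φ₁, hΦ₁⟩ := EllSecLib.exists_evalMap i hi 1
  haveI : Module.Finite k (Coh.HH C (KFlatLib.pb i (Twist.twistProjSpace 4 k ((1 : ℕ) : ℤ))) 0) :=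
    CurvLib.finite_HH (k := k) (CurvLib.isCoh_of_isInvertible hL1) 0
  have hlt1 : Module.finrank k (Coh.HH C (KFlatLib.pb i (Twist.twistProjSpace 4 k ((1 : ℕ) : ℤ))) 0) <
      Module.finrank k (LefPen.Form 4 k 1) := by
    rw [EllSecLib.finrank_form, show Nat.choose (4 + 1) 1 = 5 from rfl]
    omega
  obtain ⟨l, hl, hl0⟩ := (Submodule.ne_bot_iff _).1 (LinearMap.ker_ne_bot_of_finrank_lt (f := Φ₁) hlt1)
  -- a quadric not containing it
  have hdeg2 := EllSecLib.deg_pb_two (k := k) hC i
  rw [hdeg] at hdeg2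
  have hL2 := AmpleDevLib.isInvertible_pb i (PicPnLib.twist_inv 4 k ((2 : ℕ) : ℤ))
  have h02 := JacAlbLib.h0_of_deg (k := k) hC hL2 (by rw [hdeg2, hg]; norm_num)
  rw [hdeg2, hg] at h02
  obtain ⟨Φ₂, hΦ₂⟩ := EllSecLib.exists_evalMap i hi 2
  haveI : Module.Finite k (Coh.HH C (KFlatLib.pb i (Twist.twistProjSpace 4 k ((2 : ℕ) : ℤ))) 0) :=
    CurvLib.finite_HH (k := k) (CurvLib.isCoh_of_isInvertible hL2) 0
  let M : LefPen.Form 4 k 1 →ₗ[k] LefPen.Form 4 k 2 :=
    { toFun := fun m => ⟨l.1 * m.1, SetLike.mul_mem_graded l.2 m.2⟩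
      map_add' := fun a b => Subtype.ext (mul_add _ _ _)
      map_smul' := fun r a => Subtype.ext (mul_smul_comm r _ _) }
  have hex : ∃ q : LefPen.Form 4 k 2, Φ₂ q = 0 ∧ q.1 ∉ Ideal.span {l.1} := by
    by_contra h
    simp only [not_exists, not_and, not_not] at h
    have hle : LinearMap.ker Φ₂ ≤ LinearMap.range M := fun q hq => by
      obtain ⟨a, ha⟩ := Ideal.mem_span_singleton'.1 (h q (LinearMap.mem_ker.1 hq))
      refine ⟨⟨MvPolynomial.homogeneousComponent 1 a, MvPolynomial.homogeneousComponent_mem 1 a⟩, Subtype.ext ?_⟩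
      show l.1 * MvPolynomial.homogeneousComponent 1 a = q.1
      have h2 := congrArg (MvPolynomial.homogeneousComponent 2) ha
      rw [MvPolynomial.homogeneousComponent_of_mem q.2, if_pos rfl] at h2
      rw [← h2, mul_comm]
      exact (EllSecLib.homogeneousComponent_mul_right a l.1 l.2).symm
    have h3 := (Submodule.finrank_mono hle).trans (LinearMap.finrank_range_le M)
    have h4 := LinearMap.finrank_range_add_finrank_ker Φ₂
    have h5 := Submodule.finrank_le (LinearMap.range Φ₂)
    have e1 : Module.finrank k (LefPen.Form 4 k 1) = 5 := EllSecLib.finrank_form 1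
    have e2 : Module.finrank k (LefPen.Form 4 k 2) = 15 := EllSecLib.finrank_form 2
    omega
  obtain ⟨q, hq, hqn⟩ := hex
  have hle : LefPen.hypIdeal l ⊔ LefPen.hypIdeal q ≤ i.ker :=
    sup_le (EllSecLib.hypIdeal_le_ker i l (hΦ₁ l (LinearMap.mem_ker.1 hl))) (EllSecLib.hypIdeal_le_ker i q (hΦ₂ q hq))
  exact ⟨l, q, hl0, hqn, IsClosedImmersion.lift _ i (by rwa [Scheme.IdealSheafData.ker_subschemeι]),
    IsClosedImmersion.lift_fac _ _ _⟩

end Groth.Agent.S16534
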