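import Groth.Statements.S16541
import Mathlib
import Groth.Agent.WittDescLib.Basic
-- import your own Groth.Agent.* helpers here

set_option autoImplicit false
universe u v
open CAlg

namespace Groth.Agent.S16541

set_option maxHeartbeats 400000

open TensorProduct Dieu in
theorem eq_of_bc {A B C : Type u} [CommRing A] [CommRing B] [CommRing C] (g : A →+* B)
    (h₁ h₂ : B →+* C) (e : h₁.comp g = h₂.comp g) (hex : ∀ b, h₁ b = h₂ b → ∃ a, g a = b)
    (hinj : Function.Injective g) (M : Type v) [AddCommGroup M] [Module A M] [Module.Flat A M] :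
    Function.Injective (BC.ι g M) ∧ ∀ z : BC g M,
      BC.castHom e (BC.push g h₁ z) = BC.push g h₂ z ↔ z ∈ Set.range (BC.ι g M) := by
  let u : A →ₗ[A] Res g :=
    { toFun := fun a => Res.mk g (g a)
      map_add' := fun a b => by rw [map_add, Res.mk_add]
      map_smul' := fun a b => by rw [RingHom.id_apply, smul_eq_mul, map_mul, Res.smul_mk] }
  let φ : Res g →ₗ[A] Res (h₂.comp g) :=
    { toFun := fun b => Res.mk (h₂.comp g) (h₁ b.val - h₂ b.val)
      map_add' := fun a b => by
        rw [Res.val_add, map_add, map_add, ← Res.mk_add]; congr 1; ring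
      map_smul' := fun a b => by
        rw [RingHom.id_apply, Res.smul_mk, Res.val_smul, map_mul, map_mul, RingHom.comp_apply,
          show h₁ (g a) = h₂ (g a) from RingHom.congr_fun e a, mul_sub] }
  have hu : Function.Exact u φ := fun b => by
    constructor
    · intro hb
      obtain ⟨a, ha⟩ := hex b.val (sub_eq_zero.1 (congrArg Res.val hb))
      exact ⟨a, Res.ext _ ha⟩
    · rintro ⟨a, rfl⟩
      refine Res.ext _ ?_
      change h₁ (g a) - h₂ (g a) = 0
      rw [show h₁ (g a) = h₂ (g a) from RingHom.congr_fun e a, sub_self]
  have hι : ∀ t : A ⊗[A] M, u.rTensor M t = BC.ι g M (TensorProduct.lid A M t) := by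
    intro t
    induction t using TensorProduct.induction_on with
    | zero => rw [map_zero, map_zero, map_zero]; rfl
    | add a b ha hb => rw [map_add, map_add, map_add, ha, hb]; rfl
    | tmul a m =>
      rw [LinearMap.rTensor_tmul, TensorProduct.lid_tmul, BC.ι_apply]
      exact BC.tmul_apply_eq g a m
  have hφ : ∀ z : BC g M,
      φ.rTensor M (z : Res g ⊗[A] M) = BC.castHom e (BC.push g h₁ z) - BC.push g h₂ z := by
    intro z
    induction z using BC.induction_on g with
    | zero => exact (map_zero _).trans (by rw [map_zero, map_zero, map_zero, sub_zero]; rfl)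
    | tmul b x =>
      rw [BC.push_tmul, BC.push_tmul, BC.castHom_tmul]
      exact TensorProduct.sub_tmul (Res.mk (h₂.comp g) (h₁ b)) (Res.mk (h₂.comp g) (h₂ b)) x
    | add a b ha hb =>
      refine (map_add (φ.rTensor M) (a : Res g ⊗[A] M) b).trans ?_
      erw [ha, hb, map_add, map_add, map_add]
      exact (add_sub_add_comm _ _ _ _).symm
  refine ⟨fun m m' hm => ?_, fun z => ⟨fun hz => ?_, ?_⟩⟩
  · have hu' : Function.Injective u := fun a b h => hinj (congrArg Res.val h)
    have h1 : u.rTensor M ((TensorProduct.lid A M).symm m) = u.rTensor M ((TensorProduct.lid A M).symm m') := by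
      rw [hι, hι, LinearEquiv.apply_symm_apply, LinearEquiv.apply_symm_apply, hm]
    exact (TensorProduct.lid A M).symm.injective
      (Module.Flat.rTensor_preserves_injective_linearMap u hu' h1)
  · obtain ⟨t, ht⟩ := (Module.Flat.rTensor_exact M hu (z : Res g ⊗[A] M)).1
      ((hφ z).trans (sub_eq_zero.2 hz))
    exact ⟨_, (hι t).symm.trans ht⟩
  · rintro ⟨m, rfl⟩
    rw [BC.ι_apply, BC.push_tmul, BC.push_tmul, BC.castHom_tmul, map_one, map_one]

/-- Let p be a prime, S → R a faithfully flat homomorphism of commutative rings and M a flat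
W(S)-module; write ι₁, ι₂ : R → R ⊗_S R for the two coprojections, M_R = W(R) ⊗_{W(S)} M and M_{R ⊗
R} = W(R ⊗_S R) ⊗_{W(S)} M for the scalar extensions along W(S) → W(R) and W(S) → W(R ⊗_S R). Then 0
→ M → M_R ⇉ M_{R ⊗ R} is exact: the map x ↦ 1 ⊗ x from M to M_R is injective, and an element of M_R
has the same image under the two maps w ⊗ x ↦ W(ι₁)(w) ⊗ x and w ⊗ x ↦ W(ι₂)(w) ⊗ x exactly when it
is of the form 1 ⊗ x. The hypothesis e records that the two composite ring maps W(S) → W(R) → W(R
⊗_S R) agree (both coprojections are S-algebra maps); it serves to identify the two targets. -/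
theorem result (p : ℕ) [Fact p.Prime]
    (S R : Type u) [CommRing S] [CommRing R] [Algebra S R] [Module.FaithfullyFlat S R]
    (M : Type v) [AddCommGroup M] [Module (WittVector p S) M] [Module.Flat (WittVector p S) M]
    (e : (WittVector.map (Algebra.TensorProduct.includeLeftRingHom : R →+* TensorProduct S R R) : WittVector p R →+* WittVector p (TensorProduct S R R)).comp (WittVector.map (algebraMap S R) : WittVector p S →+* WittVector p R) = (WittVector.map ((Algebra.TensorProduct.includeRight : R →ₐ[S] TensorProduct S R R) : R →+* TensorProduct S R R) : WittVector p R →+* WittVector p (TensorProduct S R R)).comp (WittVector.map (algebraMap S R) : WittVector p S →+* WittVector p R)) :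
    Function.Injective (Dieu.BC.ι (WittVector.map (algebraMap S R) : WittVector p S →+* WittVector p R) M) ∧
      ∀ z : Dieu.BC (WittVector.map (algebraMap S R) : WittVector p S →+* WittVector p R) M,
        (Dieu.BC.castHom e (Dieu.BC.push (WittVector.map (algebraMap S R) : WittVector p S →+* WittVector p R) (WittVector.map (Algebra.TensorProduct.includeLeftRingHom : R →+* TensorProduct S R R) : WittVector p R →+* WittVector p (TensorProduct S R R)) z) = Dieu.BC.push (WittVector.map (algebraMap S R) : WittVector p S →+* WittVector p R) (WittVector.map ((Algebra.TensorProduct.includeRight : R →ₐ[S] TensorProduct S R R) : R →+* TensorProduct S R R) : WittVector p R →+* WittVector p (TensorProduct S R R)) z ↔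
          z ∈ Set.range (Dieu.BC.ι (WittVector.map (algebraMap S R) : WittVector p S →+* WittVector p R) M)) := by
  exact eq_of_bc _ _ _ e (fun b hb => Groth.Agent.WittDescLib.exists_of_amitsur_witt p hb)
    (Groth.Agent.WittDescLib.witt_map_injective p) M

end Groth.Agent.S16541
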