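import Groth.Statements.S16544
import Groth.Agent.DispLib.NilpRigid

set_option autoImplicit false
set_option linter.style.haveILetI false
universe u v
open Disp

namespace Groth.Agent.S16544

/-- Let p be a prime and S a commutative ring in which p is nilpotent and whose nilradical (the ideal of
nilpotent elements) is a nilpotent ideal; let (P, Q, F, V⁻¹) and (P', Q', F', V'⁻¹) be displays over
S, i.e. 3n-displays whose operators V# satisfy the nilpotence condition. Then the group of
homomorphisms of displays from P to P' has no p-torsion: a W(S)-linear ψ : P → P' which is a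
homomorphism of 3n-displays and satisfies p·ψ = 0 is zero. (The published statement says
torsion-free; primes other than p are units in S, and the published proof treats the prime p.) -/
theorem result (p : ℕ) [Fact p.Prime]
    (S : Type u) [CommRing S] (hp : IsNilpotent (p : S)) (hn : IsNilpotent (nilradical S))
    (P P' : Type v) [AddCommGroup P] [Module (WittVector p S) P] [AddCommGroup P'] [Module (WittVector p S) P']
    (D : W4c1extbt610.Display3n p S P) (D' : W4c1extbt610.Display3n p S P')
    (hD : Dieu.IsDisplay D) (hD' : Dieu.IsDisplay D')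
    (ψ : P →ₗ[WittVector p S] P') (hψ : W4c1extbt610.IsHom D D' ψ)
    (h : (p : WittVector p S) • ψ = 0) : ψ = 0 := by
  classical
  obtain ⟨j, hj⟩ : ∃ j, (DispLib.stepIdeal p)^[j] (nilradical S) = ⊥ := by
    have := DispLib.exists_iterate_stepIdeal_eq_bot (p := p) (Ideal.Quotient.mk (nilradical S)) hp
      (by rw [Ideal.mk_ker]; exact hn)
    rwa [Ideal.mk_ker] at this
  have := D'.finite
  have := D'.projective
  obtain ⟨n, d, c, -, -, hdc⟩ := Module.Finite.exists_comp_eq_id_of_projective (WittVector p S) P'
  have hred : ∀ a : WittVector p S, (p : WittVector p S) * a = 0 → a ∈ DispLib.wittIdeal (p := p) (nilradical S) := by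
    intro a ha
    rw [DispLib.wittIdeal, RingHom.mem_ker]
    let R := S ⧸ nilradical S
    let g := WittVector.map (p := p) (Ideal.Quotient.mk (nilradical S))
    rcases subsingleton_or_nontrivial R with hR | hR
    · exact WittVector.ext fun i => Subsingleton.elim _ _
    · have hpR : (p : R) = 0 := by
        rw [← map_natCast (Ideal.Quotient.mk (nilradical S)), Ideal.Quotient.eq_zero_iff_mem]
        exact mem_nilradical.2 hp
      haveI : CharP R p := (CharP.charP_iff_prime_eq_zero (Fact.out : p.Prime)).2 hpR
      haveI : IsReduced R :=
        (Ideal.isRadical_iff_quotient_reduced _).1 (Ideal.radical_isRadical (⊥ : Ideal S))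
      have h0 : g a * (p : WittVector p R) = 0 := by
        rw [← map_natCast g, ← map_mul, mul_comm a, ha, map_zero]
      refine WittVector.ext fun i => ?_
      have hi := congrArg (fun w : WittVector p R => w.coeff (i + 1)) h0
      simp only [WittVector.mul_charP_coeff_succ, WittVector.zero_coeff] at hi
      rw [WittVector.zero_coeff]
      exact IsReduced.pow_eq_zero hi
  have h0 : ∀ x, ψ x ∈ DispLib.bigSub p P' (nilradical S) := by
    intro x
    rw [show ψ x = d (c (ψ x)) from (LinearMap.congr_fun hdc _).symm, pi_eq_sum_univ' (c (ψ x)), map_sum]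
    refine Submodule.sum_mem _ fun i _ => ?_
    rw [map_smul]
    refine Submodule.smul_mem_smul (hred _ ?_) Submodule.mem_top
    rw [← smul_eq_mul, ← Pi.smul_apply, ← map_smul, ← LinearMap.smul_apply, h, LinearMap.zero_apply, map_zero,
      Pi.zero_apply]
  have hi : ∀ i, ∀ x, ψ x ∈ DispLib.bigSub p P' ((DispLib.stepIdeal p)^[i] (nilradical S)) := by
    intro i
    induction i with
    | zero => exact h0
    | succ i ih =>
      rw [Function.iterate_succ_apply']
      exact DispLib.mem_bigSub_step_of_isHom D D' hD _ ψ hψ ih
  refine LinearMap.ext fun x => ?_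
  have hx := hi j x
  rw [hj, DispLib.bigSub] at hx
  have hbot : DispLib.wittIdeal (p := p) (⊥ : Ideal S) = ⊥ := by
    refine le_bot_iff.1 fun a ha => ?_
    rw [Ideal.mem_bot]
    refine WittVector.ext fun i => ?_
    simpa using (DispLib.mem_wittIdeal.1 ha) i
  rw [hbot, Submodule.bot_smul, Submodule.mem_bot] at hx
  exact hx

end Groth.Agent.S16544
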