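import Groth.Statements.S16545
import Groth.Agent.DispLib.BaseChange

set_option autoImplicit false
set_option backward.isDefEq.respectTransparency false
set_option backward.isDefEq.respectTransparency.types false
set_option maxHeartbeats 1000000
set_option synthInstance.maxHeartbeats 400000
universe u v
open Disp

namespace Groth.Agent.S16545

open Dieu

section helpers
variable {p : ℕ} [Fact p.Prime] {S R : Type u} [CommRing S] [CommRing R] [Algebra S R]
  [Module.FaithfullyFlat S R]

local notation "G" => (WittVector.map (algebraMap S R) : WittVector p S →+* WittVector p R)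

theorem exists_algebraMap_eq_of_comm (t : R)
    (h : t ⊗ₜ[S] (1 : R) = (1 : R) ⊗ₜ[S] t) : ∃ r : S, algebraMap S R r = t := by
  let N := LinearMap.range (Algebra.linearMap S R)
  suffices t ∈ N by exact this
  rw [← Submodule.Quotient.mk_eq_zero]
  apply Module.FaithfullyFlat.tensorProduct_mk_injective (A := S) (B := R) (R ⧸ N)
  rw [map_zero]
  show (1 : R) ⊗ₜ[S] N.mkQ t = 0
  rw [← LinearMap.lTensor_tmul, ← h, LinearMap.lTensor_tmul,
    show N.mkQ 1 = 0 from (Submodule.Quotient.mk_eq_zero N).2 ⟨1, (algebraMap S R).map_one⟩]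
  exact TensorProduct.tmul_zero _ t

theorem witt_descend (t : WittVector p R)
    (h : WittVector.map (Algebra.TensorProduct.includeLeftRingHom : R →+* TensorProduct S R R) t =
      WittVector.map ((Algebra.TensorProduct.includeRight : R →ₐ[S] TensorProduct S R R) : R →+* TensorProduct S R R) t) :
    ∃ r : WittVector p S, G r = t := by
  have h' : ∀ n, ∃ a : S, algebraMap S R a = t.coeff n := fun n => by
    have hn := congrArg (fun w => WittVector.coeff w n) h
    simp only [WittVector.map_coeff] at hn
    exact exists_algebraMap_eq_of_comm _ hn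
  choose a ha using h'
  refine ⟨WittVector.mk p a, ?_⟩
  ext n
  rw [WittVector.map_coeff]
  exact ha n

theorem witt_injective : Function.Injective G :=
  WittVector.map_injective _ (FaithfulSMul.algebraMap_injective S R)

variable {Q : Type v} [AddCommGroup Q] [Module (WittVector p S) Q]

/-- A coordinate after base change. -/
noncomputable def coord {B : Type u} [CommRing B] (g : WittVector p S →+* B) (l : Q →ₗ[WittVector p S] WittVector p S) :
    BC g Q →ₗ[B] B :=
  BC.lift g
    { toFun := fun x => g (l x)
      map_add' := fun x y => by rw [map_add, map_add]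
      map_smul' := fun a x => by rw [map_smul, smul_eq_mul, map_mul, smul_eq_mul] }

theorem coord_tmul {B : Type u} [CommRing B] (g : WittVector p S →+* B)
    (l : Q →ₗ[WittVector p S] WittVector p S) (b : B) (x : Q) :
    coord g l (BC.tmul g b x) = b * g (l x) := by
  simp [coord, smul_eq_mul]

theorem tmul_one_injective [Module.Projective (WittVector p S) Q] :
    Function.Injective fun x : Q => BC.tmul G 1 x := by
  intro x y hxy
  rw [← sub_eq_zero]
  apply (Module.forall_dual_apply_eq_zero_iff (WittVector p S) _).1
  intro l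
  have h := congrArg (coord G l) hxy
  simp only [coord_tmul, one_mul] at h
  rw [map_sub, witt_injective h, sub_self]

/-- The map to the double base change. -/
noncomputable def push2 (ι : R →+* TensorProduct S R R)
    (e : (WittVector.map ι).comp G =
      (WittVector.map (algebraMap S (TensorProduct S R R)) : WittVector p S →+* WittVector p (TensorProduct S R R)))
    (z : BC G Q) : BC (WittVector.map (algebraMap S (TensorProduct S R R)) : WittVector p S →+* WittVector p (TensorProduct S R R)) Q :=
  BC.castHom e (BC.push G (WittVector.map ι : WittVector p R →+* WittVector p (TensorProduct S R R)) z)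

theorem coord_push2 (ι : R →+* TensorProduct S R R)
    (e : (WittVector.map ι).comp G =
      (WittVector.map (algebraMap S (TensorProduct S R R)) : WittVector p S →+* WittVector p (TensorProduct S R R)))
    (l : Q →ₗ[WittVector p S] WittVector p S) (z : BC G Q) :
    coord _ l (push2 ι e z) = WittVector.map ι (coord G l z) := by
  induction z using BC.induction_on _ with
  | zero => simp [push2]
  | add a b ha hb => simp only [push2, map_add] at ha hb ⊢; rw [ha, hb]
  | tmul w x =>
    simp only [push2, BC.push_tmul, BC.castHom_tmul, coord_tmul, map_mul]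
    rw [← e]
    rfl

theorem mem_range_tmul_one [Module.Finite (WittVector p S) Q] [Module.Projective (WittVector p S) Q]
    (z : BC G Q) (h : ∀ l : Q →ₗ[WittVector p S] WittVector p S, ∃ r, G r = coord G l z) :
    ∃ y : Q, BC.tmul G 1 y = z := by
  classical
  obtain ⟨n, d, c, -, -, hdc⟩ := Module.Finite.exists_comp_eq_id_of_projective (WittVector p S) Q
  choose r hr using h
  have hid : ∀ w : BC G Q,
      w = ∑ i : Fin n, coord G (LinearMap.proj i ∘ₗ c) w • BC.tmul G 1 (d (Pi.single i 1)) := by
    intro w
    induction w using BC.induction_on _ with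
    | zero => simp
    | add a b ha hb => simp only [map_add, add_smul, Finset.sum_add_distrib, ← ha, ← hb]
    | tmul b x =>
      have hx : x = ∑ i : Fin n, c x i • d (Pi.single i 1) := by
        conv_lhs => rw [show x = d (c x) from (LinearMap.congr_fun hdc x).symm,
          pi_eq_sum_univ (c x)]
        rw [map_sum]
        refine Finset.sum_congr rfl fun i _ => ?_
        rw [map_smul]
        congr 2
        funext j
        simp [Pi.single_apply, eq_comm]
      conv_lhs => rw [hx, BC.tmul_eq_smul_tmul_one, ← BC.ι_apply, map_sum, Finset.smul_sum]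
      refine Finset.sum_congr rfl fun i _ => ?_
      rw [map_smulₛₗ, BC.ι_apply, smul_smul, coord_tmul]
      rfl
  refine ⟨∑ i : Fin n, r (LinearMap.proj i ∘ₗ c) • d (Pi.single i 1), ?_⟩
  conv_rhs => rw [hid z]
  rw [← BC.ι_apply, map_sum]
  refine Finset.sum_congr rfl fun i _ => ?_
  rw [map_smulₛₗ, hr]
  rfl

end helpers


/-- Let p be a prime, S → R a faithfully flat homomorphism of commutative rings with p nilpotent in S,
ι₁, ι₂ : R → R ⊗_S R the two coprojections, and (P, Q, F, V⁻¹), (P', Q', F', V'⁻¹) displays over S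
with base changes (P_R, Q_R, F_R, V_R⁻¹) and (P'_R, Q'_R, F'_R, V'_R⁻¹) along S → R (the 3n-display
structures on W(R) ⊗_{W(S)} P and W(R) ⊗_{W(S)} P' with Q_R = ker(P_R → R ⊗_S P/Q), F_R(w ⊗ x) =
σ(w) ⊗ F x, V_R⁻¹(w ⊗ y) = σ(w) ⊗ V⁻¹ y for y ∈ Q, V_R⁻¹(V(w) ⊗ x) = w ⊗ F x, and likewise for P').
Let χ : P_R → P'_R be a homomorphism of 3n-displays whose two scalar extensions along W(ι₁) and
W(ι₂) agree, after the modules W(R ⊗_S R) ⊗_{W(ι_i),W(R)} (W(R) ⊗_{W(S)} P) are mapped to W(R ⊗_S R)
⊗_{W(S)} P by the canonical maps u ⊗ (w ⊗ x) ↦ u·W(ι_i)(w) ⊗ x (and likewise for P'). Then there is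
exactly one homomorphism of 3n-displays ψ : P → P' over S with id ⊗ ψ = χ: the sequence 0 → Hom(P,
P') → Hom(P_R, P'_R) ⇉ Hom(P_{R⊗R}, P'_{R⊗R}) is exact. The hypotheses e₁, e₂ record that both
composite ring maps W(S) → W(R) → W(R ⊗_S R) equal W(S → R ⊗_S R); they serve to identify targets. -/
theorem result (p : ℕ) [Fact p.Prime]
    (S R : Type u) [CommRing S] [CommRing R] [Algebra S R] [Module.FaithfullyFlat S R] (hp : IsNilpotent (p : S))
    (e₁ : (WittVector.map (Algebra.TensorProduct.includeLeftRingHom : R →+* TensorProduct S R R) : WittVector p R →+* WittVector p (TensorProduct S R R)).comp (WittVector.map (algebraMap S R) : WittVector p S →+* WittVector p R) = (WittVector.map (algebraMap S (TensorProduct S R R)) : WittVector p S →+* WittVector p (TensorProduct S R R)))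
    (e₂ : (WittVector.map ((Algebra.TensorProduct.includeRight : R →ₐ[S] TensorProduct S R R) : R →+* TensorProduct S R R) : WittVector p R →+* WittVector p (TensorProduct S R R)).comp (WittVector.map (algebraMap S R) : WittVector p S →+* WittVector p R) = (WittVector.map (algebraMap S (TensorProduct S R R)) : WittVector p S →+* WittVector p (TensorProduct S R R)))
    (P P' : Type v) [AddCommGroup P] [Module (WittVector p S) P] [AddCommGroup P'] [Module (WittVector p S) P']
    (D : W4c1extbt610.Display3n p S P) (D' : W4c1extbt610.Display3n p S P')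
    (hD : Dieu.IsDisplay D) (hD' : Dieu.IsDisplay D')
    (DR : W4c1extbt610.Display3n p R (Dieu.BC (WittVector.map (algebraMap S R) : WittVector p S →+* WittVector p R) P)) (hDR : Dieu.IsDispBaseChange (algebraMap S R) D DR)
    (DR' : W4c1extbt610.Display3n p R (Dieu.BC (WittVector.map (algebraMap S R) : WittVector p S →+* WittVector p R) P')) (hDR' : Dieu.IsDispBaseChange (algebraMap S R) D' DR')
    (χ : Dieu.BC (WittVector.map (algebraMap S R) : WittVector p S →+* WittVector p R) P →ₗ[WittVector p R] Dieu.BC (WittVector.map (algebraMap S R) : WittVector p S →+* WittVector p R) P') (hχ : W4c1extbt610.IsHom DR DR' χ)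
    (hdesc : ∀ (z₁ : Dieu.BC (WittVector.map (Algebra.TensorProduct.includeLeftRingHom : R →+* TensorProduct S R R) : WittVector p R →+* WittVector p (TensorProduct S R R)) (Dieu.BC (WittVector.map (algebraMap S R) : WittVector p S →+* WittVector p R) P)) (z₂ : Dieu.BC (WittVector.map ((Algebra.TensorProduct.includeRight : R →ₐ[S] TensorProduct S R R) : R →+* TensorProduct S R R) : WittVector p R →+* WittVector p (TensorProduct S R R)) (Dieu.BC (WittVector.map (algebraMap S R) : WittVector p S →+* WittVector p R) P)),
      (Dieu.BC.castHom (P := P) e₁).comp (Dieu.BC.lift (WittVector.map (Algebra.TensorProduct.includeLeftRingHom : R →+* TensorProduct S R R) : WittVector p R →+* WittVector p (TensorProduct S R R)) (Dieu.BC.push (WittVector.map (algebraMap S R) : WittVector p S →+* WittVector p R) (WittVector.map (Algebra.TensorProduct.includeLeftRingHom : R →+* TensorProduct S R R) : WittVector p R →+* WittVector p (TensorProduct S R R)))) z₁ = (Dieu.BC.castHom (P := P) e₂).comp (Dieu.BC.lift (WittVector.map ((Algebra.TensorProduct.includeRight : R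 →ₐ[S] TensorProduct S R R) : R →+* TensorProduct S R R) : WittVector p R →+* WittVector p (TensorProduct S R R)) (Dieu.BC.push (WittVector.map (algebraMap S R) : WittVector p S →+* WittVector p R) (WittVector.map ((Algebra.TensorProduct.includeRight : R →ₐ[S] TensorProduct S R R) : R →+* TensorProduct S R R) : WittVector p R →+* WittVector p (TensorProduct S R R)))) z₂ →
        (Dieu.BC.castHom (P := P') e₁).comp (Dieu.BC.lift (WittVector.map (Algebra.TensorProduct.includeLeftRingHom : R →+* TensorProduct S R R) : WittVector p R →+* WittVector p (TensorProduct S R R)) (Dieu.BC.push (WittVector.map (algebraMap S R) : WittVector p S →+* WittVector p R) (WittVector.map (Algebra.TensorProduct.includeLeftRingHom : R →+* TensorProduct S R R) : WittVector p R →+* WittVector p (TensorProduct S R R)))) (Dieu.BC.map (WittVector.map (Algebra.TensorProduct.includeLeftRingHom : R →+* TensorProduct S R R) : WittVector p R →+* WittVector p (TensorProduct S R R)) χ z₁) =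
          (Dieu.BC.castHom (P := P') e₂).comp (Dieu.BC.lift (WittVector.map ((Algebra.TensorProduct.includeRight : R →ₐ[S] TensorProduct S R R) : R →+* TensorProduct S R R) : WittVector p R →+* WittVector p (TensorProduct S R R)) (Dieu.BC.push (WittVector.map (algebraMap S R) : WittVector p S →+* WittVector p R) (WittVector.map ((Algebra.TensorProduct.includeRight : R →ₐ[S] TensorProduct S R R) : R →+* TensorProduct S R R) : WittVector p R →+* WittVector p (TensorProduct S R R)))) (Dieu.BC.map (WittVector.map ((Algebra.TensorProduct.includeRight : R →ₐ[S] TensorProduct S R R) : R →+* TensorProduct S R R) : WittVector p R →+* WittVector p (TensorProduct S R R)) χ z₂)) :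
    ∃! ψ : P →ₗ[WittVector p S] P', W4c1extbt610.IsHom D D' ψ ∧ Dieu.BC.map (WittVector.map (algebraMap S R) : WittVector p S →+* WittVector p R) ψ = χ := by
  haveI := D'.finite
  haveI := D'.projective
  have hy : ∀ x : P, ∃ y : P', BC.tmul (WittVector.map (algebraMap S R) : WittVector p S →+* WittVector p R) 1 y =
      χ (BC.tmul (WittVector.map (algebraMap S R) : WittVector p S →+* WittVector p R) 1 x) := by
    intro x
    refine mem_range_tmul_one _ fun l => witt_descend _ ?_
    have h := hdesc (BC.tmul _ 1 (BC.tmul _ 1 x)) (BC.tmul _ 1 (BC.tmul _ 1 x)) (by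
      simp only [LinearMap.comp_apply, BC.lift_tmul, one_smul, BC.push_tmul, map_one, BC.castHom_tmul])
    simp only [LinearMap.comp_apply, BC.map_tmul, BC.lift_tmul, one_smul] at h
    have h' := congrArg (coord _ l) h
    exact (coord_push2 _ e₁ l _).symm.trans (h'.trans (coord_push2 _ e₂ l _))
  choose ψf hψf using hy
  have hinj := tmul_one_injective (p := p) (S := S) (R := R) (Q := P')
  let ψ : P →ₗ[WittVector p S] P' :=
    { toFun := ψf
      map_add' := fun a b => hinj (by
        simp only [hψf, BC.tmul_add, map_add])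
      map_smul' := fun a x => hinj (by
        simp only [hψf, RingHom.id_apply, ← BC.tmul_apply_eq]
        rw [BC.tmul_eq_smul_tmul_one, map_smul, ← hψf, ← BC.tmul_eq_smul_tmul_one, BC.tmul_apply_eq]) }
  have hψχ : Dieu.BC.map (WittVector.map (algebraMap S R) : WittVector p S →+* WittVector p R) ψ = χ :=
    BC.ext _ fun x => by rw [BC.map_tmul]; exact hψf x
  have hmap : ∀ q : P, q ∈ D.Q → ψ q ∈ D'.Q := fun q hq => by
    rw [DispLib.mem_Q_iff_baseChange D' DR' hDR', BC.ι_apply]
    show BC.tmul _ 1 (ψf q) ∈ _
    rw [hψf]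
    exact hχ.mapsTo _ (((DispLib.mem_Q_iff_baseChange D DR hDR q).1 hq))
  refine ⟨ψ, ⟨⟨hmap, fun x => hinj ?_, fun q => hinj ?_⟩, hψχ⟩, ?_⟩
  · show BC.tmul _ 1 (ψf (D.F x)) = BC.tmul _ 1 (D'.F (ψf x))
    have h1 := hDR.F_tmul 1 x
    have h2 := hDR'.F_tmul 1 (ψf x)
    rw [map_one] at h1 h2
    rw [hψf, ← h1, hχ.comm_F, ← hψf, h2]
  · show BC.tmul _ 1 (ψf (D.Vinv q)) = BC.tmul _ 1 (D'.Vinv ⟨ψ q, _⟩)
    have hq := (DispLib.mem_Q_iff_baseChange D DR hDR q).1 q.2
    have hq' := (DispLib.mem_Q_iff_baseChange D' DR' hDR' (ψ q)).1 (hmap q q.2)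
    rw [BC.ι_apply] at hq hq'
    have h1 := hDR.Vinv_tmul 1 q hq
    have h2 := hDR'.Vinv_tmul 1 ⟨ψ q, hmap q q.2⟩ hq'
    rw [map_one] at h1 h2
    rw [hψf, ← h1, hχ.comm_Vinv, ← h2]
    congr 1
    exact Subtype.ext (hψf q).symm
  · rintro φ ⟨-, hφ⟩
    refine LinearMap.ext fun x => hinj ?_
    show BC.tmul _ 1 (φ x) = BC.tmul _ 1 (ψf x)
    rw [hψf, ← hφ, BC.map_tmul]

end Groth.Agent.S16545
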