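import Groth.Statements.S16546
import Groth.Agent.DispLib.VSharp
import Groth.Agent.DispLib.Iterate

set_option autoImplicit false
universe u v w
open Disp

set_option linter.style.haveILetI false

namespace Groth.Agent.S16546

variable {p : ℕ} [Fact p.Prime] {R : Type u} [CommRing R]

/-- `W(R) → R/pR`. -/
noncomputable def ebar : WittVector p R →+* R ⧸ Ideal.span {(p : R)} :=
  (Ideal.Quotient.mk _).comp WittVector.constantCoeff

theorem natCast_p_eq_zero : (p : R ⧸ Ideal.span {(p : R)}) = 0 := by
  rw [← map_natCast (Ideal.Quotient.mk (Ideal.span {(p : R)})), Ideal.Quotient.eq_zero_iff_mem]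
  exact Ideal.mem_span_singleton_self _

/-- The Frobenius of `R/pR`. -/
noncomputable def fr : R ⧸ Ideal.span {(p : R)} →+* R ⧸ Ideal.span {(p : R)} where
  toFun x := x ^ p
  map_one' := one_pow p
  map_mul' x y := mul_pow x y p
  map_zero' := zero_pow (Fact.out : p.Prime).ne_zero
  map_add' x y := by
    rw [add_pow_prime_eq (Fact.out : p.Prime) x y, natCast_p_eq_zero]
    ring

theorem ebar_frobenius (a : WittVector p R) :
    ebar (WittVector.frobenius a) = (ebar a : R ⧸ Ideal.span {(p : R)}) ^ p := by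
  have h1 : WittVector.ghostComponent 0 (WittVector.frobenius a) = (WittVector.frobenius a).coeff 0 := by
    simp [WittVector.ghostComponent_apply, wittPolynomial_zero]
  have h2 : WittVector.ghostComponent 1 a = (p : R) * a.coeff 1 + a.coeff 0 ^ p := by
    simp [WittVector.ghostComponent_apply, wittPolynomial_one]
  show Ideal.Quotient.mk _ ((WittVector.frobenius a).coeff 0) = Ideal.Quotient.mk _ (a.coeff 0) ^ p
  rw [← h1, WittVector.ghostComponent_frobenius, h2, map_add, map_mul, map_natCast, natCast_p_eq_zero, zero_mul,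
    zero_add, map_pow]

theorem ker_ebar : RingHom.ker (ebar : WittVector p R →+* R ⧸ Ideal.span {(p : R)}) =
    W4c1extbt610.IV p R ⊔ Ideal.span {(p : WittVector p R)} := by
  have hs : Function.Surjective (WittVector.constantCoeff : WittVector p R →+* R) :=
    fun r => ⟨WittVector.teichmuller p r, WittVector.teichmuller_coeff_zero p r⟩
  have e : Ideal.span {(p : R)} = (Ideal.span {(p : WittVector p R)}).map WittVector.constantCoeff := by
    rw [Ideal.map_span, Set.image_singleton, map_natCast]
  rw [ebar, ← RingHom.comap_ker, Ideal.mk_ker, e, Ideal.comap_map_of_surjective _ hs, sup_comm, DispLib.IV_eq_ker]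
  rfl


/-- Let p be a prime and R a commutative ring in which p is nilpotent (in particular every prime number
other than p is a unit in R); write W = W(R) with Frobenius σ, Verschiebung V, I_R = V(W) and w₀ : W
→ R for the zeroth Witt component. Let (P, Q, F, V⁻¹) be a 3n-display over R with a normal
decomposition P = L ⊕ T, Q = L + I_R·T in which T and L are free with finite bases (t_j) and (l_k).
Let α be the square matrix over W, indexed by the disjoint union of the two index sets, such that
F(t_j) = Σ_i α_{i,j} e_i and V⁻¹(l_k) = Σ_i α_{i,k} e_i, where (e_i) is the basis of P formed by the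
t_j followed by the l_k, and let β be a two-sided inverse of α. Let B be the square block of β on
the L-indices, reduced to R/pR through w₀, and write B^{(p^i)} for the matrix whose entries are the
p^i-th powers of those of B. Then (P, Q, F, V⁻¹) is a display, i.e. its operator V# satisfies the
nilpotence condition, if and only if B^{(p^{N-1})} ⋯ B^{(p)} · B = 0 for some N ≥ 1. -/
theorem result (p : ℕ) [Fact p.Prime] (R : Type u) [CommRing R]
    (hR : ∀ ℓ : ℕ, ℓ.Prime → ℓ ≠ p → IsUnit (ℓ : R)) (hp : IsNilpotent (p : R))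
    (P : Type v) [AddCommGroup P] [Module (WittVector p R) P] (D : W4c1extbt610.Display3n p R P)
    (L T : Submodule (WittVector p R) P) (hLT : IsCompl L T)
    (hQ : D.Q = L ⊔ W4c1extbt610.IV p R • T) (hLQ : L ≤ D.Q)
    (ιT ιL : Type w) [Fintype ιT] [Fintype ιL] [DecidableEq ιT] [DecidableEq ιL]
    (bT : Module.Basis ιT (WittVector p R) T) (bL : Module.Basis ιL (WittVector p R) L)
    (α β : Matrix (ιT ⊕ ιL) (ιT ⊕ ιL) (WittVector p R)) (hαβ : α * β = 1) (hβα : β * α = 1)
    (hF : ∀ j : ιT, D.F (bT j : P) =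
      Finset.univ.sum fun i : ιT ⊕ ιL => α i (Sum.inl j) • Sum.elim (fun a : ιT => (bT a : P)) (fun a : ιL => (bL a : P)) i)
    (hV : ∀ k : ιL, D.Vinv ⟨(bL k : P), hLQ (bL k).2⟩ =
      Finset.univ.sum fun i : ιT ⊕ ιL => α i (Sum.inr k) • Sum.elim (fun a : ιT => (bT a : P)) (fun a : ιL => (bL a : P)) i) :
    Dieu.IsDisplay D ↔
      ∃ N : ℕ, 0 < N ∧
        (((List.range N).reverse.map fun i : ℕ =>
            (Matrix.of fun k l : ιL =>
                Ideal.Quotient.mk (Ideal.span {(p : R)}) (WittVector.constantCoeff (β (Sum.inr k) (Sum.inr l)))).map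
              fun x : R ⧸ Ideal.span {(p : R)} => x ^ p ^ i).prod
          = 0) := by
  classical
  letI : Module (WittVector p R) (R ⧸ Ideal.span {(p : R)}) := Module.compHom _ ebar
  let b : Module.Basis (ιT ⊕ ιL) (WittVector p R) P :=
    (bT.prod bL).map (Submodule.prodEquivOfIsCompl T L hLT.symm)
  have hb : ∀ i, b i = Sum.elim (fun a : ιT => (bT a : P)) (fun a : ιL => (bL a : P)) i := fun i => by
    rcases i with a | a <;> simp [b]
  let σ' := (WittVector.frobenius : WittVector p R →+* WittVector p R)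
  -- coordinates modulo `I + pW`
  let φ : ∀ (g : WittVector p R →+* WittVector p R) (k : ιT ⊕ ιL), P →ₛₗ[g] R ⧸ Ideal.span {(p : R)} := fun g k =>
    { toFun := fun x => ebar (g (b.repr x k))
      map_add' := fun x y => by simp
      map_smul' := fun a x => by
        show ebar (g (b.repr (a • x) k)) = ebar (g a) * ebar (g (b.repr x k))
        simp }
  let π := fun (g : WittVector p R →+* WittVector p R) (k : ιT ⊕ ιL) => Dieu.BC.lift g (φ g k)
  have hπ : ∀ g k (w : WittVector p R) (x : P), π g k (Dieu.BC.tmul g w x) = ebar w * ebar (g (b.repr x k)) :=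
    fun g k w x => Dieu.BC.lift_tmul g (φ g k) w x
  have hπs : ∀ g k (w : WittVector p R) z, π g k (w • z) = ebar w * π g k z :=
    fun g k w z => LinearMap.map_smul (π g k) w z
  have hπb : ∀ g k i, π g k (Dieu.BC.tmul g 1 (b i)) = if k = i then 1 else 0 := fun g k i => by
    rw [hπ, map_one, one_mul, b.repr_self, Finsupp.single_apply]
    by_cases h : k = i
    · subst h; simp
    · rw [if_neg (Ne.symm h), if_neg h, map_zero, map_zero]
  have hdec : ∀ g (z : Dieu.BC g P), ∃ c : ιT ⊕ ιL → WittVector p R,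
      z = ∑ i, c i • Dieu.BC.tmul g 1 (b i) ∧ ∀ k, π g k z = ebar (c k) := by
    intro g z
    have : ∃ c : ιT ⊕ ιL → WittVector p R, z = ∑ i, c i • Dieu.BC.tmul g 1 (b i) := by
      induction z using Dieu.BC.induction_on g with
      | zero => exact ⟨0, by simp⟩
      | add z₁ z₂ h₁ h₂ =>
        obtain ⟨c, rfl⟩ := h₁
        obtain ⟨c', rfl⟩ := h₂
        exact ⟨c + c', by simp [add_smul, Finset.sum_add_distrib]⟩
      | tmul w x =>
        refine ⟨fun i => w * g (b.repr x i), ?_⟩
        have e : Dieu.BC.tmul g w x = ∑ i, Dieu.BC.tmul g w (b.repr x i • b i) := by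
          conv_lhs => rw [← b.sum_repr x]
          exact map_sum (AddMonoidHom.mk' (Dieu.BC.tmul g w) (Dieu.BC.tmul_add g w)) _ _
        rw [e]
        refine Finset.sum_congr rfl fun i _ => ?_
        rw [← Dieu.BC.tmul_mul_apply, Dieu.BC.smul_tmul, mul_one]
    obtain ⟨c, rfl⟩ := this
    refine ⟨c, rfl, fun k => ?_⟩
    rw [map_sum, Finset.sum_eq_single k (fun i _ hi => by rw [hπs, hπb, if_neg (Ne.symm hi), mul_zero])
      (fun h => absurd (Finset.mem_univ k) h), hπs, hπb, if_pos rfl, mul_one]
  have hmem : ∀ g (z : Dieu.BC g P), z ∈ (W4c1extbt610.IV p R ⊔ Ideal.span {(p : WittVector p R)}) •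
      (⊤ : Submodule (WittVector p R) (Dieu.BC g P)) ↔ ∀ k, π g k z = 0 := by
    intro g z
    constructor
    · intro hz k
      refine Submodule.smul_induction_on hz (fun a ha y _ => ?_) fun x y hx hy => by rw [map_add, hx, hy, add_zero]
      rw [hπs, show ebar a = 0 from RingHom.mem_ker.1 (ker_ebar.ge ha), zero_mul]
    · intro hz
      obtain ⟨c, rfl, hc⟩ := hdec g z
      refine Submodule.sum_mem _ fun i _ => Submodule.smul_mem_smul (ker_ebar.le ?_) Submodule.mem_top
      rw [RingHom.mem_ker, ← hc, hz]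
  -- the matrix of `V^#`
  obtain ⟨Vs, hVs, huniq⟩ := DispLib.existsUnique_vSharp hp D
  let M0 : Matrix (ιT ⊕ ιL) (ιT ⊕ ιL) (R ⧸ Ideal.span {(p : R)}) := Matrix.fromBlocks 0 0
    (Matrix.of fun k l => ebar (β (Sum.inr k) (Sum.inl l))) (Matrix.of fun k l => ebar (β (Sum.inr k) (Sum.inr l)))
  have hVb : ∀ k i, π σ' k (Vs (b i)) = M0 k i := by
    intro k i
    have e : b i = ∑ j : ιT, β (Sum.inl j) i • D.F (bT j : P) +
        ∑ l : ιL, β (Sum.inr l) i • D.Vinv ⟨(bL l : P), hLQ (bL l).2⟩ := by
      simp only [hF, hV, Finset.smul_sum, smul_smul, ← hb]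
      rw [← Fintype.sum_sum_type (f := fun j => ∑ m : ιT ⊕ ιL, (β j i * α m j) • b m), Finset.sum_comm]
      have e1 : ∀ m, ∑ j : ιT ⊕ ιL, (β j i * α m j) • b m = (α * β) m i • b m := fun m => by
        rw [← Finset.sum_smul, Matrix.mul_apply]
        exact congrArg (· • b m) (Finset.sum_congr rfl fun j _ => mul_comm _ _)
      simp only [e1, hαβ, Matrix.one_apply, ite_smul, one_smul, zero_smul, Finset.sum_ite_eq', Finset.mem_univ, if_true]
    have hrepr : ∀ l : ιL, b.repr (bL l : P) k = if k = Sum.inr l then 1 else 0 := fun l => by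
      rw [show (bL l : P) = b (Sum.inr l) from (hb (Sum.inr l)).symm, b.repr_self, Finsupp.single_apply]
      by_cases h : k = Sum.inr l
      · subst h; simp
      · rw [if_neg (Ne.symm h), if_neg h]
    have ep : (ebar (p : WittVector p R) : R ⧸ Ideal.span {(p : R)}) = 0 := by rw [map_natCast, natCast_p_eq_zero]
    rw [e, map_add, map_sum, map_sum, map_add, map_sum, map_sum,
      Finset.sum_eq_zero (fun j _ => by rw [hVs.app_smul_F, hπs, ep, zero_mul]), zero_add]
    have hterm : ∀ l : ιL, π σ' k (Vs (β (Sum.inr l) i • D.Vinv ⟨(bL l : P), hLQ (bL l).2⟩)) =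
        ebar (β (Sum.inr l) i) * (if k = Sum.inr l then 1 else 0) := fun l => by
      rw [hVs.app_smul_Vinv]
      refine (hπ σ' k _ _).trans ?_
      rw [hrepr]
      by_cases h : k = Sum.inr l
      · rw [if_pos h, if_pos h, map_one, map_one]
      · rw [if_neg h, if_neg h, map_zero, map_zero]
    rw [Finset.sum_congr rfl fun l _ => hterm l]
    rcases k with k | k
    · simp only [reduceCtorEq, if_false, mul_zero, Finset.sum_const_zero]
      rcases i with i | i <;> rfl
    · rw [Finset.sum_eq_single k (fun l _ hl => by rw [if_neg (fun h => hl (Sum.inr_injective h).symm), mul_zero])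
        (fun h => absurd (Finset.mem_univ k) h), if_pos rfl, mul_one]
      rcases i with i | i <;> rfl
  -- iterates
  let C := fun n : ℕ => Matrix.of fun k i => π (σ' ^ (n + 1)) k (Dieu.vSharpPow Vs n (b i))
  have hcast : ∀ {g g' : WittVector p R →+* WittVector p R} (h : g = g') (k) (z : Dieu.BC g P),
      π g' k (Dieu.BC.castHom h z) = π g k z := by
    intro g g' h k z
    subst h
    rfl
  have hC0 : C 0 = M0 := Matrix.ext fun k i => by
    show π (σ' ^ (0 + 1)) k (Dieu.vSharpPow Vs 0 (b i)) = _
    rw [Dieu.vSharpPow_zero_apply]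
    exact (hcast _ k _).trans (hVb k i)
  have hshift : ∀ N k (z : Dieu.BC (σ' ^ N) P),
      π (σ' ^ (N + 1)) k (DispLib.shiftMap N z) = fr (π (σ' ^ N) k z) := by
    intro N k z
    induction z using Dieu.BC.induction_on _ with
    | zero => simp
    | add z₁ z₂ h₁ h₂ => simp only [map_add, h₁, h₂]
    | tmul w x =>
      rw [DispLib.shiftMap_tmul, hπ, hπ, map_mul, pow_succ', RingHom.mul_def, RingHom.comp_apply, ebar_frobenius,
        ebar_frobenius]
      rfl
  have hCsucc : ∀ n, C (n + 1) = (C n).map fr * M0 := by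
    intro n
    refine Matrix.ext fun k i => ?_
    obtain ⟨c, hc, hc'⟩ := hdec σ' (Vs (b i))
    show π (σ' ^ (n + 1 + 1)) k (Dieu.vSharpPow Vs (n + 1) (b i)) = _
    rw [DispLib.vSharpPow_succ_eq, hc, map_sum, map_sum, Matrix.mul_apply]
    refine Finset.sum_congr rfl fun j _ => ?_
    rw [map_smul, hπs, DispLib.stepMap_tmul, one_smul, hshift, ← hc', hVb, mul_comm]
    rfl
  have hnil : Dieu.IsDisplay D ↔ ∃ n, C n = 0 := by
    constructor
    · rintro ⟨Vs', hVs', n, hn⟩
      obtain rfl := huniq Vs' hVs'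
      exact ⟨n, Matrix.ext fun k i => (hmem _ _).1 (hn (b i)) k⟩
    · rintro ⟨n, hn⟩
      refine ⟨Vs, hVs, n, fun x => ?_⟩
      rw [← b.sum_repr x, map_sum]
      refine Submodule.sum_mem _ fun i _ => ?_
      rw [map_smul]
      exact Submodule.smul_mem _ _ ((hmem _ _).2 fun k => congrFun (congrFun hn k) i)
  -- block computation
  let B : Matrix ιL ιL (R ⧸ Ideal.span {(p : R)}) := Matrix.of fun k l => ebar (β (Sum.inr k) (Sum.inr l))
  let X : Matrix ιL ιT (R ⧸ Ideal.span {(p : R)}) := Matrix.of fun k l => ebar (β (Sum.inr k) (Sum.inl l))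
  let Q := fun N : ℕ => ((List.range N).reverse.map fun i : ℕ => B.map fun x => x ^ p ^ i).prod
  have hfr : ∀ i : ℕ, (B.map fun x => x ^ p ^ i).map fr = B.map fun x => x ^ p ^ (i + 1) := fun i =>
    Matrix.ext fun k l => by
      show (B k l ^ p ^ i) ^ p = B k l ^ p ^ (i + 1)
      rw [← pow_mul, pow_succ]
  have hQs : ∀ N, Q (N + 1) = (B.map fun x => x ^ p ^ N) * Q N := fun N => by
    simp [Q, List.range_succ]
  have hQ : ∀ N, Q (N + 1) = (Q N).map fr * B := by
    intro N
    induction N with
    | zero => simp [Q, Matrix.map_one]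
    | succ N ih =>
      rw [hQs (N + 1)]
      conv_lhs => rw [ih]
      rw [← mul_assoc, hQs N, Matrix.map_mul, hfr]
  have hC : ∀ n, C n = Matrix.fromBlocks 0 0 ((Q n).map fr * X) (Q (n + 1)) := by
    intro n
    induction n with
    | zero =>
      rw [hC0, hQ 0]
      simp [Q, M0, X, B, Matrix.map_one]
    | succ n ih =>
      rw [hCsucc, ih, hQ (n + 1), Matrix.fromBlocks_map, show M0 = Matrix.fromBlocks 0 0 X B from rfl,
        Matrix.fromBlocks_multiply]
      simp
  rw [hnil]
  show (∃ n, C n = 0) ↔ ∃ N : ℕ, 0 < N ∧ Q N = 0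
  constructor
  · rintro ⟨n, hn⟩
    refine ⟨n + 1, n.succ_pos, ?_⟩
    have := congrArg Matrix.toBlocks₂₂ ((hC n).symm.trans hn)
    rw [Matrix.toBlocks_fromBlocks₂₂] at this
    exact this
  · rintro ⟨N, -, hN⟩
    refine ⟨N, ?_⟩
    rw [hC, hQs, hN]
    simp [Matrix.fromBlocks_zero]

end Groth.Agent.S16546
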