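import Groth.Statements.S16547
import Groth.Agent.CommAlgDim.CM
import Mathlib.RingTheory.Ideal.GoingUp
import Mathlib.RingTheory.Ideal.Height
import Mathlib.LinearAlgebra.Matrix.Charpoly.LinearMap
import Mathlib.LinearAlgebra.LinearIndependent.Basic
import Mathlib.RingTheory.UniqueFactorizationDomain.Basic
import Mathlib.RingTheory.Invariant.Basic
-- import your own Groth.Agent.* helpers here

set_option autoImplicit false
universe u
open CAlg

namespace Groth.Agent.S16547

/-- Eakin–Nagata, by Formanek's argument: every quotient of `A` by an ideal is Noetherian over `B`. -/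
theorem isNoetherian_quotient (B A : Type u) [CommRing B] [CommRing A] [Algebra B A] [Module.Finite B A]
    [IsNoetherianRing A] (𝔞 : Ideal A) : IsNoetherian B (A ⧸ 𝔞) := by
  classical
  induction 𝔞 using (inferInstance : WellFoundedGT (Ideal A)).wf.induction with
  | h 𝔞 IH => ?_
  obtain ⟨s, hs⟩ := (Module.Finite.fg_top : (⊤ : Submodule B (A ⧸ 𝔞)).FG)
  let P : Set (Submodule B (A ⧸ 𝔞)) :=
    {N | ∀ r : B, (∀ x : A ⧸ 𝔞, r • x ∈ N) → ∀ x : A ⧸ 𝔞, r • x = 0}
  obtain ⟨N, -, hN⟩ := zorn_le_nonempty₀ P (fun c hc hch y hy => by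
    refine ⟨sSup c, fun r hr => ?_, fun z hz => le_sSup hz⟩
    have key : ∀ T : Finset (A ⧸ 𝔞), ∃ z ∈ c, ∀ x ∈ T, r • x ∈ z := by
      intro T
      induction T using Finset.induction_on with
      | empty => exact ⟨y, hy, by simp⟩
      | insert a T _ ih =>
        obtain ⟨z, hz, hzT⟩ := ih
        obtain ⟨z', hz', hz'a⟩ := (Submodule.mem_sSup_of_directed ⟨y, hy⟩ hch.directedOn).1 (hr a)
        rcases hch.total hz hz' with h | h
        · exact ⟨z', hz', Finset.forall_mem_insert _ _ _ |>.2 ⟨hz'a, fun x hx => h (hzT x hx)⟩⟩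
        · exact ⟨z, hz, Finset.forall_mem_insert _ _ _ |>.2 ⟨h hz'a, hzT⟩⟩
    obtain ⟨z, hz, hzs⟩ := key s
    refine hc hz r fun x => ?_
    have hle : Submodule.span B (↑s : Set (A ⧸ 𝔞)) ≤ z.comap (DistribSMul.toLinearMap B (A ⧸ 𝔞) r) :=
      Submodule.span_le.2 hzs
    exact hle (hs ▸ Submodule.mem_top)) ⊥ (fun r hr x => (Submodule.mem_bot B).1 (hr x))
  have hprop : ∀ N' : Submodule B (A ⧸ 𝔞), N < N' → IsNoetherian B ((A ⧸ 𝔞) ⧸ N') := by
    intro N' hlt
    have hnot : ¬ ∀ r : B, (∀ x : A ⧸ 𝔞, r • x ∈ N') → ∀ x : A ⧸ 𝔞, r • x = 0 :=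
      fun h => (hN.not_prop_of_gt hlt) h
    push Not at hnot
    obtain ⟨r, hr, x₀, hx₀⟩ := hnot
    obtain ⟨a₀, rfl⟩ := Ideal.Quotient.mk_surjective x₀
    have hgt : 𝔞 < 𝔞 ⊔ Ideal.span {algebraMap B A r} := by
      refine lt_of_le_of_ne le_sup_left fun heq => hx₀ ?_
      have hmem : algebraMap B A r ∈ 𝔞 := heq ▸ Ideal.mem_sup_right (Ideal.mem_span_singleton_self _)
      rw [show r • Ideal.Quotient.mk 𝔞 a₀ = Ideal.Quotient.mk 𝔞 (r • a₀) from rfl,
        Ideal.Quotient.eq_zero_iff_mem, Algebra.smul_def]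
      exact 𝔞.mul_mem_right _ hmem
    haveI := IH _ hgt
    let g : A →ₗ[B] (A ⧸ 𝔞) ⧸ N' :=
      N'.mkQ.comp (Ideal.Quotient.mkₐ B 𝔞).toLinearMap
    have hker : (𝔞 ⊔ Ideal.span {algebraMap B A r}).restrictScalars B ≤ LinearMap.ker g := by
      intro a ha
      obtain ⟨u, hu, v, hv, rfl⟩ := Submodule.mem_sup.1 ha
      obtain ⟨w, rfl⟩ := Ideal.mem_span_singleton'.1 hv
      rw [LinearMap.mem_ker, LinearMap.comp_apply, Submodule.mkQ_apply, Submodule.Quotient.mk_eq_zero,
        AlgHom.toLinearMap_apply, map_add, show Ideal.Quotient.mkₐ B 𝔞 u = 0 from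
          Ideal.Quotient.eq_zero_iff_mem.2 hu, zero_add, mul_comm, ← Algebra.smul_def, map_smul]
      exact hr _
    haveI : IsNoetherian B (A ⧸ (𝔞 ⊔ Ideal.span {algebraMap B A r}).restrictScalars B) :=
      isNoetherian_of_linearEquiv (Submodule.Quotient.restrictScalarsEquiv B _).symm
    refine isNoetherian_of_surjective (Submodule.liftQ _ g hker) ?_
    rw [LinearMap.range_eq_top]
    intro z
    obtain ⟨y, rfl⟩ := Submodule.mkQ_surjective N' z
    obtain ⟨a, rfl⟩ := Ideal.Quotient.mk_surjective y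
    exact ⟨Submodule.Quotient.mk a, rfl⟩
  have hQ : IsNoetherian B ((A ⧸ 𝔞) ⧸ N) := by
    rw [isNoetherian_def]
    intro K
    rcases eq_or_ne K ⊥ with rfl | hK
    · exact Submodule.fg_bot
    obtain ⟨z, hz, hz0⟩ := Submodule.exists_mem_ne_zero_of_ne_bot hK
    let K₀ : Submodule B ((A ⧸ 𝔞) ⧸ N) := Submodule.span B {z}
    have hlt : N < K₀.comap N.mkQ := by
      refine lt_of_le_of_ne (fun x hx => ?_) fun heq => hz0 ?_
      · change N.mkQ x ∈ K₀
        rw [Submodule.mkQ_apply, (Submodule.Quotient.mk_eq_zero N).2 hx]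
        exact K₀.zero_mem
      · obtain ⟨y, rfl⟩ := Submodule.mkQ_surjective N z
        have hy : y ∈ N := heq ▸ (Submodule.mem_span_singleton_self _ : N.mkQ y ∈ K₀)
        rwa [Submodule.mkQ_apply, Submodule.Quotient.mk_eq_zero]
    haveI := hprop _ hlt
    let φ := Submodule.mapQ N (K₀.comap N.mkQ) LinearMap.id hlt.le
    refine Submodule.fg_of_fg_map_of_fg_inf_ker φ ((isNoetherian_def.1 inferInstance) _) ?_
    have hk : LinearMap.ker φ = K₀ := by
      ext w
      obtain ⟨y, rfl⟩ := Submodule.mkQ_surjective N w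
      simp [φ, Submodule.Quotient.mk_eq_zero]
    rw [hk, inf_eq_right.2 ((Submodule.span_singleton_le_iff_mem _ _).2 hz)]
    exact Submodule.fg_span_singleton z
  -- `B / ann` embeds into a power of a Noetherian module
  let ι : B →ₗ[B] (s → (A ⧸ 𝔞) ⧸ N) :=
    LinearMap.pi fun x => LinearMap.toSpanSingleton B _ (N.mkQ x.1)
  haveI : IsNoetherian B (B ⧸ LinearMap.ker ι) :=
    isNoetherian_of_linearEquiv ι.quotKerEquivRange.symm
  have hker : ∀ r ∈ LinearMap.ker ι, ∀ x : A ⧸ 𝔞, r • x = 0 := by
    intro r hr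
    refine hN.prop r fun x => ?_
    have hle : Submodule.span B (↑s : Set (A ⧸ 𝔞)) ≤ N.comap (DistribSMul.toLinearMap B (A ⧸ 𝔞) r) := by
      refine Submodule.span_le.2 fun y hy => ?_
      have := congrFun (LinearMap.mem_ker.1 hr) ⟨y, hy⟩
      exact (Submodule.Quotient.mk_eq_zero N).1 this
    exact hle (hs ▸ Submodule.mem_top)
  let σ : (s → B ⧸ LinearMap.ker ι) →ₗ[B] A ⧸ 𝔞 :=
    ∑ x : s, (Submodule.liftQ _ (LinearMap.toSpanSingleton B (A ⧸ 𝔞) x.1)
      (fun r hr => hker r hr x.1)).comp (LinearMap.proj x)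
  refine isNoetherian_of_surjective σ ?_
  rw [eq_top_iff, ← hs, Submodule.span_le]
  intro y hy
  refine ⟨Pi.single ⟨y, hy⟩ (Submodule.Quotient.mk 1), ?_⟩
  simp only [σ, LinearMap.sum_apply, LinearMap.comp_apply, LinearMap.proj_apply]
  rw [Finset.sum_eq_single ⟨y, hy⟩ (fun b _ hb => by rw [Pi.single_eq_of_ne hb, map_zero])
    (fun h => absurd (Finset.mem_univ _) h), Pi.single_eq_same]
  exact one_smul B y

/-- Let A be a Noetherian factorial local domain and G a finite group acting faithfully on A by ring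
automorphisms; let B be a ring with an injective ring map to A whose image is exactly the ring of
invariants of G, and assume A is a finite B-module. Let q be a prime ideal of B of height one and p
a prime ideal of A lying over q such that the extension of residue fields of the local rings B_q and
A_p is trivial (every element of A is congruent modulo p to some c⁻¹b with b, c in B, c outside q).
Then q is a principal ideal; and if moreover B/q is a regular local ring, then B is a regular local
ring. -/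
theorem result
    {A B G : Type u} [CommRing A] [IsDomain A] [IsNoetherianRing A] [IsLocalRing A]
    [UniqueFactorizationMonoid A]
    [CommRing B] [Algebra B A] [FaithfulSMul B A] [Module.Finite B A]
    [Group G] [Finite G] [MulSemiringAction G A] [FaithfulSMul G A] [SMulCommClass G B A]
    [Algebra.IsInvariant B A G]
    (q : Ideal B) [q.IsPrime] (hq : q.height = 1) (p : Ideal A) [p.IsPrime] [p.LiesOver q]
    (hres : ∀ a : A, ∃ b c : B, c ∉ q ∧ algebraMap B A c * a - algebraMap B A b ∈ p) :
    Submodule.IsPrincipal q ∧ (IsRegularLocalRing (B ⧸ q) → IsRegularLocalRing B) := by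
  classical
  haveI := Fintype.ofFinite G
  haveI : IsDomain B := Function.Injective.isDomain (algebraMap B A) (FaithfulSMul.algebraMap_injective B A)
  haveI : Algebra.IsIntegral B A := inferInstance
  have hBN : IsNoetherianRing B := by
    haveI := isNoetherian_quotient B A ⊥
    haveI : IsNoetherian B A := isNoetherian_of_linearEquiv
      (AlgEquiv.quotientBot B A).toLinearEquiv
    exact isNoetherian_of_injective (Algebra.linearMap B A) (FaithfulSMul.algebraMap_injective B A)
  have hpq : p.comap (algebraMap B A) = q := (Ideal.over_def p q).symm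
  have hq0 : q ≠ ⊥ := fun h => by rw [h, Ideal.height_bot] at hq; exact zero_ne_one hq
  have hp0 : p ≠ ⊥ := fun h => hq0 (by
    rw [← hpq, h, Ideal.comap_bot_of_injective _ (FaithfulSMul.algebraMap_injective B A)])
  obtain ⟨π, hπp, hπ⟩ := Ideal.IsPrime.exists_mem_prime_of_ne_bot inferInstance hp0
  have hpπ : ∀ a, a ∈ p → π ∣ a := by
    by_contra hcon
    push Not at hcon
    obtain ⟨a, ha, hna⟩ := hcon
    haveI : (Ideal.span {π}).IsPrime := (Ideal.span_singleton_prime hπ.ne_zero).2 hπ
    have hle : Ideal.span {π} ≤ p := (Ideal.span_singleton_le_iff_mem _).2 hπp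
    have hlt : (Ideal.span {π}).comap (algebraMap B A) < q := hpq ▸
      Ideal.comap_lt_comap_of_integral_mem_sdiff hle ⟨ha, fun h => hna (Ideal.mem_span_singleton.1 h)⟩
        (Algebra.IsIntegral.isIntegral a)
    have hne : (Ideal.span {π}).comap (algebraMap B A) ≠ ⊥ :=
      Ideal.comap_ne_bot_of_integral_mem hπ.ne_zero (Ideal.mem_span_singleton_self π)
        (Algebra.IsIntegral.isIntegral π)
    have h1 := Ideal.height_strict_mono_of_isPrime hlt
    have h2 := Ideal.height_strict_mono_of_isPrime (I := (⊥ : Ideal B)) (bot_lt_iff_ne_bot.2 hne)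
    rw [hq] at h1
    exact absurd (ENat.lt_one_iff_eq_zero.1 h1) (ne_zero_of_lt h2)
  have hmem : ∀ a, a ∈ p ↔ π ∣ a := fun a => ⟨hpπ a, fun ⟨c, hc⟩ => hc ▸ p.mul_mem_right c hπp⟩
  let mu : G → A →* A := fun σ => (MulSemiringAction.toRingHom G A σ).toMonoidHom
  have hmu : ∀ σ a, mu σ a = σ • a := fun _ _ => rfl
  have hsmulA : ∀ (σ : G) {a b : A}, Associated a b → Associated (σ • a) (σ • b) :=
    fun σ a b h => h.map (mu σ)
  have hprime : ∀ σ : G, Prime (σ • π) := fun σ =>
    (MulEquiv.prime_iff (MulSemiringAction.toRingEquiv G A σ).toMulEquiv).2 hπ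
  let D : Subgroup G :=
    { carrier := {σ | Associated (σ • π) π}
      one_mem' := by simp [Associated.refl]
      mul_mem' := fun {σ τ} hσ hτ => by
        change Associated ((σ * τ) • π) π
        rw [mul_smul]
        exact (hsmulA σ hτ).trans hσ
      inv_mem' := fun {σ} hσ => by
        have h := hsmulA σ⁻¹ hσ
        rw [inv_smul_smul] at h
        exact h.symm }
  have hD : ∀ σ : G, σ ∈ D ↔ Associated (σ • π) π := fun _ => Iff.rfl
  let C : Subalgebra B A :=
    { carrier := {a | ∀ σ ∈ D, σ • a = a}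
      mul_mem' := fun ha hb σ hσ => by rw [smul_mul', ha σ hσ, hb σ hσ]
      add_mem' := fun ha hb σ hσ => by rw [smul_add, ha σ hσ, hb σ hσ]
      algebraMap_mem' := fun b σ _ => smul_algebraMap σ b }
  haveI : Module.Finite C A := Module.Finite.of_restrictScalars_finite B C A
  have hmain : ∀ b : B, b ∈ q → π ^ Nat.card D ∣ algebraMap B A b := by
    intro b hb
    by_cases hb0 : b = 0
    · simp [hb0]
    have hba : algebraMap B A b ≠ 0 :=
      (map_ne_zero_iff _ (FaithfulSMul.algebraMap_injective B A)).2 hb0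
    obtain ⟨m, u, hu, hbu⟩ := WfDvdMonoid.max_power_factor hba hπ.irreducible
    rw [hbu]
    refine dvd_mul_of_dvd_left (pow_dvd_pow π ?_) u
    by_contra hlt
    -- an element `x` orthogonal to the first `m` powers of `π`
    let Λ : (D → A) →ₗ[A] (Fin m → A) :=
      LinearMap.pi fun i => Fintype.linearCombination A fun σ : D => (σ : G) • (π ^ (i : ℕ))
    have hnot : ¬ Function.Injective Λ := fun hinj => by
      let e := (LinearEquiv.funCongrLeft A A (Finite.equivFin D)).toLinearMap
      have := le_of_fin_injective A (Λ.comp e)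
        (hinj.comp (LinearEquiv.funCongrLeft A A (Finite.equivFin D)).injective)
      omega
    rw [injective_iff_map_eq_zero] at hnot
    push Not at hnot
    obtain ⟨x, hx, hx0⟩ := hnot
    refine hx0 ?_
    -- modulo `b`, every element is a `C`-combination of these powers up to a unit at `p`
    let Sm : Submodule C A := Submodule.span C (Set.range fun i : Fin m => π ^ (i : ℕ))
    have hstep : ∀ (a : A) (j : ℕ), j ≤ m → ∃ c : C, (c : A) ∉ p ∧ ∃ s ∈ Sm, π ^ j ∣ c • a - s := by
      intro a j
      induction j with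
      | zero => exact fun _ => ⟨1, p.primeCompl.one_mem, 0, zero_mem _, by simp⟩
      | succ j ih =>
        intro hj
        obtain ⟨c, hc, s, hs, a', ha'⟩ := ih (by omega)
        obtain ⟨b', c', hc', hb'⟩ := hres a'
        obtain ⟨e, he⟩ := hpπ _ hb'
        refine ⟨⟨_, C.algebraMap_mem c'⟩ * c, fun h => ?_,
          (⟨_, C.algebraMap_mem c'⟩ : C) • s + (⟨_, C.algebraMap_mem b'⟩ : C) • π ^ j,
          add_mem (Sm.smul_mem _ hs) (Sm.smul_mem _ (Submodule.subset_span ⟨⟨j, by omega⟩, rfl⟩)), e, ?_⟩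
        · rcases Ideal.IsPrime.mem_or_mem inferInstance h with h | h
          · exact hc' (hpq ▸ h)
          · exact hc h
        · change algebraMap B A c' * (c : A) * a - (algebraMap B A c' * s + algebraMap B A b' * π ^ j) = _
          change (c : A) * a - s = π ^ j * a' at ha'
          rw [pow_succ]
          linear_combination algebraMap B A c' * ha' + π ^ j * he
    -- the norm of `u`
    let Nu : C := ⟨∏ σ : D, (σ : G) • u, fun τ hτ => by
      rw [Finset.smul_prod']
      exact Fintype.prod_equiv (Equiv.mulLeft (⟨τ, hτ⟩ : D)) _ _ fun σ => (mul_smul τ (σ : G) u).symm⟩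
    have hNu : (Nu : A) ∉ p := fun h => by
      obtain ⟨σ, -, hσ⟩ := hπ.exists_mem_finset_dvd ((hmem _).1 h)
      refine hu ?_
      have h2 := map_dvd (mu ((σ : G)⁻¹)) ((((hD _).1 σ.2).dvd).trans hσ)
      simp only [hmu, inv_smul_smul] at h2
      exact h2
    have huNu : u ∣ (Nu : A) := by
      have h := Finset.dvd_prod_of_mem (fun σ : D => (σ : G) • u) (Finset.mem_univ (1 : D))
      simpa using h
    let bC : C := ⟨_, C.algebraMap_mem b⟩
    have hNak : ∀ a : A, ∃ d : C, (d : A) ∉ p ∧ ∃ s ∈ Sm, ∃ e, d • a = s + bC • e := by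
      intro a
      obtain ⟨c, hc, s, hs, a', ha'⟩ := hstep a m le_rfl
      obtain ⟨u', hu'⟩ := huNu
      refine ⟨Nu * c, fun h => ?_, Nu • s, Sm.smul_mem _ hs, u' * a', ?_⟩
      · rcases Ideal.IsPrime.mem_or_mem inferInstance h with h | h
        · exact hNu h
        · exact hc h
      · change (Nu : A) * (c : A) * a = (Nu : A) * s + algebraMap B A b * (u' * a')
        change (c : A) * a - s = π ^ m * a' at ha'
        rw [hbu, hu'] at *
        linear_combination u * u' * ha'
    obtain ⟨gen, hgen⟩ := (Module.Finite.fg_top : (⊤ : Submodule C A).FG)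
    choose d hd s hs e he using hNak
    let dd : C := ∏ a ∈ gen, d a
    have hdd : (dd : A) ∉ p := by
      intro h
      rw [show (dd : A) = ∏ a ∈ gen, (d a : A) from map_prod C.val _ _] at h
      obtain ⟨a, -, ha⟩ := hπ.exists_mem_finset_dvd ((hmem _).1 h)
      exact hd a ((hmem _).2 ha)
    let I : Ideal C := Ideal.span {bC}
    let f : Module.End C (A ⧸ Sm) := dd • LinearMap.id
    have hf : LinearMap.range f ≤ I • ⊤ := by
      have hle : ⊤ ≤ (I • ⊤ : Submodule C (A ⧸ Sm)).comap (f.comp Sm.mkQ) := by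
        rw [← hgen, Submodule.span_le]
        intro a ha
        obtain ⟨r, hr⟩ : d a ∣ dd := Finset.dvd_prod_of_mem d ha
        change dd • Sm.mkQ a ∈ (I • ⊤ : Submodule C (A ⧸ Sm))
        rw [hr, mul_comm, mul_smul, ← map_smul, he, map_add, Submodule.mkQ_apply Sm (s a), (Submodule.Quotient.mk_eq_zero Sm).2 (hs a),
          zero_add, map_smul]
        exact Submodule.smul_mem _ r (Submodule.smul_mem_smul (Ideal.mem_span_singleton_self _) trivial)
      rintro _ ⟨y, rfl⟩
      obtain ⟨a, rfl⟩ := Submodule.mkQ_surjective Sm y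
      exact hle (Submodule.mem_top (x := a))
    obtain ⟨P, hPmon, -, hPc, hP0⟩ := f.exists_monic_and_natDegree_eq_and_coeff_mem_pow_and_aeval_eq_zero C I hf
    let c₀ : C := P.eval dd
    have hc₀ : (c₀ : A) ∉ p := by
      intro h
      have hsum : c₀ = (∑ i ∈ Finset.range P.natDegree, P.coeff i * dd ^ i) + dd ^ P.natDegree := by
        change P.eval dd = _
        rw [Polynomial.eval_eq_sum_range, Finset.sum_range_succ, hPmon.coeff_natDegree, one_mul]
      rw [hsum] at h
      have hI : I ≤ p.comap C.val.toRingHom := (Ideal.span_singleton_le_iff_mem _).2 (hpq.ge hb)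
      have h1 : (∑ i ∈ Finset.range P.natDegree, P.coeff i * dd ^ i) ∈ I := by
        refine sum_mem fun i hi => I.mul_mem_right _ ?_
        exact Ideal.pow_le_self (Nat.sub_ne_zero_of_lt (Finset.mem_range.1 hi)) (hPc i)
      have h2 := hI h1
      rw [Ideal.mem_comap] at h2
      rw [Subalgebra.coe_add, Subalgebra.coe_pow] at h
      exact hdd (Ideal.IsPrime.mem_of_pow_mem inferInstance _ ((p.add_mem_iff_right h2).1 h))
    have hker : ∀ a, c₀ • a ∈ Sm := fun a => by
      have hfy : ∀ y, Polynomial.aeval f P y = c₀ • y := by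
        intro y
        rw [show f = algebraMap C (Module.End C (A ⧸ Sm)) dd from rfl,
          Polynomial.aeval_algebraMap_apply_eq_algebraMap_eval]
        rfl
      rw [← Submodule.Quotient.mk_eq_zero, Submodule.Quotient.mk_smul, ← hfy, hP0]
      rfl
    -- `x` is orthogonal to everything
    have hvan : ∀ a : A, ∑ σ : D, x σ * ((σ : G) • a) = 0 := by
      intro a
      have hS : ∀ z ∈ Sm, ∑ σ : D, x σ * ((σ : G) • z) = 0 := by
        intro z hz
        induction hz using Submodule.span_induction with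
        | mem z hz =>
          obtain ⟨i, rfl⟩ := hz
          simpa [Λ, Fintype.linearCombination_apply] using congrFun hx i
        | zero => simp
        | add y z _ _ hy hz => simp only [smul_add, mul_add, Finset.sum_add_distrib, hy, hz, add_zero]
        | smul k z _ hz =>
          rw [← mul_zero (k : A), ← hz, Finset.mul_sum]
          refine Finset.sum_congr rfl fun σ _ => ?_
          change x σ * ((σ : G) • ((k : A) * z)) = _
          rw [smul_mul', k.2 _ σ.2]
          ring
      have h := hS _ (hker a)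
      have hc0 : (c₀ : A) ≠ 0 := fun h0 => hc₀ (h0 ▸ p.zero_mem)
      refine (mul_eq_zero.1 (Eq.trans ?_ h)).resolve_left hc0
      rw [Finset.mul_sum]
      refine Finset.sum_congr rfl fun σ _ => ?_
      change _ = x σ * ((σ : G) • ((c₀ : A) * a))
      rw [smul_mul', c₀.2 _ σ.2]
      ring
    have hli := (linearIndependent_monoidHom A A).comp (fun σ : D => mu σ) fun σ τ h =>
      Subtype.ext (eq_of_smul_eq_smul fun a : A => DFunLike.congr_fun h a)
    funext σ
    refine Fintype.linearIndependent_iff.1 hli x ?_ σ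
    funext a
    simpa [hmu] using hvan a
  -- the norm of `π` generates `q`
  let N : A := ∏ σ : G, σ • π
  obtain ⟨β, hβ⟩ := Algebra.IsInvariant.isInvariant (A := B) (B := A) (G := G) N fun τ => by
    rw [Finset.smul_prod']
    exact Fintype.prod_equiv (Equiv.mulLeft τ) _ _ fun σ => (mul_smul τ σ π).symm
  have hN0 : N ≠ 0 := Finset.prod_ne_zero_iff.2 fun σ _ => (hprime σ).ne_zero
  have hdvd : ∀ b ∈ q, N ∣ algebraMap B A b := by
    intro b hb
    suffices ∀ S : Finset G, ∏ σ ∈ S, σ • π ∣ algebraMap B A b from this _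
    intro S
    induction S using Finset.induction_on with
    | empty => simp
    | insert τ S hτ ih =>
      obtain ⟨z, hz⟩ := ih
      rw [Finset.prod_insert hτ, hz, mul_comm]
      refine mul_dvd_mul_left _ ?_
      by_contra hnd
      let T : Finset G := Finset.univ.filter fun σ => τ⁻¹ * σ ∈ D
      let k := (S ∩ T).card
      have hk : k < Nat.card D := by
        have hT : T.card = Nat.card D := by
          rw [Nat.card_eq_fintype_card, ← Finset.card_univ]
          refine Finset.card_bij (fun σ hσ => (⟨τ⁻¹ * σ, (Finset.mem_filter.1 hσ).2⟩ : D))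
            (fun _ _ => Finset.mem_univ _) (fun a _ c _ h => mul_left_cancel (congrArg Subtype.val h))
            (fun d _ => ⟨τ * d, by simp [T], by simp⟩)
        rw [← hT]
        refine Finset.card_lt_card ((Finset.ssubset_iff_of_subset Finset.inter_subset_right).2
          ⟨τ, by simp [T], fun h => hτ (Finset.mem_inter.1 h).1⟩)
      have h1 : (τ • π) ^ (k + 1) ∣ algebraMap B A b := by
        refine (pow_dvd_pow _ hk).trans ?_
        rw [← smul_pow', ← smul_algebraMap τ b]
        exact map_dvd (mu τ) (hmain b hb)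
      have h2 : Associated (∏ σ ∈ S ∩ T, σ • π) ((τ • π) ^ k) := by
        rw [← Finset.prod_const]
        refine Associated.prod _ _ _ fun σ hσ => ?_
        have h := hsmulA τ ((hD _).1 (Finset.mem_filter.1 (Finset.mem_inter.1 hσ).2).2)
        rwa [← mul_smul, mul_inv_cancel_left] at h
      rw [hz, ← Finset.prod_inter_mul_prod_diff S T, mul_assoc] at h1
      have h3 := h1.trans (h2.mul_right _).dvd
      rw [pow_succ] at h3
      have h4 := (mul_dvd_mul_iff_left (pow_ne_zero k (hprime τ).ne_zero)).1 h3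
      rcases (hprime τ).dvd_or_dvd h4 with h | h
      · obtain ⟨σ, hσ, hd⟩ := (hprime τ).exists_mem_finset_dvd h
        obtain ⟨hσS, hσT⟩ := Finset.mem_sdiff.1 hσ
        refine hσT (Finset.mem_filter.2 ⟨Finset.mem_univ _, ?_⟩)
        have := hsmulA τ⁻¹ ((hprime τ).associated_of_dvd (hprime σ) hd)
        rw [inv_smul_smul, ← mul_smul] at this
        exact (hD _).2 this.symm
      · exact hnd h
  have hqβ : q = Ideal.span {β} := by
    refine le_antisymm (fun b hb => ?_) ((Ideal.span_singleton_le_iff_mem _).2 ?_)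
    · obtain ⟨z, hz⟩ := hdvd b hb
      obtain ⟨z', hz'⟩ := Algebra.IsInvariant.isInvariant (A := B) (B := A) (G := G) z fun τ => by
        refine mul_left_cancel₀ hN0 ?_
        conv_lhs => rw [← hβ, ← smul_algebraMap τ β, ← smul_mul', hβ, ← hz, smul_algebraMap]
        exact hz
      refine Ideal.mem_span_singleton'.2 ⟨z', FaithfulSMul.algebraMap_injective B A ?_⟩
      rw [map_mul, hz', hβ, hz, mul_comm]
    · rw [← hpq, Ideal.mem_comap, hβ, hmem]
      have h := Finset.dvd_prod_of_mem (fun σ : G => σ • π) (Finset.mem_univ (1 : G))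
      simpa using h
  refine ⟨⟨⟨β, hqβ⟩⟩, fun hreg => ?_⟩
  haveI : IsLocalRing B := by
    haveI : Nontrivial B := inferInstance
    refine IsLocalRing.of_unique_max_ideal
      ⟨(IsLocalRing.maximalIdeal A).comap (algebraMap B A), Ideal.isMaximal_comap_of_isIntegral_of_isMaximal _, ?_⟩
    intro P hP
    obtain ⟨Q, -, hQ, hQP⟩ := Ideal.exists_ideal_over_prime_of_isIntegral (S := A) P ⊥ (by
      rw [Ideal.comap_bot_of_injective _ (FaithfulSMul.algebraMap_injective B A)]
      exact bot_le)
    haveI := hQ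
    haveI : P.IsMaximal := hP
    haveI : (Q.comap (algebraMap B A)).IsMaximal := hQP.symm ▸ hP
    rw [← hQP, IsLocalRing.eq_maximalIdeal (Ideal.isMaximal_of_isIntegral_of_isMaximal_comap (R := B) Q inferInstance)]
  haveI : IsRegularLocalRing (B ⧸ Ideal.span ({β} : Set B)) :=
    IsRegularLocalRing.of_ringEquiv (Ideal.quotEquivOfEq hqβ)
  haveI : IsRegularLocalRing (B ⧸ Ideal.ofList [β]) :=
    IsRegularLocalRing.of_ringEquiv (Ideal.quotEquivOfEq (Ideal.ofList_singleton β).symm)
  have hβ0 : β ≠ 0 := fun h => hN0 (by rw [← hβ, h, map_zero])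
  refine CommAlgDim.isRegularLocalRing_of_quotient B (rs := [β])
    ((CommAlgDim.isRegular_cons_ring (rs := [])).2 ⟨fun y z h => mul_left_cancel₀ hβ0 h, ?_⟩)
  have : Nontrivial (B ⧸ Ideal.span {β}) := Ideal.Quotient.nontrivial_iff.2 (hqβ ▸ Ideal.IsPrime.ne_top inferInstance)
  exact RingTheory.Sequence.IsRegular.nil _ _

end Groth.Agent.S16547
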