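import Groth.Statements.S16551
import Mathlib
import Groth.Agent.BlowRegLib.GoingDownFibre
-- import your own Groth.Agent.* helpers here

set_option autoImplicit false
universe u
open CategoryTheory CategoryTheory.Limits AlgebraicGeometry
open Models

namespace Groth.Agent.S16551

/-- Let R be a discrete valuation ring, W and Z integral normal schemes which are flat, of finite type
and of dimension 2 over Spec R, and ψ : W -> Z a finite surjective R-morphism. Let z be a closed
point of Z lying in the special fibre, w a point of W with ψ(w) = z, and Δ an irreducible component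
of the special fibre of Z with z ∈ Δ. Then some irreducible component Γ of the special fibre of W
contains w and satisfies ψ(Γ) = Δ. (The published statement asks W and Z only to be normal; they are
taken integral as well here.) -/
theorem result
    (R : Type u) [CommRing R] [IsDomain R] [IsDiscreteValuationRing R]
    (W Z : Over (Spec (CommRingCat.of R))) [IsIntegral W.left] [IsIntegral Z.left]
    (hWn : Pi1.IsNormalScheme W.left) (hZn : Pi1.IsNormalScheme Z.left)
    [Flat W.hom] [LocallyOfFiniteType W.hom] [QuasiCompact W.hom]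
    [Flat Z.hom] [LocallyOfFiniteType Z.hom] [QuasiCompact Z.hom]
    (hdW : topologicalKrullDim W.left = 2) (hdZ : topologicalKrullDim Z.left = 2)
    (ψ : W ⟶ Z) [IsFinite ψ.left] [Surjective ψ.left]
    (z : Z.left) (hzc : IsClosed ({z} : Set Z.left)) (hz : z ∈ Models.specialFibreSet R Z)
    (w : W.left) (hw : ψ.left.base w = z)
    (Δ : Set Z.left) (hΔ : Δ ∈ Models.fibreComponents R Z) (hzΔ : z ∈ Δ) :
    ∃ Γ ∈ Models.fibreComponents R W, w ∈ Γ ∧ ψ.left.base '' Γ = Δ := by
  have hfib : ψ.left.base ⁻¹' Models.specialFibreSet R Z = Models.specialFibreSet R W := by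
    show ψ.left.base ⁻¹' (Z.hom.base ⁻¹' _) = W.hom.base ⁻¹' _
    rw [← Over.w ψ]
    rfl
  have hsF := Models.isClosed_specialFibreSet R W
  have hnor : ∀ q : Z.left, IsIntegrallyClosed (Z.left.presheaf.stalk q) := fun q => (hZn q).2
  have hΔc : IsClosed Δ := by
    have h := hΔ.2 (y := closure Δ) ⟨hΔ.1.1.closure, closure_minimal hΔ.1.2 (Models.isClosed_specialFibreSet R Z)⟩ subset_closure
    exact closure_subset_iff_isClosed.1 h
  let ζ := hΔ.1.1.genericPoint
  have hζ : IsGenericPoint ζ Δ := hΔc.closure_eq ▸ hΔ.1.1.isGenericPoint_genericPoint_closure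
  obtain ⟨ξ, hξx, hξ⟩ := BlowRegLib.generalizingMap_of_finite ψ.left hnor (hw ▸ hζ.specializes hzΔ : ζ ⤳ ψ.left.base w)
  have hξF : ξ ∈ Models.specialFibreSet R W := hfib.le (show ψ.left.base ξ ∈ _ from hξ ▸ hΔ.1.2 hζ.mem)
  let G : Set W.left := Subtype.val '' irreducibleComponent (⟨ξ, hξF⟩ : Models.specialFibreSet R W)
  have hGi : IsIrreducible G := isIrreducible_irreducibleComponent.image _ continuous_subtype_val.continuousOn
  have hGc : IsClosed G := hsF.isClosedEmbedding_subtypeVal.isClosedMap _ isClosed_irreducibleComponent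
  have hGF : G ⊆ Models.specialFibreSet R W := Subtype.coe_image_subset _ _
  have hξG : ξ ∈ G := ⟨_, mem_irreducibleComponent, rfl⟩
  refine ⟨G, ⟨⟨hGi, hGF⟩, fun S hS hle t ht => ?_⟩, hξx.mem_closed hGc hξG, ?_⟩
  · have hpre : IsPreirreducible ((Subtype.val : Models.specialFibreSet R W → W.left) ⁻¹' S) :=
      BlowRegLib.isPreirreducible_of_image Topology.IsInducing.subtypeVal (by
        rw [Subtype.image_preimage_coe, Set.inter_eq_right.2 hS.2]; exact hS.1.isPreirreducible)
    have hsub : irreducibleComponent (⟨ξ, hξF⟩ : Models.specialFibreSet R W) ⊆ Subtype.val ⁻¹' S :=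
      fun z hz => hle ⟨z, hz, rfl⟩
    exact ⟨⟨t, hS.2 ht⟩, (eq_irreducibleComponent hpre hsub).le ht, rfl⟩
  · have hc : IsClosed (ψ.left.base '' G) := ψ.left.isClosedMap _ hGc
    have h1 : Δ ⊆ ψ.left.base '' G := by
      rw [← hζ.def]
      exact closure_minimal (Set.singleton_subset_iff.2 ⟨ξ, hξG, hξ⟩) hc
    exact Set.Subset.antisymm (hΔ.2 ⟨hGi.image _ ψ.left.continuous.continuousOn,
      Set.image_subset_iff.2 fun t ht => hfib.ge (hGF ht)⟩ h1) h1

end Groth.Agent.S16551
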