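import Groth.Statements.S16552
import Mathlib
import Groth.Agent.CurveFamNormLib.GraphModel
-- import your own Groth.Agent.* helpers here

set_option autoImplicit false
universe u
open CategoryTheory CategoryTheory.Limits AlgebraicGeometry
open Models

namespace Groth.Agent.S16552

/-- Let R be a discrete valuation ring with fraction field K, C a smooth proper curve over K with H^0(C,
O_C) = K, and XR, WR two models of C over R — integral normal schemes, proper and flat over Spec R,
with generic fibres identified with C through iX and iW. For a point x of either model, view its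
local ring inside the function field of C (the stalk of C at its generic point η) through the
specialization map to the stalk at the image of η followed by the stalk map of iX or iW. Suppose
that for every point ξ of WR whose closure is an irreducible component of the special fibre there is
a point ξ' of XR whose closure is an irreducible component of the special fibre and whose local ring
has the same image in the function field as that of ξ (the centre of the discrete valuation ring
O_{WR,ξ} on XR is a generic point of the special fibre). Then the identification of generic fibres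
extends to an R-morphism XR -> WR. The published statement takes both models projective over R; this
row asks them only to be proper, which the argument allows. -/
theorem result
    (R : Type u) [CommRing R] [IsDomain R] [IsDiscreteValuationRing R]
    (C : Scheme.{u}) [IsIntegral C] (fC : C ⟶ Spec (CommRingCat.of (FractionRing R)))
    (hC : Curve.IsSmoothProperCurve (FractionRing R) C fC) (hC0 : IsIso fC.appTop)
    (XR WR : Over (Spec (CommRingCat.of R))) [IsIntegral XR.left] [IsIntegral WR.left]
    (hXn : Pi1.IsNormalScheme XR.left) (hWn : Pi1.IsNormalScheme WR.left)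
    [IsProper XR.hom] [Flat XR.hom] [IsProper WR.hom] [Flat WR.hom]
    (iX : C ⟶ XR.left) (hiX : IsPullback iX fC XR.hom (Spec.map (CommRingCat.ofHom (algebraMap R (FractionRing R)))))
    (iW : C ⟶ WR.left) (hiW : IsPullback iW fC WR.hom (Spec.map (CommRingCat.ofHom (algebraMap R (FractionRing R)))))
    (H : ∀ (ξ : WR.left) (hξ : iW.base (genericPoint C) ⤳ ξ),
      closure ({ξ} : Set WR.left) ∈ Models.fibreComponents R WR →
        ∃ (ξ' : XR.left) (hξ' : iX.base (genericPoint C) ⤳ ξ'),
          closure ({ξ'} : Set XR.left) ∈ Models.fibreComponents R XR ∧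
          Set.range ((iX.stalkMap (genericPoint C)).hom.comp (XR.left.presheaf.stalkSpecializes hξ').hom) =
            Set.range ((iW.stalkMap (genericPoint C)).hom.comp (WR.left.presheaf.stalkSpecializes hξ).hom)) :
    ∃ φ : XR ⟶ WR, iX ≫ φ.left = iW := by
  haveI : IsProper fC := hC.1
  suffices H' : ∀ (ξ : WR.left), WR.hom ξ = IsLocalRing.closedPoint R → Order.coheight ξ ≤ 1 →
      ∀ (hξ : iW (genericPoint C) ⤳ ξ), ∃ (ξ' : XR.left) (hξ' : iX (genericPoint C) ⤳ ξ'),
        Set.range (CurveFamNormLib.gk iX ξ' hξ').hom = Set.range (CurveFamNormLib.gk iW ξ hξ).hom by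
    obtain ⟨φ, hφ, hφ'⟩ := CurveFamNormLib.exists_morphism fC hC.2.2.2.le hXn XR.hom WR.hom iX hiX iW hiW H'
    exact ⟨Over.homMk φ hφ, hφ'⟩
  intro ξ hξs hξ1 hξ
  haveI : IsOpenImmersion iW := MorphismProperty.of_isPullback hiW.flip inferInstance
  have hcomp : closure ({ξ} : Set WR.left) ∈ Models.fibreComponents R WR := by
    refine ⟨⟨isIrreducible_singleton.closure, closure_minimal (Set.singleton_subset_iff.mpr hξs)
      (Models.isClosed_specialFibreSet R WR)⟩, ?_⟩
    intro S hS hle
    obtain ⟨σ, hσ⟩ : ∃ σ, IsGenericPoint σ (closure S) := ⟨_, hS.1.isGenericPoint_genericPoint_closure⟩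
    have hσξ : σ ⤳ ξ := hσ.specializes (subset_closure (hle (subset_closure rfl)))
    have hσs : WR.hom σ = IsLocalRing.closedPoint R :=
      closure_minimal hS.2 (Models.isClosed_specialFibreSet R WR) hσ.mem
    have heq : σ = ξ := by
      by_contra hne
      have hlt : ξ < σ := lt_of_le_not_ge (Scheme.le_iff_specializes.mpr hσξ)
        fun h => hne (hσξ.antisymm (Scheme.le_iff_specializes.mp h)).eq
      have h0 : Order.coheight σ = 0 := by
        have h1 := (Order.coheight_add_one_le hlt).trans hξ1
        exact nonpos_iff_eq_zero.mp ((ENat.add_le_add_iff_right ENat.one_ne_top).mp (h1.trans (zero_add (1 : ℕ∞)).ge))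
      rw [Order.coheight_eq_zero] at h0
      have hσg : genericPoint WR.left = σ :=
        ((genericPoint_specializes σ).antisymm (h0 (genericPoint_specializes σ))).eq
      exact (CurveFamNormLib.not_closedPoint_iff_mem_range hiW σ).mp
        ⟨genericPoint C, (genericPoint_eq_of_isOpenImmersion iW).trans hσg⟩ hσs
    exact fun y hy => heq ▸ hσ.def.ge (subset_closure hy)
  obtain ⟨ξ', hξ', -, hr⟩ := H ξ hξ hcomp
  exact ⟨ξ', hξ', hr⟩

end Groth.Agent.S16552
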