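import Groth.Statements.S16557
import Mathlib
import Groth.Agent.SurfAmpleLib.Adj
import Groth.Agent.SurfAmpleLib.Main
import Groth.Agent.SurfNumLib.Config
import Groth.Agent.SurfNumLib.K3
import Groth.Agent.SurfNumLib.Deg
-- import your own Groth.Agent.* helpers here

set_option autoImplicit false
universe u
open CategoryTheory CategoryTheory.Limits AlgebraicGeometry TopologicalSpace
open Surf

namespace Groth.Agent.S16557

/-- Let X be a smooth proper integral surface over an algebraically closed field k, W = Λ²Ω_{X/k} a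
canonical module, and suppose H⁰(X, W) = 0 (the source states this for smooth rational surfaces and
uses exactly the vanishing of H⁰(X, K_X)). If L is an invertible O_X-module with H⁰(X, L) ≠ 0, then
H²(X, L) = 0. -/
theorem result (k : Type u) [Field k] [IsAlgClosed k]
    (X : Scheme.{u}) [X.Over (Spec (CommRingCat.of k))] [IsIntegral X] [IsProper (X ↘ (Spec (CommRingCat.of k)))] [Smooth (X ↘ (Spec (CommRingCat.of k)))]
    (hdim : topologicalKrullDim X = 2)
    (W : X.Modules) (hW : ExtPow.IsExtPow 2 (Omega.sheaf (X ↘ (Spec (CommRingCat.of k)))) W)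
    (hpg : Subsingleton (Coh.HH X W 0))
    (L : X.Modules) (hL : PicF.IsInvertible L) (h0 : Nontrivial (Coh.HH X L 0)) :
    Subsingleton (Coh.HH X L 2) := by
  have hX : topologicalKrullDim X = ((2 : ℕ) : WithBot ℕ∞) := hdim
  haveI := CurvLib.isNoetherian k (X := X)
  have hO := CurvLib.isInvertible_structureModule (X := X)
  obtain ⟨φ, hφ⟩ := CurvLib.exists_hom_ne_zero (L := L) h0
  have h1 := SurfNumLib.hh2_mul_le (k := k) hX hL hO hφ
  rw [HodgeIdxLib.hh_congr (k := k) (HilbPolyLib.unitLeft L) 2] at h1
  have h2 := SurfAmpleLib.hh_dual hX hW hO (HilbPolyLib.unitLeft (Coh.structureModule X)) 2 le_rfl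
  rw [Nat.sub_self, HodgeIdxLib.hh_congr (k := k) (HilbPolyLib.unitLeft W) 0] at h2
  have h3 : HodgeIdxLib.hh k W 0 = 0 := Module.finrank_zero_of_subsingleton
  haveI := CurvLib.finite_HH (k := k) (CurvLib.isCoh_of_isInvertible hL) 2
  refine Module.finrank_zero_iff (R := k).1 ?_
  change HodgeIdxLib.hh k L 2 = 0
  omega

end Groth.Agent.S16557
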