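import Groth.Statements.S16562
import Groth.Agent.BlowRegLib.NegCurve
import Groth.Agent.BlowRegLib.LinearGG
import Groth.Agent.SurfNumLib.Config
import Groth.Agent.SurfNumLib.Basic
import Groth.Agent.WeilExtLib.Smooth
-- import your own Groth.Agent.* helpers here

set_option autoImplicit false
universe u
open CategoryTheory CategoryTheory.Limits AlgebraicGeometry TopologicalSpace
open Surf

namespace Groth.Agent.S16562

/-- Let k be an algebraically closed field, p_1, …, p_r distinct closed points of the projective plane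
P²_k and σ : X → P²_k the blow-up of P²_k in the ideal of the reduced finite set {p_1, …, p_r}
(universal property), X being regarded over k through σ; X is then an integral smooth proper surface
(carried as hypotheses). Write H = σ^*O(1), (L·M) = χ(O_X) − χ(L) − χ(M) + χ(L ⊗ M) for the
intersection number of invertible modules L, M, and for a closed subscheme C ⊆ X with ideal I_C
write (L·C) = χ(O_C ⊗ L) − χ(O_C) and C² = (I_C·I_C). A (−1)-curve is an integral closed
one-dimensional subscheme E ⊆ X with H¹(E, O_E) = 0 and E² = −1. If L is an invertible O_X-module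
and E a (−1)-curve whose H-degree satisfies 2(H·E) > (L·H), and (L·E) < −1, then H⁰(X, L) = 0. (The
source takes the points in general position; that assumption plays no role here.) -/
theorem result (k : Type u) [Field k] [IsAlgClosed k]
    (r : ℕ) (P : Fin r → ↥(CohB1.ProjSpace 2 k)) (hP : Function.Injective P)
    (hPc : ∀ i, IsClosed ({P i} : Set ↥(CohB1.ProjSpace 2 k))) (hZ : IsClosed (Set.range P))
    (X : Scheme.{u}) [X.Over (Spec (CommRingCat.of k))] (σ : X ⟶ CohB1.ProjSpace 2 k)
    (hσk : σ ≫ CohB1.ProjSpace.toSpec 2 k = X ↘ (Spec (CommRingCat.of k)))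
    (hσ : BlowUp.IsBlowUp σ (Scheme.IdealSheafData.vanishingIdeal ⟨Set.range P, hZ⟩))
    [IsIntegral X] [IsProper (X ↘ (Spec (CommRingCat.of k)))] [Smooth (X ↘ (Spec (CommRingCat.of k)))] (hdim : topologicalKrullDim X = 2)
    (L : X.Modules) (hL : PicF.IsInvertible L)
    (E : X.IdealSheafData) (hEi : IsIntegral E.subscheme) (hE1 : topologicalKrullDim (E.support : Set X) = 1)
    (hEg : Subsingleton (Coh.HH E.subscheme (Coh.structureModule E.subscheme) 1))
    (hEE : FGA.intNum k X 2 ![ClSub.idealMod E, ClSub.idealMod E] (Coh.structureModule X) = -1)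
    (hEH : FGA.intNum k X 2 ![L, ((Scheme.Modules.pullback σ).obj (Twist.twistProjSpace 2 k 1))] (Coh.structureModule X) < 2 * (Curv2.euler k X (CohB1.tensorMod (ClSub.quotMod E) ((Scheme.Modules.pullback σ).obj (Twist.twistProjSpace 2 k 1))) - Curv2.euler k X (ClSub.quotMod E)))
    (hLE : (Curv2.euler k X (CohB1.tensorMod (ClSub.quotMod E) L) - Curv2.euler k X (ClSub.quotMod E)) < -1) :
    Subsingleton (Coh.HH X L 0) := by
  haveI := hEi
  have hX : topologicalKrullDim X = ((2 : ℕ) : WithBot ℕ∞) := by rw [hdim]; rfl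
  let H := (Scheme.Modules.pullback σ).obj (Twist.twistProjSpace 2 k 1)
  have hH : PicF.IsInvertible H := AmpleDevLib.isInvertible_pb σ (PicPnLib.twist_inv 2 k 1)
  have hgg : Curv2.IsGloballyGenerated H := BlowRegLib.gg_pullback σ (BlowRegLib.gg_twist_one (k := k) 2)
  have hE := SurfNumLib.isEffCartier_curve k hX (WeilExtLib.isRegular_stalk_smooth (X ↘ Spec (CommRingCat.of k))) E hE1
  have hI := IntMultLib.isInvertible_idealMod E hE
  rw [SurfNumLib.intNum_eq_pr_two hdim] at hEE hEH
  have hqL := BlowRegLib.N_quot_eq (k := k) E hI hL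
  have hqH := BlowRegLib.N_quot_eq (k := k) E hI hH
  rw [CurvLib.euler_congr (k := k) (HilbPolyLib.swapIso (ClSub.quotMod E) L), hqL] at hLE
  rw [CurvLib.euler_congr (k := k) (HilbPolyLib.swapIso (ClSub.quotMod E) H), hqH] at hEH
  obtain ⟨s, hs⟩ : ∃ s : ℕ, (s : ℤ) = HodgeIdxLib.pr k L (ClSub.idealMod E) :=
    ⟨(HodgeIdxLib.pr k L (ClSub.idealMod E)).toNat, Int.toNat_of_nonneg (by omega)⟩
  have hIs := IntMultLib.isInvertible_idealMod _ (SurfAmpleLib.isEffCartier_pow' hE s)
  have hM := HilbPolyLib.isInvertible_tensor hL hIs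
  have hdeg : ∀ j : ℕ, HodgeIdxLib.pr k (ClSub.idealMod (E ^ j)) H = (j : ℤ) * HodgeIdxLib.pr k (ClSub.idealMod E) H := fun j => by
    induction j with
    | zero =>
      rw [pow_zero, Scheme.IdealSheafData.one_eq_top]
      obtain ⟨e⟩ := BlowPtLib.nonempty_idealMod_top X
      rw [HodgeIdxLib.pr, HodgeIdxLib.N_congr_head (k := k) e, ← HodgeIdxLib.pr, HodgeIdxLib.pr_unit]
      simp
    | succ j ih =>
      obtain ⟨g, -⟩ := SurfNumLib.exists_idealMod_mul (SurfAmpleLib.isEffCartier_pow' hE j) hE
      rw [← pow_succ] at g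
      rw [HodgeIdxLib.pr, HodgeIdxLib.N_congr_head (k := k) g.symm, ← HodgeIdxLib.pr,
        HodgeIdxLib.pr_tensor hX.le (IntMultLib.isInvertible_idealMod _ (SurfAmpleLib.isEffCartier_pow' hE j)) hI hH, ih]
      push_cast
      ring
  have hHE : HodgeIdxLib.pr k H (ClSub.idealMod E) ≤ 0 := by
    haveI := CurvLib.isNoetherian k (X := X)
    have hN : 0 ≤ IntFunLib.N k [H] (ClSub.quotMod E) := IntFunLib.N_nonneg (l := [H]) (by simpa using hH)
      (CurvLib.isCoh_quotMod E) ((IntFunLib.dim_mono (CurvLib.support_quotMod_subset E)).trans hE1.le)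
      fun ξ _ hξ => GrowthLib.N_gg_nonneg hH hgg hξ
    simp only [IntFunLib.N] at hN
    omega
  have hneg : HodgeIdxLib.pr k (CohB1.tensorMod L (ClSub.idealMod (E ^ s))) H < 0 := by
    rw [HodgeIdxLib.pr_tensor hX.le hL hIs hH, hdeg s, HodgeIdxLib.pr_comm (ClSub.idealMod E) H]
    nlinarith
  haveI := BlowRegLib.subsingleton_h0_of_neg (k := k) hX hM hH hgg hneg
  have h0 := BlowRegLib.finrank_h0_negCurve (k := k) hX.le E hE hEi hE1 hEE hL s hs.le
  rw [Module.finrank_zero_of_subsingleton] at h0
  haveI := CurvLib.finite_HH (k := k) (CurvLib.isCoh_of_isInvertible hL) 0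
  exact Module.finrank_zero_iff.1 h0.symm

end Groth.Agent.S16562
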