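import Groth.Statements.S16564
import Mathlib
import Groth.Agent.PlaneRRLib.Basic
import Groth.Agent.SurfNumLib.Config
import Groth.Agent.SurfNumLib.Eff
-- import your own Groth.Agent.* helpers here

set_option autoImplicit false
universe u
open CategoryTheory CategoryTheory.Limits AlgebraicGeometry TopologicalSpace
open Surf

namespace Groth.Agent.S16564

/-- Let k be an algebraically closed field, p_1, …, p_r distinct closed points of the projective plane
P²_k and σ : X → P²_k the blow-up of P²_k in the ideal of the reduced finite set {p_1, …, p_r}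
(universal property), X being regarded over k through σ; X is then an integral smooth proper surface
(carried as hypotheses). Write H = σ^*O(1), (L·M) = χ(O_X) − χ(L) − χ(M) + χ(L ⊗ M) for the
intersection number of invertible modules L, M, and for a closed subscheme C ⊆ X with ideal I_C
write (L·C) = χ(O_C ⊗ L) − χ(O_C) and C² = (I_C·I_C). A (−1)-curve is an integral closed
one-dimensional subscheme E ⊆ X with H¹(E, O_E) = 0 and E² = −1. Call an invertible module M
non-special when at most one of H⁰(X, M), H¹(X, M), H²(X, M) is nonzero. Suppose every invertible M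
with (M·E) ≥ −1 for every (−1)-curve E is non-special (the non-speciality hypothesis for X). Then no
integral closed one-dimensional subscheme C ⊆ X has C² ≤ −2. (The source concludes that the curves
of negative self-intersection are exactly the (−1)-curves; its argument treats C² ≤ −2, which is
what is stated here.) (The source takes the points in general position; that assumption plays no
role here.) -/
theorem result (k : Type u) [Field k] [IsAlgClosed k]
    (r : ℕ) (P : Fin r → ↥(CohB1.ProjSpace 2 k)) (hP : Function.Injective P)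
    (hPc : ∀ i, IsClosed ({P i} : Set ↥(CohB1.ProjSpace 2 k))) (hZ : IsClosed (Set.range P))
    (X : Scheme.{u}) [X.Over (Spec (CommRingCat.of k))] (σ : X ⟶ CohB1.ProjSpace 2 k)
    (hσk : σ ≫ CohB1.ProjSpace.toSpec 2 k = X ↘ (Spec (CommRingCat.of k)))
    (hσ : BlowUp.IsBlowUp σ (Scheme.IdealSheafData.vanishingIdeal ⟨Set.range P, hZ⟩))
    [IsIntegral X] [IsProper (X ↘ (Spec (CommRingCat.of k)))] [Smooth (X ↘ (Spec (CommRingCat.of k)))] (hdim : topologicalKrullDim X = 2)
    (hconj : ∀ (M : X.Modules), PicF.IsInvertible M →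
      (∀ (E : X.IdealSheafData), IsIntegral E.subscheme → topologicalKrullDim (E.support : Set X) = 1 →
        Subsingleton (Coh.HH E.subscheme (Coh.structureModule E.subscheme) 1) →
        FGA.intNum k X 2 ![ClSub.idealMod E, ClSub.idealMod E] (Coh.structureModule X) = -1 →
        -1 ≤ (Curv2.euler k X (CohB1.tensorMod (ClSub.quotMod E) M) - Curv2.euler k X (ClSub.quotMod E))) →
      ((Subsingleton (Coh.HH X M 0) ∧ Subsingleton (Coh.HH X M 1)) ∨ (Subsingleton (Coh.HH X M 0) ∧ Subsingleton (Coh.HH X M 2)) ∨
        (Subsingleton (Coh.HH X M 1) ∧ Subsingleton (Coh.HH X M 2))))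
    (C : X.IdealSheafData) (hCi : IsIntegral C.subscheme) (hC1 : topologicalKrullDim (C.support : Set X) = 1) :
    -1 ≤ FGA.intNum k X 2 ![ClSub.idealMod C, ClSub.idealMod C] (Coh.structureModule X) := by
  have hX : topologicalKrullDim X = ((2 : ℕ) : WithBot ℕ∞) := by rw [hdim]; rfl
  haveI := hCi
  haveI := SurfNumLib.smoothRel_of_dim (k := k) hX
  haveI := CurvLib.isNoetherian k (X := X)
  obtain ⟨W, hW⟩ := ExtTopLib.exists_isExtPow (n := 2) (CohCmpLib.rank_omega (X ↘ Spec (CommRingCat.of k)) 2)
  have hWi := SurfAmpleLib.isInvertible_canonical hX hW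
  have hC := SurfAmpleLib.isEffCartier_curve' k hX C hC1
  have hI := IntMultLib.isInvertible_idealMod C hC
  have hCne : C ≠ ⊥ := fun h => by
    rw [h, Scheme.IdealSheafData.support_bot] at hC1
    have : topologicalKrullDim ((⊤ : Closeds X) : Set X) = topologicalKrullDim X :=
      (Homeomorph.Set.univ X).isHomeomorph.topologicalKrullDim_eq
    rw [hC1, hdim] at this
    exact absurd this (by decide)
  rw [SurfNumLib.intNum_eq_pr_two hdim]
  by_contra hlt
  set M := MiscFlat6.dual (ClSub.idealMod C)
  have hM : PicF.IsInvertible M := MiscFlat6.dual_isInvertible hI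
  obtain ⟨e⟩ := MiscFlat6.nonempty_dualIso hI
  have hinv : ∀ {A : X.Modules}, PicF.IsInvertible A →
      HodgeIdxLib.pr k M A = -HodgeIdxLib.pr k (ClSub.idealMod C) A :=
    fun hA => HodgeIdxLib.pr_inverse (k := k) hX.le hI hM hA e
  have hMM : HodgeIdxLib.pr k M M = HodgeIdxLib.pr k (ClSub.idealMod C) (ClSub.idealMod C) := by
    rw [hinv hM, HodgeIdxLib.pr_comm, hinv hI, neg_neg]
  obtain ⟨φ, hφ, -⟩ := SurfNumLib.exists_section_inverse hI hM (HilbPolyLib.swapIso _ _ ≪≫ e) hCne
  have h0 : Nontrivial (Coh.HH X M 0) := by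
    let ε := (QCohLib.hEquiv ((QCohLib.toAbF X).obj M) 0).trans (QCohLib.h0 (U := (⊤ : Opens X.toTopCat)))
    have hσ : φ.app ⊤ (1 : Γ(X, ⊤)) ≠ 0 := fun h => hφ (by
      rw [SurfNumLib.eq_unitHom φ, h]
      exact ((SurfNumLib.eq_unitHom (0 : Coh.structureModule X ⟶ M)).trans rfl).symm)
    exact ⟨ε.symm (φ.app ⊤ (1 : Γ(X, ⊤))), 0, fun h => hσ (by
      have := congrArg ε h
      rw [map_zero, AddEquiv.apply_symm_apply] at this
      exact this)⟩
  have hH := AmpleDevLib.isInvertible_pb σ (PicPnLib.twist_inv 2 k 1)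
  have hMH := BlowRegLib.nonneg_of_section_gg (k := k) hX hM hH
    (BlowRegLib.gg_pullback σ (BlowRegLib.gg_twist_one (k := k) 2)) hφ
  have h2 := PlaneRRLib.subsingleton_h2 hP hPc hZ hσk hσ hX hW hM (by omega)
  have h1 : Subsingleton (Coh.HH X M 1) := by
    have hk := hconj M hM (fun E hEi hE1 hEg hEE => by
      haveI := hEi
      rw [SurfNumLib.intNum_eq_pr_two hdim] at hEE
      have hne : C ≠ E := fun h => by subst h; omega
      have hE := SurfAmpleLib.isEffCartier_curve' k hX E hE1
      have hnn := SurfNumLib.pr_curves_nonneg (k := k) hC hE hE1 (SurfNumLib.not_subset_of_ne hC1 hE1 hne)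
      rw [CurvLib.euler_congr (k := k) (HilbPolyLib.swapIso (ClSub.quotMod E) M),
        BlowRegLib.N_quot_eq (k := k) E (IntMultLib.isInvertible_idealMod E hE) hM,
        hinv (IntMultLib.isInvertible_idealMod E hE)]
      omega)
    rcases hk with h | h | h
    · exact absurd h0 (not_nontrivial_iff_subsingleton.2 h.1)
    · exact absurd h0 (not_nontrivial_iff_subsingleton.2 h.1)
    · exact h.1
  obtain ⟨hO, -, -⟩ := PlaneRRLib.numbers hP hPc hZ hσk hσ hX hW
  have hR := SurfAmpleLib.riemann_roch hX hW hM
  rw [hO, SurfNumLib.euler_eq_three (k := k) hX.le, hMM, hinv hWi] at hR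
  have hA := SurfAmpleLib.curve_adjunction hX hW C hC1
  have e1 : HodgeIdxLib.hh k M 1 = 0 := Module.finrank_zero_of_subsingleton
  have e2 : HodgeIdxLib.hh k M 2 = 0 := Module.finrank_zero_of_subsingleton
  have e0 : 0 < HodgeIdxLib.hh k M 0 := by
    haveI := CurvLib.finite_HH (k := k) (CurvLib.isCoh_of_isInvertible hM) 0
    exact Module.finrank_pos_iff.2 h0
  omega

end Groth.Agent.S16564
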