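import Groth.Statements.S16565
import Groth.Agent.EllSecLib.LowLeray
import Groth.Agent.EllSecLib.Hirz
import Groth.Agent.FormalCohLib.Counit
-- import your own Groth.Agent.* helpers here

set_option autoImplicit false
set_option backward.isDefEq.respectTransparency false
set_option backward.isDefEq.respectTransparency.types false
set_option maxHeartbeats 1000000
universe u
open CategoryTheory CategoryTheory.Limits AlgebraicGeometry TopologicalSpace
open Surf

open TopologicalSpace HilbPolyLib DevissLib IntMultLib IntFunLib HodgeIdxLib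
open KFlatLib (pb)

namespace Groth.Agent.S16565

theorem injective_of_finrank {K V₁ V₂ V₃ W₁ W₂ : Type*} [DivisionRing K] [AddCommGroup V₁] [Module K V₁] [AddCommGroup V₂] [Module K V₂]
    [AddCommGroup V₃] [Module K V₃] [AddCommGroup W₁] [Module K W₁] [AddCommGroup W₂] [Module K W₂]
    (h₂ : Module.Finite K V₂) (h₃ : Module.Finite K V₃) (f : V₁ →ₗ[K] V₂) (g : V₂ →ₗ[K] V₃) (δ : V₃ →ₗ[K] W₁) (f' : W₁ →ₗ[K] W₂)
    (hf : Function.Injective f) (hfg : LinearMap.range f = LinearMap.ker g) (hgd : LinearMap.range g = LinearMap.ker δ)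
    (hdf : LinearMap.range δ = LinearMap.ker f')
    (h : Module.finrank K V₂ = Module.finrank K V₁ + Module.finrank K V₃) : Function.Injective f' := by
  have a1 := LinearMap.finrank_range_add_finrank_ker g
  rw [← hfg, LinearMap.finrank_range_of_inj hf] at a1
  have hg : LinearMap.range g = ⊤ := Submodule.eq_top_of_finrank_eq (by omega)
  have hd : δ = 0 := LinearMap.ker_eq_top.1 (by rw [← hgd, hg])
  rw [← LinearMap.ker_eq_bot, ← hdf, hd, LinearMap.range_zero]

theorem restrict_surj_h1 {k : Type u} [Field k] {X : Scheme.{u}} [X.Over (Spec (CommRingCat.of k))]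
    [IsProper (X ↘ (Spec (CommRingCat.of k)))] [IsIntegral X] {L : X.Modules} (hL : PicF.IsInvertible L) (J : X.IdealSheafData)
    (hres : hh k L 0 = hh k (CohB1.tensorMod L (ClSub.idealMod J)) 0 + hh k (CohB1.tensorMod (ClSub.quotMod J) L) 0) :
    hh k (CohB1.tensorMod L (ClSub.idealMod J)) 1 ≤ hh k L 1 ∧
      (Subsingleton (Coh.HH X L 1) → Subsingleton (Coh.HH X (CohB1.tensorMod L (ClSub.idealMod J)) 1)) := by
  haveI := CurvLib.isNoetherian k (X := X)
  let T := (CurvLib.idealSeq J).map (CurvLib.tensorLeft' L)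
  have hT : T.ShortExact := HilbPolyLib.shortExact_tensor hL (CurvLib.idealSeq_shortExact J)
  let e₂ : T.X₂ ≅ L := swapIso _ _ ≪≫ unitLeft L
  have c₂ : Coh.IsCoh T.X₂ := HilbPolyLib.isCoh_tensor hL (DevissLib.isCoh_structureModule X)
  have c₃ : Coh.IsCoh T.X₃ := HilbPolyLib.isCoh_tensor hL (CurvLib.isCoh_quotMod J)
  have hdimeq : hh k T.X₂ 0 = hh k T.X₁ 0 + hh k T.X₃ 0 := by
    rw [hh_congr (k := k) e₂ 0, hh_congr (k := k) (show T.X₃ ≅ _ from swapIso L (ClSub.quotMod J)) 0]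
    exact hres
  have hinj := injective_of_finrank (K := k) (CurvLib.finite_HH (k := k) c₂ 0) (CurvLib.finite_HH (k := k) c₃ 0)
    (CurvLib.hMap (k := k) T.f 0) (CurvLib.hMap (k := k) T.g 0) (CurvLib.hDel (k := k) hT 0)
    (CurvLib.hMap (k := k) T.f (0 + 1)) (CurvLib.injective₀ hT) (CurvLib.exact₂ (k := k) hT 0)
    (CurvLib.exact₃ (k := k) hT 0) (CurvLib.exact₁ (k := k) hT 0) hdimeq
  haveI : Module.Finite k (Coh.HH X T.X₂ 1) := CurvLib.finite_HH (k := k) c₂ 1
  refine ⟨?_, fun h => ?_⟩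
  · rw [← hh_congr (k := k) e₂ 1]
    exact LinearMap.finrank_le_finrank_of_injective (f := CurvLib.hMap (k := k) T.f (0 + 1)) hinj
  · haveI : Subsingleton (Coh.HH X T.X₂ (0 + 1)) := (CurvLib.hIso (k := k) e₂ 1).toEquiv.subsingleton
    exact (show Function.Injective (CurvLib.hMap (k := k) T.f (0 + 1)) from hinj).subsingleton

theorem hh_edge {k : Type u} [Field k] {X Y : Scheme.{u}} [X.Over (Spec (CommRingCat.of k))] [Y.Over (Spec (CommRingCat.of k))]
    (π : X ⟶ Y) (hπ : π ≫ (Y ↘ Spec (CommRingCat.of k)) = X ↘ Spec (CommRingCat.of k)) [HasInjectiveResolutions X.Modules]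
    (F : X.Modules) (h : Module.Finite k (Coh.HH X F 1)) :
    hh k ((Coh.push π).obj F) 1 ≤ hh k F 1 ∧ (IsZero ((Coh.Rpush π 1).obj F) →
      hh k ((Coh.push π).obj F) 1 = hh k F 1 ∧ (Subsingleton (Coh.HH Y ((Coh.push π).obj F) 1) → Subsingleton (Coh.HH X F 1))) := by
  obtain ⟨g, hg, hgs⟩ := EllSecLib.exists_edge_linear k π hπ F
  exact ⟨LinearMap.finrank_le_finrank_of_injective (f := g) hg, fun h1 =>
    ⟨(LinearEquiv.ofBijective g ⟨hg, hgs h1⟩).finrank_eq, fun _ => (hgs h1).subsingleton⟩⟩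

/-- Let X be a smooth proper integral surface over an algebraically closed field k, π : X → P¹_k a
surjective k-morphism, L an invertible O_X-module with R¹π_*L = 0, q a closed point of P¹_k and F =
π⁻¹(q) its fibre, with ideal I_F. Assume the restriction map H⁰(X, L) → H⁰(F, L|_F) is surjective,
stated as dim_k H⁰(X, L) = dim_k H⁰(X, L ⊗ I_F) + dim_k H⁰(X, L ⊗ O_F) (the sequence 0 → L ⊗ I_F → L
→ L ⊗ O_F → 0 being exact). Then H¹(X, L) = 0 = H¹(X, L ⊗ I_F), and H¹(P¹_k, π_*L ⊗ O(−1)) = 0, i.e.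
the line bundle summands of π_*L all have degree ≥ 0. (The source states this for the blow-up of
P²_k at points in general position fibred over P¹_k by projection from one of the points; its
argument uses only a smooth projective surface mapping onto P¹_k.) -/
theorem result (k : Type u) [Field k] [IsAlgClosed k]
    (X : Scheme.{u}) [X.Over (Spec (CommRingCat.of k))] [IsIntegral X] [IsProper (X ↘ (Spec (CommRingCat.of k)))] [Smooth (X ↘ (Spec (CommRingCat.of k)))]
    (hdim : topologicalKrullDim X = 2) [HasInjectiveResolutions X.Modules]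
    (π : X ⟶ CohB1.ProjSpace 1 k) (hπk : π ≫ CohB1.ProjSpace.toSpec 1 k = X ↘ (Spec (CommRingCat.of k))) (hπs : Function.Surjective π)
    (L : X.Modules) (hL : PicF.IsInvertible L) (hR1 : IsZero ((Coh.Rpush π 1).obj L))
    (q : ↥(CohB1.ProjSpace 1 k)) (hq : IsClosed ({q} : Set ↥(CohB1.ProjSpace 1 k)))
    (hres : Module.finrank k (Coh.HH X L 0) =
      Module.finrank k (Coh.HH X (CohB1.tensorMod L (ClSub.idealMod ((Scheme.IdealSheafData.vanishingIdeal ⟨{q}, hq⟩).comap π))) 0) +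
        Module.finrank k (Coh.HH X (CohB1.tensorMod (ClSub.quotMod ((Scheme.IdealSheafData.vanishingIdeal ⟨{q}, hq⟩).comap π)) L) 0)) :
    Subsingleton (Coh.HH X L 1) ∧ Subsingleton (Coh.HH X (CohB1.tensorMod L (ClSub.idealMod ((Scheme.IdealSheafData.vanishingIdeal ⟨{q}, hq⟩).comap π))) 1) ∧
      Subsingleton (Coh.HH (CohB1.ProjSpace 1 k) (CohB1.tensorMod ((Coh.push π).obj L) (Twist.twistProjSpace 1 k (-1))) 1) := by
  haveI := CurvLib.isNoetherian k (X := X)
  haveI := CurvLib.isNoetherian k (X := CohB1.ProjSpace 1 k)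
  have hπ : π ≫ ((CohB1.ProjSpace 1 k) ↘ Spec (CommRingCat.of k)) = X ↘ Spec (CommRingCat.of k) := hπk
  haveI : IsProper π :=
    haveI : IsProper (π ≫ ((CohB1.ProjSpace 1 k) ↘ Spec (CommRingCat.of k))) := by rw [hπ]; infer_instance
    IsProper.of_comp π ((CohB1.ProjSpace 1 k) ↘ Spec (CommRingCat.of k))
  haveI : Surjective π := ⟨hπs⟩
  have hP1 : topologicalKrullDim (CohB1.ProjSpace 1 k) = 1 := VBP1Lib.dim_line k
  have hO : ∀ d : ℤ, PicF.IsInvertible (Twist.twistProjSpace 1 k d) := fun d => VBP1Lib.twist_inv k d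
  obtain ⟨eq1⟩ : Nonempty (ClSub.idealMod (GenusZeroLib.ptIdeal hq) ≅ Twist.twistProjSpace 1 k (-1)) := by
    haveI := HurwitzLib.dvr_stalk_closed (k := k) hP1 hq
    obtain ⟨I, ⟨eI⟩, hI, hId⟩ := GenusZeroLib.exists_idealMod_iso (k := k) hq hP1
    have hres : (letI : Algebra k ((CohB1.ProjSpace 1 k).residueField q) := Curv2.resAlgebra k (CohB1.ProjSpace 1 k) q
        Module.finrank k ((CohB1.ProjSpace 1 k).residueField q)) = 1 := by
      letI : Algebra k ((CohB1.ProjSpace 1 k).residueField q) := Curv2.resAlgebra k (CohB1.ProjSpace 1 k) q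
      haveI := HurwitzLib.finite_residueField (k := k) hq
      exact ((AlgEquiv.ofBijective (Algebra.ofId k ((CohB1.ProjSpace 1 k).residueField q))
        (IsAlgClosed.algebraMap_bijective_of_isIntegral (k := k))).toLinearEquiv.finrank_eq).symm.trans
          (Module.finrank_self k)
    obtain ⟨e⟩ := VBP1Lib.exists_iso_twist k hI
    rw [hres] at hId
    exact ⟨eI.symm ≪≫ e ≪≫ eqToIso (by rw [hId]; rfl)⟩
  obtain ⟨eF⟩ := SurfAmpleLib.nonempty_fibreIdeal_iso k hP1 π hq
  set J := (Scheme.IdealSheafData.vanishingIdeal ⟨{q}, hq⟩).comap π with hJ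
  let eI : ClSub.idealMod J ≅ pb π (Twist.twistProjSpace 1 k (-1)) :=
    eqToIso (by rw [hJ, SurfAmpleLib.ker_fiberι_eq π hq]) ≪≫ eF ≪≫ (Scheme.Modules.pullback π).mapIso eq1
  have hIi : PicF.IsInvertible (ClSub.idealMod J) :=
    HilbPolyLib.isInvertible_of_iso eI.symm (AmpleDevLib.isInvertible_pb π (hO (-1)))
  set E := (Coh.push π).obj L
  have hEc : Coh.IsCoh E := FormalCohLib.isCoh_push_proper π (CurvLib.isCoh_of_isInvertible hL)
  let eP : (Coh.push π).obj (CohB1.tensorMod L (ClSub.idealMod J)) ≅ CohB1.tensorMod E (Twist.twistProjSpace 1 k (-1)) :=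
    (Coh.push π).mapIso (swapIso L (ClSub.idealMod J) ≪≫ congrLeft eI L) ≪≫
      (@asIso _ _ _ _ (ProjFormLib.projApp π (Twist.twistProjSpace 1 k (-1)) L)
        (ProjFormLib.isIso_projApp π (CurveVBLib.isFinLocFree_of_rank (CurvLib.locFree_of_isInvertible (hO _))) L)).symm ≪≫
      swapIso _ _
  obtain ⟨r₁, r₂⟩ := restrict_surj_h1 (k := k) hL J hres
  obtain ⟨-, g₀⟩ := hh_edge (k := k) π hπ L (CurvLib.finite_HH (k := k) (CurvLib.isCoh_of_isInvertible hL) 1)
  obtain ⟨g₀e, g₀s⟩ := g₀ hR1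
  obtain ⟨g₁, -⟩ := hh_edge (k := k) π hπ (CohB1.tensorMod L (ClSub.idealMod J))
    (CurvLib.finite_HH (k := k) (HilbPolyLib.isCoh_tensor hL (CurvLib.isCoh_of_isInvertible hIi)) 1)
  obtain ⟨hE, hE'⟩ := EllSecLib.subsingleton_h1_of_le k hEc (by
    rw [← hh_congr (k := k) eP 1, g₀e]
    exact g₁.trans r₁)
  exact ⟨g₀s hE, r₂ (g₀s hE), hE'⟩

end Groth.Agent.S16565
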