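import Groth.Statements.S1747
import Groth.Agent.DualCxLib.Uniq

set_option autoImplicit false
universe u
open CategoryTheory
attribute [local instance] HasDerivedCategory.standard
open Dual

namespace Groth.Agent.S1747

/-- Let A be a Noetherian local ring. If ω and ω' are both dualizing complexes for A, then ω' ≅ ω[n] in
D(A) for some integer n. The published statement is over an arbitrary Noetherian ring, with the
tensor product by an invertible object of D(A) in place of the shift; over a local ring the
invertible objects of D(A) are exactly the shifts A[n], which gives the form stated here. -/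
theorem result (A : Type u) [CommRing A] [IsLocalRing A] [IsNoetherianRing A] (ω ω' : Dual.D A) (hω : Dual.IsDualizing A ω) (hω' : Dual.IsDualizing A ω') : ∃ n : ℤ, Nonempty (ω' ≅ ω⟦n⟧) := by
  obtain ⟨d, hd⟩ := Groth.Agent.DualCxLib.isPointwiseDual_of_isDualizing hω
  obtain ⟨d', hd'⟩ := Groth.Agent.DualCxLib.isPointwiseDual_of_isDualizing hω'
  obtain ⟨e⟩ := Groth.Agent.DualCxLib.nonempty_iso_shift hd' hd
  exact ⟨d - d', ⟨e.symm⟩⟩

end Groth.Agent.S1747
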