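import Groth.Statements.S1657
import Groth.Agent.PluriEmbLib.Main
import Groth.Agent.NodalLib.Dualizing
import Groth.Agent.NefH1Lib.Adjunction.GorCurve
import Groth.Agent.SurfNumLib.K3
import Groth.Agent.AmpleDevLib.Components
import Groth.Agent.CurveDualLib.Family
import Groth.Agent.DuFunLib.Main
import Groth.Agent.S6576

set_option autoImplicit false
set_option backward.isDefEq.respectTransparency false
set_option backward.isDefEq.respectTransparency.types false
set_option maxHeartbeats 1000000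
universe u
open CategoryTheory CategoryTheory.Limits AlgebraicGeometry
attribute [local instance] HasDerivedCategory.standard
open Curves

namespace Groth.Agent.S1657

/-- The dualizing module after extending the field. -/
theorem bc_iso (k : Type u) [Field k] (K : Type u) [Field K] [Algebra k K] (X : Scheme.{u})
    [X.Over (Spec (CommRingCat.of k))] [IsProper (X ↘ (Spec (CommRingCat.of k)))] (hdim : topologicalKrullDim X ≤ 1)
    [DCoh.HasRpush (X ↘ (Spec (CommRingCat.of k)))] (h : DCoh.RpushPreservesQCoh (X ↘ (Spec (CommRingCat.of k)))) [DCoh.HasShriek (X ↘ (Spec (CommRingCat.of k))) h]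
    (OY : DCoh.DQCoh (Spec (CommRingCat.of k))) (hOY : Nonempty (OY.obj ≅ DCoh.inD (Spec (CommRingCat.of k)) (Coh.structureModule (Spec (CommRingCat.of k)))))
    [DCoh.HasRpush (Curv2.bcSnd k X K)] (hK : DCoh.RpushPreservesQCoh (Curv2.bcSnd k X K)) [DCoh.HasShriek (Curv2.bcSnd k X K) hK]
    (OK : DCoh.DQCoh (Spec (CommRingCat.of K))) (hOK : Nonempty (OK.obj ≅ DCoh.inD (Spec (CommRingCat.of K)) (Coh.structureModule (Spec (CommRingCat.of K))))) :
    Nonempty ((Scheme.Modules.pullback (Curv2.bcFst k X K)).obj (DCoh.dualizingMod (X ↘ (Spec (CommRingCat.of k))) h OY 1) ≅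
      DCoh.dualizingMod (Curv2.bcSnd k X K) hK OK 1) :=
  Groth.Agent.S6576.result k X hdim h OY hOY K hK OK hOK

/-- The statement, through an algebraically closed extension. -/
theorem aux (k : Type u) [Field k] (K : Type u) [Field K] [Algebra k K] [IsAlgClosed K] (X : Scheme.{u}) [X.Over (Spec (CommRingCat.of k))] [IsProper (X ↘ (Spec (CommRingCat.of k)))] (hdim : topologicalKrullDim X = 1)
    (h0 : Module.finrank k (Coh.HH X (Coh.structureModule X) 0) = 1) (hg : 2 ≤ Curv2.genus k X) (hX : Curv2.AtWorstNodal k X)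
    [DCoh.HasRpush (X ↘ (Spec (CommRingCat.of k)))] (h : DCoh.RpushPreservesQCoh (X ↘ (Spec (CommRingCat.of k)))) [DCoh.HasShriek (X ↘ (Spec (CommRingCat.of k))) h]
    (OY : DCoh.DQCoh (Spec (CommRingCat.of k))) (hOY : Nonempty (OY.obj ≅ DCoh.inD (Spec (CommRingCat.of k)) (Coh.structureModule (Spec (CommRingCat.of k)))))
    (hample : CohB1.IsAmple (DCoh.dualizingMod (X ↘ (Spec (CommRingCat.of k))) h OY 1)) :
    (∃ (n : ℕ) (i : X ⟶ CohB1.ProjSpace n k), IsClosedImmersion i ∧ i ≫ CohB1.ProjSpace.toSpec n k = X ↘ (Spec (CommRingCat.of k)) ∧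
      Nonempty ((Scheme.Modules.pullback i).obj (Twist.twistProjSpace n k 1) ≅ CohB1.tensorPow (DCoh.dualizingMod (X ↘ (Spec (CommRingCat.of k))) h OY 1) 3)) ∧
      Subsingleton (Coh.HH X (CohB1.tensorPow (DCoh.dualizingMod (X ↘ (Spec (CommRingCat.of k))) h OY 1) 3) 1) := by
  let ω := DCoh.dualizingMod (X ↘ (Spec (CommRingCat.of k))) h OY 1
  obtain ⟨hred, hconn, hω⟩ := NodalLib.setup k hdim h0 hX h OY hOY
  haveI := hred
  haveI := hconn
  letI := VeryAmpleLib.bcOver k X K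
  let X' := Curv2.bc k X K
  let g := Curv2.bcFst k X K
  haveI hp' : IsProper (X' ↘ Spec (CommRingCat.of K)) := VeryAmpleLib.isProper_bc k X K
  haveI : IsProper (Curv2.bcSnd k X K) := hp'
  have hdimK : topologicalKrullDim ↥X' = 1 := PluriEmbLib.dim_bc k X K hdim
  have hXK : Curv2.AtWorstNodal K X' := NodalLib.atWorstNodal_bc k K hdim.le hX
  haveI : AlgebraicGeometry.IsReduced X' := NodalLib.isReduced K hXK
  have h0K := (VeryAmpleLib.h0_bc k X K).trans h0
  haveI : Nonempty X' := by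
    obtain ⟨y, -⟩ := GeoPtLib.surjective_fst (K := K) (X ↘ Spec (CommRingCat.of k)) (Classical.arbitrary X)
    exact ⟨y⟩
  haveI : ConnectedSpace ↥X' := SurfNumLib.connected_of_h0 (k := K) (X := X') h0K
  haveI : CompactSpace X' := QuasiCompact.compactSpace_of_compactSpace (X' ↘ Spec (CommRingCat.of K))
  haveI : QuasiSeparatedSpace X' := quasiSeparatedSpace_of_quasiSeparated (X' ↘ Spec (CommRingCat.of K))
  haveI : DCoh.HasRpush (Curv2.bcSnd k X K) := DCohRestrLib.hasRpush _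
  haveI : DCoh.HasRpush (X' ↘ Spec (CommRingCat.of K)) := show DCoh.HasRpush (Curv2.bcSnd k X K) from inferInstance
  have hK : DCoh.RpushPreservesQCoh (Curv2.bcSnd k X K) := fun M hM => QRlimLib.isQCohD_rpush _ hM
  haveI : DCoh.HasShriek (Curv2.bcSnd k X K) hK := KoszOrthLib.isLeftAdjoint_rpushQ _ hK
  haveI : DCoh.HasShriek (X' ↘ Spec (CommRingCat.of K)) hK := show DCoh.HasShriek (Curv2.bcSnd k X K) hK from inferInstance
  let OK : DCoh.DQCoh (Spec (CommRingCat.of K)) :=
    ⟨DCoh.inD _ (Coh.structureModule _), PerfBaseLib.isQCohD_inD _ QCohLib.isQCoh_unit⟩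
  obtain ⟨eω⟩ := bc_iso k K X hdim.le h OY hOY hK OK ⟨Iso.refl _⟩
  let ω' := DCoh.dualizingMod (X' ↘ Spec (CommRingCat.of K)) hK OK 1
  obtain ⟨-, -, hω'⟩ := NodalLib.setup K hdimK h0K hXK hK OK ⟨Iso.refl _⟩
  obtain ⟨hdual, hχ⟩ := NefH1Lib.Adj.setup K hdimK hK OK ⟨Iso.refl _⟩
  obtain ⟨ep⟩ := CurveDualLib.nonempty_pb_tensorPow g ω 3
  let e3 : (Scheme.Modules.pullback g).obj (CohB1.tensorPow ω 3) ≅ CohB1.tensorPow ω' 3 :=
    ep ≪≫ DuFunLib.tensorPowCongr eω 3
  have hA' : CohB1.IsAmple ω' := by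
    haveI : IsAffineHom g := MorphismProperty.pullback_fst _ _ inferInstance
    exact AmpleDevLib.isAmple_of_iso (AmpleDevLib.isInvertible_pb g hω) hω' eω (AmpleDevLib.isAmple_pb g hω hample)
  have hgK : 2 ≤ Curv2.genus K X' := hg.trans (VeryAmpleLib.genus_bc k X K).ge
  refine PluriEmbLib.exists_embedding K hdimK (AmpleThLib.tensorPow_isInvertible hω 3)
    ((AmpleThLib.isAmple_tensorPow_iff hω (Nat.succ_pos 2)).mp hample) ?_
  intro J hr hc hd
  have h1 : NefH1Lib.Adj.dJ K ((Scheme.Modules.pullback g).obj (CohB1.tensorPow ω 3)) J =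
      (3 : ℤ) * NefH1Lib.Adj.dJ K ω' J := by
    refine Eq.trans ?_ (NefH1Lib.Adj.deg_pow_sub K hdimK hω' 3 J hr hc hd)
    letI : J.subscheme.Over (Spec (CommRingCat.of K)) := ⟨J.subschemeι ≫ (X' ↘ Spec (CommRingCat.of K))⟩
    exact CurvLib.deg_congr (k := K) ((Scheme.Modules.pullback J.subschemeι).mapIso e3) 1
  have h2 : NefH1Lib.Adj.dJ K ω' J = 2 * (NefH1Lib.Adj.gJ K J : ℤ) - 2 + NefH1Lib.Adj.kJ K J :=
    NefH1Lib.Adj.deg_dualizing_sub K hdimK hω' hdual hχ J hr hc hd
  have h3 := (NefH1Lib.Adj.deg_pos_of_ample K hdimK hA' J hr hc hd).1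
  change 2 * (NefH1Lib.Adj.gJ K J : ℤ) + 1 ≤ NefH1Lib.Adj.dJ K ((Scheme.Modules.pullback g).obj (CohB1.tensorPow ω 3)) J
  rw [h1]
  rcases NefH1Lib.Adj.whole_or_meets K hdimK J hr hc hd with ⟨hg', hk', -⟩ | hk'
  · rw [hk'] at h2
    rw [hg'] at h2 ⊢
    omega
  · omega

/-- Let X be proper of dimension one over k with global functions k and genus g ≥ 2, with at-worst-nodal
singularities, and let ω_X be its dualizing module (degree -1 cohomology sheaf of f^! O for f : X →
Spec k, assuming Rf_* on D_QCoh and its right adjoint exist). If ω_X is ample, then ω_X^{⊗3} is very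
ample — some closed immersion i : X → P^n_k over k has i^* O(1) ≅ ω_X^{⊗3} — and H^1(X, ω_X^{⊗3}) =
0. -/
theorem result (k : Type u) [Field k] (X : Scheme.{u}) [X.Over (Spec (CommRingCat.of k))] [IsProper (X ↘ (Spec (CommRingCat.of k)))] (hdim : topologicalKrullDim X = 1)
    (h0 : Module.finrank k (Coh.HH X (Coh.structureModule X) 0) = 1) (hg : 2 ≤ Curv2.genus k X) (hX : Curv2.AtWorstNodal k X)
    [DCoh.HasRpush (X ↘ (Spec (CommRingCat.of k)))] (h : DCoh.RpushPreservesQCoh (X ↘ (Spec (CommRingCat.of k)))) [DCoh.HasShriek (X ↘ (Spec (CommRingCat.of k))) h]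
    (OY : DCoh.DQCoh (Spec (CommRingCat.of k))) (hOY : Nonempty (OY.obj ≅ DCoh.inD (Spec (CommRingCat.of k)) (Coh.structureModule (Spec (CommRingCat.of k)))))
    (hample : CohB1.IsAmple (DCoh.dualizingMod (X ↘ (Spec (CommRingCat.of k))) h OY 1)) :
    (∃ (n : ℕ) (i : X ⟶ CohB1.ProjSpace n k), IsClosedImmersion i ∧ i ≫ CohB1.ProjSpace.toSpec n k = X ↘ (Spec (CommRingCat.of k)) ∧
      Nonempty ((Scheme.Modules.pullback i).obj (Twist.twistProjSpace n k 1) ≅ CohB1.tensorPow (DCoh.dualizingMod (X ↘ (Spec (CommRingCat.of k))) h OY 1) 3)) ∧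
      Subsingleton (Coh.HH X (CohB1.tensorPow (DCoh.dualizingMod (X ↘ (Spec (CommRingCat.of k))) h OY 1) 3) 1) := by
  exact aux k (AlgebraicClosure k) X hdim h0 hg hX h OY hOY hample

end Groth.Agent.S1657
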