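import Groth.Statements.S16572
import Mathlib
-- import your own Groth.Agent.* helpers here

set_option autoImplicit false
universe u
open CAlg

namespace Groth.Agent.S16572

/-- Let A be a commutative ring and T the quotient of the polynomial ring over A in indeterminates X_P,
one for each monic polynomial P over A of positive degree, by the ideal generated by the elements
P(X_P). Then the map on prime spectra Spec T → Spec A is surjective, and for every prime ideal Q of
T, with p its contraction to A, the residue field of Q is algebraically closed and integral over the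
residue field of p under the induced map of residue fields (so it is an algebraic closure of it). -/
theorem result (A : Type u) [CommRing A] :
    Function.Surjective (PrimeSpectrum.comap (algebraMap A (MvPolynomial {P : Polynomial A // P.Monic ∧ 0 < P.natDegree} A ⧸
      Ideal.span (Set.range fun P : {P : Polynomial A // P.Monic ∧ 0 < P.natDegree} =>
        Polynomial.aeval (MvPolynomial.X (R := A) P) P.1)))) ∧
    ∀ (Q : Ideal (MvPolynomial {P : Polynomial A // P.Monic ∧ 0 < P.natDegree} A ⧸
      Ideal.span (Set.range fun P : {P : Polynomial A // P.Monic ∧ 0 < P.natDegree} =>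
        Polynomial.aeval (MvPolynomial.X (R := A) P) P.1))) [Q.IsPrime],
      IsAlgClosed Q.ResidueField ∧
      (Ideal.ResidueField.map (Q.comap (algebraMap A (MvPolynomial {P : Polynomial A // P.Monic ∧ 0 < P.natDegree} A ⧸
      Ideal.span (Set.range fun P : {P : Polynomial A // P.Monic ∧ 0 < P.natDegree} =>
        Polynomial.aeval (MvPolynomial.X (R := A) P) P.1)))) Q (algebraMap A (MvPolynomial {P : Polynomial A // P.Monic ∧ 0 < P.natDegree} A ⧸
      Ideal.span (Set.range fun P : {P : Polynomial A // P.Monic ∧ 0 < P.natDegree} =>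
        Polynomial.aeval (MvPolynomial.X (R := A) P) P.1))) rfl).IsIntegral := by
  classical
  set ι := {P : Polynomial A // P.Monic ∧ 0 < P.natDegree}
  set J : Ideal (MvPolynomial ι A) := Ideal.span (Set.range fun P : ι =>
    Polynomial.aeval (MvPolynomial.X (R := A) P) P.1)
  refine ⟨fun p => ?_, fun Q _ => ?_⟩
  · let K := AlgebraicClosure p.asIdeal.ResidueField
    letI : Algebra A K := ((algebraMap p.asIdeal.ResidueField K).comp (algebraMap A p.asIdeal.ResidueField)).toAlgebra
    have hroot : ∀ P : ι, ∃ x : K, Polynomial.aeval x P.1 = 0 := by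
      intro P
      obtain ⟨x, hx⟩ := IsAlgClosed.exists_root (P.1.map (algebraMap A K)) (by
        rw [Polynomial.degree_eq_natDegree (P.2.1.map _).ne_zero, P.2.1.natDegree_map]
        exact_mod_cast P.2.2.ne')
      refine ⟨x, ?_⟩
      rw [Polynomial.IsRoot, Polynomial.eval_map] at hx
      exact hx
    choose r hr using hroot
    let g : MvPolynomial ι A ⧸ J →ₐ[A] K := Ideal.Quotient.liftₐ J (MvPolynomial.aeval r) (by
      intro x hx
      refine (Ideal.span_le (I := RingHom.ker (MvPolynomial.aeval r : MvPolynomial ι A →ₐ[A] K))).2 ?_ hx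
      rintro _ ⟨P, rfl⟩
      show MvPolynomial.aeval r (Polynomial.aeval (MvPolynomial.X P) P.1) = 0
      rw [← Polynomial.aeval_algHom_apply, MvPolynomial.aeval_X]
      exact hr P)
    refine ⟨⟨RingHom.ker g.toRingHom, RingHom.ker_isPrime _⟩, PrimeSpectrum.ext ?_⟩
    ext a
    show g (algebraMap A _ a) = 0 ↔ a ∈ p.asIdeal
    rw [AlgHom.commutes]
    show algebraMap p.asIdeal.ResidueField K (algebraMap A _ a) = 0 ↔ _
    rw [map_eq_zero_iff _ (algebraMap p.asIdeal.ResidueField K).injective,
      Ideal.algebraMap_residueField_eq_zero]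
  · set p := Q.comap (algebraMap A (MvPolynomial ι A ⧸ J)) with hp
    set φ := Ideal.ResidueField.map p Q (algebraMap A (MvPolynomial ι A ⧸ J)) rfl with hφ
    letI : Algebra p.ResidueField Q.ResidueField := φ.toAlgebra
    haveI : IsScalarTower A p.ResidueField Q.ResidueField := IsScalarTower.of_algebraMap_eq fun a => by
      show algebraMap A Q.ResidueField a = φ (algebraMap A p.ResidueField a)
      rw [hφ, Ideal.ResidueField.map_algebraMap]
      exact IsScalarTower.algebraMap_apply A (MvPolynomial ι A ⧸ J) Q.ResidueField a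
    let t : ι → Q.ResidueField := fun P => algebraMap (MvPolynomial ι A ⧸ J) Q.ResidueField
      (Ideal.Quotient.mk J (MvPolynomial.X P))
    have ht : ∀ P : ι, Polynomial.aeval (t P) P.1 = 0 := by
      intro P
      show Polynomial.aeval (((IsScalarTower.toAlgHom A (MvPolynomial ι A ⧸ J) Q.ResidueField).comp
        (Ideal.Quotient.mkₐ A J)) (MvPolynomial.X P)) P.1 = 0
      rw [Polynomial.aeval_algHom_apply, AlgHom.comp_apply]
      have : Ideal.Quotient.mkₐ A J (Polynomial.aeval (MvPolynomial.X P) P.1) = 0 :=
        Ideal.Quotient.eq_zero_iff_mem.2 (Ideal.subset_span ⟨P, rfl⟩)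
      rw [this, map_zero]
    have htint : ∀ x : MvPolynomial ι A, IsIntegral A (algebraMap (MvPolynomial ι A ⧸ J) Q.ResidueField
        (Ideal.Quotient.mk J x)) := by
      intro x
      induction x using MvPolynomial.induction_on with
      | C a =>
        show IsIntegral A (algebraMap (MvPolynomial ι A ⧸ J) Q.ResidueField (algebraMap A _ a))
        rw [← IsScalarTower.algebraMap_apply]
        exact isIntegral_algebraMap
      | add f g hf hg => rw [map_add, map_add]; exact hf.add hg
      | mul_X f P hf =>
        rw [map_mul, map_mul]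
        exact hf.mul ⟨P.1, P.2.1, by rw [← Polynomial.aeval_def]; exact ht P⟩
    have hint : ∀ y : Q.ResidueField, IsIntegral p.ResidueField y := by
      intro y
      obtain ⟨a, b, -, rfl⟩ := IsFractionRing.div_surjective ((MvPolynomial ι A ⧸ J) ⧸ Q) y
      obtain ⟨a, rfl⟩ := Ideal.Quotient.mk_surjective a
      obtain ⟨b, rfl⟩ := Ideal.Quotient.mk_surjective b
      obtain ⟨a, rfl⟩ := Ideal.Quotient.mk_surjective a
      obtain ⟨b, rfl⟩ := Ideal.Quotient.mk_surjective b
      rw [div_eq_mul_inv]
      exact ((htint a).tower_top).mul ((htint b).tower_top).inv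
    haveI : Algebra.IsAlgebraic p.ResidueField Q.ResidueField := ⟨fun y => (hint y).isAlgebraic⟩
    refine ⟨?_, fun y => hint y⟩
    refine (IsAlgClosure.of_exists_root (F := p.ResidueField) (E := Q.ResidueField) ?_).isAlgClosed
    intro f hfm hfi
    obtain ⟨⟨s, hs⟩, hsc⟩ := IsLocalization.exist_integer_multiples (nonZeroDivisors (A ⧸ p))
      f.support (fun i => f.coeff i)
    obtain ⟨s', rfl⟩ := Ideal.Quotient.mk_surjective s
    set c := algebraMap A p.ResidueField s'
    have hc0 : c ≠ 0 := by
      rw [Ne, Ideal.algebraMap_residueField_eq_zero]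
      exact fun h => nonZeroDivisors.ne_zero hs (Ideal.Quotient.eq_zero_iff_mem.2 h)
    have hlift : Polynomial.scaleRoots f c ∈ Polynomial.lifts (algebraMap A p.ResidueField) := by
      rw [Polynomial.lifts_iff_coeff_lifts]
      intro i
      rw [Polynomial.coeff_scaleRoots]
      by_cases hi : i = f.natDegree
      · subst hi
        exact ⟨1, by simp [hfm.coeff_natDegree]⟩
      by_cases hsupp : i ∈ f.support
      · obtain ⟨z, hz⟩ := hsc i hsupp
        obtain ⟨z', rfl⟩ := Ideal.Quotient.mk_surjective z
        have hlt : i < f.natDegree :=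
          lt_of_le_of_ne (Polynomial.le_natDegree_of_mem_supp _ hsupp) hi
        refine ⟨z' * s' ^ (f.natDegree - i - 1), ?_⟩
        have hz' : algebraMap A p.ResidueField z' = c * f.coeff i := by
          refine hz.trans ?_
          rw [Algebra.smul_def]
          rfl
        rw [map_mul, map_pow, hz', show f.natDegree - i = (f.natDegree - i - 1) + 1 by omega, pow_succ]
        simp only [Nat.add_sub_cancel]
        ring
      · exact ⟨0, by simp [Polynomial.notMem_support_iff.1 hsupp]⟩
    obtain ⟨P, hPmap, hPdeg, hPm⟩ := Polynomial.lifts_and_natDegree_eq_and_monic hlift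
      ((Polynomial.monic_scaleRoots_iff c).2 hfm)
    have hPpos : 0 < P.natDegree := by
      rw [hPdeg, Polynomial.natDegree_scaleRoots]; exact hfi.natDegree_pos
    have h0 := ht ⟨P, hPm, hPpos⟩
    rw [← Polynomial.aeval_map_algebraMap p.ResidueField, hPmap] at h0
    refine ⟨t ⟨P, hPm, hPpos⟩ / algebraMap p.ResidueField Q.ResidueField c, ?_⟩
    rw [Polynomial.aeval_def] at h0 ⊢
    have hd : t ⟨P, hPm, hPpos⟩ = algebraMap p.ResidueField Q.ResidueField c * (t ⟨P, hPm, hPpos⟩ / algebraMap p.ResidueField Q.ResidueField c) := by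
      rw [mul_div_cancel₀ _ ((map_ne_zero _).2 hc0)]
    rw [hd, Polynomial.scaleRoots_eval₂_mul] at h0
    exact (mul_eq_zero.1 h0).resolve_left (pow_ne_zero _ ((map_ne_zero _).2 hc0))

end Groth.Agent.S16572
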