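import Groth.Statements.S16576
import Mathlib
import Groth.Agent.CatLib.Descent
import Groth.Agent.C2FlatLib.Basic


-- import your own Groth.Agent.* helpers here

set_option autoImplicit false
universe u
open CAlg

namespace Groth.Agent.S16576

/-- Let A → B be a flat local homomorphism of Noetherian local rings and let Â, B̂ be their completions
at the maximal ideals. If every irreducible component of Spec Â has dimension at least 2, then every
irreducible component of Spec B̂ has dimension at least 2. (This is the c_2 condition in its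
completed form; globally: the preimage of a c_2 closed subset under a flat morphism of Noetherian
schemes is c_2, in particular the condition is invariant under Zariski and étale localization.) -/
theorem result
    (A B : Type u) [CommRing A] [CommRing B] [IsNoetherianRing A] [IsNoetherianRing B]
    [IsLocalRing A] [IsLocalRing B] (f : A →+* B) [IsLocalHom f] (hf : f.Flat)
    (hA : ∀ q ∈ minimalPrimes (AdicCompletion (IsLocalRing.maximalIdeal A) A), (2 : WithBot ℕ∞) ≤ ringKrullDim (AdicCompletion (IsLocalRing.maximalIdeal A) A ⧸ q)) :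
    ∀ q ∈ minimalPrimes (AdicCompletion (IsLocalRing.maximalIdeal B) B), (2 : WithBot ℕ∞) ≤ ringKrullDim (AdicCompletion (IsLocalRing.maximalIdeal B) B ⧸ q) := by
  classical
  haveI := CatLib.isNoetherianRing_cpl (A := A)
  haveI := CatLib.isNoetherianRing_cpl (A := B)
  let Ah := AdicCompletion (IsLocalRing.maximalIdeal A) A
  let Bh := AdicCompletion (IsLocalRing.maximalIdeal B) B
  haveI : IsLocalRing Ah := AdicCompletion.isLocalRing_of_fg (IsLocalRing.maximalIdeal A).fg_of_isNoetherianRing
  haveI : IsLocalRing Bh := AdicCompletion.isLocalRing_of_fg (IsLocalRing.maximalIdeal B).fg_of_isNoetherianRing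
  letI : Algebra A B := f.toAlgebra
  haveI : IsLocalHom (algebraMap A B) := inferInstanceAs (IsLocalHom f)
  haveI : Module.Flat A B := hf
  haveI : Module.Flat A Bh := Module.Flat.trans A B Bh
  have hmA : IsLocalRing.maximalIdeal Ah = (IsLocalRing.maximalIdeal A).map (algebraMap A Ah) :=
    AdicCompletion.maximalIdeal_eq_map_of_fg (IsLocalRing.maximalIdeal A).fg_of_isNoetherianRing
  have hmB : IsLocalRing.maximalIdeal Bh = (IsLocalRing.maximalIdeal B).map (algebraMap B Bh) :=
    AdicCompletion.maximalIdeal_eq_map_of_fg (IsLocalRing.maximalIdeal B).fg_of_isNoetherianRing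
  have hle : (IsLocalRing.maximalIdeal A).map (algebraMap A Bh) ≤ IsLocalRing.maximalIdeal Bh := by
    rw [hmB, IsScalarTower.algebraMap_eq A B Bh, ← Ideal.map_map]
    exact Ideal.map_mono (((IsLocalRing.local_hom_TFAE (algebraMap A B)).out 0 2).1 ‹IsLocalHom (algebraMap A B)›)
  haveI : IsAdicComplete (IsLocalRing.maximalIdeal Bh) Bh := by
    rw [hmB]; exact AdicCompletion.isAdicComplete_self _ (IsLocalRing.maximalIdeal B).fg_of_isNoetherianRing
  haveI : IsAdicComplete (IsLocalRing.maximalIdeal Ah) Ah := by
    rw [hmA]; exact AdicCompletion.isAdicComplete_self _ (IsLocalRing.maximalIdeal A).fg_of_isNoetherianRing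
  haveI : IsLocalHom (algebraMap A Bh) := ((IsLocalRing.local_hom_TFAE (algebraMap A Bh)).out 2 0).1 hle
  letI : Algebra Ah Bh :=
    (CompleteLib.completionLift (IsLocalRing.maximalIdeal A) (IsLocalRing.maximalIdeal Bh) (algebraMap A Bh) hle).toAlgebra
  haveI : IsScalarTower A Ah Bh := IsScalarTower.of_algebraMap_eq fun a =>
    (CompleteLib.completionLift_algebraMap (IsLocalRing.maximalIdeal A) (IsLocalRing.maximalIdeal Bh) (algebraMap A Bh) hle a).symm
  haveI : Module.Flat Ah Bh := CatLib.flat_completion_of_flat (A := A) (B := Bh)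
  refine C2FlatLib.two_le_dim Ah Bh ?_ hA
  rw [hmA, Ideal.map_map, ← IsScalarTower.algebraMap_eq]
  exact hle

end Groth.Agent.S16576
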