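import Groth.Statements.S16577
import Mathlib
import Groth.Agent.S0539
import Groth.Agent.HenselLib.LocalCover
import Groth.Agent.SHGalLib.Cover

set_option autoImplicit false
universe u
open Hensel

namespace Groth.Agent.S16577

/-- Let A be a Noetherian local ring with a strict henselization S', and p a prime ideal of A. Call p an
immediate étale generization of the closed point when the strict henselization S'/pS' of A/p has an
irreducible component of dimension 1, that is, some minimal prime P over pS' has dim S'/P = 1. Then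
p is an immediate étale generization of the closed point if and only if p is the contraction of some
prime ideal P of S' with dim S'/P = 1. -/
theorem result
    (A : Type u) [CommRing A] [IsNoetherianRing A] [IsLocalRing A]
    (S' : Type u) [CommRing S'] [IsLocalRing S'] [Algebra A S'] [IsLocalHom (algebraMap A S')]
    [Hensel.IsStrictHenselization A S']
    (p : Ideal A) [p.IsPrime] :
    (∃ P ∈ (p.map (algebraMap A S')).minimalPrimes, ringKrullDim (S' ⧸ P) = 1) ↔
    (∃ P : Ideal S', P.IsPrime ∧ P.comap (algebraMap A S') = p ∧ ringKrullDim (S' ⧸ P) = 1) := by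
  haveI : Module.FaithfullyFlat A S' := Groth.Agent.S0539.result A S'
  obtain ⟨e⟩ := HenselLib.nonempty_algEquiv_SH (R := A) S'
  have hcov := HenselLib.etCov_of_algEquiv e (HenselLib.etCov_hens _)
  constructor
  · rintro ⟨P, hP, hd⟩
    haveI := hP.1.1
    refine ⟨P, inferInstance, le_antisymm ?_ (Ideal.map_le_iff_le_comap.1 hP.1.2), hd⟩
    haveI : Algebra.HasGoingDown A S' := Algebra.HasGoingDown.of_flat
    haveI : (P.comap (algebraMap A S')).IsPrime := inferInstance
    haveI : P.LiesOver (P.comap (algebraMap A S')) := ⟨rfl⟩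
    by_contra hne
    have hlt : p < P.comap (algebraMap A S') :=
      lt_of_le_of_ne (Ideal.map_le_iff_le_comap.1 hP.1.2) fun h => hne h.ge
    obtain ⟨P₀, hle, hP₀, hlo⟩ := Ideal.exists_ideal_lt_liesOver_of_lt P hlt
    have := hP.2 ⟨hP₀, Ideal.map_le_iff_le_comap.2 (le_of_eq hlo.over)⟩ hle.le
    exact hle.not_ge this
  · rintro ⟨P, hP, rfl, hd⟩
    haveI := hP
    refine ⟨P, ⟨⟨hP, Ideal.map_comap_le⟩, fun P₀ hP₀ hle => ?_⟩, hd⟩
    haveI := hP₀.1
    exact (HenselLib.eq_of_le_of_comap_eq hcov P₀ P hle
      (le_antisymm (Ideal.comap_mono hle) (Ideal.map_le_iff_le_comap.1 hP₀.2))).ge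

end Groth.Agent.S16577
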