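import Groth.Statements.S16578
import Groth.Agent.EtGenLib.Setup
import Groth.Agent.S16577
import Groth.Agent.HensFormalLib.Apps
-- import your own Groth.Agent.* helpers here

set_option autoImplicit false
set_option maxHeartbeats 2000000
set_option backward.isDefEq.respectTransparency false
universe u
open Hensel

namespace Groth.Agent.S16578

open IsLocalRing EGA4 in
theorem exists_chain_two {R : Type u} [CommRing R] (J : Ideal R) {a b c : PrimeSpectrum R} (hJ : J ≤ a.asIdeal)
    (h1 : a < b) (h2 : b < c) : (2 : WithBot ℕ∞) ≤ ringKrullDim (R ⧸ J) := by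
  let l : LTSeries (PrimeSpectrum R) := ⟨2, ![a, b, c], fun i => by
    fin_cases i
    · exact h1
    · exact h2⟩
  obtain ⟨t, ht, -⟩ := CatLib.length_le_dim_quotient l J hJ
  have := Order.LTSeries.length_le_krullDim t
  rw [ht] at this
  exact this

open IsLocalRing EGA4 in
theorem one_le_dim {R : Type u} [CommRing R] [IsLocalRing R] (J : Ideal R) [J.IsPrime] (hJ : J ≠ maximalIdeal R) :
    (1 : WithBot ℕ∞) ≤ ringKrullDim (R ⧸ J) := by
  let a : PrimeSpectrum R := ⟨J, inferInstance⟩
  have h1 : a < closedPoint R := lt_of_le_of_ne (le_maximalIdeal Ideal.IsPrime.ne_top')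
    fun h => hJ (congrArg PrimeSpectrum.asIdeal h)
  let l : LTSeries (PrimeSpectrum R) := ⟨1, ![a, closedPoint R], fun i => by
    fin_cases i
    exact h1⟩
  obtain ⟨t, ht, -⟩ := CatLib.length_le_dim_quotient l J le_rfl
  have := Order.LTSeries.length_le_krullDim t
  rw [ht] at this
  exact this

open IsLocalRing EGA4 in
theorem ne_maximal {R : Type u} [CommRing R] [IsLocalRing R] {J : Ideal R} (h : ringKrullDim (R ⧸ J) = 1) :
    J ≠ maximalIdeal R := fun he => by
  rw [he, ringKrullDim_eq_zero_of_isField ((Ideal.Quotient.maximal_ideal_iff_isField_quotient _).1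
    (maximalIdeal.isMaximal R))] at h
  exact zero_ne_one h


/-- Let A be a Noetherian local ring with completion Â at its maximal ideal, S' a strict henselization
of A, T' a strict henselization of Â, and p a prime ideal of A. Say that a prime p of a Noetherian
local ring with strict henselization S is an immediate étale generization of the closed point when
some minimal prime P over pS has dim S/P = 1. Then p is an immediate étale generization of the
closed point of A if and only if some minimal prime q over pÂ (a maximal point of the fibre over p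
of Spec Â → Spec A) is an immediate étale generization of the closed point of Â. -/
theorem result
    (A : Type u) [CommRing A] [IsNoetherianRing A] [IsLocalRing A]
    (S' : Type u) [CommRing S'] [IsLocalRing S'] [Algebra A S'] [IsLocalHom (algebraMap A S')]
    [Hensel.IsStrictHenselization A S']
    (T' : Type u) [CommRing T'] [IsLocalRing T'] [Algebra (AdicCompletion (IsLocalRing.maximalIdeal A) A) T'] [IsLocalHom (algebraMap (AdicCompletion (IsLocalRing.maximalIdeal A) A) T')]
    [Hensel.IsStrictHenselization (AdicCompletion (IsLocalRing.maximalIdeal A) A) T']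
    (p : Ideal A) [p.IsPrime] :
    (∃ P ∈ (p.map (algebraMap A S')).minimalPrimes, ringKrullDim (S' ⧸ P) = 1) ↔
    (∃ q ∈ (p.map (algebraMap A (AdicCompletion (IsLocalRing.maximalIdeal A) A))).minimalPrimes,
      ∃ Q ∈ (q.map (algebraMap (AdicCompletion (IsLocalRing.maximalIdeal A) A) T')).minimalPrimes, ringKrullDim (T' ⧸ Q) = 1) := by
  haveI := AdicRingLib.isNoetherianRing_adicCompletion (IsLocalRing.maximalIdeal A)
  haveI : IsNoetherianRing S' := (Groth.Agent.S0540.result A S').1 inferInstance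
  haveI : IsNoetherianRing T' := (Groth.Agent.S0540.result (EGA4.Cpl A) T').1 inferInstance
  haveI hSh : HenselianLocalRing S' := Hensel.IsStrictHenselization.henselian A
  obtain ⟨g, e, hgA, hge⟩ := EtGenLib.exists_comparison A S' T'
  haveI := AdicRingLib.isNoetherianRing_adicCompletion (IsLocalRing.maximalIdeal S')
  haveI := AdicRingLib.isNoetherianRing_adicCompletion (IsLocalRing.maximalIdeal T')
  haveI : Module.FaithfullyFlat A S' := Groth.Agent.S0539.result A S'
  haveI : Module.FaithfullyFlat (EGA4.Cpl A) T' := Groth.Agent.S0539.result (EGA4.Cpl A) T'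
  haveI : Module.FaithfullyFlat S' (EGA4.Cpl S') := GeomRedFibLib.faithfullyFlat_hat S'
  haveI : Module.FaithfullyFlat T' (EGA4.Cpl T') := GeomRedFibLib.faithfullyFlat_hat T'
  haveI : Module.FaithfullyFlat A (EGA4.Cpl A) := GeomRedFibLib.faithfullyFlat_hat A
  obtain ⟨eS⟩ := HenselLib.nonempty_algEquiv_SH (R := A) S'
  have hcovS := HenselLib.etCov_of_algEquiv eS (HenselLib.etCov_hens _)
  obtain ⟨eT⟩ := HenselLib.nonempty_algEquiv_SH (R := EGA4.Cpl A) T'
  have hcovT := HenselLib.etCov_of_algEquiv eT (HenselLib.etCov_hens _)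
  let B := EGA4.Cpl T'
  -- contractions to `A`
  have hcA : ∀ Q : Ideal T', (Q.comap g).comap (algebraMap A S') =
      (Q.comap (algebraMap (EGA4.Cpl A) T')).comap (algebraMap A (EGA4.Cpl A)) := fun Q => by
    rw [Ideal.comap_comap, Ideal.comap_comap, hgA]
  -- dimensions
  have hmap : ∀ P : Ideal S', (P.map g).map (algebraMap T' B) = (P.map (algebraMap S' (EGA4.Cpl S'))).map e := fun P => by
    rw [Ideal.map_map]
    exact ((Ideal.map_map (algebraMap S' (EGA4.Cpl S')) (e : EGA4.Cpl S' →+* B)).trans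
      (congrArg (fun f => P.map f) (RingHom.ext (f := (e : EGA4.Cpl S' →+* B).comp (algebraMap S' (EGA4.Cpl S'))) (g := (algebraMap T' B).comp g) hge))).symm
  have hdimB : ∀ P : Ideal S', P ≠ ⊤ → ringKrullDim (B ⧸ (P.map g).map (algebraMap T' B)) = ringKrullDim (S' ⧸ P) := by
    intro P hP
    haveI := Ideal.Quotient.nontrivial_iff.2 hP
    rw [← EtGenLib.dim_quot S' P]
    exact (ringKrullDim_eq_of_ringEquiv (Ideal.quotientEquiv _ _ e (hmap P))).symm
  have hminq : ∀ (q : Ideal (EGA4.Cpl A)), q ∈ (p.map (algebraMap A (EGA4.Cpl A))).minimalPrimes →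
      q.comap (algebraMap A (EGA4.Cpl A)) = p := fun q hq => by
    haveI := hq.1.1
    refine le_antisymm ?_ (Ideal.map_le_iff_le_comap.1 hq.1.2)
    by_contra hne
    have hlt : p < q.comap (algebraMap A (EGA4.Cpl A)) :=
      lt_of_le_of_ne (Ideal.map_le_iff_le_comap.1 hq.1.2) fun h => hne h.ge
    haveI : q.LiesOver (q.comap (algebraMap A (EGA4.Cpl A))) := ⟨rfl⟩
    obtain ⟨q', hle, hq', hlo⟩ := Ideal.exists_ideal_lt_liesOver_of_lt q hlt
    exact hle.not_ge (hq.2 ⟨hq', Ideal.map_le_iff_le_comap.2 hlo.over.le⟩ hle.le)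
  rw [Groth.Agent.S16577.result A S' p]
  constructor
  · rintro ⟨P, hP, hPp, hPd⟩
    have hJ : ringKrullDim (B ⧸ (P.map g).map (algebraMap T' B)) = 1 := by rw [hdimB P hP.ne_top, hPd]
    have hne : P.map g ≠ ⊤ := fun h => by
      haveI : Subsingleton (B ⧸ (P.map g).map (algebraMap T' B)) :=
        Ideal.Quotient.subsingleton_iff.2 (by rw [h, Ideal.map_top])
      rw [ringKrullDim_eq_bot_of_subsingleton] at hJ
      exact WithBot.bot_ne_one hJ
    haveI := Ideal.Quotient.nontrivial_iff.2 hne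
    have hdT : ringKrullDim (T' ⧸ P.map g) = 1 := by rw [← EtGenLib.dim_quot T' (P.map g), hJ]
    obtain ⟨⟨Ph, hPh⟩, hPhP⟩ := PrimeSpectrum.comap_surjective_of_faithfullyFlat (A := S') (B := EGA4.Cpl S') ⟨P, hP⟩
    let Q : Ideal T' := (Ph.comap (e.symm : B →+* EGA4.Cpl S')).comap (algebraMap T' B)
    have hQP : Q.comap g = P := by
      rw [← show Ph.comap (algebraMap S' (EGA4.Cpl S')) = P from congrArg PrimeSpectrum.asIdeal hPhP, Ideal.comap_comap,
        Ideal.comap_comap]
      congr 1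
      refine RingHom.ext fun s => ?_
      show e.symm (algebraMap T' B (g s)) = algebraMap S' (EGA4.Cpl S') s
      rw [← hge, RingEquiv.symm_apply_apply]
    have hPm : P ≠ IsLocalRing.maximalIdeal S' := ne_maximal hPd
    have hQm : Q ≠ IsLocalRing.maximalIdeal T' := fun h => hPm (by
      refine (IsLocalRing.le_maximalIdeal hP.ne_top).antisymm ?_
      rw [← Groth.Agent.S0538.result A S', Ideal.map_le_iff_le_comap, ← hQP, hcA, h]
      intro a ha
      show algebraMap (EGA4.Cpl A) T' (algebraMap A (EGA4.Cpl A) a) ∈ IsLocalRing.maximalIdeal T'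
      rw [← Groth.Agent.S0538.result (EGA4.Cpl A) T', AdicCompletion.maximalIdeal_eq_map]
      exact Ideal.mem_map_of_mem _ (Ideal.mem_map_of_mem _ ha))
    have hQge : P.map g ≤ Q := Ideal.map_le_iff_le_comap.2 hQP.ge
    let q : Ideal (EGA4.Cpl A) := Q.comap (algebraMap (EGA4.Cpl A) T')
    have hqp : q.comap (algebraMap A (EGA4.Cpl A)) = p := by rw [← hcA, hQP, hPp]
    refine ⟨q, ⟨⟨inferInstance, Ideal.map_le_iff_le_comap.2 hqp.ge⟩, fun q' hq' hle => ?_⟩, Q,
      ⟨⟨inferInstance, Ideal.map_comap_le⟩, fun Q' hQ' hle => ?_⟩, le_antisymm ?_ (one_le_dim Q hQm)⟩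
    · haveI := hq'.1
      by_contra hne'
      have hlt : q' < q := lt_of_le_of_ne hle fun h => hne' h.ge
      haveI : Q.LiesOver q := ⟨rfl⟩
      obtain ⟨Q', hQ'lt, hQ'p, hQ'lo⟩ := Ideal.exists_ideal_lt_liesOver_of_lt Q hlt
      have hq'p : q'.comap (algebraMap A (EGA4.Cpl A)) = p :=
        le_antisymm ((Ideal.comap_mono hle).trans hqp.le) (Ideal.map_le_iff_le_comap.1 hq'.2)
      have hP' : Q'.comap g = P := HenselLib.eq_of_le_of_comap_eq hcovS _ _ (hQP ▸ Ideal.comap_mono hQ'lt.le) (by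
        rw [hcA, show Q'.comap (algebraMap (EGA4.Cpl A) T') = q' from hQ'lo.over.symm, hq'p, hPp])
      have h2 := exists_chain_two (P.map g) (a := ⟨Q', hQ'p⟩) (b := ⟨Q, inferInstance⟩) (c := IsLocalRing.closedPoint T')
        (Ideal.map_le_iff_le_comap.2 hP'.ge) hQ'lt
        (lt_of_le_of_ne (IsLocalRing.le_maximalIdeal Ideal.IsPrime.ne_top') fun h => hQm (congrArg PrimeSpectrum.asIdeal h))
      rw [hdT] at h2
      exact absurd h2 (not_le.2 (by exact_mod_cast (show (1 : ℕ) < 2 by omega)))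
    · haveI := hQ'.1
      exact (HenselLib.eq_of_le_of_comap_eq hcovT Q' Q hle
        (le_antisymm (Ideal.comap_mono hle) (Ideal.map_le_iff_le_comap.1 hQ'.2))).ge
    · exact hdT ▸ ringKrullDim_le_of_surjective (Ideal.Quotient.factor hQge) (Ideal.Quotient.factor_surjective _)
  · rintro ⟨q, hq, Q, hQ, hQd⟩
    haveI := hq.1.1
    haveI := hQ.1.1
    have hQq : Q.comap (algebraMap (EGA4.Cpl A) T') = q := by
      refine le_antisymm ?_ (Ideal.map_le_iff_le_comap.1 hQ.1.2)
      by_contra hne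
      have hlt : q < Q.comap (algebraMap (EGA4.Cpl A) T') :=
        lt_of_le_of_ne (Ideal.map_le_iff_le_comap.1 hQ.1.2) fun h => hne h.ge
      haveI : Q.LiesOver (Q.comap (algebraMap (EGA4.Cpl A) T')) := ⟨rfl⟩
      obtain ⟨Q', hle, hQ', hlo⟩ := Ideal.exists_ideal_lt_liesOver_of_lt Q hlt
      exact hle.not_ge (hQ.2 ⟨hQ', Ideal.map_le_iff_le_comap.2 hlo.over.le⟩ hle.le)
    let P := Q.comap g
    have hPp : P.comap (algebraMap A S') = p := by rw [hcA, hQq, hminq q hq]
    refine ⟨P, inferInstance, hPp, ?_⟩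
    obtain ⟨⟨Bh, hBh⟩, hBhQ⟩ := PrimeSpectrum.comap_surjective_of_faithfullyFlat (A := T') (B := B) ⟨Q, inferInstance⟩
    have hBhQ' : Bh.comap (algebraMap T' B) = Q := congrArg PrimeSpectrum.asIdeal hBhQ
    obtain ⟨Ps, hPs, hPsle⟩ := Ideal.exists_minimalPrimes_le (J := Bh)
      (Ideal.map_le_iff_le_comap.2 hBhQ'.ge : Q.map (algebraMap T' B) ≤ Bh)
    haveI := hPs.1.1
    have hPsQ : Ps.comap (algebraMap T' B) = Q :=
      le_antisymm ((Ideal.comap_mono hPsle).trans hBhQ'.le) (Ideal.map_le_iff_le_comap.1 hPs.1.2)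
    have hQm : Q ≠ IsLocalRing.maximalIdeal T' := ne_maximal hQd
    have hPsm : Ps ≠ IsLocalRing.maximalIdeal B := fun h => hQm (by
      refine (IsLocalRing.le_maximalIdeal Ideal.IsPrime.ne_top').antisymm fun t ht => ?_
      rw [← hPsQ, h]
      show algebraMap T' B t ∈ IsLocalRing.maximalIdeal B
      rw [AdicCompletion.maximalIdeal_eq_map]
      exact Ideal.mem_map_of_mem _ ht)
    haveI := Ideal.Quotient.nontrivial_iff.2 (Ideal.IsPrime.ne_top (inferInstance : Q.IsPrime))
    have hPsd : ringKrullDim (B ⧸ Ps) = 1 := by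
      refine le_antisymm ?_ (one_le_dim Ps hPsm)
      exact ((EtGenLib.dim_quot T' Q).trans hQd) ▸
        ringKrullDim_le_of_surjective (Ideal.Quotient.factor hPs.1.2) (Ideal.Quotient.factor_surjective _)
    let J := (P.map g).map (algebraMap T' B)
    have hJPs : J ≤ Ps := Ideal.map_le_iff_le_comap.2 (by rw [hPsQ]; exact Ideal.map_comap_le)
    have hPsmin : Ps ∈ J.minimalPrimes := by
      refine ⟨⟨inferInstance, hJPs⟩, fun P' hP' hle => hPs.2 ⟨hP'.1, ?_⟩ hle⟩
      haveI := hP'.1
      have hQ'le : P'.comap (algebraMap T' B) ≤ Q := hPsQ ▸ Ideal.comap_mono hle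
      have hge : P ≤ (P'.comap (algebraMap T' B)).comap g :=
        Ideal.map_le_iff_le_comap.1 (Ideal.map_le_iff_le_comap.1 hP'.2)
      have hP'g : (P'.comap (algebraMap T' B)).comap g = P := le_antisymm (Ideal.comap_mono hQ'le) hge
      let q' := (P'.comap (algebraMap T' B)).comap (algebraMap (EGA4.Cpl A) T')
      have hq' : q' = q := le_antisymm ((Ideal.comap_mono hQ'le).trans hQq.le)
        (hq.2 ⟨inferInstance, Ideal.map_le_iff_le_comap.2 (by rw [← hcA, hP'g, hPp])⟩
          ((Ideal.comap_mono hQ'le).trans hQq.le))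
      have hQ' : P'.comap (algebraMap T' B) = Q :=
        HenselLib.eq_of_le_of_comap_eq hcovT _ _ hQ'le (hq'.trans hQq.symm)
      exact Ideal.map_le_iff_le_comap.2 hQ'.ge
    haveI hPne : Nontrivial (S' ⧸ P) := Ideal.Quotient.nontrivial_iff.2 (Ideal.IsPrime.ne_top inferInstance)
    haveI : Algebra.IsIntegral S' (S' ⧸ P) := Algebra.IsIntegral.of_finite S' (S' ⧸ P)
    obtain ⟨_, -⟩ := HensFormalLib.henselian_of_integral_domain S' (S' ⧸ P)
    obtain ⟨eq⟩ := EtGenLib.exists_quot_equiv S' P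
    let F : EGA4.Cpl (S' ⧸ P) ≃+* B ⧸ J := eq.symm.trans (Ideal.quotientEquiv _ _ e (hmap P))
    let P₁ : Ideal (EGA4.Cpl (S' ⧸ P)) := (Ps.map (Ideal.Quotient.mk J)).comap (F : EGA4.Cpl (S' ⧸ P) →+* B ⧸ J)
    refine EtGenLib.dim_eq_one_of_branch (S' ⧸ P) P₁ ?_ ?_
    · have h := Ideal.comap_minimalPrimes_eq_of_surjective (f := (F : EGA4.Cpl (S' ⧸ P) →+* B ⧸ J)) F.surjective ⊥
      rw [← RingHom.ker_eq_comap_bot, (RingHom.injective_iff_ker_eq_bot (F : EGA4.Cpl (S' ⧸ P) →+* B ⧸ J)).1 F.injective] at h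
      show P₁ ∈ (⊥ : Ideal (EGA4.Cpl (S' ⧸ P))).minimalPrimes
      rw [h]
      exact ⟨_, CatLib.map_mem_minimalPrimes hPsmin, rfl⟩
    · rw [ringKrullDim_eq_of_ringEquiv (Ideal.quotientEquiv P₁ (Ps.map (Ideal.Quotient.mk J)) F
        (Ideal.map_comap_of_surjective _ F.surjective _).symm), CatLib.ringKrullDim_quotient_quotient_map hJPs, hPsd]

end Groth.Agent.S16578
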