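import Groth.Statements.S16579
import Groth.Agent.GabberRigidLib.Rigidity
-- import your own Groth.Agent.* helpers here

set_option autoImplicit false
universe u
open CategoryTheory AlgebraicGeometry
open Hensel

namespace Groth.Agent.S16579

/-- The case of the constant sheaf on a two-element set. Let (A, I) be a henselian pair with I finitely
generated (A not necessarily Noetherian), Â the I-adic completion of A, π : Spec Â → Spec A the
completion morphism, U a quasi-compact open subscheme of Spec A containing the complement of V(I),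
and Û = π⁻¹(U). Then V ↦ (π|Û)⁻¹(V) is a bijection from the clopen subsets of U onto the clopen
subsets of Û; equivalently, for every finite set F the locally constant F-valued functions on U and
on Û correspond under composition with π. -/
theorem result
    (A : Type u) [CommRing A] (I : Ideal A) (hI : I.FG) [HenselianRing A I]
    (U : (Spec (CommRingCat.of A)).Opens) (hU : IsCompact (U : Set (Spec (CommRingCat.of A))))
    (hUI : ∀ x : Spec (CommRingCat.of A), x ∉ U → I ≤ x.asIdeal) :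
    Function.Bijective (fun V : {V : Set ↥U // IsClopen V} =>
      (⟨((Spec.map (CommRingCat.ofHom (algebraMap A (AdicCompletion I A)))) ∣_ U).base.hom ⁻¹' V.1, V.2.preimage ((Spec.map (CommRingCat.ofHom (algebraMap A (AdicCompletion I A)))) ∣_ U).base.hom.continuous⟩ :
        {V' : Set ↥((Spec.map (CommRingCat.ofHom (algebraMap A (AdicCompletion I A)))) ⁻¹ᵁ U) // IsClopen V'})) := by
  classical
  let φ := algebraMap A (AdicCompletion I A)
  let π := Spec.map (CommRingCat.ofHom φ)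
  obtain ⟨t, ht⟩ := PrimeSpectrum.isCompact_isOpen_iff.mp ⟨hU, U.isOpen⟩
  let e := t.equivFin.symm
  let f : Fin t.card → A := fun i => (e i : A)
  have hUmem : ∀ x : Spec (CommRingCat.of A), x ∈ (U : Set (Spec (CommRingCat.of A))) ↔ ∃ i, f i ∉ x.asIdeal := by
    intro x
    refine (Set.ext_iff.mp ht x).symm.trans ?_
    show ¬ ((t : Set A) ⊆ (x.asIdeal : Set A)) ↔ _
    rw [Set.not_subset]
    refine ⟨fun ⟨a, ha, ha'⟩ => ⟨e.symm ⟨a, ha⟩, ?_⟩, fun ⟨i, hi⟩ => ⟨f i, (e i).2, hi⟩⟩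
    simp only [f, Equiv.apply_symm_apply]
    exact ha'
  have hf : ∀ x : PrimeSpectrum A, (∀ i, f i ∈ x.asIdeal) → I ≤ x.asIdeal := fun x hx =>
    hUI x fun h => by obtain ⟨i, hi⟩ := (hUmem x).mp h; exact hi (hx i)
  have himage : ∀ T : Set ↥U, IsClopen T →
      IsOpen ((Subtype.val '' T : Set (PrimeSpectrum A))) ∧
      IsOpen ({x : PrimeSpectrum A | ∃ i, f i ∉ x.asIdeal} \ (Subtype.val '' T)) := by
    intro T hT
    refine ⟨U.isOpen.isOpenMap_subtype_val _ hT.isOpen, ?_⟩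
    have : {x : PrimeSpectrum A | ∃ i, f i ∉ x.asIdeal} \ (Subtype.val '' T) = Subtype.val '' Tᶜ := by
      ext x
      refine ⟨fun ⟨hx, hx'⟩ => ⟨⟨x, (hUmem x).mpr hx⟩, fun h => hx' ⟨_, h, rfl⟩, rfl⟩, ?_⟩
      rintro ⟨y, hy, rfl⟩
      exact ⟨(hUmem _).mp y.2, fun ⟨z, hz, hzy⟩ => hy (Subtype.ext hzy ▸ hz)⟩
    rw [this]
    exact U.isOpen.isOpenMap_subtype_val _ hT.isClosed.isOpen_compl
  have hres : ∀ y : ↥(π ⁻¹ᵁ U), ((π ∣_ U) y).1 = PrimeSpectrum.comap φ y.1 := fun y => by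
    have h := congrArg (fun m => m.base y) (morphismRestrict_ι π U)
    exact h
  constructor
  · intro V₁ V₂ h
    have h' : (π ∣_ U).base.hom ⁻¹' V₁.1 = (π ∣_ U).base.hom ⁻¹' V₂.1 := congrArg Subtype.val h
    have key : ∀ V₁ V₂ : {V : Set ↥U // IsClopen V},
        (π ∣_ U).base.hom ⁻¹' V₁.1 = (π ∣_ U).base.hom ⁻¹' V₂.1 → V₁.1 ⊆ V₂.1 := by
      intro V₁ V₂ h' x hx
      by_contra hx'
      have hT : IsClopen (V₁.1 \ V₂.1) := V₁.2.diff V₂.2
      obtain ⟨ho, ho'⟩ := himage _ hT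
      have := GabberRigidLib.eq_empty_of_preimage hI f hf _
        (by rintro _ ⟨y, -, rfl⟩; exact (hUmem _).mp y.2) ho ho' (fun p hp => by
          obtain ⟨z, ⟨hz₁, hz₂⟩, hzp⟩ := hp
          have hp' : p ∈ π ⁻¹ᵁ U := by
            show (PrimeSpectrum.comap φ p : Spec (CommRingCat.of A)) ∈ U
            exact hzp ▸ z.2
          have hz : (π ∣_ U) ⟨p, hp'⟩ = z := Subtype.ext ((hres ⟨p, hp'⟩).trans hzp.symm)
          have h2 := (Set.ext_iff.mp h' ⟨p, hp'⟩)
          exact hz₂ (by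
            have h3 : (π ∣_ U) ⟨p, hp'⟩ ∈ V₂.1 := h2.mp (show (π ∣_ U) ⟨p, hp'⟩ ∈ V₁.1 from hz.symm ▸ hz₁)
            rwa [hz] at h3))
      exact (Set.eq_empty_iff_forall_notMem.mp this) _ ⟨x, ⟨hx, hx'⟩, rfl⟩
    exact Subtype.ext ((key V₁ V₂ h').antisymm (key V₂ V₁ h'.symm))
  · intro V'
    have hUm' : ∀ p : PrimeSpectrum (AdicCompletion I A), p ∈ π ⁻¹ᵁ U ↔ ∃ i, φ (f i) ∉ p.asIdeal := fun p =>
      hUmem (PrimeSpectrum.comap φ p)
    obtain ⟨V, hVU, hVo, hVo', hV⟩ := GabberRigidLib.exists_descent hI f hf (Subtype.val '' V'.1)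
      (by rintro _ ⟨y, -, rfl⟩; exact (hUm' _).mp y.2)
      ((π ⁻¹ᵁ U).isOpen.isOpenMap_subtype_val _ V'.2.isOpen) (by
        have : {p : PrimeSpectrum (AdicCompletion I A) | ∃ i, φ (f i) ∉ p.asIdeal} \ (Subtype.val '' V'.1) =
            Subtype.val '' V'.1ᶜ := by
          ext x
          refine ⟨fun ⟨hx, hx'⟩ => ⟨⟨x, (hUm' x).mpr hx⟩, fun h => hx' ⟨_, h, rfl⟩, rfl⟩, ?_⟩
          rintro ⟨y, hy, rfl⟩
          exact ⟨(hUm' _).mp y.2, fun ⟨z, hz, hzy⟩ => hy (Subtype.ext hzy ▸ hz)⟩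
        rw [this]
        exact (π ⁻¹ᵁ U).isOpen.isOpenMap_subtype_val _ V'.2.isClosed.isOpen_compl)
    refine ⟨⟨Subtype.val ⁻¹' V, ⟨⟨?_⟩, hVo.preimage continuous_subtype_val⟩⟩, Subtype.ext (Set.ext fun y => ?_)⟩
    · have : ((Subtype.val ⁻¹' V)ᶜ : Set ↥U) =
          Subtype.val ⁻¹' ({x : PrimeSpectrum A | ∃ i, f i ∉ x.asIdeal} \ V) := by
        ext x
        exact ⟨fun h => ⟨(hUmem _).mp x.2, h⟩, fun h => h.2⟩
      rw [this]
      exact hVo'.preimage continuous_subtype_val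
    · show ((π ∣_ U) y).1 ∈ V ↔ y ∈ V'.1
      rw [hres]
      refine (hV y.1 ((hUm' _).mp y.2)).trans ?_
      exact ⟨fun ⟨z, hz, hzy⟩ => Subtype.ext hzy ▸ hz, fun h => ⟨y, h, rfl⟩⟩

end Groth.Agent.S16579
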