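import Groth.Statements.S1658
import Groth.Agent.AmpleFinGenLib.Divisor
import Groth.Agent.CubeConsLib.IsoCls

set_option linter.style.haveILetI false
set_option backward.isDefEq.respectTransparency false
set_option maxHeartbeats 1000000
-- import your own Groth.Agent.* helpers here

set_option autoImplicit false
universe u
open CategoryTheory CategoryTheory.Limits AlgebraicGeometry
open Divisors

namespace Groth.Agent.S1658

/-- Let X be Noetherian with an ample invertible module and N any invertible O_X-module. For every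
finite set E of points of X there are effective Cartier divisors D and D', whose supports miss E,
with N ⊗ I_D ≅ I_{D'} (that is, N ≅ O_X(D) ⊗ O_X(D')^{-1}), where I_D, I_{D'} are the ideal sheaves
as O_X-modules. -/
theorem result (X : Scheme.{u}) [IsNoetherian X] (L : X.Modules) (hL : CohB1.IsAmple L)
    (N : X.Modules) (hN : PicF.IsInvertible N) (E : Set X) (hE : E.Finite) :
    ∃ D D' : X.IdealSheafData, BlowUp.IsEffCartierIdeal D ∧ BlowUp.IsEffCartierIdeal D' ∧
      Disjoint E (D.support : Set X) ∧ Disjoint E (D'.support : Set X) ∧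
      Nonempty (CohB1.tensorMod N (ClSub.idealMod D) ≅ ClSub.idealMod D') := by
  classical
  have hO : PicF.IsInvertible (Coh.structureModule X) := fun x =>
    ⟨⊤, trivial, TwistLib.nonempty_iso_of_genOn _ (AmpleLib.one_genOn ⊤)⟩
  haveI := AmpleFinGenLib.isQCoh_of_isInvertible hO
  have hass := AssPointLib.finite_assPoints (M := Coh.structureModule X) (DevissLib.isCoh_structureModule X).2 ⊤ isCompact_univ
  obtain ⟨N₁, h₁⟩ := AmpleFinGenLib.exists_section_twist hL hN (hE.union hass)
  obtain ⟨N₂, h₂⟩ := AmpleFinGenLib.exists_section_twist hL hO (hE.union hass)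
  obtain ⟨s', hs'⟩ := h₁ (N₁ + N₂) (by omega)
  obtain ⟨s, hs⟩ := h₂ (N₁ + N₂) (by omega)
  have hM' := MiscFlat6.tensorMod_isInvertible hN (AmpleThLib.tensorPow_isInvertible hL.1 (N₁ + N₂))
  have hM := MiscFlat6.tensorMod_isInvertible hO (AmpleThLib.tensorPow_isInvertible hL.1 (N₁ + N₂))
  haveI := AmpleFinGenLib.mono_of_generating hM' s' (fun x hx => hs' (Or.inr ⟨trivial, hx⟩))
  haveI := AmpleFinGenLib.mono_of_generating hM s (fun x hx => hs (Or.inr ⟨trivial, hx⟩))
  refine ⟨PicF2.zeroScheme _ s', PicF2.zeroScheme _ s, AmpleFinGenLib.isEffCartier_zeroScheme hM' s',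
    AmpleFinGenLib.isEffCartier_zeroScheme hM s, Set.disjoint_left.2 fun x hx h => ?_,
    Set.disjoint_left.2 fun x hx h => ?_, ?_⟩
  · exact (AmpleFinGenLib.notMem_support_zeroScheme hM' s' x).2 (hs' (Or.inl hx)) h
  · exact (AmpleFinGenLib.notMem_support_zeroScheme hM s x).2 (hs (Or.inl hx)) h
  · have e' := CubeConsLib.cl_eq_one_iff.2 (AmpleFinGenLib.idealMod_tensor_iso hM' s')
    have e := CubeConsLib.cl_eq_one_iff.2 (AmpleFinGenLib.idealMod_tensor_iso hM s)
    rw [CubeConsLib.cl_tensor, CubeConsLib.cl_tensor] at e' e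
    rw [show CubeConsLib.cl (Coh.structureModule X) = 1 from rfl, one_mul] at e
    rw [← CubeConsLib.cl_eq_iff, CubeConsLib.cl_tensor]
    set a := CubeConsLib.cl N
    set b := CubeConsLib.cl (ClSub.idealMod (PicF2.zeroScheme _ s'))
    set c := CubeConsLib.cl (ClSub.idealMod (PicF2.zeroScheme _ s))
    set l := CubeConsLib.cl (CohB1.tensorPow L (N₁ + N₂))
    calc a * b = a * b * (c * l) := by rw [e, mul_one]
      _ = c * (b * (a * l)) := by ac_rfl
      _ = c := by rw [e', mul_one]

end Groth.Agent.S1658
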