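import Groth.Statements.S16583
import Groth.Agent.FppfLib.Local
import Groth.Agent.WeightLib.EtaleQF
import Mathlib
-- import your own Groth.Agent.* helpers here

set_option autoImplicit false
universe u
open CategoryTheory AlgebraicGeometry
open EtCore

namespace Groth.Agent.S16583
set_option linter.all false
open Limits
theorem stalk_spec_field {X : Scheme.{u}} (hX : ∀ x : X, IsField (X.presheaf.stalk x))
    (hX' : ∀ x : X, IsAlgClosed (X.residueField x)) {U : X.Opens} (hU : IsAffineOpen U)
    (q : Ideal Γ(X, U)) [q.IsPrime] :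
    ∃ _ : IsDomain (Localization.AtPrime q), IsIntegrallyClosed (Localization.AtPrime q) ∧
      IsAlgClosed (FractionRing (Localization.AtPrime q)) := by
  let z := hU.fromSpec.base (⟨q, inferInstance⟩ : PrimeSpectrum Γ(X, U))
  have hz : z ∈ U := by
    show _ ∈ (U : Set X)
    rw [← hU.range_fromSpec]; exact ⟨_, rfl⟩
  letI alg := X.presheaf.algebra_section_stalk (⟨z, hz⟩ : U)
  haveI : IsLocalization.AtPrime (X.presheaf.stalk z) q :=
    hU.isLocalization_stalk' ⟨q, inferInstance⟩ hz
  let e := (IsLocalization.algEquiv q.primeCompl (X.presheaf.stalk z) (Localization.AtPrime q)).toRingEquiv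
  have hf : IsField (Localization.AtPrime q) := MulEquiv.isField (hX z) e.symm.toMulEquiv
  letI := hX z |>.toField
  haveI : IsDomain (Localization.AtPrime q) := hf.isDomain
  refine ⟨inferInstance, ?_, ?_⟩
  · letI := hf.toField
    infer_instance
  · haveI := hX' z
    have hb : Function.Bijective (IsLocalRing.residue (X.presheaf.stalk z)) := by
      refine ⟨?_, IsLocalRing.residue_surjective⟩
      rw [RingHom.injective_iff_ker_eq_bot, IsLocalRing.ker_residue]
      exact (IsLocalRing.isField_iff_maximalIdeal_eq).1 (hX z)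
    let r : X.presheaf.stalk z ≃+* X.residueField z := RingEquiv.ofBijective _ hb
    let g : Localization.AtPrime q ≃+* FractionRing (Localization.AtPrime q) :=
      RingEquiv.ofBijective (algebraMap _ _) (by
        refine ⟨IsFractionRing.injective _ _, fun w => ?_⟩
        obtain ⟨a, b, hw⟩ := IsLocalization.exists_mk'_eq (nonZeroDivisors (Localization.AtPrime q)) w
        obtain ⟨c, hc⟩ := hf.mul_inv_cancel (nonZeroDivisors.ne_zero b.2)
        refine ⟨a * c, ?_⟩
        rw [← hw, IsLocalization.eq_mk'_iff_mul_eq, ← map_mul, mul_assoc, mul_comm c, hc, mul_one])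
    exact IsAlgClosed.of_ringEquiv (X.residueField z) (FractionRing (Localization.AtPrime q))
      ((r.symm.trans e).trans g)


/-- Let X be a scheme such that every local ring of X is a field and every residue field of X is
algebraically closed, and let f : Y → X be an étale morphism. Then f is Zariski-locally trivial: for
every point y of Y there exist an open V of X containing f(y) and a section s : V → Y of f over V
whose image contains y. (The published lemma is stated for a specific scheme X^c attached to a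
coherent scheme — the constructible topology of a suitable integral cover, which has these two
properties by construction; the row states the assertion for every scheme with these two properties,
which is all the printed proof uses. The lemma's further assertions about the étale and Zariski
topoi, torsors and gerbes on X^c are not included.) -/
theorem result
    (X Y : Scheme.{u}) (hX : ∀ x : X, IsField (X.presheaf.stalk x))
    (hX' : ∀ x : X, IsAlgClosed (X.residueField x))
    (f : Y ⟶ X) [Etale f] (y : Y) :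
    ∃ (V : X.Opens) (s : (V : Scheme.{u}) ⟶ Y), f.base y ∈ V ∧ s ≫ f = V.ι ∧ y ∈ Set.range s.base := by
  haveI : LocallyQuasiFinite f := WeightLib.locallyQuasiFinite_of_etale f
  haveI : DiscreteTopology ↥(f.base ⁻¹' {f.base y}) :=
    (f.isDiscrete_preimage_singleton (f.base y)).to_subtype
  obtain ⟨O, hO, hOy⟩ : ∃ O : Set Y, IsOpen O ∧ O ∩ f.base ⁻¹' {f.base y} = {y} := by
    have h := isOpen_discrete ({⟨y, rfl⟩} : Set ↥(f.base ⁻¹' {f.base y}))
    obtain ⟨O, hO, hO'⟩ := isOpen_induced_iff.1 h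
    refine ⟨O, hO, Set.ext fun w => ⟨fun hw => ?_, ?_⟩⟩
    · have : (⟨w, hw.2⟩ : ↥(f.base ⁻¹' {f.base y})) ∈ ({⟨y, rfl⟩} : Set _) := by
        rw [← hO']; exact hw.1
      exact congrArg Subtype.val this
    · rintro rfl
      refine ⟨?_, rfl⟩
      have : (⟨w, rfl⟩ : ↥(f.base ⁻¹' {f.base w})) ∈ Subtype.val ⁻¹' O := by rw [hO']; rfl
      exact this
  have hyO : y ∈ O := by
    have : y ∈ ({y} : Set Y) := rfl
    rw [← hOy] at this; exact this.1
  obtain ⟨U, hU, hxU, hUO⟩ : ∃ U : X.Opens, IsAffineOpen U ∧ f.base y ∈ U ∧ (U : Set X) ⊆ f.base '' O := by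
    obtain ⟨_, ⟨U, hU, rfl⟩, hxU, hUO⟩ := X.isBasis_affineOpens.exists_subset_of_mem_open
      (show f.base y ∈ f.base '' O from ⟨y, hyO, rfl⟩) (f.isOpenMap _ hO)
    exact ⟨U, hU, hxU, hUO⟩
  let O' : Y.Opens := ⟨O, hO⟩ ⊓ f ⁻¹ᵁ U
  let h : (O' : Scheme.{u}) ⟶ Spec Γ(X, U) := f.resLE U O' inf_le_right ≫ hU.isoSpec.hom
  haveI : Surjective (f.resLE U O' inf_le_right) := ⟨fun u => by
    obtain ⟨w, hw, hwu⟩ := hUO u.2
    refine ⟨⟨w, hw, by show f.base w ∈ U; rw [hwu]; exact u.2⟩, U.ι.isOpenEmbedding.injective ?_⟩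
    rw [← Scheme.Hom.comp_apply, Scheme.Hom.resLE_comp_ι]
    exact hwu⟩
  haveI : Etale (O'.ι ≫ f) := inferInstance
  haveI : Flat (f.resLE U O' inf_le_right) := inferInstance
  haveI : LocallyOfFinitePresentation (f.resLE U O' inf_le_right) := inferInstance
  obtain ⟨V, r, hV, hr⟩ := FppfLib.exists_local_section h (fun q _ => stalk_spec_field hX hX' hU q)
    (hU.isoSpec.hom.base ⟨f.base y, hxU⟩)
  let V' : X.Opens := U.ι ''ᵁ (hU.isoSpec.hom ⁻¹ᵁ V)
  let e := (U.ι.isoImage (hU.isoSpec.hom ⁻¹ᵁ V)).inv ≫ (hU.isoSpec.hom ∣_ V)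
  let s : (V' : Scheme.{u}) ⟶ Y := e ≫ r ≫ O'.ι
  have hs : s ≫ f = V'.ι := by
    have h1 : (e ≫ r ≫ f.resLE U O' inf_le_right) ≫ hU.isoSpec.hom =
        ((U.ι.isoImage (hU.isoSpec.hom ⁻¹ᵁ V)).inv ≫ (hU.isoSpec.hom ⁻¹ᵁ V).ι) ≫ hU.isoSpec.hom := by
      simp only [e, Category.assoc]
      rw [hr, morphismRestrict_ι]
    rw [cancel_mono] at h1
    simp only [s, Category.assoc]
    rw [← Scheme.Hom.resLE_comp_ι f (inf_le_right : O' ≤ f ⁻¹ᵁ U)]
    rw [← Category.assoc r, ← Category.assoc e, h1, Category.assoc]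
    exact U.ι.isoImage_inv_ι _
  have hxV : f.base y ∈ V' := ⟨⟨f.base y, hxU⟩, hV, rfl⟩
  refine ⟨V', s, hxV, hs, ⟨⟨f.base y, hxV⟩, ?_⟩⟩
  let w := s.base ⟨f.base y, hxV⟩
  have hw1 : f.base w = f.base y := by
    show f.base (s.base ⟨f.base y, hxV⟩) = _
    rw [← Scheme.Hom.comp_apply, hs]; rfl
  have hw2 : w ∈ O := by
    show (e ≫ r ≫ O'.ι).base ⟨f.base y, hxV⟩ ∈ O
    exact ((r.base (e.base ⟨f.base y, hxV⟩)).2).1
  have : w ∈ O ∩ f.base ⁻¹' {f.base y} := ⟨hw2, hw1⟩
  rw [hOy] at this
  exact this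

end Groth.Agent.S16583
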