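import Groth.Statements.S1659
import Mathlib.Data.DFinsupp.WellFounded
import Groth.Agent.S1568
import Groth.Agent.SurfAmpleLib.Divide
import Groth.Agent.AlgSpRegLib.ImageReduced
-- import your own Groth.Agent.* helpers here

set_option autoImplicit false
set_option backward.isDefEq.respectTransparency false
set_option linter.all false
universe u
open CategoryTheory CategoryTheory.Limits AlgebraicGeometry
open Divisors

namespace Groth.Agent.S1659

open AlgebraicGeometry CategoryTheory Limits TopologicalSpace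

theorem exists_generic_point {X : Scheme.{u}} (Z : Set X) (hZ : IsClosed Z) (hne : Z.Nonempty) :
    ∃ ξ ∈ Z, ∀ y ∈ Z, y ⤳ ξ → y = ξ := by
  haveI : QuasiSober ↥Z := hZ.isClosedEmbedding_subtypeVal.quasiSober
  haveI : T0Space ↥Z := inferInstance
  obtain ⟨a, ha⟩ := hne
  let t : ↥Z := ⟨a, ha⟩
  obtain ⟨ξ, hξ⟩ := QuasiSober.sober (isIrreducible_irreducibleComponent (x := t))
    (isClosed_irreducibleComponent (x := t))
  refine ⟨ξ.1, ξ.2, fun y hy hys => ?_⟩
  have hs : (⟨y, hy⟩ : ↥Z) ⤳ ξ := Topology.IsInducing.subtypeVal.specializes_iff.mp hys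
  have hle : irreducibleComponent t ⊆ closure {⟨y, hy⟩} := by
    rw [← hξ.def]
    exact closure_minimal (Set.singleton_subset_iff.mpr hs.mem_closure) isClosed_closure
  have h2 : closure {(⟨y, hy⟩ : ↥Z)} ⊆ irreducibleComponent t :=
    (irreducibleComponent_mem_irreducibleComponents t).2 isIrreducible_singleton.closure hle
  exact congrArg Subtype.val ((hs.antisymm (hξ.specializes (h2 (subset_closure rfl)))).eq)

theorem exists_component_le {X : Scheme.{u}} [IsNoetherian X] {D : X.IdealSheafData}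
    (hD : BlowUp.IsEffCartierIdeal D) (hne : D ≠ ⊤) {r : ℕ} (Ds : Fin r → X.IdealSheafData)
    (hDs : ∀ i, BlowUp.IsEffCartierIdeal (Ds i)) (hint : ∀ i, IsIntegral (Ds i).subscheme)
    (hsub : (D.support : Set X) ⊆ ⋃ i, ((Ds i).support : Set X)) :
    ∃ i, D ≤ Ds i ∧ ∃ ξ, ξ ∈ (D.support : Set X) ∧ ξ ∈ ((Ds i).support : Set X) := by
  have hne' : (D.support : Set X).Nonempty := by
    rw [Set.nonempty_iff_ne_empty]
    refine fun h => hne ?_
    rw [← Scheme.IdealSheafData.support_eq_bot_iff]
    exact Closeds.ext h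
  obtain ⟨ξ, hξ, hgen⟩ := exists_generic_point _ D.support.isClosed hne'
  obtain ⟨i, hi⟩ := Set.mem_iUnion.mp (hsub hξ)
  refine ⟨i, ?_, ξ, hξ, hi⟩
  haveI := hint i
  haveI : IrreducibleSpace ↥(Ds i).subscheme := inferInstance
  let η : X := (Ds i).subschemeι (genericPoint (Ds i).subscheme)
  have hηsup : IsGenericPoint η ((Ds i).support : Set X) := by
    have h1 := (genericPoint_spec (Ds i).subscheme).image (Ds i).subschemeι.continuous
    rw [Set.image_univ, (Ds i).range_subschemeι, (Ds i).support.isClosed.closure_eq] at h1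
    exact h1
  have hηmax : ∀ y ∈ ((Ds i).support : Set X), y ⤳ η → y = η := fun y hy hys =>
    (hys.antisymm (hηsup.specializes hy)).eq
  have hd1 := Groth.Agent.S1568.result X D hD ξ hξ hgen
  have hd2 := Groth.Agent.S1568.result X (Ds i) (hDs i) η hηsup.mem hηmax
  have hηξ : ξ = η := by
    by_contra hne2
    have hlt : ξ < η := lt_of_le_not_ge (hηsup.specializes hi)
      (fun h => hne2 ((Specializes.antisymm h (hηsup.specializes hi)).eq))
    rw [ringKrullDim_stalk_eq_coheight] at hd1 hd2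
    have h1 : Order.coheight ξ = 1 := WithBot.coe_eq_coe.mp hd1
    have h2 : Order.coheight η = 1 := WithBot.coe_eq_coe.mp hd2
    have h3 := Order.coheight_add_one_le hlt
    rw [h1, h2] at h3
    exact absurd h3 (by decide)
  have hss : ((Ds i).support : Set X) ⊆ D.support := by
    rw [← hηsup.def, ← hηξ]
    exact closure_minimal (Set.singleton_subset_iff.mpr hξ) D.support.isClosed
  rw [AlgSpRegLib.eq_vanishingIdeal_support (Ds i)]
  exact Scheme.IdealSheafData.le_support_iff_le_vanishingIdeal.mp hss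


/-- Let X be Noetherian, D an effective Cartier divisor and D_1, …, D_r effective Cartier divisors which
are integral as closed subschemes, with D contained set-theoretically in their union. Then D = Σ a_i
D_i for some a_i ≥ 0, i.e. the ideal sheaf of D is the product of the a_i-th powers of the ideal
sheaves of the D_i. -/
theorem result (X : Scheme.{u}) [IsNoetherian X] (D : X.IdealSheafData) (hD : BlowUp.IsEffCartierIdeal D)
    (r : ℕ) (Ds : Fin r → X.IdealSheafData) (hDs : ∀ i, BlowUp.IsEffCartierIdeal (Ds i)) (hint : ∀ i, IsIntegral (Ds i).subscheme)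
    (hsub : (D.support : Set X) ⊆ ⋃ i, ((Ds i).support : Set X)) :
    ∃ a : Fin r → ℕ, D = ∏ i, Ds i ^ a i := by
  classical
  obtain ⟨S, hS⟩ := (isCompact_univ (X := X)).elim_finite_subcover
    (fun V : X.affineOpens => (V.1 : Set X)) (fun V => V.1.2) (fun x _ => by
      obtain ⟨V, hV, hxV, -⟩ := exists_isAffineOpen_mem_and_subset (x := x) (U := ⊤) (Set.mem_univ _)
      exact Set.mem_iUnion.mpr ⟨⟨V, hV⟩, hxV⟩)
  let Φ : X.IdealSheafData → ∀ V : S, Ideal Γ(X, V.1.1) := fun E V => E.ideal V.1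
  have hwf : WellFounded (fun E F : X.IdealSheafData => Φ F < Φ E) := by
    haveI : ∀ V : S, WellFoundedGT (Ideal Γ(X, V.1.1)) := fun V => by
      haveI := IsLocallyNoetherian.component_noetherian (X := X) V.1
      exact (isNoetherian_iff'.mp inferInstance)
    exact InvImage.wf Φ (wellFounded_lt (α := ∀ V : S, (Ideal Γ(X, V.1.1))ᵒᵈ))
  have hinj : ∀ E F : X.IdealSheafData, Φ E = Φ F → E = F := fun E F h =>
    Scheme.IdealSheafData.ext_of_iSup_eq_top (fun V : S => V.1)
      (eq_top_iff.mpr fun x _ => by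
        obtain ⟨V, hV, hx⟩ := Set.mem_iUnion₂.mp (hS (Set.mem_univ x))
        exact Opens.mem_iSup.mpr ⟨⟨V, hV⟩, hx⟩)
      fun V => congrFun h V
  suffices key : ∀ E : X.IdealSheafData, BlowUp.IsEffCartierIdeal E →
      (E.support : Set X) ⊆ ⋃ i, ((Ds i).support : Set X) → ∃ a : Fin r → ℕ, E = ∏ i, Ds i ^ a i from key D hD hsub
  intro E
  refine hwf.induction (C := fun E => BlowUp.IsEffCartierIdeal E →
      (E.support : Set X) ⊆ ⋃ i, ((Ds i).support : Set X) → ∃ a : Fin r → ℕ, E = ∏ i, Ds i ^ a i) E ?_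
  intro E ih hE hsubE
  by_cases hEt : E = ⊤
  · refine ⟨fun _ => 0, ?_⟩
    simp only [pow_zero, Finset.prod_const_one]
    rw [Scheme.IdealSheafData.one_eq_top]; exact hEt
  obtain ⟨i, hle, ξ, hξE, hξi⟩ := exists_component_le hE hEt Ds hDs hint hsubE
  obtain ⟨E', hE', hmul⟩ := SurfAmpleLib.exists_eq_mul hE (hDs i) hle
  have hEE' : E ≤ E' := fun V => by
    show E.ideal V ≤ E'.ideal V
    rw [← hmul, Scheme.IdealSheafData.ideal_mul, Pi.mul_apply]
    exact Ideal.mul_le_right
  have hne : E ≠ E' := fun heq => by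
    obtain ⟨V, hξV, f, hf, hfV⟩ := hE ξ
    have h1 : f ∈ (Ds i).ideal V * Ideal.span {f} := by
      have h2 : E.ideal V = (Ds i).ideal V * E'.ideal V := by
        conv_lhs => rw [← hmul]
        rw [Scheme.IdealSheafData.ideal_mul, Pi.mul_apply]
      rw [← heq, hfV] at h2
      rw [← h2]
      exact Ideal.mem_span_singleton_self f
    obtain ⟨c, hc, hcf⟩ := Ideal.mem_mul_span_singleton.mp h1
    have hc1 : c = 1 := by
      have h4 : (c - 1) * f = 0 := by rw [sub_mul, hcf, one_mul, sub_self]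
      exact sub_eq_zero.mp ((mem_nonZeroDivisors_iff_right.mp hf) _ h4)
    rw [SetLike.mem_coe, Scheme.IdealSheafData.mem_support_iff_of_mem (U := V) hξV, Scheme.mem_zeroLocus_iff] at hξi
    exact hξi c hc (by rw [hc1, Scheme.basicOpen_of_isUnit _ isUnit_one]; exact hξV)
  have hlt : Φ E < Φ E' := lt_of_le_of_ne (fun V => hEE' V.1) (fun h => hne (hinj _ _ h))
  obtain ⟨a, ha⟩ := ih E' hlt hE' (fun x hx => hsubE (Scheme.IdealSheafData.support_antitone hEE' hx))
  refine ⟨fun j => a j + (if j = i then 1 else 0), ?_⟩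
  simp only [pow_add, Finset.prod_mul_distrib, pow_ite, pow_one, pow_zero, Finset.prod_ite_eq',
    Finset.mem_univ, if_true]
  rw [← ha, ← hmul, AlgSpRegLib.mul_comm']

end Groth.Agent.S1659
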