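import Groth.Statements.S16599
import Groth.Agent.LGLib.Points

set_option autoImplicit false
open AlgebraicGeometry
universe u
open LGRing

namespace Groth.Agent.S16599

/-- Let R be an LG-ring, n ≥ 0, and U an open quasi-compact subscheme of affine n-space Spec R[X₁, …,
Xₙ]. If U has an (R ⧸ m)-valued point over R for every maximal ideal m of R, then U has an R-valued
point: some n-tuple x over R defines a section Spec R ⟶ Spec R[X₁, …, Xₙ] with image inside U. -/
theorem result {R : Type u} [CommRing R] (hR : LGRing.IsLGRing R)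
    (n : ℕ) (U : (Spec (CommRingCat.of (MvPolynomial (Fin n) R))).Opens)
    (hU : IsCompact (U : Set ↥(Spec (CommRingCat.of (MvPolynomial (Fin n) R)))))
    (h : ∀ (m : Ideal R) [m.IsMaximal], ∃ x : Fin n → R ⧸ m,
      Set.range (Spec.map (CommRingCat.ofHom (MvPolynomial.eval₂Hom (Ideal.Quotient.mk m) x))).base ⊆
        (U : Set ↥(Spec (CommRingCat.of (MvPolynomial (Fin n) R))))) :
    ∃ x : Fin n → R, Set.range (Spec.map (CommRingCat.ofHom (MvPolynomial.eval x))).base ⊆
      (U : Set ↥(Spec (CommRingCat.of (MvPolynomial (Fin n) R)))) := by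
  obtain ⟨F, hF⟩ := LGLib.exists_basicOpen_cover U hU
  obtain ⟨s, hs⟩ := LGLib.exists_point hR (RingHom.id (MvPolynomial (Fin n) R)) F fun m hm => by
    obtain ⟨x, hx⟩ := h m
    rw [LGLib.range_subset_iff U F hF] at hx
    choose s hs using fun i => Ideal.Quotient.mk_surjective (x i)
    obtain ⟨P, hP⟩ := Ideal.exists_maximal (R ⧸ m)
    obtain ⟨f, hf, hfP⟩ := hx ⟨P, hP.isPrime⟩
    refine ⟨s, f, hf, fun hmem => hfP ?_⟩
    rw [LGLib.eval_lift_mk m x s hs]
    rw [RingHom.id_apply] at hmem
    rw [Ideal.Quotient.eq_zero_iff_mem.mpr hmem]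
    exact Submodule.zero_mem _
  exact ⟨s, (LGLib.range_subset_iff U F hF _).mpr hs⟩

end Groth.Agent.S16599
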