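import Groth.Statements.S1660
import Groth.Agent.EffCartLib.Basic
import Groth.Agent.DivDescLib.Local
-- import your own Groth.Agent.* helpers here

set_option autoImplicit false
set_option backward.isDefEq.respectTransparency false
set_option linter.all false
universe u
open CategoryTheory CategoryTheory.Limits AlgebraicGeometry
open Divisors

namespace Groth.Agent.S1660

open AlgebraicGeometry CategoryTheory Limits TopologicalSpace IsLocalRing

theorem exists_gcd_form {A : Type u} [CommRing A] [IsDomain A] [IsLocalRing A] [IsNoetherianRing A]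
    (I : Ideal A) (hI : I ≠ ⊥) :
    ∃ (g : A) (J : Ideal A), g ≠ 0 ∧ J ≠ ⊥ ∧ I = Ideal.span {g} * J ∧ ∀ π : A, Prime π → ¬ J ≤ Ideal.span {π} := by
  let T : Set (Ideal A) := {J | ∃ g, g ≠ 0 ∧ J ≠ ⊥ ∧ I = Ideal.span {g} * J}
  obtain ⟨J, ⟨g, hg, hJ, hIJ⟩, hmax⟩ := set_has_maximal_iff_noetherian.mpr inferInstance T
    ⟨I, 1, one_ne_zero, hI, by rw [Ideal.span_singleton_one, Ideal.top_mul]⟩
  refine ⟨g, J, hg, hJ, hIJ, fun π hπ hle => ?_⟩
  let J' : Ideal A := J.comap (LinearMap.mulLeft A π)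
  have hJ' : J = Ideal.span {π} * J' := by
    apply le_antisymm
    · intro a ha
      obtain ⟨b, rfl⟩ := Ideal.mem_span_singleton.mp (hle ha)
      exact Ideal.mul_mem_mul (Ideal.mem_span_singleton_self π) (by simpa [J'] using ha)
    · rw [Ideal.span_singleton_mul_le_iff]
      exact fun b hb => hb
  have hle' : J ≤ J' := fun a ha => by
    show π * a ∈ J
    exact Ideal.mul_mem_left J π ha
  have hJ'0 : J' ≠ ⊥ := fun h0 => hJ (le_bot_iff.mp (h0 ▸ hle'))
  have hmem : J' ∈ T := ⟨g * π, mul_ne_zero hg hπ.ne_zero, hJ'0, by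
    rw [hIJ, hJ', ← mul_assoc, Ideal.span_singleton_mul_span_singleton]⟩
  have heq : J = J' := (lt_or_eq_of_le hle').resolve_left (hmax J' hmem)
  refine hJ (Submodule.eq_bot_of_le_smul_of_le_jacobson_bot (Ideal.span {π}) J (IsNoetherian.noetherian J) ?_ ?_)
  · conv_lhs => rw [hJ', ← heq]
    exact le_rfl
  · rw [IsLocalRing.jacobson_eq_maximalIdeal ⊥ bot_ne_top, Ideal.span_singleton_le_iff_mem]
    exact (IsLocalRing.mem_maximalIdeal π).mpr hπ.not_unit

theorem principal_of_ufd {A : Type u} [CommRing A] [IsDomain A] [IsLocalRing A] [IsNoetherianRing A]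
    [UniqueFactorizationMonoid A] (I : Ideal A)
    (hcond : ∀ (q : Ideal A), q.IsPrime → ∀ c : A, c ∉ I → (∀ b ∈ q, b * c ∈ I) →
      ∃ t ∈ I, t ≠ 0 ∧ ∀ a ∈ I, ∃ s ∉ q, s * a ∈ Ideal.span {t}) :
    ∃ g : A, g ≠ 0 ∧ I = Ideal.span {g} := by
  by_cases hI : I = ⊥
  · exfalso
    obtain ⟨t, htI, ht0, -⟩ := hcond ⊥ Ideal.isPrime_bot 1 (by simp [hI]) (fun b hb => by
      rw [Ideal.mem_bot] at hb; simp [hb])
    rw [hI, Ideal.mem_bot] at htI
    exact ht0 htI
  obtain ⟨g, J, hg, hJ, hIJ, hπ⟩ := exists_gcd_form I hI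
  by_cases hJt : J = ⊤
  · exact ⟨g, hg, by rw [hIJ, hJt, Ideal.mul_top]⟩
  exfalso
  obtain ⟨q, hq, -⟩ := Ideal.exists_minimalPrimes_le (IsLocalRing.le_maximalIdeal hJt)
  haveI := hq.1.1
  have hass : q ∈ associatedPrimes A (A ⧸ J) :=
    Module.associatedPrimes.minimalPrimes_annihilator_subset_associatedPrimes A (A ⧸ J) (by rwa [Ideal.annihilator_quotient])
  obtain ⟨-, z, hz⟩ := isAssociatedPrime_iff.1 hass
  obtain ⟨w, rfl⟩ := Ideal.Quotient.mk_surjective z
  have hmemq : ∀ b, b ∈ q ↔ b * w ∈ J := fun b => by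
    rw [hz, Submodule.mem_colon_singleton, Submodule.mem_bot, Algebra.smul_def, Ideal.Quotient.algebraMap_eq,
      ← map_mul, Ideal.Quotient.eq_zero_iff_mem]
  have hw : w ∉ J := fun h => hq.1.1.ne_top ((Ideal.eq_top_iff_one _).mpr ((hmemq 1).mpr (by rwa [one_mul])))
  have hgJ : ∀ a, g * a ∈ I ↔ a ∈ J := fun a => by
    rw [hIJ, Ideal.mem_span_singleton_mul]
    exact ⟨fun ⟨b, hb, h⟩ => mul_left_cancel₀ hg h ▸ hb, fun h => ⟨a, h, rfl⟩⟩
  obtain ⟨t, htI, ht0, ht⟩ := hcond q hq.1.1 (g * w) (fun h => hw ((hgJ w).mp h)) (fun b hb => by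
    rw [mul_left_comm]; exact (hgJ _).mpr ((hmemq b).mp hb))
  obtain ⟨j, hjJ, rfl⟩ : ∃ j ∈ J, g * j = t := by
    rw [hIJ, Ideal.mem_span_singleton_mul] at htI
    exact htI
  have hj0 : j ≠ 0 := fun h => ht0 (by rw [h, mul_zero])
  have hjq : j ∈ q := hq.1.2 hjJ
  obtain ⟨q', hq', hq'le⟩ := Ideal.exists_minimalPrimes_le
    (show Ideal.span {j} ≤ q from (Ideal.span_singleton_le_iff_mem _).mpr hjq)
  haveI := hq'.1.1
  have hJq' : J ≤ q' := fun a ha => by
    obtain ⟨s, hs, hsa⟩ := ht (g * a) ((hgJ a).mpr ha)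
    obtain ⟨r, hr⟩ := Ideal.mem_span_singleton.mp hsa
    have h1 : s * a = j * r := mul_left_cancel₀ hg (by linear_combination hr)
    have h2 : s * a ∈ q' := h1 ▸ q'.mul_mem_right r (hq'.1.2 (Ideal.mem_span_singleton_self j))
    exact (hq'.1.1.mem_or_mem h2).resolve_left fun h => hs (hq'le h)
  have hqq : q = q' := le_antisymm (hq.2 ⟨hq'.1.1, hJq'⟩ hq'le) hq'le
  subst hqq
  have hht : q.height ≤ 1 := Ideal.height_le_one_of_isPrincipal_of_mem_minimalPrimes (Ideal.span {j}) q hq'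
  have hq0 : q ≠ ⊥ := fun h => hj0 (by rw [h, Ideal.mem_bot] at hjq; exact hjq)
  obtain ⟨π, hπq, hπp⟩ := Ideal.IsPrime.exists_mem_prime_of_ne_bot hq.1.1 hq0
  haveI hπprime : (Ideal.span {π}).IsPrime := (Ideal.span_singleton_prime hπp.ne_zero).mpr hπp
  have hπle : Ideal.span {π} ≤ q := (Ideal.span_singleton_le_iff_mem _).mpr hπq
  refine hπ π hπp (le_trans hq.1.2 ?_)
  by_contra hne
  have h1 := Ideal.height_add_one_le_of_lt_of_isPrime (lt_of_le_of_ne hπle fun h => hne h.ge)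
  have hone : (1 : ℕ∞) ≤ (Ideal.span {π}).height := by
    rw [ENat.one_le_iff_ne_zero, ne_eq, Ideal.height_eq_zero_iff_eq_bot]
    simpa using hπp.ne_zero
  have h2 : (1 : ℕ∞) + 1 ≤ 1 := le_trans (add_le_add hone le_rfl) (h1.trans hht)
  exact absurd h2 (by decide)

/-- Membership in the kernel can be tested at the points of the image. -/
theorem mem_ker_of_germ {X Y : Scheme.{u}} (f : Y ⟶ X) [QuasiCompact f] (V : X.affineOpens) (e : Γ(X, V.1))
    (h : ∀ (z : Y) (hz : f z ∈ V.1),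
      (X.presheaf.germ V.1 (f z) hz).hom e ∈ (f.ker.ideal V).map (X.presheaf.germ V.1 (f z) hz).hom) :
    e ∈ f.ker.ideal V := by
  have hk := f.ker_apply V
  rw [hk, RingHom.mem_ker]
  apply TopCat.Presheaf.section_ext Y.sheaf _ _ _
  intro z hz
  rw [map_zero]
  obtain ⟨c, hc, hce⟩ := (DivDescLib.germ_mem_iff V _ hz e).1 (h z hz)
  rw [hk, RingHom.mem_ker, map_mul] at hce
  have hcu : IsUnit ((X.presheaf.germ V.1 (f z) hz).hom c) := (DivDescLib.isUnit_germ_iff V hz c).2 hc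
  have hcu' : IsUnit ((Y.presheaf.germ (f ⁻¹ᵁ V.1) z hz).hom ((f.app V.1).hom c)) := by
    have h2 := hcu.map (f.stalkMap z).hom
    rwa [← RingHom.comp_apply, ← CommRingCat.hom_comp, Scheme.Hom.germ_stalkMap, CommRingCat.hom_comp,
      RingHom.comp_apply] at h2
  have h3 := congrArg (Y.presheaf.germ (f ⁻¹ᵁ V.1) z hz).hom hce
  rw [map_mul, map_zero] at h3
  exact hcu'.mul_right_eq_zero.mp h3


/-- Let X be locally Noetherian, U open, and D an effective Cartier divisor on U. If the local ring of X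
at every point outside U is a unique factorisation domain, then there is an effective Cartier
divisor D' on X whose restriction (inverse image ideal) to U is D. -/
theorem result (X : Scheme.{u}) [IsLocallyNoetherian X] (U : X.Opens)
    (D : (U : Scheme.{u}).IdealSheafData) (hD : BlowUp.IsEffCartierIdeal D)
    (hufd : ∀ x : X, x ∉ U → IsDomain (X.presheaf.stalk x) ∧ UniqueFactorizationMonoid (X.presheaf.stalk x)) :
    ∃ D' : X.IdealSheafData, BlowUp.IsEffCartierIdeal D' ∧ D'.comap U.ι = D := by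
  haveI hqc : QuasiCompact (D.subschemeι ≫ U.ι) := inferInstance
  let f := D.subschemeι ≫ U.ι
  let D' : X.IdealSheafData := D.map U.ι
  have hD'f : D' = f.ker := rfl
  have himg : ∀ W : U.toScheme.affineOpens, D'.ideal ⟨U.ι ''ᵁ W.1, W.2.image_of_isOpenImmersion U.ι⟩ =
      (D.ideal W).map (U.ι.appIso W.1).inv.hom := by
    intro W
    have hpre : U.ι ⁻¹ᵁ (U.ι ''ᵁ W.1) = W.1 := U.ι.preimage_image_eq W.1
    have key : ∀ (W' : U.toScheme.Opens) (hW' : IsAffineOpen W') (e : W' = W.1) (ψ : Γ(X, U.ι ''ᵁ W.1) ⟶ Γ(U.toScheme, W'))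
        (_ : ψ ≫ U.toScheme.presheaf.map (eqToHom e.symm).op = (U.ι.appIso W.1).hom),
        (D.ideal ⟨W', hW'⟩).comap ψ.hom = (D.ideal W).map (U.ι.appIso W.1).inv.hom := by
      intro W' hW' e ψ hψ
      subst e
      simp only [eqToHom_refl, op_id, CategoryTheory.Functor.map_id, Category.comp_id] at hψ
      rw [hψ]
      exact (Ideal.map_comap_of_equiv (U.ι.appIso W.1).symm.commRingCatIsoToRingEquiv).symm
    rw [Scheme.IdealSheafData.ideal_map D U.ι ⟨_, W.2.image_of_isOpenImmersion U.ι⟩ (hpre.symm ▸ W.2)]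
    refine key _ _ hpre _ ?_
    rw [Scheme.Hom.appIso_hom]
  have hcomap : D'.comap U.ι = D := by
    refine Scheme.IdealSheafData.ext (funext fun W => ?_)
    rw [Scheme.IdealSheafData.ideal_comap_of_isOpenImmersion, himg]
    exact Ideal.comap_map_of_bijective _ (U.ι.appIso W.1).commRingCatIsoToRingEquiv.symm.bijective
  have hUcase : ∀ x : X, x ∈ U → ∃ W : X.affineOpens, x ∈ W.1 ∧
      ∃ g : Γ(X, W.1), g ∈ nonZeroDivisors Γ(X, W.1) ∧ D'.ideal W = Ideal.span {g} := by
    intro x hx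
    obtain ⟨W, hxW, g, hg, hgW⟩ := hD ⟨x, hx⟩
    refine ⟨⟨_, W.2.image_of_isOpenImmersion U.ι⟩, ⟨_, hxW, rfl⟩, (U.ι.appIso W.1).inv g, ?_, ?_⟩
    · let e := (U.ι.appIso W.1).symm.commRingCatIsoToRingEquiv
      show e g ∈ nonZeroDivisors _
      rw [mem_nonZeroDivisors_iff_right]
      intro b hb
      obtain ⟨b, rfl⟩ := e.surjective b
      rw [← map_mul, map_eq_zero_iff e e.injective] at hb
      rw [(mem_nonZeroDivisors_iff_right.mp hg) b hb, map_zero]
    · rw [himg, hgW, Ideal.map_span, Set.image_singleton]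
  refine ⟨D', fun x => ?_, hcomap⟩
  by_cases hx : x ∈ U
  · exact hUcase x hx
  obtain ⟨hdom, hU'⟩ := hufd x hx
  haveI := hdom
  haveI := hU'
  obtain ⟨V₀, hV₀, hxV₀, -⟩ := exists_isAffineOpen_mem_and_subset (x := x) (U := ⊤) (Set.mem_univ _)
  let V : X.affineOpens := ⟨V₀, hV₀⟩
  have hxV : x ∈ V.1 := hxV₀
  haveI := IsLocallyNoetherian.component_noetherian (X := X) V
  let γ := (X.presheaf.germ V.1 x hxV).hom
  let L := D'.ideal V
  let I := L.map γ
  obtain ⟨g, hg0, hg⟩ := principal_of_ufd I fun q hq c hc hqc => by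
    haveI := hq
    obtain ⟨x', hx'V, hpe⟩ := SDivLib.exists_point V (q.comap γ)
    by_cases hx'U : x' ∈ U
    · obtain ⟨W, hx'W, f₀, hf₀, hf₀W⟩ := hUcase x' hx'U
      let γ' := (X.presheaf.germ V.1 x' hx'V).hom
      let f' := (X.presheaf.germ W.1 x' hx'W).hom f₀
      obtain ⟨_, ⟨R, hR, rfl⟩, hx'R, hRle⟩ := X.isBasis_affineOpens.exists_subset_of_mem_open
        (show x' ∈ (V.1 ⊓ W.1 : X.Opens) from ⟨hx'V, hx'W⟩) (V.1 ⊓ W.1).2
      have hV' : L.map (X.presheaf.map (homOfLE ((SetLike.coe_subset_coe.mp hRle).trans inf_le_left)).op).hom = D'.ideal ⟨R, hR⟩ :=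
        D'.map_ideal (U := ⟨R, hR⟩) (V := V) ((SetLike.coe_subset_coe.mp hRle).trans inf_le_left)
      have hW' : (D'.ideal W).map (X.presheaf.map (homOfLE ((SetLike.coe_subset_coe.mp hRle).trans inf_le_right)).op).hom = D'.ideal ⟨R, hR⟩ :=
        D'.map_ideal (U := ⟨R, hR⟩) (V := W) ((SetLike.coe_subset_coe.mp hRle).trans inf_le_right)
      have hst : L.map γ' = Ideal.span {f'} := by
        have h1 : L.map γ' = (D'.ideal ⟨R, hR⟩).map (X.presheaf.germ R x' hx'R).hom := by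
          rw [← hV', Ideal.map_map, ← CommRingCat.hom_comp, X.presheaf.germ_res]
        rw [h1, ← hW', Ideal.map_map, ← CommRingCat.hom_comp, X.presheaf.germ_res, hf₀W, Ideal.map_span,
          Set.image_singleton]
      have hf'nz : f' ∈ nonZeroDivisors (X.presheaf.stalk x') := by
        letI := X.presheaf.algebra_section_stalk (⟨x', hx'W⟩ : W.1)
        haveI : IsLocalization.AtPrime (X.presheaf.stalk x') (W.2.primeIdealOf ⟨x', hx'W⟩).asIdeal :=
          W.2.isLocalization_stalk ⟨x', hx'W⟩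
        exact IsLocalization.map_nonZeroDivisors_le (W.2.primeIdealOf ⟨x', hx'W⟩).asIdeal.primeCompl _
          (Submonoid.mem_map.mpr ⟨f₀, hf₀, rfl⟩)
      obtain ⟨a₀, c₀, hc₀, hfc⟩ := DivDescLib.exists_germ_eq V hx'V f'
      have hc₀u : IsUnit (γ' c₀) := (DivDescLib.isUnit_germ_iff V hx'V c₀).2 hc₀
      obtain ⟨c₂, hc₂, hc₂a⟩ := (DivDescLib.germ_mem_iff V L hx'V a₀).1 (by
        show γ' a₀ ∈ L.map γ'
        rw [hst, ← hfc]; exact Ideal.mul_mem_right _ _ (Ideal.mem_span_singleton_self f'))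
      have ht₀ : L.map γ' = Ideal.span {γ' (c₂ * a₀)} := by
        have hc₂u : IsUnit (γ' c₂) := (DivDescLib.isUnit_germ_iff V hx'V c₂).2 hc₂
        rw [hst, map_mul, Ideal.span_singleton_mul_left_unit hc₂u, ← hfc,
          Ideal.span_singleton_mul_right_unit hc₀u]
      refine ⟨γ (c₂ * a₀), Ideal.mem_map_of_mem γ hc₂a, fun h0 => ?_, fun a ha => ?_⟩
      · obtain ⟨c₃, hc₃, hce⟩ := (DivDescLib.germ_mem_iff V (⊥ : Ideal Γ(X, V.1)) hxV (c₂ * a₀)).1 (by
          rw [Ideal.map_bot, Ideal.mem_bot]; exact h0)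
        rw [Ideal.mem_bot] at hce
        have hc₃u : IsUnit (γ' c₃) := (DivDescLib.isUnit_germ_iff V hx'V c₃).2 (fun h => hc₃ (by
          rw [hpe] at h
          exact (SDivLib.mem_prm_iff _ _ _).2 fun hu => hq.ne_top (Ideal.eq_top_of_isUnit_mem _ h hu)))
        have h4 : γ' (c₂ * a₀) = 0 := by
          have := congrArg γ' hce
          rw [map_mul, map_zero] at this
          exact hc₃u.mul_right_eq_zero.mp this
        rw [h4, Ideal.span_singleton_zero, hst, Ideal.span_singleton_eq_bot] at ht₀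
        exact nonZeroDivisors.ne_zero hf'nz ht₀
      · obtain ⟨a₁, c₁, hc₁, hac⟩ := DivDescLib.exists_germ_eq V hxV a
        have hc₁u : IsUnit (γ c₁) := (DivDescLib.isUnit_germ_iff V hxV c₁).2 hc₁
        obtain ⟨c₄, hc₄, hc₄a⟩ := (DivDescLib.germ_mem_iff V L hxV a₁).1 (by
          rw [← hac]; exact Ideal.mul_mem_right _ _ ha)
        obtain ⟨c₅, hc₅, hc₅a⟩ := (DivDescLib.germ_mem_iff V (Ideal.span {c₂ * a₀}) hx'V (c₄ * a₁)).1 (by
          rw [Ideal.map_span, Set.image_singleton]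
          show γ' (c₄ * a₁) ∈ Ideal.span {γ' (c₂ * a₀)}
          rw [← ht₀]; exact Ideal.mem_map_of_mem γ' hc₄a)
        refine ⟨γ c₅ * γ c₄ * γ c₁, fun h => ?_, ?_⟩
        · have hnotq : ∀ d, IsUnit d → d ∉ q := fun d hd h => hq.ne_top (Ideal.eq_top_of_isUnit_mem _ h hd)
          rcases hq.mem_or_mem h with h | h
          · rcases hq.mem_or_mem h with h | h
            · exact hc₅ (hpe ▸ (h : γ c₅ ∈ q))
            · exact hnotq _ ((DivDescLib.isUnit_germ_iff V hxV c₄).2 hc₄) h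
          · exact hnotq _ hc₁u h
        · have : γ c₅ * γ c₄ * γ c₁ * a = γ (c₅ * (c₄ * a₁)) := by
            rw [map_mul, map_mul, ← hac]; ring
          rw [this]
          obtain ⟨r, hr⟩ := Ideal.mem_span_singleton.mp hc₅a
          rw [hr, map_mul (f := γ) (c₂ * a₀) r]
          exact Ideal.mul_mem_right _ _ (Ideal.mem_span_singleton_self _)
    · exfalso
      obtain ⟨e, c₁, hc₁, hec⟩ := DivDescLib.exists_germ_eq V hxV c
      have hc₁u : IsUnit (γ c₁) := (DivDescLib.isUnit_germ_iff V hxV c₁).2 hc₁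
      let P := q.comap γ
      obtain ⟨G, hG⟩ := IsNoetherian.noetherian P
      have hPle : ∀ p ∈ P, ∃ s ∉ SDivLib.prm V hxV, s * (p * e) ∈ L := fun p hp => by
        refine (DivDescLib.germ_mem_iff V L hxV (p * e)).1 ?_
        show γ (p * e) ∈ I
        rw [map_mul, ← hec, ← mul_assoc]
        exact Ideal.mul_mem_right _ _ (hqc _ hp)
      choose s hs hsL using fun p : G => hPle p.1 (hG ▸ Submodule.subset_span p.2)
      let T := ∏ p, s p
      have hT : T ∉ SDivLib.prm V hxV := fun h => by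
        obtain ⟨p, -, hp⟩ := (Ideal.IsPrime.prod_mem_iff (hp := (V.2.primeIdealOf ⟨x, hxV⟩).isPrime)).1 h
        exact hs p hp
      have hTP : ∀ p ∈ P, p * (T * e) ∈ L := by
        intro p hp
        rw [← hG] at hp
        refine Submodule.span_induction (p := fun p _ => p * (T * e) ∈ L) (fun y hy => ?_) (by simp)
          (fun u v _ _ hu hv => by rw [add_mul]; exact L.add_mem hu hv)
          (fun r u _ hu => by rw [smul_eq_mul, mul_assoc]; exact L.mul_mem_left r hu) hp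
        obtain ⟨d, hd⟩ := Finset.dvd_prod_of_mem s (Finset.mem_univ (⟨y, hy⟩ : G))
        show y * (T * e) ∈ L
        rw [show y * (T * e) = d * (s ⟨y, hy⟩ * (y * e)) by simp only [T]; rw [hd]; ring]
        exact L.mul_mem_left d (hsL _)
      have hTe : T * e ∈ L := by
        refine mem_ker_of_germ f V (T * e) fun z hz => ?_
        have hyU : f z ∈ U := (D.subschemeι z).2
        obtain ⟨p, hpP, hpy⟩ : ∃ p ∈ P, p ∉ SDivLib.prm V hz := by
          by_contra hcon
          push_neg at hcon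
          exact hx'U (((SDivLib.specializes_iff_prm V hz hx'V).2 (fun a ha => hcon a (by rwa [hpe] at ha))).mem_open U.2 hyU)
        refine (DivDescLib.germ_mem_iff V _ hz _).2 ⟨p, hpy, ?_⟩
        exact hTP p hpP
      apply hc
      have h1 : γ (T * e) ∈ I := Ideal.mem_map_of_mem γ hTe
      rwa [map_mul, Ideal.unit_mul_mem_iff_mem _ ((DivDescLib.isUnit_germ_iff V hxV T).2 hT), ← hec,
        Ideal.mul_unit_mem_iff_mem _ hc₁u] at h1
  exact EffCartLib.exists_nhd D' x V hxV g (mem_nonZeroDivisors_of_ne_zero hg0) hg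

end Groth.Agent.S1660
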