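import Groth.Statements.S16600
import Groth.Agent.LGLib.Points

set_option autoImplicit false
open AlgebraicGeometry
universe u
open LGRing

namespace Groth.Agent.S16600

/-- Let R be an LG-ring, M a finite locally free R-module, W(M) = Spec Sym(M^∨) the vector bundle of M
(its points with values in an R-algebra R' are the R-algebra maps Sym(M^∨) → R', i.e. the R-linear
maps M^∨ → R'), and U ⊆ W(M) an open quasi-compact subscheme. Then U(R) is non-empty if and only if
U(R ⧸ m) is non-empty for every maximal ideal m of R. -/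
theorem result {R : Type u} [CommRing R]
    (hR : LGRing.IsLGRing R) (M : Type u) [AddCommGroup M] [Module R M] [Module.Finite R M] [Module.Projective R M]
    (U : (Spec (CommRingCat.of (SymmetricAlgebra R (Module.Dual R M)))).Opens)
    (hU : IsCompact (U : Set ↥(Spec (CommRingCat.of (SymmetricAlgebra R (Module.Dual R M)))))) :
    (∃ φ : Module.Dual R M →ₗ[R] R,
      Set.range (Spec.map (CommRingCat.ofHom (SymmetricAlgebra.lift φ).toRingHom)).base ⊆
        (U : Set ↥(Spec (CommRingCat.of (SymmetricAlgebra R (Module.Dual R M)))))) ↔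
    ∀ (m : Ideal R) [m.IsMaximal], ∃ φ : Module.Dual R M →ₗ[R] (R ⧸ m),
      Set.range (Spec.map (CommRingCat.ofHom (SymmetricAlgebra.lift φ).toRingHom)).base ⊆
        (U : Set ↥(Spec (CommRingCat.of (SymmetricAlgebra R (Module.Dual R M))))) := by
  obtain ⟨F, hF⟩ := LGLib.exists_basicOpen_cover U hU
  obtain ⟨n, d, c, -, -, hdc⟩ := Module.Finite.exists_comp_eq_id_of_projective R M
  constructor
  · rintro ⟨φ, hφ⟩ m _
    rw [LGLib.range_subset_iff U F hF] at hφ
    refine ⟨(Ideal.Quotient.mkₐ R m).toLinearMap ∘ₗ φ, (LGLib.range_subset_iff U F hF _).mpr fun P => ?_⟩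
    obtain ⟨f, hf, hfP⟩ := hφ (P.comap (Ideal.Quotient.mk m))
    refine ⟨f, hf, fun hmem => hfP ?_⟩
    have e : SymmetricAlgebra.lift ((Ideal.Quotient.mkₐ R m).toLinearMap ∘ₗ φ) =
        (Ideal.Quotient.mkₐ R m).comp (SymmetricAlgebra.lift φ) :=
      SymmetricAlgebra.algHom_ext (LinearMap.ext fun ξ => by simp [SymmetricAlgebra.lift_ι_apply])
    rw [e] at hmem
    exact hmem
  · intro h
    obtain ⟨s, hs⟩ := LGLib.exists_point hR (LGLib.coordPoly d).toRingHom F fun m hm => by
      obtain ⟨ψ, hψ⟩ := h m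
      rw [LGLib.range_subset_iff U F hF] at hψ
      obtain ⟨s, hs⟩ := LGLib.lift_mk_eq d c m hdc ψ
      obtain ⟨P, hP⟩ := Ideal.exists_maximal (R ⧸ m)
      obtain ⟨f, hf, hfP⟩ := hψ ⟨P, hP.isPrime⟩
      refine ⟨s, f, hf, fun hmem => hfP ?_⟩
      rw [AlgHom.toRingHom_eq_coe, RingHom.coe_coe, LGLib.eval_coordPoly] at hmem
      rw [AlgHom.toRingHom_eq_coe, RingHom.coe_coe, hs, Ideal.Quotient.eq_zero_iff_mem.mpr hmem]
      exact Submodule.zero_mem _
    refine ⟨LGLib.pointOf d s, (LGLib.range_subset_iff U F hF _).mpr fun P => ?_⟩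
    obtain ⟨f, hf, hfP⟩ := hs P
    refine ⟨f, hf, ?_⟩
    rwa [AlgHom.toRingHom_eq_coe, RingHom.coe_coe, LGLib.eval_coordPoly] at hfP

end Groth.Agent.S16600
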