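import Groth.Statements.S16601
import Groth.Agent.LGLib.Points

set_option autoImplicit false
open AlgebraicGeometry
universe u
open LGRing

namespace Groth.Agent.S16601

/-- Let R be an LG-ring whose residue fields at maximal ideals are all infinite (R satisfies the
primitive criterion), M a finite locally free R-module with vector bundle W(M) = Spec Sym(M^∨), and
U ⊆ W(M) an open quasi-compact subscheme which is fibrewise dense over the closed points of Spec R
(for every maximal ideal m, the trace of U on the closed fibre Spec (Sym(M^∨) ⧸ m Sym(M^∨)) is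
dense). Then U has an R-valued point. (The source asks U to be R-dense in W(M); only density of the
closed fibres is used, which is what is assumed here.) -/
theorem result {R : Type u} [CommRing R]
    (hR : LGRing.IsLGRing R) (hinf : ∀ (m : Ideal R) [m.IsMaximal], Infinite (R ⧸ m))
    (M : Type u) [AddCommGroup M] [Module R M] [Module.Finite R M] [Module.Projective R M]
    (U : (Spec (CommRingCat.of (SymmetricAlgebra R (Module.Dual R M)))).Opens)
    (hU : IsCompact (U : Set ↥(Spec (CommRingCat.of (SymmetricAlgebra R (Module.Dual R M))))))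
    (hdense : ∀ (m : Ideal R) [m.IsMaximal],
      Dense ((Spec.map (CommRingCat.ofHom (Ideal.Quotient.mk
        (Ideal.map (algebraMap R (SymmetricAlgebra R (Module.Dual R M))) m)))).base ⁻¹'
          (U : Set ↥(Spec (CommRingCat.of (SymmetricAlgebra R (Module.Dual R M))))))) :
    ∃ φ : Module.Dual R M →ₗ[R] R,
      Set.range (Spec.map (CommRingCat.ofHom (SymmetricAlgebra.lift φ).toRingHom)).base ⊆
        (U : Set ↥(Spec (CommRingCat.of (SymmetricAlgebra R (Module.Dual R M))))) := by
  obtain ⟨F, hF⟩ := LGLib.exists_basicOpen_cover U hU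
  obtain ⟨n, d, c, -, -, hdc⟩ := Module.Finite.exists_comp_eq_id_of_projective R M
  obtain ⟨s, hs⟩ := LGLib.exists_point hR (LGLib.coordPoly d).toRingHom F fun m hm => by
    let := Ideal.Quotient.field m
    have hne : Nonempty (PrimeSpectrum (SymmetricAlgebra R (Module.Dual R M) ⧸
        Ideal.map (algebraMap R (SymmetricAlgebra R (Module.Dual R M))) m)) := by
      refine PrimeSpectrum.nonempty_iff_nontrivial.mpr ((Ideal.Quotient.nontrivial_iff).mpr ?_)
      intro htop
      refine hm.ne_top ?_
      have h := congrArg (Ideal.map (SymmetricAlgebra.lift (0 : Module.Dual R M →ₗ[R] R)).toRingHom) htop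
      rw [Ideal.map_map, Ideal.map_top,
        show (SymmetricAlgebra.lift (0 : Module.Dual R M →ₗ[R] R)).toRingHom.comp (algebraMap R _) = RingHom.id R from
          RingHom.ext fun r => AlgHom.commutes _ r, Ideal.map_id] at h
      exact h
    obtain ⟨Q, hQ⟩ := @Dense.nonempty _ _ _ hne (hdense m)
    obtain ⟨f, hf, hfQ⟩ := (hF _).mp hQ
    have := hinf m
    have hne0 : MvPolynomial.map (Ideal.Quotient.mk m) (LGLib.coordPoly d f) ≠ 0 := by
      intro h0
      refine hfQ ?_
      change Ideal.Quotient.mk _ f ∈ Q.asIdeal
      have hmem : f ∈ Ideal.map (algebraMap R (SymmetricAlgebra R (Module.Dual R M))) m := by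
        have h1 : LGLib.coordPoly d f ∈ Ideal.map MvPolynomial.C m := by
          rw [MvPolynomial.mem_map_C_iff]
          intro e
          rw [← Ideal.Quotient.eq_zero_iff_mem, ← MvPolynomial.coeff_map, h0, MvPolynomial.coeff_zero]
        have h2 := Ideal.mem_map_of_mem (MvPolynomial.aeval
          fun i => SymmetricAlgebra.ι R (Module.Dual R M) (LinearMap.proj i ∘ₗ c)).toRingHom h1
        rw [Ideal.map_map] at h2
        rw [show (MvPolynomial.aeval fun i => SymmetricAlgebra.ι R (Module.Dual R M) (LinearMap.proj i ∘ₗ c)).toRingHom.comp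
          MvPolynomial.C = algebraMap R _ from RingHom.ext fun r => MvPolynomial.aeval_C _ r] at h2
        rw [AlgHom.toRingHom_eq_coe, RingHom.coe_coe, LGLib.coordPoly_retraction d c hdc] at h2
        exact h2
      rw [Ideal.Quotient.eq_zero_iff_mem.mpr hmem]
      exact Submodule.zero_mem _
    obtain ⟨x, hx⟩ : ∃ x : Fin n → R ⧸ m,
        MvPolynomial.eval x (MvPolynomial.map (Ideal.Quotient.mk m) (LGLib.coordPoly d f)) ≠ 0 := by
      by_contra hall
      push Not at hall
      exact hne0 (MvPolynomial.funext fun x => by rw [hall x, map_zero])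
    choose s hs using fun i => Ideal.Quotient.mk_surjective (x i)
    refine ⟨s, f, hf, fun hmem => hx ?_⟩
    rw [MvPolynomial.eval_map, ← MvPolynomial.coe_eval₂Hom, LGLib.eval_lift_mk m x s hs]
    exact Ideal.Quotient.eq_zero_iff_mem.mpr hmem
  refine ⟨LGLib.pointOf d s, (LGLib.range_subset_iff U F hF _).mpr fun P => ?_⟩
  obtain ⟨f, hf, hfP⟩ := hs P
  refine ⟨f, hf, ?_⟩
  rwa [AlgHom.toRingHom_eq_coe, RingHom.coe_coe, LGLib.eval_coordPoly] at hfP

end Groth.Agent.S16601
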