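import Groth.Statements.S16614
import Groth.Agent.BorelLib.Core
import Groth.Agent.SplitSubLib.Split
-- import your own Groth.Agent.* helpers here

set_option autoImplicit false
set_option maxHeartbeats 4000000
set_option synthInstance.maxHeartbeats 400000
set_option backward.isDefEq.respectTransparency false
open CategoryTheory CategoryTheory.Limits MonoidalCategory CartesianMonoidalCategory MonObj GrpObj AlgebraicGeometry
universe u
open SGA3x

attribute [-instance] CategoryTheory.Hom.commGroup

namespace Groth.Agent.S16614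

open Groth.Agent

open Groth.Agent.BorelLib
attribute [local instance] BorelLib.pTop BorelLib.pTopTensor

/-- Over an arbitrary scheme S, an S-group G of finite multiplicative type admits a maximal split
subtorus: a monomorphism T ⟶ G from a split torus T ≅ D_S(ℤ^r) which is maximal among split subtori
(if T factors through a split subtorus T' ⟶ G then the factoring morphism is an isomorphism). -/
theorem result {S : Scheme.{u}} {G : Over S} [GrpObj G]
    (hG : SGA3x.IsMultTypeFT G) :
    ∃ (T : Over S) (_ : GrpObj T) (j : T ⟶ G) (r : ℕ), IsMonHom j ∧ Mono j ∧ Red.IsSplitTorusWith (Fin r → ℤ) T ∧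
      ∀ (T' : Over S) [GrpObj T'] (j' : T' ⟶ G) [IsMonHom j'] [Mono j'] (r' : ℕ) (g : T ⟶ T'),
        Red.IsSplitTorusWith (Fin r' → ℤ) T' → g ≫ j' = j → IsIso g := by
  classical
  let P : ℕ → Prop := fun r => ∃ (T : Over S) (_ : GrpObj T) (j : T ⟶ G), IsMonHom j ∧ Mono j ∧
    Red.IsSplitTorusWith (Fin r → ℤ) T
  have h0 : P 0 := by
    refine ⟨Red.DS S (Fin 0 → ℤ), inferInstance, 1, inferInstance, ⟨fun {Y} a b _ => ?_⟩, SplitSub.isSplit_DS _⟩
    refine MultSubLib.chars_injective (MonoidHom.ext fun m => ?_)
    rw [show m = 1 from Subsingleton.elim (α := Fin 0 → ℤ) (Multiplicative.toAdd m) 0, map_one, map_one]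
  rcases isEmpty_or_nonempty S with hS | hS
  · obtain ⟨T, iT, j, hj, hm, hT⟩ := h0
    refine ⟨T, iT, j, 0, hj, hm, hT, fun T' _ j' _ _ r' g _ _ => ?_⟩
    haveI : IsEmpty T'.left := Function.isEmpty T'.hom
    haveI : IsIso ((Over.forget S).map g) := isIso_of_isEmpty g.left
    exact isIso_of_reflects_iso g (Over.forget S)
  · obtain ⟨C⟩ := SplitSub.nonempty_chart hG
    have hb : ∀ r, P r → r ≤ Module.finrank ℤ C.M := fun r ⟨T, iT, j, hj, hm, hT⟩ => by
      haveI := hj; haveI := hm
      exact SplitSub.rank_le C hT j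
    let r := Nat.findGreatest P (Module.finrank ℤ C.M)
    obtain ⟨T, iT, j, hj, hm, hT⟩ : P r := Nat.findGreatest_spec (Nat.zero_le _) h0
    refine ⟨T, iT, j, r, hj, hm, hT, fun T' _ j' _ _ r' g hT' hg => ?_⟩
    haveI := hj; haveI := hm
    haveI := SplitSub.isMonHom_of_fac g j' j hg
    haveI : Mono (g ≫ j') := hg ▸ hm
    haveI : Mono g := mono_of_mono g j'
    have h1 : r' ≤ r := Nat.le_findGreatest (hb r' ⟨T', inferInstance, j', inferInstance, inferInstance, hT'⟩)
      ⟨T', inferInstance, j', inferInstance, inferInstance, hT'⟩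
    have h2 : r ≤ r' := SplitSub.rank_le_rank hT hT' g
    have h12 : r' = r := le_antisymm h1 h2
    subst h12
    exact SplitSub.isIso_of_mono hT hT' g

end Groth.Agent.S16614
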