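import Groth.Statements.S16615
import Groth.Agent.BorelLib.Core
import Groth.Agent.ImgTorusLib.QuotTorus
-- import your own Groth.Agent.* helpers here

set_option autoImplicit false
set_option maxHeartbeats 4000000
set_option synthInstance.maxHeartbeats 400000
set_option backward.isDefEq.respectTransparency false
open CategoryTheory MonoidalCategory CartesianMonoidalCategory MonObj GrpObj AlgebraicGeometry
universe u
open SGA3x

attribute [-instance] CategoryTheory.Hom.commGroup

namespace Groth.Agent.S16615

open Groth.Agent.BorelLib
attribute [local instance] BorelLib.pTop BorelLib.pTopTensor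

/-- Over an arbitrary scheme S, the quotient Q = T/H of an S-torus T by a subgroup scheme H of (finite)
multiplicative type, when represented by an S-group Q with a homomorphism q : T ⟶ Q which is an fppf
covering identifying T ×_S H with T ×_Q T, is again a torus. -/
theorem result {S : Scheme.{u}} {T H Q : Over S} [GrpObj T] [GrpObj H]
    [GrpObj Q] (hT : Red.IsTorus T) (i : H ⟶ T) [IsMonHom i] [Mono i] (hH : SGA3x.IsMultTypeFT H)
    (q : T ⟶ Q) [IsMonHom q] (hq : RedSub.IsQuotient i q) : Red.IsTorus Q := by
  obtain ⟨hsep, hlfp⟩ := ImgTorus.quot_props hT i hH q hq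
  obtain ⟨hs, hf, hl, -⟩ := hq
  haveI := hsep; haveI := hlfp; haveI := hs; haveI := hf; haveI := hl
  obtain ⟨T', _, m, hm, hm', p, hp, hT', hpm, -⟩ := ImgTorus.exists_image_torus hT q
  haveI := hm'; haveI := hm
  haveI := ImgTorus.isIso_of_factor q p m hpm
  haveI : IsMonHom (asIso m).symm.hom := inferInstanceAs (IsMonHom (asIso m).inv)
  exact RedRank.isTorus_of_iso (asIso m).symm hT'

end Groth.Agent.S16615
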