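import Groth.Statements.S16616
import Groth.Agent.BorelLib.Core
import Groth.Agent.ImgTorusLib.QuotTorus
-- import your own Groth.Agent.* helpers here

set_option autoImplicit false
set_option maxHeartbeats 4000000
set_option synthInstance.maxHeartbeats 400000
set_option backward.isDefEq.respectTransparency false
open CategoryTheory MonoidalCategory CartesianMonoidalCategory MonObj GrpObj AlgebraicGeometry
universe u
open SGA3x

attribute [-instance] CategoryTheory.Hom.commGroup

namespace Groth.Agent.S16616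

open Groth.Agent.BorelLib
attribute [local instance] BorelLib.pTop BorelLib.pTopTensor

/-- Over an arbitrary scheme S, let T be a locally split S-torus (Zariski-locally on S isomorphic to
split tori), H a subgroup scheme of T of (finite) multiplicative type and q : T ⟶ Q a homomorphism
presenting Q as the fppf quotient T/H. Then Q is a locally split torus. -/
theorem result {S : Scheme.{u}} {T H Q : Over S} [GrpObj T]
    [GrpObj H] [GrpObj Q] (hT : (∀ s : ↥S, ∃ U : S.Opens, s ∈ U ∧ ∃ r : ℕ, Red.IsSplitTorusWith (Fin r → ℤ) (Red.bc U.ι T)))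
    (i : H ⟶ T) [IsMonHom i] [Mono i] (hH : SGA3x.IsMultTypeFT H) (q : T ⟶ Q) [IsMonHom q]
    (hq : RedSub.IsQuotient i q) :
    (∀ s : ↥S, ∃ U : S.Opens, s ∈ U ∧ ∃ r : ℕ, Red.IsSplitTorusWith (Fin r → ℤ) (Red.bc U.ι Q)) := by
  have hT' : Red.IsTorus T := ⟨S, 𝟙 S, inferInstance, inferInstance, fun V hV => ⟨V, hV.isCompact, Set.image_id _⟩,
    fun s => by
      obtain ⟨U, hsU, r, h⟩ := hT s
      exact ⟨U, hsU, r, by rw [Category.comp_id]; exact h⟩⟩
  obtain ⟨hsep, hlfp⟩ := ImgTorus.quot_props hT' i hH q hq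
  obtain ⟨hs, hf, hl, -⟩ := hq
  haveI := hsep; haveI := hlfp; haveI := hs; haveI := hf; haveI := hl
  intro s
  obtain ⟨U, hsU, r, h⟩ := hT s
  obtain ⟨V, hsV, r', h'⟩ := ImgTorus.exists_split_quot q q (𝟙 Q) (Category.comp_id _) (𝟙 S) (U := U) (r := r)
    (by rw [Category.comp_id]; exact h) hsU
  exact ⟨V, hsV, r', by rw [Category.comp_id] at h'; exact h'⟩

end Groth.Agent.S16616
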