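import Groth.Statements.S16617
import Groth.Agent.BorelLib.Core
import Groth.Agent.SplitSubLib.Split
import Groth.Agent.S16615
-- import your own Groth.Agent.* helpers here

set_option autoImplicit false
set_option maxHeartbeats 4000000
set_option synthInstance.maxHeartbeats 400000
set_option backward.isDefEq.respectTransparency false
open CategoryTheory CategoryTheory.Limits MonoidalCategory CartesianMonoidalCategory MonObj GrpObj AlgebraicGeometry
universe u
open SGA3x

attribute [-instance] CategoryTheory.Hom.commGroup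

namespace Groth.Agent.S16617

open Groth.Agent

open Groth.Agent.BorelLib
attribute [local instance] BorelLib.pTop BorelLib.pTopTensor

/-- Let S be a connected scheme, T ≅ D_S(ℤ^r) a split S-torus, H a subgroup scheme of T of (finite)
multiplicative type and q : T ⟶ Q a homomorphism presenting Q as the fppf quotient T/H. Then Q is a
split torus of rank at most r. -/
theorem result {S : Scheme.{u}} [ConnectedSpace ↥S]
    {T H Q : Over S} [GrpObj T] [GrpObj H] [GrpObj Q] (r : ℕ) (hT : Red.IsSplitTorusWith (Fin r → ℤ) T)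
    (i : H ⟶ T) [IsMonHom i] [Mono i] (hH : SGA3x.IsMultTypeFT H) (q : T ⟶ Q) [IsMonHom q]
    (hq : RedSub.IsQuotient i q) : ∃ r' : ℕ, r' ≤ r ∧ Red.IsSplitTorusWith (Fin r' → ℤ) Q := by
  have hT' : Red.IsTorus T := SplitSub.isTorus_of_split hT
  have hQ : Red.IsTorus Q := Groth.Agent.S16615.result hT' i hH q hq
  haveI : Nonempty S := ConnectedSpace.toNonempty
  obtain ⟨r', v, hv, hm, hu⟩ := SplitSub.exists_univ (RedRank.isMultTypeFT_of_isTorus hQ)
  haveI := hv; haveI := hm
  haveI : Nonempty S := ConnectedSpace.toNonempty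
  obtain ⟨g, hg, hgv⟩ := SplitSub.exists_factor hu hT q
  haveI := hg
  obtain ⟨hs, hf, hl, -⟩ := hq
  haveI := hs; haveI := hf; haveI := hl
  haveI : IsIso v := ImgTorus.isIso_of_factor q g v hgv
  haveI : IsMonHom (inv v) := inferInstanceAs (IsMonHom (asIso v).inv)
  haveI := MonoQuot.epi_over q
  obtain ⟨e, he⟩ := SplitSub.exists_iso_of_split hT
  haveI := he
  haveI : IsMonHom (asIso v).symm.hom := inferInstanceAs (IsMonHom (inv v))
  refine ⟨r', ?_, SplitSub.isSplit_of_iso (asIso v).symm⟩
  obtain ⟨g₁, hg₁⟩ := hu r (e.inv ≫ q)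
  haveI : Epi (MultSubLib.dd S g₁) := by
    rw [show MultSubLib.dd S g₁ = e.inv ≫ q ≫ inv v by
      rw [← Category.assoc, ← hg₁, Category.assoc, IsIso.hom_inv_id, Category.comp_id]]
    infer_instance
  have hinj : Function.Injective g₁ := by
    refine (injective_iff_map_eq_one _).2 fun x hx => ?_
    let a : Multiplicative ℤ →* Multiplicative (Fin r' → ℤ) := zpowersHom _ x
    have h1 : MultSubLib.dd S g₁ ≫ MultSubLib.dd S a = MultSubLib.dd S g₁ ≫ MultSubLib.dd S 1 := by
      rw [MultSubLib.dd_comp_dd, MultSubLib.dd_comp_dd]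
      exact congrArg _ (MonoidHom.ext fun n => by simp [a, hx])
    have h2 := DFunLike.congr_fun (SplitSub.dd_inj ((cancel_epi _).1 h1)) (Multiplicative.ofAdd 1)
    simpa [a] using h2
  let φ : (Fin r' → ℤ) →ₗ[ℤ] (Fin r → ℤ) := (AddMonoidHom.toMultiplicative.symm g₁).toIntLinearMap
  have hφ : Function.Injective φ := fun a b h => Multiplicative.ofAdd.injective (hinj (congrArg Multiplicative.ofAdd h))
  simpa using LinearMap.finrank_le_finrank_of_injective hφ

end Groth.Agent.S16617
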