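import Groth.Statements.S16618
import Groth.Agent.S3022
import Groth.Agent.BorelLib.Parab
import Groth.Agent.BorelLib.Borel
import Groth.Agent.AbSchLib.Flat
import Groth.Agent.GrpPatchLib.Fibre
import Groth.Agent.PowEtCentralLib.Split
import Groth.Agent.AlgSpLib.RelDim2

set_option autoImplicit false
set_option backward.isDefEq.respectTransparency false
set_option backward.isDefEq.respectTransparency.types false
set_option maxHeartbeats 1000000
set_option synthInstance.maxHeartbeats 400000
open CategoryTheory MonoidalCategory CartesianMonoidalCategory MonObj GrpObj AlgebraicGeometry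
universe u
open Par CategoryTheory.Limits

attribute [-instance] CategoryTheory.Hom.commGroup
set_option backward.isDefEq.respectTransparency false
namespace Groth.Agent.S16618

open Groth.Agent.BorelLib (facts_top exists_setup exists_borel isNormalizerOf_parabolic)

section aux
variable {S : Scheme.{u}} {G P : Over S} [GrpObj G] [GrpObj P]

theorem isParabolic_id (hG : Red.IsReductive G) : Red.IsParabolic (𝟙 G) := by
  haveI := hG.1; haveI := hG.2.1
  refine ⟨inferInstance, inferInstanceAs (IsClosedImmersion (𝟙 G.left)), hG.2.1, fun s => ?_⟩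
  obtain ⟨ha, hs, hc, -⟩ := hG.2.2 s
  haveI := ha; haveI := hs; haveI := hc
  obtain ⟨A, _, _, v, hv, hA, -⟩ := exists_setup (Red.geomFibre s G)
  haveI := hv; haveI := hA
  obtain ⟨B, _, b, hb, hB⟩ := exists_borel v
  rw [CategoryTheory.Functor.map_id]
  exact ⟨inferInstance, inferInstanceAs (IsClosedImmersion (𝟙 _)), hs, B, inferInstance, b, by rwa [Category.comp_id]⟩

theorem connectedSpace_parabolic_fibre (hG : Red.IsReductive G) (p : P ⟶ G) (hp : Red.IsParabolic p) (s : S) :
    ConnectedSpace ↥(Red.geomFibre s P).left := by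
  obtain ⟨ha, hs, hc, -⟩ := hG.2.2 s
  haveI := ha; haveI := hs; haveI := hc
  obtain ⟨hm, hcl, hps, B, _, b, hB⟩ := hp.2.2.2 s
  haveI := hm; haveI := hcl; haveI := hps
  exact (isNormalizerOf_parabolic hB).1

/-- The fibre of a smooth group with connected geometric fibres is irreducible. -/
theorem isIrreducible_fibre [Smooth P.hom] (s : S) [ConnectedSpace ↥(Red.geomFibre s P).left] :
    IsIrreducible (P.hom.base ⁻¹' {s}) := by
  haveI : Smooth (Red.geomFibre s P).hom := MorphismProperty.pullback_snd _ _ ‹Smooth P.hom›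
  haveI : GeometricallyIrreducible (Red.geomFibre s P).hom :=
    CommSubLib.geometricallyIrreducible_of_connected (Red.geomFibre s P)
  haveI : IrreducibleSpace ↥(Red.geomFibre s P).left :=
    GeometricallyIrreducible.geometrically_irreducibleSpace (f := (Red.geomFibre s P).hom) (𝟙 _) (𝟙 (Red.geomFibre s P).left) (Red.geomFibre s P).hom
      (IsPullback.of_horiz_isIso ⟨by simp⟩)
  have h : P.hom.base ⁻¹' {s} = Set.range (pullback.fst P.hom (Red.geomPt s)) := by
    rw [Scheme.Pullback.range_fst]
    refine congrArg _ (Eq.symm ?_)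
    ext y
    constructor
    · rintro ⟨z, rfl⟩
      rw [Set.mem_singleton_iff, Scheme.Hom.comp_apply]
      exact Scheme.fromSpecResidueField_apply _ _
    · rintro rfl
      refine ⟨IsLocalRing.closedPoint _, ?_⟩
      rw [Scheme.Hom.comp_apply]
      exact Scheme.fromSpecResidueField_apply _ _
  rw [h, ← Set.image_univ]
  have hu : IsIrreducible (Set.univ : Set ↥(pullback P.hom (Red.geomPt s))) :=
    IrreducibleSpace.isIrreducible_univ ↥(Red.geomFibre s P).left
  exact hu.image _ (pullback.fst P.hom (Red.geomPt s)).continuous.continuousOn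

/-- The dimension of a fibre is finite. -/
theorem exists_dim_eq [Smooth P.hom] (s : S) : ∃ n : ℕ, topologicalKrullDim ↥(P.hom.base ⁻¹' {s}) = n := by
  obtain ⟨O, n, hx, hn⟩ := AlgSpLib.exists_open_fibreDimAt_of_smooth P.hom
    ((η[P] : 𝟙_ (Over S) ⟶ P).left s)
  refine ⟨n, ?_⟩
  rw [NeutralSch.dim_fibre_eq]
  have h := hn _ hx
  rw [NeutralSch.fibreDimAt_eq_comp_dim] at h
  have hs : P.hom ((η[P] : 𝟙_ (Over S) ⟶ P).left s) = s := by
    rw [← Scheme.Hom.comp_apply, Over.w]; rfl
  rwa [hs] at h

/-- A closed subset of the same finite dimension as an irreducible space is the whole space. -/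
theorem eq_univ_of_dim_eq {α β : Type u} [TopologicalSpace α] [TopologicalSpace β] [IrreducibleSpace β]
    (g : α → β) (hg : Topology.IsClosedEmbedding g) (n : ℕ) (ha : topologicalKrullDim α = n)
    (hb : topologicalKrullDim β = n) : Set.range g = Set.univ := by
  by_contra hne
  obtain ⟨p, hp⟩ := Order.le_krullDim_iff.1 (show (n : WithBot ℕ∞) ≤ Order.krullDim (TopologicalSpace.IrreducibleCloseds α) from ha.ge)
  let c : TopologicalSpace.IrreducibleCloseds α → TopologicalSpace.IrreducibleCloseds β := fun Z =>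
    ⟨g '' (Z : Set α), Z.isIrreducible.image _ hg.continuous.continuousOn, hg.isClosedMap _ Z.isClosed⟩
  have hc : StrictMono c := fun a b hab =>
    show g '' (a : Set α) ⊂ g '' (b : Set α) from hg.injective.image_strictMono hab
  let top : TopologicalSpace.IrreducibleCloseds β := ⟨Set.univ, IrreducibleSpace.isIrreducible_univ β, isClosed_univ⟩
  have hlast : (p.map c hc).last < top := by
    show g '' _ ⊂ Set.univ
    rw [Set.ssubset_univ_iff]
    exact fun h => hne (Set.eq_univ_of_univ_subset (h ▸ Set.image_subset_range _ _))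
  have := Order.LTSeries.length_le_krullDim ((p.map c hc).snoc top hlast)
  rw [show Order.krullDim (TopologicalSpace.IrreducibleCloseds β) = (n : WithBot ℕ∞) from hb] at this
  simp [RelSeries.snoc, hp] at this
  norm_cast at this
  omega

theorem isIso_of_dim_eq (hG : Red.IsReductive G) (p : P ⟶ G) (hp : Red.IsParabolic p) {P₁ : Over S} [GrpObj P₁]
    (f : P₁ ⟶ P) (hp₁ : Red.IsParabolic (f ≫ p))
    (hd : ∀ s : S, topologicalKrullDim ↥(P₁.hom.base ⁻¹' {s}) = topologicalKrullDim ↥(P.hom.base ⁻¹' {s})) :
    IsIso f := by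
  haveI := hp.2.1; haveI := hp.2.2.1; haveI := hp₁.2.2.1
  haveI : IsClosedImmersion (f.left ≫ p.left) := by rw [← Over.comp_left]; exact hp₁.2.1
  haveI : IsClosedImmersion f.left := IsClosedImmersion.of_comp _ p.left
  haveI hsurj : Surjective f.left := ⟨fun y => by
    let s : S := P.hom y
    haveI := connectedSpace_parabolic_fibre hG p hp s
    haveI : IrreducibleSpace ↥(P.hom.base ⁻¹' {s}) := Subtype.irreducibleSpace (isIrreducible_fibre s)
    have hpre : P₁.hom.base ⁻¹' {s} = f.left.base ⁻¹' (P.hom.base ⁻¹' {s}) := by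
      rw [← Set.preimage_comp]; conv_lhs => rw [← Over.w f]
      rfl
    obtain ⟨n, hn⟩ := exists_dim_eq (P := P) s
    have h := eq_univ_of_dim_eq ((P.hom.base ⁻¹' {s}).restrictPreimage f.left.base)
      (f.left.isClosedEmbedding.restrictPreimage _) n (by
        rw [← hn, ← hd s]
        exact (IsHomeomorph.topologicalKrullDim_eq _ (Homeomorph.setCongr hpre).isHomeomorph).symm) hn
    obtain ⟨x, hx⟩ := h.ge (Set.mem_univ (⟨y, rfl⟩ : ↥(P.hom.base ⁻¹' {s})))
    exact ⟨x.1, congrArg Subtype.val hx⟩⟩
  haveI : Flat f.left := AbSchLib.flat_of_geometric_fibres f fun K _ _ ξ => by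
    haveI : Smooth ((Over.pullback ξ).obj P).hom := MorphismProperty.pullback_snd _ _ ‹Smooth P.hom›
    haveI : IsClosedImmersion ((Over.pullback ξ).map f).left := GrpPatchLib.isClosedImmersion_bc ξ f
    haveI : AlgebraicGeometry.IsReduced ((Over.pullback ξ).obj P).left :=
      AlgSpLib.isReduced_of_smooth ((Over.pullback ξ).obj P).hom
    have hsq : IsPullback (pullback.fst P₁.hom ξ) ((Over.pullback ξ).map f).left f.left (pullback.fst P.hom ξ) :=
      PowEtCentralLib.isPullback_map_left ξ f
    haveI : Surjective ((Over.pullback ξ).map f).left := MorphismProperty.of_isPullback hsq hsurj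
    haveI := isIso_of_isClosedImmersion_of_surjective ((Over.pullback ξ).map f).left
    infer_instance
  haveI : IsIso f.left := Flat.isIso_of_surjective_of_mono f.left
  exact (isIso_iff_of_reflects_iso f (Over.forget S)).1 (by assumption)

end aux



/-- A reductive group scheme G over a connected scheme S admits a minimal parabolic subgroup P (every
parabolic subgroup of G contained in P is equal to P). -/
theorem result {S : Scheme.{u}} [ConnectedSpace ↥S] {G : Over S} [GrpObj G]
    (hG : Red.IsReductive G) :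
    ∃ (P : Over S) (_ : GrpObj P) (p : P ⟶ G), Red.IsParabolic p ∧
      ∀ (P₁ : Over S) [GrpObj P₁] (p₁ : P₁ ⟶ G) (f : P₁ ⟶ P), Red.IsParabolic p₁ → f ≫ p = p₁ → IsIso f := by
  classical
  obtain ⟨s₀⟩ : Nonempty S := inferInstance
  let Q := fun d : WithBot ℕ∞ => ∃ (P : Over S) (_ : GrpObj P) (p : P ⟶ G), Red.IsParabolic p ∧
    topologicalKrullDim ↥(P.hom.base ⁻¹' {s₀}) = d
  obtain ⟨d, ⟨P, iP, p, hp, hd⟩, hmin⟩ :=
    (wellFounded_lt (α := WithBot ℕ∞)).has_min {d | Q d} ⟨_, G, inferInstance, 𝟙 G, isParabolic_id hG, rfl⟩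
  refine ⟨P, iP, p, hp, fun P₁ _ p₁ f hp₁ hf => ?_⟩
  subst hf
  haveI := hp.2.2.1; haveI := hp₁.2.2.1
  have hc₁ := Groth.Agent.S3022.result S P₁
  have hc := Groth.Agent.S3022.result S P
  have h0 : topologicalKrullDim ↥(P₁.hom.base ⁻¹' {s₀}) = topologicalKrullDim ↥(P.hom.base ⁻¹' {s₀}) := by
    haveI : IsClosedImmersion (f.left ≫ p.left) := by rw [← Over.comp_left]; exact hp₁.2.1
    haveI := hp.2.1
    haveI : IsClosedImmersion f.left := IsClosedImmersion.of_comp _ p.left
    refine le_antisymm ?_ (hd.le.trans (not_lt.1 (hmin _ ⟨P₁, inferInstance, f ≫ p, hp₁, rfl⟩)))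
    have hpre : P₁.hom.base ⁻¹' {s₀} = f.left.base ⁻¹' (P.hom.base ⁻¹' {s₀}) := by
      rw [← Set.preimage_comp]; conv_lhs => rw [← Over.w f]
      rfl
    rw [IsHomeomorph.topologicalKrullDim_eq _ (Homeomorph.setCongr hpre).isHomeomorph]
    exact (f.left.isClosedEmbedding.restrictPreimage (P.hom.base ⁻¹' {s₀})).isInducing.topologicalKrullDim_le
  exact isIso_of_dim_eq hG p hp f hp₁ fun s => by
    rw [hc₁.apply_eq_of_preconnectedSpace s s₀, h0, hc.apply_eq_of_preconnectedSpace s₀ s]

end Groth.Agent.S16618
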