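import Groth.Statements.S16620
import Groth.Agent.BorelLib.Core
import Groth.Agent.SplitSubLib.Split
import Groth.Agent.ImgTorusLib.Global
-- import your own Groth.Agent.* helpers here

set_option autoImplicit false
set_option maxHeartbeats 4000000
set_option synthInstance.maxHeartbeats 400000
set_option backward.isDefEq.respectTransparency false
open CategoryTheory CategoryTheory.Limits MonoidalCategory CartesianMonoidalCategory MonObj GrpObj AlgebraicGeometry
universe u
open SGA3x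

attribute [-instance] CategoryTheory.Hom.commGroup

namespace Groth.Agent.S16620

open Groth.Agent

open Groth.Agent.BorelLib
attribute [local instance] BorelLib.pTop BorelLib.pTopTensor

/-- Let S be a connected, normal, locally Noetherian scheme, T an S-torus and T₀ ⟶ T its unique maximal
split subtorus, i.e. a split subtorus through which every split subtorus of T factors. Then every
cocharacter λ : 𝔾_m ⟶ T over S factors through T₀; this is the equality X_*(T₀)(S) = X_*(T)(S) of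
groups of cocharacters defined over S. -/
theorem result {S : Scheme.{u}} [ConnectedSpace ↥S]
    [IsLocallyNoetherian S] (hnorm : ∀ x : ↥S, IsDomain (S.presheaf.stalk x) ∧ IsIntegrallyClosed (S.presheaf.stalk x))
    {T T₀ : Over S} [GrpObj T] [GrpObj T₀] (hT : Red.IsTorus T) (j₀ : T₀ ⟶ T) [IsMonHom j₀] [Mono j₀] (r₀ : ℕ)
    (hT₀ : Red.IsSplitTorusWith (Fin r₀ → ℤ) T₀)
    (hmax : ∀ (T' : Over S) [GrpObj T'] (j' : T' ⟶ T) [IsMonHom j'] [Mono j'] (r' : ℕ),
      Red.IsSplitTorusWith (Fin r' → ℤ) T' → ∃ g : T' ⟶ T₀, g ≫ j₀ = j')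
    (lam : Red.Gm S ⟶ T) [IsMonHom lam] : ∃ mu : Red.Gm S ⟶ T₀, mu ≫ j₀ = lam := by
  haveI : Nonempty S := ConnectedSpace.toNonempty
  obtain ⟨T₁, i₁, j₁, r₁, hj, hm, hs, h⟩ := SplitSub.exists_greatest (RedRank.isMultTypeFT_of_isTorus hT)
  haveI := hj; haveI := hm
  obtain ⟨g₀, hg₀⟩ := hmax T₁ j₁ r₁ hs
  haveI : AddGroup.FG ℤ := Module.Finite.iff_addGroup_fg.1 inferInstance
  obtain ⟨E⟩ := ImgTorus.nonempty_DS_iso S (LinearEquiv.funUnique (Fin 1) ℤ ℤ).toAddEquiv
  let e : Red.DS S (Fin 1 → ℤ) ≅ Red.Gm S := (Grp.forget _).mapIso E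
  haveI : IsMonHom e.hom := E.hom.hom.isMonHom_hom
  obtain ⟨g, hg, hg'⟩ := h (Red.DS S (Fin 1 → ℤ)) (e.hom ≫ lam) 1 (SplitSub.isSplit_DS _)
  exact ⟨e.inv ≫ g ≫ g₀, by rw [Category.assoc, Category.assoc, hg₀, hg', Iso.inv_hom_id_assoc]⟩

end Groth.Agent.S16620
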