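import Groth.Statements.S16624
import Mathlib
import Groth.Agent.QuotSchLib.ReprAll
import Groth.Agent.GrassLib.Global
import Groth.Agent.KFlatLib.QCohTensor
-- import your own Groth.Agent.* helpers here

set_option autoImplicit false
universe u
open FGA

namespace Groth.Agent.S16624

open AlgebraicGeometry CategoryTheory in
/-- Let S be a Noetherian scheme, n and r natural numbers, l an integer, and E the module O^r ⊗ O(-l) on
projective n-space P^n_S over S. The Quot functor of E over S — sending a locally Noetherian
S-scheme T to the set of submodules K of E_T (the pullback of E to P^n_S ×_S T) whose quotient E_T/K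
is coherent and flat over T, with pullback of submodules as transition maps — is represented by an
S-scheme Q with a universal submodule, and Q is a disjoint union of S-schemes each admitting a
closed immersion over S into some projective space P^m_S. (The source states this for each fixed
Hilbert polynomial; the indexing of the pieces by Hilbert polynomials is not recorded here.) -/
theorem result (S : Scheme.{u}) [IsNoetherian S]
    (n r : ℕ) (l : ℤ) :
    ∃ (Q : Over S) (K : FGA.QuotSet (CohB1.ProjSpaceOver.toBase n S)
        (CohB1.tensorMod (FlatMod.freeMod (CohB1.ProjSpaceOver n S) r) (Twist.twistOver n S (-l))) Q),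
      FGA.QuotRepresentedBy (CohB1.ProjSpaceOver.toBase n S)
        (CohB1.tensorMod (FlatMod.freeMod (CohB1.ProjSpaceOver n S) r) (Twist.twistOver n S (-l))) Q K ∧
      ∃ (ι : Type u) (P : ι → Scheme.{u}) (e : (∐ P) ≅ Q.left) (m : ι → ℕ)
        (c : ∀ a, P a ⟶ CohB1.ProjSpaceOver (m a) S),
        ∀ a, IsClosedImmersion (c a) ∧
          c a ≫ CohB1.ProjSpaceOver.toBase (m a) S = Limits.Sigma.ι P a ≫ e.hom ≫ Q.hom := by
  haveI := QuotSchLib.isLocallyNoetherian_projSpaceOver n S
  set P := CohB1.ProjSpaceOver n S
  set E := CohB1.tensorMod (FlatMod.freeMod P r) (Twist.twistOver n S (-l))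
  have hEc : Coh.IsCoh E := QCohLib.isCoh_of_iso (KFlatLib.tensSwap (FlatMod.freeMod P r) (Twist.twistOver n S (-l)))
    (QuotSchLib.isCoh_srcOver n r (-l))
  haveI : Coh.IsQCoh E := hEc.1
  let π₀ : QuotSchLib.srcOver S n r (-l) ⟶ QuotSchLib.iE (𝟙 P) E :=
    (KFlatLib.tensSwap (FlatMod.freeMod P r) (Twist.twistOver n S (-l))).hom ≫
      ((Scheme.Modules.pushforwardId P).app E).inv
  haveI : Epi π₀ := epi_comp _ _
  have h := QuotSchLib.exists_quot_scheme (𝟙 P) E (GrassSch.exists_isGrass_free S) hEc r (-l) π₀
  rw [Category.id_comp] at h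
  exact h

end Groth.Agent.S16624
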