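import Groth.Statements.S16627
import Mathlib
import Groth.Agent.PnCohLib.Regular
import Groth.Agent.HilbPolyLib.Twist
import Groth.Agent.AmpleDevLib.Devissage
import Groth.Agent.PicPnLib.Twist
-- import your own Groth.Agent.* helpers here

set_option autoImplicit false
universe u
open Variety

namespace Groth.Agent.S16627

open AlgebraicGeometry CategoryTheory CategoryTheory.Limits in
/-- Let k be a field, F a coherent module on projective n-space P^n_k which is m-regular, and ι : F ⊗
O(-1) → F a monomorphism of O-modules (such as multiplication by a linear form that is a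
nonzerodivisor on F, i.e. a hyperplane avoiding the associated points of F). Then the cokernel of ι
— the restriction of F to the hyperplane, as a module on P^n_k — is again m-regular. (Stated for an
arbitrary monomorphism F(-1) → F and an arbitrary ground field.) -/
theorem result (k : Type u) [Field k] (n : ℕ)
    (F : (CohB1.ProjSpace n k).Modules) (hF : Coh.IsCoh F) (m : ℤ) (hreg : Curv2.IsMRegular k n F m)
    (ι : CohB1.tensorMod F (Twist.twistProjSpace n k (-1)) ⟶ F) [Mono ι] :
    Curv2.IsMRegular k n (cokernel ι) m := by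
  obtain ⟨M, _, _, _, _, G, hG⟩ := PnCohLib.exists_graded F hF.1
  intro i hi hin
  let L := Twist.twistProjSpace n k (m - i)
  have hL : PicF.IsInvertible L := PicPnLib.twist_inv n k _
  let S : ShortComplex (CohB1.ProjSpace n k).Modules := ShortComplex.mk ι (cokernel.π ι) (cokernel.condition ι)
  have hS : S.ShortExact := ShortComplex.ShortExact.mk (ShortComplex.exact_cokernel ι)
  let T := (S.map (CurvLib.tensorLeft' L)).map (QCohLib.toAbF (CohB1.ProjSpace n k))
  have hT : T.ShortExact := QCohLib.toAbF_shortExact (HilbPolyLib.shortExact_tensor hL hS)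
  haveI : Subsingleton (QCohLib.HU T.X₂ i ⊤) := AmpleDevLib.hu_of_hh
    (SerreVanLib.subsingleton_HH_of_iso (HilbPolyLib.swapIso L F) i (hreg i hi hin))
  haveI : Subsingleton (QCohLib.HU T.X₁ (i + 1) ⊤) := by
    refine AmpleDevLib.hu_of_hh ?_
    obtain ⟨e⟩ := GrTildeLib.twist_tensor_twist (𝒜 := CohB1.polyGrading n k) (PnTildeLib.hcov (n := n) (k := k)) (-1) (m - i)
    refine SerreVanLib.subsingleton_HH_of_iso (HilbPolyLib.swapIso L _ ≪≫ HilbPolyLib.assocIso F _ L ≪≫
      HilbPolyLib.congrRight F e) (i + 1) ?_
    rcases Nat.lt_or_ge i n with h | h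
    · have := hreg (i + 1) (by omega) (by omega)
      rwa [show m - ((i + 1 : ℕ) : ℤ) = -1 + (m - i) by push_cast; ring] at this
    · exact (hG _ _).2 (GradedCechLib.isZero_of_card_le _ _ (by simp; omega))
  have h3 : Subsingleton (Coh.HH _ (CohB1.tensorMod L (cokernel ι)) i) :=
    AmpleDevLib.hh_of_hu (QCohLib.subsingleton_X₃ hT)
  exact SerreVanLib.subsingleton_HH_of_iso (HilbPolyLib.swapIso (cokernel ι) L) i h3

end Groth.Agent.S16627
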