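import Groth.Statements.S16629
import Groth.Agent.GrassLib.SchExists
import Groth.Agent.GrassLib.SchPlucker
import Groth.Agent.GrassLib.SchExtPow
import Groth.Agent.GrassLib.SchSub
import Groth.Agent.FinLFAnnLib.Main

set_option autoImplicit false
universe u
open Grass

namespace Groth.Agent.S16629

open AlgebraicGeometry CategoryTheory CategoryTheory.Limits in
set_option maxHeartbeats 1000000 in
/-- Let S be a Noetherian scheme, V a finite locally free O_S-module of rank n, and 0 < q < n. The
Grassmannian functor Gr(q, V) — sending an S-scheme T to the set of submodules K of V_T (the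
pullback of V to S ×_S T) whose quotient V_T/K is finite locally free of rank q, with pullback of
submodules as transition maps — is represented by an S-scheme G carrying a universal such submodule;
and for every O_S-module L that is a q-th exterior power of V and every projective bundle π : P → S
of L (an invertible quotient O_P(1) of π^*L with the universal property for invertible quotients of
pullbacks of L), there is a closed immersion G → P over S. (In the source the closed immersion is
the Plücker morphism sending a quotient to its top exterior power; here it is only asserted to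
exist.) -/
theorem result (S : Scheme.{u}) [IsNoetherian S]
    (n q : ℕ) (hq : 0 < q) (hqn : q < n) (V : S.Modules) (hV : FlatMod.IsFinLocFreeOfRank n V) :
    ∃ (G : Over S) (K : Subobject (FGA.ET (𝟙 S) V G)),
      FlatMod.IsFinLocFreeOfRank q (cokernel K.arrow) ∧
      (∀ (T : Over S) (K' : Subobject (FGA.ET (𝟙 S) V T)),
        FlatMod.IsFinLocFreeOfRank q (cokernel K'.arrow) → ∃! g : T ⟶ G, FGA.quotPull (𝟙 S) V g K = K') ∧
      (∀ (L : S.Modules), ExtPow.IsExtPow q V L →
        ∀ (P : Scheme.{u}) (π : P ⟶ S) (O1 : P.Modules) (u : (Scheme.Modules.pullback π).obj L ⟶ O1),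
          KRR.IsProjBundle π L O1 u →
            ∃ c : G.left ⟶ P, IsClosedImmersion c ∧ c ≫ π = G.hom) := by
  haveI : Coh.IsQCoh V := FinLFAnn.isQCoh_of_isFinLocFree (GrassSch.finLocFree_of_rank hV)
  obtain ⟨G₀, π, Q, qu, hG⟩ := GrassSch.exists_isGrass V q
  let G : Over S := Over.mk π
  let a : PicF.XT (𝟙 S) G ⟶ G₀ := pullback.snd (𝟙 S) π
  have ha : a ≫ π = pullback.fst (𝟙 S) G.hom :=
    (pullback.condition (f := 𝟙 S) (g := π)).symm.trans (Category.comp_id _)
  let P₀ := (GrassSch.univPt hG).map a
  haveI : Epi P₀.s := P₀.epi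
  let s : FGA.ET (𝟙 S) V G ⟶ P₀.L := (Scheme.Modules.pullbackCongr ha).inv.app V ≫ P₀.s
  haveI : Epi s := epi_comp' inferInstance P₀.epi
  let K : Subobject (FGA.ET (𝟙 S) V G) := kernelSubobject s
  have hK1 : K.arrow ≫ s = 0 := kernelSubobject_arrow_comp s
  have hK2 : kernel.ι s ≫ cokernel.π K.arrow = 0 := by
    rw [show kernel.ι s = (kernelSubobjectIso s).inv ≫ K.arrow from (kernelSubobject_arrow' s).symm,
      Category.assoc, cokernel.condition, comp_zero]
  let e0 : P₀.L ≅ cokernel K.arrow :=
    { hom := Abelian.epiDesc s (cokernel.π K.arrow) hK2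
      inv := cokernel.desc K.arrow s hK1
      hom_inv_id := by rw [← cancel_epi s, Abelian.comp_epiDesc_assoc, cokernel.π_desc, Category.comp_id]
      inv_hom_id := by rw [← cancel_epi (cokernel.π K.arrow), cokernel.π_desc_assoc, Abelian.comp_epiDesc,
        Category.comp_id] }
  have hrK : FlatMod.IsFinLocFreeOfRank q (cokernel K.arrow) := GrassSch.rank_of_iso P₀.inv e0.symm
  let PG : GrassSch.QPt V q (PicF.XT (𝟙 S) G) :=
    ⟨pullback.fst (𝟙 S) G.hom, cokernel K.arrow, hrK, cokernel.π K.arrow, inferInstance⟩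
  have hPG : P₀.Rel PG := ⟨ha, e0, by
    show (Scheme.Modules.pullbackCongr ha).inv.app V ≫ P₀.s ≫ e0.hom = cokernel.π K.arrow
    exact (Category.assoc _ _ _).symm.trans (Abelian.comp_epiDesc s _ hK2)⟩
  refine ⟨G, K, hrK, fun T K' hK' => ?_, fun L hL P πP O1 w hP => ?_⟩
  · let b : PicF.XT (𝟙 S) T ⟶ T.left := pullback.snd (𝟙 S) T.hom
    haveI : IsIso b := inferInstanceAs (IsIso (pullback.snd (𝟙 S) T.hom))
    have hb : b ≫ T.hom = pullback.fst (𝟙 S) T.hom :=
      (pullback.condition (f := 𝟙 S) (g := T.hom)).symm.trans (Category.comp_id _)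
    let P' : GrassSch.QPt V q (PicF.XT (𝟙 S) T) :=
      ⟨pullback.fst (𝟙 S) T.hom, cokernel K'.arrow, hK', cokernel.π K'.arrow, inferInstance⟩
    have key : ∀ g : T ⟶ G, FGA.quotPull (𝟙 S) V g K = K' ↔
        ((GrassSch.univPt hG).map (b ≫ g.left)).Rel P' := fun g => by
      have hba : PicF.XTmap (𝟙 S) g ≫ a = b ≫ g.left := pullback.lift_snd _ _ _
      have h1 : ((GrassSch.univPt hG).map (b ≫ g.left)).Rel (PG.map (PicF.XTmap (𝟙 S) g)) := by
        refine Eq.subst (motive := fun k => ((GrassSch.univPt hG).map k).Rel _) hba ?_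
        exact (GrassSch.QPt.map_comp_rel _ _ _).symm.trans (GrassSch.QPt.map_rel _ hPG)
      rw [GrassSch.quotPull_eq_iff]
      constructor
      · rintro ⟨e, he⟩
        refine h1.trans ⟨FGA.XTmap_fst (𝟙 S) g, e, Eq.trans ?_ he⟩
        simp only [PG, GrassSch.QPt.map, FGA.ETiso, Iso.trans_inv, Iso.app_inv, Category.assoc]
      · intro h
        obtain ⟨hg, e, he⟩ := h1.symm.trans h
        refine ⟨e, Eq.trans ?_ he⟩
        simp only [PG, GrassSch.QPt.map, FGA.ETiso, Iso.trans_inv, Iso.app_inv, Category.assoc]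
    obtain ⟨h, hh⟩ := GrassSch.exists_classify hG P'
    have hw : h ≫ π = pullback.fst (𝟙 S) T.hom := hh.1
    let g : T ⟶ G := Over.homMk (inv b ≫ h) (by
      show (inv b ≫ h) ≫ π = T.hom
      rw [Category.assoc, hw, ← hb, IsIso.inv_hom_id_assoc])
    refine ⟨g, (key g).2 ?_, fun g' hg' => Over.OverMorphism.ext ?_⟩
    · rwa [show b ≫ g.left = h from IsIso.hom_inv_id_assoc b h]
    · have h2 := GrassSch.classify_unique hG (((key g').1 hg').trans hh.symm)
      rw [show g.left = inv b ≫ h from rfl, ← h2, IsIso.inv_hom_id_assoc]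
  · obtain ⟨D⟩ := GrassSch.ExtData.exists_of_isExtPow hL
    haveI : Coh.IsQCoh L :=
      FinLFAnn.isQCoh_of_isFinLocFree (GrassSch.finLocFree_of_rank (GrassSch.rank_extPow hV hL))
    exact GrassSch.exists_plucker_closed (D := D) hG (Grass.IsGrass.of_isProjBundle hP)

end Groth.Agent.S16629
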