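import Groth.Statements.S1663
import Groth.Agent.TildeDerLib.Push
import Groth.Agent.CurveAmpLib.LocAffine

set_option autoImplicit false
universe u
open CategoryTheory CategoryTheory.Limits AlgebraicGeometry
open Variety

namespace Groth.Agent.S1663

/-- Let X be a scheme whose local rings are Noetherian of Krull dimension at most one, j : U → X the
inclusion of a retrocompact open (j quasi-compact) and F a quasi-coherent O_U-module. Then R^p j_* F
vanishes for all p > 0. -/
theorem result (X : Scheme.{u})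
    (hX : ∀ x : X, IsNoetherianRing (X.presheaf.stalk x) ∧ ringKrullDim (X.presheaf.stalk x) ≤ 1)
    (U : X.Opens) [QuasiCompact U.ι] [HasInjectiveResolutions (U : Scheme.{u}).Modules]
    (F : (U : Scheme.{u}).Modules) (hF : Coh.IsQCoh F) (p : ℕ) (hp : 0 < p) :
    IsZero ((Coh.Rpush U.ι p).obj F) := by
  haveI : IsAffineHom U.ι := by
    refine isAffineHom_of_forall_exists_isAffineOpen _ fun x => ?_
    haveI := (hX x).1
    obtain ⟨V, hV, hxV, -⟩ := exists_isAffineOpen_mem_and_subset (x := x) (U := (⊤ : X.Opens)) trivial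
    have hC : IsCompact ((U ⊓ V : X.Opens) : Set X) := by
      have h := (U.ι.isCompact_preimage (U := V) hV.isCompact).image U.ι.continuous
      convert h using 1
      exact Set.ext fun z => ⟨fun hz => ⟨⟨z, hz.1⟩, hz.2, rfl⟩, fun ⟨w, hw, e⟩ => e ▸ ⟨w.2, hw⟩⟩
    obtain ⟨g, hxg, hg⟩ := CurveAmpLib.exists_affine_inter ⟨V, hV⟩ hxV (hX x).2 (U ⊓ V) hC inf_le_right
    refine ⟨X.basicOpen g, hxg, hV.basicOpen g, ?_⟩
    refine (Scheme.Hom.isAffineOpen_iff_of_isOpenImmersion U.ι).mp ?_
    rw [Scheme.Hom.image_preimage_eq_opensRange_inf, Scheme.Opens.opensRange_ι]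
    rwa [inf_assoc, inf_eq_right.mpr (X.basicOpen_le g)] at hg
  haveI := hF
  exact TildeDerLib.isZero_Rpush_affine U.ι F p hp

end Groth.Agent.S1663
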