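import Groth.Statements.S16636
import Groth.Agent.RedKerLib.Central
import Groth.Agent.RichLib.FibreCrit
import Groth.Agent.MultExtLib.Quot
import Groth.Agent.HomRepLib.Descent
import Groth.Agent.S12442

set_option autoImplicit false
set_option backward.isDefEq.respectTransparency false
set_option backward.isDefEq.respectTransparency.types false
set_option maxHeartbeats 1000000
set_option synthInstance.maxHeartbeats 400000
open CategoryTheory CategoryTheory.Limits MonoidalCategory CartesianMonoidalCategory MonObj GrpObj AlgebraicGeometry
universe u
open Red

attribute [-instance] CategoryTheory.Hom.commGroup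
namespace Groth.Agent.S16636

/-- Let f : G' → G be a homomorphism of reductive group schemes over a scheme S. If on every fibre over
S the induced morphism G'_s → G_s is finite, flat and surjective, then f is finite, flat and
surjective (an isogeny: the point is that the quasi-finite kernel is finite over S). -/
theorem result {S : Scheme.{u}} {G' G : Over S} [GrpObj G'] [GrpObj G]
    (hG' : Red.IsReductive G') (hG : Red.IsReductive G) (f : G' ⟶ G) [IsMonHom f]
    (hfib : ∀ s : S, IsFinite (Limits.pullback.snd f.left (G.hom.fiberι s)) ∧
      Flat (Limits.pullback.snd f.left (G.hom.fiberι s)) ∧ Surjective (Limits.pullback.snd f.left (G.hom.fiberι s))) :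
    IsFinite f.left ∧ Flat f.left ∧ Surjective f.left := by
  haveI := hG'.1; haveI := hG'.2.1; haveI := hG.1; haveI := hG.2.1
  haveI : Flat (f.left ≫ G.hom) := by rw [Over.w]; infer_instance
  haveI : LocallyOfFinitePresentation (f.left ≫ G.hom) := by rw [Over.w]; infer_instance
  haveI hfl : Flat f.left := RichLib.FibreCrit.flat_of_fibres G.hom f.left fun s => (hfib s).2.1
  haveI hsurj : Surjective f.left := RichLib.FibreCrit.surjective_of_fibres G.hom f.left fun s => (hfib s).2.2
  haveI : LocallyOfFinitePresentation f.left := Groth.Agent.S12442.lfp_of_comp_lft f.left G.hom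
  haveI : IsAffineHom (f.left ≫ G.hom) := by rw [Over.w]; infer_instance
  haveI : QuasiCompact f.left := QuasiCompact.of_comp f.left G.hom
  have hq : ∀ y, IsFinite (f.left.fiberToSpecResidueField y) := fun y =>
    RichLib.FibreCrit.fiber_of_fibres (P := @IsFinite) G.hom f.left y fun s => (hfib s).1
  haveI : LocallyQuasiFinite f.left := LocallyQuasiFinite.of_fiberToSpecResidueField f.left fun y => by
    haveI := hq y; infer_instance
  obtain ⟨K, _, i, hi, hmi, hK⟩ := RedKer.exists_kernel f
  haveI := hi
  have sqK : IsPullback i.left (toUnit K).left f.left (η[G]).left := hK.map (Over.forget S)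
  have hKhom : (toUnit K).left = K.hom := by
    have h := Over.w (toUnit K)
    exact (Category.comp_id _).symm.trans h
  haveI : QuasiCompact K.hom := hKhom ▸ MorphismProperty.of_isPullback sqK inferInstance
  haveI : LocallyQuasiFinite K.hom := hKhom ▸ MorphismProperty.of_isPullback sqK inferInstance
  haveI : IsFinite K.hom := RedKer.isFinite_kernel hG' hG f i hK fun s => inferInstance
  refine ⟨?_, hfl, hsurj⟩
  have sq : IsPullback (fst G' K).left ((G' ◁ i) ≫ μ[G']).left f.left f.left :=
    (MultExt.isPullback_self i f hK).map (Over.forget S)
  haveI := Groth.Agent.S0084.result.{u}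
  refine Groth.Agent.HomRep.prop_of_isPullback_fpqc @IsFinite sq.flip ?_
  exact MorphismProperty.pullback_fst (P := @IsFinite) _ _ ‹IsFinite K.hom›

end Groth.Agent.S16636
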