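import Groth.Statements.S16638
import Groth.Agent.SplitCellLib.ClosedSet
import Groth.Agent.SplitCellLib.Closed
import Groth.Agent.SplitCellLib.UnipFibre

set_option autoImplicit false
open CategoryTheory MonoidalCategory CartesianMonoidalCategory MonObj GrpObj AlgebraicGeometry
universe u
open RedSub

namespace Groth.Agent.S16638

/-- Let G be a reductive group scheme over a scheme S with a splitting D, and let Ψ be a closed set of
roots (a, b ∈ Ψ with a + b a root forces a + b ∈ Ψ) containing no pair of opposite roots. Then the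
root groups U_a, a ∈ Ψ, directly span, in any order, one and the same closed subgroup scheme U_Ψ of
G: U_Ψ is smooth over S with connected geometric fibres containing no non-trivial subtorus, it is
normalised by the torus of the splitting, and for every enumeration of Ψ the ordered product of the
root homomorphisms is an isomorphism from a power of the additive group onto U_Ψ. -/
theorem result {S : Scheme.{u}} {G : Over S} [GrpObj G]
    (D : Red.SplitRed G) (Ψ : Set D.idx)
    (hcl : ∀ a b c : D.idx, a ∈ Ψ → b ∈ Ψ → D.P.root a + D.P.root b = D.P.root c → c ∈ Ψ)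
    (hneg : ∀ a b : D.idx, a ∈ Ψ → D.P.root b = -D.P.root a → b ∉ Ψ) :
    ∃ (U : Over S) (_ : GrpObj U) (v : U ⟶ G), IsMonHom v ∧ IsClosedImmersion v.left ∧ Smooth U.hom ∧
      (∀ s : S, ConnectedSpace (Red.geomFibre s U).left ∧
        Red.HasNoSubtorus (AlgebraicClosure (S.residueField s)) (Red.geomFibre s U)) ∧
      (∀ (X : Over S) (t : X ⟶ D.T) (x : X ⟶ U), ∃ x' : X ⟶ U, (t ≫ D.i) * (x ≫ v) * (t ≫ D.i)⁻¹ = x' ≫ v) ∧
      ∀ {m : ℕ} (e : Fin m → D.idx), RedSub.Enumerates Ψ e →
        ∃ ψ : RedSub.pow (Red.Ga S) m ≅ U, ψ.hom ≫ v = RedSub.prodMap (Red.Ga S) m (fun k => D.u (e k)) := by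
  classical
  have hcl' : RootD.IsClosedSub D.P Ψ := fun i j k hi hj he => hcl i j k hi hj he.symm
  have hP1 : ∀ i ∈ Ψ, D.P.reflectionPerm i i ∉ Ψ := fun i hi =>
    hneg i _ hi (RootSysLib.root_neg i)
  obtain ⟨b, hb⟩ := SplitCell.exists_sides_superset hcl' hP1
  obtain ⟨m₀, e₀, he₀⟩ : ∃ (m₀ : ℕ) (e₀ : Fin m₀ → D.idx), RedSub.Enumerates Ψ e₀ :=
    ⟨Fintype.card Ψ, fun k => ((Fintype.equivFin Ψ).symm k).1,
      fun k l h => (Fintype.equivFin Ψ).symm.injective (Subtype.ext h), by
        ext x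
        exact ⟨fun ⟨k, hk⟩ => hk ▸ ((Fintype.equivFin Ψ).symm k).2,
          fun hx => ⟨Fintype.equivFin Ψ ⟨x, hx⟩, by simp⟩⟩⟩
  have hp : ∀ k, e₀ k ∈ b.pos := fun k => hb (he₀.2.subset (Set.mem_range_self k))
  have hs : SplitCell.IsSatur D e₀ := fun k d hd => by
    rw [he₀.2]
    refine (RootBasicLib.isClosedSub_iff_natSpan D.P Ψ).1 hcl' k ?_
    rw [hd]
    exact sum_mem fun i _ => by
      rw [natCast_zsmul]
      exact nsmul_mem (RootSysLib.root_mem_natSpan (S := Ψ) (i := e₀ i) (he₀.2.subset (Set.mem_range_self i))) _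
  obtain ⟨grp, hhom⟩ := SplitCell.exists_grpObj b hs he₀.1 hp
  letI := grp
  haveI := hhom
  refine ⟨RedSub.pow (Red.Ga S) m₀, grp, SplitCell.rprod D e₀, hhom,
    SplitCell.isClosedImmersion_rprod b he₀.1 hp, ?_, fun s => ⟨?_, ?_⟩, fun X t x => SplitCell.exists_conj t x,
    fun {m} e he => ?_⟩
  · haveI := SplitCell.smoothRel_pow (S := S) m₀
    exact SmoothOfRelativeDimension.smooth m₀ _
  · exact SplitCell.connectedSpace_pow (Red.geomPt s) m₀
  · exact SplitCell.hasNoSubtorus_rprod b hs he₀.1 hp (Red.geomPt s)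
  · exact SplitCell.exists_iso b hs he₀.1 hp he.1 (he.2.trans he₀.2.symm)

end Groth.Agent.S16638
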