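import Groth.Statements.S16644
import Mathlib


-- import your own Groth.Agent.* helpers here

set_option autoImplicit false
open QuadZ

namespace Groth.Agent.S16644

/-- For odd n, the discriminant of the universal quadratic form Σ_{i ≤ j} A_{ij} x_i x_j in n variables
(variables A_{ij} indexed by unordered pairs), i.e. the determinant of the symmetric matrix with
diagonal entries 2 A_{ii} and off-diagonal entries A_{ij}, is divisible by 2 in the integral
polynomial ring ℤ[A_{ij}] (so the half-discriminant is an integral polynomial). -/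
theorem result (n : ℕ) (hn : Odd n) :
    (2 : MvPolynomial (Sym2 (Fin n)) ℤ) ∣
      (Matrix.of fun i j : Fin n =>
        if i = j then 2 * MvPolynomial.X (R := ℤ) (σ := Sym2 (Fin n)) (Sym2.mk i j)
        else MvPolynomial.X (R := ℤ) (σ := Sym2 (Fin n)) (Sym2.mk i j)).det := by
  classical
  set Mx : Matrix (Fin n) (Fin n) (MvPolynomial (Sym2 (Fin n)) ℤ) := Matrix.of fun i j : Fin n =>
    if i = j then 2 * MvPolynomial.X (R := ℤ) (σ := Sym2 (Fin n)) (Sym2.mk i j)
    else MvPolynomial.X (R := ℤ) (σ := Sym2 (Fin n)) (Sym2.mk i j) with hMx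
  rw [show (2 : MvPolynomial (Sym2 (Fin n)) ℤ) = MvPolynomial.C 2 from (map_ofNat _ 2).symm,
    MvPolynomial.C_dvd_iff_map_hom_eq_zero (Int.castRingHom (ZMod 2)) 2 (fun r =>
      (ZMod.intCast_zmod_eq_zero_iff_dvd r 2)), RingHom.map_det]
  set N := (MvPolynomial.map (Int.castRingHom (ZMod 2))).mapMatrix Mx with hN
  have hsym : ∀ i j, N i j = N j i := fun i j => by
    simp only [hN, RingHom.mapMatrix_apply, Matrix.map_apply, hMx, Matrix.of_apply]
    rcases eq_or_ne i j with rfl | hij
    · rfl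
    · rw [if_neg hij, if_neg hij.symm, Sym2.eq_swap]
  have hdiag : ∀ i, N i i = 0 := fun i => by
    simp only [hN, RingHom.mapMatrix_apply, Matrix.map_apply, hMx, Matrix.of_apply, if_true]
    rw [map_mul, map_ofNat, show (2 : MvPolynomial (Sym2 (Fin n)) (ZMod 2)) = 0 from CharTwo.two_eq_zero, zero_mul]
  rw [Matrix.det_apply]
  refine Finset.sum_involution (fun σ _ => σ⁻¹) (fun σ _ => ?_) (fun σ _ hσ => ?_)
    (fun σ _ => Finset.mem_univ _) (fun σ _ => inv_inv σ)
  · have h : ∏ i, N (σ⁻¹ i) i = ∏ i, N (σ i) i := by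
      rw [← Equiv.prod_comp σ]
      exact Finset.prod_congr rfl fun i _ => by rw [Equiv.Perm.inv_def, Equiv.symm_apply_apply, hsym]
    rw [h, Equiv.Perm.sign_inv]
    exact CharTwo.add_self_eq_zero _
  · intro hinv
    apply hσ
    have h2 : σ ^ 2 ^ 1 = 1 := by
      rw [pow_one, sq]; nth_rewrite 1 [← hinv]; exact inv_mul_cancel σ
    haveI : Fact (Nat.Prime 2) := ⟨Nat.prime_two⟩
    obtain ⟨i, hi⟩ := Equiv.Perm.exists_fixed_point_of_prime (p := 2) (n := 1)
      (by rw [Fintype.card_fin]; obtain ⟨c, rfl⟩ := hn; omega) h2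
    rw [Finset.prod_eq_zero (Finset.mem_univ i) (by rw [hi, hdiag]), smul_zero]

end Groth.Agent.S16644
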