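import Groth.Statements.S16647
import Mathlib
import Groth.Agent.AlgSpLib.FpqcMore
import Groth.Agent.TorsExtLib.Props
-- import your own Groth.Agent.* helpers here

set_option autoImplicit false
set_option backward.isDefEq.respectTransparency false
open CategoryTheory MonoidalCategory CartesianMonoidalCategory MonObj GrpObj AlgebraicGeometry
universe u
open GrpSch

attribute [-instance] CategoryTheory.Hom.commGroup

namespace Groth.Agent.S16647
open scoped MonObj in
/-- A lifted point trivialises the fibre of a homomorphism as a translate of the kernel. -/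
theorem isPullback_translate {S : Scheme.{u}} {N H Q W : Over S} [GrpObj H] [GrpObj Q]
    (n : N ⟶ H) (b : H ⟶ Q) [IsMonHom b] (hk : AlgGrp.IsKernel n b) (w : W ⟶ H) (c : W ⟶ Q) (hw : w ≫ b = c) :
    IsPullback ((fst N W ≫ n) * (snd N W ≫ w)) (snd N W) b c := by
  have hmono : ∀ {T : Over S} (x y : T ⟶ N), x ≫ n = y ≫ n → x = y := fun x y e =>
    hk.hom_ext e (toUnit_unique _ _)
  have h1 : n ≫ b = 1 := by rw [hk.w, Hom.one_def]
  refine ⟨⟨by rw [MonObj.mul_comp, Category.assoc, h1, MonObj.comp_one, _root_.one_mul, Category.assoc, hw]⟩,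
    ⟨Limits.PullbackCone.IsLimit.mk _
      (fun s => lift (hk.lift (s.fst * (s.snd ≫ w)⁻¹) (toUnit _) (by
        rw [MonObj.mul_comp, GrpObj.inv_comp, Category.assoc, hw, s.condition, mul_inv_cancel, Hom.one_def])) s.snd)
      (fun s => ?_) (fun s => lift_snd _ _) (fun s m e1 e2 => ?_)⟩⟩
  · rw [MonObj.comp_mul, lift_fst_assoc, lift_snd_assoc, hk.lift_fst, inv_mul_cancel_right]
  · refine CartesianMonoidalCategory.hom_ext _ _ (hmono _ _ ?_) (by rw [lift_snd]; exact e2)
    rw [lift_fst, hk.lift_fst, ← e1, ← e2, MonObj.comp_mul, Category.assoc m (fst N W) n,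
      Category.assoc m (snd N W) w, mul_inv_cancel_right]


/-- In a commutative diagram of short exact sequences of S-group schemes that are flat, separated and of
finite presentation over a scheme S (in each row the first homomorphism is the kernel of the second
and the second is a flat surjection), if the two outer vertical homomorphisms are closed immersions
then so is the middle one. -/
theorem result {S : Scheme.{u}}
    {H₁' H₁ H₁'' H₂' H₂ H₂'' : Over S} [GrpObj H₁'] [GrpObj H₁] [GrpObj H₁''] [GrpObj H₂'] [GrpObj H₂] [GrpObj H₂'']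
    [Flat H₁'.hom] [Flat H₁.hom] [Flat H₁''.hom] [Flat H₂'.hom] [Flat H₂.hom] [Flat H₂''.hom]
    [IsSeparated H₁'.hom] [IsSeparated H₁.hom] [IsSeparated H₁''.hom]
    [IsSeparated H₂'.hom] [IsSeparated H₂.hom] [IsSeparated H₂''.hom]
    [QuasiCompact H₁'.hom] [QuasiCompact H₁.hom] [QuasiCompact H₁''.hom]
    [QuasiCompact H₂'.hom] [QuasiCompact H₂.hom] [QuasiCompact H₂''.hom]
    [LocallyOfFinitePresentation H₁'.hom] [LocallyOfFinitePresentation H₁.hom] [LocallyOfFinitePresentation H₁''.hom]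
    [LocallyOfFinitePresentation H₂'.hom] [LocallyOfFinitePresentation H₂.hom] [LocallyOfFinitePresentation H₂''.hom]
    (a₁ : H₁' ⟶ H₁) (b₁ : H₁ ⟶ H₁'') (a₂ : H₂' ⟶ H₂) (b₂ : H₂ ⟶ H₂'')
    [IsMonHom a₁] [IsMonHom b₁] [IsMonHom a₂] [IsMonHom b₂]
    (h₁ : AlgGrp.IsKernel a₁ b₁) (hb₁ : Flat b₁.left ∧ Surjective b₁.left)
    (h₂ : AlgGrp.IsKernel a₂ b₂) (hb₂ : Flat b₂.left ∧ Surjective b₂.left)
    (j' : H₁' ⟶ H₂') (j : H₁ ⟶ H₂) (j'' : H₁'' ⟶ H₂'') [IsMonHom j'] [IsMonHom j] [IsMonHom j'']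
    (sq₁ : a₁ ≫ j = j' ≫ a₂) (sq₂ : b₁ ≫ j'' = j ≫ b₂)
    (hj' : IsClosedImmersion j'.left) (hj'' : IsClosedImmersion j''.left) :
    IsClosedImmersion j.left := by
  obtain ⟨hb₁f, hb₁s⟩ := hb₁
  haveI := hb₁f; haveI := hb₁s; haveI := hj'; haveI := hj''
  haveI : QuasiCompact b₁.left := by
    haveI : QuasiCompact (b₁.left ≫ H₁''.hom) := by rw [Over.w]; infer_instance
    exact QuasiCompact.of_comp b₁.left H₁''.hom
  haveI : Mono j'' := Over.mono_of_mono_left j''
  let E := Limits.pullback b₂ j''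
  let c : E ⟶ H₂ := Limits.pullback.fst b₂ j''
  let e : E ⟶ H₁'' := Limits.pullback.snd b₂ j''
  have sqE : IsPullback c e b₂ j'' := IsPullback.of_hasPullback b₂ j''
  haveI : IsClosedImmersion c.left :=
    MorphismProperty.of_isPullback (sqE.map (Over.forget S)).flip ‹IsClosedImmersion j''.left›
  let t : H₁ ⟶ E := sqE.lift j b₁ sq₂.symm
  have ht : t ≫ c = j := sqE.lift_fst _ _ _
  have hte : t ≫ e = b₁ := sqE.lift_snd _ _ _
  have sqA : IsPullback ((fst H₁' H₁ ≫ a₁) * (snd H₁' H₁ ≫ 𝟙 H₁)) (snd H₁' H₁) b₁ b₁ :=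
    isPullback_translate a₁ b₁ h₁ (𝟙 H₁) b₁ (Category.id_comp _)
  have sqB : IsPullback ((fst H₂' H₁ ≫ a₂) * (snd H₂' H₁ ≫ j)) (snd H₂' H₁) b₂ (b₁ ≫ j'') :=
    isPullback_translate a₂ b₂ h₂ j _ sq₂.symm
  have sqC : IsPullback (sqE.lift _ (snd H₂' H₁ ≫ b₁) (by rw [sqB.w, Category.assoc])) (snd H₂' H₁) e b₁ :=
    IsPullback.of_right' sqB sqE
  let p := sqE.lift ((fst H₂' H₁ ≫ a₂) * (snd H₂' H₁ ≫ j)) (snd H₂' H₁ ≫ b₁) (by rw [sqB.w, Category.assoc])
  change IsPullback p (snd H₂' H₁) e b₁ at sqC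
  have hw : ((fst H₁' H₁ ≫ a₁) * (snd H₁' H₁ ≫ 𝟙 H₁)) ≫ t = (j' ▷ H₁) ≫ p := by
    refine sqE.hom_ext ?_ ?_
    · rw [Category.assoc, ht, Category.assoc, sqE.lift_fst, MonObj.mul_comp, MonObj.comp_mul, Category.assoc,
        Category.assoc, Category.id_comp, sq₁, whiskerRight_fst_assoc, whiskerRight_snd_assoc]
    · rw [Category.assoc, hte, Category.assoc, sqE.lift_snd, whiskerRight_snd_assoc, sqA.w]
  have sqD : IsPullback ((fst H₁' H₁ ≫ a₁) * (snd H₁' H₁ ≫ 𝟙 H₁)) (j' ▷ H₁) t p := by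
    refine IsPullback.of_bot ?_ hw sqC
    rw [hte, whiskerRight_snd]
    exact sqA
  haveI : Flat p.left := MorphismProperty.of_isPullback (sqC.map (Over.forget S)).flip hb₁f
  haveI : Surjective p.left := MorphismProperty.of_isPullback (P := @Surjective) (sqC.map (Over.forget S)).flip hb₁s
  haveI : QuasiCompact p.left :=
    MorphismProperty.of_isPullback (P := @QuasiCompact) (sqC.map (Over.forget S)).flip ‹QuasiCompact b₁.left›
  haveI : IsClosedImmersion (j' ▷ H₁).left :=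
    MorphismProperty.of_isPullback (TorsExtLib.forget_map_whiskerRight j' H₁).flip hj'
  haveI : IsClosedImmersion t.left :=
    MorphismProperty.of_isPullback_of_descendsAlong (P := @IsClosedImmersion) (Q := @Surjective ⊓ @Flat ⊓ @QuasiCompact)
      (sqD.map (Over.forget S)).flip ⟨⟨‹Surjective p.left›, ‹Flat p.left›⟩, ‹QuasiCompact p.left›⟩
      ‹IsClosedImmersion (j' ▷ H₁).left›
  rw [← ht, Over.comp_left]
  infer_instance

end Groth.Agent.S16647
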