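import Groth.Statements.S16650
import Groth.Agent.BorelLib.RedTorus
import Groth.Agent.TorsTupleLib.CentreTori
import Groth.Agent.S16642
-- import your own Groth.Agent.* helpers here

set_option autoImplicit false
set_option maxHeartbeats 4000000
set_option synthInstance.maxHeartbeats 400000
set_option backward.isDefEq.respectTransparency false
open CategoryTheory MonoidalCategory CartesianMonoidalCategory MonObj GrpObj AlgebraicGeometry
universe u
open RedSub

attribute [-instance] CategoryTheory.Hom.commGroup

namespace Groth.Agent.S16650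

open Groth.Agent.BorelLib
attribute [local instance] BorelLib.pTop BorelLib.pTopTensor

/-- The centre of a reductive group scheme G over a scheme S is contained in every parabolic subgroup of
G. -/
theorem result {S : Scheme.{u}} {G Z P : Over S} [GrpObj G] [GrpObj Z] [GrpObj P]
    (hG : Red.IsReductive G) (z : Z ⟶ G) (hZ : Red.IsCentre z) (p : P ⟶ G) (hP : Red.IsParabolic p) :
    ∃ f : Z ⟶ P, f ≫ p = z := by
  haveI := hG.1; haveI := hG.2.1; haveI := hP.1; haveI := hP.2.1; haveI := hZ.1
  have hloc : ∀ s : S, ∃ (Q : Scheme.{u}) (ϖ : Q ⟶ S), Flat ϖ ∧ s ∈ Set.range ϖ.base ∧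
      MultEq.LE z p ϖ := by
    intro s
    obtain ⟨S', f, hf, hs, T, _, t, htm, ht⟩ := Groth.Agent.S16642.result hG p hP s
    haveI := hf; haveI := ht.1; haveI := ht.2.1
    haveI := RedRank.isAffineHom_bc G f
    haveI : Smooth (Red.bc f G).hom := MorphismProperty.pullback_snd (P := @Smooth) _ _ inferInstance
    obtain ⟨x, hx⟩ := RCentre.exists_factor_of_selfCent (Red.bc f G) ht.2.2.1
      (fun q X' x hx => RCentre.selfCent_geom G (TorsTuple.unipotentRankZero_of_isReductive hG) f ht (Red.geomPt q) X' x hx)
      ((Over.pullback f).map z) fun X' y w => RCentre.central_bc z (fun X a g => by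
        simpa using (hZ.2.2 X (a ≫ z)).1 ⟨a, rfl⟩ X (𝟙 X) g) f X' y (w ≫ t ≫ (Over.pullback f).map p)
    exact ⟨S', f, inferInstance, hs, RedRank.le_of_bc_factor z p f (x ≫ t) (by rw [Category.assoc, hx])⟩
  choose Q ϖ hflat hmem hle using hloc
  have hall : MultEq.LE z p (𝟙 S) := MultEq.le_of_family ϖ hflat (fun s => ⟨s, hmem s⟩) fun s => by
    rw [Category.comp_id]; exact hle s
  obtain ⟨x, hx⟩ := hall Z Z.hom (Category.comp_id _) (𝟙 Z)
  exact ⟨x, hx.trans (Category.id_comp z)⟩

end Groth.Agent.S16650
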