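import Groth.Statements.S16652
import Groth.Agent.SplitFibLib.Levels
import Groth.Agent.SplitFibLib.RootSub
import Groth.Agent.DiagRepLib.Scheme

set_option autoImplicit false
open CategoryTheory MonoidalCategory CartesianMonoidalCategory MonObj GrpObj AlgebraicGeometry
universe u
open RedSub

namespace Groth.Agent.S16652

set_option backward.isDefEq.respectTransparency false
set_option maxHeartbeats 1000000
set_option synthInstance.maxHeartbeats 400000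

attribute [-instance] CategoryTheory.Hom.commGroup

/-- With G a reductive group scheme over a scheme S with splitting D, Ψ a closed set of roots without
opposite pairs, λ ∈ M^∨ non-vanishing on the roots and positive on Ψ, and n ≥ 1, let U₁ ⊃ U₂ be the
closed subgroups directly spanned by the root groups U_a (a ∈ Ψ) with λ(a) ≥ n, resp. λ(a) ≥ n + 1.
Then U₂ is normal in U₁, root groups U_a, U_b with λ(a) = λ(b) = n commute modulo U₂, and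
multiplication (∏_{λ(a) = n} U_a) × U₂ → U₁ (product in any order) is an isomorphism of schemes;
thus U₁/U₂ is the vector group ∏_{λ(a)=n} U_a. -/
theorem result {S : Scheme.{u}} {G : Over S} [GrpObj G]
    (D : Red.SplitRed G) (Ψ : Set D.idx)
    (hcl : ∀ a b c : D.idx, a ∈ Ψ → b ∈ Ψ → D.P.root a + D.P.root b = D.P.root c → c ∈ Ψ)
    (hneg : ∀ a b : D.idx, a ∈ Ψ → D.P.root b = -D.P.root a → b ∉ Ψ)
    (lam : Module.Dual ℤ D.M) (hlam : ∀ a : D.idx, lam (D.P.root a) ≠ 0) (hpos : ∀ a ∈ Ψ, 0 < lam (D.P.root a))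
    (n : ℕ) (hn : 1 ≤ n)
    {U₁ U₂ : Over S} [GrpObj U₁] [GrpObj U₂] (v₁ : U₁ ⟶ G) (v₂ : U₂ ⟶ G) [IsMonHom v₁] [IsMonHom v₂]
    (hv₁ : IsClosedImmersion v₁.left) (hv₂ : IsClosedImmersion v₂.left)
    (hU₁ : ∀ {m : ℕ} (e : Fin m → D.idx), RedSub.Enumerates {a | a ∈ Ψ ∧ (n : ℤ) ≤ lam (D.P.root a)} e →
      ∃ ψ : RedSub.pow (Red.Ga S) m ≅ U₁, ψ.hom ≫ v₁ = RedSub.prodMap (Red.Ga S) m (fun k => D.u (e k)))
    (hU₂ : ∀ {m : ℕ} (e : Fin m → D.idx), RedSub.Enumerates {a | a ∈ Ψ ∧ (n : ℤ) + 1 ≤ lam (D.P.root a)} e →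
      ∃ ψ : RedSub.pow (Red.Ga S) m ≅ U₂, ψ.hom ≫ v₂ = RedSub.prodMap (Red.Ga S) m (fun k => D.u (e k))) :
    (∃ f : U₂ ⟶ U₁, f ≫ v₁ = v₂ ∧ IsMonHom f ∧ AlgGrp.IsNormalHom f) ∧
    (∀ (a b : D.idx), a ∈ Ψ → b ∈ Ψ → lam (D.P.root a) = n → lam (D.P.root b) = n →
      ∀ (X : Over S) (x y : X ⟶ Red.Ga S), ∃ w : X ⟶ U₂,
        (x ≫ D.u a) * (y ≫ D.u b) * (x ≫ D.u a)⁻¹ * (y ≫ D.u b)⁻¹ = w ≫ v₂) ∧
    ∀ {m : ℕ} (e : Fin m → D.idx), RedSub.Enumerates {a | a ∈ Ψ ∧ lam (D.P.root a) = n} e →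
      ∃ ψ : RedSub.pow (Red.Ga S) m ⊗ U₂ ≅ U₁,
        ψ.hom ≫ v₁ = (fst _ _ ≫ RedSub.prodMap (Red.Ga S) m (fun k => D.u (e k))) * (snd _ _ ≫ v₂) := by
  classical
  let b : SplitCell.Sides D.P := ⟨{i | 0 < lam (D.P.root i)}, {i | lam (D.P.root i) < 0},
    ⟨lam, fun _ h => h, fun _ h => h⟩, fun i => (lt_or_gt_of_ne (hlam i)).symm⟩
  have hcl' : RootD.IsClosedSub D.P Ψ := fun i j k hi hj he => hcl i j k hi hj he.symm
  obtain ⟨m₂, e₂, he₂⟩ := SplitFib.exists_enumerates {a | a ∈ Ψ ∧ (n : ℤ) + 1 ≤ lam (D.P.root a)}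
  obtain ⟨ψ₂, hψ₂⟩ := hU₂ e₂ he₂
  have hmem₂ : ∀ k, e₂ k ∈ Ψ ∧ (n : ℤ) + 1 ≤ lam (D.P.root (e₂ k)) := fun k => he₂.2.subset (Set.mem_range_self k)
  have hs₂ := SplitFib.isSatur_of_closed b hcl' hpos _ he₂
  have hp₂ : ∀ k, e₂ k ∈ b.pos := fun k => hpos _ (hmem₂ k).1
  haveI : Mono v₁ := Groth.Agent.DiagRep.mono_of_isClosedImmersion v₁ hv₁
  have main : ∀ {m : ℕ} (e : Fin m → D.idx), RedSub.Enumerates {a | a ∈ Ψ ∧ lam (D.P.root a) = n} e →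
      ∃ ψ₁ : RedSub.pow (Red.Ga S) (m + m₂) ≅ U₁, ψ₁.hom ≫ v₁ = SplitCell.rprod D (Fin.append e e₂) ∧
        ∃ grp : GrpObj (RedSub.pow (Red.Ga S) (m + m₂)), letI := grp
          IsMonHom (SplitCell.rprod D (Fin.append e e₂)) ∧
          ∀ k₀ : Fin m, ∀ (X : Over S) (x y : X ⟶ RedSub.pow (Red.Ga S) (m + m₂)),
            (x * y * x⁻¹) ≫ SplitCell.prj S (Fin.castAdd m₂ k₀) = y ≫ SplitCell.prj S (Fin.castAdd m₂ k₀) ∧
            (x * y * x⁻¹ * y⁻¹) ≫ SplitCell.prj S (Fin.castAdd m₂ k₀) = 1 := by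
    intro m e he
    have hmem : ∀ k, e k ∈ Ψ ∧ lam (D.P.root (e k)) = n := fun k => he.2.subset (Set.mem_range_self k)
    have he₁ : RedSub.Enumerates {a | a ∈ Ψ ∧ (n : ℤ) ≤ lam (D.P.root a)} (Fin.append e e₂) := by
      refine ⟨Fin.append_injective_iff.2 ⟨he.1, he₂.1, fun i j h => ?_⟩, ?_⟩
      · have h1 := (hmem i).2
        have h2 := (hmem₂ j).2
        rw [← h] at h2
        omega
      · ext a
        constructor
        · rintro ⟨k, rfl⟩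
          refine Fin.addCases (fun i => ?_) (fun j => ?_) k
          · rw [Fin.append_left]; exact ⟨(hmem i).1, (hmem i).2.ge⟩
          · rw [Fin.append_right]; exact ⟨(hmem₂ j).1, by have := (hmem₂ j).2; omega⟩
        · intro ⟨ha, han⟩
          rcases han.eq_or_lt with h | h
          · obtain ⟨i, hi⟩ := he.2.symm.subset (show a ∈ {a | a ∈ Ψ ∧ lam (D.P.root a) = n} from ⟨ha, h.symm⟩)
            exact ⟨Fin.castAdd m₂ i, by rw [Fin.append_left, hi]⟩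
          · obtain ⟨j, hj⟩ := he₂.2.symm.subset
              (show a ∈ {a | a ∈ Ψ ∧ (n : ℤ) + 1 ≤ lam (D.P.root a)} from ⟨ha, by omega⟩)
            exact ⟨Fin.natAdd m j, by rw [Fin.append_right, hj]⟩
    obtain ⟨ψ₁, hψ₁⟩ := hU₁ _ he₁
    have hs₁ := SplitFib.isSatur_of_closed b hcl' hpos _ he₁
    have hp₁ : ∀ k, Fin.append e e₂ k ∈ b.pos := fun k => hpos _ (he₁.2.subset (Set.mem_range_self k)).1
    obtain ⟨grp, hhom⟩ := SplitCell.exists_grpObj b hs₁ he₁.1 hp₁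
    letI := grp
    haveI := hhom
    refine ⟨ψ₁, hψ₁, grp, hhom, fun k₀ X x y => ?_⟩
    have hmin : ∀ k, lam (D.P.root (e k₀)) ≤ lam (D.P.root (Fin.append e e₂ k)) := fun k => by
      rw [(hmem k₀).2]; exact (he₁.2.subset (Set.mem_range_self k)).2
    exact ⟨SplitFib.coord_conj hs₁ he₁.1 hp₁ (fun i h => h) k₀ hmin x y,
      SplitFib.coord_comm hs₁ he₁.1 hp₁ (fun i h => h) k₀ hmin x y⟩
  have hlift : ∀ {m : ℕ} (e : Fin m → D.idx) (X : Over S) (z : X ⟶ RedSub.pow (Red.Ga S) (m + m₂)),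
      (∀ k, z ≫ SplitCell.prj S (Fin.castAdd m₂ k) = 1) →
        ∃ w : X ⟶ U₂, z ≫ SplitCell.rprod D (Fin.append e e₂) = w ≫ v₂ := by
    intro m e X z hz
    refine ⟨(SplitCell.tup fun k => z ≫ SplitCell.prj S (Fin.natAdd m k)) ≫ ψ₂.hom, ?_⟩
    rw [SplitFib.rprod_append, SplitFib.rprod_eq_one e _ (fun k => by rw [SplitCell.tup_prj]; exact hz k),
      _root_.one_mul, Category.assoc, hψ₂]
  obtain ⟨m₀, e₀, he₀⟩ := SplitFib.exists_enumerates {a | a ∈ Ψ ∧ lam (D.P.root a) = n}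
  obtain ⟨ψ₁, hψ₁, grp, hhom, hcoord⟩ := main e₀ he₀
  letI := grp
  haveI := hhom
  -- the inclusion
  let z₂ : U₂ ⟶ RedSub.pow (Red.Ga S) (m₀ + m₂) :=
    SplitCell.tup (Fin.append (fun _ => 1) fun k => ψ₂.inv ≫ SplitCell.prj S k)
  have hz₂ : z₂ ≫ SplitCell.rprod D (Fin.append e₀ e₂) = v₂ := by
    rw [SplitFib.rprod_append, SplitFib.rprod_eq_one e₀ _ (fun k => by
      rw [SplitCell.tup_prj, SplitCell.tup_prj, Fin.append_left]), _root_.one_mul]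
    rw [show (SplitCell.tup fun k => z₂ ≫ SplitCell.prj S (Fin.natAdd m₀ k)) = ψ₂.inv from
      SplitCell.pow_ext fun k => by rw [SplitCell.tup_prj, SplitCell.tup_prj, Fin.append_right]]
    exact (Iso.inv_comp_eq _).2 hψ₂.symm
  let f : U₂ ⟶ U₁ := z₂ ≫ ψ₁.hom
  have hf : f ≫ v₁ = v₂ := by rw [Category.assoc, hψ₁, hz₂]
  haveI : IsMonHom (f ≫ v₁) := by rw [hf]; infer_instance
  refine ⟨⟨f, hf, Groth.Agent.DiagRep.isMonHom_of_comp_mono f v₁, fun T g y => ?_⟩,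
    fun a a' ha ha' hla hla' X x y => ?_, fun {m} e he => ?_⟩
  · let g₀ := g ≫ ψ₁.inv
    let y₀ := y ≫ z₂
    have hy0 : ∀ k, y₀ ≫ SplitCell.prj S (Fin.castAdd m₂ k) = 1 := fun k => by
      rw [Category.assoc, SplitCell.tup_prj, Fin.append_left, MonObj.comp_one]
    obtain ⟨w, hw⟩ := hlift e₀ T (g₀ * y₀ * g₀⁻¹) fun k => by rw [(hcoord k T g₀ y₀).1]; exact hy0 k
    refine ⟨w, (cancel_mono v₁).1 ?_⟩
    have hg : g₀ ≫ SplitCell.rprod D (Fin.append e₀ e₂) = g ≫ v₁ := by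
      rw [Category.assoc, ← hψ₁, Iso.inv_hom_id_assoc]
    have hy : y₀ ≫ SplitCell.rprod D (Fin.append e₀ e₂) = (y ≫ f) ≫ v₁ := by
      rw [Category.assoc, Category.assoc, hz₂, hf]
    rw [Category.assoc w, hf, ← hw]
    simp only [MonObj.mul_comp, GrpObj.inv_comp, hg, hy]
  · obtain ⟨i, hi⟩ := he₀.2.symm.subset (show a ∈ {a | a ∈ Ψ ∧ lam (D.P.root a) = n} from ⟨ha, hla⟩)
    obtain ⟨j, hj⟩ := he₀.2.symm.subset (show a' ∈ {a | a ∈ Ψ ∧ lam (D.P.root a) = n} from ⟨ha', hla'⟩)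
    have hsingle : ∀ (k₀ : Fin m₀) (x : X ⟶ Red.Ga S), ∃ z : X ⟶ RedSub.pow (Red.Ga S) (m₀ + m₂),
        z ≫ SplitCell.rprod D (Fin.append e₀ e₂) = x ≫ D.u (e₀ k₀) := by
      intro k₀ x
      refine ⟨SplitCell.tup fun k => if k = Fin.castAdd m₂ k₀ then x else 1, ?_⟩
      rw [SplitCell.prodMap_eq]
      simp only [← Category.assoc (f := SplitCell.tup _), SplitCell.tup_prj]
      refine (SplitFib.prod_ofFn_single _ (Fin.castAdd m₂ k₀) fun k hk => ?_).trans (by rw [if_pos rfl, Fin.append_left])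
      haveI := SplitCell.isMonHom_u D (Fin.append e₀ e₂ k)
      rw [if_neg hk, MonObj.one_comp]
    obtain ⟨zx, hzx⟩ := hsingle i x
    obtain ⟨zy, hzy⟩ := hsingle j y
    obtain ⟨w, hw⟩ := hlift e₀ X (zx * zy * zx⁻¹ * zy⁻¹) fun k => (hcoord k X zx zy).2
    refine ⟨w, ?_⟩
    rw [← hw, MonObj.mul_comp, MonObj.mul_comp, MonObj.mul_comp, GrpObj.inv_comp, GrpObj.inv_comp, hzx, hzy, hi, hj]
  · obtain ⟨ψ', hψ', -⟩ := main e he
    refine ⟨(Iso.refl _ ⊗ᵢ ψ₂.symm) ≪≫ (SplitFib.powSplit m m₂).symm ≪≫ ψ', ?_⟩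
    simp only [Iso.trans_hom, Iso.symm_hom, Category.assoc, hψ', SplitFib.powSplit_rprod, MonObj.comp_mul]
    simp only [MonoidalCategory.tensorIso_hom, Iso.refl_hom, Iso.symm_hom, ← Category.assoc, tensorHom_fst,
      tensorHom_snd, Category.comp_id]
    rw [Category.assoc _ ψ₂.inv, show ψ₂.inv ≫ SplitCell.rprod D e₂ = v₂ from (Iso.inv_comp_eq _).2 hψ₂.symm]

end Groth.Agent.S16652
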