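import Groth.Statements.S1666
import Groth.Agent.GenusPushLib.Main
import Groth.Agent.CurvLib.EulerTensor
import Groth.Agent.ProjFormLib.Proj
import Groth.Agent.S7640

set_option autoImplicit false
universe u
open CategoryTheory CategoryTheory.Limits AlgebraicGeometry
open Variety

namespace Groth.Agent.S1666

/-- Let f : X' → X be a k-morphism of proper schemes of dimension at most one over k which is an
isomorphism over a dense open of X whose preimage is dense in X'. Then for every finite locally free
module E of rank n on X, deg(f^* E) = deg(E). -/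
theorem result (k : Type u) [Field k] (X X' : Scheme.{u}) [X.Over (Spec (CommRingCat.of k))] [X'.Over (Spec (CommRingCat.of k))]
    [IsProper (X ↘ (Spec (CommRingCat.of k)))] [IsProper (X' ↘ (Spec (CommRingCat.of k)))] (hdim : topologicalKrullDim X ≤ 1) (hdim' : topologicalKrullDim X' ≤ 1)
    (f : X' ⟶ X) (hf : f ≫ (X ↘ (Spec (CommRingCat.of k))) = X' ↘ (Spec (CommRingCat.of k)))
    (U : X.Opens) (hU : Dense (U : Set X)) (hU' : Dense ((f ⁻¹ᵁ U : X'.Opens) : Set X')) (hfU : IsIso (f ∣_ U))
    (n : ℕ) (E : X.Modules) (hE : FlatMod.IsFinLocFreeOfRank n E) :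
    Curv2.deg k X' ((Scheme.Modules.pullback f).obj E) n = Curv2.deg k X E n := by
  haveI := hfU
  haveI := CurvLib.isNoetherian k (X := X)
  haveI := CurvLib.isNoetherian k (X := X')
  haveI : IsProper f := by
    haveI : IsProper (f ≫ (X ↘ (Spec (CommRingCat.of k)))) := by rw [hf]; infer_instance
    exact IsProper.of_comp f (X ↘ (Spec (CommRingCat.of k)))
  haveI := GenusPushLib.isFinite_of_birational (k := k) hdim f hf U hU hU'
  let E' := (Scheme.Modules.pullback f).obj E
  have hE' : FlatMod.IsFinLocFreeOfRank n E' := Groth.Agent.S7640.isFinLocFreeOfRank_pb f hE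
  let P := (Coh.push f).obj (Coh.structureModule X')
  let φ : Coh.structureModule X ⟶ P := ClSub.unitToPush f
  have hO := DevissLib.isCoh_structureModule X
  have hP : Coh.IsCoh P := QCohLib.isCoh_push_finite f _ (DevissLib.isCoh_structureModule X')
  have hK := QCohLib.isCoh_kernel φ hO hP.1
  have hI := DevissLib.isCoh_image φ hO hP
  have hC := QCohLib.isCoh_cokernel φ hO.1 hP
  have hdC : topologicalKrullDim (CohB1.support (cokernel φ)) ≤ 0 :=
    GenusPushLib.dim_le_zero_of_disjoint hdim U.isOpen hU (QCohLib.isClosed_support _ hC.2)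
      fun y hy hyU => GenusPushLib.notMem_support_cokernel_unit f U hyU hy
  have hdK : topologicalKrullDim (CohB1.support (kernel φ)) ≤ 0 :=
    GenusPushLib.dim_le_zero_of_disjoint hdim U.isOpen hU (QCohLib.isClosed_support _ hK.2)
      fun y hy hyU => GenusPushLib.notMem_support_kernel_unit f U hyU hy
  have hE0 : FlatMod.IsFinLocFree E := fun y => by
    obtain ⟨W, hy, h⟩ := hE y
    exact ⟨W, n, hy, h⟩
  haveI : Coh.IsQCoh (Coh.structureModule X') := QCohLib.isQCoh_unit
  let π : CohB1.tensorMod E P ≅ (Coh.push f).obj (CohB1.tensorMod E' (Coh.structureModule X')) :=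
    @asIso _ _ _ _ (ProjFormLib.projApp f E (Coh.structureModule X')) (ProjFormLib.isIso_projApp f hE0 _)
  have hEc := CurvLib.isCoh_of_locFree hE'
  have hT : Coh.IsCoh (CohB1.tensorMod E' (Coh.structureModule X')) :=
    SerreVanLib.isCoh_tensor hEc CurvLib.isInvertible_structureModule
  haveI := hT.1
  let eE : (CurvLib.tensorLeft' E).obj (Coh.structureModule X) ≅ E :=
    KFlatLib.tensSwap (Coh.structureModule X) E ≪≫ KFlatLib.tensUnitIso E
  let eE' : CohB1.tensorMod E' (Coh.structureModule X') ≅ E' :=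
    KFlatLib.tensSwap (Coh.structureModule X') E' ≪≫ KFlatLib.tensUnitIso E'
  have hP' : Coh.IsCoh ((CurvLib.tensorLeft' E).obj P) :=
    QCohLib.isCoh_of_iso π.symm (QCohLib.isCoh_push_finite f _ hT)
  have fP : AtlasCoh.FiniteCoh (X ↘ Spec (CommRingCat.of k)) ((CurvLib.tensorLeft' E).obj P) :=
    fun q => CurvLib.finite_HH (k := k) hP' q
  have fO : AtlasCoh.FiniteCoh (X ↘ Spec (CommRingCat.of k)) ((CurvLib.tensorLeft' E).obj (Coh.structureModule X)) :=
    fun q => CurvLib.finite_HH (k := k) (QCohLib.isCoh_of_iso eE.symm (CurvLib.isCoh_of_locFree hE)) q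
  have sw : ∀ G : X.Modules, (CurvLib.tensorLeft' E).obj G ≅ CohB1.tensorMod G E := fun G => KFlatLib.tensSwap G E
  have fK := AtlasCoh.FiniteCoh.of_iso (sw (kernel φ)).symm (CurvLib.finiteCoh_tensor_of_dim_zero (k := k) hK hdK hE)
  have fC := AtlasCoh.FiniteCoh.of_iso (sw (cokernel φ)).symm (CurvLib.finiteCoh_tensor_of_dim_zero (k := k) hC hdC hE)
  have vK : Curv2.euler k X ((CurvLib.tensorLeft' E).obj (kernel φ)) = n * Curv2.euler k X (kernel φ) := by
    rw [CurvLib.euler_congr (k := k) (sw (kernel φ)), CurvLib.euler_tensor_locFree_of_dim_zero hK hdK hE]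
  have vC : Curv2.euler k X ((CurvLib.tensorLeft' E).obj (cokernel φ)) = n * Curv2.euler k X (cokernel φ) := by
    rw [CurvLib.euler_congr (k := k) (sw (cokernel φ)), CurvLib.euler_tensor_locFree_of_dim_zero hC hdC hE]
  have h1 := CurvLib.shortExact_tensor_locFree hE (DevissLib.kerImSeq_shortExact φ)
  have h2 := CurvLib.shortExact_tensor_locFree hE (DevissLib.imCokSeq_shortExact φ)
  have fI : AtlasCoh.FiniteCoh (X ↘ Spec (CommRingCat.of k)) ((CurvLib.tensorLeft' E).obj (Abelian.image φ)) :=
    AtlasCoh.FiniteCoh.right h1 fK fO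
  have a1 := GenusPushLib.euler_add_le_one (k := k) hdim h1 fK fO fI
  have a2 := GenusPushLib.euler_add_le_one (k := k) hdim h2 fI fP fC
  have b1 := CurvLib.euler_add_of_isCoh (k := k) (DevissLib.kerImSeq_shortExact φ) hK hO hI
  have b2 := CurvLib.euler_add_of_isCoh (k := k) (DevissLib.imCokSeq_shortExact φ) hI hP hC
  have c1 : Curv2.euler k X' E' = Curv2.euler k X ((CurvLib.tensorLeft' E).obj P) := by
    rw [← CurvLib.euler_congr (k := k) eE', CurvLib.euler_congr (k := k) (M := (CurvLib.tensorLeft' E).obj P) π]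
    exact (PushLinLib.euler_push k f hf _).2
  have c2 : Curv2.euler k X' (Coh.structureModule X') = Curv2.euler k X P :=
    (PushLinLib.euler_push k f hf _).2
  have c3 := CurvLib.euler_congr (k := k) eE
  have a1' : Curv2.euler k X ((CurvLib.tensorLeft' E).obj (Coh.structureModule X)) =
      Curv2.euler k X ((CurvLib.tensorLeft' E).obj (kernel φ)) +
        Curv2.euler k X ((CurvLib.tensorLeft' E).obj (Abelian.image φ)) := a1
  have a2' : Curv2.euler k X ((CurvLib.tensorLeft' E).obj P) =
      Curv2.euler k X ((CurvLib.tensorLeft' E).obj (Abelian.image φ)) +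
        Curv2.euler k X ((CurvLib.tensorLeft' E).obj (cokernel φ)) := a2
  have b1' : Curv2.euler k X (Coh.structureModule X) =
      Curv2.euler k X (kernel φ) + Curv2.euler k X (Abelian.image φ) := b1
  have b2' : Curv2.euler k X P = Curv2.euler k X (Abelian.image φ) + Curv2.euler k X (cokernel φ) := b2
  unfold Curv2.deg
  rw [show Curv2.euler k X' ((Scheme.Modules.pullback f).obj E) = _ from c1, c2, ← c3, a2', a1', b2', b1', vK, vC]
  ring

end Groth.Agent.S1666
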