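import Groth.Statements.S16667
import Groth.Agent.CommAlgDim.Depth
import Mathlib.RingTheory.Localization.FractionRing
import Mathlib.RingTheory.Localization.AtPrime.Basic

set_option autoImplicit false
universe u
open CAlg
open scoped Pointwise

namespace Groth.Agent.S16667

/-- Let A be a Noetherian integral domain satisfying Serre's condition (S_2), with fraction field K. An
element of K which lies in the localization A_p for every prime p of A with depth(A_p) = 1 lies in
A. -/
theorem result {A : Type u} [CommRing A] [IsDomain A]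
    [IsNoetherianRing A] (hS2 : LocCoh.HasSk 2 A A) (x : FractionRing A)
    (hx : ∀ (p : Ideal A) [p.IsPrime],
      LocCoh.depth (Localization.AtPrime p) (Localization.AtPrime p) = 1 →
        x ∈ Set.range (algebraMap (Localization.AtPrime p) (FractionRing A))) :
    x ∈ Set.range (algebraMap A (FractionRing A)) := by
  classical
  obtain ⟨a, b, hb, rfl⟩ := IsFractionRing.div_surjective (A := A) x
  have hb0 : b ≠ 0 := nonZeroDivisors.ne_zero hb
  set B := Ideal.span {b}
  by_cases hab : a ∈ B
  · obtain ⟨c, rfl⟩ := Ideal.mem_span_singleton'.1 hab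
    refine ⟨c, ?_⟩
    rw [map_mul, mul_div_assoc, div_self, mul_one]
    rw [Ne, IsFractionRing.to_map_eq_zero_iff]; exact hb0
  exfalso
  obtain ⟨p, hp, hle⟩ := exists_le_isAssociatedPrime_of_isNoetherianRing (R := A)
    (Ideal.Quotient.mk B a) (fun h => hab (Ideal.Quotient.eq_zero_iff_mem.1 h))
  rw [isAssociatedPrime_iff] at hp
  obtain ⟨hpp, w, hw⟩ := hp
  obtain ⟨c, rfl⟩ := Ideal.Quotient.mk_surjective w
  have hmem : ∀ t, t ∈ p ↔ t * c ∈ B := fun t => by
    rw [hw, Submodule.mem_colon_singleton, Submodule.mem_bot, Algebra.smul_def,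
      Ideal.Quotient.algebraMap_eq, ← map_mul, Ideal.Quotient.eq_zero_iff_mem]
  let R := Localization.AtPrime p
  let β : R := algebraMap A R b
  have hβm : β ∈ IsLocalRing.maximalIdeal R := by
    rw [IsLocalization.AtPrime.to_map_mem_maximal_iff R p, hmem]
    exact Ideal.mul_mem_right _ _ (Ideal.mem_span_singleton_self b)
  have hβ0 : β ≠ 0 := by
    rw [Ne, IsLocalization.to_map_eq_zero_iff R p.primeCompl_le_nonZeroDivisors]; exact hb0
  have hreg : IsSMulRegular R β := fun u v huv => mul_left_cancel₀ hβ0 huv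
  have hy : ∀ t, t ∈ IsLocalRing.maximalIdeal R → t * algebraMap A R c ∈ Ideal.span {β} := by
    intro t ht
    obtain ⟨⟨u, s⟩, rfl⟩ := IsLocalization.mk'_surjective p.primeCompl t
    dsimp only at *
    rw [IsLocalization.AtPrime.mk'_mem_maximal_iff R p, hmem] at ht
    obtain ⟨r, hr⟩ := Ideal.mem_span_singleton'.1 ht
    refine Ideal.mem_span_singleton'.2 ⟨IsLocalization.mk' R r s, ?_⟩
    rw [IsLocalization.mk'_eq_mul_mk'_one, IsLocalization.mk'_eq_mul_mk'_one u s]
    calc algebraMap A R r * IsLocalization.mk' R 1 s * β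
        = algebraMap A R (r * b) * IsLocalization.mk' R 1 s := by rw [map_mul]; ring
      _ = _ := by rw [hr, map_mul]; ring
  have hy0 : algebraMap A R c ∉ Ideal.span {β} := by
    intro h
    obtain ⟨t, ht⟩ := Ideal.mem_span_singleton'.1 h
    obtain ⟨⟨u, s⟩, rfl⟩ := IsLocalization.mk'_surjective p.primeCompl t
    dsimp only at *
    have h2 : algebraMap A R (u * b) = algebraMap A R (c * s) := by
      rw [map_mul, map_mul, ← IsLocalization.mk'_spec R u s, ← ht]; ring
    have h3 : (s : A) ∈ p := by
      rw [hmem, mul_comm, ← IsLocalization.injective R p.primeCompl_le_nonZeroDivisors h2]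
      exact Ideal.mul_mem_left _ _ (Ideal.mem_span_singleton_self b)
    exact s.2 h3
  have hdepth : LocCoh.depth R R = 1 := by
    refine le_antisymm ?_ ?_
    · by_contra hcon
      have h2 : (2 : ℕ∞) ≤ LocCoh.depth R R := by
        rw [not_le] at hcon
        exact Order.add_one_le_of_lt hcon
      obtain ⟨rs, hl, hm, hr⟩ := ((CommAlgDim.le_depth_iff (R := R) (M := R) 2).1 h2).quotSMulTop hβm hreg
      obtain ⟨z, rfl⟩ := List.length_eq_one_iff.1 hl
      rw [RingTheory.Sequence.isWeaklyRegular_singleton_iff] at hr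
      obtain ⟨q, hq⟩ := Ideal.mem_span_singleton'.1 (hy z (hm z (List.mem_singleton_self z)))
      let π := (β • (⊤ : Submodule R R)).mkQ
      have h0 : z • π (algebraMap A R c) = 0 := by
        rw [← map_smul, Submodule.mkQ_apply, Submodule.Quotient.mk_eq_zero, smul_eq_mul, ← hq]
        exact (Submodule.mem_smul_pointwise_iff_exists _ _ _).2 ⟨q, trivial, by rw [smul_eq_mul, mul_comm]⟩
      have h1 : π (algebraMap A R c) = 0 := hr (h0.trans (smul_zero z).symm)
      rw [Submodule.mkQ_apply, Submodule.Quotient.mk_eq_zero] at h1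
      obtain ⟨q', -, hq'⟩ := (Submodule.mem_smul_pointwise_iff_exists _ _ _).1 h1
      exact hy0 (Ideal.mem_span_singleton'.2 ⟨q', by rw [← hq', smul_eq_mul, mul_comm]⟩)
    · exact (CommAlgDim.le_depth_iff (R := R) (M := R) 1).2
        (CommAlgDim.hasSeqIn_succ_of_cons hβm hreg (CommAlgDim.hasSeqIn_zero _))
  obtain ⟨t, ht⟩ := hx p hdepth
  obtain ⟨⟨u, s⟩, rfl⟩ := IsLocalization.mk'_surjective p.primeCompl t
  dsimp only at *
  have h2 : algebraMap A (FractionRing A) (u * b) = algebraMap A (FractionRing A) (s * a) := by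
    have h3 : algebraMap R (FractionRing A) (IsLocalization.mk' R u s) * algebraMap A (FractionRing A) s =
        algebraMap A (FractionRing A) u := by
      rw [IsScalarTower.algebraMap_apply A R (FractionRing A) s, ← map_mul, IsLocalization.mk'_spec,
        ← IsScalarTower.algebraMap_apply]
    rw [map_mul, map_mul, ← h3, ht]
    field_simp [(map_ne_zero_iff _ (IsFractionRing.injective A (FractionRing A))).2 hb0]
  refine s.2 (hle ?_)
  rw [Submodule.mem_colon_singleton, Submodule.mem_bot, Algebra.smul_def, Ideal.Quotient.algebraMap_eq,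
    ← map_mul, Ideal.Quotient.eq_zero_iff_mem, ← IsFractionRing.injective A (FractionRing A) h2]
  exact Ideal.mul_mem_left _ _ (Ideal.mem_span_singleton_self b)

end Groth.Agent.S16667
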