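import Groth.Statements.S16671
import Groth.Agent.LMLib.Dual
import Groth.Agent.PnDualLib.Hom
import Groth.Agent.HomCohLib.Coh
import Groth.Agent.Formal2VBLib.Sections
import Groth.Agent.MiscFlat6.TensorGG
import Groth.Agent.VBResLib.GGen
import Groth.Agent.CohCmpLib.HomLift
import Groth.Agent.S1688
import Groth.Agent.AmpleThLib.Pow
import Groth.Agent.CycK0Lib.Sigma
-- import your own Groth.Agent.* helpers here

set_option autoImplicit false
set_option maxHeartbeats 1000000
set_option backward.isDefEq.respectTransparency false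
set_option backward.isDefEq.respectTransparency.types false
universe u
open CategoryTheory CategoryTheory.Limits AlgebraicGeometry
open Coh

namespace Groth.Agent.S16671

noncomputable section

open DevissLib (St)

/-- If dual functionals of a sub cover, the quotient is torsionless. -/
theorem mem_range_of_dual {R E F : Type u} [CommRing R] [AddCommGroup E] [Module R E] [AddCommGroup F] [Module R F]
    [Module.Free R F] [Module.IsReflexive R E] (i : E →ₗ[R] F) (hi : Function.Surjective i.dualMap)
    {w : F} (hw : ∀ φ : Module.Dual R F, φ.comp i = 0 → φ w = 0) : w ∈ LinearMap.range i := by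
  obtain ⟨θ, hθ⟩ := RefHullLib.exists_lift i.dualMap hi (Module.Dual.eval R F w) fun φ hφ => hw φ hφ
  obtain ⟨e, rfl⟩ := (Module.bijective_dual_eval R E).2 θ
  refine ⟨e, Module.eval_apply_injective R (V := F) (LinearMap.ext fun φ => ?_)⟩
  exact hθ φ

/-- A sub with free dual and surjective restriction of functionals is a direct summand. -/
theorem exists_retraction {R E F : Type u} [CommRing R] [AddCommGroup E] [Module R E] [AddCommGroup F] [Module R F]
    [Module.IsReflexive R E] [Module.Projective R (Module.Dual R E)] (i : E →ₗ[R] F)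
    (hi : Function.Surjective i.dualMap) : ∃ ρ : F →ₗ[R] E, ρ.comp i = LinearMap.id := by
  obtain ⟨σ, hσ⟩ := Module.projective_lifting_property i.dualMap LinearMap.id hi
  refine ⟨(Module.evalEquiv R E).symm.toLinearMap.comp (σ.dualMap.comp (Module.Dual.eval R F)),
    LinearMap.ext fun e => ?_⟩
  change (Module.evalEquiv R E).symm (σ.dualMap (Module.Dual.eval R F (i e))) = e
  rw [LinearEquiv.symm_apply_eq]
  refine LinearMap.ext fun φ => ?_
  exact LinearMap.congr_fun (LinearMap.congr_fun hσ φ) e

section Sheaf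

variable {X : Scheme.{u}}

/-- A finite sum of copies of a coherent module is coherent. -/
theorem isCoh_sum [IsLocallyNoetherian X] {r : ℕ} {P : X.Modules} (hP : Coh.IsCoh P) :
    Coh.IsCoh (∐ fun _ : Fin r => P) :=
  QCohLib.isCoh_of_iso (Sigma.whiskerEquiv (f := fun _ : ULift.{u} (Fin r) => P) (g := fun _ : Fin r => P)
      Equiv.ulift fun _ => Iso.refl P)
    (CycK0Lib.isCoh_sigma (locallyFinite_of_finite _) fun _ => hP)

/-- Coproduct projections. -/
def prj {r : ℕ} (P : X.Modules) (i : Fin r) : (∐ fun _ : Fin r => P) ⟶ P :=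
  Sigma.desc fun j => if j = i then 𝟙 P else 0

theorem ι_prj {r : ℕ} (P : X.Modules) (i j : Fin r) :
    Sigma.ι (fun _ : Fin r => P) j ≫ prj P i = if j = i then 𝟙 P else 0 := Sigma.ι_desc _ _

theorem sum_prj {r : ℕ} (P : X.Modules) :
    ∑ i : Fin r, prj P i ≫ Sigma.ι (fun _ : Fin r => P) i = 𝟙 _ :=
  Sigma.hom_ext _ _ fun j => by
    rw [Preadditive.comp_sum, Category.comp_id, Finset.sum_eq_single j]
    · rw [← Category.assoc, ι_prj, if_pos rfl, Category.id_comp]
    · intro i _ hij
      rw [← Category.assoc, ι_prj, if_neg (Ne.symm hij), zero_comp]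
    · intro h; exact absurd (Finset.mem_univ j) h

theorem St_sum {ι : Type*} [Fintype ι] {A B : X.Modules} (f : ι → (A ⟶ B)) (x : X) (v : (St x).obj A) :
    ((St x).map (∑ i, f i)).hom v = ∑ i, ((St x).map (f i)).hom v := by
  rw [Functor.map_sum, ModuleCat.hom_sum, LinearMap.sum_apply]

theorem decomp {r : ℕ} (P : X.Modules) (x : X) (w : (St x).obj (∐ fun _ : Fin r => P)) :
    w = ∑ i : Fin r, ((St x).map (Sigma.ι (fun _ : Fin r => P) i)).hom (((St x).map (prj P i)).hom w) := by
  have h := congrArg (fun f => ((St x).map f).hom w) (sum_prj (r := r) P)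
  simp only [St_sum] at h
  rw [CategoryTheory.Functor.map_id] at h
  simp only [Functor.map_comp] at h
  exact h.symm

/-- The stalk of a finite sum of copies. -/
def stPi {r : ℕ} (P : X.Modules) (x : X) :
    (St x).obj (∐ fun _ : Fin r => P) ≃ₗ[X.presheaf.stalk x] (Fin r → (St x).obj P) where
  toFun w i := ((St x).map (prj P i)).hom w
  map_add' a b := funext fun i => map_add _ a b
  map_smul' c a := funext fun i => map_smul _ c a
  invFun v := ∑ i, ((St x).map (Sigma.ι (fun _ : Fin r => P) i)).hom (v i)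
  left_inv w := (decomp P x w).symm
  right_inv v := funext fun i => by
    dsimp only
    rw [map_sum, Finset.sum_eq_single i]
    · rw [← ModuleCat.comp_apply, ← Functor.map_comp, ι_prj, if_pos rfl, CategoryTheory.Functor.map_id,
        ModuleCat.id_apply]
    · intro j _ hji
      rw [← ModuleCat.comp_apply, ← Functor.map_comp, ι_prj, if_neg hji, Functor.map_zero]
      rfl
    · intro h; exact absurd (Finset.mem_univ i) h

open CohCmpLib (homMod evMod evS hVal stk) in
open ProjFormLib (ger ger_res ger_map exists_ger) in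
/-- Sections of a twist of the dual give enough maps into the ample powers. -/
theorem exists_maps [IsLocallyNoetherian X] {L : X.Modules} (hL : CohB1.IsAmple L) (G : X.Modules)
    (hG : Coh.IsCoh G) :
    ∃ (q r : ℕ) (a : Fin r → (G ⟶ CohB1.tensorPow L q)), 1 ≤ r ∧
      ∀ (x : X) (d : Module.Dual (X.presheaf.stalk x) (G.presheaf.stalk x)),
        ∃ (γ : (St x).obj (CohB1.tensorPow L q) →ₗ[X.presheaf.stalk x] X.presheaf.stalk x)
          (c : Fin r → X.presheaf.stalk x),
          ∀ v : (St x).obj G, d v = ∑ i, c i * γ (((St x).map (a i)).hom v) := by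
  haveI : CompactSpace X := hL.2.1
  let O := Coh.structureModule X
  let D := homMod G O
  have hD : Coh.IsCoh D := HomCohLib.isCoh_homMod hG (DevissLib.isCoh_structureModule X)
  obtain ⟨q, hq⟩ := MiscFlat6.eventually_gg_of_isAmple hL D hD
  let P := CohB1.tensorPow L q
  have hP : PicF.IsInvertible P := AmpleThLib.tensorPow_isInvertible hL.1 q
  obtain ⟨m, π, hπ⟩ := VBResLib.exists_epi_free_of_gg
    (F := CohB1.tensorMod D P) (SerreVanLib.isCoh_tensor hD hP) (hq q le_rfl)
  let π' : FlatMod.freeMod X m ⟶ KFlatLib.tens P D := π ≫ (HilbPolyLib.swapIso D P).hom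
  haveI : Epi π' := epi_comp _ _
  let eQ : KFlatLib.tens P O ≅ P := HilbPolyLib.swapIso P O ≪≫ HilbPolyLib.unitLeft P
  let one : Γ(O, (⊤ : X.Opens)) := (1 : Γ(X, ⊤))
  let s : Fin m → Γ(KFlatLib.tens P D, (⊤ : X.Opens)) := fun i =>
    (Sigma.ι (fun _ : Fin m => O) i ≫ π').app ⊤ one
  let b : Fin m → (G ⟶ P) := fun i => Formal2VBLib.sh ((PnDualLib.twHom P G O).app ⊤ (s i)) ≫ eQ.hom
  let a : Fin (m + 1) → (G ⟶ P) := Fin.cons 0 b
  refine ⟨q, m + 1, a, by omega, fun x d => ?_⟩
  -- a generator of the twist at `x`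
  obtain ⟨U, e, hxU, he⟩ := TwistLib.exists_genOn hP x
  let g : stk P x := ger P x hxU e
  have hg : Function.Bijective fun c : X.presheaf.stalk x => c • g := he.genAt hxU
  obtain ⟨u⟩ := RefHullLib.nonempty_stalk_unit X x
  -- the functional as a germ of the dual
  obtain ⟨hd, hhd⟩ : ∃ h : stk D x, evS (evMod G O) x h = u.toLinearMap.comp d := by
    obtain ⟨θ, hθ⟩ := RefHullLib.evalStalk_surjective (G := O) (QCohLib.isFP_of_isCoh G hG) x
      (u.toLinearMap.comp d)
    obtain ⟨V, hV, g', rfl⟩ := TopCat.Presheaf.exists_germ_eq (RefHull.homSh G O).presheaf (x := x) θ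
    refine ⟨ger D x hV ((LMLib.homShIso G O).hom.app V g'), ?_⟩
    rw [CohCmpLib.evS_evMod]
    exact (RefHull.evalAdd_germ G O x hV g').symm.trans hθ
  let τ := ((St x).map (PnDualLib.twHom P G O)).hom
  have key : ∀ h : stk D x, evS (evMod G (KFlatLib.tens P O)) x (τ (PnDualLib.ins P D x g h)) =
      (PnDualLib.ins P O x g).comp (evS (evMod G O) x h) := by
    intro h
    obtain ⟨V, hV, h, rfl⟩ := exists_ger _ x h
    have hW : x ∈ U ⊓ V := ⟨hxU, hV⟩
    have e1 : g = ger P x hW (AmpleLib.res P inf_le_left e) := (ger_res P inf_le_left x hW e).symm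
    rw [e1, ← ger_res D (inf_le_right : U ⊓ V ≤ V) x hW h, PnDualLib.ins_ger, CohCmpLib.evS_evMod,
      show τ (ger (KFlatLib.tens P D) x hW _) = _ from ger_map (PnDualLib.twHom P G O) x hW _,
      CohCmpLib.evS_evMod, PnDualLib.hVal_twHom]
  -- the germs of the sections generate
  obtain ⟨c, hc⟩ : ∃ c : Fin m → X.presheaf.stalk x,
      PnDualLib.ins P D x g hd = ∑ i, c i • ger (KFlatLib.tens P D) x (U := ⊤) trivial (s i) := by
    obtain ⟨w, hw⟩ := (ModuleCat.epi_iff_surjective ((St x).map π')).1 inferInstance (PnDualLib.ins P D x g hd)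
    have hO : ∀ z : (St x).obj O, ∃ c : X.presheaf.stalk x, z = c • ger O x (U := ⊤) trivial one := fun z => by
      obtain ⟨V, hV, z, rfl⟩ := exists_ger O x z
      refine ⟨X.presheaf.germ V x hV z, ?_⟩
      rw [← ger_res O (le_top : V ≤ ⊤) x hV one]
      refine Eq.trans ?_ (Mero.germ_smul O V x hV _ _)
      refine congrArg _ ?_
      change (show Γ(X, V) from z) = (show Γ(X, V) from z) * X.presheaf.map (homOfLE (le_top : V ≤ ⊤)).op 1
      rw [map_one, mul_one]
    choose c hc using fun i => hO (((St x).map (prj O i)).hom w)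
    refine ⟨c, hw.symm.trans ((congrArg ((St x).map π').hom (decomp O x w)).trans ?_)⟩
    rw [map_sum]
    refine Finset.sum_congr rfl fun i _ => ?_
    rw [hc i, map_smul, map_smul]
    exact congrArg (c i • ·) ((congrArg ((St x).map π').hom (ger_map (Sigma.ι (fun _ : Fin m => O) i) x (U := ⊤) trivial one)).trans
      (ger_map π' x (U := ⊤) trivial _))
  have hb : ∀ v : (St x).obj G, ((St x).map eQ.hom).hom (PnDualLib.ins P O x g (u (d v))) =
      ∑ i, c i • ((St x).map (b i)).hom v := by
    intro v
    have h1 : PnDualLib.ins P O x g (u (d v)) =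
        evS (evMod G (KFlatLib.tens P O)) x (τ (PnDualLib.ins P D x g hd)) v := by
      rw [key, hhd]; rfl
    rw [h1, hc, map_sum, map_sum, LinearMap.sum_apply, map_sum]
    refine Finset.sum_congr rfl fun i _ => ?_
    rw [map_smul, map_smul, LinearMap.smul_apply, map_smul]
    refine congrArg (c i • ·) ?_
    rw [show τ (ger (KFlatLib.tens P D) x (U := ⊤) trivial (s i)) = _ from ger_map (PnDualLib.twHom P G O) x (U := ⊤) trivial _,
      CohCmpLib.evS_evMod, ← Formal2VBLib.stalk_sh, Functor.map_comp, ModuleCat.comp_apply]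
  let β : X.presheaf.stalk x →ₗ[X.presheaf.stalk x] (St x).obj P :=
    (((St x).map eQ.hom).hom.comp (PnDualLib.ins P O x g)).comp u.toLinearMap
  have hβ : Function.Bijective β :=
    ((ConcreteCategory.isIso_iff_bijective ((St x).map eQ.hom)).1 inferInstance).comp
      ((PnDualLib.bijective_ins P O x g hg).comp u.bijective)
  let γ := (LinearEquiv.ofBijective β hβ).symm
  refine ⟨γ.toLinearMap, Fin.cons 0 c, fun v => ?_⟩
  rw [Fin.sum_univ_succ, Fin.cons_zero, zero_mul, zero_add]
  simp only [Fin.cons_succ, a]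
  refine (((LinearEquiv.ofBijective β hβ).symm_apply_apply (d v)).symm.trans (congrArg γ (hb v))).trans ?_
  rw [map_sum]
  exact Finset.sum_congr rfl fun i _ => map_smul γ _ _

/-- The map into the sum of the powers, surjective on functionals. -/
theorem exists_embedding [IsLocallyNoetherian X] {L : X.Modules} (hL : CohB1.IsAmple L) (G : X.Modules)
    (hG : Coh.IsCoh G)
    (hinj : ∀ x : X, Function.Injective (Module.Dual.eval (X.presheaf.stalk x) (G.presheaf.stalk x))) :
    ∃ (q r : ℕ) (ι : G ⟶ ∐ fun _ : Fin r => CohB1.tensorPow L q), 1 ≤ r ∧ Mono ι ∧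
      ∀ x : X, Function.Surjective ((St x).map ι).hom.dualMap := by
  obtain ⟨q, r, a, hr, ha⟩ := exists_maps hL G hG
  let P := CohB1.tensorPow L q
  let ι := ∑ i, a i ≫ Sigma.ι (fun _ : Fin r => P) i
  have hprj : ∀ i, ι ≫ prj P i = a i := fun i => by
    rw [Preadditive.sum_comp, Finset.sum_eq_single i]
    · rw [Category.assoc, ι_prj, if_pos rfl, Category.comp_id]
    · intro j _ hji
      rw [Category.assoc, ι_prj, if_neg hji, comp_zero]
    · intro h; exact absurd (Finset.mem_univ i) h
  have hsurj : ∀ x : X, Function.Surjective ((St x).map ι).hom.dualMap := by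
    intro x d
    obtain ⟨γ, c, hd⟩ := ha x d
    refine ⟨∑ i, c i • γ.comp ((St x).map (prj P i)).hom, LinearMap.ext fun v => ?_⟩
    rw [LinearMap.dualMap_apply, LinearMap.sum_apply]
    refine Eq.trans ?_ (hd v).symm
    refine Finset.sum_congr rfl fun i _ => ?_
    rw [LinearMap.smul_apply, LinearMap.comp_apply, ← ModuleCat.comp_apply, ← Functor.map_comp, hprj, smul_eq_mul]
  refine ⟨q, r, ι, hr, CohCmpLib.mono_of_stalk_injective fun x => (injective_iff_map_eq_zero _).2 fun v hv => ?_,
    hsurj⟩
  refine (injective_iff_map_eq_zero _).1 (hinj x) v (LinearMap.ext fun d => ?_)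
  obtain ⟨φ, rfl⟩ := hsurj x d
  change φ (((St x).map ι).hom v) = 0
  rw [hv, map_zero]

end Sheaf

/-- Let k be a field, X an integral scheme locally of finite type over k carrying an ample invertible
module L, and E a coherent O_X-module all of whose stalks are reflexive. Then there are natural
numbers q, q', integers r, r' ≥ 1 and a coherent O_X-module E' with a short exact sequence 0 → E →
(L^q)^r → E' → 0 (tensor powers of L, direct sums of copies) and a monomorphism E' → (L^q')^r'; and
E' is finite locally free whenever E is. (In the published statement X is an integral locally closed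
subscheme of P^N_k, the sums are restrictions of O(m)^r with m any integer, and E is reflexive
coherent.) -/
theorem result (k : Type u) [Field k] (X : Scheme.{u})
    (f : X ⟶ Spec (CommRingCat.of k)) [LocallyOfFiniteType f] [IsIntegral X]
    (L : X.Modules) (hL : CohB1.IsAmple L) (E : X.Modules) (hE : Coh.IsCoh E)
    (hEr : ∀ x : X, Module.IsReflexive (X.presheaf.stalk x) (E.presheaf.stalk x)) :
    ∃ (q r q' r' : ℕ) (E' : X.Modules) (ι : E ⟶ ∐ fun _ : Fin r => CohB1.tensorPow L q)
      (π : (∐ fun _ : Fin r => CohB1.tensorPow L q) ⟶ E') (w : ι ≫ π = 0)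
      (ι' : E' ⟶ ∐ fun _ : Fin r' => CohB1.tensorPow L q'),
      1 ≤ r ∧ 1 ≤ r' ∧ (ShortComplex.mk ι π w).ShortExact ∧ Mono ι' ∧ Coh.IsCoh E' ∧
        (FlatMod.IsFinLocFree E → FlatMod.IsFinLocFree E') := by
  haveI : IsLocallyNoetherian X := LocallyOfFiniteType.isLocallyNoetherian f
  obtain ⟨q, r, ι, hr, hι, hsurj⟩ := exists_embedding hL E hE
    fun x => ((hEr x).bijective_dual_eval').1
  haveI := hι
  let P := CohB1.tensorPow L q
  have hP : PicF.IsInvertible P := AmpleThLib.tensorPow_isInvertible hL.1 q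
  let S : ShortComplex X.Modules := ShortComplex.mk ι (cokernel.π ι) (cokernel.condition ι)
  have hS : S.ShortExact :=
    { exact := ShortComplex.exact_of_g_is_cokernel _ (cokernelIsCokernel ι)
      mono_f := inferInstanceAs (Mono ι)
      epi_g := inferInstanceAs (Epi (cokernel.π ι)) }
  have hF : Coh.IsCoh (∐ fun _ : Fin r => P) := isCoh_sum (CurvLib.isCoh_of_isInvertible hP)
  have hE' : Coh.IsCoh (cokernel ι) := QCohLib.isCoh_cokernel ι hE.1 hF
  have hPx : ∀ x : X, Nonempty ((St x).obj P ≃ₗ[X.presheaf.stalk x] X.presheaf.stalk x) := fun x => by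
    obtain ⟨U, e, hxU, he⟩ := TwistLib.exists_genOn hP x
    exact ⟨(LinearEquiv.ofBijective (LinearMap.toSpanSingleton _ _
      (ProjFormLib.ger P x hxU e : (St x).obj P)) (he.genAt hxU)).symm⟩
  have hfree : ∀ x : X, Module.Free (X.presheaf.stalk x) ((St x).obj (∐ fun _ : Fin r => P)) ∧
      Module.Finite (X.presheaf.stalk x) ((St x).obj (∐ fun _ : Fin r => P)) := fun x => by
    obtain ⟨e⟩ := hPx x
    let e' := (stPi (r := r) P x).trans (LinearEquiv.piCongrRight fun _ => e)
    exact ⟨Module.Free.of_equiv e'.symm, Module.Finite.equiv e'.symm⟩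
  have hex : ∀ x : X, (S.map (St x)).ShortExact := fun x => hS.map_of_exact (St x)
  have hπsurj : ∀ x : X, Function.Surjective ((St x).map (cokernel.π ι)).hom := fun x =>
    (ModuleCat.epi_iff_surjective _).1 (hex x).epi_g
  have hinj' : ∀ x : X, Function.Injective
      (Module.Dual.eval (X.presheaf.stalk x) ((cokernel ι).presheaf.stalk x)) := fun x => by
    refine (injective_iff_map_eq_zero _).2 fun z hz => ?_
    obtain ⟨w, rfl⟩ := hπsurj x z
    haveI : Module.IsReflexive (X.presheaf.stalk x) ((St x).obj E) := hEr x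
    haveI := (hfree x).1
    obtain ⟨e, he⟩ := mem_range_of_dual _ (hsurj x) (w := w) fun φ hφ => by
      obtain ⟨φ', hφ'⟩ := RefHullLib.exists_lift _ (hπsurj x) φ fun v hv => by
        obtain ⟨v', rfl⟩ := (ShortComplex.moduleCat_exact_iff _).1 (hex x).exact v hv
        exact LinearMap.congr_fun hφ v'
      exact (hφ' w).symm.trans (LinearMap.congr_fun hz φ')
    rw [← he]
    exact congrArg (fun f => f.hom e) ((S.map (St x)).zero)
  obtain ⟨q', r', ι', hr', hι', -⟩ := exists_embedding hL (cokernel ι) hE' hinj'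
  refine ⟨q, r, q', r', cokernel ι, ι, cokernel.π ι, cokernel.condition ι, ι', hr, hr', hS, hι', hE', fun hlf => ?_⟩
  refine Groth.Agent.S1688.isFinLocFree_of_isFP_of_flat (QCohLib.isFP_of_isCoh _ hE') fun x => ?_
  haveI : Module.IsReflexive (X.presheaf.stalk x) ((St x).obj E) := hEr x
  obtain ⟨U, n, hxU, ⟨eU⟩⟩ := hlf x
  obtain ⟨φ⟩ := CurveVBLib.nonempty_stalk_pi_on (n := n) eU hxU
  haveI : Module.Free (X.presheaf.stalk x) ((St x).obj E) := Module.Free.of_equiv φ.symm
  haveI : Module.Finite (X.presheaf.stalk x) ((St x).obj E) := Module.Finite.equiv φ.symm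
  obtain ⟨ρ, hρ⟩ := exists_retraction _ (hsurj x)
  haveI := (hfree x).1
  let i := ((St x).map ι).hom
  let p := ((St x).map (cokernel.π ι)).hom
  obtain ⟨σ, hσ⟩ := RefHullLib.exists_lift p (hπsurj x) (LinearMap.id - i.comp ρ) fun v hv => by
    obtain ⟨v', rfl⟩ := (ShortComplex.moduleCat_exact_iff _).1 (hex x).exact v hv
    change i v' - i (ρ (i v')) = 0
    rw [show ρ (i v') = v' from LinearMap.congr_fun hρ v', sub_self]
  refine Module.Flat.of_retract σ p (LinearMap.ext fun z => ?_)
  obtain ⟨w, rfl⟩ := hπsurj x z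
  change p (σ (p w)) = p w
  rw [hσ]
  change p (w - i (ρ w)) = p w
  rw [map_sub, sub_eq_self]
  exact congrArg (fun f => f.hom (ρ w)) ((S.map (St x)).zero)

end

end Groth.Agent.S16671
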