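import Groth.Statements.S16673
import Groth.Agent.AVAmpleLib.DegDet
import Groth.Agent.AVAmpleLib.BcDeg

set_option autoImplicit false
universe u
open CategoryTheory CategoryTheory.Limits MonoidalCategory CartesianMonoidalCategory MonObj GrpObj AlgebraicGeometry
set_option linter.style.haveILetI false
set_option backward.isDefEq.respectTransparency false
open AbVar

namespace Groth.Agent.S16673

/-- Let k be a field of characteristic p > 0 with an algebraic closure k̄, let X and Y be abelian
varieties over k (proper, geometrically integral, commutative k-group schemes) and let h : X → Y be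
a homomorphism which is finite and surjective (an isogeny). If i and j are natural numbers such that
for every m ≥ 0 the group X[p^m](k̄) of k̄-valued points of X killed by p^m (k̄-valued points being
the k-morphisms Spec k̄ → X, a group under the group law of X) is isomorphic to (ℤ/p^m)^i and the
group Y[p^m](k̄) is isomorphic to (ℤ/p^m)^j (groups of points written multiplicatively), then i = j:
the p-rank is an isogeny invariant. -/
theorem result (k : Type u) [Field k] (p : ℕ) [Fact p.Prime] [CharP k p]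
    (X Y : Over (Spec (CommRingCat.of k)))
    [GrpObj X] [IsCommMonObj X] [IsProper X.hom] [GeometricallyIntegral X.hom]
    [GrpObj Y] [IsCommMonObj Y] [IsProper Y.hom] [GeometricallyIntegral Y.hom]
    (h : X ⟶ Y) [IsMonHom h] [IsFinite h.left] [Surjective h.left]
    (i j : ℕ)
    (hi : ∀ m : ℕ, Nonempty (AbDual.torsPts X (p ^ m)
      (Over.mk (Spec.map (CommRingCat.ofHom (algebraMap k (AlgebraicClosure k))))) ≃*
      Multiplicative (Fin i → ZMod (p ^ m))))
    (hj : ∀ m : ℕ, Nonempty (AbDual.torsPts Y (p ^ m)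
      (Over.mk (Spec.map (CommRingCat.ofHom (algebraMap k (AlgebraicClosure k))))) ≃*
      Multiplicative (Fin j → ZMod (p ^ m)))) :
    i = j := by
  let Ω := AlgebraicClosure k
  letI : GrpObj ((AVAmpleLib.bcF Ω).obj X) := AVAmpleLib.grpBc Ω X
  letI : GrpObj ((AVAmpleLib.bcF Ω).obj Y) := AVAmpleLib.grpBc Ω Y
  haveI : IsCommMonObj ((AVAmpleLib.bcF Ω).obj X) := AVAmpleLib.commBc Ω X
  haveI : IsCommMonObj ((AVAmpleLib.bcF Ω).obj Y) := AVAmpleLib.commBc Ω Y
  haveI := AVAmpleLib.proper_bc Ω X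
  haveI := AVAmpleLib.proper_bc Ω Y
  haveI := AVAmpleLib.gi_bc Ω X
  haveI := AVAmpleLib.gi_bc Ω Y
  haveI : IsFinite ((AVAmpleLib.bcF Ω).map h).left := (AVAmpleLib.isFinite_bc_iff Ω h).2 inferInstance
  haveI : IsMonHom ((AVAmpleLib.bcF Ω).map h) :=
    inferInstanceAs (IsMonHom ((Over.pullback (Spec.map (CommRingCat.ofHom (algebraMap k Ω)))).map h))
  haveI : Surjective ((AVAmpleLib.bcF Ω).map h).left :=
    MorphismProperty.of_isPullback (AVAmpleLib.isPullback_bc Ω h) (inferInstance : Surjective h.left)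
  let f : (SGA7.pt (K := k) Ω ⟶ X) →* (SGA7.pt (K := k) Ω ⟶ Y) :=
    MonoidHom.mk' (fun a => a ≫ h) fun a b => MonObj.mul_comp a b h
  have hsurj : Function.Surjective f := by
    intro b
    let z := AVAmpleLib.bcPt Ω b
    have hcl : IsClosed (((AVAmpleLib.bcF Ω).map h).left.base ⁻¹' {AVRigidLib.pt z}) :=
      (AVRigidLib.isClosed_pt z).preimage (Scheme.Hom.continuous _)
    haveI : JacobsonSpace ↥((AVAmpleLib.bcF Ω).obj X).left :=
      LocallyOfFiniteType.jacobsonSpace ((AVAmpleLib.bcF Ω).obj X).hom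
    obtain ⟨x, hx, hxc⟩ : ((((AVAmpleLib.bcF Ω).map h).left.base ⁻¹' {AVRigidLib.pt z}) ∩
        closedPoints ↥((AVAmpleLib.bcF Ω).obj X).left).Nonempty :=
      nonempty_inter_closedPoints (((AVAmpleLib.bcF Ω).map h).left.surjective _) hcl.isLocallyClosed
    obtain ⟨a, ha⟩ := AVRigidLib.exists_pt (mem_closedPoints_iff.1 hxc)
    obtain ⟨a₀, rfl⟩ := (AVAmpleLib.bcPt_bijective Ω).2 a
    refine ⟨a₀, (AVAmpleLib.bcPt_bijective Ω).1 ?_⟩
    show AVAmpleLib.bcPt Ω (a₀ ≫ h) = AVAmpleLib.bcPt Ω b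
    rw [AVAmpleLib.bcPt_comp]
    refine AVRigidLib.ext_pt ?_
    rw [AVRigidLib.pt_comp, ha]
    exact hx
  haveI : Finite f.ker := by
    haveI := AVAmpleLib.finite_ker_ptsMap ((AVAmpleLib.bcF Ω).map h)
    have hb1 : AVAmpleLib.bcPt Ω (1 : SGA7.pt (K := k) Ω ⟶ Y) = 1 := by
      have h2 := AVAmpleLib.bcPt_mul Ω (1 : SGA7.pt (K := k) Ω ⟶ Y) 1
      rw [_root_.mul_one] at h2
      exact mul_eq_left.1 h2.symm
    refine Finite.of_injective (fun a : f.ker => (⟨Additive.ofMul (AVAmpleLib.bcPt Ω a.1), ?_⟩ :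
        (AVAmpleLib.ptsMap ((AVAmpleLib.bcF Ω).map h)).ker)) ?_
    · show AVAmpleLib.bcPt Ω a.1 ≫ (AVAmpleLib.bcF Ω).map h = 1
      rw [← AVAmpleLib.bcPt_comp, show (a.1 : SGA7.pt (K := k) Ω ⟶ X) ≫ h = 1 from a.2, hb1]
    · intro a b hab
      exact Subtype.ext ((AVAmpleLib.bcPt_bijective Ω).1 (Additive.ofMul.injective (congrArg Subtype.val hab)))
  have hcardX : ∀ m, Nat.card (AbDual.torsPts X (p ^ m) (SGA7.pt (K := k) Ω)) = p ^ (m * i) := fun m => by
    obtain ⟨e⟩ := hi m
    rw [Nat.card_congr e.toEquiv, Nat.card_congr Multiplicative.toAdd, Nat.card_pi]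
    simp [pow_mul]
  have hcardY : ∀ m, Nat.card (AbDual.torsPts Y (p ^ m) (SGA7.pt (K := k) Ω)) = p ^ (m * j) := fun m => by
    obtain ⟨e⟩ := hj m
    rw [Nat.card_congr e.toEquiv, Nat.card_congr Multiplicative.toAdd, Nat.card_pi]
    simp [pow_mul]
  set C := Nat.card f.ker
  have hC : 0 < C := Nat.card_pos
  have hp := (Fact.out : p.Prime)
  have main : ∀ m, p ^ (m * i) ≤ C * p ^ (m * j) ∧ p ^ (m * j) ≤ C * p ^ (m * i) := by
    intro m
    let GX := AbDual.torsPts X (p ^ m) (SGA7.pt (K := k) Ω)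
    let GY := AbDual.torsPts Y (p ^ m) (SGA7.pt (K := k) Ω)
    haveI : Finite GX := Nat.finite_of_card_ne_zero (by rw [hcardX]; exact pow_ne_zero _ hp.ne_zero)
    haveI : Finite GY := Nat.finite_of_card_ne_zero (by rw [hcardY]; exact pow_ne_zero _ hp.ne_zero)
    rw [← hcardX m, ← hcardY m]
    constructor
    · let r : GX →* GY := (f.comp GX.subtype).codRestrict GY fun a => by
        show (f a.1) ^ (p ^ m) = 1
        rw [← map_pow, show (a.1) ^ (p ^ m) = 1 from a.2, map_one]
      have h2 : Nat.card r.ker ≤ C := Nat.card_le_card_of_injective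
        (fun a => (⟨a.1.1, congrArg Subtype.val (a.2 : r a.1 = 1)⟩ : f.ker))
        fun a b hab => Subtype.ext (Subtype.ext (congrArg Subtype.val hab :))
      rw [← Subgroup.index_mul_card r.ker, Subgroup.index_ker, mul_comm]
      exact Nat.mul_le_mul h2 (Subgroup.card_le_card_group r.range)
    · let S := GY.comap f
      let pw : S →* f.ker := ((powMonoidHom (p ^ m)).comp S.subtype).codRestrict f.ker fun a => by
        show f (a.1 ^ (p ^ m)) = 1
        rw [map_pow]
        exact a.2
      haveI : Finite pw.ker := Finite.of_injective (fun a => (⟨a.1.1, congrArg Subtype.val (a.2 : pw a.1 = 1)⟩ : GX))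
        fun a b hab => Subtype.ext (Subtype.ext (congrArg Subtype.val hab :))
      have h2 : Nat.card pw.ker ≤ Nat.card GX := Nat.card_le_card_of_injective
        (fun a => (⟨a.1.1, congrArg Subtype.val (a.2 : pw a.1 = 1)⟩ : GX))
        fun a b hab => Subtype.ext (Subtype.ext (congrArg Subtype.val hab :))
      have h3 : Nat.card S ≤ C * Nat.card GX := by
        rw [← Subgroup.index_mul_card pw.ker, Subgroup.index_ker]
        exact Nat.mul_le_mul (Subgroup.card_le_card_group pw.range) h2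
      haveI : Finite S := by
        refine Nat.finite_of_card_ne_zero ?_
        rw [← Subgroup.index_mul_card pw.ker, Subgroup.index_ker]
        exact Nat.mul_ne_zero Nat.card_pos.ne' Nat.card_pos.ne'
      refine (Nat.card_le_card_of_surjective (fun a : S => (⟨f a.1, a.2⟩ : GY)) fun b => ?_).trans h3
      obtain ⟨a, ha⟩ := hsurj b.1
      exact ⟨⟨a, show f a ∈ GY by rw [ha]; exact b.2⟩, Subtype.ext ha⟩
  have key : ∀ a b : ℕ, (∀ m, p ^ (m * a) ≤ C * p ^ (m * b)) → a ≤ b := by
    intro a b hab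
    by_contra hlt
    have h1 := (Nat.pow_le_pow_right hp.pos (Nat.mul_le_mul_left C (Nat.succ_le_of_lt (not_le.1 hlt)))).trans (hab C)
    rw [Nat.mul_succ, pow_add, mul_comm C] at h1
    exact absurd (Nat.le_of_mul_le_mul_left (by rwa [mul_comm C (p ^ _)] at h1) (pow_pos hp.pos _)) (not_le.2 (Nat.lt_pow_self hp.one_lt))
  exact le_antisymm (key i j fun m => (main m).1) (key j i fun m => (main m).2)

end Groth.Agent.S16673
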