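import Mathlib
import Groth.Statements.S16674
import Groth.Agent.EtaleRankLib.Basic
import Groth.Agent.S11930
-- import your own Groth.Agent.* helpers here

set_option autoImplicit false
universe u
open CartDual

namespace Groth.Agent.S16674

/-- Let k be a field of characteristic p > 0 and A a finite-dimensional commutative and cocommutative
Hopf algebra over k, the coordinate ring of a finite commutative k-group scheme G, with Cartier dual
the convolution Hopf algebra Hom_k(A, k). Then G is étale-étale, i.e. both A and its dual are étale
k-algebras, if and only if p does not divide the rank dim_k A of G. -/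
theorem result (k : Type u) [Field k] (p : ℕ) [Fact p.Prime] [CharP k p]
    (A : Type u) [CommRing A] [HopfAlgebra k A] [Coalgebra.IsCocomm k A] [FiniteDimensional k A] :
    (Algebra.Etale k A ∧ Algebra.Etale k (CartDual.D k A)) ↔ ¬ p ∣ Module.finrank k A := by
  have hfr : Module.finrank k (CartDual.D k A) = Module.finrank k A :=
    (LinearEquiv.finrank_eq (CartDual.toDual k A)).trans Subspace.dual_finrank_eq
  constructor
  · rintro ⟨hA, hD⟩ hdvd
    haveI := hA
    haveI := hD
    haveI : IsReduced (CartDual.D k A) := Algebra.FormallyUnramified.isReduced_of_field k _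
    let L := AlgebraicClosure k
    haveI : CharP L p := charP_of_injective_algebraMap (algebraMap k L).injective p
    haveI : IsReduced (TensorProduct k L A) := Algebra.FormallyUnramified.isReduced_of_field L _
    obtain ⟨z, hz0, hz⟩ := Groth.Agent.EtaleRank.exists_primitive_of_dvd (L := L) p (TensorProduct k L A)
      (by rw [Module.finrank_baseChange]; exact hdvd)
    exact hz0 (Groth.Agent.EtaleRank.primitive_baseChange A
      (fun x hx => Groth.Agent.S11930.result k A inferInstance x hx) L z hz)
  · intro h
    exact ⟨Groth.Agent.EtaleRank.etale_of_finrank_ne_zero A (by rwa [Ne, CharP.cast_eq_zero_iff k p]),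
      Groth.Agent.EtaleRank.etale_of_finrank_ne_zero (CartDual.D k A) (by rwa [Ne, CharP.cast_eq_zero_iff k p, hfr])⟩

end Groth.Agent.S16674
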