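import Groth.Statements.S16676
import Groth.Agent.AVAmpleLib.KerShear
import Mathlib.AlgebraicGeometry.Morphisms.Finite
import Mathlib.Topology.Separation.Connected

set_option autoImplicit false
universe u
open CategoryTheory CategoryTheory.Limits MonoidalCategory CartesianMonoidalCategory MonObj GrpObj AlgebraicGeometry
set_option linter.style.haveILetI false
open AbVar

namespace Groth.Agent.S16676

/-- The equivalence of its second and third conditions. Let X and Y be abelian varieties over a field k
(proper, geometrically integral k-group schemes), f : X → Y a homomorphism which is finite, flat and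
surjective (an isogeny), and i : N → X the kernel of f (the square formed by i, f, the unit section
of Y and the structure map of N is cartesian). Then f is universally injective (a purely inseparable
morphism) if and only if the scheme N is connected. (The published item also includes the equivalent
condition that the function field of X is purely inseparable over that of Y; that clause is not part
of this statement.) -/
theorem result (k : Type u) [Field k]
    (X Y : Over (Spec (CommRingCat.of k)))
    [GrpObj X] [IsProper X.hom] [GeometricallyIntegral X.hom]
    [GrpObj Y] [IsProper Y.hom] [GeometricallyIntegral Y.hom]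
    (f : X ⟶ Y) [IsMonHom f] [IsFinite f.left] [Flat f.left] [Surjective f.left]
    (N : Over (Spec (CommRingCat.of k))) (i : N ⟶ X) (hN : AlgGrp.IsKernel i f) :
    UniversallyInjective f.left ↔ ConnectedSpace ↥N.left := by
  rw [AVAmpleLib.prop_iff_kernel f i @UniversallyInjective (fun sq h => by
    haveI := h
    exact SubmDescLib.universallyInjective_of_isPullback sq) hN]
  have h1 : IsPullback i.left N.hom f.left (η[Y] : 𝟙_ (Over _) ⟶ Y).left := hN.map (Over.forget _)
  haveI : IsFinite N.hom := MorphismProperty.of_isPullback h1 (inferInstanceAs (IsFinite f.left))
  let e : 𝟙_ (Over (Spec (CommRingCat.of k))) ⟶ N := hN.lift η[X] (𝟙 _) (by rw [IsMonHom.one_hom, Category.id_comp])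
  have he : e.left ≫ N.hom = 𝟙 _ := Over.w e
  constructor
  · intro hu
    haveI : Subsingleton ↥N.left := ⟨fun a b => N.hom.injective (Subsingleton.elim (α := PrimeSpectrum k) _ _)⟩
    haveI : Nonempty ↥N.left := ⟨e.left (Classical.arbitrary (PrimeSpectrum k))⟩
    exact ⟨inferInstance⟩
  · intro hc
    haveI : DiscreteTopology ↥N.left := by
      have h2 : _root_.IsDiscrete (Set.univ : Set ↥N.left) := by
        convert N.hom.isDiscrete_preimage_singleton (Classical.arbitrary (PrimeSpectrum k)) using 1
        exact (Set.eq_univ_of_forall fun x => Subsingleton.elim (α := PrimeSpectrum k) _ _).symm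
      exact isDiscrete_univ_iff.mp h2
    haveI : Subsingleton ↥N.left := PreconnectedSpace.trivial_of_discrete
    haveI : Surjective e.left := ⟨fun x => ⟨Classical.arbitrary (PrimeSpectrum k), Subsingleton.elim _ _⟩⟩
    exact ThickeningLib.universallyInjective_of_comp_surjective e.left N.hom (by rw [he]; infer_instance)

end Groth.Agent.S16676
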