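import Groth.Statements.S16677
import Groth.Agent.AlbNormLib.InfNbhd
import Groth.Agent.AVAmpleLib.TorsClosure

set_option autoImplicit false
set_option backward.isDefEq.respectTransparency false
set_option linter.style.haveILetI false
set_option maxHeartbeats 1000000
universe u
open CategoryTheory CategoryTheory.Limits MonoidalCategory CartesianMonoidalCategory MonObj GrpObj AlgebraicGeometry
open AbVar

namespace Groth.Agent.S16677

open Groth.Agent

theorem mem_range_of_pow {k : Type u} [Field k] {X : Over (Spec (CommRingCat.of k))} [GrpObj X] {p m : ℕ}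
    {Z : Scheme.{u}} {c : Z ⟶ X.left}
    (hc : ∃ t : pullback η[X].left ((𝟙 X ^ (p ^ m)).left) ⟶ Z,
      t ≫ c = pullback.snd η[X].left ((𝟙 X ^ (p ^ m)).left))
    {T : Over (Spec (CommRingCat.of k))} (d : T ⟶ X) (hd : d ^ (p ^ m) = 1) : ∃ t, t ≫ c = d.left := by
  obtain ⟨t, ht⟩ := hc
  refine ⟨pullback.lift T.hom d.left ?_ ≫ t, by rw [Category.assoc, ht, pullback.lift_snd]⟩
  rw [← Over.comp_left, MonObj.comp_pow, Category.comp_id, hd, Hom.one_def, Over.comp_left]
  rfl

/-- Let X be an abelian variety over a field k (a proper, geometrically integral k-group scheme) and p a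
prime number, not necessarily different from the characteristic of k. For m ≥ 1 let X[p^m] → X be
the kernel of multiplication by p^m (the p^m-th power of the identity in the group of endomorphisms
of X), realised as the fibre product of the unit section with that endomorphism. Then the family of
closed subgroup schemes X[p^m], m ≥ 1, is scheme-theoretically dense in X: if c : Z → X is a closed
immersion through which every inclusion X[p^m] → X factors, then c is an isomorphism. -/
theorem result (k : Type u) [Field k]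
    (X : Over (Spec (CommRingCat.of k))) [GrpObj X] [IsProper X.hom] [GeometricallyIntegral X.hom]
    (p : ℕ) (hp : p.Prime) (Z : Scheme.{u}) (c : Z ⟶ X.left) [IsClosedImmersion c]
    (hc : ∀ m : ℕ, 0 < m →
      ∃ t : pullback η[X].left ((𝟙 X ^ (p ^ m)).left) ⟶ Z,
        t ≫ c = pullback.snd η[X].left ((𝟙 X ^ (p ^ m)).left)) :
    IsIso c := by
  haveI : IsIntegral X.left := GeometricallyIntegral.isIntegral_of_subsingleton X.hom
  haveI : IsCommMonObj X := CubeConsLib.isCommMonObj_field
  haveI : IsLocallyNoetherian X.left := LocallyOfFiniteType.isLocallyNoetherian X.hom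
  by_cases hpk : (p : k) = 0
  · refine AlbNormLib.isIso_of_inf_factor (x := AlbNormLib.ePt X) c fun n => ?_
    obtain ⟨j, hj⟩ := AlbNormLib.exists_infHom_pow_eq_one X p hpk n
    exact mem_range_of_pow (hc (j + 1) (Nat.succ_pos j)) _ hj
  · haveI : Fact p.Prime := ⟨hp⟩
    let Ω := AlgebraicClosure k
    letI : GrpObj ((AVAmpleLib.bcF Ω).obj X) := Functor.grpObjObj
    haveI : IsCommMonObj ((AVAmpleLib.bcF Ω).obj X) := Functor.isCommMonObj_obj (F := AVAmpleLib.bcF Ω)
    haveI : IsProper ((AVAmpleLib.bcF Ω).obj X).hom := inferInstanceAs (IsProper (pullback.snd X.hom _))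
    haveI : GeometricallyIntegral ((AVAmpleLib.bcF Ω).obj X).hom :=
      inferInstanceAs (GeometricallyIntegral (pullback.snd X.hom _))
    let π := pullback.fst X.hom (Spec.map (CommRingCat.ofHom (algebraMap k Ω)))
    have hpΩ : (p : Ω) ≠ 0 := by
      rw [← map_natCast (algebraMap k Ω)]
      exact (map_ne_zero _).2 hpk
    have hd := AVAmpleLib.dense_torsPow (A := (AVAmpleLib.bcF Ω).obj X) p hpΩ
    have hsub : AVAmpleLib.pt '' AVAmpleLib.torsPow ((AVAmpleLib.bcF Ω).obj X) p ⊆ π ⁻¹' Set.range c := by
      rintro _ ⟨a, ⟨m, ha⟩, rfl⟩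
      obtain ⟨b, rfl⟩ := (AVAmpleLib.bcPt_bijective Ω).2 a
      have hb : b ^ (p ^ (m + 1)) = 1 := by
        let bh : (SGA7.pt (K := k) Ω ⟶ X) →* (𝟙_ _ ⟶ (AVAmpleLib.bcF Ω).obj X) :=
          MonoidHom.mk' (AVAmpleLib.bcPt Ω) (AVAmpleLib.bcPt_mul Ω)
        have h1 : bh (b ^ (p ^ m)) = bh 1 := by rw [map_pow, map_one]; exact ha
        rw [pow_succ, pow_mul, (AVAmpleLib.bcPt_bijective Ω).1 h1, one_pow]
      obtain ⟨t, ht⟩ := mem_range_of_pow (hc (m + 1) (Nat.succ_pos m)) b hb
      show π _ ∈ Set.range c
      rw [AVAmpleLib.fst_bcPt, AVAmpleLib.imgPt, ← ht, Scheme.Hom.comp_apply]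
      exact ⟨_, rfl⟩
    haveI : Surjective π := by
      haveI : Surjective (Spec.map (CommRingCat.ofHom (algebraMap k Ω))) :=
        ⟨fun y => ⟨IsLocalRing.closedPoint Ω, Subsingleton.elim (α := PrimeSpectrum k) _ _⟩⟩
      exact inferInstanceAs (Surjective (pullback.fst _ _))
    haveI : Surjective c := ⟨fun y => by
      obtain ⟨w, rfl⟩ := π.surjective y
      have h := closure_minimal hsub (c.isClosedEmbedding.isClosed_range.preimage π.continuous)
      rw [hd] at h
      exact h (Set.mem_univ w)⟩
    exact isIso_of_isClosedImmersion_of_surjective c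

end Groth.Agent.S16677
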