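import Groth.Statements.S16678
import Groth.Agent.CompSchLib.Alg
import Groth.Agent.S2277

set_option autoImplicit false
set_option backward.isDefEq.respectTransparency false
set_option maxHeartbeats 1000000
universe u
open CategoryTheory CategoryTheory.Limits AlgebraicGeometry
open Variety

namespace Groth.Agent.S16678

open TopologicalSpace

variable {k : Type u} [Field k]

theorem locallyConnected (W : Scheme.{u}) [IsLocallyNoetherian W] : LocallyConnectedSpace W := by
  refine Groth.Agent.S2277.result W fun w ↦ ?_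
  obtain ⟨_, ⟨O, hO, rfl⟩, hwO, -⟩ :=
    W.isBasis_affineOpens.exists_subset_of_mem_open (Set.mem_univ w) isOpen_univ
  have hO : IsAffineOpen O := hO
  have hNR : IsNoetherianRing Γ(W, O) := IsLocallyNoetherian.component_noetherian ⟨O, hO⟩
  exact ⟨O, O.isOpen.mem_nhds hwO, noetherianSpace_of_isAffineOpen O hO⟩

theorem idem_trivial (C : Scheme.{u}) [ConnectedSpace C] (e : Γ(C, ⊤)) (he : IsIdempotentElem e) :
    e = 0 ∨ e = 1 := by
  have hd : C.basicOpen e ⊓ C.basicOpen (1 - e) = ⊥ := by
    rw [← Scheme.basicOpen_mul, mul_sub, mul_one, he.eq, sub_self, Scheme.basicOpen_zero]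
  have hc : ∀ x : C, x ∈ C.basicOpen e ∨ x ∈ C.basicOpen (1 - e) := by
    intro x
    rw [Scheme.mem_basicOpen_top, Scheme.mem_basicOpen_top, map_sub, map_one]
    exact IsLocalRing.isUnit_or_isUnit_one_sub_self _
  have hcl : IsClopen (C.basicOpen e : Set C) := by
    refine ⟨⟨?_⟩, (C.basicOpen e).isOpen⟩
    have : (C.basicOpen e : Set C)ᶜ = (C.basicOpen (1 - e) : Set C) := by
      ext x
      refine ⟨fun h => (hc x).resolve_left h, fun h h' => ?_⟩
      have h2 : x ∈ C.basicOpen e ⊓ C.basicOpen (1 - e) := ⟨h', h⟩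
      rw [hd] at h2
      exact h2
    rw [this]
    exact (C.basicOpen (1 - e)).isOpen
  rcases isClopen_iff.mp hcl with h | h
  · left
    have hu : IsUnit (1 - e) := by
      apply C.toLocallyRingedSpace.toRingedSpace.isUnit_of_isUnit_germ ⊤ (1 - e)
      intro x hx
      have := (hc x).resolve_left (fun h' => by
        have h2 : x ∈ (C.basicOpen e : Set C) := h'
        rw [h] at h2
        exact h2)
      exact (Scheme.mem_basicOpen_top _ _ _).mp this
    exact hu.mul_left_eq_zero.mp (by rw [mul_sub, mul_one, he.eq, sub_self])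
  · right
    have hu : IsUnit e := by
      apply C.toLocallyRingedSpace.toRingedSpace.isUnit_of_isUnit_germ ⊤ e
      intro x hx
      have h2 : x ∈ (C.basicOpen e : Set C) := h ▸ Set.mem_univ x
      exact (Scheme.mem_basicOpen_top _ _ _).mp h2
    exact hu.mul_left_cancel (by rw [he.eq, mul_one])

theorem artinian_of_etale (R : CommRingCat.{u}) (ρ : CommRingCat.of k ⟶ R) (hE : Etale (Spec.map ρ)) :
    IsLocallyArtinian (Spec R) := by
  have hρE : ρ.hom.Etale := (HasRingHomProperty.Spec_iff (P := @Etale)).mp hE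
  letI := ρ.hom.toAlgebra
  haveI : Algebra.Etale k R := hρE
  haveI := Algebra.FormallyUnramified.finite_of_free k R
  exact Scheme.isLocallyArtinianScheme_Spec.mpr (IsArtinianRing.of_finite k R)

theorem exists_ev (C : Scheme.{u}) [Nonempty C] (g : C ⟶ Spec (CommRingCat.of k)) [LocallyOfFiniteType g] :
    letI : Algebra k Γ(C, ⊤) := ((Scheme.ΓSpecIso (CommRingCat.of k)).inv ≫ g.appTop).hom.toAlgebra
    ∃ (K : Type u) (_ : Field K) (_ : Algebra k K) (_ : Module.Finite k K), Nonempty (Γ(C, ⊤) →ₐ[k] K) := by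
  letI : Algebra k Γ(C, ⊤) := ((Scheme.ΓSpecIso (CommRingCat.of k)).inv ≫ g.appTop).hom.toAlgebra
  obtain ⟨_, ⟨V, hV, rfl⟩, hxV, -⟩ :=
    C.isBasis_affineOpens.exists_subset_of_mem_open (Set.mem_univ (Classical.arbitrary C)) isOpen_univ
  have hV : IsAffineOpen V := hV
  have hft := g.finiteType_appLE (U := ⊤) (isAffineOpen_top _) hV (by simp)
  let φ : k →+* Γ(C, V) := (g.appLE ⊤ V (by simp)).hom.comp (Scheme.ΓSpecIso (CommRingCat.of k)).inv.hom
  have hφ : φ.FiniteType := hft.comp
    (RingHom.FiniteType.of_surjective _ (Scheme.ΓSpecIso (CommRingCat.of k)).symm.commRingCatIsoToRingEquiv.surjective)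
  letI := φ.toAlgebra
  haveI : Algebra.FiniteType k Γ(C, V) := hφ
  haveI : Nontrivial Γ(C, V) := by
    have : Nonempty V := ⟨⟨_, hxV⟩⟩
    infer_instance
  obtain ⟨m, hm⟩ := Ideal.exists_maximal Γ(C, V)
  letI := Ideal.Quotient.field m
  haveI : Algebra.FiniteType k (Γ(C, V) ⧸ m) :=
    Algebra.FiniteType.of_surjective (Ideal.Quotient.mkₐ k m) Ideal.Quotient.mk_surjective
  haveI : Module.Finite k (Γ(C, V) ⧸ m) := finite_of_finite_type_of_isJacobsonRing k _
  refine ⟨Γ(C, V) ⧸ m, inferInstance, inferInstance, inferInstance,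
    ⟨⟨(Ideal.Quotient.mk m).comp (C.presheaf.map (homOfLE (le_top : V ≤ ⊤)).op).hom, fun c => rfl⟩⟩⟩

set_option maxHeartbeats 2000000 in
theorem component (C : Scheme.{u}) [ConnectedSpace C] (g : C ⟶ Spec (CommRingCat.of k))
    [LocallyOfFiniteType g] :
    ∃ (P : Scheme.{u}) (gP : P ⟶ Spec (CommRingCat.of k)) (q : C ⟶ P),
      Etale gP ∧ q ≫ gP = g ∧ Subsingleton P ∧ Nonempty P ∧ Flat q ∧
      ∀ (Y : Scheme.{u}) (gY : Y ⟶ Spec (CommRingCat.of k)) (h : C ⟶ Y), Etale gY → h ≫ gY = g →
        ∃! t : P ⟶ Y, t ≫ gY = gP ∧ q ≫ t = h := by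
  letI : Algebra k Γ(C, ⊤) := ((Scheme.ΓSpecIso (CommRingCat.of k)).inv ≫ g.appTop).hom.toAlgebra
  have : Nonempty C := ConnectedSpace.toNonempty
  obtain ⟨K, _, _, _, ⟨ev⟩⟩ := exists_ev C g
  haveI : Nontrivial Γ(C, ⊤) := ev.toRingHom.domain_nontrivial
  obtain ⟨L, hL, hLf, hmax⟩ := CompSchLib.exists_max (idem_trivial C) ev
  haveI := hL.1
  haveI := hL.2
  haveI : Algebra.FormallyEtale k L := .of_formallyUnramified_of_field k L
  haveI : Algebra.Etale k L := ⟨inferInstance, Algebra.FinitePresentation.of_finiteType.mp inferInstance⟩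
  letI := hLf.toField
  let q : C ⟶ Spec (CommRingCat.of L) := C.toSpecΓ ≫ Spec.map (CommRingCat.ofHom L.val.toRingHom)
  let gP : Spec (CommRingCat.of L) ⟶ Spec (CommRingCat.of k) :=
    Spec.map (CommRingCat.ofHom (algebraMap k L))
  have hval : CommRingCat.ofHom (algebraMap k L) ≫ CommRingCat.ofHom L.val.toRingHom =
      (Scheme.ΓSpecIso (CommRingCat.of k)).inv ≫ g.appTop := by
    ext c
    rfl
  have hqg : q ≫ gP = g := by
    simp only [q, gP, Category.assoc, ← Spec.map_comp]
    rw [hval, Spec.map_comp, ← Scheme.toSpecΓ_naturality_assoc, Scheme.toSpecΓ]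
    simp
  refine ⟨_, gP, q, ?_, hqg, inferInstanceAs (Subsingleton (PrimeSpectrum L)),
    inferInstanceAs (Nonempty (PrimeSpectrum L)), ?_, fun Y gY h hY hh => ?_⟩
  · exact (HasRingHomProperty.Spec_iff (P := @Etale)).mpr (RingHom.etale_algebraMap.mpr inferInstance)
  · refine IsZariskiLocalAtSource.of_openCover C.affineCover fun i => ?_
    obtain ⟨ψ, hψ⟩ := Spec.map_surjective (C.affineCover.f i ≫ q)
    rw [← hψ, Flat.SpecMap_iff]
    letI := ψ.hom.toAlgebra
    change Module.Flat L _
    infer_instance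
  · have : IsLocallyArtinian Y := (isLocallyArtinian_iff_openCover Y.affineCover).mpr fun i => by
      obtain ⟨ρ, hρ⟩ := Spec.map_surjective (Y.affineCover.f i ≫ gY)
      have hE : Etale (Spec.map ρ) := hρ ▸ inferInstance
      exact artinian_of_etale _ ρ hE
    let y := h (Classical.arbitrary C)
    have hy : ∀ c, h c = y := fun c =>
      PreconnectedSpace.constant (inferInstance : PreconnectedSpace C) h.continuous
    let U : Y.Opens := ⟨{y}, isOpen_discrete _⟩
    have hUss : (U : Set Y).Subsingleton := Set.subsingleton_singleton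
    haveI : IsAffine U := IsAffineOpen.of_subsingleton hUss
    let h₁ : C ⟶ U := IsOpenImmersion.lift U.ι h (by
      rintro _ ⟨c, rfl⟩
      simp [U, hy c])
    have hh₁ : h₁ ≫ U.ι = h := IsOpenImmersion.lift_fac _ _ _
    let a : k →+* Γ(U.toScheme, ⊤) := ((Scheme.ΓSpecIso (CommRingCat.of k)).inv ≫ (U.ι ≫ gY).appTop).hom
    letI : Algebra k Γ(U.toScheme, ⊤) := a.toAlgebra
    haveI : Algebra.Etale k Γ(U.toScheme, ⊤) := by
      have h1 : (U.ι ≫ gY).appTop.hom.Etale :=
        (HasRingHomProperty.iff_of_isAffine (P := @Etale)).mp inferInstance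
      have h2 : a.Etale := RingHom.Etale.respectsIso.2 _
        (Scheme.ΓSpecIso (CommRingCat.of k)).symm.commRingCatIsoToRingEquiv h1
      exact RingHom.etale_algebraMap.mp h2
    haveI : Module.Finite k Γ(U.toScheme, ⊤) := Algebra.FormallyUnramified.finite_of_free k _
    let ψ : Γ(U.toScheme, ⊤) →ₐ[k] Γ(C, ⊤) :=
      { h₁.appTop.hom with
        commutes' := fun c => by
          show ((Scheme.ΓSpecIso (CommRingCat.of k)).inv ≫ (U.ι ≫ gY).appTop ≫ h₁.appTop).hom c =
            ((Scheme.ΓSpecIso (CommRingCat.of k)).inv ≫ g.appTop).hom c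
          rw [← Scheme.Hom.comp_appTop, reassoc_of% hh₁, hh] }
    have hle : ψ.range ≤ L := hmax _ (CompSchLib.good_range ψ)
    let χ : Γ(U.toScheme, ⊤) →ₐ[k] L := ψ.codRestrict L fun z => hle ⟨z, rfl⟩
    let t : Spec (CommRingCat.of L) ⟶ U := Spec.map (CommRingCat.ofHom χ.toRingHom) ≫ U.toScheme.isoSpec.inv
    have hqt : q ≫ t = h₁ := by
      have : CommRingCat.ofHom χ.toRingHom ≫ CommRingCat.ofHom L.val.toRingHom = h₁.appTop := by
        ext z
        rfl
      simp only [q, t, Category.assoc, ← Spec.map_comp_assoc, this]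
      rw [← Scheme.toSpecΓ_naturality_assoc, ← Scheme.isoSpec_hom, Iso.hom_inv_id, Category.comp_id]
    have hinj : Function.Injective q.appTop := by
      have he : q.appTop = (Scheme.ΓSpecIso (CommRingCat.of L)).hom ≫ CommRingCat.ofHom L.val.toRingHom := by
        simp [q, Scheme.toSpecΓ_appTop]
      rw [he]
      exact Subtype.val_injective.comp
        (Scheme.ΓSpecIso (CommRingCat.of L)).commRingCatIsoToRingEquiv.injective
    have huniqS : ∀ (Z : Scheme.{u}) [IsAffine Z] (r r' : Spec (CommRingCat.of L) ⟶ Z),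
        q ≫ r = q ≫ r' → r = r' := by
      intro Z _ r r' hr
      refine ext_of_isAffine ?_
      ext z
      apply hinj
      have := congrArg (fun m => Scheme.Hom.appTop m z) hr
      simpa [Scheme.Hom.comp_appTop] using this
    refine ⟨t ≫ U.ι, ⟨?_, by rw [reassoc_of% hqt, hh₁]⟩, fun t' ht' => ?_⟩
    · apply huniqS (Spec (CommRingCat.of k))
      rw [hqg, Category.assoc t, reassoc_of% hqt, reassoc_of% hh₁, hh]
    · have hr : Set.range t' ⊆ Set.range U.ι := by
        rintro _ ⟨p, rfl⟩
        haveI : Subsingleton (Spec (CommRingCat.of L)) := inferInstanceAs (Subsingleton (PrimeSpectrum L))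
        have hp : p = q (Classical.arbitrary C) := Subsingleton.elim _ _
        rw [Scheme.Opens.range_ι, hp]
        show t' (q (Classical.arbitrary C)) = y
        rw [← Scheme.Hom.comp_apply, ht'.2]
      rw [← IsOpenImmersion.lift_fac U.ι t' hr]
      congr 1
      apply huniqS U
      rw [← cancel_mono U.ι, Category.assoc, IsOpenImmersion.lift_fac, ht'.2, hqt, hh₁]

/-- For a field k and a k-scheme X locally of finite type there are an étale k-scheme P and a k-morphism
q : X → P such that every k-morphism h : X → Y to an étale k-scheme Y equals t ∘ q for exactly one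
k-morphism t : P → Y; moreover q is flat and surjective, and for each point x of X the fibre
q⁻¹(q(x)), as a subset of X, is the connected component of x. (Étale means locally of finite
presentation with étale ring maps on affine pieces; no quasi-compactness is asked, so P may have
infinitely many points.) -/
theorem result (k : Type u) [Field k]
    (X : Scheme.{u}) (f : X ⟶ Spec (CommRingCat.of k)) [LocallyOfFiniteType f] :
    ∃ (P : Scheme.{u}) (g : P ⟶ Spec (CommRingCat.of k)) (q : X ⟶ P), Etale g ∧ q ≫ g = f ∧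
      (∀ (Y : Scheme.{u}) (gY : Y ⟶ Spec (CommRingCat.of k)) (h : X ⟶ Y), Etale gY → h ≫ gY = f →
        ∃! t : P ⟶ Y, t ≫ gY = g ∧ q ≫ t = h) ∧
      Flat q ∧ Surjective q ∧
      ∀ x : ↥X, (fun x' : ↥X => q x') ⁻¹' {q x} = connectedComponent x := by
  have : IsLocallyNoetherian X := LocallyOfFiniteType.isLocallyNoetherian f
  have := locallyConnected X
  let ι : Type u := _root_.ConnectedComponents X
  let U : ι → X.Opens := fun c => ⟨connectedComponent (Quotient.out (s := connectedComponentSetoid X) c), isOpen_connectedComponent⟩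
  have hU : ∀ (c : ι) (x : X), x ∈ U c ↔ _root_.ConnectedComponents.mk x = c := by
    intro c x
    conv_rhs => rw [← Quotient.out_eq (s := connectedComponentSetoid X) c]
    exact ⟨fun h => ConnectedComponents.coe_eq_coe'.mpr h, fun h => ConnectedComponents.coe_eq_coe'.mp h⟩
  have hconn : ∀ c, ConnectedSpace (U c).toScheme := fun c =>
    isConnected_iff_connectedSpace.mp isConnected_connectedComponent
  choose P gP q hgP hqg hss hne hfl huniv using fun c => component (U c).toScheme ((U c).ι ≫ f)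
  have hcov : iSup U = ⊤ := top_le_iff.mp fun x _ =>
    TopologicalSpace.Opens.mem_iSup.mpr ⟨_root_.ConnectedComponents.mk x, (hU _ x).mpr rfl⟩
  obtain ⟨hcol⟩ := nonempty_isColimit_cofanMk_of (fun c => (U c).ι) (by simpa using hcov) (by
    intro c d hcd
    rw [Function.onFun, disjoint_iff, eq_bot_iff]
    intro x hx
    simp only [Scheme.Opens.opensRange_ι] at hx
    exact (hcd (((hU c x).mp hx.1).symm.trans ((hU d x).mp hx.2))).elim)
  let Q : X ⟶ ∐ P := Cofan.IsColimit.desc hcol fun c => q c ≫ Sigma.ι P c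
  have hQ : ∀ c, (U c).ι ≫ Q = q c ≫ Sigma.ι P c := fun c => Cofan.IsColimit.fac hcol _ c
  let G : (∐ P) ⟶ Spec (CommRingCat.of k) := Sigma.desc gP
  have hQx : ∀ (c : ι) (x : (U c).toScheme), Q x.1 = Sigma.ι P c (q c x) := fun c x => by
    rw [← Scheme.Hom.comp_apply, ← hQ c]; rfl
  refine ⟨∐ P, G, Q, IsZariskiLocalAtSource.sigmaDesc fun c => hgP c, ?_, ?_, ?_, ?_, ?_⟩
  · refine Cofan.IsColimit.hom_ext hcol _ _ fun c => ?_
    show (U c).ι ≫ Q ≫ G = (U c).ι ≫ f
    rw [reassoc_of% hQ c, Sigma.ι_desc, hqg]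
  · intro Y gY h hY hh
    choose t ht htu using fun c => huniv c Y gY ((U c).ι ≫ h) hY (by rw [Category.assoc, hh])
    refine ⟨Sigma.desc t, ⟨Sigma.hom_ext _ _ fun c => ?_, Cofan.IsColimit.hom_ext hcol _ _ fun c => ?_⟩,
      fun t' ht' => Sigma.hom_ext _ _ fun c => ?_⟩
    · rw [Sigma.ι_desc_assoc, Sigma.ι_desc, (ht c).1]
    · show (U c).ι ≫ Q ≫ Sigma.desc t = (U c).ι ≫ h
      rw [reassoc_of% hQ c, Sigma.ι_desc, (ht c).2]
    · rw [Sigma.ι_desc]
      refine htu c _ ⟨?_, ?_⟩
      · rw [Category.assoc, ht'.1, Sigma.ι_desc]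
      · rw [← reassoc_of% hQ c, ht'.2]
  · rw [IsZariskiLocalAtSource.iff_of_iSup_eq_top (P := @Flat) U hcov]
    intro c
    rw [hQ c]
    have := hfl c
    infer_instance
  · refine ⟨fun p => ?_⟩
    obtain ⟨⟨c, z⟩, rfl⟩ := (sigmaMk P).surjective p
    have := hne c
    have := hss c
    have : Nonempty (U c).toScheme := (hconn c).toNonempty
    refine ⟨(Classical.arbitrary (U c).toScheme).1, ?_⟩
    rw [hQx, sigmaMk_mk]
    exact congrArg _ (Subsingleton.elim _ _)
  · intro x
    ext x'
    show Q x' = Q x ↔ x' ∈ connectedComponent x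
    rw [← ConnectedComponents.coe_eq_coe']
    have h1 := hQx _ ⟨x, (hU _ x).mpr rfl⟩
    have h2 := hQx _ ⟨x', (hU _ x').mpr rfl⟩
    rw [h1, h2]
    refine ⟨fun h => congrArg Sigma.fst ((sigmaι_eq_iff P _ _ _ _).mp h), fun h => ?_⟩
    have key : ∀ (c d : ι) (a : P c) (b : P d), c = d → Sigma.ι P c a = Sigma.ι P d b := by
      rintro c _ a b rfl
      have := hss c
      rw [Subsingleton.elim a b]
    exact key _ _ _ _ h

end Groth.Agent.S16678
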