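import Groth.Statements.S16679
import Groth.Agent.AVAmpleLib.TorsClosure
import Groth.Agent.AVAmpleLib.MulFinite
import Groth.Agent.GrpFieldLib.Neutral
import Groth.Agent.GrpFieldLib.Comps
-- import your own Groth.Agent.* helpers here

set_option autoImplicit false
set_option backward.isDefEq.respectTransparency false
set_option linter.style.haveILetI false
universe u
open CategoryTheory CategoryTheory.Limits MonoidalCategory CartesianMonoidalCategory MonObj GrpObj AlgebraicGeometry
open AbVar

namespace Groth.Agent.S16679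

/-- Let X be an abelian variety over an arbitrary field k (a proper, geometrically integral k-group
scheme), let i : Y → X be a closed subgroup scheme (a homomorphism of k-group schemes which is a
closed immersion) whose underlying space is connected, and let j : Y_red → Y be the reduced closed
subscheme with the same underlying space (a closed immersion from a reduced scheme which is
surjective). Then Y_red is geometrically integral over k, and there is a k-group scheme structure on
Y_red for which j is a homomorphism: Y_red is an abelian subvariety of X. (For a closed subgroup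
scheme which is not connected the reduced subscheme need not be geometrically reduced; the statement
concerns the identity component.) -/
theorem result (k : Type u) [Field k]
    (X : Over (Spec (CommRingCat.of k))) [GrpObj X] [IsProper X.hom] [GeometricallyIntegral X.hom]
    (Y : Over (Spec (CommRingCat.of k))) [GrpObj Y] (i : Y ⟶ X) [IsMonHom i] [IsClosedImmersion i.left]
    [ConnectedSpace ↥Y.left]
    (Yr : Scheme.{u}) (j : Yr ⟶ Y.left) [IsClosedImmersion j] [Surjective j] [IsReduced Yr] :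
    GeometricallyIntegral (j ≫ Y.hom) ∧
      ∃ _ : GrpObj (Over.mk (j ≫ Y.hom)), IsMonHom (Over.homMk j rfl : Over.mk (j ≫ Y.hom) ⟶ Y) := by
  let Ω := AlgebraicClosure k
  haveI : IsProper Y.hom := by rw [← Over.w i]; infer_instance
  haveI : Mono i := Over.mono_of_mono_left i
  haveI : IsCommMonObj X := CubeConsLib.isCommMonObj_field
  haveI : IrreducibleSpace Y.left := by
    haveI : Subsingleton ↥(Spec (CommRingCat.of k)) := inferInstanceAs (Subsingleton (PrimeSpectrum k))
    haveI : Flat Y.hom := Groth.Agent.GrpField.flat_field _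
    haveI : GeometricallyIrreducible Y.hom := by
      have h := Groth.Agent.GrpField.geometricallyIrreducible_of_range (G := Y) (𝟙 Y.left) (by
        rw [← Groth.Agent.GrpField.connectedComponent_unit, PreconnectedSpace.connectedComponent_eq_univ]
        exact Set.range_eq_univ.2 fun x => ⟨x, rfl⟩)
      rwa [Category.id_comp] at h
    exact GeometricallyIrreducible.irreducibleSpace_of_subsingleton Y.hom
  let D : Set X.left := Set.range i.left
  have hD : IsClosed D := i.left.isClosedEmbedding.isClosed_range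
  have hmem : ∀ a : SGA7.pt (K := k) Ω ⟶ X, AVAmpleLib.imgPt a ∈ D → ∃ b, b ≫ i = a :=
    fun a h => AVAmpleLib.exists_factor i a h
  have hin : ∀ b : SGA7.pt (K := k) Ω ⟶ Y, AVAmpleLib.imgPt (b ≫ i) ∈ D := fun b => ⟨_, rfl⟩
  obtain ⟨C, _, jC, hjC, hjCc, hCp, hCgi, hCD, F, hF, hFD⟩ := AVAmpleLib.exists_torsClosure (A := X) (Ω := Ω) D hD
    (by rw [← MonObj.one_comp (f := i)]; exact hin 1)
    (fun a b ha hb => by
      obtain ⟨a, rfl⟩ := hmem a ha
      obtain ⟨b, rfl⟩ := hmem b hb
      rw [← MonObj.mul_comp]; exact hin _)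
    (fun a ha => by
      obtain ⟨a, rfl⟩ := hmem a ha
      rw [← GrpObj.inv_comp]; exact hin _)
  haveI := hjC
  haveI := hjCc
  haveI := hCp
  haveI := hCgi
  -- a multiple of every point lies in the subvariety
  let N := (Nat.card F).factorial
  have hpow : ∀ a : SGA7.pt (K := k) Ω ⟶ Y, ∃ c, c ≫ jC = (a ≫ i) ^ N := by
    intro a
    haveI : Finite F := hF.to_subtype
    have hh : ∀ n : Fin (Nat.card F + 1), ∃ f : F, ∃ c, (a ≫ i) ^ (n : ℕ) = f.1 * (c ≫ jC) := fun n => by
      obtain ⟨f, hf, c, hc⟩ := hFD ((a ≫ i) ^ (n : ℕ)) (by rw [← MonObj.pow_comp]; exact hin _)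
      exact ⟨⟨f, hf⟩, c, hc⟩
    choose f c hc using hh
    obtain ⟨m, n, hmn, he⟩ : ∃ m n : Fin (Nat.card F + 1), (m : ℕ) < n ∧ f m = f n := by
      haveI := Fintype.ofFinite F
      obtain ⟨m, n, hne, he⟩ := Fintype.exists_ne_map_eq_of_card_lt f (by rw [Fintype.card_fin, Nat.card_eq_fintype_card]; omega)
      rcases lt_or_gt_of_ne hne with h | h
      · exact ⟨m, n, h, he⟩
      · exact ⟨n, m, h, he.symm⟩
    obtain ⟨d, hd⟩ : ∃ d, (n : ℕ) - m ∣ d ∧ d = N := ⟨N, Nat.dvd_factorial (by omega) (by omega), rfl⟩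
    obtain ⟨⟨q, rfl⟩, hdN⟩ := hd
    have hsplit : (a ≫ i) ^ ((n : ℕ) - m) = (c n * (c m)⁻¹) ≫ jC := by
      have h2 := hc n
      rw [← Nat.sub_add_cancel hmn.le, pow_add, hc m, ← he] at h2
      rw [MonObj.mul_comp, GrpObj.inv_comp]
      calc (a ≫ i) ^ ((n : ℕ) - m) = (a ≫ i) ^ ((n : ℕ) - m) * ((f m).1 * (c m ≫ jC)) * ((f m).1 * (c m ≫ jC))⁻¹ :=
            (mul_inv_cancel_right _ _).symm
        _ = ((f m).1 * (c n ≫ jC)) * ((f m).1 * (c m ≫ jC))⁻¹ := by rw [h2]
        _ = (c n ≫ jC) * (c m ≫ jC)⁻¹ := by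
          rw [_root_.mul_inv_rev, _root_.mul_comm (f m).1, _root_.mul_assoc, _root_.mul_comm (c m ≫ jC)⁻¹ (f m).1⁻¹,
            ← _root_.mul_assoc (f m).1, mul_inv_cancel, _root_.one_mul]
    exact ⟨(c n * (c m)⁻¹) ^ q, by rw [MonObj.pow_comp, ← hsplit, ← pow_mul, hdN]⟩
  have hpowm : ∀ a : SGA7.pt (K := k) Ω ⟶ Y, (a ≫ i) ^ N = a ≫ (𝟙 Y ^ N) ≫ i := fun a => by
    rw [MonObj.pow_comp, Category.id_comp, MonObj.comp_pow]
  haveI : IsFinite (𝟙 Y ^ N).left := by
    haveI : IsFinite (𝟙 X ^ N).left := by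
      rw [← zpow_natCast]
      exact AVAmpleLib.isFinite_zpow X (n := (N : ℤ)) (by exact_mod_cast Nat.factorial_ne_zero _)
    haveI : IsFinite ((𝟙 Y ^ N).left ≫ i.left) := by
      rw [← Over.comp_left, MonObj.pow_comp, Category.id_comp,
        show i ^ N = i ≫ (𝟙 X ^ N) by rw [MonObj.comp_pow, Category.comp_id], Over.comp_left]
      infer_instance
    exact IsFinite.of_comp _ i.left
  have hsurj : Function.Surjective (𝟙 Y ^ N).left := by
    obtain ⟨x, hx⟩ := AbSchLib.exists_generic_image Y.hom (𝟙 Y ^ N).left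
    rw [irreducibleComponents_eq_singleton] at hx
    intro y
    exact closure_minimal (Set.singleton_subset_iff.2 (Set.mem_range_self (f := ⇑(𝟙 Y ^ N).left) x)) (𝟙 Y ^ N).left.isClosedMap.isClosed_range
      (hx.symm ▸ Set.mem_univ y)
  have hrange : D = Set.range jC.left := by
    haveI : JacobsonSpace Y.left := LocallyOfFiniteType.jacobsonSpace Y.hom
    haveI : LocallyOfFiniteType C.hom := inferInstance
    refine subset_antisymm ?_ ?_
    · rintro _ ⟨y, rfl⟩
      have hc : IsClosed (i.left ⁻¹' Set.range jC.left) :=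
        jC.left.isClosedEmbedding.isClosed_range.preimage i.left.continuous
      suffices h : i.left ⁻¹' Set.range jC.left = Set.univ from h.ge (Set.mem_univ y)
      rw [← hc.closure_eq, ← dense_iff_closure_eq]
      refine Dense.mono (fun z hz => ?_) (dense_iff_closure_eq.mpr (closure_closedPoints (X := Y.left)))
      obtain ⟨z', hz'⟩ := hsurj z
      obtain ⟨w, hw, hwc⟩ := nonempty_inter_closedPoints (X := Y.left) (Z := (𝟙 Y ^ N).left ⁻¹' {z}) ⟨z', hz'⟩
        (IsClosed.isLocallyClosed ((show IsClosed ({z} : Set Y.left) from hz).preimage (Scheme.Hom.continuous (𝟙 Y ^ N).left)))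
      obtain ⟨a, rfl⟩ := AVAmpleLib.exists_imgPt (Ω := Ω) hwc
      obtain ⟨c, hc⟩ := hpow a
      refine ⟨AVAmpleLib.imgPt c, ?_⟩
      rw [← AVAmpleLib.imgPt_comp, hc, hpowm, ← Category.assoc, AVAmpleLib.imgPt_comp, AVAmpleLib.imgPt_comp]
      exact congrArg _ hw
    · exact AVAmpleLib.range_subset_of_imgPts (Ω := Ω) jC hD hCD
  let Y' : Over (Spec (CommRingCat.of k)) := Over.mk (j ≫ Y.hom)
  let h : Y' ⟶ Y := Over.homMk j rfl
  haveI : IsClosedImmersion h.left := inferInstanceAs (IsClosedImmersion j)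
  haveI : Mono h := Over.mono_of_mono_left h
  haveI : Subsingleton ↥(Spec (CommRingCat.of k)) := inferInstanceAs (Subsingleton (PrimeSpectrum k))
  haveI : IsIntegral C.left := GeometricallyIntegral.isIntegral_of_subsingleton C.hom
  haveI : IsReduced Y'.left := inferInstanceAs (IsReduced Yr)
  have hr' : Set.range (h ≫ i).left = Set.range jC.left := by
    rw [← hrange, Over.comp_left, Scheme.Hom.comp_base, TopCat.coe_comp, Set.range_comp, Set.range_eq_univ.2 (show Surjective h.left from ‹Surjective j›).surj, Set.image_univ]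
  haveI : Mono jC := Over.mono_of_mono_left jC
  haveI : IsClosedImmersion (h ≫ i).left := by rw [Over.comp_left]; infer_instance
  obtain ⟨φ0, hφ0⟩ := AVAmpleLib.exists_lift_of_reduced jC.left (h ≫ i).left hr'.le
  obtain ⟨ψ0, hψ0⟩ := AVAmpleLib.exists_lift_of_reduced (h ≫ i).left jC.left hr'.ge
  let φ : Y' ⟶ C := Over.homMk φ0 (by rw [← Over.w (h ≫ i), ← hφ0, Category.assoc, Over.w jC])
  let ψ : C ⟶ Y' := Over.homMk ψ0 (by rw [← Over.w jC, ← hψ0, Category.assoc, Over.w (h ≫ i)])
  have hφ : φ ≫ jC = h ≫ i := Over.OverMorphism.ext hφ0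
  have hψ : ψ ≫ h ≫ i = jC := Over.OverMorphism.ext hψ0
  haveI : Mono (h ≫ i) := mono_comp _ _
  have h1 : φ ≫ ψ = 𝟙 Y' := by rw [← cancel_mono (h ≫ i), Category.assoc, hψ, hφ, Category.id_comp]
  have h2 : ψ ≫ φ = 𝟙 C := by rw [← cancel_mono jC, Category.assoc, hφ, hψ, Category.id_comp]
  let e : Y' ≅ C := ⟨φ, ψ, h1, h2⟩
  refine ⟨?_, Groth.Agent.SubDesc.exists_grpObj_of_mono h ?_ ?_ ?_⟩
  · haveI : IsIso φ := e.isIso_hom
    haveI : IsIso φ.left := inferInstanceAs (IsIso ((Over.forget _).map φ))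
    show GeometricallyIntegral Y'.hom
    rw [← Over.w φ]
    exact MorphismProperty.RespectsIso.precomp (P := @GeometricallyIntegral) φ.left C.hom hCgi
  · refine ⟨((fst _ _ ≫ φ) * (snd _ _ ≫ φ)) ≫ ψ, ?_⟩
    rw [← cancel_mono i, Category.assoc, Category.assoc, hψ, MonObj.mul_comp, MonObj.mul_comp, Category.assoc,
      Category.assoc, Category.assoc, Category.assoc, hφ]
  · refine ⟨(1 : 𝟙_ _ ⟶ C) ≫ ψ, ?_⟩
    rw [← cancel_mono i, Category.assoc, Category.assoc, hψ, MonObj.one_comp, MonObj.one_comp]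
  · refine ⟨φ⁻¹ ≫ ψ, ?_⟩
    rw [← cancel_mono i, Category.assoc, Category.assoc, hψ, GrpObj.inv_comp, GrpObj.inv_comp, hφ]
end Groth.Agent.S16679
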