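import Groth.Statements.S16682
import Groth.Agent.CubeConsLib.Seesaw

set_option autoImplicit false
universe u
open CategoryTheory CategoryTheory.Limits MonoidalCategory CartesianMonoidalCategory AlgebraicGeometry
open AbVar

namespace Groth.Agent.S16682

/-- Let k be a field, X a proper geometrically integral k-scheme (a complete variety), Y a variety over
k (separated, of finite type, geometrically integral), and L, M two invertible modules on X ×_k Y
(the product in the category of k-schemes). If for every closed point y of Y the restrictions of L
and M to the fibre X ×_k Spec k(y) are isomorphic, then there is an invertible O_Y-module N with L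
isomorphic to M ⊗ p^*N, where p : X ×_k Y → Y is the second projection (existence of an isomorphism;
N is determined only up to isomorphism). -/
theorem result (k : Type u) [Field k]
    (X Y : Over (Spec (CommRingCat.of k)))
    [IsProper X.hom] [GeometricallyIntegral X.hom]
    [IsSeparated Y.hom] [QuasiCompact Y.hom] [LocallyOfFiniteType Y.hom] [GeometricallyIntegral Y.hom]
    (L M : (X ⊗ Y).left.Modules) (hL : PicF.IsInvertible L) (hM : PicF.IsInvertible M)
    (h : ∀ y : ↥Y.left, IsClosed ({y} : Set ↥Y.left) →
      Nonempty ((Scheme.Modules.pullback (pullback.fst (snd X Y).left (Y.left.fromSpecResidueField y))).obj L ≅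
        (Scheme.Modules.pullback (pullback.fst (snd X Y).left (Y.left.fromSpecResidueField y))).obj M)) :
    ∃ N : Y.left.Modules, PicF.IsInvertible N ∧
      Nonempty (L ≅ CohB1.tensorMod M ((Scheme.Modules.pullback (snd X Y).left).obj N)) := by
  have : IsProper (snd X Y).left := MorphismProperty.pullback_snd (P := @IsProper) X.hom Y.hom ‹_›
  have : Flat (snd X Y).left := MorphismProperty.pullback_snd (P := @Flat) X.hom Y.hom inferInstance
  have : GeometricallyIntegral (snd X Y).left := inferInstanceAs (GeometricallyIntegral (Limits.pullback.snd X.hom Y.hom))
  have : IsLocallyNoetherian Y.left := LocallyOfFiniteType.isLocallyNoetherian Y.hom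
  have : IsReduced Y.left := GeometricallyReduced.isReduced_of_flat_of_isLocallyNoetherian Y.hom
  have : JacobsonSpace Y.left := CubeConsLib.jacobsonSpace_of_field Y.hom
  exact CubeConsLib.seesaw_closedPoints (snd X Y).left hL hM h

end Groth.Agent.S16682
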