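import Groth.Statements.S16684
import Groth.Agent.AlgSpLib.Bootstrap
import Groth.Agent.MonoQuotLib.Orbit
import Mathlib.AlgebraicGeometry.AffineSpace
-- import your own Groth.Agent.* helpers here

set_option autoImplicit false
universe u
open CategoryTheory CategoryTheory.Limits MonoidalCategory CartesianMonoidalCategory MonObj AlgebraicGeometry
open GIT

set_option linter.all false
set_option backward.isDefEq.respectTransparency false
set_option backward.isDefEq.respectTransparency.types false

open CategoryTheory.Limits Opposite AlgSpLib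
open scoped MonObj

namespace Groth.Agent.S16684

variable {S : Scheme.{u}} {G X Y : Over S} [GrpObj G] {a : AlgGrp.Action G X} {q : X ⟶ Y}

theorem act_one {T : Over S} (x : T ⟶ X) : CartesianMonoidalCategory.lift (1 : T ⟶ G) x ≫ a.act = x := by
  have h := CartesianMonoidalCategory.lift (CartesianMonoidalCategory.toUnit T) x ≫= a.one_act
  simpa [MonObj.one_eq_one, CartesianMonoidalCategory.lift_whiskerRight_assoc] using h

/-- The relation of lying in one orbit. -/
theorem rel_equivalence (T : Over S) : Equivalence (Rel a.act (CartesianMonoidalCategory.snd G X) T) := by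
  have ac : ∀ (g h : T ⟶ G) (x : T ⟶ X), CartesianMonoidalCategory.lift g (CartesianMonoidalCategory.lift h x ≫ a.act) ≫ a.act =
      CartesianMonoidalCategory.lift (g * h) x ≫ a.act := fun g h x => (Groth.Agent.MonoQuot.act_mul a g h x).symm
  refine ⟨fun x => ⟨CartesianMonoidalCategory.lift 1 x.down, CartesianMonoidalCategory.lift_snd _ _, act_one _⟩, ?_, ?_⟩
  · rintro x y ⟨r, h₁, h₂⟩
    have e : CartesianMonoidalCategory.lift (r ≫ CartesianMonoidalCategory.fst G X) x.down = r := by
      rw [← h₁, ← CartesianMonoidalCategory.comp_lift, CartesianMonoidalCategory.lift_fst_snd, Category.comp_id]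
    refine ⟨CartesianMonoidalCategory.lift (r ≫ CartesianMonoidalCategory.fst G X)⁻¹ y.down,
      CartesianMonoidalCategory.lift_snd _ _, ?_⟩
    conv_lhs => rw [← h₂, ← e]
    rw [CartesianMonoidalCategory.lift_fst, ac, inv_mul_cancel, act_one]
  · rintro x y z ⟨r, h₁, h₂⟩ ⟨r', h₁', h₂'⟩
    have e : CartesianMonoidalCategory.lift (r ≫ CartesianMonoidalCategory.fst G X) x.down = r := by
      rw [← h₁, ← CartesianMonoidalCategory.comp_lift, CartesianMonoidalCategory.lift_fst_snd, Category.comp_id]
    have e' : CartesianMonoidalCategory.lift (r' ≫ CartesianMonoidalCategory.fst G X) y.down = r' := by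
      rw [← h₁', ← CartesianMonoidalCategory.comp_lift, CartesianMonoidalCategory.lift_fst_snd, Category.comp_id]
    refine ⟨CartesianMonoidalCategory.lift ((r' ≫ CartesianMonoidalCategory.fst G X) *
      (r ≫ CartesianMonoidalCategory.fst G X)) x.down, CartesianMonoidalCategory.lift_snd _ _, ?_⟩
    rw [← ac, e, h₂, e', h₂']

/-- The quotient map lifts after an fppf covering. -/
theorem exists_cover (hq : QuotSh.IsQuotient Scheme.fppfPrecoverage a.act (CartesianMonoidalCategory.snd G X) q) :
    ∃ (T : Over S) (c : T ⟶ Y) (l : T ⟶ X), Flat c.left ∧ LocallyOfFinitePresentation c.left ∧ Surjective c.left ∧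
      l ≫ q = c := by
  obtain ⟨w, hiso⟩ := hq
  haveI := hiso
  let ρ := fun V : Over S => QuotSh.repIsoUliftYoneda Scheme.fppfPrecoverage V
  have hd : qπ a.act (CartesianMonoidalCategory.snd G X) ≫ QuotSh.quotDesc Scheme.fppfPrecoverage q w ≫ (ρ Y).hom =
      (AlgSp.yon S).map q := by
    simp only [qπ, QuotSh.quotDesc, QuotSh.quotπ, Category.assoc, coequalizer.π_desc_assoc]
    rw [Iso.inv_comp_eq]
    exact repIso_naturality q
  haveI : Epi ((AlgSp.yon S).map q) := by
    rw [← hd]
    haveI : Epi (qπ a.act (CartesianMonoidalCategory.snd G X)) := (Sheaf.isLocallySurjective_iff_epi _).mp inferInstance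
    infer_instance
  haveI : Sheaf.IsLocallySurjective ((AlgSp.yon S).map q) := (Sheaf.isLocallySurjective_iff_epi _).mpr inferInstance
  obtain ⟨T, c, l, h₁, h₂, h₃, hl⟩ := exists_single_lift ((AlgSp.yon S).map q) (𝟙 ((AlgSp.yon S).obj Y))
  obtain ⟨l, rfl⟩ := (AlgSp.yon S).map_surjective l
  rw [Category.comp_id, ← Functor.map_comp] at hl
  exact ⟨T, c, l, h₁, h₂, h₃, (AlgSp.yon S).map_injective hl⟩

/-- Points with one image are locally in one orbit. -/
theorem exists_related (hq : QuotSh.IsQuotient Scheme.fppfPrecoverage a.act (CartesianMonoidalCategory.snd G X) q)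
    {T : Over S} (x y : T ⟶ X) (hxy : x ≫ q = y ≫ q) :
    ∃ (V : T.left → Over S) (c : ∀ t, V t ⟶ T), (∀ t, Flat (c t).left) ∧ (∀ t, LocallyOfFinitePresentation (c t).left) ∧
      (∀ t, t ∈ Set.range (c t).left) ∧
      ∀ t, ∃ r : V t ⟶ MonoidalCategoryStruct.tensorObj G X, r ≫ CartesianMonoidalCategory.snd G X = c t ≫ x ∧
        r ≫ a.act = c t ≫ y := by
  obtain ⟨w, hiso⟩ := hq
  haveI := hiso
  let ρ := fun V : Over S => QuotSh.repIsoUliftYoneda Scheme.fppfPrecoverage V
  let s := a.act
  let t := CartesianMonoidalCategory.snd G X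
  have hd : qπ s t ≫ QuotSh.quotDesc Scheme.fppfPrecoverage q w ≫ (ρ Y).hom =
      (AlgSp.yon S).map q := by
    simp only [qπ, QuotSh.quotDesc, QuotSh.quotπ, Category.assoc, coequalizer.π_desc_assoc]
    rw [Iso.inv_comp_eq]
    exact repIso_naturality q
  have hab : (AlgSp.yon S).map x ≫ qπ s t = (AlgSp.yon S).map y ≫ qπ s t := by
    rw [← cancel_mono (QuotSh.quotDesc Scheme.fppfPrecoverage q w ≫ (ρ Y).hom), Category.assoc, Category.assoc, hd,
      ← Functor.map_comp, ← Functor.map_comp, hxy]
  have hx : (AlgSp.yon S).map s ≫ toQuotSh s t = (AlgSp.yon S).map t ≫ toQuotSh s t := by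
    apply yEq.injective
    rw [yEq_map, yEq_map]
    have e : yEq (toQuotSh s t) = (toSheafify (AlgSp.J S) (quotPsh s t)).app (op X) (Quot.mk _ ⟨𝟙 X⟩) := rfl
    rw [e, ← NatTrans.naturality_apply, ← NatTrans.naturality_apply]
    refine congrArg _ (Quot.sound ?_).symm
    exact ⟨𝟙 _, by simp, by simp⟩
  let D := coequalizer.desc (f := QuotSh.repMap Scheme.fppfPrecoverage s) (g := QuotSh.repMap Scheme.fppfPrecoverage t)
    ((QuotSh.repIsoUliftYoneda Scheme.fppfPrecoverage X).hom ≫ toQuotSh s t) (by
      rw [← Category.assoc, repIso_naturality, ← Category.assoc, repIso_naturality, Category.assoc,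
        Category.assoc, hx])
  have hD : qπ s t ≫ D = toQuotSh s t := by
    rw [qπ, Category.assoc]
    erw [coequalizer.π_desc]
    rw [Iso.inv_hom_id_assoc]
  have hab' : (AlgSp.yon S).map x ≫ toQuotSh s t = (AlgSp.yon S).map y ≫ toQuotSh s t := by
    rw [← hD, ← Category.assoc, hab, Category.assoc]
  have happ : ∀ c : T ⟶ X, yEq ((AlgSp.yon S).map c ≫ toQuotSh s t) =
      (toSheafify (AlgSp.J S) (quotPsh s t)).app (op T) (Quot.mk _ ⟨c⟩) := fun c => by
    rw [yEq_map]
    have e : yEq (toQuotSh s t) = (toSheafify (AlgSp.J S) (quotPsh s t)).app (op X) (Quot.mk _ ⟨𝟙 X⟩) := rfl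
    rw [e, ← NatTrans.naturality_apply]
    exact congrArg _ (congrArg (Quot.mk _) (ULift.ext _ _ (Category.comp_id c)))
  have hsieve : Presheaf.equalizerSieve (F := quotPsh s t) (X := op T) (Quot.mk _ ⟨x⟩) (Quot.mk _ ⟨y⟩) ∈
      AlgSp.J S T := by
    refine Presheaf.equalizerSieve_mem (AlgSp.J S) (toSheafify (AlgSp.J S) (quotPsh s t)) _ _ ?_
    rw [← happ, ← happ, hab']
  obtain ⟨V, c, hc, hcf, hcp, hcs⟩ := exists_family_of_mem hsieve
  refine ⟨V, c, hcf, hcp, hcs, fun i => ?_⟩
  have h1 : Quot.mk (Rel s t (V i)) ⟨c i ≫ x⟩ = Quot.mk _ ⟨c i ≫ y⟩ := hc i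
  exact Quot.eqvGen_exact h1 |> (rel_equivalence (V i)).eqvGen_iff.1

/-- Functions as morphisms to the affine line. -/
noncomputable def fn (Z : Scheme.{u}) : (Z ⟶ Spec (CommRingCat.of (MvPolynomial PUnit.{u + 1} (ULift.{u} ℤ)))) ≃ Γ(Z, ⊤) :=
  (AffineSpace.toSpecMvPolyIntEquiv PUnit.{u + 1}).trans (Equiv.funUnique PUnit.{u + 1} _)

theorem fn_comp {Z W : Scheme.{u}} (f : Z ⟶ W) (g) : fn Z (f ≫ g) = f.appTop (fn W g) := rfl

theorem isUnivSubmersive (hq : QuotSh.IsQuotient Scheme.fppfPrecoverage a.act (CartesianMonoidalCategory.snd G X) q) :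
    GIT.IsUnivSubmersive q.left := by
  obtain ⟨T, c, l, h₁, h₂, h₃, hl⟩ := exists_cover hq
  intro X' Y' i₁ i₂ f' sq
  haveI := h₁; haveI := h₂; haveI := h₃
  let m : pullback c.left i₂ ⟶ X' := sq.lift (pullback.snd _ _) (pullback.fst _ _ ≫ l.left) (by
    rw [Category.assoc, ← Over.comp_left, hl]; exact pullback.condition.symm)
  have hm : m ≫ f' = pullback.snd _ _ := sq.lift_fst _ _ _
  have hop : IsOpenMap (pullback.snd c.left i₂) := (pullback.snd c.left i₂).isOpenMap
  have hqm : Topology.IsQuotientMap (m ≫ f' : _ ⟶ Y') := by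
    rw [hm]
    exact hop.isQuotientMap (pullback.snd c.left i₂).continuous (pullback.snd c.left i₂).surjective
  rw [Scheme.Hom.comp_base, TopCat.coe_comp] at hqm
  exact Topology.IsQuotientMap.of_comp m.continuous f'.continuous hqm

/-- Let S be a scheme, G a group scheme over S acting through σ : G ×_S X → X on an S-scheme X, and q :
X → Y an S-morphism which is an fppf quotient of X by G: q coequalises σ and the second projection
and the induced map from the quotient sheaf G\X (coequalizer of the two maps h_{G × X} ⇉ h_X of fppf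
sheaves of sets on schemes over S) to h_Y is an isomorphism. Then q is also a geometric quotient: q
is invariant and surjective, the map G ×_S X → X ×_Y X is surjective, q is universally submersive,
and for every open U of Y the sections of O_Y over U map injectively onto the G-invariant sections
of O_X over q⁻¹U. No freeness of the action is assumed. -/
theorem result {S : Scheme.{u}} (G X Y : Over S) [GrpObj G]
    (a : AlgGrp.Action G X) (q : X ⟶ Y)
    (hq : QuotSh.IsQuotient Scheme.fppfPrecoverage a.act (snd G X) q) :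
    GIT.IsGeomQuot a q := by
  classical
  have w : a.act ≫ q = CartesianMonoidalCategory.snd G X ≫ q := hq.choose
  obtain ⟨T, c, l, hcf, hcp, hcs, hl⟩ := exists_cover hq
  haveI := hcf; haveI := hcp; haveI := hcs
  refine ⟨w, fun y => ?_, fun z => ?_, isUnivSubmersive hq, fun U => ?_⟩
  · obtain ⟨t, rfl⟩ := c.left.surjective y
    exact ⟨l.left t, by rw [← Scheme.Hom.comp_apply, ← Over.comp_left, hl]⟩
  · let P := pullback q.left q.left
    let i := P.fromSpecResidueField z
    let Z : Over S := Over.mk (i ≫ pullback.fst q.left q.left ≫ X.hom)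
    let x₁ : Z ⟶ X := Over.homMk (i ≫ pullback.fst q.left q.left) (Category.assoc _ _ _)
    let x₂ : Z ⟶ X := Over.homMk (i ≫ pullback.snd q.left q.left) (by
      show (i ≫ pullback.snd _ _) ≫ X.hom = i ≫ pullback.fst _ _ ≫ X.hom
      rw [← Over.w q, Category.assoc, pullback.condition_assoc])
    obtain ⟨V, b, -, -, hbs, hr⟩ := exists_related hq x₂ x₁ (Over.OverMorphism.ext (by
      show (i ≫ pullback.snd q.left q.left) ≫ q.left = (i ≫ pullback.fst q.left q.left) ≫ q.left
      rw [Category.assoc, Category.assoc, pullback.condition]))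
    obtain ⟨v, hv⟩ := hbs (IsLocalRing.closedPoint _)
    obtain ⟨r, hr₁, hr₂⟩ := hr (IsLocalRing.closedPoint _)
    refine ⟨r.left v, ?_⟩
    have e : r.left ≫ GIT.PsiY a q w = (b (IsLocalRing.closedPoint _)).left ≫ i := by
      refine pullback.hom_ext ?_ ?_
      · rw [GIT.PsiY, Category.assoc, pullback.lift_fst, Category.assoc]
        exact congrArg Over.Hom.left hr₂
      · rw [GIT.PsiY, Category.assoc, pullback.lift_snd, Category.assoc]
        exact congrArg Over.Hom.left hr₁
    rw [← Scheme.Hom.comp_apply, e, Scheme.Hom.comp_apply]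
    exact Scheme.fromSpecResidueField_apply _ _
  · let XU := q.left ⁻¹ᵁ U
    let qU : XU.toScheme ⟶ U.toScheme := q.left.resLE U XU le_rfl
    let TU := c.left ⁻¹ᵁ U
    let pU : TU.toScheme ⟶ U.toScheme := c.left ∣_ U
    haveI : Flat pU := IsZariskiLocalAtTarget.restrict hcf U
    haveI : LocallyOfFinitePresentation pU := IsZariskiLocalAtTarget.restrict hcp U
    haveI : Surjective pU := IsZariskiLocalAtTarget.restrict hcs U
    have hTU : TU ≤ l.left ⁻¹ᵁ XU := by
      show TU ≤ (l.left ≫ q.left) ⁻¹ᵁ U
      rw [← Over.comp_left, hl]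
    let lU : TU.toScheme ⟶ XU.toScheme := l.left.resLE XU TU hTU
    have hlU : lU ≫ qU = pU := by
      rw [← cancel_mono U.ι, morphismRestrict_ι, Category.assoc, Scheme.Hom.resLE_comp_ι, Scheme.Hom.resLE_comp_ι_assoc,
        ← Over.comp_left, hl]
    haveI : Epi pU := Flat.epi_of_flat_of_surjective pU
    have happ : ∀ u : Γ(Y.left, U), qU.appTop (U.topIso.inv u) = XU.topIso.inv (q.left.app U u) := fun u => by
      show (qU.app ⊤) (U.topIso.inv u) = _
      rw [Scheme.Hom.resLE_app_top, ← ConcreteCategory.comp_apply, Iso.inv_hom_id_assoc,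
        Scheme.Hom.app_eq_appLE]
      rfl
    refine ⟨fun u u' h => ?_, Set.ext fun f => ⟨?_, fun hf => ?_⟩⟩
    · have h' : (qU ≫ (fn _).symm (U.topIso.inv u)) = qU ≫ (fn _).symm (U.topIso.inv u') := by
        apply (fn _).injective
        rw [fn_comp, fn_comp, Equiv.apply_symm_apply, Equiv.apply_symm_apply, happ, happ, h]
      have h'' : pU ≫ (fn _).symm (U.topIso.inv u) = pU ≫ (fn _).symm (U.topIso.inv u') := by
        rw [← hlU, Category.assoc, Category.assoc, h']
      exact U.topIso.symm.commRingCatIsoToRingEquiv.injective ((fn _).symm.injective ((cancel_epi pU).1 h''))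
    · rintro ⟨u, rfl⟩
      show _ = _
      rw [Scheme.Hom.app_eq_appLE, ← ConcreteCategory.comp_apply, ← ConcreteCategory.comp_apply,
        Scheme.Hom.appLE_comp_appLE, Scheme.Hom.appLE_comp_appLE]
      simp only [GIT.IsInvariant.left w]
    · let fh := (fn XU.toScheme).symm (XU.topIso.inv f)
      let W := a.act.left ⁻¹ᵁ XU ⊓ (CartesianMonoidalCategory.snd G X).left ⁻¹ᵁ XU
      have hinv : a.act.left.resLE XU W inf_le_left ≫ fh =
          (CartesianMonoidalCategory.snd G X).left.resLE XU W inf_le_right ≫ fh := by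
        apply (fn _).injective
        rw [fn_comp, fn_comp, Equiv.apply_symm_apply]
        show ((a.act.left.resLE XU W inf_le_left).app ⊤) (XU.topIso.inv f) =
          (((CartesianMonoidalCategory.snd G X).left.resLE XU W inf_le_right).app ⊤) (XU.topIso.inv f)
        rw [Scheme.Hom.resLE_app_top, Scheme.Hom.resLE_app_top, ← ConcreteCategory.comp_apply,
          ← ConcreteCategory.comp_apply, Iso.inv_hom_id_assoc, Iso.inv_hom_id_assoc]
        exact congrArg (W.topIso.inv) hf
      have key : ∀ {Z : Scheme.{u}} (x y : Z ⟶ XU.toScheme), x ≫ qU = y ≫ qU → x ≫ fh = y ≫ fh := fun {Z} x y hxy => by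
        let Zo : Over S := Over.mk (x ≫ XU.ι ≫ X.hom)
        have hxy' : x ≫ XU.ι ≫ q.left = y ≫ XU.ι ≫ q.left := by
          have := congrArg (· ≫ U.ι) hxy
          simp only [qU, Category.assoc, Scheme.Hom.resLE_comp_ι] at this
          exact this
        let xo : Zo ⟶ X := Over.homMk (x ≫ XU.ι) (Category.assoc _ _ _)
        let yo : Zo ⟶ X := Over.homMk (y ≫ XU.ι) (by
          show (y ≫ XU.ι) ≫ X.hom = x ≫ XU.ι ≫ X.hom
          rw [← Over.w q, Category.assoc, reassoc_of% hxy'])
        obtain ⟨V, b, hbf, hbp, hbs, hr⟩ := exists_related hq xo yo (Over.OverMorphism.ext (by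
          show (x ≫ XU.ι) ≫ q.left = (y ≫ XU.ι) ≫ q.left
          rw [Category.assoc, Category.assoc, hxy']))
        have hloc : ∀ t, (b t).left ≫ x ≫ fh = (b t).left ≫ y ≫ fh := fun t => by
          obtain ⟨r, hr₁, hr₂⟩ := hr t
          have e₁ : r.left ≫ (CartesianMonoidalCategory.snd G X).left = (b t).left ≫ x ≫ XU.ι := congrArg Over.Hom.left hr₁
          have e₂ : r.left ≫ a.act.left = (b t).left ≫ y ≫ XU.ι := congrArg Over.Hom.left hr₂
          have hrW : Set.range r.left ⊆ Set.range W.ι := by
            rintro _ ⟨v, rfl⟩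
            rw [Scheme.Opens.range_ι]
            refine ⟨?_, ?_⟩
            · show (r.left ≫ a.act.left) v ∈ XU
              rw [e₂]
              exact ((((b t).left ≫ y) : _ ⟶ XU.toScheme) v).2
            · show (r.left ≫ (CartesianMonoidalCategory.snd G X).left) v ∈ XU
              rw [e₁]
              exact ((((b t).left ≫ x) : _ ⟶ XU.toScheme) v).2
          let r' := IsOpenImmersion.lift W.ι r.left hrW
          have d₁ : r' ≫ (CartesianMonoidalCategory.snd G X).left.resLE XU W inf_le_right = (b t).left ≫ x := by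
            rw [← cancel_mono XU.ι, Category.assoc, Scheme.Hom.resLE_comp_ι, IsOpenImmersion.lift_fac_assoc, e₁,
              Category.assoc]
          have d₂ : r' ≫ a.act.left.resLE XU W inf_le_left = (b t).left ≫ y := by
            rw [← cancel_mono XU.ι, Category.assoc, Scheme.Hom.resLE_comp_ι, IsOpenImmersion.lift_fac_assoc, e₂,
              Category.assoc]
          rw [← reassoc_of% d₁, ← reassoc_of% d₂, hinv]
        let desc : (∐ fun t => (V t).left) ⟶ Z := Sigma.desc fun t => (b t).left
        haveI : Flat desc := IsZariskiLocalAtSource.sigmaDesc hbf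
        haveI : Surjective desc := ⟨fun t => by
          obtain ⟨v, hv⟩ := hbs t
          exact ⟨(Sigma.ι (fun t => (V t).left) t) v, by rw [← Scheme.Hom.comp_apply, Sigma.ι_desc]; exact hv⟩⟩
        haveI : Epi desc := Flat.epi_of_flat_of_surjective desc
        rw [← cancel_epi desc]
        refine Sigma.hom_ext _ _ fun t => ?_
        rw [Sigma.ι_desc_assoc, Sigma.ι_desc_assoc, hloc]
      let A : Over U.toScheme := Over.mk pU
      let L := Spec (CommRingCat.of (MvPolynomial PUnit.{u + 1} (ULift.{u} ℤ)))
      let C : Over U.toScheme := Over.mk (pullback.snd (terminal.from L) (terminal.from U.toScheme))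
      let px : A ⟶ Over.mk (𝟙 U.toScheme) := Over.homMk pU (Category.comp_id _)
      haveI : Flat px.left := inferInstanceAs (Flat pU)
      haveI : LocallyOfFinitePresentation px.left := inferInstanceAs (LocallyOfFinitePresentation pU)
      haveI : Surjective px.left := inferInstanceAs (Surjective pU)
      let xC : A ⟶ C := Over.homMk (pullback.lift (lU ≫ fh) pU (terminal.hom_ext _ _)) (pullback.lift_snd _ _ _)
      obtain ⟨y, hy⟩ := Groth.Agent.MonoQuot.exists_desc_over px xC fun Z u v huv => by
        refine Over.OverMorphism.ext (pullback.hom_ext ?_ ?_)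
        · show (u.left ≫ xC.left) ≫ pullback.fst _ _ = (v.left ≫ xC.left) ≫ pullback.fst _ _
          simp only [xC, Over.homMk_left, Category.assoc, pullback.lift_fst]
          have := congrArg Over.Hom.left huv
          simp only [Over.comp_left, px, Over.homMk_left] at this
          have h := key (u.left ≫ lU) (v.left ≫ lU) (by rw [Category.assoc, Category.assoc, hlU, this])
          simpa only [Category.assoc] using h
        · show (u.left ≫ xC.left) ≫ C.hom = (v.left ≫ xC.left) ≫ C.hom
          rw [Category.assoc, Category.assoc, Over.w xC]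
          exact (Over.w u).trans (Over.w v).symm
      have hy' : pU ≫ y.left ≫ pullback.fst _ _ = lU ≫ fh := by
        have := congrArg (fun m : A ⟶ C => m.left ≫ pullback.fst _ _) hy
        simpa [xC, px] using this
      let f₀ : U.toScheme ⟶ L := y.left ≫ pullback.fst (terminal.from L) (terminal.from U.toScheme)
      have hf₀ : qU ≫ f₀ = fh := by
        let q₂ := pullback.snd pU qU
        haveI : Flat q₂ := MorphismProperty.pullback_snd (P := @Flat) _ _ ‹_›
        haveI : Surjective q₂ := MorphismProperty.pullback_snd (P := @Surjective) _ _ ‹_›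
        haveI : Epi q₂ := Flat.epi_of_flat_of_surjective q₂
        rw [← cancel_epi q₂, ← key (pullback.fst pU qU ≫ lU) q₂ (by rw [Category.assoc, hlU, pullback.condition]),
          Category.assoc, ← hy', pullback.condition_assoc]
      refine ⟨U.topIso.hom (fn _ f₀), XU.topIso.symm.commRingCatIsoToRingEquiv.injective ?_⟩
      show XU.topIso.inv _ = XU.topIso.inv f
      rw [← happ, show U.topIso.inv (U.topIso.hom (fn _ f₀)) = fn _ f₀ from
        U.topIso.commRingCatIsoToRingEquiv.symm_apply_apply _]
      rw [← fn_comp, hf₀, Equiv.apply_symm_apply]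

end Groth.Agent.S16684
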