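import Groth.Statements.S16687
import Groth.Agent.CubeConsLib.Torsion

set_option autoImplicit false
universe u
open CategoryTheory CategoryTheory.Limits MonoidalCategory CartesianMonoidalCategory MonObj GrpObj AlgebraicGeometry
open AbVar

namespace Groth.Agent.S16687

/-- Let X be an abelian variety over a field k (a proper, geometrically integral k-group scheme) with
group law m : X ×_k X → X and projections p₁, p₂, let L be an invertible O_X-module, and let n ≥ 2
be an integer such that n^*L ≅ L^{⊗ n}, where n : X → X is multiplication by n (the n-th power of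
the identity in the group of endomorphisms). Then the class of L lies in Pic⁰_{X/k}, i.e. the
Mumford module of L is trivial: m^*L ≅ p₁^*L ⊗ p₂^*L (existence of an isomorphism of modules on X
×_k X). (The published statement allows any integer n other than 0 and 1, negative n included; this
row takes n a natural number with n ≥ 2. The converse implication also holds; this row is the
direction from one such n.) -/
theorem result (k : Type u) [Field k]
    (X : Over (Spec (CommRingCat.of k))) [GrpObj X] [IsProper X.hom] [GeometricallyIntegral X.hom]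
    (L : X.left.Modules) (hL : PicF.IsInvertible L) (n : ℕ) (hn : 2 ≤ n)
    (h : Nonempty ((Scheme.Modules.pullback (𝟙 X ^ n).left).obj L ≅ CohB1.tensorPow L n)) :
    Nonempty ((Scheme.Modules.pullback μ[X].left).obj L ≅
      CohB1.tensorMod ((Scheme.Modules.pullback (fst X X).left).obj L)
        ((Scheme.Modules.pullback (snd X X).left).obj L)) := by
  have : LocallyOfFinitePresentation X.hom := LocallyOfFinitePresentation.iff_locallyOfFiniteType.2 inferInstance
  haveI : IsCommMonObj X := CubeConsLib.isCommMonObj_field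
  letI : CommGroup (X ⊗ X ⟶ X) := Hom.commGroup
  have e : CubeConsLib.P hL (𝟙 X ^ n) = (n : ℤ) • CubeConsLib.clA hL := by
    rw [natCast_zsmul, ← CubeConsLib.clA_pow hL, CubeConsLib.P_eq, CubeConsLib.clA_eq_iff]
    exact h
  obtain ⟨b, hb⟩ : ∃ b : ℕ, (n : ℤ) * (n - 1) = 2 * b := by
    obtain ⟨t, ht⟩ : 2 ∣ n * (n - 1) := (Nat.even_mul_pred_self n).two_dvd
    exact ⟨t, by rw [show ((n : ℤ) - 1) = ((n - 1 : ℕ) : ℤ) by omega]; exact_mod_cast ht⟩
  have h0 : (b : ℤ) • (CubeConsLib.clA hL + CubeConsLib.P hL (𝟙 X)⁻¹) = 0 := by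
    have hf := CubeConsLib.zpow_formula hL (𝟙 X) (n : ℤ)
    rw [zpow_natCast, e, CubeConsLib.P_zero hL, smul_zero, add_zero, CubeConsLib.P_id, hb,
      show (n : ℤ) * ((n : ℤ) + 1) = 2 * ((b : ℤ) + n) by rw [mul_add 2, ← hb]; ring,
      Int.mul_ediv_cancel_left _ two_ne_zero, Int.mul_ediv_cancel_left _ two_ne_zero, add_smul] at hf
    have h1 : (b : ℤ) • CubeConsLib.clA hL + (b : ℤ) • CubeConsLib.P hL (𝟙 X)⁻¹ + (n : ℤ) • CubeConsLib.clA hL =
        (n : ℤ) • CubeConsLib.clA hL := by
      conv_rhs => rw [hf]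
      abel
    rw [smul_add]
    exact add_eq_right.1 h1
  have h1 : ∀ f : X ⊗ X ⟶ X, (b : ℤ) • (CubeConsLib.P hL f + CubeConsLib.P hL f⁻¹) = 0 := fun f => by
    have := congrArg (CubeConsLib.pullA f.left) h0
    rwa [map_zsmul, map_add, map_zero, ← CubeConsLib.P_id hL, CubeConsLib.pullA_P, CubeConsLib.pullA_P,
      Category.comp_id, GrpObj.comp_inv, Category.comp_id] at this
  have hpos : 1 ≤ b + b := by
    have h2 : (2 : ℤ) * 1 ≤ n * (n - 1) := mul_le_mul (by omega) (by omega) (by omega) (by omega)
    omega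
  have hadd := CubeConsLib.isAdditive_of_torsion hL hpos (by
    have h2 : (b : ℤ) • (CubeConsLib.lam hL (fst X X) (snd X X) + CubeConsLib.lam hL (fst X X)⁻¹ (snd X X)⁻¹) = 0 := by
      have e1 := h1 (fst X X * snd X X)
      rw [_root_.mul_inv, smul_add] at e1
      have e2 := h1 (fst X X)
      have e3 := h1 (snd X X)
      rw [smul_add] at e2 e3
      simp only [CubeConsLib.lam, smul_add, smul_sub]
      rw [eq_neg_of_add_eq_zero_left e1, eq_neg_of_add_eq_zero_left e2, eq_neg_of_add_eq_zero_left e3]
      abel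
    rw [CubeConsLib.lam_inv_inv hL, natCast_zsmul, smul_add] at h2
    rw [add_smul]
    exact h2)
  have g1 : PicF.IsInvertible ((Scheme.Modules.pullback (fst X X).left).obj L) := AmpleDevLib.isInvertible_pb _ hL
  have g2 : PicF.IsInvertible ((Scheme.Modules.pullback (snd X X).left).obj L) := AmpleDevLib.isInvertible_pb _ hL
  have hm : μ[X] = fst X X * snd X X := MonObj.mul_eq_mul X
  rw [← CubeConsLib.clA_eq_iff (AmpleDevLib.isInvertible_pb _ hL) (HilbPolyLib.isInvertible_tensor g1 g2),
    CubeConsLib.clA_tensor g1 g2, ← CubeConsLib.pullA_clA _ hL, ← CubeConsLib.pullA_clA _ hL,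
    ← CubeConsLib.pullA_clA _ hL, hm]
  exact hadd

end Groth.Agent.S16687
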