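import Groth.Statements.S1669
import Groth.Agent.GeomRegInsepLib.Chart
import Groth.Agent.GeomRegInsepLib.Ring

set_option autoImplicit false
universe u
open CategoryTheory CategoryTheory.Limits AlgebraicGeometry
open Variety

namespace Groth.Agent.S1669

open AlgebraicGeometry CategoryTheory TensorProduct

/-- Let X be a locally Noetherian scheme over k such that X_{k'} has regular local rings for every
finite purely inseparable extension k' of k. Then X is geometrically regular over k at every point
(its base change to any finitely generated field extension has regular local rings). -/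
theorem result (k : Type u) [Field k] (X : Scheme.{u}) [X.Over (Spec (CommRingCat.of k))] [IsLocallyNoetherian X]
    (h : ∀ (k' : Type u) [Field k'] [Algebra k k'] [FiniteDimensional k k'] [IsPurelyInseparable k k']
      (x' : Curv2.bc k X k'), IsRegularLocalRing ((Curv2.bc k X k').presheaf.stalk x'))
    (x : X) : Curv2.IsGeomRegularAt k X x := by
  classical
  intro K _ _ hK x' hx'
  obtain ⟨_, ⟨V, hV, rfl⟩, hxV, -⟩ :=
    X.isBasis_affineOpens.exists_subset_of_mem_open (Set.mem_univ x) isOpen_univ
  let f : X ⟶ Spec (CommRingCat.of k) := X ↘ Spec (CommRingCat.of k)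
  letI : Algebra k Γ(X, V) := (Spec.preimage (hV.fromSpec ≫ f)).hom.toAlgebra
  haveI : IsNoetherianRing Γ(X, V) := IsLocallyNoetherian.component_noetherian ⟨V, hV⟩
  haveI : Algebra.EssFiniteType k K := IntermediateField.fg_top_iff.1 hK
  have hreg : IsRegularRing (K ⊗[k] Γ(X, V)) := GeomRegInsepLib.isRegularRing_tensor _ (fun k' _ _ _ _ => by
    haveI : IsNoetherianRing (Γ(X, V) ⊗[k] k') := IsNoetherianRing.of_finite Γ(X, V) _
    haveI : IsNoetherianRing (k' ⊗[k] Γ(X, V)) :=
      isNoetherianRing_of_ringEquiv _ (Algebra.TensorProduct.comm k Γ(X, V) k').toRingEquiv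
    obtain ⟨θ, hθ, -⟩ := GeomRegInsepLib.exists_chart f V hV k'
    haveI := hθ
    refine isRegularRing_iff.2 fun p hp => ?_
    obtain ⟨e⟩ := GeomRegInsepLib.nonempty_stalk_equiv θ ⟨p, hp⟩
    haveI : IsRegularLocalRing ((Curv2.bc k X k').presheaf.stalk (θ ⟨p, hp⟩)) := h k' _
    exact IsRegularLocalRing.of_ringEquiv e) K
  haveI := hreg
  obtain ⟨θ, hθ, hrange⟩ := GeomRegInsepLib.exists_chart f V hV K
  haveI := hθ
  obtain ⟨z, rfl⟩ : x' ∈ Set.range θ := by
    rw [hrange]
    show Curv2.bcFst k X K x' ∈ V
    rw [hx']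
    exact hxV
  obtain ⟨e⟩ := GeomRegInsepLib.nonempty_stalk_equiv θ z
  haveI := (isRegularRing_iff.1 hreg) z.asIdeal
  exact IsRegularLocalRing.of_ringEquiv e.symm

end Groth.Agent.S1669
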