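import Groth.Statements.S16690
import Mathlib
import Groth.Agent.ComodLib.HomRep
import Groth.Agent.ComodLib.Slices
-- import your own Groth.Agent.* helpers here

set_option autoImplicit false
universe u v w
open ComodSub

open scoped TensorProduct
namespace Groth.Agent.S16690

/-- Let `k` be a commutative ring, `A` a `k`-coalgebra that is flat over `k`, and `M` a finitely
presented `k`-module with a right `A`-comodule structure `m ↦ Σ m₀ ⊗ m₁`. Then the dual module `M^*
= Hom(M, k)` carries a left `A`-comodule structure whose coaction sends a form `g` to the element of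
`A ⊗ M^*` that reads, through `a ⊗ φ ↦ (m ↦ φ(m) a)`, as the map `m ↦ Σ g(m₀) m₁` (the left dual of
the given structure). (The published statement takes coalgebras to be commutative algebras whose
comultiplication and counit are algebra maps; the construction uses no multiplication on `A`, so
here `A` is any flat coalgebra.) -/
theorem result (k : Type u) [CommRing k]
    (A : Type v) [AddCommGroup A] [Module k A] [Coalgebra k A] [Module.Flat k A]
    (M : Type w) [AddCommGroup M] [Module k M] [Module.FinitePresentation k M]
    (c : HopfRep.Comod k A M) :
    ∃ l : ComodSub.LComod k A (Module.Dual k M), ComodSub.LComod.IsLDual c l := by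
  classical
  have hbij : Function.Bijective (dualTensorHom k M A) :=
    ⟨ComodLib.dualTensorHom_injective_of_flat, ComodLib.dualTensorHom_surjective_of_flat⟩
  let E := LinearEquiv.ofBijective (dualTensorHom k M A) hbij
  let L : Module.Dual k M →ₗ[k] (M →ₗ[k] A) :=
    { toFun := fun g => ComodSub.ldualFun c g
      map_add' := fun g g' => by simp [ComodSub.ldualFun, LinearMap.rTensor_add, LinearMap.comp_add, LinearMap.add_comp]
      map_smul' := fun r g => by simp [ComodSub.ldualFun, LinearMap.rTensor_smul, LinearMap.comp_smul, LinearMap.smul_comp] }
  let Rd : A ⊗[k] Module.Dual k M →ₗ[k] (M →ₗ[k] A) :=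
    dualTensorHom k M A ∘ₗ (TensorProduct.comm k A (Module.Dual k M)).toLinearMap
  let l : Module.Dual k M →ₗ[k] A ⊗[k] Module.Dual k M :=
    (TensorProduct.comm k (Module.Dual k M) A).toLinearMap ∘ₗ E.symm.toLinearMap ∘ₗ L
  have hl : ∀ g m, Rd (l g) m = ComodLib.sliceL g (c.coact m) := fun g m => by
    have h : Rd (l g) = L g := by
      show dualTensorHom k M A (TensorProduct.comm k A (Module.Dual k M)
        (TensorProduct.comm k (Module.Dual k M) A (E.symm (L g)))) = L g
      rw [← LinearEquiv.trans_apply, show (TensorProduct.comm k (Module.Dual k M) A).trans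
          (TensorProduct.comm k A (Module.Dual k M)) = LinearEquiv.refl k _ from
            LinearEquiv.toLinearMap_injective (TensorProduct.ext' fun x y => by simp)]
      exact E.apply_symm_apply (L g)
    rw [h]; rfl
  let R2 : A ⊗[k] (A ⊗[k] Module.Dual k M) →ₗ[k] (M →ₗ[k] A ⊗[k] A) :=
    dualTensorHom k M (A ⊗[k] A) ∘ₗ (TensorProduct.comm k (A ⊗[k] A) (Module.Dual k M)).toLinearMap ∘ₗ
      (TensorProduct.assoc k A A (Module.Dual k M)).symm.toLinearMap
  have hR2 : Function.Injective R2 := by
    intro x y h
    exact (TensorProduct.assoc k A A (Module.Dual k M)).symm.injective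
      ((TensorProduct.comm k (A ⊗[k] A) (Module.Dual k M)).injective
        ((ComodLib.dualTensorHom_injective_of_flat (k := k) (M := M) (N := A ⊗[k] A)) h))
  refine ⟨⟨l, LinearMap.ext fun g => hR2 (LinearMap.ext fun m => ?_), LinearMap.ext fun g => ?_⟩, fun g => ?_⟩
  · have e1 : ∀ y : A ⊗[k] Module.Dual k M, R2 (l.lTensor A y) m =
        (Rd y).rTensor A (c.coact m) := fun y => by
      induction y with
      | zero => simp [LinearMap.rTensor_zero]
      | add p q hp hq => simp only [map_add, LinearMap.add_apply, LinearMap.rTensor_add, hp, hq]
      | tmul a φ =>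
        rw [LinearMap.lTensor_tmul]
        have e2 : ∀ z : A ⊗[k] Module.Dual k M, R2 (a ⊗ₜ[k] z) m = a ⊗ₜ[k] Rd z m := fun z => by
          induction z with
          | zero => simp
          | add p q hp hq => simp only [TensorProduct.tmul_add, map_add, LinearMap.add_apply, hp, hq]
          | tmul b ψ => simp [R2, Rd, TensorProduct.tmul_smul]
        rw [e2, hl]
        generalize c.coact m = z
        induction z with
        | zero => simp
        | add p q hp hq => simp only [TensorProduct.tmul_add, map_add, hp, hq]
        | tmul p q => simp [Rd, ← TensorProduct.smul_tmul']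
    have e3 : ∀ y : A ⊗[k] Module.Dual k M, R2 ((TensorProduct.assoc k A A (Module.Dual k M))
        ((CoalgebraStruct.comul (R := k) (A := A)).rTensor (Module.Dual k M) y)) m =
        CoalgebraStruct.comul (R := k) (Rd y m) := fun y => by
      induction y with
      | zero => simp
      | add p q hp hq => simp only [map_add, LinearMap.add_apply, hp, hq]
      | tmul a φ =>
        rw [LinearMap.rTensor_tmul]
        show dualTensorHom k M (A ⊗[k] A) (TensorProduct.comm k (A ⊗[k] A) (Module.Dual k M)
          ((TensorProduct.assoc k A A (Module.Dual k M)).symm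
            (TensorProduct.assoc k A A (Module.Dual k M) (CoalgebraStruct.comul (R := k) a ⊗ₜ[k] φ)))) m = _
        rw [LinearEquiv.symm_apply_apply]
        simp [Rd]
    simp only [LinearMap.comp_apply, LinearEquiv.coe_coe]
    rw [e1, e3, hl, show Rd (l g) = ComodLib.sliceL g ∘ₗ c.coact from LinearMap.ext (hl g),
      LinearMap.rTensor_comp_apply, ← ComodLib.sliceL_lTensor]
    have h := LinearMap.congr_fun c.coassoc m
    simp only [LinearMap.comp_apply, LinearEquiv.coe_coe] at h
    rw [← h]
    generalize c.coact.rTensor A (c.coact m) = y
    induction y with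
    | zero => simp
    | add p q hp hq => simp only [map_add, hp, hq]
    | tmul z q =>
      rw [LinearMap.rTensor_tmul]
      induction z with
      | zero => simp
      | add p q' hp hq => simp only [TensorProduct.add_tmul, map_add, hp, hq]
      | tmul p r => simp [TensorProduct.smul_tmul']
  · apply (TensorProduct.lid k (Module.Dual k M)).injective
    refine LinearMap.ext fun m => ?_
    simp only [LinearMap.comp_apply]
    have e : ∀ y : A ⊗[k] Module.Dual k M, TensorProduct.lid k (Module.Dual k M)
        ((CoalgebraStruct.counit (R := k) (A := A)).rTensor (Module.Dual k M) y) m =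
        CoalgebraStruct.counit (R := k) (Rd y m) := fun y => by
      induction y with
      | zero => simp
      | add p q hp hq => simp only [map_add, LinearMap.add_apply, hp, hq]
      | tmul a φ => simp [Rd, mul_comm]
    rw [e, hl, TensorProduct.mk_apply, TensorProduct.lid_tmul, one_smul]
    have h : g (ComodLib.slice (CoalgebraStruct.counit (R := k) (A := A)) (c.coact m)) = g m := by
      have h' := congrArg (TensorProduct.rid k M) (LinearMap.congr_fun c.counit_comp m)
      simp only [LinearMap.comp_apply, LinearMap.flip_apply, TensorProduct.mk_apply, TensorProduct.rid_tmul, one_smul] at h'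
      exact congrArg g h'
    rw [← h, ComodLib.apply_slice]
  · exact LinearMap.ext fun m => hl g m

end Groth.Agent.S16690
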