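import Groth.Statements.S16699
import Groth.Agent.AlgStLib.LocQ6

set_option autoImplicit false
set_option backward.isDefEq.respectTransparency false
set_option backward.isDefEq.respectTransparency.types false
universe u
open AlgSt AlgSt.IsWellNighAffine

namespace Groth.Agent.S16699

open CategoryTheory AlgebraicGeometry in
/-- An algebraic stack affine over a well-nigh affine algebraic stack is well-nigh affine. -/
theorem result (S : Scheme.{u}) (𝒳 𝒳' : AlgSt.Cat S)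
    (h𝒳 : AlgSt.IsAlgStack Scheme.fppfPrecoverage 𝒳) (h𝒳' : AlgSt.IsAlgStack Scheme.fppfPrecoverage 𝒳')
    (hw : AlgSt.IsWellNighAffine 𝒳) (f : 𝒳' ⥤ᵇ 𝒳) (hf : AlgSt.RepByAlgSpWith AlgSp.IsAffineMor f) :
    AlgSt.IsWellNighAffine 𝒳' := by
  haveI := AlgStLib.isFibGrpd_of_isAlgStack h𝒳
  haveI := AlgStLib.isFibGrpd_of_isAlgStack h𝒳'
  obtain ⟨U, x, hU, hx⟩ := hw
  let u := BasedFunctor.comp (AlgSt.toOverCat U) x
  obtain ⟨H, a, hH, ⟨e, he, -⟩, ha⟩ := (AlgStLib.repByAlgSpWith_iff _ _).mp hf U u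
  obtain ⟨W, i, fst, sq, hW, -⟩ : ∃ (W : Over S) (i : W ⟶ U) (fst : (AlgSp.yon S).obj W ⟶ H),
      IsPullback fst ((AlgSp.yon S).map i) a (𝟙 _) ∧ IsAffine W.left ∧ True := by
    obtain ⟨W, i, fst, sq, hW⟩ := ha hU (𝟙 _)
    exact ⟨W, i, fst, sq, hW, trivial⟩
  haveI := sq.isIso_fst_of_isIso
  let E := BasedFunctor.comp (AlgSt.ofOverCat W) (BasedFunctor.comp (Stk.ofPshMap fst.hom) e)
  have hE : FibCat.IsEquivOver E := FibLib.isEquivOver_comp (AlgStLib.isEquivOver_ofOverCat W)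
    (FibLib.isEquivOver_comp (AlgStLib.isEquivOver_ofPshMap ((sheafToPresheaf _ _).mapIso (asIso fst))) he)
  refine ⟨W, BasedFunctor.comp E (FibCat.fpSnd u f), hW, ?_⟩
  exact (AlgStLib.repByAlgSpWith_square_iff (f := FibCat.fpSnd u f) (f' := BasedFunctor.comp E (FibCat.fpSnd u f))
    (a := E) (b := BasedFunctor.id _) hE (FibLib.isEquivOver_id _) (Iso.refl _) _).mp
    (AlgStLib.repByAlgSpWith_fpSnd f (AlgStLib.repByAlgSpWith_toOverCat_comp hx))

end Groth.Agent.S16699
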