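import Groth.Statements.S16707
import Mathlib.RingTheory.Flat.Equalizer
import Mathlib.LinearAlgebra.TensorProduct.Quotient

set_option autoImplicit false
universe u v
open CAlg

namespace Groth.Agent.S16707

open TensorProduct in
/-- Let A be a commutative ring, I a nilpotent ideal of A and f : M → N a homomorphism of A-modules with
N flat over A (no finiteness assumption on M or N). If the base change of f to A/I, that is M/IM →
N/IN, is bijective, then f is bijective. -/
theorem result (A : Type u) [CommRing A] (I : Ideal A)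
    (hI : IsNilpotent I) (M N : Type v) [AddCommGroup M] [Module A M] [AddCommGroup N] [Module A N]
    [Module.Flat A N] (f : M →ₗ[A] N)
    (hf : Function.Bijective (f.baseChange (A ⧸ I))) :
    Function.Bijective f := by
  classical
  obtain ⟨n, hn⟩ := hI
  have nak : ∀ {P : Type v} [AddCommGroup P] [Module A P] (S : Submodule A P), ⊤ ≤ S ⊔ I • ⊤ → S = ⊤ := by
    intro P _ _ S h
    have hk : ∀ k : ℕ, ⊤ ≤ S ⊔ (I ^ k) • (⊤ : Submodule A P) := by
      intro k
      induction k with
      | zero => rw [pow_zero, Ideal.one_eq_top, Submodule.top_smul]; exact le_sup_right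
      | succ k ih =>
        refine ih.trans (sup_le le_sup_left ?_)
        calc I ^ k • (⊤ : Submodule A P) ≤ I ^ k • (S ⊔ I • ⊤) := Submodule.smul_mono le_rfl h
          _ = I ^ k • S ⊔ I ^ (k + 1) • ⊤ := by rw [Submodule.smul_sup, pow_succ, Submodule.mul_smul]
          _ ≤ _ := sup_le_sup_right Submodule.smul_le_right _
    have := hk n
    rw [hn, Ideal.zero_eq_bot, Submodule.bot_smul, sup_bot_eq] at this
    exact eq_top_iff.2 this
  have hsurj : Function.Surjective f := by
    rw [← LinearMap.range_eq_top]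
    refine nak _ fun y _ => ?_
    obtain ⟨z, hz⟩ := hf.2 ((1 : A ⧸ I) ⊗ₜ y)
    obtain ⟨m, rfl⟩ := TensorProduct.mk_surjective A M (A ⧸ I) Ideal.Quotient.mk_surjective z
    have h0 : (1 : A ⧸ I) ⊗ₜ[A] (y - f m) = 0 := by
      rw [TensorProduct.tmul_sub, ← hz]
      exact sub_self _
    have h1 := congrArg (TensorProduct.quotTensorEquivQuotSMul N I) h0
    rw [map_zero, show (1 : A ⧸ I) = Ideal.Quotient.mk I 1 from rfl,
      TensorProduct.quotTensorEquivQuotSMul_mk_tmul, one_smul, Submodule.Quotient.mk_eq_zero] at h1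
    refine Submodule.mem_sup.2 ⟨f m, ⟨m, rfl⟩, y - f m, h1, add_sub_cancel _ _⟩
  refine ⟨?_, hsurj⟩
  rw [← LinearMap.ker_eq_bot]
  let K := LinearMap.ker f
  have hinj := LinearMap.lTensor_injective_of_exact_of_flat f hsurj K.subtype K.subtype_injective
    (LinearMap.exact_subtype_ker_map f) (A ⧸ I)
  have hK : ∀ k : K, k ∈ (I • ⊤ : Submodule A K) := fun k => by
    have h0 : (1 : A ⧸ I) ⊗ₜ[A] k = 0 := by
      apply hinj
      rw [map_zero]
      apply hf.1
      rw [map_zero, LinearMap.lTensor_tmul, LinearMap.baseChange_tmul,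
        show f (K.subtype k) = 0 from k.2, TensorProduct.tmul_zero]
    have h1 := congrArg (TensorProduct.quotTensorEquivQuotSMul K I) h0
    rwa [map_zero, show (1 : A ⧸ I) = Ideal.Quotient.mk I 1 from rfl,
      TensorProduct.quotTensorEquivQuotSMul_mk_tmul, one_smul, Submodule.Quotient.mk_eq_zero] at h1
  have hbot : (⊥ : Submodule A K) = ⊤ := nak ⊥ fun k _ => Submodule.mem_sup_right (hK k)
  rw [Submodule.eq_bot_iff]
  intro x hx
  have : (⟨x, hx⟩ : K) ∈ (⊥ : Submodule A K) := hbot ▸ Submodule.mem_top
  exact congrArg Subtype.val ((Submodule.mem_bot A).1 this)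

end Groth.Agent.S16707
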