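import Groth.Statements.S16708
import Groth.Agent.ComodLib.LinRed
import Mathlib


-- import your own Groth.Agent.* helpers here

set_option autoImplicit false
universe u
open HopfRep

namespace Groth.Agent.S16708

/-- Let G be a finite group and k a field in which the order of G is a nonzero element. Then the
constant group scheme of G over k is linearly reductive: every finite-dimensional comodule over its
coordinate Hopf algebra (the algebra of functions G → k with the Hopf structure of the constant
group) is semisimple, i.e. every subcomodule admits a complementary subcomodule. -/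
theorem result (k : Type u) [Field k] (G : Type u) [Group G]
    [Fintype G] [DecidableEq G] (hG : ((Fintype.card G : ℕ) : k) ≠ 0) :
    HopfRep.IsLinearlyReductive k (ConstGrp.F k G) := by
  let c : k := ((Fintype.card G : ℕ) : k)⁻¹
  let α : ConstGrp.F k G →ₗ[k] k := c • ∑ g : G, (ConstGrp.ev k g).toLinearMap
  have hα : ∀ f, α f = c * ∑ g : G, f g := fun f => by
    simp [α, LinearMap.sum_apply, ConstGrp.ev_apply]
  refine ComodLib.isLinearlyReductive_of_invariant (α := α) ?_ ?_
  · intro x
    suffices h : (ComodLib.sliceL α) ∘ₗ (CoalgebraStruct.comul (R := k) (A := ConstGrp.F k G))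
        = α.smulRight (1 : ConstGrp.F k G) from LinearMap.congr_fun h x
    refine ConstGrp.linearMap_ext fun g => ?_
    rw [LinearMap.comp_apply, LinearMap.smulRight_apply]
    have h1 : CoalgebraStruct.comul (R := k) (ConstGrp.e k g)
        = ∑ a : G, ConstGrp.e k a ⊗ₜ[k] ConstGrp.e k (a⁻¹ * g) := ConstGrp.comulAlg_e k G g
    rw [h1, map_sum]
    have h2 : ∀ a : G, α (ConstGrp.e k a) = c := fun a => by
      rw [hα, Finset.sum_eq_single a]
      · rw [ConstGrp.e_apply_self, mul_one]
      · exact fun b _ hb => ConstGrp.e_apply_of_ne hb
      · exact fun h => absurd (Finset.mem_univ a) h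
    simp only [ComodLib.sliceL_tmul, h2]
    rw [← ConstGrp.sum_e, Finset.smul_sum]
    exact Fintype.sum_equiv ((Equiv.inv G).trans (Equiv.mulRight g)) _ _ fun a => rfl
  · rw [hα]
    simp only [ConstGrp.one_apply, Finset.sum_const, Finset.card_univ, nsmul_eq_mul, mul_one]
    exact inv_mul_cancel₀ hG

end Groth.Agent.S16708
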