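import Groth.Statements.S16709
import Groth.Agent.ComodLib.LinRed
-- import your own Groth.Agent.* helpers here

set_option autoImplicit false
universe u v
open HopfRep

namespace Groth.Agent.S16709

open TensorProduct in
/-- The equivalence of complete reducibility of finite-dimensional representations with the
invariant-section criterion. Let k be a field and A a finitely generated commutative Hopf algebra
over k, the coordinate ring of an affine algebraic group G. Then G is linearly reductive (every
finite-dimensional A-comodule is semisimple) if and only if for every finite-dimensional A-comodule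
V and every surjective k-linear map π : V → k which is a comodule map to the trivial comodule (that
is, (π ⊗ id) ∘ ρ_V = (c ↦ c ⊗ 1) ∘ π for the coaction ρ_V) there is a fixed vector v of V with π v ≠
0. (The published fourth condition is phrased with all G-fixed points of the projective space of V
and G-invariant linear forms; it fails for a fixed point on which G acts through a non-trivial
character, for instance the multiplicative group acting on a line with weight one, and this row
states the condition in the form the published proof uses: surjections onto the trivial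
one-dimensional comodule.) -/
theorem result (k : Type u) [Field k] (A : Type v)
    [CommRing A] [HopfAlgebra k A] (hA : Algebra.FiniteType k A) :
    HopfRep.IsLinearlyReductive k A ↔
      ∀ (V : Type v) [AddCommGroup V] [Module k V] [HopfRep.Comod k A V], Module.Finite k V →
        ∀ π : V →ₗ[k] k, Function.Surjective π →
          LinearMap.rTensor A π ∘ₗ HopfRep.Comod.coact (k := k) (A := A) (V := V) =
            (TensorProduct.mk k k A).flip (1 : A) ∘ₗ π →
          ∃ v ∈ HopfRep.fixedPts k A V, π v ≠ 0 := by
  constructor
  · intro h V _ _ _ _ π hs hπ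
    obtain ⟨α, hα, h1⟩ := ComodLib.exists_invariant_of_isLinearlyReductive h
    obtain ⟨v, hv⟩ := hs 1
    refine ⟨ComodLib.reynolds V α v, ComodLib.reynolds_mem hα v, ?_⟩
    simp only [ComodLib.reynolds, LinearMap.comp_apply]
    rw [← ComodLib.slice_rTensor]
    have e := LinearMap.congr_fun hπ v
    simp only [LinearMap.comp_apply] at e
    rw [e, hv]
    simp [h1]
  · intro h
    refine ComodLib.isLinearlyReductive_of_lift fun V W _ _ _ _ _ _ _ _ φ hφ hs w hw => ?_
    rcases eq_or_ne w 0 with rfl | h0
    · exact ⟨0, Submodule.zero_mem _, map_zero _⟩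
    let L : Submodule k W := Submodule.span k {w}
    have hL : HopfRep.IsSubcomod (k := k) (A := A) L := by
      intro a ha
      obtain ⟨c, rfl⟩ := Submodule.mem_span_singleton.1 ha
      refine ⟨⟨c • w, Submodule.smul_mem _ _ (Submodule.mem_span_singleton_self w)⟩ ⊗ₜ[k] 1, ?_⟩
      rw [map_smul, show HopfRep.Comod.coact (k := k) (A := A) w = w ⊗ₜ[k] 1 from hw]
      simp [TensorProduct.smul_tmul']
    have hL' := ComodLib.isSubcomod_comap_of_hom hφ hL
    let cL := ComodLib.subComod hL'
    let π : L.comap φ →ₗ[k] k := (LinearEquiv.toSpanNonzeroSingleton k W w h0).symm.toLinearMap ∘ₗ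
      φ.restrict (fun _ hx => hx)
    have hπw : ∀ v : L.comap φ, π v • w = φ v := fun v =>
      congrArg Subtype.val ((LinearEquiv.toSpanNonzeroSingleton k W w h0).apply_symm_apply
        (φ.restrict (fun _ hx => hx) v))
    let j : k →ₗ[k] W := LinearMap.toSpanSingleton k W w
    have hj : j ∘ₗ π = φ ∘ₗ (L.comap φ).subtype := LinearMap.ext hπw
    have hjinj : Function.Injective (j.rTensor A) :=
      Module.Flat.rTensor_preserves_injective_linearMap _ (smul_left_injective k h0)
    obtain ⟨v₀, hv₀⟩ := hs w
    have hv₀L : v₀ ∈ L.comap φ := by
      rw [Submodule.mem_comap, hv₀]; exact Submodule.mem_span_singleton_self w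
    have hsurj : Function.Surjective π := fun c => ⟨c • ⟨v₀, hv₀L⟩, by
      apply smul_left_injective k h0
      show π _ • w = c • w
      rw [hπw, Submodule.coe_smul, map_smul, hv₀]⟩
    obtain ⟨v, hv, hne⟩ := @h (L.comap φ) _ _ cL inferInstance π hsurj (LinearMap.ext fun v => hjinj (by
      simp only [LinearMap.comp_apply, ← LinearMap.rTensor_comp_apply, hj]
      rw [LinearMap.rTensor_comp_apply]
      have e1 : (L.comap φ).subtype.rTensor A (cL.coact v) = HopfRep.Comod.coact (k := k) (A := A) (v : V) :=
        LinearMap.congr_fun (ComodLib.isComodHom_subtype hL').symm v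
      rw [e1, ← show HopfRep.Comod.coact (k := k) (A := A) (φ v) =
        φ.rTensor A (HopfRep.Comod.coact (k := k) (A := A) (v : V)) from LinearMap.congr_fun hφ _, ← hπw]
      simp [j, show HopfRep.Comod.coact (k := k) (A := A) w = w ⊗ₜ[k] 1 from hw,
        TensorProduct.smul_tmul']))
    refine ⟨(π v)⁻¹ • (v : V), Submodule.smul_mem _ _ ?_, ?_⟩
    · show HopfRep.Comod.coact (k := k) (A := A) (v : V) = (v : V) ⊗ₜ[k] 1
      rw [← show (L.comap φ).subtype.rTensor A (cL.coact v) = HopfRep.Comod.coact (k := k) (A := A) (v : V) from
        LinearMap.congr_fun (ComodLib.isComodHom_subtype hL').symm v, show cL.coact v = v ⊗ₜ[k] 1 from hv]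
      rfl
    · rw [map_smul, ← hπw, smul_smul, inv_mul_cancel₀ hne, one_smul]

end Groth.Agent.S16709
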