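import Groth.Statements.S16710
import Mathlib
import Groth.Agent.IntFunLib.StrictNef
import Groth.Agent.MiscFlat6.AmpleGen
import Groth.Agent.MiscFlat6.TensorGG
import Groth.Agent.AmpleThLib.Ample
-- import your own Groth.Agent.* helpers here

set_option autoImplicit false
universe u
open CategoryTheory CategoryTheory.Limits AlgebraicGeometry TopologicalSpace
open Variety

namespace Groth.Agent.S16710

/-- Let X be a proper scheme over a field k and L an invertible O_X-module. Then L is ample if and only
if (i) L is strictly nef, meaning χ(O_C ⊗ L) - χ(O_C) > 0 for every integral closed subscheme C ⊆ X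
of dimension one, and (ii) L is semiample, meaning some positive tensor power of L is generated by
its global sections (is a quotient of a free O_X-module). -/
theorem result (k : Type u) [Field k] (X : Scheme.{u})
    [X.Over (Spec (CommRingCat.of k))] [IsProper (X ↘ (Spec (CommRingCat.of k)))]
    (L : X.Modules) (hL : PicF.IsInvertible L) :
    CohB1.IsAmple L ↔
      ((∀ C : X.IdealSheafData, IsIntegral C.subscheme →
          topologicalKrullDim (C.support : Set X) = 1 →
            0 < Curv2.euler k X (CohB1.tensorMod (ClSub.quotMod C) L) - Curv2.euler k X (ClSub.quotMod C)) ∧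
        ∃ m : ℕ, Curv2.IsGloballyGenerated (CohB1.tensorPow L (m + 1))) := by
  haveI := CurvLib.isNoetherian k (X := X)
  have hnil : ∀ B ∈ ([] : List X.Modules), PicF.IsInvertible B := by simp
  constructor
  · intro hA
    refine ⟨fun C hC hd => ?_, ?_⟩
    · haveI := hC
      change 0 < IntFunLib.cd k L C
      rw [← IntFunLib.N_singleton, IntFunLib.eq_ptIdeal C]
      exact IntFunLib.N_ample_pos (k := k) (d := 1) hA
        ((IntFunLib.dim_generic_of_support C).trans (hd.trans Nat.cast_one.symm))
    · haveI : X.IsSeparated := ⟨by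
        rw [← Limits.terminal.comp_from (X ↘ Spec (CommRingCat.of k))]
        infer_instance⟩
      haveI : CompactSpace X := hA.2.1
      obtain ⟨n₀, hn₀, h⟩ := MiscFlat6.eventually_ample_globallyGenerated hA
        (CurvLib.isInvertible_structureModule (X := X))
      obtain ⟨m, rfl⟩ := Nat.exists_eq_succ_of_ne_zero hn₀.ne'
      refine ⟨m, MiscFlat6.isGloballyGenerated_of_iso ?_ (h _ le_rfl).2⟩
      exact HilbPolyLib.swapIso _ _ ≪≫ HilbPolyLib.unitLeft _
  · rintro ⟨h, m, hgg⟩
    have hM := AmpleThLib.tensorPow_isInvertible hL (m + 1)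
    rw [AmpleThLib.isAmple_tensorPow_iff hL (Nat.succ_pos m), Groth.Agent.S7749.result k X _ hM]
    intro Z _ d hd0 hd P hP
    have hpos := IntFunLib.N_gg_pos (k := k) hM hgg (fun ξ hξ => by
      haveI := IntMultLib.isIntegral_ptIdeal ξ
      rw [IntFunLib.N_pow hnil hL (IntFunLib.coh_Fpt k ξ) (by rw [IntFunLib.supp_Fpt k, hξ]; simp)]
      refine mul_pos (by positivity) ?_
      rw [IntFunLib.N_singleton]
      exact h _ (IntMultLib.isIntegral_ptIdeal ξ) (by rw [IntFunLib.dim_ptIdeal, hξ, Nat.cast_one])) d hd0 _
      ((IntFunLib.dim_generic_of_support Z).trans hd)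
    have hP' : IntMultLib.hilb k (fun _ : Fin d => CohB1.tensorPow L (m + 1)) (ClSub.quotMod Z) =
        IntMultLib.pfun P := by
      funext n
      exact (IntMultLib.hilb_eq _ _ n).trans (hP n)
    change 0 < P.coeff (IntMultLib.oneExp d)
    rw [IntFunLib.coeff_eq_N _ hM Z hd P hP', IntFunLib.eq_ptIdeal Z]
    exact_mod_cast hpos

end Groth.Agent.S16710
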