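import Groth.Statements.S16711
import Mathlib
import Groth.Agent.IntFunLib.StrictNef
import Groth.Agent.SurfNumLib.Basic
import Groth.Agent.S7749
import Groth.Agent.SurfAmpleLib.Main
-- import your own Groth.Agent.* helpers here

set_option autoImplicit false
universe u
open CategoryTheory CategoryTheory.Limits AlgebraicGeometry TopologicalSpace
open Variety

namespace Groth.Agent.S16711

/-- The implication from the fourth condition to ampleness. Fix an algebraically closed field k, a
proper k-scheme X and an invertible O_X-module L. Assume that L is strictly nef, meaning χ(O_C ⊗ L)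
- χ(O_C) > 0 for every integral closed subscheme C ⊆ X of dimension one, and that for every integral
closed subscheme Z ⊆ X some positive tensor power of the pullback L|_Z has a nonzero global section
O_Z → L|_Z^{⊗ m}. Then L is ample. -/
theorem result (k : Type u) [Field k] [IsAlgClosed k]
    (X : Scheme.{u}) [X.Over (Spec (CommRingCat.of k))] [IsProper (X ↘ (Spec (CommRingCat.of k)))]
    (L : X.Modules) (hL : PicF.IsInvertible L)
    (hnef : ∀ C : X.IdealSheafData, IsIntegral C.subscheme →
      topologicalKrullDim (C.support : Set X) = 1 →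
        0 < Curv2.euler k X (CohB1.tensorMod (ClSub.quotMod C) L) - Curv2.euler k X (ClSub.quotMod C))
    (heff : ∀ Z : X.IdealSheafData, IsIntegral Z.subscheme →
      ∃ (m : ℕ) (s : Coh.structureModule Z.subscheme ⟶
          CohB1.tensorPow ((Scheme.Modules.pullback Z.subschemeι).obj L) (m + 1)), s ≠ 0) :
    CohB1.IsAmple L := by
  haveI := CurvLib.isNoetherian k (X := X)
  refine (Groth.Agent.S7749.result k X L hL).mpr fun Z hZ d hd hdim P hP => ?_
  haveI := hZ
  have key : ∀ (d : ℕ) (ξ : X), topologicalKrullDim (closure ({ξ} : Set X)) = ((d + 1 : ℕ) : WithBot ℕ∞) →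
      0 < IntFunLib.N k (List.replicate (d + 1) L) (IntFunLib.Fpt ξ) := by
    have hcurve : ∀ ξ : X, topologicalKrullDim (closure ({ξ} : Set X)) = ((1 : ℕ) : WithBot ℕ∞) →
        0 < IntFunLib.N k [L] (IntFunLib.Fpt ξ) := fun ξ hξ => by
      rw [IntFunLib.N_singleton]
      exact hnef _ (IntMultLib.isIntegral_ptIdeal ξ) (by rw [IntFunLib.dim_ptIdeal, hξ, Nat.cast_one])
    intro d
    induction d with
    | zero => exact hcurve
    | succ d IH =>
      intro ξ hξ
      haveI := IntMultLib.isIntegral_ptIdeal ξ
      obtain ⟨m, s, hs⟩ := heff (IntMultLib.ptIdeal ξ) inferInstance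
      let W := (IntMultLib.ptIdeal ξ).subscheme
      let g : W ⟶ X := (IntMultLib.ptIdeal ξ).subschemeι
      letI : W.Over (Spec (CommRingCat.of k)) := ⟨g ≫ (X ↘ Spec (CommRingCat.of k))⟩
      haveI : IsProper (W ↘ Spec (CommRingCat.of k)) :=
        inferInstanceAs (IsProper (g ≫ (X ↘ Spec (CommRingCat.of k))))
      haveI := CurvLib.isNoetherian k (X := W)
      have hW : topologicalKrullDim W = ((d + 1 + 1 : ℕ) : WithBot ℕ∞) := by
        rw [← hξ]
        exact (g.isEmbedding.toHomeomorph.trans
          (Homeomorph.setCongr (IntMultLib.range_ptIdeal ξ))).isHomeomorph.topologicalKrullDim_eq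
      have hrfl : g ≫ (X ↘ Spec (CommRingCat.of k)) = W ↘ Spec (CommRingCat.of k) := rfl
      have hgL : PicF.IsInvertible (KFlatLib.pb g L) := AmpleDevLib.isInvertible_pb g hL
      have hM : PicF.IsInvertible (CohB1.tensorPow (KFlatLib.pb g L) (m + 1)) := AmpleThLib.tensorPow_isInvertible hgL _
      -- multiplicativity of powers
      have hpow : ∀ (F : W.Modules), Coh.IsCoh F → ∀ a b : ℕ, topologicalKrullDim (CohB1.support F) ≤ ((a + b : ℕ) : WithBot ℕ∞) →
          IntFunLib.N k (List.replicate a (CohB1.tensorPow (KFlatLib.pb g L) (m + 1)) ++ List.replicate b (KFlatLib.pb g L)) F =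
            ((m + 1 : ℕ) : ℤ) ^ a * IntFunLib.N k (List.replicate (a + b) (KFlatLib.pb g L)) F := by
        intro F hF a
        induction a with
        | zero => intro b _; simp
        | succ a iha =>
          intro b hb
          rw [List.replicate_succ, List.cons_append, IntFunLib.N_pow (fun A hA => by
              rcases List.mem_append.mp hA with h | h
              · rw [List.eq_of_mem_replicate h]; exact hM
              · rw [List.eq_of_mem_replicate h]; exact hgL) hgL hF (by
              rw [List.length_append, List.length_replicate, List.length_replicate]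
              exact hb.trans (by exact_mod_cast (show a + 1 + b ≤ a + b + 1 by omega))),
            ← IntFunLib.N_perm List.perm_middle, ← List.replicate_succ,
            iha (b + 1) (hb.trans (by exact_mod_cast (show a + 1 + b ≤ a + (b + 1) by omega))),
            show a + (b + 1) = a + 1 + b by omega, pow_succ]
          ring
      have hone : ∀ η : W, topologicalKrullDim (closure ({η} : Set W)) = ((1 : ℕ) : WithBot ℕ∞) →
          0 < IntFunLib.N k [CohB1.tensorPow (KFlatLib.pb g L) (m + 1)] (IntFunLib.Fpt η) := fun η hη => by
        have h1 := hpow _ (IntFunLib.coh_Fpt k η) 1 0 (by rw [IntFunLib.supp_Fpt k, hη])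
        simp only [List.replicate_zero, List.append_nil, Nat.add_zero, List.replicate_one, pow_one] at h1
        rw [h1]
        exact mul_pos (by positivity) (IntFunLib.pos_pullback hrfl hL (e := 1) hcurve hη)
      have htop : ∀ η : W, topologicalKrullDim (closure ({η} : Set W)) = ((d + 1 : ℕ) : WithBot ℕ∞) →
          0 < IntFunLib.N k (List.replicate (d + 1) (CohB1.tensorPow (KFlatLib.pb g L) (m + 1))) (IntFunLib.Fpt η) := fun η hη => by
        have h1 := hpow _ (IntFunLib.coh_Fpt k η) (d + 1) 0 (by rw [IntFunLib.supp_Fpt k, hη])
        simp only [List.replicate_zero, List.append_nil, Nat.add_zero] at h1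
        rw [h1]
        exact mul_pos (by positivity) (IntFunLib.pos_pullback hrfl hL (e := d + 1) IH hη)
      -- a nonzero section generates at the generic point
      let φ : Coh.structureModule W ⟶ CohB1.tensorPow (KFlatLib.pb g L) (m + 1) := s
      have hφ : φ ≠ 0 := hs
      set σ : Γ(CohB1.tensorPow (KFlatLib.pb g L) (m + 1), ⊤) := φ.app ⊤ (1 : Γ(W, ⊤)) with hσdef
      have hgen : genericPoint W ∈ TwistLib.genSet hM σ := by
        refine IntMultLib.genAt_of_unitHom_surjective hM σ fun b => ?_
        haveI : Mono φ := CurvLib.mono_of_ne_zero CurvLib.isInvertible_structureModule hM hφ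
        let S : ShortComplex W.Modules := ShortComplex.mk φ (cokernel.π φ) (cokernel.condition φ)
        have hS : S.ShortExact :=
          { exact := ShortComplex.exact_cokernel φ, mono_f := inferInstanceAs (Mono φ)
            epi_g := inferInstanceAs (Epi (cokernel.π φ)) }
        have hsub := CurvLib.generic_notMem_support_cokernel CurvLib.isInvertible_structureModule hM hφ
        have hex := (ShortComplex.ShortExact.moduleCat_exact_iff_function_exact _).1
          (hS.map_of_exact (DerSch.stalkFunctor W (genericPoint W))).exact b
        rw [hσdef, ← SurfNumLib.eq_unitHom φ]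
        exact hex.mp (@Subsingleton.elim _ (not_not.mp hsub) _ _)
      have h0 := IntFunLib.N_gen_pos (k := k) (X := W) d.succ_pos hW hM σ hgen hone htop
      have h1 := hpow _ (DevissLib.isCoh_structureModule W) (d + 1 + 1) 0
        ((topologicalKrullDim_subspace_le _ _).trans (by rw [hW]))
      simp only [List.replicate_zero, List.append_nil, Nat.add_zero] at h1
      rw [h1] at h0
      have h2 : 0 < IntFunLib.N k (List.replicate (d + 1 + 1) (KFlatLib.pb g L)) (Coh.structureModule W) :=
        pos_of_mul_pos_right h0 (by positivity)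
      have hl : ∀ A ∈ List.replicate (d + 1 + 1) L, PicF.IsInvertible A := fun A hA => by
        rw [List.eq_of_mem_replicate hA]; exact hL
      have h3 := IntFunLib.N_push (k := k) hrfl hl (DevissLib.isCoh_structureModule W)
        ((topologicalKrullDim_subspace_le _ _).trans (by rw [hW, List.length_replicate]))
      rw [List.map_replicate] at h3
      rw [h3] at h2
      exact h2
  have hP' : IntMultLib.hilb k (fun _ : Fin d => L) (ClSub.quotMod Z) = IntMultLib.pfun P :=
    funext fun n => (IntMultLib.hilb_eq _ _ n).trans (hP n)
  have hkey := IntFunLib.coeff_eq_N (k := k) L hL Z hdim P hP'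
  suffices h : 0 < IntFunLib.N k (List.replicate d L) (ClSub.quotMod Z) by
    change 0 < P.coeff _
    rw [show P.coeff (Finsupp.equivFunOnFinite.symm fun _ : Fin d => 1) = _ from hkey]
    exact_mod_cast h
  rw [IntFunLib.eq_ptIdeal Z]
  have hξ := (IntFunLib.dim_generic_of_support Z).trans hdim
  obtain ⟨e, rfl⟩ : ∃ e, d = e + 1 := ⟨d - 1, by omega⟩
  exact key e _ hξ

end Groth.Agent.S16711
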