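import Groth.Statements.S16712
import Mathlib
import Groth.Agent.IntFunLib.StrictNef
-- import your own Groth.Agent.* helpers here

set_option autoImplicit false
universe u
open CategoryTheory CategoryTheory.Limits AlgebraicGeometry TopologicalSpace
open Variety

namespace Groth.Agent.S16712

/-- Let X and X' be proper schemes over a field k, f : X' → X a surjective k-morphism and L an
invertible O_X-module. Then L is nef, meaning χ(O_C ⊗ L) - χ(O_C) ≥ 0 for every integral closed
subscheme C ⊆ X of dimension one, if and only if the pullback f^*L is nef on X' in the same sense. -/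
theorem result (k : Type u) [Field k] (X X' : Scheme.{u})
    [X.Over (Spec (CommRingCat.of k))] [IsProper (X ↘ (Spec (CommRingCat.of k)))]
    [X'.Over (Spec (CommRingCat.of k))] [IsProper (X' ↘ (Spec (CommRingCat.of k)))]
    (f : X' ⟶ X) (hf : f ≫ (X ↘ (Spec (CommRingCat.of k))) = X' ↘ (Spec (CommRingCat.of k)))
    [Surjective f] (L : X.Modules) (hL : PicF.IsInvertible L) :
    (∀ C : X.IdealSheafData, IsIntegral C.subscheme →
        topologicalKrullDim (C.support : Set X) = 1 →
          0 ≤ Curv2.euler k X (CohB1.tensorMod (ClSub.quotMod C) L) - Curv2.euler k X (ClSub.quotMod C)) ↔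
      (∀ C' : X'.IdealSheafData, IsIntegral C'.subscheme →
        topologicalKrullDim (C'.support : Set X') = 1 →
          0 ≤ Curv2.euler k X' (CohB1.tensorMod (ClSub.quotMod C') ((Scheme.Modules.pullback f).obj L)) -
            Curv2.euler k X' (ClSub.quotMod C')) := by
  haveI := IntFunLib.isProper_g hf
  haveI := CurvLib.isNoetherian k (X := X)
  have hiff : ∀ {W : Scheme.{u}} [W.Over (Spec (CommRingCat.of k))] [IsProper (W ↘ Spec (CommRingCat.of k))] (M : W.Modules),
      (∀ C : W.IdealSheafData, AlgebraicGeometry.IsIntegral C.subscheme → topologicalKrullDim (C.support : Set W) = 1 →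
        0 ≤ IntFunLib.cd k M C) ↔ IntFunLib.Nef k M := fun {W} _ _ M =>
    ⟨IntFunLib.nef_of_cd, fun h C hC hd => by
      rw [← IntFunLib.N_singleton, IntFunLib.eq_ptIdeal C]
      exact h _ ((IntFunLib.dim_generic_of_support C).trans (hd.trans Nat.cast_one.symm))⟩
  refine ((hiff L).trans ⟨fun h => h.pullback hf hL, fun h η hη => ?_⟩).trans (hiff _).symm
  obtain ⟨y, hy, hyd⟩ := IntFunLib.exists_point_over (k := k) hf η (f.surjective η)
  rw [hη] at hyd
  have hl : ∀ A ∈ [L], PicF.IsInvertible A := by simpa using hL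
  have h1 := IntFunLib.N_push hf hl (IntFunLib.coh_Fpt k y) (by rw [IntFunLib.supp_Fpt k, hyd]; rfl)
  have h0 : 0 ≤ IntFunLib.N k [L] ((Coh.push f).obj (IntFunLib.Fpt y)) := h1 ▸ h y hyd
  have hc : Coh.IsCoh ((Coh.push f).obj (IntFunLib.Fpt y)) := FormalCohLib.isCoh_push_proper f (IntFunLib.coh_Fpt k y)
  have hs := IntFunLib.support_push_closure hf y
  rw [hy] at hs
  have hmem : η ∈ CohB1.support ((Coh.push f).obj (IntFunLib.Fpt y)) := hy ▸ IntFunLib.mem_support_push hf y
  obtain ⟨T, hT, hfin, hsum⟩ := IntFunLib.N_sum (k := k) hl hc ⟨η, hmem⟩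
    ((IntFunLib.dim_mono hs).trans (by rw [hη]; rfl))
  have hT' : T = {η} := Finset.ext fun z => by
    rw [hT, Finset.mem_singleton]
    refine ⟨fun ⟨hz, hzd⟩ => ?_, fun hz => by subst hz; exact ⟨hmem, hη⟩⟩
    exact (IntMultLib.eq_of_specializes_of_dim isClosed_closure hη.le hzd (subset_closure rfl)
      (specializes_iff_mem_closure.mpr (hs hz))).symm
  rw [hsum, hT', Finset.sum_singleton, nsmul_eq_mul] at h0
  refine nonneg_of_mul_nonneg_right h0 (Nat.cast_pos.mpr (Nat.pos_of_ne_zero fun h' => ?_))
  rcases ENat.toNat_eq_zero.mp h' with h' | h'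
  · exact hmem (Module.length_eq_zero_iff.mp h')
  · exact hfin η (by rw [hT']; exact Finset.mem_singleton_self η) h'

end Groth.Agent.S16712
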