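import Groth.Statements.S16713
import Groth.Agent.GorLib.LCI
import Groth.Agent.GorLib.Fibres
import Groth.Agent.LiaisonLib.Basic
import Groth.Agent.CMFlatLib.BaseChange
import Groth.Agent.KRLib.Model

-- import your own Groth.Agent.* helpers here

set_option autoImplicit false
universe u
open CotT

namespace Groth.Agent.S16713

/-- An ideal which is locally generated by exact families has a torsion-free conormal module. -/
theorem mem_sq_of_mul_mem_sq {P : Type u} [CommRing P] {I : Ideal P} (hI : KRLib.LocKR I) {s : P}
    (hs : ∀ a, s * a ∈ I → a ∈ I) {y : P} (hy : y ∈ I) (hsy : s * y ∈ I ^ 2) : y ∈ I ^ 2 := by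
  suffices hJ : (I ^ 2).colon {y} = ⊤ by
    have h1 : (1 : P) ∈ (I ^ 2).colon {y} := hJ ▸ Submodule.mem_top
    rwa [Submodule.mem_colon_singleton, one_smul] at h1
  by_contra hne
  obtain ⟨M, hM, hJM⟩ := Ideal.exists_le_maximal _ hne
  have hIM : I ≤ M := fun a ha => hM.isPrime.mem_of_pow_mem 2 (hJM (by
    rw [Submodule.mem_colon_singleton, smul_eq_mul]
    exact Ideal.mul_mem_right _ _ (Ideal.pow_mem_pow ha 2)))
  obtain ⟨g, hg, n, f, hf, hspan⟩ := hI M hM.isPrime hIM
  let L := Localization.Away g
  set IL := I.map (algebraMap P L) with hIL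
  have hsL : ∀ a, algebraMap P L s * a ∈ IL → a ∈ IL := fun a ha => by
    obtain ⟨b, ⟨t, ht⟩, rfl⟩ := IsLocalization.exists_mk'_eq (Submonoid.powers g) a
    rw [IsLocalization.mul_mk'_eq_mk'_of_mul, hIL, IsLocalization.mk'_mem_map_algebraMap_iff] at ha
    obtain ⟨v, hv, hvI⟩ := ha
    rw [hIL, IsLocalization.mk'_mem_map_algebraMap_iff]
    exact ⟨v, hv, hs _ (by rwa [show s * (v * b) = v * (s * b) by ring])⟩
  have hyL : algebraMap P L y ∈ IL := Ideal.mem_map_of_mem _ hy
  rw [← hspan] at hyL
  obtain ⟨c, hc⟩ := Ideal.mem_span_range_iff_exists_fun.1 hyL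
  have h2 : algebraMap P L (s * y) ∈ IL * Ideal.span (Set.range f) := by
    rw [hspan, ← pow_two, hIL, ← Ideal.map_pow]
    exact Ideal.mem_map_of_mem _ hsy
  rw [← smul_eq_mul, Ideal.span, Submodule.mem_ideal_smul_span_iff_exists_sum] at h2
  obtain ⟨d, hd, hd'⟩ := h2
  have hrel : ∑ i, (algebraMap P L s * c i - d i) * f i = 0 := by
    simp only [sub_mul, Finset.sum_sub_distrib, mul_assoc, ← Finset.mul_sum, hc, ← map_mul]
    rw [← hd', Finsupp.sum_fintype _ _ (fun i => by simp)]
    simp [smul_eq_mul]
  have hcI : ∀ i, c i ∈ IL := fun i => hsL _ (by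
    have h3 := KRLib.coeff_mem_of_relation hf _ hrel i
    rw [hspan] at h3
    exact (Submodule.sub_mem_iff_left _ (hd i)).1 h3)
  have hy2 : algebraMap P L y ∈ (I ^ 2).map (algebraMap P L) := by
    rw [Ideal.map_pow, ← hIL, pow_two, ← hc]
    refine Ideal.sum_mem _ fun i _ => Ideal.mul_mem_mul (hcI i) ?_
    rw [← hspan]
    exact Ideal.subset_span ⟨i, rfl⟩
  rw [IsLocalization.algebraMap_mem_map_algebraMap_iff (Submonoid.powers g)] at hy2
  obtain ⟨v, ⟨m, rfl⟩, hv⟩ := hy2
  exact hg (hM.isPrime.mem_of_pow_mem m (hJM (by
    rw [Submodule.mem_colon_singleton, smul_eq_mul]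
    exact hv)))

open Algebra in
/-- Non-zero-divisors act injectively on the conormal module of such a presentation. -/
theorem cotangent_torsionFree {k A : Type u} [CommRing k] [CommRing A] [Algebra k A]
    (P : Algebra.Extension.{u} k A) (hI : KRLib.LocKR P.ker) {a : A} (ha : a ∈ nonZeroDivisors A)
    (x : P.Cotangent) (h : a • x = 0) : x = 0 := by
  obtain ⟨⟨y, hy⟩, rfl⟩ := Extension.Cotangent.mk_surjective x
  obtain ⟨s, rfl⟩ := P.algebraMap_surjective a
  rw [algebraMap_smul, ← map_smul, Extension.Cotangent.mk_eq_zero_iff] at h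
  rw [Extension.Cotangent.mk_eq_zero_iff]
  refine mem_sq_of_mul_mem_sq hI (fun b hb => ?_) hy h
  change algebraMap P.Ring A (s * b) = 0 at hb
  rw [map_mul] at hb
  change algebraMap P.Ring A b = 0
  exact mul_right_mem_nonZeroDivisors_eq_zero_iff ha |>.1 (by rwa [mul_comm] at hb)

open Algebra in
/-- Associated primes of a local complete intersection over a field are minimal. -/
theorem minimal_of_mem_associated (k : Type u) [Field k] (A : Type u) [CommRing A] [IsNoetherianRing A]
    [Algebra k A] (hlci : LCI.IsLCI k A) {P : Ideal A} (hP : P ∈ associatedPrimes A A) :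
    P ∈ minimalPrimes A := by
  obtain ⟨-, n, f, hf, hker⟩ := hlci
  have hk : LocCoh.IsGorensteinRing (MvPolynomial (Fin n) k) :=
    GorLib.gorensteinRing_mvPolynomial GorLib.gorensteinRing_of_field n
  let σ : MvPolynomial (Fin n) k →+* A ⧸ (⊥ : Ideal A) := (Ideal.Quotient.mk ⊥).comp f.toRingHom
  have hσk : RingHom.ker σ = RingHom.ker f.toRingHom := by
    ext z
    simp [σ, RingHom.mem_ker, Ideal.Quotient.eq_zero_iff_mem]
  have hG := GorLib.gorensteinRing_quotient_locKR hk σ (Ideal.Quotient.mk_surjective.comp hf)
    (hσk ▸ (KRLib.locKR_iff _).2 hker)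
  have hP' : P ∈ associatedPrimes A (A ⧸ (⊥ : Ideal A)) :=
    (LinearEquiv.AssociatedPrimes.eq (Submodule.quotEquivOfEqBot (⊥ : Ideal A) rfl)).symm ▸ hP
  exact LiaisonLib.minimal_of_mem_associatedPrimes (CMFlatLib.cmRing_of_gorenstein hG) hP'



/-- The final assertion, in the case where the base is a field. Let k be a field and A a k-algebra which
is a local complete intersection over k (of finite type, presented by a polynomial algebra in
finitely many variables with Koszul-regular kernel) and generically smooth over k, in the sense that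
the localization of A at each of its minimal primes is formally smooth over k. Then H^1 of the naive
cotangent complex L_{A/k} vanishes: for the presentation A = P/I by the polynomial k-algebra P on
the elements of A, the conormal map I/I² → Ω_{P/k} ⊗_P A is injective, so that L_{A/k} is
quasi-isomorphic to Ω_{A/k}. (The published statement is for a generically smooth syntomic morphism
over an arbitrary base, where it fails when the base has embedded points: over B = k[s,t]/(s², st)
with 2 invertible in k, the algebra B[x]/(x² − t) is a relative complete intersection, free of rank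
two and smooth where x is invertible, yet the class of s·x·(x² − t) is a non-zero element of the
kernel of its conormal map. This row states the case of an algebra of finite type over a field.) -/
theorem result (k : Type u) [Field k]
    (A : Type u) [CommRing A] [Algebra k A] (hlci : LCI.IsLCI k A)
    (hgs : ∀ (p : Ideal A) [p.IsPrime], p ∈ minimalPrimes A → Algebra.FormallySmooth k (Localization.AtPrime p)) :
    Subsingleton (Algebra.H1Cotangent k A) := by
  haveI := hlci.1
  haveI : IsNoetherianRing A := Algebra.FiniteType.isNoetherianRing k A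
  have hmin := fun P hP => minimal_of_mem_associated k A hlci (P := P) hP
  obtain ⟨-, n, f, hf, hker⟩ := hlci
  let val : Fin n → A := fun i => f (MvPolynomial.X i)
  have hf' : MvPolynomial.aeval (R := k) val = f := (MvPolynomial.aeval_unique f).symm
  let G : Algebra.Generators k A (Fin n) := Algebra.Generators.ofSurjective val (by rw [hf']; exact hf)
  have hI : KRLib.LocKR G.toExtension.ker := by
    have : G.toExtension.ker = RingHom.ker f.toRingHom := by
      change RingHom.ker (MvPolynomial.aeval (R := k) val).toRingHom = _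
      rw [hf']
    rw [this]
    exact (KRLib.locKR_iff _).2 hker
  refine subsingleton_of_forall_eq 0 fun x => ?_
  obtain ⟨x', rfl⟩ := G.equivH1Cotangent.surjective x
  have hann : ∀ P ∈ associatedPrimes A A, ¬ (LinearMap.ker (LinearMap.toSpanSingleton A _ x')) ≤ P := by
    intro P hP hle
    haveI := (hmin P hP).isPrime
    haveI := hgs P (hmin P hP)
    have h0 : Algebra.H1Cotangent.map k k A (Localization.AtPrime P) (G.equivH1Cotangent x') = 0 :=
      Subsingleton.elim _ _
    obtain ⟨s, hs⟩ := (IsLocalizedModule.eq_zero_iff P.primeCompl _).1 h0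
    refine s.2 (hle (G.equivH1Cotangent.injective ?_))
    change G.equivH1Cotangent ((s : A) • x') = _
    rw [map_smul, map_zero]
    exact hs
  obtain ⟨a, ha, ha'⟩ : ∃ a : A, a ∈ nonZeroDivisors A ∧ a • x' = 0 := by
    by_contra hcon
    simp only [not_exists, not_and] at hcon
    have hfin := associatedPrimes.finite A A
    have hsub : ((LinearMap.ker (LinearMap.toSpanSingleton A _ x') : Ideal A) : Set A) ⊆
        ⋃ P ∈ associatedPrimes A A, (P : Set A) := fun a ha => by
      rw [biUnion_associatedPrimes_eq_compl_nonZeroDivisors]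
      exact fun hmem => hcon a hmem ha
    obtain ⟨P, hP, hle⟩ := (Ideal.subset_union_prime_finite hfin ⊥ ⊥ (fun i hi _ _ => hi.isPrime)).1 hsub
    exact hann P hP hle
  have hx : x'.1 = 0 := cotangent_torsionFree G.toExtension hI ha _ (congrArg Subtype.val ha')
  rw [show x' = 0 from Subtype.ext hx, map_zero]


end Groth.Agent.S16713
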