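import Groth.Statements.S16718
import Mathlib
import Groth.Agent.GLinFinLib.Algebra
-- import your own Groth.Agent.* helpers here

set_option autoImplicit false
universe u v w
open TensorProduct
open GLin

open scoped ComodLib
namespace Groth.Agent.S16718

/-- Let k be a field, A a finitely generated commutative Hopf algebra over k (an affine algebraic group
G), R a finitely generated commutative k-algebra carrying an A-comodule structure whose coaction is
an algebra homomorphism (an action of G on X = Spec R), and I an ideal of R which is a subcomodule
(a G-invariant closed subscheme Z of X). Then there is a finite-dimensional subcomodule W of R with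
W ⊆ I generating I as an ideal; equivalently there is a G-equivariant morphism f from X to the
affine space of a finite-dimensional G-representation with f⁻¹(0) = Z as closed subschemes. -/
theorem result (k : Type u) [Field k]
    (A : Type v) [CommRing A] [HopfAlgebra k A] (hA : Algebra.FiniteType k A)
    (R : Type w) [CommRing R] [Algebra k R] [HopfRep.Comod k A R] [GLin.IsCoactAlg k A R]
    (hR : Algebra.FiniteType k R) (I : Ideal R)
    (hI : HopfRep.IsSubcomod (k := k) (A := A) (I.restrictScalars k)) :
    ∃ W : Submodule k R, Module.Finite k W ∧ HopfRep.IsSubcomod (k := k) (A := A) W ∧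
      W ≤ I.restrictScalars k ∧ Ideal.span (W : Set R) = I := by
  classical
  haveI := hR
  haveI : IsNoetherianRing R := Algebra.FiniteType.isNoetherianRing k R
  obtain ⟨g, hg⟩ := IsNoetherian.noetherian I
  let S' : Submodule (ComodLib.Dual' k A) R := ⨆ x : g, Submodule.span (ComodLib.Dual' k A) {(x : R)}
  let W : Submodule k R := S'.restrictScalars k
  have hfin : Module.Finite k W := by
    have h : W = ⨆ x : g, (Submodule.span (ComodLib.Dual' k A) {(x : R)}).restrictScalars k :=
      by simp only [W, S', Submodule.restrictScalars_iSup]
    haveI : ∀ x : g, FiniteDimensional k ↥((Submodule.span (ComodLib.Dual' k A) {(x : R)}).restrictScalars k) :=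
      fun x => ComodLib.finite_span_singleton A (x : R)
    rw [h]
    infer_instance
  have hWI : W ≤ I.restrictScalars k := by
    let I' : Submodule (ComodLib.Dual' k A) R :=
      { carrier := I
        add_mem' := fun h h' => I.add_mem h h'
        zero_mem' := I.zero_mem
        smul_mem' := fun f d hd => (ComodLib.isSubcomod_iff _).1 hI f d hd }
    have : S' ≤ I' := iSup_le fun x => (Submodule.span_singleton_le_iff_mem _ _).2
      (show (x : R) ∈ I from hg ▸ Submodule.subset_span x.2)
    exact fun y hy => this hy
  refine ⟨W, hfin, ComodLib.isSubcomod_restrictScalars S', hWI, le_antisymm (Ideal.span_le.2 hWI) ?_⟩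
  refine hg.symm.trans_le (Ideal.span_mono fun y hy => ?_)
  exact le_iSup (fun x : g => Submodule.span (ComodLib.Dual' k A) {(x : R)}) ⟨y, hy⟩
    (Submodule.mem_span_singleton_self y)

end Groth.Agent.S16718
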