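import Groth.Statements.S16731
import Groth.Agent.StableCompLib.Comp

set_option autoImplicit false
universe u
open CurvSt

namespace Groth.Agent.S16731

open CategoryTheory CategoryTheory.Limits AlgebraicGeometry in
/-- Let k be an algebraically closed field and X a proper connected scheme over k of dimension one with
at-worst-nodal singularities. For a natural number g the following are equivalent: (i) X, with no
marked points, is a stable curve of genus g in the component form — dim H^1(X, O_X) = g, every
irreducible component which is a smooth rational curve (the image of a closed immersion of the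
projective line) contains at least three points lying on other components, and 2g ≥ 3; (ii) dim
H^1(X, O_X) = g with g ≥ 2, and no irreducible component of X is a rational tail or a rational
bridge. (With no marked points the published statement excludes only genus one; it fails for the
projective line, which has genus zero, no rational tail and no rational bridge, and is not stable,
so genus at least two is required in (ii) here — exactly what the inequality 2g ≥ 3 of (i) forces.) -/
theorem result (k : Type u) [Field k] [IsAlgClosed k] (X : Scheme.{u})
    [X.Over (Spec (CommRingCat.of k))] [IsProper (X ↘ Spec (CommRingCat.of k))] [ConnectedSpace X]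
    (hdim : topologicalKrullDim X = 1) (hX : Curv2.AtWorstNodal k X) (g : ℕ) :
    CurvSt.IsStablePtd k X (X ↘ Spec (CommRingCat.of k)) g (Fin.elim0 : Fin 0 → X) ↔
      (Curv2.genus k X = g ∧ 2 ≤ g ∧
        (∀ (C : Set X) (hC : C ∈ irreducibleComponents (X : Type u)), ¬ Curv2.IsRationalTail X C hC) ∧
        (∀ (C : Set X) (hC : C ∈ irreducibleComponents (X : Type u)), ¬ Curv2.IsRationalBridge k X C hC)) := by
  constructor
  · rintro ⟨-, -, -, ⟨-, hg⟩, -, -, hcomp, h3⟩
    have hg2 : 2 ≤ g := by omega
    have key : ∀ (C : Set X) (hC : C ∈ irreducibleComponents (X : Type u)),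
        Subsingleton (Coh.HH (StableCompLib.compIdeal C hC).subscheme (Coh.structureModule (StableCompLib.compIdeal C hC).subscheme) 1) →
        3 ≤ (C ∩ closure Cᶜ).ncard := fun C hC h => by
      have h1 := hcomp C ((StableCompLib.smRat_iff hdim hX C hC).2 h)
      rw [StableCompLib.meetPts_eq (k := k) C hC, ← (StableCompLib.meet_finite hdim hX C hC).1.cast_ncard_eq,
        show Nat.card {i : Fin 0 // (Fin.elim0 i : X) ∈ C} = 0 from Nat.card_of_isEmpty, Nat.cast_zero, add_zero] at h1
      exact_mod_cast h1
    refine ⟨hg, hg2, fun C hC ht => ?_, fun C hC ht => ?_⟩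
    · obtain ⟨h1, h2⟩ := (StableCompLib.isRationalTail_iff' hdim hX C hC).1 ht
      have := key C hC h2
      omega
    · obtain ⟨h1, h2⟩ := (StableCompLib.isRationalBridge_iff' hdim hX C hC).1 ht
      have := key C hC h2
      omega
  · rintro ⟨hg, hg2, hnt, hnb⟩
    refine ⟨inferInstance, inferInstance, hdim, ⟨hX, hg⟩, fun i => i.elim0, fun i => i.elim0, fun E hE => ?_, by omega⟩
    have hC := hE.1
    have h2 := (StableCompLib.smRat_iff hdim hX E hC).1 hE
    obtain ⟨hfin, -, -, -⟩ := StableCompLib.meet_finite hdim hX E hC
    rw [StableCompLib.meetPts_eq (k := k) E hC, ← hfin.cast_ncard_eq]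
    refine le_trans ?_ le_self_add
    rcases h : (E ∩ closure Eᶜ).ncard with _ | _ | _ | n
    · rw [Set.ncard_eq_zero hfin] at h
      have := StableCompLib.genus_eq_zero_of_meet_empty hdim hX E hC h h2
      omega
    · exact absurd ((StableCompLib.isRationalTail_iff' hdim hX E hC).2 ⟨h, h2⟩) (hnt E hC)
    · exact absurd ((StableCompLib.isRationalBridge_iff' hdim hX E hC).2 ⟨h, h2⟩) (hnb E hC)
    · exact_mod_cast (show 3 ≤ n + 1 + 1 + 1 by omega)

end Groth.Agent.S16731
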