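import Groth.Statements.S16737
import Mathlib


-- import your own Groth.Agent.* helpers here

set_option autoImplicit false
universe u v
open DeRham

namespace Groth.Agent.S16737

/-- The case of affine space over an affine base of characteristic p, in degree zero. Let p be a prime
and R a commutative ring with p = 0 in R. For a polynomial f over R in any set of variables t_i, the
Kähler differential df in Ω_{R[t]/R} vanishes if and only if f is a polynomial in the p-th powers of
the variables, f = g(t_i^p). Equivalently, the functions on affine space over R killed by the
differential of the de Rham complex are exactly the functions on its Frobenius twist. (The published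
computation is for finitely many variables over a noetherian base of characteristic p; the statement
here allows any commutative ring with p = 0 and any set of variables.) -/
theorem result (p : ℕ) [Fact p.Prime]
    (R : Type u) [CommRing R] [CharP R p] (σ : Type v) (f : MvPolynomial σ R) :
    KaehlerDifferential.D R (MvPolynomial σ R) f = 0 ↔
      ∃ g : MvPolynomial σ R, f = MvPolynomial.expand p g := by
  classical
  constructor
  · intro h
    have hd : ∀ i, MvPolynomial.pderiv i f = 0 := fun i => by
      rw [← (MvPolynomial.pderiv i).liftKaehlerDifferential_comp_D f, h, map_zero]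
    have hdvd : ∀ m ∈ f.support, ∀ i, p ∣ m i := by
      intro m hm i
      by_contra hni
      have hpos : m i ≠ 0 := fun h0 => hni (h0 ▸ dvd_zero p)
      have h1 := congrArg (MvPolynomial.coeff (m - Finsupp.single i 1)) (hd i)
      rw [MvPolynomial.coeff_pderiv, MvPolynomial.coeff_zero,
        tsub_add_cancel_of_le (Finsupp.single_le_iff.2 (Nat.one_le_iff_ne_zero.2 hpos))] at h1
      have hu : IsUnit ((m i : R)) := by
        rw [← map_natCast (ZMod.castHom (dvd_refl p) R : ZMod p →+* R)]
        exact IsUnit.map _ (isUnit_iff_ne_zero.2 (fun h0 => hni ((ZMod.natCast_eq_zero_iff _ _).1 h0)))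
      rw [Finsupp.tsub_apply, Finsupp.single_eq_same, ← Nat.cast_add_one, Nat.sub_add_cancel (Nat.one_le_iff_ne_zero.2 hpos)] at h1
      exact MvPolynomial.mem_support_iff.1 hm (hu.mul_left_eq_zero.1 h1)
    let div : (σ →₀ ℕ) → (σ →₀ ℕ) := fun m => m.mapRange (· / p) (Nat.zero_div p)
    refine ⟨∑ m ∈ f.support, MvPolynomial.monomial (div m) (MvPolynomial.coeff m f), ?_⟩
    conv_lhs => rw [f.as_sum]
    rw [map_sum]
    refine Finset.sum_congr rfl fun m hm => ?_
    rw [MvPolynomial.expand_monomial, show p • div m = m from Finsupp.ext fun i => by simp [div, Nat.mul_div_cancel' (hdvd m hm i)]]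
  · rintro ⟨g, rfl⟩
    induction g using MvPolynomial.induction_on with
    | C a =>
      rw [MvPolynomial.expand_C]
      exact Derivation.map_algebraMap _ a
    | add u v hu hv => rw [map_add, map_add, hu, hv, add_zero]
    | mul_X u i hu =>
      rw [map_mul, MvPolynomial.expand_X, Derivation.leibniz, Derivation.leibniz_pow, hu, ← Nat.cast_smul_eq_nsmul R p,
        CharP.cast_eq_zero, zero_smul, smul_zero, smul_zero, add_zero]

end Groth.Agent.S16737
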