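import Groth.Statements.S16752
import Groth.Agent.CohCmpLib.SemiCont
import Groth.Agent.CohCmpLib.RankOne
import Groth.Agent.CohCmpLib.LineBundle
import Groth.Agent.S0404
import Groth.Agent.CurvLib.Euler
import Groth.Agent.DevissLib.ClosedImm

set_option autoImplicit false
set_option backward.isDefEq.respectTransparency false
set_option backward.isDefEq.respectTransparency false
set_option backward.isDefEq.respectTransparency.types false
set_option maxRecDepth 8000
set_option maxHeartbeats 1000000
universe u
open CurvSt

namespace Groth.Agent.S16752

open CategoryTheory CategoryTheory.Limits AlgebraicGeometry in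
/-- Let f : X → S be a flat, proper morphism of schemes, locally of finite presentation, all of whose
fibres have dimension at most one (a family of curves whose total space is a scheme). Then the set
of points s of S such that the fibre X_s has dimension one and dim_{κ(s)} H^0(X_s, O_{X_s}) = 1 (the
conditions under which the genus of X_s is defined) is open in S. The source allows the total space
to be an algebraic space and phrases the result as the existence of an open substack of the stack of
curves with this membership condition. -/
theorem result (X S : Scheme.{u}) (f : X ⟶ S)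
    [Flat f] [IsProper f] [LocallyOfFinitePresentation f]
    (hdim : ∀ s : S, topologicalKrullDim ↥(f.fiber s) ≤ 1) :
    IsOpen {s : S | topologicalKrullDim ↥(f.fiber s) = 1 ∧
      Models.hRank ↥(S.residueField s) (f.fiber s) (f.fiberToSpecResidueField s)
        (Coh.structureModule (f.fiber s)) 0 = 1} := by
  obtain ⟨-, hfp, hfl⟩ := CohCmpLib.rank_one_hyps f (CohCmpLib.rank_one_structureModule X)
  have hb : ∀ s : S, PerfAux.betti f (Coh.structureModule X) s 0 =
      Models.hRank ↥(S.residueField s) (f.fiber s) (f.fiberToSpecResidueField s)
        (Coh.structureModule (f.fiber s)) 0 := fun s => by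
    let k : Type u := S.residueField s
    let : (f.fiber s).Over (Spec (CommRingCat.of k)) := ⟨f.fiberToSpecResidueField s⟩
    exact (CurvLib.hIso (k := k) (KFlatLib.pullUnitIso (f.fiberι s)) 0).finrank_eq
  have hpos : ∀ s : S, (0 : WithBot ℕ∞) < topologicalKrullDim ↥(f.fiber s) →
      0 < Models.hRank ↥(S.residueField s) (f.fiber s) (f.fiberToSpecResidueField s)
        (Coh.structureModule (f.fiber s)) 0 := fun s hs => by
    let k : Type u := S.residueField s
    let : (f.fiber s).Over (Spec (CommRingCat.of k)) := ⟨f.fiberToSpecResidueField s⟩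
    haveI : IsProper ((f.fiber s) ↘ Spec (CommRingCat.of k)) :=
      MorphismProperty.pullback_snd (P := @IsProper) f (S.fromSpecResidueField s) ‹_›
    haveI : Nonempty ↥(f.fiber s) := by
      by_contra h
      rw [not_nonempty_iff] at h
      haveI : IsEmpty (TopologicalSpace.IrreducibleCloseds ↥(f.fiber s)) :=
        ⟨fun Z => h.elim Z.isIrreducible'.nonempty.choose⟩
      rw [show topologicalKrullDim ↥(f.fiber s) = ⊥ from Order.krullDim_eq_bot] at hs
      exact (not_lt_bot hs).elim
    haveI := CurvLib.finite_HH (k := k) (DevissLib.isCoh_structureModule (f.fiber s)) 0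
    obtain ⟨x⟩ := ‹Nonempty ↥(f.fiber s)›
    haveI : Nonempty (⊤ : (f.fiber s).Opens) := ⟨⟨x, trivial⟩⟩
    haveI : Nontrivial (Coh.HH (f.fiber s) (Coh.structureModule (f.fiber s)) 0) :=
      (DegPullLib.e0 (Coh.structureModule (f.fiber s))).toEquiv.nontrivial (β := Γ(f.fiber s, ⊤))
    exact Module.finrank_pos
  have hset : {s : S | topologicalKrullDim ↥(f.fiber s) = 1 ∧
      Models.hRank ↥(S.residueField s) (f.fiber s) (f.fiberToSpecResidueField s)
        (Coh.structureModule (f.fiber s)) 0 = 1} =
      {s : S | (0 : WithBot ℕ∞) < topologicalKrullDim ↥(f.fiber s)} ∩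
        {s : S | PerfAux.betti f (Coh.structureModule X) s 0 < 2} := by
    ext s
    simp only [Set.mem_setOf_eq, Set.mem_inter_iff, hb]
    constructor
    · rintro ⟨h1, h2⟩
      exact ⟨h1 ▸ zero_lt_one, by omega⟩
    · rintro ⟨h1, h2⟩
      exact ⟨le_antisymm (hdim s) ((by
        generalize topologicalKrullDim ↥(f.fiber s) = d at h1 ⊢
        cases d with
        | bot => simp at h1
        | coe d => exact WithBot.one_le_coe.2 (Order.one_le_iff_pos.2 (WithBot.coe_pos.1 h1)))), by have := hpos s h1; omega⟩
  rw [hset]
  exact (Groth.Agent.S0404.result f 0).inter (CohCmpLib.isOpen_betti_lt hfp hfl 0 2)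

end Groth.Agent.S16752
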