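import Groth.Statements.S16760
import Groth.Agent.CohCmpLib.FamilyPic

set_option autoImplicit false
universe u
open PicF

namespace Groth.Agent.S16760

open AlgebraicGeometry CategoryTheory CategoryTheory.Limits in
/-- Let f : X → Y be proper and flat with Y locally Noetherian, with geometrically integral fibres (X
×_Y Spec K is an integral scheme for every field K and every Spec K → Y), and let L be an invertible
O_X-module. Then the set of points y of Y with L|_{X_y} ≅ O_{X_y} is closed. (The published
statement takes X and Y Noetherian; only local Noetherianity of Y is used.) -/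
theorem result {X Y : Scheme.{u}} (f : X ⟶ Y)
    [IsProper f] [Flat f] [IsLocallyNoetherian Y]
    (hgeo : ∀ (K : Type u) [Field K] (x : Spec (CommRingCat.of K) ⟶ Y), IsIntegral (pullback f x))
    (L : X.Modules) (hL : PicF.IsInvertible L) :
    IsClosed {y : Y | Nonempty (CohIII.fiberMod f L y ≅ Coh.structureModule (f.fiber y))} := by
  have : LocallyOfFinitePresentation f := LocallyOfFinitePresentation.iff_locallyOfFiniteType.2 inferInstance
  have : GeometricallyIntegral f := ⟨fun K _ x Z a b h => by
    have := hgeo K x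
    exact IsIntegral.of_isIso h.isoPullback.inv⟩
  have hi : ∀ y : Y, IsIntegral (f.fiber y) := fun y =>
    fiber_of_geometrically GeometricallyIntegral.geometrically_isIntegral y
  obtain ⟨e⟩ := MiscFlat6.nonempty_dualIso (L := L) hL
  let M := MiscFlat6.dual L
  have hM : PicF.IsInvertible M := MiscFlat6.dual_isInvertible (L := L) hL
  obtain ⟨hQ, hfp, hfl⟩ := CohCmpLib.rank_one_hyps f ((CohCmpLib.invertible_iff_rank_one L).1 hL)
  obtain ⟨hQ', hfp', hfl'⟩ := CohCmpLib.rank_one_hyps f ((CohCmpLib.invertible_iff_rank_one M).1 hM)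
  have hset : {y : Y | Nonempty (CohIII.fiberMod f L y ≅ Coh.structureModule (f.fiber y))} =
      {y : Y | Nontrivial (CohIII.fiberH f L y 0)} ∩ {y : Y | Nontrivial (CohIII.fiberH f M y 0)} := by
    ext y
    have := hi y
    refine ⟨fun ⟨a⟩ => ⟨CohCmpLib.nontrivial_of_trivial f ⟨a⟩, CohCmpLib.nontrivial_of_trivial f ?_⟩,
      fun h => CohCmpLib.trivial_of_sections f hL e y h.1 h.2⟩
    obtain ⟨d⟩ := CohCmpLib.nonempty_pullback_inverse (f.fiberι y) e
    exact ⟨(HilbPolyLib.unitLeft _).symm ≪≫ HilbPolyLib.congrLeft a.symm _ ≪≫ d⟩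
  rw [hset]
  exact (CohCmpLib.isClosed_nontrivial_fiberH f hfp hfl 0 |>.inter (CohCmpLib.isClosed_nontrivial_fiberH f hfp' hfl' 0))

end Groth.Agent.S16760
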