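import Groth.Statements.S16762
import Mathlib


-- import your own Groth.Agent.* helpers here

set_option autoImplicit false
universe u
open CAlgX

namespace Groth.Agent.S16762

/-- Let A → A' be faithfully flat and u : M → N a map of A-modules. Then u is universally injective (u ⊗
id_Q injective for every A-module Q) if and only if its base change A' ⊗_A M → A' ⊗_A N is
universally injective as a map of A'-modules. -/
theorem result (A A' : Type u) [CommRing A] [CommRing A']
    [Algebra A A'] [Module.FaithfullyFlat A A'] {M N : Type u} [AddCommGroup M] [Module A M]
    [AddCommGroup N] [Module A N] (u : M →ₗ[A] N) :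
    CAlgX.UniversallyInjective A u ↔ CAlgX.UniversallyInjective A' (u.baseChange A') := by
  have hc : ∀ (R : Type u) [CommRing R] {X Y : Type u} [AddCommGroup X] [Module R X] [AddCommGroup Y] [Module R Y]
      (v : X →ₗ[R] Y) (Q : Type u) [AddCommGroup Q] [Module R Q],
      Function.Injective (v.rTensor Q) ↔ Function.Injective (v.lTensor Q) := by
    intro R _ X Y _ _ _ _ v Q _ _
    rw [← LinearMap.comm_comp_rTensor_comp_comm_eq]
    simp
  constructor
  · intro h Q _ _
    letI : Module A Q := Module.compHom Q (algebraMap A A')
    haveI : IsScalarTower A A' Q := IsScalarTower.of_algebraMap_smul fun _ _ => rfl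
    rw [hc A']
    let eM := TensorProduct.AlgebraTensorModule.cancelBaseChange A A' A' Q M
    let eN := TensorProduct.AlgebraTensorModule.cancelBaseChange A A' A' Q N
    have hsq : ∀ z, eN (LinearMap.lTensor Q (u.baseChange A') z) = LinearMap.lTensor Q u (eM z) := by
      intro z
      induction z using TensorProduct.induction_on with
      | zero => simp
      | tmul q w =>
        induction w using TensorProduct.induction_on with
        | zero => simp
        | tmul a m => simp [eM, eN]
        | add x y hx hy => simp only [TensorProduct.tmul_add, map_add, hx, hy]
      | add x y hx hy => simp only [map_add, hx, hy]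
    intro z z' hzz
    exact eM.injective ((hc A u Q).1 (h Q) (by rw [← hsq, ← hsq, hzz]))
  · intro h Q _ _
    rw [hc A, ← Module.FaithfullyFlat.lTensor_injective_iff_injective A A']
    have h' := (hc A' (u.baseChange A') (TensorProduct A A' Q)).1 (h (TensorProduct A A' Q))
    let eM := TensorProduct.AlgebraTensorModule.cancelBaseChange A A' A' (TensorProduct A A' Q) M ≪≫ₗ
      TensorProduct.AlgebraTensorModule.assoc A A A' A' Q M
    let eN := TensorProduct.AlgebraTensorModule.cancelBaseChange A A' A' (TensorProduct A A' Q) N ≪≫ₗ
      TensorProduct.AlgebraTensorModule.assoc A A A' A' Q N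
    have hsq : ∀ z, eN (LinearMap.lTensor (TensorProduct A A' Q) (u.baseChange A') z)
        = LinearMap.lTensor A' (LinearMap.lTensor Q u) (eM z) := by
      intro z
      induction z using TensorProduct.induction_on with
      | zero => simp
      | tmul q w =>
        induction w using TensorProduct.induction_on with
        | zero => simp
        | tmul a m =>
          induction q using TensorProduct.induction_on with
          | zero => simp
          | tmul b q => simp [eM, eN, TensorProduct.smul_tmul']
          | add x y hx hy => simp only [TensorProduct.add_tmul, map_add, hx, hy]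
        | add x y hx hy => simp only [TensorProduct.tmul_add, map_add, hx, hy]
      | add x y hx hy => simp only [map_add, hx, hy]
    intro z z' hzz
    obtain ⟨w, rfl⟩ := eM.surjective z
    obtain ⟨w', rfl⟩ := eM.surjective z'
    rw [← hsq, ← hsq] at hzz
    rw [h' (eN.injective hzz)]

end Groth.Agent.S16762
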