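import Groth.Statements.S16772
import Groth.Agent.AlgSpLib.Sep
import Groth.Agent.WeilResLib.Maps


-- import your own Groth.Agent.* helpers here

set_option autoImplicit false
open CategoryTheory MonoidalCategory CartesianMonoidalCategory MonObj GrpObj AlgebraicGeometry
universe u
open SGA3x

namespace Groth.Agent.S16772

/-- Let G be an affine group scheme of finite presentation over a scheme S and Y ⊆ G a closed subscheme
which is finite, flat and of finite presentation over S. Then the centralizer of Y in G (points of G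
commuting with every point of Y after any base change) is representable by a closed subscheme of G. -/
theorem result {S : Scheme.{u}} (G Y : Over S) [GrpObj G]
    (hGa : IsAffineHom G.hom) (hGfp : LocallyOfFinitePresentation G.hom)
    (y : Y ⟶ G) (hy : IsClosedImmersion y.left) (hYf : IsFinite Y.hom) (hYfl : Flat Y.hom)
    (hYfp : LocallyOfFinitePresentation Y.hom) :
    ∃ (C : Over S) (c : C ⟶ G), IsClosedImmersion c.left ∧
      ∀ (X : Over S) (g : X ⟶ G), (∃ z : X ⟶ C, z ≫ c = g) ↔
        ∀ (X' : Over S) (x : X' ⟶ X) (a : X' ⟶ Y), (x ≫ g) * (a ≫ y) = (a ≫ y) * (x ≫ g) := by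
  haveI := hYf
  haveI := hYfl
  haveI := hYfp
  haveI := hGa
  haveI : IsClosedImmersion (lift (𝟙 G) (𝟙 G) : G ⟶ G ⊗ G).left :=
    inferInstanceAs (IsClosedImmersion (Limits.pullback.diagonal G.hom))
  obtain ⟨T, t, h1, h2, -⟩ := Groth.Agent.WeilRes.exists_mapsInto_closed_finite
    (lift (fst G Y * (snd G Y ≫ y)) ((snd G Y ≫ y) * fst G Y)) (lift (𝟙 G) (𝟙 G))
  refine ⟨T, t, h1, fun X g => (h2 X g).trans (forall₃_congr fun X' x a => ?_)⟩
  simp only [comp_lift, MonObj.comp_mul, lift_fst, lift_snd_assoc, Category.comp_id]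
  refine ⟨fun ⟨w, hw⟩ => ?_, fun h => ⟨_, congrArg (lift _ ·) h.symm⟩⟩
  have e1 := congrArg (· ≫ fst G G) hw
  have e2 := congrArg (· ≫ snd G G) hw
  simp only [lift_fst, lift_snd] at e1 e2
  rw [e1, e2]

end Groth.Agent.S16772
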