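import Groth.Statements.S16773
import Groth.Agent.RedKerLib.Central
import Groth.Agent.RichLib.FibreCrit
import Groth.Agent.AbSchLib.Flat
import Groth.Agent.S12442

set_option autoImplicit false
set_option backward.isDefEq.respectTransparency false
set_option backward.isDefEq.respectTransparency.types false
set_option maxHeartbeats 1000000
set_option synthInstance.maxHeartbeats 400000
open CategoryTheory CategoryTheory.Limits MonoidalCategory CartesianMonoidalCategory MonObj GrpObj AlgebraicGeometry
universe u
open Red

attribute [-instance] CategoryTheory.Hom.commGroup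
namespace Groth.Agent.S16773

/-- Let f : G' → G be a homomorphism of reductive group schemes over a scheme S which is surjective,
with kernel K. If for every s ∈ S the fibre K_s is finite and central in G'_s, then f is flat, K is
finite over S and K is central in G' (f is a central isogeny). -/
theorem result {S : Scheme.{u}} {G' G K : Over S}
    [GrpObj G'] [GrpObj G] (hG' : Red.IsReductive G') (hG : Red.IsReductive G) (f : G' ⟶ G) [IsMonHom f]
    (hf : Surjective f.left) (i : K ⟶ G') (hK : AlgGrp.IsKernel i f)
    (hfin : ∀ s : S, IsFinite (K.hom.fiberToSpecResidueField s))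
    (hcen : ∀ (s : S) (X : Over (Spec (S.residueField s))) (x : X ⟶ Red.bc (S.fromSpecResidueField s) K)
      (g : X ⟶ Red.bc (S.fromSpecResidueField s) G'),
      (x ≫ (Over.pullback (S.fromSpecResidueField s)).map i) * g = g * (x ≫ (Over.pullback (S.fromSpecResidueField s)).map i)) :
    Flat f.left ∧ IsFinite K.hom ∧
      ∀ (X : Over S) (x : X ⟶ K) (g : X ⟶ G'), (x ≫ i) * g = g * (x ≫ i) := by
  haveI := hG'.1; haveI := hG'.2.1; haveI := hG.1; haveI := hG.2.1
  haveI := hf
  haveI : GeometricallyReduced G.hom := AbSchLib.geometricallyReduced_of_smooth G.hom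
  haveI hfl : Flat f.left := AbSchLib.flat_of_surjective f
  haveI : LocallyOfFinitePresentation (f.left ≫ G.hom) := by rw [Over.w]; infer_instance
  haveI : LocallyOfFinitePresentation f.left := Groth.Agent.S12442.lfp_of_comp_lft f.left G.hom
  haveI : Mono i := ⟨fun {Z} a b h => hK.hom_ext h (toUnit_unique _ _)⟩
  have sqK : IsPullback i.left (toUnit K).left f.left (η[G]).left := hK.map (Over.forget S)
  have hKhom : (toUnit K).left = K.hom := by
    have h := Over.w (toUnit K)
    exact (Category.comp_id _).symm.trans h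
  haveI : LocallyOfFinitePresentation K.hom := hKhom ▸ MorphismProperty.of_isPullback sqK inferInstance
  obtain ⟨Z, W, _, _, j, m, l, hj, hW, hl, hcl, -, hWfin, hWfl, hWlfp⟩ :=
    RedKer.exists_centreKernel hG' hG f i hK hfin
  haveI := hcl; haveI := hWfl; haveI := hWlfp; haveI := hWfin
  haveI : Flat (l.left ≫ K.hom) := by rw [Over.w]; infer_instance
  haveI : LocallyOfFinitePresentation (l.left ≫ K.hom) := by rw [Over.w]; infer_instance
  have hsec : ∀ s : S, ∃ ε : (Over.mk (K.hom.fiberToSpecResidueField s ≫ S.fromSpecResidueField s) : Over S) ⟶ W,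
      ε ≫ l = Over.homMk (K.hom.fiberι s) (pullback.condition (f := K.hom) (g := S.fromSpecResidueField s)) := by
    intro s
    let ξ := S.fromSpecResidueField s
    let adj := Over.mapPullbackAdj ξ
    let X : Over S := Over.mk (K.hom.fiberToSpecResidueField s ≫ ξ)
    let x : X ⟶ K := Over.homMk (K.hom.fiberι s) (pullback.condition (f := K.hom) (g := ξ))
    obtain ⟨z, hz⟩ := (hj.2.2 X (x ≫ i)).2 fun X' t h => by
      rw [Category.comp_id]
      let Y' : Over (Spec (S.residueField s)) := Over.mk (t.left ≫ K.hom.fiberToSpecResidueField s)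
      let u : (Over.map ξ).obj Y' ⟶ X' := Over.homMk (𝟙 X'.left) (by
        show 𝟙 X'.left ≫ X'.hom = (t.left ≫ K.hom.fiberToSpecResidueField s) ≫ ξ
        rw [Category.id_comp, Category.assoc]; exact (Over.w t).symm)
      haveI : IsIso ((Over.forget S).map u) := inferInstanceAs (IsIso (𝟙 X'.left))
      haveI : IsIso u := isIso_of_reflects_iso u (Over.forget S)
      rw [← cancel_epi u, MonObj.comp_mul, MonObj.comp_mul]
      have h2 := hcen s Y' (adj.homEquiv Y' K (u ≫ t ≫ x)) (adj.homEquiv Y' G' (u ≫ h))
      apply (adj.homEquiv Y' G').injective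
      rw [AlgGrp.Action.homEquiv_mul, AlgGrp.Action.homEquiv_mul,
        show adj.homEquiv Y' G' (u ≫ t ≫ x ≫ i) =
          adj.homEquiv Y' K (u ≫ t ≫ x) ≫ (Over.pullback ξ).map i by
        rw [← Adjunction.homEquiv_naturality_right, Category.assoc, Category.assoc]]
      exact h2
    refine ⟨hW.lift z (toUnit _) ?_, ?_⟩
    · rw [reassoc_of% hz, hK.w, ← Category.assoc, toUnit_unique (x ≫ toUnit K) (toUnit X)]
    · rw [← cancel_mono i, Category.assoc, hl, ← Category.assoc, hW.lift_fst, hz]
  haveI : IsOpenImmersion l.left := RichLib.FibreCrit.isOpenImmersion_of_fibres K.hom l.left fun s => by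
    obtain ⟨ε, hε⟩ := hsec s
    haveI : IsClosedImmersion (pullback.snd l.left (K.hom.fiberι s)) :=
      MorphismProperty.pullback_snd (P := @IsClosedImmersion) _ _ inferInstance
    let σ : K.hom.fiber s ⟶ pullback l.left (K.hom.fiberι s) := pullback.lift ε.left (𝟙 _) (by
      rw [Category.id_comp]; exact congrArg CommaMorphism.left hε)
    have hσ : σ ≫ pullback.snd l.left (K.hom.fiberι s) = 𝟙 _ := pullback.lift_snd _ _ _
    haveI : IsIso (pullback.snd l.left (K.hom.fiberι s)) := ⟨σ, (cancel_mono (pullback.snd l.left (K.hom.fiberι s))).1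
      (by rw [Category.assoc, hσ, Category.comp_id, Category.id_comp]), hσ⟩
    infer_instance
  haveI : Surjective l.left := RichLib.FibreCrit.surjective_of_fibres K.hom l.left fun s => by
    obtain ⟨ε, hε⟩ := hsec s
    refine ⟨fun y => ?_⟩
    let σ : K.hom.fiber s ⟶ pullback l.left (K.hom.fiberι s) := pullback.lift ε.left (𝟙 _) (by
      rw [Category.id_comp]; exact congrArg CommaMorphism.left hε)
    refine ⟨σ y, ?_⟩
    rw [← Scheme.Hom.comp_apply, pullback.lift_snd]; rfl
  haveI : IsIso l.left := (isIso_iff_isOpenImmersion_and_surjective l.left).2 ⟨inferInstance, inferInstance⟩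
  haveI : IsIso ((Over.forget S).map l) := ‹IsIso l.left›
  haveI : IsIso l := isIso_of_reflects_iso l (Over.forget S)
  refine ⟨hfl, RedKer.isFinite_kernel hG' hG f i hK hfin, fun X x g => ?_⟩
  have hx : x ≫ i = (x ≫ inv l ≫ m) ≫ j := by
    rw [Category.assoc, Category.assoc, ← hl, IsIso.inv_hom_id_assoc]
  rw [hx]
  exact RadLib.centre_comm hj _ g

end Groth.Agent.S16773
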