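import Groth.Statements.S16780
import Groth.Agent.MultExtLib.Quot

set_option backward.isDefEq.respectTransparency false

set_option autoImplicit false
open CategoryTheory MonoidalCategory CartesianMonoidalCategory MonObj GrpObj AlgebraicGeometry
universe u
open SGA3x

namespace Groth.Agent.S16780

/-- Let 1 → H' → H → H'' → 1 be a short exact sequence of affine, flat, finitely presented group schemes
over a scheme S with H' and H'' of multiplicative type (of finite type). If every fibre H_s is
connected or commutative, then H is of multiplicative type. -/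
theorem result {S : Scheme.{u}} (H' H H'' : Over S) [GrpObj H'] [GrpObj H] [GrpObj H'']
    (hHa : IsAffineHom H.hom) (hHfl : Flat H.hom) (hHfp : LocallyOfFinitePresentation H.hom)
    (p : H ⟶ H'') [IsMonHom p] [Surjective p.left] [Flat p.left] [QuasiCompact p.left]
    (i : H' ⟶ H) [IsMonHom i] (hker : AlgGrp.IsKernel i p)
    (hH' : SGA3x.IsMultTypeFT H') (hH'' : SGA3x.IsMultTypeFT H'')
    (hfib : ∀ s : S, _root_.IsConnected (H.hom.base ⁻¹' {s}) ∨
      ∀ (X : Over (Spec (S.residueField s))) (a b : X ⟶ Red.bc (S.fromSpecResidueField s) H), a * b = b * a) :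
    SGA3x.IsMultTypeFT H := by
  haveI : Mono i := ⟨fun {Z} a b e => hker.hom_ext e (toUnit_unique _ _)⟩
  have hcov : Groth.Agent.MonoQuot.IsCov p.left := Groth.Agent.MultExt.isCov p.left
  have hfib' : ∀ s : S, _root_.IsConnected (H''.hom.base ⁻¹' {s}) ∨
      ∀ (Y : Over S) (l : Y.left ⟶ Spec (S.residueField s)), l ≫ S.fromSpecResidueField s = Y.hom →
        ∀ x y : Y ⟶ H, x * y = y * x := by
    intro s
    refine (hfib s).imp (fun hc => ?_) (fun hcomm Y l hl x y => ?_)
    · have e : H''.hom.base ⁻¹' {s} = p.left.base '' (H.hom.base ⁻¹' {s}) := by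
        have hw : ∀ z, H''.hom.base (p.left.base z) = H.hom.base z := fun z => by
          rw [← Scheme.Hom.comp_apply, Over.w p]
        ext z
        constructor
        · intro hz
          obtain ⟨w, rfl⟩ := p.left.surjective z
          exact ⟨w, (hw w).symm.trans hz, rfl⟩
        · rintro ⟨w, hw', rfl⟩
          exact (hw w).trans hw'
      rw [e]
      exact hc.image _ p.left.continuous.continuousOn
    · let f := S.fromSpecResidueField s
      let X : Over (Spec (S.residueField s)) := Over.mk l
      let e : (Over.map f).obj X ⟶ Y := Over.homMk (𝟙 Y.left) ((Category.id_comp _).trans hl.symm)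
      haveI : IsIso ((Over.forget S).map e) := IsIso.id Y.left
      haveI : IsIso e := isIso_of_reflects_iso e (Over.forget S)
      rw [← cancel_epi e, MonObj.comp_mul, MonObj.comp_mul]
      apply (_root_.PowEtCentralLib.adjEquiv (G := H) f X).injective
      rw [map_mul, map_mul]
      exact hcomm _ _ _
  have hc : ∀ (X : Over S) (h : X ⟶ H') (x : X ⟶ H), (h ≫ i) * x = x * (h ≫ i) :=
    Groth.Agent.MultExt.central_of_kernel' p hcov i hker hH'
      (fun s => (hfib' s).imp id fun hcomm Y l hl h x => hcomm Y l hl _ _)
  haveI : IsCommMonObj H := Groth.Agent.MultExt.isCommMonObj_of_central' p hcov i hker hH' hH'' hc hfib'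
  exact Groth.Agent.MultExt.isMultTypeFT_of_ext_comm H p i hker hH' hH''

end Groth.Agent.S16780
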