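import Groth.Statements.S16783
import Groth.Agent.MultNhdLib.Fibre
import Groth.Agent.PowEtCentralLib.Split
-- import your own Groth.Agent.* helpers here

set_option autoImplicit false
set_option backward.isDefEq.respectTransparency false
set_option backward.isDefEq.respectTransparency.types false
set_option linter.style.haveILetI false
set_option synthInstance.maxHeartbeats 200000
set_option maxHeartbeats 1600000
open CategoryTheory MonoidalCategory CartesianMonoidalCategory MonObj GrpObj AlgebraicGeometry
universe u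
open CategoryTheory.Limits
open SGA3x

namespace Groth.Agent.S16783

open CoactBr Groth.Agent
open Groth.Agent.DiagRep (baseHom)
open scoped TensorProduct

attribute [local instance] CoactBr.braidedAlgSpecOf

/-- Let H be an affine, flat, finitely presented group scheme over a scheme S whose geometric fibres are
of multiplicative type and such that, for every n ≥ 1, the order of the n-torsion subgroup scheme of
the fibre H_s is locally constant in s. Then H is of multiplicative type. -/
theorem result {S : Scheme.{u}} (H : Over S) [GrpObj H]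
    (hHa : IsAffineHom H.hom) (hHfl : Flat H.hom) (hHfp : LocallyOfFinitePresentation H.hom)
    (hfib : ∀ s : S, SGA3x.IsMultTypeFT (Red.geomFibre s H))
    (hord : ∀ n : ℕ, 0 < n → ∃ d : S → ℕ, IsLocallyConstant d ∧ ∀ (s : S)
      (x : ↥(Spec (S.residueField s))),
      ((pullback.snd η[H].left (𝟙 H ^ n : H ⟶ H).left ≫ H.hom).fiberToSpecResidueField s).finrank x = d s) :
    SGA3x.IsMultTypeFT H := by
  haveI := hHa
  haveI := hHfl
  haveI := hHfp
  refine PowEtCentralLib.isMultTypeFT_of_local H fun s => ?_
  obtain ⟨V, hV, hsV, -⟩ := exists_isAffineOpen_mem_and_subset (X := S) (x := s) (U := ⊤) trivial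
  let A : Type u := Γ(S, V)
  let i : Spec (CommRingCat.of A) ⟶ S := hV.fromSpec
  obtain ⟨pt₀, hpt⟩ : ∃ x : PrimeSpectrum A, i.base x = s :=
    ⟨hV.primeIdealOf ⟨s, hsV⟩, hV.fromSpec_primeIdealOf ⟨s, hsV⟩⟩
  haveI hiopen : IsOpenImmersion i := hV.isOpenImmersion_fromSpec
  haveI : IsAffine (Red.bc i H).left :=
    haveI : IsAffineHom (Red.bc i H).hom := MorphismProperty.pullback_snd _ _ ‹IsAffineHom H.hom›
    isAffine_of_isAffineHom (Red.bc i H).hom
  obtain ⟨C, _, _, w, hw, hw'⟩ := HomCorr.exists_hopf (R := A) (Red.bc i H)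
  haveI := hw
  haveI := hw'
  haveI : IsIso w.hom.left := inferInstanceAs (IsIso ((Over.forget _).map w.hom))
  haveI : Algebra.FinitePresentation A C := by
    have h1 : LocallyOfFinitePresentation (Red.bc i H).hom := MorphismProperty.pullback_snd _ _ ‹_›
    have h2 : LocallyOfFinitePresentation (sp A C).hom := by
      rw [← Over.w w.hom]
      infer_instance
    have h3 : LocallyOfFinitePresentation (Spec.map (CommRingCat.ofHom (algebraMap A C))) := h2
    rw [HasRingHomProperty.Spec_iff (P := @LocallyOfFinitePresentation)] at h3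
    exact RingHom.finitePresentation_algebraMap.1 h3
  haveI : Module.Flat A C := by
    have h1 : Flat (Red.bc i H).hom := MorphismProperty.pullback_snd _ _ ‹_›
    have h2 : Flat (sp A C).hom := by
      rw [← Over.w w.hom]
      infer_instance
    have h3 : Flat (Spec.map (CommRingCat.ofHom (algebraMap A C))) := h2
    rw [HasRingHomProperty.Spec_iff (P := @Flat)] at h3
    exact RingHom.flat_algebraMap_iff.1 h3
  have hfibC : ∀ (q : Ideal A) [q.IsPrime], SGA3b.IsMultType q.ResidueField (q.ResidueField ⊗[A] C) := fun q hq =>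
    MultNhd.isMultType_geomFibre H i w q (hfib _)
  obtain ⟨T, _, _, hT, ⟨v, hv⟩, M₀, _, hM₀, ⟨E⟩⟩ := MultNhd.exists_split_nhd pt₀.asIdeal hfibC (fun n hn q hq hle => by
    obtain ⟨d, hd, hval⟩ := hord n hn
    let xq : PrimeSpectrum A := ⟨q, hq⟩
    have hsp : xq ⤳ pt₀ := (PrimeSpectrum.le_iff_specializes xq pt₀).1 hle
    have hdd : d (i.base xq) = d (i.base pt₀) :=
      (hsp.map i.continuous).mem_open (hd.isOpen_fiber (d (i.base pt₀))) rfl
    rw [← MultNhd.finrank_fibre_kerPow H i w q (hfibC q) n hn (⊥ : PrimeSpectrum (S.residueField (i.base xq))),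
      ← MultNhd.finrank_fibre_kerPow H i w pt₀.asIdeal (hfibC _) n hn
        (⊥ : PrimeSpectrum (S.residueField (i.base pt₀))), hval, hval]
    exact hdd)
  haveI := hT
  haveI := hM₀
  obtain ⟨M, _, hM, ⟨eM⟩⟩ := HomCorr.exists_small M₀
  obtain ⟨E'⟩ := HomCorr.exists_reindex E eM
  obtain ⟨eDS⟩ := HomCorr.exists_iso_DS_of_split (H := Red.bc i H) w.hom E'
  haveI : Etale (baseHom A T) := by
    rw [HasRingHomProperty.Spec_iff (P := @Etale)]
    exact RingHom.etale_algebraMap.2 inferInstance
  let t : Spec (CommRingCat.of T) ⟶ S := baseHom A T ≫ i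
  haveI : Etale t := inferInstanceAs (Etale (baseHom A T ≫ i))
  let b : Red.bc (baseHom A T) (Red.bc i H) ≅ Red.bc t H := ActBC.bcCompIso _ _ H rfl
  haveI : IsMonHom b.hom := ActBC.bcCompIso_isMonHom _ _ _
  haveI : IsMonHom b.inv := inferInstance
  let e₁ : Red.bc (baseHom A T) (Red.bc i H) ≅ Red.DS (Spec (CommRingCat.of T)) M := (Grp.forget _).mapIso eDS
  haveI : IsMonHom e₁.hom := eDS.hom.hom.isMonHom_hom
  refine ⟨Spec (CommRingCat.of T), t, M, inferInstance, inferInstance, inferInstance, ⟨v, ?_⟩, hM,
    b.symm ≪≫ e₁, ?_⟩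
  · refine (congrArg i.base ?_).trans hpt
    exact PrimeSpectrum.ext hv
  · show IsMonHom (b.inv ≫ e₁.hom)
    infer_instance

end Groth.Agent.S16783
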