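import Groth.Statements.S16786
import Groth.Agent.MultNhdLib.SubLift
-- import your own Groth.Agent.* helpers here

set_option autoImplicit false
set_option backward.isDefEq.respectTransparency false
set_option backward.isDefEq.respectTransparency.types false
set_option linter.style.haveILetI false
set_option synthInstance.maxHeartbeats 200000
set_option maxHeartbeats 1600000
open CategoryTheory MonoidalCategory CartesianMonoidalCategory MonObj GrpObj AlgebraicGeometry
universe u
open CategoryTheory.Limits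
open SGA3x

namespace Groth.Agent.S16786

open CoactBr Groth.Agent
open Groth.Agent.DiagRep (baseHom)
open Groth.Agent.RedRank (homOf)

attribute [local instance] CoactBr.braidedAlgSpecOf

/-- Let G be a smooth affine group scheme over a scheme S, s ∈ S, and H₀ a subgroup scheme of
multiplicative type of the fibre G_s. Then H₀ lifts to a subgroup scheme of multiplicative type of G
over an etale neighbourhood of s with trivial residue field extension: there are an etale S' → S, a
κ(s)-point of S' over s and a multiplicative type subgroup of G_{S'} restricting to H₀ along that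
point. -/
theorem result {S : Scheme.{u}} (G : Over S) [GrpObj G]
    (hG : Smooth G.hom) (hGa : IsAffineHom G.hom) (s : S)
    (H₀ : Over (Spec (S.residueField s))) [GrpObj H₀] (i₀ : H₀ ⟶ Red.bc (S.fromSpecResidueField s) G)
    [IsMonHom i₀] [Mono i₀] (hH₀ : SGA3x.IsMultTypeFT H₀) :
    ∃ (S' : Scheme.{u}) (e : S' ⟶ S) (σ : Spec (S.residueField s) ⟶ S'), Etale e ∧ σ ≫ e = S.fromSpecResidueField s ∧
      ∃ (H' : Over S') (_ : GrpObj H') (i' : H' ⟶ Red.bc e G) (_ : IsMonHom i') (_ : Mono i'), SGA3x.IsMultTypeFT H' ∧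
        ∃ φ : H₀.left ≅ (Red.bc σ H').left, φ.hom ≫ (Red.bc σ H').hom = H₀.hom ∧
          φ.hom ≫ ((Over.pullback σ).map i').left ≫ pullback.fst (Red.bc e G).hom σ ≫ pullback.fst G.hom e =
            i₀.left ≫ pullback.fst G.hom (S.fromSpecResidueField s) := by
  haveI := hG
  haveI := hGa
  obtain ⟨V, hV, hsV, -⟩ := exists_isAffineOpen_mem_and_subset (X := S) (x := s) (U := ⊤) trivial
  let A : Type u := Γ(S, V)
  let i : Spec (CommRingCat.of A) ⟶ S := hV.fromSpec
  obtain ⟨pt₀, hpt⟩ : ∃ x : PrimeSpectrum A, i.base x = s :=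
    ⟨hV.primeIdealOf ⟨s, hsV⟩, hV.fromSpec_primeIdealOf ⟨s, hsV⟩⟩
  clear hsV
  subst hpt
  haveI hiopen : IsOpenImmersion i := hV.isOpenImmersion_fromSpec
  let K : Type u := S.residueField (i.base pt₀)
  let κ₀ : Type u := pt₀.asIdeal.ResidueField
  let eK : S.residueField (i.base pt₀) ⟶ CommRingCat.of κ₀ :=
    i.residueFieldMap pt₀ ≫ (Scheme.Spec.residueFieldIso (CommRingCat.of A) pt₀).hom
  haveI : IsIso eK := inferInstanceAs
    (IsIso (i.residueFieldMap pt₀ ≫ (Scheme.Spec.residueFieldIso (CommRingCat.of A) pt₀).hom))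
  have hκ₀ : baseHom A κ₀ ≫ i = Spec.map eK ≫ S.fromSpecResidueField (i.base pt₀) := by
    have h1 : baseHom A κ₀ = Spec.map (Scheme.Spec.residueFieldIso (CommRingCat.of A) pt₀).hom ≫
        (Spec (CommRingCat.of A)).fromSpecResidueField pt₀ := by
      rw [← Scheme.Spec.map_residueFieldIso_inv_eq_fromSpecResidueField, ← Spec.map_comp_assoc, Iso.inv_hom_id,
        Spec.map_id, Category.id_comp]
    rw [h1, Category.assoc, ← Scheme.Hom.SpecMap_residueFieldMap_fromSpecResidueField, ← Spec.map_comp_assoc]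
  letI : Algebra A K := (CommRingCat.ofHom (algebraMap A κ₀) ≫ inv eK).hom.toAlgebra
  have hsec : baseHom A K ≫ i = S.fromSpecResidueField (i.base pt₀) := by
    show Spec.map (CommRingCat.ofHom (CommRingCat.ofHom (algebraMap A κ₀) ≫ inv eK).hom) ≫ i = _
    rw [CommRingCat.ofHom_hom, Spec.map_comp, Category.assoc]
    show Spec.map (inv eK) ≫ baseHom A κ₀ ≫ i = _
    rw [hκ₀, ← Spec.map_comp_assoc, IsIso.hom_inv_id, Spec.map_id, Category.id_comp]
  have heK : ∀ c : A, eK.hom (algebraMap A K c) = algebraMap A κ₀ c := fun c =>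
    DFunLike.congr_fun (congrArg CommRingCat.Hom.hom
      (show (CommRingCat.ofHom (algebraMap A κ₀) ≫ inv eK) ≫ eK = CommRingCat.ofHom (algebraMap A κ₀) by
        rw [Category.assoc, IsIso.inv_hom_id, Category.comp_id])) c
  have hK : ∀ x : K, ∃ a t : A, algebraMap A K t ≠ 0 ∧ x * algebraMap A K t = algebraMap A K a := fun x => by
    obtain ⟨a, t, ht, hx⟩ := MultNhd.residueField_frac pt₀.asIdeal (eK.hom x)
    refine ⟨a, t, fun h0 => ht ?_, eK.hom.injective ?_⟩
    · rw [← heK t, h0, map_zero]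
    · rw [map_mul, heK, heK, hx]
  obtain ⟨S₁, _, _, _, _, H₁, _, hEt₁, hH₁, h, hh⟩ := MultNhd.exists_group_lift hK H₀ hH₀
  haveI := hEt₁
  haveI : IsMonHom h.hom := hh
  haveI : Etale (baseHom A S₁) := by
    rw [HasRingHomProperty.Spec_iff (P := @Etale)]
    exact RingHom.etale_algebraMap.2 inferInstance
  let f₁ : Spec (CommRingCat.of S₁) ⟶ S := baseHom A S₁ ≫ i
  haveI : Etale f₁ := inferInstanceAs (Etale (baseHom A S₁ ≫ i))
  let σ₁ : Spec (CommRingCat.of K) ⟶ Spec (CommRingCat.of S₁) := baseHom S₁ K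
  have hσ₁ : σ₁ ≫ f₁ = S.fromSpecResidueField (i.base pt₀) := by
    rw [← hsec]
    show Spec.map _ ≫ Spec.map _ ≫ i = Spec.map _ ≫ i
    rw [← Spec.map_comp_assoc, ← CommRingCat.ofHom_comp]
    congr 3
    exact (IsScalarTower.algebraMap_eq A S₁ K).symm
  exact MultNhd.exists_subgroup_lift G hG hGa (fun x => by
      obtain ⟨a, t, ht, hx⟩ := hK x
      exact ⟨algebraMap A S₁ a, algebraMap A S₁ t, by rwa [← IsScalarTower.algebraMap_apply],
        by rwa [← IsScalarTower.algebraMap_apply, ← IsScalarTower.algebraMap_apply]⟩)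
    f₁ H₁ hH₁ hσ₁ H₀ i₀ h

end Groth.Agent.S16786
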