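import Groth.Statements.S5297
import Groth.Agent.TransLiftLib.Nilp
import Groth.Agent.ConjAvgLib.IsoGlue
import Groth.Agent.S5273

set_option autoImplicit false
open CategoryTheory MonoidalCategory CartesianMonoidalCategory MonObj GrpObj AlgebraicGeometry
universe u
open SGA3x
set_option backward.isDefEq.respectTransparency false

namespace Groth.Agent.S5297

/-- In the lifting form that formal smoothness of the transporter means. Let S = Spec R be affine, J a
nilpotent ideal of R and S₀ = Spec (R/J); let G be an S-group smooth over S, k : K ⟶ G a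
sub-group-scheme (a homomorphism which is an immersion) with K smooth over S or of multiplicative
type, H an S-group of multiplicative type (fpqc-locally on S isomorphic, as a group, to
diagonalisable groups D(M), M allowed to vary and taken in Type 0), u : H ⟶ G a homomorphism, and g₀
an S₀-valued point of G such that int(g₀) ∘ u takes the points of H defined over S₀-schemes into K.
Then g₀ lifts to an S-point g of G such that int(g) ∘ u factors through K on all points. -/
theorem result {R : Type u} [CommRing R] (J : Ideal R) (hJ : IsNilpotent J)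
    (G K H : Over (Spec (CommRingCat.of R))) [GrpObj G] [GrpObj K] [GrpObj H] (hG : Smooth G.hom)
    (k : K ⟶ G) [IsMonHom k] [IsImmersion k.left]
    (hK : Smooth K.hom ∨ TwC.Locally (Spec (CommRingCat.of R)) TwC.Topology.fpqc (fun S' f => ∃ (M : Type) (_ : AddCommGroup M), Nonempty (Grp.mk (Red.bc f K) ≅ Grp.mk (Red.DS S' M))))
    (hH : TwC.Locally (Spec (CommRingCat.of R)) TwC.Topology.fpqc (fun S' f => ∃ (M : Type) (_ : AddCommGroup M), Nonempty (Grp.mk (Red.bc f H) ≅ Grp.mk (Red.DS S' M))))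
    (u : H ⟶ G) [IsMonHom u] (g₀ : (Over.mk (Spec.map (CommRingCat.ofHom (Ideal.Quotient.mk J))) : Over (Spec (CommRingCat.of R))) ⟶ G)
    (h0 : ∀ (X : Over (Spec (CommRingCat.of R))) (p : X ⟶ (Over.mk (Spec.map (CommRingCat.ofHom (Ideal.Quotient.mk J))) : Over (Spec (CommRingCat.of R)))) (h : X ⟶ H),
      ∃ x : X ⟶ K, (p ≫ g₀) * (h ≫ u) * (p ≫ g₀)⁻¹ = x ≫ k) :
    ∃ g : 𝟙_ (Over (Spec (CommRingCat.of R))) ⟶ G, toUnit (Over.mk (Spec.map (CommRingCat.ofHom (Ideal.Quotient.mk J))) : Over (Spec (CommRingCat.of R))) ≫ g = g₀ ∧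
      ∀ (X : Over (Spec (CommRingCat.of R))) (h : X ⟶ H), ∃ x : X ⟶ K, (toUnit X ≫ g) * (h ≫ u) * (toUnit X ≫ g)⁻¹ = x ≫ k := by
  haveI := hG
  let ε : CoactBr.sp R (R ⧸ J) ⟶ SqLift.S₀ J := SqLift.toS₀ (R ⧸ J) (fun r hr => by
    rw [RingHom.mem_ker]
    exact Ideal.Quotient.eq_zero_iff_mem.2 hr)
  let ε' : SqLift.S₀ J ⟶ CoactBr.sp R (R ⧸ J) := Over.homMk (𝟙 _) (Category.id_comp _)
  have h1 : ε' ≫ ε = 𝟙 _ := SqLift.hom_ext_S₀ _ _
  rcases hK with hKs | hKm
  · -- a smooth subgroup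
    obtain ⟨g, hg, hr⟩ := TransLift.exists_enters_nilpotent hH hKs u k hJ (ε ≫ g₀) fun X q h => by
      obtain ⟨x, hx⟩ := h0 X (q ≫ ε) h
      exact ⟨x, by rw [← Category.assoc q ε g₀]; exact hx.symm⟩
    have hid : Spec.map (CommRingCat.ofHom (algebraMap R R)) = 𝟙 (Spec (CommRingCat.of R)) := by
      rw [Algebra.algebraMap_self, CommRingCat.ofHom_id, Spec.map_id]
    let η' : 𝟙_ (Over (Spec (CommRingCat.of R))) ⟶ CoactBr.sp R R := Over.homMk (𝟙 _) (by
      show 𝟙 (Spec (CommRingCat.of R)) ≫ Spec.map (CommRingCat.ofHom (algebraMap R R)) = 𝟙 _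
      rw [Category.id_comp]
      exact hid)
    refine ⟨η' ≫ g, ?_, fun X h => ?_⟩
    · have e : toUnit (SqLift.S₀ J) ≫ η' = ε' ≫ CoactBr.pt (Ideal.Quotient.mkₐ R J) := by
        refine Over.OverMorphism.ext ?_
        have ht : (toUnit (SqLift.S₀ J)).left = (SqLift.S₀ J).hom :=
          (Category.comp_id _).symm.trans (Over.w (toUnit _))
        show (toUnit (SqLift.S₀ J)).left ≫ 𝟙 _ = 𝟙 _ ≫ Spec.map (CommRingCat.ofHom (Ideal.Quotient.mk J))
        rw [ht, Category.id_comp, Category.comp_id]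
        rfl
      rw [← Category.assoc, e, Category.assoc, hg, ← Category.assoc, h1, Category.id_comp]
    · obtain ⟨x, hx⟩ := hr X (toUnit X ≫ η') h
      exact ⟨x, by rw [← Category.assoc (toUnit X) η' g]; exact hx.symm⟩
  · -- a subgroup of multiplicative type
    obtain ⟨gt, hgt⟩ := ConjAvg.exists_lift_nilpotent hJ g₀
    haveI : IsMonHom (AGF.conjBy gt (𝟙 G)) := DiagRep.isMonHom_conjBy gt
    let u' : H ⟶ G := u ≫ AGF.conjBy gt (𝟙 G)
    haveI : IsMonHom u' := inferInstanceAs (IsMonHom (u ≫ AGF.conjBy gt (𝟙 G)))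
    have hu' : ∀ (X : Over (Spec (CommRingCat.of R))) (p : X ⟶ SqLift.S₀ J) (h : X ⟶ H),
        h ≫ u' = (p ≫ g₀) * (h ≫ u) * (p ≫ g₀)⁻¹ := by
      intro X p h
      rw [show u' = AGF.conjBy gt u from (DiagRep.conjBy_eq_comp gt u).symm, AGF.conjBy, comp_mul, comp_mul,
        GrpObj.comp_inv, ← Category.assoc, toUnit_unique (h ≫ toUnit _) (p ≫ toUnit _), Category.assoc, hgt]
    haveI : Mono k.left := inferInstance
    obtain ⟨φ, hφ, hmod⟩ := ConjAvg.exists_hom_modEq hH hKm u' k hJ (fun Y q hq h => by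
      obtain ⟨x, hx⟩ := h0 Y (Over.homMk q hq) h
      exact ⟨x, hx.symm.trans (hu' Y (Over.homMk q hq) h).symm⟩)
    haveI := hφ
    obtain ⟨g, hg1, hg⟩ := Groth.Agent.S5273.result J hJ H G hH hG u (φ ≫ k) g₀ fun X p h => by
      rw [← hu' X p h]
      exact ConjAvg.eq_on_killed (fun D _ _ hD y => hmod D hD y) X h p.left (Over.w p)
    refine ⟨g, hg1, fun X h => ⟨h ≫ φ, ?_⟩⟩
    rw [Category.assoc]
    exact (hg X h).symm

end Groth.Agent.S5297
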