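import Groth.Statements.S16794
import Groth.Agent.PCurvLib.Hochschild

set_option autoImplicit false
universe v u
open PCurv

namespace Groth.Agent.S16794

open TensorProduct in
/-- Let p be a prime number and B a commutative algebra of characteristic p over a commutative ring A
whose module Ω of Kähler differentials over A is free of rank one on a form ω; let θ₀ be the
A-derivation of B dual to ω (its B-linear functional Ω → B takes the value 1 on ω), and let ∇ be a
connection on a finite free B-module M. Then the p-curvature of ∇ vanishes identically — for every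
A-derivation θ of B and every derivation θ' that agrees with the p-fold iterate of θ, the
endomorphism (∇_θ)^p − ∇_{θ'} of M is zero — if and only if it vanishes for the single derivation
θ₀. -/
theorem result {A : Type v} {B M : Type u} [CommRing A] [CommRing B]
    [Algebra A B] (p : ℕ) [Fact p.Prime] [CharP B p]
    [AddCommGroup M] [Module B M] [Module A M] [IsScalarTower A B M] [Module.Finite B M] [Module.Free B M]
    (bΩ : Module.Basis (Fin 1) B (KaehlerDifferential A B)) (θ₀ : Derivation A B B)
    (hθ₀ : θ₀.liftKaehlerDifferential (bΩ 0) = 1)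
    (nabla : M →ₗ[A] M ⊗[B] KaehlerDifferential A B)
    (hc : Conn.IsConn (KaehlerDifferential.D A B) nabla) :
    (∀ θ θp : Derivation A B B, Conn.IsIterPow θ p θp → Conn.pCurv p nabla θ θp = 0) ↔
      (∀ θp : Derivation A B B, Conn.IsIterPow θ₀ p θp → Conn.pCurv p nabla θ₀ θp = 0) := by
  constructor
  · intro h θp hθp
    exact h θ₀ θp hθp
  intro h θ θp hθp
  set f : B := θ.liftKaehlerDifferential (bΩ 0)
  have hlift : θ.liftKaehlerDifferential = f • θ₀.liftKaehlerDifferential := bΩ.ext fun i => by
    rw [Subsingleton.elim i 0, LinearMap.smul_apply, hθ₀, smul_eq_mul, mul_one]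
  have hθ : ∀ b, θ b = f * θ₀ b := fun b => by
    have := LinearMap.congr_fun hlift (KaehlerDifferential.D A B b)
    simpa using this
  have hθ₀mul : ∀ a b, θ₀ (a * b) = θ₀ a * b + a * θ₀ b := fun a b => by
    rw [θ₀.leibniz, smul_eq_mul, smul_eq_mul]; ring
  let θ₀p : Derivation A B B := Derivation.mk' ((θ₀ : B →ₗ[A] B) ^ p) fun a b => by
    rw [Module.End.pow_apply, Module.End.pow_apply, Module.End.pow_apply, smul_eq_mul, smul_eq_mul]
    simp only [Derivation.coeFn_coe]
    rw [PCurvLib.iterate_prime_mul p (map_add θ₀) hθ₀mul a b]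
    ring
  have hθ₀p : Conn.IsIterPow θ₀ p θ₀p := fun b => Module.End.pow_apply (θ₀ : B →ₗ[A] B) p b
  have hzero := h θ₀p hθ₀p
  let D₀ : M →ₗ[A] M := Conn.alongDer nabla θ₀
  have halong : ∀ (θ' : Derivation A B B) (g : B), θ'.liftKaehlerDifferential (bΩ 0) = g →
      ∀ m, Conn.alongDer nabla θ' m = g • D₀ m := fun θ' g hg m => by
    have hl : θ'.liftKaehlerDifferential = g • θ₀.liftKaehlerDifferential := bΩ.ext fun i => by
      rw [Subsingleton.elim i 0, LinearMap.smul_apply, hθ₀, hg, smul_eq_mul, mul_one]
    show TensorProduct.rid B M (TensorProduct.map LinearMap.id θ'.liftKaehlerDifferential (nabla m)) = _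
    rw [hl, TensorProduct.map_smul_right, LinearMap.smul_apply, map_smul]
    rfl
  have hD : ∀ (b : B) m, D₀ (b • m) = θ₀ b • m + b • D₀ m := fun b m => by
    show TensorProduct.rid B M (TensorProduct.map LinearMap.id θ₀.liftKaehlerDifferential (nabla (b • m))) = _
    rw [hc b m, map_add, map_add, map_smul, map_smul, TensorProduct.map_tmul, TensorProduct.rid_tmul]
    simp only [LinearMap.id_coe, id_eq, Derivation.liftKaehlerDifferential_comp_D]
    exact add_comm _ _
  set c := PCurvLib.C θ₀ f p 1
  have hB : ∀ b, θp b = f ^ p * θ₀p b + c * θ₀ b := fun b => by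
    rw [hθp b, hθ₀p b]
    have := PCurvLib.hochschild θ₀ f p (M := B) (AddMonoidHom.mk' θ₀ (map_add θ₀))
      (fun b m => by simpa [smul_eq_mul] using hθ₀mul b m) b
    rw [show (⇑θ : B → B) = fun m => f * θ₀ m from funext hθ]
    exact this
  set g := θp.liftKaehlerDifferential (bΩ 0)
  set g₀ := θ₀p.liftKaehlerDifferential (bΩ 0)
  have hg : g = f ^ p * g₀ + c := by
    have hder : θp = f ^ p • θ₀p + c • θ₀ := Derivation.ext fun b => by simpa using hB b
    have hl : θp.liftKaehlerDifferential =
        f ^ p • θ₀p.liftKaehlerDifferential + c • θ₀.liftKaehlerDifferential := by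
      refine Derivation.liftKaehlerDifferential_unique _ _ ?_
      ext b
      simpa using hB b
    show θp.liftKaehlerDifferential (bΩ 0) = _
    rw [hl, LinearMap.add_apply, LinearMap.smul_apply, LinearMap.smul_apply, hθ₀]
    simp [g₀]
  refine LinearMap.ext fun m => ?_
  have h0 := LinearMap.congr_fun hzero m
  simp only [Conn.pCurv, LinearMap.sub_apply, LinearMap.zero_apply, sub_eq_zero,
    Module.End.pow_apply] at h0 ⊢
  rw [halong θ₀p g₀ rfl] at h0
  have hH := PCurvLib.hochschild θ₀ f p (M := M) D₀.toAddMonoidHom hD m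
  rw [show (⇑(Conn.alongDer nabla θ) : M → M) = fun m => f • D₀ m from funext (halong θ f rfl),
    halong θp g rfl]
  refine hH.trans ?_
  show f ^ p • (⇑D₀)^[p] m + c • D₀ m = g • D₀ m
  rw [h0, hg, add_smul, mul_smul]

end Groth.Agent.S16794
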