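import Groth.Statements.S16809
import Groth.Agent.ResGerbeLib.Substack3
import Groth.Agent.ResGerbeLib.Charts
import Groth.Agent.ResGerbeLib.Factor
import Groth.Agent.AlgStBig.MonoFull
import Groth.Agent.AlgStLib.UnivInj
-- import your own Groth.Agent.* helpers here

set_option autoImplicit false
universe u
open CategoryTheory AlgebraicGeometry
open Gerb

namespace Groth.Agent.S16809

/-- (1)⇔(2)⇔(3): for a point x of an algebraic stack 𝒳 the following are equivalent: some algebraic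
stack with exactly one point maps monomorphically to 𝒳 onto x; some reduced algebraic stack with
exactly one point does; some algebraic stack 𝒵 with a monomorphism f : 𝒵 → 𝒳 receives a surjective
flat morphism z from the spectrum of a field with f(z) = x. -/
theorem result
    (S : Scheme.{u}) (𝒳 : AlgSt.Cat S) (h𝒳 : AlgSt.IsAlgStack Scheme.fppfPrecoverage 𝒳) (x : AlgSt.Points 𝒳) :
    [Gerb.ResGerbeExists Scheme.fppfPrecoverage 𝒳 x,
      ∃ (𝒵 : AlgSt.Cat S) (f : 𝒵 ⥤ᵇ 𝒳), AlgSt.IsAlgStack Scheme.fppfPrecoverage 𝒵 ∧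
        AlgSt.SmoothLocally (fun T => IsReduced T) 𝒵 ∧ AlgSt.IsMono f ∧
        Nonempty (AlgSt.Points 𝒵) ∧ Subsingleton (AlgSt.Points 𝒵) ∧ ∀ p, AlgSt.Points.map f p = x,
      ∃ (𝒵 : AlgSt.Cat S) (f : 𝒵 ⥤ᵇ 𝒳) (k : Type u) (_ : Field k) (a : Spec (CommRingCat.of k) ⟶ S)
        (z : FibCat.overCat (Over.mk a) ⥤ᵇ 𝒵), AlgSt.IsAlgStack Scheme.fppfPrecoverage 𝒵 ∧ AlgSt.IsMono f ∧
        AlgSt.RepByAlgSpWith AlgSp.IsSurjectiveMor z ∧ AlgSt.RepByAlgSpWith (AlgSp.LocP @Flat) z ∧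
        ∀ t : ↥(Over.mk a).left, AlgSt.Points.map f (AlgSt.Points.ofChart z t) = x].TFAE := by
  haveI := h𝒳.isStack.1
  tfae_have 1 → 2 := by
    rintro ⟨𝒵, i, h𝒵, hi, hne, hsub, hx⟩
    haveI := h𝒵.isStack.1
    obtain ⟨Q, ⟨-, hA, -⟩, hrange, hred⟩ := ResGerbeLib.exists_reduced_closedSubstack h𝒵 Set.univ isClosed_univ
    haveI := hA.isStack.1
    haveI : i.toFunctor.Faithful := (AlgStSetoidLib.repByAlgSp1_iff_faithful h𝒵 h𝒳 i).mp (AlgStBig.repByAlgSp1_of_with hi)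
    haveI := AlgStBig.full_of_isMono hi
    haveI : (AlgSt.subIncl 𝒵 Q).toFunctor.Full := inferInstanceAs (ObjectProperty.ι Q).Full
    haveI : (AlgSt.subIncl 𝒵 Q).toFunctor.Faithful := inferInstanceAs (ObjectProperty.ι Q).Faithful
    haveI : (BasedFunctor.comp (AlgSt.subIncl 𝒵 Q) i).toFunctor.Full :=
      inferInstanceAs ((AlgSt.subIncl 𝒵 Q).toFunctor ⋙ i.toFunctor).Full
    haveI : (BasedFunctor.comp (AlgSt.subIncl 𝒵 Q) i).toFunctor.Faithful :=
      inferInstanceAs ((AlgSt.subIncl 𝒵 Q).toFunctor ⋙ i.toFunctor).Faithful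
    obtain ⟨p⟩ := hne
    obtain ⟨q, -⟩ := hrange ▸ Set.mem_univ p
    haveI := hsub
    refine ⟨_, BasedFunctor.comp (AlgSt.subIncl 𝒵 Q) i, hA, hred, AlgStSetoidLib.isMono_of_full_faithful hA h𝒳 _,
      ⟨q⟩, (AlgStLib.injective_of_isMono (ResGerbeLib.isMono_subIncl h𝒵 hA)).subsingleton, fun r => ?_⟩
    rw [AlgStBig.map_comp, hx]
  tfae_have 2 → 3 := by
    rintro ⟨𝒵, f, h𝒵, hred, hf, hne, hsub, hx⟩
    obtain ⟨k, hk, a, z, -, -⟩ := ResGerbeLib.exists_fieldPt h𝒵 hne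
    letI := hk
    haveI : Nonempty ↥(Over.mk a).left := inferInstanceAs (Nonempty (PrimeSpectrum k))
    obtain ⟨hs, hfl⟩ := ResGerbeLib.surjective_flat_of_singleton h𝒵 hred hsub z
    exact ⟨𝒵, f, k, hk, a, z, h𝒵, hf, hs, hfl, fun t => hx _⟩
  tfae_have 3 → 1 := by
    rintro ⟨𝒵, f, k, hk, a, z, h𝒵, hf, hs, hfl, hx⟩
    letI := hk
    obtain ⟨hne, hsub⟩ := ResGerbeLib.points_of_surjective_fieldPt h𝒵 z hs
    haveI := hsub
    obtain ⟨t⟩ : Nonempty ↥(Over.mk a).left := inferInstanceAs (Nonempty (PrimeSpectrum k))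
    exact ⟨𝒵, f, h𝒵, hf, hne, hsub, fun p => by rw [Subsingleton.elim p (AlgSt.Points.ofChart z t), hx t]⟩
  tfae_finish

end Groth.Agent.S16809
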