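import Groth.Statements.S1681
import Groth.Agent.EffCartLib.Basic

set_option autoImplicit false
universe u
open CategoryTheory CategoryTheory.Limits AlgebraicGeometry TopologicalSpace
open SDiv

namespace Groth.Agent.S1681
/-- No maximal point lies on an effective Cartier divisor. -/
theorem exists_generization_of_mem {X : Scheme.{u}} {D : X.IdealSheafData} (hD : BlowUp.IsEffCartierIdeal D)
    {x : X} (hx : x ∈ (D.support : Set X)) : ∃ η : X, η ⤳ x ∧ η ≠ x := by
  obtain ⟨U, hxU, f, hf, hI⟩ := hD x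
  by_contra h
  push_neg at h
  have hfx : f ∈ (U.2.primeIdealOf ⟨x, hxU⟩).asIdeal := by
    have h1 := (D.mem_support_iff_of_mem hxU).mp hx
    rw [Scheme.mem_zeroLocus_iff] at h1
    have h2 := h1 f (hI ▸ Ideal.mem_span_singleton_self f)
    by_contra hne
    exact h2 (by
      have hxx : U.2.fromSpec (U.2.primeIdealOf ⟨x, hxU⟩) = x := U.2.fromSpec_primeIdealOf ⟨x, hxU⟩
      rw [← hxx]
      change U.2.primeIdealOf ⟨x, hxU⟩ ∈ U.2.fromSpec ⁻¹ᵁ X.basicOpen f
      rw [U.2.fromSpec_preimage_basicOpen]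
      exact hne)
  refine (Ideal.disjoint_nonZeroDivisors_of_mem_minimalPrimes ?_).le_bot ⟨hfx, hf⟩
  refine ⟨⟨(U.2.primeIdealOf ⟨x, hxU⟩).isPrime, bot_le⟩, fun q hq hle => ?_⟩
  have hsp : (⟨q, hq.1⟩ : PrimeSpectrum _) ⤳ U.2.primeIdealOf ⟨x, hxU⟩ :=
    (PrimeSpectrum.le_iff_specializes _ _).mp hle
  have h3 := hsp.map U.2.fromSpec.continuous
  have hxx : U.2.fromSpec (U.2.primeIdealOf ⟨x, hxU⟩) = x := U.2.fromSpec_primeIdealOf ⟨x, hxU⟩
  have h4 := h _ (h3.trans (specializes_of_eq hxx))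
  replace h4 := h4.trans hxx.symm
  exact (congrArg PrimeSpectrum.asIdeal (U.2.fromSpec.isOpenEmbedding.injective h4)).ge

theorem gen_mem_open {X : Scheme.{u}} (W : X.Opens) {x y : X} (hx : x ∈ W) (h : y ⤳ x) : y ∈ W :=
  h.mem_open W.2 hx

/-- Let b : X' ⟶ X be a blowing-up of X along the quasi-coherent ideal sheaf 𝓘. Then b restricts to a
bijection from the maximal points of X' (points with no proper generization) onto the maximal points
of X not lying in the support of 𝓘. -/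
theorem result {X X' : Scheme.{u}} (𝓘 : X.IdealSheafData) (b : X' ⟶ X) (hb : BlowUp.IsBlowUp b 𝓘) :
    Set.BijOn (fun x' => b x') {x' : ↥X' | ∀ y : ↥X', y ⤳ x' → y = x'}
      {x : ↥X | (∀ y : ↥X, y ⤳ x → y = x) ∧ x ∉ 𝓘.support} := by
  let W : X.Opens := 𝓘.support.compl
  haveI : IsIso (b ∣_ W) := EffCartLib.isIso_off_center 𝓘 b hb W le_rfl
  have hbij : Function.Bijective (b ∣_ W).base :=
    ⟨(b ∣_ W).isOpenEmbedding.injective, (b ∣_ W).surjective⟩
  have hb' : ∀ z : (b ⁻¹ᵁ W : X'.Opens), ((b ∣_ W) z).1 = b z.1 := fun z => morphismRestrict_base_coe b W z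
  have hinj : ∀ a c : X', b a ∈ W → b c ∈ W → b a = b c → a = c := fun a c ha hc h => by
    have : (b ∣_ W) ⟨a, ha⟩ = (b ∣_ W) ⟨c, hc⟩ := Subtype.ext (by rw [hb', hb']; exact h)
    exact congrArg Subtype.val (hbij.1 this)
  have hW : ∀ x' : X', (∀ y : X', y ⤳ x' → y = x') → b x' ∈ W := fun x' hmax hC => by
    have hmem : x' ∈ ((𝓘.comap b).support : Set X') := by
      rw [Scheme.IdealSheafData.support_comap]
      exact hC
    obtain ⟨η, hη, hne⟩ := exists_generization_of_mem hb.1 hmem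
    exact hne (hmax η hη)
  refine ⟨fun x' hx' => ⟨fun y hy => ?_, hW x' hx'⟩, fun a ha c hc h => hinj a c (hW a ha) (hW c hc) h,
    fun x hx => ?_⟩
  · have hyW : y ∈ W := gen_mem_open W (hW x' hx') hy
    obtain ⟨z, hz⟩ := hbij.2 ⟨y, hyW⟩
    have hbz : b z.1 = y := (hb' z).symm.trans (congrArg Subtype.val hz)
    have h1 : ((b ∣_ W) z) ⤳ ((b ∣_ W) ⟨x', hW x' hx'⟩) := by
      refine (subtype_specializes_iff _ _).mpr ?_
      rw [hb', hb', hbz]
      exact hy
    have h2 : z ⤳ (⟨x', hW x' hx'⟩ : (b ⁻¹ᵁ W : X'.Opens)) :=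
      ((b ∣_ W).isOpenEmbedding.isInducing.specializes_iff).mp h1
    rw [← hbz, hx' z.1 ((subtype_specializes_iff _ _).mp h2)]
  · obtain ⟨hmax, hC⟩ := hx
    obtain ⟨z, hz⟩ := hbij.2 ⟨x, hC⟩
    have hbz : b z.1 = x := (hb' z).symm.trans (congrArg Subtype.val hz)
    refine ⟨z.1, fun y hy => ?_, hbz⟩
    have h1 : b y = x := hmax _ (hbz ▸ hy.map b.continuous)
    refine hinj y z.1 ?_ z.2 (h1.trans hbz.symm)
    rw [h1]; exact hC

end Groth.Agent.S1681
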