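import Groth.Statements.S16815
import Groth.Agent.ResGerbeLib.Compare2
import Groth.Agent.AlgStBig.MonoFull
-- import your own Groth.Agent.* helpers here

set_option autoImplicit false
universe u
open CategoryTheory AlgebraicGeometry
open Gerb

namespace Groth.Agent.S16815

/-- Let f : 𝒳 → 𝒴 be a morphism of algebraic stacks, x a point of 𝒳 with image y, with residual gerbes
𝒵_x and 𝒵_y. Suppose some morphism p from the spectrum of a field k to 𝒳, representing x, makes the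
comparison map from Spec k ×_𝒳 Spec k to Spec k ×_𝒴 Spec k an isomorphism. Then the induced 𝒵_x →
𝒵_y is an isomorphism (an equivalence). -/
theorem result
    (S : Scheme.{u}) (𝒳 𝒴 : AlgSt.Cat S) (h𝒳 : AlgSt.IsAlgStack Scheme.fppfPrecoverage 𝒳) (h𝒴 : AlgSt.IsAlgStack Scheme.fppfPrecoverage 𝒴)
    (f : 𝒳 ⥤ᵇ 𝒴) (x : AlgSt.Points 𝒳)
    (Q : 𝒳.obj → Prop) (hQ : Gerb.IsResGerbe Scheme.fppfPrecoverage 𝒳 x Q)
    (Q' : 𝒴.obj → Prop) (hQ' : Gerb.IsResGerbe Scheme.fppfPrecoverage 𝒴 (AlgSt.Points.map f x) Q')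
    (k : Type u) [Field k] (a : Spec (CommRingCat.of k) ⟶ S)
    (p : FibCat.overCat (Over.mk a) ⥤ᵇ 𝒳)
    (hp : ∀ t : ↥(Over.mk a).left, AlgSt.Points.ofChart p t = x)
    (e : BasedFunctor.comp (FibCat.fpFst p p) (BasedFunctor.comp p f) ≅
      BasedFunctor.comp (FibCat.fpSnd p p) (BasedFunctor.comp p f))
    (he : ∀ c, e.hom.toNatTrans.app c = f.map c.obj.iso.hom)
    (hiso : FibCat.IsEquivOver (FibCat.fpLift (FibCat.fpFst p p) (FibCat.fpSnd p p) e)) :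
    ∃ g : AlgSt.fullSub 𝒳 Q ⥤ᵇ AlgSt.fullSub 𝒴 Q',
      Nonempty (BasedFunctor.comp g (AlgSt.subIncl 𝒴 Q') ≅ BasedFunctor.comp (AlgSt.subIncl 𝒳 Q) f) ∧
      FibCat.IsEquivOver g := by
  haveI := h𝒳.isStack.1
  haveI := h𝒴.isStack.1
  haveI := hQ.2.1.isStack.1
  haveI := hQ'.2.1.isStack.1
  haveI := hQ.1
  obtain ⟨t⟩ : Nonempty ↥(Over.mk a).left := inferInstanceAs (Nonempty (PrimeSpectrum k))
  obtain ⟨z₀⟩ := hQ.2.2.2.2.1
  have h : ∀ o, Q (p.obj o) :=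
    ResGerbeLib.mem_of_fieldPt h𝒳 hQ.2.1 p t ⟨z₀, (hQ.2.2.2.2.2.2 z₀).trans (hp t).symm⟩
  have h' := ResGerbeLib.mem_map h𝒳 h𝒴 f hQ hQ'
  let g : AlgSt.fullSub 𝒳 Q ⥤ᵇ AlgSt.fullSub 𝒴 Q' :=
    ResGerbeLib.liftSub (BasedFunctor.comp (AlgSt.subIncl 𝒳 Q) f) h'
  obtain ⟨k₁, hk₁, a₁, z₁, hzp, hzs, hzf⟩ := ResGerbeLib.exists_fppf_fieldPt hQ
  letI := hk₁
  have hd := ResGerbeLib.isEquivOver_diag_of_fieldPts hQ.2.1 hQ'.2.1 hQ.2.2.2.2.2.1 g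
    (ResGerbeLib.liftSub p h) (ResGerbeLib.isEquivOver_magicFst p h h' e he hiso) z₁ hzp hzs hzf
  have hW := AlgStSetoidLib.isAlgStack_fp' hQ.2.1 hQ.2.1 hQ'.2.1 g g
  haveI := hW.isStack.1
  haveI : (FibCat.diag g).toFunctor.Faithful :=
    (AlgStSetoidLib.repByAlgSp1_iff_faithful hQ.2.1 hW _).mp (AlgStBig.repByAlgSp1_of_with hd)
  haveI : (FibCat.diag g).toFunctor.Full :=
    AlgStBig.full_of_isMono (AlgStBig.repByAlgSpWith_mono (fun _ _ a _ _ (h : IsIso a) => inferInstanceAs (Mono a)) hd)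
  obtain ⟨_, _⟩ := FibLib.fullyFaithful_of_isEquivOver_diag g (ResGerbeLib.isEquivOver_of_isos hd)
  have hg := AlgStSetoidLib.isMono_of_full_faithful hQ.2.1 hQ'.2.1 g
  refine ⟨g, ⟨eqToIso rfl⟩, ?_⟩
  obtain ⟨k₂, hk₂, a₂, z₂, h1, h2, h3⟩ := ResGerbeLib.exists_fppf_fieldPt hQ'
  letI := hk₂
  exact (Groth.Agent.S16807.result S _ _ hQ.2.1 hQ'.2.1 g hg k₂ a₂ z₂ h1 h2 h3).resolve_left
    fun hE => hE.false z₀

end Groth.Agent.S16815
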