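import Groth.Statements.S16823
import Groth.Agent.QuotTransLib.AffDiag
import Groth.Agent.QuotTransLib.Etale
import Groth.Agent.S16826

set_option autoImplicit false
universe u
open AlgSt

namespace Groth.Agent.S16823

open CategoryTheory AlgebraicGeometry Limits in
/-- Let S be an affine scheme, G a group scheme over S whose structure morphism is smooth and affine,
and X a scheme over S with an action of G whose structure morphism X → S has affine diagonal. Then
the quotient stack [X/G] over (Sch/S) (objects over T: a G-torsor over T locally trivial for the
etale topology, with an equivariant morphism to X) has affine diagonal over S: the diagonal [X/G] →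
[X/G] ×_{(Sch/S)} [X/G] is representable by algebraic spaces and affine. The source allows X to be
an algebraic space and also treats quasi-affine diagonals; X is a scheme here and only the affine
case is stated. -/
theorem result (S : Scheme.{u}) [IsAffine S]
    (G : Over S) [GrpObj G] (hGs : Smooth G.hom) (hGa : IsAffineHom G.hom)
    (X : Over S) (aX : AlgGrp.Action G X) (hX : IsAffineHom (pullback.diagonal X.hom)) :
    AlgSt.RepByAlgSpWith AlgSp.IsAffineMor
      (FibCat.diag (FibCat.toSelf (AlgSt.QuotSt Scheme.etalePrecoverage G aX))) := by
  obtain ⟨hst, hsm, hsurj, haff⟩ := Groth.Agent.S16826.result S G hGs hGa X aX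
  haveI : FibCat.IsFibGrpd (AlgSt.QuotSt Scheme.etalePrecoverage G aX).p := hst.1.1
  exact QuotTransLib.repByAlgSpWith_affine_diag hst.diag hX _
    (AlgStLib.repByAlgSpWith_mono (fun _ _ a _ _ h => AlgSpLib.locP_mono (fun _ _ g (hg : Smooth g) => inferInstanceAs (Flat g)) h) hsm)
    (AlgStLib.repByAlgSpWith_mono (fun _ _ a _ _ h => AlgSpLib.locP_mono
      (fun _ _ g (hg : Smooth g) => inferInstanceAs (LocallyOfFinitePresentation g)) h) hsm)
    hsurj haff

end Groth.Agent.S16823
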