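import Groth.Statements.S16832
import Groth.Agent.AlgStSetoidLib.Geom

set_option autoImplicit false
set_option linter.all false
set_option backward.isDefEq.respectTransparency false
set_option backward.isDefEq.respectTransparency.types false
universe u
open AlgSt

namespace Groth.Agent.S16832

open CategoryTheory AlgebraicGeometry in
/-- Let 𝒳 be an algebraic stack over (Sch/S) for the etale topology. Then 𝒳 is an algebraic space
(equivalent over (Sch/S) to the category of sections of an algebraic space) if and only if every
point of 𝒳 has trivial stabilizer: for every field k, every morphism Spec k → S and every functor x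
: (Sch/Spec k) → 𝒳 over (Sch/S), the group of automorphisms over the identity of the object x(T) is
trivial for every scheme T over Spec k (the stabilizer of x, a group algebraic space over k, has
only the identity section over every T). -/
theorem result {S : Scheme.{u}} (𝒳 : AlgSt.Cat S)
    (h𝒳 : AlgSt.IsAlgStack Scheme.etalePrecoverage 𝒳) :
    AlgSt.RepByAlgSp 𝒳 ↔
      ∀ (k : Type u) [Field k] (sk : Spec (CommRingCat.of k) ⟶ S)
        (x : FibCat.overCat (Over.mk sk) ⥤ᵇ 𝒳) (T : Over (Over.mk sk)),
        Subsingleton (Gerb.AutO (x.obj T)) := by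
  haveI := h𝒳.isStack.1
  haveI : FibCat.IsFibGrpd (FibCat.selfOver (Over S)).p :=
    AlgStBig.isFibGrpd_of_repByAlgSp AlgStBig.repByAlgSp_selfOver
  constructor
  · intro h k _ sk x T
    have hs := AlgStBig.isFibSetoid_of_repByAlgSp h
    exact ⟨fun α β => Iso.ext (@Subsingleton.elim _ (hs.2 _ _ _) α.hom β.hom)⟩
  · intro H
    refine AlgStSetoidLib.repByAlgSp_of_isFibSetoid_et h𝒳 (AlgStSetoidLib.isFibSetoid_of_faithful_toSelf ?_)
    refine AlgStSetoidLib.faithful_of_geom_kerTriv h𝒳 (AlgStSetoidLib.isAlgStack_selfOver S) (FibCat.toSelf 𝒳)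
      fun k _ _ s x hx a m φ hφ _ => ?_
    let fb : 𝒳.p.Fiber (Over.mk s) := CategoryTheory.Functor.Fiber.mk (p := 𝒳.p) hx
    let X := FibLib.ofPoint fb
    let g : 𝒳.p.obj a ⟶ Over.mk s := 𝒳.p.map m ≫ eqToHom hx
    let T : Over (Over.mk s) := Over.mk g
    haveI := H k s X T
    exact AlgStSetoidLib.eq_id_of_autO_subsingleton fb a m φ hφ inferInstance

end Groth.Agent.S16832
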