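import Groth.Statements.S16834
import Groth.Agent.AlgSpLib.AffineFpqc

set_option autoImplicit false
set_option backward.isDefEq.respectTransparency false
set_option backward.isDefEq.respectTransparency.types false
noncomputable section
universe u
open CategoryTheory CategoryTheory.Limits AlgebraicGeometry
open AlgSp

namespace Groth.Agent.S16834

/-- Let k be a field with algebraic closure k̄ and X an algebraic space over Spec k which is
quasi-separated over k and whose structure morphism is locally of finite type. If the base change X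
×_k Spec k̄ (product with h_{Spec k̄} in fppf sheaves over Spec k) is isomorphic to h_T for an
affine scheme T over k, then X is isomorphic to h_U for an affine scheme U over k. -/
theorem result (k : Type u) [Field k]
    (X : AlgSp.Space (Spec (CommRingCat.of k))) (hqs : AlgSp.IsQuasiSeparatedSp X.obj)
    (hlft : ∀ q : X.obj ⟶ (AlgSp.yon (Spec (CommRingCat.of k))).obj (Over.mk (𝟙 _)),
      AlgSp.LocP @LocallyOfFiniteType q)
    (kbar : Type u) [Field kbar] [Algebra k kbar] [IsAlgClosure k kbar]
    (T : Over (Spec (CommRingCat.of k))) (hT : IsAffine T.left)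
    (e : X.obj ⨯ (AlgSp.yon (Spec (CommRingCat.of k))).obj
        (Over.mk (Spec.map (CommRingCat.ofHom (algebraMap k kbar)))) ≅
      (AlgSp.yon (Spec (CommRingCat.of k))).obj T) :
    ∃ (U : Over (Spec (CommRingCat.of k))), IsAffine U.left ∧
      Nonempty (X.obj ≅ (AlgSp.yon (Spec (CommRingCat.of k))).obj U) := by
  let K : Over (Spec (CommRingCat.of k)) := Over.mk (Spec.map (CommRingCat.ofHom (algebraMap k kbar)))
  let T₀ : Over (Spec (CommRingCat.of k)) := Over.mk (𝟙 _)
  let qK : K ⟶ T₀ := Over.homMk (Spec.map (CommRingCat.ofHom (algebraMap k kbar))) (Category.comp_id _)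
  have hterm : IsTerminal ((AlgSp.yon (Spec (CommRingCat.of k))).obj T₀) :=
    IsTerminal.isTerminalObj (AlgSp.yon _) _ Over.mkIdTerminal
  obtain ⟨pW, hpW⟩ := (AlgSp.yon _).map_surjective (e.inv ≫ Limits.prod.snd : (AlgSp.yon _).obj T ⟶ (AlgSp.yon _).obj K)
  have sq : IsPullback (e.inv ≫ Limits.prod.fst) ((AlgSp.yon _).map pW) (hterm.from X.obj)
      ((AlgSp.yon _).map qK) := by
    have h := IsPullback.of_is_product (limit.isLimit (pair X.obj ((AlgSp.yon _).obj K))) hterm
    rw [hterm.hom_ext ((AlgSp.yon _).map qK) (hterm.from _), hpW]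
    refine h.of_iso e (Iso.refl _) (Iso.refl _) (Iso.refl _) ?_ ?_ (by simp) (by simp)
    · simp; rfl
    · simp; rfl
  haveI : IsAffine T.left := hT
  haveI : IsAffine K.left := inferInstanceAs (IsAffine (Spec (CommRingCat.of kbar)))
  haveI : IsAffine T₀.left := inferInstanceAs (IsAffine (Spec (CommRingCat.of k)))
  haveI : Flat qK.left := by
    change Flat (Spec.map _)
    rw [HasRingHomProperty.Spec_iff (P := @Flat)]
    exact RingHom.flat_algebraMap_iff.2 inferInstance
  haveI : Surjective qK.left := ⟨fun x => ⟨IsLocalRing.closedPoint kbar,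
    Subsingleton.elim (α := ↥(Spec (CommRingCat.of k))) _ _⟩⟩
  obtain ⟨W, β, eW, hW, -⟩ := AlgSpLib.exists_affine_of_fpqc_base X.property sq
  exact ⟨W, hW, ⟨eW.symm⟩⟩

end Groth.Agent.S16834
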