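import Groth.Statements.S16835
import Groth.Agent.EquivEtInvLib.Main
-- import your own Groth.Agent.* helpers here

set_option autoImplicit false
set_option maxHeartbeats 2000000
set_option backward.isDefEq.respectTransparency false
universe u
open InvTh

namespace Groth.Agent.S16835

/-- Let R be a Noetherian commutative ring, A and B commutative R-algebras of finite type on which a
finite group G acts by R-algebra automorphisms, and B → A a G-equivariant homomorphism of
R-algebras. Assume that at every maximal ideal x of A, A is etale over B at x and the inertia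
subgroup of x in G equals the inertia subgroup of its contraction to B. Give A^G the B^G-algebra
structure induced by B → A (compatible with B^G → B → A through A^G → A). Then A^G is etale over
B^G. The source also asserts that the square formed by the quotient stacks and the invariant
quotients is cartesian; that clause is not stated. -/
theorem result (R : Type u)
    [CommRing R] [IsNoetherianRing R] (A B : Type u) [CommRing A] [CommRing B] [Algebra R A] [Algebra R B]
    [Algebra.FiniteType R A] [Algebra.FiniteType R B]
    (G : Type u) [Group G] [Finite G] [MulSemiringAction G A] [MulSemiringAction G B]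
    [SMulCommClass G R A] [SMulCommClass G R B]
    [Algebra B A] [IsScalarTower R B A]
    (hGeq : ∀ (g : G) (b : B), algebraMap B A (g • b) = g • algebraMap B A b)
    [Algebra (FixedPoints.subalgebra R B G) (FixedPoints.subalgebra R A G)]
    [IsScalarTower (FixedPoints.subalgebra R B G) (FixedPoints.subalgebra R A G) A]
    (h : ∀ (x : Ideal A) (_ : x.IsMaximal),
      Algebra.IsEtaleAt B x ∧ x.inertia G = (x.comap (algebraMap B A)).inertia G) :
    Algebra.Etale (FixedPoints.subalgebra R B G) (FixedPoints.subalgebra R A G) := by
  obtain ⟨-, hC, hCn⟩ := Groth.Agent.EquivEtInvLib.finite_of_invariants (R := R)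
    (C := FixedPoints.subalgebra R B G) (B := B) (G := G) Subtype.val_injective
    (fun b => ⟨fun h => ⟨⟨b, h⟩, rfl⟩, by rintro ⟨c, rfl⟩ g; exact c.2 g⟩)
  obtain ⟨hA, hC', -⟩ := Groth.Agent.EquivEtInvLib.finite_of_invariants (R := R)
    (C := FixedPoints.subalgebra R A G) (B := A) (G := G) Subtype.val_injective
    (fun a => ⟨fun h => ⟨⟨a, h⟩, rfl⟩, by rintro ⟨c, rfl⟩ g; exact c.2 g⟩)
  haveI : IsScalarTower R (FixedPoints.subalgebra R B G) (FixedPoints.subalgebra R A G) :=
    IsScalarTower.of_algebraMap_eq fun r => by
      refine Subtype.ext ?_
      show algebraMap R A r = algebraMap (FixedPoints.subalgebra R A G) A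
        (algebraMap (FixedPoints.subalgebra R B G) (FixedPoints.subalgebra R A G)
          (algebraMap R (FixedPoints.subalgebra R B G) r))
      rw [← IsScalarTower.algebraMap_apply (FixedPoints.subalgebra R B G) (FixedPoints.subalgebra R A G) A]
      exact IsScalarTower.algebraMap_apply R B A r
  haveI : Algebra.FiniteType (FixedPoints.subalgebra R B G) (FixedPoints.subalgebra R A G) :=
    Algebra.FiniteType.of_restrictScalars_finiteType R _ _
  haveI : Algebra.FinitePresentation (FixedPoints.subalgebra R B G) (FixedPoints.subalgebra R A G) :=
    Algebra.FinitePresentation.of_finiteType.mp ‹_›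
  haveI : Algebra.IsIntegral (FixedPoints.subalgebra R A G) A := Algebra.IsIntegral.of_finite _ _
  rw [← Algebra.etaleLocus_eq_univ_iff_etale, Set.eq_univ_iff_forall]
  intro w
  obtain ⟨m, hm, hwm⟩ := Ideal.exists_le_maximal w.asIdeal w.isPrime.ne_top
  haveI := hm
  obtain ⟨x, hxm, hxc⟩ := Ideal.exists_ideal_over_maximal_of_isIntegral (S := A) m
    (by
      rw [(RingHom.injective_iff_ker_eq_bot _).mp
        (Subtype.val_injective : Function.Injective (algebraMap (FixedPoints.subalgebra R A G) A))]
      exact bot_le)
  haveI := hxm
  obtain ⟨h1, h2⟩ := h x hxm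
  haveI := h1
  have hx : Algebra.IsEtaleAt (FixedPoints.subalgebra R B G) m := by
    have := Groth.Agent.EquivEtInvLib.isEtaleAt_fixedPoints R A B G hGeq x h2
    convert this using 2
    exact hxc.symm
  exact ((PrimeSpectrum.le_iff_specializes w ⟨m, hm.isPrime⟩).mp hwm).mem_open
    Algebra.isOpen_etaleLocus hx

end Groth.Agent.S16835
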