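import Groth.Statements.S16839
import Groth.Agent.AVAmpleLib.WeilRoots
import Groth.Agent.AVAmpleLib.WeilNumbers

set_option autoImplicit false
universe u
open CategoryTheory MonoidalCategory CartesianMonoidalCategory MonObj GrpObj AlgebraicGeometry
set_option linter.style.haveILetI false
set_option backward.isDefEq.respectTransparency false
open AbVar

namespace Groth.Agent.S16839

/-- Let k be a finite field with q elements and algebraic closure Ω, ℓ a prime invertible in k, and X an
abelian variety over k (a proper, geometrically integral commutative group scheme over k) of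
dimension g, with geometric Frobenius π_X (the endomorphism that is the identity on points and the
q-th power map on sections); assume, as is the case, that the ℓ-adic Tate module of Ω-points T_ℓ X
is free of finite rank over ℤ_ℓ, and let f_X ∈ ℤ[t] be the polynomial mapping to the characteristic
polynomial of T_ℓ(π_X) (the characteristic polynomial of Frobenius). Then √q and −√q, if they occur
as roots of f_X, occur with even multiplicity: the root multiplicities of f_X (mapped to ℝ[t]) at √q
and at −√q are even. (The other assertions of (ii) — that q/α is a root whenever α is, with the same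
multiplicity — are not restated.) -/
theorem result (k Ω : Type u) [Field k] [Finite k] [Field Ω] [Algebra k Ω] [IsAlgClosure k Ω]
    (l : ℕ) [Fact l.Prime] (hl : (l : k) ≠ 0) (X : Over (Spec (CommRingCat.of k)))
    [GrpObj X] [IsCommMonObj X] [IsProper X.hom] [GeometricallyIntegral X.hom]
    (πX : X ⟶ X) [IsMonHom πX] (hπb : πX.left.base = 𝟙 _)
    (hπle : ∀ U : X.left.Opens, U ≤ πX.left ⁻¹ᵁ U)
    (hπapp : ∀ (U : X.left.Opens) (s : Γ(X.left, U)), (πX.left.appLE U U (hπle U)).hom s = s ^ Nat.card k)
    [Module.Free ℤ_[l] (AbDual.TateMod X l (SGA7.pt Ω))] [Module.Finite ℤ_[l] (AbDual.TateMod X l (SGA7.pt Ω))]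
    (P : Polynomial ℤ) (hP : (AbDual.tateMapₗ (l := l) (T := SGA7.pt Ω) πX).charpoly = P.map (Int.castRingHom ℤ_[l])) :
    Even ((P.map (Int.castRingHom ℝ)).rootMultiplicity (Real.sqrt (Nat.card k))) ∧
      Even ((P.map (Int.castRingHom ℝ)).rootMultiplicity (-Real.sqrt (Nat.card k))) := by
  haveI : IsAlgClosed Ω := IsAlgClosure.isAlgClosed k
  have hl' : (l : Ω) ≠ 0 := fun h0 => hl ((algebraMap k Ω).injective (by rw [map_natCast, map_zero]; exact h0))
  obtain ⟨g, hg⟩ := AVAmpleLib.exists_dim_field X
  obtain ⟨P', hm, hd, hchar, hP'⟩ := AVAmpleLib.exists_charpoly_bc Ω X hg (EndAV.End.of πX)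
  obtain rfl : P = P' := Polynomial.map_injective (Int.castRingHom ℤ_[l]) (RingHom.injective_int _)
    (hP.symm.trans (hP' l hl'))
  have hroot := AVAmpleLib.norm_root_frob πX hπb hπle hπapp Nat.card_pos Ω hg hchar
  refine AVAmpleLib.even_rootMultiplicity (c := Real.sqrt (Nat.card k)) (Real.sqrt_pos.2 (Nat.cast_pos.2 Nat.card_pos))
    (hm.map _) (by rw [hm.natDegree_map, hd]; exact even_two_mul g) (fun x hx => ?_) ?_
  · have hxC : (x : ℂ) ∈ (P.map (Int.castRingHom ℂ)).roots := by
      refine (Polynomial.mem_roots (hm.map _).ne_zero).2 ?_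
      rw [Polynomial.IsRoot, Subsingleton.elim (Int.castRingHom ℂ) (Complex.ofRealHom.comp (Int.castRingHom ℝ)),
        ← Polynomial.map_map, ← Complex.ofRealHom_eq_coe, Polynomial.eval_map_apply, hx, map_zero]
    have h := hroot _ hxC
    rw [Complex.norm_real, Real.norm_eq_abs] at h
    exact (abs_eq (Real.sqrt_nonneg _)).1 h
  · have h0 := hchar.2.2 0
    letI : GrpObj ((AVAmpleLib.bcF Ω).obj X) := AVAmpleLib.grpBc Ω X
    haveI : IsCommMonObj ((AVAmpleLib.bcF Ω).obj X) := AVAmpleLib.commBc Ω X
    haveI := AVAmpleLib.proper_bc Ω X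
    haveI := AVAmpleLib.gi_bc Ω X
    haveI : IsIntegral ((AVAmpleLib.bcF Ω).obj X).left := AVAmpleLib.isIntegral_left _
    have hnn : ∀ φ : EndAV.End ((AVAmpleLib.bcF Ω).obj X), 0 ≤ AVAmpleLib.ndeg g φ := fun φ => by
      obtain ⟨h1, h2⟩ := AVAmpleLib.finite_cases (AVAmpleLib.dim_bc Ω X hg) φ
        (f := EndAV.Hom.toHom φ) rfl
      by_cases hf : IsFinite (EndAV.Hom.toHom φ).left
      · rw [← h1 hf (genericPoint ((AVAmpleLib.bcF Ω).obj X).left)]; exact Nat.cast_nonneg _
      · rw [h2 hf]
    rw [Int.cast_zero] at h0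
    have h1 : (0 : ℚ) ≤ (P.map (Int.castRingHom ℚ)).eval 0 := h0 ▸ hnn _
    rw [Polynomial.eval_zero_map, eq_intCast] at h1 ⊢
    exact_mod_cast (show (0 : ℤ) ≤ P.eval 0 by exact_mod_cast h1)

end Groth.Agent.S16839
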