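import Groth.Statements.S16847
import Groth.Agent.AVAmpleLib.WeilField
import Groth.Agent.S16589

set_option autoImplicit false
universe u
open CategoryTheory MonoidalCategory CartesianMonoidalCategory MonObj GrpObj AlgebraicGeometry
set_option linter.style.haveILetI false
set_option backward.isDefEq.respectTransparency false
open AbVar

namespace Groth.Agent.S16847

/-- Let k be a finite field with q elements and algebraic closure Ω, ℓ a prime invertible in k, and X an
abelian variety over k (a proper, geometrically integral commutative group scheme over k) of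
dimension g, with geometric Frobenius π_X (the endomorphism that is the identity on points and the
q-th power map on sections); assume, as is the case, that the ℓ-adic Tate module of Ω-points T_ℓ X
is free of finite rank over ℤ_ℓ, and let f_X ∈ ℤ[t] be the polynomial mapping to the characteristic
polynomial of T_ℓ(π_X) (the characteristic polynomial of Frobenius). Then ℚ[π_X] ⊆ End⁰(X) = ℚ ⊗
End_k(X) is a field (equivalently, X is elementary, i.e. isogenous to a power of a simple abelian
variety — that reformulation is not restated) if and only if f_X = h^n for some irreducible h ∈ ℚ[t]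
and some n ≥ 1. -/
theorem result (k Ω : Type u) [Field k] [Finite k] [Field Ω] [Algebra k Ω] [IsAlgClosure k Ω]
    (l : ℕ) [Fact l.Prime] (hl : (l : k) ≠ 0) (X : Over (Spec (CommRingCat.of k)))
    [GrpObj X] [IsCommMonObj X] [IsProper X.hom] [GeometricallyIntegral X.hom]
    (πX : X ⟶ X) [IsMonHom πX] (hπb : πX.left.base = 𝟙 _)
    (hπle : ∀ U : X.left.Opens, U ≤ πX.left ⁻¹ᵁ U)
    (hπapp : ∀ (U : X.left.Opens) (s : Γ(X.left, U)), (πX.left.appLE U U (hπle U)).hom s = s ^ Nat.card k)
    [Module.Free ℤ_[l] (AbDual.TateMod X l (SGA7.pt Ω))] [Module.Finite ℤ_[l] (AbDual.TateMod X l (SGA7.pt Ω))]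
    (P : Polynomial ℤ) (hP : (AbDual.tateMapₗ (l := l) (T := SGA7.pt Ω) πX).charpoly = P.map (Int.castRingHom ℤ_[l])) :
    IsField (EndAV.QAdj (EndAV.End.of πX)) ↔
      ∃ (h : Polynomial ℚ) (n : ℕ), Irreducible h ∧ 0 < n ∧ P.map (Int.castRingHom ℚ) = h ^ n := by
  haveI : IsAlgClosed Ω := IsAlgClosure.isAlgClosed k
  have hl' : (l : Ω) ≠ 0 := fun h0 => hl ((algebraMap k Ω).injective (by rw [map_natCast, map_zero]; exact h0))
  obtain ⟨g, hg⟩ := AVAmpleLib.exists_dim_field X
  have hinjZ : Function.Injective (Int.castRingHom ℤ_[l]) := RingHom.injective_int _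
  obtain ⟨Q, hQm, hQ, hQ0⟩ := AVAmpleLib.exists_int_minpoly (EndAV.End.of πX)
  obtain ⟨hsq, hint⟩ := AVAmpleLib.squarefree_minpoly_frob πX hπb hπle hπapp Nat.card_pos
  have hrep : AbDual.tateMapₗ (l := l) (T := SGA7.pt Ω) πX =
    EndAV.End.tateRep (A := X) l (SGA7.pt Ω) (EndAV.End.of πX) := rfl
  rw [hrep] at hP
  have hP1 : (1 : EndAV.End X) = 0 → P = 1 := fun h => by
    refine Polynomial.map_injective _ hinjZ ?_
    rw [← hP, Polynomial.map_one]
    exact AVAmpleLib.charpoly_eq_one Ω l h (EndAV.End.of πX)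
  constructor
  · intro hF
    have hirr := AVAmpleLib.irreducible_minpoly_of_isField _ hint hF
    obtain ⟨P', hP', hPQ⟩ := Groth.Agent.S16589.result k Ω l hl X g hg (EndAV.End.of πX) hirr
    obtain rfl : P = P' := Polynomial.map_injective _ hinjZ (hP.symm.trans hP')
    refine ⟨_, _, hirr, Nat.pos_of_ne_zero fun h0 => ?_, hPQ⟩
    have hg0 : P.map (Int.castRingHom ℤ_[l]) = 1 := by
      rw [h0, pow_zero, ← Polynomial.map_one (Int.castRingHom ℚ)] at hPQ
      rw [Polynomial.map_injective _ (RingHom.injective_int (Int.castRingHom ℚ)) hPQ, Polynomial.map_one]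
    have hz : Module.finrank ℤ_[l] (AbDual.TateMod X l (SGA7.pt (K := k) Ω)) = 0 := by
      rw [← LinearMap.charpoly_natDegree (EndAV.End.tateRep (A := X) l (SGA7.pt Ω) (EndAV.End.of πX)), hP, hg0,
        Polynomial.natDegree_one]
    haveI : Subsingleton (AbDual.TateMod X l (SGA7.pt (K := k) Ω)) := Module.finrank_zero_iff.1 hz
    have h1 : (1 : EndAV.End X) = 0 := AVAmpleLib.tateMap_injective_ext (A := X) (B := X) Ω l hl'
      (LinearMap.ext fun x => Subsingleton.elim _ _)
    obtain ⟨a, b, hab⟩ := hF.exists_pair_ne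
    haveI : Subsingleton (EndAV.End0 X) := subsingleton_of_zero_eq_one (by
      rw [← map_one (EndAV.toEnd0 (A := X)), h1, map_zero])
    exact hab (Subsingleton.elim _ _)
  · rintro ⟨h, n, hh, hn, hPh⟩
    apply AVAmpleLib.isField_adjoin
    have hPd : 0 < (P.map (Int.castRingHom ℚ)).natDegree := by
      rw [hPh, Polynomial.natDegree_pow]
      exact Nat.mul_pos hn hh.natDegree_pos
    have h0 : Polynomial.aeval (EndAV.End.of πX) P = 0 := AVAmpleLib.aeval_charpoly_eq_zero Ω l hl' _ hP
    have hdvd : minpoly ℚ (EndAV.toEnd0 (EndAV.End.of πX)) ∣ P.map (Int.castRingHom ℚ) := by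
      refine minpoly.dvd ℚ _ ?_
      rw [← algebraMap_int_eq, Polynomial.aeval_map_algebraMap, Polynomial.aeval_algHom_apply, h0, map_zero]
    rw [hPh] at hdvd
    have hd := (hsq.dvd_pow_iff_dvd hn.ne').1 hdvd
    refine ((hh.dvd_iff).1 hd).elim (fun hu => absurd hu ?_) fun e => e.irreducible hh
    intro hu
    have : (1 : EndAV.End0 X) = 0 := by
      have h2 := minpoly.aeval ℚ (EndAV.toEnd0 (EndAV.End.of πX))
      rwa [(minpoly.monic hint).eq_one_of_isUnit hu, map_one] at h2
    rw [hP1 (AVAmpleLib.toEnd0_injective (by rw [map_one, map_zero, this])), Polynomial.map_one,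
      Polynomial.natDegree_one] at hPd
    exact lt_irrefl _ hPd

end Groth.Agent.S16847
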