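import Groth.Statements.S16854
import Groth.Agent.LangQLib.Field

set_option autoImplicit false
universe u v
open CAlg

namespace Groth.Agent.S16854

/-- Let k be an algebraically closed field of characteristic p > 0, ν ≥ 1, W = W(k) the ring of
p-typical Witt vectors with its Frobenius endomorphism σ, M a finitely generated free W-module and F
: M → M a bijective additive map that is σ^ν-semilinear, F(a·m) = σ^ν(a)·F(m). Then M admits a
W-basis consisting of F-fixed elements; in particular M is spanned over W by M₀ = {m | F(m) = m}, a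
module over the Witt vectors of F_{p^ν}. (The copy allows ν < 0 as well, reducing to F⁻¹; stated
here for ν ≥ 1.) -/
theorem result (k : Type u) [Field k] [IsAlgClosed k]
    (p : ℕ) [Fact p.Prime] [CharP k p] (ν : ℕ) (hν : 1 ≤ ν)
    (M : Type v) [AddCommGroup M] [Module (WittVector p k) M]
    [Module.Finite (WittVector p k) M] [Module.Free (WittVector p k) M]
    (F : M →+ M)
    (hF : ∀ (a : WittVector p k) (m : M), F (a • m) = ((⇑(WittVector.frobenius : WittVector p k →+* WittVector p k))^[ν] a) • F m)
    (hbij : Function.Bijective F) :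
    ∃ (ι : Type v) (b : Module.Basis ι (WittVector p k) M), ∀ i, F (b i) = b i := by
  classical
  set W := WittVector p k
  set σ : W →+* W := (WittVector.frobenius : W →+* W) ^ ν
  have hσF : ∀ (a : W) (m : M), F (a • m) = σ a • F m := fun a m => by rw [hF, RingHom.coe_pow]
  have hσ0 : ∀ a : W, (σ a).coeff 0 = a.coeff 0 ^ p ^ ν := by
    intro a
    rw [RingHom.coe_pow]
    clear hν hF hσF
    induction ν with
    | zero => simp
    | succ n ih => rw [Function.iterate_succ_apply', WittVector.coeff_frobenius_charP, ih, ← pow_mul, ← pow_succ]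
  let π : W →+* k := WittVector.constantCoeff
  have hπσ : ∀ a, π (σ a) = π a ^ p ^ ν := hσ0
  have hσp : σ (p : W) = p := map_natCast σ p
  let ι := Module.Free.ChooseBasisIndex W M
  let b : Module.Basis ι W M := Module.Free.chooseBasis W M
  let c : M → ι → W := fun m => b.repr m
  have hc : ∀ x : ι → W, c (b.equivFun.symm x) = x := fun x => b.equivFun.apply_symm_apply x
  let e : (ι → W) ≃ₗ[W] M := b.equivFun.symm
  let G : (ι → W) →+ (ι → W) := (e.symm.toAddMonoidHom.comp F).comp e.toAddMonoidHom
  have hG : ∀ (a : W) x, G (a • x) = σ a • G x := fun a x => by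
    show e.symm (F (e (a • x))) = σ a • e.symm (F (e x))
    rw [map_smul, hσF, map_smul]
  have hGs : Function.Surjective G := fun y => by
    obtain ⟨m, hm⟩ := hbij.2 (e y)
    exact ⟨e.symm m, by show e.symm (F (e (e.symm m))) = y; rw [LinearEquiv.apply_symm_apply, hm, LinearEquiv.symm_apply_apply]⟩
  let r : (ι → W) → ι → k := fun x i => π (x i)
  have hker : ∀ a : W, π a = 0 → ∃ b, a = (p : W) * b := fun a ha => by
    have : a ∈ RingHom.ker π := ha
    rw [WittVector.ker_constantCoeff, Ideal.mem_span_singleton] at this
    exact this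
  have hdiv : ∀ x, r x = 0 → ∃ y, x = (p : W) • y := fun x hx => by
    choose y hy using fun i => hker (x i) (congrFun hx i)
    exact ⟨y, funext fun i => hy i⟩
  have hπp : π (p : W) = 0 := by rw [map_natCast, CharP.cast_eq_zero]
  have hwell : ∀ x x', r x = r x' → r (G x) = r (G x') := by
    intro x x' h
    obtain ⟨y, hy⟩ := hdiv (x - x') (funext fun i => by
      show π (x i - x' i) = 0
      rw [map_sub, show π (x i) = π (x' i) from congrFun h i, sub_self])
    rw [eq_add_of_sub_eq hy, map_add, hG, hσp]
    funext i
    show π ((p : W) * G y i + G x' i) = π (G x' i)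
    rw [map_add, map_mul, hπp, zero_mul, zero_add]
  have hrs : Function.Surjective r := fun z => by
    choose x hx using fun i => WittVector.constantCoeff_surjective p (z i)
    exact ⟨x, funext hx⟩
  let s := Function.surjInv hrs
  have hs := Function.surjInv_eq hrs
  let φ : (ι → k) →+ (ι → k) :=
    { toFun := fun z => r (G (s z))
      map_zero' := by
        rw [hwell (s 0) 0 (by rw [hs]; exact funext fun i => (map_zero π).symm), map_zero]
        exact funext fun i => map_zero π
      map_add' := fun a a' => by
        rw [hwell (s (a + a')) (s a + s a') (by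
          rw [hs]; funext i
          show a i + a' i = π (s a i + s a' i)
          rw [map_add, show π (s a i) = a i from congrFun (hs a) i, show π (s a' i) = a' i from congrFun (hs a') i]),
          map_add]
        funext i
        exact map_add π _ _ }
  have hφr : ∀ x, φ (r x) = r (G x) := fun x => hwell _ _ (hs (r x))
  have hφ : ∀ (a : k) (z : ι → k), φ (a • z) = a ^ p ^ ν • φ z := by
    intro a z
    obtain ⟨A, hA⟩ := WittVector.constantCoeff_surjective p a
    obtain ⟨x, rfl⟩ := hrs z
    have : a • r x = r (A • x) := funext fun i => by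
      show a * π (x i) = π (A * x i)
      rw [map_mul, show π A = a from hA]
    rw [this, hφr, hφr, hG]
    funext i
    show π (σ A * G x i) = a ^ p ^ ν * π (G x i)
    rw [map_mul, hπσ, show π A = a from hA]
  have hφs : Function.Surjective φ := fun z => by
    obtain ⟨y, rfl⟩ := hrs z
    obtain ⟨x, rfl⟩ := hGs y
    exact ⟨r x, hφr x⟩
  have hq : 1 < p ^ ν := LangQLib.one_lt_q p hν
  have hφi : Function.Injective φ := by
    have := LangQLib.injOn_of_map_eq (σ := fun a : k => a ^ p ^ ν) (fun a => by
      obtain ⟨b, hb⟩ := IsAlgClosed.exists_pow_nat_eq a (zero_lt_one.trans hq); exact ⟨b, hb⟩)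
      (fun a ha => eq_zero_of_pow_eq_zero ha) φ hφ (W := ⊤) (by simpa using hφs.range_eq)
    exact fun a a' h => this trivial trivial h
  obtain ⟨hsur, -, hspan⟩ := LangQLib.bijective_main p hν φ hφ ⟨hφi, hφs⟩
  -- successive approximation
  have hsurW : ∀ y, ∃ x, G x - x = y := by
    intro y
    have hstep : ∀ y, ∃ x y', y = G x - x + (p : W) • y' := fun y => by
      obtain ⟨z, hz⟩ := hsur (r y)
      obtain ⟨x, rfl⟩ := hrs z
      obtain ⟨y', hy'⟩ := hdiv (y - (G x - x)) (funext fun i => by
        have := congrFun hz i
        simp only [hφr] at this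
        show π (y i - (G x i - x i)) = 0
        rw [map_sub, map_sub, ← show π (G x i) - π (x i) = π (y i) from this, sub_self])
      exact ⟨x, y', by rw [← hy']; abel⟩
    choose fx fy hxy using hstep
    let Y : ℕ → ι → W := fun N => fy^[N] y
    let S : ℕ → ι → W := fun N => ∑ i ∈ Finset.range N, (p : W) ^ i • fx (Y i)
    have hS : ∀ N, G (S N) - S N + (p : W) ^ N • Y N = y := by
      intro N
      induction N with
      | zero => simp [S, Y]
      | succ N ih =>
        have h1 : S (N + 1) = S N + (p : W) ^ N • fx (Y N) := Finset.sum_range_succ _ _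
        have h2 : Y (N + 1) = fy (Y N) := Function.iterate_succ_apply' fy N y
        rw [h1, h2, map_add, hG, map_pow, hσp]
        conv_rhs => rw [← ih, hxy (Y N), smul_add, smul_sub, smul_smul, ← pow_succ]
        abel
    have hprec : ∀ i, ∃ L : W, ∀ N, S N i ≡ L [SMOD (Ideal.span {(p : W)} ^ N • ⊤ : Submodule W W)] := by
      intro i
      refine IsPrecomplete.prec inferInstance fun {a b} hab => ?_
      rw [SModEq.sub_mem, smul_eq_mul, Ideal.mul_top, Ideal.span_singleton_pow, Ideal.mem_span_singleton]
      have : S a i - S b i = -∑ j ∈ Finset.Ico a b, (p : W) ^ j * fx (Y j) i := by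
        simp only [S, Finset.sum_apply, Pi.smul_apply, smul_eq_mul, ← Finset.sum_range_add_sum_Ico _ hab]
        ring
      rw [this, dvd_neg]
      exact Finset.dvd_sum fun j hj => dvd_mul_of_dvd_left (pow_dvd_pow _ (Finset.mem_Ico.1 hj).1) _
    choose L hL using hprec
    refine ⟨L, funext fun i => sub_eq_zero.1 (IsHausdorff.haus (inferInstance : IsHausdorff (Ideal.span {(p : W)}) W) _ fun N => ?_)⟩
    rw [SModEq.zero, smul_eq_mul, Ideal.mul_top, Ideal.span_singleton_pow, Ideal.mem_span_singleton]
    have hw : ∀ i, (p : W) ^ N ∣ L i - S N i := fun i => by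
      have := hL i N
      rw [SModEq.sub_mem, smul_eq_mul, Ideal.mul_top, Ideal.span_singleton_pow, Ideal.mem_span_singleton] at this
      rwa [← dvd_neg, neg_sub]
    choose w hw using hw
    have hLw : L = S N + (p : W) ^ N • w := funext fun i => by
      rw [Pi.add_apply, Pi.smul_apply, smul_eq_mul, ← hw, add_sub_cancel]
    refine ⟨(G w - w - Y N) i, ?_⟩
    have : G L - L - y = (p : W) ^ N • (G w - w - Y N) := by
      conv_lhs => rw [hLw, map_add, hG, map_pow, hσp, ← hS N]
      rw [smul_sub, smul_sub]
      abel
    exact congrFun this i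
  -- lift a fixed basis
  obtain ⟨B, hB, hBspan, hBli⟩ := exists_linearIndependent k {z : ι → k | φ z = z}
  let bB : Module.Basis B k (ι → k) := Module.Basis.mk hBli (by rw [Subtype.range_coe, hBspan, hspan])
  let ε : ι ≃ B := (Pi.basisFun k ι).indexEquiv bB
  have hlift : ∀ z : ι → k, φ z = z → ∃ x, G x = x ∧ r x = z := by
    intro z hz
    obtain ⟨x, rfl⟩ := hrs z
    rw [hφr] at hz
    obtain ⟨d, hd⟩ := hdiv (G x - x) (funext fun i => by
      show π (G x i - x i) = 0
      rw [map_sub, show π (G x i) = π (x i) from congrFun hz i, sub_self])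
    obtain ⟨u, hu⟩ := hsurW (-d)
    refine ⟨x + (p : W) • u, ?_, funext fun i => ?_⟩
    · rw [map_add, hG, hσp, eq_add_of_sub_eq hd, eq_add_of_sub_eq hu, smul_add, smul_neg]
      abel
    · show π (x i + (p : W) * u i) = π (x i)
      rw [map_add, map_mul, hπp, zero_mul, add_zero]
  choose X hX hXr using fun i => hlift (ε i : ι → k) (hB (ε i).2)
  let A : Matrix ι ι W := Matrix.of fun i j => X j i
  have hAr : π.mapMatrix A = (Pi.basisFun k ι).toMatrix (bB.reindex ε.symm) := by
    ext i j
    show π (X j i) = (bB.reindex ε.symm j) i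
    rw [Module.Basis.reindex_apply, Equiv.symm_symm, Module.Basis.mk_apply, ← hXr j]
  have hA : IsUnit A.det := by
    have h1 : IsUnit (π.mapMatrix A).det := by
      rw [hAr]
      let := (Pi.basisFun k ι).invertibleToMatrix (bB.reindex ε.symm)
      exact Matrix.isUnit_det_of_invertible _
    rw [← RingHom.map_det] at h1
    exact WittVector.isUnit_of_coeff_zero_ne_zero _ h1.ne_zero
  refine ⟨ι, b.map (Matrix.toLinearEquiv b A hA), fun i => ?_⟩
  have hbi : b.map (Matrix.toLinearEquiv b A hA) i = e (X i) := by
    show Matrix.toLin b b A (b i) = _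
    rw [Matrix.toLin_self]
    exact (b.equivFun_symm_apply (X i)).symm
  rw [hbi]
  conv_rhs => rw [← hX i]
  show F (e (X i)) = e (e.symm (F (e (X i))))
  rw [LinearEquiv.apply_symm_apply]

end Groth.Agent.S16854
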