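import Groth.Statements.S16856
import Groth.Agent.S16841
import Groth.Agent.AVAmpleLib.WeilNumbers

set_option autoImplicit false
universe u
open CategoryTheory MonoidalCategory CartesianMonoidalCategory MonObj GrpObj AlgebraicGeometry
open AbVar

namespace Groth.Agent.S16856

/-- Equality case of the Hasse–Weil–Serre bound: let k be a finite field with q elements and algebraic
closure Ω, ℓ a prime invertible in k, and X an abelian variety over k (a proper, geometrically
integral commutative group scheme over k) of dimension g, with geometric Frobenius π_X (the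
endomorphism that is the identity on points and the q-th power map on sections); assume, as is the
case, that the ℓ-adic Tate module of Ω-points T_ℓ X is free of finite rank over ℤ_ℓ, and let f_X ∈
ℤ[t] be the polynomial mapping to the characteristic polynomial of T_ℓ(π_X) (the characteristic
polynomial of Frobenius). Put m = ⌊2√q⌋. Then |trace(π_X)| = g·m (equality in the bound |trace(π_X)|
≤ g·m; the trace is minus the second-highest coefficient of f_X) if and only if either α + q/α = m
for every root α of f_X or α + q/α = −m for every root, i.e. if and only if f_X = (t² − m t + q)^g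
or f_X = (t² + m t + q)^g. -/
theorem result (k Ω : Type u) [Field k] [Finite k] [Field Ω] [Algebra k Ω] [IsAlgClosure k Ω]
    (l : ℕ) [Fact l.Prime] (hl : (l : k) ≠ 0) (X : Over (Spec (CommRingCat.of k)))
    [GrpObj X] [IsCommMonObj X] [IsProper X.hom] [GeometricallyIntegral X.hom]
    (g : ℕ) (hg : topologicalKrullDim X.left = g)
    (πX : X ⟶ X) [IsMonHom πX] (hπb : πX.left.base = 𝟙 _)
    (hπle : ∀ U : X.left.Opens, U ≤ πX.left ⁻¹ᵁ U)
    (hπapp : ∀ (U : X.left.Opens) (s : Γ(X.left, U)), (πX.left.appLE U U (hπle U)).hom s = s ^ Nat.card k)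
    [Module.Free ℤ_[l] (AbDual.TateMod X l (SGA7.pt Ω))] [Module.Finite ℤ_[l] (AbDual.TateMod X l (SGA7.pt Ω))]
    (P : Polynomial ℤ) (hP : (AbDual.tateMapₗ (l := l) (T := SGA7.pt Ω) πX).charpoly = P.map (Int.castRingHom ℤ_[l])) :
    |(P.nextCoeff : ℝ)| = (g : ℝ) * (⌊2 * Real.sqrt (Nat.card k)⌋ : ℝ) ↔
      (P = (Polynomial.X ^ 2 - Polynomial.C ⌊2 * Real.sqrt (Nat.card k)⌋ * Polynomial.X + Polynomial.C (Nat.card k : ℤ)) ^ g ∨
        P = (Polynomial.X ^ 2 + Polynomial.C ⌊2 * Real.sqrt (Nat.card k)⌋ * Polynomial.X + Polynomial.C (Nat.card k : ℤ)) ^ g) := by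
  classical
  haveI : IsAlgClosed Ω := IsAlgClosure.isAlgClosed k
  have hl' : (l : Ω) ≠ 0 := fun h0 => hl ((algebraMap k Ω).injective (by rw [map_natCast, map_zero]; exact h0))
  obtain ⟨P', hm, hd, hchar, hP'⟩ := AVAmpleLib.exists_charpoly_bc Ω X hg (EndAV.End.of πX)
  obtain rfl : P = P' := Polynomial.map_injective (Int.castRingHom ℤ_[l]) (RingHom.injective_int _)
    (hP.symm.trans (hP' l hl'))
  have hn := AVAmpleLib.norm_root_frob πX hπb hπle hπapp Nat.card_pos Ω hg hchar
  set q := Nat.card k
  set m := ⌊2 * Real.sqrt q⌋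
  have hm0 : (0 : ℝ) ≤ (m : ℝ) := by exact_mod_cast Int.floor_nonneg.2 (by positivity)
  have hpow : ∀ b : ℤ, (((Polynomial.X : Polynomial ℤ) ^ 2 + Polynomial.C b * Polynomial.X + Polynomial.C (q : ℤ)) ^ g).nextCoeff = g * b := by
    intro b
    have hd2 : ((Polynomial.X : Polynomial ℤ) ^ 2 + Polynomial.C b * Polynomial.X + Polynomial.C (q : ℤ)).natDegree = 2 := by compute_degree!
    rw [Polynomial.Monic.nextCoeff_pow (by monicity!), Polynomial.nextCoeff, hd2, if_neg two_ne_zero]
    simp [Polynomial.coeff_C, -map_intCast, -map_natCast]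
  have key : ∀ σ : ℤ, (σ = 1 ∨ σ = -1) → (σ : ℝ) * P.nextCoeff = g * (m : ℝ) →
      P = (Polynomial.X ^ 2 + Polynomial.C (σ * m) * Polynomial.X + Polynomial.C (q : ℤ)) ^ g := by
    intro σ hσ heq
    have hext := (AVAmpleLib.nextCoeff_extremal Nat.card_pos hm hd hn σ hσ).2 heq
    refine AVAmpleLib.eq_quadratic_pow hm hd _ _ (fun α hα => ?_) ?_
    · have h1 : α * starRingEnd ℂ α = (q : ℂ) := by
        rw [mul_comm, ← Complex.normSq_eq_conj_mul_self, Complex.normSq_eq_norm_sq, hn α hα,
          Real.sq_sqrt (Nat.cast_nonneg q)]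
        simp
      have h2 : α + starRingEnd ℂ α = -((σ : ℂ) * m) := by
        have h3 : α.re + α.re = -((σ : ℝ) * m) := by
          rcases hσ with rfl | rfl <;> (have := hext α hα; push_cast at this ⊢; linarith)
        rw [Complex.add_conj, two_mul, h3]
        push_cast
        rfl
      push_cast
      linear_combination α * h2 - h1
    · have h4 : (σ * P.nextCoeff : ℤ) = g * m := by exact_mod_cast heq
      rcases hσ with rfl | rfl <;> linarith
  constructor
  · intro h
    rcases abs_choice (P.nextCoeff : ℝ) with hc | hc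
    · refine Or.inr ?_
      have := key 1 (Or.inl rfl) (by rw [← h, hc]; simp)
      rwa [_root_.one_mul] at this
    · refine Or.inl ?_
      have := key (-1) (Or.inr rfl) (by rw [← h, hc]; simp)
      rwa [neg_one_mul, map_neg, neg_mul, ← sub_eq_add_neg] at this
  · rintro (h | h) <;> rw [h]
    · rw [sub_eq_add_neg, ← neg_mul, ← map_neg, hpow]
      push_cast
      rw [mul_neg, abs_neg, abs_of_nonneg (mul_nonneg (Nat.cast_nonneg g) hm0)]
    · rw [hpow]
      push_cast
      rw [abs_of_nonneg (mul_nonneg (Nat.cast_nonneg g) hm0)]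

end Groth.Agent.S16856
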