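import Groth.Statements.S16865
import Groth.Agent.GerbeLib.Basic
import Groth.Agent.AlgStLib.LocQ4
import Groth.Agent.AlgStLib.SmST
import Groth.Agent.AlgStLib.PointsTop
import Groth.Agent.AlgSpLib.Fppf

set_option autoImplicit false
set_option linter.all false
set_option backward.isDefEq.respectTransparency false
set_option backward.isDefEq.respectTransparency.types false
universe u
open CategoryTheory AlgebraicGeometry
open Gerb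

namespace Groth.Agent.S16865

section
open CategoryTheory.Limits Opposite AlgSp FibCat FibLib AlgSpLib AlgStLib
open CategoryTheory.Functor (Fiber)

variable {S : Scheme.{u}} {𝒴 𝒵 : AlgSt.Cat S}

/-- A chart form of a surjective flat morphism, locally of finite presentation, has sections fppf locally. -/
theorem locSurjObj_of_chart (h𝒴 : AlgSt.IsAlgStack Scheme.fppfPrecoverage 𝒴)
    (h𝒵 : AlgSt.IsAlgStack Scheme.fppfPrecoverage 𝒵) (g : 𝒵 ⥤ᵇ 𝒴) (hs : AlgSt.IsSurjective g)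
    (hfl : AlgSt.LocQ (LocP @Flat) g) (hfp : AlgSt.LocQ (LocP @LocallyOfFinitePresentation) g)
    (hcomb : ∃ (U : Over S) (x : overCat U ⥤ᵇ 𝒵),
      AlgSt.RepByAlgSpWith IsSurjectiveMor x ∧
      AlgSt.RepByAlgSpWith (LocP @Flat) (BasedFunctor.comp (AlgSt.toOverCat U) (BasedFunctor.comp x g)) ∧
      AlgSt.RepByAlgSpWith (LocP @LocallyOfFinitePresentation)
        (BasedFunctor.comp (AlgSt.toOverCat U) (BasedFunctor.comp x g))) :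
    Gerb.LocSurjObj (QuotSh.J Scheme.fppfPrecoverage S) g := by
  haveI := h𝒴.isStack.1
  haveI := h𝒵.isStack.1
  obtain ⟨U, x, hxs, hcf, hcp⟩ := hcomb
  haveI : IsFibGrpd (AlgSt.ofSch U).p := Stk.isFibGrpd_ofPsh _
  let c := BasedFunctor.comp (AlgSt.toOverCat U) (BasedFunctor.comp x g)
  have hcs : AlgSt.RepByAlgSpWith IsSurjectiveMor c := by
    refine (surjective_iff_repByAlgSpWith (repByAlgSp1_of_with hcf)).mp fun z => ?_
    obtain ⟨w, rfl⟩ := hs z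
    obtain ⟨q, rfl⟩ := surjective_of_repByAlgSpWith (repByAlgSpWith_toOverCat_comp hxs) w
    obtain ⟨r, rfl⟩ := AlgSt.Points.mk_surjective q
    exact ⟨AlgSt.Points.mk r, rfl⟩
  intro y
  let T := 𝒴.p.obj y
  let yb : 𝒴.p.Fiber T := Functor.Fiber.mk (p := 𝒴.p) (a := y) rfl
  let u : AlgSt.ofSch T ⥤ᵇ 𝒴 := BasedFunctor.comp (AlgSt.toOverCat T) (ofPoint yb)
  obtain ⟨κ⟩ := nonempty_evalAtId_ofPoint_iso yb
  let o₁ : (AlgSt.ofSch T).obj := ⟨T, ⟨𝟙 T⟩⟩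
  let ko : u.obj o₁ ≅ y :=
    ⟨κ.hom.1, κ.inv.1, congrArg Subtype.val κ.hom_inv_id, congrArg Subtype.val κ.inv_hom_id⟩
  haveI hko : 𝒴.p.IsHomLift (𝟙 T) ko.hom := κ.hom.2
  obtain ⟨H, a, hH, ha, haf⟩ := (repByAlgSpWith_iff _ c).mp hcf T u
  have hap := prop_of_along good_lfp.bc.precomp_iso hcp ha
  have has := prop_of_along good_surjective.bc.precomp_iso hcs ha
  have hT := IsAlgSpace.yon_obj (S := S) T
  obtain ⟨e, he, ⟨β⟩⟩ := ha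
  obtain ⟨ι, Tk, ck, hR, hl⟩ := exists_fppf_local_lift (ι := PUnit.{u + 1}) hT (fun _ => hH)
    (g := fun _ => a) ⟨fun _ => ⟨haf, hap⟩, fun z => ⟨⟨⟩, has z⟩⟩ T (𝟙 _)
  refine ⟨Sieve.ofArrows Tk ck, hR, fun W f hf => ?_⟩
  obtain ⟨_, r, _, ⟨k⟩, rfl⟩ := hf
  obtain ⟨-, l, hlk⟩ := hl k
  rw [Category.comp_id] at hlk
  let q : (yon S).obj W ⟶ H := (yon S).map r ≫ l
  let sq : H.obj.obj (op W) := q.hom.app (op W) ⟨𝟙 W⟩
  have hq : a.hom.app (op W) sq = ⟨r ≫ ck k⟩ := by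
    have h1 : q ≫ a = (yon S).map (r ≫ ck k) := by rw [Category.assoc, hlk, ← Functor.map_comp]
    have h2 := congrArg (fun t : (yon S).obj W ⟶ (yon S).obj T => t.hom.app (op W) ⟨𝟙 W⟩) h1
    refine h2.trans ?_
    show (⟨𝟙 W ≫ r ≫ ck k⟩ : ULift _) = _
    rw [Category.id_comp]
  let o := e.obj ⟨W, sq⟩
  let oW : (AlgSt.ofSch T).obj := ⟨W, ⟨r ≫ ck k⟩⟩
  have hoW : (Stk.ofPshMap a.hom).obj ⟨W, sq⟩ = oW := by
    show (⟨W, a.hom.app (op W) sq⟩ : Stk.EltObj _) = _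
    rw [hq]
  let m : o.obj.fst ⟶ oW := (appIso β ⟨W, sq⟩).hom ≫ eqToHom hoW
  have hm : (AlgSt.ofSch T).p.IsHomLift (𝟙 W) m :=
    GerbeLib.isHomLift_id_comp _ _ _ _ (β.hom.isHomLift' (⟨W, sq⟩ : Stk.EltObj H.obj))
      (IsHomLift.eqToHom_codomain_lift_id hoW rfl)
  have hW : (AlgSt.ofSch T).p.obj o.obj.fst = W := @IsHomLift.domain_eq _ _ _ _ _ _ _ _ _ (𝟙 W) m hm
  have ho : 𝒴.p.IsHomLift (𝟙 W) o.obj.iso.hom := hW ▸ o.property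
  have hoi : 𝒴.p.IsHomLift (𝟙 W) o.obj.iso.inv := @IsHomLift.lift_id_inv _ _ _ _ 𝒴.p _ _ _ o.obj.iso ho
  let φ : oW ⟶ o₁ := ⟨r ≫ ck k, congrArg ULift.up (Category.comp_id (r ≫ ck k) : (r ≫ ck k) ≫ 𝟙 T = r ≫ ck k)⟩
  have hφ : (AlgSt.ofSch T).p.IsHomLift (r ≫ ck k) φ := IsHomLift.map (AlgSt.ofSch T).p φ
  haveI := hφ
  haveI := hm
  refine ⟨x.obj ((AlgSt.toOverCat U).obj o.obj.snd), o.obj.iso.inv ≫ u.map m ≫ u.map φ ≫ ko.hom,
    GerbeLib.isHomLift_id_comp _ _ _ _ hoi (GerbeLib.isHomLift_id_comp _ _ _ _ (u.preserves_isHomLift (𝟙 W) m)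
      (GerbeLib.isHomLift_comp_id _ _ _ _ (u.preserves_isHomLift _ φ) hko))⟩

lemma flatChart {U V : Over S} (h : U ⟶ V) {v : overCat V ⥤ᵇ 𝒴} (h𝒴 : AlgSt.IsAlgStack Scheme.fppfPrecoverage 𝒴)
    {x : overCat U ⥤ᵇ 𝒵} {g : 𝒵 ⥤ᵇ 𝒴} (α : BasedFunctor.comp x g ≅ BasedFunctor.comp (AlgSt.overMap h) v)
    {P : MorphismProperty (Sp S)} (hP : Good P) (hh : P ((yon S).map h)) (hv : AlgSt.RepByAlgSpWith P v) :
    AlgSt.RepByAlgSpWith P (BasedFunctor.comp (AlgSt.toOverCat U) (BasedFunctor.comp x g)) := by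
  haveI := h𝒴.isStack.1
  haveI : IsFibGrpd (AlgSt.ofSch U).p := Stk.isFibGrpd_ofPsh _
  haveI : IsFibGrpd (AlgSt.ofSch V).p := Stk.isFibGrpd_ofPsh _
  have hU := IsAlgSpace.yon_obj (S := S) U
  have hV := IsAlgSpace.yon_obj (S := S) V
  have h1 : AlgSt.RepByAlgSpWith P (AlgSt.ofSpMap ((yon S).map h)) :=
    repByAlgSpWith_ofSpMap hU hV _ fun T ξ => hP.bc hU hV (isAlgSpace_pullback hU (IsAlgSpace.yon_obj T) hV _ ξ)
      (IsAlgSpace.yon_obj T) _ _ _ _ (IsPullback.of_hasPullback _ ξ) hh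
  have h2 := repByAlgSpWith_comp' hP h1 (repByAlgSpWith_toOverCat_comp hv)
  exact repByAlgSpWith_congr (whiskerLeftIso' (AlgSt.toOverCat U) α).symm h2

theorem locSurjObj_of_flat_lfp (h𝒴 : AlgSt.IsAlgStack Scheme.fppfPrecoverage 𝒴)
    (h𝒵 : AlgSt.IsAlgStack Scheme.fppfPrecoverage 𝒵) (g : 𝒵 ⥤ᵇ 𝒴) (hs : AlgSt.IsSurjective g)
    (hfl : AlgSt.LocQ (LocP @Flat) g) (hfp : AlgSt.LocQ (LocP @LocallyOfFinitePresentation) g) :
    Gerb.LocSurjObj (QuotSh.J Scheme.fppfPrecoverage S) g := by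
  obtain ⟨V, v, hv, hvs⟩ := h𝒴.atlas
  obtain ⟨U, d, h, ⟨β⟩, hd, hds, hx, hxs⟩ := exists_chartOver h𝒵 h𝒴 g v hv
  exact locSurjObj_of_chart h𝒴 h𝒵 g hs hfl hfp ⟨U, BasedFunctor.comp d (FibCat.fpFst g v), hxs hvs,
    flatChart h h𝒴 (fpSq d β) good_flat (prop_chartOver isSmoothLocalST_flat h𝒵 h𝒴 hfl hv β hd)
      (repByAlgSpWith_mono (fun _ _ _ _ _ h => locP_flat_of_smooth h) hv),
    flatChart h h𝒴 (fpSq d β) good_lfp (prop_chartOver isSmoothLocalST_lfp h𝒵 h𝒴 hfp hv β hd)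
      (repByAlgSpWith_mono (fun _ _ _ _ _ h => locP_lfp_of_smooth h) hv)⟩

end

/-- Being a gerbe descends along a surjective, flat, locally finitely presented base change: if g : 𝒴' →
𝒴 is such a morphism of algebraic stacks and 𝒴' ×_𝒴 𝒳 is a gerbe over 𝒴' along the first projection,
then 𝒳 is a gerbe over 𝒴 along f. -/
theorem result
    (S : Scheme.{u}) (𝒳 𝒴 𝒴' : AlgSt.Cat S)
    (h𝒳 : AlgSt.IsAlgStack Scheme.fppfPrecoverage 𝒳) (h𝒴 : AlgSt.IsAlgStack Scheme.fppfPrecoverage 𝒴)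
    (h𝒴' : AlgSt.IsAlgStack Scheme.fppfPrecoverage 𝒴')
    (f : 𝒳 ⥤ᵇ 𝒴) (g : 𝒴' ⥤ᵇ 𝒴)
    (hg₁ : AlgSt.IsSurjective g) (hg₂ : AlgSt.LocQ (AlgSp.LocP @Flat) g)
    (hg₃ : AlgSt.LocQ (AlgSp.LocP @LocallyOfFinitePresentation) g)
    (h : Gerb.IsGerbeOver (QuotSh.J Scheme.fppfPrecoverage S) (FibCat.fpFst g f)) :
    Gerb.IsGerbeOver (QuotSh.J Scheme.fppfPrecoverage S) f := by
  haveI := h𝒳.isStack.1
  haveI := h𝒴.isStack.1
  haveI := h𝒴'.isStack.1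
  exact GerbeLib.isGerbeOver_of_fpFst (locSurjObj_of_flat_lfp h𝒴 h𝒴' g hg₁ hg₂ hg₃) h

end Groth.Agent.S16865
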