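import Groth.Statements.S16860
import Groth.Agent.GerbeFlatLib.Smooth
import Groth.Agent.GerbeFlatLib.Diag
import Groth.Agent.GerbeFlatLib.LocQ
import Groth.Agent.S16865
-- import your own Groth.Agent.* helpers here

set_option autoImplicit false
set_option linter.all false
set_option backward.isDefEq.respectTransparency false
set_option backward.isDefEq.respectTransparency.types false
universe u
open CategoryTheory AlgebraicGeometry
open Gerb

namespace Groth.Agent.S16860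

/-- For a morphism f of algebraic stacks, the source is a gerbe over the target along f if and only if f
and its diagonal are both surjective, flat and locally of finite presentation. -/
theorem result
    (S : Scheme.{u}) (𝒳 𝒴 : AlgSt.Cat S)
    (h𝒳 : AlgSt.IsAlgStack Scheme.fppfPrecoverage 𝒳) (h𝒴 : AlgSt.IsAlgStack Scheme.fppfPrecoverage 𝒴)
    (f : 𝒳 ⥤ᵇ 𝒴) :
    Gerb.IsGerbeOver (QuotSh.J Scheme.fppfPrecoverage S) f ↔
      (AlgSt.IsSurjective f ∧ AlgSt.LocQ (AlgSp.LocP @Flat) f ∧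
        AlgSt.LocQ (AlgSp.LocP @LocallyOfFinitePresentation) f) ∧
      (AlgSt.IsSurjective (FibCat.diag f) ∧ AlgSt.LocQ (AlgSp.LocP @Flat) (FibCat.diag f) ∧
        AlgSt.LocQ (AlgSp.LocP @LocallyOfFinitePresentation) (FibCat.diag f)) := by
  haveI := h𝒳.isStack.1
  haveI := h𝒴.isStack.1
  have hW := AlgStSetoidLib.isAlgStack_fp' h𝒳 h𝒳 h𝒴 f f
  refine ⟨fun hf => ?_, fun ⟨⟨hs, hfl, hfp⟩, ⟨ds, dfl, dfp⟩⟩ => ?_⟩
  · obtain ⟨p₁, p₂, p₃⟩ := GerbeFlatLib.diag_props h𝒳 h𝒴 hf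
    obtain ⟨U, V, x, y, h, α, hx, hxs, hy, hP⟩ := GerbeFlatLib.locQ_smooth_of_isGerbeOver h𝒳 h𝒴 hf
    exact ⟨⟨GerbeFlatLib.isSurjective_of_locSurjObj f hf.1,
      ⟨U, V, x, y, h, α, hx, hxs, hy, AlgStLib.locP_flat_of_smooth hP⟩,
      ⟨U, V, x, y, h, α, hx, hxs, hy, AlgStLib.locP_lfp_of_smooth hP⟩⟩,
      GerbeFlatLib.locQ_props h𝒳 hW p₁ p₂ p₃⟩
  · refine ⟨Groth.Agent.S16865.locSurjObj_of_flat_lfp h𝒴 h𝒳 f hs hfl hfp, fun x x' b hb => ?_⟩
    have hloc := Groth.Agent.S16865.locSurjObj_of_flat_lfp hW h𝒳 (FibCat.diag f) ds dfl dfp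
    haveI := hb
    haveI : IsIso b := FibLib.isIso_of_isHomLift (p := 𝒴.p) (𝟙 (𝒳.p.obj x)) b
    let o : (FibCat.fp f f).obj := ⟨{ fst := x, snd := x', iso := asIso b }, hb⟩
    obtain ⟨R, hR, hl⟩ := hloc o
    refine ⟨R, hR, fun V g hg => ?_⟩
    obtain ⟨z, m, hm⟩ := hl g hg
    haveI := hm
    have hfst := (FibCat.fpFst f f).preserves_isHomLift g m
    have hsnd := (FibCat.fpSnd f f).preserves_isHomLift g m
    refine ⟨z, m.hom.fst, m.hom.snd, hfst, hsnd, m.hom.w.trans ?_⟩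
    exact Category.id_comp _

end Groth.Agent.S16860
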