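import Groth.Statements.S16862
import Groth.Agent.GerbeFlatLib.Diag
import Groth.Agent.GerbeFlatLib.LocQ
import Groth.Agent.AlgStLib.Inertia
-- import your own Groth.Agent.* helpers here

set_option autoImplicit false
universe u
open CategoryTheory AlgebraicGeometry
open Gerb

namespace Groth.Agent.S16862

/-- If a morphism f of algebraic stacks makes its source a gerbe over its target, then the relative
inertia of f is flat and locally of finite presentation over the source. -/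
theorem result
    (S : Scheme.{u}) (𝒳 𝒴 : AlgSt.Cat S)
    (h𝒳 : AlgSt.IsAlgStack Scheme.fppfPrecoverage 𝒳) (h𝒴 : AlgSt.IsAlgStack Scheme.fppfPrecoverage 𝒴)
    (f : 𝒳 ⥤ᵇ 𝒴) (hf : Gerb.IsGerbeOver (QuotSh.J Scheme.fppfPrecoverage S) f) :
    AlgSt.LocQ (AlgSp.LocP @Flat) (FibCat.inertiaToBase f) ∧
      AlgSt.LocQ (AlgSp.LocP @LocallyOfFinitePresentation) (FibCat.inertiaToBase f) := by
  haveI := h𝒳.isStack.1
  haveI := h𝒴.isStack.1
  obtain ⟨p₁, p₂, p₃⟩ := GerbeFlatLib.diag_props h𝒳 h𝒴 hf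
  have hW := AlgStSetoidLib.isAlgStack_fp' h𝒳 h𝒳 h𝒴 f f
  haveI := hW.isStack.1
  have hI : AlgSt.IsAlgStack Scheme.fppfPrecoverage (FibCat.inertia f) :=
    (AlgStLib.isAlgStack_iff_of_isEquivOver (FibLib.isEquivOver_inertiaToFpDiag f)).2
      (AlgStSetoidLib.isAlgStack_fp' h𝒳 h𝒳 hW (FibCat.diag f) (FibCat.diag f))
  exact (GerbeFlatLib.locQ_props hI h𝒳
    ((AlgStLib.repByAlgSpWith_inertiaToBase_iff f _).2 (AlgStLib.repByAlgSpWith_fpFst _ _ p₁))
    ((AlgStLib.repByAlgSpWith_inertiaToBase_iff f _).2 (AlgStLib.repByAlgSpWith_fpFst _ _ p₂))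
    ((AlgStLib.repByAlgSpWith_inertiaToBase_iff f _).2 (AlgStLib.repByAlgSpWith_fpFst _ _ p₃))).2

end Groth.Agent.S16862
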