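import Groth.Statements.S16864
import Groth.Agent.FibLib.Fp

set_option autoImplicit false
set_option linter.all false
set_option backward.isDefEq.respectTransparency false
set_option backward.isDefEq.respectTransparency.types false
universe u
open CategoryTheory AlgebraicGeometry
open Gerb

namespace Groth.Agent.S16864

section
open FibCat FibLib
variable {C : Type*} [Category C] (J : GrothendieckTopology C) {𝒳 𝒴 𝒵 : BasedCategory C}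
  [IsFibGrpd 𝒳.p] [IsFibGrpd 𝒴.p] [IsFibGrpd 𝒵.p] (f : 𝒳 ⥤ᵇ 𝒴) (g : 𝒵 ⥤ᵇ 𝒴)

lemma locSurjObj_fpFst (h : LocSurjObj J f) : LocSurjObj J (fpFst g f) := by
  intro y
  obtain ⟨R, hR, hl⟩ := h (g.obj y)
  refine ⟨R.pullback (eqToHom (g.w_obj y).symm), J.pullback_stable _ hR, fun V u hu => ?_⟩
  obtain ⟨x, φ, hφ⟩ := hl _ hu
  haveI := hφ
  haveI hφ' : 𝒴.p.IsHomLift u φ := by simpa using hφ
  obtain ⟨y₁, ψ, hψ⟩ := FibLib.exists_lift 𝒵.p (a := y) rfl u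
  haveI := hψ
  haveI : 𝒴.p.IsHomLift u (g.map ψ) := g.preserves_isHomLift u ψ
  haveI : 𝒴.p.IsStronglyCartesian u φ := FibLib.isStronglyCartesian_of_isFibGrpd (p := 𝒴.p) u φ
  let i := Functor.IsStronglyCartesian.map 𝒴.p u φ (g := 𝟙 V) (Category.id_comp u).symm (g.map ψ)
  haveI : 𝒴.p.IsHomLift (𝟙 V) i :=
    Functor.IsStronglyCartesian.map_isHomLift 𝒴.p u φ (Category.id_comp u).symm (g.map ψ)
  haveI : IsIso i := isIso_of_isHomLift (p := 𝒴.p) (𝟙 V) i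
  have hy : 𝒵.p.obj y₁ = V := IsHomLift.domain_eq 𝒵.p u ψ
  let o : (fp g f).obj := fpObj y₁ x (asIso i) (by rw [hy]; exact inferInstanceAs (𝒴.p.IsHomLift (𝟙 V) i))
  exact ⟨o, ψ, hψ⟩

lemma locSurjHom_fpFst (h : LocSurjHom J f) : LocSurjHom J (fpFst g f) := by
  intro a a' b hb
  let b₀ : a.obj.fst ⟶ a'.obj.fst := b
  let U := 𝒵.p.obj a.obj.fst
  haveI hb₀ : 𝒵.p.IsHomLift (𝟙 U) b₀ := hb
  haveI ha : 𝒴.p.IsHomLift (𝟙 U) a.obj.iso.hom := a.property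
  haveI hai : 𝒴.p.IsHomLift (𝟙 U) a.obj.iso.inv := @IsHomLift.lift_id_inv _ _ _ _ 𝒴.p _ _ _ a.obj.iso ha
  have e' : 𝒵.p.obj a'.obj.fst = U := IsHomLift.codomain_eq 𝒵.p (𝟙 U) b₀
  haveI ha' : 𝒴.p.IsHomLift (𝟙 U) a'.obj.iso.hom := by
    have := a'.property
    unfold fpProp at this
    rwa [e'] at this
  haveI : 𝒴.p.IsHomLift (𝟙 U) (g.map b₀) := g.preserves_isHomLift (𝟙 U) b₀
  let β : f.obj a.obj.snd ⟶ f.obj a'.obj.snd := a.obj.iso.inv ≫ g.map b₀ ≫ a'.obj.iso.hom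
  have hx : 𝒳.p.obj a.obj.snd = U := FibLib.obj_snd_eq a
  have hβ : 𝒴.p.IsHomLift (𝟙 U) β := by infer_instance
  obtain ⟨R, hR, hl⟩ := h a.obj.snd a'.obj.snd β (by rw [hx]; exact hβ)
  refine ⟨R.pullback (eqToHom hx.symm), J.pullback_stable _ hR, fun V u hu => ?_⟩
  obtain ⟨x₀, φ, ψ, hφ, hψ, e⟩ := hl _ hu
  haveI := hφ
  haveI := hψ
  haveI hφ₁ : 𝒳.p.IsHomLift u φ := by simpa using hφ
  haveI hψ₁ : 𝒳.p.IsHomLift u ψ := by simpa using hψ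
  obtain ⟨y₀, γ, hγ⟩ := FibLib.exists_lift 𝒵.p (a := a.obj.fst) rfl u
  haveI := hγ
  haveI : 𝒴.p.IsHomLift u (g.map γ) := g.preserves_isHomLift u γ
  haveI : 𝒴.p.IsHomLift u (f.map φ) := f.preserves_isHomLift u φ
  haveI : 𝒴.p.IsHomLift u (g.map γ ≫ a.obj.iso.hom) := by
    have : 𝒴.p.IsHomLift (u ≫ 𝟙 U) (g.map γ ≫ a.obj.iso.hom) := inferInstance
    exact @FibLib.isHomLift_congr _ _ _ _ 𝒴.p _ _ _ _ (Category.comp_id u) _ _ _ this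
  haveI : 𝒴.p.IsStronglyCartesian u (f.map φ) := FibLib.isStronglyCartesian_of_isFibGrpd (p := 𝒴.p) u _
  let i := Functor.IsStronglyCartesian.map 𝒴.p u (f.map φ) (g := 𝟙 V) (Category.id_comp u).symm
    (g.map γ ≫ a.obj.iso.hom)
  haveI : 𝒴.p.IsHomLift (𝟙 V) i :=
    Functor.IsStronglyCartesian.map_isHomLift 𝒴.p u (f.map φ) (Category.id_comp u).symm _
  haveI : IsIso i := isIso_of_isHomLift (p := 𝒴.p) (𝟙 V) i
  have hi : i ≫ f.map φ = g.map γ ≫ a.obj.iso.hom :=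
    Functor.IsStronglyCartesian.fac 𝒴.p u (f.map φ) (Category.id_comp u).symm _
  have hy : 𝒵.p.obj y₀ = V := IsHomLift.domain_eq 𝒵.p u γ
  let o : (fp g f).obj := fpObj y₀ x₀ (asIso i) (by rw [hy]; exact inferInstanceAs (𝒴.p.IsHomLift (𝟙 V) i))
  let Φ : o ⟶ a := fpHom γ φ hi.symm
  let Ψ : o ⟶ a' := fpHom (γ ≫ b₀) ψ (by
    show g.map (γ ≫ b₀) ≫ a'.obj.iso.hom = i ≫ f.map ψ
    rw [← e, ← Category.assoc i, hi]
    simp [β])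
  haveI : 𝒵.p.IsHomLift u Φ.hom.fst := hγ
  haveI : 𝒵.p.IsHomLift u Ψ.hom.fst := inferInstanceAs (𝒵.p.IsHomLift u (γ ≫ b₀))
  exact ⟨o, Φ, Ψ, isHomLift_of_fst u Φ, isHomLift_of_fst u Ψ, rfl⟩

end

/-- The base change of a gerbe along any morphism of algebraic stacks is a gerbe: if 𝒳 is a gerbe over 𝒴
along f then 𝒴' ×_𝒴 𝒳 is a gerbe over 𝒴' along the first projection. -/
theorem result
    (S : Scheme.{u}) (𝒳 𝒴 𝒴' : AlgSt.Cat S)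
    (h𝒳 : AlgSt.IsAlgStack Scheme.fppfPrecoverage 𝒳) (h𝒴 : AlgSt.IsAlgStack Scheme.fppfPrecoverage 𝒴)
    (h𝒴' : AlgSt.IsAlgStack Scheme.fppfPrecoverage 𝒴')
    (f : 𝒳 ⥤ᵇ 𝒴) (g : 𝒴' ⥤ᵇ 𝒴) (hf : Gerb.IsGerbeOver (QuotSh.J Scheme.fppfPrecoverage S) f) :
    Gerb.IsGerbeOver (QuotSh.J Scheme.fppfPrecoverage S) (FibCat.fpFst g f) := by
  haveI := h𝒳.isStack.1
  haveI := h𝒴.isStack.1
  haveI := h𝒴'.isStack.1
  exact ⟨locSurjObj_fpFst _ f g hf.1, locSurjHom_fpFst _ f g hf.2⟩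

end Groth.Agent.S16864
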