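import Groth.Statements.S16869
import Groth.Agent.GerbeFlatLib.Smooth
import Groth.Agent.AlgStLib.LocQ5
-- import your own Groth.Agent.* helpers here

set_option autoImplicit false
set_option linter.all false
set_option backward.isDefEq.respectTransparency false
set_option backward.isDefEq.respectTransparency.types false
universe u
open CategoryTheory AlgebraicGeometry
open Gerb

namespace Groth.Agent.S16869

section
open CategoryTheory.Limits Opposite AlgSp FibCat FibLib AlgSpLib AlgStLib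

theorem injective_map {S : Scheme.{u}} {𝒳 𝒴 : AlgSt.Cat S} [IsFibGrpd 𝒳.p] [IsFibGrpd 𝒴.p] {f : 𝒳 ⥤ᵇ 𝒴}
    (hf : Gerb.LocSurjHom (QuotSh.J Scheme.fppfPrecoverage S) f) : Function.Injective (AlgSt.Points.map f) := by
  intro z w h
  obtain ⟨P, rfl⟩ := AlgSt.Points.mk_surjective z
  obtain ⟨Q, rfl⟩ := AlgSt.Points.mk_surjective w
  obtain ⟨r, a, b, -⟩ := mk_eq_mk_iff.mp h
  let α : Over.mk r.str ⟶ Over.mk P.str := baseHom a
  let β : Over.mk r.str ⟶ Over.mk Q.str := baseHom b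
  haveI : 𝒴.p.IsHomLift α a := isHomLift_baseHom a
  haveI : 𝒴.p.IsHomLift β b := isHomLift_baseHom b
  obtain ⟨z', φ, hφ⟩ := exists_lift 𝒳.p P.lies α
  obtain ⟨w', ψ, hψ⟩ := exists_lift 𝒳.p Q.lies β
  obtain ⟨i₁, hi₁, -⟩ := GerbeLib.exists_vert 𝒴.p α (f.map φ) a (f.preserves_isHomLift α φ) inferInstance
  obtain ⟨i₂, hi₂, -⟩ := GerbeLib.exists_vert 𝒴.p β (f.map ψ) b (f.preserves_isHomLift β ψ) inferInstance
  have hz : 𝒳.p.obj z' = Over.mk r.str := IsHomLift.domain_eq 𝒳.p α φ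
  have hi₂' : 𝒴.p.IsHomLift (𝟙 (Over.mk r.str)) i₂.inv :=
    @IsHomLift.lift_id_inv _ _ _ _ 𝒴.p _ _ _ i₂ hi₂
  obtain ⟨R, hR, hloc⟩ := GerbeLib.locSurjHom_at hf z' w' hz (i₁.hom ≫ i₂.inv)
    (GerbeLib.isHomLift_id_comp _ (𝟙 _) _ _ hi₁ hi₂')
  obtain ⟨Vt, v, hv, -, -, hv₃⟩ := exists_family_of_mem (U := Over.mk r.str) hR
  let t₀ : (Over.mk r.str).left := (show Spec (CommRingCat.of r.K) from default)
  obtain ⟨q, -⟩ := hv₃ t₀
  let m : Over.mk ((Vt t₀).left.fromSpecResidueField q ≫ (Vt t₀).hom) ⟶ Vt t₀ :=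
    Over.homMk ((Vt t₀).left.fromSpecResidueField q) rfl
  obtain ⟨o, Φ, Ψ, hΦ, -, -⟩ := hloc (m ≫ v t₀) (R.downward_closed (hv t₀) m)
  let r' : AlgSt.FPt 𝒳 :=
    { K := (Vt t₀).left.residueField q, str := _, obj := o
      lies := @IsHomLift.domain_eq _ _ _ _ 𝒳.p _ _ _ _ (m ≫ v t₀) Φ hΦ }
  exact AlgSt.Points.sound ⟨r', Φ ≫ φ, Ψ ≫ ψ, trivial⟩

end

/-- A morphism of algebraic stacks making its source a gerbe over its target is a universal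
homeomorphism. -/
theorem result
    (S : Scheme.{u}) (𝒳 𝒴 : AlgSt.Cat S)
    (h𝒳 : AlgSt.IsAlgStack Scheme.fppfPrecoverage 𝒳) (h𝒴 : AlgSt.IsAlgStack Scheme.fppfPrecoverage 𝒴)
    (f : 𝒳 ⥤ᵇ 𝒴) (hf : Gerb.IsGerbeOver (QuotSh.J Scheme.fppfPrecoverage S) f) :
    AlgSt.IsUnivHomeo Scheme.fppfPrecoverage f := by
  intro 𝒵 h𝒵 g
  haveI := h𝒳.isStack.1
  haveI := h𝒴.isStack.1
  haveI := h𝒵.isStack.1
  haveI : FibCat.IsFibGrpd (FibCat.fp g f).p := FibLib.isFibGrpd_fp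
  have hg := GerbeLib.isGerbeOver_fpFst (G := g) hf
  have hW := AlgStSetoidLib.isAlgStack_fp' h𝒵 h𝒳 h𝒴 g f
  obtain ⟨U, V, x, y, h, α, hx, hxs, hy, hP⟩ := GerbeFlatLib.locQ_smooth_of_isGerbeOver hW h𝒵 hg
  exact ⟨AlgStLib.continuous_map h𝒵.atlas _,
    AlgStLib.isOpenMor_of_flat_lfp hW h𝒵 _ ⟨U, V, x, y, h, α, hx, hxs, hy, AlgStLib.locP_flat_of_smooth hP⟩
      ⟨U, V, x, y, h, α, hx, hxs, hy, AlgStLib.locP_lfp_of_smooth hP⟩,
    injective_map hg.2, GerbeFlatLib.isSurjective_of_locSurjObj _ hg.1⟩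

end Groth.Agent.S16869
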