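import Groth.Statements.S16870
import Groth.Agent.AlgStLib.QcMor
import Groth.Agent.AlgStLib.Rows3
import Groth.Agent.AlgStLib.PointsQc
import Groth.Agent.S16869
import Groth.Agent.S16860

set_option autoImplicit false
set_option linter.style.haveILetI false
set_option backward.isDefEq.respectTransparency false
set_option backward.isDefEq.respectTransparency.types false
universe u
open CategoryTheory AlgebraicGeometry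
open Gerb

namespace Groth.Agent.S16870

open CategoryTheory.Limits AlgStLib FibLib

theorem isQcM_of_equiv_comp {S : Scheme.{u}} {𝒳 𝒳' 𝒴 : AlgSt.Cat S}
    (h𝒳 : AlgSt.IsAlgStack Scheme.fppfPrecoverage 𝒳) (h𝒳' : AlgSt.IsAlgStack Scheme.fppfPrecoverage 𝒳')
    (h𝒴 : AlgSt.IsAlgStack Scheme.fppfPrecoverage 𝒴) {E : 𝒳' ⥤ᵇ 𝒳} (hE : FibCat.IsEquivOver E) {g : 𝒳 ⥤ᵇ 𝒴}
    {g' : 𝒳' ⥤ᵇ 𝒴} (i : g' ≅ BasedFunctor.comp E g) (hg : AlgSt.IsQuasiCompactMor Scheme.fppfPrecoverage g') :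
    AlgSt.IsQuasiCompactMor Scheme.fppfPrecoverage g := by
  obtain ⟨E', hE', ⟨u⟩, ⟨v⟩⟩ := exists_inverse hE
  exact isQcM_congr h𝒳 h𝒴 (whiskerLeftIso' E' i ≪≫ whiskerRightIso' v g)
    (isQcM_equiv_comp h𝒳 h𝒳' h𝒴 hE' hg)

theorem isQcM_pairRight {S : Scheme.{u}} {𝒳 𝒴 𝒴' 𝒵 : AlgSt.Cat S}
    (h𝒳 : AlgSt.IsAlgStack Scheme.fppfPrecoverage 𝒳) (h𝒴 : AlgSt.IsAlgStack Scheme.fppfPrecoverage 𝒴)
    (h𝒴' : AlgSt.IsAlgStack Scheme.fppfPrecoverage 𝒴') (h𝒵 : AlgSt.IsAlgStack Scheme.fppfPrecoverage 𝒵)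
    (b : 𝒴 ⥤ᵇ 𝒴') (p : 𝒳 ⥤ᵇ 𝒵) (q : 𝒴' ⥤ᵇ 𝒵) (hb : AlgSt.IsQuasiCompactMor Scheme.fppfPrecoverage b) :
    AlgSt.IsQuasiCompactMor Scheme.fppfPrecoverage (pairRight b p q) := by
  have hT := isAlgStack_fp' h𝒳 h𝒴' h𝒵 p q
  exact isQcM_of_equiv_comp (isAlgStack_fp' h𝒳 h𝒴 h𝒵 p _) (isAlgStack_fp' hT h𝒴 h𝒴' (FibCat.fpSnd p q) b) hT
    (isEquivOver_fpCompRight p b q) (pairRightIso b p q)
    (isQcM_congr (isAlgStack_fp' hT h𝒴 h𝒴' (FibCat.fpSnd p q) b) hT (Iso.refl _) (isQcM_fpFst h𝒴 h𝒴' hT _ hb))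

theorem isQcM_pairLeft {S : Scheme.{u}} {𝒳 𝒳' 𝒴' 𝒵 : AlgSt.Cat S}
    (h𝒳 : AlgSt.IsAlgStack Scheme.fppfPrecoverage 𝒳) (h𝒳' : AlgSt.IsAlgStack Scheme.fppfPrecoverage 𝒳')
    (h𝒴' : AlgSt.IsAlgStack Scheme.fppfPrecoverage 𝒴') (h𝒵 : AlgSt.IsAlgStack Scheme.fppfPrecoverage 𝒵)
    (a : 𝒳 ⥤ᵇ 𝒳') (p : 𝒳' ⥤ᵇ 𝒵) (q : 𝒴' ⥤ᵇ 𝒵) (ha : AlgSt.IsQuasiCompactMor Scheme.fppfPrecoverage a) :
    AlgSt.IsQuasiCompactMor Scheme.fppfPrecoverage (pairLeft a p q) := by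
  have hT := isAlgStack_fp' h𝒳' h𝒴' h𝒵 p q
  have hL := isAlgStack_fp' h𝒳 hT h𝒳' a (FibCat.fpFst p q)
  have hR := isAlgStack_fp' hT h𝒳 h𝒳' (FibCat.fpFst p q) a
  exact isQcM_of_equiv_comp (isAlgStack_fp' h𝒳 h𝒴' h𝒵 _ q) hL hT (isEquivOver_fpPaste a p q)
    (pairLeftIso a p q) (isQcM_congr hL hT (Iso.refl _) (isQcM_equiv_comp hL hR hT
      (isEquivOver_fpSwap a (FibCat.fpFst p q)) (isQcM_fpFst h𝒳 h𝒳' hT _ ha)))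

/-- If f : 𝒳 → 𝒴 makes 𝒳 a gerbe over 𝒴 and the diagonal of 𝒳 over the base scheme is quasi-compact,
then the diagonal of 𝒴 over the base scheme is quasi-compact. -/
theorem result
    (S : Scheme.{u}) (𝒳 𝒴 : AlgSt.Cat S)
    (h𝒳 : AlgSt.IsAlgStack Scheme.fppfPrecoverage 𝒳) (h𝒴 : AlgSt.IsAlgStack Scheme.fppfPrecoverage 𝒴)
    (f : 𝒳 ⥤ᵇ 𝒴) (hf : Gerb.IsGerbeOver (QuotSh.J Scheme.fppfPrecoverage S) f)
    (hΔ : AlgSt.IsQuasiCompactMor Scheme.fppfPrecoverage (FibCat.diag (FibCat.toSelf 𝒳))) :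
    AlgSt.IsQuasiCompactMor Scheme.fppfPrecoverage (FibCat.diag (FibCat.toSelf 𝒴)) := by
  haveI := isFibGrpd_of_isAlgStack h𝒳
  haveI := isFibGrpd_of_isAlgStack h𝒴
  have hS := isAlgStack_selfOver (S := S)
  have hsurj : Function.Surjective (AlgSt.Points.map f) := by
    obtain ⟨⟨h, -⟩, -⟩ := (Groth.Agent.S16860.result S 𝒳 𝒴 h𝒳 h𝒴 f).mp hf
    exact h
  have hqc : AlgSt.IsQuasiCompactMor Scheme.fppfPrecoverage f := fun 𝒯 h𝒯 hq g => by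
    have hA := isAlgStack_fp' h𝒯 h𝒳 h𝒴 g f
    haveI := isFibGrpd_of_isAlgStack h𝒯
    haveI := isFibGrpd_of_isAlgStack hA
    haveI := compactSpace_of_isQuasiCompact h𝒯.atlas hq
    exact isQuasiCompact_of_compactSpace hA.atlas
      (((Groth.Agent.S16869.result S 𝒳 𝒴 h𝒳 h𝒴 f hf) 𝒯 h𝒯 g).homeomorph _).symm.compactSpace
  let t := FibCat.toSelf 𝒴
  have hP := isAlgStack_fp' h𝒳 h𝒳 hS (BasedFunctor.comp f t) (BasedFunctor.comp f t)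
  have hM := isAlgStack_fp' h𝒳 h𝒴 hS (BasedFunctor.comp f t) t
  have hY := isAlgStack_fp' h𝒴 h𝒴 hS t t
  have hpair : AlgSt.IsQuasiCompactMor Scheme.fppfPrecoverage (pairBoth f f t t) := by
    refine isQcM_congr hP hY (pairBothIso f f t t) (isQcM_comp hP hM hY ?_ ?_)
    · exact isQcM_pairRight h𝒳 h𝒳 h𝒴 hS f _ t hqc
    · exact isQcM_pairLeft h𝒳 h𝒴 h𝒴 hS f t t hqc
  have hd : AlgSt.IsQuasiCompactMor Scheme.fppfPrecoverage (FibCat.diag (BasedFunctor.comp f t)) := by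
    have h1 := (isQcM_iff_rep h𝒳 (isAlgStack_fp' h𝒳 h𝒳 hS _ _) h𝒳.diag).2 hΔ
    have h2 := repByAlgSpWith_diag_congr (compToSelfIso f) h1
    exact (isQcM_iff_rep h𝒳 hP (repByAlgSp1_of_with h2)).1 h2
  refine isQcM_of_surjective h𝒳 h𝒴 hY (f := f) (q := FibCat.diag t) ?_ hsurj
    (isQcM_comp h𝒳 hP hY hd hpair)
  exact fpIsoExt _ _ (Iso.refl _) (Iso.refl _) fun x => by
    change t.map (𝟙 _) ≫ 𝟙 _ = (𝟙 _ ≫ 𝟙 _ ≫ 𝟙 _) ≫ t.map (𝟙 _)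
    simp

end Groth.Agent.S16870
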