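import Groth.Statements.S16871
import Groth.Agent.ResSpaceLib.Main
import Groth.Agent.AlgStLib.QcMor
import Groth.Agent.AlgStLib.UnivInj
import Groth.Agent.S16869

set_option autoImplicit false
set_option linter.style.haveILetI false
set_option backward.isDefEq.respectTransparency false
set_option backward.isDefEq.respectTransparency.types false
universe u
open CategoryTheory CategoryTheory.Limits AlgebraicGeometry
open Gerb

namespace Groth.Agent.S16871

/-- If an algebraic stack is a gerbe (over some algebraic space), then the residual gerbe exists at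
every one of its points. (Non-triviality of the conclusion rests on the monomorphism condition.) -/
theorem result
    (S : Scheme.{u}) (𝒳 : AlgSt.Cat S) (h𝒳 : AlgSt.IsAlgStack Scheme.fppfPrecoverage 𝒳)
    (X : AlgSp.Space S) (π : 𝒳 ⥤ᵇ AlgSt.ofSp X.obj)
    (hπ : Gerb.IsGerbeOver (QuotSh.J Scheme.fppfPrecoverage S) π) (x : AlgSt.Points 𝒳) :
    Gerb.ResGerbeExists Scheme.fppfPrecoverage 𝒳 x := by
  obtain ⟨Z, c, hZ, hc, hr, -⟩ := ResSpaceLib.exists_residualSpace X.property
    (AlgStLib.ptsEquiv X.obj (AlgSt.Points.map π x))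
  haveI := AlgStLib.isFibGrpd_of_isAlgStack h𝒳
  have hX := AlgStLib.isAlgStack_ofSp X.property
  have hZs := AlgStLib.isAlgStack_ofSp hZ
  haveI := AlgStLib.isFibGrpd_of_isAlgStack hX
  haveI := AlgStLib.isFibGrpd_of_isAlgStack hZs
  have hm : AlgSt.RepByAlgSpWith (MorphismProperty.monomorphisms (AlgSp.Sp S)) (AlgSt.ofSpMap c) :=
    AlgStLib.repByAlgSpWith_ofSpMap hZ X.property c fun U ξ =>
      (inferInstance : Mono (pullback.snd c ξ))
  have hA := AlgStLib.isAlgStack_fp' hZs h𝒳 hX (AlgSt.ofSpMap c) π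
  haveI := AlgStLib.isFibGrpd_of_isAlgStack hA
  have hi : AlgSt.IsMono (FibCat.fpSnd (AlgSt.ofSpMap c) π) := AlgStLib.repByAlgSpWith_fpSnd π hm
  obtain ⟨zc, hzc, huniq⟩ : ∃ z, AlgSp.Points.map c z = AlgStLib.ptsEquiv X.obj (AlgSt.Points.map π x) ∧
      ∀ w, AlgSp.Points.map c w = AlgStLib.ptsEquiv X.obj (AlgSt.Points.map π x) := by
    obtain ⟨⟨z, hz⟩, h⟩ := Set.eq_singleton_iff_unique_mem.1 hr
    exact ⟨z, hz, fun w => h _ ⟨w, rfl⟩⟩
  have hhom := (Groth.Agent.S16869.result S 𝒳 _ h𝒳 hX π hπ) _ hZs (AlgSt.ofSpMap c)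
  obtain ⟨v, -, hv⟩ := AlgStLib.exists_point_fp (g := AlgSt.ofSpMap c) (f := π)
    ((AlgStLib.ptsEquiv Z).symm zc) x (by
      apply (AlgStLib.ptsEquiv X.obj).injective
      rw [← hzc, ← Equiv.apply_symm_apply (AlgStLib.ptsEquiv Z) zc, Equiv.symm_apply_apply]
      exact AlgStLib.ptsEquiv_map c _)
  have hπi : ∀ w, AlgSt.Points.map π (AlgSt.Points.map (FibCat.fpSnd (AlgSt.ofSpMap c) π) w) =
      AlgSt.Points.map π x := fun w => by
    rw [← AlgStLib.map_fpFst_fpSnd]
    apply (AlgStLib.ptsEquiv X.obj).injective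
    exact (AlgStLib.ptsEquiv_map c _).trans (huniq _)
  have hinj : Function.Injective (AlgSt.Points.map π) := fun y y' h => by
    have hid := (Groth.Agent.S16869.result S 𝒳 _ h𝒳 hX π hπ) _ hX (BasedFunctor.id _)
    obtain ⟨w, h1, h2⟩ := AlgStLib.exists_point_fp (g := BasedFunctor.id (AlgSt.ofSp X.obj)) (f := π)
      (AlgSt.Points.map π y) y (AlgStLib.map_id _)
    obtain ⟨w', h1', h2'⟩ := AlgStLib.exists_point_fp (g := BasedFunctor.id (AlgSt.ofSp X.obj)) (f := π)
      (AlgSt.Points.map π y) y' (by rw [AlgStLib.map_id, h])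
    rw [← h2, ← h2', hid.injective (h1.trans h1'.symm)]
  have hval : ∀ w, AlgSt.Points.map (FibCat.fpSnd (AlgSt.ofSpMap c) π) w = x := fun w => hinj (hπi w)
  exact ⟨_, FibCat.fpSnd (AlgSt.ofSpMap c) π, hA, hi, ⟨v⟩,
    ⟨fun a b => AlgStLib.injective_of_isMono hi ((hval a).trans (hval b).symm)⟩, hval⟩

end Groth.Agent.S16871
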