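import Groth.Statements.S16877
import Mathlib

set_option autoImplicit false
set_option linter.all false
set_option backward.isDefEq.respectTransparency false
set_option backward.isDefEq.respectTransparency.types false
universe u
open CategoryTheory AlgebraicGeometry Opposite
open Gerb

namespace Groth.Agent.S16877

section
variable {C : Type*} [Category C] {𝒳 : BasedCategory C} {F : Cᵒᵖ ⥤ Type*} (π : 𝒳 ⥤ᵇ Stk.ofPsh F)

noncomputable def secAt {U : C} (x : 𝒳.obj) (h : 𝒳.p.obj x = U) : F.obj (op U) :=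
  F.map (eqToHom ((π.w_obj x).trans h).symm).op (π.obj x).sec

lemma secAt_map {V U : C} (f : V ⟶ U) {z z' : 𝒳.obj} (ψ : z ⟶ z') (hψ : 𝒳.p.IsHomLift f ψ)
    (h : 𝒳.p.obj z = V) (h' : 𝒳.p.obj z' = U) : secAt π z h = F.map f.op (secAt π z' h') := by
  haveI := hψ
  have e1 := IsHomLift.fac 𝒳.p f ψ
  have e2 : (π.map ψ).hom = eqToHom (π.w_obj z) ≫ 𝒳.p.map ψ ≫ eqToHom (π.w_obj z').symm :=
    Functor.congr_hom π.w ψ
  subst h h'
  rw [e1]
  unfold secAt
  rw [← (π.map ψ).map_sec, e2]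
  simp only [← Functor.map_comp_apply, ← op_comp]
  simp

lemma secAt_congr {U : C} {a a' : 𝒳.p.Fiber U} (φ : a ⟶ a') : secAt π a.1 a.2 = secAt π a'.1 a'.2 := by
  rw [secAt_map π (𝟙 U) φ.1 φ.2 a.2 a'.2]
  simp

variable (J : GrothendieckTopology C) [FibCat.IsFibGrpd 𝒳.p]

lemma mk_pullFib {V U : C} (f : V ⟶ U) (a : 𝒳.p.Fiber U) {z : 𝒳.obj} (ψ : z ⟶ a.1)
    (hψ : 𝒳.p.IsHomLift f ψ) (hz : 𝒳.p.obj z = V) :
    (Quot.mk _ (pullFib 𝒳 f a) : IsoCl 𝒳 V) = Quot.mk _ ⟨z, hz⟩ := by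
  obtain ⟨x, rfl⟩ := a
  have h' : 𝒳.p.IsHomLift (f ≫ eqToHom (rfl : 𝒳.p.obj x = 𝒳.p.obj x).symm) ψ := by
    simpa using hψ
  obtain ⟨χ, hχ, -⟩ := exists_hom_pull 𝒳 x _ ψ h'
  exact (Quot.sound ⟨⟨χ, hχ⟩⟩).symm

noncomputable def toSec (U : Cᵒᵖ) : IsoCl 𝒳 U.unop → F.obj U :=
  Quot.lift (fun a => secAt π a.1 a.2) (fun a a' ⟨φ⟩ => secAt_congr π φ)

end

/-- If π : 𝒳 → X makes the algebraic stack 𝒳 a gerbe over the algebraic space X, then X is the fppf
sheafification of the presheaf of isomorphism classes of objects of 𝒳: the map of presheaves sending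
the class of an object x to the section π(x) of X is locally surjective and locally injective.
(Consequently the space over which a gerbe lives is determined by the gerbe.) -/
theorem result
    (S : Scheme.{u}) (𝒳 : AlgSt.Cat S) (h𝒳 : AlgSt.IsAlgStack Scheme.fppfPrecoverage 𝒳)
    [FibCat.IsFibGrpd 𝒳.p]
    (X : AlgSp.Space S) (π : 𝒳 ⥤ᵇ AlgSt.ofSp X.obj)
    (hπ : Gerb.IsGerbeOver (QuotSh.J Scheme.fppfPrecoverage S) π) :
    ∃ c : Gerb.isoClPsh 𝒳 ⟶ X.obj.obj,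
      (∀ x : 𝒳.obj, c.app (op (𝒳.p.obj x)) (Quot.mk _ (Gerb.fib x)) =
          X.obj.obj.map (eqToHom (π.w_obj x).symm).op (π.obj x).sec) ∧
      Presheaf.IsLocallySurjective (QuotSh.J Scheme.fppfPrecoverage S) c ∧
      Presheaf.IsLocallyInjective (QuotSh.J Scheme.fppfPrecoverage S) c := by
  let c : Gerb.isoClPsh 𝒳 ⟶ X.obj.obj :=
    { app := fun U => ↾(toSec π U)
      naturality := fun U V f => by
        ext q
        obtain ⟨⟨x, hx⟩, rfl⟩ := Quot.exists_rep q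
        obtain ⟨U⟩ := U
        dsimp only [Opposite.unop] at hx
        change secAt π (pullFib 𝒳 f.unop ⟨x, hx⟩).1 (pullFib 𝒳 f.unop ⟨x, hx⟩).2 =
          X.obj.obj.map f (secAt π x hx)
        subst hx
        refine secAt_map π f.unop (pullHom 𝒳 x _) ?_ _ rfl
        simpa using pullHom_isHomLift 𝒳 x (f.unop ≫ eqToHom rfl) }
  refine ⟨c, fun x => rfl, ⟨fun {U} t => ?_⟩, ⟨fun {U} q q' hqq => ?_⟩⟩
  · let y : Stk.EltObj X.obj.obj := ⟨U, t⟩
    obtain ⟨R, hR, h⟩ := hπ.1 y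
    refine GrothendieckTopology.superset_covering _ (fun V f hf => ?_) hR
    obtain ⟨x, g, hg⟩ := h f hf
    haveI := hg
    have hx : 𝒳.p.obj x = V := (π.w_obj x).symm.trans (IsHomLift.domain_eq (Stk.EltObj.forget X.obj.obj) f g)
    refine ⟨Quot.mk _ ⟨x, hx⟩, ?_⟩
    have e : g.hom = eqToHom ((π.w_obj x).trans hx) ≫ f := by
      simpa using IsHomLift.fac' (Stk.EltObj.forget X.obj.obj) f g
    change X.obj.obj.map _ (π.obj x).sec = X.obj.obj.map f.op t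
    rw [← g.map_sec, e, ← Functor.map_comp_apply, ← op_comp]
    simp
    rfl
  · obtain ⟨⟨x, hx⟩, rfl⟩ := Quot.exists_rep q
    obtain ⟨⟨x', hx'⟩, rfl⟩ := Quot.exists_rep q'
    obtain ⟨U⟩ := U
    dsimp only at hx
    subst hx
    have e : secAt π x rfl = secAt π x' hx' := hqq
    let hb : (π.obj x).base ⟶ (π.obj x').base :=
      eqToHom ((π.w_obj x).trans ((π.w_obj x').trans hx').symm)
    have hs : X.obj.obj.map hb.op (π.obj x').sec = (π.obj x).sec := by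
      have := congrArg (X.obj.obj.map (eqToHom (π.w_obj x)).op) e
      unfold secAt at this
      simp only [← Functor.map_comp_apply, ← op_comp] at this
      simpa [hb] using this.symm
    let b : π.obj x ⟶ π.obj x' := ⟨hb, hs⟩
    obtain ⟨R, hR, h⟩ := hπ.2 x x' b (IsHomLift.of_fac' _ _ _ (π.w_obj x) ((π.w_obj x').trans hx')
      (by simp [b, hb]))
    refine GrothendieckTopology.superset_covering _ (fun V f hf => ?_) hR
    obtain ⟨x₀, φ, ψ, hφ, hψ, -⟩ := h f hf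
    have hx₀ : 𝒳.p.obj x₀ = V := @IsHomLift.domain_eq _ _ _ _ _ _ _ _ _ f φ hφ
    change (Quot.mk _ (pullFib 𝒳 f ⟨x, rfl⟩) : IsoCl 𝒳 V) = Quot.mk _ (pullFib 𝒳 f ⟨x', hx'⟩)
    exact (mk_pullFib f ⟨x, rfl⟩ φ hφ hx₀).trans (mk_pullFib f ⟨x', hx'⟩ ψ hψ hx₀).symm

end Groth.Agent.S16877
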