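import Groth.Statements.S16885
import Groth.Agent.GerbeLib.Basic
import Groth.Agent.AlgStLib.Stack

set_option autoImplicit false
set_option linter.all false
set_option backward.isDefEq.respectTransparency false
set_option backward.isDefEq.respectTransparency.types false
open CategoryTheory
universe v u
open Gerb

namespace Groth.Agent.S16885

lemma toSelf_unique {C : Type*} [Category C] {𝒳 : BasedCategory C} (A B : 𝒳 ⥤ᵇ FibCat.selfOver C) :
    A = B := by
  obtain ⟨A₀, hA⟩ := A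
  obtain ⟨B₀, hB⟩ := B
  have h : A₀ = B₀ := ((Functor.comp_id A₀).symm.trans hA).trans (hB.symm.trans (Functor.comp_id B₀))
  subst h
  rfl

/-- Let `𝒮₁`, `𝒮₂` be categories over `C` and `F : 𝒮₁ ⟶ 𝒮₂` a functor over `C` which is an equivalence
in the 2-category of categories over `C`. Then, for a topology `J` on `C`, `𝒮₁` is a gerbe over the
site `(C, J)` if and only if `𝒮₂` is. -/
theorem result {C : Type u} [Category.{v} C] (J : GrothendieckTopology C)
    {𝒮₁ 𝒮₂ : BasedCategory.{v, max u v} C} (F : 𝒮₁ ⥤ᵇ 𝒮₂) (hF : FibCat.IsEquivOver F) :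
    Gerb.IsGerbe J 𝒮₁ ↔ Gerb.IsGerbe J 𝒮₂ := by
  have e : BasedFunctor.comp F (FibCat.toSelf 𝒮₂) = FibCat.toSelf 𝒮₁ := by
    exact toSelf_unique _ _
  refine ⟨fun ⟨hs, hg⟩ => ?_, fun ⟨hs, hg⟩ => ?_⟩
  · have hs' := (AlgStLib.isStack_iff_of_isEquivOver hF).mp hs
    haveI := hs.1
    haveI := hs'.1
    refine ⟨hs', ?_⟩
    obtain ⟨K, hK⟩ := FibLib.isEquivOver_symm hF
    have e' : BasedFunctor.comp K (FibCat.toSelf 𝒮₁) = FibCat.toSelf 𝒮₂ := by
      exact toSelf_unique _ _
    rw [← e']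
    exact GerbeLib.isGerbeOver_comp (GerbeLib.isGerbeOver_of_isEquivOver hK) hg
  · have hs' := (AlgStLib.isStack_iff_of_isEquivOver hF).mpr hs
    haveI := hs.1
    haveI := hs'.1
    refine ⟨hs', ?_⟩
    rw [← e]
    exact GerbeLib.isGerbeOver_comp (GerbeLib.isGerbeOver_of_isEquivOver hF) hg

end Groth.Agent.S16885
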