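import Groth.Statements.S16886
import Groth.Agent.GerbeLib.Basic
import Groth.Agent.AlgStLib.Stack
import Groth.Agent.S12801
import Groth.Agent.S12804

set_option autoImplicit false
set_option linter.all false
set_option backward.isDefEq.respectTransparency false
set_option backward.isDefEq.respectTransparency.types false
open CategoryTheory
universe v u
open Gerb

namespace Groth.Agent.S16886

/-- (2) ⇒ (1): let `𝒳`, `𝒴` be stacks in groupoids over the site `(C, J)` and `F : 𝒳 ⟶ 𝒴` a functor over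
`C` making `𝒳` a gerbe over `𝒴` (objects of `𝒴` come from `𝒳` locally and morphisms between images
lift locally). Then for every factorization `F = a ⋙ F'` through a category `𝒳'` over `C` with `a :
𝒳 ⟶ 𝒳'` an equivalence in the 2-category of categories over `C` and `F' : 𝒳' ⟶ 𝒴` a functor whose
underlying functor makes `𝒳'` fibred in groupoids over `𝒴`, the category `𝒳'` over `𝒴` (through
`F'`) is a gerbe over the site `𝒴` with the topology inherited from `J`. (Only this implication is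
stated; the converse is asserted in the published item with its verification not carried out.) -/
theorem result {C : Type u} [Category.{v} C]
    (J : GrothendieckTopology C) {𝒳 𝒴 𝒳' : BasedCategory.{v, max u v} C}
    (h𝒳 : Stk.IsStack J 𝒳) (h𝒴 : Stk.IsStack J 𝒴) (F : 𝒳 ⥤ᵇ 𝒴) (hF : Gerb.IsGerbeOver J F)
    (a : 𝒳 ⥤ᵇ 𝒳') (ha : FibCat.IsEquivOver a) (F' : 𝒳' ⥤ᵇ 𝒴) (hF' : FibCat.IsFibGrpd F'.toFunctor)
    (hfac : BasedFunctor.comp a F' = F) :
    Gerb.IsGerbe (𝒴.p.restrictedTopology J) (BasedCategory.ofFunctor F'.toFunctor) := by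
  haveI := h𝒳.1
  haveI := h𝒴.1
  have h𝒳' : Stk.IsStack J 𝒳' := (AlgStLib.isStack_iff_of_isEquivOver ha).mp h𝒳
  haveI := h𝒳'.1
  haveI := hF'
  obtain ⟨K, ⟨α⟩, ⟨β⟩⟩ := ha
  have hK : FibCat.IsEquivOver K := ⟨a, ⟨β⟩, ⟨α⟩⟩
  have hG : Gerb.IsGerbeOver J F' := by
    subst hfac
    exact GerbeLib.isGerbeOver_of_iso
      (BasedNatIso.mkNatIso (Functor.isoWhiskerRight ((BasedNatTrans.forgetful _ _).mapIso β) F'.toFunctor)
        (fun w => (BasedCategory.whiskerRight β.hom F').isHomLift' w) :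
        BasedFunctor.comp K (BasedFunctor.comp a F') ≅ F')
      (GerbeLib.isGerbeOver_comp (GerbeLib.isGerbeOver_of_isEquivOver hK) hF)
  refine ⟨Groth.Agent.S12804.result J h𝒳' h𝒴 F' hF', fun y => ?_, fun x x' b hb => ?_⟩
  · let T : Sieve (C := 𝒴.obj) y :=
      { arrows := fun V _ => ∃ x, F'.obj x = V
        downward_closed := fun {V W f} hf g => by
          obtain ⟨x, hx⟩ := hf
          obtain ⟨x₁, φ, hφ⟩ := FibLib.exists_lift F'.toFunctor (a := x) hx g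
          exact ⟨x₁, @IsHomLift.domain_eq _ _ _ _ F'.toFunctor _ _ _ _ g φ hφ⟩ }
    obtain ⟨R, hR, h⟩ := hG.1 y
    refine ⟨T, (Groth.Agent.S12801.result 𝒴.p h𝒴.1 J T).mpr
      (J.superset_covering (fun V g hg => ?_) hR), fun V f hf => ?_⟩
    · obtain ⟨x, φ, hφ⟩ := h g hg
      haveI := hφ
      refine ⟨F'.obj x, φ, eqToHom (IsHomLift.domain_eq 𝒴.p g φ).symm, ⟨x, rfl⟩, ?_⟩
      simp [IsHomLift.fac' 𝒴.p g φ]
    · obtain ⟨x, rfl⟩ := hf
      exact ⟨x, f, IsHomLift.of_fac' (𝟭 _) f f rfl rfl (by simp)⟩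
  · let x₀ : 𝒳'.obj := x
    let x₀' : 𝒳'.obj := x'
    let b₀ : F'.obj x₀ ⟶ F'.obj x₀' := b
    have he : F'.obj x₀' = F'.obj x₀ := @IsHomLift.codomain_eq _ _ _ _ (𝟭 _) _ _ _ _ (𝟙 (F'.obj x₀)) b hb
    have hb' : b₀ = eqToHom he.symm := by
      have := @IsHomLift.fac' _ _ _ _ (𝟭 _) _ _ _ _ (𝟙 (F'.obj x₀)) b₀ hb
      simpa using this
    let T : Sieve (C := 𝒴.obj) (F'.obj x₀) :=
      { arrows := fun V f => ∃ (z : 𝒳'.obj) (φ : z ⟶ x₀) (ψ : z ⟶ x₀'),
          F'.toFunctor.IsHomLift f φ ∧ F'.toFunctor.IsHomLift f ψ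
        downward_closed := fun {V W f} hf g => by
          obtain ⟨z, φ, ψ, hφ, hψ⟩ := hf
          obtain ⟨z₁, χ, hχ⟩ := FibLib.exists_lift F'.toFunctor (a := z)
            (@IsHomLift.domain_eq _ _ _ _ F'.toFunctor _ _ _ _ f φ hφ) g
          haveI := hφ
          haveI := hψ
          haveI := hχ
          exact ⟨z₁, χ ≫ φ, χ ≫ ψ, inferInstance, inferInstance⟩ }
    have hb₀ : 𝒴.p.IsHomLift (𝟙 (𝒳'.p.obj x₀)) b₀ := by
      rw [hb']
      exact IsHomLift.of_fac' _ _ _ (F'.w_obj x₀) ((congrArg 𝒴.p.obj he).trans (F'.w_obj x₀)) (by simp [eqToHom_map])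
    obtain ⟨R, hR, h⟩ := GerbeLib.locSurjHom_at hG.2 (U := 𝒳'.p.obj x₀) x₀ x₀' rfl b₀ hb₀
    refine ⟨T, (Groth.Agent.S12801.result 𝒴.p h𝒴.1 J T).mpr ?_, fun V f hf => ?_⟩
    · refine J.superset_covering (fun W g hg => ?_) (J.pullback_stable (eqToHom (F'.w_obj x₀)) hR)
      obtain ⟨z, φ, ψ, hφ, hψ, e⟩ := h _ hg
      haveI := hφ
      haveI : 𝒳'.p.IsHomLift (g ≫ eqToHom (F'.w_obj x₀)) φ := hφ
      haveI := F'.preserves_isHomLift (g ≫ eqToHom (F'.w_obj x₀)) φ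
      refine ⟨F'.obj z, F'.map φ, eqToHom (IsHomLift.domain_eq 𝒴.p (g ≫ eqToHom (F'.w_obj x₀)) (F'.map φ)).symm,
        ⟨z, φ, ψ, IsHomLift.map F'.toFunctor φ, IsHomLift.of_fac' _ _ _ rfl he ?_⟩, ?_⟩
      · rw [← e, hb']
        simp
      · simp [IsHomLift.fac' 𝒴.p (g ≫ eqToHom (F'.w_obj x₀)) (F'.map φ)]
    · obtain ⟨z, φ, ψ, hφ, hψ⟩ := hf
      refine ⟨z, φ, ψ, hφ, hψ, ?_⟩
      haveI := hφ
      haveI := hψ
      show F'.map φ ≫ b₀ = F'.map ψ
      rw [hb', IsHomLift.fac' F'.toFunctor f φ, IsHomLift.fac' F'.toFunctor f ψ]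
      simp

end Groth.Agent.S16886
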