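import Groth.Statements.S1689
import Groth.Agent.RefHullLib.Hartogs
import Groth.Agent.DepthLib.RegAB
import Groth.Agent.MiscFlat6.FreeStalks
import Groth.Agent.DimIneqLib.Dim

-- import your own Groth.Agent.* helpers here

set_option autoImplicit false
universe u
open CategoryTheory CategoryTheory.Limits AlgebraicGeometry TopologicalSpace
open SDiv

namespace Groth.Agent.S1689




/-- Let X be a locally Noetherian scheme of dimension at most 2 all of whose local rings are regular,
and F a coherent module on X. Then F is reflexive (every stalk is a reflexive module over the local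
ring) if and only if F is finite locally free. -/
theorem result (X : Scheme.{u}) [IsLocallyNoetherian X]
    (hreg : ∀ x : ↥X, IsRegularLocalRing (X.presheaf.stalk x)) (hdim : topologicalKrullDim ↥X ≤ 2) (F : X.Modules)
    (hF : Coh.IsCoh F) : (∀ x : ↥X, Module.IsReflexive (X.presheaf.stalk x) (F.presheaf.stalk x)) ↔ FlatMod.IsFinLocFree F := by
  haveI := hF.1
  constructor
  · intro hr
    refine MiscFlat6.isFP_and_free_iff.1 ⟨QCohLib.isFP_of_isCoh F hF, fun x => ?_⟩
    haveI := hreg x
    haveI := DepthLib.finite_stalk F hF.2 x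
    haveI := hr x
    have hle : ringKrullDim (X.presheaf.stalk x) ≤ 2 := (DimIneqLib.stalk_dim_le_dim x).trans hdim
    obtain ⟨d, hd⟩ : ∃ d : ℕ, ringKrullDim (X.presheaf.stalk x) = d :=
      ⟨_, ((isRegularLocalRing_iff _).1 inferInstance).symm⟩
    have hd2 : d ≤ 2 := by rw [hd] at hle; exact_mod_cast hle
    haveI : Module.Projective (X.presheaf.stalk x) (F.presheaf.stalk x) := by
      rw [← CommAlgDim.pdlt_one_iff]
      have hdep : (d : ℕ∞) ≤ LocCoh.depth (X.presheaf.stalk x) (F.presheaf.stalk x) := by
        have h2 : (d : WithBot ℕ∞) ≤ LocCoh.depth (X.presheaf.stalk x) (X.presheaf.stalk x) :=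
          hd ▸ NormalLib.le_depth_self_of_isRegularLocalRing _
        have h2' : (d : ℕ∞) ≤ LocCoh.depth (X.presheaf.stalk x) (X.presheaf.stalk x) := by exact_mod_cast h2
        interval_cases d
        · simp
        · unfold LocCoh.depth at h2' ⊢
          rw [Nat.cast_one] at h2' ⊢
          exact DepthTwoLib.one_le_iff.2 ((DepthTwoLib.idealDepth_reflexive _).1 (DepthTwoLib.one_le_iff.1 h2'))
        · exact RefHullLib.depth_reflexive _ hd.ge
      have h3 := (DepthLib.le_depth_add_iff_pdlt (X.presheaf.stalk x) (F.presheaf.stalk x) hd 0 d).1 (by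
        rw [Nat.cast_zero, add_zero]; exact_mod_cast hdep)
      rwa [show d + 0 + 1 - d = 1 by omega] at h3
    exact Module.free_of_flat_of_isLocalRing
  · intro h x
    haveI := MiscFlat6.free_stalk_of_isFinLocFree h x
    haveI := DepthLib.finite_stalk F hF.2 x
    infer_instance


end Groth.Agent.S1689
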