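import Groth.Statements.S16894
import Mathlib
import Groth.Agent.IntFunLib.NefApps
-- import your own Groth.Agent.* helpers here

set_option autoImplicit false
universe u
open CategoryTheory CategoryTheory.Limits AlgebraicGeometry
open Vanish

namespace Groth.Agent.S16894

/-- Let k be an algebraically closed field and X an irreducible proper smooth k-scheme of dimension n
with an ample invertible O_X-module A (a projective manifold), and let L be an invertible
O_X-module. Then L is numerically effective, i.e. the degree of the pullback of L to every integral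
one-dimensional closed subscheme Y ⊆ X is non-negative, if and only if L^⊗ν ⊗ A is ample for every ν
> 0. (The published lemma says 'for an ample sheaf A'; the equivalence is stated here for any given
ample A, which is what the argument gives.) -/
theorem result (k : Type u) [Field k] [IsAlgClosed k]
    (X : Scheme.{u}) [X.Over (Spec (CommRingCat.of k))] [IsProper (X ↘ Spec (CommRingCat.of k))]
    [Smooth (X ↘ Spec (CommRingCat.of k))] [IrreducibleSpace X] (n : ℕ) (hn : topologicalKrullDim X = n)
    (A : X.Modules) (hA : CohB1.IsAmple A) (L : X.Modules) (hL : PicF.IsInvertible L) :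
    (∀ (Y : Scheme.{u}) (i : Y ⟶ X) [IsClosedImmersion i], IsIntegral Y → topologicalKrullDim Y = 1 →
      0 ≤ Pic13.curveDeg k (i ≫ (X ↘ Spec (CommRingCat.of k))) ((Scheme.Modules.pullback i).obj L)) ↔
      ∀ ν : ℕ, 0 < ν → CohB1.IsAmple (CohB1.tensorMod (CohB1.tensorPow L ν) A) := by
  refine ⟨fun h ν hν => ?_, fun h Y i _ hY hdim => ?_⟩
  · have hn : IntFunLib.Nef k L := IntFunLib.nef_of_cd fun C hi hC => by
      rw [← IntFunLib.curveDeg_eq hL hC]
      refine h C.subscheme C.subschemeι hi ?_
      rw [← hC, ← C.range_subschemeι]
      exact IsHomeomorph.topologicalKrullDim_eq _ C.subschemeι.isEmbedding.toHomeomorph.isHomeomorph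
    refine AmpleDevLib.isAmple_of_iso
      (HilbPolyLib.isInvertible_tensor (AmpleThLib.tensorPow_isInvertible hL ν) (AmpleThLib.tensorPow_isInvertible hA.1 1))
      (HilbPolyLib.isInvertible_tensor (AmpleThLib.tensorPow_isInvertible hL ν) hA.1)
      (HilbPolyLib.congrRight _ (HilbPolyLib.unitLeft A)) ?_
    exact IntFunLib.isAmple_nef_add (k := k) hL hn hA hν Nat.one_pos
  · haveI := hY
    exact IntFunLib.curveDeg_nonneg hA.1 hL h i hdim

end Groth.Agent.S16894
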