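import Groth.Statements.S1690
import Groth.Agent.RefHullLib.BigOpen
import Groth.Agent.DepthLib.RegAB
import Groth.Agent.MiscFlat6.FreeStalks

-- import your own Groth.Agent.* helpers here

set_option autoImplicit false
universe u
open CategoryTheory CategoryTheory.Limits AlgebraicGeometry TopologicalSpace
open SDiv

namespace Groth.Agent.S1690

theorem isFinLocFree_restrict_iff {X : Scheme.{u}} [IsLocallyNoetherian X] {F : X.Modules} (hF : Coh.IsCoh F)
    (U : X.Opens) : FlatMod.IsFinLocFree (F.restrict U.ι) ↔
      ∀ x ∈ U, Module.Free (X.presheaf.stalk x) (F.presheaf.stalk x) := by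
  haveI := hF.1
  haveI : Coh.IsQCoh (F.restrict U.ι) := inferInstance
  constructor
  · intro h x hx
    exact (RefHullLib.free_restrict_iff U.ι F ⟨x, hx⟩).1 (MiscFlat6.free_stalk_of_isFinLocFree h _)
  · intro h
    refine MiscFlat6.isFP_and_free_iff.1 ⟨?_, fun p => (RefHullLib.free_restrict_iff U.ι F p).2 (h _ p.2)⟩
    exact QCohLib.isFP_of_isCoh _ ⟨inferInstance, RefHullLib.isFT_restrict hF.2 U⟩


/-- (1) if and only if (3): let X be an integral locally Noetherian normal scheme and F a coherent
module. Then F is reflexive (stalkwise) if and only if there is an open subscheme j : U ⟶ X such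
that every point outside U has local ring of dimension at least 2, the restriction of F to U is
finite locally free, and the canonical map F ⟶ j_* j^* F is an isomorphism. -/
theorem result (X : Scheme.{u}) [IsIntegral X] [IsLocallyNoetherian X] (hX : Pi1.IsNormalScheme X)
    (F : X.Modules) (hF : Coh.IsCoh F) :
    (∀ x : ↥X, Module.IsReflexive (X.presheaf.stalk x) (F.presheaf.stalk x)) ↔
      ∃ U : X.Opens, (∀ x : ↥X, x ∉ U → (2 : WithBot ℕ∞) ≤ ringKrullDim (X.presheaf.stalk x)) ∧
        FlatMod.IsFinLocFree (F.restrict U.ι) ∧ IsIso ((Scheme.Modules.restrictAdjunction U.ι).unit.app F) := by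
  haveI := hF.1
  have hdd := RefHullLib.isCoh_dual (RefHullLib.isCoh_dual hF)
  constructor
  · intro hr
    let U : X.Opens := ⟨{x : X | CommAlgDim.PDLT (X.presheaf.stalk x) (F.presheaf.stalk x) 1},
      DepthLib.isOpen_pdlt_stalk F hF.2 1⟩
    refine ⟨U, fun x hx => ?_, (isFinLocFree_restrict_iff hF U).2 fun x hx => ?_, ?_⟩
    · by_contra hd
      haveI := (hX x).2
      haveI := DepthLib.finite_stalk F hF.2 x
      haveI := hr x
      haveI := RefHullLib.torsionFree_of_isReflexive (R := X.presheaf.stalk x) (F.presheaf.stalk x)
      haveI := RefHullLib.free_of_dim_le_one hX hF hd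
      exact hx (CommAlgDim.pdlt_one_iff.2 Module.Projective.of_free)
    · haveI := DepthLib.finite_stalk F hF.2 x
      haveI : Module.Projective (X.presheaf.stalk x) (F.presheaf.stalk x) := CommAlgDim.pdlt_one_iff.1 hx
      exact Module.free_of_flat_of_isLocalRing
    · refine RefHullLib.isIso_unit_of_depth U hF fun x hx => ?_
      haveI := (hX x).2
      haveI := DepthLib.finite_stalk F hF.2 x
      haveI := hr x
      refine RefHullLib.depth_reflexive_normal _ ?_
      by_contra hd
      haveI := RefHullLib.torsionFree_of_isReflexive (R := X.presheaf.stalk x) (F.presheaf.stalk x)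
      haveI := RefHullLib.free_of_dim_le_one hX hF hd
      exact hx (CommAlgDim.pdlt_one_iff.2 Module.Projective.of_free)
  · rintro ⟨U, hU, hfree, hunit⟩
    haveI := hunit
    haveI : IsIso ((Scheme.Modules.restrictAdjunction U.ι).unit.app (RefHull.ddual F)) :=
      RefHullLib.isIso_unit_of_depth U hdd fun x hx => by
        haveI := (hX x).2
        haveI := hdd.1
        haveI := DepthLib.finite_stalk (RefHull.ddual F) hdd.2 x
        haveI := RefHullLib.reflexive_stalk_ddual hF x
        exact RefHullLib.depth_reflexive_normal _ (hU x hx)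
    haveI : IsIso ((Scheme.Modules.restrictFunctor U.ι).map (RefHull.bidualMap F)) :=
      RefHullLib.isIso_restrict U.ι _ fun v => (RefHullLib.bijective_stalk_bidual_iff hF (U.ι v)).2 (by
        haveI := (isFinLocFree_restrict_iff hF U).1 hfree (U.ι v) v.2
        haveI := DepthLib.finite_stalk F hF.2 (U.ι v)
        show Module.IsReflexive _ _
        infer_instance)
    haveI : IsIso (RefHull.bidualMap F) := by
      have hn := (Scheme.Modules.restrictAdjunction U.ι).unit.naturality (RefHull.bidualMap F)
      simp only [Functor.id_map, Functor.comp_map] at hn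
      haveI : IsIso (RefHull.bidualMap F ≫ (Scheme.Modules.restrictAdjunction U.ι).unit.app (RefHull.ddual F)) := by
        rw [hn]; infer_instance
      exact IsIso.of_isIso_comp_right _ ((Scheme.Modules.restrictAdjunction U.ι).unit.app (RefHull.ddual F))
    exact fun x => (RefHullLib.isReflexive_iff hF).1 ‹_› x


end Groth.Agent.S1690
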