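import Groth.Statements.S16904
import Mathlib
import Groth.Agent.GrowthLib.Semiample
import Groth.Agent.AlgSpLib.ReducedSmooth
-- import your own Groth.Agent.* helpers here

set_option autoImplicit false
universe u
open CategoryTheory CategoryTheory.Limits AlgebraicGeometry
open Vanish

namespace Groth.Agent.S16904

/-- Let k be an algebraically closed field of characteristic zero and X an irreducible proper smooth
k-scheme of dimension n with an ample invertible O_X-module (a projective manifold); let L be a
semi-ample invertible O_X-module (some L^⊗μ with μ > 0 is globally generated; such L is numerically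
effective) with tensor inverse L⁻¹. Then for every natural number m, c_1(L)^m is numerically trivial
— (L^m · V) = 0 for every integral closed subscheme V ⊆ X of dimension m — if and only if κ(L) < m
in the growth form: there are no ν > 0 and a > 0 with μ^m ≤ a · dim_k H^0(X, L^⊗νμ) for all μ ≥ 1.
(This expresses ν(L) = κ(L) for semi-ample L; characteristic zero only.) -/
theorem result (k : Type u) [Field k] [IsAlgClosed k] [CharZero k]
    (X : Scheme.{u}) [X.Over (Spec (CommRingCat.of k))] [IsProper (X ↘ Spec (CommRingCat.of k))]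
    [Smooth (X ↘ Spec (CommRingCat.of k))] [IrreducibleSpace X] (n : ℕ) (hn : topologicalKrullDim X = n)
    (H : X.Modules) (hH : CohB1.IsAmple H) (L Linv : X.Modules) (hL : PicF.IsInvertible L) (hLinv : ClSub.IsInverseOf Linv L)
    (hsa : ∃ μ : ℕ, 0 < μ ∧ Curv2.IsGloballyGenerated (CohB1.tensorPow L μ))
    (m : ℕ) :
    (∀ (V : Scheme.{u}) (i : V ⟶ X) [IsClosedImmersion i], IsIntegral V → topologicalKrullDim V = (m : ℕ) →
      FGA.intNum k X n (fun _ : Fin m => Linv) ((Scheme.Modules.pushforward i).obj (Coh.structureModule V)) = 0) ↔ ¬ (∃ ν a : ℕ, 0 < ν ∧ 0 < a ∧ ∀ μ : ℕ, 1 ≤ μ →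
        μ ^ m ≤ a * Module.finrank k (Coh.HH X (CohB1.tensorPow L (ν * μ)) 0)) := by
  haveI : IsReduced X := AlgSpLib.isReduced_of_smooth (X ↘ Spec (CommRingCat.of k))
  haveI : IsIntegral X := isIntegral_of_irreducibleSpace_of_isReduced X
  haveI := CurvLib.isNoetherian k (X := X)
  obtain ⟨μ, hμ, hgg⟩ := hsa
  have hnef : IntFunLib.Nef k L := by
    intro ξ hξ
    haveI := IntMultLib.isIntegral_ptIdeal ξ
    have hM := AmpleThLib.tensorPow_isInvertible hL μ
    have h0 := IntFunLib.N_pow (k := k) (l := []) (by simp) hL (IntFunLib.coh_Fpt k ξ)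
      (by rw [IntFunLib.supp_Fpt k, hξ]; simp) μ
    have h1 : 0 ≤ IntFunLib.N k [CohB1.tensorPow L μ] (IntFunLib.Fpt ξ) :=
      GrowthLib.N_gg_nonneg (k := k) hM hgg hξ
    rw [h0] at h1
    exact nonneg_of_mul_nonneg_right h1 (by exact_mod_cast hμ)
  constructor
  · intro hm
    refine GrowthLib.not_grows_of_vanishIn hL hnef hH fun ξ hξ => ?_
    haveI := IntMultLib.isIntegral_ptIdeal ξ
    have h1 := hm (IntMultLib.ptIdeal ξ).subscheme (IntMultLib.ptIdeal ξ).subschemeι inferInstance (by
      rw [← hξ]
      exact ((IntMultLib.ptIdeal ξ).subschemeι.isEmbedding.toHomeomorph.trans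
        (Homeomorph.setCongr (IntMultLib.range_ptIdeal ξ))).isHomeomorph.topologicalKrullDim_eq)
    rwa [GrowthLib.intNum_inv_eq_N hL hLinv hn.le (F := (Scheme.Modules.pushforward (IntMultLib.ptIdeal ξ).subschemeι).obj
        (Coh.structureModule (IntMultLib.ptIdeal ξ).subscheme)) (IntFunLib.coh_Fpt k ξ)
      (by rw [show CohB1.support _ = _ from IntFunLib.supp_Fpt k ξ, hξ])] at h1
  · intro hg V i _ hV hdim
    by_contra hne
    refine hg (GrowthLib.grows_of_semiample hL hμ hgg hH hnef fun hv => hne ?_)
    haveI := hV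
    obtain ⟨hc, hs, -⟩ := DevissLib.push_generic i _ (DevissLib.isCoh_structureModule V) ⊤
      ⟨genericPoint V, trivial⟩ fun U _ => DevissLib.exists_gen_structureModule U
    have hd : topologicalKrullDim (CohB1.support ((Coh.push i).obj (Coh.structureModule V))) ≤ (m : ℕ) := by
      rw [hs, ← hdim]
      exact (i.isEmbedding.toHomeomorph.symm).isHomeomorph.topologicalKrullDim_eq.le
    rw [GrowthLib.intNum_inv_eq_N hL hLinv hn.le hc hd]
    exact GrowthLib.N_eq_zero_of_points (fun A hA => by rw [List.eq_of_mem_replicate hA]; exact hL) hc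
      (by rw [List.length_replicate]; exact hd) fun η hη => hv η (by rwa [List.length_replicate] at hη)

end Groth.Agent.S16904
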