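import Groth.Statements.S16917
import Groth.Agent.UncLib.Basic


set_option autoImplicit false
set_option linter.all false
open CategoryTheory AlgebraicGeometry
universe u
open Variety

namespace Groth.Agent.S16917

open TopologicalSpace

theorem exists_max {X : Scheme.{u}} [IsLocallyNoetherian X] (P : Set (Closeds X))
    (hP : ∀ T ∈ P, IsIrreducible (T : Set X)) (T₀ : Closeds X) (h₀ : T₀ ∈ P) :
    ∃ T ∈ P, T₀ ≤ T ∧ ∀ T' ∈ P, T ≤ T' → T' = T := by
  classical
  obtain ⟨x, hx⟩ : ∃ x, IsGenericPoint x (T₀ : Set X) :=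
    QuasiSober.sober (hP T₀ h₀) T₀.isClosed
  obtain ⟨_, ⟨W, hW, rfl⟩, hxW, -⟩ :=
    X.isBasis_affineOpens.exists_subset_of_mem_open (Set.mem_univ x) isOpen_univ
  have hW : IsAffineOpen W := hW
  haveI : IsNoetherianRing Γ(X, W) := IsLocallyNoetherian.component_noetherian ⟨W, hW⟩
  let Q : Set (Ideal Γ(X, W)) := {I | ∃ T ∈ P, T₀ ≤ T ∧ ∃ η : W, IsGenericPoint (η : X) (T : Set X) ∧
    (hW.primeIdealOf η).asIdeal = I}
  obtain ⟨_, ⟨I, ⟨T, hT, hle, η, hη, rfl⟩, rfl⟩, hmin⟩ :=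
    WellFounded.has_min (wellFounded_lt (α := ℕ∞)) (Ideal.height '' Q)
      (Set.Nonempty.image _ ⟨_, T₀, h₀, le_rfl, ⟨x, hxW⟩, hx, rfl⟩)
  refine ⟨T, hT, hle, fun T' hT' hTT' => ?_⟩
  obtain ⟨η', hη'⟩ : ∃ η', IsGenericPoint η' (T' : Set X) :=
    QuasiSober.sober (hP T' hT') T'.isClosed
  have hs : η' ⤳ (η : X) := hη'.specializes (hTT' hη.mem)
  have hη'W : η' ∈ W := hs.mem_open W.2 η.2
  have hle' : (hW.primeIdealOf ⟨η', hη'W⟩).asIdeal ≤ (hW.primeIdealOf η).asIdeal := by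
    rw [PrimeSpectrum.asIdeal_le_asIdeal, PrimeSpectrum.le_iff_specializes]
    have h1 : hW.fromSpec (hW.primeIdealOf ⟨η', hη'W⟩) ⤳ hW.fromSpec (hW.primeIdealOf η) := by
      rw [hW.fromSpec_primeIdealOf, hW.fromSpec_primeIdealOf]; exact hs
    exact hW.fromSpec.isOpenEmbedding.isInducing.specializes_iff.1 h1
  rcases hle'.eq_or_lt with h | h
  · have h' : hW.primeIdealOf ⟨η', hη'W⟩ = hW.primeIdealOf η := PrimeSpectrum.ext h
    have := congrArg (fun q => hW.fromSpec q) h'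
    simp only [hW.fromSpec_primeIdealOf] at this
    subst this
    exact SetLike.coe_injective (hη'.def.symm.trans hη.def)
  · exact absurd (Ideal.height_strict_mono_of_isPrime_of_isPrime h)
      (hmin _ ⟨_, ⟨T', hT', hle.trans hTT', ⟨η', hη'W⟩, hη', rfl⟩, rfl⟩)

theorem subset_some (k : Type u) [Field k] [Uncountable k] (X : Scheme.{u})
    (sX : X ⟶ Spec (CommRingCat.of k)) [LocallyOfFiniteType sX]
    (T : Closeds X) (hT : IsIrreducible (T : Set X)) (S' : Set (Closeds X)) (hS' : S'.Countable)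
    (h : ∀ x : X, IsClosed ({x} : Set X) → x ∈ T → ∃ T' ∈ S', x ∈ T') :
    ∃ T' ∈ S', T ≤ T' := by
  classical
  by_contra hne
  push Not at hne
  obtain ⟨F, hF⟩ := (hS'.insert ⊥).exists_eq_range (Set.insert_nonempty _ _)
  let I := Scheme.IdealSheafData.vanishingIdeal T
  let ι := I.subschemeι
  have hrange : Set.range ι = (T : Set X) := by
    rw [Scheme.IdealSheafData.range_subschemeι]; rfl
  haveI : IrreducibleSpace I.subscheme := by
    have h1 : IsIrreducible (Set.univ : Set I.subscheme) := by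
      constructor
      · obtain ⟨y, hy⟩ := hT.1
        rw [← hrange] at hy
        obtain ⟨z, -⟩ := hy
        exact ⟨z, trivial⟩
      · rintro u v hu hv ⟨a, -, ha⟩ ⟨b, -, hb⟩
        obtain ⟨u', hu', rfl⟩ := ι.isClosedEmbedding.isInducing.isOpen_iff.1 hu
        obtain ⟨v', hv', rfl⟩ := ι.isClosedEmbedding.isInducing.isOpen_iff.1 hv
        obtain ⟨y, hy, hyu, hyv⟩ := hT.2 u' v' hu' hv' ⟨ι a, hrange ▸ ⟨a, rfl⟩, ha⟩
          ⟨ι b, hrange ▸ ⟨b, rfl⟩, hb⟩
        rw [← hrange] at hy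
        obtain ⟨z, rfl⟩ := hy
        exact ⟨z, trivial, hyu, hyv⟩
    exact (irreducibleSpace_def _).2 h1
  haveI : LocallyOfFiniteType (ι ≫ sX) := inferInstance
  let Z : ℕ → Closeds I.subscheme := fun n => (F n).preimage ι.continuous
  have hZ : ∀ n, (Z n : Set I.subscheme) ≠ Set.univ := by
    intro n hn
    have hle : T ≤ F n := by
      intro y hy
      have : y ∈ Set.range ι := hrange.symm ▸ hy
      obtain ⟨z, rfl⟩ := this
      have : z ∈ (Z n : Set I.subscheme) := hn ▸ trivial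
      exact this
    have hFn : F n ∈ insert ⊥ S' := hF ▸ ⟨n, rfl⟩
    rcases hFn with hb | hb
    · obtain ⟨y, hy⟩ := hT.1
      exact (hb ▸ hle) hy
    · exact hne _ hb hle
  obtain ⟨z, -, hzc, hzn⟩ := UncLib.exists_closedPoint k I.subscheme (ι ≫ sX) Z hZ Set.univ
    isOpen_univ ⟨(Classical.arbitrary I.subscheme), trivial⟩
  have hzc' : IsClosed ({ι z} : Set X) := by
    simpa using ι.isClosedEmbedding.isClosedMap _ hzc
  obtain ⟨T', hT', hzT'⟩ := h _ hzc' (show ι z ∈ (T : Set X) from hrange ▸ ⟨z, rfl⟩)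
  obtain ⟨n, hn⟩ : T' ∈ Set.range F := hF ▸ Set.mem_insert_of_mem _ hT'
  exact hzn n (show ι z ∈ F n from hn ▸ hzT')


/-- Let k be an uncountable algebraically closed field, X a k-scheme of finite type and Z₀, Z₁, …
countably many closed subsets of X. Then the countable union of the Zₙ, read through closed points,
has a unique irredundant decomposition: there is exactly one countable family S of irreducible
closed subsets of X, pairwise not contained in one another, such that a closed point of X lies in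
some member of S if and only if it lies in some Zₙ. (The published statement is the existence and
uniqueness of the irredundant decomposition of a countable union of algebraic varieties into
c-components, a variety being read through its closed points; with all points of the scheme the
uniqueness would not need the uncountable field.) -/
theorem result (k : Type u) [Field k] [IsAlgClosed k]
    [Uncountable k] (X : Scheme.{u}) (sX : X ⟶ Spec (CommRingCat.of k)) [LocallyOfFiniteType sX]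
    [QuasiCompact sX] (Z : ℕ → TopologicalSpace.Closeds X) :
    ∃! S : Set (TopologicalSpace.Closeds X), S.Countable ∧ (∀ T ∈ S, IsIrreducible (T : Set X)) ∧
      IsAntichain (· ≤ ·) S ∧
      {x : X | IsClosed ({x} : Set X) ∧ ∃ T ∈ S, x ∈ T} =
        {x : X | IsClosed ({x} : Set X) ∧ ∃ n, x ∈ Z n} := by
  classical
  haveI : IsNoetherian (Spec (CommRingCat.of k)) := inferInstance
  haveI : IsLocallyNoetherian X := LocallyOfFiniteType.isLocallyNoetherian sX
  haveI : CompactSpace X := QuasiCompact.compactSpace_of_compactSpace sX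
  haveI : IsNoetherian X := ⟨⟩
  choose C hCf hCi hCs using fun n =>
    TopologicalSpace.NoetherianSpace.exists_finite_set_closeds_irreducible (Z n)
  let P : Set (TopologicalSpace.Closeds X) := ⋃ n, C n
  have hP : ∀ T ∈ P, IsIrreducible (T : Set X) := fun T hT => by
    obtain ⟨n, hn⟩ := Set.mem_iUnion.1 hT; exact hCi n T hn
  have hmem : ∀ n (x : X), x ∈ Z n ↔ ∃ T ∈ C n, x ∈ T := by
    intro n x
    rw [hCs n]
    have : sSup (C n) = (hCf n).toFinset.sup id := by
      rw [Finset.sup_id_eq_sSup, (hCf n).coe_toFinset]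
    rw [this, ← SetLike.mem_coe, TopologicalSpace.Closeds.coe_finset_sup]
    simp
  let S₀ : Set (TopologicalSpace.Closeds X) := {T | T ∈ P ∧ ∀ T' ∈ P, T ≤ T' → T' = T}
  refine ⟨S₀, ⟨(Set.countable_iUnion fun n => (hCf n).countable).mono fun T hT => hT.1,
    fun T hT => hP T hT.1, fun T hT T' hT' hne hle => hne (hT.2 T' hT'.1 hle).symm, ?_⟩, ?_⟩
  · ext x
    refine and_congr_right fun hx => ⟨?_, ?_⟩
    · rintro ⟨T, ⟨hT, -⟩, hxT⟩
      obtain ⟨n, hn⟩ := Set.mem_iUnion.1 hT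
      exact ⟨n, (hmem n x).2 ⟨T, hn, hxT⟩⟩
    · rintro ⟨n, hn⟩
      obtain ⟨T, hT, hxT⟩ := (hmem n x).1 hn
      obtain ⟨M, hM, hle, hmax⟩ := exists_max P hP T (Set.mem_iUnion.2 ⟨n, hT⟩)
      exact ⟨M, ⟨hM, hmax⟩, hle hxT⟩
  rintro S ⟨hSc, hSi, hSa, hSeq⟩
  have hS₀c : S₀.Countable := (Set.countable_iUnion fun n => (hCf n).countable).mono fun T hT => hT.1
  have hS₀a : IsAntichain (· ≤ ·) S₀ := fun T hT T' hT' hne hle => hne (hT.2 T' hT'.1 hle).symm
  have hS₀eq : ∀ x : X, IsClosed ({x} : Set X) →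
      ((∃ T ∈ S₀, x ∈ T) ↔ ∃ n, x ∈ Z n) := by
    intro x hx
    refine ⟨?_, ?_⟩
    · rintro ⟨T, ⟨hT, -⟩, hxT⟩
      obtain ⟨n, hn⟩ := Set.mem_iUnion.1 hT
      exact ⟨n, (hmem n x).2 ⟨T, hn, hxT⟩⟩
    · rintro ⟨n, hn⟩
      obtain ⟨T, hT, hxT⟩ := (hmem n x).1 hn
      obtain ⟨M, hM, hle, hmax⟩ := exists_max P hP T (Set.mem_iUnion.2 ⟨n, hT⟩)
      exact ⟨M, ⟨hM, hmax⟩, hle hxT⟩
  have hSeq' : ∀ x : X, IsClosed ({x} : Set X) →
      ((∃ T ∈ S, x ∈ T) ↔ ∃ n, x ∈ Z n) := fun x hx =>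
    ⟨fun h => ((Set.ext_iff.1 hSeq x).1 ⟨hx, h⟩).2, fun h => ((Set.ext_iff.1 hSeq x).2 ⟨hx, h⟩).2⟩
  have key : ∀ (A B : Set (TopologicalSpace.Closeds X)), A.Countable → B.Countable →
      (∀ T ∈ A, IsIrreducible (T : Set X)) → (∀ T ∈ B, IsIrreducible (T : Set X)) →
      IsAntichain (· ≤ ·) A →
      (∀ x : X, IsClosed ({x} : Set X) → ((∃ T ∈ A, x ∈ T) ↔ ∃ T ∈ B, x ∈ T)) → A ⊆ B := by
    intro A B hA hB hAi hBi hAa hAB T hT
    obtain ⟨T', hT', hle⟩ := subset_some k X sX T (hAi T hT) B hB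
      fun x hx hxT => (hAB x hx).1 ⟨T, hT, hxT⟩
    obtain ⟨T'', hT'', hle'⟩ := subset_some k X sX T' (hBi T' hT') A hA
      fun x hx hxT => (hAB x hx).2 ⟨T', hT', hxT⟩
    have : T = T'' := hAa.eq hT hT'' (hle.trans hle')
    have : T = T' := le_antisymm hle (this ▸ hle')
    exact this ▸ hT'
  refine Set.Subset.antisymm
    (key S S₀ hSc hS₀c hSi (fun T hT => hP T hT.1) hSa
      fun x hx => (hSeq' x hx).trans (hS₀eq x hx).symm)
    (key S₀ S hS₀c hSc (fun T hT => hP T hT.1) hSi hS₀a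
      fun x hx => (hS₀eq x hx).trans (hSeq' x hx).symm)

end Groth.Agent.S16917
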