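import Groth.Statements.S16918
import Groth.Agent.S16917

set_option linter.style.haveILetI false
set_option backward.isDefEq.respectTransparency false

set_option autoImplicit false
universe u
open CategoryTheory MonoidalCategory CartesianMonoidalCategory MonObj GrpObj AlgebraicGeometry
open GrpSch

namespace Groth.Agent.S16918

section aux

open TopologicalSpace

variable {k : Type u} [Field k] {A : Over (Spec (CommRingCat.of k))}

/-- the image point of a `k`-point. -/
noncomputable def pt {B : Over (Spec (CommRingCat.of k))}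
    (x : 𝟙_ (Over (Spec (CommRingCat.of k))) ⟶ B) : ↥B.left :=
  x.left.base (IsLocalRing.closedPoint k)

theorem pt_comp {B C : Over (Spec (CommRingCat.of k))}
    (x : 𝟙_ (Over (Spec (CommRingCat.of k))) ⟶ B) (f : B ⟶ C) :
    pt (x ≫ f) = f.left.base (pt x) := by
  simp [pt]

theorem range_eq {B : Over (Spec (CommRingCat.of k))}
    (x : 𝟙_ (Over (Spec (CommRingCat.of k))) ⟶ B) :
    Set.range ⇑x.left.base = {pt x} := by
  haveI : Subsingleton ↥(𝟙_ (Over (Spec (CommRingCat.of k)))).left :=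
    inferInstanceAs (Subsingleton (PrimeSpectrum k))
  refine Set.eq_singleton_iff_unique_mem.2 ⟨⟨_, rfl⟩, ?_⟩
  rintro _ ⟨p, rfl⟩
  exact congrArg x.left.base (Subsingleton.elim _ _)

variable [IsAlgClosed k]

theorem isClosed_pt {B : Over (Spec (CommRingCat.of k))} [LocallyOfFiniteType B.hom]
    (x : 𝟙_ (Over (Spec (CommRingCat.of k))) ⟶ B) : IsClosed ({pt x} : Set ↥B.left) :=
  ((pointEquivClosedPoint B.hom) ⟨x.left, Over.w x⟩).2

theorem exists_pt {B : Over (Spec (CommRingCat.of k))} [LocallyOfFiniteType B.hom]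
    {p : ↥B.left} (hp : IsClosed ({p} : Set ↥B.left)) :
    ∃ x : 𝟙_ (Over (Spec (CommRingCat.of k))) ⟶ B, pt x = p :=
  ⟨Over.homMk (pointOfClosedPoint B.hom p hp) (pointOfClosedPoint_comp B.hom p hp),
    pointOfClosedPoint_apply B.hom p hp _⟩

theorem pt_inj {B : Over (Spec (CommRingCat.of k))} [LocallyOfFiniteType B.hom]
    {x y : 𝟙_ (Over (Spec (CommRingCat.of k))) ⟶ B} (h : pt x = pt y) : x = y :=
  Over.OverMorphism.ext (ext_of_apply_closedPoint_eq B.hom (Over.w x) (Over.w y) h)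

theorem subset_of_pt {B : Over (Spec (CommRingCat.of k))} [LocallyOfFiniteType B.hom]
    (T : Set ↥B.left) (hT : IsClosed T) (C : Set ↥B.left) (hC : IsClosed C)
    (h : ∀ x : 𝟙_ (Over (Spec (CommRingCat.of k))) ⟶ B, pt x ∈ T → pt x ∈ C) : T ⊆ C := by
  haveI : JacobsonSpace ↥B.left := LocallyOfFiniteType.jacobsonSpace B.hom
  have h1 : closure (T ∩ closedPoints ↥B.left) = closure T :=
    JacobsonSpace.closure_inter_closedPoints_eq_closure hT.isLocallyClosed
  rw [← hT.closure_eq, ← h1]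
  refine closure_minimal ?_ hC
  rintro p ⟨hp, hpc⟩
  obtain ⟨x, rfl⟩ := exists_pt hpc
  exact h x hp

/-- the image of a product of two irreducible closed subsets under an operation. -/
theorem exists_op [IsProper A.hom] (m : A ⊗ A ⟶ A) (T₁ T₂ : Closeds ↥A.left)
    (h₁ : IsIrreducible (T₁ : Set ↥A.left)) (h₂ : IsIrreducible (T₂ : Set ↥A.left)) :
    ∃ T : Closeds ↥A.left, IsIrreducible (T : Set ↥A.left) ∧
      (∀ x y : 𝟙_ (Over (Spec (CommRingCat.of k))) ⟶ A, pt x ∈ T₁ → pt y ∈ T₂ →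
        pt (lift x y ≫ m) ∈ T) ∧
      (∀ z : 𝟙_ (Over (Spec (CommRingCat.of k))) ⟶ A, pt z ∈ T →
        ∃ x y, pt x ∈ T₁ ∧ pt y ∈ T₂ ∧ lift x y ≫ m = z) := by
  haveI : IsProper (A ⊗ A).hom := by dsimp; infer_instance
  haveI : IsProper (m.left ≫ A.hom) := by rw [Over.w]; infer_instance
  haveI : IsProper m.left := .of_comp _ A.hom
  let S : Set ↥A.left := {p | ∃ x y : 𝟙_ (Over (Spec (CommRingCat.of k))) ⟶ A,
    pt x ∈ T₁ ∧ pt y ∈ T₂ ∧ pt (lift x y ≫ m) = p}
  let C : Set ↥(A ⊗ A).left := ((fst A A).left.base ⁻¹' (T₁ : Set ↥A.left)) ∩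
    ((snd A A).left.base ⁻¹' (T₂ : Set ↥A.left))
  have hC : IsClosed C := (T₁.isClosed.preimage (fst A A).left.continuous).inter
    (T₂.isClosed.preimage (snd A A).left.continuous)
  have hM : IsClosed (m.left.base '' C) := m.left.isClosedMap _ hC
  have hSM : S ⊆ m.left.base '' C := by
    rintro _ ⟨x, y, hx, hy, rfl⟩
    refine ⟨pt (lift x y), ⟨?_, ?_⟩, (pt_comp _ _).symm⟩
    · show (fst A A).left.base (pt (lift x y)) ∈ (T₁ : Set ↥A.left)
      rw [← pt_comp, lift_fst]; exact hx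
    · show (snd A A).left.base (pt (lift x y)) ∈ (T₂ : Set ↥A.left)
      rw [← pt_comp, lift_snd]; exact hy
  refine ⟨⟨closure S, isClosed_closure⟩, ?_, fun x y hx hy => subset_closure ⟨x, y, hx, hy, rfl⟩, ?_⟩
  · refine IsIrreducible.closure ⟨?_, ?_⟩
    · haveI : JacobsonSpace ↥A.left := LocallyOfFiniteType.jacobsonSpace A.hom
      obtain ⟨p, hp, hpc⟩ := nonempty_inter_closedPoints h₁.1 T₁.isClosed.isLocallyClosed
      obtain ⟨q, hq, hqc⟩ := nonempty_inter_closedPoints h₂.1 T₂.isClosed.isLocallyClosed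
      obtain ⟨x, rfl⟩ := exists_pt hpc
      obtain ⟨y, rfl⟩ := exists_pt hqc
      exact ⟨_, x, y, hp, hq, rfl⟩
    · rw [isPreirreducible_iff_isClosed_union_isClosed]
      intro C₁ C₂ hC₁ hC₂ hsub
      let φ : (𝟙_ (Over (Spec (CommRingCat.of k))) ⟶ A) → (A ⟶ A) :=
        fun y => lift (𝟙 A) (toUnit A ≫ y) ≫ m
      let ψ : (𝟙_ (Over (Spec (CommRingCat.of k))) ⟶ A) → (A ⟶ A) :=
        fun x => lift (toUnit A ≫ x) (𝟙 A) ≫ m
      have hφ : ∀ x y, x ≫ φ y = lift x y ≫ m := fun x y => by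
        simp only [φ]
        rw [comp_lift_assoc, Category.comp_id, ← Category.assoc x (toUnit A) y,
          toUnit_unique (x ≫ toUnit A) (𝟙 _), Category.id_comp]
      have hψ : ∀ x y, y ≫ ψ x = lift x y ≫ m := fun x y => by
        simp only [ψ]
        rw [comp_lift_assoc, Category.comp_id, ← Category.assoc y (toUnit A) x,
          toUnit_unique (y ≫ toUnit A) (𝟙 _), Category.id_comp]
      let D : Set ↥A.left → Set ↥A.left := fun Ci =>
        ⋂ (y : 𝟙_ (Over (Spec (CommRingCat.of k))) ⟶ A) (_ : pt y ∈ T₂), (φ y).left.base ⁻¹' Ci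
      have hD : ∀ Ci, IsClosed Ci → IsClosed (D Ci) := fun Ci h =>
        isClosed_iInter fun y => isClosed_iInter fun _ => h.preimage (φ y).left.continuous
      have hDS : ∀ Ci x, (T₂ : Set ↥A.left) ⊆ (ψ x).left.base ⁻¹' Ci → pt x ∈ D Ci := by
        intro Ci x h
        simp only [D, Set.mem_iInter]
        intro y hy
        show (φ y).left.base (pt x) ∈ Ci
        rw [← pt_comp, hφ, ← hψ, pt_comp]
        exact h hy
      have hsub1 : (T₁ : Set ↥A.left) ⊆ D C₁ ∪ D C₂ := by
        refine subset_of_pt _ T₁.isClosed _ ((hD _ hC₁).union (hD _ hC₂)) fun x hx => ?_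
        have : (T₂ : Set ↥A.left) ⊆ ((ψ x).left.base ⁻¹' C₁) ∪ ((ψ x).left.base ⁻¹' C₂) := by
          refine subset_of_pt _ T₂.isClosed _ ((hC₁.preimage (ψ x).left.continuous).union
            (hC₂.preimage (ψ x).left.continuous)) fun y hy => ?_
          show (ψ x).left.base (pt y) ∈ C₁ ∪ C₂
          rw [← pt_comp, hψ]
          exact hsub ⟨x, y, hx, hy, rfl⟩
        rcases isPreirreducible_iff_isClosed_union_isClosed.1 h₂.2 _ _
          (hC₁.preimage (ψ x).left.continuous) (hC₂.preimage (ψ x).left.continuous) this with h | h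
        · exact Or.inl (hDS C₁ x h)
        · exact Or.inr (hDS C₂ x h)
      have hfin : ∀ Ci, (T₁ : Set ↥A.left) ⊆ D Ci → S ⊆ Ci := by
        rintro Ci h _ ⟨x, y, hx, hy, rfl⟩
        have := h hx
        simp only [D, Set.mem_iInter] at this
        have := this y hy
        rwa [Set.mem_preimage, ← pt_comp, hφ] at this
      exact (isPreirreducible_iff_isClosed_union_isClosed.1 h₁.2 _ _ (hD _ hC₁) (hD _ hC₂)
        hsub1).imp (hfin C₁) (hfin C₂)
  · intro z hz
    obtain ⟨c, hcC, hcz⟩ := closure_minimal hSM hM hz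
    haveI : JacobsonSpace ↥(A ⊗ A).left := LocallyOfFiniteType.jacobsonSpace (A ⊗ A).hom
    obtain ⟨d, ⟨hdC, hdz⟩, hdc⟩ := nonempty_inter_closedPoints
      (Z := C ∩ m.left.base ⁻¹' {pt z}) ⟨c, hcC, hcz⟩
      (hC.inter ((isClosed_pt z).preimage m.left.continuous)).isLocallyClosed
    obtain ⟨w, rfl⟩ := exists_pt hdc
    refine ⟨w ≫ fst A A, w ≫ snd A A, ?_, ?_, pt_inj ?_⟩
    · rw [pt_comp]; exact hdC.1
    · rw [pt_comp]; exact hdC.2
    · rw [lift_comp_fst_snd, pt_comp]; exact hdz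

end aux

/-- Let k be an uncountable algebraically closed field, A an abelian variety over k (a proper,
geometrically integral group scheme over k) and K a subgroup of the group of k-points of A (sections
of A over Spec k, a group through the group structure of A) which is the trace of a countable union
of closed subsets: a k-point belongs to K exactly when its image point lies in some Zₙ. Call an
irreducible closed subset T of A admissible when every k-point whose image lies in T belongs to K.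
Then there is exactly one maximal admissible T containing the image of the neutral element; that T
is contained in some Zₙ, and the k-points landing in T are closed under x, y ↦ x·y⁻¹, so that T is a
closed irreducible subgroup variety of A lying in one of the Zₙ. (The published statement says that
the irredundant decomposition of K has a unique component through 0 and that it is an abelian
subvariety; the maximal admissible subsets are exactly the components of that decomposition, each of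
which lies in some Zₙ, and this containment is the part of the conclusion that uses the
uncountability of k.) -/
theorem result (k : Type u)
    [Field k] [IsAlgClosed k] [Uncountable k] (A : Over (Spec (CommRingCat.of k))) [GrpObj A]
    [IsProper A.hom] [GeometricallyIntegral A.hom]
    (K : Subgroup (𝟙_ (Over (Spec (CommRingCat.of k))) ⟶ A))
    (Z : ℕ → TopologicalSpace.Closeds ↥A.left)
    (hK : ∀ x : 𝟙_ (Over (Spec (CommRingCat.of k))) ⟶ A,
      x ∈ K ↔ Set.range ⇑x.left.base ⊆ ⋃ n, (Z n : Set ↥A.left)) :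
    (∃! T : TopologicalSpace.Closeds ↥A.left,
      Maximal (fun T : TopologicalSpace.Closeds ↥A.left => IsIrreducible (T : Set ↥A.left) ∧
        ∀ x : 𝟙_ (Over (Spec (CommRingCat.of k))) ⟶ A, Set.range ⇑x.left.base ⊆ (T : Set ↥A.left) → x ∈ K) T ∧
      Set.range ⇑(1 : 𝟙_ (Over (Spec (CommRingCat.of k))) ⟶ A).left.base ⊆ (T : Set ↥A.left)) ∧
    ∀ T : TopologicalSpace.Closeds ↥A.left,
      Maximal (fun T : TopologicalSpace.Closeds ↥A.left => IsIrreducible (T : Set ↥A.left) ∧
        ∀ x : 𝟙_ (Over (Spec (CommRingCat.of k))) ⟶ A, Set.range ⇑x.left.base ⊆ (T : Set ↥A.left) → x ∈ K) T →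
      Set.range ⇑(1 : 𝟙_ (Over (Spec (CommRingCat.of k))) ⟶ A).left.base ⊆ (T : Set ↥A.left) →
      (∃ n, (T : Set ↥A.left) ⊆ (Z n : Set ↥A.left)) ∧
      ∀ x y : 𝟙_ (Over (Spec (CommRingCat.of k))) ⟶ A,
        Set.range ⇑x.left.base ⊆ (T : Set ↥A.left) → Set.range ⇑y.left.base ⊆ (T : Set ↥A.left) →
        Set.range ⇑(x * y⁻¹).left.base ⊆ (T : Set ↥A.left) := by
  classical
  haveI : LocallyOfFiniteType A.hom := inferInstance
  haveI : IsLocallyNoetherian A.left := LocallyOfFiniteType.isLocallyNoetherian A.hom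
  let P : TopologicalSpace.Closeds ↥A.left → Prop :=
    fun T => IsIrreducible (T : Set ↥A.left) ∧
      ∀ x : 𝟙_ (Over (Spec (CommRingCat.of k))) ⟶ A, Set.range ⇑x.left.base ⊆ (T : Set ↥A.left) → x ∈ K
  have hPK : ∀ {T}, P T → ∀ x, pt x ∈ T → x ∈ K := fun hT x hx =>
    hT.2 x (by rw [range_eq]; exact Set.singleton_subset_iff.2 hx)
  have hmk : ∀ T : TopologicalSpace.Closeds ↥A.left, IsIrreducible (T : Set ↥A.left) →
      (∀ x, pt x ∈ T → x ∈ K) → P T := fun T h1 h2 =>
    ⟨h1, fun x hx => h2 x (hx ⟨_, rfl⟩)⟩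
  have hmul : ∀ T T', P T → P T' → pt (1 : 𝟙_ (Over (Spec (CommRingCat.of k))) ⟶ A) ∈ T →
      pt (1 : 𝟙_ (Over (Spec (CommRingCat.of k))) ⟶ A) ∈ T' →
      ∃ U, P U ∧ T ≤ U ∧ T' ≤ U := by
    intro T T' hT hT' h1 h1'
    obtain ⟨U, hU, hmem, hex⟩ := exists_op (fst A A * snd A A) T T' hT.1 hT'.1
    have hop : ∀ x y : 𝟙_ (Over (Spec (CommRingCat.of k))) ⟶ A,
        lift x y ≫ (fst A A * snd A A) = x * y := fun x y => by
      rw [MonObj.comp_mul, lift_fst, lift_snd]
    refine ⟨U, hmk U hU ?_, ?_, ?_⟩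
    · intro z hz
      obtain ⟨x, y, hx, hy, rfl⟩ := hex z hz
      rw [hop]; exact K.mul_mem (hPK hT x hx) (hPK hT' y hy)
    · refine subset_of_pt _ T.isClosed _ U.isClosed fun x hx => ?_
      have := hmem x 1 hx h1'
      rwa [hop, _root_.mul_one] at this
    · refine subset_of_pt _ T'.isClosed _ U.isClosed fun y hy => ?_
      have := hmem 1 y h1 hy
      rwa [hop, _root_.one_mul] at this
  let T₀ : TopologicalSpace.Closeds ↥A.left :=
    ⟨{pt (1 : 𝟙_ (Over (Spec (CommRingCat.of k))) ⟶ A)}, isClosed_pt _⟩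
  have hT₀ : P T₀ := hmk T₀ isIrreducible_singleton fun x hx => by
    rw [pt_inj (Set.mem_singleton_iff.1 hx)]; exact K.one_mem
  obtain ⟨T, hT, hle, hmax⟩ := Groth.Agent.S16917.exists_max {T | P T} (fun T hT => hT.1) T₀ hT₀
  have h1T : pt (1 : 𝟙_ (Over (Spec (CommRingCat.of k))) ⟶ A) ∈ T := hle (Set.mem_singleton _)
  have huniq : ∀ T', Maximal P T' → pt (1 : 𝟙_ (Over (Spec (CommRingCat.of k))) ⟶ A) ∈ T' → T' = T := by
    intro T' hT' h1'
    obtain ⟨U, hU, hTU, hT'U⟩ := hmul T T' hT hT'.1 h1T h1'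
    exact (le_antisymm hT'U (hT'.2 hU hT'U)).trans (hmax U hU hTU)
  refine ⟨⟨T, ⟨⟨hT, fun T' hT' h => (hmax T' hT' h).le⟩, ?_⟩, ?_⟩, ?_⟩
  · rw [range_eq]; exact Set.singleton_subset_iff.2 h1T
  · rintro T' ⟨hT', h1'⟩
    exact huniq T' hT' (h1' ⟨_, rfl⟩)
  intro T' hT' h1'
  have hP' : P T' := hT'.1
  refine ⟨?_, fun x y hx hy => ?_⟩
  · obtain ⟨_, ⟨n, rfl⟩, hn⟩ := Groth.Agent.S16917.subset_some k A.left A.hom T' hP'.1 (Set.range Z)
      (Set.countable_range Z) (fun p hp hpT => by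
        obtain ⟨x, rfl⟩ := exists_pt hp
        obtain ⟨_, ⟨n, rfl⟩, hn⟩ := (hK x).1 (hPK hP' x hpT) ⟨_, rfl⟩
        exact ⟨Z n, ⟨n, rfl⟩, hn⟩)
    exact ⟨n, hn⟩
  obtain ⟨U, hU, hmem, hex⟩ := exists_op (fst A A * (snd A A)⁻¹) T' T' hP'.1 hP'.1
  have hop : ∀ x y : 𝟙_ (Over (Spec (CommRingCat.of k))) ⟶ A,
      lift x y ≫ (fst A A * (snd A A)⁻¹) = x * y⁻¹ := fun x y => by
    rw [MonObj.comp_mul, GrpObj.comp_inv, lift_fst, lift_snd]
  have hPU : P U := hmk U hU fun z hz => by
    obtain ⟨a, b, ha, hb, rfl⟩ := hex z hz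
    rw [hop]; exact K.mul_mem (hPK hP' a ha) (K.inv_mem (hPK hP' b hb))
  have hT'U : T' ≤ U := subset_of_pt _ T'.isClosed _ U.isClosed fun a ha => by
    have := hmem a 1 ha (h1' ⟨_, rfl⟩)
    rwa [hop, _root_.inv_one, _root_.mul_one] at this
  rw [range_eq, Set.singleton_subset_iff, ← hop]
  exact hT'.2 hPU hT'U (hmem x y (hx ⟨_, rfl⟩) (hy ⟨_, rfl⟩))

end Groth.Agent.S16918
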