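import Groth.Statements.S16919
import Groth.Agent.GenPointLib.Basic

set_option autoImplicit false
universe u
open TensorProduct
open CAlg

namespace Groth.Agent.S16919

/-- Let k₀ → k be an extension of fields with k algebraically closed and of infinite transcendence
degree over k₀, R₀ a finitely generated k₀-algebra whose base change R = k ⊗ R₀ is an integral
domain (so Spec R is an integral affine k-scheme of finite type with the model Spec R₀ over k₀), and
P a k-point of Spec R, i.e. a k-algebra homomorphism ev : R → k, lying over the generic point of
Spec R₀, i.e. with ev injective on R₀. Then there is a field isomorphism e from an algebraic closure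
of the fraction field of R (the function field of Spec R) onto k such that e(1 ⊗ r) = ev(1 ⊗ r) for
every r in R₀: e extends evaluation at P on R₀. (The published setting has k algebraically closed of
characteristic zero and of infinite transcendence degree over its prime field, and k₀ the subfield
generated by the coefficients of equations of Spec R, which is finitely generated over the prime
field, so that k has infinite transcendence degree over k₀; only this last property and no
characteristic assumption enter here. The isomorphism is not canonical.) -/
theorem result (k₀ k : Type u)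
    [Field k₀] [Field k] [Algebra k₀ k] [IsAlgClosed k] (hinf : ∃ x : ℕ → k, AlgebraicIndependent k₀ x)
    (R₀ : Type u) [CommRing R₀] [Algebra k₀ R₀] [Algebra.FiniteType k₀ R₀] [IsDomain (k ⊗[k₀] R₀)]
    (ev : k ⊗[k₀] R₀ →ₐ[k] k) (hP : Function.Injective fun r : R₀ => ev (1 ⊗ₜ[k₀] r)) :
    ∃ e : AlgebraicClosure (FractionRing (k ⊗[k₀] R₀)) ≃+* k,
      ∀ r : R₀, e (algebraMap (k ⊗[k₀] R₀) (AlgebraicClosure (FractionRing (k ⊗[k₀] R₀)))
        (1 ⊗ₜ[k₀] r)) = ev (1 ⊗ₜ[k₀] r) := by
  set R := k ⊗[k₀] R₀
  let j : R₀ →ₐ[k₀] R := Algebra.TensorProduct.includeRight
  have hj : Function.Injective j := fun a b h => hP (congrArg ev h)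
  obtain ⟨x, hx⟩ := hinf
  have hκ : Cardinal.aleph0 ≤ Algebra.trdeg k₀ k := by
    simpa using hx.lift_cardinalMk_le_trdeg
  obtain ⟨e, he⟩ := GenPointLib.exists_ringEquiv_of_algHom
    ((IsScalarTower.toAlgHom k₀ R (AlgebraicClosure (FractionRing R))).comp j)
    ((ev.restrictScalars k₀).comp j) (by
      suffices h : Function.Injective (algebraMap R (AlgebraicClosure (FractionRing R))) from
        fun a b hab => hj (h hab)
      rw [IsScalarTower.algebraMap_eq R (FractionRing R) (AlgebraicClosure (FractionRing R))]
      exact (algebraMap (FractionRing R) _).injective.comp (IsFractionRing.injective R (FractionRing R)))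
    hP hκ (GenPointLib.trdeg_algClosure (k := k) hκ)
  exact ⟨e, he⟩

end Groth.Agent.S16919
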