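import Groth.Statements.S1693
import Mathlib.Topology.Sober
import Mathlib.Topology.LocallyFinite
-- import your own Groth.Agent.* helpers here

set_option autoImplicit false
universe u
open CategoryTheory CategoryTheory.Limits AlgebraicGeometry TopologicalSpace
open SDiv

namespace Groth.Agent.S1693

/-- Let X be a locally Noetherian scheme and Z a closed subset. Then the irreducible components of Z
form a locally finite family of subsets of X. -/
theorem result (X : Scheme.{u}) [IsLocallyNoetherian X] (Z : Set ↥X) (hZ : IsClosed Z) :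
    LocallyFinite (fun T : ↥(irreducibleComponents ↥Z) => ((↑) '' (T.1 : Set ↥Z) : Set ↥X)) := by
  intro x
  obtain ⟨_, ⟨V, hV, rfl⟩, hxV, -⟩ := X.isBasis_affineOpens.exists_subset_of_mem_open
    (Set.mem_univ x) isOpen_univ
  refine ⟨V, V.isOpen.mem_nhds hxV, ?_⟩
  haveI : IsNoetherianRing Γ(X, V) := IsLocallyNoetherian.component_noetherian ⟨V, hV⟩
  haveI : TopologicalSpace.NoetherianSpace (V : Set X) := AlgebraicGeometry.noetherianSpace_of_isAffineOpen V hV
  classical
  let Tv : Set X := Z ∩ (V : Set X)
  haveI : TopologicalSpace.NoetherianSpace Tv :=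
    (Topology.IsEmbedding.inclusion (Set.inter_subset_right : Tv ⊆ (V : Set X))).isInducing.noetherianSpace
  let g : irreducibleComponents Z → X := fun C =>
    (IsIrreducible.image C.2.1 Subtype.val continuous_subtype_val.continuousOn).genericPoint
  have hg : ∀ C, IsGenericPoint (g C) (closure (Subtype.val '' C.1)) := fun C =>
    (IsIrreducible.image C.2.1 Subtype.val continuous_subtype_val.continuousOn).isGenericPoint_genericPoint_closure
  have hclT : ∀ C : irreducibleComponents Z, closure (Subtype.val '' C.1) ⊆ Z := fun C =>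
    closure_minimal (by rintro _ ⟨y, -, rfl⟩; exact y.2) hZ
  have hcl : ∀ C : irreducibleComponents Z, closure (Subtype.val '' C.1) = Subtype.val '' C.1 := fun C =>
    (hZ.isClosedEmbedding_subtypeVal.isClosedMap _ (isClosed_of_mem_irreducibleComponents C.1 C.2)).closure_eq
  have hinj : Function.Injective g := fun C D h => by
    refine Subtype.ext (Set.image_injective.mpr Subtype.val_injective ?_)
    rw [← hcl C, ← hcl D, ← (hg C).def, ← (hg D).def, h]
  have hmaxg : ∀ (C : irreducibleComponents Z) (z : X), z ∈ Z → z ⤳ g C → z = g C := by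
    intro C z hzT hz
    have hsub : closure (Subtype.val '' C.1) ⊆ closure {z} := by
      rw [← (hg C).def]
      exact closure_minimal (Set.singleton_subset_iff.mpr (specializes_iff_mem_closure.mp hz)) isClosed_closure
    let D : Set Z := closure {(⟨z, hzT⟩ : Z)}
    have hCD : C.1 ⊆ D := fun c hc => by
      show c ∈ closure {(⟨z, hzT⟩ : Z)}
      rw [closure_subtype, Set.image_singleton]
      exact hsub (subset_closure ⟨c, hc, rfl⟩)
    have hDC : D ⊆ C.1 := C.2.2 (isIrreducible_singleton.closure) hCD
    have : z ∈ closure (Subtype.val '' C.1) :=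
      subset_closure ⟨_, hDC (subset_closure rfl), rfl⟩
    exact (((hg C).specializes this).antisymm hz).eq.symm
  let f : irreducibleComponents Tv → X := fun C =>
    (IsIrreducible.image C.2.1 Subtype.val continuous_subtype_val.continuousOn).genericPoint
  haveI : Finite (irreducibleComponents Tv) := TopologicalSpace.NoetherianSpace.finite_irreducibleComponents
  refine Set.Finite.of_finite_image (f := g) ((Set.finite_range f).subset ?_) hinj.injOn
  rintro _ ⟨C, ⟨y, ⟨c, hc, rfl⟩, hcV⟩, rfl⟩
  have hgT : g C ∈ Tv := ⟨hclT C (hg C).mem,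
    ((hg C).specializes (subset_closure ⟨c, hc, rfl⟩)).mem_open V.isOpen hcV⟩
  let D : irreducibleComponents Tv := ⟨irreducibleComponent (⟨g C, hgT⟩ : Tv), irreducibleComponent_mem_irreducibleComponents _⟩
  have hD : IsGenericPoint (f D) (closure (Subtype.val '' D.1)) :=
    (IsIrreducible.image D.2.1 Subtype.val continuous_subtype_val.continuousOn).isGenericPoint_genericPoint_closure
  have hfT : f D ∈ Z := closure_minimal (by rintro _ ⟨z, -, rfl⟩; exact z.2.1) hZ hD.mem
  exact ⟨D, hmaxg C (f D) hfT (hD.specializes (subset_closure ⟨_, mem_irreducibleComponent, rfl⟩))⟩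

end Groth.Agent.S1693
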