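import Groth.Statements.S16951
import Groth.Agent.CohCmpLib.FamilyPic

set_option autoImplicit false
universe u
open PicF

namespace Groth.Agent.S16951

open AlgebraicGeometry CategoryTheory Scheme.Modules in
/-- Let f : X → S be a proper flat morphism of locally Noetherian schemes whose fibres are geometrically
integral, and let L be an invertible O_X-module with an inverse M (an isomorphism L ⊗ M ≅ O_X). Then
the following are equivalent: (a) L ≅ f^* L₀ for some invertible O_S-module L₀; (b) for N = L and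
for N = M, at every point s of S the space H^0(X_s, N|_{X_s}) of sections over the scheme-theoretic
fibre is nonzero and the degree-0 base change map of the fibre square, κ(s)^* f_* N → (X_s → Spec
κ(s))_* (N|_{X_s}), is an epimorphism. When this holds, dim_{κ(s)} H^0(X_s, N|_{X_s}) = 1 for every
s and both N, the counit f^* f_* L → L is an isomorphism, and any invertible L₀ with L ≅ f^* L₀ is
isomorphic to f_* L. -/
theorem result
    {X S : Scheme.{u}} (f : X ⟶ S) [IsProper f] [Flat f] [IsLocallyNoetherian X] [IsLocallyNoetherian S]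
    [GeometricallyIntegral f] (L M : X.Modules) (hL : PicF.IsInvertible L)
    (hM : Nonempty (CohB1.tensorMod L M ≅ Coh.structureModule X)) :
    ((∃ L₀ : S.Modules, PicF.IsInvertible L₀ ∧ Nonempty (L ≅ (pullback f).obj L₀)) ↔
      ((∀ s : S, Nontrivial (CohIII.fiberH f L s 0)) ∧ (∀ s : S, Nontrivial (CohIII.fiberH f M s 0)) ∧
        (∀ s : S, Epi (CohBC.bc0 f (S.fromSpecResidueField s) (f.fiberToSpecResidueField s) (f.fiberι s) (f.fiber_fac s) L)) ∧ (∀ s : S, Epi (CohBC.bc0 f (S.fromSpecResidueField s) (f.fiberToSpecResidueField s) (f.fiberι s) (f.fiber_fac s) M)))) ∧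
    (((∀ s : S, Nontrivial (CohIII.fiberH f L s 0)) ∧ (∀ s : S, Nontrivial (CohIII.fiberH f M s 0)) ∧
        (∀ s : S, Epi (CohBC.bc0 f (S.fromSpecResidueField s) (f.fiberToSpecResidueField s) (f.fiberι s) (f.fiber_fac s) L)) ∧ (∀ s : S, Epi (CohBC.bc0 f (S.fromSpecResidueField s) (f.fiberToSpecResidueField s) (f.fiberι s) (f.fiber_fac s) M))) →
      (∀ s : S, CohIII.fiberRank f L 0 s = 1 ∧ CohIII.fiberRank f M 0 s = 1) ∧
      IsIso ((pullbackPushforwardAdjunction f).counit.app L) ∧
      ∀ L₀ : S.Modules, PicF.IsInvertible L₀ → Nonempty (L ≅ (pullback f).obj L₀) →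
        Nonempty (L₀ ≅ (pushforward f).obj L)) := by
  have : LocallyOfFinitePresentation f := LocallyOfFinitePresentation.iff_locallyOfFiniteType.2 inferInstance
  have h0 := fun y => CohCmpLib.finrank_global_of_geometricallyIntegral f y
  have hi : ∀ s : S, IsIntegral (f.fiber s) := fun s =>
    GeometricallyIntegral.geometrically_isIntegral (f := f) (S.fromSpecResidueField s) _ _
      (IsPullback.of_hasPullback f (S.fromSpecResidueField s))
  obtain ⟨e⟩ := hM
  have hMinv : PicF.IsInvertible M := CohCmpLib.isInvertible_of_inverse' hL e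
  have main := fun (hN : (∀ s : S, Nontrivial (CohIII.fiberH f L s 0)) ∧ (∀ s : S, Nontrivial (CohIII.fiberH f M s 0))) (s : S) =>
    have := hi s
    And.intro (CohCmpLib.trivial_of_sections f hL e s (hN.1 s) (hN.2 s))
      (CohCmpLib.trivial_of_sections f hMinv (HilbPolyLib.swapIso M L ≪≫ e) s (hN.2 s) (hN.1 s))
  have key : ((∀ s : S, Nontrivial (CohIII.fiberH f L s 0)) ∧ (∀ s : S, Nontrivial (CohIII.fiberH f M s 0)) ∧
        (∀ s : S, Epi (CohBC.bc0 f (S.fromSpecResidueField s) (f.fiberToSpecResidueField s) (f.fiberι s) (f.fiber_fac s) L)) ∧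
        (∀ s : S, Epi (CohBC.bc0 f (S.fromSpecResidueField s) (f.fiberToSpecResidueField s) (f.fiberι s) (f.fiber_fac s) M))) →
      PicF.IsInvertible ((pushforward f).obj L) ∧ IsIso ((pullbackPushforwardAdjunction f).counit.app L) := fun h => by
    obtain ⟨hP, hiso⟩ := CohCmpLib.counit_of_trivial f h0 ((CohCmpLib.invertible_iff_rank_one L).1 hL)
      (fun s => (main ⟨h.1, h.2.1⟩ s).1) h.2.2.1
    exact ⟨(CohCmpLib.invertible_iff_rank_one _).2 hP, hiso⟩
  refine ⟨⟨?_, fun h => ?_⟩, fun h => ⟨fun s => ?_, (key h).2, fun L₀ h₀ ⟨a⟩ => ?_⟩⟩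
  · rintro ⟨L₀, h₀, ⟨a⟩⟩
    obtain ⟨d⟩ := MiscFlat6.nonempty_dualIso (L := L₀) h₀
    let L₁ := MiscFlat6.dual L₀
    have h₁ : PicF.IsInvertible L₁ := MiscFlat6.dual_isInvertible (L := L₀) h₀
    obtain ⟨d'⟩ := CohCmpLib.nonempty_pullback_inverse f d
    obtain ⟨b⟩ := CohCmpLib.nonempty_iso_of_inverse_unique e (HilbPolyLib.congrLeft a _ ≪≫ d')
    have r0 := (CohCmpLib.invertible_iff_rank_one L₀).1 h₀
    have r1 := (CohCmpLib.invertible_iff_rank_one L₁).1 h₁
    have hne : ∀ s, Nonempty (f.fiber s) := fun s => (hi s).nonempty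
    exact ⟨fun s => have := hne s; CohCmpLib.nontrivial_of_trivial f (CohCmpLib.trivial_of_iso_pullback f r0 a s),
      fun s => have := hne s; CohCmpLib.nontrivial_of_trivial f (CohCmpLib.trivial_of_iso_pullback f r1 b s),
      fun s => CohCmpLib.epi_bc0_of_iso f _ a.symm ((CohCmpLib.unit_of_rank_one f h0 r0).1 s),
      fun s => CohCmpLib.epi_bc0_of_iso f _ b.symm ((CohCmpLib.unit_of_rank_one f h0 r1).1 s)⟩
  · obtain ⟨hP, hiso⟩ := key h
    exact ⟨_, hP, ⟨(asIso ((pullbackPushforwardAdjunction f).counit.app L)).symm⟩⟩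
  · exact ⟨CohCmpLib.fiberRank_eq_one f h0 s (main ⟨h.1, h.2.1⟩ s).1,
      CohCmpLib.fiberRank_eq_one f h0 s (main ⟨h.1, h.2.1⟩ s).2⟩
  · have := (CohCmpLib.unit_of_rank_one f h0 ((CohCmpLib.invertible_iff_rank_one L₀).1 h₀)).2
    exact ⟨asIso ((pullbackPushforwardAdjunction f).unit.app L₀) ≪≫ (pushforward f).mapIso a.symm⟩

end Groth.Agent.S16951
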