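import Groth.Statements.S1696
import Groth.Agent.StrictModLib.Basic

set_option autoImplicit false
universe u
open CategoryTheory CategoryTheory.Limits AlgebraicGeometry TopologicalSpace
open SDiv

namespace Groth.Agent.S1696

/-- Let b : S' → S be the blowing-up of a scheme S in a quasi-coherent sheaf of ideals 𝓘 and F a
quasi-coherent O_S-module which is flat at every point of V(𝓘), the support of O_S/𝓘. Then the
pullback b^*F is its own strict transform (via the identity map): no nonzero local section of b^*F
is annihilated by a power of the exceptional ideal. -/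
theorem result {S S' : Scheme.{u}} (𝓘 : S.IdealSheafData) (b : S' ⟶ S) (hb : BlowUp.IsBlowUp b 𝓘)
    (F : S.Modules) (hF : Coh.IsQCoh F) (hflat : ∀ s : ↥S, s ∈ 𝓘.support → FlatMod.IsFlatAt F s) :
    BlowUp.IsStrictTransform b 𝓘 F ((Scheme.Modules.pullback b).obj F) (𝟙 _) := by
  refine ⟨inferInstance, fun V m => ?_⟩
  constructor
  · intro h
    have h0 : m = 0 := h
    exact ⟨0, fun a _ => by rw [h0, smul_zero]⟩
  · intro h
    refine StrictModLib.eq_zero_of_killed hb.1 _ (fun x hx => StrictModLib.isFlatAt_pullback b F x (hflat _ ?_)) V m h
    rw [Scheme.IdealSheafData.support_comap] at hx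
    exact hx

end Groth.Agent.S1696
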