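import Groth.Statements.S16961
import Groth.Agent.ConstQuotLib.Affine
import Groth.Agent.ConstQuotLib.CatQuot
import Groth.Agent.ConstQuotLib.UnitIso
import Groth.Agent.QuotLib.BaseChange

set_option autoImplicit false
set_option linter.all false
set_option backward.isDefEq.respectTransparency false
set_option backward.isDefEq.respectTransparency.types false
universe u
open ConstAct

namespace Groth.Agent.S16961

open CategoryTheory AlgebraicGeometry in
/-- Let R be a Noetherian commutative ring, A a commutative R-algebra of finite type, and G a finite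
group acting on A by R-algebra automorphisms, with ring of invariants A^G. Let [Spec A/G] be the
quotient stack of Spec A by the constant group scheme of G over Spec R, the category over (Sch/Spec
R) whose objects are torsors under the constant group scheme, locally trivial for the fppf topology,
with an equivariant morphism to Spec A; and let π : [Spec A/G] → Spec A^G be a functor over
(Sch/Spec R) whose composite with the canonical functor Spec A → [Spec A/G] is the functor of the
morphism Spec A → Spec A^G induced by the inclusion A^G ⊆ A. Then the structure sheaf of Spec A^G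
maps isomorphically onto the pushforward of the structure sheaf of [Spec A/G]: for every scheme E
etale over Spec A^G, the canonical map from the ring of functions on E to the sections over E of the
pushforward (the compatible families of functions on the base schemes of the objects of [Spec A/G]
equipped with a morphism to E over Spec A^G) is bijective. (The published statement puts no
finiteness condition on A; the published proof uses that A is finite over A^G, which holds when A is
of finite type over a Noetherian ring, the case stated here.) -/
theorem result (R : Type u) [CommRing R] [IsNoetherianRing R]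
    (A : Type u) [CommRing A] [Algebra R A] [Algebra.FiniteType R A]
    (G : Type u) [Group G] [Fintype G] [DecidableEq G] [MulSemiringAction G A] [SMulCommClass G R A]
    (π : ConstAct.quotSt R A G Scheme.fppfPrecoverage ⥤ᵇ AlgSt.ofSch (ConstAct.specInv R A G))
    (hπ : BasedFunctor.comp
        (AlgSt.quotMap Scheme.fppfPrecoverage (ConstAct.GR R G) (ConstAct.gaction R A G)) π =
      AlgSt.ofSpMap ((AlgSp.yon (Spec (CommRingCat.of R))).map (ConstAct.quot R A G))) :
    StMod.UnitIsIso π := by
  haveI := ConstQuotLib.flat_GR R G
  haveI := ConstQuotLib.lfp_GR R G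
  have hρ := ConstQuotLib.isQuot_quot R A G
  have hsec : ∀ ⦃T : Over (Spec (CommRingCat.of R))⦄ (x : T ⟶ ConstAct.X R A),
      AlgStLib.secOf π (QuotStLib.triv Scheme.fppfPrecoverage (ConstAct.gaction R A G) x) =
        (⟨x ≫ ConstAct.quot R A G⟩ :
          ((AlgSp.yon _).obj (ConstAct.specInv R A G)).obj.obj (Opposite.op T)) := fun T x => by
    let o : (AlgSt.ofSch (ConstAct.X R A)).obj := ⟨T, ⟨x⟩⟩
    show AlgStLib.secOf (BasedFunctor.comp
      (AlgSt.quotMap Scheme.fppfPrecoverage (ConstAct.GR R G) (ConstAct.gaction R A G)) π) o = _
    rw [hπ]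
    exact AlgStLib.secOf_ofPshMap ((AlgSp.yon _).map (ConstAct.quot R A G)).hom o
  intro E
  let o : (AlgSt.ofSch (ConstAct.specInv R A G)).obj := StMod.etaOf E
  obtain ⟨e, he⟩ := (AlgSp.yon (Spec (CommRingCat.of R))).map_surjective
    (X := E.obj.left) (Y := ConstAct.specInv R A G) E.obj.hom
  have heo : o.sec.down = e := by
    show ((AlgSp.J _).uliftYonedaEquiv E.obj.hom).down = e
    rw [← he]
    exact Category.id_comp e
  haveI : Etale e.left := AlgSpLib.etale_left (φ := e) (he ▸ E.property)
  let X' : Over (Spec (CommRingCat.of R)) :=
    Over.mk (Limits.pullback.fst (ConstAct.quot R A G).left e.left ≫ (ConstAct.specA R A).hom)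
  let pX : X' ⟶ ConstAct.specA R A := Over.homMk (Limits.pullback.fst _ _) rfl
  let p' : X' ⟶ E.obj.left := Over.homMk (Limits.pullback.snd _ _) (by
    show Limits.pullback.snd _ _ ≫ E.obj.left.hom = Limits.pullback.fst _ _ ≫ (ConstAct.specA R A).hom
    rw [← Over.w e, ← Over.w (ConstAct.quot R A G), ← Category.assoc, ← Limits.pullback.condition, Category.assoc])
  have sqL : IsPullback pX.left p'.left (ConstAct.quot R A G).left e.left := IsPullback.of_hasPullback _ _
  have sq : IsPullback pX p' (ConstAct.quot R A G) o.sec.down := by
    rw [heo]
    exact IsPullback.of_map (F := Over.forget _) (Over.OverMorphism.ext sqL.w) sqL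
  have hρS : ∀ a : G, (ConstQuotLib.pullAct sqL hρ.inv a).hom ≫ X'.hom = X'.hom := fun a => by
    show _ ≫ pX.left ≫ (ConstAct.specA R A).hom = pX.left ≫ (ConstAct.specA R A).hom
    rw [← Category.assoc, ConstQuotLib.pullAct_fst, Category.assoc, ConstQuotLib.actAut_over]
  refine ConstQuotLib.bijective_unitSect π o (ConstQuotLib.pullAct sqL hρ.inv) hsec sq
    (QuotLib.isQuot_baseChange hρ sqL (ConstQuotLib.pullAct_fst sqL hρ.inv)
      (ConstQuotLib.pullAct_snd sqL hρ.inv)) fun a => ?_
  refine ⟨ConstQuotLib.σg hρS a, pX ≫ CoactBr.pt (ConstAct.constPt R G (K := A) a), rfl,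
    Over.OverMorphism.ext (ConstQuotLib.pullAct_snd sqL hρ.inv a), ?_⟩
  have h1 : CartesianMonoidalCategory.lift (CoactBr.pt (ConstAct.constPt R G (K := A) a)) (CoactBr.pt (AlgHom.id R A)) ≫
      (ConstAct.gaction R A G).act = ConstAct.act R A G a⁻¹ := by
    rw [ConstAct.gaction_constPt, CoactBr.pt_id]; exact Category.id_comp _
  have h2 : CartesianMonoidalCategory.lift (pX ≫ CoactBr.pt (ConstAct.constPt R G (K := A) a)) pX ≫
      (ConstAct.gaction R A G).act = pX ≫ ConstAct.act R A G a⁻¹ := by
    rw [← h1, ← Category.assoc pX, CartesianMonoidalCategory.comp_lift, CoactBr.pt_id]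
    erw [Category.comp_id]
  exact h2.trans (Over.OverMorphism.ext (ConstQuotLib.pullAct_fst sqL hρ.inv a).symm)

end Groth.Agent.S16961
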