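import Groth.Statements.S16962
import Mathlib


-- import your own Groth.Agent.* helpers here

set_option autoImplicit false
universe u
open ConstAct

namespace Groth.Agent.S16962

open TensorProduct in
/-- Let R be a commutative ring, Γ a finite group and B a commutative R-algebra equipped with a comodule
structure over the Hopf algebra of R-valued functions on Γ (the coordinate ring of the constant
group scheme of Γ over Spec R, with basis the indicator functions e_γ) whose coaction B → B ⊗ Fun(Γ,
R) is a homomorphism of algebras, i.e. an action of the constant group scheme on Spec B. Then there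
is exactly one action of Γ on B by R-algebra automorphisms whose associated coaction b ↦ Σ_γ (γ · b)
⊗ e_γ is the given coaction; and for that action the ring of invariants of the comodule algebra (the
b whose coaction is b ⊗ 1) equals the ring of elements fixed by Γ. (That the coaction associated
with an action is a comodule algebra structure is the other direction of the published equivalence
and is a construction here.) -/
theorem result (R : Type u) [CommRing R]
    (B : Type u) [CommRing B] [Algebra R B] (Γ : Type u) [Group Γ] [Fintype Γ] [DecidableEq Γ]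
    [HopfRep.Comod R (ConstGrp.F R Γ) B] [GLin.IsCoactAlg R (ConstGrp.F R Γ) B] :
    ∃! a : MulSemiringAction Γ B, ∃ _ : SMulCommClass Γ R B,
      ConstAct.coactLin R B Γ = HopfRep.Comod.coact (k := R) (A := ConstGrp.F R Γ) (V := B) ∧
        GLin.invariants R (ConstGrp.F R Γ) B = ConstAct.inv R B Γ := by
  open scoped TensorProduct in
  classical
  have hev : ∀ (g : Γ) (f : ConstGrp.F R Γ), ConstGrp.ev R g f = f g := fun _ _ => rfl
  let co := GLin.coactAlgHom R (ConstGrp.F R Γ) B
  have hexp : ∀ x : B ⊗[R] ConstGrp.F R Γ,
      x = ∑ g, TensorProduct.rid R B ((ConstGrp.ev R g).toLinearMap.lTensor B x) ⊗ₜ[R] ConstGrp.e R g := by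
    intro x
    induction x using TensorProduct.induction_on with
    | zero => simp
    | tmul b f =>
      simp only [LinearMap.lTensor_tmul, TensorProduct.rid_tmul, TensorProduct.smul_tmul, AlgHom.toLinearMap_apply]
      rw [← TensorProduct.tmul_sum]
      congr 1
      funext h
      rw [← hev h (∑ _g : Γ, _), map_sum]
      rw [Finset.sum_eq_single h]
      · show f h = ConstGrp.ev R h f • ConstGrp.e R h h
        simp [hev]
      · intro g _ hg
        show ConstGrp.ev R g f • ConstGrp.e R g h = 0
        rw [ConstGrp.e_apply, if_neg (Ne.symm hg), smul_zero]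
      · simp
    | add x y hx hy =>
      simp only [map_add, TensorProduct.add_tmul, Finset.sum_add_distrib]
      rw [← hx, ← hy]
  let act : Γ → (B →ₐ[R] B) := fun g => ((Algebra.TensorProduct.rid R R B).toAlgHom).comp
    ((Algebra.TensorProduct.map (AlgHom.id R B) (ConstGrp.ev R g)).comp co)
  have hact : ∀ g b, act g b = TensorProduct.rid R B ((ConstGrp.ev R g).toLinearMap.lTensor B
      (HopfRep.Comod.coact (k := R) (A := ConstGrp.F R Γ) b)) := fun g b => by
    show (Algebra.TensorProduct.rid R R B) (Algebra.TensorProduct.map (AlgHom.id R B) (ConstGrp.ev R g) (co b)) = _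
    simp only [co, GLin.coactAlgHom_apply]
    generalize HopfRep.Comod.coact (k := R) (A := ConstGrp.F R Γ) b = x
    induction x using TensorProduct.induction_on with
    | zero => simp
    | tmul b f => simp
    | add x y hx hy => simp only [map_add, hx, hy]
  have hco : ∀ b, HopfRep.Comod.coact (k := R) (A := ConstGrp.F R Γ) b = ∑ g, act g b ⊗ₜ[R] ConstGrp.e R g := fun b => by
    simp only [hact]; exact hexp _
  have hone : ∀ b, act 1 b = b := fun b => by
    have h := LinearMap.congr_fun (HopfRep.Comod.counit_comp (k := R) (A := ConstGrp.F R Γ) (V := B)) b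
    rw [LinearMap.comp_apply, hco, map_sum] at h
    have h2 := congrArg (TensorProduct.rid R B) h
    simpa [ConstGrp.counit_e, ConstGrp.e_apply, ite_smul] using h2
  have hmul : ∀ h g b, act (h * g) b = act h (act g b) := fun h g b => by
    have h1 := LinearMap.congr_fun (HopfRep.Comod.coassoc (k := R) (A := ConstGrp.F R Γ) (V := B)) b
    rw [LinearMap.comp_apply, LinearMap.comp_apply, LinearMap.comp_apply, hco b] at h1
    simp only [map_sum, LinearMap.rTensor_tmul, LinearMap.lTensor_tmul, LinearEquiv.coe_coe, hco (act _ b),
      TensorProduct.sum_tmul, TensorProduct.assoc_tmul, ConstGrp.comul_e, TensorProduct.tmul_sum] at h1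
    have h2 := congrArg (fun z => TensorProduct.rid R B ((((TensorProduct.lid R R).toLinearMap).comp
      (TensorProduct.map (ConstGrp.ev R h).toLinearMap (ConstGrp.ev R g).toLinearMap)).lTensor B z)) h1
    simp [map_sum, hev, ConstGrp.e_apply, eq_inv_mul_iff_mul_eq, ite_smul] at h2
    rw [Finset.sum_eq_single (h * g) (fun x _ hx => Finset.sum_eq_zero fun y _ => by
      split_ifs with e1 e2 <;> first | rfl | exact absurd (by rw [← e1, e2]) hx) (by simp)] at h2
    simp at h2
    exact h2.symm
  let a : MulSemiringAction Γ B :=
    { smul := fun g b => act g b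
      one_smul := hone
      mul_smul := hmul
      smul_zero := fun g => map_zero (act g)
      smul_add := fun g x y => map_add (act g) x y
      smul_one := fun g => map_one (act g)
      smul_mul := fun g x y => map_mul (act g) x y }
  have hcomm : letI := a; SMulCommClass Γ R B := by
    letI := a
    exact ⟨fun g r b => map_smul (act g) r b⟩
  refine ⟨a, ?_, ?_⟩
  · letI := a
    refine ⟨hcomm, LinearMap.ext fun b => ?_, ?_⟩
    · rw [ConstAct.coactLin_apply]; exact (hco b).symm
    · ext b
      rw [GLin.mem_invariants_iff, ConstAct.mem_inv]
      constructor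
      · intro hb g
        show act g b = b
        rw [hact, hb]
        simp [hev]
      · intro hb
        rw [hco, show (∑ g, act g b ⊗ₜ[R] ConstGrp.e R g) = ∑ g, b ⊗ₜ[R] ConstGrp.e R g from
          Finset.sum_congr rfl fun g _ => congrArg (· ⊗ₜ[R] ConstGrp.e R g) (hb g), ← TensorProduct.tmul_sum, ConstGrp.sum_e]
  · rintro a' ⟨hc', h1, -⟩
    suffices key : ∀ g b, a'.smul g b = act g b by
      obtain @⟨@⟨@⟨@⟨⟨s⟩, _⟩, _⟩, _, _⟩, _, _⟩ := a'
      congr
      exact funext fun g => funext fun b => key g b
    intro g b
    show a'.smul g b = act g b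
    letI := a'
    rw [hact, ← h1, ConstAct.coactLin_apply]
    simp [hev, ConstGrp.e_apply]
    rfl

end Groth.Agent.S16962
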