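import Groth.Statements.S16963
import Mathlib


-- import your own Groth.Agent.* helpers here

set_option autoImplicit false
universe u
open scoped BigOperators
open ConstAct

namespace Groth.Agent.S16963

open TensorProduct in
/-- Let R be a commutative ring and Γ a finite group acting on a commutative R-algebra B by R-algebra
automorphisms; regard B as a comodule algebra over the Hopf algebra of R-valued functions on Γ (the
constant group scheme of Γ acting on Spec B) through the coaction b ↦ Σ_γ (γ · b) ⊗ e_γ. Then the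
action is tame — there is a comodule map α from the Hopf algebra, with its regular coaction, to B
with α(1) = 1 (a total integral) — if and only if the trace b ↦ Σ_γ γ · b, which takes values in the
ring of invariants B^Γ, maps B onto B^Γ. -/
theorem result (R : Type u) [CommRing R]
    (B : Type u) [CommRing B] [Algebra R B] (Γ : Type u) [Group Γ] [Fintype Γ] [DecidableEq Γ]
    [MulSemiringAction Γ B] [SMulCommClass Γ R B] :
    letI := ConstAct.comod R B Γ
    (∃ α : ConstGrp.F R Γ →ₗ[R] B, Hoch.IsComodHom (ConstGrp.F R Γ) α ∧ α 1 = 1) ↔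
      ∀ c : B, c ∈ ConstAct.inv R B Γ → ∃ b : B, ∑ γ : Γ, γ • b = c := by
  letI := ConstAct.comod R B Γ
  have hev : ∀ (g : Γ) (f : ConstGrp.F R Γ), ConstGrp.ev R g f = f g := fun _ _ => rfl
  have hco : ∀ b : B, HopfRep.Comod.coact (k := R) (A := ConstGrp.F R Γ) b = ∑ g, (g • b) ⊗ₜ[R] ConstGrp.e R g :=
    fun b => ConstAct.coactLin_apply R B Γ b
  show (∃ α : ConstGrp.F R Γ →ₗ[R] B, Hoch.IsComodHom (ConstGrp.F R Γ) α ∧ α 1 = 1) ↔ _
  constructor
  · rintro ⟨α, hα, h1⟩ c hc
    have key : ∀ h g, h • α (ConstGrp.e R g) = α (ConstGrp.e R (g * h⁻¹)) := by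
      intro h g
      have h2 := congrArg (fun z => TensorProduct.rid R B ((ConstGrp.ev R h).toLinearMap.lTensor B z))
        (LinearMap.congr_fun hα (ConstGrp.e R g))
      rw [LinearMap.comp_apply, LinearMap.comp_apply, hco] at h2
      simp only [show HopfRep.Comod.coact (k := R) (A := ConstGrp.F R Γ) (ConstGrp.e R g) =
        CoalgebraStruct.comul (R := R) (ConstGrp.e R g) from rfl, ConstGrp.comul_e] at h2
      simp [map_sum, hev, ConstGrp.e_apply, ite_smul, eq_inv_mul_iff_mul_eq] at h2
      rw [Finset.sum_eq_single (g * h⁻¹) (fun a _ ha => if_neg fun e => ha (by rw [← e, mul_inv_cancel_right])) (by simp),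
        if_pos (by simp)] at h2
      exact h2
    refine ⟨c * α (ConstGrp.e R 1), ?_⟩
    calc ∑ γ : Γ, γ • (c * α (ConstGrp.e R 1)) = ∑ γ : Γ, c * α (ConstGrp.e R γ⁻¹) :=
          Finset.sum_congr rfl fun γ _ => by rw [smul_mul', key, one_mul, (ConstAct.mem_inv R B Γ c).1 hc γ]
      _ = c * α (∑ γ : Γ, ConstGrp.e R γ) := by
          rw [map_sum, Finset.mul_sum]
          exact Fintype.sum_equiv (Equiv.inv Γ) _ _ fun γ => rfl
      _ = c := by rw [ConstGrp.sum_e, h1, mul_one]
  · intro h
    obtain ⟨b, hb⟩ := h 1 ((ConstAct.mem_inv R B Γ 1).2 fun g => smul_one g)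
    let α : ConstGrp.F R Γ →ₗ[R] B := ∑ g : Γ, (ConstGrp.ev R g).toLinearMap.smulRight (g⁻¹ • b)
    have hα : ∀ f, α f = ∑ g : Γ, f g • (g⁻¹ • b) := fun f => by simp [α, LinearMap.sum_apply, hev]
    refine ⟨α, LinearMap.ext fun f => ?_, ?_⟩
    · have he : ∀ g : Γ, α (ConstGrp.e R g) = g⁻¹ • b := fun g => by simp [hα, ConstGrp.e_apply]
      have hf : f = ∑ g, f g • ConstGrp.e R g := by
        funext x
        rw [← hev x (∑ _g : Γ, _), map_sum]
        simp [hev, ConstGrp.e_apply]
      rw [hf, map_sum, map_sum]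
      refine Finset.sum_congr rfl fun g _ => ?_
      rw [map_smul, map_smul]
      congr 1
      rw [LinearMap.comp_apply, LinearMap.comp_apply, he, hco]
      simp only [show HopfRep.Comod.coact (k := R) (A := ConstGrp.F R Γ) (ConstGrp.e R g) =
        CoalgebraStruct.comul (R := R) (ConstGrp.e R g) from rfl, ConstGrp.comul_e, map_sum, LinearMap.rTensor_tmul, he]
      refine Fintype.sum_equiv ((Equiv.inv Γ).trans (Equiv.mulLeft g)) _ _ fun x => ?_
      simp [smul_smul]
    · rw [hα]
      simp only [show ∀ g : Γ, (1 : ConstGrp.F R Γ) g = 1 from fun _ => rfl, one_smul]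
      rw [← hb]
      exact Fintype.sum_equiv (Equiv.inv Γ) _ _ fun γ => rfl

end Groth.Agent.S16963
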