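import Groth.Statements.S16965
import Groth.Agent.ConstQuotLib.Affine
import Groth.Agent.ConstQuotLib.UnivHomeo
import Groth.Agent.QuotStLib.MapRep
import Groth.Agent.QuotStLib.Coarse
import Groth.Agent.QuotTransLib.Etale
import Groth.Agent.AlgStSetoidLib.Etale
import Groth.Agent.AlgStBig.Classes

set_option autoImplicit false
set_option linter.all false
set_option backward.isDefEq.respectTransparency false
set_option backward.isDefEq.respectTransparency.types false
universe u
open ConstAct

namespace Groth.Agent.S16965

open CategoryTheory AlgebraicGeometry in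
/-- Let R be a Noetherian commutative ring, A a commutative R-algebra of finite type, and G a finite
group acting on A by R-algebra automorphisms, with ring of invariants A^G. Let [Spec A/G] be the
quotient stack of Spec A by the constant group scheme of G over Spec R, the category over (Sch/Spec
R) whose objects are torsors under the constant group scheme, locally trivial for the fppf topology,
with an equivariant morphism to Spec A; and let π : [Spec A/G] → Spec A^G be a functor over
(Sch/Spec R) whose composite with the canonical functor Spec A → [Spec A/G] is the functor of the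
morphism Spec A → Spec A^G induced by the inclusion A^G ⊆ A. Then π is a universal homeomorphism:
for every algebraic stack 𝒵 over (Sch/Spec R) (fppf topology) and every functor 𝒵 → Spec A^G over
(Sch/Spec R), the first projection of the 2-fibre product 𝒵 ×_{Spec A^G} [Spec A/G] → 𝒵 induces a
homeomorphism on the spaces of points. (The published clause also asserts that π is proper and that
A^G is finitely generated over R; only the universal homeomorphism is stated here.) -/
theorem result (R : Type u) [CommRing R] [IsNoetherianRing R]
    (A : Type u) [CommRing A] [Algebra R A] [Algebra.FiniteType R A]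
    (G : Type u) [Group G] [Fintype G] [DecidableEq G] [MulSemiringAction G A] [SMulCommClass G R A]
    (π : ConstAct.quotSt R A G Scheme.fppfPrecoverage ⥤ᵇ AlgSt.ofSch (ConstAct.specInv R A G))
    (hπ : BasedFunctor.comp
        (AlgSt.quotMap Scheme.fppfPrecoverage (ConstAct.GR R G) (ConstAct.gaction R A G)) π =
      AlgSt.ofSpMap ((AlgSp.yon (Spec (CommRingCat.of R))).map (ConstAct.quot R A G))) :
    AlgSt.IsUnivHomeo Scheme.fppfPrecoverage π := by
  haveI := ConstQuotLib.isAffineHom_GR R G
  haveI := ConstQuotLib.flat_GR R G
  haveI := ConstQuotLib.lfp_GR R G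
  haveI hs : Smooth (ConstAct.GR R G).hom := by
    haveI : Algebra.FormallyEtale R (ConstGrp.F R G) :=
      (Algebra.FormallyEtale.pi_iff (R := R) fun _ : G => R).mpr fun _ => inferInstance
    haveI : Module.Free R (ConstGrp.F R G) := Module.Free.of_basis (ConstGrp.basis R G)
    haveI : Module.Finite R (ConstGrp.F R G) := Module.Finite.of_basis (ConstGrp.basis R G)
    haveI : Module.FinitePresentation R (ConstGrp.F R G) := Module.finitePresentation_of_projective R _
    haveI : Algebra.FinitePresentation R (ConstGrp.F R G) := Algebra.FinitePresentation.of_finitePresentation R _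
    haveI : Algebra.Etale R (ConstGrp.F R G) := ⟨inferInstance, inferInstance⟩
    show Smooth (Spec.map (CommRingCat.ofHom (algebraMap R (ConstGrp.F R G))))
    rw [HasRingHomProperty.Spec_iff (P := @Smooth), CommRingCat.hom_ofHom, RingHom.smooth_algebraMap]
    infer_instance
  have hQ := QuotTransLib.isStack_quotSt (aX := ConstAct.gaction R A G)
  have hsm : AlgSt.RepByAlgSpWith (AlgSp.LocP @Smooth)
      (QuotStLib.qm Scheme.fppfPrecoverage (ConstAct.gaction R A G)) := by
    refine (AlgStLib.repByAlgSpWith_iff _ _).mpr fun T u =>
      ⟨_, _, AlgSp.IsAlgSpace.yon_obj _, QuotStLib.along_qm u, ?_⟩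
    refine (AlgSpLib.locP_yon_map_iff _).2 ?_
    haveI := QuotTransLib.smooth_torsor (ConstAct.gaction R A G) hs (u.obj (QuotStLib.one (T := T)))
    haveI : IsIso ((eqToHom (QuotStLib.one_base u)).left) :=
      inferInstanceAs (IsIso ((Over.forget _).map (eqToHom (QuotStLib.one_base u))))
    rw [Over.comp_left, MorphismProperty.cancel_right_of_respectsIso (@Smooth)]
    assumption
  have hAS : AlgSt.IsAlgStack Scheme.fppfPrecoverage (ConstAct.quotSt R A G Scheme.fppfPrecoverage) :=
    have h := AlgStSetoidLib.isAlgStack_et_of_cover (AlgStSetoidLib.isStack_et hQ) (AlgStBig.repByAlgSp_overCat _)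
      _ hsm (QuotStLib.repByAlgSpWith_qm_surjective _)
    ⟨hQ, h.diag, h.atlas⟩
  haveI := ConstQuotLib.isFinite_quot R A G
  haveI : IsAffine (ConstAct.specA R A).left := inferInstanceAs (IsAffine (Spec _))
  haveI : IsAffine (ConstAct.specInv R A G).left := inferInstanceAs (IsAffine (Spec _))
  haveI : Surjective (ConstAct.quot R A G).left := ⟨QuotLib.surjective (ConstQuotLib.isQuot_quot R A G)⟩
  exact ConstQuotLib.isUnivHomeo (ConstAct.quot R A G) hAS π _ ⟨eqToIso hπ⟩
    (QuotStLib.geomPtBij (ConstAct.quot R A G) π hπ fun Ω _ _ t => ConstQuotLib.orbits R A G Ω t)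

end Groth.Agent.S16965
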