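import Groth.Statements.S16966
import Groth.Agent.CurveH0Lib.LinStable
import Groth.Agent.CurveH0Lib.Smooth
-- import your own Groth.Agent.* helpers here

set_option autoImplicit false
universe u
open CategoryTheory CategoryTheory.Limits AlgebraicGeometry Opposite
open Curves

namespace Groth.Agent.S16966

attribute [local instance] CurveDualLib.algFF

/-- Let X be a smooth projective curve over an algebraically closed field k of characteristic 0 (an
integral scheme, proper over k, of dimension one, with all local rings regular), of genus g ≥ 1, and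
L an invertible O_X-module with deg L > 2g. Then the morphism to projective space given by the
complete linear system of L is linearly stable, stated through the criterion by invertible
subsheaves: for every invertible module M and every monomorphism ι : M ⟶ L that is not an
isomorphism, with dim_k H^0(X, M) ≥ 2, one has deg L · (h^0(M) - 1) < deg M · (h^0(L) - 1), i.e. the
reduced degree deg M / (h^0(M) - 1) of the projection exceeds the reduced degree deg L / (h^0(L) -
1). Degrees are χ(·) - χ(O_X). -/
theorem result (k : Type u) [Field k] [IsAlgClosed k] [CharZero k] (X : Scheme.{u}) [X.Over (Spec (CommRingCat.of k))]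
    [IsIntegral X] [IsProper (X ↘ (Spec (CommRingCat.of k)))] (hdim : topologicalKrullDim X = 1)
    (hreg : ∀ x : X, IsRegularLocalRing (X.presheaf.stalk x))
    (hg : 1 ≤ Curv2.genus k X) (L : X.Modules) (hL : PicF.IsInvertible L)
    (hdeg : 2 * (Curv2.genus k X : ℤ) < Curv2.deg k X L 1)
    (M : X.Modules) (hM : PicF.IsInvertible M) (ι : M ⟶ L) [Mono ι] (hι : ¬ IsIso ι)
    (h2 : 2 ≤ Module.finrank k (Coh.HH X M 0)) :
    Curv2.deg k X L 1 * ((Module.finrank k (Coh.HH X M 0) : ℤ) - 1) <
      Curv2.deg k X M 1 * ((Module.finrank k (Coh.HH X L 0) : ℤ) - 1) := by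
  haveI := CurveH0Lib.smooth_of_regular k (X ↘ Spec (CommRingCat.of k)) hreg
  have h0 := RRVanLib.finrank_h0_structure (k := k) (X := X)
  have hlt := CurveH0Lib.LinStable.deg_lt_of_mono (k := k) hdim hL hM ι hι
  obtain ⟨D, hD⟩ := ZetaCurveLib.exists_hasDiv (k := k) hdim hL
  obtain ⟨E, hE⟩ := ZetaCurveLib.exists_hasDiv (k := k) hdim hM
  obtain ⟨C, -, hC⟩ := CurveH0Lib.LinStable.exists_canonical_hasDiv (k := k) hdim
  have hK := CurveDualLib.isFunctionField (k := k) (X := X) hdim
  rw [hD.deg hdim h0] at hdeg hlt ⊢
  rw [hE.deg hdim h0] at hlt ⊢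
  rw [CurveH0Lib.LinStable.h0_eq_ell hdim hE] at h2 ⊢
  rw [CurveH0Lib.LinStable.h0_eq_ell hdim hD]
  have hl := Groth.Agent.FFLib.ell_eq_of_deg_ge hK (D := D) (by rw [CurveDualLib.genus_eq (k := k) hdim]; omega)
  rw [CurveDualLib.genus_eq (k := k) hdim] at hl
  rw [hl]
  obtain ⟨hrr, hcl⟩ := CurveH0Lib.LinStable.estimate hdim hC E (by omega)
  have hg' : (1 : ℤ) ≤ Curv2.genus k X := by exact_mod_cast hg
  rcases Nat.eq_zero_or_pos (FunFld.ell (C - E)) with hz | hp
  · rw [hz] at hrr
    rw [hrr]
    push_cast
    nlinarith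
  · have := hcl hp
    have hm : 2 * (FunFld.ell E : ℤ) ≤ FunFld.Divisor.deg E + 2 := by omega
    have hd : 0 < FunFld.Divisor.deg E := by omega
    nlinarith

end Groth.Agent.S16966
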