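import Groth.Statements.S16967
import Groth.Agent.CurveH0Lib.LinStable
import Groth.Agent.CurveH0Lib.Smooth
-- import your own Groth.Agent.* helpers here

set_option autoImplicit false
universe u
open CategoryTheory CategoryTheory.Limits AlgebraicGeometry Opposite
open Curves

namespace Groth.Agent.S16967

attribute [local instance] CurveDualLib.algFF

/-- Let X be a smooth projective curve over an algebraically closed field k of characteristic 0
(integral, proper over k, of dimension one, all local rings regular) of genus g ≥ 3 that is not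
hyperelliptic: there is no invertible module of degree 2 with two k-linearly independent global
sections. Then the canonical morphism of X is linearly stable, stated through the criterion by
invertible subsheaves: for every invertible module M and every monomorphism ι : M ⟶ Ω_{X/k} which is
not an isomorphism, with dim_k H^0(X, M) ≥ 2, one has deg Ω_{X/k} · (h^0(M) - 1) < deg M ·
(h^0(Ω_{X/k}) - 1). Degrees are χ(·) - χ(O_X). -/
theorem result (k : Type u) [Field k] [IsAlgClosed k] [CharZero k] (X : Scheme.{u}) [X.Over (Spec (CommRingCat.of k))]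
    [IsIntegral X] [IsProper (X ↘ (Spec (CommRingCat.of k)))] (hdim : topologicalKrullDim X = 1)
    (hreg : ∀ x : X, IsRegularLocalRing (X.presheaf.stalk x))
    (hg : 3 ≤ Curv2.genus k X)
    (hnh : ¬ ∃ (N : X.Modules) (t : Fin 2 → LinSer.Sect X N), LinSer.IsLinSer k X N 2 1 t)
    (M : X.Modules) (hM : PicF.IsInvertible M) (ι : M ⟶ Omega.sheaf (X ↘ (Spec (CommRingCat.of k)))) [Mono ι] (hι : ¬ IsIso ι)
    (h2 : 2 ≤ Module.finrank k (Coh.HH X M 0)) :
    Curv2.deg k X (Omega.sheaf (X ↘ (Spec (CommRingCat.of k)))) 1 * ((Module.finrank k (Coh.HH X M 0) : ℤ) - 1) <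
      Curv2.deg k X M 1 * ((Module.finrank k (Coh.HH X (Omega.sheaf (X ↘ (Spec (CommRingCat.of k)))) 0) : ℤ) - 1) := by
  haveI := CurveH0Lib.smooth_of_regular k (X ↘ Spec (CommRingCat.of k)) hreg
  have h0 := RRVanLib.finrank_h0_structure (k := k) (X := X)
  have hΩ := CurveDualLib.omega_invertible (k := k) (X := X) hdim
  have hlt := CurveH0Lib.LinStable.deg_lt_of_mono (k := k) hdim hΩ hM ι hι
  obtain ⟨E, hE⟩ := ZetaCurveLib.exists_hasDiv (k := k) hdim hM
  obtain ⟨C, hCd, hC⟩ := CurveH0Lib.LinStable.exists_canonical_hasDiv (k := k) hdim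
  have hK := CurveDualLib.isFunctionField (k := k) (X := X) hdim
  obtain ⟨hlC, hdC⟩ := Groth.Agent.FFLib.canonical_ell_deg hK hC
  rw [CurveDualLib.genus_eq (k := k) hdim] at hlC hdC
  rw [hE.deg hdim h0, hCd.deg hdim h0] at hlt ⊢
  rw [CurveH0Lib.LinStable.h0_eq_ell hdim hE] at h2 ⊢
  rw [CurveH0Lib.LinStable.h0_eq_ell hdim hCd, hlC, hdC]
  obtain ⟨hrr, hcl⟩ := CurveH0Lib.LinStable.estimate hdim hC E (by omega)
  have key : 2 * (FunFld.ell E : ℤ) < FunFld.Divisor.deg E + 2 := by
    rcases Nat.eq_zero_or_pos (FunFld.ell (C - E)) with hz | hp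
    · omega
    · have := hcl hp
      rcases lt_or_eq_of_le (show 2 * (FunFld.ell E : ℤ) ≤ FunFld.Divisor.deg E + 2 by omega) with h | h
      · exact h
      exfalso
      obtain ⟨N, -, hN, hN2, -⟩ := CurveH0Lib.exists_pencil_of_clifford_eq hK hC (D := E) (by omega) hp h (by omega)
        (by rw [CurveDualLib.genus_eq (k := k) hdim]; omega)
      obtain ⟨L, hL⟩ := ZetaCurveLib.exists_module (k := k) hdim h0 N
      rw [← CurveH0Lib.LinStable.h0_eq_ell hdim hL] at hN2
      letI := GenusZeroLib.kmod k L
      haveI := CurvLib.isNoetherian k (X := X)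
      haveI := CurvLib.finite_HH (k := k) (CurvLib.isCoh_of_isInvertible hL.1) 0
      haveI : Module.Finite k Γ(L, ⊤) := Module.Finite.equiv (GenusZeroLib.e0k k L)
      rw [(GenusZeroLib.e0k k L).finrank_eq] at hN2
      let b := Module.finBasis k Γ(L, ⊤)
      have hli : LinearIndependent k (fun j : Fin 2 => b (Fin.castLE hN2 j)) :=
        b.linearIndependent.comp _ (Fin.castLE_injective hN2)
      refine hnh ⟨L, fun j => b (Fin.castLE hN2 j), hL.1, ?_,
        fun c hc => funext (Fintype.linearIndependent_iff.1 hli c hc)⟩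
      rw [hL.deg hdim h0, hN]
      norm_num
  nlinarith

end Groth.Agent.S16967
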