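import Groth.Statements.S16968
import Groth.Agent.CurveH0Lib.LinStable
import Groth.Agent.CurveH0Lib.Smooth
-- import your own Groth.Agent.* helpers here

set_option autoImplicit false
universe u
open CategoryTheory CategoryTheory.Limits AlgebraicGeometry Opposite
open Curves

namespace Groth.Agent.S16968

attribute [local instance] CurveDualLib.algFF

theorem two_le_h0 {k : Type u} [Field k] {X : Scheme.{u}} [X.Over (Spec (CommRingCat.of k))]
    [IsProper (X ↘ Spec (CommRingCat.of k))] {L : X.Modules} {d : ℕ} {t : Fin 2 → LinSer.Sect X L}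
    (ht : LinSer.IsLinSer k X L d 1 t) : 2 ≤ Module.finrank k (Coh.HH X L 0) := by
  obtain ⟨hL, _, hli⟩ := ht
  letI := GenusZeroLib.kmod k L
  haveI := CurvLib.isNoetherian k (X := X)
  haveI := CurvLib.finite_HH (k := k) (CurvLib.isCoh_of_isInvertible hL) 0
  haveI : Module.Finite k Γ(L, ⊤) := Module.Finite.equiv (GenusZeroLib.e0k k L)
  rw [(GenusZeroLib.e0k k L).finrank_eq]
  obtain ⟨v, hv⟩ : ∃ v : Fin 2 → Γ(L, ⊤), v = t := ⟨t, rfl⟩
  have h : LinearIndependent k v :=
    Fintype.linearIndependent_iff.2 fun c hc => congrFun (hli c (by subst hv; exact hc))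
  simpa using h.fintype_card_le_finrank

/-- Let X be a smooth projective curve over an algebraically closed field k of characteristic 0
(integral, proper over k, of dimension one, all local rings regular) of genus g ≥ 3 which is
hyperelliptic, with a g^1_2 given as an invertible module N of degree 2 and two k-linearly
independent global sections t_0, t_1. Then the canonical morphism of X is linearly semistable but
not linearly stable, stated through the criterion by invertible subsheaves: (i) for every invertible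
module M and every monomorphism ι : M ⟶ Ω_{X/k} which is not an isomorphism, with dim_k H^0(X, M) ≥
2, one has deg Ω_{X/k} · (h^0(M) - 1) ≤ deg M · (h^0(Ω_{X/k}) - 1); (ii) N admits a monomorphism
into Ω_{X/k} which is not an isomorphism and for which equality holds. Degrees are χ(·) - χ(O_X).
(The published statement gives no genus bound for the hyperelliptic case; here g ≥ 3 is assumed,
since for g = 2 the module N is the canonical module itself and clause (ii) fails.) -/
theorem result (k : Type u) [Field k] [IsAlgClosed k] [CharZero k] (X : Scheme.{u}) [X.Over (Spec (CommRingCat.of k))]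
    [IsIntegral X] [IsProper (X ↘ (Spec (CommRingCat.of k)))] (hdim : topologicalKrullDim X = 1)
    (hreg : ∀ x : X, IsRegularLocalRing (X.presheaf.stalk x))
    (hg : 3 ≤ Curv2.genus k X)
    (N : X.Modules) (t : Fin 2 → LinSer.Sect X N) (hN : LinSer.IsLinSer k X N 2 1 t) :
    (∀ (M : X.Modules) (ι : M ⟶ Omega.sheaf (X ↘ (Spec (CommRingCat.of k)))), PicF.IsInvertible M → Mono ι → ¬ IsIso ι →
        2 ≤ Module.finrank k (Coh.HH X M 0) →
        Curv2.deg k X (Omega.sheaf (X ↘ (Spec (CommRingCat.of k)))) 1 * ((Module.finrank k (Coh.HH X M 0) : ℤ) - 1) ≤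
          Curv2.deg k X M 1 * ((Module.finrank k (Coh.HH X (Omega.sheaf (X ↘ (Spec (CommRingCat.of k)))) 0) : ℤ) - 1)) ∧
      ∃ ι : N ⟶ Omega.sheaf (X ↘ (Spec (CommRingCat.of k))), Mono ι ∧ ¬ IsIso ι ∧
        Curv2.deg k X (Omega.sheaf (X ↘ (Spec (CommRingCat.of k)))) 1 * ((Module.finrank k (Coh.HH X N 0) : ℤ) - 1) =
          Curv2.deg k X N 1 * ((Module.finrank k (Coh.HH X (Omega.sheaf (X ↘ (Spec (CommRingCat.of k)))) 0) : ℤ) - 1) := by
  haveI := CurveH0Lib.smooth_of_regular k (X ↘ Spec (CommRingCat.of k)) hreg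
  have h0 := RRVanLib.finrank_h0_structure (k := k) (X := X)
  have hΩ := CurveDualLib.omega_invertible (k := k) (X := X) hdim
  obtain ⟨C, hCd, hC⟩ := CurveH0Lib.LinStable.exists_canonical_hasDiv (k := k) hdim
  have hK := CurveDualLib.isFunctionField (k := k) (X := X) hdim
  obtain ⟨hlC, hdC⟩ := Groth.Agent.FFLib.canonical_ell_deg hK hC
  rw [CurveDualLib.genus_eq (k := k) hdim] at hlC hdC
  have hdΩ := hCd.deg hdim h0
  rw [hdC] at hdΩ
  rw [CurveH0Lib.LinStable.h0_eq_ell hdim hCd, hlC, hdΩ]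
  refine ⟨fun M ι hM _ hι h2 => ?_, ?_⟩
  · have hlt := CurveH0Lib.LinStable.deg_lt_of_mono (k := k) hdim hΩ hM ι hι
    obtain ⟨E, hE⟩ := ZetaCurveLib.exists_hasDiv (k := k) hdim hM
    rw [hE.deg hdim h0, hdΩ] at hlt
    rw [hE.deg hdim h0]
    rw [CurveH0Lib.LinStable.h0_eq_ell hdim hE] at h2 ⊢
    obtain ⟨hrr, hcl⟩ := CurveH0Lib.LinStable.estimate hdim hC E (by omega)
    have key : 2 * (FunFld.ell E : ℤ) ≤ FunFld.Divisor.deg E + 2 := by
      rcases Nat.eq_zero_or_pos (FunFld.ell (C - E)) with hz | hp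
      · omega
      · have := hcl hp
        omega
    nlinarith
  have hN2 := two_le_h0 hN
  obtain ⟨hNi, hNd, -⟩ := hN
  obtain ⟨eN⟩ := MiscFlat6.nonempty_dualIso hNi
  let N' := CohB1.tensorMod (MiscFlat6.dual N) (Omega.sheaf (X ↘ Spec (CommRingCat.of k)))
  have hN' : PicF.IsInvertible N' := HilbPolyLib.isInvertible_tensor (MiscFlat6.dual_isInvertible hNi) hΩ
  let e : CohB1.tensorMod N N' ≅ Omega.sheaf (X ↘ Spec (CommRingCat.of k)) :=
    (HilbPolyLib.assocIso N (MiscFlat6.dual N) _).symm ≪≫ HilbPolyLib.congrLeft eN _ ≪≫ HilbPolyLib.unitLeft _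
  obtain ⟨D, hD⟩ := ZetaCurveLib.exists_hasDiv (k := k) hdim hNi
  obtain ⟨F, hF⟩ := ZetaCurveLib.exists_hasDiv (k := k) hdim hN'
  obtain ⟨f, hf, hfe⟩ := ((hD.tensor hdim hF).of_iso hdim e hΩ).unique hdim h0 hCd
  have hFC : FunFld.ell F = FunFld.ell (C - D) := by
    rw [hfe, show D + F + FunFld.div k f - D = F + FunFld.div k f by abel,
      Groth.Agent.FFLib.ell_add_div hK.1 F hf]
  rw [hD.deg hdim h0] at hNd
  rw [CurveH0Lib.LinStable.h0_eq_ell hdim hD] at hN2 ⊢
  obtain ⟨hrr, hcl⟩ := CurveH0Lib.LinStable.estimate hdim hC D (by omega)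
  have hcl' := hcl (by omega)
  have hell : FunFld.ell D = 2 := by omega
  haveI : Nontrivial (Coh.HH X N' 0) := Module.nontrivial_of_finrank_pos (R := k) (by
    rw [CurveH0Lib.LinStable.h0_eq_ell hdim hF]
    omega)
  haveI := CurvLib.isNoetherian k (X := X)
  obtain ⟨φ, hφ⟩ := CurveH0Lib.LinStable.exists_mono hNi hN' e inferInstance
  refine ⟨φ, hφ, fun h => ?_, ?_⟩
  · have h1 := CurvLib.deg_congr (k := k) (@asIso _ _ _ _ φ h) 1
    rw [hD.deg hdim h0, hdΩ, hNd] at h1
    omega
  · rw [hD.deg hdim h0, hNd, hell]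
    push_cast
    ring

end Groth.Agent.S16968
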