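import Groth.Statements.S16972
import Groth.Agent.CurveH0Lib.ProjStable
import Groth.Agent.CurveH0Lib.Smooth

set_option autoImplicit false
universe u
open CategoryTheory CategoryTheory.Limits AlgebraicGeometry Opposite
open Curves

namespace Groth.Agent.S16972
attribute [local instance] CurveDualLib.algFF

/-- Let X be a smooth projective curve over an algebraically closed field k of characteristic 0
(integral, proper over k, of dimension one, all local rings regular) of genus g ≥ 5 which is
trigonal (carries an invertible module of degree 3 with two k-linearly independent global sections)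
and not hyperelliptic (no such module of degree 2). Let V ⊂ H^0(X, Ω_{X/k}) be a hyperplane without
base points, given by g - 1 global sections σ_i : O_X ⟶ Ω_{X/k}, k-linearly independent and
generating Ω_{X/k} at every point, i.e. the projection of the canonical image from a point p not on
it; assume p lies on no trisecant line of the canonical curve: for every invertible module N with a
monomorphism ι : N ⟶ Ω_{X/k}, deg N = 2g - 5 and dim_k H^0(X, N) = g - 2 (so N = Ω_{X/k}(-D) for a
divisor D of degree 3 moving in a pencil), some global section of N has image outside the k-span of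
the σ_i. Then the projection is linearly stable: for every m with 2 ≤ m < g - 1, every k-linearly
independent family w_1, …, w_m of global sections of Ω_{X/k} in the span of the σ_i, and every
invertible module M with a monomorphism M ⟶ Ω_{X/k} through whose global sections all w_j factor,
deg Ω_{X/k} · (m - 1) < deg M · (g - 2). -/
theorem result (k : Type u) [Field k] [IsAlgClosed k] [CharZero k] (X : Scheme.{u}) [X.Over (Spec (CommRingCat.of k))]
    [IsIntegral X] [IsProper (X ↘ (Spec (CommRingCat.of k)))] (hdim : topologicalKrullDim X = 1)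
    (hreg : ∀ x : X, IsRegularLocalRing (X.presheaf.stalk x))
    (hg : 5 ≤ Curv2.genus k X)
    (hnh : ¬ ∃ (N : X.Modules) (t : Fin 2 → LinSer.Sect X N), LinSer.IsLinSer k X N 2 1 t)
    (htr : ∃ (N : X.Modules) (t : Fin 2 → LinSer.Sect X N), LinSer.IsLinSer k X N 3 1 t)
    (σ : Fin (Curv2.genus k X - 1) → (Coh.structureModule X ⟶ Omega.sheaf (X ↘ (Spec (CommRingCat.of k)))))
    (hσ : LinSer.LinIndep k X (Omega.sheaf (X ↘ (Spec (CommRingCat.of k)))) (fun i => PicF2.secVal (Omega.sheaf (X ↘ (Spec (CommRingCat.of k)))) (σ i) ⊤))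
    (hbpf : ⨆ i, CohB1.genLocus (Omega.sheaf (X ↘ (Spec (CommRingCat.of k)))) (σ i) = ⊤)
    (hsec : ∀ (N : X.Modules) (ι : N ⟶ Omega.sheaf (X ↘ (Spec (CommRingCat.of k)))), PicF.IsInvertible N → Mono ι →
      Curv2.deg k X N 1 + 5 = 2 * (Curv2.genus k X : ℤ) → Module.finrank k (Coh.HH X N 0) + 2 = Curv2.genus k X →
      ∃ v : LinSer.Sect X N, ∀ c : Fin (Curv2.genus k X - 1) → k,
        (ι.val.app (op ⊤)).hom v ≠ ∑ i, (Coh.toGlobal (X ↘ Spec (CommRingCat.of k)) (c i)) • PicF2.secVal (Omega.sheaf (X ↘ (Spec (CommRingCat.of k)))) (σ i) ⊤) :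
    ∀ (m : ℕ) (w : Fin m → LinSer.Sect X (Omega.sheaf (X ↘ (Spec (CommRingCat.of k))))), 2 ≤ m → m + 1 < Curv2.genus k X →
      LinSer.LinIndep k X (Omega.sheaf (X ↘ (Spec (CommRingCat.of k)))) w →
      (∀ j, ∃ c : Fin (Curv2.genus k X - 1) → k,
        w j = ∑ i, (Coh.toGlobal (X ↘ Spec (CommRingCat.of k)) (c i)) • PicF2.secVal (Omega.sheaf (X ↘ (Spec (CommRingCat.of k)))) (σ i) ⊤) →
      ∀ (M : X.Modules) (ι : M ⟶ Omega.sheaf (X ↘ (Spec (CommRingCat.of k)))), PicF.IsInvertible M → Mono ι →
        (∀ j, ∃ v : LinSer.Sect X M, (ι.val.app (op ⊤)).hom v = w j) →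
        Curv2.deg k X (Omega.sheaf (X ↘ (Spec (CommRingCat.of k)))) 1 * ((m : ℤ) - 1) < Curv2.deg k X M 1 * ((Curv2.genus k X : ℤ) - 2) := by
  intro m w hm2 hmg hw hspan M ι hM hι hfac
  haveI := hι
  haveI := CurveH0Lib.smooth_of_regular k (X ↘ Spec (CommRingCat.of k)) hreg
  have h0 := RRVanLib.finrank_h0_structure (k := k) (X := X)
  obtain ⟨C, hCd, hC⟩ := CurveH0Lib.LinStable.exists_canonical_hasDiv (k := k) hdim
  have hK := CurveDualLib.isFunctionField (k := k) (X := X) hdim
  obtain ⟨E, hE, hEC⟩ := CurveH0Lib.ProjStable.exists_div_sub (k := k) hdim hCd hM ι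
  have hle0 := CurveH0Lib.ProjStable.le_h0 (k := k) hM ι w hw hfac
  have hml := hle0.1
  rw [CurveH0Lib.LinStable.h0_eq_ell hdim hE] at hml
  have hstrict : FunFld.ell E + 2 = Curv2.genus k X → FunFld.Divisor.deg E + 5 = 2 * (Curv2.genus k X : ℤ) →
      m + 1 ≤ FunFld.ell E := fun hl hd => by
    rw [← CurveH0Lib.LinStable.h0_eq_ell hdim hE] at hl ⊢
    exact hle0.2 _ _ hspan (hsec M ι hM hι (by rw [hE.deg hdim h0]; exact hd) hl)
  rw [hCd.deg hdim h0, hE.deg hdim h0]
  rcases CurveH0Lib.ProjStable.stable_bound hdim hC E hEC hm2 (by omega) hml with h | ⟨h1, h2, hrr⟩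
  · exact h
  have hno2 := CurveH0Lib.ell_le_one_of_no_linSer hdim hnh
  have hmin := CurveH0Lib.CliffOne.cliff_ge_one hK hC hno2
  have h3 := hmin E (by omega) h1
  obtain ⟨hlC, hdC⟩ := Groth.Agent.FFLib.canonical_ell_deg hK hC
  have hgen := CurveDualLib.genus_eq (k := k) (X := X) hdim
  rw [hgen] at hdC
  obtain ⟨N, t, hN, hdN, ht⟩ := htr
  obtain ⟨T, hT⟩ := ZetaCurveLib.exists_hasDiv (k := k) hdim hN
  rw [hT.deg hdim h0] at hdN
  have hT2 : 2 ≤ FunFld.ell T := by
    have := (CurveH0Lib.ProjStable.le_h0 (k := k) hN (𝟙 N) t ht fun j => ⟨t j, rfl⟩).1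
    rwa [CurveH0Lib.LinStable.h0_eq_ell hdim hT] at this
  have hsmall : ∀ A : FunFld.Divisor k X.functionField, A.deg ≤ 2 → FunFld.ell A ≤ 1 := fun A hA => by
    by_contra hA2
    by_cases hA' : A.deg = 2
    · exact hA2 (hno2 A hA')
    · have hr := (CurveH0Lib.LinStable.estimate hdim hC A (by omega)).1
      have := hmin A (by omega) (by omega)
      omega
  have hno : ∀ D : FunFld.Divisor k X.functionField, D.deg = 2 * (FunFld.ell D : ℤ) - 1 → 3 ≤ FunFld.ell D →
      2 * FunFld.ell D ≤ Curv2.genus k X → False := fun D hd hl hgl =>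
    CurveH0Lib.CliffOne.not_cliff_one_of_g13 hK hC hmin hsmall hdN hT2 hd hl (by rw [hgen]; exact hgl)
  have hd : FunFld.Divisor.deg E = 2 * (FunFld.ell E : ℤ) - 1 := by omega
  have hcases : FunFld.ell E = 2 ∨ FunFld.ell E + 2 = Curv2.genus k X := by
    by_contra hne
    push Not at hne
    by_cases hgl : 2 * FunFld.ell E ≤ Curv2.genus k X
    · exact hno E hd (by omega) hgl
    · exact hno (C - E) (by rw [Groth.Agent.FFLib.deg_sub, hdC]; omega) (by omega) (by omega)
  rw [hdC, hd]
  rcases hcases with h | h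
  · have hm : m = 2 := by omega
    rw [h, hm]
    push_cast
    omega
  · have hm := hstrict h (by omega)
    have hgz : (Curv2.genus k X : ℤ) = (FunFld.ell E : ℤ) + 2 := by omega
    rw [hgz]
    nlinarith

end Groth.Agent.S16972
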