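import Groth.Statements.S16975
import Groth.Agent.FibSecLib.Main
import Groth.Agent.ZarFibLib.Main
-- import your own Groth.Agent.* helpers here

set_option autoImplicit false
set_option backward.isDefEq.respectTransparency false
set_option backward.isDefEq.respectTransparency.types false
set_option maxHeartbeats 800000
universe u
open CategoryTheory CategoryTheory.Limits AlgebraicGeometry TopologicalSpace
open Surf

open TopologicalSpace HilbPolyLib DevissLib IntMultLib IntFunLib HodgeIdxLib
open KFlatLib (pb)
open SurfAmpleLib (comb mat dot isEffCartier_comb mem_support_comb)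

namespace Groth.Agent.S16975

/-- Let f : S ⟶ B be a relatively minimal fibration of genus at least 2 over an algebraically closed
field k of characteristic 0 (S a smooth projective integral surface, B a smooth projective integral
curve, f a surjective k-morphism with O_B ⟶ f_*O_S an isomorphism, every closed fibre with χ(O_F) <
0, and no (-1)-curve in a fibre: every integral closed curve E ⊆ S with regular local rings, mapped
to a point and with χ(O_E) = 1, has E.E ≠ -1). Let p be a closed point of B, F = f⁻¹(p) its fibre, r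
≥ 1, and D = rF the closed subscheme of S whose ideal sheaf is the r-th power of the ideal sheaf
m_p·O_S of F. Let N be an invertible O_D-module with negative total degree, χ(N) - χ(O_D) < 0, and
with deg N|_C ≤ 0 for every integral closed curve C ⊆ D. Then H^0(D, N) = 0. -/
theorem result (k : Type u) [Field k] [IsAlgClosed k] [CharZero k]
    (S : Scheme.{u}) [S.Over (Spec (CommRingCat.of k))] [IsProper (S ↘ (Spec (CommRingCat.of k)))]
    [Smooth (S ↘ (Spec (CommRingCat.of k)))] [IsIntegral S] (hdimS : topologicalKrullDim S = 2)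
    (B : Scheme.{u}) [B.Over (Spec (CommRingCat.of k))] [IsProper (B ↘ (Spec (CommRingCat.of k)))]
    [Smooth (B ↘ (Spec (CommRingCat.of k)))] [IsIntegral B] (hdimB : topologicalKrullDim B = 1)
    (f : S ⟶ B) [f.IsOver (Spec (CommRingCat.of k))] [Surjective f] (hconn : IsIso (ClSub.unitToPush f))
    (hg : ∀ p : B, IsClosed ({p} : Set B) → Curv2.euler k S (ClSub.quotMod (f.fiberι p).ker) < 0)
    (hmin : ∀ (E : Scheme.{u}) (j : E ⟶ S), IsClosedImmersion j → IsIntegral E → topologicalKrullDim E = 1 →
      (∀ e : E, IsRegularLocalRing (E.presheaf.stalk e)) → (∃ p : B, Set.range (j ≫ f).base ⊆ {p}) →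
      Curv2.euler k S (ClSub.quotMod j.ker) = 1 →
      FGA.intNum k S 2 ![ClSub.idealMod j.ker, ClSub.idealMod j.ker] (Coh.structureModule S) ≠ -1)
    (p : B) (hp : IsClosed ({p} : Set B)) (r : ℕ) (hr : 1 ≤ r)
    (D : Scheme.{u}) [D.Over (Spec (CommRingCat.of k))] (ιD : D ⟶ S) [IsClosedImmersion ιD]
    (hιD : ιD ≫ (S ↘ Spec (CommRingCat.of k)) = D ↘ Spec (CommRingCat.of k))
    (hD : ιD.ker = ((Scheme.IdealSheafData.vanishingIdeal ⟨{p}, hp⟩).comap f) ^ r)
    (N : D.Modules) (hN : PicF.IsInvertible N) (hneg : Curv2.deg k D N 1 < 0)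
    (hcompD : ∀ (C : Scheme.{u}) [C.Over (Spec (CommRingCat.of k))] (i : C ⟶ D), IsClosedImmersion i →
      IsIntegral C → topologicalKrullDim C = 1 → i ≫ (D ↘ Spec (CommRingCat.of k)) = C ↘ Spec (CommRingCat.of k) →
      Curv2.deg k C ((Scheme.Modules.pullback i).obj N) 1 ≤ 0) :
    Subsingleton (Coh.HH D N 0) := by
  classical
  haveI := CurvLib.isNoetherian k (X := S)
  haveI : IsProper (D ↘ Spec (CommRingCat.of k)) := FibSecLib.isProper_sub ιD hιD
  haveI := CurvLib.isNoetherian k (X := D)
  have hX : topologicalKrullDim S = ((2 : ℕ) : WithBot ℕ∞) := hdimS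
  have hreg : ∀ z : S, IsRegularLocalRing (S.presheaf.stalk z) :=
    fun z => WeilExtLib.isRegular_stalk_smooth (S ↘ Spec (CommRingCat.of k)) z
  haveI : IsProper f := IntFunLib.isProper_of_over (comp_over f (Spec (CommRingCat.of k)))
  obtain ⟨ι, hι, pt, hpt, hinj, hvert, hcovT, v, hv, hJ, hdot, hcovS⟩ :=
    ZarFibLib.exists_components k hX hreg hdimB f hp
  set I : ι → S.IdealSheafData := fun i => ptIdeal (pt i) with hIdef
  have hc := ZarFibLib.hcart (k := k) hX hreg hpt
  let rv : ι → ℕ := fun i => r * v i
  have hker : ιD.ker = comb I rv := by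
    rw [hD, show (Scheme.IdealSheafData.vanishingIdeal ⟨{p}, hp⟩).comap f = (f.fiberι p).ker from
      (SurfAmpleLib.ker_fiberι_eq f hp).symm, hJ, comb, comb, ← Finset.prod_pow]
    exact Finset.prod_congr rfl fun i _ => by rw [← pow_mul, mul_comm]
  have hrange : Set.range ιD = ((comb I rv).support : Set S) := by
    rw [← hker, Scheme.Hom.support_ker, ιD.isClosedEmbedding.isClosed_range.closure_eq]
  have hptD : ∀ i, ∃ ξ : D, ιD ξ = pt i := fun i => by
    have h : pt i ∈ ((comb I rv).support : Set S) := by
      rw [SetLike.mem_coe, mem_support_comb]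
      refine ⟨i, Nat.mul_ne_zero (by omega) (hv i), ?_⟩
      rw [← SetLike.mem_coe, Scheme.IdealSheafData.coe_support_vanishingIdeal]
      exact subset_closure rfl
    rwa [← hrange] at h
  choose ξ hξ using hptD
  have hdimξ : ∀ x : D, topologicalKrullDim (closure ({ιD x} : Set S)) = topologicalKrullDim (closure ({x} : Set D)) :=
    fun x => by
      rw [← Set.image_singleton, ιD.isClosedEmbedding.closure_image_eq]
      exact ((ιD.isEmbedding.homeomorphImage _).isHomeomorph.topologicalKrullDim_eq).symm
  let dg : ι → ℤ := fun i => IntFunLib.N k [N] (pb ιD (Fpt (pt i)))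
  have hdg : ∀ i, dg i = IntFunLib.N k [N] (Fpt (ξ i)) := fun i => by
    obtain ⟨e⟩ := FibSecLib.nonempty_pb_Fpt ιD (ξ i)
    change IntFunLib.N k [N] (pb ιD (Fpt (pt i))) = _
    rw [← hξ i]
    exact N_congr _ e
  have hdgle : ∀ i, dg i ≤ 0 := fun i => by
    haveI := isIntegral_ptIdeal (ξ i)
    let C := (ptIdeal (ξ i)).subscheme
    let g : C ⟶ D := (ptIdeal (ξ i)).subschemeι
    letI : C.Over (Spec (CommRingCat.of k)) := ⟨g ≫ (D ↘ Spec (CommRingCat.of k))⟩
    haveI : IsProper (C ↘ Spec (CommRingCat.of k)) := inferInstanceAs (IsProper (g ≫ (D ↘ Spec (CommRingCat.of k))))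
    haveI := CurvLib.isNoetherian k (X := C)
    have hC : topologicalKrullDim C = 1 :=
      (g.isEmbedding.toHomeomorph.trans (Homeomorph.setCongr (range_ptIdeal (ξ i)))).isHomeomorph.topologicalKrullDim_eq.trans
        (by rw [← hdimξ, hξ, hpt i, Nat.cast_one])
    have h := hcompD C g inferInstance inferInstance hC rfl
    rw [Curv2.deg, Nat.cast_one, one_mul, euler_sub_eq_N] at h
    rw [hdg]
    refine le_trans (le_of_eq ?_) h
    exact (N_push (k := k) (g := g) rfl (l := [N]) (by simpa using hN) (DevissLib.isCoh_structureModule C)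
      ((topologicalKrullDim_subspace_le _ _).trans (by rw [hC]; simp))).symm
  have hdg0 : ∃ i, dg i ≠ 0 := by
    by_contra h
    push Not at h
    rw [Curv2.deg, Nat.cast_one, one_mul, euler_sub_eq_N] at hneg
    refine absurd (N_nonneg (k := k) (l := [N]) (by simpa using hN) (DevissLib.isCoh_structureModule D) ?_ fun x _ hx => ?_) hneg.not_ge
    · refine (topologicalKrullDim_subspace_le _ _).trans ?_
      rw [(ιD.isEmbedding.toHomeomorph).isHomeomorph.topologicalKrullDim_eq]
      refine SurfAmpleLib.dim_closed_le (X := S) hX ιD.isClosedEmbedding.isClosed_range fun hη => ?_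
      rw [hrange] at hη
      obtain ⟨t, ht, htR⟩ := DivDescLib.exists_gen (isEffCartier_comb hc rv) (genericPoint S)
      refine (SDivLib.mem_support_iff_stalk _ _).1 hη ?_
      rw [htR, Ideal.span_singleton_eq_top]
      exact IsUnit.mk0 (G₀ := S.functionField) t (nonZeroDivisors.ne_zero ht)
    · have hx' : topologicalKrullDim (closure ({ιD x} : Set S)) = ((1 : ℕ) : WithBot ℕ∞) := by
        rw [hdimξ]; exact hx
      have hxs : ιD x ∈ ((comb I rv).support : Set S) := hrange ▸ Set.mem_range_self x
      rw [SetLike.mem_coe, mem_support_comb] at hxs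
      obtain ⟨l, -, hl⟩ := hxs
      rw [← SetLike.mem_coe, Scheme.IdealSheafData.coe_support_vanishingIdeal] at hl
      obtain ⟨i, hi⟩ := hcovT (ιD x) hx' (hvert l _ hl)
      have hxi : x = ξ i := ιD.isClosedEmbedding.injective (hi.symm.trans (hξ i).symm)
      rw [hxi, ← hdg i, h i]
  have hN' : ∀ c : ι → ℕ, ∀ i, IntFunLib.N k [ClSub.idealMod (comb I c)] (Fpt (pt i)) = - dot k pt c i :=
    fun c i => SurfAmpleLib.N_comb_curve (k := k) hX hpt hc c i
  have core : ∀ c : ι → ℕ, (∀ i, c i ≤ rv i) → (∃ i, c i < rv i) → ∃ i, c i < rv i ∧ dg i - dot k pt c i < 0 := by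
    intro c hcle ⟨i₀, hi₀⟩
    by_contra hno
    push Not at hno
    obtain ⟨hcc, heq⟩ := ZarFibLib.proportional (k := k) hX hreg hpt hinj
      (ZarFibLib.isConnected_fibre f hconn p).isPreconnected (fun i z hz => hvert i z hz)
      (fun z hz => hcovS z hz) v hv hdot c
    let w : ι → ℤ := fun i => (rv i : ℤ) - c i
    have hw : ∀ i, 0 ≤ w i := fun i => by have := hcle i; simp only [w]; omega
    have hterm : ∀ i, w i * dot k pt c i ≤ w i * dg i := fun i => by
      rcases eq_or_lt_of_le (hcle i) with he | hlt
      · simp [w, he]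
      · exact mul_le_mul_of_nonneg_left (by have := hno i hlt; omega) (hw i)
    have hvc : ∑ j, (v j : ℤ) * dot k pt c j = 0 := by
      rw [← SurfAmpleLib.pr_comb_comb (k := k) hX hc c v, pr_comm, SurfAmpleLib.pr_comb_comb (k := k) hX hc v c]
      exact Finset.sum_eq_zero fun j _ => by rw [hdot j, mul_zero]
    have hsum : ∑ i, w i * dot k pt c i = -∑ j, (c j : ℤ) * dot k pt c j := by
      have h1 : ∑ i, w i * dot k pt c i = (r : ℤ) * (∑ j, (v j : ℤ) * dot k pt c j) - ∑ j, (c j : ℤ) * dot k pt c j := by
        rw [Finset.mul_sum, ← Finset.sum_sub_distrib]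
        exact Finset.sum_congr rfl fun j _ => by simp only [w, rv]; push_cast; ring
      rw [h1, hvc, mul_zero, zero_sub]
    have hle := Finset.sum_le_sum (s := Finset.univ) fun i _ => hterm i
    have hnp : ∀ i, w i * dg i ≤ 0 := fun i => mul_nonpos_of_nonneg_of_nonpos (hw i) (hdgle i)
    have hsnp := Finset.sum_nonpos (s := Finset.univ) fun i _ => hnp i
    have hprop := heq (by omega)
    have hzero : ∑ i, w i * dg i = 0 := by omega
    obtain ⟨i, hi⟩ := hdg0
    have hwi : w i ≠ 0 := by
      have h := hprop i i₀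
      intro h0
      have hci : (c i : ℤ) = (r : ℤ) * v i := by simp only [w, rv] at h0; push_cast at h0; omega
      have hlt : (c i₀ : ℤ) < (r : ℤ) * v i₀ := by exact_mod_cast hi₀
      have hvi : (0 : ℤ) < v i := by exact_mod_cast Nat.pos_of_ne_zero (hv i)
      rw [hci] at h
      nlinarith [h, mul_lt_mul_of_pos_right hlt hvi]
    exact (mul_ne_zero hwi hi) ((Finset.sum_eq_zero_iff_of_nonpos fun i _ => hnp i).1 hzero i (Finset.mem_univ i))
  have hcomb0 : comb I (fun _ => 0) = ⊤ := by
    rw [comb, Finset.prod_eq_one fun i _ => pow_zero _]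
    exact Scheme.IdealSheafData.one_eq_top
  have main : ∀ n : ℕ, ∀ c : ι → ℕ, ∑ i, (rv i - c i) = n → (∀ i, c i ≤ rv i) →
      hh k (CohB1.tensorMod N (pb ιD (ClSub.quotMod (comb I c)))) 0 = 0 →
      hh k (CohB1.tensorMod N (pb ιD (ClSub.quotMod (comb I rv)))) 0 = 0 := by
    intro n
    induction n with
    | zero =>
      intro c hn hcle h
      have hcr : c = rv := funext fun i => by
        have h1 := Finset.sum_eq_zero_iff.1 hn i (Finset.mem_univ i)
        have h2 := hcle i
        omega
      rwa [hcr] at h
    | succ n ih =>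
      intro c hn hcle h
      have hex : ∃ i, c i < rv i := by
        by_contra hno; push Not at hno
        rw [Finset.sum_eq_zero fun i _ => by have := hno i; omega] at hn
        omega
      obtain ⟨i, hi, hneg'⟩ := core c hcle hex
      let c' := Function.update c i (c i + 1)
      have hcle' : ∀ j, c' j ≤ rv j := fun j => by
        by_cases hj : j = i
        · subst hj; simp only [c', Function.update_self]; omega
        · simp only [c', Function.update_of_ne hj]; exact hcle j
      refine ih c' ?_ hcle' ?_
      · rw [← Finset.add_sum_erase _ _ (Finset.mem_univ i)] at hn ⊢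
        rw [Finset.sum_congr rfl fun j hj => show rv j - c' j = rv j - c j by
          simp only [c', Function.update_of_ne (Finset.ne_of_mem_erase hj)]]
        simp only [c', Function.update_self]
        omega
      · have he : comb I c * I i = comb I c' := by
          rw [mul_comm]; exact (SurfAmpleLib.comb_succ _ _).symm
        have hle : ιD.ker ≤ comb I c * I i := by
          rw [he, hker, show comb I rv = comb I c' * comb I (fun j => rv j - c' j) by
            rw [comb, comb, comb, ← Finset.prod_mul_distrib]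
            exact Finset.prod_congr rfl fun j _ => by rw [← pow_add, Nat.add_sub_cancel' (hcle' j)]]
          exact SurfAmpleLib.mul_le_left' _ _
        haveI := isIntegral_ptIdeal (pt i)
        rw [← he]
        refine FibSecLib.hh_step ιD hN (isEffCartier_comb hc c) (hc i) hle ?_ h
        refine FibSecLib.hh_curve ιD hιD hN (isEffCartier_comb hc c) (by rw [IntFunLib.dim_ptIdeal, hpt i, Nat.cast_one]) ?_ ?_
        · refine hle.trans ?_
          rw [mul_comm]
          exact SurfAmpleLib.mul_le_left' _ _
        · rw [hN' c i]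
          change dg i + -dot k pt c i < 0
          omega
  have hfin : hh k N 0 = 0 := by
    rw [← FibSecLib.hh_full ιD hN, hker]
    exact main _ (fun _ => 0) rfl (fun i => Nat.zero_le _) (by rw [hcomb0]; exact FibSecLib.hh_top ιD hN)
  haveI := CurvLib.finite_HH (k := k) (CurvLib.isCoh_of_isInvertible hN) 0
  exact Module.finrank_zero_iff (R := k).1 hfin

end Groth.Agent.S16975
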