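import Groth.Statements.S16976
import Groth.Agent.ZarFibLib.Main
-- import your own Groth.Agent.* helpers here

set_option autoImplicit false
set_option backward.isDefEq.respectTransparency false
set_option backward.isDefEq.respectTransparency.types false
universe u
open CategoryTheory CategoryTheory.Limits AlgebraicGeometry TopologicalSpace
open Surf

open TopologicalSpace HilbPolyLib DevissLib IntMultLib IntFunLib HodgeIdxLib
open SurfAmpleLib (comb mat dot isEffCartier_comb mem_support_comb)

namespace Groth.Agent.S16976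

/-- Let f : S ⟶ B be a relatively minimal fibration of genus at least 2 over an algebraically closed
field k of characteristic 0 (S a smooth projective integral surface, B a smooth projective integral
curve, f a surjective k-morphism with O_B ⟶ f_*O_S an isomorphism, every closed fibre with χ(O_F) <
0, and no (-1)-curve in a fibre: every integral closed curve E ⊆ S with regular local rings, mapped
to a point and with χ(O_E) = 1, has E.E ≠ -1). Let F = f⁻¹(p) be the fibre over a closed point, with
ideal sheaf I_F = m_p·O_S. Then F is a positive multiple m·E of a 1-connected effective divisor E: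
for every m ≥ 1 and every locally principal ideal sheaf I_E with I_E^m = I_F that is not the n-th
power (n ≥ 2) of a locally principal ideal sheaf (so that E = F/m with m the greatest common divisor
of the multiplicities of F), and for every factorisation I_E = I_A · I_B with I_A, I_B locally
principal ideal sheaves different from O_S (an effective decomposition E = A + B), the intersection
number A.B — computed as the intersection number of the ideal sheaves I_A, I_B on S — is at least 1. -/
theorem result (k : Type u) [Field k] [IsAlgClosed k] [CharZero k]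
    (S : Scheme.{u}) [S.Over (Spec (CommRingCat.of k))] [IsProper (S ↘ (Spec (CommRingCat.of k)))]
    [Smooth (S ↘ (Spec (CommRingCat.of k)))] [IsIntegral S] (hdimS : topologicalKrullDim S = 2)
    (B : Scheme.{u}) [B.Over (Spec (CommRingCat.of k))] [IsProper (B ↘ (Spec (CommRingCat.of k)))]
    [Smooth (B ↘ (Spec (CommRingCat.of k)))] [IsIntegral B] (hdimB : topologicalKrullDim B = 1)
    (f : S ⟶ B) [f.IsOver (Spec (CommRingCat.of k))] [Surjective f] (hconn : IsIso (ClSub.unitToPush f))
    (hg : ∀ p : B, IsClosed ({p} : Set B) → Curv2.euler k S (ClSub.quotMod (f.fiberι p).ker) < 0)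
    (hmin : ∀ (E : Scheme.{u}) (j : E ⟶ S), IsClosedImmersion j → IsIntegral E → topologicalKrullDim E = 1 →
      (∀ e : E, IsRegularLocalRing (E.presheaf.stalk e)) → (∃ p : B, Set.range (j ≫ f).base ⊆ {p}) →
      Curv2.euler k S (ClSub.quotMod j.ker) = 1 →
      FGA.intNum k S 2 ![ClSub.idealMod j.ker, ClSub.idealMod j.ker] (Coh.structureModule S) ≠ -1)
    (p : B) (hp : IsClosed ({p} : Set B))
    (m : ℕ) (hm : 1 ≤ m) (IE : S.IdealSheafData) (hIE : Curv2.IsLocPrincipal IE)
    (hpow : IE ^ m = (Scheme.IdealSheafData.vanishingIdeal ⟨{p}, hp⟩).comap f)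
    (hprim : ∀ n : ℕ, 2 ≤ n → ∀ J : S.IdealSheafData, Curv2.IsLocPrincipal J → J ^ n ≠ IE)
    (IA IB : S.IdealSheafData) (hIA : Curv2.IsLocPrincipal IA) (hIB : Curv2.IsLocPrincipal IB)
    (hA : IA ≠ ⊤) (hB : IB ≠ ⊤) (hAB : IA * IB = IE) :
    1 ≤ FGA.intNum k S 2 ![ClSub.idealMod IA, ClSub.idealMod IB] (Coh.structureModule S) := by
  classical
  haveI := CurvLib.isNoetherian k (X := S)
  have hX : topologicalKrullDim S = ((2 : ℕ) : WithBot ℕ∞) := hdimS
  have hreg : ∀ z : S, IsRegularLocalRing (S.presheaf.stalk z) :=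
    fun z => WeilExtLib.isRegular_stalk_smooth (S ↘ Spec (CommRingCat.of k)) z
  haveI : IsProper f := IntFunLib.isProper_of_over (comp_over f (Spec (CommRingCat.of k)))
  obtain ⟨ι, hι, pt, hpt, hinj, hvert, hcovT, v, hv, hJ, hdot, hcovS⟩ :=
    ZarFibLib.exists_components k hX hreg hdimB f hp
  have hJe : (f.fiberι p).ker = IE ^ m := by rw [hpow]; exact SurfAmpleLib.ker_fiberι_eq f hp
  have hJc : BlowUp.IsEffCartierIdeal (IE ^ m) := hJe ▸ SurfAmpleLib.isEffCartier_fibre k hdimB f hp
  have hIEc : BlowUp.IsEffCartierIdeal IE := by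
    refine BlowUpLib.isEffCartier_of_mul (I := IE ^ (m - 1)) (J := IE) ?_
    rw [← pow_succ, Nat.sub_add_cancel hm]
    exact hJc
  have hIBc : BlowUp.IsEffCartierIdeal IB := BlowUpLib.isEffCartier_of_mul (I := IA) (J := IB) (hAB ▸ hIEc)
  have hIAc : BlowUp.IsEffCartierIdeal IA :=
    BlowUpLib.isEffCartier_of_mul (I := IB) (J := IA) (by rw [mul_comm, hAB]; exact hIEc)
  have hEp : ∀ z, z ∈ IE.support → f.base z = p := fun z hz => by
    have h : z ∈ (IE ^ m).support := by rwa [Scheme.IdealSheafData.support_pow _ _ (by omega)]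
    rw [← hJe, ← SetLike.mem_coe, SurfAmpleLib.ker_fiberι_eq f hp, Scheme.IdealSheafData.support_comap] at h
    change f.base z ∈ ((GenusZeroLib.ptIdeal hp).support : Set B) at h
    rw [Scheme.IdealSheafData.coe_support_vanishingIdeal] at h
    exact h
  have hAE : ∀ z, z ∈ IA.support → z ∈ IE.support := fun z hz => by
    rw [← hAB, SDivLib.mem_support_iff_stalk, SDivLib.stalkIdeal_mul]
    exact fun h => (SDivLib.mem_support_iff_stalk IA z).1 hz (top_le_iff.1 (h.ge.trans Ideal.mul_le_left))
  have hBE : ∀ z, z ∈ IB.support → z ∈ IE.support := fun z hz => by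
    rw [← hAB, SDivLib.mem_support_iff_stalk, SDivLib.stalkIdeal_mul]
    exact fun h => (SDivLib.mem_support_iff_stalk IB z).1 hz (top_le_iff.1 (h.ge.trans Ideal.mul_le_right))
  obtain ⟨a, ha⟩ := ZarFibLib.exists_eq_comb k hX hreg hpt hIAc fun c hc h => hcovT c hc (hEp c (hAE c h))
  obtain ⟨b, hb⟩ := ZarFibLib.exists_eq_comb k hX hreg hpt hIBc fun c hc h => hcovT c hc (hEp c (hBE c h))
  set I : ι → S.IdealSheafData := fun i => ptIdeal (pt i) with hIdef
  have hc := ZarFibLib.hcart (k := k) hX hreg hpt
  let e : ι → ℕ := fun i => a i + b i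
  have hIE : IE = comb I e := by
    rw [← hAB, ha, hb, comb, comb, comb, ← Finset.prod_mul_distrib]
    exact Finset.prod_congr rfl fun i _ => (pow_add _ _ _).symm
  have hIEm : (f.fiberι p).ker = comb I (fun i => m * e i) := by
    rw [hJe, hIE, comb, comb, ← Finset.prod_pow]
    exact Finset.prod_congr rfl fun i _ => by rw [mul_comm m (e i), pow_mul]
  have hedot : ∀ j, dot k pt e j = 0 := fun j => by
    have h1 := SurfAmpleLib.N_comb_curve (k := k) hX hpt hc (fun i => m * e i) j
    have h2 := SurfAmpleLib.N_comb_curve (k := k) hX hpt hc v j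
    rw [← hIEm, hJ, h2, hdot j] at h1
    have h3 : dot k pt (fun i => m * e i) j = (m : ℤ) * dot k pt e j := by
      simp only [dot, Finset.mul_sum]
      exact Finset.sum_congr rfl fun i _ => by push_cast; ring
    rw [h3] at h1
    have h4 : (m : ℤ) * dot k pt e j = 0 := by omega
    exact (mul_eq_zero.1 h4).resolve_left (by omega)
  have hepos : ∀ i, e i ≠ 0 := fun i => by
    have h : pt i ∈ (f.fiberι p).ker.support := by
      rw [← SetLike.mem_coe, SurfAmpleLib.ker_fiberι_eq f hp, Scheme.IdealSheafData.support_comap]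
      change f.base (pt i) ∈ ((GenusZeroLib.ptIdeal hp).support : Set B)
      rw [Scheme.IdealSheafData.coe_support_vanishingIdeal]
      exact hvert i _ (subset_closure rfl)
    rw [hIEm, mem_support_comb] at h
    obtain ⟨l, hl, hil⟩ := h
    rw [← SetLike.mem_coe, Scheme.IdealSheafData.coe_support_vanishingIdeal] at hil
    have hli : l = i := hinj (eq_of_specializes_of_dim isClosed_closure (Y := closure ({pt l} : Set S))
      (hpt l).le (hpt i) (subset_closure rfl) (specializes_iff_mem_closure.2 hil))
    subst hli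
    exact fun h0 => hl (by simp [h0])
  obtain ⟨hle, heq⟩ := ZarFibLib.proportional (k := k) hX hreg hpt hinj
    (ZarFibLib.isConnected_fibre f hconn p).isPreconnected (fun i z hz => hvert i z hz)
    (fun z hz => hcovS z hz) e hepos hedot a
  have hnum : FGA.intNum k S 2 ![ClSub.idealMod IA, ClSub.idealMod IB] (Coh.structureModule S) =
      -∑ j, (a j : ℤ) * dot k pt a j := by
    rw [SurfNumLib.intNum_eq_pr_two hdimS, ha, hb, SurfAmpleLib.pr_comb_comb (k := k) hX hc a b]
    have h0 : ∑ j, (e j : ℤ) * dot k pt a j = 0 := by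
      rw [← SurfAmpleLib.pr_comb_comb (k := k) hX hc a e, pr_comm, SurfAmpleLib.pr_comb_comb (k := k) hX hc e a]
      exact Finset.sum_eq_zero fun j _ => by rw [hedot j, mul_zero]
    have h1 : ∑ j, (e j : ℤ) * dot k pt a j = ∑ j, (a j : ℤ) * dot k pt a j + ∑ j, (b j : ℤ) * dot k pt a j := by
      rw [← Finset.sum_add_distrib]
      exact Finset.sum_congr rfl fun j _ => by simp only [e]; push_cast; ring
    linarith
  rw [hnum]
  by_contra hlt
  have hprop := heq (by omega)
  have hzero : ∀ c : ι → ℕ, (∀ i, c i = 0) → comb I c = ⊤ := fun c hc0 => by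
    rw [comb, Finset.prod_eq_one fun i _ => by rw [hc0 i, pow_zero]]
    exact Scheme.IdealSheafData.one_eq_top
  obtain ⟨i₀, hi₀⟩ : ∃ i, a i ≠ 0 := by
    by_contra h; push Not at h; exact hA (ha.trans (hzero a h))
  obtain ⟨i₁, hi₁⟩ : ∃ i, b i ≠ 0 := by
    by_contra h; push Not at h; exact hB (hb.trans (hzero b h))
  have hA0 : 0 < a i₁ := by
    have h := hprop i₀ i₁
    rcases Nat.eq_zero_or_pos (a i₁) with h0 | h0
    · rw [h0, Nat.cast_zero, zero_mul, mul_eq_zero] at h
      rcases h with h | h
      · exact absurd (by exact_mod_cast h) hi₀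
      · exact absurd (by exact_mod_cast h) (hepos i₁)
    · exact h0
  have hlt1 : a i₁ < e i₁ := by simp only [e]; omega
  have hprop' : ∀ i, a i * e i₁ = a i₁ * e i := fun i => by exact_mod_cast hprop i i₁
  obtain ⟨g, hg⟩ : ∃ g, g = Nat.gcd (a i₁) (e i₁) := ⟨_, rfl⟩
  have hgpos : 0 < g := hg ▸ Nat.gcd_pos_of_pos_left _ hA0
  obtain ⟨s, hs⟩ := Nat.gcd_dvd_left (a i₁) (e i₁)
  obtain ⟨t, ht⟩ := Nat.gcd_dvd_right (a i₁) (e i₁)
  rw [← hg] at hs ht
  have hcop : Nat.Coprime t s := by
    have h := Nat.coprime_div_gcd_div_gcd (m := a i₁) (n := e i₁) (hg ▸ hgpos)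
    rw [← hg] at h
    rw [show a i₁ / g = s from by rw [hs]; exact Nat.mul_div_cancel_left s hgpos,
      show e i₁ / g = t from by rw [ht]; exact Nat.mul_div_cancel_left t hgpos] at h
    exact h.symm
  have ht2 : 2 ≤ t := by
    by_contra h
    have : t = 0 ∨ t = 1 := by omega
    rcases this with rfl | rfl
    · rw [mul_zero] at ht; omega
    · rw [mul_one] at ht
      rcases Nat.eq_zero_or_pos s with rfl | hs0
      · rw [mul_zero] at hs; omega
      · have : g ≤ a i₁ := hs.symm ▸ Nat.le_mul_of_pos_right g hs0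
        omega
  have hdvd : ∀ i, t ∣ e i := fun i => hcop.dvd_of_dvd_mul_left ⟨a i, by
    have h := hprop' i
    rw [hs, ht] at h
    refine Nat.eq_of_mul_eq_mul_left hgpos ?_
    linear_combination -h⟩
  choose d hd using hdvd
  refine hprim t ht2 (comb I d) ?_ ?_
  · intro z _
    obtain ⟨U, hzU, f₀, -, hU⟩ := isEffCartier_comb hc d z
    exact ⟨U, hzU, f₀, hU⟩
  · rw [hIE, comb, comb, ← Finset.prod_pow]
    exact Finset.prod_congr rfl fun i _ => by rw [hd i, mul_comm t (d i), pow_mul]

end Groth.Agent.S16976
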