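import Groth.Statements.S16977
import Groth.Agent.CastelBiratLib.Bridge
import Groth.Agent.CurveH0Lib.Smooth

set_option autoImplicit false
universe u
open CategoryTheory CategoryTheory.Limits AlgebraicGeometry Opposite
open Curves

namespace Groth.Agent.S16977
attribute [local instance] CurveDualLib.algFF

/-- Let X be a smooth projective curve over an algebraically closed field k of characteristic 0
(integral, proper over k, of dimension one, all local rings regular) of genus g, and L an invertible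
O_X-module of degree d which is special (dim_k H^1(X, L) ≥ 1) with dim_k H^0(X, L) = r + 1. Suppose
the map given by the complete linear system of L is birational onto its image: there are an integral
closed subscheme j : Y ⟶ P^r_k, a morphism φ : X ⟶ Y over k which restricts to an isomorphism over
some nonempty open subset of Y, and a monomorphism ι from the pullback of O(1) along φ ≫ j into L,
such that every nonzero global section of O(1) on P^r_k pulls back to a nonzero section (so the r +
1 coordinate sections span H^0(X, L) and φ ≫ j is the map of the complete linear system, base points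
allowed). Then: (a) if L ⊗ L is special (dim_k H^1(X, L ⊗ L) ≥ 1), 3r - 1 ≤ d; (b) if L ⊗ L is
non-special, 3r - 1 + g ≤ 2d. Degrees are χ(·) - χ(O_X). -/
theorem result (k : Type u) [Field k] [IsAlgClosed k] [CharZero k] (X : Scheme.{u}) [X.Over (Spec (CommRingCat.of k))]
    [IsIntegral X] [IsProper (X ↘ (Spec (CommRingCat.of k)))] (hdim : topologicalKrullDim X = 1)
    (hreg : ∀ x : X, IsRegularLocalRing (X.presheaf.stalk x))
    (L : X.Modules) (hL : PicF.IsInvertible L) (r : ℕ)
    (h0 : Module.finrank k (Coh.HH X L 0) = r + 1) (h1 : 1 ≤ Module.finrank k (Coh.HH X L 1))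
    (Y : Scheme.{u}) [IsIntegral Y] (j : Y ⟶ CohB1.ProjSpace r k) [IsClosedImmersion j] (φ : X ⟶ Y)
    (hφ : φ ≫ j ≫ CohB1.ProjSpace.toSpec r k = X ↘ Spec (CommRingCat.of k))
    (hbir : ∃ U : Y.Opens, (U : Set Y).Nonempty ∧ IsIso (φ ∣_ U))
    (ι : (Scheme.Modules.pullback (φ ≫ j)).obj (Twist.twistProjSpace r k 1) ⟶ L) [Mono ι]
    (hnd : ∀ s : LinSer.Sect (CohB1.ProjSpace r k) (Twist.twistProjSpace r k 1), s ≠ 0 → OmegaSh.pullSect (φ ≫ j) (Twist.twistProjSpace r k 1) ⊤ s ≠ 0) :
    (1 ≤ Module.finrank k (Coh.HH X (CohB1.tensorMod L L) 1) → 3 * (r : ℤ) - 1 ≤ Curv2.deg k X L 1) ∧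
      (Module.finrank k (Coh.HH X (CohB1.tensorMod L L) 1) = 0 →
        3 * (r : ℤ) - 1 + Curv2.genus k X ≤ 2 * Curv2.deg k X L 1) := by
  classical
  haveI := CurveH0Lib.smooth_of_regular k (X ↘ Spec (CommRingCat.of k)) hreg
  let g := φ ≫ j
  have hg : g ≫ CohB1.ProjSpace.toSpec r k = X ↘ Spec (CommRingCat.of k) := by rw [Category.assoc]; exact hφ
  obtain ⟨U, hU, hUi⟩ := hbir
  haveI := hUi
  have hV : ((φ ⁻¹ᵁ U : X.Opens) : Set X).Nonempty := by
    obtain ⟨u, hu⟩ := hU
    obtain ⟨x, hx⟩ := (φ ∣_ U).surjective ⟨u, hu⟩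
    exact ⟨_, x.2⟩
  have hinj : Set.InjOn g (φ ⁻¹ᵁ U : X.Opens) := by
    intro x hx y hy h
    have h1 : φ x = φ y := j.isClosedEmbedding.injective (by simpa [g] using h)
    have h2 := (φ ∣_ U).isOpenEmbedding.injective (a₁ := ⟨x, hx⟩) (a₂ := ⟨y, hy⟩) (by
      simp only [morphismRestrict_base]
      exact Subtype.ext h1)
    exact congrArg Subtype.val h2
  obtain ⟨E, hE, hbpf, hbirat⟩ := CastelBiratLib.exists_birat_div (k := k) hdim hreg g hg _ hV hinj
  obtain ⟨D, hD⟩ := ZetaCurveLib.exists_hasDiv (k := k) hdim hL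
  obtain ⟨C, hCd, hC⟩ := CurveH0Lib.LinStable.exists_canonical_hasDiv (k := k) hdim
  have hK := CurveDualLib.isFunctionField (k := k) (X := X) hdim
  have hgen := CurveDualLib.genus_eq (k := k) (X := X) hdim
  have hr : r + 1 ≤ FunFld.ell E := by
    rw [← CurveH0Lib.LinStable.h0_eq_ell hdim hE]
    exact CurveCoverLib.le_h0_of_nondegenerate g hg hnd
  have hF := CastelBiratLib.ell_sub_pos_of_mono (k := k) hdim hL hE.1 ι hD hE
  rw [CurveH0Lib.LinStable.h0_eq_ell hdim hD] at h0
  rw [CurveH0Lib.Nine.h1_eq hdim hC hD] at h1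
  have hs := CurveH0Lib.ell_add_ell_le hK (D := E) (E := D - E) (by omega) (by omega)
  rw [add_sub_cancel, h0] at hs
  have hlE : FunFld.ell E = r + 1 := by omega
  obtain ⟨hrr, hcl⟩ := CurveH0Lib.LinStable.estimate hdim hC D (by omega)
  have hcl' := hcl h1
  have hr1 : 1 ≤ r := by
    by_contra hr0
    obtain ⟨S, hS⟩ := hbirat
    haveI := Groth.Agent.FFLib.infinite_places hK
    obtain ⟨P, -, hP⟩ := Set.infinite_univ.exists_notMem_finite S.finite_toSet
    obtain ⟨Q, -, hQ⟩ := Set.infinite_univ.exists_notMem_finite (S.finite_toSet.insert P)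
    rw [Set.mem_insert_iff, not_or] at hQ
    have := hS P Q hP hQ.2 (Ne.symm hQ.1)
    have := hbpf P
    omega
  have h3 : 3 * r ≤ FunFld.ell (2 • E) := by
    rcases (show r = 1 ∨ 2 ≤ r by omega) with h | h
    · have := CurveH0Lib.ell_add_ell_le hK (D := E) (E := E) (by omega) (by omega)
      rw [two_nsmul]
      omega
    · exact CastelBiratLib.three_mul_le_ell_two hK hC hbpf hbirat hlE h (by rw [hgen]; omega)
  have hF2 := CurveH0Lib.ell_add_ell_le hK (D := D - E) (E := D - E) (by omega) (by omega)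
  have h2D := CurveH0Lib.ell_add_ell_le hK (D := 2 • E) (E := D - E + (D - E)) (by omega) (by omega)
  rw [show 2 • E + (D - E + (D - E)) = D + D by abel] at h2D
  have h0s := RRVanLib.finrank_h0_structure (k := k) (X := X)
  rw [CurveH0Lib.Nine.h1_eq hdim hC (hD.tensor hdim hD), hD.deg hdim h0s]
  obtain ⟨hrr2, hcl2⟩ := CurveH0Lib.LinStable.estimate hdim hC (D + D) (by omega)
  rw [Groth.Agent.FFLib.deg_add] at hrr2
  refine ⟨fun h => ?_, fun h => ?_⟩
  · have := hcl2 h
    omega
  · omega

end Groth.Agent.S16977
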