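import Groth.Statements.S16978
import Groth.Agent.CurveCoverLib.Basic
import Groth.Agent.CurveH0Lib.Smooth

set_option autoImplicit false
universe u
open CategoryTheory CategoryTheory.Limits AlgebraicGeometry Opposite
open Curves

namespace Groth.Agent.S16978

/-- Let X be a smooth projective curve over an algebraically closed field k of characteristic 0
(integral, proper over k, of dimension one, all local rings regular), and L an invertible O_X-module
of degree d which is special (dim_k H^1(X, L) ≥ 1) with dim_k H^0(X, L) = r + 1. Suppose the map of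
the complete linear system of L factors as X ⟶ Γ ⟶ Y ⟶ P^r_k where π : X ⟶ Γ is a k-morphism, finite
and flat of constant rank a, onto a smooth projective curve Γ over k of genus γ, Y ⟶ P^r_k is an
integral closed subscheme, ψ : Γ ⟶ Y restricts to an isomorphism over a nonempty open subset of Y,
the pullback of O(1) along the composite embeds in L by a monomorphism ι, and every nonzero global
section of O(1) pulls back to a nonzero section (so the composite is the map of the complete linear
system, through an a-sheeted cover followed by a birational map). Then: (1) if a = 2, either 2r + 2γ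
≤ d or 4r ≤ d; (2) if a ≥ 3, 3r ≤ d. Degrees are χ(·) - χ(O_X). -/
theorem result (k : Type u) [Field k] [IsAlgClosed k] [CharZero k] (X : Scheme.{u}) [X.Over (Spec (CommRingCat.of k))]
    [IsIntegral X] [IsProper (X ↘ (Spec (CommRingCat.of k)))] (hdim : topologicalKrullDim X = 1)
    (hreg : ∀ x : X, IsRegularLocalRing (X.presheaf.stalk x))
    (L : X.Modules) (hL : PicF.IsInvertible L) (r : ℕ)
    (h0 : Module.finrank k (Coh.HH X L 0) = r + 1) (h1 : 1 ≤ Module.finrank k (Coh.HH X L 1))
    (Γ : Scheme.{u}) [Γ.Over (Spec (CommRingCat.of k))] [IsIntegral Γ] [IsProper (Γ ↘ (Spec (CommRingCat.of k)))]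
    (hdimΓ : topologicalKrullDim Γ = 1) (hregΓ : ∀ y : Γ, IsRegularLocalRing (Γ.presheaf.stalk y))
    (π : X ⟶ Γ) (hπ : π ≫ (Γ ↘ Spec (CommRingCat.of k)) = X ↘ Spec (CommRingCat.of k))
    [IsFinite π] [Flat π] (a : ℕ) (ha : ∀ y : Γ, Scheme.Hom.finrank π y = a)
    (Y : Scheme.{u}) [IsIntegral Y] (j : Y ⟶ CohB1.ProjSpace r k) [IsClosedImmersion j] (ψ : Γ ⟶ Y)
    (hψ : ψ ≫ j ≫ CohB1.ProjSpace.toSpec r k = Γ ↘ Spec (CommRingCat.of k))
    (hbir : ∃ U : Y.Opens, (U : Set Y).Nonempty ∧ IsIso (ψ ∣_ U))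
    (ι : (Scheme.Modules.pullback (π ≫ ψ ≫ j)).obj (Twist.twistProjSpace r k 1) ⟶ L) [Mono ι]
    (hnd : ∀ s : LinSer.Sect (CohB1.ProjSpace r k) (Twist.twistProjSpace r k 1), s ≠ 0 → OmegaSh.pullSect (π ≫ ψ ≫ j) (Twist.twistProjSpace r k 1) ⊤ s ≠ 0) :
    (a = 2 → 2 * (r : ℤ) + 2 * Curv2.genus k Γ ≤ Curv2.deg k X L 1 ∨ 4 * (r : ℤ) ≤ Curv2.deg k X L 1) ∧
      (3 ≤ a → 3 * (r : ℤ) ≤ Curv2.deg k X L 1) := by
  haveI := CurveH0Lib.smooth_of_regular k (X ↘ Spec (CommRingCat.of k)) hreg
  haveI := CurveH0Lib.smooth_of_regular k (Γ ↘ Spec (CommRingCat.of k)) hregΓ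
  let g := ψ ≫ j
  have hg : g ≫ CohB1.ProjSpace.toSpec r k = Γ ↘ Spec (CommRingCat.of k) := by
    rw [Category.assoc]; exact hψ
  have hM := TwistLib.coord_isInvertible r k g
  have hb := CurveCoverLib.le_h0_of_nondegenerate g hg (CurveCoverLib.nondegenerate_of_comp π g hnd)
  obtain ⟨hd1, hd2⟩ := CurveCoverLib.deg_bounds (k := k) hdimΓ hM hb
  have hdeg : (a : ℤ) * Curv2.deg k Γ ((Scheme.Modules.pullback g).obj (Twist.twistProjSpace r k 1)) 1 ≤
      Curv2.deg k X L 1 := by
    have hP := TwistLib.coord_isInvertible r k (π ≫ g)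
    have he := CurvLib.deg_congr (k := k) ((Scheme.Modules.pullbackComp π g).app (Twist.twistProjSpace r k 1)) 1
    rw [Functor.comp_obj, CurveCoverLib.deg_pullback (k := k) hdim hdimΓ π hπ ha hM] at he
    by_cases hi : IsIso ι
    · haveI := hi
      have := CurvLib.deg_congr (k := k) (asIso ι) 1
      rw [← this]
      exact he.le
    · have := CurveH0Lib.LinStable.deg_lt_of_mono (k := k) hdim hL hP ι hi
      exact he.le.trans this.le
  refine ⟨fun h2 => ?_, fun h3 => ?_⟩
  · subst h2
    push_cast at hdeg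
    omega
  · have : (3 : ℤ) * (r : ℤ) ≤ (a : ℤ) * Curv2.deg k Γ ((Scheme.Modules.pullback g).obj (Twist.twistProjSpace r k 1)) 1 := by
      have h3' : (3 : ℤ) ≤ a := by omega
      nlinarith
    omega

end Groth.Agent.S16978
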