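import Groth.Statements.S16979
import Mathlib.LinearAlgebra.Matrix.Charpoly.Coeff
import Mathlib.LinearAlgebra.Matrix.ToLinearEquiv
import Mathlib.FieldTheory.IsAlgClosed.AlgebraicClosure
import Mathlib.Algebra.Polynomial.FieldDivision

set_option autoImplicit false
universe u v
open CAlg
open Matrix

namespace Groth.Agent.S16979

/-- Let R be an integral domain with fraction field K and φ a square matrix over R whose characteristic
polynomial becomes separable in K[T] (equivalently, K[T] modulo the characteristic polynomial is
geometrically reduced over K). Then a polynomial f over R satisfies f(φ) = 0 exactly when the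
characteristic polynomial of φ divides f in R[T]: the kernel of evaluation at φ (the minimal ideal
of φ) is the principal ideal generated by the characteristic polynomial. -/
theorem result
    {R : Type u} [CommRing R] [IsDomain R] {n : Type v} [Fintype n] [DecidableEq n]
    (φ : Matrix n n R)
    (hsep : (φ.charpoly.map (algebraMap R (FractionRing R))).Separable) :
    RingHom.ker (Polynomial.aeval (R := R) φ) = Ideal.span {φ.charpoly} := by
  classical
  ext f
  rw [RingHom.mem_ker, Ideal.mem_span_singleton]
  refine ⟨fun hf => ?_, fun ⟨g, hg⟩ => by rw [hg, map_mul, Matrix.aeval_self_charpoly, zero_mul]⟩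
  let K := FractionRing R
  let L := AlgebraicClosure K
  let ι : R →+* L := (algebraMap K L).comp (algebraMap R K)
  have hι : Function.Injective ι := (algebraMap K L).injective.comp (IsFractionRing.injective R K)
  rw [← Polynomial.map_dvd_map ι hι φ.charpoly_monic]
  rcases eq_or_ne f 0 with rfl | hf0
  · simp
  have hfne : f.map ι ≠ 0 := (Polynomial.map_ne_zero_iff hι).2 hf0
  have hsepL : (φ.charpoly.map ι).Separable := by
    rw [← Polynomial.map_map]
    exact hsep.map
  have hsplit : (φ.charpoly.map ι).Splits := IsAlgClosed.splits _
  refine hsplit.dvd_of_roots_le_roots ((φ.charpoly_monic.map ι).ne_zero) ?_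
  rw [Multiset.le_iff_subset (Polynomial.nodup_roots hsepL)]
  intro lam hlam
  rw [Polynomial.mem_roots ((φ.charpoly_monic.map ι).ne_zero), Polynomial.IsRoot.def, ← Matrix.charpoly_map,
    Matrix.eval_charpoly] at hlam
  obtain ⟨v, hv0, hv⟩ := Matrix.exists_mulVec_eq_zero_iff.2 hlam
  rw [Polynomial.mem_roots hfne, Polynomial.IsRoot.def]
  have hev : φ.map ι *ᵥ v = lam • v := by
    rw [Matrix.sub_mulVec, sub_eq_zero, Matrix.scalar_apply] at hv
    rw [← hv]
    funext i
    rw [Matrix.mulVec_diagonal, Pi.smul_apply, smul_eq_mul]
  have hpow : ∀ g : Polynomial R, (Polynomial.aeval φ g).map ι *ᵥ v = (g.map ι).eval lam • v := by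
    intro g
    induction g using Polynomial.induction_on' with
    | add p q hp hq =>
      rw [map_add, Matrix.map_add ι (map_add ι), Matrix.add_mulVec, hp, hq, Polynomial.map_add,
        Polynomial.eval_add, add_smul]
    | monomial k a =>
      have hk : ∀ k : ℕ, (φ ^ k).map ι *ᵥ v = lam ^ k • v := by
        intro k
        induction k with
        | zero => rw [pow_zero, Matrix.map_one ι ι.map_zero ι.map_one, Matrix.one_mulVec, pow_zero, one_smul]
        | succ k ih =>
          rw [pow_succ, Matrix.map_mul, ← Matrix.mulVec_mulVec, hev, Matrix.mulVec_smul, ih, smul_smul,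
            pow_succ, mul_comm]
      rw [Polynomial.aeval_monomial, ← Algebra.smul_def, Matrix.map_smul' _ _ _ (map_mul ι),
        Matrix.smul_mulVec, hk, smul_smul, Polynomial.map_monomial, Polynomial.eval_monomial]
  have h := hpow f
  rw [show (Polynomial.aeval φ f : Matrix n n R) = 0 from hf, Matrix.map_zero _ ι.map_zero, Matrix.zero_mulVec] at h
  exact (smul_eq_zero.1 h.symm).resolve_right hv0

end Groth.Agent.S16979
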