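import Groth.Statements.S16981
import Groth.Agent.DefLib.ArtFlat
import Groth.Agent.CohenLib.PSHom
import Groth.Agent.CompleteLib.TwoIdeals

set_option autoImplicit false
universe u v
open CAlg

namespace Groth.Agent.S16981

/-- Let A be a complete Noetherian local ring and f : E → A a surjective ring homomorphism whose kernel
has square zero and is finitely generated (equivalently, is a finite A-module for the induced module
structure). Then E is separated and complete for the adic topology of the inverse image of the
maximal ideal of A. (The published statement takes A to be the completion of a local ring of a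
scheme of finite type over an Artinian local ring and the kernel the completion of a finite module;
this row assumes only that A is complete Noetherian local and the kernel finitely generated.) -/
theorem result
    {A : Type u} {E : Type v} [CommRing A] [CommRing E] [IsNoetherianRing A] [IsLocalRing A]
    [IsAdicComplete (IsLocalRing.maximalIdeal A) A]
    (f : E →+* A) (hf : Function.Surjective f)
    (hsq : RingHom.ker f ^ 2 = ⊥) (hfg : (RingHom.ker f).FG) :
    IsAdicComplete ((IsLocalRing.maximalIdeal A).comap f) E := by
  set I := RingHom.ker f with hIdef
  set J := (IsLocalRing.maximalIdeal A).comap f with hJdef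
  have hnil : IsNilpotent I := ⟨2, hsq⟩
  let e : E ⧸ I ≃+* A := RingHom.quotientKerEquivOfSurjective hf
  have : IsNoetherianRing (E ⧸ I) := isNoetherianRing_of_ringEquiv _ e.symm
  have : IsNoetherianRing E := DefLib.isNoetherianRing_of_nilpotent hfg hnil
  have : IsAdicComplete I E := CohenLib.isAdicComplete_of_isNilpotent I hnil
  have : IsAdicComplete (J.map (Ideal.Quotient.mk I)) (E ⧸ I) := by
    rw [← IsAdicComplete.congr_ringEquiv _ e]
    have h1 : (J.map (Ideal.Quotient.mk I)).map e = IsLocalRing.maximalIdeal A := by
      rw [← Ideal.map_coe e, Ideal.map_map,
        show (e : E ⧸ I →+* A).comp (Ideal.Quotient.mk I) = f from RingHom.ext fun z => rfl, hJdef,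
        Ideal.map_comap_of_surjective f hf]
    rw [h1]; infer_instance
  exact CompleteLib.isAdicComplete_of_quotient I J

end Groth.Agent.S16981
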