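import Groth.Statements.S16982
import Groth.Agent.S16981
import Groth.Agent.CohenLib.PSHom
import Mathlib.RingTheory.MvPowerSeries.Rename

set_option autoImplicit false
universe u v w w'
open CAlg

namespace Groth.Agent.S16982

/-- Let R be a commutative ring, A a complete Noetherian local R-algebra written as a quotient of a
power series ring over R in finitely many variables by a surjective R-algebra map π, and f : E → A a
surjective R-algebra map whose kernel has square zero and is finitely generated. Then π lifts along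
f to an R-algebra map λ from the power series ring to E with f ∘ λ = π. (The published statement
takes R Artinian local and asks for a lift that is continuous for the adic topologies; this row
allows any commutative R and asks for any lift.) -/
theorem result
    {R : Type u} [CommRing R] {σ : Type v} [Finite σ]
    {A : Type w} {E : Type w'} [CommRing A] [CommRing E] [Algebra R A] [Algebra R E]
    [IsNoetherianRing A] [IsLocalRing A] [IsAdicComplete (IsLocalRing.maximalIdeal A) A]
    (π : MvPowerSeries σ R →ₐ[R] A) (hπ : Function.Surjective π)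
    (f : E →ₐ[R] A) (hf : Function.Surjective f)
    (hsq : RingHom.ker f.toRingHom ^ 2 = ⊥) (hfg : (RingHom.ker f.toRingHom).FG) :
    ∃ l : MvPowerSeries σ R →ₐ[R] E, f.comp l = π := by
  classical
  cases nonempty_fintype σ
  set m := IsLocalRing.maximalIdeal A
  obtain ⟨n, ⟨e⟩⟩ := Finite.exists_equiv_fin σ
  let ρ := MvPowerSeries.renameEquiv R e
  let π' : MvPowerSeries (Fin n) R →ₐ[R] A := π.comp ρ.symm.toAlgHom
  have hπ' : Function.Surjective π' := hπ.comp ρ.symm.surjective
  have hXm : ∀ i, π' (MvPowerSeries.X i) ∈ m := by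
    intro i
    refine (IsLocalRing.jacobson_eq_maximalIdeal (⊥ : Ideal A) bot_ne_top).le ?_
    rw [Ideal.mem_jacobson_bot]
    intro a
    obtain ⟨q, rfl⟩ := hπ' a
    have h : IsUnit (MvPowerSeries.X i * q + 1 : MvPowerSeries (Fin n) R) :=
      MvPowerSeries.isUnit_iff_constantCoeff.2 (by simp)
    simpa using h.map π'
  set J := m.comap f.toRingHom
  have : IsAdicComplete J E := Groth.Agent.S16981.result f.toRingHom hf hsq hfg
  choose x hx using fun i => hf (π' (MvPowerSeries.X i))
  have hxJ : ∀ i, x i ∈ J := fun i => by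
    show f (x i) ∈ m
    rw [hx]; exact hXm i
  let ψ := CohenLib.psHom J (algebraMap R E) x hxJ
  let ψA : MvPowerSeries (Fin n) R →ₐ[R] E := AlgHom.mk ψ fun r => by
    rw [show algebraMap R (MvPowerSeries (Fin n) R) r = MvPowerSeries.C r from rfl]
    exact CohenLib.psHom_C _ _ _ _ r
  have hkill : ∀ χ : MvPowerSeries (Fin n) R →+* A, (∀ i, χ (MvPowerSeries.X i) ∈ m) →
      ∀ (M : ℕ), ∀ z ∈ CohenLib.varsIdeal R n ^ M, Ideal.Quotient.mk (m ^ M) (χ z) = 0 := by
    intro χ hχ M z hz
    have h1 : (CohenLib.varsIdeal R n).map χ ≤ m := by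
      rw [show CohenLib.varsIdeal R n = Ideal.span (Set.range MvPowerSeries.X) from rfl, Ideal.map_span,
        Ideal.span_le]
      rintro _ ⟨_, ⟨i, rfl⟩, rfl⟩
      exact hχ i
    have h2 := Ideal.mem_map_of_mem χ hz
    rw [Ideal.map_pow] at h2
    exact Ideal.Quotient.eq_zero_iff_mem.2 (Ideal.pow_right_mono h1 M h2)
  have heq : ∀ q, f (ψA q) = π' q := by
    intro q
    rw [← sub_eq_zero]
    refine IsHausdorff.haus' (I := m) _ fun M => ?_
    rw [SModEq.zero, smul_eq_mul, Ideal.mul_top, ← Ideal.Quotient.eq_zero_iff_mem, map_sub, sub_eq_zero]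
    refine RingHom.congr_fun (CohenLib.ps_hom_ext ((Ideal.Quotient.mk (m ^ M)).comp (f.toRingHom.comp ψ))
      ((Ideal.Quotient.mk (m ^ M)).comp π'.toRingHom) (fun c => ?_) (fun i => ?_) M
      (hkill (f.toRingHom.comp ψ) (fun i => ?_) M) (hkill π'.toRingHom hXm M)) q
    · show Ideal.Quotient.mk (m ^ M) (f (ψ (MvPowerSeries.C c))) =
        Ideal.Quotient.mk (m ^ M) (π' (MvPowerSeries.C c))
      rw [show ψ (MvPowerSeries.C c) = algebraMap R E c from CohenLib.psHom_C _ _ _ _ c, AlgHom.commutes,
        show (MvPowerSeries.C c : MvPowerSeries (Fin n) R) = algebraMap R _ c from rfl, AlgHom.commutes]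
    · show Ideal.Quotient.mk (m ^ M) (f (ψ (MvPowerSeries.X i))) = _
      rw [show ψ (MvPowerSeries.X i) = x i from CohenLib.psHom_X _ _ _ _ i, hx]
      rfl
    · show f (ψ (MvPowerSeries.X i)) ∈ m
      rw [show ψ (MvPowerSeries.X i) = x i from CohenLib.psHom_X _ _ _ _ i, hx]
      exact hXm i
  refine ⟨ψA.comp ρ.toAlgHom, AlgHom.ext fun q => ?_⟩
  show f (ψA (ρ q)) = π q
  rw [heq]
  show π (ρ.symm (ρ q)) = π q
  rw [AlgEquiv.symm_apply_apply]

end Groth.Agent.S16982
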