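import Groth.Statements.S16984
-- import your own Groth.Agent.* helpers here

set_option autoImplicit false
universe u v w
open Hoch

namespace Groth.Agent.S16984

open scoped TensorProduct

open TensorProduct in
/-- Let k be a commutative ring, A a commutative k-bialgebra that is flat over k (the coordinate ring of
a flat affine group scheme over Spec k; flatness and commutativity are the standing hypotheses of
the appendix and are not needed for the assertion) and P a k-module. Then p ↦ p ⊗ 1 is an injection
of P into the induced comodule P ⊗ A (coaction id ⊗ Δ) whose image is exactly the submodule of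
invariants, i.e. the elements with coaction x ↦ x ⊗ 1. (The published statement writes the
coordinate-ring factor on the left and calls this module coinduced; this row is its degree-zero
part, the identification of P with the invariants of the coinduced module.) -/
theorem result (k : Type u) [CommRing k] (A : Type v) [CommRing A] [Bialgebra k A]
    [Module.Flat k A] (P : Type w) [AddCommGroup P] [Module k P] :
    Function.Injective ((Hoch.Ind.equiv k A P).toLinearMap ∘ₗ (TensorProduct.mk k P A).flip (1 : A)) ∧
    LinearMap.range ((Hoch.Ind.equiv k A P).toLinearMap ∘ₗ (TensorProduct.mk k P A).flip (1 : A)) =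
      HopfRep.fixedPts k A (Hoch.Ind k A P) := by
  let ε := CoalgebraStruct.counit (R := k) (A := A)
  have hinj : ∀ p : P, TensorProduct.rid k P (ε.lTensor P (p ⊗ₜ[k] (1 : A))) = p := fun p => by
    simp [ε, Bialgebra.counit_one]
  refine ⟨fun a b h => ?_, le_antisymm ?_ ?_⟩
  · have := congrArg (fun x => TensorProduct.rid k P (ε.lTensor P ((Hoch.Ind.equiv k A P).symm x))) h
    simpa [hinj, ε, Bialgebra.counit_one] using this
  · rintro _ ⟨p, rfl⟩
    show Hoch.Ind.coactAux k A P (p ⊗ₜ[k] (1 : A)) = (p ⊗ₜ[k] (1 : A)) ⊗ₜ[k] (1 : A)
    simp [Hoch.Ind.coactAux_tmul, Bialgebra.comul_one, Algebra.TensorProduct.one_def]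
  · intro x hx
    obtain ⟨y, rfl⟩ := (Hoch.Ind.equiv k A P).surjective x
    have hy : Hoch.Ind.coactAux k A P y = y ⊗ₜ[k] (1 : A) := hx
    refine ⟨TensorProduct.rid k P (ε.lTensor P y), ?_⟩
    show (Hoch.Ind.equiv k A P) _ = _
    congr 1
    show TensorProduct.rid k P (ε.lTensor P y) ⊗ₜ[k] (1 : A) = y
    let F : (P ⊗[k] A) ⊗[k] A →ₗ[k] P ⊗[k] A :=
      ((TensorProduct.rid k P).toLinearMap ∘ₗ ε.lTensor P).rTensor A
    have hF : ∀ z : P ⊗[k] A, F (Hoch.Ind.coactAux k A P z) = z := by
      intro z
      induction z with
      | zero => simp
      | tmul q a =>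
        have h1 : ∀ t : A ⊗[k] A, F ((TensorProduct.assoc k P A A).symm (q ⊗ₜ[k] t)) =
            q ⊗ₜ[k] TensorProduct.lid k A (ε.rTensor A t) := by
          intro t
          induction t with
          | zero => simp [TensorProduct.tmul_zero]
          | tmul b c => simp [F, TensorProduct.smul_tmul]
          | add t t' ht ht' => simp only [TensorProduct.tmul_add, map_add, ht, ht']
        rw [Hoch.Ind.coactAux_tmul, h1, Coalgebra.rTensor_counit_comul]
        simp
      | add z z' hz hz' => simp only [map_add, hz, hz']
    conv_rhs => rw [← hF y, hy]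
    rfl

end Groth.Agent.S16984
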