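import Groth.Statements.S16985
import Mathlib
import Mathlib
-- import your own Groth.Agent.* helpers here

set_option autoImplicit false
universe u v
open Hoch

namespace Groth.Agent.S16985

open TensorProduct in
/-- Let k be a commutative ring, A a commutative k-bialgebra flat over k (the coordinate ring of a flat
affine group scheme over Spec k; flatness and commutativity are the standing hypotheses of the
appendix and are not needed for the assertion) and P a k-module. Then the cochain complex of the
induced comodule P ⊗ A (coaction id ⊗ Δ), with n-cochains (P ⊗ A) ⊗ A ⊗ ⋯ ⊗ A, has every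
(n+1)-cocycle an (n+1)-coboundary, for all n. (The published statement is the vanishing of the
higher derived functors of invariants on coinduced modules; this row states the vanishing in
positive degrees of the cohomology of the cochain complex above, which the same appendix identifies
with those derived functors. P is taken in the universe of A, as the cochain modules require.) -/
theorem result (k : Type u) [CommRing k] (A : Type v) [CommRing A]
    [Bialgebra k A] [Module.Flat k A] (P : Type v) [AddCommGroup P] [Module k P] (n : ℕ) :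
    Hoch.cocycles k A (Hoch.Ind k A P) (n + 1) ≤ Hoch.coboundaries k A (Hoch.Ind k A P) (n + 1) := by
  classical
  let h₀ : (P ⊗[k] A) ⊗[k] A →ₗ[k] P ⊗[k] A :=
    ((TensorProduct.rid k P).toLinearMap ∘ₗ (Coalgebra.counit (R := k) (A := A)).lTensor P).rTensor A
  let W := Hoch.Ind k A P
  let C : ℕ → Type v := fun m => (Hoch.cochain k A W m : Type v)
  let h : ∀ m, (Hoch.cochain k A W (m + 1) : Type v) →ₗ[k] (Hoch.cochain k A W m : Type v) := fun m =>
    Nat.rec (motive := fun m => (Hoch.cochain k A W (m + 1) : Type v) →ₗ[k] (Hoch.cochain k A W m : Type v))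
      h₀ (fun _ ih => ih.rTensor A) m
  have hs : ∀ m, h (m + 1) = (h m).rTensor A := fun m => rfl
  have tail_nat : ∀ {M N : Type v} [AddCommGroup M] [Module k M] [AddCommGroup N] [Module k N] (f : M →ₗ[k] N),
      (f.rTensor A).rTensor A ∘ₗ Hoch.tail k A M = Hoch.tail k A N ∘ₗ f.rTensor A := by
    intro M N _ _ _ _ f
    refine TensorProduct.ext' fun m a => ?_
    simp only [LinearMap.comp_apply, LinearMap.rTensor_tmul, Hoch.tail_tmul]
    generalize Coalgebra.comul (R := k) a - a ⊗ₜ 1 - 1 ⊗ₜ a = z
    induction z using TensorProduct.induction_on with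
    | zero => simp
    | tmul x y => simp
    | add x y hx hy => simp only [TensorProduct.tmul_add, map_add, hx, hy]
  have key : ∀ m, h (m + 1) ∘ₗ Hoch.d k A W (m + 1) + Hoch.d k A W m ∘ₗ h m = LinearMap.id := by
    intro m
    induction m with
    | zero =>
      let d₀ : P ⊗[k] A →ₗ[k] (P ⊗[k] A) ⊗[k] A := Hoch.Ind.coactAux k A P - (TensorProduct.mk k (P ⊗[k] A) A).flip 1
      suffices H : h₀.rTensor A ∘ₗ (d₀.rTensor A + ((-1 : k) ^ 1) • Hoch.tail k A (P ⊗[k] A)) + d₀ ∘ₗ h₀ = LinearMap.id from H
      refine TensorProduct.ext' fun w b => ?_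
      simp only [LinearMap.add_apply, LinearMap.comp_apply, LinearMap.smul_apply, LinearMap.id_coe, id_eq]
      induction w using TensorProduct.induction_on with
      | zero => simp
      | add x y hx hy =>
        simp only [TensorProduct.add_tmul, map_add, smul_add] at hx hy ⊢
        linear_combination (norm := module) hx + hy
      | tmul p a =>
        have e0 : ∀ (p : P) (a : A), d₀ (p ⊗ₜ a) =
            (TensorProduct.assoc k P A A).symm (p ⊗ₜ Coalgebra.comul (R := k) a) - (p ⊗ₜ a) ⊗ₜ (1 : A) := fun p a => rfl
        have eh : ∀ (z : A ⊗[k] A), h₀ ((TensorProduct.assoc k P A A).symm (p ⊗ₜ z)) =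
            p ⊗ₜ (TensorProduct.lid k A ((Coalgebra.counit (R := k) (A := A)).rTensor A z)) := by
          intro z
          induction z using TensorProduct.induction_on with
          | zero => simp [h₀]
          | tmul x y => simp [h₀, TensorProduct.smul_tmul]
          | add x y hx hy => simp only [TensorProduct.tmul_add, map_add, hx, hy]
        have eb : h₀ ((p ⊗ₜ[k] a) ⊗ₜ[k] b) = p ⊗ₜ (Coalgebra.counit (R := k) a • b) := by
          simp [h₀, TensorProduct.smul_tmul]
        have ec : ∀ (z : A ⊗[k] A), (h₀.rTensor A) ((TensorProduct.assoc k (P ⊗[k] A) A A).symm ((p ⊗ₜ[k] a) ⊗ₜ[k] z)) =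
            (TensorProduct.assoc k P A A).symm (p ⊗ₜ (Coalgebra.counit (R := k) a • z)) := by
          intro z
          induction z using TensorProduct.induction_on with
          | zero => simp
          | tmul x y => simp [h₀, TensorProduct.smul_tmul']
          | add x y hx hy => simp only [TensorProduct.tmul_add, smul_add, map_add, hx, hy]
        rw [LinearMap.rTensor_tmul, e0, Hoch.tail_tmul, eb, e0, TensorProduct.sub_tmul, map_add, map_sub,
          LinearMap.rTensor_tmul, LinearMap.rTensor_tmul, eh, Coalgebra.rTensor_counit_comul]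
        rw [LinearMap.map_smul, pow_one]
        erw [ec]
        rw [show h₀ ((p ⊗ₜ[k] a) ⊗ₜ[k] (1 : A)) = p ⊗ₜ (Coalgebra.counit (R := k) a • (1 : A)) by simp [h₀, TensorProduct.smul_tmul]]
        simp only [map_smul, TensorProduct.tmul_smul, TensorProduct.smul_tmul', smul_sub, TensorProduct.tmul_sub, map_sub,
          TensorProduct.assoc_symm_tmul, TensorProduct.lid_tmul, one_smul]
        simp only [← TensorProduct.smul_tmul', map_smul]
        module
    | succ m ih =>
      have hsgn : ((-1 : k) ^ (m + 1 + 1)) = -((-1 : k) ^ (m + 1)) := by rw [pow_succ]; ring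
      rw [Hoch.d_succ k A W (m + 1), hs (m + 1), LinearMap.comp_add, ← LinearMap.rTensor_comp, LinearMap.comp_smul]
      have h2 : Hoch.d k A W (m + 1) ∘ₗ h (m + 1) =
          (Hoch.d k A W m ∘ₗ h m).rTensor A + ((-1 : k) ^ (m + 1)) • (Hoch.tail k A (Hoch.cochain k A W m) ∘ₗ (h m).rTensor A) := by
        rw [Hoch.d_succ k A W m, hs m, LinearMap.add_comp, ← LinearMap.rTensor_comp, LinearMap.smul_comp]
      rw [h2]
      rw [show (h (m + 1)).rTensor A ∘ₗ Hoch.tail k A (Hoch.cochain k A W (m + 1)) = Hoch.tail k A (Hoch.cochain k A W m) ∘ₗ (h m).rTensor A from tail_nat (h m), hsgn]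
      have : (h (m + 1) ∘ₗ Hoch.d k A W (m + 1)).rTensor A + (Hoch.d k A W m ∘ₗ h m).rTensor A = LinearMap.id := by
        rw [← LinearMap.rTensor_add, ih]; exact LinearMap.rTensor_id _ _
      linear_combination (norm := module) this
  intro x hx
  have h1 := LinearMap.congr_fun (key n) x
  rw [LinearMap.add_apply, LinearMap.comp_apply, LinearMap.mem_ker.1 hx, map_zero, zero_add] at h1
  exact ⟨h n x, h1⟩

end Groth.Agent.S16985
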