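import Groth.Statements.S16991
import Groth.Agent.QuadGrpL.Pf

set_option autoImplicit false
universe u v
open QuadGrp

namespace Groth.Agent.S16991

/-- Over a commutative ring in which 2 = 0, for a quadratic form Q on a finite free module of even rank
2m ≥ 2 whose polar form is a perfect pairing, every isometry of Q has determinant one. (The
published statement is the equality of the naive special orthogonal group with the orthogonal group
on fibres in characteristic 2; its proof gives this equality over every base of characteristic 2,
which is the form stated.) -/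
theorem result {R : Type u} [CommRing R] [CharP R 2]
    {M : Type v} [AddCommGroup M] [Module R M] [Module.Free R M] [Module.Finite R M]
    (m : ℕ) (hm : 1 ≤ m) (hM : Module.finrank R M = 2 * m) (Q : QuadraticForm R M) (hQ : QuadGrp.IsRegular Q) :
    QuadGrp.O Q = QuadGrp.SO' Q := by
  classical
  haveI : Nontrivial R := CharP.nontrivial_of_char_ne_one (R := R) (v := 2) (by decide)
  refine le_antisymm (fun g hg => ⟨hg, ?_⟩) inf_le_left
  let b := Module.finBasisOfFinrankEq R M hM
  have h2 : ∀ x : R, x + x = 0 := CharTwo.add_self_eq_zero
  have halt : QuadGrpLib.IsAltMat (QuadGrpLib.polarMat b Q) := by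
    refine ⟨fun i => ?_, fun i j => ?_⟩
    · show QuadraticMap.polar Q (b i) (b i) = 0
      rw [QuadraticMap.polar_self, two_nsmul, h2]
    · show QuadraticMap.polar Q (b j) (b i) = -QuadraticMap.polar Q (b i) (b j)
      rw [QuadraticMap.polar_comm, CharTwo.neg_eq]
  have h := QuadGrpLib.det_eq_one_of_congr halt (QuadGrpLib.isUnit_det_polarMat b Q hQ)
    (QuadGrpLib.polarMat_congr b Q g.toLinearMap hg)
  show g ∈ (LinearEquiv.det : (M ≃ₗ[R] M) →* Rˣ).ker
  rw [MonoidHom.mem_ker]
  ext
  rw [LinearEquiv.coe_det, ← LinearMap.det_toMatrix b]
  exact h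

end Groth.Agent.S16991
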