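import Groth.Statements.S16992
import Groth.Agent.QuadCliff.OddUse

set_option autoImplicit false
universe u v
open QuadGrp

namespace Groth.Agent.S16992

/-- Let Q be a quadratic form on a free module with a basis indexed by Fin (2m+1) over a commutative
ring, whose half-discriminant in that basis is a unit. If z is a central element of the Clifford
algebra C(Q) which is odd for its ℤ/2-grading, then the principal anti-involution of C(Q) (the one
extending v ↦ −v on the module) sends z to (−1)^(m+1) z. Equivalently: on the centre this
anti-involution is the identity when the rank is 3 mod 4, and is the involution negating the odd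
part when the rank is 1 mod 4. -/
theorem result {R : Type u} [CommRing R] {M : Type v} [AddCommGroup M] [Module R M]
    (m : ℕ) (b : Module.Basis (Fin (2 * m + 1)) R M) (Q : QuadraticForm R M)
    (hQ : QuadGrp.IsSemiregular b (LinearEquiv.refl R R) Q)
    (z : CliffordAlgebra Q) (hz : z ∈ Subalgebra.center R (CliffordAlgebra Q))
    (hz1 : z ∈ CliffordAlgebra.evenOdd Q 1) :
    star z = ((-1 : R) ^ (m + 1)) • z := by
  haveI := Module.Free.of_basis b
  rw [← sub_eq_zero]
  refine QuadCliff.eq_zero_of_forall_toBC fun p _ => ?_
  let A := Localization.AtPrime p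
  let b' := b.baseChange A
  have H := QuadCliff.exists_oddData b' (QuadCliff.isSemiregular_baseChange A b hQ)
  obtain ⟨z', Δ, hzo, hzc, hΔ, hzz, hstar⟩ := H.central
  have hc : ∀ v, CliffordAlgebra.ι (QuadGrp.baseChangeForm A Q) v * QuadCliff.toBC A Q z =
      QuadCliff.toBC A Q z * CliffordAlgebra.ι _ v := by
    intro v
    have e : (LinearEquiv.refl R M).baseChange R A M M v = v := by
      induction v using TensorProduct.induction_on with
      | zero => simp
      | add x y hx hy => rw [map_add, hx, hy]
      | tmul a x => simp [LinearEquiv.baseChange_tmul]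
    have h := QuadCliff.baseChange_conj p (LinearEquiv.refl R M) z
      (fun v => ((Subalgebra.mem_center_iff.mp hz) _).symm) v
    rw [e] at h; exact h.symm
  obtain ⟨s, hs⟩ := H.center_odd hzo hzc hΔ hzz (fun y => QuadCliff.mul_comm_of_ι hc y)
    (QuadCliff.toBC_mem_evenOdd A Q hz1)
  rw [map_sub, map_smul, ← QuadCliff.toBC_star, hs, CliffordAlgebra.star_smul, hstar, smul_smul,
    ← algebraMap_smul A ((-1 : R) ^ (m + 1)), smul_smul, map_pow, map_neg, map_one, mul_comm, sub_self]

end Groth.Agent.S16992
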