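import Groth.Statements.S16994
import Groth.Agent.QuadCliff.OddUse

set_option autoImplicit false
universe u v
open QuadGrp

namespace Groth.Agent.S16994

/-- Let Q be a quadratic form on a finite free module M with a basis indexed by Fin (2m+1) over a
commutative ring, whose half-discriminant in that basis is a unit. Then conjugation by any unit of
the Clifford algebra C(Q) normalising M induces on M an isometry of Q of determinant one (the
conjugation representation of the naive Clifford group is valued in the special orthogonal group). -/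
theorem result {R : Type u} [CommRing R] {M : Type v} [AddCommGroup M] [Module R M] [Module.Free R M] [Module.Finite R M]
    (m : ℕ) (b : Module.Basis (Fin (2 * m + 1)) R M) (Q : QuadraticForm R M)
    (hQ : QuadGrp.IsSemiregular b (LinearEquiv.refl R R) Q)
    (u : (CliffordAlgebra Q)ˣ) (hu : u ∈ QuadGrp.GPin' Q) :
    ∃ g ∈ QuadGrp.SO' Q, ∀ v : M,
      (u : CliffordAlgebra Q) * CliffordAlgebra.ι Q v * ↑u⁻¹ = CliffordAlgebra.ι Q (g v) := by
  obtain ⟨g, hg, hc⟩ := QuadCliff.exists_isometry_of_mem_GPin' b hu
  refine ⟨g, ⟨hg, MonoidHom.mem_ker.mpr (Units.ext ?_)⟩, fun v => by rw [hc, Units.mul_inv_cancel_right]⟩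
  rw [LinearEquiv.coe_det, Units.val_one, ← sub_eq_zero]
  refine QuadCliff.eq_zero_of_forall_atPrime fun p _ => ?_
  let A := Localization.AtPrime p
  let b' := b.baseChange A
  have H := QuadCliff.exists_oddData b' (QuadCliff.isSemiregular_baseChange A b hQ)
  obtain ⟨z', Δ, hzo, hzc, hΔ, hzz, -⟩ := H.central
  have := H.det_of_conj hzo hzc hΔ hzz (odd_two_mul_add_one m) b' (g.baseChange R A M M)
    (QuadCliff.baseChange_mem_O A Q g hg) (u := Units.map (QuadCliff.toBC A Q).toRingHom.toMonoidHom u)
    (QuadCliff.baseChange_conj p g _ hc)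
  rw [QuadCliff.det_baseChange A b g] at this
  rw [map_sub, this, map_one, sub_self]

end Groth.Agent.S16994
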