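import Groth.Statements.S16997
import Groth.Agent.QuadCliff.OddUse

set_option autoImplicit false
universe u v
open QuadGrp

namespace Groth.Agent.S16997

theorem expand_sq {A : Type*} [CommRing A] {C : Type*} [Ring C] [Algebra A C] (z : C) (Δ r s N : A)
    (hzz : z * z = algebraMap A C Δ) :
    algebraMap A C ((r * r + s * s * Δ) * N) + (2 * r * s * N) • z =
      (algebraMap A C r + s • z) * (algebraMap A C r + s • z) * algebraMap A C N := by
  simp only [Algebra.algebraMap_eq_smul_one, mul_add, add_mul, smul_mul_assoc, mul_smul_comm, smul_smul,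
    one_mul, mul_one, hzz, smul_add]
  module

/-- Over a commutative ring in which 2 is invertible, let Q be a quadratic form on a finite free module
with a basis indexed by Fin (2m+1), m odd (rank congruent to 3 mod 4), whose half-discriminant in
that basis is a unit. Then every unit of the Clifford algebra normalising the module and of Clifford
norm one is locally homogeneous: the Pin group equals the naive Pin group. (The published statement
adds the converse: for rank 1 mod 4, or when 2 is not a unit on the base, the two group schemes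
differ.) -/
theorem result {R : Type u} [CommRing R] [Invertible (2 : R)]
    {M : Type v} [AddCommGroup M] [Module R M] [Module.Free R M] [Module.Finite R M]
    (m : ℕ) (hm : Odd m) (b : Module.Basis (Fin (2 * m + 1)) R M) (Q : QuadraticForm R M)
    (hQ : QuadGrp.IsSemiregular b (LinearEquiv.refl R R) Q) :
    QuadGrp.Pin Q = QuadGrp.Pin' Q := by
  refine le_antisymm (fun u hu => ⟨hu.1.1, hu.2⟩) fun u hu => ⟨⟨hu.1, ?_⟩, hu.2⟩
  refine (QuadGrp.mem_LH Q u).mpr (QuadCliff.isLocHomog_of_forall_atPrime b u fun p _ => ?_)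
  obtain ⟨g, hg, hc⟩ := QuadCliff.exists_isometry_of_mem_GPin' b hu.1
  let A := Localization.AtPrime p
  let b' := b.baseChange A
  have H := QuadCliff.exists_oddData b' (QuadCliff.isSemiregular_baseChange A b hQ)
  obtain ⟨z, Δ, hzo, hzc, hΔ, hzz, hstar⟩ := H.central
  let uA : (CliffordAlgebra (QuadGrp.baseChangeForm A Q))ˣ :=
    Units.map (QuadCliff.toBC A Q).toRingHom.toMonoidHom u
  have hcA := QuadCliff.baseChange_conj p g _ hc
  have hnorm : star (uA : CliffordAlgebra (QuadGrp.baseChangeForm A Q)) * uA = 1 := by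
    show star (QuadCliff.toBC A Q (u : CliffordAlgebra Q)) * QuadCliff.toBC A Q u = 1
    rw [QuadCliff.toBC_star, ← map_mul, (QuadGrp.mem_normOne Q u).mp hu.2, map_one]
  obtain ⟨c, u0, hcc, hu0, hu0c, he⟩ := H.exists_factor hzo hzc hΔ hzz (odd_two_mul_add_one m) b'
    (g.baseChange R A M M) (QuadCliff.baseChange_mem_O A Q g hg) (u := uA) hcA
  obtain ⟨r, s, hrs⟩ := H.center_mem hzo hzc hΔ hzz (x := (c : CliffordAlgebra _)) (fun y => hcc y)
  have hstarz : star z = z := by rw [hstar, Even.neg_one_pow (by exact hm.add_one), one_smul]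
  have hstarc : star (c : CliffordAlgebra (QuadGrp.baseChangeForm A Q)) = c := by
    rw [hrs, star_add, CliffordAlgebra.star_algebraMap, CliffordAlgebra.star_smul, hstarz]
  have hN0 : star (u0 : CliffordAlgebra (QuadGrp.baseChangeForm A Q)) * (u0 : CliffordAlgebra (QuadGrp.baseChangeForm A Q)) ∈
      CliffordAlgebra.evenOdd (QuadGrp.baseChangeForm A Q) 0 := by
    have hsu : star (u0 : CliffordAlgebra (QuadGrp.baseChangeForm A Q)) ∈
        CliffordAlgebra.evenOdd (QuadGrp.baseChangeForm A Q) 0 := by
      rw [CliffordAlgebra.star_def, CliffordAlgebra.involute_eq_of_mem_even hu0]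
      exact ((CliffordAlgebra.reverse_mem_evenOdd_iff (Q := QuadGrp.baseChangeForm A Q)).mpr hu0)
    simpa using SetLike.mul_mem_graded hsu hu0
  have hNc : ∀ v, CliffordAlgebra.ι _ v * (star (u0 : CliffordAlgebra (QuadGrp.baseChangeForm A Q)) * (u0 : CliffordAlgebra (QuadGrp.baseChangeForm A Q))) =
      (star (u0 : CliffordAlgebra (QuadGrp.baseChangeForm A Q)) * (u0 : CliffordAlgebra (QuadGrp.baseChangeForm A Q))) * CliffordAlgebra.ι _ v := by
    intro v
    have h := congrArg star (hu0c v)
    rw [star_mul, star_mul, CliffordAlgebra.star_ι, CliffordAlgebra.star_ι, neg_mul, mul_neg, neg_inj] at h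
    rw [← mul_assoc, h, mul_assoc, ← hu0c, ← mul_assoc]
  obtain ⟨N, hN⟩ := H.even_center _ hN0 (fun y _ => (QuadCliff.mul_comm_of_ι hNc y).symm)
  rw [he, star_mul, hstarc] at hnorm
  replace hnorm : (c : CliffordAlgebra (QuadGrp.baseChangeForm A Q)) * c * algebraMap A _ N = 1 := by
    rw [← hN, ← hnorm]
    simp only [← mul_assoc]
    rw [hcc (star (u0 : CliffordAlgebra (QuadGrp.baseChangeForm A Q))),
      mul_assoc (c : CliffordAlgebra (QuadGrp.baseChangeForm A Q)) (star _) (c : CliffordAlgebra _),
      hcc (star (u0 : CliffordAlgebra (QuadGrp.baseChangeForm A Q))), ← mul_assoc]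
  rw [hrs] at hnorm
  have key : algebraMap A (CliffordAlgebra (QuadGrp.baseChangeForm A Q)) ((r * r + s * s * Δ) * N) +
      (2 * r * s * N) • z = algebraMap A _ 1 + 0 := by
    rw [map_one, add_zero]
    exact (expand_sq z Δ r s N hzz).trans hnorm
  obtain ⟨k0, k1⟩ := QuadCliff.decomp_unique (SetLike.algebraMap_mem_graded _ _) (SetLike.algebraMap_mem_graded _ _)
    (Submodule.smul_mem _ _ hzo) (Submodule.zero_mem _) key
  have hone : (r * r + s * s * Δ) * N = 1 := QuadCliff.algebraMap_injective b' k0
  have hrsN : 2 * r * s * N = 0 := by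
    refine QuadCliff.algebraMap_injective (Q := QuadGrp.baseChangeForm A Q) b' ?_
    rw [map_zero]
    exact (QuadCliff.OddData.isUnit_z hΔ hzz).mul_left_eq_zero.mp (by rw [← Algebra.smul_def]; exact k1)
  have h2 : IsUnit (2 : A) := by
    have := (isUnit_of_invertible (2 : R)).map (algebraMap R A)
    rwa [map_ofNat] at this
  have hNu : IsUnit N := IsUnit.of_mul_eq_one_right _ hone
  have hrs0 : r * s = 0 := by
    have h3 : (2 * N) * (r * s) = 0 := by linear_combination hrsN
    exact (h2.mul hNu).mul_right_eq_zero.mp h3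
  show (uA : CliffordAlgebra (QuadGrp.baseChangeForm A Q)) ∈ _ ∨ (uA : CliffordAlgebra (QuadGrp.baseChangeForm A Q)) ∈ _
  rw [he, hrs]
  by_cases hr : IsUnit r
  · left
    rw [hr.mul_right_eq_zero.mp hrs0, zero_smul, add_zero]
    simpa using SetLike.mul_mem_graded (SetLike.algebraMap_mem_graded (CliffordAlgebra.evenOdd _) r) hu0
  · right
    have hsum : IsUnit (r * r + s * s * Δ) := IsUnit.of_mul_eq_one _ hone
    have hs : IsUnit s := by
      by_contra hs
      exact (IsLocalRing.nonunits_add (fun h => hr (IsUnit.mul_iff.mp h).1)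
        (fun h => hs (IsUnit.mul_iff.mp (IsUnit.mul_iff.mp h).1).1)) hsum
    rw [hs.mul_left_eq_zero.mp hrs0, map_zero, zero_add, smul_mul_assoc]
    exact Submodule.smul_mem _ _ (by simpa using SetLike.mul_mem_graded hzo hu0)

end Groth.Agent.S16997
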