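import Groth.Statements.S16999
import Groth.Agent.QuadCliff.OddUse

set_option autoImplicit false
universe u v
open QuadGrp

namespace Groth.Agent.S16999

/-- Centre over a local base: over a local ring R, let Q be a quadratic form on a free module M with a
basis indexed by Fin (2m+1) whose half-discriminant in that basis is a unit. Then the centre of the
Clifford algebra C(Q) is generated by the square root of a unit: there is a central unit z, odd for
the ℤ/2-grading, with z² a scalar, such that 1, z are linearly independent and span the centre. (The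
published statement: the centre is a ℤ/2-graded locally free module of rank 2 with degree-0 part the
structure sheaf and degree-1 part an invertible sheaf squaring to it; over a local base this is the
form stated.) -/
theorem result {R : Type u} [CommRing R] [IsLocalRing R]
    {M : Type v} [AddCommGroup M] [Module R M]
    (m : ℕ) (b : Module.Basis (Fin (2 * m + 1)) R M) (Q : QuadraticForm R M)
    (hQ : QuadGrp.IsSemiregular b (LinearEquiv.refl R R) Q) :
    ∃ z : CliffordAlgebra Q, z ∈ Subalgebra.center R (CliffordAlgebra Q) ∧ z ∈ CliffordAlgebra.evenOdd Q 1 ∧ IsUnit z ∧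
      z * z ∈ (algebraMap R (CliffordAlgebra Q)).range ∧ LinearIndependent R ![(1 : CliffordAlgebra Q), z] ∧
      Subalgebra.toSubmodule (Subalgebra.center R (CliffordAlgebra Q)) = Submodule.span R {1, z} := by
  obtain ⟨⟨z, Δ, hzo, hzc, hΔ, hzz, -⟩, hev, hin⟩ := QuadCliff.exists_oddData b hQ
  have H : QuadCliff.OddData Q m := QuadCliff.exists_oddData b hQ
  have hzcen : z ∈ Subalgebra.center R (CliffordAlgebra Q) := Subalgebra.mem_center_iff.mpr fun x => (hzc x).symm
  refine ⟨z, hzcen, hzo, QuadCliff.OddData.isUnit_z hΔ hzz, ⟨Δ, hzz.symm⟩, ?_, ?_⟩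
  · rw [LinearIndependent.pair_iff]
    intro r s hrs
    obtain ⟨h0, h1⟩ := QuadCliff.decomp_unique (Submodule.smul_mem _ r (SetLike.one_mem_graded (CliffordAlgebra.evenOdd Q)))
      (Submodule.zero_mem _) (Submodule.smul_mem _ s hzo) (Submodule.zero_mem _) (hrs.trans (add_zero 0).symm)
    have hr : r = 0 := QuadCliff.algebraMap_injective (Q := Q) b (by rw [map_zero, Algebra.algebraMap_eq_smul_one, h0])
    refine ⟨hr, QuadCliff.algebraMap_injective (Q := Q) b ?_⟩
    rw [map_zero]
    exact (QuadCliff.OddData.isUnit_z hΔ hzz).mul_left_eq_zero.mp (by rw [← Algebra.smul_def]; exact h1)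
  · refine le_antisymm (fun x hx => ?_) (Submodule.span_le.mpr ?_)
    · obtain ⟨r, s, rfl⟩ := H.center_mem hzo hzc hΔ hzz (x := x) ((Subalgebra.mem_center_iff (R := R)).mp hx)
      exact Submodule.mem_span_pair.mpr ⟨r, s, by rw [Algebra.algebraMap_eq_smul_one]⟩
    · rintro x (rfl | rfl)
      · exact Subalgebra.one_mem _
      · exact hzcen

end Groth.Agent.S16999
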