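import Groth.Statements.S17000
import Groth.Agent.QuadSch.SplitZ

set_option autoImplicit false
open CategoryTheory AlgebraicGeometry
open QuadGrp

namespace Groth.Agent.S17000

theorem aux (m n : ℕ) (hm : 1 ≤ m) (hn : n = m * 2)
    (G : Over (Spec (CommRingCat.of ℤ))) [GrpObj G] (D : QuadGrp.SOrth'Rep (QuadGrp.splitForm ℤ n) G) :
    AlgebraicGeometry.IsReduced G.left ∧ ¬ AlgebraicGeometry.Flat G.hom := by
  subst hn
  have hQ := QuadSch.isNondeg_split ℤ m
  have P := QuadSch.sorth'PointsEquiv hQ D
  have h2m : (Ideal.span {(2 : ℤ)}).IsMaximal :=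
    PrincipalIdealRing.isMaximal_of_irreducible Int.prime_two.irreducible
  obtain ⟨hr, hf⟩ := QuadSch.reduced_and_not_flat (QuadSch.qMat (QuadGrp.splitForm ℤ (m * 2))) two_ne_zero h2m
    ⟨m, by ring⟩ ((QuadSch.nondeg_qMat _ hQ).1 ⟨m, by ring⟩) (QuadSch.exists_det_neg_one hm)
  refine ⟨?_, fun h => hf (P.flat_iff.mp h)⟩
  haveI := hr
  exact isReduced_of_isOpenImmersion P.iso.inv

/-- For m ≥ 1, a group scheme over Spec ℤ which is the naive special orthogonal group (kernel of the
determinant on the orthogonal group) of the standard split quadratic form in 2m variables is a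
reduced scheme and is not flat over ℤ. (The published statement also identifies the complement of
the Dickson special orthogonal group inside it with the non-identity component of the orthogonal
group in characteristic 2.) -/
theorem result (m : ℕ) (hm : 1 ≤ m)
    (G : Over (Spec (CommRingCat.of ℤ))) [GrpObj G] (D : QuadGrp.SOrth'Rep (QuadGrp.splitForm ℤ (2 * m)) G) :
    AlgebraicGeometry.IsReduced G.left ∧ ¬ AlgebraicGeometry.Flat G.hom := by
  exact aux m (2 * m) hm (mul_comm 2 m) G D

end Groth.Agent.S17000
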