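import Groth.Statements.S17007
import Groth.Agent.QuadCliff.GPin

set_option autoImplicit false
universe u v
open QuadGrp

namespace Groth.Agent.S17007

/-- Over a local ring, for a quadratic form Q on a finite free module of even rank 2m ≥ 2 whose polar
form is a perfect pairing, the isometries satisfying the Dickson condition form a subgroup of index
2 in the group of all isometries. (Points-level form, over a local base, of: the Dickson invariant
from the orthogonal group onto the constant group ℤ/2 is surjective with kernel the special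
orthogonal group.) -/
theorem result {R : Type u} [CommRing R] [IsLocalRing R]
    {M : Type v} [AddCommGroup M] [Module R M] [Module.Free R M] [Module.Finite R M]
    (m : ℕ) (hm : 1 ≤ m) (hM : Module.finrank R M = 2 * m) (Q : QuadraticForm R M) (hQ : QuadGrp.IsRegular Q) :
    ((QuadGrp.SOeven Q).subgroupOf (QuadGrp.O Q)).index = 2 := by
  let b := Module.finBasisOfFinrankEq R M hM
  obtain ⟨η, hη⟩ := QuadCliff.exists_eta m Q b hQ
  have hn : 0 < 2 * m := by omega
  have hiff : ∀ g (hg : g ∈ QuadGrp.O Q),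
      g ∈ QuadGrp.SOeven Q ↔ QuadCliff.cmap g hg η = η := fun g hg =>
    ⟨fun ⟨_, h⟩ => (QuadCliff.isDicksonTrivial_iff b hQ hη g hg hn).mp h,
      fun h => ⟨hg, (QuadCliff.isDicksonTrivial_iff b hQ hη g hg hn).mpr h⟩⟩
  -- a reflection
  obtain ⟨r, w, hrw⟩ := QuadCliff.exists_sum_eq_one b hQ hn
  obtain ⟨v, hv⟩ : ∃ v, IsUnit (Q v) := by
    by_contra hall
    push Not at hall
    refine (IsLocalRing.maximalIdeal.isMaximal R).ne_top (Ideal.eq_top_of_isUnit_mem _ ?_ isUnit_one)
    rw [← hrw]
    exact Ideal.sum_mem _ fun i _ => Ideal.mul_mem_left _ _ (hall _)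
  obtain ⟨c, hc⟩ := hv.exists_left_inv
  have hu : IsUnit (CliffordAlgebra.ι Q v) :=
    ⟨⟨CliffordAlgebra.ι Q v, c • CliffordAlgebra.ι Q v,
      by rw [mul_smul_comm, CliffordAlgebra.ι_sq_scalar, Algebra.smul_def, ← map_mul, hc, map_one],
      by rw [smul_mul_assoc, CliffordAlgebra.ι_sq_scalar, Algebra.smul_def, ← map_mul, hc, map_one]⟩, rfl⟩
  let T : M →ₗ[R] M := (c • QuadraticMap.polarBilin Q v).smulRight v - LinearMap.id
  have hT : ∀ x, T x = (c * QuadraticMap.polar Q v x) • v - x := fun x => rfl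
  have hTT : T.comp T = LinearMap.id := by
    refine LinearMap.ext fun x => ?_
    rw [LinearMap.comp_apply, hT, hT, LinearMap.id_apply, QuadraticMap.polar_sub_right,
      QuadraticMap.polar_smul_right, QuadraticMap.polar_self, smul_eq_mul, two_nsmul,
      show c * (c * QuadraticMap.polar Q v x * (Q v + Q v) - QuadraticMap.polar Q v x) =
        c * QuadraticMap.polar Q v x by linear_combination (2 * c * QuadraticMap.polar Q v x) * hc]
    abel
  let g0 : M ≃ₗ[R] M := LinearEquiv.ofLinearMap T T hTT hTT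
  have hg0 : g0 ∈ QuadGrp.O Q := fun x => by
    show Q (T x) = Q x
    rw [hT, sub_eq_add_neg, QuadraticMap.map_add Q _ (-x), QuadraticMap.map_smul, QuadraticMap.map_neg,
      QuadraticMap.polar_neg_right, QuadraticMap.polar_smul_left, smul_eq_mul, smul_eq_mul]
    linear_combination (c * QuadraticMap.polar Q v x ^ 2) * hc
  have hconj : ∀ x, CliffordAlgebra.ι Q v * CliffordAlgebra.ι Q x = CliffordAlgebra.ι Q (g0 x) * CliffordAlgebra.ι Q v := by
    intro x
    show _ = CliffordAlgebra.ι Q (T x) * _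
    rw [hT, map_sub, map_smul, sub_mul, smul_mul_assoc, CliffordAlgebra.ι_sq_scalar,
      Algebra.algebraMap_eq_smul_one, smul_smul, mul_comm c, mul_assoc, hc, mul_one, eq_sub_iff_add_eq, CliffordAlgebra.ι_mul_ι_add_swap,
      Algebra.algebraMap_eq_smul_one]
  have hflip : QuadCliff.cmap g0 hg0 η = 1 - η := by
    refine hu.mul_right_cancel ?_
    rw [← QuadCliff.conj_cmap hg0 hconj, hη.rel]
  rw [Subgroup.index_eq_two_iff]
  refine ⟨⟨g0, hg0⟩, fun ⟨g, hg⟩ => ?_⟩
  simp only [Subgroup.mem_subgroupOf, Subgroup.coe_mul]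
  rw [hiff _ ((QuadGrp.O Q).mul_mem hg hg0), hiff _ hg, ← QuadCliff.cmap_comp g g0 hg hg0, hflip, map_sub, map_one]
  rcases QuadCliff.dichotomy b hQ hη g hg hn with h | h
  · exact Or.inr ⟨h, by rw [h]; exact fun h' => QuadCliff.not_both b hQ hη g hg hn h (by rw [h, h'])⟩
  · refine Or.inl ⟨by rw [h, sub_sub_cancel], fun h' => QuadCliff.not_both b hQ hη g hg hn h' h⟩

end Groth.Agent.S17007
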