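import Groth.Statements.S17009
import Groth.Agent.QuadCliff.GPin

set_option autoImplicit false
universe u v
open QuadGrp

namespace Groth.Agent.S17009

/-- For a quadratic form Q on a finite free module M of even rank 2m ≥ 2 over a commutative ring whose
polar form is a perfect pairing, every unit of the Clifford algebra normalising M is locally
homogeneous for the ℤ/2-grading (some idempotent e of the base has e u even and (1 − e) u odd), so
the naive Clifford group is contained in, hence equal to, the Clifford group of locally homogeneous
normalising units. (False for degenerate forms: for the zero form on a rank-two module over the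
field with two elements, 1 + v normalises the module and is not locally homogeneous.) -/
theorem result {R : Type u} [CommRing R] {M : Type v} [AddCommGroup M] [Module R M] [Module.Free R M] [Module.Finite R M]
    (m : ℕ) (hm : 1 ≤ m) (hM : Module.finrank R M = 2 * m) (Q : QuadraticForm R M) (hQ : QuadGrp.IsRegular Q) :
    QuadGrp.GPin' Q ≤ QuadGrp.LH Q := by
  intro u hu
  rw [QuadGrp.mem_LH]
  rcases subsingleton_or_nontrivial R with hR | hR
  · haveI : Subsingleton (CliffordAlgebra Q) := Module.subsingleton R _
    exact ⟨0, by simp [IsIdempotentElem], by simp [Subsingleton.elim (u : CliffordAlgebra Q) 0],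
      by simp [Subsingleton.elim (u : CliffordAlgebra Q) 0]⟩
  let b := Module.finBasisOfFinrankEq R M hM
  obtain ⟨g, hg, hc⟩ := QuadCliff.exists_isometry_of_mem_GPin' b hu
  exact QuadCliff.isLocHomog_of_conj b hm hQ g u hc hg

end Groth.Agent.S17009
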