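import Groth.Statements.S17016
import Mathlib.Tactic

set_option autoImplicit false
universe u
open QuadGrp

namespace Groth.Agent.S17016

theorem split_eval (R : Type u) [CommRing R] (m : ℕ) (x : Fin (m * 2) → R) :
    QuadGrp.splitForm R (m * 2) x = ∑ i : Fin m, x (finProdFinEquiv (i, 0)) * x (finProdFinEquiv (i, 1)) := by
  have hm : m * 2 / 2 = m := by omega
  rw [QuadGrp.splitForm, dif_neg (by omega), add_zero, QuadraticMap.sum_apply]
  refine Fintype.sum_equiv (finCongr hm) _ _ fun i => ?_
  simp only [QuadraticMap.linMulLin_apply, LinearMap.proj_apply]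
  congr 2 <;> ext <;> simp [finProdFinEquiv] <;> omega

/-- For the standard split quadratic form Σ x_{2i} x_{2i+1} on R^{2m} over any commutative ring R, with
standard basis vectors e_j in the Clifford algebra, the product w of the elements 1 − 2 e_{2i}
e_{2i+1} (i < m, which pairwise commute) satisfies w² = 1 and anticommutes with every e_j. (Hence w
is central in the even Clifford algebra; over rings in which 2 is invertible (1 − w)/2 is the
non-trivial central idempotent of the even part.) -/
theorem result (R : Type u) [CommRing R] (m : ℕ) :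
    let Q := QuadGrp.splitForm R (m * 2)
    let e : Fin (m * 2) → CliffordAlgebra Q := fun j => CliffordAlgebra.ι Q (Pi.single j 1)
    let w : CliffordAlgebra Q :=
      ((List.finRange m).map fun i => 1 - 2 * (e (finProdFinEquiv (i, 0)) * e (finProdFinEquiv (i, 1)))).prod
    w * w = 1 ∧ ∀ j : Fin (m * 2), e j * w = -(w * e j) := by
  intro Q e w
  classical
  let P : Fin m → Fin 2 → Fin (m * 2) := fun i c => finProdFinEquiv (i, c)
  have hsingle : ∀ (j a : Fin m) (c d : Fin 2),
      (Pi.single (P j c) (1 : R) : Fin (m * 2) → R) (P a d) = if a = j ∧ d = c then 1 else 0 := by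
    intro j a c d
    simp only [Pi.single_apply, P, finProdFinEquiv.injective.eq_iff, Prod.mk.injEq]
  have hQ : ∀ j c, Q (Pi.single (P j c) 1) = 0 := by
    intro j c
    rw [split_eval]
    refine Finset.sum_eq_zero fun a _ => ?_
    show (Pi.single (P j c) (1 : R) : Fin (m * 2) → R) (P a 0) * (Pi.single (P j c) (1 : R) : Fin (m * 2) → R) (P a 1) = 0
    rw [hsingle, hsingle]
    fin_cases c <;> simp
  have hpol : ∀ i j c d, QuadraticMap.polar Q (Pi.single (P i c) 1) (Pi.single (P j d) 1) =
      if i = j ∧ c ≠ d then 1 else 0 := by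
    intro i j c d
    rw [QuadraticMap.polar, hQ, hQ, sub_zero, sub_zero, split_eval]
    show ∑ a, ((Pi.single (P i c) (1 : R) : Fin (m * 2) → R) (P a 0) + (Pi.single (P j d) (1 : R) : Fin (m * 2) → R) (P a 0)) *
      ((Pi.single (P i c) (1 : R) : Fin (m * 2) → R) (P a 1) + (Pi.single (P j d) (1 : R) : Fin (m * 2) → R) (P a 1)) = _
    simp only [hsingle]
    by_cases hij : i = j
    · subst hij
      rw [Finset.sum_eq_single i (fun a _ ha => by simp [ha]) (by simp)]
      fin_cases c <;> fin_cases d <;> simp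
    · refine Eq.trans (Finset.sum_eq_zero fun a _ => ?_) (by simp [hij])
      by_cases hi : a = i
      · subst hi; fin_cases c <;> simp [hij]
      · fin_cases d <;> simp [hi]
  let v : Fin m → Fin 2 → CliffordAlgebra Q := fun i c => e (P i c)
  have hanti : ∀ i j c d, i ≠ j → v i c * v j d = -(v j d * v i c) := by
    intro i j c d hij
    rw [eq_neg_iff_add_eq_zero]
    simp only [v, e]
    rw [CliffordAlgebra.ι_mul_ι_add_swap, hpol, if_neg (fun h => hij h.1), map_zero]
  have hsq : ∀ i c, v i c * v i c = 0 := fun i c => by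
    simp only [v, e]; rw [CliffordAlgebra.ι_sq_scalar, hQ, map_zero]
  have hone : ∀ i, v i 1 * v i 0 = 1 - v i 0 * v i 1 := fun i => by
    rw [eq_sub_iff_add_eq]
    simp only [v, e]
    rw [CliffordAlgebra.ι_mul_ι_add_swap, hpol, if_pos ⟨rfl, by decide⟩, map_one]
  let z : Fin m → CliffordAlgebra Q := fun i => 1 - 2 * (v i 0 * v i 1)
  have hzo : ∀ i j c, i ≠ j → v j c * z i = z i * v j c := by
    intro i j c hij
    have : v j c * (v i 0 * v i 1) = (v i 0 * v i 1) * v j c := by
      rw [← mul_assoc, hanti j i c 0 hij.symm, neg_mul, mul_assoc, hanti j i c 1 hij.symm, mul_neg, neg_neg, ← mul_assoc]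
    simp only [z, mul_sub, sub_mul, mul_one, one_mul, two_mul, mul_add, add_mul, this]
  have hidem : ∀ i, (v i 0 * v i 1) * (v i 0 * v i 1) = v i 0 * v i 1 := fun i => by
    rw [mul_assoc, ← mul_assoc (v i 1), hone, sub_mul, one_mul, mul_sub, ← mul_assoc (v i 0) (v i 0 * v i 1),
      ← mul_assoc (v i 0) (v i 0), hsq, zero_mul, zero_mul, sub_zero]
  have hzs : ∀ i, z i * z i = 1 := by
    intro i
    calc z i * z i = 1 - 4 * (v i 0 * v i 1) + 4 * ((v i 0 * v i 1) * (v i 0 * v i 1)) := by
          simp only [z]; noncomm_ring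
      _ = 1 := by rw [hidem, sub_add_cancel]
  have hzv : ∀ i c, v i c * z i = -(z i * v i c) := by
    intro i c
    rcases (by omega : c.val = 0 ∨ c.val = 1) with h | h
    · have hc : c = 0 := Fin.ext h
      subst hc
      have h1 : v i 0 * (v i 0 * v i 1) = 0 := by rw [← mul_assoc, hsq, zero_mul]
      have h2 : v i 0 * v i 1 * v i 0 = v i 0 := by rw [mul_assoc, hone, mul_sub, mul_one, h1, sub_zero]
      simp only [z, mul_sub, sub_mul, mul_one, one_mul, two_mul, mul_add, add_mul, h1, h2]
      abel
    · have hc : c = 1 := Fin.ext h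
      subst hc
      have h1 : v i 0 * v i 1 * v i 1 = 0 := by rw [mul_assoc, hsq, mul_zero]
      have h2 : v i 1 * (v i 0 * v i 1) = v i 1 := by rw [← mul_assoc, hone, sub_mul, one_mul, h1, sub_zero]
      simp only [z, mul_sub, sub_mul, mul_one, one_mul, two_mul, mul_add, add_mul, h1, h2]
      abel
  have hcomm : ∀ i j, i ≠ j → z j * z i = z i * z j := by
    intro i j hij
    have h0 := hzo i j 0 hij
    have h1 := hzo i j 1 hij
    have : (v j 0 * v j 1) * z i = z i * (v j 0 * v j 1) := by rw [mul_assoc, h1, ← mul_assoc, h0, mul_assoc]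
    show (1 - 2 * (v j 0 * v j 1)) * z i = z i * (1 - 2 * (v j 0 * v j 1))
    simp only [sub_mul, mul_sub, one_mul, mul_one, two_mul, add_mul, mul_add, this]
  have key : ∀ l : List (Fin m), l.Nodup → (l.map z).prod * (l.map z).prod = 1 ∧
      (∀ i, i ∉ l → z i * (l.map z).prod = (l.map z).prod * z i) ∧
      ∀ j c, (j ∈ l → v j c * (l.map z).prod = -((l.map z).prod * v j c)) ∧
        (j ∉ l → v j c * (l.map z).prod = (l.map z).prod * v j c) := by
    intro l hl
    induction l with
    | nil => simp
    | cons a l ih =>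
      rw [List.nodup_cons] at hl
      obtain ⟨h1, h2, h3⟩ := ih hl.2
      simp only [List.map_cons, List.prod_cons]
      refine ⟨?_, fun i hi => ?_, fun j c => ⟨fun hj => ?_, fun hj => ?_⟩⟩
      · rw [mul_assoc, ← mul_assoc _ (z a), ← h2 a hl.1, mul_assoc, h1, mul_one, hzs]
      · rw [List.mem_cons, not_or] at hi
        rw [← mul_assoc, hcomm a i (Ne.symm hi.1), mul_assoc, h2 i hi.2, mul_assoc]
      · rcases List.mem_cons.mp hj with rfl | hj'
        · rw [← mul_assoc, hzv, neg_mul, mul_assoc, (h3 j c).2 hl.1, mul_assoc]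
        · have hne : a ≠ j := fun h => hl.1 (h ▸ hj')
          rw [← mul_assoc, hzo a j c hne, mul_assoc, (h3 j c).1 hj', mul_neg, mul_assoc]
      · rw [List.mem_cons, not_or] at hj
        rw [← mul_assoc, hzo a j c (Ne.symm hj.1), mul_assoc, (h3 j c).2 hj.2, mul_assoc]
  obtain ⟨h1, -, h3⟩ := key (List.finRange m) (List.nodup_finRange m)
  refine ⟨h1, fun j => ?_⟩
  have := (h3 (finProdFinEquiv.symm j).1 (finProdFinEquiv.symm j).2).1 (List.mem_finRange _)
  rw [show v (finProdFinEquiv.symm j).1 (finProdFinEquiv.symm j).2 = e j from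
    congrArg e (finProdFinEquiv.apply_symm_apply j)] at this
  exact this

end Groth.Agent.S17016
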