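import Groth.Statements.S17017
import Groth.Agent.QuadCliff.OddUse

set_option autoImplicit false
universe u
open QuadGrp

namespace Groth.Agent.S17017

open CliffordAlgebra in
theorem contract_mem {R : Type u} [CommRing R] {M : Type u} [AddCommGroup M] [Module R M]
    {Q : QuadraticForm R M} (d : Module.Dual R M) {x : CliffordAlgebra Q} :
    (x ∈ evenOdd Q 0 → contractLeft (Q := Q) d x ∈ evenOdd Q 1) ∧
      (x ∈ evenOdd Q 1 → contractLeft (Q := Q) d x ∈ evenOdd Q 0) := by
  constructor
  · intro hx
    induction x, hx using even_induction with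
    | algebraMap r => rw [contractLeft_algebraMap]; exact Submodule.zero_mem _
    | add x y _ _ hx hy => rw [map_add]; exact Submodule.add_mem _ hx hy
    | ι_mul_ι_mul v w x hxm hx =>
      rw [mul_assoc, contractLeft_ι_mul, contractLeft_ι_mul]
      refine Submodule.sub_mem _ (Submodule.smul_mem _ _ ?_) ?_
      · simpa using SetLike.mul_mem_graded (ι_mem_evenOdd_one Q w) hxm
      · have h1 : d w • x - ι Q w * contractLeft (Q := Q) d x ∈ evenOdd Q 0 :=
          Submodule.sub_mem _ (Submodule.smul_mem _ _ hxm) (by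
            simpa [show (1 + 1 : ZMod 2) = 0 by decide] using SetLike.mul_mem_graded (ι_mem_evenOdd_one Q w) hx)
        simpa using SetLike.mul_mem_graded (ι_mem_evenOdd_one Q v) h1
  · intro hx
    induction x, hx using odd_induction with
    | ι v => rw [contractLeft_ι]; exact SetLike.algebraMap_mem_graded _ _
    | add x y _ _ hx hy => rw [map_add]; exact Submodule.add_mem _ hx hy
    | ι_mul_ι_mul v w x hxm hx =>
      rw [mul_assoc, contractLeft_ι_mul, contractLeft_ι_mul]
      refine Submodule.sub_mem _ (Submodule.smul_mem _ _ ?_) ?_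
      · simpa [show (1 + 1 : ZMod 2) = 0 by decide] using SetLike.mul_mem_graded (ι_mem_evenOdd_one Q w) hxm
      · have h1 : d w • x - ι Q w * contractLeft (Q := Q) d x ∈ evenOdd Q 1 :=
          Submodule.sub_mem _ (Submodule.smul_mem _ _ hxm) (by
            simpa using SetLike.mul_mem_graded (ι_mem_evenOdd_one Q w) hx)
        simpa [show (1 + 1 : ZMod 2) = 0 by decide] using SetLike.mul_mem_graded (ι_mem_evenOdd_one Q v) h1

open CliffordAlgebra in
theorem odd_scalar {R : Type u} [CommRing R] {M : Type u} [AddCommGroup M] [Module R M]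
    {Q : QuadraticForm R M} {x : CliffordAlgebra Q} (hx : x ∈ evenOdd Q 1)
    (h : ∃ r, x = algebraMap R _ r) : x = 0 := by
  obtain ⟨r, rfl⟩ := h
  exact (QuadCliff.decomp_unique (Submodule.zero_mem _) (SetLike.algebraMap_mem_graded _ r) hx
    (Submodule.zero_mem _) (by rw [zero_add, add_zero])).2

open CliffordAlgebra in
theorem mem_range_of_topT {R : Type u} [CommRing R] {M : Type u} [AddCommGroup M] [Module R M]
    {Q : QuadraticForm R M} (b : Module.Basis (Fin 3) R M) (x : CliffordAlgebra Q) (hx : x ∈ evenOdd Q 1)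
    (hT : QuadCliff.topT b x = 0) : x ∈ LinearMap.range (ι Q) := by
  let D : Fin 3 → Module.End R (CliffordAlgebra Q) := fun i => contractLeft (Q := Q) (b.coord i)
  have hsq : ∀ i y, D i (D i y) = 0 := fun i y => contractLeft_contractLeft _ y
  have hc : ∀ i j y, D i (D j y) = -D j (D i y) := fun i j y => contractLeft_comm _ _ y
  have a012 : D 0 (D 1 (D 2 x)) = 0 := by
    rw [← hT]
    simp [QuadCliff.topT, QuadCliff.contrProd, D, List.ofFn_succ, Module.End.mul_apply]
  have a102 : D 1 (D 0 (D 2 x)) = 0 := by rw [hc, a012, neg_zero]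
  have a021 : D 0 (D 2 (D 1 x)) = 0 := by rw [hc 2 1, map_neg, a012, neg_zero]
  have a120 : D 1 (D 2 (D 0 x)) = 0 := by rw [hc 2 0, map_neg, a102, neg_zero]
  have a201 : D 2 (D 0 (D 1 x)) = 0 := by rw [hc, a021, neg_zero]
  have a210 : D 2 (D 1 (D 0 x)) = 0 := by rw [hc, a120, neg_zero]
  have h3 : ∀ i j l, D i (D j (D l x)) = 0 := by
    intro i j l
    by_cases h1 : i = j
    · subst h1; exact hsq _ _
    by_cases h2 : j = l
    · subst h2; rw [hsq, map_zero]
    by_cases h4 : i = l
    · subst h4; rw [hc j i x, map_neg, hsq, neg_zero]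
    fin_cases i <;> fin_cases j <;> fin_cases l <;>
      first | exact absurd rfl h1 | exact absurd rfl h2 | exact absurd rfl h4 | assumption
  have h2 : ∀ i j, D i (D j x) = 0 := fun i j =>
    odd_scalar ((contract_mem _).1 ((contract_mem _).2 hx))
      (QuadCliff.eq_algebraMap_of_contract b _ fun l => h3 l i j)
  have h1 : ∀ j, ∃ r, D j x = algebraMap R _ r := fun j =>
    QuadCliff.eq_algebraMap_of_contract b _ fun l => h2 l j
  choose r hr using h1
  refine ⟨∑ j, r j • b j, (sub_eq_zero.mp ?_).symm⟩
  refine odd_scalar (Submodule.sub_mem _ hx (ι_mem_evenOdd_one Q _))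
    (QuadCliff.eq_algebraMap_of_contract b _ fun i => ?_)
  rw [map_sub, contractLeft_ι, show contractLeft (Q := Q) (b.coord i) x = algebraMap R _ (r i) from hr i, ← map_sub]
  simp [Finsupp.single_apply]

/-- Over a field k, for the standard split quadratic form x₀² + x₁x₂ on k³, every even unit of the
Clifford algebra normalises the subspace k³, i.e. lies in the naive Clifford group; so the even
Clifford group is the whole unit group of the even Clifford algebra. (The published claim is made
over fields of characteristic different from 2; here it is stated for every field.) -/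
theorem result (k : Type u) [Field k] :
    QuadGrp.evenUnits (QuadGrp.splitForm k 3) ≤ QuadGrp.GPin' (QuadGrp.splitForm k 3) := by
  intro u hu
  let Q := QuadGrp.splitForm k 3
  let b := Pi.basisFun k (Fin 3)
  rw [QuadGrp.mem_evenUnits] at hu
  have hui := QuadCliff.inv_mem_even hu
  have key : ∀ (w w' : CliffordAlgebra Q), w ∈ CliffordAlgebra.evenOdd Q 0 → w' ∈ CliffordAlgebra.evenOdd Q 0 →
      w' * w = 1 → ∀ v, w * CliffordAlgebra.ι Q v * w' ∈ LinearMap.range (CliffordAlgebra.ι Q) := by
    intro w w' hw hw' hww v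
    refine mem_range_of_topT b _ (by
      simpa using SetLike.mul_mem_graded (SetLike.mul_mem_graded hw (CliffordAlgebra.ι_mem_evenOdd_one Q v)) hw') ?_
    rw [mul_assoc, QuadCliff.topT_comm_even b hw, mul_assoc, hww, mul_one]
    have hsimp : QuadCliff.topT b (CliffordAlgebra.ι Q v) = 0 := by
      simp [QuadCliff.topT, QuadCliff.contrProd, List.ofFn_succ, Module.End.mul_apply]
    exact hsimp
  rw [QuadGrp.mem_GPin']
  refine SetLike.ext fun x => ⟨?_, fun hx => ?_⟩
  · rintro ⟨_, ⟨v, rfl⟩, rfl⟩
    have := key u ↑u⁻¹ hu hui u.inv_mul v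
    simpa [ConjAct.units_smul_def] using this
  · obtain ⟨v, rfl⟩ := hx
    obtain ⟨w, hw⟩ := key ↑u⁻¹ u hui hu u.mul_inv v
    refine ⟨CliffordAlgebra.ι Q w, ⟨w, rfl⟩, ?_⟩
    simp [ConjAct.units_smul_def, hw, mul_assoc, Q]

end Groth.Agent.S17017
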