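import Groth.Statements.S17022
import Groth.Agent.S11571
import Groth.Agent.S0220
import Groth.Agent.S14339
import Groth.Agent.S7843
import Groth.Agent.CurveFFLib.Auto
import Groth.Agent.CycPushLib.FiniteLen
import Groth.Agent.CurvOpenLib.Smooth
import Groth.Agent.FibDimLib.Comps
import Groth.Agent.SmoothDimLib.Chart
import Groth.Agent.CurveAmpLib.Main
import Groth.Agent.CurveAmpLib.Embed
import Groth.Agent.GenusZeroLib.Apps
import Groth.Agent.GenusZeroLib.PointDown
import Groth.Agent.GenusZeroLib.PSmooth
import Groth.Agent.GenusZeroLib.PSpace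
import Groth.Agent.CurvLib.RRBasic
import Mathlib.AlgebraicGeometry.ZariskisMainTheorem
import Mathlib.AlgebraicGeometry.Artinian
import Groth.Agent.RRVanLib.GG

set_option autoImplicit false
universe u
open CategoryTheory CategoryTheory.Limits AlgebraicGeometry
open Curves

namespace Groth.Agent.S17022

attribute [local instance] CurveDualLib.algFF Curv2.resAlgebra

/-- A map out of a curve that contracts it to no point is finite. -/
theorem isFinite_of_nonconstant (k : Type u) [Field k] {C Y : Scheme.{u}} [C.Over (Spec (CommRingCat.of k))] [IsIntegral C]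
    [IsProper (C ↘ Spec (CommRingCat.of k))] (hdim : topologicalKrullDim C = 1) (f : C ⟶ Y) [IsProper f]
    (hne : ∀ y : Y, ∃ c, f c ≠ y) : IsFinite f := by
  haveI := CurvLib.isNoetherian k (X := C)
  have hfib : ∀ y : Y, (f ⁻¹' {y}).Finite := fun y => by
    by_cases hy : IsClosed ({y} : Set Y)
    · refine (CurvLib.finite_isClosed_of_dim_le_zero (hy.preimage f.continuous) (CurvLib.topologicalKrullDim_le_zero_of_lt hdim (hy.preimage f.continuous) fun h => ?_)).1
      obtain ⟨c, hc⟩ := hne y
      exact hc (h.ge (Set.mem_univ c))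
    · refine Set.Finite.subset (Set.finite_singleton (genericPoint C)) fun c hc => ?_
      by_contra hcg
      have hcl : closure ({c} : Set C) ≠ Set.univ := fun h =>
        hcg ((genericPoint_spec C).eq (show IsGenericPoint c Set.univ from h)).symm
      have h1 := (CurvLib.finite_isClosed_of_dim_le_zero isClosed_closure (CurvLib.topologicalKrullDim_le_zero_of_lt hdim isClosed_closure hcl)).2 c (subset_closure rfl)
      refine hy ?_
      rw [← (show f c = y from hc), ← Set.image_singleton]
      exact f.isClosedMap _ h1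
  haveI : LocallyQuasiFinite f := LocallyQuasiFinite.of_finite_preimage_singleton f hfib
  exact (IsFinite.iff_isProper_and_locallyQuasiFinite ..).mpr ⟨inferInstance, inferInstance⟩

/-- A proper curve is projective. -/
theorem exists_proj (k : Type u) [Field k] (X : Scheme.{u}) [X.Over (Spec (CommRingCat.of k))]
    [IsProper (X ↘ (Spec (CommRingCat.of k)))] (hdim : topologicalKrullDim X ≤ 1) :
    ∃ (N : ℕ) (i : X ⟶ CohB1.ProjSpace N k), IsClosedImmersion i ∧
      i ≫ CohB1.ProjSpace.toSpec N k = X ↘ (Spec (CommRingCat.of k)) := by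
  let q := X ↘ (Spec (CommRingCat.of k))
  haveI := CurvLib.isNoetherian k (X := X)
  haveI : X.IsSeparated := ⟨by rw [← terminal.comp_from q]; infer_instance⟩
  obtain ⟨L, hA⟩ := CurveAmpLib.exists_ample hdim
  obtain ⟨N, r, hr, hrq⟩ : ∃ (N : ℕ) (r : X ⟶ CohB1.ProjSpace N k), IsImmersion r ∧
    r ≫ CohB1.ProjSpace.toSpec N k = q := CurveAmpLib.exists_immersion q hA.1 hA
  haveI := hr
  haveI : IsProper (CohB1.ProjSpace.toSpec N k) := ProjDegLib.toSpec_isProper k N
  haveI : IsProper (r ≫ CohB1.ProjSpace.toSpec N k) := hrq.symm ▸ (inferInstance : IsProper q)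
  haveI : IsProper r := IsProper.of_comp r (CohB1.ProjSpace.toSpec N k)
  exact ⟨N, r, IsClosedImmersion.iff_isPreimmersion.2 ⟨inferInstance, r.isClosedMap.isClosed_range⟩, hrq⟩

/-- Let k be an algebraically closed field of characteristic zero, C a connected scheme which is proper
and smooth of relative dimension 1 over k, and f : C → P¹_k a surjective morphism over k which is
étale over the complement of two closed points p, q of P¹_k (p = q is allowed). Then C is isomorphic
to P¹_k over k, and f has exactly one point over p and exactly one point over q. (Existence of an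
isomorphism only; the published statement moreover identifies f, in suitable coordinates, with (a :
b) ↦ (aⁿ : bⁿ) for some n. The published statement leaves implicit that the ground field is
algebraically closed and that C is a connected smooth proper curve; its argument uses both, and over
a non-closed field the projective line over a finite extension is a connected cover with no
ramification.) -/
theorem result (k : Type u) [Field k]
    [IsAlgClosed k] [CharZero k] {C : Scheme.{u}} (s : C ⟶ Spec (CommRingCat.of k))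
    [IsProper s] [SmoothOfRelativeDimension 1 s] [ConnectedSpace C]
    (f : C ⟶ CohB1.ProjSpace 1 k) (hf : f ≫ CohB1.ProjSpace.toSpec 1 k = s) [Surjective f]
    (p q : ↥(CohB1.ProjSpace 1 k)) (hp : IsClosed ({p} : Set ↥(CohB1.ProjSpace 1 k))) (hq : IsClosed ({q} : Set ↥(CohB1.ProjSpace 1 k)))
    (W : (CohB1.ProjSpace 1 k).Opens) (hW : (W : Set ↥(CohB1.ProjSpace 1 k)) = {p, q}ᶜ) [Etale (f ∣_ W)] :
    (∃ e : C ≅ CohB1.ProjSpace 1 k, e.hom ≫ CohB1.ProjSpace.toSpec 1 k = s) ∧
      (∀ x y : C, f.base x = p → f.base y = p → x = y) ∧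
      (∀ x y : C, f.base x = q → f.base y = q → x = y) := by
  classical
  letI : C.Over (Spec (CommRingCat.of k)) := ⟨s⟩
  letI : (CohB1.ProjSpace 1 k).Over (Spec (CommRingCat.of k)) := ⟨CohB1.ProjSpace.toSpec 1 k⟩
  haveI : IsProper (C ↘ Spec (CommRingCat.of k)) := ‹IsProper s›
  haveI : Smooth (C ↘ Spec (CommRingCat.of k)) := SmoothOfRelativeDimension.smooth 1 s
  haveI : IsIntegral C := S7843.isIntegral_of_smooth (k := k)
  haveI := GenusZeroLib.isIntegral_projSpace (k := k) (n := 1)
  haveI : IsProper (CohB1.ProjSpace.toSpec 1 k) := ProjDegLib.toSpec_isProper k 1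
  haveI : IsProper (CohB1.ProjSpace 1 k ↘ Spec (CommRingCat.of k)) := ‹IsProper (CohB1.ProjSpace.toSpec 1 k)›
  haveI : Smooth (CohB1.ProjSpace 1 k ↘ Spec (CommRingCat.of k)) := GenusZeroLib.smooth_toSpec 1 k
  haveI : IsNoetherian C := CurvLib.isNoetherian k
  haveI : IsNoetherian (CohB1.ProjSpace 1 k) := CurvLib.isNoetherian k
  let Y := CohB1.ProjSpace 1 k
  have hP := GenusZeroLib.dim_projSpace k 1
  -- the dimension
  have hdim : topologicalKrullDim C = 1 := by
    have h := FibDimLib.fibreDimAt_smoothOfRelativeDimension 1 s (genericPoint C)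
    rw [SmoothDimLib.fibreDimAt_eq_localDim, FibDimLib.localDim_of_irreducible s] at h
    exact h
  have hnC := HurwitzLib.isNormalScheme_of_smooth (k := k) (X := C)
  have hnP := HurwitzLib.isNormalScheme_of_smooth (k := k) (X := CohB1.ProjSpace 1 k)
  -- the map is finite and flat
  haveI : IsProper (f ≫ CohB1.ProjSpace.toSpec 1 k) := hf.symm ▸ ‹IsProper s›
  haveI : IsProper f := IsProper.of_comp f (CohB1.ProjSpace.toSpec 1 k)
  have hpg : p ≠ genericPoint Y := GenusZeroLib.ne_genericPoint_of_isClosed hP hp
  have hsurj : Function.Surjective f := f.surjective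
  haveI : IsFinite f := isFinite_of_nonconstant k hdim f fun y => by
    by_cases hy : y = p
    · obtain ⟨c, hc⟩ := hsurj (genericPoint Y)
      exact ⟨c, fun h => hpg (hy ▸ h.symm.trans hc)⟩
    · obtain ⟨c, hc⟩ := hsurj p
      exact ⟨c, fun h => hy (h.symm.trans hc)⟩
  haveI hflat : Flat f := S0220.result k C Y s (CohB1.ProjSpace.toSpec 1 k) hdim hP hnP f hf (by
    obtain ⟨a, ha⟩ := hsurj p
    obtain ⟨b, hb⟩ := hsurj (genericPoint Y)
    exact ⟨f a, Set.mem_range_self _, f b, Set.mem_range_self _, fun h => hpg (ha.symm.trans (h.trans hb))⟩)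
  have e := PlaneCurveLib.gen_to_gen (k := k) hdim hP f
  -- the degree
  obtain ⟨ψ, hψ⟩ := CurveFFLib.exists_algHom_of_hom (k := k) hf e
  letI ffa : Algebra Y.functionField C.functionField := ((Y.presheaf.stalkSpecializes (specializes_of_eq e) ≫ f.stalkMap (genericPoint C)).hom).toAlgebra
  have hffa : ((Y.presheaf.stalkSpecializes (specializes_of_eq e) ≫ f.stalkMap (genericPoint C)).hom) = ψ.toRingHom :=
    congrArg CommRingCat.Hom.hom (CurveFFLib.stalkMap_of_genPt hψ)
  let n := Module.finrank Y.functionField C.functionField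
  have hn : n = f.finrank (genericPoint Y) := by
    rw [← CurveFFLib.finrank_gen (k := k) hdim hP f hψ]
    show @Module.finrank Y.functionField C.functionField _ _ ((Y.presheaf.stalkSpecializes (specializes_of_eq e) ≫ f.stalkMap (genericPoint C)).hom.toAlgebra.toModule) = _
    rw [hffa]
  -- closed points
  have hres : ∀ x : C, IsClosed ({x} : Set C) →
      (letI : Algebra k (C.residueField x) := Curv2.resAlgebra k C x; Module.finrank k (C.residueField x) = 1) :=
    fun x hx => (GenusZeroLib.closed_point_data hdim hx (hnC x).2).2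
  have hclosed : ∀ x : C, f x ≠ genericPoint Y → IsClosed ({x} : Set C) := fun x hx => by
    by_contra h
    exact hx (by rw [S11571.eq_genericPoint hdim.le h, e])
  have hdeg1 : ∀ x : C, IsClosed ({x} : Set C) → Function.Surjective (f.residueFieldMap x).hom := fun x hx w => by
    letI : Algebra k (C.residueField x) := Curv2.resAlgebra k C x
    obtain ⟨c, hc⟩ := (finrank_eq_one_iff_of_nonzero' (1 : C.residueField x) one_ne_zero).1 (hres x hx) w
    rw [Algebra.smul_def, mul_one] at hc
    refine ⟨(Y.residue (f x)).hom (Curv2.stalkMap k Y (f x) c), ?_⟩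
    rw [← hc]
    show IsLocalRing.residue _ (f.stalkMap x (Curv2.stalkMap k Y (f x) c)) = IsLocalRing.residue _ (Curv2.stalkMap k C x c)
    have h := HurwitzLib.stalkTo_stalkMap (k := k) hf (x := x) (rfl : f x = f x) c
    rw [HurwitzLib.stalkTo_rfl] at h
    exact congrArg _ h
  let ee : C → ℕ := fun x => letI := (f.stalkMap x).hom.toAlgebra
    Ideal.ramificationIdx (IsLocalRing.maximalIdeal (C.presheaf.stalk x)) (Y.presheaf.stalk (f x))
  have hee : ∀ x, ee x = (Module.length (C.presheaf.stalk x) (C.presheaf.stalk x ⧸ CycLimLib.fibIdeal f x)).toNat := fun x => by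
    letI := (f.stalkMap x).hom.toAlgebra
    haveI : IsLocalization.AtPrime (C.presheaf.stalk x) (IsLocalRing.maximalIdeal (C.presheaf.stalk x)) :=
      IsLocalization.self fun a ha => not_not.mp ha
    show Ideal.ramificationIdx _ _ = _
    rw [HurwitzLib.ramificationIdx_eq_length (R := Y.presheaf.stalk (f x)) (T := C.presheaf.stalk x)
      (IsLocalRing.maximalIdeal (C.presheaf.stalk x))]
    have h1 : (IsLocalRing.maximalIdeal (C.presheaf.stalk x)).under (Y.presheaf.stalk (f x)) = IsLocalRing.maximalIdeal _ :=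
      IsLocalRing.maximalIdeal_comap (f.stalkMap x).hom
    rw [h1]
    rfl
  have he1 : ∀ x : C, 1 ≤ ee x := fun x => by
    rw [hee, Nat.one_le_iff_ne_zero, ne_eq, ENat.toNat_eq_zero, not_or]
    refine ⟨fun h => ?_, ((CycPushLib.finrank_eq_sum f (f x)).2.1 x rfl)⟩
    rw [Module.length_eq_zero_iff, Ideal.Quotient.subsingleton_iff] at h
    exact (IsLocalRing.maximalIdeal.isMaximal _).ne_top (top_le_iff.1 (h ▸ CycLimLib.fibIdeal_le f x))
  have hsum : ∀ y : Y, y ≠ genericPoint Y → ∃ F : Finset C, (∀ x, x ∈ F ↔ f x = y) ∧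
      (n : ℤ) = ∑ x ∈ F, (ee x : ℤ) ∧ 1 ≤ F.card := fun y hy => by
    obtain ⟨hfin, -, h⟩ := CycPushLib.finrank_eq_sum f y
    refine ⟨hfin.toFinset, fun x => by simp, ?_, Finset.card_pos.2 ?_⟩
    · haveI : LocallyOfFinitePresentation f := inferInstance
      rw [hn, ← f.isLocallyConstant_finrank.apply_eq_of_preconnectedSpace y (genericPoint Y), h,
        finsum_mem_eq_finite_toFinset_sum _ hfin]
      refine Finset.sum_congr rfl fun x hx => ?_
      have hxy : f x = y := by simpa using hx
      have hr : f.residueDegree x = 1 := by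
        letI := (f.residueFieldMap x).hom.toAlgebra
        show Module.finrank (Y.residueField (f x)) (C.residueField x) = 1
        exact (LinearEquiv.ofBijective (Algebra.linearMap (Y.residueField (f x)) (C.residueField x))
          ⟨(algebraMap (Y.residueField (f x)) (C.residueField x)).injective,
            hdeg1 x (hclosed x (hxy ▸ hy))⟩).finrank_eq.symm.trans (Module.finrank_self _)
      rw [hr, hee, Nat.cast_one, one_mul]
    · obtain ⟨x, hx⟩ := hsurj y
      exact ⟨x, by simpa using hx⟩
  have hunr : ∀ x : C, f x ∈ W → ee x = 1 := fun x hx => by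
    letI := (f.stalkMap x).hom.toAlgebra
    haveI : IsLocalHom (algebraMap (Y.presheaf.stalk (f x)) (C.presheaf.stalk x)) := inferInstanceAs (IsLocalHom (f.stalkMap x).hom)
    haveI : Algebra.EssFiniteType (Y.presheaf.stalk (f x)) (C.presheaf.stalk x) := LocallyOfFiniteType.stalkMap f x
    haveI : Algebra.FormallyUnramified (Y.presheaf.stalk (f x)) (C.presheaf.stalk x) :=
      (RingHom.FormallyUnramified.respectsIso.arrow_mk_iso_iff (morphismRestrictStalkMap f W ⟨x, hx⟩)).1
        (FormallyUnramified.stalkMap (f ∣_ W) ⟨x, hx⟩)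
    haveI : IsSimpleModule (C.presheaf.stalk x) (C.presheaf.stalk x ⧸ IsLocalRing.maximalIdeal (C.presheaf.stalk x)) :=
      isSimpleModule_iff_isCoatom.2 (IsLocalRing.maximalIdeal.isMaximal _).out
    rw [hee, show CycLimLib.fibIdeal f x = IsLocalRing.maximalIdeal (C.presheaf.stalk x) from
      Algebra.FormallyUnramified.map_maximalIdeal, Module.length_eq_one]
    rfl
  -- Hurwitz
  haveI : CharZero Y.functionField := charZero_of_injective_algebraMap (algebraMap k Y.functionField).injective
  haveI : FiniteDimensional Y.functionField C.functionField := by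
    refine Module.finite_of_finrank_pos ?_
    obtain ⟨F, -, hF, hc⟩ := hsum p hpg
    obtain ⟨x, hx⟩ := Finset.card_pos.1 hc
    have := Finset.single_le_sum (f := fun x => (ee x : ℤ)) (fun i _ => Int.natCast_nonneg _) hx
    have := he1 x
    show 0 < n
    omega
  have heq := ((S11571.result k C Y (exists_proj k C hdim.le) (exists_proj k Y hP.le) hdim hP hnC hnP f hf e
    (Algebra.IsAlgebraic.isSeparable_of_perfectField)).2).2 fun x hx => by
    letI := (f.stalkMap x).hom.toAlgebra
    letI := (f.residueFieldMap x).hom.toAlgebra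
    refine ⟨⟨fun w => ?_⟩, ?_⟩
    · obtain ⟨v, rfl⟩ := hdeg1 x hx w
      exact isSeparable_algebraMap v
    · letI : Algebra k (Y.residueField (f x)) := Curv2.resAlgebra k Y (f x)
      haveI : CharZero (Y.residueField (f x)) := charZero_of_injective_algebraMap (algebraMap k (Y.residueField (f x))).injective
      exact Nat.cast_ne_zero.2 (Nat.one_le_iff_ne_zero.1 (he1 x))
  change (n : ℤ) * (2 * ((1 - Curv2.euler k Y (Coh.structureModule Y)) - 1)) +
    (∑ᶠ x : C, if IsClosed ({x} : Set C) then (((ee x - 1 : ℕ) : ℤ) *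
      (Module.finrank k (C.residueField x) : ℤ)) else 0) =
    2 * ((1 - Curv2.euler k C (Coh.structureModule C)) - 1) at heq
  rw [RRVanLib.euler_structure (k := k) hdim RRVanLib.finrank_h0_structure,
    RRVanLib.euler_structure (k := k) hP RRVanLib.finrank_h0_structure] at heq
  have hgY : Curv2.genus k Y = 0 := by
    haveI := GradedCechLib.subsingleton_HH_structure (n := 1) (R := k) 0
    exact Module.finrank_zero_of_subsingleton
  rw [hgY] at heq
  -- the branch fibres
  have hqg : q ≠ genericPoint Y := GenusZeroLib.ne_genericPoint_of_isClosed hP hq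
  obtain ⟨Fp, hFp, hnp, hcp⟩ := hsum p hpg
  obtain ⟨Fq, hFq, hnq, hcq⟩ := hsum q hqg
  have hW' : ∀ y, y ≠ p → y ≠ q → y ∈ W := fun y h1 h2 => by
    show y ∈ (W : Set Y)
    rw [hW]
    simp [h1, h2]
  have hS : (∑ᶠ x : C, if IsClosed ({x} : Set C) then (((ee x - 1 : ℕ) : ℤ) *
      (Module.finrank k (C.residueField x) : ℤ)) else 0) = ∑ x ∈ Fp ∪ Fq, ((ee x : ℤ) - 1) := by
    rw [finsum_eq_sum_of_support_subset _ (s := Fp ∪ Fq)]
    · refine Finset.sum_congr rfl fun x hx => ?_
      have hxc : IsClosed ({x} : Set C) := hclosed x (by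
        rcases Finset.mem_union.1 hx with h | h
        · rw [(hFp x).1 h]; exact hpg
        · rw [(hFq x).1 h]; exact hqg)
      rw [if_pos hxc, hres x hxc, Nat.cast_one, mul_one, Nat.cast_sub (he1 x), Nat.cast_one]
    · intro x hx
      rw [Finset.mem_coe, Finset.mem_union, hFp, hFq]
      by_contra h
      rw [not_or] at h
      refine hx ?_
      by_cases hc : IsClosed ({x} : Set C)
      · show (if _ then _ else _) = (0 : ℤ)
        rw [if_pos hc, hunr x (hW' _ h.1 h.2)]
        simp
      · exact if_neg hc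
  rw [hS] at heq
  have key : Curv2.genus k C = 0 ∧ Fp.card = 1 ∧ Fq.card = 1 := by
    by_cases hpq : p = q
    · have hFF : Fq = Fp := Finset.ext fun x => by rw [hFp, hFq, hpq]
      rw [hFF, Finset.union_self, Finset.sum_sub_distrib, ← hnp, Finset.sum_const, nsmul_eq_mul, mul_one] at heq
      rw [hFF]
      have h1 : (Fp.card : ℤ) ≤ n := by
        rw [hnp, ← nsmul_one, ← Finset.sum_const]
        exact Finset.sum_le_sum fun x _ => by exact_mod_cast he1 x
      omega
    · have hdisj : Disjoint Fp Fq := Finset.disjoint_left.2 fun x h1 h2 => hpq (((hFp x).1 h1).symm.trans ((hFq x).1 h2))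
      rw [Finset.sum_union hdisj, Finset.sum_sub_distrib, ← hnp, Finset.sum_sub_distrib, ← hnq] at heq
      simp only [Finset.sum_const, nsmul_eq_mul, mul_one] at heq
      omega
  obtain ⟨hg, hp1, hq1⟩ := key
  refine ⟨?_, fun x y hx hy => Finset.card_le_one.1 hp1.le x ((hFp x).2 hx) y ((hFp y).2 hy),
    fun x y hx hy => Finset.card_le_one.1 hq1.le x ((hFq x).2 hx) y ((hFq y).2 hy)⟩
  haveI := CurvLib.finite_HH (k := k) (CurvLib.isCoh_of_isInvertible (CurvLib.isInvertible_structureModule (X := C))) 1
  obtain ⟨x, hx⟩ := hsurj p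
  have hxc : IsClosed ({x} : Set C) := hclosed x (hx ▸ hpg)
  exact GenusZeroLib.exists_iso_of_rational hdim (Module.finrank_zero_iff.1 hg)
    (pointOfClosedPoint s x hxc) (pointOfClosedPoint_comp s x hxc) (IsLocalRing.closedPoint k) (hnC _).2

end Groth.Agent.S17022
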