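import Groth.Statements.S17037
import Groth.Agent.IndCohLib.Affine

set_option autoImplicit false
open CategoryTheory CategoryTheory.Limits
universe u
open FSch

namespace Groth.Agent.S17037

/-- Let A be a Noetherian ring, I an ideal, and 𝔛 the affine Noetherian formal scheme presented by the
system Spec(A/I^(n+1)) (the formal spectrum of the I-adic completion of A; the published statement
is for an arbitrary affine Noetherian formal scheme, which is of this form). Then an O_𝔛-module is a
small filtered colimit of coherent O_𝔛-modules if and only if it is isomorphic to the cokernel of a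
morphism of free O_𝔛-modules (direct sums of copies of O_𝔛 over arbitrary small index sets). -/
theorem result (A : Type u) [CommRing A] [IsNoetherianRing A] (I : Ideal A)
    (h : (FSch.spf A I).IsFormal) (𝔉 : FSch.ModF (FSch.spf A I) h) :
    (ObjectProperty.ind.{u} fun 𝔊 : FSch.ModF (FSch.spf A I) h => FSch.IsCohF (FSch.spf A I) h 𝔊) 𝔉 ↔
      ∃ (α β : Type u) (φ : (SheafOfModules.free α : FSch.ModF (FSch.spf A I) h) ⟶ SheafOfModules.free β),
        Nonempty (cokernel φ ≅ 𝔉) := by
  have hloc : (FSch.spf A I).IsLocNoethFormal :=
    ⟨h, (FComplLib.spf_isLocNoethFormal A I).2⟩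
  refine ⟨fun hF => ?_, ?_⟩
  · exact IndCohLib.exists_cokernel_free hloc (IndCohLib.isAffineOpen_top_spf A I) (IndCohLib.isInd_of_ind hloc hF)
  · rintro ⟨α, β, φ, ⟨e⟩⟩
    exact IndCohLib.ind_of_isInd hloc (IndCohLib.isInd_cokernel_free hloc φ e)

end Groth.Agent.S17037
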