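import Groth.Statements.S17050
import Groth.Agent.IndCohLib.SubDerived
import Groth.Agent.IndCohLib.QCTCoreflect

set_option autoImplicit false
open CategoryTheory CategoryTheory.Limits
universe u
attribute [local instance] HasDerivedCategory.standard
open FTors

namespace Groth.Agent.S17050

/-- Let f : 𝔛 ⟶ 𝔜 be a morphism of Noetherian formal schemes (adic systems of thickenings with locally
Noetherian levels and quasi-compact underlying spaces), and assume the total right derived functor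
Rf_* exists on unbounded derived categories of modules. Let A_qct be the full subcategory of
quasi-coherent torsion O_𝔛-modules, assumed (as holds) to contain 0, to be closed under kernels,
cokernels and finite products and to have exact inclusion; assume further that the induced functor
D(A_qct) ⥤ D(O_𝔛) is fully faithful with essential image D_qct(𝔛), the complexes with quasi-coherent
torsion cohomology sheaves — the case the published proof establishes first, valid when 𝔛 is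
separated or of finite Krull dimension. Then the restriction of Rf_* to D_qct(𝔛) has a right
adjoint. (The published statement also removes the hypothesis on 𝔛 when f is separated, by gluing
over an open cover, and gives a bounded-below right adjoint compatible with the triangulated
structures.) -/
theorem result (𝔛 𝔜 : FSch.Sys.{u}) (h𝔛 : 𝔛.IsLocNoethFormal) (h𝔜 : 𝔜.IsLocNoethFormal)
    [CompactSpace (𝔛.X 0)] [CompactSpace (𝔜.X 0)] (f : 𝔛 ⟶ 𝔜)
    [SiteCmp.HasRpushD (FSch.homMor f h𝔛.1 h𝔜.1)]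
    [(FTors.IsQCT 𝔛 h𝔛.1).ContainsZero] [(FTors.IsQCT 𝔛 h𝔛.1).IsClosedUnderKernels]
    [(FTors.IsQCT 𝔛 h𝔛.1).IsClosedUnderCokernels] [(FTors.IsQCT 𝔛 h𝔛.1).IsClosedUnderFiniteProducts]
    [PreservesFiniteLimits (FTors.IsQCT 𝔛 h𝔛.1).ι] [PreservesFiniteColimits (FTors.IsQCT 𝔛 h𝔛.1).ι]
    (hj : (FTors.IsQCT 𝔛 h𝔛.1).ι.mapDerivedCategory.Full ∧ (FTors.IsQCT 𝔛 h𝔛.1).ι.mapDerivedCategory.Faithful ∧
      ∀ G : DerivedCategory (FSch.ModF 𝔛 h𝔛.1),
        (FTors.IsQCT 𝔛 h𝔛.1).ι.mapDerivedCategory.essImage G ↔ FTors.IsDQCT 𝔛 h𝔛.1 G) :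
    ((FTors.IsDQCT 𝔛 h𝔛.1).ι ⋙ SiteCmp.RpushD (FSch.homMor f h𝔛.1 h𝔜.1)).IsLeftAdjoint := by
  obtain ⟨hfull, hfaith, hess⟩ := hj
  let P := FTors.IsQCT 𝔛 h𝔛.1
  obtain ⟨T, g, -, hg⟩ := IndCohLib.exists_separating_qct h𝔛
  haveI := IndCohLib.isLeftAdjoint_qct_ι h𝔛
  haveI := IndCohLib.isLeftAdjoint_sub_rpushD h𝔛 P (IndCohLib.isQCT_closed_colimits h𝔛) g hg h𝔜.1 f
    fun X n => IndCohLib.isInd_of_isQCT h𝔛 ((hess _).1 (P.ι.mapDerivedCategory.obj_mem_essImage X) n)
  let F := (FTors.IsDQCT 𝔛 h𝔛.1).lift P.ι.mapDerivedCategory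
    fun X => (hess _).1 (P.ι.mapDerivedCategory.obj_mem_essImage X)
  let R := SiteCmp.RpushD (FSch.homMor f h𝔛.1 h𝔜.1)
  haveI : F.Full := inferInstance
  haveI : F.Faithful := inferInstance
  haveI : F.EssSurj := ⟨fun G => by
    obtain ⟨X, ⟨i⟩⟩ := (hess G.obj).2 G.property
    exact ⟨X, ⟨(FTors.IsDQCT 𝔛 h𝔛.1).fullyFaithfulι.preimageIso i⟩⟩⟩
  haveI : F.IsEquivalence := { }
  let e := F.asEquivalence
  haveI : e.inverse.IsLeftAdjoint := e.symm.toAdjunction.isLeftAdjoint
  exact Functor.isLeftAdjoint_of_iso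
    (show e.inverse ⋙ P.ι.mapDerivedCategory ⋙ R ≅ (FTors.IsDQCT 𝔛 h𝔛.1).ι ⋙ R from
      Functor.isoWhiskerLeft _ (Functor.isoWhiskerRight ((FTors.IsDQCT 𝔛 h𝔛.1).liftCompιIso _ _).symm _ ≪≫
        Functor.associator _ _ _) ≪≫ (Functor.associator _ _ _).symm ≪≫
      Functor.isoWhiskerRight e.counitIso _ ≪≫ Functor.leftUnitor _)

end Groth.Agent.S17050
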