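import Groth.Statements.S17056
import Groth.Agent.DTorsLib.Cut
import Groth.Agent.DTorsLib.Derived
import Groth.Agent.IndCohLib.QCTClosure

set_option autoImplicit false
open CategoryTheory CategoryTheory.Limits
universe u
attribute [local instance] HasDerivedCategory.standard
open FTors

namespace Groth.Agent.S17056

/-- On a locally Noetherian formal scheme 𝔛 (an adic system of thickenings with locally Noetherian
levels), with RΓ'_𝔛 the total right derived functor of the torsion functor (assumed to exist), if E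
∈ D(O_𝔛) has quasi-coherent cohomology sheaves then every cohomology sheaf of RΓ'_𝔛 E is a
quasi-coherent torsion module. -/
theorem result (𝔛 : FSch.Sys.{u}) (h𝔛 : 𝔛.IsLocNoethFormal)
    [FTors.HasRgammaT 𝔛 h𝔛.1] (E : DerivedCategory (FSch.ModF 𝔛 h𝔛.1))
    (hE : ∀ i : ℤ, SheafOfModules.IsQuasicoherent.{u} (SiteCmp.HMod E i)) :
    FTors.IsDQCT 𝔛 h𝔛.1 ((FTors.RgammaT 𝔛 h𝔛.1).obj E) := by
  obtain ⟨I, hI, hinj, ⟨e⟩⟩ := DTorsLib.exists_kInjective h𝔛 E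
  intro n
  let q := (HomotopyCategory.quotient (FSch.ModF 𝔛 h𝔛.1) (ComplexShape.up ℤ)).obj I
  let H := DerivedCategory.homologyFunctor (FSch.ModF 𝔛 h𝔛.1) n
  refine IndCohLib.isQCT_of_iso h𝔛
    ((DTorsLib.hModIso h𝔛 (DTorsLib.gammaCx h𝔛 I) n).symm ≪≫
      H.mapIso (@asIso _ _ _ _ ((DTorsLib.gUnit h𝔛).app q) (DTorsLib.isIso_gUnit h𝔛 I)) ≪≫ H.mapIso ((FTors.RgammaT 𝔛 h𝔛.1).mapIso e)) ?_
  refine (IndCohLib.isQCT_iff h𝔛).2 ⟨DTorsLib.isTors_homology h𝔛 (DTorsLib.gammaCx h𝔛 I)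
    (fun i => DTorsLib.isTors_gammaT h𝔛 (I.X i)) n, ?_⟩
  refine DTorsLib.isQC_homology_gammaCx h𝔛 I (fun i => haveI := hinj i; DTorsLib.isDiv_of_injective h𝔛 (I.X i))
    (fun m p => ?_) n
  obtain ⟨U, hp, hU⟩ := IndCohLib.isQC_of_isQuasicoherent h𝔛 (hE m) p
  exact ⟨U, hp, fun V hV hle => IndCohLib.good_of_iso h𝔛
    ((DerivedCategory.homologyFunctor (FSch.ModF 𝔛 h𝔛.1) m).mapIso e.symm ≪≫ DTorsLib.hModIso h𝔛 I m) (hU V hV hle)⟩

end Groth.Agent.S17056
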