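import Groth.Statements.S17065
import Mathlib.RingTheory.AdicCompletion.AsTensorProduct
import Mathlib.RingTheory.Finiteness.Nakayama
import Groth.Agent.CompleteLib.Basic

set_option autoImplicit false
universe u
open CAlg

namespace Groth.Agent.S17065

/-- The local algebraic statement its proof establishes: let A be a Noetherian ring, I ≤ J radical
ideals and Â the J-adic completion of A. If J^n Â ⊆ I Â for some n, then the closed set V(J) is open
inside V(I) ⊆ Spec A. (Globally: if X₂ ⊆ X₁ are the completions of a locally Noetherian scheme along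
nested closed subsets Z₂ ⊆ Z₁ and the ideal of Z₁ generates an ideal of definition of X₂, then X₂ is
a union of connected components of X₁.) -/
theorem result (A : Type u) [CommRing A] [IsNoetherianRing A]
    (I J : Ideal A) (hIJ : I ≤ J) (hI : I.IsRadical) (hJ : J.IsRadical) (n : ℕ)
    (h : (J ^ n).map (algebraMap A (AdicCompletion J A)) ≤ I.map (algebraMap A (AdicCompletion J A))) :
    IsOpen ((fun x : PrimeSpectrum.zeroLocus (I : Set A) => (x : PrimeSpectrum A)) ⁻¹'
      PrimeSpectrum.zeroLocus (J : Set A)) := by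
  classical
  have hstep : ∀ x ∈ J ^ n, x ∈ I ⊔ J ^ (n + 1) := by
    intro x hx
    have h1 := h (Ideal.mem_map_of_mem _ hx)
    have h2 := Ideal.mem_map_of_mem (AdicCompletion.evalₐ J (n + 1)).toRingHom h1
    rw [Ideal.map_map] at h2
    have hcomp : (AdicCompletion.evalₐ J (n + 1)).toRingHom.comp
        (algebraMap A (AdicCompletion J A)) = Ideal.Quotient.mk (J ^ (n + 1)) :=
      RingHom.ext fun a => (AdicCompletion.evalₐ J (n + 1)).commutes a
    rw [hcomp] at h2
    have h3 : (AdicCompletion.evalₐ J (n + 1)).toRingHom (algebraMap A (AdicCompletion J A) x) =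
        Ideal.Quotient.mk (J ^ (n + 1)) x := (AdicCompletion.evalₐ J (n + 1)).commutes x
    rw [h3, ← Ideal.mem_comap, Ideal.comap_map_of_surjective _ Ideal.Quotient.mk_surjective,
      ← RingHom.ker_eq_comap_bot, Ideal.mk_ker] at h2
    exact h2
  obtain ⟨r, hr, hrN⟩ := Submodule.exists_sub_one_mem_and_smul_eq_zero_of_fg_of_le_smul J
    (Submodule.map (Submodule.mkQ (I : Submodule A A)) (J ^ n : Ideal A))
    ((IsNoetherian.noetherian (J ^ n : Ideal A)).map _) (by
      rintro _ ⟨x, hx, rfl⟩
      obtain ⟨i, hi, j, hj, rfl⟩ := Submodule.mem_sup.1 (hstep x hx)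
      rw [map_add, Submodule.mkQ_apply, (Submodule.Quotient.mk_eq_zero _).2 hi, zero_add,
        ← Submodule.map_smul'']
      refine Submodule.mem_map_of_mem ?_
      rwa [smul_eq_mul, ← pow_succ'])
  rw [show ((fun x : PrimeSpectrum.zeroLocus (I : Set A) => (x : PrimeSpectrum A)) ⁻¹'
      PrimeSpectrum.zeroLocus (J : Set A)) = Subtype.val ⁻¹' (PrimeSpectrum.basicOpen r : Set _) from ?_]
  · exact (PrimeSpectrum.basicOpen r).isOpen.preimage continuous_subtype_val
  ext ⟨p, hp⟩
  simp only [Set.mem_preimage, SetLike.mem_coe, PrimeSpectrum.mem_basicOpen,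
    PrimeSpectrum.mem_zeroLocus, SetLike.coe_subset_coe] at hp ⊢
  constructor
  · intro hJp hrp
    have := p.asIdeal.sub_mem hrp (hJp hr)
    rw [sub_sub_cancel] at this
    exact p.2.ne_top ((Ideal.eq_top_iff_one _).2 this)
  · intro hrp x hx
    have h0 := hrN _ (Submodule.mem_map_of_mem (f := Submodule.mkQ (I : Submodule A A))
      (Ideal.pow_mem_pow hx n))
    rw [← map_smul, Submodule.mkQ_apply, Submodule.Quotient.mk_eq_zero, smul_eq_mul] at h0
    exact p.2.mem_of_pow_mem n ((p.2.mem_or_mem (hp h0)).resolve_left hrp)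

end Groth.Agent.S17065
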