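import Groth.Statements.S17073
import Groth.Agent.IdealTransLib.TopTensor
import Mathlib.Algebra.Category.ModuleCat.ChangeOfRings

set_option autoImplicit false
open CategoryTheory
universe u
open LocCoh

open LocCohLib
open scoped TensorProduct

namespace Groth.Agent.S17073

section RightExact

variable {R : Type u} [CommRing R] [IsNoetherianRing R] {I : Ideal R} {d : ℕ}
  (hd : ∀ (M : Type u) [AddCommGroup M] [Module R M], Subsingleton (LocCoh.H I (d + 1) M))
  {M N : Type u} [AddCommGroup M] [Module R M] [AddCommGroup N] [Module R N]

include hd in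
theorem surjective_hf (π : M →ₗ[R] N) (hπ : Function.Surjective π) :
    Function.Surjective (Hf I d π) := fun y => by
  haveI := hd (LinearMap.ker π)
  exact ((exact_Hδ (Submodule.injective_subtype _) (LinearMap.exact_subtype_ker_map π) hπ d).2 y).1
    (Subsingleton.elim _ _)

include hd in
theorem bijective_η (M : Type u) [AddCommGroup M] [Module R M] :
    Function.Bijective (TopTensor.η I d M) := by
  let p := Finsupp.linearCombination R (id : M → M)
  have hp : Function.Surjective p := Finsupp.linearCombination_id_surjective R M
  let q := Finsupp.linearCombination R (id : LinearMap.ker p → LinearMap.ker p)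
  have hq : Function.Surjective q := Finsupp.linearCombination_id_surjective R _
  refine ⟨(injective_iff_map_eq_zero _).2 fun t ht => ?_, fun y => ?_⟩
  · obtain ⟨t', rfl⟩ := LinearMap.lTensor_surjective _ hp t
    rw [TopTensor.η_natural] at ht
    obtain ⟨k, hk⟩ :=
      (exact_Hf (Submodule.injective_subtype _) (LinearMap.exact_subtype_ker_map p) hp d _).1 ht
    obtain ⟨s, rfl⟩ := surjective_hf hd q hq k
    obtain ⟨v, rfl⟩ := (TopTensor.bijective_free I d _).2 s
    rw [← Hf_comp, ← TopTensor.η_natural] at hk
    rw [← (TopTensor.bijective_free I d _).1 hk, ← LinearMap.lTensor_comp_apply,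
      show p ∘ₗ (LinearMap.ker p).subtype ∘ₗ q = 0 from LinearMap.ext fun v => (q v).2,
      LinearMap.lTensor_zero, LinearMap.zero_apply]
  · obtain ⟨y', rfl⟩ := surjective_hf hd p hp y
    obtain ⟨t, rfl⟩ := (TopTensor.bijective_free I d _).2 y'
    exact ⟨p.lTensor _ t, TopTensor.η_natural I d p t⟩

/-- If `H^{d+1}_I` vanishes, maps out of `H^d_I` into a fixed module are represented. -/
noncomputable def homEquivH (C : Type u) [AddCommGroup C] [Module R C] (M : Type u) [AddCommGroup M] [Module R M] :
    (M →ₗ[R] (LocCoh.H I d R →ₗ[R] C)) ≃ (LocCoh.H I d M →ₗ[R] C) where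
  toFun g := TensorProduct.lift g.flip ∘ₗ (LinearEquiv.ofBijective _ (bijective_η hd M)).symm.toLinearMap
  invFun g := (TensorProduct.curry (g ∘ₗ TopTensor.η I d M)).flip
  left_inv g := by
    ext m h
    simp [LinearEquiv.ofBijective_symm_apply_apply]
  right_inv g := by
    refine LinearMap.ext fun y => ?_
    obtain ⟨t, rfl⟩ := (bijective_η hd M).2 y
    rw [LinearMap.comp_apply, LinearEquiv.coe_coe, LinearEquiv.ofBijective_symm_apply_apply]
    induction t using TensorProduct.induction_on with
    | zero => simp
    | add a b ha hb => rw [map_add, ha, hb, map_add, map_add]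
    | tmul h m => simp

theorem homEquivH_comp (C : Type u) [AddCommGroup C] [Module R C] (f : M →ₗ[R] N)
    (g : N →ₗ[R] (LocCoh.H I d R →ₗ[R] C)) :
    homEquivH hd C M (g ∘ₗ f) = homEquivH hd C N g ∘ₗ Hf I d f := by
  refine LinearMap.ext fun y => ?_
  obtain ⟨t, rfl⟩ := (bijective_η hd M).2 y
  simp only [homEquivH, Equiv.coe_fn_mk, LinearMap.comp_apply, LinearEquiv.coe_coe,
    LinearEquiv.ofBijective_symm_apply_apply]
  rw [← TopTensor.η_natural, LinearEquiv.ofBijective_symm_apply_apply]
  induction t using TensorProduct.induction_on with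
  | zero => simp
  | add a b ha hb => rw [map_add, ha, hb, map_add, map_add]
  | tmul h m => simp

end RightExact

/-- Let R → S be a homomorphism of Noetherian rings, J an ideal of S containing elements u₁, …, u_d such
that S/(u₁, …, u_d) is a finite R-module and J lies in the radical of (u₁, …, u_d), and let F be a
finite R-module. Then the functor sending an S-module E to the set Hom_R(H^d_J(E), F) (d-th local
cohomology supported in J, scalars restricted to R) is representable by an S-module. (The published
statement gives the representing module as the degree −d cohomology of RHom_R(RΓ_J S, F) and a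
bifunctorial isomorphism; only representability is asserted here.) -/
theorem result
    (R S : Type u) [CommRing R] [CommRing S] [IsNoetherianRing R] [IsNoetherianRing S] [Algebra R S]
    (J : Ideal S) (d : ℕ) (u : Fin d → S) (hu : ∀ i, u i ∈ J)
    (hJ : J ≤ (Ideal.span (Set.range u)).radical) [Module.Finite R (S ⧸ Ideal.span (Set.range u))]
    (F : Type u) [AddCommGroup F] [Module R F] [Module.Finite R F] :
    ((localCohomology J d ⋙ ModuleCat.restrictScalars (algebraMap R S)).op ⋙
      yoneda.obj (ModuleCat.of R F)).IsRepresentable := by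
  have hrad : J.radical = (Ideal.span {x | x ∈ List.ofFn u}).radical := by
    have hs : {x | x ∈ List.ofFn u} = Set.range u := Set.ext fun x => by simp [List.mem_ofFn]
    rw [hs]
    exact le_antisymm (Ideal.radical_le_radical_iff.2 hJ)
      (Ideal.radical_mono (Ideal.span_le.2 (Set.range_subset_iff.2 hu)))
  have hd : ∀ (M : Type u) [AddCommGroup M] [Module S M], Subsingleton (LocCoh.H J (d + 1) M) := by
    intro M _ _
    exact ((localCohomology.isoOfSameRadical hrad (d + 1)).app
      (ModuleCat.of S M)).toLinearEquiv.toEquiv.subsingleton_congr.2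
        (subsingleton_H_of_length_lt _ (List.ofFn u) rfl (d + 1) (by simp) M)
  let adj := ModuleCat.restrictCoextendScalarsAdj.{u, u, u} (algebraMap R S)
  let C := (ModuleCat.coextendScalars.{u, u, u} (algebraMap R S)).obj (ModuleCat.of R F)
  refine Functor.RepresentableBy.isRepresentable (Y := ModuleCat.of S (LocCoh.H J d S →ₗ[S] C))
    { homEquiv := fun {E} => ((ModuleCat.homEquiv).trans ((homEquivH hd C E).trans
        ((ModuleCat.homEquiv (M := (localCohomology J d).obj E) (N := C)).symm.trans
          (adj.homEquiv _ (ModuleCat.of R F)).symm)))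
      homEquiv_comp := fun {E E'} f g => ?_ }
  show (adj.homEquiv _ _).symm (ModuleCat.ofHom (homEquivH hd C E (g.hom ∘ₗ f.hom))) = _
  rw [homEquivH_comp]
  exact adj.homEquiv_naturality_left_symm ((localCohomology J d).map f)
    (ModuleCat.ofHom (homEquivH hd C E' g.hom))

end Groth.Agent.S17073
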