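import Groth.Statements.S17074
import Groth.Agent.KanExactLib.Basic
import Groth.Agent.IndCohLib.DerivedInd
import Groth.Agent.FPullFFLib.HomColimTop

set_option autoImplicit false
open CategoryTheory CategoryTheory.Limits AlgebraicGeometry
universe v' u' u
open FSch IndCohLib

namespace Groth.Agent.S17074

/-- Let 𝔛 be a Noetherian formal scheme (an adic system of thickenings with locally Noetherian levels
and quasi-compact underlying space); let A_c be the full subcategory of coherent O_𝔛-modules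
(assumed, as holds, to contain 0 and to be closed under kernels, cokernels and finite products,
hence abelian) inside the full subcategory A of small filtered colimits of coherent modules. For an
abelian category A' with exact small filtered colimits and an exact functor G : A_c ⥤ A', the
pointwise left Kan extension of G along the inclusion A_c ⥤ A (assumed to exist; it is the
filtered-colimit-preserving extension of G, whose value at a module M is the colimit of G over the
coherent submodules of M) is exact: it preserves finite limits and finite colimits. (The published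
statement assumes 𝔛 only locally Noetherian. On the scheme glued from the spectra of the local rings
ℤ_(p), p ranging over all primes, along their common generic point, viewed as a formal scheme with
zero ideal of definition, the structure sheaf is the increasing union of the coherent ideals J_n
equal to the unit ideal at the first n closed points and to the maximal ideal at the others; for G
the product over all closed points of the stalk functors, with values in abelian groups, the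
extension of G does not carry the epimorphism from the direct sum of the J_n onto the structure
sheaf to an epimorphism. The last step of the published proof needs every coherent module to be a
Noetherian object, so 𝔛 is taken Noetherian here, which is the case in which the lemma is applied.) -/
theorem result (𝔛 : FSch.Sys.{u}) (h𝔛 : 𝔛.IsLocNoethFormal)
    [CompactSpace (𝔛.X 0)]
    [ObjectProperty.ContainsZero (fun 𝔊 : FSch.ModF 𝔛 h𝔛.1 => FSch.IsCohF 𝔛 h𝔛.1 𝔊)] [ObjectProperty.IsClosedUnderKernels (fun 𝔊 : FSch.ModF 𝔛 h𝔛.1 => FSch.IsCohF 𝔛 h𝔛.1 𝔊)]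
    [ObjectProperty.IsClosedUnderCokernels (fun 𝔊 : FSch.ModF 𝔛 h𝔛.1 => FSch.IsCohF 𝔛 h𝔛.1 𝔊)] [ObjectProperty.IsClosedUnderFiniteProducts (fun 𝔊 : FSch.ModF 𝔛 h𝔛.1 => FSch.IsCohF 𝔛 h𝔛.1 𝔊)]
    {A' : Type u'} [Category.{v'} A'] [Abelian A'] [HasFilteredColimitsOfSize.{u, u} A'] [AB5OfSize.{u, u} A']
    (G : ObjectProperty.FullSubcategory (fun 𝔊 : FSch.ModF 𝔛 h𝔛.1 => FSch.IsCohF 𝔛 h𝔛.1 𝔊) ⥤ A') [PreservesFiniteLimits G] [PreservesFiniteColimits G]
    [(ObjectProperty.ιOfLE (ObjectProperty.le_ind (fun 𝔊 : FSch.ModF 𝔛 h𝔛.1 => FSch.IsCohF 𝔛 h𝔛.1 𝔊) : (fun 𝔊 : FSch.ModF 𝔛 h𝔛.1 => FSch.IsCohF 𝔛 h𝔛.1 𝔊) ≤ ObjectProperty.ind.{u} (fun 𝔊 : FSch.ModF 𝔛 h𝔛.1 => FSch.IsCohF 𝔛 h𝔛.1 𝔊))).HasPointwiseLeftKanExtension G] :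
    PreservesFiniteLimits ((ObjectProperty.ιOfLE (ObjectProperty.le_ind (fun 𝔊 : FSch.ModF 𝔛 h𝔛.1 => FSch.IsCohF 𝔛 h𝔛.1 𝔊) : (fun 𝔊 : FSch.ModF 𝔛 h𝔛.1 => FSch.IsCohF 𝔛 h𝔛.1 𝔊) ≤ ObjectProperty.ind.{u} (fun 𝔊 : FSch.ModF 𝔛 h𝔛.1 => FSch.IsCohF 𝔛 h𝔛.1 𝔊))).pointwiseLeftKanExtension G) ∧
      PreservesFiniteColimits ((ObjectProperty.ιOfLE (ObjectProperty.le_ind (fun 𝔊 : FSch.ModF 𝔛 h𝔛.1 => FSch.IsCohF 𝔛 h𝔛.1 𝔊) : (fun 𝔊 : FSch.ModF 𝔛 h𝔛.1 => FSch.IsCohF 𝔛 h𝔛.1 𝔊) ≤ ObjectProperty.ind.{u} (fun 𝔊 : FSch.ModF 𝔛 h𝔛.1 => FSch.IsCohF 𝔛 h𝔛.1 𝔊))).pointwiseLeftKanExtension G) := by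
  have hloc := h𝔛
  let P : ObjectProperty (FSch.ModF 𝔛 h𝔛.1) := fun 𝔊 => FSch.IsCohF 𝔛 h𝔛.1 𝔊
  let Q : ObjectProperty (FSch.ModF 𝔛 h𝔛.1) := ObjectProperty.ind.{u} P
  have hiff : ∀ {M : FSch.ModF 𝔛 h𝔛.1}, Q M ↔ IsInd hloc M := fun {M} => ind_iff hloc
  haveI hk : Q.IsClosedUnderKernels := ⟨fun {M} h => by
    obtain @⟨X, Y, f, k, hlim, hX, hY⟩ := h
    exact hiff.2 (isInd_of_iso hloc (IsLimit.conePointUniqueUpToIso (kernelIsKernel f) hlim)
      (isInd_kernel hloc f (hiff.1 hX) (hiff.1 hY)))⟩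
  haveI hc : Q.IsClosedUnderCokernels := ⟨fun {M} h => by
    obtain @⟨X, Y, f, k, hcol, hX, hY⟩ := h
    exact hiff.2 (isInd_of_iso hloc (IsColimit.coconePointUniqueUpToIso (cokernelIsCokernel f) hcol)
      (isInd_cokernel hloc f (hiff.1 hX) (hiff.1 hY)))⟩
  haveI hz : Q.ContainsZero := ⟨_, isZero_zero _, hiff.2 (isInd_of_isCohF hloc (isCohF_isZero hloc (isZero_zero (FSch.ModF 𝔛 h𝔛.1))))⟩
  haveI hb : Q.IsClosedUnderBinaryProducts := ObjectProperty.IsClosedUnderLimitsOfShape.mk' (by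
    rintro X ⟨F, hF⟩
    exact hiff.2 (isInd_of_iso hloc (biprod.isoProd _ _ ≪≫ (HasLimit.isoOfNatIso (diagramIsoPair F)).symm)
      (isInd_biprod hloc (hiff.1 (hF ⟨WalkingPair.left⟩)) (hiff.1 (hF ⟨WalkingPair.right⟩)))))
  haveI ht : Q.IsClosedUnderLimitsOfShape (Discrete.{0} PEmpty) := ObjectProperty.IsClosedUnderLimitsOfShape.mk' (by
    rintro X ⟨F, hF⟩
    exact hiff.2 (isInd_of_isCohF hloc (isCohF_isZero hloc (IsTerminal.isZero (IsTerminal.ofUnique _ (h := fun Y =>
      { default := limit.lift F { pt := Y, π := Discrete.natTrans fun j => j.as.elim }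
        uniq := fun g => limit.hom_ext fun j => j.as.elim }))))))
  haveI hfp : Q.IsClosedUnderFiniteProducts := ObjectProperty.IsClosedUnderFiniteProducts.mk'
  haveI : IsLocallyNoetherian (𝔛.X 0) := h𝔛.2.2 0
  haveI : AlgebraicGeometry.IsNoetherian (𝔛.X 0) := {}
  haveI : TopologicalSpace.NoetherianSpace (𝔛.X 0).toTopCat := inferInstanceAs (TopologicalSpace.NoetherianSpace (𝔛.X 0))
  exact KanExactLib.exact_pointwiseLeftKanExtension (P := P) (Q := Q) (ObjectProperty.le_ind P) le_rfl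
    (fun b hb J _ _ D => by
      haveI : SheafOfModules.IsFinitePresentation (R := ModSite.ringSh (𝔛.Osh h𝔛.1)) b := hb
      exact FPullFFLib.preservesColimit_coyoneda (𝔛.Osh h𝔛.1) D b) G

end Groth.Agent.S17074
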