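import Groth.Statements.S17076
import Groth.Agent.MorSchLib.IsoLocus
import Groth.Agent.RichLib.FibreProper

set_option backward.isDefEq.respectTransparency false
set_option backward.isDefEq.respectTransparency.types false

set_option autoImplicit false
universe u
open CategoryTheory CategoryTheory.Limits AlgebraicGeometry
open MorSch

namespace Groth.Agent.S17076

/-- Let S be a locally Noetherian scheme, X and Y schemes proper over S with X flat over S, and f : X →
Y an S-morphism. Then there is an open subset S₀ of S such that, for every locally Noetherian scheme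
S' and every morphism h : S' → S, the image of h lies in S₀ if and only if the base change X ×_S S'
→ Y ×_S S' of f is an isomorphism. (The published statement also supposes that some fibre of f is an
isomorphism; that hypothesis only serves to make S₀ nonempty and is not needed.) -/
theorem result
    {S : Scheme.{u}} [IsLocallyNoetherian S] (X Y : Over S) [IsProper X.hom] [IsProper Y.hom]
    [Flat X.hom] (f : X ⟶ Y) :
    ∃ S₀ : S.Opens, ∀ (S' : Scheme.{u}) [IsLocallyNoetherian S'] (h : S' ⟶ S),
      Set.range h ⊆ (S₀ : Set S) ↔ IsIso ((Over.pullback h).map f).left := by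
  haveI : IsProper (f.left ≫ Y.hom) := by rw [Over.w f]; infer_instance
  haveI : IsProper f.left := IsProper.of_comp f.left Y.hom
  haveI : Flat (f.left ≫ Y.hom) := by rw [Over.w f]; infer_instance
  haveI : LocallyOfFinitePresentation (f.left ≫ Y.hom) := RichLib.FibreLoci.lfp_of_isLocallyNoetherian _
  haveI : LocallyOfFinitePresentation Y.hom := RichLib.FibreLoci.lfp_of_isLocallyNoetherian _
  obtain ⟨U, hU⟩ := MorSch.exists_open_bc f.left Y.hom
  refine ⟨U, fun S' _ h => (hU S' h).trans ?_⟩
  have sq : IsPullback (Limits.pullback.fst X.hom h) ((Over.pullback h).map f).left f.left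
      (Limits.pullback.fst Y.hom h) := by
    refine IsPullback.of_bot (v₂₁ := Limits.pullback.snd Y.hom h) (v₂₂ := Y.hom) (h₃₁ := h) ?_
      (Limits.pullback.lift_fst _ _ _).symm (IsPullback.of_hasPullback Y.hom h)
    rw [show ((Over.pullback h).map f).left ≫ Limits.pullback.snd Y.hom h = Limits.pullback.snd X.hom h from
      Limits.pullback.lift_snd _ _ _, Over.w f]
    exact IsPullback.of_hasPullback _ _
  rw [← sq.isoPullback_hom_snd]
  exact ((MorphismProperty.isomorphisms Scheme.{_}).cancel_left_of_respectsIso _ _).symm

end Groth.Agent.S17076
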