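import Groth.Statements.S17077
import Mathlib


-- import your own Groth.Agent.* helpers here

set_option autoImplicit false
universe u
open RatCurve

namespace Groth.Agent.S17077

/-- Let k be an algebraically closed field and F_0, …, F_{n-1} homogeneous polynomials in k[u, v] (of
possibly different degrees). Then the F_i have a common factor which is not a unit if and only if
they have a common zero (a, b) ≠ (0, 0) in k², that is, a common zero in the projective line. -/
theorem result
    {k : Type u} [Field k] [IsAlgClosed k] {n : ℕ} (F : Fin n → MvPolynomial (Fin 2) k)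
    (d : Fin n → ℕ) (hF : ∀ i, (F i).IsHomogeneous (d i)) :
    (∃ H : MvPolynomial (Fin 2) k, ¬ IsUnit H ∧ ∀ i, H ∣ F i) ↔
      ∃ a : Fin 2 → k, a ≠ 0 ∧ ∀ i, MvPolynomial.eval a (F i) = 0 := by
  classical
  constructor
  · rintro ⟨H, hH, hdvd⟩
    suffices h : ∃ a : Fin 2 → k, a ≠ 0 ∧ MvPolynomial.eval a H = 0 by
      obtain ⟨a, ha, h0⟩ := h
      exact ⟨a, ha, fun i => by obtain ⟨w, hw⟩ := hdvd i; rw [hw, map_mul, h0, zero_mul]⟩
    by_contra hc
    push Not at hc
    have hX : ∀ i : Fin 2, MvPolynomial.X i ∈ (Ideal.span {H}).radical := by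
      intro i
      rw [← MvPolynomial.vanishingIdeal_zeroLocus_eq_radical (K := k), MvPolynomial.mem_vanishingIdeal_iff]
      intro a ha
      have h0 : MvPolynomial.eval a H = 0 := by
        have := MvPolynomial.mem_zeroLocus_iff.1 ha H (Ideal.subset_span rfl)
        simpa [MvPolynomial.aeval_eq_eval] using this
      by_cases haz : a = 0
      · simp [haz]
      · exact absurd h0 (hc a haz)
    by_cases hH0 : H = 0
    · exact hc (fun _ => 1) (fun h => one_ne_zero (congrFun h 0)) (by rw [hH0, map_zero])
    obtain ⟨P, hP, hPH⟩ := WfDvdMonoid.exists_irreducible_factor hH hH0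
    have hPX : ∀ i : Fin 2, P ∣ MvPolynomial.X i := fun i => by
      obtain ⟨m, hm⟩ := hX i
      exact hP.prime.dvd_of_dvd_pow (hPH.trans (Ideal.mem_span_singleton.1 hm))
    have h01 : Associated (MvPolynomial.X (0 : Fin 2) : MvPolynomial (Fin 2) k) (MvPolynomial.X 1) :=
      ((hP.associated_of_dvd (MvPolynomial.X_prime.irreducible) (hPX 0)).symm.trans (hP.associated_of_dvd (MvPolynomial.X_prime.irreducible) (hPX 1)))
    obtain ⟨u, hu⟩ := h01
    have := congrArg (MvPolynomial.eval ![0, 1]) hu
    simp at this
  · rintro ⟨a, ha, hF0⟩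
    obtain ⟨j, hj⟩ := Function.ne_iff.1 ha
    obtain ⟨i₀, hi₀⟩ : ∃ i : Fin 2, i ≠ j := exists_ne j
    set L : MvPolynomial (Fin 2) k := MvPolynomial.X i₀ - MvPolynomial.C (a i₀ / a j) * MvPolynomial.X j with hL
    refine ⟨L, fun hu => ?_, fun i => ?_⟩
    · have := hu.map (MvPolynomial.eval a)
      simp [hL, div_mul_cancel₀ _ (show a j ≠ 0 from hj)] at this
    · rw [← Ideal.mem_span_singleton, ← Ideal.Quotient.eq_zero_iff_mem]
      let π := Ideal.Quotient.mkₐ k (Ideal.span {L})
      let ψ : MvPolynomial (Fin 2) k →ₐ[k] MvPolynomial (Fin 2) k := MvPolynomial.aeval fun l => MvPolynomial.C (a l / a j) * MvPolynomial.X j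
      have hπ : π.comp ψ = π := by
        refine MvPolynomial.algHom_ext fun l => ?_
        rw [AlgHom.comp_apply, MvPolynomial.aeval_X]
        by_cases hl : l = j
        · subst hl; rw [div_self (show a l ≠ 0 from hj), map_one, one_mul]
        · have : l = i₀ := by omega
          subst this
          exact (Ideal.Quotient.eq.2 (Ideal.mem_span_singleton_self L)).symm
      have hψ : ψ (F i) = MvPolynomial.C (MvPolynomial.eval (fun l => a l / a j) (F i)) * MvPolynomial.X j ^ d i := by
        conv_lhs => rw [(F i).as_sum]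
        rw [map_sum, MvPolynomial.eval_eq', map_sum, Finset.sum_mul]
        refine Finset.sum_congr rfl fun m hm => ?_
        have hdeg : ∑ l, m l = d i := by
          rw [← hF i (MvPolynomial.mem_support_iff.1 hm), Finsupp.weight_apply, Finsupp.sum_fintype _ _ (fun _ => by simp)]
          simp
        simp only [ψ]
        rw [MvPolynomial.aeval_monomial, Finsupp.prod_fintype _ _ (fun _ => pow_zero _)]
        simp only [MvPolynomial.algebraMap_eq, mul_pow, Finset.prod_mul_distrib, Finset.prod_pow_eq_pow_sum, hdeg, map_mul, map_prod, map_pow]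
        ring
      have h0 : MvPolynomial.eval (fun l => a l / a j) (F i) = 0 := by
        have key : MvPolynomial.eval a (F i) = a j ^ d i * MvPolynomial.eval (fun l => a l / a j) (F i) := by
          rw [MvPolynomial.eval_eq', MvPolynomial.eval_eq', Finset.mul_sum]
          refine Finset.sum_congr rfl fun m hm => ?_
          have hdeg : ∑ l, m l = d i := by
            rw [← hF i (MvPolynomial.mem_support_iff.1 hm), Finsupp.weight_apply, Finsupp.sum_fintype _ _ (fun _ => by simp)]
            simp
          rw [← hdeg, ← Finset.prod_pow_eq_pow_sum, mul_left_comm, ← Finset.prod_mul_distrib]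
          congr 1
          refine Finset.prod_congr rfl fun l _ => ?_
          rw [← mul_pow, mul_div_cancel₀ _ (show a j ≠ 0 from hj)]
        rw [hF0 i] at key
        exact (mul_eq_zero.1 key.symm).resolve_left (pow_ne_zero _ hj)
      change π (F i) = 0
      rw [← hπ, AlgHom.comp_apply, hψ, h0, map_zero, zero_mul, map_zero]

end Groth.Agent.S17077
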