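import Groth.Statements.S17078
import Groth.Agent.CompleteLib.Noetherian
import Groth.Agent.ProjSectLib.Forms


-- import your own Groth.Agent.* helpers here

set_option autoImplicit false
universe u
open RatCurve

namespace Groth.Agent.S17078

/-- Let k be an algebraically closed field and F_0, …, F_{n-1} homogeneous polynomials of degree d in
k[u, v]. Then the F_i have no common factor other than units if and only if there is an integer m ≥
d such that every homogeneous polynomial of degree m can be written Σ_i F_i G_i with each G_i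
homogeneous of degree m − d, i.e. the k-linear map (G_i)_i ↦ Σ_i F_i G_i from n copies of k[u,
v]_{m−d} to k[u, v]_m is surjective. -/
theorem result
    {k : Type u} [Field k] [IsAlgClosed k] {n : ℕ} (F : Fin n → MvPolynomial (Fin 2) k)
    (d : ℕ) (hF : ∀ i, (F i).IsHomogeneous d) :
    (¬ ∃ H : MvPolynomial (Fin 2) k, ¬ IsUnit H ∧ ∀ i, H ∣ F i) ↔
      ∃ m : ℕ, d ≤ m ∧ ∀ P : MvPolynomial (Fin 2) k, P.IsHomogeneous m →
        ∃ G : Fin n → MvPolynomial (Fin 2) k, (∀ i, (G i).IsHomogeneous (m - d)) ∧
          P = ∑ i, F i * G i := by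
  classical
  let A := CohB1.polyGrading 1 k
  let J := Ideal.span (Set.range F)
  have hJ : J.IsHomogeneous A := Ideal.homogeneous_span _ _ (by rintro _ ⟨i, rfl⟩; exact ⟨d, hF i⟩)
  constructor
  · intro h
    have hrad : ∀ j : Fin 2, (MvPolynomial.X j : MvPolynomial (Fin 2) k) ∈ J.radical := by
      intro j
      have hj : (MvPolynomial.X j : MvPolynomial (Fin 2) k) ∈ A 1 :=
        (MvPolynomial.mem_homogeneousSubmodule _ _).2 (MvPolynomial.isHomogeneous_X k j)
      rw [ProjTopLib.mem_radical_iff A hJ (ProjTopLib.mem_irrelevant_of_mem A one_pos hj)]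
      intro y hy
      exfalso
      by_cases hyη : y = GenusZeroLib.genPt k 1
      · refine h ⟨MvPolynomial.X 0, MvPolynomial.X_prime.not_isUnit, fun i => ?_⟩
        have h0 : F i ∈ (GenusZeroLib.genPt k 1).asHomogeneousIdeal.toIdeal :=
          hyη ▸ hy (Ideal.subset_span ⟨i, rfl⟩)
        rw [show F i = 0 from (Submodule.mem_bot _).mp h0]
        exact dvd_zero _
      obtain ⟨f, e, he, hf, hfy⟩ := ProjSectLib.exists_form_mem hyη
      obtain ⟨z, hz, hzy⟩ := ProjSectLib.exists_formPt he hf hfy
      have hηz : GenusZeroLib.genPt k 1 < z := lt_of_le_of_ne (ProjSectLib.genPt_le z) fun e' => hf.ne_zero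
        ((Submodule.mem_bot _).mp (show f ∈ (GenusZeroLib.genPt k 1).asHomogeneousIdeal.toIdeal by
          rw [e', hz]; exact Ideal.mem_span_singleton_self f))
      have h1 := ProjDimLib.dPt_lt hηz
      rw [GenusZeroLib.dPt_genPt] at h1
      rcases eq_or_lt_of_le hzy with heq | hlt
      · subst heq
        refine h ⟨f, hf.not_isUnit, fun i => Ideal.mem_span_singleton.1 ?_⟩
        rw [← hz]
        exact hy (Ideal.subset_span ⟨i, rfl⟩)
      · have := ProjDimLib.dPt_lt hlt
        omega
    have hle : MvPolynomial.idealOfVars (Fin 2) k ≤ J.radical := Ideal.span_le.2 (by rintro _ ⟨j, rfl⟩; exact hrad j)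
    obtain ⟨N, hN⟩ := Ideal.exists_pow_le_of_le_radical_of_fg hle (IsNoetherian.noetherian _)
    refine ⟨max N d, le_max_right _ _, fun P hP => ?_⟩
    have hPJ : P ∈ J := hN ((MvPolynomial.mem_pow_idealOfVars_iff N P).2 fun x hx => by
      have hdeg : x.degree = max N d := by
        rw [Finsupp.degree_eq_weight_one]
        exact hP (MvPolynomial.mem_support_iff.1 hx)
      omega)
    obtain ⟨G, hG⟩ := Ideal.mem_span_range_iff_exists_fun.1 hPJ
    refine ⟨fun i => MvPolynomial.homogeneousComponent (max N d - d) (G i),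
      fun i => MvPolynomial.homogeneousComponent_isHomogeneous _ _, ?_⟩
    have h2 := congrArg (MvPolynomial.homogeneousComponent (max N d)) hG
    rw [map_sum, MvPolynomial.homogeneousComponent_of_mem ((MvPolynomial.mem_homogeneousSubmodule _ _).2 hP),
      if_pos rfl] at h2
    rw [← h2]
    refine Finset.sum_congr rfl fun i _ => ?_
    rw [CompleteLib.homogeneousComponent_mul_isHomogeneous (hF i) (G i), if_pos (le_max_right _ _), mul_comm]
  · rintro ⟨m, hm, hsurj⟩ ⟨H, hH, hdvd⟩
    have hX : ∀ j : Fin 2, H ∣ MvPolynomial.X j ^ m := by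
      intro j
      obtain ⟨G, -, hG⟩ := hsurj (MvPolynomial.X j ^ m) (MvPolynomial.isHomogeneous_X_pow j m)
      rw [hG]
      exact Finset.dvd_sum fun i _ => Dvd.dvd.mul_right (hdvd i) _
    have hH0 : H ≠ 0 := fun h0 => pow_ne_zero m (MvPolynomial.X_ne_zero (0 : Fin 2)) (zero_dvd_iff.1 (h0 ▸ hX 0))
    obtain ⟨i, hi, hiH⟩ := WfDvdMonoid.exists_irreducible_factor hH hH0
    have hij : ∀ j : Fin 2, Associated i (MvPolynomial.X j) := fun j =>
      hi.associated_of_dvd MvPolynomial.X_prime.irreducible (hi.prime.dvd_of_dvd_pow (hiH.trans (hX j)))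
    have h01 : (MvPolynomial.X 0 : MvPolynomial (Fin 2) k) ∣ MvPolynomial.X 1 :=
      ((hij 0).symm.trans (hij 1)).dvd
    rw [MvPolynomial.X_dvd_X] at h01
    exact absurd h01 (by decide)

end Groth.Agent.S17078
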