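import Groth.Statements.S17079
import Mathlib

set_option backward.isDefEq.respectTransparency false
set_option backward.isDefEq.respectTransparency.types false
noncomputable section

set_option autoImplicit false
universe u
open CategoryTheory CategoryTheory.Limits AlgebraicGeometry
open MorSch

namespace Groth.Agent.S17079

/-- Let gX : X → S and gY : Y → S be morphisms and suppose the functor Mor_S(X, Y) — sending an S-scheme
T to the set of S-morphisms T ×_S X → Y, with base change as transition maps — is represented by an
S-scheme M. Then for every morphism h : S' → S the functor Mor_{S'}(X ×_S S', Y ×_S S') on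
S'-schemes is represented by M ×_S S'. (The published statement assumes X and Y projective over S
with X flat and S, S' locally Noetherian; this row assumes only that the functor is represented by
M. Only the existence of a representing structure on M ×_S S' is asserted, not its compatibility
with the one on M.) -/
theorem result
    {X Y S S' : Scheme.{u}} (gX : X ⟶ S) (gY : Y ⟶ S) (h : S' ⟶ S)
    (M : Over S) (e : (Flatn.morS gX gY).RepresentableBy M) :
    Nonempty ((Flatn.morS (pullback.snd gX h) (pullback.snd gY h)).RepresentableBy
      (Over.mk (pullback.snd M.hom h))) := by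
  let adj := Over.mapPullbackAdj h
  let κ : ∀ T : Over S', pullback T.hom (pullback.snd gX h) ≅ pullback (T.hom ≫ h) gX := fun T =>
    { hom := pullback.lift (pullback.fst _ _) (pullback.snd _ _ ≫ pullback.fst gX h) (by
        rw [Category.assoc, pullback.condition, reassoc_of% (pullback.condition (f := T.hom) (g := pullback.snd gX h))])
      inv := pullback.lift (pullback.fst _ _) (pullback.lift (pullback.snd _ _) (pullback.fst _ _ ≫ T.hom)
        (by rw [Category.assoc]; exact pullback.condition.symm)) (pullback.lift_snd _ _ _).symm
      hom_inv_id := by
        refine pullback.hom_ext (by simp) (pullback.hom_ext (by simp) (by simp [pullback.condition]))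
      inv_hom_id := by
        refine pullback.hom_ext (by simp) (by simp) }
  let φ : ∀ T : Over S', (Flatn.morS gX gY).obj (Opposite.op ((Over.map h).obj T)) →
      (Flatn.morS (pullback.snd gX h) (pullback.snd gY h)).obj (Opposite.op T) := fun T b =>
    Over.homMk (pullback.lift ((κ T).hom ≫ b.left) (pullback.snd _ _ ≫ pullback.snd gX h) (by
      rw [Category.assoc, show b.left ≫ gY = pullback.snd (T.hom ≫ h) gX ≫ gX from Over.w b]
      simp [κ, pullback.condition])) (pullback.lift_snd _ _ _)
  have hφ : ∀ T, Function.Bijective (φ T) := fun T => by
    refine ⟨fun b b' e => Over.OverMorphism.ext ?_, fun c => ?_⟩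
    · have := congrArg (fun x => (CommaMorphism.left x) ≫ pullback.fst gY h) e
      simpa [φ, cancel_epi] using this
    · refine ⟨Over.homMk ((κ T).inv ≫ c.left ≫ pullback.fst gY h) ?_, Over.OverMorphism.ext ?_⟩
      · show ((κ T).inv ≫ c.left ≫ pullback.fst gY h) ≫ gY = pullback.snd (T.hom ≫ h) gX ≫ gX
        rw [Category.assoc, Category.assoc, pullback.condition, reassoc_of% (show c.left ≫ pullback.snd gY h = _ from Over.w c)]
        simp [κ, ← pullback.condition]
      · refine pullback.hom_ext ?_ ?_
        · simp [φ]
        · simp [φ]
          exact (Over.w c).symm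
  refine ⟨{ homEquiv := fun {T} => (adj.homEquiv T M).symm.trans (e.homEquiv.trans (Equiv.ofBijective _ (hφ T)))
            homEquiv_comp := fun {T T'} a v => ?_ }⟩
  show φ T (e.homEquiv ((adj.homEquiv _ _).symm (a ≫ v))) =
    (Flatn.morS _ _).map a.op (φ T' (e.homEquiv ((adj.homEquiv _ _).symm v)))
  have hn : (adj.homEquiv _ _).symm (a ≫ v) = (Over.map h).map a ≫ (adj.homEquiv _ _).symm v :=
    adj.homEquiv_naturality_left_symm a v
  refine (congrArg (φ T) ((congrArg e.homEquiv hn).trans (e.homEquiv_comp _ _))).trans ?_
  generalize e.homEquiv ((adj.homEquiv _ _).symm v) = b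
  refine Over.OverMorphism.ext (pullback.hom_ext ?_ ?_)
  · simp [φ, Flatn.morS]
    simp only [← Category.assoc]
    congr 1
    refine pullback.hom_ext ?_ ?_ <;> simp [κ]
  · simp [φ, Flatn.morS]

end Groth.Agent.S17079
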