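import Groth.Statements.S17080
import Mathlib

set_option backward.isDefEq.respectTransparency false
set_option backward.isDefEq.respectTransparency.types false
noncomputable section

set_option autoImplicit false
universe u
open CategoryTheory CategoryTheory.Limits AlgebraicGeometry
open MorSch

namespace Groth.Agent.S17080

/-- Let gX : X → S be proper and flat, gY : Y → S separated and j : U → Y an open immersion, and suppose
the functor Mor_S(X, Y) — S-schemes T ↦ S-morphisms T ×_S X → Y — is represented by an S-scheme M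
via e. Then there are an open subset M₀ of M and a representation e₀ of Mor_S(X, U) by the open
subscheme M₀ (viewed over S through M) which is compatible with e: for every S-morphism φ : T → M₀,
the S-morphism T ×_S X → Y classified by φ followed by the inclusion M₀ → M is the S-morphism T ×_S
X → U classified by φ, followed by j. In particular the morphism Mor_S(X, U) → Mor_S(X, Y) induced
by j is an open immersion. (Published for X projective and flat and Y quasi-projective over a
locally Noetherian S, which is how M is known to exist there; representability is taken as a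
hypothesis here.) -/
theorem result
    {X Y U S : Scheme.{u}} (gX : X ⟶ S) [IsProper gX] [Flat gX] (gY : Y ⟶ S) [IsSeparated gY]
    (j : U ⟶ Y) [IsOpenImmersion j] (M : Over S) (e : (Flatn.morS gX gY).RepresentableBy M) :
    ∃ (M₀ : M.left.Opens)
      (e₀ : (Flatn.morS gX (j ≫ gY)).RepresentableBy (Over.mk (M₀.ι ≫ M.hom))),
      ∀ (T : Over S) (φ : T ⟶ Over.mk (M₀.ι ≫ M.hom)),
        (e.homEquiv (φ ≫ Over.homMk M₀.ι rfl) :
            (Over.map gX).obj ((Over.pullback gX).obj T) ⟶ Over.mk gY) =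
          (e₀.homEquiv φ : (Over.map gX).obj ((Over.pullback gX).obj T) ⟶ Over.mk (j ≫ gY)) ≫
            (Over.homMk j rfl : Over.mk (j ≫ gY) ⟶ Over.mk gY) := by
  let ξ := e.homEquiv (𝟙 M)
  let p : pullback M.hom gX ⟶ M.left := pullback.fst M.hom gX
  let mz : ∀ {T : Over S}, (T ⟶ M) → (pullback T.hom gX ⟶ pullback M.hom gX) := fun {T} v =>
    pullback.lift (pullback.fst T.hom gX ≫ v.left) (pullback.snd T.hom gX)
      (by rw [Category.assoc, Over.w v]; exact pullback.condition)
  have hev : ∀ {T : Over S} (v : T ⟶ M), (e.homEquiv v).left = mz v ≫ ξ.left := fun {T} v => by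
    have h1 := e.homEquiv_comp v (𝟙 M)
    rw [Category.comp_id] at h1
    rw [h1]
    show ((Over.map gX).map ((Over.pullback gX).map v)).left ≫ ξ.left = _
    congr 1
  let M₀ : M.left.Opens := ⟨(p '' (ξ.left ⁻¹' (Set.range j)ᶜ))ᶜ,
    (p.isClosedMap _ (j.isOpenEmbedding.isOpen_range.isClosed_compl.preimage ξ.left.continuous)).isOpen_compl⟩
  have hiff : ∀ {T : Over S} (v : T ⟶ M), Set.range v.left ⊆ M₀ ↔ Set.range (e.homEquiv v).left ⊆ Set.range j := by
    intro T v
    have sq : IsPullback (mz v) (pullback.fst T.hom gX) p v.left :=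
      IsPullback.of_right (h₁₂ := pullback.snd M.hom gX) (h₂₂ := M.hom)
        (by simpa [mz, Over.w v] using (IsPullback.of_hasPullback T.hom gX).flip) (pullback.lift_fst _ _ _)
        (IsPullback.of_hasPullback M.hom gX).flip
    constructor
    · rintro h _ ⟨z, rfl⟩
      by_contra hz
      rw [hev, Scheme.Hom.comp_apply] at hz
      refine h ⟨pullback.fst T.hom gX z, rfl⟩ ⟨mz v z, hz, ?_⟩
      rw [← Scheme.Hom.comp_apply, sq.w, Scheme.Hom.comp_apply]
    · rintro h _ ⟨t, rfl⟩ ⟨z, hz, hzt⟩
      obtain ⟨w, hw, -⟩ := Scheme.exists_preimage_of_isPullback sq z t hzt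
      exact hz (h ⟨w, by rw [hev, Scheme.Hom.comp_apply]; exact congrArg ξ.left hw⟩)
  let ι₀ : Over.mk (M₀.ι ≫ M.hom) ⟶ M := Over.homMk M₀.ι rfl
  have hr : ∀ {T : Over S} (φ : T ⟶ Over.mk (M₀.ι ≫ M.hom)),
      Set.range (e.homEquiv (φ ≫ ι₀)).left ⊆ Set.range j := fun {T} φ => (hiff _).1 (by
    rintro _ ⟨t, rfl⟩
    exact (φ.left t).2)
  let ψ : ∀ T : Over S, (T ⟶ Over.mk (M₀.ι ≫ M.hom)) → (Flatn.morS gX (j ≫ gY)).obj (Opposite.op T) := fun T φ =>
    Over.homMk (IsOpenImmersion.lift j (e.homEquiv (φ ≫ ι₀)).left (hr φ)) (by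
      show _ ≫ j ≫ gY = _
      rw [IsOpenImmersion.lift_fac_assoc]
      exact Over.w (e.homEquiv (φ ≫ ι₀)))
  have hψ : ∀ T, Function.Bijective (ψ T) := fun T => by
    refine ⟨fun φ φ' h => ?_, fun b => ?_⟩
    · have h1 : e.homEquiv (φ ≫ ι₀) = e.homEquiv (φ' ≫ ι₀) := Over.OverMorphism.ext (by
        have := congrArg (fun x => CommaMorphism.left x ≫ j) h
        simpa [ψ] using this)
      exact Over.OverMorphism.ext ((cancel_mono M₀.ι).1 (congrArg CommaMorphism.left (e.homEquiv.injective h1)))
    · obtain ⟨v, hv⟩ := e.homEquiv.surjective (show (Flatn.morS gX gY).obj (Opposite.op T) from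
        Over.homMk (b.left ≫ j) (by
          show (b.left ≫ j) ≫ gY = _
          rw [Category.assoc]; exact Over.w b))
      have hv' : Set.range v.left ⊆ M₀ := (hiff v).2 (by rw [hv]; rintro _ ⟨z, rfl⟩; exact ⟨_, rfl⟩)
      let φ : T ⟶ Over.mk (M₀.ι ≫ M.hom) := Over.homMk (IsOpenImmersion.lift M₀.ι v.left
        (hv'.trans (Scheme.Opens.range_ι M₀).ge)) (by
          show _ ≫ M₀.ι ≫ M.hom = T.hom
          rw [IsOpenImmersion.lift_fac_assoc]; exact Over.w v)
      have hφ : φ ≫ ι₀ = v := Over.OverMorphism.ext (IsOpenImmersion.lift_fac _ _ _)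
      refine ⟨φ, Over.OverMorphism.ext ((cancel_mono j).1 ?_)⟩
      simp only [ψ, Over.homMk_left, IsOpenImmersion.lift_fac, hφ, hv]
  refine ⟨M₀, { homEquiv := fun {T} => Equiv.ofBijective _ (hψ T), homEquiv_comp := fun {T T'} a φ => ?_ },
    fun T φ => Over.OverMorphism.ext (IsOpenImmersion.lift_fac _ _ _).symm⟩
  refine Over.OverMorphism.ext ((cancel_mono j).1 ?_)
  show IsOpenImmersion.lift j _ _ ≫ j =
    (((Over.map gX).map ((Over.pullback gX).map a)).left ≫ IsOpenImmersion.lift j _ _) ≫ j
  refine (IsOpenImmersion.lift_fac _ _ _).trans ?_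
  refine Eq.trans ?_ (((Category.assoc _ _ _).trans (congrArg (_ ≫ ·) (IsOpenImmersion.lift_fac _ _ _))).symm)
  exact congrArg CommaMorphism.left ((congrArg e.homEquiv (Category.assoc a φ ι₀)).trans (e.homEquiv_comp a (φ ≫ ι₀)))

end Groth.Agent.S17080
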