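import Groth.Statements.S17083
import Groth.Agent.BlowUpLib.Props
import Groth.Agent.EffCartLib.Basic

set_option autoImplicit false
universe u
open CategoryTheory CategoryTheory.Limits AlgebraicGeometry
open MorSch

namespace Groth.Agent.S17083

open CategoryTheory CategoryTheory.Limits AlgebraicGeometry

/-- Over the complement of `V(I₂)`, the first of two disjoint centres stays effective Cartier on the
fibre product of the two blow-ups. -/
theorem isEffCartier_fst {X B₁ B₂ : Scheme.{u}} (I₁ I₂ : X.IdealSheafData) (hdisj : I₁ ⊔ I₂ = ⊤)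
    (σ₁ : B₁ ⟶ X) (hσ₁ : BlowUp.IsBlowUp σ₁ I₁) (σ₂ : B₂ ⟶ X) (hσ₂ : BlowUp.IsBlowUp σ₂ I₂) :
    BlowUp.IsEffCartierIdeal (I₁.comap (pullback.fst σ₁ σ₂ ≫ σ₁)) := by
  refine BlowUpLib.isEffCartier_of_cover fun p => ?_
  by_cases hp : σ₁ (pullback.fst σ₁ σ₂ p) ∈ I₁.support
  · let U : X.Opens := I₂.support.compl
    have hpU : σ₁ (pullback.fst σ₁ σ₂ p) ∈ U := fun h2 => by
      have h3 : σ₁ (pullback.fst σ₁ σ₂ p) ∈ (I₁ ⊔ I₂).support := by
        rw [Scheme.IdealSheafData.support_sup]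
        exact ⟨hp, h2⟩
      rw [hdisj, Scheme.IdealSheafData.support_top] at h3
      exact h3
    let e : (U : Scheme.{u}) ⟶ X := U.ι
    have hU : BlowUp.IsBlowUp (pullback.fst e σ₂) (I₂.comap e) :=
      BlowUpLib.isBlowUp_of_isPullback (IsPullback.of_hasPullback e σ₂).flip hσ₂
    have htop : I₂.comap e = ⊤ := by
      rw [← Scheme.IdealSheafData.support_eq_bot_iff, Scheme.IdealSheafData.support_comap]
      refine SetLike.ext fun y => iff_of_false (fun hy => ?_) (fun hy => hy)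
      exact y.2 hy
    obtain ⟨s, hs, -⟩ := hU.2 _ (𝟙 _) (by
      rw [Scheme.IdealSheafData.comap_id, htop]; exact EffCartLib.isEffCartier_top)
    have hiso : IsIso (pullback.fst e σ₂) := ⟨s, BlowUpLib.hom_ext hU _ hU.1
      (by rw [Category.assoc, hs, Category.comp_id]) (Category.id_comp _), hs⟩
    let W : (pullback σ₁ σ₂).Opens := (pullback.fst σ₁ σ₂ ≫ σ₁) ⁻¹ᵁ U
    refine ⟨_, W.ι, inferInstance, ⟨⟨p, hpU⟩, rfl⟩, ?_⟩
    rw [← Scheme.IdealSheafData.comap_comp, ← Category.assoc, Scheme.IdealSheafData.comap_comp]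
    have hflat : Flat (W.ι ≫ pullback.fst σ₁ σ₂) := by
      let V : B₁.Opens := σ₁ ⁻¹ᵁ U
      have hV : IsIso (pullback.fst σ₁ σ₂ ∣_ V) := by
        have h4 := (isPullback_morphismRestrict (pullback.fst σ₁ σ₂) V).flip.paste_horiz
          (IsPullback.of_hasPullback σ₁ σ₂).flip
        rw [← (isPullback_morphismRestrict σ₁ U).w] at h4
        exact (MorphismProperty.of_isPullback (P := MorphismProperty.isomorphisms Scheme)
          (IsPullback.of_bot' h4.flip (IsPullback.of_hasPullback e σ₂)).flip hiso :)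
      have hfl : Flat (pullback.fst σ₁ σ₂ ∣_ V) := @MorphismProperty.of_isIso _ _ @Flat _ _ _ _ _ hV
      have he : W.ι ≫ pullback.fst σ₁ σ₂ = (pullback.fst σ₁ σ₂ ∣_ V) ≫ V.ι :=
        (morphismRestrict_ι (pullback.fst σ₁ σ₂) V).symm
      rw [he]
      exact MorphismProperty.comp_mem @Flat _ _ hfl inferInstance
    exact BlowUpLib.isEffCartier_comap_of_flat _ hσ₁.1
  · let U : X.Opens := I₁.support.compl
    refine ⟨_, ((pullback.fst σ₁ σ₂ ≫ σ₁) ⁻¹ᵁ U).ι, inferInstance, ⟨⟨p, hp⟩, rfl⟩, ?_⟩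
    rw [show (I₁.comap (pullback.fst σ₁ σ₂ ≫ σ₁)).comap _ = ⊤ from ?_]
    · exact EffCartLib.isEffCartier_top
    · rw [← Scheme.IdealSheafData.support_eq_bot_iff, Scheme.IdealSheafData.support_comap,
        Scheme.IdealSheafData.support_comap]
      refine SetLike.ext fun y => iff_of_false (fun hy => ?_) (fun hy => hy)
      exact y.2 hy


/-- The closed immersion constructed in its proof, as follows. Let X be a scheme, I₁ and I₂
quasi-coherent ideal sheaves on X with I₁ + I₂ = O_X, so that they cut out disjoint closed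
subschemes Z₁ and Z₂, let σ : B → X be a blow-up of X in the ideal I₁ ∩ I₂ of Z₁ ∪ Z₂, and let σ₁ :
B₁ → X and σ₂ : B₂ → X be blow-ups of X in Z₁ and in Z₂ (blow-up in the sense of the universal
property: the inverse image ideal is effective Cartier, finally so). Then there is a morphism ι : B
→ B₁ ×_X B₂ over X which is a closed immersion; the components B → B_i are necessarily the unique
X-morphisms given by the universal properties. (Published for X a projective space over an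
algebraically closed field, Z₂ a closed point and Z₁ a finite set of closed points not containing
it, and iterated there to embed the blow-up at r distinct points as a closed subscheme of the fibre
product over X of the r blow-ups at single points.) -/
theorem result
    {X B B₁ B₂ : Scheme.{u}} (I₁ I₂ : X.IdealSheafData) (hdisj : I₁ ⊔ I₂ = ⊤)
    (σ : B ⟶ X) (hσ : BlowUp.IsBlowUp σ (I₁ ⊓ I₂))
    (σ₁ : B₁ ⟶ X) (hσ₁ : BlowUp.IsBlowUp σ₁ I₁) (σ₂ : B₂ ⟶ X) (hσ₂ : BlowUp.IsBlowUp σ₂ I₂) :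
    ∃ ι : B ⟶ pullback σ₁ σ₂, IsClosedImmersion ι ∧ ι ≫ pullback.fst σ₁ σ₂ ≫ σ₁ = σ := by
  have hc₁ := isEffCartier_fst I₁ I₂ hdisj σ₁ hσ₁ σ₂ hσ₂
  have hc₂ : BlowUp.IsEffCartierIdeal (I₂.comap (pullback.fst σ₁ σ₂ ≫ σ₁)) := by
    have h := BlowUpLib.isEffCartier_comap_of_flat (pullbackSymmetry σ₁ σ₂).hom
      (isEffCartier_fst I₂ I₁ (by rw [sup_comm]; exact hdisj) σ₂ hσ₂ σ₁ hσ₁)
    rwa [← Scheme.IdealSheafData.comap_comp, pullbackSymmetry_hom_comp_fst_assoc,
      ← pullback.condition] at h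
  have hmul : I₁ ⊓ I₂ = I₁ * I₂ := by
    ext V : 2
    rw [Scheme.IdealSheafData.ideal_inf, Scheme.IdealSheafData.ideal_mul, Pi.inf_apply, Pi.mul_apply]
    refine Ideal.inf_eq_mul_of_isCoprime (Ideal.isCoprime_iff_sup_eq.mpr ?_)
    have h := congrArg (fun K : X.IdealSheafData => K.ideal V) hdisj
    simpa only [Scheme.IdealSheafData.ideal_sup, Scheme.IdealSheafData.ideal_top, Pi.sup_apply,
      Pi.top_apply] using h
  rw [hmul] at hσ
  have hP : BlowUp.IsBlowUp (pullback.fst σ₁ σ₂ ≫ σ₁) (I₁ * I₂) := by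
    refine ⟨?_, fun Y g hg => ?_⟩
    · rw [BlowUpLib.comap_mul]
      exact SDivLib.isEffCartier_mul hc₁ hc₂
    rw [BlowUpLib.comap_mul] at hg
    have hg₂ := BlowUpLib.isEffCartier_of_mul hg
    rw [mul_comm] at hg
    have hg₁ := BlowUpLib.isEffCartier_of_mul hg
    obtain ⟨k₁, hk₁, -⟩ := hσ₁.2 Y g hg₁
    obtain ⟨k₂, hk₂, -⟩ := hσ₂.2 Y g hg₂
    refine ⟨pullback.lift k₁ k₂ (hk₁.trans hk₂.symm),
      show pullback.lift k₁ k₂ _ ≫ pullback.fst σ₁ σ₂ ≫ σ₁ = g by rw [pullback.lift_fst_assoc, hk₁],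
      fun m hm => ?_⟩
    apply pullback.hom_ext
    · rw [pullback.lift_fst]
      exact BlowUpLib.hom_ext hσ₁ g hg₁ ((Category.assoc _ _ _).trans hm) hk₁
    · rw [pullback.lift_snd]
      exact BlowUpLib.hom_ext hσ₂ g hg₂
        (by rw [Category.assoc, ← pullback.condition]; exact hm) hk₂
  obtain ⟨e, he⟩ := BlowUpLib.exists_iso hP hσ
  exact ⟨e.hom, inferInstance, he⟩
end Groth.Agent.S17083
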