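import Groth.Statements.S17084
import Mathlib

set_option backward.isDefEq.respectTransparency false
set_option backward.isDefEq.respectTransparency.types false

set_option autoImplicit false
universe u
open CategoryTheory CategoryTheory.Limits AlgebraicGeometry
open MorSch

namespace Groth.Agent.S17084

/-- Let (X_i)_{i ∈ ι} be a finite family of schemes over S with structure morphisms g_i : X_i → S, let Y
→ S be a scheme over S and T an S-scheme. Then for every family of S-morphisms a_i : T ×_S X_i → Y
there is a unique S-morphism b : T ×_S (∐_i X_i) → Y whose restriction along each T ×_S X_i → T ×_S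
(∐_i X_i) is a_i. In other words the canonical map Mor_S(∐_i X_i, Y) → ∏_i Mor_S(X_i, Y) of functors
on S-schemes is an isomorphism. -/
theorem result
    {S Y : Scheme.{u}} {ι : Type u} [Finite ι] (X : ι → Scheme.{u}) (g : ∀ i, X i ⟶ S)
    (gY : Y ⟶ S) (T : Over S) (a : ∀ i, (Flatn.morS (g i) gY).obj (Opposite.op T)) :
    ∃! b : (Flatn.morS (Sigma.desc g) gY).obj (Opposite.op T),
      ∀ i, pullback.map T.hom (g i) T.hom (Sigma.desc g) (𝟙 T.left) (Sigma.ι X i) (𝟙 S)
          ((Category.comp_id _).trans (Category.id_comp _).symm)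
          ((Category.comp_id _).trans (Sigma.ι_desc g i).symm) ≫ b.left = (a i).left := by
  let m : ∀ i, pullback T.hom (g i) ⟶ pullback T.hom (Sigma.desc g) := fun i =>
    pullback.map T.hom (g i) T.hom (Sigma.desc g) (𝟙 T.left) (Sigma.ι X i) (𝟙 S)
      ((Category.comp_id _).trans (Category.id_comp _).symm) ((Category.comp_id _).trans (Sigma.ι_desc g i).symm)
  let s : (∐ fun i => pullback T.hom (g i)) ⟶ pullback T.hom (Sigma.desc g) := Sigma.desc m
  haveI : IsIso s := by
    obtain ⟨n, ⟨eι⟩⟩ := Finite.exists_equiv_fin ι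
    let π : ∀ j : Fin n, X (eι.symm j) ⟶ ∐ X := fun j => Sigma.ι X (eι.symm j)
    haveI hπ : IsIso (Sigma.desc π) := by
      rw [show Sigma.desc π = (Sigma.reindex eι.symm X).hom from Sigma.hom_ext _ _ fun j => by
        rw [Sigma.ι_desc]; exact (Sigma.ι_reindex_hom eι.symm X j).symm]
      infer_instance
    haveI := FinitaryPreExtensive.isIso_sigmaDesc_fst π (pullback.snd T.hom (Sigma.desc g)) hπ
    let κ : ∀ i, pullback T.hom (g i) ≅ pullback (pullback.snd T.hom (Sigma.desc g)) (Sigma.ι X i) := fun i =>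
      pullback.congrHom rfl (Sigma.ι_desc g i).symm ≪≫ (pullbackLeftPullbackSndIso T.hom (Sigma.desc g) (Sigma.ι X i)).symm
    have e : (Sigma.reindex eι.symm fun i => pullback T.hom (g i)).hom ≫ s =
        Limits.Sigma.map (fun j => (κ (eι.symm j)).hom) ≫
          Sigma.desc (fun j => pullback.fst (pullback.snd T.hom (Sigma.desc g)) (π j)) := by
      refine Sigma.hom_ext _ _ fun j => ?_
      refine ((Sigma.ι_reindex_hom_assoc eι.symm (fun i => pullback T.hom (g i)) j s).trans ?_)
      simp only [s, Sigma.ι_desc, Sigma.ι_map_assoc]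
      refine pullback.hom_ext ?_ ?_
      · simp [m, κ, π]
      · simp [m, κ, π, pullback.condition]
    haveI : IsIso ((Sigma.reindex eι.symm fun i => pullback T.hom (g i)).hom ≫ s) := by rw [e]; infer_instance
    exact IsIso.of_isIso_comp_left (Sigma.reindex eι.symm fun i => pullback T.hom (g i)).hom s
  have hw : ∀ b : (Flatn.morS (Sigma.desc g) gY).obj (Opposite.op T),
      b.left ≫ gY = pullback.snd T.hom (Sigma.desc g) ≫ Sigma.desc g := fun b => Over.w b
  refine ⟨Over.homMk (inv s ≫ Sigma.desc fun i => (a i).left) ?_, fun i => ?_, fun b hb => Over.OverMorphism.ext ?_⟩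
  · show (inv s ≫ _) ≫ gY = pullback.snd T.hom (Sigma.desc g) ≫ Sigma.desc g
    rw [Category.assoc, IsIso.inv_comp_eq]
    refine Sigma.hom_ext _ _ fun i => ?_
    rw [Sigma.ι_desc_assoc, show (a i).left ≫ gY = pullback.snd T.hom (g i) ≫ g i from Over.w (a i), Sigma.ι_desc_assoc]
    simp [m]
  · show m i ≫ inv s ≫ _ = _
    rw [show m i = Sigma.ι (fun i => pullback T.hom (g i)) i ≫ s from (Sigma.ι_desc _ i).symm, Category.assoc,
      IsIso.hom_inv_id_assoc, Sigma.ι_desc]
  · show b.left = inv s ≫ _
    rw [← cancel_epi s, IsIso.hom_inv_id_assoc]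
    refine Sigma.hom_ext _ _ fun i => ?_
    rw [Sigma.ι_desc_assoc, Sigma.ι_desc]
    exact hb i

end Groth.Agent.S17084
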