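import Groth.Statements.S17085
import Groth.Agent.RatCurvExtLib.Sweep
import Groth.Agent.S7826
import Groth.Agent.AlgSpRegLib.ImageReduced

set_option autoImplicit false
universe u
open CategoryTheory CategoryTheory.Limits AlgebraicGeometry
open RatCurve

set_option backward.isDefEq.respectTransparency false
set_option backward.isDefEq.respectTransparency.types false
set_option maxHeartbeats 1000000

namespace Groth.Agent.S17085

/-- Two morphisms from reduced schemes with images of equal closure have equal kernel ideals. -/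
theorem ker_eq_of_closure_range {A B Y : Scheme.{u}} [IsReduced A] [IsReduced B] (f : A ⟶ Y) (g : B ⟶ Y)
    (h : closure (Set.range f) = closure (Set.range g)) : f.ker = g.ker := by
  rw [AlgSpRegLib.ker_eq_vanishingIdeal f, AlgSpRegLib.ker_eq_vanishingIdeal g]
  congr 1
  exact TopologicalSpace.Closeds.ext h

/-- A rational map from the projective line to a proper scheme is a morphism. -/
theorem exists_extend_line {k : Type u} [Field k] [IsAlgClosed k] {Y : Scheme.{u}} (p : Y ⟶ Spec (CommRingCat.of k)) [IsProper p]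
    (V : (CohB1.ProjSpace 1 k).Opens) (hV : (V : Set ↥(CohB1.ProjSpace 1 k)).Nonempty) (φ : V.toScheme ⟶ Y)
    (hφ : φ ≫ p = V.ι ≫ CohB1.ProjSpace.toSpec 1 k) :
    ∃ F : CohB1.ProjSpace 1 k ⟶ Y, F ≫ p = CohB1.ProjSpace.toSpec 1 k ∧ V.ι ≫ F = φ := by
  haveI : Smooth (CohB1.ProjSpace.toSpec 1 k) := GenusZeroLib.smooth_toSpec 1 k
  haveI : IsIntegral (CohB1.ProjSpace 1 k) := GenusZeroLib.isIntegral_projSpace k 1
  let τ := CohB1.ProjSpace.toSpec 1 k
  haveI : IsLocallyNoetherian (CohB1.ProjSpace 1 k) := LocallyOfFiniteType.isLocallyNoetherian τ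
  have hP : topologicalKrullDim ↥(CohB1.ProjSpace 1 k) ≤ 1 :=
    le_of_eq ((GenusZeroLib.dim_projSpace k 1).trans (by norm_num))
  have hreg : ∀ x : CohB1.ProjSpace 1 k, IsRegularLocalRing ((CohB1.ProjSpace 1 k).presheaf.stalk x) := fun x => by
    haveI := WeilExtLib.isRegular_stalk_dedekind (R := k) (τ x)
    exact BlowUpLib.isRegularLocalRing_stalk_of_smooth τ x
  obtain ⟨W, hVW, g', hg', hres, hcod⟩ := WeilExtLib.exists_extend_proper p τ (fun y _ => hreg y) V
    (V.2.dense hV) φ hφ
  have hW : (⊤ : (CohB1.ProjSpace 1 k).Opens) ≤ W := fun x _ => hcod x ((DimIneqLib.stalk_dim_le_dim x).trans hP)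
  refine ⟨(CohB1.ProjSpace 1 k).topIso.inv ≫ (CohB1.ProjSpace 1 k).homOfLE hW ≫ g', ?_, ?_⟩
  · simp only [Category.assoc, hg']
    rw [Scheme.homOfLE_ι_assoc]
    exact (CohB1.ProjSpace 1 k).topIso.inv_hom_id_assoc τ
  · rw [← hres]
    simp only [← Category.assoc]
    congr 1
    rw [← cancel_mono W.ι]
    simp

/-- Let k be an algebraically closed field and C ⊆ P^n_k a closed subscheme which is an integral scheme
of dimension one (a projective curve). Then C is rational — some nonempty open subscheme of C is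
isomorphic over k to an open subscheme of the projective line P^1_k — if and only if C is the
scheme-theoretic image of some k-morphism f : P^1_k → P^n_k, i.e. the ideal sheaf of C in P^n_k is
the kernel ideal sheaf of f. -/
theorem result
    {k : Type u} [Field k] [IsAlgClosed k] {n : ℕ} (C : Scheme.{u})
    (i : C ⟶ CohB1.ProjSpace n k) [IsClosedImmersion i] [IsIntegral C]
    (hdim : topologicalKrullDim C = 1) :
    (∃ (U : C.Opens) (V : (CohB1.ProjSpace 1 k).Opens) (e : (↑U : Scheme.{u}) ≅ ↑V),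
        Nonempty U ∧
          e.hom ≫ V.ι ≫ CohB1.ProjSpace.toSpec 1 k = U.ι ≫ i ≫ CohB1.ProjSpace.toSpec n k) ↔
      ∃ f : CohB1.ProjSpace 1 k ⟶ CohB1.ProjSpace n k,
        f ≫ CohB1.ProjSpace.toSpec n k = CohB1.ProjSpace.toSpec 1 k ∧ f.ker = i.ker := by
  let tp := CohB1.ProjSpace.toSpec 1 k
  haveI : IsProper tp := ProjDegLib.toSpec_isProper k 1
  haveI : IsProper (CohB1.ProjSpace.toSpec n k) := ProjDegLib.toSpec_isProper k n
  haveI : Smooth tp := GenusZeroLib.smooth_toSpec 1 k
  haveI : IsIntegral (CohB1.ProjSpace 1 k) := GenusZeroLib.isIntegral_projSpace k 1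
  let τ : C ⟶ Spec (CommRingCat.of k) := i ≫ CohB1.ProjSpace.toSpec n k
  haveI : IsProper τ := inferInstanceAs (IsProper (i ≫ CohB1.ProjSpace.toSpec n k))
  constructor
  · rintro ⟨U, V, e, hU, he⟩
    have hV : (V : Set ↥(CohB1.ProjSpace 1 k)).Nonempty := ⟨(e.hom hU.some).1, (e.hom hU.some).2⟩
    obtain ⟨G, hG, hGV⟩ := exists_extend_line τ V hV (e.inv ≫ U.ι) (by
      rw [Category.assoc, ← he, Iso.inv_hom_id_assoc])
    refine ⟨G ≫ i, by rw [Category.assoc]; exact hG, ker_eq_of_closure_range _ _ ?_⟩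
    refine le_antisymm (closure_mono ?_) ?_
    · rintro _ ⟨z, rfl⟩
      exact ⟨G z, rfl⟩
    · have hd : closure (U : Set C) = Set.univ := (U.2.dense ⟨_, hU.some.2⟩).closure_eq
      have hsub : (U : Set C) ⊆ Set.range G := fun c hc => ⟨(e.hom ⟨c, hc⟩).1, by
        have h1 := congr($(hGV).base (e.hom ⟨c, hc⟩))
        refine h1.trans ?_
        show U.ι ((e.hom ≫ e.inv) ⟨c, hc⟩) = c
        rw [Iso.hom_inv_id]
        rfl⟩
      refine closure_minimal ?_ isClosed_closure
      rintro _ ⟨c, rfl⟩
      have h2 : i c ∈ i '' closure (U : Set C) := ⟨c, hd ▸ trivial, rfl⟩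
      refine closure_mono ?_ (image_closure_subset_closure_image i.continuous h2)
      rintro _ ⟨d, hd', rfl⟩
      obtain ⟨z, rfl⟩ := hsub hd'
      exact ⟨z, rfl⟩
  · rintro ⟨f, hf, hker⟩
    let f' := IsClosedImmersion.lift i f hker.ge
    have hf' : f' ≫ i = f := IsClosedImmersion.lift_fac _ _ _
    have hf't : f' ≫ τ = tp := by rw [← Category.assoc, hf', hf]
    haveI : IsProper (f' ≫ τ) := hf't.symm ▸ ‹IsProper tp›
    haveI : IsProper f' := IsProper.of_comp f' τ
    haveI : QuasiCompact f := by rw [← hf']; infer_instance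
    have hgen : f' (genericPoint (CohB1.ProjSpace 1 k)) = genericPoint C := by
      have h0 := congrArg (fun I : (CohB1.ProjSpace n k).IdealSheafData => (I.support : Set ↥(CohB1.ProjSpace n k))) hker
      simp only [Scheme.Hom.support_ker, TopologicalSpace.Closeds.coe_closure, ← hf'] at h0
      rw [i.isClosedEmbedding.isClosed_range.closure_eq, Scheme.Hom.comp_base, TopCat.coe_comp, Set.range_comp,
        (i.isClosedEmbedding.isClosedMap _ f'.isClosedMap.isClosed_range).closure_eq, ← Set.image_univ (f := ⇑i)] at h0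
      have h2 : Set.range f' = Set.univ := i.isClosedEmbedding.injective.image_injective h0
      have h1 := (genericPoint_spec (CohB1.ProjSpace 1 k)).image f'.continuous
      rw [Set.image_univ, h2, closure_univ] at h1
      exact h1.eq (genericPoint_spec C)
    let U : C.Opens := τ.smoothLocus
    have hηU : genericPoint C ∈ U := Scheme.Hom.genericPoint_mem_smoothLocus_of_perfectField τ
    haveI : Nonempty U := ⟨⟨_, hηU⟩⟩
    haveI : IsIntegral U.toScheme := isIntegral_of_isOpenImmersion U.ι
    haveI : Smooth (U.ι ≫ τ) := by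
      rw [← Scheme.Hom.smoothLocus_eq_top_iff, ← Scheme.Hom.preimage_smoothLocus_eq, Scheme.Opens.ι_preimage_self]
    haveI : QuasiCompact (U.ι ≫ τ) := by
      haveI : CompactSpace C := QuasiCompact.compactSpace_of_compactSpace τ
      haveI : IsNoetherian C := { toIsLocallyNoetherian := LocallyOfFiniteType.isLocallyNoetherian τ }
      infer_instance
    have hdU : topologicalKrullDim U = 1 := (VarDimLib.dim_open_eq τ U ⟨_, hηU⟩).trans hdim
    obtain ⟨Cb, sb, j, hj, hjs, hsbp, hsbs, hsbi⟩ := SquareLib.exists_completion (U.ι ≫ τ) hdU.le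
    haveI := hj; haveI := hsbp; haveI := hsbs; haveI := hsbi
    haveI : IsIntegral Cb := GeometricallyIntegral.isIntegral_of_subsingleton sb
    have hdb : topologicalKrullDim Cb = 1 := by
      rw [← VarDimLib.dim_open_eq sb j.opensRange ⟨j ⟨_, hηU⟩, ⟨_, rfl⟩⟩]
      exact (IsHomeomorph.topologicalKrullDim_eq _ j.isOpenEmbedding.isEmbedding.toHomeomorph.isHomeomorph).symm.trans hdU
    obtain ⟨F, hF, hFW⟩ := exists_extend_line sb (f' ⁻¹ᵁ U) ⟨_, show f' (genericPoint (CohB1.ProjSpace 1 k)) ∈ U from hgen ▸ hηU⟩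
      ((f' ∣_ U) ≫ j) (by rw [Category.assoc, hjs, morphismRestrict_ι_assoc, hf't])
    have hFgen : F (genericPoint _) = j ⟨genericPoint C, hηU⟩ := by
      have hm : genericPoint (CohB1.ProjSpace 1 k) ∈ f' ⁻¹ᵁ U :=
        show f' (genericPoint (CohB1.ProjSpace 1 k)) ∈ U from hgen ▸ hηU
      refine (congr($(hFW).base ⟨genericPoint (CohB1.ProjSpace 1 k), hm⟩)).trans (congrArg j (Subtype.ext ?_))
      exact (morphismRestrict_base_coe f' U _).trans hgen
    have hnc : ∃ a b, F.base a ≠ F.base b := by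
      by_contra hc
      push Not at hc
      haveI : JacobsonSpace ↥(CohB1.ProjSpace 1 k) := LocallyOfFiniteType.jacobsonSpace tp
      obtain ⟨z, -, hz⟩ := nonempty_inter_closedPoints (X := ↥(CohB1.ProjSpace 1 k)) Set.univ_nonempty
        isOpen_univ.isLocallyClosed
      have hcl : IsClosed ({j ⟨genericPoint C, hηU⟩} : Set Cb) := by
        rw [← hFgen, hc _ z]
        haveI : IsProper (F ≫ sb) := hF.symm ▸ ‹IsProper tp›
        haveI : IsProper F := IsProper.of_comp F sb
        rw [← Set.image_singleton]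
        exact F.isClosedMap _ hz
      have hηb : j ⟨genericPoint C, hηU⟩ = genericPoint Cb := by
        have h1 : genericPoint U.toScheme = ⟨genericPoint C, hηU⟩ :=
          Subtype.ext (genericPoint_eq_of_isOpenImmersion U.ι)
        rw [← h1]
        exact genericPoint_eq_of_isOpenImmersion j
      haveI : Subsingleton Cb := ⟨fun a b =>
        ((hηb ▸ genericPoint_specializes a : j ⟨genericPoint C, hηU⟩ ⤳ a).mem_closed hcl rfl).trans
          ((hηb ▸ genericPoint_specializes b : j ⟨genericPoint C, hηU⟩ ⤳ b).mem_closed hcl rfl).symm⟩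
      haveI : Subsingleton (TopologicalSpace.IrreducibleCloseds Cb) := ⟨fun A B => TopologicalSpace.IrreducibleCloseds.ext
        ((Subsingleton.eq_univ_of_nonempty A.2.1).trans (Subsingleton.eq_univ_of_nonempty B.2.1).symm)⟩
      have h7 : topologicalKrullDim Cb ≤ 0 := Order.krullDim_nonpos_of_subsingleton
      rw [hdb] at h7
      exact absurd h7 (by norm_num)
    have hN : Pi1.IsNormalScheme Cb := by
      letI : Cb.Over (Spec (CommRingCat.of k)) := ⟨sb⟩
      haveI : Smooth (Cb ↘ Spec (CommRingCat.of k)) := hsbs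
      exact HurwitzLib.isNormalScheme_of_smooth (k := k)
    obtain ⟨E, hE⟩ := Groth.Agent.S7826.result k sb hN hdb F hF hnc
    refine ⟨U, (j ≫ E.hom).opensRange, (j ≫ E.hom).isoOpensRange, inferInstance, ?_⟩
    rw [Scheme.Hom.isoOpensRange_hom_ι_assoc, Category.assoc, hE, hjs]

end Groth.Agent.S17085
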