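import Groth.Statements.S17086
import Mathlib
import Groth.Agent.GenusZeroLib.PSpace
import Groth.Agent.CIDivLib.Dim
import Groth.Agent.EffCartLib.Basic
import Groth.Agent.MiscFlat6.NormalLowDim
import Groth.Agent.StratLib.Light
import Groth.Agent.CommAlgDim.Regular
-- import your own Groth.Agent.* helpers here

set_option autoImplicit false
universe u
open CategoryTheory CategoryTheory.Limits AlgebraicGeometry
open RatCurve

namespace Groth.Agent.S17086

/-- Let k be an algebraically closed field, X a closed subscheme of P^n_k, Z ⊆ X a closed subscheme and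
σ : B → X a blow-up of X along Z (the inverse image ideal of Z is effective Cartier and σ is final
with this property). Then every k-morphism f : P^1_k → X whose image is not contained in Z lifts
uniquely along σ: there is exactly one morphism g : P^1_k → B with g ≫ σ = f. Equivalently, over the
open locus of morphisms meeting X ∖ Z, the morphism Mor(P^1_k, B) → Mor(P^1_k, X) induced by σ is a
bijection on k-points. -/
theorem result
    {k : Type u} [Field k] [IsAlgClosed k] {n : ℕ} (X : Scheme.{u})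
    (c : X ⟶ CohB1.ProjSpace n k) [IsClosedImmersion c]
    (Z : Scheme.{u}) (iZ : Z ⟶ X) [IsClosedImmersion iZ]
    (B : Scheme.{u}) (σ : B ⟶ X) (hσ : BlowUp.IsBlowUp σ iZ.ker)
    (f : CohB1.ProjSpace 1 k ⟶ X)
    (hf : f ≫ c ≫ CohB1.ProjSpace.toSpec n k = CohB1.ProjSpace.toSpec 1 k)
    (hfZ : ¬ Set.range f ⊆ Set.range iZ) :
    ∃! g : CohB1.ProjSpace 1 k ⟶ B, g ≫ σ = f := by
  haveI : IsLocallyNoetherian (CohB1.ProjSpace 1 k) :=
    haveI := StratLib.isProper_toSpec 1 k
    LocallyOfFiniteType.isLocallyNoetherian (CohB1.ProjSpace.toSpec 1 k)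
  haveI : IsIntegral (CohB1.ProjSpace 1 k) := GenusZeroLib.isIntegral_projSpace k 1
  have hdim : topologicalKrullDim ↥(CohB1.ProjSpace 1 k) = ((1 : ℕ) : WithBot ℕ∞) := GenusZeroLib.dim_projSpace k 1
  have hsupp : (((iZ.ker.comap f).support : TopologicalSpace.Closeds _) : Set ↥(CohB1.ProjSpace 1 k)) ≠ Set.univ := fun h => hfZ (by
    rintro _ ⟨z, rfl⟩
    have hz : z ∈ (iZ.ker.comap f).support := by rw [← SetLike.mem_coe, h]; trivial
    rw [Scheme.IdealSheafData.support_comap] at hz
    have hz' : f z ∈ (iZ.ker.support : Set X) := hz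
    rwa [Scheme.Hom.support_ker, iZ.isClosedEmbedding.isClosed_range.closure_eq] at hz')
  refine hσ.2 _ f (EffCartLib.isEffCartier_of_stalk _ fun x _ U hx => ?_)
  let O := (CohB1.ProjSpace 1 k).presheaf.stalk x
  haveI : IsRegularLocalRing O := CIDivLib.isRegular_stalk x
  haveI : IsDomain O := CommAlgDim.isDomain_of_isRegularLocalRing O
  haveI : IsPrincipalIdealRing O := by
    refine ((tfae_of_isNoetherianRing_of_isLocalRing_of_isDomain (R := O)).out 4 0).1 ?_
    have h2 : (IsLocalRing.maximalIdeal O).spanFinrank ≤ 1 := by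
      have h3 : ((IsLocalRing.maximalIdeal O).spanFinrank : WithBot ℕ∞) ≤ ((1 : ℕ) : WithBot ℕ∞) :=
        (IsRegularLocalRing.spanFinrank_maximalIdeal (R := O)).trans_le
          ((MiscFlat6.ringKrullDim_stalk_le _ x).trans hdim.le)
      exact_mod_cast h3
    obtain ⟨t, htc, ht⟩ := Submodule.FG.exists_span_finset_card_eq_spanFinrank
      (IsNoetherian.noetherian (IsLocalRing.maximalIdeal O))
    rcases Nat.le_one_iff_eq_zero_or_eq_one.mp (htc ▸ h2) with h0 | h0
    · rw [Finset.card_eq_zero.mp h0] at ht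
      exact ⟨0, by rw [← ht]; simp⟩
    · obtain ⟨a, rfl⟩ := Finset.card_eq_one.mp h0
      exact ⟨a, by rw [← ht]; simp⟩
  let J := ((iZ.ker.comap f).ideal U).map ((CohB1.ProjSpace 1 k).presheaf.germ U.1 x hx).hom
  refine ⟨Submodule.IsPrincipal.generator J, mem_nonZeroDivisors_of_ne_zero fun h0 => hsupp ?_,
    (J.span_singleton_generator).symm⟩
  haveI : Nonempty U.1 := ⟨⟨x, hx⟩⟩
  have hb : (iZ.ker.comap f).ideal U = ⊥ := le_bot_iff.1 fun a ha => by
    have hJ0 : J = ⊥ := by rw [← J.span_singleton_generator, h0]; simp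
    have h1 : ((CohB1.ProjSpace 1 k).presheaf.germ U.1 x hx).hom a ∈ J := Ideal.mem_map_of_mem _ ha
    rw [hJ0, Ideal.mem_bot] at h1
    exact germ_injective_of_isIntegral (CohB1.ProjSpace 1 k) x hx (h1.trans (map_zero _).symm)
  refine Set.eq_univ_of_univ_subset ?_
  rw [← (U.1.isOpen.dense ⟨x, hx⟩).closure_eq]
  refine closure_minimal (fun y hy => ?_) (iZ.ker.comap f).support.isClosed
  rw [SetLike.mem_coe, Scheme.IdealSheafData.mem_support_iff_of_mem hy, hb]
  simp [Scheme.zeroLocus]

end Groth.Agent.S17086
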