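import Groth.Statements.S17087
import Groth.Agent.MorSchLib.IsoLocus
import Groth.Agent.MorSchLib.Hilb
import Groth.Agent.RichLib.FibreProper

set_option backward.isDefEq.respectTransparency false
set_option backward.isDefEq.respectTransparency.types false
noncomputable section

set_option autoImplicit false
universe u
open CategoryTheory CategoryTheory.Limits AlgebraicGeometry
open MorSch

namespace Groth.Agent.S17087

variable {X Y S : Scheme.{u}}

/-- The projection of the ambient space to the source. -/
def pm (gX : X ⟶ S) (gY : Y ⟶ S) (T : Over S) : PicF.XT (pullback.fst gX gY ≫ gX) T ⟶ pullback gX T.hom :=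
  pullback.map _ _ _ _ (pullback.fst gX gY) (𝟙 _) (𝟙 S) (Category.comp_id _) (by simp)

/-- The projection of a family to the source. -/
def qK (gX : X ⟶ S) (gY : Y ⟶ S) {T : Over S} (K : (PicF.XT (pullback.fst gX gY ≫ gX) T).IdealSheafData) :
    K.subscheme ⟶ pullback gX T.hom :=
  K.subschemeι ≫ pm gX gY T

/-- The graph. -/
def graph (gX : X ⟶ S) (gY : Y ⟶ S) (T : Over S) (a : (Flatn.morS gX gY).obj (Opposite.op T)) :
    pullback T.hom gX ⟶ PicF.XT (pullback.fst gX gY ≫ gX) T :=
  pullback.lift (pullback.lift (pullback.snd T.hom gX) a.left (Over.w a).symm) (pullback.fst T.hom gX)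
    ((pullback.lift_fst_assoc _ _ _ _).trans pullback.condition.symm)

theorem graph_pm (gX : X ⟶ S) (gY : Y ⟶ S) (T : Over S) (a : (Flatn.morS gX gY).obj (Opposite.op T)) :
    graph gX gY T a ≫ pm gX gY T = (pullbackSymmetry T.hom gX).hom := by
  refine pullback.hom_ext ?_ ?_ <;> simp [graph, pm]

theorem isClosedImmersion_graph (gX : X ⟶ S) (gY : Y ⟶ S) [IsSeparated gY] (T : Over S)
    (a : (Flatn.morS gX gY).obj (Opposite.op T)) : IsClosedImmersion (graph gX gY T a) := by
  haveI : IsSeparated (pm gX gY T) := by
    have sq : IsPullback (pullback.fst (pullback.fst gX gY ≫ gX) T.hom) (pm gX gY T) (pullback.fst gX gY)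
        (pullback.fst gX T.hom) := by
      refine IsPullback.of_bot (v₂₁ := pullback.snd gX T.hom) (v₂₂ := gX) (h₃₁ := T.hom) ?_ (pullback.lift_fst _ _ _).symm
        (IsPullback.of_hasPullback gX T.hom)
      simpa [pm] using IsPullback.of_hasPullback (pullback.fst gX gY ≫ gX) T.hom
    exact MorphismProperty.of_isPullback (P := @IsSeparated) sq inferInstance
  haveI : IsClosedImmersion (graph gX gY T a ≫ pm gX gY T) := by rw [graph_pm]; infer_instance
  exact IsClosedImmersion.of_comp (graph gX gY T a) (pm gX gY T)

theorem isIso_qK_of_ker (gX : X ⟶ S) (gY : Y ⟶ S) [IsSeparated gY] (T : Over S)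
    (a : (Flatn.morS gX gY).obj (Opposite.op T)) : IsIso (qK gX gY (graph gX gY T a).ker) := by
  haveI := isClosedImmersion_graph gX gY T a
  have h : (graph gX gY T a).toImage ≫ qK gX gY (graph gX gY T a).ker = (pullbackSymmetry T.hom gX).hom := by
    rw [qK, ← Category.assoc, show (graph gX gY T a).toImage ≫ (graph gX gY T a).ker.subschemeι = graph gX gY T a from
      Scheme.Hom.toImage_imageι _, graph_pm]
  haveI : IsIso ((graph gX gY T a).toImage ≫ qK gX gY (graph gX gY T a).ker) := by rw [h]; infer_instance
  exact IsIso.of_isIso_comp_left (graph gX gY T a).toImage _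

theorem graph_eq_of_ker (gX : X ⟶ S) (gY : Y ⟶ S) [IsSeparated gY] (T : Over S)
    {K : (PicF.XT (pullback.fst gX gY ≫ gX) T).IdealSheafData} [IsIso (qK gX gY K)]
    (a : (Flatn.morS gX gY).obj (Opposite.op T)) (ha : K = (graph gX gY T a).ker) :
    graph gX gY T a = (pullbackSymmetry T.hom gX).hom ≫ inv (qK gX gY K) ≫ K.subschemeι := by
  let l := IsClosedImmersion.lift K.subschemeι (graph gX gY T a) (by rw [Scheme.IdealSheafData.ker_subschemeι, ha])
  have hl : l ≫ K.subschemeι = graph gX gY T a := IsClosedImmersion.lift_fac _ _ _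
  have h : l = (pullbackSymmetry T.hom gX).hom ≫ inv (qK gX gY K) := by
    have h0 : l ≫ qK gX gY K = (pullbackSymmetry T.hom gX).hom := by
      rw [qK, ← Category.assoc, hl, graph_pm]
    rw [← h0, Category.assoc, IsIso.hom_inv_id, Category.comp_id]
  rw [← hl, h, Category.assoc]


/-- Let S be a locally Noetherian scheme, gX : X → S proper and flat, gY : Y → S separated, and (H, Z) a
pair representing the Hilbert functor of X ×_S Y over S on locally Noetherian S-schemes (H locally
Noetherian; Z ⊆ (X ×_S Y) ×_S H closed, proper and flat over H; universal). For an S-morphism a : T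
×_S X → Y write Γ_a : T ×_S X → (X ×_S Y) ×_S T for its graph, a closed immersion. Then there is an
open subset H₀ of H such that, for every locally Noetherian S-scheme T: every S-morphism a : T ×_S X
→ Y has exactly one S-morphism g : T → H with image in H₀ along which Z pulls back to the closed
subscheme defined by Γ_a; and every S-morphism g : T → H with image in H₀ pulls Z back to the graph
of exactly one such a. Thus the functor Mor_S(X, Y) on locally Noetherian S-schemes is represented
by the open subscheme H₀ of the Hilbert scheme of X ×_S Y, the universal family being a graph.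
(Published for X and Y projective over S, with X flat; the Hilbert scheme is taken as given here.
The published statement also asserts that each irreducible component of the representing scheme is
of finite type over S; that clause is not part of this row.) -/
theorem result
    {X Y S : Scheme.{u}} [IsLocallyNoetherian S] (gX : X ⟶ S) [IsProper gX] [Flat gX]
    (gY : Y ⟶ S) [IsSeparated gY]
    (H : Over S) (Z : FGA.HilbSet (pullback.fst gX gY ≫ gX) H)
    (hH : FGA.HilbRepresentedBy (pullback.fst gX gY ≫ gX) H Z) :
    ∃ H₀ : H.left.Opens, ∀ (T : Over S) [IsLocallyNoetherian T.left],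
      (∀ a : (Flatn.morS gX gY).obj (Opposite.op T),
        ∃! g : T ⟶ H, Set.range g.left ⊆ (H₀ : Set H.left) ∧
          FGA.hilbPull (pullback.fst gX gY ≫ gX) g Z.1 =
            (pullback.lift
              (pullback.lift (pullback.snd T.hom gX) a.left (Over.w a).symm)
              (pullback.fst T.hom gX)
              ((pullback.lift_fst_assoc _ _ _ _).trans pullback.condition.symm)
              : pullback T.hom gX ⟶ PicF.XT (pullback.fst gX gY ≫ gX) T).ker) ∧
      (∀ g : T ⟶ H, Set.range g.left ⊆ (H₀ : Set H.left) →
        ∃! a : (Flatn.morS gX gY).obj (Opposite.op T),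
          FGA.hilbPull (pullback.fst gX gY ≫ gX) g Z.1 =
            (pullback.lift
              (pullback.lift (pullback.snd T.hom gX) a.left (Over.w a).symm)
              (pullback.fst T.hom gX)
              ((pullback.lift_fst_assoc _ _ _ _).trans pullback.condition.symm)
              : pullback T.hom gX ⟶ PicF.XT (pullback.fst gX gY ≫ gX) T).ker) := by
  haveI := hH.1
  let fW : pullback gX gY ⟶ S := pullback.fst gX gY ≫ gX
  let q := qK gX gY (T := H) Z.1
  let hp := pullback.snd gX H.hom
  have hqh : q ≫ hp = Z.1.subschemeι ≫ PicF.XTproj fW H := by simp [q, qK, pm, hp, fW]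
  haveI : IsProper (q ≫ hp) := by rw [hqh]; exact Z.2.1
  haveI : Flat (q ≫ hp) := by rw [hqh]; exact Z.2.2
  haveI : IsProper q := IsProper.of_comp q hp
  haveI : LocallyOfFinitePresentation (q ≫ hp) := RichLib.FibreLoci.lfp_of_isLocallyNoetherian _
  haveI : LocallyOfFinitePresentation hp := RichLib.FibreLoci.lfp_of_isLocallyNoetherian _
  obtain ⟨U, hU⟩ := MorSch.exists_open_bc q hp
  have key : ∀ {T : Over S} (g : T ⟶ H),
      Set.range g.left ⊆ (U : Set H.left) ↔ IsIso (qK gX gY (FGA.hilbPull fW g Z.1)) := fun {T} g => by
    let mP : pullback gX T.hom ⟶ pullback gX H.hom :=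
      pullback.map gX T.hom gX H.hom (𝟙 X) g.left (𝟙 S) (by simp) (by simp)
    have sqP : IsPullback mP (pullback.snd gX T.hom) hp g.left := by
      refine IsPullback.of_right (h₁₂ := pullback.fst gX H.hom) (h₂₂ := H.hom) (v₁₃ := gX) ?_
        (pullback.lift_snd _ _ _) (IsPullback.of_hasPullback gX H.hom)
      rw [show mP ≫ pullback.fst gX H.hom = pullback.fst gX T.hom from
        (pullback.lift_fst _ _ _).trans (Category.comp_id _), Over.w g]
      exact IsPullback.of_hasPullback _ _
    rw [MorSch.hilbPull_eq]
    let K := Z.1.comap (HilbPts.m fW g.left (Over.w g))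
    have sqK := HilbPts.isPullback_comap_m fW g.left (Over.w g) Z.1
    have e2 : ((Z.1.comapIso (HilbPts.m fW g.left (Over.w g))).hom ≫ pullback.snd _ Z.1.subschemeι) ≫ Z.1.subschemeι =
        K.subschemeι ≫ HilbPts.m fW g.left (Over.w g) := by
      rw [Category.assoc, ← pullback.condition, Scheme.IdealSheafData.comapIso_hom_fst_assoc]
    have sq : IsPullback ((Z.1.comapIso (HilbPts.m fW g.left (Over.w g))).hom ≫ pullback.snd _ Z.1.subschemeι)
        (qK gX gY K) q mP := by
      refine IsPullback.of_bot ?_ ?_ sqP
      · rw [hqh, show qK gX gY K ≫ pullback.snd gX T.hom = K.subschemeι ≫ pullback.snd fW T.hom by simp [qK, pm, fW]]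
        exact sqK
      · rw [show q = Z.1.subschemeι ≫ pm gX gY H from rfl]
        refine ((Category.assoc _ _ _).symm.trans (congrArg (· ≫ pm gX gY H) e2)).trans ?_
        show (K.subschemeι ≫ _) ≫ _ = (K.subschemeι ≫ pm gX gY T) ≫ mP
        rw [Category.assoc, Category.assoc]
        congr 1
        refine pullback.hom_ext ?_ ?_ <;> simp [HilbPts.m, pm, mP, fW]
    rw [hU, MorSch.isIso_snd_congr q mP (pullback.fst hp g.left) sqP.isoPullback.symm (by simp)]
    rw [← sq.isoPullback_hom_snd]
    exact ((MorphismProperty.isomorphisms Scheme.{u}).cancel_left_of_respectsIso _ _).symm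
  refine ⟨U, fun T _ => ⟨fun a => ?_, fun g hg => ?_⟩⟩
  · haveI := isClosedImmersion_graph gX gY T a
    have e : (graph gX gY T a).toImage ≫ (graph gX gY T a).ker.subschemeι ≫ PicF.XTproj fW T =
        pullback.fst T.hom gX := by
      rw [← Category.assoc, show (graph gX gY T a).toImage ≫ (graph gX gY T a).ker.subschemeι = graph gX gY T a from
        Scheme.Hom.toImage_imageι _]
      exact pullback.lift_snd _ _ _
    let Ya : FGA.HilbSet fW T := ⟨(graph gX gY T a).ker,
      (MorphismProperty.cancel_left_of_respectsIso @IsProper _ _).1 (e.symm ▸ (inferInstance : IsProper (pullback.fst T.hom gX))),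
      (MorphismProperty.cancel_left_of_respectsIso @Flat _ _).1 (e.symm ▸ (inferInstance : Flat (pullback.fst T.hom gX)))⟩
    obtain ⟨g, hg, huniq⟩ := hH.2 T Ya
    exact ⟨g, ⟨(key g).2 (hg ▸ isIso_qK_of_ker gX gY T a), hg⟩, fun g' hg' => huniq g' hg'.2⟩
  · let K := FGA.hilbPull fW g Z.1
    haveI : IsIso (qK gX gY K) := (key g).1 hg
    let r := (pullbackSymmetry T.hom gX).hom ≫ inv (qK gX gY K) ≫ K.subschemeι
    have hr : r ≫ pm gX gY T = (pullbackSymmetry T.hom gX).hom := by simp [r, qK]
    have hr1 : r ≫ pullback.fst fW T.hom ≫ pullback.fst gX gY = pullback.snd T.hom gX := by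
      have := congrArg (· ≫ pullback.fst gX T.hom) hr
      simpa [pm] using this
    let a : (Flatn.morS gX gY).obj (Opposite.op T) := Over.homMk (r ≫ pullback.fst fW T.hom ≫ pullback.snd gX gY) (by
      show (r ≫ _) ≫ gY = pullback.snd T.hom gX ≫ gX
      rw [← hr1]
      simp [pullback.condition])
    have ha : graph gX gY T a = r := by
      refine pullback.hom_ext (pullback.hom_ext ?_ ?_) ?_
      · rw [graph, pullback.lift_fst, pullback.lift_fst, Category.assoc]; exact hr1.symm
      · rw [graph, pullback.lift_fst, pullback.lift_snd, Category.assoc]; rfl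
      · rw [graph, pullback.lift_snd]
        have := congrArg (· ≫ pullback.snd gX T.hom) hr
        simpa [pm] using this.symm
    refine ⟨a, ?_, fun b hb => Over.OverMorphism.ext ?_⟩
    · show K = (graph gX gY T a).ker
      rw [ha]
      simp [r, Scheme.Hom.ker_comp_of_isIso]
    · have hgb := graph_eq_of_ker gX gY T b hb
      have := congrArg (fun z => z ≫ pullback.fst fW T.hom ≫ pullback.snd gX gY) hgb
      simp [graph, fW] at this
      simpa [a, r, fW] using this

end Groth.Agent.S17087
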