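import Groth.Statements.S1709
import Groth.Agent.AssPointLib.Push
-- import your own Groth.Agent.* helpers here

set_option autoImplicit false
universe u
open CategoryTheory CategoryTheory.Limits AlgebraicGeometry TopologicalSpace
open SDiv

namespace Groth.Agent.S1709

/-- Let f : X ⟶ S be an affine morphism with X locally Noetherian and F a quasi-coherent module on X.
Then the following subsets of S coincide: the image of the associated points of F, the associated
points of f_* F, the weakly associated points of f_* F, and the image of the weakly associated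
points of F. -/
theorem result {X S : Scheme.{u}} (f : X ⟶ S) [IsAffineHom f] [IsLocallyNoetherian X] (F : X.Modules)
    (hF : Coh.IsQCoh F) :
    (fun x => f x) '' {x : ↥X | Curv2.IsAssPoint F x} = {s : ↥S | Curv2.IsAssPoint ((Scheme.Modules.pushforward f).obj F) s} ∧
      {s : ↥S | Curv2.IsAssPoint ((Scheme.Modules.pushforward f).obj F) s} =
        {s : ↥S | Curv2.IsWeakAssPoint ((Scheme.Modules.pushforward f).obj F) s} ∧
      {s : ↥S | Curv2.IsWeakAssPoint ((Scheme.Modules.pushforward f).obj F) s} =
        (fun x => f x) '' {x : ↥X | Curv2.IsWeakAssPoint F x} := by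
  have := hF
  simp only [AssPointLib.assPoint_iff_weak]
  refine ⟨?_, trivial, ?_⟩
  · ext s
    exact ⟨fun ⟨x, hx, e⟩ => e ▸ AssPointLib.weak_push_of_noetherian f F hx,
      fun hs => (AssPointLib.exists_of_weak_push f F hs).imp fun x h => ⟨h.2, h.1⟩⟩
  · ext s
    exact ⟨fun hs => (AssPointLib.exists_of_weak_push f F hs).imp fun x h => ⟨h.2, h.1⟩,
      fun ⟨x, hx, e⟩ => e ▸ AssPointLib.weak_push_of_noetherian f F hx⟩

end Groth.Agent.S1709
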