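import Groth.Statements.S17091
import Groth.Agent.RadQuotLib.Geom
import Groth.Agent.BorelLib.RedUnip
import Groth.Agent.BorelLib.CommBorel

set_option autoImplicit false
set_option maxHeartbeats 4000000
set_option synthInstance.maxHeartbeats 400000
set_option backward.isDefEq.respectTransparency false
universe u
open CategoryTheory MonoidalCategory CartesianMonoidalCategory MonObj GrpObj AlgebraicGeometry
open AGF

attribute [-instance] CategoryTheory.Hom.commGroup

namespace Groth.Agent.S17091

open Groth.Agent CategoryTheory.Limits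
attribute [local instance] BorelLib.pTop BorelLib.pTopTensor

/-- Let k be an algebraically closed field, G an affine, smooth, connected k-group scheme, u : U ⟶ G its
unipotent radical (the largest normal closed subgroup scheme of G, smooth and quasi-compact over k,
whose geometric fibre is connected and contains no non-trivial subtorus), B a Borel subgroup of G
and v : V ⟶ B the unipotent radical of B. Then U is contained in V: u factors through v. -/
theorem result (k : Type u) [Field k] [IsAlgClosed k]
    (G : Over (Spec (CommRingCat.of k))) [GrpObj G] [IsAffine G.left] [Smooth G.hom] [ConnectedSpace ↥G.left]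
    (U : Over (Spec (CommRingCat.of k))) [GrpObj U] (u : U ⟶ G) (hU : Par.IsUnipotentRadical u)
    (B : Over (Spec (CommRingCat.of k))) [GrpObj B] (iB : B ⟶ G) (hB : Red.IsBorelOver k iB)
    (V : Over (Spec (CommRingCat.of k))) [GrpObj V] (v : V ⟶ B) (hV : Par.IsUnipotentRadical v) :
    ∃ f : U ⟶ V, f ≫ v ≫ iB = u := by
  let s : ↥(Spec (CommRingCat.of k)) := IsLocalRing.closedPoint k
  obtain ⟨huM, huc, hun, hus, huq, hug, humax⟩ := hU
  haveI := huM; haveI := huc; haveI := hus
  obtain ⟨hvM, hvc, hvn, hvs, hvq, hvg, hvmax⟩ := hV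
  haveI := hvM; haveI := hvc; haveI := hvs
  obtain ⟨hBm, hBc, hBs, hBconn, -, -⟩ := id hB
  haveI := hBm; haveI := hBc; haveI := hBs; haveI := hBconn
  haveI : IsAffine B.left := isAffine_of_isAffineHom iB.left
  haveI := BorelLib.connectedSpace_of_geom s U (hug s).1
  haveI : IsAffine U.left := isAffine_of_isAffineHom u.left
  haveI : AlgebraicGeometry.IsReduced U.left := AlgSpLib.isReduced_of_smooth U.hom
  haveI : Mono iB := DiagRep.mono_of_isClosedImmersion iB hBc
  obtain ⟨A, _, _, x, hx, hA, -⟩ := BorelLib.exists_setup G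
  haveI := hx; haveI := hA
  haveI : QuasiCompact G.hom := inferInstance
  have hconn := BorelLib.isPreconnected_univ_of_connected x
  have hbor := BorelLib.isBor_ptsSub x hB
  have huu := BorelLib.uni_of_hasNoSubtorus x u (BorelLib.hasNoSubtorus_of_geom s (hug s).2)
  have hle : BorelLib.ptsSub x u ≤ BorelLib.ptsSub x iB :=
    (BorelLib.le_radSub hconn (BorelLib.isPreconnected_ptsSub x) (BorelLib.conjSub_le_of_normal x hun)
      (BorelLib.isSol_of_uni (BorelLib.isClosed_ptsSub x) (BorelLib.isPreconnected_ptsSub x) huu)).trans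
      ((BorelLib.radSub_facts hconn).2.2.2.2 _ hbor)
  obtain ⟨a, ha⟩ := BorelLib.exists_factor_of_le x hle
  haveI : IsMonHom (a ≫ iB) := by rw [ha]; exact huM
  haveI : IsMonHom a := DiagRep.isMonHom_of_comp_mono a iB
  haveI : IsClosedImmersion (a.left ≫ iB.left) := by rw [← Over.comp_left, ha]; exact huc
  haveI : IsClosedImmersion a.left := IsClosedImmersion.of_comp a.left iB.left
  have hn : AlgGrp.IsNormalHom a := fun T g n => by
    obtain ⟨n', hn'⟩ := hun T (g ≫ iB) n
    refine ⟨n', (cancel_mono iB).1 ?_⟩
    rw [MonObj.mul_comp, MonObj.mul_comp, GrpObj.inv_comp, Category.assoc, Category.assoc, ha, hn']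
  obtain ⟨f, hf⟩ := hvmax U a inferInstance hn hus huq hug
  exact ⟨f, by rw [← Category.assoc, hf, ha]⟩
end Groth.Agent.S17091
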