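import Groth.Statements.S17092
import Groth.Agent.BorelLib.RedUnip
-- import your own Groth.Agent.* helpers here

set_option autoImplicit false
set_option maxHeartbeats 4000000
set_option synthInstance.maxHeartbeats 400000
set_option backward.isDefEq.respectTransparency false
universe u
open CategoryTheory MonoidalCategory CartesianMonoidalCategory MonObj GrpObj AlgebraicGeometry
open AGF

attribute [-instance] CategoryTheory.Hom.commGroup

namespace Groth.Agent.S17092

open Groth.Agent.BorelLib
attribute [local instance] BorelLib.pTop BorelLib.pTopTensor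

/-- Let k be an algebraically closed field, G an affine, smooth, connected k-group scheme, u : U ⟶ G its
unipotent radical (the largest normal closed subgroup scheme, smooth and quasi-compact over k, whose
geometric fibre is connected and contains no non-trivial subtorus), T a maximal torus of G and j : H
⟶ G a closed subgroup scheme which is smooth and connected. If H lies in the unipotent radical of
every Borel subgroup of G containing T, then H lies in U: j factors through u. (Together with the
inclusion of U in the unipotent radical of every Borel subgroup of G, this says that the identity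
component of the reduced intersection of the unipotent radicals of the Borel subgroups containing T
is U; it is trivial when G is reductive.) -/
theorem result (k : Type u) [Field k] [IsAlgClosed k]
    (G : Over (Spec (CommRingCat.of k))) [GrpObj G] [IsAffine G.left] [Smooth G.hom] [ConnectedSpace ↥G.left]
    (U : Over (Spec (CommRingCat.of k))) [GrpObj U] (u : U ⟶ G) (hU : Par.IsUnipotentRadical u)
    (T : Over (Spec (CommRingCat.of k))) [GrpObj T] (iT : T ⟶ G) (hT : AGF.IsMaxTorus iT)
    (H : Over (Spec (CommRingCat.of k))) [GrpObj H] (j : H ⟶ G) [IsMonHom j] (hj : IsClosedImmersion j.left)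
    [Smooth H.hom] [ConnectedSpace ↥H.left]
    (hH : ∀ (B : Over (Spec (CommRingCat.of k))) [GrpObj B] (iB : B ⟶ G) (t : T ⟶ B), Red.IsBorelOver k iB → t ≫ iB = iT →
      ∀ (V : Over (Spec (CommRingCat.of k))) [GrpObj V] (v : V ⟶ B), Par.IsUnipotentRadical v → ∃ f : H ⟶ V, f ≫ v ≫ iB = j) :
    ∃ g : H ⟶ U, g ≫ u = j := by
  obtain ⟨A, _, _, v, hv, hA, -⟩ := BorelLib.exists_setup G
  haveI := hv; haveI := hA; haveI := hj
  haveI : QuasiCompact G.hom := inferInstance
  have hconn := isPreconnected_univ_of_connected v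
  haveI := hT.1; haveI := hT.2.1
  have hmax := isMaxTor_ptsSub v hT
  let s : ↥(Spec (CommRingCat.of k)) := IsLocalRing.closedPoint k
  -- in every Borel containing the torus
  have hB : ∀ B, IsBor ⊤ B → ptsSub v iT ≤ B →
      ptsSub v j ≤ B ∧ ∀ x ∈ ptsSub v j, IsUni x := by
    intro B hB hTB
    obtain ⟨Bs, _, iB, _, hBs, hBpts⟩ := exists_borel_of_isBor v hB
    obtain ⟨-, hBc, hBsm, hBconn, -, -⟩ := id hBs
    haveI := hBc; haveI := hBsm; haveI := hBconn
    obtain ⟨hTcl, hTs⟩ := facts_torus v (iT := iT) inferInstance hT.2.2.1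
    haveI := hTs; haveI := hTcl
    haveI : LocallyOfFiniteType T.hom := by rw [← Over.w iT]; infer_instance
    obtain ⟨t, ht⟩ := exists_factor_of_le v (i := iT) (i' := iB) (hBpts.symm ▸ hTB)
    haveI : IsAffine Bs.left := isAffine_of_isAffineHom iB.left
    obtain ⟨B₀, _, _, w, hw, hB₀, -⟩ := BorelLib.exists_setup Bs
    haveI := hw; haveI := hB₀
    obtain ⟨N, _, n, hn, hN, -⟩ := exists_unipotentRadical w
    obtain ⟨f, hf⟩ := hH Bs iB t hBs ht N n hN
    obtain ⟨-, hnc, -, hns, -, hNgeom, -⟩ := hN
    haveI := hn; haveI := hnc; haveI := hns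
    haveI : IsClosedImmersion (n ≫ iB).left := by rw [Over.comp_left]; infer_instance
    haveI := connectedSpace_of_geom s N (hNgeom s).1
    have hu := uni_of_hasNoSubtorus v (n ≫ iB) (hasNoSubtorus_of_geom s (hNgeom s).2)
    have hle : ptsSub v j ≤ ptsSub v (n ≫ iB) := ptsSub_le_of_factor v hf
    exact ⟨hle.trans ((ptsSub_le_of_factor v (f := n) rfl).trans hBpts.le), fun x hx => hu x (hle hx)⟩
  obtain ⟨B₁, hB₁, -, huniv⟩ := IsBor.exists_conj_universal (K := (⊤ : Subgroup (Pt k A)))
    (by rw [Subgroup.coe_top]; exact isClosed_univ) (by rwa [Subgroup.coe_top])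
  obtain ⟨g, -, hg⟩ := hB₁.exists_conj_le (by rw [Subgroup.coe_top]; exact isClosed_univ) (by rwa [Subgroup.coe_top])
    le_top hmax.tor.conn hmax.tor.isSol
  have hTB₀ : ptsSub v iT ≤ BorelLib.conjSub g⁻¹ B₁ := by
    have := conjSub_mono (a := g⁻¹) hg
    rwa [conjSub_conjSub, inv_mul_cancel, conjSub_one] at this
  have hu := (hB _ (hB₁.conjSub (a := g⁻¹) trivial) hTB₀).2
  have hp : _root_.IsPreconnected (ptsSub v j : Set (Pt k A)) := isPreconnected_ptsSub v
  have hs := isSol_of_uni (isClosed_ptsSub v) hp hu
  have hle : ptsSub v j ≤ radSub k A := le_neut hp (le_iInf fun B =>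
    le_of_le_borels hconn hmax hp hs (fun B' hB' hTB' => (hB B' hB' hTB').1)
      (fun W _ _ _ r x hx => hu x hx W r) B.2)
  obtain ⟨N, _, n, hn, hN, hNmax⟩ := exists_unipotentRadical v
  obtain ⟨hn', hnc, hnn, hns, hnq, hNgeom, -⟩ := hN
  haveI := hn; haveI := hnc
  obtain ⟨f, hf⟩ := hU.2.2.2.2.2.2 N n hnc hnn hns hnq hNgeom
  haveI := hU.1; haveI := hU.2.1
  haveI : AlgebraicGeometry.IsReduced H.left := AlgSpLib.isReduced_of_smooth H.hom
  exact exists_factor_of_le v ((hNmax _ hp hle hu).trans (ptsSub_le_of_factor v hf))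

end Groth.Agent.S17092
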