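import Groth.Statements.S17093
import Groth.Agent.RadQuotLib.Closed
import Groth.Agent.BorelLib.RedUnip
import Groth.Agent.S3278

set_option autoImplicit false
set_option maxHeartbeats 4000000
set_option synthInstance.maxHeartbeats 400000
set_option backward.isDefEq.respectTransparency false
universe u
open CategoryTheory MonoidalCategory CartesianMonoidalCategory MonObj GrpObj AlgebraicGeometry
open AGF

attribute [-instance] CategoryTheory.Hom.commGroup

namespace Groth.Agent.S17093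

open Groth.Agent CategoryTheory.Limits
attribute [local instance] BorelLib.pTop BorelLib.pTopTensor

/-- Let k be an algebraically closed field, G and G' affine, smooth, connected k-group schemes, π : G ⟶
G' a surjective homomorphism, u : U ⟶ G the unipotent radical of G and u' : U' ⟶ G' that of G'
(largest normal closed subgroup schemes, smooth and quasi-compact over k, with connected geometric
fibre containing no non-trivial subtorus). Then π carries U onto U': u ≫ π factors through u' by a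
morphism U ⟶ U' which is surjective. -/
theorem result (k : Type u) [Field k] [IsAlgClosed k]
    (G G' : Over (Spec (CommRingCat.of k))) [GrpObj G] [GrpObj G'] [IsAffine G.left] [Smooth G.hom] [ConnectedSpace ↥G.left]
    [IsAffine G'.left] [Smooth G'.hom] [ConnectedSpace ↥G'.left]
    (π : G ⟶ G') [IsMonHom π] (hπ : Surjective π.left)
    (U : Over (Spec (CommRingCat.of k))) [GrpObj U] (u : U ⟶ G) (hU : Par.IsUnipotentRadical u)
    (U' : Over (Spec (CommRingCat.of k))) [GrpObj U'] (u' : U' ⟶ G') (hU' : Par.IsUnipotentRadical u') :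
    ∃ f : U ⟶ U', f ≫ u' = u ≫ π ∧ Surjective f.left := by
  let s : ↥(Spec (CommRingCat.of k)) := IsLocalRing.closedPoint k
  obtain ⟨huM, huc, hun, hus, huq, hug, humax⟩ := hU
  haveI := huM; haveI := huc; haveI := hus
  obtain ⟨hvM, hvc, hvn, hvs, hvq, hvg, hvmax⟩ := hU'
  haveI := hvM; haveI := hvc; haveI := hvs; haveI := hπ
  haveI := BorelLib.connectedSpace_of_geom s U (hug s).1
  haveI := BorelLib.connectedSpace_of_geom s U' (hvg s).1
  haveI : IsAffine U.left := isAffine_of_isAffineHom u.left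
  haveI : IsAffine U'.left := isAffine_of_isAffineHom u'.left
  haveI : AlgebraicGeometry.IsReduced U.left := AlgSpLib.isReduced_of_smooth U.hom
  haveI : AlgebraicGeometry.IsReduced U'.left := AlgSpLib.isReduced_of_smooth U'.hom
  obtain ⟨Q, _, g₀, hgM, hQa, hQl, hgf, hgs, hgk⟩ := S3278.result k G U u hun
  haveI := hgM; haveI := hQa; haveI := hQl; haveI := hgf; haveI := hgs
  haveI : Smooth Q.hom := NormSub.smooth_of_quot g₀
  obtain ⟨A, _, _, v, hv, hA, -⟩ := BorelLib.exists_setup G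
  obtain ⟨A', _, _, w, hw, hA', hAr'⟩ := BorelLib.exists_setup G'
  obtain ⟨A'', _, _, z, hz, hA'', hAr''⟩ := BorelLib.exists_setup Q
  haveI := hv; haveI := hA; haveI := hw; haveI := hA'; haveI := hAr'; haveI := hz; haveI := hA''; haveI := hAr''
  have hconn := BorelLib.isPreconnected_univ_of_connected v
  have hconn' := BorelLib.isPreconnected_univ_of_connected w
  obtain ⟨f, hf, hfs, hfv⟩ := RadQuot.exists_pts_map v w π
  obtain ⟨g, hg, hgsur, hgv⟩ := RadQuot.exists_pts_map v z g₀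
  have hker : g.ker = BorelLib.ptsSub v u := by
    ext x
    rw [MonoidHom.mem_ker, BorelLib.mem_ptsSub, ← (BorelLib.ptEquiv z).injective.eq_iff, map_one, hgv]
    constructor
    · intro h
      exact ⟨hgk.lift (BorelLib.ptEquiv v x) (toUnit _) (by rw [h, Hom.one_def]), hgk.lift_fst _ _ _⟩
    · rintro ⟨b, hb⟩
      rw [← hb, Category.assoc, show u ≫ g₀ = toUnit U ≫ η[Q] from hgk.w, ← Category.assoc,
        toUnit_unique (b ≫ toUnit U) (toUnit _), ← Hom.one_def]
  obtain ⟨N₀, _, n₀, hn₀M, hn₀, hmax₀⟩ := BorelLib.exists_unipotentRadical v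
  haveI := hn₀M
  obtain ⟨-, hn₀c, hn₀n, hn₀s, hn₀q, hn₀g, -⟩ := hn₀
  obtain ⟨l, hl⟩ := humax N₀ n₀ hn₀c hn₀n hn₀s hn₀q hn₀g
  have huu := BorelLib.uni_of_hasNoSubtorus v u (BorelLib.hasNoSubtorus_of_geom s (hug s).2)
  have hvu := BorelLib.uni_of_hasNoSubtorus w u' (BorelLib.hasNoSubtorus_of_geom s (hvg s).2)
  have hUc := BorelLib.isClosed_ptsSub v (i := u)
  have hUp := BorelLib.isPreconnected_ptsSub v (i := u)
  have hUn := BorelLib.conjSub_le_of_normal v hun
  obtain ⟨hCc, hCp⟩ := BorelLib.isClosed_map hf hUc hUp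
  have hCu : ∀ x ∈ (BorelLib.ptsSub v u).map f, BorelLib.IsUni x := by
    rintro _ ⟨x, hx, rfl⟩
    exact (huu x hx).map f hf
  have hCn : ∀ a, BorelLib.conjSub a ((BorelLib.ptsSub v u).map f) ≤ (BorelLib.ptsSub v u).map f := fun a => by
    obtain ⟨b, rfl⟩ := hfs a
    rw [← BorelLib.map_conjSub]
    exact Subgroup.map_mono (hUn b)
  obtain ⟨N₁, _, n₁, hn₁M, hn₁, hmax₁⟩ := BorelLib.exists_unipotentRadical w
  haveI := hn₁M
  obtain ⟨-, hn₁c, hn₁n, hn₁s, hn₁q, hn₁g, -⟩ := hn₁
  obtain ⟨l', hl'⟩ := hvmax N₁ n₁ hn₁c hn₁n hn₁s hn₁q hn₁g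
  have hCV : (BorelLib.ptsSub v u).map f ≤ BorelLib.ptsSub w u' :=
    (hmax₁ _ hCp (BorelLib.le_radSub hconn' hCp hCn (BorelLib.isSol_of_uni hCc hCp hCu)) hCu).trans
      (BorelLib.ptsSub_le_of_factor w hl')
  have hVC : BorelLib.ptsSub w u' ≤ (BorelLib.ptsSub v u).map f :=
    RadQuot.le_map_of_uni hconn hf hfs hg hgsur hUc hUp huu hker
      (fun J hJp hJr hJu => (hmax₀ J hJp hJr hJu).trans (BorelLib.ptsSub_le_of_factor v hl))
      (BorelLib.isClosed_ptsSub w) (BorelLib.isPreconnected_ptsSub w) (BorelLib.conjSub_le_of_normal w hvn) hvu hCV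
  haveI : LocallyOfFiniteType U.hom := inferInstance
  haveI : Mono u' := DiagRep.mono_of_isClosedImmersion u' hvc
  obtain ⟨φ, hφ⟩ := BorelLib.NA.exists_factor_of_pts (u ≫ π) u' fun a => by
    have hm : f ((BorelLib.ptEquiv v).symm (a ≫ u)) ∈ BorelLib.ptsSub w u' :=
      hCV ⟨_, ⟨a, ((BorelLib.ptEquiv v).apply_symm_apply _).symm⟩, rfl⟩
    obtain ⟨b, hb⟩ := (BorelLib.mem_ptsSub w).1 hm
    exact ⟨b, by rw [hb, hfv, (BorelLib.ptEquiv v).apply_symm_apply, Category.assoc]⟩
  refine ⟨φ, hφ, BorelLib.surjective_of_pts φ fun y => ?_⟩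
  obtain ⟨x, hx, hxy⟩ := hVC ((BorelLib.mem_ptsSub w).2 ⟨y, ((BorelLib.ptEquiv w).apply_symm_apply _).symm⟩ :
    (BorelLib.ptEquiv w).symm (y ≫ u') ∈ BorelLib.ptsSub w u')
  obtain ⟨b, hb⟩ := (BorelLib.mem_ptsSub v).1 hx
  refine ⟨b, (cancel_mono u').1 ?_⟩
  rw [Category.assoc, hφ, ← Category.assoc, hb, ← hfv, hxy, (BorelLib.ptEquiv w).apply_symm_apply]
end Groth.Agent.S17093
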