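import Groth.Statements.S17094
import Groth.Agent.BorelLib.RedTorus
import Groth.Agent.TorsTupleLib.SepPoints
-- import your own Groth.Agent.* helpers here

set_option autoImplicit false
set_option maxHeartbeats 4000000
set_option synthInstance.maxHeartbeats 400000
set_option backward.isDefEq.respectTransparency false
universe u
open CategoryTheory MonoidalCategory CartesianMonoidalCategory MonObj GrpObj AlgebraicGeometry
open AGF

attribute [-instance] CategoryTheory.Hom.commGroup

namespace Groth.Agent.S17094

open Groth.Agent.BorelLib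
attribute [local instance] BorelLib.pTop BorelLib.pTopTensor

/-- Let k be a separably closed field and G a reductive k-group scheme (affine, smooth, connected
reductive geometric fibre). Then the maximal k-tori of G generate it: if i : H ⟶ G is a closed
subgroup scheme through which the inclusion of every maximal torus of G factors, then i is an
isomorphism. -/
theorem result (k : Type u) [Field k] [IsSepClosed k]
    (G : Over (Spec (CommRingCat.of k))) [GrpObj G] (hG : Red.IsReductive G)
    (H : Over (Spec (CommRingCat.of k))) [GrpObj H] (i : H ⟶ G) [IsMonHom i] (hi : IsClosedImmersion i.left)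
    (hH : ∀ (T : Over (Spec (CommRingCat.of k))) [GrpObj T] (iT : T ⟶ G), Red.IsMaximalTorus iT → ∃ t : T ⟶ H, t ≫ i = iT) :
    IsIso i := by
  haveI := hi; haveI := hG.1; haveI := hG.2.1
  obtain ⟨T, _, iT, hT⟩ := TorsTuple.exists_maximalTorus_sepClosed hG
  haveI := hT.1; haveI := hT.2.1
  haveI : IsAffine G.left := isAffine_of_isAffineHom G.hom
  obtain ⟨-, hTs, -, -⟩ := subtorus_facts (IsLocalRing.closedPoint k) iT hT.2.2.1
  haveI := hTs
  haveI : Smooth (G ⊗ T).hom := inferInstanceAs (Smooth (Limits.pullback.fst G.hom T.hom ≫ G.hom))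
  haveI : AlgebraicGeometry.IsReduced G.left := AlgSpLib.isReduced_of_smooth G.hom
  haveI : QuasiCompact G.hom := inferInstance
  have hcl : IsClosed (Set.range i.left) := i.left.isClosedEmbedding.isClosed_range
  have hsub : Set.range (TorsTuple.conjMap iT).left ⊆ Set.range i.left := by
    rintro _ ⟨x, rfl⟩
    refine closure_minimal ?_ (hcl.preimage (TorsTuple.conjMap iT).left.continuous)
      (TorsTuple.dense_rational (G ⊗ T) x)
    rintro _ ⟨p, rfl⟩
    let h := p ≫ fst G T
    let e : G ≅ G := asIso (AGF.conjBy h⁻¹ (𝟙 G))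
    haveI : IsMonHom e.hom := DiagRep.isMonHom_conjBy h⁻¹
    obtain ⟨t', ht'⟩ := hH T (iT ≫ e.hom) (MaxTorConj.isMaximalTorus_iso e hT)
    refine ⟨(p ≫ snd G T ≫ t').left (IsLocalRing.closedPoint k), ?_⟩
    have key : p ≫ TorsTuple.conjMap iT = (p ≫ snd G T ≫ t') ≫ i := by
      have e1 : p = lift (p ≫ fst G T) (p ≫ snd G T) := by ext <;> simp
      conv_lhs => rw [e1]
      rw [TorsTuple.comp_conjMap]
      simp only [Category.assoc, ht']
      have hc : ∀ a x : 𝟙_ (Over (Spec (CommRingCat.of k))) ⟶ G,
          x ≫ AGF.conjBy a (𝟙 G) = a * x * a⁻¹ := fun a x => by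
        rw [MonObj.comp_mul, MonObj.comp_mul, GrpObj.comp_inv, Category.comp_id, ← Category.assoc,
          toUnit_unique (x ≫ toUnit G) (𝟙 _), Category.id_comp]
      show _ = p ≫ snd G T ≫ iT ≫ AGF.conjBy h⁻¹ (𝟙 G)
      rw [← Category.assoc (snd G T) iT, ← Category.assoc p (snd G T ≫ iT), hc, _root_.inv_inv]
    rw [← Scheme.Hom.comp_apply, ← Over.comp_left]
    exact ((congrArg (fun m : _ ⟶ G => m.left (IsLocalRing.closedPoint k)) key)).symm
  haveI : Surjective i.left := ⟨fun x => by
    have := closure_minimal hsub hcl (TorsTuple.denseRange_conjMap hG hT x)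
    exact this⟩
  haveI : IsIso i.left := isIso_of_isClosedImmersion_of_surjective i.left
  haveI : IsIso ((Over.forget _).map i) := inferInstanceAs (IsIso i.left)
  exact isIso_of_reflects_iso i (Over.forget _)

end Groth.Agent.S17094
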