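import Groth.Statements.S17095
import Groth.Agent.BorelLib.RedTorus
import Groth.Agent.TorsTupleLib.CentreTori
import Groth.Agent.TorsTupleLib.Slices
-- import your own Groth.Agent.* helpers here

set_option autoImplicit false
set_option maxHeartbeats 4000000
set_option synthInstance.maxHeartbeats 400000
set_option backward.isDefEq.respectTransparency false
universe u
open CategoryTheory MonoidalCategory CartesianMonoidalCategory MonObj GrpObj AlgebraicGeometry
open AGF

attribute [-instance] CategoryTheory.Hom.commGroup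

namespace Groth.Agent.S17095

open Groth.Agent.BorelLib
attribute [local instance] BorelLib.pTop BorelLib.pTopTensor

/-- Let k be a separably closed field, G a reductive k-group scheme and z : Z ⟶ G its centre. Then Z is
the scheme-theoretic intersection of the maximal k-tori of G: for every k-scheme X and every
X-valued point g of G, g factors through Z if and only if g factors through the inclusion of every
maximal torus of G. -/
theorem result (k : Type u) [Field k] [IsSepClosed k]
    (G : Over (Spec (CommRingCat.of k))) [GrpObj G] (hG : Red.IsReductive G)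
    (Z : Over (Spec (CommRingCat.of k))) [GrpObj Z] (z : Z ⟶ G) (hz : Red.IsCentre z)
    (X : Over (Spec (CommRingCat.of k))) (g : X ⟶ G) :
    (∃ c : X ⟶ Z, c ≫ z = g) ↔
      ∀ (T : Over (Spec (CommRingCat.of k))) [GrpObj T] (iT : T ⟶ G), Red.IsMaximalTorus iT → ∃ t : X ⟶ T, t ≫ iT = g := by
  haveI := hG.1; haveI := hG.2.1
  haveI : IsAffine G.left := isAffine_of_isAffineHom G.hom
  haveI : AlgebraicGeometry.IsReduced G.left := AlgSpLib.isReduced_of_smooth G.hom
  haveI : QuasiCompact G.hom := inferInstance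
  have hsc : ∀ (T : Over (Spec (CommRingCat.of k))) [GrpObj T] (iT : T ⟶ G), Red.IsMaximalTorus iT →
      ∀ (s : ↥(Spec (CommRingCat.of k)))
        (X : Over (Spec (CommRingCat.of (AlgebraicClosure ((Spec (CommRingCat.of k)).residueField s)))))
        (x : X ⟶ Red.geomFibre s G),
        (∀ (X' : Over (Spec (CommRingCat.of (AlgebraicClosure ((Spec (CommRingCat.of k)).residueField s)))))
          (y : X' ⟶ X) (t : X' ⟶ Red.geomFibre s T),
          (y ≫ x) * (t ≫ (Over.pullback (Red.geomPt s)).map iT : X' ⟶ Red.geomFibre s G) =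
            (t ≫ (Over.pullback (Red.geomPt s)).map iT) * (y ≫ x)) →
        ∃ t : X ⟶ Red.geomFibre s T, t ≫ (Over.pullback (Red.geomPt s)).map iT = x := fun T _ iT hT s X x hx =>
    ((TorsTuple.isCentralizerOf_self_of_isReductiveOver (hG.2.2 s)
      (MaxTorConj.isMaximalTorus_bc hT (Red.geomPt s))).2.2 X x).2 hx
  constructor
  · intro hc T _ iT hT
    haveI := hT.1; haveI := hT.2.1
    refine RCentre.exists_factor_of_selfCent G hT.2.2.1 (hsc T iT hT) g fun X' y t => ?_
    simpa only [Category.comp_id] using (hz.2.2 X g).1 hc X' y (t ≫ iT)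
  intro hall
  obtain ⟨T, _, iT, hT⟩ := TorsTuple.exists_maximalTorus_sepClosed hG
  haveI := hT.1; haveI := hT.2.1
  haveI : IsClosedImmersion iT.left := (subtorus_facts (IsLocalRing.closedPoint k) iT hT.2.2.1).1
  have hconn : ∀ s : ↥(Spec (CommRingCat.of k)), _root_.IsConnected (G.hom.base ⁻¹' {s}) := fun s =>
    haveI := (hG.2.2 s).2.2.1; CentPre.isConnected_fibre_of_geom G s
  obtain ⟨Z₀, _, z₀, hz₀, hrc⟩ := RCentre.exists_centre G hconn (TorsTuple.unipotentRankZero_of_isReductive hG)
  haveI := hrc.1; haveI := hrc.2.1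
  haveI : IsClosedImmersion z₀.left := Groth.Agent.Transporter.isClosedImmersion_of_mono (by
    obtain ⟨S', f, h1, h2, h3, hloc⟩ := hrc.2.2.1
    exact ⟨S', f, h1, h2, h3, fun x => by
      obtain ⟨U, hU, M, _, -, h⟩ := hloc x
      exact ⟨U, hU, M, inferInstance, h⟩⟩) ‹IsAffineHom G.hom› z₀
  have hloc : ∀ (X₁ : Over (Spec (CommRingCat.of k))) [IsAffine X₁.left] (b : X₁ ⟶ X),
      ∃ x : X₁ ⟶ Z₀, x ≫ z₀ = b ≫ g := by
    intro X₁ _ b
    obtain ⟨t, ht⟩ := hall T iT hT
    obtain ⟨κ, hκ⟩ := TorsTuple.factor_of_slices iT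
      ((fst G X₁)⁻¹ * (snd G X₁ ≫ b ≫ g) * fst G X₁) (TorsTuple.dense_rational G) fun p => by
      let e : G ≅ G := asIso (AGF.conjBy p (𝟙 G))
      haveI : IsMonHom e.hom := DiagRep.isMonHom_conjBy p
      obtain ⟨t', ht'⟩ := hall T (iT ≫ e.hom) (MaxTorConj.isMaximalTorus_iso e hT)
      refine ⟨b ≫ t', ?_⟩
      have h1 : (b ≫ t' ≫ iT) ≫ AGF.conjBy p (𝟙 G) = b ≫ g := by
        rw [← ht', Category.assoc, Category.assoc]
        rfl
      rw [MonObj.comp_mul, MonObj.comp_mul, GrpObj.comp_inv, Category.comp_id, ← Category.assoc,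
        toUnit_unique ((b ≫ t' ≫ iT) ≫ toUnit G) (toUnit X₁)] at h1
      simp only [MonObj.comp_mul, GrpObj.comp_inv, lift_fst, lift_snd_assoc, Category.id_comp, ← h1, _root_.mul_assoc,
        _root_.inv_mul_cancel_left, _root_.inv_mul_cancel, _root_.mul_one, Category.assoc]
    have := TorsTuple.factor_rc_of_conj hconn hT (hsc T iT hT) hrc (b ≫ t) κ (by rw [hκ, Category.assoc, ht])
    rwa [Category.assoc, ht] at this
  choose m hm using fun a : X.left.affineCover.I₀ =>
    haveI : IsAffine (Over.mk (X.left.affineCover.f a ≫ X.hom)).left := inferInstanceAs (IsAffine (X.left.affineCover.X a))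
    hloc (Over.mk (X.left.affineCover.f a ≫ X.hom)) (Over.homMk (X.left.affineCover.f a) rfl)
  have hm' : ∀ a, (m a).left ≫ z₀.left = X.left.affineCover.f a ≫ g.left := fun a =>
    congrArg CommaMorphism.left (hm a)
  let x₀ : X.left ⟶ Z₀.left := X.left.affineCover.glueMorphisms (fun a => (m a).left) fun a c =>
    (cancel_mono z₀.left).1 (by rw [Category.assoc, Category.assoc, hm', hm', Limits.pullback.condition_assoc])
  have hx₀ : x₀ ≫ z₀.left = g.left := X.left.affineCover.hom_ext _ _ fun a => by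
    rw [← Category.assoc, Scheme.Cover.ι_glueMorphisms, hm']
  refine (hz.2.2 X g).2 ((hz₀.2.2 X g).1 ⟨Over.homMk x₀ ?_, Over.OverMorphism.ext hx₀⟩)
  rw [← Over.w z₀, ← Category.assoc, hx₀]
  exact Over.w g

end Groth.Agent.S17095
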