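import Groth.Statements.S17097
import Groth.Agent.TorIsogLib.Preimage
import Groth.Agent.RCentreLib.Torus
import Groth.Agent.S4147
-- import your own Groth.Agent.* helpers here

set_option autoImplicit false
set_option maxHeartbeats 1000000
set_option backward.isDefEq.respectTransparency false
universe u
open CategoryTheory MonoidalCategory CartesianMonoidalCategory MonObj GrpObj AlgebraicGeometry
open AGF

attribute [-instance] CategoryTheory.Hom.commGroup

namespace Groth.Agent.S17097

/-- Let k be a field, H' and H reductive k-group schemes and f : H' ⟶ H a central isogeny: a surjective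
homomorphism whose kernel K ⟶ H' has finitely many points, all central in H'. Then every maximal
torus j : S' ⟶ H' is the scheme-theoretic preimage of a maximal torus of H: there are a maximal
torus i : T ⟶ H and a morphism S' ⟶ T making the square with j, f and i cartesian. -/
theorem result (k : Type u) [Field k]
    (H' H : Over (Spec (CommRingCat.of k))) [GrpObj H'] [GrpObj H] (hH' : Red.IsReductive H') (hH : Red.IsReductive H)
    (f : H' ⟶ H) [IsMonHom f] (hf : Surjective f.left)
    (K : Over (Spec (CommRingCat.of k))) [GrpObj K] (iK : K ⟶ H') (hK : AlgGrp.IsKernel iK f) (hKf : Finite ↥K.left)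
    (hKc : ∀ (X : Over (Spec (CommRingCat.of k))) (x : X ⟶ K) (X' : Over (Spec (CommRingCat.of k))) (y : X' ⟶ X) (h : X' ⟶ H'),
      (y ≫ x ≫ iK) * h = h * (y ≫ x ≫ iK))
    (S' : Over (Spec (CommRingCat.of k))) [GrpObj S'] (j : S' ⟶ H') (hS' : Red.IsMaximalTorus j) :
    ∃ (T : Over (Spec (CommRingCat.of k))) (_ : GrpObj T) (i : T ⟶ H) (p : S' ⟶ T),
      Red.IsMaximalTorus i ∧ IsPullback j p f i := by
  haveI := hf; haveI := hH'.1; haveI := hH'.2.1; haveI := hH.1; haveI := hH.2.1
  haveI := hS'.1; haveI := hS'.2.1
  have hG : SGA3x.HasMaxTorusFpqcLocally H' :=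
    ⟨_, 𝟙 _, inferInstance, inferInstance, fun V hV => ⟨V, hV.isCompact, by simp⟩, _, inferInstance, _,
      Groth.Agent.RCentre.isMaximalTorus_bc hS' (𝟙 _)⟩
  obtain ⟨T, _, i, v, hi, hvm, hv, hvs, hvf⟩ := Groth.Agent.S4147.result _ H' H hG f
    (fun s => MorphismProperty.baseChange_map (P := @Surjective) (Red.geomPt s) f inferInstance) S' j hS'
  haveI := hi.1; haveI := hi.2.1; haveI := hvm; haveI := hvs; haveI := hvf
  exact ⟨T, inferInstance, i, v, hi, Groth.Agent.TorIsog.isPullback_maxTorus hH'
    (Groth.Agent.TorIsog.kerCentral_of_isKernel hK hKc) hS' hv⟩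
end Groth.Agent.S17097
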