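import Groth.Statements.S17098
import Groth.Agent.DerTorusLib.Scheme
import Groth.Agent.BorelLib.RedNormal

set_option autoImplicit false
set_option maxHeartbeats 4000000
set_option synthInstance.maxHeartbeats 400000
set_option backward.isDefEq.respectTransparency false
universe u
open CategoryTheory MonoidalCategory CartesianMonoidalCategory MonObj GrpObj AlgebraicGeometry
open AGF

attribute [-instance] CategoryTheory.Hom.commGroup

namespace Groth.Agent.S17098

open Groth.Agent CategoryTheory.Limits
attribute [local instance] BorelLib.pTop BorelLib.pTopTensor

/-- Let k be a field and G a reductive k-group scheme (affine, smooth, with connected reductive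
geometric fibre). If G is perfect, i.e. every homomorphism from G to a commutative k-group scheme is
trivial, then G is semisimple. (The published equivalence of the three conditions 'the geometric
radical is trivial', 'reductive with finite centre', 'reductive with perfect identity component' is
asserted for smooth affine groups that need not be connected; the orthogonal group O_2 in
characteristic different from 2 has finite centre and unipotent radical 1 while its identity
component SO_2 is a non-trivial torus, so the equivalence holds only for connected G, where the
other implications are the finite-centre criterion and the perfectness of semisimple groups.) -/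
theorem result (k : Type u) [Field k]
    (G : Over (Spec (CommRingCat.of k))) [GrpObj G] (hG : Red.IsReductive G)
    (hperf : ∀ (H : Over (Spec (CommRingCat.of k))) [GrpObj H] [IsCommMonObj H] (f : G ⟶ H) [IsMonHom f], f = toUnit G ≫ η[H]) :
    Red.IsSemisimple G := by
  obtain ⟨hGa, hGs, hGc, -, -⟩ := BorelLib.reductive_data (IsLocalRing.closedPoint k : ↥(Spec (CommRingCat.of k))) hG
  haveI := hGa; haveI := hGs; haveI := hGc
  let s : ↥(Spec (CommRingCat.of k)) := IsLocalRing.closedPoint k
  obtain ⟨ga, gs, gc⟩ := BorelLib.geom_facts s G
  haveI := ga; haveI := gs; haveI := gc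
  obtain ⟨A, _, _, v, hv, hA, hAr⟩ := BorelLib.exists_setup (Red.geomFibre s G)
  haveI := hv; haveI := hA; haveI := hAr
  have hconn := BorelLib.isPreconnected_univ_of_connected v
  obtain ⟨_, -, -⟩ := BorelLib.exists_geomPt_algebra s
  have hred := BorelLib.isRedPts_of_isReductiveOver v ((BorelLib.isReductive_iff s).1 hG).2.2
  obtain ⟨Q, _, q, hqm, hQc, hQa, hQl, hq⟩ := DerTorus.exists_abelianisation s v
  haveI := hqm; haveI := hQc
  obtain ⟨htor, hcen⟩ := hred.radSub_central hconn
  refine (BorelLib.isSemisimple_iff s).2 ⟨inferInstance, inferInstance, BorelLib.isSemisimpleOver_of_isSSPts v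
    (BorelLib.isSSPts_of_radSub hconn (BorelLib.eq_bot_of_finite htor.conn
      ((DerTorus.finite_torus_inf_dSub htor hcen).subset fun x hx => ⟨hx, ?_⟩)))⟩
  obtain ⟨a, rfl⟩ := (BorelLib.FF.toPt (Red.geomPt s) v).surjective x
  exact hq a (by rw [hperf Q q, ← Hom.one_def, MonObj.comp_one])
end Groth.Agent.S17098
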