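import Groth.Statements.S17099
import Groth.Agent.CentreUnipLib.Main
-- import your own Groth.Agent.* helpers here

set_option autoImplicit false
set_option maxHeartbeats 1000000
set_option backward.isDefEq.respectTransparency false
universe u
open CategoryTheory MonoidalCategory CartesianMonoidalCategory MonObj GrpObj AlgebraicGeometry
open AGF

attribute [-instance] CategoryTheory.Hom.commGroup

namespace Groth.Agent.S17099

/-- Let p be a prime, k a field of characteristic p, G a reductive k-group scheme (affine, smooth,
connected reductive geometric fibre) and z : Z ⟶ G its scheme-theoretic centre. Then Z contains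
neither α_p nor Z/pZ as a subgroup scheme: no homomorphism of k-group schemes from α_p (the spectrum
of k[X]/(X^p) with X primitive) to Z is a monomorphism, and no homomorphism from the constant
k-group scheme of the cyclic group of order p to Z is a monomorphism. (Stated over every field of
characteristic p; applied over an algebraic closure of k to the base change of G, whose centre is
the base change of Z, this is the published assertion about the geometric centre.) -/
theorem result (p : ℕ) [Fact p.Prime]
    (k : Type u) [Field k] [CharP k p]
    (G : Over (Spec (CommRingCat.of k))) [GrpObj G] (hG : Red.IsReductive G)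
    (Z : Over (Spec (CommRingCat.of k))) [GrpObj Z] (z : Z ⟶ G) (hz : Red.IsCentre z) :
    (∀ (φ : (Spec (CommRingCat.of (AlphaP.A p k))).asOver (Spec (CommRingCat.of k)) ⟶ Z), IsMonHom φ → ¬ Mono φ.left) ∧
      (∀ (ψ : (Spec (CommRingCat.of (ConstGrp.F k (Multiplicative (ZMod p))))).asOver (Spec (CommRingCat.of k)) ⟶ Z),
        IsMonHom ψ → ¬ Mono ψ.left) := by
  refine ⟨fun φ hφ => ?_, fun ψ hψ => ?_⟩
  · refine Groth.Agent.CentreUnip.not_mono_unipotent hG hz (Groth.Agent.CentreUnip.isUnipotent_alphaP p)
      (AlphaP.x p k) ?_ ?_ φ hφ
    · intro h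
      have h1 : AdjoinRoot.mk ((Polynomial.X : Polynomial k) ^ p) Polynomial.X = 0 := h
      rw [AdjoinRoot.mk_eq_zero] at h1
      have h2 := Polynomial.natDegree_le_of_dvd h1 Polynomial.X_ne_zero
      rw [Polynomial.natDegree_X_pow, Polynomial.natDegree_X] at h2
      exact absurd h2 (not_le.2 (Fact.out : p.Prime).one_lt)
    · show Bialgebra.counitAlgHom k (AlphaP.A p k) (AlphaP.x p k) = 0
      rw [AlphaP.counitAlgHom_eq]
      simp [AlphaP.counitAlg]
  · refine Groth.Agent.CentreUnip.not_mono_unipotent hG hz (Groth.Agent.CentreUnip.isUnipotent_zmod p)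
      (Groth.Agent.CentreUnip.coord k p) ?_ ?_ ψ hψ
    · intro h
      have h1 := congrFun h (Multiplicative.ofAdd (1 : ZMod p))
      simp [Groth.Agent.CentreUnip.coord] at h1
    · show Groth.Agent.CentreUnip.coord k p 1 = 0
      simp [Groth.Agent.CentreUnip.coord]
end Groth.Agent.S17099
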