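import Groth.Statements.S17119
import Groth.Agent.KoszIntLib.Stalk
import Groth.Agent.GrModLib6.Rel
import Groth.Agent.CohCmpLib.Eps
import Groth.Agent.IntMultLib.Cartier
-- import your own Groth.Agent.* helpers here

set_option autoImplicit false
set_option maxHeartbeats 2000000
set_option backward.isDefEq.respectTransparency false
universe u
open CategoryTheory CategoryTheory.Limits AlgebraicGeometry Opposite TopologicalSpace
open LogNCD

namespace Groth.Agent.S17119

theorem tensorMap_id_eq {X : Scheme.{u}} (E : X.Modules) {N N' : X.Modules} (g : N ⟶ N') :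
    KoszTw.tensorMap (𝟙 E) g = (CurvLib.tensorLeft' E).map g := by
  unfold KoszTw.tensorMap
  rw [CategoryTheory.Functor.map_id, NatTrans.id_app]
  exact Category.id_comp _

theorem hom_ext_tmul' {X : Scheme.{u}} {M N T : X.Modules} (φ ψ : CohB1.tensorMod M N ⟶ T)
    (h : ∀ (U : X.Opens) (m : Γ(M, U)) (n : Γ(N, U)),
      φ.app U (SecTwist.tmul M N U m n) = ψ.app U (SecTwist.tmul M N U m n)) : φ = ψ := by
  apply ((PresheafOfModules.sheafificationAdjunction (𝟙 X.ringCatSheaf.obj)).homEquiv _ _).injective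
  refine PresheafOfModules.hom_ext fun U => ?_
  refine ModuleCat.hom_ext (LinearMap.ext fun x => ?_)
  induction x using TensorProduct.induction_on with
  | zero => exact (map_zero _).trans (map_zero _).symm
  | tmul m n => exact h U.unop m n
  | add a b ha hb => exact (map_add _ _ _).trans ((congrArg₂ (· + ·) ha hb).trans (map_add _ _ _).symm)

theorem tmul_zero' {X : Scheme.{u}} (M N : X.Modules) (U : X.Opens) (a : Γ(M, U)) :
    SecTwist.tmul M N U a (0 : Γ(N, U)) = (0 : Γ(CohB1.tensorMod M N, U)) := by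
  refine Eq.trans (congrArg (fun z => ((SecTwist.toTensor M N).app (op U)).hom z)
    (TensorProduct.tmul_zero (R := Γ(X, U)) (M := Γ(M, U)) (N := Γ(N, U)) a)) ?_
  exact map_zero _

/-- sections of `E ⊗ O/I` are killed by functions vanishing on the closed subscheme -/
theorem smul_eq_zero_of_ker {X : Scheme.{u}} (E : X.Modules) (I : X.IdealSheafData)
    [Epi ((SecTwist.unitorR E).inv ≫ KoszTw.tensorMap (𝟙 E) (ClSub.toSubscheme I))]
    (V : X.Opens) (a : Γ(X, V)) (ha : (ClSub.toSubscheme I).app V a = 0)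
    (z : Γ(CohB1.tensorMod E (ClSub.quotMod I), V)) : a • z = 0 := by
  refine GrModLib6.eq_zero_of_locally _ fun x hx => ?_
  obtain ⟨W, hW, hxW, y, hy⟩ := CohCmpLib.exists_local_lift
    ((SecTwist.unitorR E).inv ≫ KoszTw.tensorMap (𝟙 E) (ClSub.toSubscheme I)) z hx
  refine ⟨W, hW, hxW, ?_⟩
  let b : Γ(X, W) := X.presheaf.map (homOfLE hW).op a
  have hb : (ClSub.toSubscheme I).app W b = 0 := by
    have := congrArg ((ClSub.quotMod I).presheaf.map (homOfLE hW).op) ha
    rw [map_zero] at this
    refine Eq.trans ?_ this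
    exact PresheafOfModules.naturality_apply (ClSub.toSubscheme I).val (homOfLE hW).op a
  rw [(CohB1.tensorMod E (ClSub.quotMod I)).map_smul, ← hy]
  refine (QCohLib.app_smul _ W b y).symm.trans ?_
  have hu : (SecTwist.unitorR E).inv.app W (b • y) = SecTwist.tmul E (Coh.structureModule X) W y b := by
    have h1 : (SecTwist.unitorR E).hom.app W (SecTwist.tmul E (Coh.structureModule X) W y b) = b • y :=
      SecTwist.unitorR_tmul E W y b
    rw [← h1]
    exact congr(Scheme.Modules.Hom.app $((SecTwist.unitorR E).hom_inv_id) W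
      (SecTwist.tmul E (Coh.structureModule X) W y b))
  change (KoszTw.tensorMap (𝟙 E) (ClSub.toSubscheme I)).app W ((SecTwist.unitorR E).inv.app W (b • y)) = 0
  rw [hu, KoszTw.tensorMap_tmul, hb]
  exact tmul_zero' _ _ _ _


/-- Let f : X → S be smooth, (Ω', d) a universal receptacle for the differentials of X over S, D = (D_1,
…, D_r) a relative strict normal crossing divisor with pinned log module Ω¹(log D) and residues
res_j : Ω¹(log D) → O_{D_j}, E a finite locally free O_X-module and ∇ : E → E ⊗ Ω¹(log D) a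
logarithmic connection along D (a map of abelian sheaves with the Leibniz rule). Then for every
component D_i the residue of ∇ along D_i, the composite (1 ⊗ res_i) ∘ ∇ : E → E ⊗ O_{D_i}, is
O_X-linear, i.e. it is induced by an O_X-module morphism ρ, and ρ factors through the restriction
map E ≅ E ⊗ O_X → E ⊗ O_{D_i}: there is an O_X-linear endomorphism R of E ⊗ O_{D_i} whose composite
with the restriction is ρ (the residue as an endomorphism of E restricted to D_i). (Stated relative
to an arbitrary base; the published statement is over an algebraically closed field, with the module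
as the right tensor factor.) -/
theorem result {X S : Scheme.{u}} (f : X ⟶ S) [Smooth f]
    {Ω' : X.Modules} (d : OmegaSh.Der f Ω') (hd : OmegaSh.IsUniversal d)
    {r : ℕ} (D : Fin r → X.IdealSheafData) (hD : LogNCD.IsNCD D f) (Λ : LogNCD.LogMod d D)
    (E : X.Modules) (hE : FlatMod.IsFinLocFree E)
    (nabla : Coh.toAb E ⟶ Coh.toAb (CohB1.tensorMod E Λ.L)) (hc : ConnSh.IsConn (LogNCD.der Λ) E nabla)
    (i : Fin r) :
    ∃ ρ : E ⟶ CohB1.tensorMod E (ClSub.quotMod (D i)), LogNCD.IsResidue Λ E nabla i ρ ∧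
      ∃ R : CohB1.tensorMod E (ClSub.quotMod (D i)) ⟶ CohB1.tensorMod E (ClSub.quotMod (D i)),
        (SecTwist.unitorR E).inv ≫ KoszTw.tensorMap (𝟙 E) (ClSub.toSubscheme (D i)) ≫ R = ρ := by
  let Z := CohB1.tensorMod E (ClSub.quotMod (D i))
  let φ : Coh.toAb E ⟶ Coh.toAb Z :=
    nabla ≫ (SheafOfModules.toSheaf X.ringCatSheaf).map (KoszTw.tensorMap (𝟙 E) (Λ.res i))
  have hlin : ∀ (U : X.Opens) (t : Γ(X, U)) (e : E.val.obj (op U)),
      ConnSh.secApp φ U (t • e) = t • ConnSh.secApp φ U e := by
    intro U t e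
    change (KoszTw.tensorMap (𝟙 E) (Λ.res i)).app U (ConnSh.secApp nabla U (t • e)) =
      t • (KoszTw.tensorMap (𝟙 E) (Λ.res i)).app U (ConnSh.secApp nabla U e)
    have hz : (Λ.res i).app U ((LogNCD.der Λ).app U t) = 0 :=
      congr(Scheme.Modules.Hom.app $(Λ.res_ι i) U (d.app U t))
    rw [hc]
    refine (map_add ((KoszTw.tensorMap (𝟙 E) (Λ.res i)).app U).hom _ _).trans ?_
    refine (congrArg₂ (· + ·) (QCohLib.app_smul _ U t _)
      ((KoszTw.tensorMap_tmul _ _ U e ((LogNCD.der Λ).app U t)).trans ?_)).trans (add_zero _)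
    rw [hz]
    exact tmul_zero' _ _ _ _
  let ρ : E ⟶ Z := ⟨PresheafOfModules.homMk φ.hom (fun U r m => hlin U.unop r m)⟩
  have hρ : LogNCD.IsResidue Λ E nabla i ρ := rfl
  refine ⟨ρ, hρ, ?_⟩
  obtain ⟨hex, hepi⟩ := KoszIntLib.exact_tensor E (D i)
  let S := (CurvLib.idealSeq (D i)).map (CurvLib.tensorLeft' E)
  haveI : Epi S.g := hepi
  haveI : Epi ((SecTwist.unitorR E).inv ≫ KoszTw.tensorMap (𝟙 E) (ClSub.toSubscheme (D i))) := by
    rw [tensorMap_id_eq]
    exact @epi_comp _ _ _ _ _ _ inferInstance _ hepi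
  have hk : S.f ≫ (SecTwist.unitorR E).hom ≫ ρ = 0 := by
    refine hom_ext_tmul' (M := E) (N := ClSub.idealMod (D i)) _ _ fun U m n => ?_
    change ρ.app U ((SecTwist.unitorR E).hom.app U (((CurvLib.tensorLeft' E).map (ClSub.idealModι (D i))).app U
      (SecTwist.tmul E (ClSub.idealMod (D i)) U m n))) = 0
    rw [← tensorMap_id_eq]
    refine (congrArg (fun z => ρ.app U ((SecTwist.unitorR E).hom.app U z))
      (KoszTw.tensorMap_tmul (𝟙 E) (ClSub.idealModι (D i)) U m n)).trans ?_
    let a : Γ(X, U) := (ClSub.idealModι (D i)).app U n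
    have ha : (ClSub.toSubscheme (D i)).app U a = 0 :=
      congr(Scheme.Modules.Hom.app $(kernel.condition (ClSub.toSubscheme (D i))) U n)
    have h1 : (SecTwist.unitorR E).hom.app U (SecTwist.tmul E (Coh.structureModule X) U m a) = a • m :=
      SecTwist.unitorR_tmul E U m a
    refine (congrArg (ρ.app U) h1).trans ?_
    refine (QCohLib.app_smul ρ U a m).trans ?_
    exact smul_eq_zero_of_ker E (D i) U a ha _
  refine ⟨hex.desc _ hk, ?_⟩
  rw [tensorMap_id_eq]
  change (SecTwist.unitorR E).inv ≫ S.g ≫ hex.desc _ hk = ρ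
  rw [hex.g_desc, Iso.inv_hom_id_assoc]

end Groth.Agent.S17119
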