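import Groth.Statements.S17129
import Groth.Agent.NCDLiftLib.Rows
-- import your own Groth.Agent.* helpers here

set_option autoImplicit false
set_option maxHeartbeats 2000000
set_option backward.isDefEq.respectTransparency false
universe u
open CategoryTheory CategoryTheory.Limits AlgebraicGeometry
open Lift

namespace Groth.Agent.S17129

/-- Let p be a prime, S~ a scheme flat over Z/p² with reduction S = S~ ×_{Z/p²} F_p (i : S → S~ the
cartesian closed immersion), S noetherian, and f : X → S smooth with X affine; let D_1, …, D_r be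
quasi-coherent ideal sheaves on X forming a strict normal crossing divisor relative to S. Any two
liftings of (X, D) to S~ — flat g_m : X~_m → S~ with j_m : X → X~_m cartesian over i, together with
closed subschemes D~_{m,1}, …, D~_{m,r} of X~_m flat over S~ whose ideals pull back along j_m to
those of the D_l (m = 1, 2) — are isomorphic as liftings: there is an isomorphism e : X~_1 ≅ X~_2
over S~ restricting to the identity of X (j_1 ≫ e = j_2, e ≫ g_2 = g_1) under which the ideal of the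
divisor D~_2 = Σ_l D~_{2,l}, i.e. the product ∏_l 𝓘_{D~_{2,l}}, pulls back to that of D~_1. -/
theorem result (p : ℕ) [Fact p.Prime]
    (Sl : Scheme.{u}) (gS : Sl ⟶ Spec (CommRingCat.of (ULift.{u} (ZMod (p ^ 2))))) [Flat gS]
    (S : Scheme.{u}) (iS : S ⟶ Sl) (fS : S ⟶ Spec (CommRingCat.of (ULift.{u} (ZMod p))))
    (hS : IsPullback iS fS gS (Spec.map (CommRingCat.ofHom
      ((ZMod.castHom (dvd_pow_self p two_ne_zero) (ULift.{u} (ZMod p))).comp
        (ULift.ringEquiv : ULift.{u} (ZMod (p ^ 2)) ≃+* ZMod (p ^ 2)).toRingHom))))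
    [IsNoetherian S]
    (X : Scheme.{u}) [IsAffine X] (f : X ⟶ S) [Smooth f]
    (X₁ X₂ : Scheme.{u}) (g₁ : X₁ ⟶ Sl) (g₂ : X₂ ⟶ Sl) [Flat g₁] [Flat g₂]
    (j₁ : X ⟶ X₁) (j₂ : X ⟶ X₂) (h₁ : IsPullback j₁ f g₁ iS) (h₂ : IsPullback j₂ f g₂ iS)
    {r : ℕ} (D : Fin r → X.IdealSheafData) (hD : LogNCD.IsNCD D f)
    (D₁ : Fin r → X₁.IdealSheafData) (D₂ : Fin r → X₂.IdealSheafData)
    (hD₁ : ∀ m, (D₁ m).comap j₁ = D m) (hD₂ : ∀ m, (D₂ m).comap j₂ = D m)
    (hD₁f : ∀ m, Flat ((D₁ m).subschemeι ≫ g₁)) (hD₂f : ∀ m, Flat ((D₂ m).subschemeι ≫ g₂)) :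
    ∃ e : X₁ ≅ X₂, j₁ ≫ e.hom = j₂ ∧ e.hom ≫ g₂ = g₁ ∧ (∏ m, D₂ m).comap e.hom = ∏ m, D₁ m := by
  have hφ : NCDLiftLib.redHom.{u} p = (ZMod.castHom (dvd_pow_self p two_ne_zero) (ULift.{u} (ZMod p))).comp
      (ULift.ringEquiv : ULift.{u} (ZMod (p ^ 2)) ≃+* ZMod (p ^ 2)).toRingHom := by
    refine RingHom.ext fun a => ?_
    obtain ⟨m, hm⟩ := ZMod.natCast_zmod_surjective a.down
    obtain rfl : (m : ULift.{u} (ZMod (p ^ 2))) = a := ULift.down_injective (by simpa using hm)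
    rw [map_natCast, map_natCast]
  rw [← hφ] at hS
  exact NCDLiftLib.exists_iso p gS iS fS hS f g₁ g₂ j₁ j₂ h₁ h₂ D hD D₁ D₂ hD₁ hD₂ hD₁f hD₂f

end Groth.Agent.S17129
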