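import Groth.Statements.S17131
import Groth.Agent.NCDLiftLib.Rows
-- import your own Groth.Agent.* helpers here

set_option autoImplicit false
set_option maxHeartbeats 2000000
set_option backward.isDefEq.respectTransparency false
universe u
open CategoryTheory CategoryTheory.Limits AlgebraicGeometry
open Lift

namespace Groth.Agent.S17131

/-- Let p be a prime, S~ a scheme flat over Z/p² with reduction S = S~ ×_{Z/p²} F_p (i : S → S~ the
cartesian closed immersion), S noetherian of characteristic p, and f : X → S smooth with X affine;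
let X' = X ×_{S,F_S} S be the Frobenius twist, viewed over S by the second projection, F : X → X'
the relative Frobenius, D_1, …, D_r a relative strict normal crossing divisor on X and D'_m =
F_S^*D_m its pullback to X' (along the first projection). Let (X~, D~) be a lifting of (X, D) to S~
— g : X~ → S~ flat with j : X → X~ cartesian over i, and closed subschemes D~_m ⊂ X~ flat over S~
whose ideals pull back along j to those of the D_m — and (X~', D~') a lifting of (X', D') in the
same sense. Then the relative Frobenius lifts compatibly with the divisors: there is a finite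
morphism F~ : X~ → X~' over S~ with j ≫ F~ = F ≫ j' such that the ideal of D~' = Σ D~'_m pulls back
along F~ to the p-th power of the ideal of D~ = Σ D~_m, i.e. F~^*O(−D~') = O(−p·D~). (The section's
standing assumptions also fix a lifting of the Frobenius of S to S~; it is not used and not assumed
here.) -/
theorem result (p : ℕ) [Fact p.Prime]
    (Sl : Scheme.{u}) (gS : Sl ⟶ Spec (CommRingCat.of (ULift.{u} (ZMod (p ^ 2))))) [Flat gS]
    (S : Scheme.{u}) (iS : S ⟶ Sl) (fS : S ⟶ Spec (CommRingCat.of (ULift.{u} (ZMod p))))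
    (hS : IsPullback iS fS gS (Spec.map (CommRingCat.ofHom
      ((ZMod.castHom (dvd_pow_self p two_ne_zero) (ULift.{u} (ZMod p))).comp
        (ULift.ringEquiv : ULift.{u} (ZMod (p ^ 2)) ≃+* ZMod (p ^ 2)).toRingHom))))
    [IsNoetherian S]
    [FrobSch.IsCharP S p]
    (X : Scheme.{u}) [IsAffine X] (f : X ⟶ S) [Smooth f]
    (Xl : Scheme.{u}) (g : Xl ⟶ Sl) [Flat g] (j : X ⟶ Xl) (h : IsPullback j f g iS)
    (Xl' : Scheme.{u}) (g' : Xl' ⟶ Sl) [Flat g'] (j' : FrobSch.frobTwist f p ⟶ Xl')
    (h' : IsPullback j' (pullback.snd f (FrobSch.frob S p)) g' iS)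
    {r : ℕ} (D : Fin r → X.IdealSheafData) (hD : LogNCD.IsNCD D f)
    (Dl : Fin r → Xl.IdealSheafData) (hDl : ∀ m, (Dl m).comap j = D m) (hDlf : ∀ m, Flat ((Dl m).subschemeι ≫ g))
    (Dl' : Fin r → Xl'.IdealSheafData)
    (hDl' : ∀ m, (Dl' m).comap j' = (D m).comap (pullback.fst f (FrobSch.frob S p)))
    (hDl'f : ∀ m, Flat ((Dl' m).subschemeι ≫ g')) :
    ∃ Fl : Xl ⟶ Xl', IsFinite Fl ∧ j ≫ Fl = FrobSch.relFrob f p ≫ j' ∧ Fl ≫ g' = g ∧
      (∏ m, Dl' m).comap Fl = (∏ m, Dl m) ^ p := by
  have hφ : NCDLiftLib.redHom.{u} p = (ZMod.castHom (dvd_pow_self p two_ne_zero) (ULift.{u} (ZMod p))).comp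
      (ULift.ringEquiv : ULift.{u} (ZMod (p ^ 2)) ≃+* ZMod (p ^ 2)).toRingHom := by
    refine RingHom.ext fun a => ?_
    obtain ⟨m, hm⟩ := ZMod.natCast_zmod_surjective a.down
    obtain rfl : (m : ULift.{u} (ZMod (p ^ 2))) = a := ULift.down_injective (by simpa using hm)
    rw [map_natCast, map_natCast]
  rw [← hφ] at hS
  exact NCDLiftLib.exists_relFrob_lift p gS iS fS hS f g j h g' j' h' D hD Dl hDl hDlf Dl' hDl' hDl'f

end Groth.Agent.S17131
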