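import Groth.Statements.S17133
import Groth.Agent.JacAlbLib.PicDegCover
import Groth.Agent.JacAlbLib.ThetaOmega
import Groth.Agent.VeryAmpleLib.Bc

set_option autoImplicit false
set_option backward.isDefEq.respectTransparency false
set_option backward.isDefEq.respectTransparency.types false
set_option maxRecDepth 8000
set_option maxHeartbeats 1000000
universe u
open CategoryTheory CategoryTheory.Limits AlgebraicGeometry MonoidalCategory CartesianMonoidalCategory MonObj
open Jac

namespace Groth.Agent.S17133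

open CubeConsLib (cl IsoCls) in
/-- A class of degree zero representing a twist of a class by powers of a point. -/
theorem exists_deg_zero {k : Type u} [Field k] {C : Scheme.{u}} [C.Over (Spec (CommRingCat.of k))]
    [IsProper (C ↘ Spec (CommRingCat.of k))] [Smooth (C ↘ Spec (CommRingCat.of k))]
    [GeometricallyConnected (C ↘ Spec (CommRingCat.of k))] (hdim : topologicalKrullDim ↥C = 1)
    {σ : Spec (CommRingCat.of k) ⟶ C} (hσ : σ ≫ (C ↘ Spec (CommRingCat.of k)) = 𝟙 _) {n : ℕ} {P : C.Modules}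
    (hP : PicF.IsInvertible P) (hd : Curv2.deg k C P 1 = (n : ℤ) - 1) :
    ∃ Q : C.Modules, PicF.IsInvertible Q ∧ Curv2.deg k C Q 1 = 0 ∧
      cl Q * EllLawLib.idCls σ.ker = cl P * EllLawLib.idCls σ.ker ^ n := by
  have h : ∀ (r : ℕ) (Q : C.Modules), PicF.IsInvertible Q → cl Q = cl P * EllLawLib.idCls σ.ker ^ r →
      Curv2.deg k C Q 1 + r = Curv2.deg k C P 1 := by
    intro r
    induction r with
    | zero => intro Q _ e; rw [pow_zero, _root_.mul_one] at e; rw [JacAlbLib.deg_congr' (k := k) e, Nat.cast_zero, add_zero]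
    | succ r ih =>
      intro Q hQ e
      obtain ⟨Q', hQ', eQ'⟩ := JacAlbLib.exists_div hQ (JacAlbLib.invC_point hdim σ hσ)
      have h1 := JacAlbLib.deg_add_point (k := k) hdim σ hσ hQ' eQ'
      have h2 := ih Q' hQ' ((JacAlbLib.invC_point hdim σ hσ).isUnit.mul_right_cancel
        (by rw [eQ', e, pow_succ, _root_.mul_assoc]))
      push_cast
      omega
  obtain ⟨R, hR, eR⟩ := PicCurveLib.InvC.mul ⟨P, hP, rfl⟩ (JacAlbLib.invC_sigma_pow (k := k) hdim hσ n)
  obtain ⟨Q, hQ, eQ⟩ := JacAlbLib.exists_div hR (JacAlbLib.invC_point hdim σ hσ)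
  refine ⟨Q, hQ, ?_, eQ.trans eR⟩
  have h1 := JacAlbLib.deg_add_point (k := k) hdim σ hσ hQ eQ
  have h2 := h n R hR eR
  omega

/-- Let X be a smooth proper geometrically connected curve of genus g ≥ 1 over a field k, let (J', ψ')
be a coarse moduli scheme, on all k-schemes, for line bundles of degree g − 1 on X modulo twisting
from the base (the degree-(g − 1) Picard scheme), and let Θ' be the line bundle of its theta
divisor: an invertible module on J' inverse to the ideal of the closed subset, with reduced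
structure, which is the closure of the locus of classes having a nonzero global section. Let L be an
invertible module of degree g − 2 on X and let j : X → J' be the morphism which ψ' attaches to an
admissible family Lf on X × X (second factor the parameter) with Lf ⊗ I_Δ ≅ pr₁^* L, so that j sends
a point x to the class of L(x) (the Abel map followed by translation by the class of L). Then j^* Θ'
⊗ L is isomorphic to the sheaf of differentials Ω_{X/k} (existence of an isomorphism of modules;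
equivalently j^* Θ' ≅ Ω_{X/k} ⊗ L⁻¹). -/
theorem result (k : Type u) [Field k]
    (X : Scheme.{u}) [X.Over (Spec (CommRingCat.of k))]
    [IsProper (X ↘ Spec (CommRingCat.of k))] [Smooth (X ↘ Spec (CommRingCat.of k))]
    [GeometricallyConnected (X ↘ Spec (CommRingCat.of k))] (hdim : topologicalKrullDim ↥X = 1)
    (g : ℕ) (hg : Curv2.genus k X = g) (hg1 : 1 ≤ g)
    (J' : Scheme.{u}) [J'.Over (Spec (CommRingCat.of k))]
    (ψ' : (ModFun.PicDeg (X ↘ Spec (CommRingCat.of k)) ((g : ℤ) - 1)).Hom ⊤ (Over.mk (J' ↘ Spec (CommRingCat.of k))))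
    (hJ' : ModFun.IsCoarseModuli ⊤ (ModFun.PicDeg (X ↘ Spec (CommRingCat.of k)) ((g : ℤ) - 1)) (Over.mk (J' ↘ Spec (CommRingCat.of k))) ψ')
    (Θ' : J'.Modules) (hΘ' : Jac.IsThetaLB (X ↘ Spec (CommRingCat.of k)) ((g : ℤ) - 1) ψ' (Coh.structureModule X) Θ')
    (L : X.Modules) (hL : PicF.IsInvertible L) (hLdeg : Curv2.deg k X L 1 = (g : ℤ) - 2)
    (Lf : (PicF.XT (X ↘ Spec (CommRingCat.of k)) (Over.mk (X ↘ Spec (CommRingCat.of k)))).Modules)
    (hLf : Nonempty (CohB1.tensorMod Lf (ClSub.idealMod (pullback.diagonal (X ↘ Spec (CommRingCat.of k))).ker) ≅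
      (Scheme.Modules.pullback (pullback.fst (X ↘ Spec (CommRingCat.of k)) (X ↘ Spec (CommRingCat.of k)))).obj L))
    (hT : (⊤ : ObjectProperty (Over (Spec (CommRingCat.of k)))) (Over.mk (X ↘ Spec (CommRingCat.of k))))
    (hLok : (ModFun.PicDeg (X ↘ Spec (CommRingCat.of k)) ((g : ℤ) - 1)).ok (Over.mk (X ↘ Spec (CommRingCat.of k))) Lf)
    (j : Over.mk (X ↘ Spec (CommRingCat.of k)) ⟶ Over.mk (J' ↘ Spec (CommRingCat.of k)))
    (hj : ψ'.app (Over.mk (X ↘ Spec (CommRingCat.of k))) Lf hT hLok = j) :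
    Nonempty (CohB1.tensorMod ((Scheme.Modules.pullback j.left).obj Θ') L ≅ Omega.sheaf (X ↘ Spec (CommRingCat.of k))) := by
  have hf : PicCurveLib.Fam (X ↘ Spec (CommRingCat.of k)) := ⟨inferInstance, inferInstance, inferInstance,
    fun s => (EllLawLib.dim_fiber_spec (X ↘ Spec (CommRingCat.of k)) s).trans hdim⟩
  obtain ⟨n, rfl⟩ : ∃ n, g = n + 1 := ⟨g - 1, by omega⟩
  have hd : ((n + 1 : ℕ) : ℤ) - 1 = (n : ℤ) := by push_cast; ring
  revert ψ' hJ' hΘ' hLok hj
  rw [hd]
  intro ψ' hJ' hΘ' hLok hj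
  obtain ⟨k', _, _, _, _, σ, hσ, J'', _, hp', hs', hc', c, hc⟩ := JacAlbLib.exists_cover hdim hf
  let t : Spec (CommRingCat.of k') ⟶ Spec (CommRingCat.of k) := Spec.map (CommRingCat.ofHom (algebraMap k k'))
  haveI : IsFinite t := by
    rw [IsFinite.SpecMap_iff]
    exact RingHom.finite_algebraMap.2 inferInstance
  haveI : GeometricallyIntegral J''.hom := FibVALib.geometricallyIntegral_of_geometricallyConnected J''.hom
  haveI : IsCommMonObj J'' := CubeConsLib.isCommMonObj_field
  let f := X ↘ Spec (CommRingCat.of k)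
  let M : Over (Spec (CommRingCat.of k)) := Over.mk (J' ↘ Spec (CommRingCat.of k))
  obtain ⟨hMp, hMs, hMc, e, φB, ξ, hξ, hφB, -, hφ⟩ := JacAlbLib.exists_model hdim hf t rfl hc n hJ'
  haveI : IsProper (J' ↘ Spec (CommRingCat.of k)) := hMp
  haveI : LocallyOfFiniteType M.hom := inferInstanceAs (LocallyOfFiniteType (J' ↘ Spec (CommRingCat.of k)))
  let C' := Curv2.bc k X k'
  let f' := pullback.snd (X ↘ Spec (CommRingCat.of k)) t
  letI : C'.Over (Spec (CommRingCat.of k')) := ⟨f'⟩
  have hf' : PicCurveLib.Fam (C' ↘ Spec (CommRingCat.of k')) := PicCurveLib.fam_snd hf t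
  haveI := hf'.proper; haveI := hf'.smooth; haveI := hf'.conn
  haveI : IsProper f' := hf'.proper
  haveI : Smooth f' := hf'.smooth
  have hdim' : topologicalKrullDim ↥C' = 1 := PicCurveLib.dim_total hf'
  have hgen : n + 1 = Curv2.genus k' C' := hg.symm.trans (VeryAmpleLib.genus_bc k X k').symm
  obtain ⟨j', hj'⟩ := JacAlbLib.exists_abel hf' hc
  let N' : C'.Modules := (Scheme.Modules.pullback (pullback.fst f t)).obj (Coh.structureModule X)
  have hN' : PicF.IsInvertible N' := AmpleDevLib.isInvertible_pb _ CurvLib.isInvertible_structureModule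
  have hN1 : CubeConsLib.cl N' = 1 := (CubeConsLib.pull_cl _ _).symm.trans (map_one _)
  let Z : TopologicalSpace.Closeds J' :=
    ⟨Jac.thetaLocus f (n : ℤ) ψ' (Coh.structureModule X), isClosed_closure⟩
  let p : J''.left ⟶ J' := e.inv.left ≫ pullback.fst M.hom t
  let Z'' : TopologicalSpace.Closeds J''.left := ⟨p.base ⁻¹' Z, Z.isClosed.preimage p.continuous⟩
  have hZ'' : (Z'' : Set J''.left) = JacAlbLib.WSet j' n := by
    rw [← JacAlbLib.thetaLocus_deg_eq hdim' hf' hc hj' e hφ hN' hN1]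
    erw [← JacAlbLib.preimage_thetaLocus hdim hf t φB hφB (Coh.structureModule X)]
    let h := Scheme.homeoOfIso ((Over.forget _).mapIso e)
    rw [show (Z'' : Set J''.left) = e.inv.left.base ⁻¹' ((pullback.fst M.hom t).base ⁻¹' (Z : Set J')) by
      rw [← Set.preimage_comp]; rfl]
    exact (Equiv.image_eq_preimage_symm h.toEquiv _).symm
  haveI : Etale p := by
    haveI : Etale (pullback.fst M.hom t) := MorphismProperty.pullback_fst (P := @Etale) _ _ inferInstance
    haveI : IsIso e.inv.left := inferInstanceAs (IsIso ((Over.forget _).map e.inv))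
    exact MorphismProperty.comp_mem _ _ _ (inferInstanceAs (Etale e.inv.left)) ‹_›
  let La : J''.left.Modules := (Scheme.Modules.pullback p).obj Θ'
  have hLa : PicF.IsInvertible La := AmpleDevLib.isInvertible_pb p hΘ'.1
  have hinv : ClSub.IsInverseOf La (ClSub.idealMod (Scheme.IdealSheafData.vanishingIdeal Z'')) := by
    have hI := IntMultLib.isEffCartier_of_isInvertible _ (CohCmpLib.isInvertible_of_inverse' hΘ'.1 hΘ'.2.some)
    have hcomap := AlgSpRegLib.comap_vanishingIdeal_etale p Z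
    refine CubeConsLib.cl_eq_one_iff.1 ((CubeConsLib.cl_tensor _ _).trans ?_)
    show CubeConsLib.cl La * EllLawLib.idCls (Scheme.IdealSheafData.vanishingIdeal Z'') = 1
    rw [← show _ = Scheme.IdealSheafData.vanishingIdeal Z'' from hcomap,
      ← EllLawLib.pull_idCls p hI (BlowUpLib.isEffCartier_comap_of_flat p hI), ← CubeConsLib.pull_cl]
    refine (map_mul (CubeConsLib.pull p) _ _).symm.trans ?_
    exact (congrArg (CubeConsLib.pull p) (((CubeConsLib.cl_tensor _ _).symm).trans
      (CubeConsLib.cl_eq_iff.2 hΘ'.2))).trans (map_one _)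
  -- the degree zero point of `L`
  let P : C'.Modules := (Scheme.Modules.pullback (pullback.fst f t)).obj L
  have hP : PicF.IsInvertible P := AmpleDevLib.isInvertible_pb _ hL
  have hPd : Curv2.deg k' C' P 1 = (n : ℤ) - 1 := by
    refine (VeryAmpleLib.deg_bc k X k' hL).trans (hLdeg.trans ?_)
    push_cast; ring
  obtain ⟨Q, hQ, dQ, eQ⟩ := exists_deg_zero (k := k') hdim' hσ hP hPd
  obtain ⟨b₀, hb₀⟩ := JacAlbLib.exists_tcl_eq hdim' hf' hc hQ dQ
  have hkey := JacAlbLib.pull_theta_translAbel hdim' hf' hc hj' hgen Z'' hZ'' hLa hinv (P := CubeConsLib.cl P)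
    ⟨P, hP, rfl⟩ (b₀ := b₀) (by rw [hb₀, eQ])
  -- the map over the cover
  let T : Over (Spec (CommRingCat.of k')) := Over.mk f'
  let pr : AVIndexLib.dn t T ⟶ Over.mk f := AVIndexLib.toDn (X := Over.mk f) t (𝟙 T)
  obtain ⟨hLfi, hLfd⟩ := (JacAlbLib.ok_iff hf _ _ Lf).1 hLok
  let L₁ := (Scheme.Modules.pullback (PicF.XTmap f pr)).obj Lf
  have hL₁ : (ModFun.PicDeg f (n : ℤ)).ok (AVIndexLib.dn t T) L₁ := JacAlbLib.ok_pull hf pr Lf hLok
  let θ := AgPol.bcXTIso t (Over.mk f) T
  let L' : (PicF.XT f' T).Modules := (Scheme.Modules.pullback θ.hom).obj L₁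
  have hL' : (ModFun.PicDeg f' (n : ℤ)).ok T L' := by
    obtain ⟨h1, h2⟩ := (JacAlbLib.ok_iff hf _ _ L₁).1 hL₁
    exact (JacAlbLib.ok_iff hf' _ T L').2 ⟨AmpleDevLib.isInvertible_pb θ.hom h1,
      fun z => (JacAlbLib.deg_bcXTIso t hf.dim_le T h1 z).trans (h2 z)⟩
  have hjB : φB.app T L' trivial hL' = (Over.pullback t).map j := by
    refine AVIndexLib.toDn_injective t ((hφB T L' hL').trans ?_)
    refine (ψ'.resp _ L₁ trivial _ hL₁ ((JacAlbLib.r_iff hf _ _ _).2 ⟨1, ⟨_, CurvLib.isInvertible_structureModule, rfl⟩, ?_⟩)).trans ?_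
    · rw [map_one, _root_.mul_one]
      refine Eq.trans ?_ (CubeConsLib.pull_cl θ.inv L')
      refine Eq.trans ?_ (congrArg _ (CubeConsLib.pull_cl θ.hom L₁))
      rw [CubeConsLib.pull_comp, Iso.inv_hom_id]
      exact (DescAppLib.pull_id _).symm
    · refine (ψ'.natural pr Lf trivial trivial hLok hL₁).trans ?_
      rw [show ψ'.app (Over.mk f) Lf trivial hLok = j from hj, AVIndexLib.toDn_bc_map]
      exact congrArg (· ≫ j) (AVIndexLib.toDn_id t _)
  have hLf : CubeConsLib.cl Lf * PicCurveLib.pc (𝟙 (Over.mk f)) =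
      CubeConsLib.pull (pullback.fst f f) (CubeConsLib.cl L) := by
    have hdiag : EllLawLib.idCls (pullback.diagonal f).ker =
        (PicCurveLib.pc (𝟙 (Over.mk f)) : CubeConsLib.IsoCls (PicF.XT f (Over.mk f))) := by
      have h : (pullback.diagonal f) = HilbPts.SC.secF f (𝟙 (Over.mk f) : Over.mk f ⟶ Over.mk f).left
          (Over.w (𝟙 (Over.mk f) : Over.mk f ⟶ Over.mk f)) := by
        apply pullback.hom_ext <;> simp [HilbPts.SC.secF]
      exact congrArg (fun z : (Over.mk f).left ⟶ PicF.XT f (Over.mk f) => EllLawLib.idCls z.ker) h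
    rw [← hdiag, CubeConsLib.pull_cl, EllLawLib.idCls, ← CubeConsLib.cl_tensor]
    exact CubeConsLib.cl_eq_iff.2 hLf
  have hL'P : CubeConsLib.cl L' * PicCurveLib.pc (𝟙 T) =
      CubeConsLib.pull (pullback.fst f' T.hom) (CubeConsLib.cl P) := by
    have h := congrArg (CubeConsLib.pull θ.hom) (congrArg (CubeConsLib.pull (PicF.XTmap f pr)) hLf)
    rw [map_mul, map_mul, PicCurveLib.pull_pc hf, Category.comp_id, JacAlbLib.pull_hom_pc t hf (𝟙 T),
      CubeConsLib.pull_cl, CubeConsLib.pull_cl] at h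
    refine h.trans ?_
    rw [← CubeConsLib.pull_cl]
    refine (CubeConsLib.pull_comp _ _ _).trans ((CubeConsLib.pull_comp _ _ _).trans (Eq.trans ?_
      (CubeConsLib.pull_comp _ _ _).symm))
    refine congrArg (fun m => CubeConsLib.pull m (CubeConsLib.cl L)) ?_
    rw [Category.assoc]
    erw [DescAppLib.XTmap_fst]
    exact pullbackLeftPullbackSndIso_hom_fst f t T.hom
  have hjtr : (Over.pullback t).map j ≫ e.hom = j' ≫ Jac.transl J'' b₀ := by
    obtain ⟨m, hm, h1⟩ := hφ T L' hL'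
    obtain ⟨n1, hn1, h2⟩ := hj'.rel T (𝟙 T)
    erw [Category.id_comp] at h2
    obtain ⟨m', hm', hmm⟩ := hm.exists_inv
    rw [hjB] at h1
    have h3 : CubeConsLib.pull (PicF.XTmap f' (j' ≫ Jac.transl J'' b₀)) c =
        (show CubeConsLib.IsoCls (PicF.XT f' T) from CubeConsLib.pull (PicF.XTmap f' j') c) *
          (show CubeConsLib.IsoCls (PicF.XT f' T) from
            CubeConsLib.pull (pullback.fst f' T.hom) (JacAlbLib.tcl (C := C') c b₀)) := by
      rw [show Jac.transl J'' b₀ = 𝟙 J'' * (toUnit J'' ≫ b₀) from rfl, MonObj.comp_mul, Category.comp_id]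
      erw [hc.mul T j' (j' ≫ toUnit J'' ≫ b₀)]
      refine congrArg (_ * ·) ?_
      rw [← Category.assoc, toUnit_unique (j' ≫ toUnit J'') (toUnit T), ← DescAppLib.XTmap_comp, ← CubeConsLib.pull_comp]
      haveI : IsIso (JacAlbLib.toXT₀ (k := k') (C := C')) :=
        (JacAlbLib.isPullback_toXT₀ (k := k') (C := C')).isIso_fst_of_isIso
      have hfst : inv (JacAlbLib.toXT₀ (k := k') (C := C')) =
          pullback.fst (C' ↘ Spec (CommRingCat.of k')) (𝟙_ (Over (Spec (CommRingCat.of k')))).hom :=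
        (IsIso.eq_inv_of_hom_inv_id JacAlbLib.toXT₀_fst).symm
      rw [show CubeConsLib.pull (PicF.XTmap f' b₀) c =
          CubeConsLib.pull (pullback.fst (C' ↘ Spec (CommRingCat.of k')) (𝟙_ (Over (Spec (CommRingCat.of k')))).hom)
            (JacAlbLib.tcl (C := C') c b₀) by
        rw [JacAlbLib.tcl, ← hfst, CubeConsLib.pull_comp, IsIso.inv_hom_id, DescAppLib.pull_id]
        rfl]
      exact (CubeConsLib.pull_comp _ _ _).trans
        (congrArg (fun m => CubeConsLib.pull m _) (DescAppLib.XTmap_fst f' (toUnit T)))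
    have hB : PicCurveLib.pc (JacAlbLib.base σ hσ T) =
        CubeConsLib.pull (pullback.fst f' T.hom) (EllLawLib.idCls σ.ker) :=
      JacAlbLib.pc_base_eq hdim' hf' (σ := σ) (hσ := hσ) T
    have hbq : CubeConsLib.pull (pullback.fst f' T.hom) (JacAlbLib.tcl (C := C') c b₀) *
        PicCurveLib.pc (JacAlbLib.base σ hσ T) = CubeConsLib.pull (pullback.fst f' T.hom) (CubeConsLib.cl P) *
          PicCurveLib.pc (JacAlbLib.base σ hσ T) ^ n := by
      rw [hB, hb₀, ← map_pow, ← map_mul, ← map_mul, eQ]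
    refine JacAlbLib.hom_ext hf' hc (JacAlbLib.eq_of_twist hf'
      (PicCurveLib.rigZero_pull hf' σ hσ _ hc.rigZero) (PicCurveLib.rigZero_pull hf' σ hσ _ hc.rigZero) (n := m' * n1) ?_)
    refine (PicCurveLib.invC_pc hf' (𝟙 T)).isUnit.mul_right_cancel ?_
    have e3 : CubeConsLib.pull (PicF.XTproj f' T) m * CubeConsLib.pull (PicF.XTproj f' T) m' = 1 := by
      rw [← map_mul, hmm, map_one]
    erw [h3, h1]
    rw [map_mul]
    have key : ∀ (A B C₁ D pt pb Pn M₁ M₁' N₁ : CubeConsLib.IsoCls (PicF.XT f' T)),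
        A * pt = pb * N₁ → B * pb = C₁ * Pn → D * pt = C₁ → M₁ * M₁' = 1 →
        A * B * pt = D * Pn * M₁ * (M₁' * N₁) * pt := by
      intro A B C₁ D pt pb Pn M₁ M₁' N₁ q1 q2 q3 q4
      calc A * B * pt = A * pt * B := by ac_rfl
        _ = B * pb * N₁ := by rw [q1]; ac_rfl
        _ = D * pt * Pn * N₁ * (M₁ * M₁') := by rw [q2, q3, q4, _root_.mul_one]
        _ = _ := by ac_rfl
    exact key _ _ _ _ _ _ _ _ _ _ h2 hbq hL'P e3
  -- descent
  obtain ⟨eΩ⟩ := CurveDualLib.nonempty_omega_pullback f t (pullback.fst f t) f' (IsPullback.of_hasPullback f t)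
  refine CubeConsLib.cl_eq_iff.1 ?_
  refine JacAlbLib.eq_of_pull_eq (k := k) (k' := k') (g := pullback.fst f t) (X' := C')
    (IsPullback.of_hasPullback f t) ?_ (JacAlbLib.invC_omega (k := k) hdim) ?_
  · exact ⟨_, HilbPolyLib.isInvertible_tensor (AmpleDevLib.isInvertible_pb j.left hΘ'.1) hL, rfl⟩
  rw [CubeConsLib.cl_tensor, map_mul, ← CubeConsLib.pull_cl]
  refine (congrArg (· * _) (CubeConsLib.pull_comp _ _ _)).trans ?_
  refine Eq.trans ?_ (hkey.trans ((CubeConsLib.pull_cl _ _).trans (CubeConsLib.cl_eq_iff.2 ⟨eΩ⟩)).symm)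
  rw [show CubeConsLib.cl P = CubeConsLib.pull (pullback.fst f t) (CubeConsLib.cl L) from (CubeConsLib.pull_cl _ _).symm,
    show CubeConsLib.cl La = CubeConsLib.pull p (CubeConsLib.cl Θ') from (CubeConsLib.pull_cl _ _).symm, ← hjtr]
  refine congrArg (· * _) (Eq.trans ?_ (CubeConsLib.pull_comp _ _ _).symm)
  refine congrArg (fun m => CubeConsLib.pull m (CubeConsLib.cl Θ')) ?_
  have h4 : ((Over.pullback t).map j ≫ e.hom ≫ e.inv).left = ((Over.pullback t).map j).left := by
    rw [Iso.hom_inv_id, Category.comp_id]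
  show pullback.fst f t ≫ j.left = (((Over.pullback t).map j).left ≫ e.hom.left) ≫ e.inv.left ≫ pullback.fst M.hom t
  rw [Category.assoc, ← Category.assoc e.hom.left, ← Over.comp_left, Iso.hom_inv_id]
  erw [Category.id_comp]
  exact (pullback.lift_fst (f := M.hom) (g := t) _ _ _).symm

end Groth.Agent.S17133
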