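import Groth.Statements.S17134
import Groth.Agent.JacAlbLib.ThetaDescent
import Groth.Agent.JacAlbLib.ThetaDual
import Groth.Agent.JacAlbLib.ThetaLocus
import Groth.Agent.VeryAmpleLib.Bc
import Groth.Agent.S2491
import Groth.Agent.MiscFlat6.FpqcDesc

set_option autoImplicit false
set_option backward.isDefEq.respectTransparency false
set_option backward.isDefEq.respectTransparency.types false
set_option maxRecDepth 8000
set_option maxHeartbeats 1000000
universe u
open CategoryTheory CategoryTheory.Limits AlgebraicGeometry MonoidalCategory CartesianMonoidalCategory MonObj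
open Jac

namespace Groth.Agent.S17134

/-- Let X be a smooth proper geometrically connected curve of genus g ≥ 1 over a field k, and let (J, ψ)
be its Jacobian: a commutative group scheme over k which is a coarse moduli scheme, on all
k-schemes, for line bundles of degree 0 on X modulo twisting from the base, whose group law is the
tensor product of line bundles. Let N be an invertible module of degree g − 1 on X and Θ_J the line
bundle of the theta divisor Θ_N on J: an invertible module inverse to the ideal of the closed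
subset, with reduced structure, which is the closure of the locus of classes M with H⁰(X, M ⊗ N) ≠
0. Let (Jt, φ) be a commutative group scheme over k presented as the fppf dual of J, and let lam : J
→ Jt be the homomorphism attached to Θ_J through φ (the Jt-valued point of J that φ attaches to the
class of m^* Θ_J ⊗ pr₁^* Θ_J⁻¹ ⊗ pr₂^* Θ_J⁻¹). Then lam is an isomorphism and Θ_J is ample: the
theta divisor defines a principal polarization of the Jacobian. (Stated in the case where a line
bundle N of degree g − 1 exists on X over k, through which the theta divisor is translated to J; the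
published statement covers any curve by descent.) -/
theorem result (k : Type u) [Field k]
    (X : Scheme.{u}) [X.Over (Spec (CommRingCat.of k))]
    [IsProper (X ↘ Spec (CommRingCat.of k))] [Smooth (X ↘ Spec (CommRingCat.of k))]
    [GeometricallyConnected (X ↘ Spec (CommRingCat.of k))] (hdim : topologicalKrullDim ↥X = 1)
    (g : ℕ) (hg : Curv2.genus k X = g) (hg1 : 1 ≤ g)
    (J : Over (Spec (CommRingCat.of k))) [GrpObj J] [IsCommMonObj J]
    (ψ : (ModFun.PicDeg (X ↘ Spec (CommRingCat.of k)) 0).Hom ⊤ J) (hJ : Jac.IsJacobian (X ↘ Spec (CommRingCat.of k)) ⊤ J ψ)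
    (N : X.Modules) (hN : PicF.IsInvertible N) (hNdeg : Curv2.deg k X N 1 = (g : ℤ) - 1)
    (ΘJ : J.left.Modules) (hΘJ : Jac.IsThetaLB (X ↘ Spec (CommRingCat.of k)) 0 ψ N ΘJ)
    (Jt : Over (Spec (CommRingCat.of k))) [GrpObj Jt] [IsCommMonObj Jt]
    (φ : AgPol.DualMap J Jt) (hJt : AbDual.IsDualAV Scheme.fppfPrecoverage J Jt φ)
    (lam : J ⟶ Jt) (hlam : AgPol.IsLambda J Jt φ ΘJ lam) :
    IsIso lam ∧ CohB1.IsAmple ΘJ := by
  have hf : PicCurveLib.Fam (X ↘ Spec (CommRingCat.of k)) := ⟨inferInstance, inferInstance, inferInstance,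
    fun s => (EllLawLib.dim_fiber_spec (X ↘ Spec (CommRingCat.of k)) s).trans hdim⟩
  obtain ⟨k', _, _, _, _, σ, hσ, J', _, hp', hs', hc', c, hc⟩ := JacAlbLib.exists_cover hdim hf
  let t : Spec (CommRingCat.of k') ⟶ Spec (CommRingCat.of k) := Spec.map (CommRingCat.ofHom (algebraMap k k'))
  haveI : IsFinite t := by
    rw [IsFinite.SpecMap_iff]
    exact RingHom.finite_algebraMap.2 inferInstance
  haveI : Flat t := inferInstance
  haveI : Surjective t := ⟨fun x => ⟨IsLocalRing.closedPoint k', Subsingleton.elim (α := PrimeSpectrum k) _ _⟩⟩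
  -- properness and smoothness descend
  obtain ⟨ξ₀, q, -, hpb, -⟩ := JacAlbLib.exists_picDeg hdim hf 0 t rfl hc (M := J) (φ := ψ) hJ.coarse
  haveI : IsProper J.hom := by
    haveI := MiscFlat6.desc_isProper.{u}
    exact MorphismProperty.of_isPullback_of_descendsAlong (P := @IsProper)
      (Q := @Surjective ⊓ @Flat ⊓ @QuasiCompact) hpb.flip ⟨⟨‹Surjective t›, ‹Flat t›⟩, inferInstance⟩ hp'
  haveI : Smooth J.hom := MorphismProperty.of_isPullback_of_descendsAlong (P := @Smooth)
      (Q := @Surjective ⊓ @Flat ⊓ @QuasiCompact) hpb.flip ⟨⟨‹Surjective t›, ‹Flat t›⟩, inferInstance⟩ hs'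
  -- the situation over the cover
  obtain ⟨ψB, hψB⟩ := JacAlbLib.exists_app_bc hdim hf t ψ
  obtain ⟨hgc, cB, hcB, hψ⟩ := JacAlbLib.exists_rigJac_bc hdim hf t rfl hc hJ ψB hψB
  let JB := Red.bc t J
  haveI : IsProper JB.hom := MorphismProperty.pullback_snd J.hom t inferInstance
  haveI : Smooth JB.hom := MorphismProperty.pullback_snd J.hom t inferInstance
  haveI : GeometricallyConnected JB.hom := hgc
  haveI : GeometricallyIntegral JB.hom := FibVALib.geometricallyIntegral_of_geometricallyConnected JB.hom
  haveI : IsCommMonObj JB := CubeConsLib.isCommMonObj_field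
  haveI : GeometricallyConnected J.hom := JacAlbLib.geometricallyConnected_of_bc J hgc
  haveI : GeometricallyIntegral J.hom := FibVALib.geometricallyIntegral_of_geometricallyConnected J.hom
  let C' := Curv2.bc k X k'
  letI : C'.Over (Spec (CommRingCat.of k')) := ⟨pullback.snd (X ↘ Spec (CommRingCat.of k)) t⟩
  have hf' : PicCurveLib.Fam (C' ↘ Spec (CommRingCat.of k')) := PicCurveLib.fam_snd hf t
  haveI := hf'.proper; haveI := hf'.smooth; haveI := hf'.conn
  have hdim' : topologicalKrullDim ↥C' = 1 := PicCurveLib.dim_total hf'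
  obtain ⟨j, hj⟩ := JacAlbLib.exists_abel hf' hcB
  obtain ⟨n, rfl⟩ : ∃ n, g = n + 1 := ⟨g - 1, by omega⟩
  let N' : C'.Modules := (Scheme.Modules.pullback (pullback.fst (X ↘ Spec (CommRingCat.of k)) t)).obj N
  have hN' : PicF.IsInvertible N' := AmpleDevLib.isInvertible_pb _ hN
  have hgen : n + 1 = Curv2.genus k' C' := by
    exact hg.symm.trans (VeryAmpleLib.genus_bc k X k').symm
  have hNd : Curv2.deg k' C' N' 1 = (n : ℤ) := by
    refine (VeryAmpleLib.deg_bc k X k' hN).trans (hNdeg.trans ?_)
    push_cast; ring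
  obtain ⟨a, ha⟩ := JacAlbLib.exists_thetaLocus_eq hdim' hf' hcB hj hψ hgen hN' hNd
  -- the bundle over the cover
  let p := pullback.fst J.hom t
  let Z : TopologicalSpace.Closeds J.left := ⟨Jac.thetaLocus (X ↘ Spec (CommRingCat.of k)) 0 ψ N, isClosed_closure⟩
  let Z' : TopologicalSpace.Closeds JB.left := ⟨p.base ⁻¹' Z, Z.isClosed.preimage p.continuous⟩
  have hZ' : (Z' : Set JB.left) = (Jac.transl JB a).left.base '' JacAlbLib.WSet j n :=
    (JacAlbLib.preimage_thetaLocus hdim hf t ψB hψB N).trans ha
  haveI : Etale p := MorphismProperty.pullback_fst (P := @Etale) _ _ inferInstance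
  let L' : JB.left.Modules := (Scheme.Modules.pullback p).obj ΘJ
  have hL' : PicF.IsInvertible L' := AmpleDevLib.isInvertible_pb p hΘJ.1
  have hinv' : ClSub.IsInverseOf L' (ClSub.idealMod (Scheme.IdealSheafData.vanishingIdeal Z')) := by
    have hI := IntMultLib.isEffCartier_of_isInvertible _ (CohCmpLib.isInvertible_of_inverse' hΘJ.1 hΘJ.2.some)
    have hcomap := AlgSpRegLib.comap_vanishingIdeal_etale p Z
    refine CubeConsLib.cl_eq_one_iff.1 ((CubeConsLib.cl_tensor _ _).trans ?_)
    show CubeConsLib.cl L' * EllLawLib.idCls (Scheme.IdealSheafData.vanishingIdeal Z') = 1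
    rw [← show _ = Scheme.IdealSheafData.vanishingIdeal Z' from hcomap,
      ← EllLawLib.pull_idCls p hI (by
        exact BlowUpLib.isEffCartier_comap_of_flat p hI), ← CubeConsLib.pull_cl]
    refine (map_mul (CubeConsLib.pull p) _ _).symm.trans ?_
    exact (congrArg (CubeConsLib.pull p) (((CubeConsLib.cl_tensor _ _).symm).trans
      (CubeConsLib.cl_eq_iff.2 hΘJ.2))).trans (map_one _)
  refine ⟨?_, ?_⟩
  · have hl := AVDualLib.isLambda_bc φ hJt hΘJ.1 hlam t
    have h := JacAlbLib.isIso_lambda_transl hdim' hf' hcB hj hgen a Z' hZ' hL' hinv'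
      (AVIndexLib.isDualAV_bcDual t hJt) hl
    haveI : IsIso lam.left := JacAlbLib.isIso_of_bc lam h
    haveI : IsIso ((Over.forget _).map lam) := ‹IsIso lam.left›
    exact isIso_of_reflects_iso lam (Over.forget _)
  · let K := AlgebraicClosure k'
    let s : Spec (CommRingCat.of K) ⟶ Spec (CommRingCat.of k') := Spec.map (CommRingCat.ofHom (algebraMap k' K))
    haveI : Flat s := by
      rw [HasRingHomProperty.Spec_iff (P := @Flat)]
      show RingHom.Flat (algebraMap k' K)
      rw [RingHom.flat_algebraMap_iff]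
      infer_instance
    haveI : Surjective s := ⟨fun x => ⟨IsLocalRing.closedPoint K, Subsingleton.elim (α := PrimeSpectrum k') _ _⟩⟩
    have hK := (JacAlbLib.theta_bc hdim' hf' hcB hj hgen a Z' hZ' hL' hinv' K).1
    exact Groth.Agent.S2491.result J.hom t ΘJ hΘJ.1 (Groth.Agent.S2491.result JB.hom s L' hL' hK)

end Groth.Agent.S17134
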