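import Groth.Statements.S17135
import Groth.Agent.JacAlbLib.PicDegCover
import Groth.Agent.JacAlbLib.ThetaBC
import Groth.Agent.JacAlbLib.ThetaCoh
import Groth.Agent.JacAlbLib.Points
import Groth.Agent.VeryAmpleLib.Bc

set_option autoImplicit false
set_option backward.isDefEq.respectTransparency false
set_option backward.isDefEq.respectTransparency.types false
set_option maxRecDepth 8000
set_option maxHeartbeats 1000000
universe u
open CategoryTheory CategoryTheory.Limits AlgebraicGeometry MonoidalCategory CartesianMonoidalCategory MonObj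
open Jac

namespace Groth.Agent.S17135

open CubeConsLib (cl pull pull_cl cl_eq_iff cl_tensor IsoCls) in
/-- Intersection numbers of line bundles and sections along a base change of fields. -/
theorem intNum_bc {k K : Type u} [Field k] [Field K] [Algebra k K] {Y Y' : Scheme.{u}}
    [Y.Over (Spec (CommRingCat.of k))] [Y'.Over (Spec (CommRingCat.of K))] [IsProper (Y ↘ Spec (CommRingCat.of k))]
    {g : Y' ⟶ Y} (sq : IsPullback g (Y' ↘ Spec (CommRingCat.of K)) (Y ↘ Spec (CommRingCat.of k))
      (Spec.map (CommRingCat.ofHom (algebraMap k K))))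
    (d : ℕ) {L : Y.Modules} (hL : PicF.IsInvertible L) {L' : Y'.Modules} (e : cl L' = pull g (cl L)) (r : ℕ) :
    FGA.intNum k Y d (fun _ : Fin r => L) (Coh.structureModule Y) =
      FGA.intNum K Y' d (fun _ : Fin r => L') (Coh.structureModule Y') ∧
    Module.finrank K (Coh.HH Y' L' 0) = Module.finrank k (Coh.HH Y L 0) := by
  have fr : ∀ {F : Y.Modules} (_ : PicF.IsInvertible F) {F' : Y'.Modules} (_ : cl F' = pull g (cl F)) (i : ℕ),
      Module.finrank K (Coh.HH Y' F' i) = Module.finrank k (Coh.HH Y F i) := fun {F} hF {F'} eF i => by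
    rw [(CurvLib.hIso (k := K) (cl_eq_iff.1 (eF.trans (pull_cl _ _))).some i).finrank_eq]
    exact CurveBCLib.finrank_HH_sq sq (TwistLib.isQCoh_of_isInvertible hF) i
  refine ⟨?_, fr hL e 0⟩
  have hl : ∀ n : ℕ, PicF.IsInvertible (FGA.tensorList (List.replicate n L)) := fun n => by
    induction n with
    | zero => exact CurvLib.isInvertible_structureModule
    | succ n ih =>
      rw [List.replicate_succ, FGA.tensorList]
      exact HilbPolyLib.isInvertible_tensor hL ih
  rw [FGA.intNum, FGA.intNum]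
  refine Finset.sum_congr rfl fun I _ => congrArg (_ * ·) ?_
  simp only [List.map_const', Finset.length_sort]
  refine Finset.sum_congr rfl fun i _ => congrArg (fun x : ℕ => (-1 : ℤ) ^ i * (x : ℤ)) ?_
  refine (fr (HilbPolyLib.isInvertible_tensor (hl _) CurvLib.isInvertible_structureModule) ?_ i).symm
  rw [cl_tensor, cl_tensor, JacAlbLib.cl_tensorList, JacAlbLib.cl_tensorList, List.map_replicate, List.map_replicate,
    List.prod_replicate, List.prod_replicate, show cl (Coh.structureModule Y') = 1 from rfl,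
    show cl (Coh.structureModule Y) = 1 from rfl, map_mul, map_pow, map_one, e]

/-- Let X be a smooth proper geometrically connected curve of genus g ≥ 1 over a field k, let (J', ψ')
be a coarse moduli scheme, on all k-schemes, for line bundles of degree g − 1 on X modulo twisting
from the base, let Θ' be the line bundle of its theta divisor (an invertible module on J' inverse to
the ideal of the closed subset, with reduced structure, which is the closure of the locus of classes
having a nonzero global section) and let Θinv be a tensor inverse of Θ'. Then the self-intersection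
number (Θ'^g) — the alternating sum of Euler characteristics FGA.intNum taken in g copies of the
inverse module Θinv against the structure sheaf, with dimension bound g — equals g!, and h⁰(J', Θ')
= 1. -/
theorem result (k : Type u) [Field k]
    (X : Scheme.{u}) [X.Over (Spec (CommRingCat.of k))]
    [IsProper (X ↘ Spec (CommRingCat.of k))] [Smooth (X ↘ Spec (CommRingCat.of k))]
    [GeometricallyConnected (X ↘ Spec (CommRingCat.of k))] (hdim : topologicalKrullDim ↥X = 1)
    (g : ℕ) (hg : Curv2.genus k X = g) (hg1 : 1 ≤ g)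
    (J' : Scheme.{u}) [J'.Over (Spec (CommRingCat.of k))]
    (ψ' : (ModFun.PicDeg (X ↘ Spec (CommRingCat.of k)) ((g : ℤ) - 1)).Hom ⊤ (Over.mk (J' ↘ Spec (CommRingCat.of k))))
    (hJ' : ModFun.IsCoarseModuli ⊤ (ModFun.PicDeg (X ↘ Spec (CommRingCat.of k)) ((g : ℤ) - 1)) (Over.mk (J' ↘ Spec (CommRingCat.of k))) ψ')
    (Θ' : J'.Modules) (hΘ' : Jac.IsThetaLB (X ↘ Spec (CommRingCat.of k)) ((g : ℤ) - 1) ψ' (Coh.structureModule X) Θ')
    (Θinv : J'.Modules) (hΘinv : Nonempty (CohB1.tensorMod Θ' Θinv ≅ Coh.structureModule J')) :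
    FGA.intNum k J' g (fun _ : Fin g => Θinv) (Coh.structureModule J') = (Nat.factorial g : ℤ) ∧
      Module.finrank k (Coh.HH J' Θ' 0) = 1 := by
  have hf : PicCurveLib.Fam (X ↘ Spec (CommRingCat.of k)) := ⟨inferInstance, inferInstance, inferInstance,
    fun s => (EllLawLib.dim_fiber_spec (X ↘ Spec (CommRingCat.of k)) s).trans hdim⟩
  obtain ⟨n, rfl⟩ : ∃ n, g = n + 1 := ⟨g - 1, by omega⟩
  obtain ⟨k', _, _, _, _, σ, hσ, J'', _, hp', hs', hc', c, hc⟩ := JacAlbLib.exists_cover hdim hf
  let t : Spec (CommRingCat.of k') ⟶ Spec (CommRingCat.of k) := Spec.map (CommRingCat.ofHom (algebraMap k k'))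
  haveI : IsFinite t := by
    rw [IsFinite.SpecMap_iff]
    exact RingHom.finite_algebraMap.2 inferInstance
  haveI : GeometricallyIntegral J''.hom := FibVALib.geometricallyIntegral_of_geometricallyConnected J''.hom
  haveI : IsCommMonObj J'' := CubeConsLib.isCommMonObj_field
  let M : Over (Spec (CommRingCat.of k)) := Over.mk (J' ↘ Spec (CommRingCat.of k))
  have hd : ((n + 1 : ℕ) : ℤ) - 1 = (n : ℤ) := by push_cast; ring
  revert ψ' hJ' hΘ'
  rw [hd]
  intro ψ' hJ' hΘ'
  obtain ⟨hMp, hMs, hMc, e, φB, ξ, hξ, hφB, -, hφ⟩ := JacAlbLib.exists_model hdim hf t rfl hc n hJ'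
  haveI : IsProper (J' ↘ Spec (CommRingCat.of k)) := hMp
  haveI : LocallyOfFiniteType M.hom := inferInstanceAs (LocallyOfFiniteType (J' ↘ Spec (CommRingCat.of k)))
  let C' := Curv2.bc k X k'
  letI : C'.Over (Spec (CommRingCat.of k')) := ⟨pullback.snd (X ↘ Spec (CommRingCat.of k)) t⟩
  have hf' : PicCurveLib.Fam (C' ↘ Spec (CommRingCat.of k')) := PicCurveLib.fam_snd hf t
  haveI := hf'.proper; haveI := hf'.smooth; haveI := hf'.conn
  have hdim' : topologicalKrullDim ↥C' = 1 := PicCurveLib.dim_total hf'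
  have hgen : n + 1 = Curv2.genus k' C' := hg.symm.trans (VeryAmpleLib.genus_bc k X k').symm
  obtain ⟨j, hj⟩ := JacAlbLib.exists_abel hf' hc
  let N' : C'.Modules :=
    (Scheme.Modules.pullback (pullback.fst (X ↘ Spec (CommRingCat.of k)) t)).obj (Coh.structureModule X)
  have hN' : PicF.IsInvertible N' := AmpleDevLib.isInvertible_pb _ CurvLib.isInvertible_structureModule
  have hN1 : CubeConsLib.cl N' = 1 := (CubeConsLib.pull_cl _ _).symm.trans (map_one _)
  let Z : TopologicalSpace.Closeds J' :=
    ⟨Jac.thetaLocus (X ↘ Spec (CommRingCat.of k)) (n : ℤ) ψ' (Coh.structureModule X), isClosed_closure⟩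
  let p : J''.left ⟶ J' := e.inv.left ≫ pullback.fst M.hom t
  let Z'' : TopologicalSpace.Closeds J''.left := ⟨p.base ⁻¹' Z, Z.isClosed.preimage p.continuous⟩
  have hZ'' : (Z'' : Set J''.left) = (Jac.transl J'' 1).left.base '' JacAlbLib.WSet j n := by
    have h1 : Jac.transl J'' 1 = 𝟙 J'' := by rw [Jac.transl, MonObj.comp_one, _root_.mul_one]
    rw [h1]
    refine Eq.trans ?_ (Set.image_id (JacAlbLib.WSet j n)).symm
    rw [← JacAlbLib.thetaLocus_deg_eq hdim' hf' hc hj e hφ hN' hN1]
    erw [← JacAlbLib.preimage_thetaLocus hdim hf t φB hφB (Coh.structureModule X)]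
    let h := Scheme.homeoOfIso ((Over.forget _).mapIso e)
    rw [show (Z'' : Set J''.left) = e.inv.left.base ⁻¹' ((pullback.fst M.hom t).base ⁻¹' (Z : Set J')) by
      rw [← Set.preimage_comp]; rfl]
    exact (Equiv.image_eq_preimage_symm h.toEquiv _).symm
  haveI : Etale p := by
    haveI : Etale (pullback.fst M.hom t) := MorphismProperty.pullback_fst (P := @Etale) _ _ inferInstance
    haveI : IsIso e.inv.left := inferInstanceAs (IsIso ((Over.forget _).map e.inv))
    exact MorphismProperty.comp_mem _ _ _ (inferInstanceAs (Etale e.inv.left)) ‹_›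
  let L : J''.left.Modules := (Scheme.Modules.pullback p).obj Θ'
  have hL : PicF.IsInvertible L := AmpleDevLib.isInvertible_pb p hΘ'.1
  have hinv : ClSub.IsInverseOf L (ClSub.idealMod (Scheme.IdealSheafData.vanishingIdeal Z'')) := by
    have hI := IntMultLib.isEffCartier_of_isInvertible _ (CohCmpLib.isInvertible_of_inverse' hΘ'.1 hΘ'.2.some)
    have hcomap := AlgSpRegLib.comap_vanishingIdeal_etale p Z
    refine CubeConsLib.cl_eq_one_iff.1 ((CubeConsLib.cl_tensor _ _).trans ?_)
    show CubeConsLib.cl L * EllLawLib.idCls (Scheme.IdealSheafData.vanishingIdeal Z'') = 1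
    rw [← show _ = Scheme.IdealSheafData.vanishingIdeal Z'' from hcomap,
      ← EllLawLib.pull_idCls p hI (BlowUpLib.isEffCartier_comap_of_flat p hI), ← CubeConsLib.pull_cl]
    refine (map_mul (CubeConsLib.pull p) _ _).symm.trans ?_
    exact (congrArg (CubeConsLib.pull p) (((CubeConsLib.cl_tensor _ _).symm).trans
      (CubeConsLib.cl_eq_iff.2 hΘ'.2))).trans (map_one _)
  let K := AlgebraicClosure k'
  letI : Algebra k K := ((algebraMap k' K).comp (algebraMap k k')).toAlgebra
  let s : Spec (CommRingCat.of K) ⟶ Spec (CommRingCat.of k') := Spec.map (CommRingCat.ofHom (algebraMap k' K))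
  obtain ⟨hamp, hprin, -⟩ := JacAlbLib.theta_bc hdim' hf' hc hj hgen 1 Z'' hZ'' hL hinv K
  let JK := Red.bc s J''
  haveI : IsProper JK.hom := MorphismProperty.pullback_snd J''.hom s inferInstance
  haveI : Smooth JK.hom := MorphismProperty.pullback_snd J''.hom s inferInstance
  haveI : GeometricallyIntegral JK.hom := MorphismProperty.pullback_snd J''.hom s inferInstance
  letI : JK.left.Over (Spec (CommRingCat.of K)) := ⟨JK.hom⟩
  letI : (Curv2.bc k' C' K).Over (Spec (CommRingCat.of K)) := ⟨pullback.snd (C' ↘ Spec (CommRingCat.of k')) s⟩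
  have hfK : PicCurveLib.Fam (Curv2.bc k' C' K ↘ Spec (CommRingCat.of K)) := PicCurveLib.fam_snd hf' s
  haveI := hfK.proper; haveI := hfK.smooth; haveI := hfK.conn
  have hgK : topologicalKrullDim JK.left = ((n + 1 : ℕ) : WithBot ℕ∞) := by
    rw [show n + 1 = Curv2.genus K (Curv2.bc k' C' K) from hgen.trans (VeryAmpleLib.genus_bc k' C' K).symm]
    exact JacAlbLib.dim_jac (J := JK) hfK (JacAlbLib.isRigJac_bc s hf' hc) (JacAlbLib.isAbel_bc s hf' hj)
  let q : JK.left ⟶ J' := pullback.fst J''.hom s ≫ p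
  have sq : IsPullback q (JK.left ↘ Spec (CommRingCat.of K)) (J' ↘ Spec (CommRingCat.of k))
      (Spec.map (CommRingCat.ofHom (algebraMap k K))) := by
    rw [show Spec.map (CommRingCat.ofHom (algebraMap k K)) = s ≫ t by rw [← Spec.map_comp]; rfl]
    refine (IsPullback.of_hasPullback J''.hom s).paste_horiz ?_
    exact IsPullback.of_iso (IsPullback.of_hasPullback M.hom t) ((Over.forget _).mapIso e) (Iso.refl _) (Iso.refl _)
      (Iso.refl _) (by simp [p]) (by simp <;> rfl) (by simp <;> rfl) (by simp <;> rfl)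
  obtain ⟨LK, hLK, eLK⟩ : ∃ LK : JK.left.Modules, PicF.IsInvertible LK ∧
      LK = (Scheme.Modules.pullback (pullback.fst J''.hom s)).obj L := ⟨_, AmpleDevLib.isInvertible_pb _ hL, rfl⟩
  have hΘi : PicF.IsInvertible Θinv := CohCmpLib.isInvertible_of_inverse' hΘ'.1 hΘinv.some
  let MK : JK.left.Modules := (Scheme.Modules.pullback q).obj Θinv
  have hMK : PicF.IsInvertible MK := AmpleDevLib.isInvertible_pb q hΘi
  have eLK' : CubeConsLib.cl LK = CubeConsLib.pull q (CubeConsLib.cl Θ') := by
    rw [eLK, ← CubeConsLib.pull_cl, ← CubeConsLib.pull_cl, CubeConsLib.pull_comp]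
  have hMKL : ClSub.IsInverseOf MK LK := by
    refine CubeConsLib.cl_eq_one_iff.1 ?_
    rw [CubeConsLib.cl_tensor, eLK', show CubeConsLib.cl MK = CubeConsLib.pull q (CubeConsLib.cl Θinv) from
      (CubeConsLib.pull_cl _ _).symm, ← map_mul, mul_comm, ← CubeConsLib.cl_tensor, CubeConsLib.cl_eq_iff.2 hΘinv]
    exact map_one _
  subst eLK
  refine ⟨?_, ?_⟩
  · rw [(intNum_bc sq (n + 1) hΘi (L' := MK) (CubeConsLib.pull_cl _ _).symm (n + 1)).1]
    exact JacAlbLib.intNum_eq hgK hLK (hprin hLK) hamp hMK hMKL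
  · rw [← (intNum_bc sq (n + 1) hΘ'.1 (L' := CohB1.tensorPow
      ((Scheme.Modules.pullback (pullback.fst J''.hom s)).obj L) 1)
      (by rw [JacAlbLib.cl_tpow, pow_one, eLK']) (n + 1)).2]
    exact (JacAlbLib.finrank_pow hgK hLK (hprin hLK) hamp le_rfl).trans (one_pow _)

end Groth.Agent.S17135
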