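import Groth.Statements.S17136
import Groth.Agent.JacAlbLib.ThetaUnivField

set_option autoImplicit false
set_option backward.isDefEq.respectTransparency false
set_option backward.isDefEq.respectTransparency.types false
set_option maxRecDepth 8000
set_option maxHeartbeats 1000000
universe u
open CategoryTheory CategoryTheory.Limits AlgebraicGeometry MonoidalCategory CartesianMonoidalCategory MonObj
open Jac

namespace Groth.Agent.S17136

/-- Let X be a smooth proper geometrically connected curve of genus g ≥ 1 over a field k (no rational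
point is assumed), let (J_g, ψ_g) and (J', ψ') be coarse moduli schemes, on all k-schemes, for line
bundles of degree g and of degree g − 1 on X modulo twisting from the base (the Picard schemes of
degrees g and g − 1), and let Θ' be the line bundle of the theta divisor on J': an invertible module
inverse to the ideal of the closed subset, with reduced structure, which is the closure of the locus
of classes having a nonzero global section. Let fm : X × J_g → J' be the morphism induced by the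
operation (x, M) ↦ M(−x): for every k-scheme T, every T-point x of X and every admissible degree-g
family M on X_T there is an admissible degree-(g − 1) family isomorphic to M ⊗ I_{Γ_x} (I_{Γ_x} the
ideal of the graph of x in X_T), and ψ' of any such family equals the pair (x, ψ_g M) followed by
fm. Then fm^* Θ' is a universal line bundle on X × J_g: it is an admissible degree-g family over
J_g, and every admissible degree-g family on X_T, T any k-scheme, is isomorphic up to a twist by a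
line bundle from T to its pull-back along exactly one k-morphism T → J_g. -/
theorem result (k : Type u) [Field k]
    (X : Scheme.{u}) [X.Over (Spec (CommRingCat.of k))]
    [IsProper (X ↘ Spec (CommRingCat.of k))] [Smooth (X ↘ Spec (CommRingCat.of k))]
    [GeometricallyConnected (X ↘ Spec (CommRingCat.of k))] (hdim : topologicalKrullDim ↥X = 1)
    (g : ℕ) (hg : Curv2.genus k X = g) (hg1 : 1 ≤ g)
    (Jg : Over (Spec (CommRingCat.of k)))
    (ψg : (ModFun.PicDeg (X ↘ Spec (CommRingCat.of k)) (g : ℤ)).Hom ⊤ Jg)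
    (hJg : ModFun.IsCoarseModuli ⊤ (ModFun.PicDeg (X ↘ Spec (CommRingCat.of k)) (g : ℤ)) Jg ψg)
    (J' : Over (Spec (CommRingCat.of k)))
    (ψ' : (ModFun.PicDeg (X ↘ Spec (CommRingCat.of k)) ((g : ℤ) - 1)).Hom ⊤ J')
    (hJ' : ModFun.IsCoarseModuli ⊤ (ModFun.PicDeg (X ↘ Spec (CommRingCat.of k)) ((g : ℤ) - 1)) J' ψ')
    (Θ' : J'.left.Modules) (hΘ' : Jac.IsThetaLB (X ↘ Spec (CommRingCat.of k)) ((g : ℤ) - 1) ψ' (Coh.structureModule X) Θ')
    (fm : Over.mk (X ↘ Spec (CommRingCat.of k)) ⊗ Jg ⟶ J')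
    (hfm : Jac.IsBinOpMap
      (ModFun.Problem.Hom.ofNatTrans (𝟙 ((AlgSp.pyon (Spec (CommRingCat.of k))).obj (Over.mk (X ↘ Spec (CommRingCat.of k)))))) ψg ψ'
      (fun (T : Over (Spec (CommRingCat.of k))) (x : ULift.{u + 1} (T ⟶ Over.mk (X ↘ Spec (CommRingCat.of k))))
        (M N : (PicF.XT (X ↘ Spec (CommRingCat.of k)) T).Modules) =>
        Nonempty (N ≅ CohB1.tensorMod M (ClSub.idealMod
          (pullback.lift x.down.left (𝟙 T.left) ((Over.w x.down).trans (Category.id_comp T.hom).symm) :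
            T.left ⟶ PicF.XT (X ↘ Spec (CommRingCat.of k)) T).ker)))
      fm) :
    ModFun.IsUnivFamily ⊤ (ModFun.PicDeg (X ↘ Spec (CommRingCat.of k)) (g : ℤ)) Jg ((Scheme.Modules.pullback fm.left).obj Θ') := by
  obtain ⟨n, rfl⟩ : ∃ n, g = n + 1 := ⟨g - 1, by omega⟩
  have hd : ((n + 1 : ℕ) : ℤ) - 1 = (n : ℤ) := by push_cast; ring
  revert ψ' hJ' hΘ' hfm
  rw [hd]
  intro ψ' hJ' hΘ' hfm
  let f := X ↘ Spec (CommRingCat.of k)
  have hf : PicCurveLib.Fam (X ↘ Spec (CommRingCat.of k)) := ⟨inferInstance, inferInstance, inferInstance,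
    fun s => (EllLawLib.dim_fiber_spec (X ↘ Spec (CommRingCat.of k)) s).trans hdim⟩
  obtain ⟨k', _, _, _, _, σ, hσ, Jk, _, hp', hs', hc', c, hc⟩ := JacAlbLib.exists_cover hdim hf
  let t : Spec (CommRingCat.of k') ⟶ Spec (CommRingCat.of k) := Spec.map (CommRingCat.ofHom (algebraMap k k'))
  haveI : IsFinite t := by
    rw [IsFinite.SpecMap_iff]
    exact RingHom.finite_algebraMap.2 inferInstance
  haveI : Flat t := inferInstance
  haveI : Surjective t := ⟨fun x => ⟨IsLocalRing.closedPoint k', Subsingleton.elim (α := PrimeSpectrum k) _ _⟩⟩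
  haveI : GeometricallyIntegral Jk.hom := FibVALib.geometricallyIntegral_of_geometricallyConnected Jk.hom
  haveI : IsCommMonObj Jk := CubeConsLib.isCommMonObj_field
  obtain ⟨-, -, -, e, φB, ξ₁, hξ, hφB, cls, hφ⟩ := JacAlbLib.exists_model hdim hf t rfl hc (n + 1) hJg
  obtain ⟨hMp, -, -, e', φB', ξ', -, hφB', -, hφ'⟩ := JacAlbLib.exists_model hdim hf t rfl hc n hJ'
  haveI : IsProper J'.hom := hMp
  let C' := Curv2.bc k X k'
  let f' := pullback.snd f t
  letI : C'.Over (Spec (CommRingCat.of k')) := ⟨f'⟩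
  have hf' : PicCurveLib.Fam (C' ↘ Spec (CommRingCat.of k')) := PicCurveLib.fam_snd hf t
  haveI := hf'.proper; haveI := hf'.smooth; haveI := hf'.conn
  haveI : IsProper f' := hf'.proper
  haveI : Smooth f' := hf'.smooth
  have hdim' : topologicalKrullDim ↥C' = 1 := PicCurveLib.dim_total hf'
  have hgen : n + 1 = Curv2.genus k' C' := hg.symm.trans (VeryAmpleLib.genus_bc k X k').symm
  obtain ⟨j, hj⟩ := JacAlbLib.exists_abel hf' hc
  have hone : ∀ (U : Scheme.{u}), PicCurveLib.InvC (1 : CubeConsLib.IsoCls U) := fun U =>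
    ⟨_, CurvLib.isInvertible_structureModule, rfl⟩
  let θ : ∀ T : Over (Spec (CommRingCat.of k')), PicF.XT f' T ≅ PicF.XT f (AVIndexLib.dn t T) :=
    fun T => AgPol.bcXTIso t (Over.mk f) T
  haveI : ∀ T, IsIso (θ T).hom := fun T => inferInstance
  have hinvθ : ∀ (T : Over (Spec (CommRingCat.of k'))) (M : (PicF.XT f (AVIndexLib.dn t T)).Modules),
      CubeConsLib.cl ((Scheme.Modules.pullback (θ T).inv).obj ((Scheme.Modules.pullback (θ T).hom).obj M)) =
        CubeConsLib.cl M := fun T M => by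
    rw [← CubeConsLib.pull_cl, ← CubeConsLib.pull_cl, CubeConsLib.pull_comp, Iso.inv_hom_id]
    exact DescAppLib.pull_id _
  have hθproj : ∀ T, (θ T).inv ≫ PicF.XTproj f' T = PicF.XTproj f (AVIndexLib.dn t T) := fun T =>
    (Iso.inv_comp_eq (θ T)).2 (pullbackLeftPullbackSndIso_hom_snd f t T.hom).symm
  -- the theta bundle on the Jacobian of the cover
  let p' : Jk.left ⟶ J'.left := e'.inv.left ≫ pullback.fst J'.hom t
  let N' : C'.Modules :=
    (Scheme.Modules.pullback (pullback.fst f t)).obj (Coh.structureModule X)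
  have hN' : PicF.IsInvertible N' := AmpleDevLib.isInvertible_pb _ CurvLib.isInvertible_structureModule
  have hN1 : CubeConsLib.cl N' = 1 := (CubeConsLib.pull_cl _ _).symm.trans (map_one _)
  let Z : TopologicalSpace.Closeds J'.left :=
    ⟨Jac.thetaLocus f (n : ℤ) ψ' (Coh.structureModule X), isClosed_closure⟩
  let Z'' : TopologicalSpace.Closeds Jk.left := ⟨p'.base ⁻¹' Z, Z.isClosed.preimage p'.continuous⟩
  have hZ'' : (Z'' : Set Jk.left) = JacAlbLib.WSet j n := by
    rw [← JacAlbLib.thetaLocus_deg_eq hdim' hf' hc hj e' hφ' hN' hN1]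
    erw [← JacAlbLib.preimage_thetaLocus hdim hf t φB' hφB' (Coh.structureModule X)]
    let h := Scheme.homeoOfIso ((Over.forget _).mapIso e')
    rw [show (Z'' : Set Jk.left) = e'.inv.left.base ⁻¹' ((pullback.fst J'.hom t).base ⁻¹' (Z : Set J'.left)) by
      rw [← Set.preimage_comp]; rfl]
    exact (Equiv.image_eq_preimage_symm h.toEquiv _).symm
  haveI : Etale p' := by
    haveI : Etale (pullback.fst J'.hom t) := MorphismProperty.pullback_fst (P := @Etale) _ _ inferInstance
    haveI : IsIso e'.inv.left := inferInstanceAs (IsIso ((Over.forget _).map e'.inv))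
    exact MorphismProperty.comp_mem _ _ _ (inferInstanceAs (Etale e'.inv.left)) ‹_›
  let La : Jk.left.Modules := (Scheme.Modules.pullback p').obj Θ'
  have hLa : PicF.IsInvertible La := AmpleDevLib.isInvertible_pb p' hΘ'.1
  have hinv : ClSub.IsInverseOf La (ClSub.idealMod (Scheme.IdealSheafData.vanishingIdeal Z'')) := by
    have hI := IntMultLib.isEffCartier_of_isInvertible _ (CohCmpLib.isInvertible_of_inverse' hΘ'.1 hΘ'.2.some)
    have hcomap := AlgSpRegLib.comap_vanishingIdeal_etale p' Z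
    refine CubeConsLib.cl_eq_one_iff.1 ((CubeConsLib.cl_tensor _ _).trans ?_)
    show CubeConsLib.cl La * EllLawLib.idCls (Scheme.IdealSheafData.vanishingIdeal Z'') = 1
    rw [← show _ = Scheme.IdealSheafData.vanishingIdeal Z'' from hcomap,
      ← EllLawLib.pull_idCls p' hI (BlowUpLib.isEffCartier_comap_of_flat p' hI), ← CubeConsLib.pull_cl]
    refine (map_mul (CubeConsLib.pull p') _ _).symm.trans ?_
    exact (congrArg (CubeConsLib.pull p') (((CubeConsLib.cl_tensor _ _).symm).trans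
      (CubeConsLib.cl_eq_iff.2 hΘ'.2))).trans (map_one _)
  obtain ⟨m, hm, em⟩ : ∃ m : CubeConsLib.IsoCls Jk.left, PicCurveLib.InvC m ∧ c =
      CubeConsLib.pull (Y := PicF.XT f' Jk) ((fst (Over.mk f') Jk ≫ j)⁻¹ * snd (Over.mk f') Jk).left
          (CubeConsLib.cl La) *
        PicCurveLib.pc (f := f') (JacAlbLib.base σ hσ Jk) ^ (n + 1) * CubeConsLib.pull (PicF.XTproj f' Jk) m :=
    JacAlbLib.theta_univ hdim' hf' hc hj hgen Z'' hZ'' hLa hinv
  -- the universal family over the cover
  have hid : φB.app Jk ξ₁ trivial hξ.1 ≫ e.hom = 𝟙 Jk :=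
    (hξ.2 Jk ξ₁ trivial hξ.1).unique (cls Jk ξ₁ hξ.1) ((JacAlbLib.lawful_picDeg hdim' hf' _).rId ξ₁)
  have hid' : φB.app Jk ξ₁ trivial hξ.1 = e.inv := by
    have h := congrArg (· ≫ e.inv) hid
    simpa only [Category.assoc, Iso.hom_inv_id, Category.comp_id, Category.id_comp] using h
  obtain ⟨m₁, hm₁, em₁⟩ := hφ Jk ξ₁ hξ.1
  rw [hid, JacAlbLib.XTmap_id] at em₁
  erw [DescAppLib.pull_id] at em₁
  obtain ⟨m₁', hm₁', emm⟩ := hm₁.exists_inv
  let pb₀ := PicCurveLib.pc (JacAlbLib.base σ hσ Jk)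
  have hξ₁ : CubeConsLib.cl ξ₁ = CubeConsLib.pull (Y := PicF.XT f' Jk)
      ((fst (Over.mk f') Jk ≫ j)⁻¹ * snd (Over.mk f') Jk).left (CubeConsLib.cl La) *
        CubeConsLib.pull (PicF.XTproj f' Jk) (m * m₁') := by
    refine ((PicCurveLib.invC_pc hf' (JacAlbLib.base σ hσ Jk)).isUnit.pow (n + 1)).mul_right_cancel ?_
    have h1 : CubeConsLib.pull (PicF.XTproj f' Jk) m₁ * CubeConsLib.pull (PicF.XTproj f' Jk) m₁' = 1 := by
      rw [← map_mul, emm, map_one]
    calc CubeConsLib.cl ξ₁ * pb₀ ^ (n + 1)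
        = CubeConsLib.cl ξ₁ * pb₀ ^ (n + 1) * (CubeConsLib.pull (PicF.XTproj f' Jk) m₁ *
            CubeConsLib.pull (PicF.XTproj f' Jk) m₁') := by rw [h1, _root_.mul_one]
      _ = c * CubeConsLib.pull (PicF.XTproj f' Jk) m₁' := by rw [← _root_.mul_assoc]; exact congrArg (· * _) em₁.symm
      _ = _ := by
        refine (congrArg (· * _) em).trans ?_
        rw [map_mul]
        show _ * pb₀ ^ (n + 1) * _ * _ = _
        ac_rfl
  -- the map fm over the cover
  let P : Over (Spec (CommRingCat.of k')) := Over.mk f' ⊗ Jk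
  let Pt := AVIndexLib.dn t P
  let x : Pt ⟶ Over.mk f := AVIndexLib.toDn (X := Over.mk f) t (fst _ _)
  let y : Pt ⟶ Jg := AVIndexLib.toDn t (snd _ _ ≫ e.inv)
  let ξP := (ModFun.PicDeg f' ((n + 1 : ℕ) : ℤ)).pull (snd (Over.mk f') Jk) ξ₁
  have hξP : (ModFun.PicDeg f' ((n + 1 : ℕ) : ℤ)).ok P ξP := JacAlbLib.ok_pull hf' _ ξ₁ hξ.1
  have hMok := JacAlbLib.ok_bcXTIso hdim hf t _ hξP
  let M := (Scheme.Modules.pullback (θ P).inv).obj ξP
  have hψM : ψg.app Pt M trivial hMok = y := by
    refine (hφB P ξP hξP).symm.trans ?_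
    rw [φB.natural (snd (Over.mk f') Jk) ξ₁ trivial trivial hξ.1 hξP, hid']
  obtain ⟨z, hz, hR⟩ := hfm.1 Pt (ULift.up x) M trivial trivial hMok
  have hψz : ψ'.app Pt z trivial hz = lift x y ≫ fm := by
    refine (hfm.2 Pt (ULift.up x, M) z trivial ⟨trivial, hMok⟩ hz hR).trans (congrArg (· ≫ fm) ?_)
    exact congrArg (lift x) hψM
  obtain ⟨hzi, hzd⟩ := (JacAlbLib.ok_iff hf _ Pt z).1 hz
  let z' := (Scheme.Modules.pullback (θ P).hom).obj z
  have hz' : (ModFun.PicDeg f' (n : ℤ)).ok P z' := (JacAlbLib.ok_iff hf' _ P z').2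
    ⟨AmpleDevLib.isInvertible_pb (θ P).hom hzi,
      fun w => (JacAlbLib.deg_bcXTIso t hf.dim_le P hzi w).trans (hzd w)⟩
  have hφz : AVIndexLib.toDn t (φB'.app P z' trivial hz') = lift x y ≫ fm := by
    refine ((hφB' P z' hz').trans (ψ'.resp _ _ trivial _ hz ((JacAlbLib.r_iff hf _ _ _).2 ⟨1, hone _, ?_⟩))).trans hψz
    rw [map_one, _root_.mul_one]
    exact (hinvθ P z).symm
  have hclz : CubeConsLib.cl z' = CubeConsLib.cl ξP * PicCurveLib.pc (fst (Over.mk f') Jk) := by
    have h : CubeConsLib.cl z = CubeConsLib.cl M *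
        (show CubeConsLib.IsoCls (PicF.XT f Pt) from PicCurveLib.pc (f := f) x) :=
      (CubeConsLib.cl_eq_iff.2 hR).trans (CubeConsLib.cl_tensor _ _)
    show CubeConsLib.cl ((Scheme.Modules.pullback (θ P).hom).obj z) = _
    rw [← CubeConsLib.pull_cl, h, map_mul]
    refine congrArg₂ (· * ·) ?_ (JacAlbLib.pull_hom_pc t hf (fst (Over.mk f') Jk))
    show CubeConsLib.pull _ (CubeConsLib.cl ((Scheme.Modules.pullback (θ P).inv).obj ξP)) = _
    rw [← CubeConsLib.pull_cl, CubeConsLib.pull_comp, Iso.hom_inv_id]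
    exact DescAppLib.pull_id _
  let G : P ⟶ Jk := φB'.app P z' trivial hz' ≫ e'.hom
  have hG : G = (fst (Over.mk f') Jk ≫ j)⁻¹ * snd (Over.mk f') Jk := by
    obtain ⟨a, ha, ea⟩ := hφ' P z' hz'
    obtain ⟨b, hb, eb⟩ : ∃ b : CubeConsLib.IsoCls P.left, PicCurveLib.InvC b ∧
        CubeConsLib.pull (PicF.XTmap f' (fst (Over.mk f') Jk ≫ j)) c * PicCurveLib.pc (f := f') (fst (Over.mk f') Jk) =
          PicCurveLib.pc (f := f') (JacAlbLib.base σ hσ P) * CubeConsLib.pull (PicF.XTproj f' P) b :=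
      hj.rel P (fst (Over.mk f') Jk)
    have emab : CubeConsLib.pull (pullback.snd f' P.hom) (a * b) =
        CubeConsLib.pull (PicF.XTproj f' P) a * CubeConsLib.pull (PicF.XTproj f' P) b := map_mul _ _ _
    have es : CubeConsLib.pull (PicF.XTmap f' (snd (Over.mk f') Jk)) c = CubeConsLib.cl ξP *
        PicCurveLib.pc (JacAlbLib.base σ hσ P) ^ (n + 1) *
          CubeConsLib.pull (PicF.XTproj f' P) (CubeConsLib.pull (snd (Over.mk f') Jk).left m₁) := by
      have h := congrArg (CubeConsLib.pull (PicF.XTmap f' (snd (Over.mk f') Jk))) em₁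
      rw [map_mul, map_mul, map_pow] at h
      refine h.trans (congrArg₂ (· * ·) (congrArg₂ (· * ·) (CubeConsLib.pull_cl _ _) (congrArg (· ^ (n + 1)) ?_)) ?_)
      · exact (PicCurveLib.pull_pc hf' _ _).trans (congrArg PicCurveLib.pc (JacAlbLib.comp_base _))
      · refine (CubeConsLib.pull_comp _ _ _).trans (Eq.trans ?_ (CubeConsLib.pull_comp _ _ _).symm)
        exact congrArg (fun v => CubeConsLib.pull v m₁) (DescAppLib.XTmap_proj f' _)
    have key : G * (fst (Over.mk f') Jk ≫ j) = snd (Over.mk f') Jk := by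
      refine JacAlbLib.hom_ext hf' hc ?_
      have hm2 := hc.mul P G (fst (Over.mk f') Jk ≫ j)
      have hrig : ∀ g : P ⟶ Jk, CubeConsLib.pull (PicF.secT f' σ hσ P)
          (CubeConsLib.pull (PicF.XTmap f' g) c) = 1 := fun g => (PicCurveLib.rigZero_pull hf' σ hσ g hc.rigZero).rig
      obtain ⟨L, hL, eL, -⟩ := (PicCurveLib.rigZero_pull hf' σ hσ (G * (fst (Over.mk f') Jk ≫ j)) hc.rigZero).rep
      refine PicCurveLib.eq_of_rigid (f := f') (σ := σ) (hσ := hσ) (g := P.hom) ⟨L, hL, eL⟩ (hrig _) (hrig _)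
        (n := CubeConsLib.pull (snd (Over.mk f') Jk).left m₁) (n' := a * b) (hm₁.pull _) ?_
      refine (congrArg (· * _) hm2).trans ((congrArg (· * _) (congrArg (· * _) ea)).trans ?_)
      refine Eq.trans ?_ (congrArg (· * _) es).symm
      rw [hclz, emab, pow_succ]
      calc _ = CubeConsLib.cl ξP * (CubeConsLib.pull (PicF.XTmap f' (fst (Over.mk f') Jk ≫ j)) c *
              PicCurveLib.pc (fst (Over.mk f') Jk)) * PicCurveLib.pc (JacAlbLib.base σ hσ P) ^ n *
            CubeConsLib.pull (PicF.XTproj f' P) a *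
              CubeConsLib.pull (PicF.XTproj f' P) (CubeConsLib.pull (snd (Over.mk f') Jk).left m₁) := by ac_rfl
        _ = CubeConsLib.cl ξP * (PicCurveLib.pc (JacAlbLib.base σ hσ P) * CubeConsLib.pull (PicF.XTproj f' P) b) *
            PicCurveLib.pc (JacAlbLib.base σ hσ P) ^ n *
            CubeConsLib.pull (PicF.XTproj f' P) a *
              CubeConsLib.pull (PicF.XTproj f' P) (CubeConsLib.pull (snd (Over.mk f') Jk).left m₁) := by rw [eb]
        _ = _ := by ac_rfl
    exact eq_inv_mul_of_mul_eq ((_root_.mul_comm _ _).trans key)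
  let q : AVIndexLib.dn t Jk ⟶ Jg := AVIndexLib.toDn t e.inv
  let εl : PicF.XT f' Jk ⟶ PicF.XT f Jg := (θ Jk).hom ≫ PicF.XTmap f q
  have hε : εl = (lift x y).left := by
    apply pullback.hom_ext
    · refine (Category.assoc _ _ _).trans ?_
      refine (congrArg ((θ Jk).hom ≫ ·) (DescAppLib.XTmap_fst f q)).trans ?_
      exact (pullbackLeftPullbackSndIso_hom_fst f t Jk.hom).trans (congrArg CommaMorphism.left (lift_fst x y)).symm
    · refine (Category.assoc _ _ _).trans ?_
      refine (congrArg ((θ Jk).hom ≫ ·) (DescAppLib.XTmap_proj f q)).trans ?_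
      refine ((Category.assoc _ _ _).symm.trans (congrArg (· ≫ q.left)
        (pullbackLeftPullbackSndIso_hom_snd f t Jk.hom))).trans ?_
      exact (Category.assoc _ _ _).symm.trans (congrArg CommaMorphism.left (lift_snd x y)).symm
  let ξ : (PicF.XT f Jg).Modules := (Scheme.Modules.pullback (fm.left : PicF.XT f Jg ⟶ J'.left)).obj Θ'
  have hξi : PicF.IsInvertible ξ := AmpleDevLib.isInvertible_pb _ hΘ'.1
  obtain ⟨m', hm', emm'⟩ := (hm.mul hm₁').exists_inv
  have hεξ : CubeConsLib.pull εl (CubeConsLib.cl ξ) =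
      CubeConsLib.cl ξ₁ * CubeConsLib.pull (PicF.XTproj f' Jk) m' := by
    have e1 : εl ≫ fm.left = ((fst (Over.mk f') Jk ≫ j)⁻¹ * snd (Over.mk f') Jk).left ≫ p' := by
      rw [hε]
      refine (congrArg CommaMorphism.left hφz.symm).trans ?_
      rw [← hG]
      have : φB'.app P z' trivial hz' = G ≫ e'.inv := by
        simp only [G, Category.assoc, Iso.hom_inv_id, Category.comp_id]
      rw [this]
      exact Category.assoc _ _ _
    rw [hξ₁, _root_.mul_assoc, ← map_mul, emm', map_one, _root_.mul_one]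
    show CubeConsLib.pull εl (CubeConsLib.cl ((Scheme.Modules.pullback fm.left).obj Θ')) =
      CubeConsLib.pull _ (CubeConsLib.cl ((Scheme.Modules.pullback p').obj Θ'))
    rw [← CubeConsLib.pull_cl, ← CubeConsLib.pull_cl]
    refine (CubeConsLib.pull_comp _ _ _).trans (Eq.trans ?_ (CubeConsLib.pull_comp _ _ _).symm)
    exact congrArg (fun v => CubeConsLib.pull v (CubeConsLib.cl Θ')) e1
  -- the cover of Jg
  haveI : IsIso e.inv.left := inferInstanceAs (IsIso ((Over.forget _).map e.inv))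
  haveI : Flat q.left := inferInstanceAs (Flat (e.inv.left ≫ pullback.fst Jg.hom t))
  haveI : Surjective q.left := inferInstanceAs (Surjective (e.inv.left ≫ pullback.fst Jg.hom t))
  have hξok : (ModFun.PicDeg f ((n + 1 : ℕ) : ℤ)).ok Jg ξ := (JacAlbLib.ok_iff hf _ Jg ξ).2 ⟨hξi, fun w => by
    obtain ⟨v, hv⟩ := q.left.surjective w
    let M₂ := (Scheme.Modules.pullback (PicF.XTmap f q)).obj ξ
    have hM₂ : PicF.IsInvertible M₂ := AmpleDevLib.isInvertible_pb _ hξi
    obtain ⟨D, hD, eD⟩ := hm'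
    have h1 := JacAlbLib.deg_bcXTIso t hf.dim_le Jk hM₂ v
    have h2 := PicCurveLib.deg_map f hf.dim_le q hξi v
    have hM : CubeConsLib.cl ((Scheme.Modules.pullback (θ Jk).hom).obj M₂) =
        CubeConsLib.cl ξ₁ * CubeConsLib.pull (PicF.XTproj f' Jk) (CubeConsLib.cl D) := by
      rw [eD, ← hεξ, ← CubeConsLib.pull_cl, ← CubeConsLib.pull_cl]
      exact CubeConsLib.pull_comp _ _ _
    have h3 := PicCurveLib.deg_twist hf' Jk (L := ξ₁) (L' := (Scheme.Modules.pullback (θ Jk).hom).obj M₂) hD hM v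
    have h4 := ((JacAlbLib.ok_iff hf' _ Jk ξ₁).1 hξ.1).2 v
    calc PicCurveLib.deg f Jg ξ w = PicCurveLib.deg f Jg ξ (q.left v) :=
          (congrArg (PicCurveLib.deg f Jg ξ) hv).symm
      _ = PicCurveLib.deg f (AVIndexLib.dn t Jk) M₂ v := h2.symm
      _ = _ := h1.symm.trans (h3.trans h4)⟩
  have hqξ : ψg.app Jg ξ trivial hξok = 𝟙 Jg := by
    haveI : QuasiCompact q.left := inferInstanceAs (QuasiCompact (e.inv.left ≫ pullback.fst Jg.hom t))
    haveI : Epi q.left := Flat.epi_of_flat_of_surjective _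
    have h : q ≫ ψg.app Jg ξ trivial hξok = q ≫ 𝟙 Jg := by
      rw [Category.comp_id, ← ψg.natural q ξ trivial trivial hξok (JacAlbLib.ok_pull hf q ξ hξok)]
      obtain ⟨m'', hm'', emm''⟩ := hm'.exists_inv
      refine (ψg.resp _ _ trivial _ (JacAlbLib.ok_bcXTIso hdim hf t _ hξ.1) ((JacAlbLib.r_iff hf _ _ _).2
        ⟨m'', hm'', ?_⟩)).trans ((hφB Jk ξ₁ hξ.1).symm.trans (congrArg (AVIndexLib.toDn t) hid'))
      have hv : (θ Jk).inv ≫ εl = PicF.XTmap f q := by simp only [εl, Iso.inv_hom_id_assoc]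
      have h : CubeConsLib.cl ((ModFun.PicDeg f ((n + 1 : ℕ) : ℤ)).pull q ξ) =
          CubeConsLib.cl ((Scheme.Modules.pullback (θ Jk).inv).obj ξ₁) *
            CubeConsLib.pull (PicF.XTproj f (AVIndexLib.dn t Jk)) m' := by
        have h := congrArg (CubeConsLib.pull (θ Jk).inv) hεξ
        rw [map_mul] at h
        refine Eq.trans ?_ (h.trans (congrArg₂ (· * ·) (CubeConsLib.pull_cl _ _)
          ((CubeConsLib.pull_comp _ _ _).trans (congrArg (fun v => CubeConsLib.pull v m') (hθproj Jk)))))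
        refine ((CubeConsLib.pull_comp _ _ _).trans ?_).symm
        rw [hv]
        exact CubeConsLib.pull_cl _ _
      have h' : CubeConsLib.pull (PicF.XTproj f (AVIndexLib.dn t Jk)) m' *
          CubeConsLib.pull (PicF.XTproj f (AVIndexLib.dn t Jk)) m'' = 1 := by rw [← map_mul, emm'', map_one]
      refine Eq.trans ?_ (congrArg (· * _) h.symm)
      erw [_root_.mul_assoc, h', _root_.mul_one]
    exact Over.OverMorphism.ext ((cancel_epi q.left).1 (congrArg CommaMorphism.left h))
  refine ⟨hξok, fun T L _ hL => ?_⟩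
  obtain ⟨hLi, hLd⟩ := (JacAlbLib.ok_iff hf _ T L).1 hL
  let a := ψg.app T L trivial hL
  have hpull : (ModFun.PicDeg f ((n + 1 : ℕ) : ℤ)).r T ((ModFun.PicDeg f ((n + 1 : ℕ) : ℤ)).pull a ξ) L := by
    let T' := Red.bc t T
    let π : AVIndexLib.dn t T' ⟶ T := AVIndexLib.toDn t (𝟙 T')
    have hπ : π.left = pullback.fst T.hom t := Category.id_comp _
    haveI : Flat π.left := hπ ▸ inferInstanceAs (Flat (pullback.fst T.hom t))
    haveI : Surjective π.left := hπ ▸ inferInstanceAs (Surjective (pullback.fst T.hom t))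
    haveI : QuasiCompact π.left := hπ ▸ inferInstanceAs (QuasiCompact (pullback.fst T.hom t))
    let L₁ := (Scheme.Modules.pullback (PicF.XTmap f π)).obj L
    have hL₁ : (ModFun.PicDeg f ((n + 1 : ℕ) : ℤ)).ok _ L₁ := JacAlbLib.ok_pull hf π L hL
    obtain ⟨hL₁i, hL₁d⟩ := (JacAlbLib.ok_iff hf _ _ L₁).1 hL₁
    let L' := (Scheme.Modules.pullback (θ T').hom).obj L₁
    have hL' : (ModFun.PicDeg f' ((n + 1 : ℕ) : ℤ)).ok T' L' := (JacAlbLib.ok_iff hf' _ T' L').2
      ⟨AmpleDevLib.isInvertible_pb (θ T').hom hL₁i,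
        fun w => (JacAlbLib.deg_bcXTIso t hf.dim_le T' hL₁i w).trans (hL₁d w)⟩
    let b := φB.app T' L' trivial hL' ≫ e.hom
    have hbq : π ≫ a = AVIndexLib.dnMap t b ≫ q := by
      rw [← AVIndexLib.toDn_comp, show b ≫ e.inv = φB.app T' L' trivial hL' by
        simp only [b, Category.assoc, Iso.hom_inv_id, Category.comp_id], hφB]
      refine (ψg.natural π L trivial trivial hL hL₁).symm.trans (ψg.resp _ _ trivial _ _
        ((JacAlbLib.r_iff hf _ _ _).2 ⟨1, hone _, ?_⟩))
      rw [map_one, _root_.mul_one]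
      exact hinvθ T' L₁
    obtain ⟨r, hr, er⟩ := (JacAlbLib.r_iff hf' _ _ _).1 (cls T' L' hL')
    let A := (ModFun.PicDeg f ((n + 1 : ℕ) : ℤ)).pull a ξ
    have hAi : PicF.IsInvertible A := AmpleDevLib.isInvertible_pb _ hξi
    obtain ⟨A', hA', eAA'⟩ := (show PicCurveLib.InvC (CubeConsLib.cl A) from ⟨A, hAi, rfl⟩).exists_inv
    have hπA : CubeConsLib.pull (θ T').hom (CubeConsLib.pull (PicF.XTmap f π) (CubeConsLib.cl A)) =
        CubeConsLib.cl ((ModFun.PicDeg f' ((n + 1 : ℕ) : ℤ)).pull b ξ₁) *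
          CubeConsLib.pull (PicF.XTproj f' T') (CubeConsLib.pull b.left m') := by
      calc _ = CubeConsLib.pull (θ T').hom (CubeConsLib.pull (PicF.XTmap f (π ≫ a)) (CubeConsLib.cl ξ)) := by
            refine congrArg (CubeConsLib.pull (θ T').hom) ?_
            rw [← DescAppLib.XTmap_comp, ← CubeConsLib.pull_comp]
            exact congrArg (CubeConsLib.pull _) (CubeConsLib.pull_cl _ _).symm
        _ = CubeConsLib.pull (PicF.XTmap f' b) (CubeConsLib.pull εl (CubeConsLib.cl ξ)) := by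
            rw [hbq, ← DescAppLib.XTmap_comp]
            refine (CubeConsLib.pull_comp _ _ _).trans (Eq.trans ?_ (CubeConsLib.pull_comp _ _ _).symm)
            refine congrArg (fun v => CubeConsLib.pull v (CubeConsLib.cl ξ)) ?_
            exact ((Category.assoc _ _ _).symm.trans (congrArg (· ≫ PicF.XTmap f q)
              (JacAlbLib.hom_bcXTIso_natural t b))).trans (Category.assoc _ _ _)
        _ = _ := by
            rw [hεξ, map_mul]
            refine congrArg₂ (· * ·) (CubeConsLib.pull_cl _ _) ?_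
            refine (CubeConsLib.pull_comp _ _ _).trans (Eq.trans ?_ (CubeConsLib.pull_comp _ _ _).symm)
            exact congrArg (fun v => CubeConsLib.pull v m') (DescAppLib.XTmap_proj f' b)
    obtain ⟨mb, hmb, emb⟩ := (hm'.pull b.left).exists_inv
    have e1 : CubeConsLib.pull (θ T').hom (CubeConsLib.pull (PicF.XTmap f π) (CubeConsLib.cl L * A')) =
        CubeConsLib.pull (PicF.XTproj f' T') (r * mb) := by
      have hu : CubeConsLib.pull (θ T').hom (CubeConsLib.pull (PicF.XTmap f π) (CubeConsLib.cl A)) *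
          CubeConsLib.pull (θ T').hom (CubeConsLib.pull (PicF.XTmap f π) A') = 1 := by
        refine (map_mul _ _ _).symm.trans ((congrArg (CubeConsLib.pull (θ T').hom) ((map_mul _ _ _).symm.trans ?_)).trans
          (map_one _))
        exact (congrArg (CubeConsLib.pull (PicF.XTmap f π)) eAA').trans (map_one _)
      have hl : CubeConsLib.pull (θ T').hom (CubeConsLib.pull (PicF.XTmap f π) (CubeConsLib.cl L)) =
          CubeConsLib.cl ((ModFun.PicDeg f' ((n + 1 : ℕ) : ℤ)).pull b ξ₁) * CubeConsLib.pull (PicF.XTproj f' T') r := by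
        refine Eq.trans ?_ er
        exact (congrArg (CubeConsLib.pull (θ T').hom) (CubeConsLib.pull_cl _ _)).trans (CubeConsLib.pull_cl _ _)
      have hv : CubeConsLib.pull (PicF.XTproj f' T') (CubeConsLib.pull b.left m') *
          CubeConsLib.pull (PicF.XTproj f' T') mb = 1 := by rw [← map_mul, emb, map_one]
      rw [map_mul, map_mul, hl, map_mul]
      rw [hπA] at hu
      calc _ = CubeConsLib.cl ((ModFun.PicDeg f' ((n + 1 : ℕ) : ℤ)).pull b ξ₁) * CubeConsLib.pull (PicF.XTproj f' T') r *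
            CubeConsLib.pull (θ T').hom (CubeConsLib.pull (PicF.XTmap f π) A') *
              (CubeConsLib.pull (PicF.XTproj f' T') (CubeConsLib.pull b.left m') *
                CubeConsLib.pull (PicF.XTproj f' T') mb) := by rw [hv, _root_.mul_one]
        _ = CubeConsLib.cl ((ModFun.PicDeg f' ((n + 1 : ℕ) : ℤ)).pull b ξ₁) *
              CubeConsLib.pull (PicF.XTproj f' T') (CubeConsLib.pull b.left m') *
              CubeConsLib.pull (θ T').hom (CubeConsLib.pull (PicF.XTmap f π) A') *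
              (CubeConsLib.pull (PicF.XTproj f' T') r * CubeConsLib.pull (PicF.XTproj f' T') mb) := by ac_rfl
        _ = _ := by rw [hu, _root_.one_mul]
    have e2 : CubeConsLib.pull (PicF.XTmap f π) (CubeConsLib.cl L * A') =
        CubeConsLib.pull (PicF.XTproj f (AVIndexLib.dn t T')) (r * mb) := by
      have h := congrArg (CubeConsLib.pull (θ T').inv) e1
      rw [CubeConsLib.pull_comp (θ T').inv, Iso.inv_hom_id, DescAppLib.pull_id] at h
      exact h.trans ((CubeConsLib.pull_comp _ _ _).trans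
        (congrArg (fun v => CubeConsLib.pull v (r * mb)) (hθproj T')))
    obtain ⟨d, hd', ed⟩ := JacAlbLib.exists_base_of_cover hdim hf π
      ((show PicCurveLib.InvC (CubeConsLib.cl L) from ⟨L, hLi, rfl⟩).mul hA') (hr.mul hmb) e2
    refine (JacAlbLib.r_iff hf _ _ _).2 ⟨d, hd', ?_⟩
    calc CubeConsLib.cl L = CubeConsLib.cl L * (CubeConsLib.cl A * A') := by rw [eAA', _root_.mul_one]
      _ = CubeConsLib.cl A * (CubeConsLib.cl L * A') := by ac_rfl
      _ = _ := congrArg (CubeConsLib.cl A * ·) ed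
  refine ⟨a, hpull, fun g hgr => ?_⟩
  have hok := JacAlbLib.ok_pull hf g ξ hξok
  show g = ψg.app T L trivial hL
  rw [← ψg.resp _ _ trivial hok hL hgr, ψg.natural g ξ trivial trivial hξok hok, hqξ, Category.comp_id]

end Groth.Agent.S17136
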