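import Groth.Statements.S17137
import Groth.Agent.JacAlbLib.SymImmersion
import Groth.Agent.FibVALib.Geo

set_option autoImplicit false
set_option backward.isDefEq.respectTransparency false
set_option backward.isDefEq.respectTransparency.types false
set_option maxRecDepth 8000
set_option maxHeartbeats 1000000
universe u
open CategoryTheory CategoryTheory.Limits AlgebraicGeometry MonoidalCategory CartesianMonoidalCategory MonObj
open Jac

namespace Groth.Agent.S17137

/-- Let X be a smooth proper geometrically connected curve of genus g ≥ 1 over a field k and n ≥ 1; let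
(Y, q) be the n-th symmetric power C^(n) of X over k (q : X ×_k ⋯ ×_k X → Y a quotient of the n-fold
fibre power by the symmetric group permuting the factors: affine, invariant, identifying sections of
O_Y with invariant sections, with q over k), let (J_n, ψ_n) be a coarse moduli scheme, on all
k-schemes, for line bundles of degree n on X modulo twisting from the base (the degree-n Picard
scheme), and let j_n : Y → J_n be the morphism through which the classifying map of the family O(Γ_1
+ ⋯ + Γ_n) on X × X^n factors (Γ_i the graph of the i-th projection; the family F is pinned by F ⊗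
I_{Γ_1} ⊗ ⋯ ⊗ I_{Γ_n} ≅ O), i.e. q followed by j_n is ψ_n of that family, so that j_n sends an
effective divisor D of degree n to the class of O(D). If n ≤ g, then there is a non-empty open
subscheme U of Y such that the restriction of j_n to U is an immersion: j_n is birational onto its
image W_n ⊂ J_n. (The published statement allows 0 ≤ n ≤ g; this row takes 1 ≤ n ≤ g, the case n = 0
being the one-point scheme Spec k, the zeroth symmetric power, mapping to the class of the trivial
bundle; the printed proof itself treats 1 ≤ n ≤ g.) -/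
theorem result (k : Type u) [Field k]
    (X : Scheme.{u}) [X.Over (Spec (CommRingCat.of k))]
    [IsProper (X ↘ Spec (CommRingCat.of k))] [Smooth (X ↘ Spec (CommRingCat.of k))]
    [GeometricallyConnected (X ↘ Spec (CommRingCat.of k))] (hdim : topologicalKrullDim ↥X = 1)
    (g : ℕ) (hg : Curv2.genus k X = g) (hg1 : 1 ≤ g)
    (n : ℕ) (hn : 1 ≤ n)
    (Y : Scheme.{u}) (q : SymProd.fibPow (X ↘ Spec (CommRingCat.of k)) n ⟶ Y) (gY : Y ⟶ Spec (CommRingCat.of k))
    (hq : SymProd.IsSymProd (X ↘ Spec (CommRingCat.of k)) n q gY)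
    (Jn : Over (Spec (CommRingCat.of k)))
    (ψn : (ModFun.PicDeg (X ↘ Spec (CommRingCat.of k)) (n : ℤ)).Hom ⊤ Jn)
    (hJn : ModFun.IsCoarseModuli ⊤ (ModFun.PicDeg (X ↘ Spec (CommRingCat.of k)) (n : ℤ)) Jn ψn)
    (F : (PicF.XT (X ↘ Spec (CommRingCat.of k)) (Over.mk (WidePullback.base fun (_ : Fin n) => (X ↘ Spec (CommRingCat.of k))))).Modules)
    (hF : Nonempty (CohB1.tensorMod F (FGA.tensorList (List.ofFn fun i : Fin n =>
        ClSub.idealMod (pullback.lift (WidePullback.π (fun (_ : Fin n) => (X ↘ Spec (CommRingCat.of k))) i) (𝟙 (SymProd.fibPow (X ↘ Spec (CommRingCat.of k)) n))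
          ((WidePullback.π_arrow (fun (_ : Fin n) => (X ↘ Spec (CommRingCat.of k))) i).trans (Category.id_comp _).symm) :
            SymProd.fibPow (X ↘ Spec (CommRingCat.of k)) n ⟶ PicF.XT (X ↘ Spec (CommRingCat.of k)) (Over.mk (WidePullback.base fun (_ : Fin n) => (X ↘ Spec (CommRingCat.of k))))).ker)) ≅
      Coh.structureModule _))
    (hT : (⊤ : ObjectProperty (Over (Spec (CommRingCat.of k)))) (Over.mk (WidePullback.base fun (_ : Fin n) => (X ↘ Spec (CommRingCat.of k)))))
    (hFok : (ModFun.PicDeg (X ↘ Spec (CommRingCat.of k)) (n : ℤ)).ok (Over.mk (WidePullback.base fun (_ : Fin n) => (X ↘ Spec (CommRingCat.of k)))) F)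
    (jn : Over.mk gY ⟶ Jn)
    (hjn : Over.homMk q hq.over ≫ jn = ψn.app (Over.mk (WidePullback.base fun (_ : Fin n) => (X ↘ Spec (CommRingCat.of k)))) F hT hFok)
    (hng : n ≤ g) :
    ∃ U : Y.Opens, (U : Set ↥Y).Nonempty ∧ IsImmersion (U.ι ≫ jn.left) := by
  subst hg
  let f := X ↘ Spec (CommRingCat.of k)
  have hf : PicCurveLib.Fam (X ↘ Spec (CommRingCat.of k)) := ⟨inferInstance, inferInstance, inferInstance,
    fun s => (EllLawLib.dim_fiber_spec (X ↘ Spec (CommRingCat.of k)) s).trans hdim⟩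
  haveI := hf.smoothOfRelativeDimension
  obtain ⟨hsm, hgi, hX⟩ := JacAlbLib.hilb_hyps hf
  haveI := hsm; haveI := hgi
  have hrep : ∀ d : ℕ, HilbD.Representable f d := fun d => by
    obtain ⟨H, Z, hZ, -, -⟩ := Groth.Agent.S1170.result k X f hX d
    exact ⟨H, Z, hZ⟩
  obtain ⟨H, Z, hZ⟩ := hrep n
  obtain ⟨φ, hφ, hφi, -, hI⟩ := HilbPts.SC.exists_iso f hrep hq hZ
  haveI := hφi
  obtain ⟨k', _, _, _, _, σ, hσ, J', _, _, _, _, c, hc⟩ := JacAlbLib.exists_cover hdim hf
  let t := Spec.map (CommRingCat.ofHom (algebraMap k k'))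
  let P : Over (Spec (CommRingCat.of k)) := Over.mk (WidePullback.base fun (_ : Fin n) => f)
  let Q : P ⟶ Over.mk gY := Over.homMk q hq.over
  let Φ : Over.mk gY ⟶ H := Over.homMk φ hφ
  -- the family of the universal divisor
  obtain ⟨_, ⟨FZ, hFZ, rfl⟩, eFZ⟩ := (PicCurveLib.invC_idCls
    (PicCurveLib.effCartier_of_finLocFree (f := f) (g := H.hom) Z.2.1)).exists_inv
  have ecomap : ∀ {T : Over (Spec (CommRingCat.of k))} (v : T ⟶ H),
      CubeConsLib.pull (PicF.XTmap f v) (EllLawLib.idCls Z.1) *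
        CubeConsLib.cl ((Scheme.Modules.pullback (PicF.XTmap f v)).obj FZ) = 1 := fun v => by
    rw [← CubeConsLib.pull_cl, ← map_mul, eFZ, map_one]
  have eP : CubeConsLib.pull (PicF.XTmap f (Q ≫ Φ)) (EllLawLib.idCls Z.1) =
      ∏ i : Fin n, PicCurveLib.pc (f := f) (JacAlbLib.xi (C := X) i) := by
    rw [HilbPts.xtMap_eq]
    refine (PicCurveLib.pull_idCls_m (f := f) (g := H.hom) Z.2.1 _ _).trans ?_
    refine (congrArg EllLawLib.idCls hI).trans ?_
    haveI : Nonempty (Fin n) := Fin.pos_iff_nonempty.1 hn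
    exact (JacAlbLib.idCls_prod Finset.univ _
      (fun i => PicCurveLib.effCartier_sec hf (JacAlbLib.xi (C := X) i)) Finset.univ_nonempty).2
  have eF : CubeConsLib.cl F * ∏ i : Fin n,
      PicCurveLib.pc (f := f) (JacAlbLib.xi (C := X) i) = 1 := by
    refine Eq.trans ?_ (CubeConsLib.cl_eq_iff.2 hF)
    refine Eq.trans ?_ (CubeConsLib.cl_tensor _ _).symm
    refine congrArg (CubeConsLib.cl F * ·) (Eq.trans ?_ (JacAlbLib.cl_tensorList_ofFn _).symm)
    rfl
  have eFF : CubeConsLib.cl ((Scheme.Modules.pullback (PicF.XTmap f (Q ≫ Φ))).obj FZ) = CubeConsLib.cl F := by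
    calc _ = CubeConsLib.cl ((Scheme.Modules.pullback (PicF.XTmap f (Q ≫ Φ))).obj FZ) * (CubeConsLib.cl F *
          CubeConsLib.pull (PicF.XTmap f (Q ≫ Φ)) (EllLawLib.idCls Z.1)) := by rw [eP, eF, _root_.mul_one]
      _ = CubeConsLib.cl F * (CubeConsLib.pull (PicF.XTmap f (Q ≫ Φ)) (EllLawLib.idCls Z.1) *
          CubeConsLib.cl ((Scheme.Modules.pullback (PicF.XTmap f (Q ≫ Φ))).obj FZ)) := by ac_rfl
      _ = _ := by rw [ecomap, _root_.mul_one]
  have hsurj : Function.Surjective (q ≫ φ) := by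
    rw [Scheme.Hom.comp_base, TopCat.coe_comp]
    exact (Surjective.surj (f := φ)).comp (QuotLib.surjective hq.isQuot)
  have hFZok : (ModFun.PicDeg f (n : ℤ)).ok H FZ := (JacAlbLib.ok_iff hf _ H FZ).2 ⟨hFZ, fun z => by
    obtain ⟨p, hp⟩ := hsurj z
    have hd := PicCurveLib.deg_map f hf.dim_le (Q ≫ Φ) hFZ p
    rw [PicCurveLib.deg_congr f hf.dim_le P eFF p, ((JacAlbLib.ok_iff hf _ P F).1 hFok).2 p] at hd
    exact (hd.trans (congrArg (PicCurveLib.deg f H FZ) hp)).symm⟩
  have hΦ : Φ ≫ ψn.app H FZ trivial hFZok = jn := by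
    have h : Q ≫ (Φ ≫ ψn.app H FZ trivial hFZok) = Q ≫ jn := by
      refine (Category.assoc _ _ _).symm.trans ?_
      rw [hjn, ← ψn.natural (Q ≫ Φ) FZ trivial trivial hFZok (JacAlbLib.ok_pull hf _ _ hFZok)]
      exact ψn.resp _ _ trivial _ hFok ((JacAlbLib.r_iff hf _ _ _).2 ⟨1, ⟨_, CurvLib.isInvertible_structureModule, rfl⟩,
        by rw [map_one, _root_.mul_one]; exact eFF.symm⟩)
    exact Over.OverMorphism.ext (QuotLib.hom_ext hq.isQuot (congrArg CommaMorphism.left h))
  -- a good divisor over an algebraically closed field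
  let K := AlgebraicClosure k'
  let sK' : Spec (CommRingCat.of K) ⟶ Spec (CommRingCat.of k') := Spec.map (CommRingCat.ofHom (algebraMap k' K))
  let TK : Over (Spec (CommRingCat.of k)) := AVIndexLib.dn t (Over.mk sK')
  let XK := pullback f TK.hom
  letI : XK.Over (Spec (CommRingCat.of K)) := ⟨pullback.snd f TK.hom⟩
  have hK : PicCurveLib.Fam (XK ↘ Spec (CommRingCat.of K)) := PicCurveLib.fam_snd hf TK.hom
  haveI := hK.proper; haveI := hK.smooth; haveI := hK.conn
  have hdimK : topologicalKrullDim ↥XK = 1 := PicCurveLib.dim_total hK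
  obtain ⟨N, x, hx, hN, eN, hgood⟩ := JacAlbLib.exists_good_tuple (k := K) (C := XK) hdimK
  have hgen : Curv2.genus K XK = Curv2.genus k X := by
    have gen : ∀ (t₀ : Spec (CommRingCat.of K) ⟶ Spec (CommRingCat.of k)),
        t₀ = Spec.map (CommRingCat.ofHom (algebraMap k K)) →
        (letI : (pullback f t₀).Over (Spec (CommRingCat.of K)) := ⟨pullback.snd f t₀⟩
         Curv2.genus K (pullback f t₀) = Curv2.genus k X) := by
      intro t₀ h₀
      subst h₀
      exact VeryAmpleLib.genus_bc k X K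
    refine gen TK.hom ?_
    show sK' ≫ t = _
    rw [← Spec.map_comp, ← CommRingCat.ofHom_comp, ← IsScalarTower.algebraMap_eq k k' K]
  obtain ⟨r, hr⟩ := Nat.exists_eq_add_of_le hng
  let ux : Fin (n + r) → (TK ⟶ Over.mk f) := fun i =>
    Over.homMk (x (Fin.cast (hgen.trans hr).symm i) ≫ pullback.fst f TK.hom) (by
      refine (Category.assoc _ _ _).trans ?_
      refine (congrArg (x _ ≫ ·) pullback.condition).trans ?_
      refine ((Category.assoc _ _ _).symm.trans (congrArg (· ≫ TK.hom) (hx _))).trans (Category.id_comp _))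
  have eN' : CubeConsLib.cl N * ((∏ i, PicCurveLib.pc (ux (Fin.castAdd r i))) *
      ∏ i, PicCurveLib.pc (ux (Fin.natAdd n i))) = 1 := by
    rw [← Fin.prod_univ_add (fun i => PicCurveLib.pc (ux i))]
    refine Eq.trans (congrArg (CubeConsLib.cl N * ·) ?_) eN
    rw [← Equiv.prod_comp (finCongr (hgen.trans hr).symm) (fun i => EllLawLib.idCls (x i).ker)]
    refine Finset.prod_congr rfl fun i _ => congrArg (fun s => EllLawLib.idCls (Scheme.Hom.ker s)) ?_
    refine pullback.hom_ext (HilbPts.SC.secF_fst _ _ _) ((HilbPts.SC.secF_snd _ _ _).trans ?_)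
    exact (hx _).symm
  let z : TK ⟶ P := Over.homMk (WidePullback.lift TK.hom (fun i => (ux (Fin.castAdd r i)).left)
    (fun i => Over.w (ux (Fin.castAdd r i)))) (WidePullback.lift_base _ _ _ _)
  let yK : TK ⟶ Over.mk gY := z ≫ Q
  have hz : ∀ i, z ≫ JacAlbLib.xi (C := X) i = ux (Fin.castAdd r i) := fun i =>
    Over.OverMorphism.ext (WidePullback.lift_π _ _ _ _ _)
  -- the only point over the image
  have key : ∀ (T' : Over (Spec (CommRingCat.of k'))) (a : T' ⟶ Over.mk sK') (y : AVIndexLib.dn t T' ⟶ Over.mk gY),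
      y ≫ jn = AVIndexLib.dnMap t a ≫ yK ≫ jn → y = AVIndexLib.dnMap t a ≫ yK := by
    intro T' a y hy
    let T := AVIndexLib.dn t T'
    let A : T ⟶ TK := AVIndexLib.dnMap t a
    let yH : T ⟶ H := y ≫ Φ
    let dH : T ⟶ H := (A ≫ yK) ≫ Φ
    have happ : ∀ v : T ⟶ Over.mk gY, ψn.app T _ trivial (JacAlbLib.ok_pull hf (v ≫ Φ) FZ hFZok) = v ≫ jn :=
      fun v => by rw [ψn.natural (v ≫ Φ) FZ trivial trivial hFZok, Category.assoc, hΦ]
    obtain ⟨b, hb, eb⟩ := JacAlbLib.cls_eq_of_app_eq hdim hf hc n hJn T' (JacAlbLib.ok_pull hf yH FZ hFZok)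
      (JacAlbLib.ok_pull hf dH FZ hFZok) ((happ y).trans (hy.trans ((Category.assoc A yK jn).symm.trans (happ (A ≫ yK)).symm)))
    obtain ⟨b', hb', ebb⟩ := hb.exists_inv
    let Pd := ∏ i, PicCurveLib.pc (A ≫ ux (Fin.castAdd r i))
    let Pe := ∏ i, PicCurveLib.pc (A ≫ ux (Fin.natAdd n i))
    let cN := CubeConsLib.pull (PicF.XTmap f A) (CubeConsLib.cl N)
    have ecN : cN * (Pd * Pe) = 1 := by
      have h := congrArg (CubeConsLib.pull (PicF.XTmap f A)) eN'
      simp only [map_mul, map_prod, map_one] at h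
      refine Eq.trans ?_ h
      exact congrArg (cN * ·) (congrArg₂ (· * ·)
        (Finset.prod_congr rfl fun i _ => (PicCurveLib.pull_pc hf A (ux (Fin.castAdd r i))).symm)
        (Finset.prod_congr rfl fun i _ => (PicCurveLib.pull_pc hf A (ux (Fin.natAdd n i))).symm))
    have eD : CubeConsLib.pull (PicF.XTmap f dH) (EllLawLib.idCls Z.1) = Pd := by
      have h := congrArg (CubeConsLib.pull (PicF.XTmap f (A ≫ z))) eP
      simp only [map_prod] at h
      refine (Eq.trans ?_ h).trans (Finset.prod_congr rfl fun i _ =>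
        (PicCurveLib.pull_pc hf (A ≫ z) (JacAlbLib.xi (C := X) i)).trans
          (congrArg PicCurveLib.pc ((Category.assoc _ _ _).trans (congrArg (A ≫ ·) (hz i)))))
      refine Eq.trans ?_ (CubeConsLib.pull_comp _ _ _).symm
      refine congrArg (fun v => CubeConsLib.pull v (EllLawLib.idCls Z.1)) (Eq.trans ?_ (DescAppLib.XTmap_comp f _ _).symm)
      simp only [dH, yK, Category.assoc]
    have hcomap : ∀ v : T ⟶ H, Mor2.IsFinLocFreeOfDeg n
        ((Z.1.comap (HilbPts.m f v.left (Over.w v))).subschemeι ≫ PicF.XTproj f T) := fun v =>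
      HilbPts.isFinLocFreeOfDeg_of_isPullback (HilbPts.isPullback_comap_m f v.left (Over.w v) Z.1) Z.2
    have hidc : ∀ v : T ⟶ H, EllLawLib.idCls (Z.1.comap (HilbPts.m f v.left (Over.w v))) =
        CubeConsLib.pull (PicF.XTmap f v) (EllLawLib.idCls Z.1) := fun v => by
      rw [HilbPts.xtMap_eq]
      exact (PicCurveLib.pull_idCls_m (f := f) (g := H.hom) Z.2.1 _ _).symm
    have hgood' : PicCurveLib.GoodC f T.hom cN := by
      show PicCurveLib.GoodC f T.hom (CubeConsLib.pull (PicF.XTmap f A) _)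
      rw [HilbPts.xtMap_eq]
      exact PicCurveLib.GoodC.pull_m hf ⟨N, hN, rfl, hgood⟩ _ _
    obtain ⟨hy1, hy2, hy3⟩ := JacAlbLib.mul_points hdim hf Finset.univ (fun i => A ≫ ux (Fin.natAdd n i)) (hcomap yH)
    obtain ⟨hd1, hd2, -⟩ := JacAlbLib.mul_points hdim hf Finset.univ (fun i => A ≫ ux (Fin.natAdd n i)) (hcomap dH)
    have e2 : CubeConsLib.pull (PicF.XTmap f yH) (EllLawLib.idCls Z.1) * Pe * cN =
        CubeConsLib.pull (PicF.XTproj f T) b := by
      have eL' : Pd * CubeConsLib.cl ((Scheme.Modules.pullback (PicF.XTmap f dH)).obj FZ) = 1 := eD ▸ ecomap dH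
      calc _ = CubeConsLib.pull (PicF.XTmap f yH) (EllLawLib.idCls Z.1) * (cN * (Pd * Pe)) *
            CubeConsLib.cl ((Scheme.Modules.pullback (PicF.XTmap f dH)).obj FZ) := by
            rw [← _root_.mul_one (CubeConsLib.pull (PicF.XTmap f yH) (EllLawLib.idCls Z.1) * Pe * cN), ← eL']
            ac_rfl
        _ = CubeConsLib.pull (PicF.XTmap f yH) (EllLawLib.idCls Z.1) *
            CubeConsLib.cl ((Scheme.Modules.pullback (PicF.XTmap f dH)).obj FZ) := by rw [ecN, _root_.mul_one]
        _ = CubeConsLib.pull (PicF.XTmap f yH) (EllLawLib.idCls Z.1) *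
            CubeConsLib.cl ((Scheme.Modules.pullback (PicF.XTmap f yH)).obj FZ) *
              CubeConsLib.pull (PicF.XTproj f T) b := (congrArg _ eb).trans (_root_.mul_assoc _ _ _).symm
        _ = _ := by rw [ecomap, _root_.one_mul]
    have hdy := (PicCurveLib.IsDiv.unique hf hgood' ⟨hy1.1, b, hb, by
        erw [hy2, hidc]; exact e2⟩ ⟨hd1.1, 1, ⟨_, CurvLib.isInvertible_structureModule, rfl⟩, by
        erw [hd2, hidc, eD, map_one]
        exact (by ac_rfl : Pd * Pe * cN = cN * (Pd * Pe)).trans ecN⟩)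
    have hII := hy3 hdy
    have hH : yH.left = dH.left := HilbPts.SC.hom_eq_of_comap_eq f hZ (g := T.hom) _ _ (Over.w yH) (Over.w dH) hII
    refine Over.OverMorphism.ext ?_
    exact (cancel_mono φ).1 hH
  -- the fibre
  let g₀ : Spec (CommRingCat.of K) ⟶ Jn.left := (yK ≫ jn).left
  let W := pullback jn.left g₀
  let w₁ : W ⟶ Y := pullback.fst jn.left g₀
  let w₂ : W ⟶ Spec (CommRingCat.of K) := pullback.snd jn.left g₀
  haveI : IsIso w₂ := by
    let T' : Over (Spec (CommRingCat.of k')) := Over.mk (w₂ ≫ sK')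
    have hw : w₁ ≫ gY = (w₂ ≫ sK') ≫ t := by
      calc w₁ ≫ gY = w₁ ≫ jn.left ≫ Jn.hom := congrArg (w₁ ≫ ·) (Over.w jn).symm
        _ = (w₂ ≫ g₀) ≫ Jn.hom := (Category.assoc _ _ _).symm.trans (congrArg (· ≫ Jn.hom) pullback.condition)
        _ = w₂ ≫ TK.hom := (Category.assoc _ _ _).trans (congrArg (w₂ ≫ ·) (Over.w (yK ≫ jn)))
        _ = _ := (Category.assoc _ _ _).symm
    have h := congrArg CommaMorphism.left (key T' (Over.homMk w₂ rfl) (Over.homMk w₁ hw)
      (Over.OverMorphism.ext pullback.condition))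
    refine ⟨pullback.lift yK.left (𝟙 _) (Category.id_comp _).symm, ?_, pullback.lift_snd _ _ _⟩
    apply pullback.hom_ext
    · rw [Category.assoc, pullback.lift_fst, Category.id_comp]; exact h.symm
    · rw [Category.assoc, pullback.lift_snd, Category.comp_id, Category.id_comp]
  let p : Jn.left := g₀ (IsLocalRing.closedPoint K)
  let ρp : CommRingCat.of (Jn.left.residueField p) ⟶ CommRingCat.of K :=
    Scheme.descResidueField (Scheme.stalkClosedPointTo g₀)
  have hp : Spec.map ρp ≫ Jn.left.fromSpecResidueField p = g₀ :=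
    Scheme.descResidueField_stalkClosedPointTo_fromSpecResidueField K _ g₀
  haveI : Flat (Spec.map ρp) := by
    rw [HasRingHomProperty.Spec_iff (P := @Flat)]
    algebraize [ρp.hom]
    show RingHom.Flat ρp.hom
    exact RingHom.flat_algebraMap_iff.2 (inferInstance : Module.Flat (Jn.left.residueField p) K)
  haveI : Surjective (Spec.map ρp) := ⟨fun x => ⟨IsLocalRing.closedPoint K,
    Subsingleton.elim (α := PrimeSpectrum (Jn.left.residueField p)) _ _⟩⟩
  let l : W ⟶ jn.left.fiber p := pullback.lift w₁ (w₂ ≫ Spec.map ρp)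
    (by rw [Category.assoc, hp]; exact pullback.condition)
  have hl : IsPullback l w₂ (jn.left.fiberToSpecResidueField p) (Spec.map ρp) := by
    refine IsPullback.of_right (h₁₁ := l) (h₁₂ := jn.left.fiberι p) (v₁₃ := jn.left)
      (h₂₂ := Jn.left.fromSpecResidueField p) ?_ (pullback.lift_snd _ _ _) (IsPullback.of_hasPullback _ _)
    rw [show l ≫ jn.left.fiberι p = w₁ from pullback.lift_fst _ _ _, hp]
    exact IsPullback.of_hasPullback _ _
  have hfib : IsIso (jn.left.fiberToSpecResidueField p) :=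
    MorphismProperty.of_isPullback_of_descendsAlong (P := MorphismProperty.isomorphisms Scheme.{u})
      (Q := @Surjective ⊓ @Flat ⊓ @QuasiCompact) hl.flip ⟨⟨‹_›, ‹_›⟩, inferInstance⟩ (‹IsIso w₂› : IsIso w₂)
  haveI : IsProper Jn.hom := (JacAlbLib.exists_model hdim hf t rfl hc n hJn).1
  haveI : IsProper jn.left := by
    haveI : IsProper gY := by
      haveI := HilbPts.SC.isProper_hom f hrep n H Z hZ
      rw [← hφ]; infer_instance
    haveI : IsProper (jn.left ≫ Jn.hom) := by rw [Over.w jn]; exact ‹IsProper gY›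
    exact IsProper.of_comp jn.left Jn.hom
  obtain ⟨V, hpV, hV⟩ := (Groth.Agent.S2803.result jn.left p).2
    ⟨Or.inr hfib, ⊤, trivial, IsZariskiLocalAtTarget.restrict (P := @UniversallyClosed) (f := jn.left) inferInstance _⟩
  refine ⟨jn.left ⁻¹ᵁ V, ⟨yK.left (IsLocalRing.closedPoint K), ?_⟩, ?_⟩
  · exact hpV
  · haveI := hV
    exact FibVALib.isImmersion_comp _ jn.left V (by rw [Scheme.Opens.range_ι])

end Groth.Agent.S17137
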