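import Groth.Statements.S17138
import Groth.Agent.JacAlbLib.Surj

set_option autoImplicit false
set_option backward.isDefEq.respectTransparency false
set_option backward.isDefEq.respectTransparency.types false
set_option maxRecDepth 8000
set_option maxHeartbeats 1000000
universe u
open CategoryTheory CategoryTheory.Limits AlgebraicGeometry MonoidalCategory CartesianMonoidalCategory MonObj
open Jac

namespace Groth.Agent.S17138

/-- Let X be a smooth proper geometrically connected curve of genus g ≥ 1 over a field k and n ≥ 1; let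
(Y, q) be the n-th symmetric power C^(n) of X over k (q : X ×_k ⋯ ×_k X → Y a quotient of the n-fold
fibre power by the symmetric group permuting the factors: affine, invariant, identifying sections of
O_Y with invariant sections, with q over k), let (J_n, ψ_n) be a coarse moduli scheme, on all
k-schemes, for line bundles of degree n on X modulo twisting from the base (the degree-n Picard
scheme), and let j_n : Y → J_n be the morphism through which the classifying map of the family O(Γ_1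
+ ⋯ + Γ_n) on X × X^n factors (Γ_i the graph of the i-th projection; the family F is pinned by F ⊗
I_{Γ_1} ⊗ ⋯ ⊗ I_{Γ_n} ≅ O), i.e. q followed by j_n is ψ_n of that family, so that j_n sends an
effective divisor D of degree n to the class of O(D). If g ≤ n, then j_n is surjective (on the
underlying topological spaces). -/
theorem result (k : Type u) [Field k]
    (X : Scheme.{u}) [X.Over (Spec (CommRingCat.of k))]
    [IsProper (X ↘ Spec (CommRingCat.of k))] [Smooth (X ↘ Spec (CommRingCat.of k))]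
    [GeometricallyConnected (X ↘ Spec (CommRingCat.of k))] (hdim : topologicalKrullDim ↥X = 1)
    (g : ℕ) (hg : Curv2.genus k X = g) (hg1 : 1 ≤ g)
    (n : ℕ) (hn : 1 ≤ n)
    (Y : Scheme.{u}) (q : SymProd.fibPow (X ↘ Spec (CommRingCat.of k)) n ⟶ Y) (gY : Y ⟶ Spec (CommRingCat.of k))
    (hq : SymProd.IsSymProd (X ↘ Spec (CommRingCat.of k)) n q gY)
    (Jn : Over (Spec (CommRingCat.of k)))
    (ψn : (ModFun.PicDeg (X ↘ Spec (CommRingCat.of k)) (n : ℤ)).Hom ⊤ Jn)
    (hJn : ModFun.IsCoarseModuli ⊤ (ModFun.PicDeg (X ↘ Spec (CommRingCat.of k)) (n : ℤ)) Jn ψn)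
    (F : (PicF.XT (X ↘ Spec (CommRingCat.of k)) (Over.mk (WidePullback.base fun (_ : Fin n) => (X ↘ Spec (CommRingCat.of k))))).Modules)
    (hF : Nonempty (CohB1.tensorMod F (FGA.tensorList (List.ofFn fun i : Fin n =>
        ClSub.idealMod (pullback.lift (WidePullback.π (fun (_ : Fin n) => (X ↘ Spec (CommRingCat.of k))) i) (𝟙 (SymProd.fibPow (X ↘ Spec (CommRingCat.of k)) n))
          ((WidePullback.π_arrow (fun (_ : Fin n) => (X ↘ Spec (CommRingCat.of k))) i).trans (Category.id_comp _).symm) :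
            SymProd.fibPow (X ↘ Spec (CommRingCat.of k)) n ⟶ PicF.XT (X ↘ Spec (CommRingCat.of k)) (Over.mk (WidePullback.base fun (_ : Fin n) => (X ↘ Spec (CommRingCat.of k))))).ker)) ≅
      Coh.structureModule _))
    (hT : (⊤ : ObjectProperty (Over (Spec (CommRingCat.of k)))) (Over.mk (WidePullback.base fun (_ : Fin n) => (X ↘ Spec (CommRingCat.of k)))))
    (hFok : (ModFun.PicDeg (X ↘ Spec (CommRingCat.of k)) (n : ℤ)).ok (Over.mk (WidePullback.base fun (_ : Fin n) => (X ↘ Spec (CommRingCat.of k)))) F)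
    (jn : Over.mk gY ⟶ Jn)
    (hjn : Over.homMk q hq.over ≫ jn = ψn.app (Over.mk (WidePullback.base fun (_ : Fin n) => (X ↘ Spec (CommRingCat.of k)))) F hT hFok)
    (hgn : g ≤ n) :
    Function.Surjective jn.left.base := by
  subst hg
  have hf : PicCurveLib.Fam (X ↘ Spec (CommRingCat.of k)) := ⟨inferInstance, inferInstance, inferInstance,
    fun s => (EllLawLib.dim_fiber_spec (X ↘ Spec (CommRingCat.of k)) s).trans hdim⟩
  intro p
  obtain ⟨Ω, _, _, ⟨w⟩⟩ := AlgEquivLib.exists_geom Jn.left p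
  obtain ⟨g₀, hg₀⟩ : ∃ g₀ : Spec (CommRingCat.of Ω) ⟶ Jn.left, g₀ (IsLocalRing.closedPoint Ω) = p :=
    ⟨w ≫ Jn.left.fromSpecResidueField p, Scheme.fromSpecResidueField_apply p _⟩
  let g : Over.mk (g₀ ≫ Jn.hom) ⟶ Jn := Over.homMk g₀ rfl
  obtain ⟨L, hL, eL⟩ := ((hJn.2.2 Ω (g₀ ≫ Jn.hom) trivial).1 g)
  obtain ⟨v, ev⟩ := JacAlbLib.exists_tuple hf hgn (g₀ ≫ Jn.hom) hL
  let P : Over (Spec (CommRingCat.of k)) := Over.mk (WidePullback.base fun (_ : Fin n) => (X ↘ Spec (CommRingCat.of k)))
  have eF : CubeConsLib.cl F * ∏ i : Fin n,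
      PicCurveLib.pc (f := X ↘ Spec (CommRingCat.of k)) (JacAlbLib.xi (C := X) i) = 1 := by
    refine Eq.trans ?_ (CubeConsLib.cl_eq_iff.2 hF)
    refine Eq.trans ?_ (CubeConsLib.cl_tensor _ _).symm
    refine congrArg (CubeConsLib.cl F * ·) (Eq.trans ?_ (JacAlbLib.cl_tensorList_ofFn _).symm)
    rfl
  let Fv := (Scheme.Modules.pullback (PicF.XTmap (X ↘ Spec (CommRingCat.of k)) v)).obj F
  have eFv : CubeConsLib.cl Fv = CubeConsLib.cl L := by
    have h := congrArg (CubeConsLib.pull (PicF.XTmap (X ↘ Spec (CommRingCat.of k)) v)) eF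
    rw [map_mul, map_prod, map_one, CubeConsLib.pull_cl] at h
    calc CubeConsLib.cl Fv = CubeConsLib.cl Fv * (CubeConsLib.cl L * ∏ i,
          CubeConsLib.pull (PicF.XTmap (X ↘ Spec (CommRingCat.of k)) v) (PicCurveLib.pc (JacAlbLib.xi i))) := by
          rw [ev, _root_.mul_one]
      _ = CubeConsLib.cl L := by rw [mul_left_comm, h, _root_.mul_one]
  obtain ⟨hFi, hFd⟩ := (JacAlbLib.ok_iff hf n _ F).1 hFok
  have hFv : (ModFun.PicDeg (X ↘ Spec (CommRingCat.of k)) (n : ℤ)).ok (Over.mk (g₀ ≫ Jn.hom)) Fv :=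
    (JacAlbLib.ok_iff hf n _ Fv).2 ⟨AmpleDevLib.isInvertible_pb _ hFi,
      fun t => (PicCurveLib.deg_map (X ↘ Spec (CommRingCat.of k)) hf.dim_le v hFi t).trans (hFd _)⟩
  have key : g = v ≫ (Over.homMk q hq.over : P ⟶ Over.mk gY) ≫ jn := by
    rw [hjn, ← ψn.natural v F hT trivial hFok hFv]
    refine eL.symm.trans (ψn.resp L Fv trivial hL hFv ?_)
    refine ⟨Coh.structureModule _, CurvLib.isInvertible_structureModule, CubeConsLib.cl_eq_iff.1 ?_⟩
    rw [eFv, CubeConsLib.cl_tensor, ← CubeConsLib.pull_cl]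
    exact (_root_.mul_one _).symm.trans (congrArg (CubeConsLib.cl L * ·) (map_one _).symm)
  refine ⟨q (v.left (IsLocalRing.closedPoint Ω)), ?_⟩
  exact (congrArg (fun z : Over.mk (g₀ ≫ Jn.hom) ⟶ Jn => z.left (IsLocalRing.closedPoint Ω)) key).symm.trans hg₀

end Groth.Agent.S17138
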