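import Groth.Statements.S1714
import Groth.Agent.BootDualLib.Transfer
import Groth.Agent.AdicRingLib.Completion
import Mathlib.RingTheory.Flat.Localization

set_option maxHeartbeats 1000000

set_option autoImplicit false
universe u
open CategoryTheory
attribute [local instance] HasDerivedCategory.standard
open LocCoh

namespace Groth.Agent.S1714

/-- Let A be a Noetherian ring with a dualizing complex, I an ideal, M a finite A-module, A' and M' the
I-adic completions. Let p' ⊆ q' be primes of A' with I A' ⊆ q', lying over the primes p ⊆ q of A.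
Then the depth of M'_{p'} over A'_{p'} is at least the depth of M_p over A_p, and depth(M'_{p'})
plus the dimension of the interval of primes [p', q'] equals depth(M_p) plus the dimension of [p,
q]. -/
theorem result (A : Type u) [CommRing A] [IsNoetherianRing A] (hA : ∃ ω : Dual.D A, Dual.IsDualizing A ω) (I : Ideal A) (M : Type u) [AddCommGroup M] [Module A M] [Module.Finite A M] (p' q' : PrimeSpectrum (AdicCompletion I A)) (hpq : p' ≤ q') (hq : Ideal.map (algebraMap A (AdicCompletion I A)) I ≤ q'.asIdeal) : LocCoh.depth (Localization.AtPrime (p'.asIdeal.comap (algebraMap A (AdicCompletion I A)))) (LocalizedModule (p'.asIdeal.comap (algebraMap A (AdicCompletion I A))).primeCompl M) ≤ LocCoh.depth (Localization.AtPrime p'.asIdeal) (LocalizedModule p'.asIdeal.primeCompl (AdicCompletion I M)) ∧ ((LocCoh.depth (Localization.AtPrime p'.asIdeal) (LocalizedModule p'.asIdeal.primeCompl (AdicCompletion I M)) : ℕ∞) : WithBot ℕ∞) + Order.krullDim (Set.Icc p' q') = ((LocCoh.depth (Localization.AtPrime (p'.asIdeal.comap (algebraMap A (AdicCompletion I A)))) (LocalizedModule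 (p'.asIdeal.comap (algebraMap A (AdicCompletion I A))).primeCompl M) : ℕ∞) : WithBot ℕ∞) + Order.krullDim (Set.Icc ((PrimeSpectrum.comap (algebraMap A (AdicCompletion I A))) p') ((PrimeSpectrum.comap (algebraMap A (AdicCompletion I A))) q')) := by
  obtain ⟨ω, hω⟩ := hA
  let A' := AdicCompletion I A
  haveI : IsNoetherianRing A' := AdicRingLib.isNoetherianRing_adicCompletion I
  let ψ := algebraMap A A'
  let q := PrimeSpectrum.comap ψ q'
  have hIq : I ≤ q.asIdeal := fun a ha => hq (Ideal.mem_map_of_mem _ ha)
  have hq' : q.asIdeal.map ψ = q'.asIdeal := by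
    refine le_antisymm Ideal.map_comap_le fun x hx => ?_
    obtain ⟨c, hc⟩ := AdicRingLib.exists_sub_mem_map_pow (IsNoetherian.noetherian I) 1 x
    rw [pow_one] at hc
    have hcq : c ∈ q.asIdeal := by
      show algebraMap A A' c ∈ q'.asIdeal
      have := sub_mem hx (hq hc)
      rwa [sub_sub_cancel] at this
    rw [show x = (x - algebraMap A A' c) + algebraMap A A' c by ring]
    exact add_mem (Ideal.map_mono hIq hc) (Ideal.mem_map_of_mem _ hcq)
  let B := Localization.AtPrime q.asIdeal
  let S := Localization.AtPrime q'.asIdeal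
  letI : Algebra B S := (Localization.localRingHom q.asIdeal q'.asIdeal ψ rfl).toAlgebra
  haveI : IsScalarTower A B S := IsScalarTower.of_algebraMap_eq fun a => by
    rw [RingHom.algebraMap_toAlgebra, Localization.localRingHom_to_map]
    exact IsScalarTower.algebraMap_apply A A' S a
  haveI : IsNoetherianRing B := IsLocalization.isNoetherianRing q.asIdeal.primeCompl _ inferInstance
  haveI : IsNoetherianRing S := IsLocalization.isNoetherianRing q'.asIdeal.primeCompl _ inferInstance
  haveI : Module.Flat A' S := IsLocalization.flat S q'.asIdeal.primeCompl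
  haveI : Module.Flat A S := Module.Flat.trans A A' S
  haveI : Module.Flat B S :=
    (Module.flat_iff_of_isLocalization B q.asIdeal.primeCompl S).2 inferInstance
  have hm : (IsLocalRing.maximalIdeal B).map (algebraMap B S) = IsLocalRing.maximalIdeal S := by
    rw [← Localization.AtPrime.map_eq_maximalIdeal, ← Localization.AtPrime.map_eq_maximalIdeal,
      Ideal.map_map, ← IsScalarTower.algebraMap_eq, IsScalarTower.algebraMap_eq A A' S, ← Ideal.map_map, hq']
  have hdisj : Disjoint (q'.asIdeal.primeCompl : Set A') (p'.asIdeal : Set A') :=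
    Set.disjoint_left.2 fun x hx hxp => hx (hpq hxp)
  let P : PrimeSpectrum S := ⟨p'.asIdeal.map (algebraMap A' S),
    IsLocalization.isPrime_of_isPrime_disjoint q'.asIdeal.primeCompl S _ p'.isPrime hdisj⟩
  have hPc : P.asIdeal.comap (algebraMap A' S) = p'.asIdeal :=
    IsLocalization.under_map_of_isPrime_disjoint q'.asIdeal.primeCompl S inferInstance hdisj
  have hPA : (P.asIdeal.comap (algebraMap B S)).comap (algebraMap A B) = p'.asIdeal.comap ψ := by
    rw [Ideal.comap_comap, ← IsScalarTower.algebraMap_eq, IsScalarTower.algebraMap_eq A A' S,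
      ← Ideal.comap_comap, hPc]
  obtain ⟨-, htr⟩ := BootDualLib.exists_transfer q hω S hm
  obtain ⟨δ, n, n', h1, h2, h3, h4⟩ := htr P
  haveI : Module.Finite A' (AdicCompletion I M) :=
    Module.Finite.equiv (AdicCompletion.ofTensorProductEquivOfFiniteNoetherian I M)
  let Mq := LocalizedModule q.asIdeal.primeCompl M
  let N := LocalizedModule q'.asIdeal.primeCompl (AdicCompletion I M)
  let f := AdicCompletion.of I M
  let g := LocalizedModule.mkLinearMap q'.asIdeal.primeCompl (AdicCompletion I M)
  have hf : IsBaseChange A' f :=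
    IsBaseChange.of_equiv (AdicCompletion.ofTensorProductEquivOfFiniteNoetherian I M) fun x => by
      rw [AdicCompletion.ofTensorProductEquivOfFiniteNoetherian_apply,
        AdicCompletion.ofTensorProduct_tmul, one_smul]
  have hg : IsBaseChange S g := (isLocalizedModule_iff_isBaseChange q'.asIdeal.primeCompl S g).1 inferInstance
  have hN := hf.comp hg
  have hT := ((isLocalizedModule_iff_isBaseChange q.asIdeal.primeCompl B
    (LocalizedModule.mkLinearMap q.asIdeal.primeCompl M)).1 inferInstance).comp
      (TensorProduct.isBaseChange B Mq S)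
  let e : TensorProduct B S Mq ≃ₗ[S] N := hT.equiv.symm.trans hN.equiv
  have h5 := h4 M N e
  rw [BootDualLib.depth_localized_localized (AdicCompletion I M) q' P] at h5
  have key : LocCoh.depth (Localization.AtPrime p'.asIdeal) (LocalizedModule p'.asIdeal.primeCompl (AdicCompletion I M)) =
      LocCoh.depth (Localization.AtPrime (p'.asIdeal.comap ψ)) (LocalizedModule (p'.asIdeal.comap ψ).primeCompl M) + δ := by
    convert h5 using 7 <;> first | exact hPc.symm | exact hPA.symm
  have icc : ∀ {R : Type u} [CommRing R] (a b : PrimeSpectrum R) (_ : a ≤ b),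
      Order.krullDim (Set.Icc a b) = ringKrullDim (Localization.AtPrime b.asIdeal ⧸
        a.asIdeal.map (algebraMap R (Localization.AtPrime b.asIdeal))) := by
    intro R _ a b _
    let L := Localization.AtPrime b.asIdeal
    let e := IsLocalization.AtPrime.primeSpectrumOrderIso L b.asIdeal
    rw [ringKrullDim_quotient]
    refine (Order.krullDim_eq_of_orderIso ?_).symm
    exact
      { toFun := fun x => ⟨(e x.1).1, fun r hr => x.2 (Ideal.mem_map_of_mem _ hr), (e x.1).2⟩
        invFun := fun y => ⟨e.symm ⟨y.1, y.2.2⟩, by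
          refine Ideal.map_le_iff_le_comap.2 ?_
          have h : (e (e.symm ⟨y.1, y.2.2⟩)).1 = y.1 :=
            congrArg Subtype.val (e.apply_symm_apply ⟨y.1, y.2.2⟩)
          intro r hr
          have hr' : r ∈ (e (e.symm ⟨y.1, y.2.2⟩)).1.asIdeal := by
            rw [h]
            exact y.2.1 hr
          exact hr'⟩
        left_inv := fun x => Subtype.ext (e.symm_apply_apply x.1)
        right_inv := fun y => Subtype.ext (show (e (e.symm ⟨y.1, y.2.2⟩)).1 = y.1 from by rw [e.apply_symm_apply])
        map_rel_iff' := fun {x x'} => e.le_iff_le (x := x.1) (y := x'.1) }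
  refine ⟨key.ge.trans' le_self_add, ?_⟩
  have hd1 : Order.krullDim (Set.Icc p' q') = (n' : WithBot ℕ∞) := (icc p' q' hpq).trans h1
  have hd2 : Order.krullDim (Set.Icc (PrimeSpectrum.comap ψ p') (PrimeSpectrum.comap ψ q')) = (n : WithBot ℕ∞) := by
    rw [icc _ _ (Ideal.comap_mono hpq : PrimeSpectrum.comap ψ p' ≤ PrimeSpectrum.comap ψ q'), ← h3, hPA]
    rfl
  rw [hd1, hd2, key, ← h2]
  push_cast
  ring

end Groth.Agent.S1714
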