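import Groth.Statements.S1715
import Groth.Agent.DualCxLib.DepthApps

set_option autoImplicit false
universe u
open CategoryTheory
attribute [local instance] HasDerivedCategory.standard
open LocCoh

namespace Groth.Agent.S1715

/-- For an affine scheme: let A be a Noetherian ring with a dualizing complex and M a finite A-module
satisfying Serre's condition (S_k). Then there are only finitely many primes p such that M_p has
depth exactly k while its support has dimension greater than k. (The source states this for coherent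
modules on a Noetherian scheme with a dualizing complex.) -/
theorem result (A : Type u) [CommRing A] [IsNoetherianRing A] (hA : ∃ ω : Dual.D A, Dual.IsDualizing A ω) (M : Type u) [AddCommGroup M] [Module A M] [Module.Finite A M] (k : ℕ) (hM : LocCoh.HasSk k A M) : Set.Finite {p : PrimeSpectrum A | LocCoh.depth (Localization.AtPrime p.asIdeal) (LocalizedModule p.asIdeal.primeCompl M) = k ∧ (k : WithBot ℕ∞) < Module.supportDim (Localization.AtPrime p.asIdeal) (LocalizedModule p.asIdeal.primeCompl M)} := by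
  obtain ⟨ω, hω⟩ := hA
  obtain ⟨a, b, hab⟩ := Groth.Agent.DualCxLib.exists_deg_bounds hω
  let E : ℤ → Set (PrimeSpectrum A) := fun i =>
    Module.support A (Groth.Agent.DualCxLib.Ext ω (ModuleCat.of A M) i)
  let G : ℤ → Set (PrimeSpectrum A) := fun i =>
    {q | q.asIdeal ∈ (Module.annihilator A M).minimalPrimes ∧
      Groth.Agent.DualCxLib.deg hω q < i}
  let W : ℤ → Set (PrimeSpectrum A) := fun i =>
    E i ∩ ⋃ g ∈ G i, PrimeSpectrum.zeroLocus (g.asIdeal : Set A)
  have hGfin : ∀ i, (G i).Finite := fun i =>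
    Set.Finite.subset ((Ideal.finite_minimalPrimes_of_isNoetherianRing A
      (Module.annihilator A M)).preimage
        (fun p _ q _ h => PrimeSpectrum.ext h)) fun q hq => hq.1
  have hW : ∀ i, IsClosed (W i) := fun i => by
    haveI := Groth.Agent.DualCxLib.Ext_finite hω M i
    exact Module.isClosed_support.inter
      ((hGfin i).isClosed_biUnion fun g _ => PrimeSpectrum.isClosed_zeroLocus _)
  have hmem : ∀ i q, q ∈ W i → ∃ g : PrimeSpectrum A, g ∈ Module.support A M ∧ g ≤ q ∧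
      Groth.Agent.DualCxLib.deg hω g < i ∧ i ≤ Groth.Agent.DualCxLib.deg hω q ∧
      ¬ Groth.Agent.DualCxLib.Van q.asIdeal
        (Groth.Agent.DualCxLib.Ext ω (ModuleCat.of A M) i) := by
    intro i q hq
    obtain ⟨g, hg, hgq⟩ := Set.mem_iUnion₂.1 hq.2
    have hv := Groth.Agent.DualCxLib.mem_support_iff_not_van.1 hq.1
    refine ⟨g, Module.mem_support_iff_of_finite.2 hg.1.1.2, hgq, hg.2, ?_, hv⟩
    exact not_lt.1 fun h => hv (Groth.Agent.DualCxLib.van_of_gt hω q i h)
  refine Set.Finite.subset ((Set.finite_Icc (a - k) b).biUnion fun i _ =>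
    (Ideal.finite_minimalPrimes_of_isNoetherianRing A (PrimeSpectrum.vanishingIdeal (W i))).preimage
      (f := PrimeSpectrum.asIdeal) fun p _ q _ h => PrimeSpectrum.ext h) ?_
  rintro p ⟨hdepth, hdim⟩
  obtain ⟨-, hvan⟩ := (Groth.Agent.DualCxLib.depth_eq_iff_van hω p k M).1 hdepth
  have hp : p ∈ Module.support A M := by
    by_contra hp
    rw [Groth.Agent.DualCxLib.notMem_support_iff_subsingleton] at hp
    rw [Module.supportDim_eq_bot_iff_subsingleton _ _ |>.2 hp] at hdim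
    exact not_lt_bot hdim
  obtain ⟨q₀, hq₀, hq₀p, hmin, -⟩ := Groth.Agent.DualCxLib.exists_min_deg hω p M hp
  rw [Groth.Agent.DualCxLib.supportDim_localized_eq hω p q₀ M hq₀ hq₀p hmin,
    show ((k : ℕ) : WithBot ℕ∞) = ((k : ℕ∞) : WithBot ℕ∞) from rfl, WithBot.coe_lt_coe,
    Nat.cast_lt] at hdim
  obtain ⟨g, hg, hgq₀, hgmin⟩ := Groth.Agent.DualCxLib.exists_minimal_support M hq₀
  have hgdeg := (Groth.Agent.DualCxLib.deg_strictMono hω).monotone hgq₀
  refine Set.mem_iUnion₂.2 ⟨Groth.Agent.DualCxLib.deg hω p - k,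
    ⟨by have := (hab p).1; omega, by have := (hab p).2; omega⟩, ?_⟩
  set i := Groth.Agent.DualCxLib.deg hω p - (k : ℤ) with hi
  have hgG : g ∈ G i := by
    refine ⟨⟨⟨g.isPrime, Module.mem_support_iff_of_finite.1 hg⟩, fun r hr hrg => ?_⟩, by omega⟩
    haveI := hr.1
    have := hgmin ⟨r, hr.1⟩ (Module.mem_support_iff_of_finite.2 hr.2) hrg
    exact le_of_eq (congrArg PrimeSpectrum.asIdeal this).symm
  have hpW : p ∈ W i := ⟨Groth.Agent.DualCxLib.mem_support_iff_not_van.2 hvan,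
    Set.mem_iUnion₂.2 ⟨g, hgG, show g ≤ p from hgq₀.trans hq₀p⟩⟩
  refine ⟨⟨p.isPrime, fun x hx => ((PrimeSpectrum.mem_vanishingIdeal _ _).1 hx) p hpW⟩, ?_⟩
  rintro r ⟨hr, hWr⟩ hrp
  have hrW : (⟨r, hr⟩ : PrimeSpectrum A) ∈ W i := by
    have : (⟨r, hr⟩ : PrimeSpectrum A) ∈ closure (W i) := by
      rw [← PrimeSpectrum.zeroLocus_vanishingIdeal_eq_closure]
      exact hWr
    rwa [(hW i).closure_eq] at this
  rcases eq_or_lt_of_le (show (⟨r, hr⟩ : PrimeSpectrum A) ≤ p from hrp) with heq | hlt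
  · exact le_of_eq (congrArg PrimeSpectrum.asIdeal heq).symm
  exfalso
  obtain ⟨g', hg', hg'r, hg'i, hir, hrvan⟩ := hmem i _ hrW
  haveI := hr
  have hrsup : (⟨r, hr⟩ : PrimeSpectrum A) ∈ Module.support A M := Module.mem_support_mono hg'r hg'
  obtain ⟨q₁, hq₁, hq₁r, hmin₁, -⟩ := Groth.Agent.DualCxLib.exists_min_deg hω ⟨r, hr⟩ M hrsup
  have hrdeg := Groth.Agent.DualCxLib.deg_strictMono hω hlt
  obtain ⟨δ, hδ⟩ : ∃ δ : ℕ, Groth.Agent.DualCxLib.deg hω ⟨r, hr⟩ - i = δ :=
    ⟨(Groth.Agent.DualCxLib.deg hω ⟨r, hr⟩ - i).toNat, by omega⟩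
  have hnd : ¬ ((δ + 1 : ℕ) : ℕ∞) ≤ LocCoh.depth (Localization.AtPrime r)
      (LocalizedModule r.primeCompl M) := fun h => by
    have h1 := (Groth.Agent.DualCxLib.le_depth_iff_van hω ⟨r, hr⟩ (δ + 1) M).1 h δ (Nat.lt_succ_self δ)
    rw [show Groth.Agent.DualCxLib.deg hω ⟨r, hr⟩ - (δ : ℤ) = i by omega] at h1
    exact hrvan h1
  have hS := hM r
  rw [Groth.Agent.DualCxLib.supportDim_localized_eq hω ⟨r, hr⟩ q₁ M hq₁ hq₁r hmin₁,
    show ((k : ℕ) : WithBot ℕ∞) = ((k : ℕ∞) : WithBot ℕ∞) from rfl, ← WithBot.coe_min,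
    WithBot.coe_le_coe] at hS
  have h3 := hmin₁ g' hg' hg'r
  refine hnd (le_trans ?_ hS)
  exact le_min (Nat.cast_le.2 (by omega)) (Nat.cast_le.2 (by omega))

end Groth.Agent.S1715
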