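import Groth.Statements.S17168
import Groth.Agent.RatCurvExtLib.Family

set_option autoImplicit false
universe u
open CategoryTheory CategoryTheory.Limits AlgebraicGeometry
open MorSch

set_option backward.isDefEq.respectTransparency false
set_option backward.isDefEq.respectTransparency.types false
set_option maxHeartbeats 2000000

namespace Groth.Agent.S17168

/-- A rational curve through a point of an affine open is given by polynomials. -/
theorem exists_polynomials {k : Type u} [Field k] [IsAlgClosed k] {X : Scheme.{u}} (pX : X ⟶ Spec (CommRingCat.of k))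
    [LocallyOfFiniteType pX] {V : X.Opens} (hV : IsAffineOpen V)
    [Algebra k Γ(X, V)] (hVk : hV.fromSpec ≫ pX = Spec.map (CommRingCat.ofHom (algebraMap k Γ(X, V))))
    {n : ℕ} (π : MvPolynomial (Fin n) k →ₐ[k] Γ(X, V)) (hπ : Function.Surjective π)
    (x : X) (hxc : IsClosed ({x} : Set X)) (hxV : x ∈ V) (g : CohB1.ProjSpace 1 k ⟶ X) (hg : g ≫ pX = CohB1.ProjSpace.toSpec 1 k)
    (hnc : ¬ ∃ y : X, Set.range g.base ⊆ {y}) (hx : x ∈ Set.range g.base) :
    ∃ (d : ℕ) (p : Fin (n + 1) → Polynomial k) (a : k)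
      (χ : Γ(X, V) →+* FractionRing (Polynomial k)) (χ₀ : Γ(X, V) →+* k),
      (∀ j, (p j).natDegree ≤ d) ∧ p (Fin.last n) ≠ 0 ∧ (p (Fin.last n)).eval a ≠ 0 ∧
      χ.comp π.toRingHom = MvPolynomial.eval₂Hom (algebraMap k (FractionRing (Polynomial k))) (fun l =>
        algebraMap _ _ (p l.castSucc) / algebraMap _ _ (p (Fin.last n))) ∧
      χ₀.comp π.toRingHom = MvPolynomial.eval₂Hom (RingHom.id k) (fun l =>
        (p l.castSucc).eval a / (p (Fin.last n)).eval a) ∧
      hV.fromSpec ⟨RingHom.ker χ₀, RingHom.ker_isPrime _⟩ = x ∧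
      hV.fromSpec ⟨RingHom.ker χ, RingHom.ker_isPrime _⟩ ≠ x := by
  classical
  haveI : IsIntegral (CohB1.ProjSpace 1 k) := GenusZeroLib.isIntegral_projSpace k 1
  haveI : IsProper (CohB1.ProjSpace.toSpec 1 k) := ProjDegLib.toSpec_isProper k 1
  haveI : JacobsonSpace ↥(CohB1.ProjSpace 1 k) := LocallyOfFiniteType.jacobsonSpace (CohB1.ProjSpace.toSpec 1 k)
  obtain ⟨z₀, hz₀⟩ := hx
  obtain ⟨z, hz, hzc⟩ := nonempty_inter_closedPoints (Z := g.base ⁻¹' {x}) ⟨z₀, hz₀⟩
    (hxc.preimage g.continuous).isLocallyClosed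
  obtain ⟨j, hj, hjs, ⟨w, hw⟩⟩ := RatCurvExt.exists_chart_at z
  haveI := hj
  let sA := Spec.map (CommRingCat.ofHom (algebraMap k (Polynomial k)))
  have hwc : IsClosed ({w} : Set ↥(Spec (CommRingCat.of (Polynomial k)))) := by
    have h1 := (show IsClosed ({j w} : Set ↥(CohB1.ProjSpace 1 k)) from hw.symm ▸ hzc).preimage j.continuous
    rwa [← Set.image_singleton, Set.preimage_image_eq _ j.isOpenEmbedding.injective] at h1
  haveI : LocallyOfFiniteType sA := (HasRingHomProperty.Spec_iff (P := @LocallyOfFiniteType)).2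
    (RingHom.finiteType_algebraMap.2 inferInstance)
  let Pw := pointOfClosedPoint sA w hwc
  let ev : CommRingCat.of (Polynomial k) ⟶ CommRingCat.of k := Spec.preimage Pw
  have hev : Spec.map ev = Pw := Spec.map_preimage _
  have hevC : ∀ c : k, ev.hom (algebraMap k (Polynomial k) c) = c := fun c => by
    have h1 : Spec.map ev ≫ sA = 𝟙 _ := by rw [hev]; exact pointOfClosedPoint_comp sA w hwc
    rw [← Spec.map_comp, ← Spec.map_id] at h1
    exact congr($(Spec.map_injective h1).hom c)
  let a : k := ev.hom Polynomial.X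
  have heva : ev.hom = Polynomial.evalRingHom a := Polynomial.ringHom_ext (fun c => by
    rw [Polynomial.coe_evalRingHom, Polynomial.eval_C]; exact hevC c) (by simp [a])
  let O : (Spec (CommRingCat.of (Polynomial k))).Opens := (j ≫ g) ⁻¹ᵁ V
  have hwO : w ∈ O := by
    show g (j w) ∈ V
    rw [hw, show g z = x from hz]; exact hxV
  obtain ⟨_, ⟨h, rfl⟩, hwh, hhO⟩ := PrimeSpectrum.isTopologicalBasis_basic_opens.exists_subset_of_mem_open
    (show w ∈ (O : Set ↥(Spec (CommRingCat.of (Polynomial k)))) from hwO) O.2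
  have hcpw : Spec.map ev (IsLocalRing.closedPoint k) = w := by rw [hev]; exact pointOfClosedPoint_apply sA w hwc _
  have hha : h.eval a ≠ 0 := by
    intro h0
    refine hwh ?_
    rw [← hcpw]
    show ev.hom h ∈ IsLocalRing.maximalIdeal k
    rw [heva, Polynomial.coe_evalRingHom, h0]
    exact zero_mem _
  have hh0 : h ≠ 0 := fun h0 => hha (by rw [h0, Polynomial.eval_zero])
  let A₁ := Localization.Away h
  let l₁ : CommRingCat.of (Polynomial k) ⟶ CommRingCat.of A₁ := CommRingCat.ofHom (algebraMap (Polynomial k) A₁)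
  haveI : IsOpenImmersion (Spec.map l₁) := IsOpenImmersion.of_isLocalization h
  have hrange : Set.range (Spec.map l₁ ≫ j ≫ g) ⊆ Set.range hV.fromSpec := by
    rw [hV.range_fromSpec]
    rintro _ ⟨v, rfl⟩
    refine hhO ?_
    exact (PrimeSpectrum.localization_away_comap_range A₁ h).le ⟨v, rfl⟩
  let β : Γ(X, V) ⟶ CommRingCat.of A₁ := Spec.preimage (IsOpenImmersion.lift hV.fromSpec _ hrange)
  have hβ : Spec.map β ≫ hV.fromSpec = Spec.map l₁ ≫ j ≫ g := by
    rw [Spec.map_preimage, IsOpenImmersion.lift_fac]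
  have hβk : β.hom.comp (algebraMap k Γ(X, V)) = algebraMap k A₁ := by
    have h1 : Spec.map β ≫ hV.fromSpec ≫ pX = Spec.map l₁ ≫ sA := by
      rw [← Category.assoc, hβ, Category.assoc, Category.assoc, hg, hjs]
    rw [hVk, ← Spec.map_comp, ← Spec.map_comp] at h1
    exact (congrArg CommRingCat.Hom.hom (Spec.map_injective h1)).trans
      (IsScalarTower.algebraMap_eq k (Polynomial k) A₁).symm
  obtain ⟨⟨b, N, rfl⟩, hb⟩ := IsLocalization.exist_integer_multiples_of_finite (Submonoid.powers h)
    (fun l : Fin n => β.hom (π (MvPolynomial.X l)))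
  choose p' hp' using hb
  replace hp' : ∀ l, algebraMap _ A₁ (p' l) = algebraMap _ A₁ (h ^ N) * β.hom (π (MvPolynomial.X l)) := fun l => by
    rw [hp' l, Algebra.smul_def]
  let p : Fin (n + 1) → Polynomial k := Fin.snoc p' (h ^ N)
  have hpl : ∀ l : Fin n, p l.castSucc = p' l := fun l => Fin.snoc_castSucc ..
  have hplast : p (Fin.last n) = h ^ N := Fin.snoc_last ..
  let K := FractionRing (Polynomial k)
  have hunitK : IsUnit (algebraMap (Polynomial k) K h) :=
    isUnit_iff_ne_zero.2 ((map_ne_zero_iff _ (IsFractionRing.injective (Polynomial k) K)).2 hh0)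
  let toK : A₁ →+* K := IsLocalization.Away.lift h hunitK
  have hunita : IsUnit (Polynomial.evalRingHom a h) := isUnit_iff_ne_zero.2 hha
  let toa : A₁ →+* k := IsLocalization.Away.lift h hunita
  have htoK : ∀ q : Polynomial k, toK (algebraMap _ A₁ q) = algebraMap _ K q := IsLocalization.Away.lift_eq h hunitK
  have htoa : ∀ q : Polynomial k, toa (algebraMap _ A₁ q) = q.eval a := IsLocalization.Away.lift_eq h hunita
  have htoac : toa.comp (algebraMap (Polynomial k) A₁) = Polynomial.evalRingHom a :=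
    IsLocalization.Away.lift_comp h hunita
  refine ⟨Finset.univ.sup fun j => (p j).natDegree, p, a, toK.comp β.hom, toa.comp β.hom,
    fun j => Finset.le_sup (f := fun j => (p j).natDegree) (Finset.mem_univ j), ?_, ?_, ?_, ?_, ?_, ?_⟩
  · rw [hplast]; exact pow_ne_zero _ hh0
  · rw [hplast, Polynomial.eval_pow]; exact pow_ne_zero _ hha
  · refine MvPolynomial.ringHom_ext (fun c => ?_) fun l => ?_
    · simp only [RingHom.comp_apply, MvPolynomial.eval₂Hom_C, AlgHom.toRingHom_eq_coe, RingHom.coe_coe]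
      rw [← MvPolynomial.algebraMap_eq, π.commutes, RingHom.comp_apply,
        show β.hom (algebraMap k Γ(X, V) c) = algebraMap k A₁ c from RingHom.congr_fun hβk c,
        IsScalarTower.algebraMap_apply k (Polynomial k) A₁, htoK, ← IsScalarTower.algebraMap_apply]
    · simp only [RingHom.comp_apply, MvPolynomial.eval₂Hom_X', AlgHom.toRingHom_eq_coe, RingHom.coe_coe, hpl, hplast]
      rw [eq_div_iff, ← htoK (h ^ N), RingHom.comp_apply, ← map_mul, mul_comm, ← hp', htoK]
      exact (map_ne_zero_iff _ (IsFractionRing.injective (Polynomial k) K)).2 (pow_ne_zero _ hh0)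
  · refine MvPolynomial.ringHom_ext (fun c => ?_) fun l => ?_
    · simp only [RingHom.comp_apply, MvPolynomial.eval₂Hom_C, AlgHom.toRingHom_eq_coe, RingHom.coe_coe]
      rw [← MvPolynomial.algebraMap_eq, π.commutes,
        show β.hom (algebraMap k Γ(X, V) c) = algebraMap k A₁ c from RingHom.congr_fun hβk c,
        IsScalarTower.algebraMap_apply k (Polynomial k) A₁, htoa, Polynomial.algebraMap_eq, Polynomial.eval_C]
      rfl
    · simp only [RingHom.comp_apply, MvPolynomial.eval₂Hom_X', AlgHom.toRingHom_eq_coe, RingHom.coe_coe, hpl, hplast]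
      rw [eq_div_iff, ← htoa (h ^ N), ← map_mul, mul_comm, ← hp', htoa]
      rw [Polynomial.eval_pow]
      exact pow_ne_zero _ hha
  · have e1 : Spec.map (CommRingCat.ofHom (toa.comp β.hom)) ≫ hV.fromSpec = Pw ≫ j ≫ g := by
      rw [CommRingCat.ofHom_comp, Spec.map_comp, Category.assoc, show CommRingCat.ofHom β.hom = β from rfl, hβ, ← hev,
        ← Category.assoc, ← Spec.map_comp]
      congr 1
      exact congrArg Spec.map (CommRingCat.hom_ext (htoac.trans heva.symm))
    have e2 := congr($(e1).base (IsLocalRing.closedPoint k))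
    have e3 : (Spec.map (CommRingCat.ofHom (toa.comp β.hom))) (IsLocalRing.closedPoint k) =
        ⟨RingHom.ker (toa.comp β.hom), RingHom.ker_isPrime _⟩ := by
      refine PrimeSpectrum.ext (Ideal.ext fun q => ?_)
      exact IsLocalRing.mem_maximalIdeal _ |>.trans (by simp [RingHom.mem_ker])
    rw [← e3]
    refine e2.trans ?_
    show g (j (Pw _)) = x
    rw [pointOfClosedPoint_apply, hw]
    exact hz
  · intro heq
    let η : ↥(Spec (CommRingCat.of A₁)) := ⟨RingHom.ker toK, RingHom.ker_isPrime _⟩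
    have e2 := congr($(hβ).base η)
    have e3 : (Spec.map β) η = ⟨RingHom.ker (toK.comp β.hom), RingHom.ker_isPrime _⟩ :=
      PrimeSpectrum.ext (RingHom.comap_ker toK β.hom)
    have e4 : hV.fromSpec ((Spec.map β) η) = x := by rw [e3]; exact heq
    have e5 : Spec.map l₁ η = genericPoint ↥(Spec (CommRingCat.of (Polynomial k))) := by
      rw [genericPoint_eq_bot_of_affine]
      refine PrimeSpectrum.ext ?_
      show (RingHom.ker toK).comap (algebraMap (Polynomial k) A₁) = ⊥
      rw [RingHom.comap_ker, show toK.comp (algebraMap _ _) = algebraMap (Polynomial k) K from RingHom.ext htoK]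
      exact (RingHom.injective_iff_ker_eq_bot _).1 (IsFractionRing.injective (Polynomial k) K)
    refine hnc ⟨x, ?_⟩
    rintro _ ⟨v, rfl⟩
    refine ((genericPoint_specializes v).map g.continuous).mem_closed hxc ?_
    have e6 : g (j (Spec.map l₁ η)) = x := e2.symm.trans e4
    rw [e5, genericPoint_eq_of_isOpenImmersion j] at e6
    exact e6

/-- The points swept out by one polynomial family of curves in a chart. -/
theorem exists_closeds_of_family {k : Type u} [Field k] [IsAlgClosed k] {X : Scheme.{u}} (pX : X ⟶ Spec (CommRingCat.of k))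
    {V : X.Opens} (hV : IsAffineOpen V) [Algebra k Γ(X, V)]
    (hVk : hV.fromSpec ≫ pX = Spec.map (CommRingCat.ofHom (algebraMap k Γ(X, V)))) (hnot : ¬ MorSch.IsUniruled k pX)
    (hbot : ((⊥ : TopologicalSpace.Closeds X) : Set X) ≠ Set.univ)
    {n : ℕ} (π : MvPolynomial (Fin n) k →ₐ[k] Γ(X, V)) (hπ : Function.Surjective π) (d : ℕ)
    (R : Type u) [CommRing R] [IsDomain R] [Algebra k R] [Algebra.FiniteType k R]
    (mk : MvPolynomial (Fin (n + 1) × Fin (d + 1)) k →+* R) (hmk : ∀ c : k, mk (algebraMap k _ c) = algebraMap k R c)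
    (hvan : ∀ r, (∀ c : Fin (n + 1) × Fin (d + 1) → k, (∃ p : Fin (n + 1) → Polynomial k, (∀ j, (p j).natDegree ≤ d) ∧
      p (Fin.last n) ≠ 0 ∧ (fun je => (p je.1).coeff (je.2 : ℕ)) = c ∧
      ∀ q : MvPolynomial (Fin n) k, π q = 0 → MvPolynomial.eval₂Hom (algebraMap k (FractionRing (Polynomial k))) (fun l =>
        algebraMap _ _ (p l.castSucc) / algebraMap _ _ (p (Fin.last n))) q = 0) → MvPolynomial.eval c r = 0) → mk r = 0)
    (hH : (RatCurvExt.univPoly k n d (Fin.last n)).map mk ≠ 0) :
    ∃ Z : TopologicalSpace.Closeds X, (Z : Set X) ≠ Set.univ ∧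
      ∀ (p : Fin (n + 1) → Polynomial k) (a : k) (χ : Γ(X, V) →+* FractionRing (Polynomial k)) (χ₀ : Γ(X, V) →+* k),
        (∀ j, (p j).natDegree ≤ d) → p (Fin.last n) ≠ 0 → (p (Fin.last n)).eval a ≠ 0 →
        ∀ ε : R →+* k, ε.comp mk = MvPolynomial.eval (fun je : Fin (n + 1) × Fin (d + 1) => (p je.1).coeff (je.2 : ℕ)) →
        χ.comp π.toRingHom = MvPolynomial.eval₂Hom (algebraMap k (FractionRing (Polynomial k))) (fun l =>
          algebraMap _ _ (p l.castSucc) / algebraMap _ _ (p (Fin.last n))) →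
        χ₀.comp π.toRingHom = MvPolynomial.eval₂Hom (RingHom.id k) (fun l =>
          (p l.castSucc).eval a / (p (Fin.last n)).eval a) →
        hV.fromSpec ⟨RingHom.ker χ, RingHom.ker_isPrime _⟩ ≠ hV.fromSpec ⟨RingHom.ker χ₀, RingHom.ker_isPrime _⟩ →
        hV.fromSpec ⟨RingHom.ker χ₀, RingHom.ker_isPrime _⟩ ∈ Z := by
  classical
  let K := FractionRing (Polynomial k)
  let Pb : Fin (n + 1) → Polynomial R := fun j => (RatCurvExt.univPoly k n d j).map mk
  let L := Localization.Away (Pb (Fin.last n))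
  let al : Polynomial R →+* L := algebraMap (Polynomial R) L
  let gl : Fin n → L := fun l => al (Pb l.castSucc) * IsLocalization.Away.invSelf (Pb (Fin.last n))
  let Φ : MvPolynomial (Fin n) k →+* L := MvPolynomial.eval₂Hom (algebraMap k L) gl
  have hΦ : ∀ q, π q = 0 → Φ q = 0 := by
    intro q hq
    let H₀ := RatCurvExt.univPoly k n d (Fin.last n)
    let L₀ := Localization.Away H₀
    let Φ₀ : MvPolynomial (Fin n) k →+* L₀ := MvPolynomial.eval₂Hom (algebraMap k L₀)
      (fun l => algebraMap _ L₀ (RatCurvExt.univPoly k n d l.castSucc) * IsLocalization.Away.invSelf H₀)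
    obtain ⟨N, F, hF⟩ := IsLocalization.Away.surj H₀ (Φ₀ q)
    have hμu : IsUnit (((algebraMap (Polynomial R) L).comp (Polynomial.mapRingHom mk)) H₀) :=
      IsLocalization.Away.algebraMap_isUnit (Pb (Fin.last n))
    let μ : L₀ →+* L := IsLocalization.Away.lift H₀ hμu
    have hμalg : ∀ r : Polynomial (MvPolynomial (Fin (n + 1) × Fin (d + 1)) k), μ (algebraMap _ L₀ r) = algebraMap (Polynomial R) L (r.map mk) :=
      IsLocalization.Away.lift_eq H₀ hμu
    have hμinv : μ (IsLocalization.Away.invSelf H₀) = IsLocalization.Away.invSelf (Pb (Fin.last n)) := by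
      refine (IsLocalization.Away.algebraMap_isUnit (Pb (Fin.last n))).mul_left_cancel ?_
      rw [IsLocalization.Away.mul_invSelf, ← hμalg H₀, ← map_mul, IsLocalization.Away.mul_invSelf, map_one]
    have hμΦ : μ.comp Φ₀ = Φ := MvPolynomial.ringHom_ext (fun c => by
        simp only [Φ, gl, al, Φ₀, RingHom.comp_apply, MvPolynomial.eval₂Hom_C]
        rw [IsScalarTower.algebraMap_apply k (Polynomial (MvPolynomial (Fin (n + 1) × Fin (d + 1)) k)) L₀, hμalg,
          IsScalarTower.algebraMap_apply k (Polynomial R) L, Polynomial.algebraMap_apply, Polynomial.algebraMap_apply, Polynomial.map_C, hmk]) (fun l => by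
        simp only [Φ, gl, al, Φ₀, RingHom.comp_apply, MvPolynomial.eval₂Hom_X', map_mul, hμalg, hμinv, Pb])
    have hF0 : F.map mk = 0 := by
      refine Polynomial.ext fun e => ?_
      rw [Polynomial.coeff_map, Polynomial.coeff_zero]
      refine hvan _ fun c hc => ?_
      obtain ⟨p, hdeg, hp0, rfl, hrel⟩ := hc
      let σ := MvPolynomial.eval fun je : Fin (n + 1) × Fin (d + 1) => (p je.1).coeff (je.2 : ℕ)
      have hθu : IsUnit (((algebraMap (Polynomial k) K).comp (Polynomial.mapRingHom σ)) H₀) := by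
        refine isUnit_iff_ne_zero.2 ?_
        simp only [RingHom.comp_apply, Polynomial.coe_mapRingHom, H₀, σ, RatCurvExt.map_univPoly _ p (hdeg _)]
        exact (map_ne_zero_iff _ (IsFractionRing.injective (Polynomial k) K)).2 hp0
      let θ : L₀ →+* K := IsLocalization.Away.lift H₀ hθu
      have hθalg : ∀ r : Polynomial (MvPolynomial (Fin (n + 1) × Fin (d + 1)) k), θ (algebraMap _ L₀ r) = algebraMap (Polynomial k) K (r.map σ) :=
        IsLocalization.Away.lift_eq H₀ hθu
      have hθΦ : θ.comp Φ₀ = MvPolynomial.eval₂Hom (algebraMap k K) (fun l =>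
          algebraMap _ _ (p l.castSucc) / algebraMap _ _ (p (Fin.last n))) :=
        MvPolynomial.ringHom_ext (fun c => by
          simp only [Φ₀, RingHom.comp_apply, MvPolynomial.eval₂Hom_C]
          rw [IsScalarTower.algebraMap_apply k (Polynomial (MvPolynomial (Fin (n + 1) × Fin (d + 1)) k)) L₀, hθalg,
            IsScalarTower.algebraMap_apply k (Polynomial k) K, Polynomial.algebraMap_apply, Polynomial.map_C]
          simp [σ]) (fun l => by
          simp only [Φ₀, RingHom.comp_apply, MvPolynomial.eval₂Hom_X', map_mul, hθalg]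
          rw [eq_div_iff ((map_ne_zero_iff _ (IsFractionRing.injective (Polynomial k) K)).2 hp0)]
          rw [mul_assoc, RatCurvExt.map_univPoly _ p (hdeg _)]
          conv_lhs => enter [2, 2]; rw [← RatCurvExt.map_univPoly _ p (hdeg (Fin.last n)), ← hθalg]
          rw [← map_mul, mul_comm (IsLocalization.Away.invSelf _), IsLocalization.Away.mul_invSelf, map_one, mul_one])
      have h1 : θ (Φ₀ q) = 0 := by rw [← RingHom.comp_apply, hθΦ]; exact hrel q hq
      have h2 := congrArg θ hF
      rw [map_mul, h1, zero_mul, hθalg] at h2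
      have h3 : F.map σ = 0 := IsFractionRing.injective (Polynomial k) K (h2.symm.trans (map_zero _).symm)
      show σ (F.coeff e) = 0
      rw [← Polynomial.coeff_map, h3, Polynomial.coeff_zero]
    have h4 := congrArg μ hF
    rw [map_mul, hμalg, hF0, map_zero] at h4
    rw [← hμΦ, RingHom.comp_apply]
    exact (IsUnit.mul_left_eq_zero (((IsLocalization.Away.algebraMap_isUnit H₀).pow N).map μ)).1 (by simpa using h4)
  let ψ : Γ(X, V) →+* L := RingHom.liftOfSurjective π.toRingHom hπ ⟨Φ, fun q hq => hΦ q hq⟩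
  have hψ : ψ.comp π.toRingHom = Φ := RingHom.liftOfRightInverse_comp _ _ _ ⟨Φ, fun q hq => hΦ q hq⟩
  have hψk : ψ.comp (algebraMap k Γ(X, V)) = algebraMap k L := RingHom.ext fun c => by
    have h1 := RingHom.congr_fun hψ (MvPolynomial.C c)
    simpa [Φ, gl, al, ← MvPolynomial.algebraMap_eq] using h1
  let u : Spec (CommRingCat.of L) ⟶ X := Spec.map (CommRingCat.ofHom ψ) ≫ hV.fromSpec
  have hu : u ≫ pX = Spec.map (CommRingCat.ofHom (algebraMap k L)) := by
    rw [Category.assoc, hVk, ← Spec.map_comp]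
    exact congrArg Spec.map (CommRingCat.hom_ext hψk)
  let Cond : Prop := ∃ t t' : ↥(Spec (CommRingCat.of L)),
    Spec.map (CommRingCat.ofHom (algebraMap R L)) t = Spec.map (CommRingCat.ofHom (algebraMap R L)) t' ∧ u t ≠ u t'
  by_cases hpair : Cond
  · refine ⟨⟨closure (Set.range u), isClosed_closure⟩, fun hall => hnot ?_, ?_⟩
    · obtain ⟨t, t', htt, hne⟩ := hpair
      exact RatCurvExt.isUniruled_of_family pX R (Pb (Fin.last n)) hH u hu
        (dense_iff_closure_eq.2 hall) t t' htt hne
    · intro p a χ χ₀ hdeg hp0 hpa ε hεmk hχ hχ₀ _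
      have hεc : ∀ c, ε (algebraMap k R c) = c := fun c => by
        rw [← hmk c, ← RingHom.comp_apply, hεmk]
        simp
      have hεP : ∀ j, (Pb j).map ε = p j := fun j => by
        show ((RatCurvExt.univPoly k n d j).map mk).map ε = p j
        rw [Polynomial.map_map, hεmk, RatCurvExt.map_univPoly _ p (hdeg j)]
      have hu₀ : IsUnit ((Polynomial.evalRingHom a).comp (Polynomial.mapRingHom ε) (Pb (Fin.last n))) := by
        refine isUnit_iff_ne_zero.2 ?_
        simp only [RingHom.comp_apply, Polynomial.coe_mapRingHom, hεP, Polynomial.coe_evalRingHom]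
        exact hpa
      let τ : L →+* k := IsLocalization.Away.lift (Pb (Fin.last n)) hu₀
      have hτalg : ∀ r : Polynomial R, τ (algebraMap _ L r) = (r.map ε).eval a := IsLocalization.Away.lift_eq _ hu₀
      have hτ : τ.comp ψ = χ₀ := by
        refine RingHom.ext fun b => ?_
        obtain ⟨q, rfl⟩ := hπ b
        have e : (τ.comp ψ).comp π.toRingHom = χ₀.comp π.toRingHom := by
          rw [RingHom.comp_assoc, hψ, hχ₀]
          refine MvPolynomial.ringHom_ext (fun c => ?_) fun l => ?_
          · simp only [Φ, gl, al, RingHom.comp_apply, MvPolynomial.eval₂Hom_C, RingHom.id_apply]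
            rw [IsScalarTower.algebraMap_apply k (Polynomial R) L, hτalg, Polynomial.algebraMap_apply, Polynomial.map_C,
              Polynomial.eval_C]
            exact hεc c
          · simp only [Φ, gl, al, RingHom.comp_apply, MvPolynomial.eval₂Hom_X', map_mul, hτalg, hεP]
            rw [eq_div_iff hpa, mul_assoc]
            conv_lhs => enter [2, 2]; rw [← hεP (Fin.last n), ← hτalg]
            rw [← map_mul, mul_comm (IsLocalization.Away.invSelf _), IsLocalization.Away.mul_invSelf, map_one, mul_one]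
        exact RingHom.congr_fun e q
      refine subset_closure ⟨⟨RingHom.ker τ, RingHom.ker_isPrime _⟩, ?_⟩
      show hV.fromSpec _ = _
      refine congrArg hV.fromSpec (PrimeSpectrum.ext ?_)
      show (RingHom.ker τ).comap ψ = RingHom.ker χ₀
      rw [RingHom.comap_ker, hτ]
  · refine ⟨⊥, hbot, ?_⟩
    intro p a χ χ₀ hdeg hp0 hpa ε hεmk hχ hχ₀ hne
    refine absurd ?_ hpair
    have hεP : ∀ j, (Pb j).map ε = p j := fun j => by
      show ((RatCurvExt.univPoly k n d j).map mk).map ε = p j
      rw [Polynomial.map_map, hεmk, RatCurvExt.map_univPoly _ p (hdeg j)]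
    have hu₀ : IsUnit ((Polynomial.evalRingHom a).comp (Polynomial.mapRingHom ε) (Pb (Fin.last n))) := by
      refine isUnit_iff_ne_zero.2 ?_
      simp only [RingHom.comp_apply, Polynomial.coe_mapRingHom, hεP, Polynomial.coe_evalRingHom]
      exact hpa
    have huK : IsUnit ((algebraMap (Polynomial k) K).comp (Polynomial.mapRingHom ε) (Pb (Fin.last n))) := by
      refine isUnit_iff_ne_zero.2 ?_
      simp only [RingHom.comp_apply, Polynomial.coe_mapRingHom, hεP]
      exact (map_ne_zero_iff _ (IsFractionRing.injective (Polynomial k) K)).2 hp0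
    let τ : L →+* k := IsLocalization.Away.lift (Pb (Fin.last n)) hu₀
    let τK : L →+* K := IsLocalization.Away.lift (Pb (Fin.last n)) huK
    have hτalg : ∀ r : Polynomial R, τ (algebraMap _ L r) = (r.map ε).eval a := IsLocalization.Away.lift_eq _ hu₀
    have hKalg : ∀ r : Polynomial R, τK (algebraMap _ L r) = algebraMap _ K (r.map ε) := IsLocalization.Away.lift_eq _ huK
    have hεc : ∀ c, ε (algebraMap k R c) = c := fun c => by
      rw [← hmk c, ← RingHom.comp_apply, hεmk]
      simp
    have hτ : τ.comp ψ = χ₀ := by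
      refine RingHom.ext fun b => ?_
      obtain ⟨q, rfl⟩ := hπ b
      have e : (τ.comp ψ).comp π.toRingHom = χ₀.comp π.toRingHom := by
        rw [RingHom.comp_assoc, hψ, hχ₀]
        refine MvPolynomial.ringHom_ext (fun c => ?_) fun l => ?_
        · simp only [Φ, gl, al, RingHom.comp_apply, MvPolynomial.eval₂Hom_C, RingHom.id_apply]
          rw [IsScalarTower.algebraMap_apply k (Polynomial R) L, hτalg, Polynomial.algebraMap_apply, Polynomial.map_C,
            Polynomial.eval_C, hεc]
        · simp only [Φ, gl, al, RingHom.comp_apply, MvPolynomial.eval₂Hom_X', map_mul, hτalg, hεP]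
          rw [eq_div_iff hpa, mul_assoc]
          conv_lhs => enter [2, 2]; rw [← hεP (Fin.last n), ← hτalg]
          rw [← map_mul, mul_comm (IsLocalization.Away.invSelf _), IsLocalization.Away.mul_invSelf, map_one, mul_one]
      exact RingHom.congr_fun e q
    have hτK : τK.comp ψ = χ := by
      refine RingHom.ext fun b => ?_
      obtain ⟨q, rfl⟩ := hπ b
      have e : (τK.comp ψ).comp π.toRingHom = χ.comp π.toRingHom := by
        rw [RingHom.comp_assoc, hψ, hχ]
        refine MvPolynomial.ringHom_ext (fun c => ?_) fun l => ?_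
        · simp only [Φ, gl, al, RingHom.comp_apply, MvPolynomial.eval₂Hom_C]
          erw [MvPolynomial.eval₂Hom_C]
          rw [IsScalarTower.algebraMap_apply k (Polynomial R) L, hKalg, Polynomial.algebraMap_apply, Polynomial.map_C,
            hεc]
          exact (IsScalarTower.algebraMap_apply k (Polynomial k) K c).symm
        · simp only [Φ, gl, al, RingHom.comp_apply, MvPolynomial.eval₂Hom_X', map_mul, hKalg, hεP]
          erw [MvPolynomial.eval₂Hom_X']
          rw [eq_div_iff ((map_ne_zero_iff _ (IsFractionRing.injective (Polynomial k) K)).2 hp0), mul_assoc]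
          conv_lhs => enter [2, 2]; rw [← hεP (Fin.last n), ← hKalg]
          rw [← map_mul, mul_comm (IsLocalization.Away.invSelf _), IsLocalization.Away.mul_invSelf, map_one, mul_one]
      exact RingHom.congr_fun e q
    refine ⟨⟨RingHom.ker τ, RingHom.ker_isPrime _⟩, ⟨RingHom.ker τK, RingHom.ker_isPrime _⟩, ?_, ?_⟩
    · refine PrimeSpectrum.ext ?_
      show (RingHom.ker τ).comap (algebraMap R L) = (RingHom.ker τK).comap (algebraMap R L)
      rw [RingHom.comap_ker, RingHom.comap_ker]
      refine Ideal.ext fun r => ?_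
      rw [RingHom.mem_ker, RingHom.mem_ker, RingHom.comp_apply, RingHom.comp_apply,
        IsScalarTower.algebraMap_apply R (Polynomial R) L, hτalg, hKalg, Polynomial.algebraMap_eq, Polynomial.map_C,
        Polynomial.eval_C, map_eq_zero_iff _ (IsFractionRing.injective (Polynomial k) K), Polynomial.C_eq_zero]
    · have e1 : u ⟨RingHom.ker τ, RingHom.ker_isPrime _⟩ = hV.fromSpec ⟨RingHom.ker χ₀, RingHom.ker_isPrime _⟩ :=
        congrArg hV.fromSpec (PrimeSpectrum.ext ((RingHom.comap_ker τ ψ).trans (by rw [hτ])))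
      have e2 : u ⟨RingHom.ker τK, RingHom.ker_isPrime _⟩ = hV.fromSpec ⟨RingHom.ker χ, RingHom.ker_isPrime _⟩ :=
        congrArg hV.fromSpec (PrimeSpectrum.ext ((RingHom.comap_ker τK ψ).trans (by rw [hτK])))
      rw [e1, e2]
      exact hne.symm

/-- Let k be an uncountable algebraically closed field and X a projective variety over k. If every
closed point of some nonempty open subset U of X lies on a rational curve, that is on the image of a
nonconstant k-morphism from the projective line, then X is uniruled: there is a k-variety M and a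
dominant rational map from the product of the projective line with M to X, defined on a dense open
subset, which does not contract some curve of the family. (The published remark is for X proper;
this row takes X projective. Uncountability matters: the morphism scheme has countably many
components.) -/
theorem result
    (k : Type u) [Field k] [IsAlgClosed k] [Uncountable k] (X : Scheme.{u}) (pX : X ⟶ Spec (CommRingCat.of k))
    [IsIntegral X] [IsProper pX]
    (hproj : ∃ (N : ℕ) (ι : X ⟶ CohB1.ProjSpace N k), IsClosedImmersion ι ∧ ι ≫ CohB1.ProjSpace.toSpec N k = pX)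
    (U : X.Opens) (hU : (U : Set X).Nonempty)
    (h : ∀ x ∈ (U : Set X), IsClosed ({x} : Set X) →
      ∃ g : CohB1.ProjSpace 1 k ⟶ X, g ≫ pX = CohB1.ProjSpace.toSpec 1 k ∧ (¬ ∃ y : X, Set.range g.base ⊆ {y}) ∧ x ∈ Set.range g.base) :
    MorSch.IsUniruled k pX := by
  classical
  by_contra hnot
  haveI : CompactSpace X := QuasiCompact.compactSpace_of_compactSpace pX
  obtain ⟨x₁, hx₁⟩ := hU
  obtain ⟨V, hV, hx₁V, hVU⟩ := exists_isAffineOpen_mem_and_subset hx₁
  let s₀ : CommRingCat.of k ⟶ Γ(X, V) := Spec.preimage (hV.fromSpec ≫ pX)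
  letI : Algebra k Γ(X, V) := s₀.hom.toAlgebra
  have hVk : hV.fromSpec ≫ pX = Spec.map (CommRingCat.ofHom (algebraMap k Γ(X, V))) :=
    (Spec.map_preimage _).symm
  haveI : Algebra.FiniteType k Γ(X, V) := by
    rw [← RingHom.finiteType_algebraMap]
    have h1 : LocallyOfFiniteType (Spec.map (CommRingCat.ofHom (algebraMap k Γ(X, V)))) := by
      rw [← hVk]; infer_instance
    exact (HasRingHomProperty.Spec_iff (P := @LocallyOfFiniteType)).1 h1
  obtain ⟨n, π, hπ⟩ := (Algebra.FiniteType.iff_quotient_mvPolynomial'' (R := k) (S := Γ(X, V))).1 inferInstance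
  -- the parameters of polynomial curves in the chart
  let K := FractionRing (Polynomial k)
  let Good : ∀ d : ℕ, Set (Fin (n + 1) × Fin (d + 1) → k) := fun d => {c |
    ∃ p : Fin (n + 1) → Polynomial k, (∀ j, (p j).natDegree ≤ d) ∧ p (Fin.last n) ≠ 0 ∧
      (fun je => (p je.1).coeff (je.2 : ℕ)) = c ∧
      ∀ q : MvPolynomial (Fin n) k, π q = 0 → MvPolynomial.eval₂Hom (algebraMap k K) (fun l =>
        algebraMap _ _ (p l.castSucc) / algebraMap _ _ (p (Fin.last n))) q = 0}
  let I : ∀ d : ℕ, Ideal (MvPolynomial (Fin (n + 1) × Fin (d + 1)) k) :=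
    fun d => ⨅ c ∈ Good d, RingHom.ker (MvPolynomial.eval c)
  let idx := Option (Σ d : ℕ, (I d).minimalPrimes)
  haveI : ∀ d, Finite (I d).minimalPrimes := fun d =>
    ((I d).finite_minimalPrimes_of_isNoetherianRing).to_subtype
  haveI : Countable idx := inferInstanceAs (Countable (Option _))
  have key : ∀ i : idx, ∃ Z : TopologicalSpace.Closeds X, (Z : Set X) ≠ Set.univ ∧
      ∀ (d : ℕ) (𝔮 : (I d).minimalPrimes), i = some ⟨d, 𝔮⟩ →
        ∀ (p : Fin (n + 1) → Polynomial k) (a : k) (χ : Γ(X, V) →+* K) (χ₀ : Γ(X, V) →+* k),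
          (∀ j, (p j).natDegree ≤ d) → p (Fin.last n) ≠ 0 → (p (Fin.last n)).eval a ≠ 0 →
          𝔮.1 ≤ RingHom.ker (MvPolynomial.eval fun je : Fin (n + 1) × Fin (d + 1) => (p je.1).coeff (je.2 : ℕ)) →
          χ.comp π.toRingHom = MvPolynomial.eval₂Hom (algebraMap k K) (fun l =>
            algebraMap _ _ (p l.castSucc) / algebraMap _ _ (p (Fin.last n))) →
          χ₀.comp π.toRingHom = MvPolynomial.eval₂Hom (RingHom.id k) (fun l =>
            (p l.castSucc).eval a / (p (Fin.last n)).eval a) →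
          hV.fromSpec ⟨RingHom.ker χ, RingHom.ker_isPrime _⟩ ≠ hV.fromSpec ⟨RingHom.ker χ₀, RingHom.ker_isPrime _⟩ →
          hV.fromSpec ⟨RingHom.ker χ₀, RingHom.ker_isPrime _⟩ ∈ Z := by
    have hbot : ((⊥ : TopologicalSpace.Closeds X) : Set X) ≠ Set.univ := by
      rw [TopologicalSpace.Closeds.coe_bot]
      exact fun h => (h.symm ▸ Set.mem_univ x₁ : x₁ ∈ (∅ : Set X))
    rintro (_ | ⟨d, 𝔮, h𝔮⟩)
    · exact ⟨⊥, hbot, fun d 𝔮 h => by simp at h⟩
    haveI h𝔮p : 𝔮.IsPrime := h𝔮.1.1
    let R := MvPolynomial (Fin (n + 1) × Fin (d + 1)) k ⧸ 𝔮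
    let mk : MvPolynomial (Fin (n + 1) × Fin (d + 1)) k →+* R := Ideal.Quotient.mk 𝔮
    let Pb : Fin (n + 1) → Polynomial R := fun j => (RatCurvExt.univPoly k n d j).map mk
    by_cases hH : Pb (Fin.last n) = 0
    · refine ⟨⊥, hbot, fun d' 𝔮' h p a χ χ₀ hdeg hp0 _ hker => absurd ?_ hp0⟩
      cases h
      rw [← RatCurvExt.map_univPoly (d := d) _ p (hdeg _)]
      have h1 := congrArg (Polynomial.map (Ideal.Quotient.lift 𝔮 (MvPolynomial.eval fun je : Fin (n + 1) × Fin (d + 1) => (p je.1).coeff (je.2 : ℕ))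
        (fun r hr => RingHom.mem_ker.1 (hker hr)))) hH
      rwa [Polynomial.map_map, Ideal.Quotient.lift_comp_mk, Polynomial.map_zero] at h1
    haveI : IsDomain (MvPolynomial (Fin (n + 1) × Fin (d + 1)) k ⧸ 𝔮) := (Ideal.Quotient.isDomain_iff_prime 𝔮).2 h𝔮p
    obtain ⟨Z, hZ₁, hZ₂⟩ := exists_closeds_of_family pX hV hVk hnot hbot π hπ d (MvPolynomial (Fin (n + 1) × Fin (d + 1)) k ⧸ 𝔮)
      (Ideal.Quotient.mk 𝔮) (fun c => rfl)
      (fun r hr => Ideal.Quotient.eq_zero_iff_mem.2 (h𝔮.1.2 (Submodule.mem_iInf _ |>.2 fun c =>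
        Submodule.mem_iInf _ |>.2 fun hc => RingHom.mem_ker.2 (hr c hc)))) hH
    refine ⟨Z, hZ₁, fun d' 𝔮' h p a χ χ₀ hdeg hp0 hpa hker hχ hχ₀ hne => ?_⟩
    cases h
    exact hZ₂ p a χ χ₀ hdeg hp0 hpa (Ideal.Quotient.lift 𝔮
      (MvPolynomial.eval fun je : Fin (n + 1) × Fin (d + 1) => (p je.1).coeff (je.2 : ℕ)) (fun r hr => RingHom.mem_ker.1 (hker hr)))
      (Ideal.Quotient.lift_comp_mk _ _ _) hχ hχ₀ hne
  choose Z hZu hZ using key
  obtain ⟨e, he⟩ := exists_surjective_nat idx
  obtain ⟨x, hxV, hxc, hxZ⟩ := (Groth.Agent.S16920.result k X pX (fun m => Z (e m)) (fun m => hZu (e m))).inter_open_nonempty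
    (V : Set X) V.2 ⟨x₁, hx₁V⟩
  obtain ⟨g, hg, hnc, hxg⟩ := h x (hVU hxV) hxc
  obtain ⟨d, p, a, χ, χ₀, hdeg, hp0, hpa, hχ, hχ₀, hx0, hxK⟩ := exists_polynomials pX hV hVk π hπ x hxc hxV g hg hnc hxg
  have hgood : (fun je : Fin (n + 1) × Fin (d + 1) => (p je.1).coeff (je.2 : ℕ)) ∈ Good d :=
    ⟨p, hdeg, hp0, rfl, fun q hq => by
      rw [← hχ, RingHom.comp_apply, show π.toRingHom q = π q from rfl, hq, map_zero]⟩
  haveI : (RingHom.ker (MvPolynomial.eval fun je : Fin (n + 1) × Fin (d + 1) => (p je.1).coeff (je.2 : ℕ))).IsPrime :=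
    RingHom.ker_isPrime _
  obtain ⟨𝔮, h𝔮, hle⟩ := Ideal.exists_minimalPrimes_le (I := I d)
    (J := RingHom.ker (MvPolynomial.eval fun je : Fin (n + 1) × Fin (d + 1) => (p je.1).coeff (je.2 : ℕ)))
    (iInf_le_of_le _ (iInf_le_of_le hgood le_rfl))
  obtain ⟨m, hm⟩ := he (some ⟨d, 𝔮, h𝔮⟩)
  refine hxZ m ?_
  rw [hm, ← hx0]
  exact hZ _ d ⟨𝔮, h𝔮⟩ rfl p a χ χ₀ hdeg hp0 hpa hle hχ hχ₀ (hx0.symm ▸ hxK)

end Groth.Agent.S17168
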