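import Groth.Statements.S17169
import Groth.Agent.RatCurvExtLib.Sweep

set_option autoImplicit false
universe u
open CategoryTheory CategoryTheory.Limits AlgebraicGeometry
open MorSch

set_option backward.isDefEq.respectTransparency false
set_option backward.isDefEq.respectTransparency.types false

namespace Groth.Agent.S17169

set_option maxHeartbeats 1000000 in
/-- Let X be a projective uniruled variety over an algebraically closed field k. Then there is a
rational curve through every closed point of X: for each closed point x there is a nonconstant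
k-morphism g from the projective line to X whose image contains x. (The published remark is for X
proper and first gives a rational curve through a general point, then through every point by
closedness of the locus swept by rational curves of bounded degree; this row takes X projective.) -/
theorem result
    (k : Type u) [Field k] [IsAlgClosed k] (X : Scheme.{u}) (pX : X ⟶ Spec (CommRingCat.of k))
    [IsIntegral X] [IsProper pX]
    (hproj : ∃ (N : ℕ) (ι : X ⟶ CohB1.ProjSpace N k), IsClosedImmersion ι ∧ ι ≫ CohB1.ProjSpace.toSpec N k = pX)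
    (h : MorSch.IsUniruled k pX) (x : X) (hx : IsClosed ({x} : Set X)) :
    ∃ g : CohB1.ProjSpace 1 k ⟶ X, g ≫ pX = CohB1.ProjSpace.toSpec 1 k ∧ (¬ ∃ y : X, Set.range g.base ⊆ {y}) ∧ x ∈ Set.range g.base := by
  obtain ⟨F, hdom, t, t', htt, hne⟩ := h
  obtain ⟨hMi, hMs, hMft, hMqc⟩ := F.isVar
  haveI := hMi; haveI := hMs; haveI := hMft; haveI := hMqc; haveI := hdom
  let tp := CohB1.ProjSpace.toSpec 1 k
  haveI : IsProper tp := ProjDegLib.toSpec_isProper k 1
  haveI : Smooth tp := GenusZeroLib.smooth_toSpec 1 k
  haveI : IsIntegral (CohB1.ProjSpace 1 k) := GenusZeroLib.isIntegral_projSpace k 1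
  haveI : LocallyOfFiniteType (Over.mk tp).hom := inferInstanceAs (LocallyOfFiniteType tp)
  haveI : LocallyOfFiniteType (Over.mk F.m).hom := inferInstanceAs (LocallyOfFiniteType F.m)
  haveI : IsIntegral (Over.mk tp).left := inferInstanceAs (IsIntegral (CohB1.ProjSpace 1 k))
  haveI : IsIntegral (Over.mk F.m).left := inferInstanceAs (IsIntegral F.M)
  haveI : IsIntegral (P1Prod k F.m) := AlbLib.isIntegral_tensor (Over.mk tp) (Over.mk F.m)
  haveI : CompactSpace (P1Prod k F.m) := QuasiCompact.compactSpace_of_compactSpace (pullback.fst tp F.m ≫ tp)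
  haveI : IsLocallyNoetherian (P1Prod k F.m) := LocallyOfFiniteType.isLocallyNoetherian (pullback.fst tp F.m ≫ tp)
  haveI : IsNoetherian (P1Prod k F.m) := ⟨⟩
  haveI : CompactSpace X := QuasiCompact.compactSpace_of_compactSpace pX
  haveI : IsNoetherian X := { toIsLocallyNoetherian := LocallyOfFiniteType.isLocallyNoetherian pX }
  haveI : TopologicalSpace.NoetherianSpace ↥(F.e.domain.toScheme) :=
    F.e.domain.ι.isOpenEmbedding.isInducing.noetherianSpace
  haveI : IsLocallyNoetherian X := LocallyOfFiniteType.isLocallyNoetherian pX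
  haveI : Nonempty F.e.domain := ⟨⟨_, t.2⟩⟩
  haveI : IsIntegral F.e.domain.toScheme := isIntegral_of_isOpenImmersion F.e.domain.ι
  haveI : LocallyOfFiniteType (F.e.hom ≫ pX) := by rw [F.comm]; infer_instance
  haveI : LocallyOfFiniteType F.e.hom := locallyOfFiniteType_of_comp F.e.hom pX
  haveI : Subsingleton ↥(Spec (CommRingCat.of k)) := inferInstanceAs (Subsingleton (PrimeSpectrum k))
  haveI : Flat tp := inferInstance
  haveI : Flat (pullback.snd tp F.m) := inferInstance
  haveI : Flat F.toM := inferInstanceAs (Flat (F.e.domain.ι ≫ pullback.snd tp F.m))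
  haveI : LocallyOfFiniteType F.toM := inferInstanceAs (LocallyOfFiniteType (F.e.domain.ι ≫ pullback.snd tp F.m))
  obtain ⟨M₁, hM₁ne, hM₁⟩ := RatCurvExt.exists_moving F.m pX F.toM F.e.hom F.toM_m t t' htt hne
  let W : F.e.domain.toScheme.Opens := F.toM ⁻¹ᵁ M₁
  have hWne : (W : Set F.e.domain.toScheme).Nonempty := by
    haveI : JacobsonSpace F.M := LocallyOfFiniteType.jacobsonSpace F.m
    obtain ⟨μ, hμ, hμc⟩ := nonempty_inter_closedPoints hM₁ne M₁.2.isLocallyClosed
    obtain ⟨t₁, -, -, -, ht₁, -⟩ := hM₁ μ hμ hμc
    exact ⟨t₁, show F.toM t₁ ∈ M₁ from ht₁ ▸ hμ⟩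
  let eW : W.toScheme ⟶ X := W.ι ≫ F.e.hom
  haveI : CompactSpace W := isCompact_iff_compactSpace.1 (TopologicalSpace.NoetherianSpace.isCompact _)
  haveI : QuasiCompact eW := by
    haveI : CompactSpace W.toScheme := ‹CompactSpace W›
    infer_instance
  haveI : LocallyOfFiniteType eW := inferInstanceAs (LocallyOfFiniteType (W.ι ≫ F.e.hom))
  haveI : LocallyOfFinitePresentation eW := LocallyOfFinitePresentation.iff_locallyOfFiniteType.2 inferInstance
  have hηW : genericPoint F.e.domain.toScheme ∈ W := by
    obtain ⟨y, hy⟩ := hWne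
    exact (genericPoint_specializes y).mem_open W.2 hy
  have hgen : F.e.hom (genericPoint F.e.domain.toScheme) = genericPoint X := by
    have h1 := (genericPoint_spec F.e.domain.toScheme).image F.e.hom.continuous
    rw [Set.image_univ, F.e.hom.denseRange.closure_range] at h1
    exact h1.eq (genericPoint_spec X)
  have hC : Topology.IsConstructible (Set.range eW) := by
    rw [← Set.image_univ]; exact eW.isConstructible_image Topology.IsConstructible.univ
  obtain ⟨V, hVo, hVne, hV⟩ := GenULocLib.exists_open_subset_of_isConstructible hC (genericPoint X)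
    (genericPoint_spec X).def ⟨⟨_, hηW⟩, hgen⟩
  let O : X.Opens := ⟨V ∩ {x}ᶜ, hVo.inter hx.isOpen_compl⟩
  have hOne : (O : Set X).Nonempty := by
    by_contra hO
    have hsub : V ⊆ {x} := fun z hz => by
      by_contra hzx
      exact hO ⟨z, hz, hzx⟩
    obtain ⟨z, hz⟩ := hVne
    have hgx : genericPoint X = x := hsub ((genericPoint_specializes z).mem_open hVo hz)
    refine hne ?_
    have hall : ∀ y : X, y = x := fun y => (hgx ▸ genericPoint_specializes y : x ⤳ y).mem_closed hx rfl
    rw [hall (F.e.hom t), hall (F.e.hom t')]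
  obtain ⟨Q, hQ, a, q, Q₀, b, hs, hqc, hsep, hd, hq, haq, hξ, hb⟩ := RatCurvExt.exists_curve_over pX eW x hx O hOne
    (fun h => h.2 rfl) (fun z hz => hV hz.1)
  haveI := hQ; haveI := hs; haveI := hqc; haveI := hsep
  subst haq
  exact RatCurvExt.exists_ratCurve_of_family pX F.m F.e.domain F.e.hom F.comm M₁ hM₁ a hd q hq hx Q₀ hξ (b ≫ W.ι)
    (fun v => (b v).2) (by rw [Category.assoc]; exact hb)

end Groth.Agent.S17169
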