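import Groth.Statements.S17172
import Groth.Agent.EtTateLib.Depth
import Groth.Agent.EtPurEqLib.Exact
import Groth.Agent.EtLocCohLib.Depth
import Groth.Agent.CovDevLib.Basis
import Groth.Agent.EtProperConsLib.Descent
-- import your own Groth.Agent.* helpers here

set_option autoImplicit false
set_option backward.isDefEq.respectTransparency false
set_option backward.isDefEq.respectTransparency.types false
set_option synthInstance.maxHeartbeats 400000
set_option maxHeartbeats 1600000
universe u
open EtCoh

namespace Groth.Agent.S17172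

section Aux
open CategoryTheory CategoryTheory.Limits AlgebraicGeometry Opposite Groth.Agent.EtShLib

theorem depthGE_mu {X U : Scheme.{u}} (j : U ⟶ X) [IsOpenImmersion j] [EtCoh.BCCont j] {n : ℕ}
    (hn : IsUnit (n : Γ(X, ⊤))) {m : ℕ} (h : EtDepth.DepthGE j (EtCoh.const X (ZMod n)) m) :
    EtDepth.DepthGE j (EtCoh.mu X n) m := by
  choose W ζ hx hζ hu h0 using EtTateLib.exists_nhd_root (X := X) hn
  haveI : ∀ i, AlgebraicGeometry.Etale (W i).hom := fun i => (W i).prop
  haveI : ∀ i, IsOpenImmersion (pullback.snd j (W i).hom) := fun i => MorphismProperty.pullback_snd _ _ inferInstance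
  have hU' : ∀ i, Set.range (pullback.snd j (W i).hom).base = (W i).hom.base ⁻¹' Set.range j.base := fun i =>
    Scheme.Pullback.range_snd j (W i).hom
  rw [EtLocCohLib.depthGE_iff_local j (fun i => (W i).hom) (fun i => pullback.snd j (W i).hom) hU'
    (fun x => ⟨x, hx x⟩) m] at h
  rw [EtLocCohLib.depthGE_iff_local j (fun i => (W i).hom) (fun i => pullback.snd j (W i).hom) hU'
    (fun x => ⟨x, hx x⟩) m]
  intro i
  obtain ⟨η, hη⟩ := EtTateLib.exists_isCst_mu (h0 i) (hu i) (ζ i) (hζ i)
  obtain ⟨φ⟩ := EtLocCohLib.nonempty_iso_cK_of_isCst ((hη.pull (f := (W i).hom)).map (EtSliceLib.diag (W i)))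
  exact EtLocCohLib.depthGE_of_iso _ φ
    (EtLocCohLib.depthGE_of_iso _ (EtCore.pullConst (W i).hom (ZMod n)) (h i))

end Aux

open CategoryTheory AlgebraicGeometry in
/-- Let k be a field, X an integral scheme which is smooth and of finite type over k, n a natural number
invertible in k, and U ⊆ X an open subscheme whose complement has codimension at least 2 (every
point of X outside U has a local ring of Krull dimension at least 2). Then restriction along U → X
is a bijection H²(X_ét, μ_n) → H²(U_ét, μ_n). Here μ_n is the kernel of the n-th power map on G_m on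
the small étale site, μ_n on U is written as the pullback of μ_n on X along the open immersion U →
X, and the restriction map is the pullback on étale cohomology (whose finite-limit hypothesis on the
pullback functor is carried as an instance binder). The published statement covers X a
Deligne–Mumford stack with trivial generic stabilizer and U an open substack; only the case of a
scheme is stated here. -/
theorem result (k : Type u) [Field k]
    (X : Scheme.{u}) (f : X ⟶ Spec (CommRingCat.of k)) [Smooth f] [IsIntegral X] [CompactSpace X]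
    (n : ℕ) (hn : (n : k) ≠ 0) (U : X.Opens)
    (hY : ∀ x : X, x ∉ U → 2 ≤ ringKrullDim (X.presheaf.stalk x))
    [Limits.PreservesFiniteLimits (EtCoh.pull U.ι)] :
    Function.Bijective (EtCore.Hpull U.ι (EtCoh.mu X n) 2) := by
  haveI : IsLocallyNoetherian X := (EtPurEqLib.regular_smooth f).1
  obtain ⟨k₀, _, _, ⟨φ⟩⟩ := EtPurEqLib.exists_base k
  have hu : IsUnit (n : Γ(X, ⊤)) := by
    have := (IsUnit.mk0 _ hn).map ((Scheme.ΓSpecIso (CommRingCat.of k)).inv ≫ f.appTop).hom
    rwa [map_natCast] at this
  have hd : EtDepth.DepthGE U.ι (EtCoh.mu X n) (2 * 2) := depthGE_mu U.ι hu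
    (EtPurEqLib.semipure k₀ (f ≫ Spec.map (CommRingCat.ofHom φ)) (EtPurEqLib.regular_smooth f).2 U.ι 2
      (fun y hy => hY y (fun h => hy (by rw [Scheme.Opens.range_ι]; exact h))) n
      (EtPurEqLib.natCast_base φ hn))
  rw [EtLocCohLib.depthGE_iff_ext U.ι _ _] at hd
  haveI : Limits.PreservesFiniteLimits (EtCoh.pull (Limits.pullback.snd U.ι (𝟙 X))) := EtSliceLib.pullExact _
  obtain ⟨hb, -⟩ := (EtLocCohLib.ext_iff_restr U.ι (EtCoh.mu X n) (2 * 2) (Scheme.Etale.mk (𝟙 X))).1
    fun p hp => hd p hp _
  have h2 := (EtLocCohLib.hpull_iff (j := U.ι) (𝟙 X) (EtCoh.mu X n) 2).1.2 (hb 2 (by omega))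
  obtain ⟨e⟩ := EtProperConsLib.nonempty_pull_id X
  have h3 := CovDevLib.bijective_Hpull_of_iso_obj _ (e.app (EtCoh.mu X n)) 2 h2
  exact CovDevLib.bijective_of_isPullback (IsPullback.of_id_fst (f := U.ι))
    (IsPullback.of_hasPullback U.ι (𝟙 X)) _ 2 h3

end Groth.Agent.S17172
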