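import Groth.Statements.S17174
import Mathlib
import Groth.Agent.BasicIneqLib.Basic
-- import your own Groth.Agent.* helpers here

set_option autoImplicit false
universe u
open LabGraph

namespace Groth.Agent.S17174

open LabGraph in
/-- Let Γ be the weighted dual graph of a Deligne–Mumford semistable curve X of genus g ≥ 3 over an
algebraically closed field (connected; every weight-zero vertex without loop is joined to the other
vertices by at least two edges), and let d, d' be two multidegrees of the same (arbitrary) total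
degree D (g ≥ 3 being the paper's standing assumption) which both satisfy the Basic Inequality and
lie in the same degree class (d - d' is a twist). Then d - d' can be written in normal form: there
is a labelling h of the vertices by natural numbers taking exactly the values 0, 1, …, q, with d -
d' equal to the twist of h (that is, d - d' = Σ_v h(v)·c_v with c_v the multidegree of O(C_v)), such
that for distinct levels i ≠ j in {0, …, q} the subcurves on h⁻¹(i) and h⁻¹(j) meet (some edge joins
the two levels) exactly when |i - j| = 1. -/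
theorem result {V E : Type u} [Fintype V] [Fintype E]
    [DecidableEq V] [DecidableEq E] (ends : E → V × V) (w : V → ℕ) (hX : IsSemistableGraph ends w)
    (hg : 3 ≤ genus ends w) (d d' : V → ℤ)
    (hBI : SatisfiesBI ends w d) (hBI' : SatisfiesBI ends w d') (heq : TwistEquiv ends d d') :
    ∃ (q : ℕ) (h : V → ℕ), (∀ v : V, h v ≤ q) ∧ (∀ i : ℕ, i ≤ q → ∃ v : V, h v = i) ∧
      (∀ v : V, d v - d' v = twist ends (fun u => (h u : ℤ)) v) ∧
      (∀ i j : ℕ, i ≤ q → j ≤ q → i ≠ j →
        ((∃ e : E, (h (ends e).1 = i ∧ h (ends e).2 = j) ∨ (h (ends e).1 = j ∧ h (ends e).2 = i)) ↔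
          (i + 1 = j ∨ j + 1 = i))) := by
  classical
  obtain ⟨φ, hφ⟩ := heq
  have hK : 0 < canDeg ends w Finset.univ := by rw [BasicIneqLib.canDeg_univ]; omega
  have hD : ∑ v, d v = ∑ v, d' v := by
    rw [← sub_eq_zero, ← Finset.sum_sub_distrib, Finset.sum_congr rfl fun v _ => hφ v, BasicIneqLib.sum_twist_univ]
  have hd : d = fun v => d' v + twist ends φ v := funext fun v => by linarith [hφ v]
  have key : ∀ e : E, φ (ends e).1 ≤ φ (ends e).2 + 1 ∧ φ (ends e).2 ≤ φ (ends e).1 + 1 := by
    intro e
    set c := max (φ (ends e).1) (φ (ends e).2) with hc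
    set Y := Finset.univ.filter fun v => c ≤ φ v with hY
    have hmem : ∀ v, v ∈ Y ↔ c ≤ φ v := fun v => by simp [Y]
    have h1 := ((BasicIneqLib.satisfiesBI_iff ends w d).1 hBI Y).2
    have h2 := ((BasicIneqLib.satisfiesBI_iff ends w d').1 hBI' Y).1
    rw [hd, BasicIneqLib.defect_twist] at h1
    have h3 : -(∑ v ∈ Y, twist ends φ v) ≤ cut ends Y := by nlinarith
    rw [BasicIneqLib.sum_twist, BasicIneqLib.cut_eq, ← Finset.sum_neg_distrib] at h3
    have hterm : ∀ x ∈ (Finset.univ : Finset E),
        (if ((ends x).1 ∈ Y ∧ (ends x).2 ∉ Y) ∨ ((ends x).1 ∉ Y ∧ (ends x).2 ∈ Y) then (1 : ℤ) else 0) ≤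
          -((if (ends x).1 ∈ Y then φ (ends x).2 - φ (ends x).1 else 0) +
            (if (ends x).2 ∈ Y then φ (ends x).1 - φ (ends x).2 else 0)) := fun x _ => by
      simp only [hmem]
      split_ifs <;> omega
    have h4 := ((Finset.sum_eq_sum_iff_of_le hterm).1 (le_antisymm (Finset.sum_le_sum hterm) h3)) e (Finset.mem_univ e)
    simp only [hmem] at h4
    split_ifs at h4 <;> omega
  obtain ⟨v1, -, hmin⟩ := Finset.exists_min_image Finset.univ φ (by obtain ⟨v⟩ := hX.1.1; exact ⟨v, Finset.mem_univ v⟩)
  obtain ⟨v2, -, hmax⟩ := Finset.exists_max_image Finset.univ φ (by obtain ⟨v⟩ := hX.1.1; exact ⟨v, Finset.mem_univ v⟩)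
  let h : V → ℕ := fun v => (φ v - φ v1).toNat
  have hcast : ∀ v, (h v : ℤ) = φ v - φ v1 := fun v =>
    Int.toNat_of_nonneg (by linarith [hmin v (Finset.mem_univ v)])
  have hstep : ∀ e, h (ends e).1 ≤ h (ends e).2 + 1 ∧ h (ends e).2 ≤ h (ends e).1 + 1 := fun e => by
    have := key e; have := hcast (ends e).1; have := hcast (ends e).2; omega
  have h0 : h v1 = 0 := by have := hcast v1; omega
  have hedge : ∀ i, i < h v2 → ∃ e : E, (h (ends e).1 = i ∧ h (ends e).2 = i + 1) ∨ (h (ends e).1 = i + 1 ∧ h (ends e).2 = i) := by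
    intro i hi
    by_contra hne
    push Not at hne
    have hall : ∀ v, Relation.ReflTransGen (LabGraph.Adj ends) v1 v → h v ≤ i := by
      intro v hv
      induction hv with
      | refl => omega
      | @tail a b _ hab ih =>
        obtain ⟨e, he | he⟩ := hab <;>
        · have h1 := hstep e; have h2 := hne e; simp only [he] at h1 h2; omega
    have := hall v2 (hX.1.2 v1 v2)
    omega
  refine ⟨h v2, h, fun v => ?_, fun i hi => ?_, fun v => ?_, fun i j hi hj hij => ?_⟩
  · have := hmax v (Finset.mem_univ v); have := hcast v; have := hcast v2; omega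
  · rcases eq_or_lt_of_le hi with rfl | hi'
    · exact ⟨v2, rfl⟩
    · obtain ⟨e, he | he⟩ := hedge i hi'
      · exact ⟨_, he.1⟩
      · exact ⟨_, he.2⟩
  · rw [hφ v]
    simp only [twist, hcast, sub_sub_sub_cancel_right]
  · constructor
    · rintro ⟨e, he⟩
      have := hstep e
      omega
    · rintro (rfl | rfl)
      · obtain ⟨e, he⟩ := hedge i (by omega)
        exact ⟨e, by tauto⟩
      · obtain ⟨e, he⟩ := hedge j (by omega)
        exact ⟨e, by tauto⟩

end Groth.Agent.S17174
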