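import Groth.Statements.S17175
import Mathlib.RingTheory.PowerSeries.Inverse

set_option autoImplicit false
universe u
open CAlg

namespace Groth.Agent.S17175

open PowerSeries in
/-- Let k be a field, O₀ = k[[x, y]]/(xy) the complete local ring of a node and Õ₀ = k[[x]] × k[[y]] its
normalization, O₀ being embedded in Õ₀ by h ↦ (h(x, 0), h(0, y)) as the subring of pairs with equal
constant coefficients. Regard Õ₀ as an O₀-module: it is the rank-one torsion-free O₀-module that is
not free. Then every O₀-linear endomorphism of this module is Õ₀-linear, i.e. it is multiplication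
by a unique element of Õ₀; consequently its O₀-endomorphism ring is Õ₀ and its O₀-automorphism group
is the unit group of Õ₀. Here an O₀-linear endomorphism is an additive map of k[[X]] × k[[X]]
commuting with multiplication by every pair whose two constant coefficients agree. (The source works
over an algebraically closed field; only the field structure is used.) -/
theorem result (k : Type u) [Field k]
    (φ : (k⟦X⟧ × k⟦X⟧) →+ (k⟦X⟧ × k⟦X⟧))
    (hφ : ∀ a s : k⟦X⟧ × k⟦X⟧, constantCoeff a.1 = constantCoeff a.2 → φ (a * s) = a * φ s) :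
    ∃! b : k⟦X⟧ × k⟦X⟧, ∀ s : k⟦X⟧ × k⟦X⟧, φ s = b * s := by
  refine ⟨((φ (1, 0)).1, (φ (0, 1)).2), fun s => ?_, fun b hb => ?_⟩
  swap
  · refine Prod.ext ?_ ?_
    · have h := congrArg Prod.fst (hb (1, 0))
      simp only [Prod.fst_mul, mul_one] at h
      exact h.symm
    · have h := congrArg Prod.snd (hb (0, 1))
      simp only [Prod.snd_mul, mul_one] at h
      exact h.symm
  have hX : (PowerSeries.X : k⟦X⟧) ≠ 0 := PowerSeries.X_ne_zero
  have h10 : (φ (1, 0)).2 = 0 := by
    have h := congrArg Prod.snd (hφ ((0 : k⟦X⟧), PowerSeries.X) (1, 0) (by simp))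
    simp only [Prod.mk_mul_mk, mul_zero, mul_one, zero_mul] at h
    rw [show ((0 : k⟦X⟧), (0 : k⟦X⟧)) = 0 from rfl, map_zero] at h
    simp only [Prod.snd_zero, Prod.snd_mul] at h
    exact (mul_eq_zero.1 h.symm).resolve_left hX
  have h01 : (φ (0, 1)).1 = 0 := by
    have h := congrArg Prod.fst (hφ (PowerSeries.X, (0 : k⟦X⟧)) (0, 1) (by simp))
    simp only [Prod.mk_mul_mk, mul_zero, mul_one, zero_mul] at h
    rw [show ((0 : k⟦X⟧), (0 : k⟦X⟧)) = 0 from rfl, map_zero] at h
    simp only [Prod.fst_zero, Prod.fst_mul] at h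
    exact (mul_eq_zero.1 h.symm).resolve_left hX
  obtain ⟨f, g⟩ := s
  have h1 := hφ (f, PowerSeries.C (PowerSeries.constantCoeff f)) (1, 0) (by simp)
  have h2 := hφ (PowerSeries.C (PowerSeries.constantCoeff g), g) (0, 1) (by simp)
  simp only [Prod.mk_mul_mk, mul_one, mul_zero] at h1 h2
  rw [show (f, g) = (f, (0 : k⟦X⟧)) + ((0 : k⟦X⟧), g) by simp, map_add, h1, h2]
  refine Prod.ext ?_ ?_
  · simp [h01, mul_comm]
  · simp [h10, mul_comm]

end Groth.Agent.S17175
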