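import Groth.Statements.S17178
import Groth.Agent.PureAssoLib.Basic

set_option autoImplicit false
universe u
open CategoryTheory CategoryTheory.Limits AlgebraicGeometry
open Curves

namespace Groth.Agent.S17178

/-- Let k be an algebraically closed field and X a nodal curve over k: proper over k, reduced,
connected, every irreducible component of dimension one, with at-worst-nodal singularities. Let J be
a coherent O_X-module which is pure of dimension one (every nonzero coherent submodule has
one-dimensional support), for instance a pure quotient with one-dimensional support of a rank-one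
torsion-free sheaf. Let U be an open subset and f a function on U vanishing at every point of U
lying in the support Y of J. Then f acts as zero on J over U: for every x ∈ U the germ of f at x
annihilates the stalk J_x. In other words the ideal sheaf of the reduced subcurve Y annihilates J,
so J is an O_Y-module; this is the first assertion in the proof that every such quotient q : I → J
of a rank-one torsion-free I factors through the torsion-free restriction of I to Y, the remaining
assertion (that the induced map is an isomorphism) not being part of this row. -/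
theorem result
    (k : Type u) [Field k] [IsAlgClosed k] (X : Scheme.{u}) [X.Over (Spec (CommRingCat.of k))]
    [IsProper (X ↘ Spec (CommRingCat.of k))] [IsReduced X] [ConnectedSpace X]
    (hequi : ∀ Z ∈ irreducibleComponents (X : Type u), topologicalKrullDim Z = 1)
    (hX : Curv2.AtWorstNodal k X)
    (J : X.Modules) (hJc : Coh.IsCoh J) (hJp : ShStab.IsPure X J 1)
    (U : X.Opens) (f : X.presheaf.obj (Opposite.op U))
    (hf : ∀ x : X, x ∈ U → x ∈ CohB1.support J → x ∉ X.basicOpen f)
    (x : X) (hx : x ∈ U) (t : J.presheaf.stalk x) :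
    (X.presheaf.germ U x hx f) • t = 0 := by
  classical
  haveI : IsLocallyNoetherian X := LocallyOfFiniteType.isLocallyNoetherian (X ↘ Spec (CommRingCat.of k))
  haveI : CompactSpace X := QuasiCompact.compactSpace_of_compactSpace (X ↘ Spec (CommRingCat.of k))
  haveI : AlgebraicGeometry.IsNoetherian X := {}
  haveI : Coh.IsQCoh J := hJc.1
  have hdim : topologicalKrullDim X ≤ ((1 : ℕ) : WithBot ℕ∞) :=
    PureAssoLib.topologicalKrullDim_le_of_components fun Z hZ => (hequi Z hZ).le.trans le_rfl
  obtain ⟨W, hxW, s, hs⟩ := DevissLib.exists_gm_eq J x t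
  obtain ⟨V, hV, hxV, hVWU⟩ := TopologicalSpace.Opens.isBasis_iff_nbhd.mp X.isBasis_affineOpens
    (show x ∈ W ⊓ U from ⟨hxW, hx⟩)
  have hVW : V ≤ W := hVWU.trans inf_le_left
  have hVU : V ≤ U := hVWU.trans inf_le_right
  let r : Γ(X, V) := X.presheaf.map (homOfLE hVU).op f
  let g : Γ(J, V) := r • J.presheaf.map (homOfLE hVW).op s
  have hr : ∀ (y : X) (hy : y ∈ V), X.presheaf.germ V y hy r = X.presheaf.germ U y (hVU hy) f :=
    fun y hy => TopCat.Presheaf.germ_res_apply X.presheaf (homOfLE hVU) y hy f
  have hg : DevissLib.gm J x hxV g = (X.presheaf.germ U x hx f) • t := by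
    rw [DevissLib.gm_smul, hr, DevissLib.gm_map J hVW x hxV, hs]; rfl
  rw [← hg]
  by_contra h0
  haveI : IsNoetherianRing Γ(X, V) := IsLocallyNoetherian.component_noetherian ⟨V, hV⟩
  let A := Γ(X, V)
  let N : Submodule A Γ(J, V) := Submodule.span A {g}
  set px := (hV.primeIdealOf ⟨x, hxV⟩).asIdeal with hpx
  have hann : Module.annihilator A N ≤ px := by
    intro a ha
    by_contra hax
    have h1 := Module.mem_annihilator.1 ha ⟨g, Submodule.mem_span_singleton_self g⟩
    exact h0 ((DevissLib.gm_eq_zero_iff hV x hxV g).2 ⟨a, hax, congrArg Subtype.val h1⟩)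
  obtain ⟨p, hpmin, hple⟩ := Ideal.exists_minimalPrimes_le hann
  haveI : Module.Finite A N := Module.Finite.span_of_finite A (Set.finite_singleton g)
  obtain ⟨hprime, ⟨c', hc'⟩, hp'⟩ := isAssociatedPrime_iff.mp
    (Module.associatedPrimes.minimalPrimes_annihilator_subset_associatedPrimes A N hpmin)
  obtain ⟨c, rfl⟩ := Submodule.mem_span_singleton.1 hc'
  have hp : ∀ a, a ∈ p ↔ a • (c • g) = 0 := fun a => by
    rw [hp', Submodule.mem_colon_singleton, Submodule.mem_bot, ← Subtype.coe_inj]
    rfl
  let q : PrimeSpectrum A := ⟨p, hprime⟩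
  have hηV : hV.fromSpec q ∈ V := by
    have : hV.fromSpec q ∈ Set.range hV.fromSpec := ⟨q, rfl⟩
    rwa [hV.range_fromSpec] at this
  have hq : hV.primeIdealOf ⟨hV.fromSpec q, hηV⟩ = q :=
    hV.fromSpec.isOpenEmbedding.injective (hV.fromSpec_primeIdealOf ⟨_, hηV⟩)
  set η := hV.fromSpec q with hη
  have hne : DevissLib.gm J η hηV (c • g) ≠ 0 := fun h => by
    obtain ⟨a, ha, hag⟩ := (DevissLib.gm_eq_zero_iff hV η hηV _).mp h
    rw [hq] at ha
    exact ha ((hp a).mpr hag)
  have hasso : DevissLib.Asso J η :=
    ⟨_, hne, DevissLib.maximalIdeal_smul_gm hV η hηV _ fun a ha => by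
      rw [hq] at ha
      rw [(hp a).mp ha, DevissLib.gm_zero]⟩
  have hncl : ¬ IsClosed ({η} : Set X) := fun hc => PureAssoLib.not_asso_closed hJc hJp hc hasso
  -- the stalk at `η` is a field
  let R := X.presheaf.stalk η
  have hunique : ∀ b : PrimeSpectrum R, b.asIdeal = IsLocalRing.maximalIdeal R := by
    intro b
    have hz : X.fromSpecStalk η b ⤳ η := by
      have h : X.fromSpecStalk η b ∈ Set.range (X.fromSpecStalk η) := ⟨b, rfl⟩
      rwa [Scheme.range_fromSpecStalk] at h
    by_contra hb
    have hzne : X.fromSpecStalk η b ≠ η := fun e => hb <| congrArg PrimeSpectrum.asIdeal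
      ((X.fromSpecStalk η).isEmbedding.injective (e.trans Scheme.fromSpecStalk_closedPoint.symm) :
        b = IsLocalRing.closedPoint R)
    obtain ⟨y, hxy, hyne⟩ : ∃ y, η ⤳ y ∧ y ≠ η := by
      by_contra h
      push Not at h
      refine hncl ?_
      rw [← closure_subset_iff_isClosed]
      exact fun y hy => h y (specializes_iff_mem_closure.2 hy)
    set z := X.fromSpecStalk η b
    let Cl : X → TopologicalSpace.IrreducibleCloseds X := fun w =>
      ⟨closure {w}, isIrreducible_singleton.closure, isClosed_closure⟩
    have hlt : ∀ {w w' : X}, w' ⤳ w → w ≠ w' → Cl w < Cl w' := fun {w w'} h hne' => by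
      refine lt_of_le_of_ne (closure_minimal (Set.singleton_subset_iff.2 (specializes_iff_mem_closure.1 h)) isClosed_closure) fun he => hne' ?_
      have hmem : w' ∈ closure ({w} : Set X) := by
        change w' ∈ (Cl w : Set X)
        rw [he]; exact subset_closure rfl
      exact ((specializes_iff_mem_closure.2 hmem).antisymm h).eq
    let l : LTSeries (TopologicalSpace.IrreducibleCloseds X) :=
      ((RelSeries.singleton _ (Cl y)).snoc (Cl η) (hlt hxy hyne)).snoc (Cl z)
        (by rw [RelSeries.last_snoc]; exact hlt hz hzne.symm)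
    have h3 : ((l.length : ℕ∞) : WithBot ℕ∞) ≤ ((1 : ℕ) : WithBot ℕ∞) :=
      (Order.LTSeries.length_le_krullDim l).trans hdim
    have : l.length = 2 := rfl
    rw [this] at h3
    exact absurd h3 (by norm_num)
  have hfη : X.presheaf.germ U η (hVU hηV) f = 0 := by
    have hmem : X.presheaf.germ U η (hVU hηV) f ∈ IsLocalRing.maximalIdeal R := by
      rw [IsLocalRing.mem_maximalIdeal, mem_nonunits_iff]
      exact fun hu => hf η (hVU hηV) hasso.mem_support ((X.mem_basicOpen f η (hVU hηV)).mpr hu)
    refine IsReduced.eq_zero _ ?_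
    rw [nilpotent_iff_mem_prime]
    exact fun P hP => SetLike.ext_iff.mp (hunique ⟨P, hP⟩) _ |>.mpr hmem
  refine hne ?_
  rw [DevissLib.gm_smul, DevissLib.gm_smul, hr, hfη, zero_smul, smul_zero]

end Groth.Agent.S17178
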