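import Groth.Statements.S17180
import Groth.Agent.SurfAmpleLib.Fib
import Groth.Agent.NegLib.Core
-- import your own Groth.Agent.* helpers here

set_option autoImplicit false
set_option backward.isDefEq.respectTransparency false
set_option backward.isDefEq.respectTransparency.types false
universe u
open CategoryTheory CategoryTheory.Limits AlgebraicGeometry
open Surf
open HilbPolyLib DevissLib IntMultLib IntFunLib HodgeIdxLib
open TopologicalSpace
open KFlatLib (pb)

namespace Groth.Agent.S17180

/-- Let k be a field, X an integral proper k-scheme of dimension 2 with regular local rings which is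
geometrically irreducible over k, C an integral proper smooth k-scheme of dimension 1, and f : X → C
a surjective k-morphism. Let L be an invertible O_X-module whose intersection number with every
vertical integral curve (a closed integral one-dimensional E ⊆ X sent by f to a single point) is 0,
and whose intersection number with some horizontal integral curve P (closed, integral,
one-dimensional, with f(P) not a single point) is 0. Then (L·L) ≤ 0, and if (L·L) = 0 then L is
numerically trivial: its intersection number with every closed integral curve of X is 0. Here (L·L)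
= χ(O_X) − 2χ(L) + χ(L ⊗ L) and the number with a curve Y is χ(O_Y) − χ(L ⊗ O_Y), both packaged as
FGA.intNum. (The published assertion is the positive-definiteness of the pairing −(D·D′) on classes
of divisors of degree 0 on the generic fibre modulo classes of fibre components, after tensoring
with the rationals; this row gives that content for divisor classes up to numerical equivalence,
which is what the printed argument establishes, and leaves aside the identification of the pairing
with a canonical height. The published setting also takes X to be the relatively minimal regular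
model, projective over k, of a smooth projective geometrically irreducible curve of positive genus
over the function field of C, with C projective and geometrically irreducible; this row keeps only
the hypotheses the printed argument uses.) -/
theorem result (k : Type u) [Field k]
    (X : Scheme.{u}) [X.Over (Spec (CommRingCat.of k))] [IsProper (X ↘ Spec (CommRingCat.of k))]
    [IsIntegral X] [GeometricallyIrreducible (X ↘ Spec (CommRingCat.of k))]
    (hreg : ∀ x : X, IsRegularLocalRing (X.presheaf.stalk x)) (hdim : topologicalKrullDim X = 2)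
    (C : Scheme.{u}) [C.Over (Spec (CommRingCat.of k))] [IsProper (C ↘ Spec (CommRingCat.of k))]
    [Smooth (C ↘ Spec (CommRingCat.of k))] [IsIntegral C] (hdimC : topologicalKrullDim C = 1)
    (f : X ⟶ C) [f.IsOver (Spec (CommRingCat.of k))] [Surjective f]
    (L : X.Modules) (hL : PicF.IsInvertible L)
    (hvert : ∀ (E : Scheme.{u}) (ι : E ⟶ X) [IsClosedImmersion ι] [IsIntegral E],
      topologicalKrullDim E = 1 → (Set.range (fun e : E => f (ι e))).Subsingleton →
      FGA.intNum k X 2 ![L] ((Coh.push ι).obj (Coh.structureModule E)) = 0)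
    (P : Scheme.{u}) (ιP : P ⟶ X) [IsClosedImmersion ιP] [IsIntegral P] (hP : topologicalKrullDim P = 1)
    (hPh : (Set.range (fun q : P => f (ιP q))).Nontrivial)
    (hLP : FGA.intNum k X 2 ![L] ((Coh.push ιP).obj (Coh.structureModule P)) = 0) :
    FGA.intNum k X 2 ![L, L] (Coh.structureModule X) ≤ 0 ∧
      (FGA.intNum k X 2 ![L, L] (Coh.structureModule X) = 0 →
        ∀ (Y : Scheme.{u}) (ι : Y ⟶ X) [IsClosedImmersion ι] [IsIntegral Y], topologicalKrullDim Y = 1 →
          FGA.intNum k X 2 ![L] ((Coh.push ι).obj (Coh.structureModule Y)) = 0) := by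
  classical
  haveI := CurvLib.isNoetherian k (X := X)
  haveI := CurvLib.isNoetherian k (X := C)
  have hX : topologicalKrullDim X = ((2 : ℕ) : WithBot ℕ∞) := hdim
  have hfo : f ≫ (C ↘ Spec (CommRingCat.of k)) = X ↘ Spec (CommRingCat.of k) := comp_over f _
  haveI : IsProper f := IntFunLib.isProper_of_over hfo
  -- numbers against the closed integral curves
  have key : ∀ (Y : Scheme.{u}) (ι : Y ⟶ X) [IsClosedImmersion ι] (A : X.Modules),
      FGA.intNum k X 2 ![A] ((Coh.push ι).obj (Coh.structureModule Y)) = -N k [A] (ClSub.quotMod ι.ker) := by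
    intro Y ι _ A
    have h := N_ofFn (k := k) hX.le ![A] ((Coh.push ι).obj (Coh.structureModule Y))
    rw [show List.ofFn ![A] = [A] by simp] at h
    rw [N_congr [A] (SurfNumLib.quotMod_ker_iso ι).some, h]
    ring
  have N1_zero : ∀ {A F : X.Modules}, PicF.IsInvertible A → Coh.IsCoh F →
      topologicalKrullDim (CohB1.support F) ≤ ((1 : ℕ) : WithBot ℕ∞) →
      (∀ c ∈ CohB1.support F, topologicalKrullDim (closure ({c} : Set X)) = ((1 : ℕ) : WithBot ℕ∞) →
        N k [A] (Fpt c) = 0) → N k [A] F = 0 := by
    intro A F hA hF hd h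
    rcases (CohB1.support F).eq_empty_or_nonempty with he | hne
    · refine N_low (l := [A]) (by simpa using hA) hF ?_
      rw [he]
      haveI : IsEmpty (IrreducibleCloseds (∅ : Set X)) := ⟨fun c => by
        obtain ⟨x, -⟩ := c.isIrreducible.nonempty
        exact x.2⟩
      exact (Order.krullDim_eq_bot).trans_lt (WithBot.bot_lt_coe _)
    obtain ⟨T, hT, -, hsum⟩ := N_sum (k := k) (l := [A]) (by simpa using hA) hF hne hd
    rw [hsum]
    exact Finset.sum_eq_zero fun ξ hξ => by rw [h ξ ((hT ξ).mp hξ).1 ((hT ξ).mp hξ).2, smul_zero]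
  -- vertical curves
  have hLv : ∀ c : X, topologicalKrullDim (closure ({c} : Set X)) = ((1 : ℕ) : WithBot ℕ∞) →
      (∀ x ∈ closure ({c} : Set X), f.base x = f.base c) → N k [L] (Fpt c) = 0 := by
    intro c hc hcv
    haveI := isIntegral_ptIdeal c
    have hE : topologicalKrullDim (ptIdeal c).subscheme = 1 :=
      ((ptIdeal c).subschemeι.isEmbedding.toHomeomorph.trans
        (Homeomorph.setCongr (range_ptIdeal c))).isHomeomorph.topologicalKrullDim_eq.trans (by rw [hc, Nat.cast_one])
    have h := hvert _ (ptIdeal c).subschemeι hE (by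
      rintro _ ⟨a, rfl⟩ _ ⟨b, rfl⟩
      show f.base ((ptIdeal c).subschemeι a) = f.base ((ptIdeal c).subschemeι b)
      rw [hcv _ ((range_ptIdeal c).le ⟨a, rfl⟩), hcv _ ((range_ptIdeal c).le ⟨b, rfl⟩)])
    rw [key, Scheme.IdealSheafData.ker_subschemeι] at h
    change -N k [L] (Fpt c) = 0 at h
    omega
  -- the curve P and a fibre through one of its points
  haveI : QuasiCompact ιP := inferInstance
  haveI : CompactSpace P := ιP.isClosedEmbedding.compactSpace
  obtain ⟨q, -, hq⟩ := IsClosed.exists_closed_singleton (isClosed_univ (X := P)) Set.univ_nonempty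
  have hp : IsClosed ({f.base (ιP.base q)} : Set C) := by
    have h := f.isClosedMap _ (ιP.isClosedEmbedding.isClosedMap _ hq)
    simpa [Set.image_singleton] using h
  set p : C := f.base (ιP.base q) with hpdef
  set J := (f.fiberι p).ker with hJdef
  set K := ιP.ker with hKdef
  have hJ : BlowUp.IsEffCartierIdeal J := SurfAmpleLib.isEffCartier_fibre k hdimC f hp
  have hJi := IntMultLib.isInvertible_idealMod J hJ
  obtain ⟨eF⟩ := SurfAmpleLib.nonempty_fibreIdeal_iso k hdimC f hp
  have hmem : ∀ x : X, x ∈ (J.support : Set X) ↔ f.base x = p := by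
    intro x
    rw [hJdef, SurfAmpleLib.ker_fiberι_eq f hp, Scheme.IdealSheafData.support_comap]
    change f.base x ∈ ((GenusZeroLib.ptIdeal hp).support : Set C) ↔ _
    rw [Scheme.IdealSheafData.coe_support_vanishingIdeal]
    rfl
  have hηP : ιP (genericPoint P) ∉ J.support := by
    intro h
    have hsub : ∀ z : P, f.base (ιP.base z) = p := fun z => (hmem _).mp (J.support.isClosed.closure_subset_iff.mpr
      (Set.singleton_subset_iff.mpr h) (specializes_iff_mem_closure.mp
        (((genericPoint_spec P).specializes trivial).map ιP.continuous)))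
    obtain ⟨_, ⟨a, rfl⟩, _, ⟨b, rfl⟩, hab⟩ := hPh
    exact hab (show f.base (ιP.base a) = f.base (ιP.base b) by rw [hsub a, hsub b])
  have hη : genericPoint X ∉ J.support := fun h => hηP (J.support.isClosed.closure_subset_iff.mpr
    (Set.singleton_subset_iff.mpr h) (specializes_iff_mem_closure.mp ((genericPoint_spec X).specializes trivial)))
  have hJd : topologicalKrullDim (CohB1.support (ClSub.quotMod J)) ≤ ((1 : ℕ) : WithBot ℕ∞) := by
    rw [SurfNumLib.support_quotMod_eq]
    refine IntFunLib.dim_le_iff.mp (HilbPolyLib.dim_lt_of_notMem J.support.isClosed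
      (fun x _ => specializes_iff_mem_closure.mp ((genericPoint_spec X).specializes trivial)) hη
      (Y := Set.univ) (Set.subset_univ _) (d := 2) ?_)
    rw [(Homeomorph.Set.univ _).isHomeomorph.topologicalKrullDim_eq, hX]
    exact_mod_cast Nat.lt_succ_self 2
  -- numbers against the fibre
  have hfib : ∀ {A : X.Modules}, PicF.IsInvertible A →
      (∀ c : X, topologicalKrullDim (closure ({c} : Set X)) = ((1 : ℕ) : WithBot ℕ∞) →
        (∀ x ∈ closure ({c} : Set X), f.base x = f.base c) → N k [A] (Fpt c) = 0) →
      pr k (ClSub.idealMod J) A = 0 := by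
    intro A hA h
    rw [SurfNumLib.pr_ideal J (CurvLib.isCoh_of_isInvertible hJi) hA,
      N1_zero hA (CurvLib.isCoh_quotMod J) hJd fun c hcJ hc => ?_, neg_zero]
    rw [SurfNumLib.support_quotMod_eq] at hcJ
    refine h c hc fun x hx => ?_
    rw [(hmem x).mp (J.support.isClosed.closure_subset_iff.mpr (Set.singleton_subset_iff.mpr hcJ) hx),
      (hmem c).mp hcJ]
  have hJJ : pr k (ClSub.idealMod J) (ClSub.idealMod J) = 0 := hfib hJi fun c hc hcv => by
    rw [N_congr_head eF, SurfAmpleLib.N_pb_vertical f (SurfAmpleLib.isInvertible_ptIdeal k hdimC hp) hc hcv]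
  have hJL : pr k (ClSub.idealMod J) L = 0 := hfib hL hLv
  -- the ideal of P
  have hrP : (K.support : Set X) = Set.range ιP := by
    rw [hKdef, Scheme.Hom.support_ker, ιP.isClosedEmbedding.isClosed_range.closure_eq]
  haveI : IsIntegral K.subscheme := by
    let t : P ⟶ K.subscheme := ιP.toImage
    haveI : IsIso t := inferInstanceAs (IsIso ιP.toImage)
    exact IsIntegral.of_isIso t
  have hKd : topologicalKrullDim (K.support : Set X) = 1 := by
    rw [hrP, ← hP]
    exact ιP.isEmbedding.toHomeomorph.isHomeomorph.topologicalKrullDim_eq.symm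
  have hK := SurfNumLib.isEffCartier_curve k hX hreg K hKd
  have hKi := IntMultLib.isInvertible_idealMod K hK
  have hKL : pr k (ClSub.idealMod K) L = 0 := by
    rw [SurfNumLib.pr_ideal K (CurvLib.isCoh_of_isInvertible hKi) hL, ← key P ιP L]
    exact hLP
  have hKJ : 0 < pr k (ClSub.idealMod K) (ClSub.idealMod J) := by
    rw [SurfNumLib.pr_ideal K (CurvLib.isCoh_of_isInvertible hKi) hJi]
    letI oP : P.Over (Spec (CommRingCat.of k)) := ⟨ιP ≫ (X ↘ Spec (CommRingCat.of k))⟩
    haveI : IsProper (P ↘ Spec (CommRingCat.of k)) := inferInstanceAs (IsProper (ιP ≫ (X ↘ Spec (CommRingCat.of k))))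
    have hJP := NegLib.isEffCartier_comap hJ ιP hηP
    obtain ⟨a⟩ := SymSqLib.nonempty_pb_ideal (f := ιP) (K := J) hJi (IntMultLib.isInvertible_idealMod _ hJP)
    have hneg := (NegLib.deg_idealMod (κ := k) hP hJP).2.2 ⟨q, by
      rw [Scheme.IdealSheafData.support_comap]
      exact (hmem _).mpr rfl⟩
    rw [← CurvLib.deg_congr a, Curv2.deg, Nat.cast_one, one_mul, euler_sub_eq_N] at hneg
    have h2 := N_push (k := k) (g := ιP) rfl (l := [ClSub.idealMod J]) (by simpa using hJi)
      (DevissLib.isCoh_structureModule P) ((topologicalKrullDim_subspace_le _ _).trans (by rw [hP]; simp))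
    change N k [pb ιP (ClSub.idealMod J)] (Coh.structureModule P) = _ at h2
    rw [h2, ← N_congr [ClSub.idealMod J] (SurfNumLib.quotMod_ker_iso ιP).some] at hneg
    change N k [ClSub.idealMod J] (ClSub.quotMod K) < 0 at hneg
    omega
  obtain ⟨H, hH, hHe⟩ := exists_comb (k := k) hX.le hKi hJi 1 (|pr k (ClSub.idealMod K) (ClSub.idealMod K)| + 1)
  have hLH : pr k L H = 0 := by
    rw [pr_comm, hHe L hL, hKL, hJL]; ring
  have hHH : 0 < pr k H H := by
    rw [hHe H hH, pr_comm (ClSub.idealMod K) H, pr_comm (ClSub.idealMod J) H, hHe _ hKi, hHe _ hJi, hJJ,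
      pr_comm (ClSub.idealMod J) (ClSub.idealMod K)]
    set a := pr k (ClSub.idealMod K) (ClSub.idealMod K)
    set b := pr k (ClSub.idealMod K) (ClSub.idealMod J)
    nlinarith [abs_nonneg a, neg_abs_le a, mul_nonneg (abs_nonneg a) (show (0:ℤ) ≤ b - 1 by omega)]
  rw [SurfNumLib.intNum_eq_pr_two hdim]
  refine ⟨SurfNumLib.neg_semidef hX hH hL hHH hLH, fun h0 Y ι _ _ hY => ?_⟩
  rw [key, N1_zero hL (CurvLib.isCoh_quotMod _) ?_ fun c _ hc =>
    SurfNumLib.curve_zero hX hH hL hHH hLH h0.ge hc, neg_zero]
  rw [SurfNumLib.support_quotMod_eq, Scheme.Hom.support_ker, ι.isClosedEmbedding.isClosed_range.closure_eq,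
    ← ι.isEmbedding.toHomeomorph.isHomeomorph.topologicalKrullDim_eq, hY, Nat.cast_one]

end Groth.Agent.S17180
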