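import Groth.Statements.S17181
import Mathlib
import Groth.Agent.GeomIrrLib.Basic

set_option autoImplicit false
universe u
open CategoryTheory CategoryTheory.Limits AlgebraicGeometry
open FBase

namespace Groth.Agent.S17181

open CategoryTheory CategoryTheory.Limits AlgebraicGeometry

theorem irreducible_bc {k : Type u} [Field k] {X C : Scheme.{u}} (g : C ⟶ Spec (CommRingCat.of k)) (f : X ⟶ C)
    [IrreducibleSpace C] [Nonempty X] [GeometricallyIrreducible g] [Flat f]
    [GeometricallyIrreducible (f.fiberToSpecResidueField (genericPoint C))]
    (K : Type u) [Field K] [Algebra k K] : IrreducibleSpace ↥(ConnBC.BC (f ≫ g) K) := by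
  haveI := GeomIrrLib.irreducibleSpace_bc g K
  let p := ConnBC.pr g K
  let fK := pullback.snd f p
  let ξ := genericPoint ↥(ConnBC.BC g K)
  have hξ : p ξ = genericPoint C := by
    have h := (genericPoint_spec ↥(ConnBC.BC g K)).image p.continuous
    rw [Set.image_univ, p.surjective.range_eq, closure_univ] at h
    exact h.eq (genericPoint_spec C)
  let q := (ConnBC.BC g K).fromSpecResidueField ξ
  obtain ⟨h, hh⟩ : ∃ h, h ≫ C.fromSpecResidueField (genericPoint C) = q ≫ p := by
    rw [← hξ]
    exact ⟨Spec.map (p.residueFieldMap ξ), p.SpecMap_residueFieldMap_fromSpecResidueField ξ⟩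
  haveI : IrreducibleSpace ↥(pullback fK q) := by
    have h1 : IrreducibleSpace ↥(pullback (f.fiberToSpecResidueField (genericPoint C)) h) :=
      GeometricallyIrreducible.geometrically_irreducibleSpace h _ _ (.of_hasPullback _ _)
    exact (Scheme.homeoOfIso (pullbackLeftPullbackSndIso f p q ≪≫ pullback.congrHom rfl hh.symm ≪≫
      (pullbackLeftPullbackSndIso f (C.fromSpecResidueField (genericPoint C)) h).symm)).irreducibleSpace_iff.2 h1
  have hr : Set.range (pullback.fst fK q) = fK ⁻¹' {ξ} := by
    rw [Scheme.Pullback.range_fst, Scheme.range_fromSpecResidueField]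
  have hirr : IsIrreducible (fK ⁻¹' {ξ}) := by
    rw [← hr, ← Set.image_univ]
    exact (IrreducibleSpace.isIrreducible_univ _).image _ (pullback.fst fK q).continuous.continuousOn
  have hd : closure (fK ⁻¹' {ξ}) = Set.univ := by
    refine Set.eq_univ_of_forall fun x => ?_
    have hx : ξ ⤳ fK x := (genericPoint_spec ↥(ConnBC.BC g K)).specializes trivial
    obtain ⟨y, hyx, hy⟩ := Flat.generalizingMap fK hx
    exact closure_mono (Set.singleton_subset_iff.2 (show y ∈ fK ⁻¹' {ξ} from hy)) hyx.mem_closure
  haveI : IrreducibleSpace ↥(pullback f p) := (irreducibleSpace_def _).2 (by have h9 := hirr.closure; rw [hd] at h9; exact h9)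
  exact (Scheme.homeoOfIso (pullbackRightPullbackFstIso g (Spec.map (CommRingCat.ofHom (algebraMap k K))) f)).irreducibleSpace_iff.1
    this

/-- Let k be a field, C an irreducible k-scheme which is geometrically irreducible over k, and f : X → C
a flat k-morphism locally of finite type with X irreducible. If the generic fibre of f is
geometrically irreducible over the residue field of the generic point of C, then X is geometrically
irreducible over k. (The published setting is a regular proper surface mapping onto a smooth
projective geometrically irreducible curve with smooth projective geometrically irreducible generic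
fibre; the printed argument uses only the hypotheses kept here.) -/
theorem result (k : Type u) [Field k]
    (X C : Scheme.{u}) [X.Over (Spec (CommRingCat.of k))] [C.Over (Spec (CommRingCat.of k))]
    (f : X ⟶ C) [f.IsOver (Spec (CommRingCat.of k))] [IrreducibleSpace X] [IrreducibleSpace C]
    [GeometricallyIrreducible (C ↘ Spec (CommRingCat.of k))] [Flat f] [LocallyOfFiniteType f]
    [GeometricallyIrreducible (f.fiberToSpecResidueField (genericPoint C))] :
    GeometricallyIrreducible (X ↘ Spec (CommRingCat.of k)) := by
  rw [← comp_over f (Spec (CommRingCat.of k))]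
  exact (GeomIrrLib.gi_iff_forall _).2 fun K _ _ => irreducible_bc _ f K

end Groth.Agent.S17181
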