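import Groth.Statements.S17227
import Groth.Agent.IntShAcycLib.BC
-- import your own Groth.Agent.* helpers here

set_option autoImplicit false
universe u
open IntSh

namespace Groth.Agent.S17227

open CategoryTheory CategoryTheory.Limits AlgebraicGeometry in
/-- Base change of the twisted push-forward: let π : X → Y be a projective morphism of Noetherian
schemes with X and Y connected, F a coherent O_X-module flat over Y whose support meets every fibre
of π in dimension d, h : Y' → Y a morphism from a connected Noetherian scheme Y', and X' = X ×_Y Y'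
with projections q_1 : X' → X, q_2 : X' → Y', X' being Noetherian and connected; put F' = q_1^*F
(flat over Y'). Assume that π is flat, or that Y and Y' both carry ample invertible modules. With
λ-ring models of the four K-rings of bundles, the pull-backs q_1^*, q_2^*, h^* and the push-forwards
π_*^F, q_{2*}^{F'} twisted by F and F', one has q_{2*}^{F'}(q_1^* x · q_2^* y') = h^*(π_*^F x) · y'
for all x ∈ K^•(X) and y' ∈ K^•(Y'). (The source lets X and X' be arbitrary and also states the
identity in the K-group of perfect complexes without the flatness-or-ampleness alternative; here X,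
X', Y' are taken connected so that λ-ring models exist, and only the K^•(Y') form is stated.) -/
theorem result
    {X Y : Scheme.{u}} [IsNoetherian X] [IsNoetherian Y] [ConnectedSpace X] [ConnectedSpace Y] (π : X ⟶ Y)
    (hπ : RelProj.IsProjective π) [HasInjectiveResolutions X.Modules]
    (F : X.Modules) (hF : Coh.IsCoh F) (hFf : FlatMod.IsFlatOver π F)
    (d : ℕ) (hd : ∀ y : Y, topologicalKrullDim ↥(CohB1.support F ∩ π.base ⁻¹' {y}) = d)
    (hAB : Flat π ∨ ∃ H : Y.Modules, CohB1.IsAmple H)
    (KX : Type u) [CommRing KX] [LambdaRing.LambdaOps KX] (PX : LambdaRing.PosStructure KX)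
    (φX : SGA6.Kvb X →+ KX) (hKX : KRR.IsModel X KX PX φX)
    (KY : Type u) [CommRing KY] [LambdaRing.LambdaOps KY] (PY : LambdaRing.PosStructure KY)
    (φY : SGA6.Kvb Y →+ KY) (hKY : KRR.IsModel Y KY PY φY)
    (g : KX →+ KY) (hg : KDet.IsPushF π F φX φY g)
    {X' Y' : Scheme.{u}} [IsNoetherian X'] [IsNoetherian Y'] [ConnectedSpace X'] [ConnectedSpace Y']
    (h : Y' ⟶ Y) (q₁ : X' ⟶ X) (q₂ : X' ⟶ Y') (hsq : IsPullback q₁ q₂ π h)
    [HasInjectiveResolutions X'.Modules]
    (hAB' : Flat π ∨ ((∃ H : Y.Modules, CohB1.IsAmple H) ∧ ∃ H' : Y'.Modules, CohB1.IsAmple H'))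
    (KX' : Type u) [CommRing KX'] [LambdaRing.LambdaOps KX'] (PX' : LambdaRing.PosStructure KX')
    (φX' : SGA6.Kvb X' →+ KX') (hKX' : KRR.IsModel X' KX' PX' φX')
    (KY' : Type u) [CommRing KY'] [LambdaRing.LambdaOps KY'] (PY' : LambdaRing.PosStructure KY')
    (φY' : SGA6.Kvb Y' →+ KY') (hKY' : KRR.IsModel Y' KY' PY' φY')
    (pX : KX →+ KX') (hpX : KRR.IsPull q₁ φX φX' pX)
    (pY : KY →+ KY') (hpY : KRR.IsPull h φY φY' pY)
    (pQ : KY' →+ KX') (hpQ : KRR.IsPull q₂ φY' φX' pQ)
    (g' : KX' →+ KY') (hg' : KDet.IsPushF q₂ ((Scheme.Modules.pullback q₁).obj F) φX' φY' g')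
    (x : KX) (y' : KY') :
    g' (pX x * pQ y') = pY (g x) * y' := by
  exact IntShAcyc.Setting.baseChange ⟨hπ, hF, hFf, hAB⟩ hsq hKX hKX' hKY' hg hpX hpY hpQ hg' x y'

end Groth.Agent.S17227
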