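import Groth.Statements.S1724
import Groth.Agent.LcCutLib.Main
import Groth.Agent.S0330
import Groth.Agent.CatLib.More
-- import your own Groth.Agent.* helpers here

set_option autoImplicit false
set_option maxHeartbeats 2000000
set_option backward.isDefEq.respectTransparency false
universe u
open LocCoh

namespace Groth.Agent.S1724

open TensorProduct in
/-- An order embedding with downward closed range preserves heights. -/
theorem height_eq_of_emb {α β : Type*} [PartialOrder α] [PartialOrder β] (e : α ↪o β)
    (h : ∀ (x : α) (y : β), y ≤ e x → ∃ x', e x' = y) (x : α) : Order.height (e x) = Order.height x := by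
  refine le_antisymm ?_ (Order.height_le_height_apply_of_strictMono _ e.strictMono x)
  refine Order.height_le fun s hs => ?_
  choose g hg using fun i => h x (s i) (hs ▸ s.monotone (Fin.le_last i))
  let t : LTSeries α := ⟨s.length, g, fun i => e.lt_iff_lt.1 (by rw [hg, hg]; exact s.step i)⟩
  exact Order.length_le_height (p := t) (e.le_iff_le.1 (le_of_eq ((hg _).trans hs)))

open TensorProduct in
/-- The terms of the cutoff at a prime. -/
theorem term_eq {A : Type u} [CommRing A] [IsNoetherianRing A] (I : Ideal A) (M : Type u) [AddCommGroup M] [Module A M]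
    [Module.Finite A M] (r : Ideal A) [r.IsPrime] (P Q : PrimeSpectrum (Localization.AtPrime r)) (hPQ : P ≤ Q) :
    LocCoh.depth (Localization.AtPrime P.asIdeal)
        (LocalizedModule P.asIdeal.primeCompl (Localization.AtPrime r ⊗[A] M)) +
      Order.height (⟨Q, hPQ⟩ : Set.Ici P) =
    LocCoh.depth (Localization.AtPrime (P.asIdeal.comap (algebraMap A (Localization.AtPrime r))))
        (LocalizedModule (P.asIdeal.comap (algebraMap A (Localization.AtPrime r))).primeCompl M) +
      Order.height (⟨PrimeSpectrum.comap (algebraMap A (Localization.AtPrime r)) Q, Ideal.comap_mono hPQ⟩ :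
        Set.Ici (PrimeSpectrum.comap (algebraMap A (Localization.AtPrime r)) P)) := by
  congr 1
  · let S := Localization.AtPrime P.asIdeal
    let p := P.asIdeal.comap (algebraMap A (Localization.AtPrime r))
    haveI : IsLocalization.AtPrime S p :=
      IsLocalization.isLocalization_isLocalization_atPrime_isLocalization r.primeCompl (T := S) P.asIdeal
    have hf : IsLocalizedModule p.primeCompl
        (((LocalizedModule.mkLinearMap P.asIdeal.primeCompl (Localization.AtPrime r ⊗[A] M)).restrictScalars A).comp
          (TensorProduct.mk A (Localization.AtPrime r) M 1)) := by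
      rw [isLocalizedModule_iff_isBaseChange p.primeCompl S]
      exact (TensorProduct.isBaseChange A M (Localization.AtPrime r)).comp
        (IsLocalizedModule.isBaseChange P.asIdeal.primeCompl S _)
    exact (SkOpenLib.eq_of_isLocalizedModule p S
      (((LocalizedModule.mkLinearMap P.asIdeal.primeCompl (Localization.AtPrime r ⊗[A] M)).restrictScalars A).comp
        (TensorProduct.mk A (Localization.AtPrime r) M 1))).2
  · let e := CatLib.locEmb r.primeCompl (Localization.AtPrime r)
    let E : Set.Ici P ↪o Set.Ici (PrimeSpectrum.comap (algebraMap A (Localization.AtPrime r)) P) :=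
      OrderEmbedding.ofMapLEIff (fun x => ⟨e x.1, e.monotone x.2⟩) fun _ _ => e.le_iff_le
    refine (height_eq_of_emb E (fun x y hy => ?_) ⟨Q, hPQ⟩).symm
    obtain ⟨z, hz⟩ : y.1 ∈ Set.range e := by
      have hr : e x.1 ∈ Set.range e := ⟨_, rfl⟩
      rw [CatLib.range_locEmb] at hr ⊢
      exact Set.disjoint_left.2 fun a ha hay => Set.disjoint_left.1 hr ha ((show y.1 ≤ e x.1 from hy) hay)
    exact ⟨⟨z, e.le_iff_le.1 (le_of_le_of_eq (show e P ≤ y.1 from y.2) hz.symm)⟩, Subtype.ext hz⟩

open TensorProduct in
/-- Localising cannot decrease the cutoff. -/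
theorem cutoff_le_loc {A : Type u} [CommRing A] [IsNoetherianRing A] (I : Ideal A) (M : Type u) [AddCommGroup M]
    [Module A M] [Module.Finite A M] (r : Ideal A) [r.IsPrime] :
    Dual2.cutoff A I M ≤ Dual2.cutoff (Localization.AtPrime r) (I.map (algebraMap A (Localization.AtPrime r)))
      (Localization.AtPrime r ⊗[A] M) := by
  refine LcCutLib.le_cutoff fun P Q hPQ hP hQ => ?_
  rw [term_eq I M r P Q hPQ]
  exact LcCutLib.cutoff_le_term I M (p := PrimeSpectrum.comap (algebraMap A (Localization.AtPrime r)) P)
    (q := PrimeSpectrum.comap (algebraMap A (Localization.AtPrime r)) Q) (Ideal.comap_mono hPQ)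
    (fun h => hP (Ideal.map_le_iff_le_comap.2 h)) (Ideal.map_le_iff_le_comap.1 hQ)

open TensorProduct in
/-- Finiteness of local cohomology localises. -/
theorem finite_loc_iff {A : Type u} [CommRing A] [IsNoetherianRing A] (I : Ideal A) (M : Type u) [AddCommGroup M]
    [Module A M] (r : Ideal A) [r.IsPrime] (i : ℕ) :
    Module.Finite (Localization.AtPrime r) (LocalizedModule r.primeCompl (LocCoh.H I i M)) ↔
      Module.Finite (Localization.AtPrime r)
        (LocCoh.H (I.map (algebraMap A (Localization.AtPrime r))) i (Localization.AtPrime r ⊗[A] M)) := by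
  exact Module.Finite.equiv_iff ((IsLocalizedModule.isBaseChange r.primeCompl (Localization.AtPrime r)
    (LocalizedModule.mkLinearMap r.primeCompl (LocCoh.H I i M))).equiv.symm.trans (LocCohLib.tensLcEquiv I M i))


/-- Let A be a universally catenary Noetherian ring such that the formal fibres of all local rings A_q
are Cohen–Macaulay, I an ideal, M a finite A-module and s = s_{A,I}(M) (the infimum of depth(M_p) +
dim((A/p)_q) over primes p ⊆ q with q ⊇ I and p ⊉ I). Then H^i_I(M) is a finite A-module for every i
< s, and if s is finite then H^s_I(M) is not a finite A-module. -/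
theorem result (A : Type u) [CommRing A] [IsNoetherianRing A] (hA : CAlg.IsUniversallyCatenary A) (hF : ∀ q : PrimeSpectrum A, EGA4.HasCMFormalFibres (Localization.AtPrime q.asIdeal)) (I : Ideal A) (M : Type u) [AddCommGroup M] [Module A M] [Module.Finite A M] : (∀ i : ℕ, (i : ℕ∞) < Dual2.cutoff A I M → Module.Finite A (LocCoh.H I i M)) ∧ ∀ s : ℕ, Dual2.cutoff A I M = s → ¬ Module.Finite A (LocCoh.H I s M) := by
  have hloc : ∀ (r : Ideal A) [r.IsPrime] (i : ℕ),
      (∀ j, j ≤ i → Module.Finite (Localization.AtPrime r) (LocalizedModule r.primeCompl (LocCoh.H I j M))) ↔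
        (i : ℕ∞) < Dual2.cutoff (Localization.AtPrime r) (I.map (algebraMap A (Localization.AtPrime r)))
          (TensorProduct A (Localization.AtPrime r) M) := fun r _ i => by
    haveI : IsNoetherianRing (Localization.AtPrime r) := IsLocalization.isNoetherianRing r.primeCompl _ inferInstance
    simp only [finite_loc_iff]
    exact LcCutLib.finite_iff_lt_cutoff (CatLib.isUniversallyCatenary_of_isLocalization r.primeCompl _ hA)
      (hF ⟨r, inferInstance⟩) _ _ i
  refine ⟨fun i hi => ?_, fun s hs hfin => ?_⟩
  · exact (Groth.Agent.S0330.result A I M i).2 (fun r _ => (hloc r i).2 (lt_of_lt_of_le hi (cutoff_le_loc I M r))) i le_rfl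
  have hle : ∀ j, j ≤ s → Module.Finite A (LocCoh.H I j M) := by
    intro j hj
    rcases hj.lt_or_eq with h | rfl
    · exact (Groth.Agent.S0330.result A I M j).2 (fun r _ => (hloc r j).2
        (lt_of_lt_of_le (hs ▸ (by exact_mod_cast h : (j : ℕ∞) < (s : ℕ∞))) (cutoff_le_loc I M r))) j le_rfl
    · exact hfin
  have key : (((s + 1 : ℕ) : ℕ∞)) ≤ Dual2.cutoff A I M := LcCutLib.le_cutoff fun p q hpq hp hq => by
    obtain ⟨P, hP⟩ : p ∈ Set.range (CatLib.locEmb q.asIdeal.primeCompl (Localization.AtPrime q.asIdeal)) := by
      rw [CatLib.range_locEmb]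
      exact Set.disjoint_left.2 fun a ha hap => ha (hpq hap)
    obtain ⟨Q, hQ⟩ : q ∈ Set.range (CatLib.locEmb q.asIdeal.primeCompl (Localization.AtPrime q.asIdeal)) := by
      rw [CatLib.range_locEmb]
      exact Set.disjoint_left.2 fun a ha hap => ha hap
    subst hP
    have hPQ : P ≤ Q := (CatLib.locEmb q.asIdeal.primeCompl (Localization.AtPrime q.asIdeal)).le_iff_le.1
      (hpq.trans hQ.ge)
    have h1 := lt_of_lt_of_le ((hloc q.asIdeal s).1 fun j hj => (Groth.Agent.S0330.result A I M s).1 hle q.asIdeal j hj)
      (LcCutLib.cutoff_le_term _ _ hPQ (fun h => hp (Ideal.map_le_iff_le_comap.1 h))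
        (Ideal.map_le_iff_le_comap.2 (hq.trans (congrArg PrimeSpectrum.asIdeal hQ).ge)))
    rw [term_eq I M q.asIdeal P Q hPQ] at h1
    rw [Nat.cast_add, Nat.cast_one]
    refine Order.add_one_le_of_lt (lt_of_lt_of_le h1 (add_le_add le_rfl (le_of_eq ?_)))
    congr 1
    exact Subtype.ext hQ
  rw [hs] at key
  exact absurd (show s + 1 ≤ s by exact_mod_cast key) (by omega)

end Groth.Agent.S1724
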