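import Groth.Statements.S17244
import Groth.Agent.PolarLib.Weights

set_option autoImplicit false
open W4c4effdivwronsk2

namespace Groth.Agent.S17244

open Groth.Agent.PolarLib

open Polynomial in
/-- Let `k` be a field of characteristic zero and take, on the projective line over `k`, the point `∞`
and `m` further distinct points `r_1, …, r_m` of the affine line, with positive integers `b` (at
`∞`) and `a_1, …, a_m`; put `N = b + ∑ a_j`. The sum of the spaces of differentials with a single
pole, of order at most `b + 1` at `∞`, resp. at most `a_j + 1` at `r_j`, `V = H⁰(ω((b+1)∞)) + ∑_j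
H⁰(ω((a_j+1)r_j)) ⊆ H⁰(ω((b+1)∞ + ∑_j (a_j+1)r_j)) ≅ H⁰(O(d))`, `d = b - 1 + ∑ (a_j+1)`, becomes,
after multiplying by `dX⁻¹ ∏_j (X - r_j)^(a_j+1)`, the subspace of `k[X]_{≤ d}` spanned by
`D·k[X]_{<b}` and the `D_i·k[X]_{<a_i}`, where `D = ∏_j (X - r_j)^(a_j+1)` and `D_i` omits the
`i`-th factor; a member `h` vanishes to order `n` at a point `q` of the affine line when `(X - q)^n
∣ h`, and to order `d - deg h` at `∞`. Let `V₁ ⊆ V` be a hyperplane (`dim V₁ = N - 1`) containing
`D·k[X]_{<b-2}` and every `D_i·k[X]_{<a_i}` (that is, containing `H⁰(ω((b-1)∞)) + ∑_j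
H⁰(ω((a_j+1)r_j))`). The weight of `V₁` at a point is `∑_{n=1}^{d} dim V₁(-n·point) - (N-1 choose
2)` (the sum of the vanishing orders minus `0 + 1 + ⋯ + (N-2)`). Then the weight of `V₁` at `r_i` is
`∑_{j≠i} a_j + b - 1 + ε_i` and its weight at `∞` is `∑_j a_j + N - 2 + ε`, with `ε_i, ε ∈ {0, 1}`.
(The published statement is over the complex numbers with the distinguished marked point arbitrary;
it is placed at `∞` here.) -/
theorem result
    (k : Type*) [Field k] [CharZero k] (m : ℕ) (r : Fin m → k) (hr : Function.Injective r)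
    (a : Fin m → ℕ) (ha : ∀ j, 1 ≤ a j) (b : ℕ) (hb : 1 ≤ b) (N d : ℕ)
    (hN : N = (∑ j, a j) + b) (hd : d + 1 = (∑ j, (a j + 1)) + b)
    (V : Submodule k (Polynomial k))
    (hV : V = (Polynomial.degreeLT k b).map (LinearMap.mulLeft k (∏ j, (X - C (r j)) ^ (a j + 1))) ⊔
      ⨆ i, (Polynomial.degreeLT k (a i)).map
        (LinearMap.mulLeft k (∏ j ∈ Finset.univ.erase i, (X - C (r j)) ^ (a j + 1))))
    (V₁ : Submodule k (Polynomial k)) (hV₁ : V₁ ≤ V) (hfin : Module.finrank k ↥V₁ + 1 = N)
    (hU : (Polynomial.degreeLT k (b - 2)).map (LinearMap.mulLeft k (∏ j, (X - C (r j)) ^ (a j + 1))) ⊔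
      (⨆ i, (Polynomial.degreeLT k (a i)).map
        (LinearMap.mulLeft k (∏ j ∈ Finset.univ.erase i, (X - C (r j)) ^ (a j + 1)))) ≤ V₁) :
    (∀ i : Fin m, ∃ ε : ℕ, ε ≤ 1 ∧
      (∑ n ∈ Finset.range d, Module.finrank k ↥(V₁ ⊓ (Ideal.span {(X - C (r i)) ^ (n + 1)}).restrictScalars k)) + 1 =
        (N - 1).choose 2 + (N - a i) + ε) ∧
    (∃ ε : ℕ, ε ≤ 1 ∧
      (∑ n ∈ Finset.range d, Module.finrank k ↥(V₁ ⊓ Polynomial.degreeLT k (d - n))) =
        (N - 1).choose 2 + (N - b) + (N - 2) + ε) := by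
  obtain rfl : V = Vsp r a b := hV
  replace hU : Vsp r a (b - 2) ≤ V₁ := hU
  haveI := finite_Vsp' a hr b
  have hN0 : 1 ≤ N := by omega
  have hdd : d + 1 = N + m := by rw [hd, hN, Finset.sum_add_distrib]; simp; omega
  have hVN : Module.finrank k (Vsp r a b) = N := (finrank_Vsp a hr b).trans hN.symm
  have hnle : ¬Vsp r a b ≤ V₁ := fun h => by
    rw [le_antisymm hV₁ h] at hfin; omega
  refine ⟨fun i => ?_, ?_⟩
  · have hai : a i ≤ ∑ j, a j := Finset.single_le_sum (fun j _ => Nat.zero_le _) (Finset.mem_univ i)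
    have hm : 0 < m := i.pos
    obtain ⟨ε, hε, h⟩ := hyperplane_weight (e := a i) (d := d) (Vsp r a b) V₁
      (fun n => Vsp r a b ⊓ (Ideal.span {(X - C (r i)) ^ n}).restrictScalars k)
      (fun n n' hnn => inf_le_inf_left _ (Submodule.restrictScalars_mono k
        (Ideal.span_singleton_le_span_singleton.mpr (pow_dvd_pow _ hnn))))
      (fun n => inf_le_left) hV₁ hVN hfin
      (fun n => by rw [finrank_Vsp_root a hr b i n, ← hN])
      (by omega) (by omega) (fun _ => by omega)
      (not_root_le_of_U a hr hN hN0 hU hnle i)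
    refine ⟨ε, hε, ?_⟩
    rw [← h]
    refine congrArg (· + 1) (Finset.sum_congr rfl fun n _ => ?_)
    rw [← inf_assoc, inf_eq_left.mpr hV₁]
  · rcases d with _ | d'
    · obtain rfl : N = 1 := by
        by_contra hne
        have : m = 0 := by omega
        omega
      refine ⟨0, Nat.zero_le _, ?_⟩
      simp; omega
    have hhigh : ∀ n, 2 ≤ n → Module.finrank k ↥(V₁ ⊓ Polynomial.degreeLT k (N + m - n))
        = if n ≤ b then N - n else N + 1 - n := fun n hn => by
      have h := finrank_Vsp_infty a hr b n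
      rw [Fintype.card_fin, ← hN] at h
      rw [← h, ← inf_eq_left.mpr hV₁, inf_assoc]
      refine congrArg (fun S : Submodule k k[X] => Module.finrank k ↥S) (inf_eq_right.mpr ?_)
      have h2 := Vsp_inf_infty a hr b n
      rw [Fintype.card_fin, ← hN] at h2
      rw [h2, Submodule.map_le_iff_le_comap]
      exact fun G hG => hU (T_mem_U a hr hN (Polynomial.degreeLT_mono (by omega) hG))
    have h1le : Module.finrank k ↥(V₁ ⊓ Polynomial.degreeLT k (d' + 1)) + 1 ≤ N := by
      haveI : Module.Finite k V₁ := Submodule.finiteDimensional_of_le hV₁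
      have := Submodule.finrank_mono (inf_le_left : V₁ ⊓ Polynomial.degreeLT k (d' + 1) ≤ V₁)
      omega
    have hfull : Module.finrank k ↥(Vsp r a b ⊓ Polynomial.degreeLT k (d' + 1)) + 1 = N := by
      have h := finrank_Vsp_infty a hr b 1
      rw [Fintype.card_fin, ← hN, show N + m - 1 = d' + 1 by omega, if_pos hb] at h
      omega
    have h1ge : N ≤ Module.finrank k ↥(V₁ ⊓ Polynomial.degreeLT k (d' + 1)) + 2 := by
      haveI : Module.Finite k V₁ := Submodule.finiteDimensional_of_le hV₁
      haveI : Module.Finite k ↥(Vsp r a b ⊓ Polynomial.degreeLT k (d' + 1)) :=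
        Submodule.finiteDimensional_inf_left _ _
      have h := Submodule.finrank_sup_add_finrank_inf_eq V₁
        (Vsp r a b ⊓ Polynomial.degreeLT k (d' + 1))
      have h' := Submodule.finrank_mono (sup_le hV₁ inf_le_left :
        V₁ ⊔ Vsp r a b ⊓ Polynomial.degreeLT k (d' + 1) ≤ Vsp r a b)
      rw [← inf_assoc, inf_eq_left.mpr hV₁] at h
      omega
    refine ⟨Module.finrank k ↥(V₁ ⊓ Polynomial.degreeLT k (d' + 1)) - (N - 2), by omega, ?_⟩
    have hm : b < N → 0 < m := fun h => by
      by_contra hm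
      obtain rfl : m = 0 := by omega
      simp at hN; omega
    have hlast : (if d' + 1 + 1 ≤ b then N - (d' + 1 + 1) else N + 1 - (d' + 1 + 1)) = 0 := by
      have hb_le : b ≤ N := by omega
      rcases hb_le.eq_or_lt with h | h
      · split_ifs <;> omega
      · have := hm h
        split_ifs <;> omega
    have htot := sum_orders (N := N) (e := b) (d := N + m) (by omega) (Nat.le_add_right _ _)
    rw [show N + m = d' + 1 + 1 by omega, Finset.sum_range_succ,
      hlast, add_zero, Finset.sum_range_succ', if_pos hb] at htot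
    have hsum : ∀ n ∈ Finset.range d',
        Module.finrank k ↥(V₁ ⊓ Polynomial.degreeLT k (d' + 1 - (n + 1)))
          = if n + 1 + 1 ≤ b then N - (n + 1 + 1) else N + 1 - (n + 1 + 1) := fun n _ => by
      rw [← hhigh (n + 1 + 1) (by omega)]
      rw [show d' + 1 - (n + 1) = N + m - (n + 1 + 1) by omega]
    rw [Finset.sum_range_succ', Finset.sum_congr rfl hsum, Nat.sub_zero]
    obtain ⟨M, rfl⟩ : ∃ M, N = M + 1 := ⟨N - 1, by omega⟩
    rw [Nat.choose_succ_succ, Nat.choose_one_right] at htot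
    simp only [Nat.reduceSucc, Nat.add_sub_cancel] at htot ⊢
    omega

end Groth.Agent.S17244
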