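import Groth.Statements.S17246
import Groth.Agent.PolarLib.Weights

set_option autoImplicit false
open W4c4effdivwronsk2

namespace Groth.Agent.S17246

open Groth.Agent.PolarLib

open Polynomial in
/-- Let `k` be a field of characteristic zero and take, on the projective line over `k`, the point `∞`
and `m` further distinct points `r_1, …, r_m` of the affine line, with positive integers `b` (at
`∞`) and `a_1, …, a_m`; put `N = b + ∑ a_j`. The sum of the spaces of differentials with a single
pole, of order at most `b + 1` at `∞`, resp. at most `a_j + 1` at `r_j`, `V = H⁰(ω((b+1)∞)) + ∑_j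
H⁰(ω((a_j+1)r_j)) ⊆ H⁰(ω((b+1)∞ + ∑_j (a_j+1)r_j)) ≅ H⁰(O(d))`, `d = b - 1 + ∑ (a_j+1)`, becomes,
after multiplying by `dX⁻¹ ∏_j (X - r_j)^(a_j+1)`, the subspace of `k[X]_{≤ d}` spanned by
`D·k[X]_{<b}` and the `D_i·k[X]_{<a_i}`, where `D = ∏_j (X - r_j)^(a_j+1)` and `D_i` omits the
`i`-th factor; a member `h` vanishes to order `n` at a point `q` of the affine line when `(X - q)^n
∣ h`, and to order `d - deg h` at `∞`. Let `p` be a further point of the affine line, distinct from
the `r_j`, and `V₁ = V(-p)` the members divisible by `X - p` (an `(N-1)`-dimensional system in the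
line bundle twisted down by `p`, with vanishing orders at the marked points read off as for `V`).
With the weight of `V₁` at a marked point defined as `∑_{n=1}^{d} dim V₁(-n·point) - (N-1 choose
2)`: the weight at `r_i` is `∑_{j≠i} a_j + b - 1 + ε_i` and the weight at `∞` is `∑_j a_j - 1 + ε`,
with all `ε` in `{0, 1}`. (The published statement is over the complex numbers with all points
arbitrary; one marked point is placed at `∞` here and `p` is taken distinct from the marked points.) -/
theorem result
    (k : Type*) [Field k] [CharZero k] (m : ℕ) (r : Fin m → k) (hr : Function.Injective r)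
    (a : Fin m → ℕ) (ha : ∀ j, 1 ≤ a j) (b : ℕ) (hb : 1 ≤ b) (N d : ℕ)
    (hN : N = (∑ j, a j) + b) (hd : d + 1 = (∑ j, (a j + 1)) + b)
    (V : Submodule k (Polynomial k))
    (hV : V = (Polynomial.degreeLT k b).map (LinearMap.mulLeft k (∏ j, (X - C (r j)) ^ (a j + 1))) ⊔
      ⨆ i, (Polynomial.degreeLT k (a i)).map
        (LinearMap.mulLeft k (∏ j ∈ Finset.univ.erase i, (X - C (r j)) ^ (a j + 1))))
    (p : k) (hp : ∀ j, p ≠ r j) (V₁ : Submodule k (Polynomial k))
    (hV₁ : V₁ = V ⊓ (Ideal.span {X - C p}).restrictScalars k) :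
    (∀ i : Fin m, ∃ ε : ℕ, ε ≤ 1 ∧
      (∑ n ∈ Finset.range d, Module.finrank k ↥(V₁ ⊓ (Ideal.span {(X - C (r i)) ^ (n + 1)}).restrictScalars k)) + 1 =
        (N - 1).choose 2 + (N - a i) + ε) ∧
    (∃ ε : ℕ, ε ≤ 1 ∧
      (∑ n ∈ Finset.range d, Module.finrank k ↥(V₁ ⊓ Polynomial.degreeLT k (d - n))) + 1 =
        (N - 1).choose 2 + (N - b) + ε) := by
  obtain rfl : V = Vsp r a b := hV
  subst hV₁
  haveI := finite_Vsp' a hr b
  have hN0 : 1 ≤ N := by omega
  have hdd : d + 1 = N + m := by rw [hd, hN, Finset.sum_add_distrib]; simp; omega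
  have hfin := finrank_Hp a hr hN hN0 hp
  have hVN : Module.finrank k (Vsp r a b) = N := (finrank_Vsp a hr b).trans hN.symm
  refine ⟨fun i => ?_, ?_⟩
  · have hai : a i ≤ ∑ j, a j := Finset.single_le_sum (fun j _ => Nat.zero_le _) (Finset.mem_univ i)
    have hm : 0 < m := i.pos
    obtain ⟨ε, hε, h⟩ := hyperplane_weight (e := a i) (d := d) (Vsp r a b) _
      (fun n => Vsp r a b ⊓ (Ideal.span {(X - C (r i)) ^ n}).restrictScalars k)
      (fun n n' hnn => inf_le_inf_left _ (Submodule.restrictScalars_mono k
        (Ideal.span_singleton_le_span_singleton.mpr (pow_dvd_pow _ hnn))))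
      (fun n => inf_le_left) inf_le_left hVN hfin
      (fun n => by rw [finrank_Vsp_root a hr b i n, ← hN])
      (by omega) (by omega) (fun _ => by omega)
      (not_root_le_Hp a hr hN (by have := ha i; omega) hp i)
    refine ⟨ε, hε, ?_⟩
    rw [← h]
    refine congrArg (· + 1) (Finset.sum_congr rfl fun n _ => ?_)
    rw [← inf_assoc, inf_eq_left.mpr (inf_le_left : Vsp r a b ⊓ (Ideal.span {X - C p}).restrictScalars k ≤ Vsp r a b)]
  · have hb' : b < N → 0 < m := fun h => by
      by_contra hm
      obtain rfl : m = 0 := by omega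
      simp at hN; omega
    obtain ⟨ε, hε, h⟩ := hyperplane_weight (e := b) (d := d) (Vsp r a b) _
      (fun n => Vsp r a b ⊓ Polynomial.degreeLT k (N + m - n))
      (fun n n' hnn => inf_le_inf_left _ (Polynomial.degreeLT_mono (by omega)))
      (fun n => inf_le_left) inf_le_left hVN hfin
      (fun n => by
        have h := finrank_Vsp_infty a hr b n
        rw [Fintype.card_fin, ← hN] at h
        exact h)
      (by omega) (by omega) (fun hlt => by have := hb' hlt; omega)
      (by
        have h := not_infty_le_Hp a hr hN hN0 hp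
        rwa [Fintype.card_fin] at h)
    refine ⟨ε, hε, ?_⟩
    rw [← h]
    refine congrArg (· + 1) (Finset.sum_congr rfl fun n _ => ?_)
    rw [← inf_assoc, inf_eq_left.mpr (inf_le_left : Vsp r a b ⊓ (Ideal.span {X - C p}).restrictScalars k ≤ Vsp r a b), show d - n = N + m - (n + 1) by omega]

end Groth.Agent.S17246
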