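import Groth.Statements.S17247
import Groth.Agent.GeomFFLib.AlgExt
import Groth.Agent.FFLib.RR
-- import your own Groth.Agent.* helpers here

set_option autoImplicit false
open FunFld

namespace Groth.Agent.S17247

theorem sum_range_sub (m r : ℕ) : ∑ i ∈ Finset.range (m + r), (m - i) = (m + 1).choose 2 := by
  induction m with
  | zero => simp
  | succ m ih =>
    rw [show m + 1 + r = m + r + 1 by omega, Finset.sum_range_succ',
      show (m + 1 + 1).choose 2 = (m + 1) + (m + 1).choose 2 by rw [Nat.choose_succ_succ', Nat.choose_one_right]]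
    simp only [Nat.sub_zero, Nat.succ_sub_succ_eq_sub]
    rw [ih]
    omega

/-- Let `K/k` be a function field of one variable of genus one over an algebraically closed field `k` of
characteristic zero (an elliptic curve `E`), `A` a place, and `g ≥ 3` an odd integer. Inside
`H⁰(O_E((2g-2)A)) = L((2g-2)A)` consider `V = L(gA)` (dimension `g`) and any hyperplane `V₁` of it
containing `L((g-2)A)`: `L((g-2)A) ⊆ V₁ ⊆ L(gA)`, `dim V₁ = g - 1`. Vanishing orders are those of
sections of `O_E((2g-2)A)`: a member `f` vanishes to order at least `n` at a place `Q` when `f ∈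
L((2g-2)A - nQ)`, and the weight of `V₁` at `Q` is `∑_{n=1}^{2g-2} dim (V₁ ∩ L((2g-2)A - nQ)) - (g-1
choose 2)` (the sum of the `g - 1` vanishing orders minus `0 + 1 + ⋯ + (g-2)`). Then the weight of
`V₁` at every place `Q ≠ A` is at most `2`. (The published statement is for a smooth elliptic curve
over the complex numbers and allows every odd positive `g`; for `g = 1` the inclusion `O(gA) ⊆
O((2g-2)A)` it uses fails, so `g ≥ 3` here.) -/
theorem result
    (k K : Type*) [Field k] [IsAlgClosed k] [CharZero k] [Field K] [Algebra k K]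
    (hK : FunFld.IsFunctionField k K) (hg1 : FunFld.genus k K = 1)
    (g : ℕ) (hodd : Odd g) (h3 : 3 ≤ g) (A : FunFld.Place k K)
    (V₁ : Submodule k K) (hlo : FunFld.L (Finsupp.single A ((g : ℤ) - 2)) ≤ V₁)
    (hhi : V₁ ≤ FunFld.L (Finsupp.single A (g : ℤ))) (hdim : Module.finrank k ↥V₁ + 1 = g)
    (Q : FunFld.Place k K) (hQ : Q ≠ A) :
    (∑ n ∈ Finset.range (2 * g - 2), Module.finrank k
        ↥(V₁ ⊓ FunFld.L (Finsupp.single A (2 * (g : ℤ) - 2) - Finsupp.single Q ((n : ℤ) + 1)))) ≤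
      (g - 1).choose 2 + 2 := by
  classical
  open Groth.Agent.FFLib Groth.Agent.GeomFFLib in
  have hd1 : ∀ P : Place k K, P.deg = 1 := fun P => deg_eq_one_of_isAlgClosed hK.1 P
  have hdeg : ∀ a n : ℤ, Divisor.deg (Finsupp.single A a - Finsupp.single Q n : Divisor k K) = a - n := fun a n => by
    rw [deg_sub, deg_single, deg_single, hd1, hd1, Nat.cast_one, mul_one, mul_one]
  set D : ℤ → ℤ → Divisor k K := fun a n => Finsupp.single A a - Finsupp.single Q n with hD
  have hDA : ∀ a n, D a n A = a := fun a n => by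
    simp [hD, Finsupp.single_eq_of_ne hQ, Finsupp.single_eq_of_ne (Ne.symm hQ)]
  have hDQ : ∀ a n, D a n Q = -n := fun a n => by
    simp [hD, Finsupp.single_eq_of_ne hQ, Finsupp.single_eq_of_ne (Ne.symm hQ)]
  have hDo : ∀ a n R, R ≠ A → R ≠ Q → D a n R = 0 := fun a n R h1 h2 => by
    simp [hD, Finsupp.single_eq_of_ne h1, Finsupp.single_eq_of_ne h2]
  have hell : ∀ a n : ℤ, 1 ≤ a - n → (ell (D a n) : ℤ) = a - n := fun a n h => by
    rw [ell_eq_of_deg_ge hK (by rw [hg1, hdeg]; push_cast; omega), hdeg, hg1]; push_cast; ring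
  have hmono : ∀ a a' n n' : ℤ, a ≤ a' → n' ≤ n → L (D a n) ≤ L (D a' n') := by
    intro a a' n n' ha hn f hf R
    refine (hf R).trans (WithZero.exp_le_exp.2 ?_)
    rcases eq_or_ne R A with rfl | h1
    · rw [hDA, hDA]; exact ha
    rcases eq_or_ne R Q with rfl | h2
    · rw [hDQ, hDQ]; omega
    rw [hDo _ _ R h1 h2, hDo _ _ R h1 h2]
  have hfd : ∀ a n, FiniteDimensional k (L (D a n)) := fun a n => finiteDimensional_L hK.1 _
  have hle0 : ∀ a n : ℤ, a - n ≤ 0 → ell (D a n) ≤ 1 := fun a n h => by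
    have h1 := hell (n + 1) n (by omega)
    have h2 : ell (D a n) ≤ ell (D (n + 1) n) := Submodule.finrank_mono (hmono _ _ _ _ (by omega) le_rfl)
    omega
  have hneg : ∀ a n : ℤ, a - n < 0 → ell (D a n) = 0 := fun a n h =>
    ell_eq_zero_of_deg_neg hK.1 (by rw [hdeg]; exact h)
  have htop : ∀ a : ℤ, L (D a 0) = L (Finsupp.single A a) := fun a => by simp [hD]
  rw [← htop] at hlo hhi
  have hfdV : FiniteDimensional k V₁ := Submodule.finiteDimensional_of_le hhi
  set a : ℕ → ℕ := fun n => Module.finrank k ↥(V₁ ⊓ L (D g n)) with ha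
  have haeq : ∀ n : ℕ, Module.finrank k ↥(V₁ ⊓ L (Finsupp.single A (2 * (g : ℤ) - 2) - Finsupp.single Q ((n : ℤ) + 1)))
      ≤ a (n + 1) := fun n => by
    refine Submodule.finrank_mono fun f hf => ⟨hf.1, fun R => ?_⟩
    have h1 := hhi hf.1 R
    have h2 : R.1 f ≤ WithZero.exp (D (2 * (g : ℤ) - 2) ((n : ℤ) + 1) R) := hf.2 R
    rcases eq_or_ne R A with rfl | hRA
    · rwa [hDA] at h1 ⊢
    rcases eq_or_ne R Q with rfl | hRQ
    · rw [hDQ] at h2 ⊢; exact_mod_cast h2
    rwa [hDo _ _ R hRA hRQ] at h2 ⊢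
  have hale : ∀ n, a n ≤ ell (D g n) := fun n => Submodule.finrank_mono inf_le_right
  have hin : ∀ n : ℕ, a n = ell (D g n) → L (D g n) ≤ V₁ := fun n h => by
    have := Submodule.eq_of_le_of_finrank_eq (inf_le_right : V₁ ⊓ L (D g n) ≤ L (D g n)) h
    exact this ▸ inf_le_left
  -- an element of degree-zero divisor spaces
  have hz : ∀ a n : ℤ, a = n → ∀ f ∈ L (D a n), f ≠ 0 → ∀ R, R.ord f = -(D a n R) := by
    intro a n han f hf hf0 R
    have hnn : 0 ≤ FunFld.div k f + D a n := fun R => by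
      have := (mem_L_iff hf0).1 hf R
      rw [Finsupp.add_apply, div_apply hK.1]
      simpa using this
    have h0 := eq_zero_of_deg_eq_zero hK hnn (by rw [deg_add, deg_div hK.1, hdeg]; omega)
    have h1 := congrArg (fun E : Divisor k K => E R) h0
    simp only [Finsupp.add_apply, div_apply hK.1, Finsupp.zero_apply] at h1
    omega
  -- the torsion bound
  have hexcl : ¬ (2 ≤ a (g - 2) ∧ 1 ≤ a g) := by
    rintro ⟨hA2, hAg⟩
    have he2 : ell (D g ((g - 2 : ℕ) : ℤ)) = 2 := by
      have := hell g ((g - 2 : ℕ) : ℤ) (by omega); omega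
    have hsub := hin (g - 2) (le_antisymm (hale _) (by omega))
    have hh : (ell (D ((g : ℤ) - 2) 0) : ℤ) = (g : ℤ) - 2 := by
      rw [hell _ _ (by omega)]; ring
    have hdim2 := Submodule.finrank_sup_add_finrank_inf_eq (L (D ((g : ℤ) - 2) 0)) (L (D g ((g - 2 : ℕ) : ℤ)))
    have hsup : Module.finrank k ↥(L (D ((g : ℤ) - 2) 0) ⊔ L (D g ((g - 2 : ℕ) : ℤ))) ≤ Module.finrank k V₁ :=
      Submodule.finrank_mono (sup_le hlo hsub)
    have hne : L (D ((g : ℤ) - 2) 0) ⊓ L (D g ((g - 2 : ℕ) : ℤ)) ≠ ⊥ := by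
      intro e
      rw [e, finrank_bot] at hdim2
      change Module.finrank k ↥(L (D g ((g - 2 : ℕ) : ℤ))) = 2 at he2
      change ((Module.finrank k ↥(L (D ((g : ℤ) - 2) 0)) : ℕ) : ℤ) = _ at hh
      omega
    obtain ⟨f, hf, hf0⟩ := Submodule.exists_mem_ne_zero_of_ne_bot hne
    have hf' : f ∈ L (D ((g : ℤ) - 2) ((g : ℤ) - 2)) := fun R => by
      have h1 := hf.1 R
      have h2 := hf.2 R
      rcases eq_or_ne R A with rfl | hRA
      · rwa [hDA] at h1 ⊢
      rcases eq_or_ne R Q with rfl | hRQ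
      · rw [hDQ] at h2 ⊢; rwa [show ((g : ℤ) - 2) = ((g - 2 : ℕ) : ℤ) by omega]
      rwa [hDo _ _ R hRA hRQ] at h1 ⊢
    have hne' : V₁ ⊓ L (D g g) ≠ ⊥ := fun e => by
      have h9 : a g = 0 := (congrArg (fun S : Submodule k K => Module.finrank k S) e).trans (finrank_bot k K)
      omega
    obtain ⟨w, hw, hw0⟩ := Submodule.exists_mem_ne_zero_of_ne_bot hne'
    obtain ⟨m, hm⟩ := hodd
    set u := w / (w / f) ^ m with hu
    have hu0 : u ≠ 0 := div_ne_zero hw0 (pow_ne_zero _ (div_ne_zero hw0 hf0))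
    have hord : ∀ R, R.ord u = -(D 1 1 R) := fun R => by
      rw [hu, div_eq_mul_inv, ord_mul R hw0 (inv_ne_zero (pow_ne_zero _ (div_ne_zero hw0 hf0))), ord_inv, ord_pow, div_eq_mul_inv, ord_mul R hw0 (inv_ne_zero hf0), ord_inv,
        hz _ _ rfl f hf' hf0 R, hz _ _ rfl w hw.2 hw0 R]
      rcases eq_or_ne R A with rfl | hRA
      · rw [hDA, hDA, hDA, hm]; push_cast; ring
      rcases eq_or_ne R Q with rfl | hRQ
      · rw [hDQ, hDQ, hDQ, hm]; push_cast; ring
      rw [hDo _ _ R hRA hRQ, hDo _ _ R hRA hRQ, hDo _ _ R hRA hRQ]; ring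
    have hmem : u ∈ L (D 1 0) := (mem_L_iff hu0).2 fun R => by
      rw [hord R]
      rcases eq_or_ne R A with rfl | hRA
      · rw [hDA, hDA]; omega
      rcases eq_or_ne R Q with rfl | hRQ
      · rw [hDQ, hDQ]; omega
      rw [hDo _ _ R hRA hRQ, hDo _ _ R hRA hRQ]; omega
    have heq : L (D 0 0) = L (D 1 0) := by
      refine Submodule.eq_of_le_of_finrank_le (hmono _ _ _ _ zero_le_one le_rfl) ?_
      have h1 := hell 1 0 le_rfl
      have h2 : ell (D 0 0) = 1 := by
        rw [show D 0 0 = (0 : Divisor k K) by simp [hD]]; exact ell_zero hK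
      unfold ell at h1 h2
      omega
    have h3 := (mem_L_iff hu0).1 (heq ▸ hmem) A
    rw [hord A, hDA, hDA] at h3
    omega
  -- the termwise bound
  set c : ℕ → ℕ := fun i => (g - 2 - i) + ((if i = g - 3 then (if 2 ≤ a (g - 2) then 1 else 0) else 0) +
    ((if i = g - 2 then 1 else 0) + (if i = g - 1 then (if 1 ≤ a g then 1 else 0) else 0))) with hc
  have hbound : ∀ i, a (i + 1) ≤ c i := by
    intro i
    simp only [hc]
    rcases lt_trichotomy (i + 1) (g - 2) with hi | hi | hi
    · have he := hell g ((i + 1 : ℕ) : ℤ) (by omega)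
      have hne : a (i + 1) ≠ ell (D g ((i + 1 : ℕ) : ℤ)) := fun e => by
        have hsub := hin _ e
        have hdim2 := Submodule.finrank_sup_add_finrank_inf_eq (L (D ((g : ℤ) - 2) 0)) (L (D g ((i + 1 : ℕ) : ℤ)))
        have hh : (ell (D ((g : ℤ) - 2) 0) : ℤ) = (g : ℤ) - 2 := by
          rw [hell _ _ (by omega)]; ring
        have hsup : Module.finrank k ↥(L (D ((g : ℤ) - 2) 0) ⊔ L (D g ((i + 1 : ℕ) : ℤ))) ≤ Module.finrank k V₁ :=
          Submodule.finrank_mono (sup_le hlo hsub)
        have hinf : Module.finrank k ↥(L (D ((g : ℤ) - 2) 0) ⊓ L (D g ((i + 1 : ℕ) : ℤ))) ≤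
            ell (D ((g : ℤ) - 2) ((i + 1 : ℕ) : ℤ)) := Submodule.finrank_mono fun f hf R => by
          have h1 := hf.1 R
          have h2 := hf.2 R
          rcases eq_or_ne R A with rfl | hRA
          · rwa [hDA] at h1 ⊢
          rcases eq_or_ne R Q with rfl | hRQ
          · rwa [hDQ] at h2 ⊢
          rwa [hDo _ _ R hRA hRQ] at h1 ⊢
        have h5 := hell ((g : ℤ) - 2) ((i + 1 : ℕ) : ℤ) (by omega)
        unfold ell at he hh h5 hinf
        omega
      have := hale (i + 1)
      omega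
    · have he := hell g ((i + 1 : ℕ) : ℤ) (by omega)
      have := hale (i + 1)
      rw [if_pos (show i = g - 3 by omega), ← hi]
      split_ifs <;> omega
    · rcases (show i + 1 = g - 1 ∨ i + 1 = g ∨ g < i + 1 by omega) with h | h | h
      · have he := hell g ((i + 1 : ℕ) : ℤ) (by omega)
        have := hale (i + 1)
        rw [if_neg (show ¬ i = g - 3 by omega), if_pos (show i = g - 2 by omega)]
        omega
      · have := hle0 g g (by omega)
        have h4 := hale g
        rw [if_neg (show ¬ i = g - 3 by omega), if_neg (show ¬ i = g - 2 by omega), if_pos (show i = g - 1 by omega), h]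
        split_ifs <;> omega
      · have := hneg g ((i + 1 : ℕ) : ℤ) (by omega)
        have h4 := hale (i + 1)
        omega
  calc _ ≤ ∑ i ∈ Finset.range (2 * g - 2), c i := Finset.sum_le_sum fun i _ => (haeq i).trans (hbound i)
    _ ≤ (g - 1).choose 2 + 2 := by
      simp only [hc]
      rw [Finset.sum_add_distrib, Finset.sum_add_distrib, Finset.sum_add_distrib, Finset.sum_ite_eq', Finset.sum_ite_eq',
        Finset.sum_ite_eq', show 2 * g - 2 = (g - 2) + g by omega, sum_range_sub, show g - 2 + 1 = g - 1 by omega]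
      simp only [Finset.mem_range]
      split_ifs <;> first | omega | exact absurd ⟨by assumption, by assumption⟩ hexcl

end Groth.Agent.S17247
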