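import Groth.Statements.S17248
import Groth.Agent.GeomFFLib.LowGenus
-- import your own Groth.Agent.* helpers here

set_option autoImplicit false
open FunFld

namespace Groth.Agent.S17248

/-- Let `K/k` be a function field of one variable of genus one over an algebraically closed field `k` of
characteristic zero (an elliptic curve `E`), `A` a place, and `g ≥ 3` an integer. Inside
`H⁰(O_E((2g-2)A)) = L((2g-2)A)` consider `V = L(gA)` (dimension `g`) and any hyperplane `V₁` of it
containing `L((g-2)A)`: `L((g-2)A) ⊆ V₁ ⊆ L(gA)`, `dim V₁ = g - 1`. Vanishing orders are those of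
sections of `O_E((2g-2)A)`: a member `f` vanishes to order at least `n` at a place `Q` when `f ∈
L((2g-2)A - nQ)`, and the weight of `V₁` at `Q` is `∑_{n=1}^{2g-2} dim (V₁ ∩ L((2g-2)A - nQ)) - (g-1
choose 2)` (the sum of the `g - 1` vanishing orders minus `0 + 1 + ⋯ + (g-2)`). Then the weight of
`V₁` at `A` is `(g-1)² + ε` with `ε ∈ {0, 1}`. (The published statement is for a smooth elliptic
curve over the complex numbers and `g` odd positive; `g ≥ 3` here since the ambient inclusion needs
it; this row does not assume `g` odd.) -/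
theorem result
    (k K : Type*) [Field k] [IsAlgClosed k] [CharZero k] [Field K] [Algebra k K]
    (hK : FunFld.IsFunctionField k K) (hg1 : FunFld.genus k K = 1)
    (g : ℕ) (h3 : 3 ≤ g) (A : FunFld.Place k K)
    (V₁ : Submodule k K) (hlo : FunFld.L (Finsupp.single A ((g : ℤ) - 2)) ≤ V₁)
    (hhi : V₁ ≤ FunFld.L (Finsupp.single A (g : ℤ))) (hdim : Module.finrank k ↥V₁ + 1 = g) :
    ∃ ε : ℕ, ε ≤ 1 ∧
      (∑ n ∈ Finset.range (2 * g - 2), Module.finrank k
        ↥(V₁ ⊓ FunFld.L (Finsupp.single A (2 * (g : ℤ) - 2) - Finsupp.single A ((n : ℤ) + 1)))) =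
      (g - 1).choose 2 + (g - 1) ^ 2 + ε := by
  classical
  open Groth.Agent.FFLib Groth.Agent.GeomFFLib in
  have hfd : ∀ j : ℤ, FiniteDimensional k (FunFld.L (Finsupp.single A j)) := fun j => finiteDimensional_L hK.1 _
  have hfdV : FiniteDimensional k V₁ := Submodule.finiteDimensional_of_le hhi
  have hmono : ∀ i j : ℤ, i ≤ j → FunFld.L (Finsupp.single A i) ≤ FunFld.L (Finsupp.single A j) := fun i j h =>
    L_mono' fun R => by rw [Finsupp.single_apply, Finsupp.single_apply]; split_ifs <;> omega
  have hell : ∀ j : ℕ, 1 ≤ j → Module.finrank k ↥(FunFld.L (Finsupp.single A (j : ℤ))) = j := fun j hj => by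
    have := ell_eq_of_deg_ge hK (D := (Finsupp.single A (j : ℤ) : FunFld.Divisor k K)) (by
      rw [deg_single_alg hK, hg1]; omega)
    rw [deg_single_alg hK, hg1] at this
    unfold FunFld.ell at this
    push_cast at this
    omega
  set t : ℕ → ℕ := fun j => Module.finrank k ↥(V₁ ⊓ FunFld.L (Finsupp.single A (j : ℤ))) with ht
  have hlow : ∀ j, 1 ≤ j → j ≤ g - 2 → t j = j := fun j h1 h2 => by
    simp only [ht]
    rw [inf_eq_right.2 ((hmono _ _ (by omega)).trans hlo), hell j h1]
  have hzero : t 0 = 1 := by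
    simp only [ht, Nat.cast_zero]
    rw [inf_eq_right.2 ((hmono _ _ (by omega)).trans hlo)]
    rw [show ((0 : ℕ) : ℤ) = 0 from rfl, Finsupp.single_zero]
    exact ell_zero hK
  have hhigh : ∀ j, g ≤ j → t j = g - 1 := fun j hj => by
    simp only [ht]
    rw [inf_eq_left.2 (hhi.trans (hmono _ _ (by omega)))]
    omega
  have hmid : g - 2 ≤ t (g - 1) ∧ t (g - 1) ≤ g - 1 := by
    constructor
    · calc g - 2 = t (g - 2) := (hlow _ (by omega) le_rfl).symm
        _ ≤ t (g - 1) := Submodule.finrank_mono (inf_le_inf_left V₁ (hmono _ _ (by omega)))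
    · refine (Submodule.finrank_mono inf_le_left).trans ?_
      omega
  refine ⟨t (g - 1) - (g - 2), by omega, ?_⟩
  have hterm : ∀ n ∈ Finset.range (2 * g - 2), Module.finrank k
      ↥(V₁ ⊓ FunFld.L (Finsupp.single A (2 * (g : ℤ) - 2) - Finsupp.single A ((n : ℤ) + 1))) = t (2 * g - 2 - 1 - n) := fun n hn => by
    rw [Finset.mem_range] at hn
    simp only [ht]
    rw [← Finsupp.single_sub, show 2 * (g : ℤ) - 2 - ((n : ℤ) + 1) = ((2 * g - 2 - 1 - n : ℕ) : ℤ) by omega]
  rw [Finset.sum_congr rfl hterm, Finset.sum_range_reflect t (2 * g - 2), show 2 * g - 2 = (g - 1) + ((g - 2) + 1) by omega,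
    Finset.sum_range_add, Finset.sum_range_succ']
  have hsum1 : ∑ j ∈ Finset.range (g - 1), t j = 1 + (g - 1).choose 2 := by
    rw [Nat.choose_two_right, ← Finset.sum_range_id, show g - 1 = (g - 2) + 1 by omega, Finset.sum_range_succ',
      Finset.sum_range_succ', hzero, add_zero, add_comm 1]
    congr 1
    exact Finset.sum_congr rfl fun j hj => hlow _ (by omega) (by rw [Finset.mem_range] at hj; omega)
  have hsum2 : ∑ j ∈ Finset.range (g - 2), t (g - 1 + (j + 1)) = (g - 2) * (g - 1) := by
    rw [Finset.sum_congr rfl fun j _ => hhigh (g - 1 + (j + 1)) (by omega), Finset.sum_const, Finset.card_range, smul_eq_mul]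
  rw [hsum1, hsum2, add_zero, show (g - 1) ^ 2 = (g - 2) * (g - 1) + (g - 1) by
    rw [show g - 1 = (g - 2) + 1 by omega]; ring]
  omega

end Groth.Agent.S17248
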