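import Groth.Statements.S17249
import Groth.Agent.GeomFFLib.LowGenus
-- import your own Groth.Agent.* helpers here

set_option autoImplicit false
open FunFld

namespace Groth.Agent.S17249

/-- Let `K/k` be a function field of one variable of genus two over an algebraically closed field `k` of
characteristic zero (a smooth curve `X` of genus `2`), `C` a canonical divisor, `A` a place with
`ℓ(2A) = 1` (not a Weierstrass point), and `P`, `Q` places with `Q ≠ A`. Then `ℓ(C + 2A - P - 3Q) =
1` and `ℓ(C + 2A - P - Q) = 2` do not both hold: the two-dimensional complete system `H⁰(ω_X(2A -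
P))` (of degree `3`) has no point `Q ≠ A` of weight three. (The published statement concerns a
general pointed curve `(X, A)` of genus two over the complex numbers and a point `P` of `X`; this
row assumes only `ℓ(2A) = 1`.) -/
theorem result
    (k K : Type*) [Field k] [IsAlgClosed k] [CharZero k] [Field K] [Algebra k K]
    (hK : FunFld.IsFunctionField k K) (hg : FunFld.genus k K = 2)
    (C : FunFld.Divisor k K) (hC : FunFld.IsCanonical k K C)
    (A P Q : FunFld.Place k K) (hA : Module.finrank k ↥(FunFld.L (Finsupp.single A (2 : ℤ))) = 1) (hQ : Q ≠ A) :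
    ¬ (Module.finrank k ↥(FunFld.L (C + Finsupp.single A (2 : ℤ) - Finsupp.single P (1 : ℤ) - Finsupp.single Q (3 : ℤ))) = 1 ∧
       Module.finrank k ↥(FunFld.L (C + Finsupp.single A (2 : ℤ) - Finsupp.single P (1 : ℤ) - Finsupp.single Q (1 : ℤ))) = 2) := by
  classical
  open Groth.Agent.FFLib Groth.Agent.GeomFFLib in
  rintro ⟨-, h2⟩
  have hCd := (canonical_ell_deg hK hC).2
  rw [hg] at hCd
  set E := C + Finsupp.single A (2 : ℤ) - Finsupp.single P (1 : ℤ) - Finsupp.single Q (1 : ℤ) with hE
  have hrr := riemann_roch hK hC E
  have hEd : E.deg = 2 := by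
    rw [hE, deg_sub, deg_sub, deg_add, hCd, deg_single_alg hK, deg_single_alg hK, deg_single_alg hK]; rfl
  have he2 : ell E = 2 := h2
  rw [hEd, hg, he2] at hrr
  have hc1 : 1 ≤ ell (C - E) := by push_cast at hrr; omega
  obtain ⟨f, hf0, hf⟩ := exists_div_of_deg_zero hK (by rw [deg_sub, hEd, hCd]; rfl) hc1
  have hF := eq_single_of_ell_one hK (n := 2) (by norm_num) hA
    (F := Finsupp.single P 1 + Finsupp.single Q 1)
    (add_nonneg (Finsupp.single_nonneg.2 zero_le_one) (Finsupp.single_nonneg.2 zero_le_one)) hf0 (fun R => by
      have := hf R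
      simp only [hE, Finsupp.sub_apply, Finsupp.add_apply] at this ⊢
      omega)
  have h := congrArg (fun D : FunFld.Divisor k K => D Q) hF
  simp [Finsupp.single_apply, hQ, Ne.symm hQ] at h
  split_ifs at h <;> omega

end Groth.Agent.S17249
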