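import Groth.Statements.S17250
import Groth.Agent.GeomFFLib.LowGenus
-- import your own Groth.Agent.* helpers here

set_option autoImplicit false
open FunFld

namespace Groth.Agent.S17250

/-- Let `K/k` be a function field of one variable of genus two over an algebraically closed field `k` of
characteristic zero (a smooth curve `X` of genus `2`), `C` a canonical divisor, `A` a place with
`ℓ(2A) = 1`, and `P`, `Q` places different from `A`. Then `ℓ(C + 3A - P - 4Q) = 1` and `ℓ(C + 3A - P
- 2Q) = 2` do not both hold (the three-dimensional complete system `H⁰(ω_X(3A - P))`, of degree `4`,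
has no point `Q ≠ A` with two independent sections vanishing to order at least `2` there and one
vanishing to order at least `4`). (The published statement concerns a general pointed curve `(X, A)`
of genus two over the complex numbers and a point `P ≠ A`; this row assumes `ℓ(2A) = 1` in place of
generality.) -/
theorem result
    (k K : Type*) [Field k] [IsAlgClosed k] [CharZero k] [Field K] [Algebra k K]
    (hK : FunFld.IsFunctionField k K) (hg : FunFld.genus k K = 2)
    (C : FunFld.Divisor k K) (hC : FunFld.IsCanonical k K C)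
    (A P Q : FunFld.Place k K) (hA : Module.finrank k ↥(FunFld.L (Finsupp.single A (2 : ℤ))) = 1) (hP : P ≠ A) (hQ : Q ≠ A) :
    ¬ (Module.finrank k ↥(FunFld.L (C + Finsupp.single A (3 : ℤ) - Finsupp.single P (1 : ℤ) - Finsupp.single Q (4 : ℤ))) = 1 ∧
       Module.finrank k ↥(FunFld.L (C + Finsupp.single A (3 : ℤ) - Finsupp.single P (1 : ℤ) - Finsupp.single Q (2 : ℤ))) = 2) := by
  classical
  open Groth.Agent.FFLib Groth.Agent.GeomFFLib in
  rintro ⟨h1, h2⟩
  have hCd := (canonical_ell_deg hK hC).2
  rw [hg] at hCd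
  set E := C + Finsupp.single A (3 : ℤ) - Finsupp.single P (1 : ℤ) - Finsupp.single Q (2 : ℤ) with hE
  have hrr := riemann_roch hK hC E
  have hEd : E.deg = 2 := by
    rw [hE, deg_sub, deg_sub, deg_add, hCd, deg_single_alg hK, deg_single_alg hK, deg_single_alg hK]; rfl
  have he2 : ell E = 2 := h2
  rw [hEd, hg, he2] at hrr
  have hc1 : 1 ≤ ell (C - E) := by push_cast at hrr; omega
  obtain ⟨f, hf0, hf⟩ := exists_div_of_deg_zero hK (by rw [deg_sub, hEd, hCd]; rfl) hc1
  set G := C + Finsupp.single A (3 : ℤ) - Finsupp.single P (1 : ℤ) - Finsupp.single Q (4 : ℤ) with hG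
  have hGd : G.deg = 0 := by
    rw [hG, deg_sub, deg_sub, deg_add, hCd, deg_single_alg hK, deg_single_alg hK, deg_single_alg hK]; rfl
  obtain ⟨u, hu0, hu⟩ := exists_div_of_deg_zero hK hGd (by show 1 ≤ Module.finrank k _; rw [h1])
  set D3 : FunFld.Divisor k K := Finsupp.single A (3 : ℤ) - Finsupp.single P (1 : ℤ) with hD3
  have hmem : u * f ^ 2 ∈ FunFld.L (C - D3) := (mem_L_iff (mul_ne_zero hu0 (pow_ne_zero _ hf0))).2 fun R => by
    rw [ord_mul R hu0 (pow_ne_zero _ hf0), ord_pow]
    have e1 := hf R
    have e2 := hu R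
    simp only [hE, hG, hD3, Finsupp.sub_apply, Finsupp.add_apply, Finsupp.single_apply] at e1 e2 ⊢
    push_cast
    split_ifs at e1 e2 ⊢ <;> omega
  have hr3 := riemann_roch hK hC D3
  have hD3d : D3.deg = 2 := by rw [hD3, deg_sub, deg_single_alg hK, deg_single_alg hK]; rfl
  rw [hD3d, hg] at hr3
  have h5 := one_le_ell_of_mem hK hmem (mul_ne_zero hu0 (pow_ne_zero _ hf0))
  have hA3 := ell_eq_of_deg_ge hK (D := (Finsupp.single A (3 : ℤ) : FunFld.Divisor k K)) (by rw [deg_single_alg hK, hg]; norm_num)
  rw [deg_single_alg hK, hg] at hA3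
  have := finiteDimensional_L hK.1 (Finsupp.single A (3 : ℤ) : FunFld.Divisor k K)
  have heq : FunFld.L D3 = FunFld.L (Finsupp.single A (3 : ℤ)) := by
    refine Submodule.eq_of_le_of_finrank_le (L_mono' fun R => ?_) ?_
    · rw [hD3, Finsupp.sub_apply, Finsupp.single_apply, Finsupp.single_apply]; split_ifs <;> omega
    · unfold FunFld.ell at hr3 h5 hA3
      push_cast at hr3 hA3
      omega
  have hone : (1 : K) ∈ FunFld.L D3 := heq ▸ (mem_L_iff one_ne_zero).2 fun R => by
    rw [ord_one, Finsupp.single_apply]; split_ifs <;> omega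
  have := (mem_L_iff one_ne_zero).1 hone P
  rw [ord_one, hD3, Finsupp.sub_apply, Finsupp.single_eq_same, Finsupp.single_eq_of_ne hP] at this
  omega

end Groth.Agent.S17250
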