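import Groth.Statements.S17251
import Groth.Agent.GeomFFLib.LowGenus
-- import your own Groth.Agent.* helpers here

set_option autoImplicit false
open FunFld

namespace Groth.Agent.S17251

/-- Let `K/k` be a function field of one variable of genus two over an algebraically closed field `k` of
characteristic zero (a smooth curve `Y` of genus `2`), `C` a canonical divisor, `B` a place with
`ℓ(2B) = 1` (not a Weierstrass point) and `Q ≠ B` a place. Then `ℓ(C + B - 2Q) = 1` and `ℓ(C + 3B -
4Q) = 1` do not both hold: the complete systems `H⁰(ω_Y(B))` (dimension `2`, degree `3`) and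
`H⁰(ω_Y(3B))` (dimension `4`, degree `5`) have no ramification point in common on `Y` minus `B`.
(The published statement concerns a general pointed curve `(Y, B)` of genus two over the complex
numbers; this row assumes only `ℓ(2B) = 1`.) -/
theorem result
    (k K : Type*) [Field k] [IsAlgClosed k] [CharZero k] [Field K] [Algebra k K]
    (hK : FunFld.IsFunctionField k K) (hg : FunFld.genus k K = 2)
    (C : FunFld.Divisor k K) (hC : FunFld.IsCanonical k K C)
    (B Q : FunFld.Place k K) (hB : Module.finrank k ↥(FunFld.L (Finsupp.single B (2 : ℤ))) = 1) (hQ : Q ≠ B) :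
    ¬ (Module.finrank k ↥(FunFld.L (C + Finsupp.single B (1 : ℤ) - Finsupp.single Q (2 : ℤ))) = 1 ∧
       Module.finrank k ↥(FunFld.L (C + Finsupp.single B (3 : ℤ) - Finsupp.single Q (4 : ℤ))) = 1) := by
  classical
  open Groth.Agent.FFLib Groth.Agent.GeomFFLib in
  rintro ⟨h1, h2⟩
  have hCd := (canonical_ell_deg hK hC).2
  have hCe := (canonical_ell_deg hK hC).1
  rw [hg] at hCd hCe
  set E := C + Finsupp.single B (1 : ℤ) - Finsupp.single Q (2 : ℤ) with hE
  have hEd : E.deg = 1 := by rw [hE, deg_sub, deg_add, hCd, deg_single_alg hK, deg_single_alg hK]; rfl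
  have hrr := riemann_roch hK hC E
  rw [hEd, hg] at hrr
  have he1 : ell E = 1 := h1
  rw [he1] at hrr
  push_cast at hrr
  have hQ2 : 2 ≤ ell (Finsupp.single Q (2 : ℤ)) := by
    have hne : FunFld.L (C - E) ≠ ⊥ := fun e => by
      unfold FunFld.ell at hrr; rw [e, finrank_bot k K] at hrr; omega
    obtain ⟨h, hh, hh0⟩ := Submodule.exists_mem_ne_zero_of_ne_bot hne
    have hh' := (mem_L_iff hh0).1 hh
    have hfd := finiteDimensional_L hK.1 (Finsupp.single Q (2 : ℤ) : FunFld.Divisor k K)
    have hmemh : h ∈ FunFld.L (Finsupp.single Q (2 : ℤ)) := (mem_L_iff hh0).2 fun R => by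
      have := hh' R
      simp only [hE, Finsupp.sub_apply, Finsupp.add_apply, Finsupp.single_apply] at this ⊢
      split_ifs at this ⊢ <;> omega
    by_contra hlt
    have h00 := ell_zero hK
    have heq : FunFld.L (0 : FunFld.Divisor k K) = FunFld.L (Finsupp.single Q (2 : ℤ)) := by
      refine Submodule.eq_of_le_of_finrank_le (L_mono' fun R => ?_) ?_
      · rw [Finsupp.zero_apply, Finsupp.single_apply]; split_ifs <;> omega
      · unfold FunFld.ell at h00 hlt; omega
    have hnn := (mem_L_iff hh0).1 (heq ▸ hmemh)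
    have hz := eq_zero_of_deg_eq_zero hK (D := FunFld.div k h) (fun R => by
      rw [div_apply hK.1]; simpa using hnn R) (deg_div hK.1 _)
    have hB0 := congrArg (fun D : FunFld.Divisor k K => D B) hz
    simp only [div_apply hK.1, Finsupp.zero_apply] at hB0
    have := hh' B
    simp only [hE, Finsupp.sub_apply, Finsupp.add_apply, Finsupp.single_eq_same, Finsupp.single_eq_of_ne (Ne.symm hQ)] at this
    omega
  have hq := riemann_roch hK hC (Finsupp.single Q (2 : ℤ))
  rw [deg_single_alg hK, hg] at hq
  obtain ⟨w, hw0, hw⟩ := exists_div_of_deg_zero hK (E := C - Finsupp.single Q (2 : ℤ))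
    (by rw [deg_sub, hCd, deg_single_alg hK]; rfl) (by push_cast at hq; omega)
  set G := C + Finsupp.single B (3 : ℤ) - Finsupp.single Q (4 : ℤ) with hG
  have hne : FunFld.L G ≠ ⊥ := fun e => by rw [e, finrank_bot k K] at h2; omega
  obtain ⟨u, hu, hu0⟩ := Submodule.exists_mem_ne_zero_of_ne_bot hne
  set F := FunFld.div k u + G with hF
  have hF0 : 0 ≤ F := fun R => by
    have := (mem_L_iff hu0).1 hu R
    rw [hF, Finsupp.add_apply, div_apply hK.1]; simpa using this
  have hFd : F.deg = 1 := by
    rw [hF, deg_add, deg_div hK.1, hG, deg_sub, deg_add, hCd, deg_single_alg hK, deg_single_alg hK]; rfl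
  obtain ⟨S, hS⟩ : ∃ S, F S ≠ 0 := by
    by_contra hh
    push Not at hh
    have : F = 0 := Finsupp.ext hh
    rw [this, deg_zero] at hFd
    omega
  have hSle : ∀ R, (Finsupp.single S (1 : ℤ) : FunFld.Divisor k K) R ≤ F R := fun R => by
    have h0 : 0 ≤ F R := hF0 R
    rcases eq_or_ne R S with rfl | hne
    · rw [Finsupp.single_eq_same]; omega
    · rw [Finsupp.single_eq_of_ne hne]; exact h0
  have hFS : F = Finsupp.single S 1 := by
    have hz := eq_zero_of_deg_eq_zero hK (D := F - Finsupp.single S 1) (fun R => by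
      rw [Finsupp.sub_apply]; simpa using hSle R) (by rw [deg_sub, hFd, deg_single_alg hK]; rfl)
    exact sub_eq_zero.1 hz
  set D3 : FunFld.Divisor k K := Finsupp.single B (3 : ℤ) - Finsupp.single S (1 : ℤ) with hD3
  have hz0 : (u * w⁻¹ ^ 2) ≠ 0 := mul_ne_zero hu0 (pow_ne_zero _ (inv_ne_zero hw0))
  have hmem : (u * w⁻¹ ^ 2) ∈ FunFld.L (D3 - C) := (mem_L_iff hz0).2 fun R => by
    rw [ord_mul R hu0 (pow_ne_zero _ (inv_ne_zero hw0)), ord_pow, ord_inv]
    have e1 := hw R
    have e2 := congrArg (fun D : FunFld.Divisor k K => D R) hFS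
    simp only [hF, hG, hD3, div_apply hK.1, Finsupp.sub_apply, Finsupp.add_apply, Finsupp.single_apply] at e1 e2 ⊢
    push_cast
    split_ifs at e1 e2 ⊢ <;> omega
  have h5 : (FunFld.ell C : ℤ) ≤ FunFld.ell D3 := by
    have := finiteDimensional_L hK.1 D3
    refine Int.ofNat_le.2 (LinearMap.finrank_le_finrank_of_injective
      (f := (LinearMap.mulLeft k (u * w⁻¹ ^ 2)).restrict (p := FunFld.L C) (q := FunFld.L D3) (fun z hz R => by
        rw [LinearMap.mulLeft_apply, map_mul]
        refine (mul_le_mul' (hmem R) (hz R)).trans ?_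
        rw [← WithZero.exp_add, WithZero.exp_le_exp, Finsupp.sub_apply]
        omega)) ?_)
    intro a b hab
    exact Subtype.ext (mul_left_cancel₀ hz0 (congrArg Subtype.val hab))
  rcases eq_or_ne S B with rfl | hSB
  · have : D3 = Finsupp.single S (2 : ℤ) := by rw [hD3, ← Finsupp.single_sub]; rfl
    rw [this, hCe] at h5
    unfold FunFld.ell at h5
    omega
  have hB3 := ell_eq_of_deg_ge hK (D := (Finsupp.single B (3 : ℤ) : FunFld.Divisor k K)) (by rw [deg_single_alg hK, hg]; norm_num)
  rw [deg_single_alg hK, hg] at hB3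
  have := finiteDimensional_L hK.1 (Finsupp.single B (3 : ℤ) : FunFld.Divisor k K)
  have heq : FunFld.L D3 = FunFld.L (Finsupp.single B (3 : ℤ)) := by
    refine Submodule.eq_of_le_of_finrank_le (L_mono' fun R => ?_) ?_
    · rw [hD3, Finsupp.sub_apply, Finsupp.single_apply, Finsupp.single_apply]; split_ifs <;> omega
    · unfold FunFld.ell at h5 hB3 hCe
      push_cast at h5 hB3
      omega
  have hone : (1 : K) ∈ FunFld.L D3 := heq ▸ (mem_L_iff one_ne_zero).2 fun R => by
    rw [ord_one, Finsupp.single_apply]; split_ifs <;> omega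
  have := (mem_L_iff one_ne_zero).1 hone S
  rw [ord_one, hD3, Finsupp.sub_apply, Finsupp.single_eq_same, Finsupp.single_eq_of_ne hSB] at this
  omega

end Groth.Agent.S17251
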