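import Groth.Statements.S17253
import Groth.Agent.S7793
import Groth.Agent.AVAmpleLib.DegDet
import Groth.Agent.CubeConsLib.GeomInt
import Groth.Agent.AVAmpleLib.MulDegree
import Groth.Agent.AbSchLib.MulN
import Groth.Agent.AbSchLib.DimFinite
import Groth.Agent.AVAmpleLib.TateHom

set_option autoImplicit false
universe u
open CategoryTheory CategoryTheory.Limits MonoidalCategory CartesianMonoidalCategory MonObj GrpObj AlgebraicGeometry
open AbVar

namespace Groth.Agent.S17253

/-- Let k be a field and A, B abelian varieties over k (smooth proper k-group schemes with geometrically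
connected fibres), f : A → B a homomorphism, g : B → A an isogeny (a homomorphism which is finite,
flat and surjective) and d a nonzero integer with g ∘ f = [d]_A, the d-th power of the identity in
the group of endomorphisms of A. Then f is an isogeny as well — finite, flat and surjective — and f
∘ g = [d]_B. -/
theorem result (k : Type u) [Field k]
    (A B : Over (Spec (CommRingCat.of k)))
    [GrpObj A] [Smooth A.hom] [IsProper A.hom] [GeometricallyConnected A.hom]
    [GrpObj B] [Smooth B.hom] [IsProper B.hom] [GeometricallyConnected B.hom]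
    (f : A ⟶ B) [IsMonHom f] (g : B ⟶ A) [IsMonHom g] [IsFinite g.left] [Flat g.left] [Surjective g.left]
    (d : ℤ) (hd : d ≠ 0) (h : f ≫ g = 𝟙 A ^ d) :
    IsFinite f.left ∧ Flat f.left ∧ Surjective f.left ∧ g ≫ f = 𝟙 B ^ d := by
  haveI : GeometricallyReduced A.hom := AbSchLib.geometricallyReduced_of_smooth A.hom
  haveI : GeometricallyReduced B.hom := AbSchLib.geometricallyReduced_of_smooth B.hom
  haveI := CubeConsLib.geometricallyIntegral_of_group A
  haveI := CubeConsLib.geometricallyIntegral_of_group B
  haveI : IsCommMonObj A := H0Lib.isCommMonObj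
  haveI : IsCommMonObj B := H0Lib.isCommMonObj
  haveI : IsSeparated A.hom := inferInstance
  haveI : IsFinite (f.left ≫ g.left) := by
    rw [← Over.comp_left, h]
    exact AVAmpleLib.isFinite_zpow A hd
  haveI : IsFinite f.left := IsFinite.of_comp f.left g.left
  obtain ⟨n, hn⟩ := AVAmpleLib.exists_dim_field B
  have hA : topologicalKrullDim A.left = (n : ℕ) :=
    (AbSchLib.topologicalKrullDim_eq_of_finite_surjective g.left).symm.trans hn
  obtain ⟨hfl, hsj⟩ := AVAmpleLib.flat_of_isFinite f hA hn
  refine ⟨inferInstance, hfl, hsj, ?_⟩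
  haveI : IsMonHom (𝟙 B ^ d) := AbSchLib.isMonHom_zpow B d
  refine (Groth.Agent.S7793.result B A B g).2 (g ≫ f) (𝟙 B ^ d) inferInstance inferInstance ?_
  rw [Category.assoc, h, GrpObj.comp_zpow, GrpObj.zpow_comp, Category.comp_id, Category.id_comp]

end Groth.Agent.S17253
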