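import Groth.Statements.S17255
import Groth.Agent.S19572
import Groth.Agent.AVAmpleLib.DegDet
import Groth.Agent.CubeConsLib.GeomInt
import Groth.Agent.AVAmpleLib.TateHom

set_option autoImplicit false
universe u
open CategoryTheory CategoryTheory.Limits MonoidalCategory CartesianMonoidalCategory MonObj GrpObj AlgebraicGeometry
open AbVar

namespace Groth.Agent.S17255

/-- Let k be a field, A and B abelian varieties over k (smooth proper k-group schemes with geometrically
connected fibres) with dim A = dim B (Krull dimensions of the underlying spaces), and f : A → B a
homomorphism. Then flatness of f is equivalent to finiteness of f. -/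
theorem result (k : Type u) [Field k]
    (A B : Over (Spec (CommRingCat.of k)))
    [GrpObj A] [Smooth A.hom] [IsProper A.hom] [GeometricallyConnected A.hom]
    [GrpObj B] [Smooth B.hom] [IsProper B.hom] [GeometricallyConnected B.hom]
    (f : A ⟶ B) [IsMonHom f] (hdim : topologicalKrullDim A.left = topologicalKrullDim B.left) :
    Flat f.left ↔ IsFinite f.left := by
  haveI : GeometricallyReduced A.hom := AbSchLib.geometricallyReduced_of_smooth A.hom
  haveI : GeometricallyReduced B.hom := AbSchLib.geometricallyReduced_of_smooth B.hom
  haveI := CubeConsLib.geometricallyIntegral_of_group A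
  haveI := CubeConsLib.geometricallyIntegral_of_group B
  obtain ⟨g, hg⟩ := AVAmpleLib.exists_dim_field A
  haveI : IsProper (f.left ≫ B.hom) := by rw [Over.w]; infer_instance
  haveI : IsProper f.left := IsProper.of_comp f.left B.hom
  refine ⟨fun h => ?_, fun h => (AVAmpleLib.flat_of_isFinite f hg (hdim ▸ hg)).1⟩
  haveI : IsLocallyNoetherian B.left := LocallyOfFiniteType.isLocallyNoetherian B.hom
  haveI : LocallyOfFinitePresentation f.left := LocallyOfFinitePresentation.iff_locallyOfFiniteType.2 inferInstance
  haveI : UniversallyOpen f.left := inferInstance
  haveI : GeometricallyConnected B.hom := inferInstance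
  haveI := AbSchLib.surjective_of_isOpenMap f f.left.isOpenMap
  exact (Groth.Agent.S19572.result k A B f hdim).1

end Groth.Agent.S17255
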