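import Groth.Statements.S17258
import Groth.Agent.StableCompLib.Comp
import Groth.Agent.BlowRegLib.PosE
import Groth.Agent.CycBivLib.Disjoint
import Groth.Agent.NefH1Lib.Core
import Groth.Agent.HurwitzLib.SmoothCurve
import Groth.Agent.NodalLib.NodeFacts

set_option autoImplicit false
set_option backward.isDefEq.respectTransparency false
set_option backward.isDefEq.respectTransparency.types false
set_option maxHeartbeats 1000000
universe u
open Curves

namespace Groth.Agent.S17258

section Aux
open CategoryTheory CategoryTheory.Limits AlgebraicGeometry TopologicalSpace Opposite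

theorem subsingleton_HU_finset {Y : TopCat.{u}} {F : QCohLib.AbSh Y} {n : ℕ} {ι : Type*} (U : ι → Opens Y)
    (hd : ∀ i j, i ≠ j → U i ⊓ U j = ⊥) (h : ∀ i, Subsingleton (QCohLib.HU F (n + 1) (U i))) (T : Finset ι) :
    Subsingleton (QCohLib.HU F (n + 1) (T.sup U)) := by
  classical
  have hbot : ∀ m, Subsingleton (QCohLib.HU F m (⊥ : Opens Y)) := fun m =>
    subsingleton_of_forall_eq 0 fun z => by
      rw [← Abelian.Ext.mk₀_id_comp z, QCohLib.isZero_zsh_bot.eq_of_src (𝟙 _) 0, Abelian.Ext.mk₀_zero,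
        Abelian.Ext.zero_comp]
  induction T using Finset.induction_on with
  | empty => simpa using hbot (n + 1)
  | insert a T ha ih =>
    rw [Finset.sup_insert]
    refine subsingleton_of_forall_eq 0 fun x => QCohLib.mv_eq_zero x ((h a).elim _ _) (ih.elim _ _) fun y => ⟨0, 0, ?_⟩
    have hb : U a ⊓ T.sup U = ⊥ := disjoint_iff.1 (Finset.disjoint_sup_right.2 fun j hj =>
      disjoint_iff.2 (hd a j fun e => ha (e ▸ hj)))
    haveI : Subsingleton (QCohLib.HU F n (U a ⊓ T.sup U)) := by rw [hb]; exact hbot n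
    exact Subsingleton.elim _ _

theorem h1_sigma {ι : Type u} [Finite ι] (W : ι → Scheme.{u})
    (h : ∀ i, Subsingleton (Coh.HH (W i) (Coh.structureModule (W i)) 1)) :
    Subsingleton (Coh.HH (∐ W) (Coh.structureModule (∐ W)) 1) := by
  haveI := Fintype.ofFinite ι
  refine (QCohLib.subsingleton_H_iff _ 1).2 ?_
  have hU : ∀ i, Subsingleton (QCohLib.HU ((QCohLib.toAbF (∐ W)).obj (Coh.structureModule (∐ W))) 1
      (Sigma.ι W i).opensRange) := fun i => by
    have h1 : Subsingleton (Coh.HH (W i) ((Coh.structureModule (∐ W)).restrict (Sigma.ι W i)) 1) :=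
      HdgLefLib.sub_iso (((Scheme.Modules.restrictFunctorIsoPullback (Sigma.ι W i)).app _) ≪≫
        KFlatLib.pullUnitIso (Sigma.ι W i)).symm 1 (h i)
    obtain ⟨e⟩ := QCohLib.nonempty_HU_restrict (Sigma.ι W i) (Coh.structureModule (∐ W)) 1 ⊤
    have h2 := @Equiv.subsingleton _ _ e.symm.toEquiv ((QCohLib.subsingleton_H_iff _ 1).1 h1)
    rwa [Scheme.Hom.image_top_eq_opensRange] at h2
  have h3 := subsingleton_HU_finset (fun i => (Sigma.ι W i).opensRange)
    (fun i j hij => disjoint_iff.1 (disjoint_opensRange_sigmaι W i j hij)) hU Finset.univ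
  have htop : Finset.univ.sup (fun i => (Sigma.ι W i).opensRange) = (⊤ : (∐ W).Opens) := by
    refine top_le_iff.1 fun z _ => ?_
    obtain ⟨⟨i, w⟩, rfl⟩ := (sigmaMk W).surjective z
    exact Finset.le_sup (f := fun i => (Sigma.ι W i).opensRange) (Finset.mem_univ i) ⟨w, (sigmaMk_mk W i w).symm⟩
  rwa [htop] at h3

theorem natCard_cc_sigma {ι : Type u} (W : ι → Scheme.{u}) [∀ i, ConnectedSpace (W i)] :
    Nat.card (_root_.ConnectedComponents (∐ W : Scheme.{u})) = Nat.card ι := by
  letI : TopologicalSpace ι := ⊥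
  haveI : DiscreteTopology ι := ⟨rfl⟩
  have hc : Continuous fun z : ↥(∐ W : Scheme.{u}) => ((sigmaMk W).symm z).1 :=
    (continuous_sigma fun i => continuous_const).comp (sigmaMk W).symm.continuous
  refine Nat.card_eq_of_bijective hc.connectedComponentsLift ⟨?_, fun i => ?_⟩
  · intro a b hab
    obtain ⟨z, rfl⟩ := ConnectedComponents.surjective_coe a
    obtain ⟨z', rfl⟩ := ConnectedComponents.surjective_coe b
    obtain ⟨⟨i, w⟩, rfl⟩ := (sigmaMk W).surjective z
    obtain ⟨⟨j, w'⟩, rfl⟩ := (sigmaMk W).surjective z'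
    simp only [Continuous.connectedComponentsLift_apply_coe, Homeomorph.symm_apply_apply] at hab
    subst hab
    refine ConnectedComponents.coe_eq_coe'.2 ((isPreconnected_range (f := fun w => sigmaMk W ⟨i, w⟩)
      ((sigmaMk W).continuous.comp continuous_sigmaMk)).subset_connectedComponent ⟨w', rfl⟩ ⟨w, rfl⟩)
  · obtain ⟨w⟩ := (inferInstance : Nonempty (W i))
    exact ⟨ConnectedComponents.mk (sigmaMk W ⟨i, w⟩), congrArg Sigma.fst ((sigmaMk W).symm_apply_apply ⟨i, w⟩)⟩

variable {Ω : Type u} [Field Ω] [IsAlgClosed Ω] (C : Scheme.{u}) [C.Over (Spec (CommRingCat.of Ω))]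
  [IsProper (C ↘ Spec (CommRingCat.of Ω))] [ConnectedSpace ↥C]

/-- If all components are lines, then `g + t = s + 1`. -/
theorem count (hdim : topologicalKrullDim ↥C = 1) (hnod : Curv2.AtWorstNodal Ω C)
    (hr : ∀ E ∈ irreducibleComponents (↥C : Type u), CurvSt.IsSmRatComp Ω C (C ↘ Spec (CommRingCat.of Ω)) E) :
    ∃ s t : ℕ, {x : ↥C | Curv2.IsNode Ω C x}.encard = (s : ℕ∞) ∧ (irreducibleComponents (↥C : Type u)).encard = (t : ℕ∞) ∧
      Curv2.genus Ω C + t = s + 1 := by
  classical
  haveI := CurvLib.isNoetherian Ω (X := C)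
  haveI : IsReduced C := NodalLib.isReduced (k := Ω) hnod
  have hfinI : (irreducibleComponents (↥C : Type u)).Finite := TopologicalSpace.NoetherianSpace.finite_irreducibleComponents
  haveI : Finite {E : Set C // E ∈ irreducibleComponents (↥C : Type u)} := hfinI.to_subtype
  choose e he heq hrange using fun i : {E : Set C // E ∈ irreducibleComponents (↥C : Type u)} => (hr i.1 i.2).2
  haveI := he
  have hZ : ∀ Z ∈ irreducibleComponents (↥C : Type u), topologicalKrullDim Z = 1 := fun Z hZ => by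
    haveI := he ⟨Z, hZ⟩
    have h1 : IsHomeomorph (fun w : ↥(CohB1.ProjSpace 1 Ω) => (⟨(e ⟨Z, hZ⟩).base w,
        (hrange ⟨Z, hZ⟩).subset ⟨w, rfl⟩⟩ : Z)) := by
      refine isHomeomorph_iff_isEmbedding_surjective.2 ⟨(e ⟨Z, hZ⟩).isEmbedding.codRestrict Z _, fun z => ?_⟩
      have : (z : C) ∈ Set.range (e ⟨Z, hZ⟩).base := by rw [hrange ⟨Z, hZ⟩]; exact z.2
      obtain ⟨w, hw⟩ := this
      exact ⟨w, Subtype.ext hw⟩
    rw [← h1.topologicalKrullDim_eq]
    exact VBP1Lib.dim_line Ω
  haveI : IsIntegral (CohB1.ProjSpace 1 Ω) := VBP1Lib.isIntegral_line Ω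
  let W : {E : Set C // E ∈ irreducibleComponents (↥C : Type u)} → Scheme.{u} := fun _ => CohB1.ProjSpace 1 Ω
  let π : (∐ W) ⟶ C := Sigma.desc (f := W) e
  have hι : ∀ i, Sigma.ι W i ≫ π = e i := fun i => Sigma.ι_desc _ i
  haveI : IsFinite π := CycBivLib.isFinite_sigmaDesc (W := W) e fun _ => ⟨⊤, trivial, Set.toFinite _⟩
  letI : (∐ W : Scheme.{u}).Over (Spec (CommRingCat.of Ω)) := ⟨π ≫ (C ↘ Spec (CommRingCat.of Ω))⟩
  have hnP : Pi1.IsNormalScheme (CohB1.ProjSpace 1 Ω) := HurwitzLib.isNormalScheme_of_smooth (k := Ω)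
  have hN : Pi1.IsNormalScheme (∐ W) := fun z => by
    obtain ⟨⟨i, w⟩, rfl⟩ := (sigmaMk W).surjective z
    rw [sigmaMk_mk]
    let ee := (asIso ((Sigma.ι W i).stalkMap w)).commRingCatIsoToRingEquiv
    haveI := (hnP w).1
    haveI := (hnP w).2
    exact ⟨MulEquiv.isDomain _ ee.toMulEquiv, IsIntegrallyClosed.of_equiv ee.symm⟩
  -- the open piece of a component
  let V : {E : Set C // E ∈ irreducibleComponents (↥C : Type u)} → C.Opens := fun i =>
    ⟨(closure (i.1)ᶜ)ᶜ, isClosed_closure.isOpen_compl⟩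
  have hVsub : ∀ i, ∀ x ∈ V i, x ∈ i.1 := fun i x hx => by
    by_contra h
    exact hx (subset_closure h)
  have hVuniq : ∀ i j, ∀ x ∈ V i, x ∈ j.1 → j = i := fun i j x hx hxj => by
    have hsub : j.1 ⊆ i.1 := by
      refine (subset_closure_inter_of_isPreirreducible_of_isOpen j.2.1.2 (V i).isOpen ⟨x, hxj, hx⟩).trans
        (closure_minimal ?_ (isClosed_of_mem_irreducibleComponents i.1 i.2))
      exact fun z hz => hVsub i z hz.2
    exact Subtype.ext (le_antisymm hsub (j.2.2 i.2.1 hsub))
  have hVne : ∀ i, ((i.1 : Set C) ∩ V i).Nonempty := fun i => by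
    by_contra h
    rw [Set.not_nonempty_iff_eq_empty] at h
    have h1 : (i.1 : Set C) ⊆ closure (i.1)ᶜ := fun x hx => by
      by_contra hn
      exact Set.eq_empty_iff_forall_notMem.1 h x ⟨hx, hn⟩
    have hfin := (StableCompLib.meet_finite (k := Ω) hdim hnod i.1 i.2).1
    rw [Set.inter_eq_left.2 h1, ← hrange i] at hfin
    haveI : Finite ↥(CohB1.ProjSpace 1 Ω) :=
      Set.finite_univ_iff.1 (Set.Finite.of_finite_image (by rwa [Set.image_univ]) (e i).isEmbedding.injective.injOn)
    haveI : JacobsonSpace ↥(CohB1.ProjSpace 1 Ω) := LocallyOfFiniteType.jacobsonSpace (CohB1.ProjSpace 1 Ω ↘ Spec (CommRingCat.of Ω))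
    have hd := VBP1Lib.dim_line Ω
    have h0 := topologicalKrullDim_zero_of_discreteTopology ↥(CohB1.ProjSpace 1 Ω)
    rw [hd] at h0
    exact absurd h0 (not_le.2 zero_lt_one)
  let U : C.Opens := ⨆ i, V i
  have hπV : ∀ i, IsIso (π ∣_ V i) := fun i => by
    haveI : IsIso (e i ∣_ V i) := by
      haveI : Surjective (e i ∣_ V i) := ⟨fun x => by
        have : x.1 ∈ Set.range (e i).base := by rw [hrange i]; exact hVsub i _ x.2
        obtain ⟨w, hw⟩ := this
        refine ⟨⟨w, by show (e i).base w ∈ V i; rw [hw]; exact x.2⟩, Subtype.ext ?_⟩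
        simpa [morphismRestrict_base] using hw⟩
      exact isIso_of_isClosedImmersion_of_surjective _
    have hle : e i ⁻¹ᵁ V i ≤ Sigma.ι W i ⁻¹ᵁ (π ⁻¹ᵁ V i) := by
      intro w hw
      show π ((Sigma.ι W i) w) ∈ V i
      rw [← Scheme.Hom.comp_apply, hι]
      exact hw
    let c := (Sigma.ι W i).resLE (π ⁻¹ᵁ V i) (e i ⁻¹ᵁ V i) hle
    have hc : c ≫ (π ∣_ V i) = e i ∣_ V i := by
      rw [← cancel_mono (V i).ι, Category.assoc, morphismRestrict_ι, morphismRestrict_ι, ← Category.assoc,
        Scheme.Hom.resLE_comp_ι, Category.assoc, hι]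
    haveI : IsIso c := by
      haveI : IsOpenImmersion c := by
        haveI : IsOpenImmersion (c ≫ (π ⁻¹ᵁ V i).ι) := by rw [Scheme.Hom.resLE_comp_ι]; infer_instance
        exact IsOpenImmersion.of_comp c (π ⁻¹ᵁ V i).ι
      haveI : Surjective c := ⟨fun z => by
        obtain ⟨⟨j, w⟩, hw⟩ := (sigmaMk W).surjective z.1
        rw [sigmaMk_mk] at hw
        have hz : π z.1 ∈ V i := z.2
        rw [← hw, ← Scheme.Hom.comp_apply, hι] at hz
        obtain rfl : j = i := hVuniq i j _ hz (by rw [← hrange j]; exact ⟨w, rfl⟩)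
        refine ⟨⟨w, hz⟩, Subtype.ext ?_⟩
        have h2 := congrArg (fun φ => φ.base ⟨w, hz⟩) ((Sigma.ι W j).resLE_comp_ι hle)
        exact h2.trans hw⟩
      exact (isIso_iff_isOpenImmersion_and_epi_base c).2 ⟨inferInstance, (TopCat.epi_iff_surjective _).2 c.surjective⟩
    have : π ∣_ V i = inv c ≫ (e i ∣_ V i) := by rw [← hc, IsIso.inv_hom_id_assoc]
    rw [this]; infer_instance
  have hπU : IsIso (π ∣_ U) := by
    refine IsZariskiLocalAtTarget.of_iSup_eq_top (P := MorphismProperty.isomorphisms Scheme.{u})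
      (fun i => U.ι ⁻¹ᵁ V i) ?_ fun i => ?_
    · apply U.ι.image_injective
      dsimp only
      rw [Scheme.Hom.image_iSup, Scheme.Hom.image_top_eq_opensRange, Scheme.Opens.opensRange_ι]
      simp [U, Scheme.Hom.image_preimage_eq_opensRange_inf, le_iSup V]
    · refine ((MorphismProperty.isomorphisms Scheme.{u}).arrow_mk_iso_iff
        (morphismRestrictRestrict π U _ ≪≫ morphismRestrictEq π ?_)).2 (hπV i)
      rw [Scheme.Hom.image_preimage_eq_opensRange_inf, Scheme.Opens.opensRange_ι]
      exact inf_eq_right.2 (le_iSup V i)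
  have hU : Dense (U : Set C) := fun x => by
    let i : {E : Set C // E ∈ irreducibleComponents (↥C : Type u)} := ⟨irreducibleComponent x, irreducibleComponent_mem_irreducibleComponents x⟩
    refine closure_mono ?_ (subset_closure_inter_of_isPreirreducible_of_isOpen i.2.1.2 (V i).isOpen (hVne i)
      mem_irreducibleComponent)
    exact fun z hz => TopologicalSpace.Opens.mem_iSup.2 ⟨i, hz.2⟩
  have hU' : Dense ((π ⁻¹ᵁ U : (∐ W : Scheme.{u}).Opens) : Set (∐ W : Scheme.{u})) := fun z => by
    obtain ⟨⟨i, w⟩, rfl⟩ := (sigmaMk W).surjective z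
    rw [sigmaMk_mk]
    have hd : Dense ((e i ⁻¹ᵁ V i : (CohB1.ProjSpace 1 Ω).Opens) : Set (CohB1.ProjSpace 1 Ω)) := by
      refine (e i ⁻¹ᵁ V i).isOpen.dense ?_
      obtain ⟨x, hx, hxV⟩ := hVne i
      rw [← hrange i] at hx
      obtain ⟨w', rfl⟩ := hx
      exact ⟨w', hxV⟩
    refine closure_mono ?_ (image_closure_subset_closure_image (Sigma.ι W i).continuous ⟨w, hd w, rfl⟩)
    rintro _ ⟨v, hv, rfl⟩
    show π ((Sigma.ι W i) v) ∈ U
    rw [← Scheme.Hom.comp_apply, hι]
    exact TopologicalSpace.Opens.mem_iSup.2 ⟨i, hv⟩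
  have h := NormGenusLib.genus_nodal (k := Ω) C hZ hnod (∐ W) π rfl hN U hU hU' hπU
  have hg : Curv2.genus Ω (∐ W : Scheme.{u}) = 0 := by
    haveI := h1_sigma W fun _ => VBP1Lib.h1_structure Ω
    exact Module.finrank_zero_of_subsingleton
  have hcc : Nat.card (_root_.ConnectedComponents C) = 1 := Nat.card_unique
  have hfinN : {x : ↥C | Curv2.IsNode Ω C x}.Finite := by
    refine (Set.finite_iUnion fun i : {E : Set C // E ∈ irreducibleComponents (↥C : Type u)} =>
      (StableCompLib.meet_finite (k := Ω) hdim hnod i.1 i.2).1).subset fun x hx => ?_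
    refine Set.mem_iUnion.2 ⟨⟨irreducibleComponent x, irreducibleComponent_mem_irreducibleComponents x⟩,
      mem_irreducibleComponent, ?_⟩
    by_contra hn
    let i : {E : Set C // E ∈ irreducibleComponents (↥C : Type u)} := ⟨irreducibleComponent x, irreducibleComponent_mem_irreducibleComponents x⟩
    have hxV : x ∈ V i := hn
    haveI := hπV i
    obtain ⟨z, hz⟩ := (Scheme.Hom.homeomorph (π ∣_ V i)).surjective ⟨x, hxV⟩
    obtain ⟨⟨j, w⟩, hw⟩ := (sigmaMk W).surjective z.1
    rw [sigmaMk_mk] at hw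
    have hzx : π z.1 = x := (by simpa [morphismRestrict_base] using congrArg Subtype.val hz)
    haveI := CurveVBLib.regular_stalk (k := Ω) (X := CohB1.ProjSpace 1 Ω) w
    haveI : IsRegularLocalRing ((∐ W : Scheme.{u}).presheaf.stalk ((Sigma.ι W j) w)) :=
      IsRegularLocalRing.of_ringEquiv (asIso ((Sigma.ι W j).stalkMap w)).commRingCatIsoToRingEquiv.symm
    apply NodalLib.not_regular_node (k := Ω) hx
    have hiso : IsIso (π.stalkMap z.1) :=
      ((MorphismProperty.isomorphisms CommRingCat.{u}).arrow_mk_iso_iff (morphismRestrictStalkMap π (V i) z)).1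
        (inferInstance : IsIso ((π ∣_ V i).stalkMap z))
    rw [← hzx, ← hw]
    rw [← hw] at hiso
    exact IsRegularLocalRing.of_ringEquiv (asIso (π.stalkMap ((Sigma.ι W j) w))).commRingCatIsoToRingEquiv.symm
  refine ⟨_, _, hfinN.cast_ncard_eq.symm, hfinI.cast_ncard_eq.symm, ?_⟩
  haveI : ∀ i, ConnectedSpace (W i) := fun _ => inferInstanceAs (ConnectedSpace (CohB1.ProjSpace 1 Ω))
  rw [hg, hcc, natCard_cc_sigma W] at h
  have e1 : Nat.card {E : Set C // E ∈ irreducibleComponents (↥C : Type u)} = (irreducibleComponents (↥C : Type u)).ncard :=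
    Nat.card_coe_set_eq _
  have e2 : Nat.card {x : C // Curv2.IsNode Ω C x} = {x : ↥C | Curv2.IsNode Ω C x}.ncard :=
    Nat.card_coe_set_eq _
  omega

omit [ConnectedSpace ↥C] in
theorem h1_sub (hdim : topologicalKrullDim ↥C = 1) [IsReduced C] (J : C.IdealSheafData)
    (hg : Curv2.genus Ω C = 0) :
    Subsingleton (Coh.HH J.subscheme (Coh.structureModule J.subscheme) 1) := by
  haveI := CurvLib.isNoetherian Ω (X := C)
  rw [NefH1Lib.Adj.subsingleton_h1_subscheme_iff Ω hdim]
  haveI := CurvLib.finite_HH (k := Ω) (CurvLib.isCoh_of_isInvertible (CurvLib.isInvertible_structureModule (X := C))) 1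
  have h1 : Subsingleton (Coh.HH C (Coh.structureModule C) 1) := (Module.finrank_zero_iff (R := Ω)).1 hg
  haveI : Epi (ClSub.toSubscheme J) := CurvLib.epi_toSubscheme J
  haveI := NefH1Lib.h1_of_epi (fun N _ => CurvLib.subsingleton_HH_of_dim_le N (d := 1) (by simp [hdim]) 2 (by norm_num)) QCohLib.isQCoh_unit (CurvLib.isCoh_quotMod J).1 (ClSub.toSubscheme J) h1
  exact Module.finrank_zero_of_subsingleton

end Aux

open CategoryTheory AlgebraicGeometry in
/-- Let Ω be an algebraically closed field of characteristic zero and let C be a scheme proper over Ω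
which is connected, of dimension one and has at-worst-nodal singularities. Then the first cohomology
of the structure sheaf of C vanishes if and only if C is a rational tree: every irreducible
component of C is the image of a closed immersion of the projective line over Ω, and the number of
nodes of C plus one equals the number of irreducible components. (The source phrases the second
condition as the absence of closed chains of components; for a connected nodal curve whose
components are projective lines the two conditions agree, a connected graph being a tree exactly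
when it has one more vertex than edges. The source takes Ω an algebraically closed extension of the
complex numbers.) -/
theorem result (Ω : Type u) [Field Ω] [IsAlgClosed Ω] [CharZero Ω]
    (C : Scheme.{u}) [C.Over (Spec (CommRingCat.of Ω))] [IsProper (C ↘ Spec (CommRingCat.of Ω))]
    [ConnectedSpace ↥C] (hdim : topologicalKrullDim ↥C = 1) (hnod : Curv2.AtWorstNodal Ω C) :
    Curv2.genus Ω C = 0 ↔
      ((∀ E ∈ irreducibleComponents (↥C : Type u), CurvSt.IsSmRatComp Ω C (C ↘ Spec (CommRingCat.of Ω)) E) ∧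
        {x : ↥C | Curv2.IsNode Ω C x}.encard + 1 = (irreducibleComponents (↥C : Type u)).encard) := by
  have hred : IsReduced C := NodalLib.isReduced (k := Ω) hnod
  constructor
  · intro hg
    have hr : ∀ E ∈ irreducibleComponents (↥C : Type u), CurvSt.IsSmRatComp Ω C (C ↘ Spec (CommRingCat.of Ω)) E :=
      fun E hE => (StableCompLib.smRat_iff hdim hnod E hE).2 (h1_sub C hdim _ hg)
    obtain ⟨s, t, hs, ht, h⟩ := count C hdim hnod hr
    refine ⟨hr, ?_⟩
    rw [hs, ht]
    exact_mod_cast (show s + 1 = t by omega)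
  · rintro ⟨hr, h'⟩
    obtain ⟨s, t, hs, ht, h⟩ := count C hdim hnod hr
    rw [hs, ht] at h'
    have : s + 1 = t := by exact_mod_cast h'
    omega

end Groth.Agent.S17258
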