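import Groth.Statements.S17259
import Mathlib.RingTheory.Ideal.Quotient.Operations

set_option autoImplicit false
open CAlg

namespace Groth.Agent.S17259

/-- Let A, B, C be rings, f : B → A and g : B → C ring homomorphisms, and φ : A → B a homomorphism of
additive groups such that the sequence A → B → C → 0 (maps φ, g) is exact and f ∘ φ is
multiplication by a central element a of A which is not a zero divisor. Then the projection p : A →
A/(a) composed with f factors through g as a ring homomorphism q : C → A/(a), the homomorphism (f,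
g) : B → A × C is injective, and its image is the fibre product of A and C over A/(a) along p and q;
thus (f, g) is a ring isomorphism from B onto that fibre product. (The two-sidedness of the ideal
generated by a, automatic for a central element, is carried as an instance hypothesis.) -/
theorem result {A B C : Type*} [Ring A] [Ring B] [Ring C]
    (f : B →+* A) (g : B →+* C) (φ : A →+ B) (a : A)
    (hc : ∀ x : A, Commute a x) (ha : a ∈ nonZeroDivisors A)
    (hex : Function.Exact φ g) (hg : Function.Surjective g)
    (hφ : ∀ x : A, f (φ x) = a * x)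
    [(Ideal.span ({a} : Set A)).IsTwoSided] :
    ∃ q : C →+* A ⧸ Ideal.span ({a} : Set A),
      q.comp g = (Ideal.Quotient.mk (Ideal.span ({a} : Set A))).comp f ∧
      Function.Injective (f.prod g) ∧
      (f.prod g).range = (Ideal.Quotient.mk (Ideal.span ({a} : Set A))).pullback q := by
  let p := Ideal.Quotient.mk (Ideal.span ({a} : Set A))
  have hker : RingHom.ker g ≤ RingHom.ker (p.comp f) := fun y hy => by
    obtain ⟨x, rfl⟩ := (hex y).1 hy
    rw [RingHom.mem_ker, RingHom.comp_apply, hφ, (hc x).eq]
    exact Ideal.Quotient.eq_zero_iff_mem.2 (Ideal.mul_mem_left _ _ (Ideal.mem_span_singleton_self a))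
  refine ⟨g.liftOfSurjective hg ⟨p.comp f, hker⟩, g.liftOfRightInverse_comp _ _ _, ?_, ?_⟩
  · rw [injective_iff_map_eq_zero]
    intro y hy
    obtain ⟨x, rfl⟩ := (hex y).1 (congrArg Prod.snd hy)
    have h1 : f (φ x) = 0 := congrArg Prod.fst hy
    rw [hφ] at h1
    first
      | rw [(mem_nonZeroDivisors_iff.1 ha).2 x h1, map_zero]
      | rw [(mem_nonZeroDivisors_iff.1 ha).1 x h1, map_zero]
  · ext ⟨u, c⟩
    constructor
    · rintro ⟨y, hy⟩
      obtain ⟨rfl, rfl⟩ := Prod.mk.injEq _ _ _ _ ▸ hy
      exact (RingHom.congr_fun (g.liftOfRightInverse_comp _ _ ⟨p.comp f, hker⟩) y).symm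
    · intro h
      obtain ⟨y, rfl⟩ := hg c
      have h1 : p u = p (f y) :=
        (show p u = _ from h).trans (RingHom.congr_fun (g.liftOfRightInverse_comp _ _ ⟨p.comp f, hker⟩) y)
      obtain ⟨r, hr⟩ := Ideal.mem_span_singleton'.1 (Ideal.Quotient.eq.1 h1)
      refine ⟨y + φ r, Prod.ext ?_ ?_⟩
      · show f (y + φ r) = u
        rw [map_add, hφ, (show a * r = r * a from (hc r).eq), hr, add_sub_cancel]
      · show g (y + φ r) = g y
        rw [map_add, (hex (φ r)).2 ⟨r, rfl⟩, add_zero]

end Groth.Agent.S17259
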