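import Groth.Statements.S17262
import Groth.Agent.NodalTreeLib.Main

set_option autoImplicit false
set_option backward.isDefEq.respectTransparency false
set_option backward.isDefEq.respectTransparency.types false
set_option maxHeartbeats 1000000

universe u
open CategoryTheory CategoryTheory.Limits AlgebraicGeometry
attribute [local instance] HasDerivedCategory.standard
open Curves

namespace Groth.Agent.S17262

/-- Let Ω be an algebraically closed field of characteristic zero and C a scheme proper over Ω which is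
connected, of dimension one, at-worst-nodal, with vanishing first cohomology of the structure sheaf,
and with at most three nodes. Let ω be the dualizing module of C over Ω (via the upper-shriek
functor, whose existence is assumed) and ω' an O_C-module with ω' ⊗ ω ≅ O_C. Then ω ⊗ ω has no
nonzero global sections, the first cohomology of ω' vanishes, and the global sections of ω' form a
three-dimensional Ω-vector space. (The source states that for a family of such curves with at most
three nodes in each fibre the direct image of the inverse of the relative dualizing sheaf is locally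
free of rank three and commutes with base change; this row is the statement on each geometric fibre
from which that follows. The published statement is over the complex numbers; it is stated here over
any algebraically closed field of characteristic zero.) -/
theorem result (Ω : Type u) [Field Ω] [IsAlgClosed Ω] [CharZero Ω]
    (C : Scheme.{u}) [C.Over (Spec (CommRingCat.of Ω))] [IsProper (C ↘ Spec (CommRingCat.of Ω))] [ConnectedSpace ↥C]
    (hdim : topologicalKrullDim ↥C = 1) (hnod : Curv2.AtWorstNodal Ω C) (hg : Curv2.genus Ω C = 0)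
    (h3 : {x : ↥C | Curv2.IsNode Ω C x}.encard ≤ 3)
    [DCoh.HasRpush (C ↘ Spec (CommRingCat.of Ω))] (h : DCoh.RpushPreservesQCoh (C ↘ Spec (CommRingCat.of Ω))) [DCoh.HasShriek (C ↘ Spec (CommRingCat.of Ω)) h]
    (OY : DCoh.DQCoh (Spec (CommRingCat.of Ω))) (hOY : Nonempty (OY.obj ≅ DCoh.inD (Spec (CommRingCat.of Ω)) (Coh.structureModule (Spec (CommRingCat.of Ω)))))
    (ωd : C.Modules) (hωd : ClSub.IsInverseOf ωd (DCoh.dualizingMod (C ↘ Spec (CommRingCat.of Ω)) h OY 1)) :
    Subsingleton (Coh.HH C (CohB1.tensorPow (DCoh.dualizingMod (C ↘ Spec (CommRingCat.of Ω)) h OY 1) 2) 0) ∧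
      Subsingleton (Coh.HH C ωd 1) ∧ Module.finrank Ω (Coh.HH C ωd 0) = 3 := by
  haveI := NodalLib.isReduced Ω hnod
  haveI := CurvLib.isNoetherian Ω (X := C)
  have hd1 : topologicalKrullDim C ≤ ((1 : ℕ) : WithBot ℕ∞) := by simpa using hdim.le
  have hH1 : Subsingleton (Coh.HH C (Coh.structureModule C) 1) := by
    haveI := CurvLib.finite_HH (k := Ω) (DevissLib.isCoh_structureModule C) 1
    exact (Module.finrank_zero_iff (R := Ω)).mp hg
  obtain ⟨hdual, hχ⟩ := NefH1Lib.Adj.setup Ω hdim h OY hOY
  have hω := NodalLib.omega_invertible Ω hdim (fun x => (NodalLib.stalk_facts Ω hnod x).2) h OY hOY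
  obtain ⟨e'⟩ := hωd
  have hd : PicF.IsInvertible ωd :=
    Groth.Agent.S2122.result ωd _ e'
  have hk : ∀ J : C.IdealSheafData, IsReduced J.subscheme → ConnectedSpace J.subscheme →
      topologicalKrullDim J.subscheme = 1 → (NefH1Lib.Adj.kJ Ω J : ℤ) ≤ 3 := fun J hr hc hdJ => by
    exact_mod_cast NodalTreeLib.kJ_le_nodes Ω hdim hnod hr hc hdJ (n := 3) (by exact_mod_cast h3)
  have hv : Subsingleton (Coh.HH C ωd 1) := NefH1Lib.Adj.subsingleton_h1 Ω hdim hd fun J hr hc hdJ => by
    have h1 := hk J hr hc hdJ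
    have h2 := NodalTreeLib.dJ_omega_eq Ω hdim hω hdual hχ hH1 hr hc hdJ
    rw [NodalLib.gJ_eq_zero Ω hdim hdual hH1 J]
    obtain ⟨T, B, hTm, -, -, -, -, rfl, -⟩ := NefH1Lib.Adj.exists_sub Ω hdim J hr hc hdJ
    rw [NefH1Lib.Adj.dJ, NefH1Lib.Adj.deg_subscheme Ω hω] at h2
    rw [NefH1Lib.Adj.dJ, NefH1Lib.Adj.deg_subscheme Ω hd,
      NodalTreeLib.delta_dual Ω hdim hω hd (HilbPolyLib.swapIso _ _ ≪≫ e') hTm]
    push_cast
    omega
  refine ⟨?_, hv, ?_⟩
  · refine NodalTreeLib.subsingleton_h0 Ω hdim hω hdual hχ hH1 (AmpleThLib.tensorPow_isInvertible hω 2)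
      fun J hr hc hdJ => ?_
    have h1 := hk J hr hc hdJ
    have h2 := NodalTreeLib.dJ_omega_eq Ω hdim hω hdual hχ hH1 hr hc hdJ
    rw [NefH1Lib.Adj.deg_pow_sub Ω hdim hω 2 J hr hc hdJ, h2]
    push_cast
    omega
  · have hdeg := NefH1Lib.Adj.deg_dualizing Ω hdim hω hdual hχ
    obtain ⟨ea⟩ := NefH1Lib.Adj.nonempty_quot_all (X := C) (T := {η : C | NefH1Lib.Subcurve.IsMaxPt η}) fun η h => h
    rw [NefH1Lib.Adj.deg_eq_delta, NefH1Lib.Adj.delta_congr Ω _ ea, hg] at hdeg
    have hdual' : Curv2.deg Ω C ωd 1 = 2 := by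
      rw [NefH1Lib.Adj.deg_eq_delta, NefH1Lib.Adj.delta_congr Ω _ ea,
        NodalTreeLib.delta_dual Ω hdim hω hd (HilbPolyLib.swapIso _ _ ≪≫ e') (T := {η : C | NefH1Lib.Subcurve.IsMaxPt η})
          (fun η h => h), hdeg]
      norm_num
    have hvn : ∀ M : C.Modules, ∀ n, 2 ≤ n → Subsingleton (Coh.HH C M n) := fun M n hn =>
      CurvLib.subsingleton_HH_of_dim_le M hd1 n (by omega)
    rw [Curv2.deg, CurvLib.euler_eq_sub (k := Ω) (hvn ωd), CurvLib.euler_eq_sub (k := Ω) (hvn _),
      NefH1Lib.Adj.finrank_h0 Ω, Module.finrank_zero_of_subsingleton (R := Ω) (M := Coh.HH C ωd 1),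
      Module.finrank_zero_of_subsingleton (R := Ω) (M := Coh.HH C (Coh.structureModule C) 1)] at hdual'
    omega

end Groth.Agent.S17262
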