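import Groth.Statements.S1727
import Groth.Agent.LcFinLib.Main

set_option autoImplicit false
universe u
open CategoryTheory
attribute [local instance] HasDerivedCategory.standard
open LocCoh

namespace Groth.Agent.S1727

/-- Let A be a Noetherian ring with a dualizing complex, T ⊆ Spec A stable under specialization, s ≥ 0
and M a finite A-module. Then H^i_T(M) is a finite A-module for all i ≤ s if and only if for every
prime p outside T and every q in T containing p, depth(M_p) plus the Krull dimension of the interval
of primes [p, q] exceeds s. -/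
theorem result (A : Type u) [CommRing A] [IsNoetherianRing A] (hA : ∃ ω : Dual.D A, Dual.IsDualizing A ω) (T : Set (PrimeSpectrum A)) (hT : StableUnderSpecialization T) (s : ℕ) (M : Type u) [AddCommGroup M] [Module A M] [Module.Finite A M] : (∀ i : ℕ, i ≤ s → Module.Finite A (Dual2.HT T i M)) ↔ (∀ p q : PrimeSpectrum A, p ∉ T → q ∈ T → p ≤ q → (s : WithBot ℕ∞) < ((LocCoh.depth (Localization.AtPrime p.asIdeal) (LocalizedModule p.asIdeal.primeCompl M) : ℕ∞) : WithBot ℕ∞) + Order.krullDim (Set.Icc p q)) := by
  obtain ⟨ω, hω⟩ := hA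
  constructor
  · intro h p q hp hq hpq
    obtain ⟨J, hJ, hk⟩ := ((LcFinLib.htGD T).finite_iff_killed (ModuleCat.of A M) s).1 h
    exact LcFinLib.lt_depth_add_of_kill hω M (LcFinLib.htGD T) hT T s J hJ hk p q hp hq hpq
  · intro h
    obtain ⟨J, hJ, hk⟩ := LcFinLib.exists_ideal_kill hω M (LcFinLib.htGD T) hT T hT s h
    exact ((LcFinLib.htGD T).finite_iff_killed (ModuleCat.of A M) s).2 ⟨J, hJ, hk⟩

end Groth.Agent.S1727
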