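import Groth.Statements.S17276
import Groth.Agent.IntMultLib.Components
import Groth.Agent.S1641

set_option autoImplicit false
universe u
open CategoryTheory CategoryTheory.Limits AlgebraicGeometry TopologicalSpace
open Variety

namespace Groth.Agent.S17276

/-- Let X be a proper scheme over a field k of dimension one (possibly reducible or non-reduced) and L
an invertible O_X-module that is nef, meaning χ(O_C ⊗ L) - χ(O_C) ≥ 0 for every integral closed
subscheme C ⊆ X of dimension one. Then the degree of L on X, namely χ(L) - χ(O_X), is nonnegative. -/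
theorem result (k : Type u) [Field k] (X : Scheme.{u})
    [X.Over (Spec (CommRingCat.of k))] [IsProper (X ↘ (Spec (CommRingCat.of k)))]
    (hdim : topologicalKrullDim X = 1) (L : X.Modules) (hL : PicF.IsInvertible L)
    (hnef : ∀ C : X.IdealSheafData, IsIntegral C.subscheme →
      topologicalKrullDim (C.support : Set X) = 1 →
        0 ≤ Curv2.euler k X (CohB1.tensorMod (ClSub.quotMod C) L) - Curv2.euler k X (ClSub.quotMod C)) :
    0 ≤ Curv2.deg k X L 1 := by
  haveI := CurvLib.isNoetherian k (X := X)
  have hE := CurvLib.locFree_of_isInvertible hL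
  rw [Groth.Agent.S1641.result k X hdim.le 1 L hE]
  refine finsum_nonneg fun Z => ?_
  split_ifs with hZ
  · refine mul_nonneg (Nat.cast_nonneg _) ?_
    have hJ : (X.irreducibleComponentIdeal Z.1 Z.2).radical = IntMultLib.ptIdeal Z.2.1.genericPoint := by
      rw [← Scheme.IdealSheafData.vanishingIdeal_support]
      refine congrArg _ (SetLike.coe_injective ?_)
      exact (Z.2.1.isGenericPoint_genericPoint_closure.def.trans
        (isClosed_of_mem_irreducibleComponents _ Z.2).closure_eq).symm
    rw [hJ, ← IntMultLib.euler_quotMod_tensor k hE]
    have h := hnef (IntMultLib.ptIdeal Z.2.1.genericPoint) (IntMultLib.isIntegral_ptIdeal _) (by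
      rw [← hZ, Scheme.IdealSheafData.coe_support_vanishingIdeal]
      change topologicalKrullDim (closure ({Z.2.1.genericPoint} : Set X)) = _
      rw [Z.2.1.isGenericPoint_genericPoint_closure.def,
        (isClosed_of_mem_irreducibleComponents _ Z.2).closure_eq])
    simpa using h
  · exact le_rfl

end Groth.Agent.S17276
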