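import Groth.Statements.S17277
import Mathlib
import Groth.Agent.GrowthLib.Proper
-- import your own Groth.Agent.* helpers here

set_option autoImplicit false
universe u
open CategoryTheory CategoryTheory.Limits AlgebraicGeometry TopologicalSpace
open Variety

namespace Groth.Agent.S17277

/-- Let X be a proper scheme over a field k of dimension d and L an invertible O_X-module that is big:
there is a real constant c > 0 with dim_k H^0(X, L^{⊗n}) > c·n^d for all sufficiently large n. Then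
for every closed subscheme Z ⊆ X of dimension < d, with quasi-coherent ideal sheaf I_Z, there is an
integer m > 0 with H^0(X, I_Z ⊗ L^{⊗m}) ≠ 0. -/
theorem result (k : Type u) [Field k] (X : Scheme.{u})
    [X.Over (Spec (CommRingCat.of k))] [IsProper (X ↘ (Spec (CommRingCat.of k)))]
    (d : ℕ) (hdim : topologicalKrullDim X = d) (L : X.Modules) (hL : PicF.IsInvertible L)
    (hbig : ∃ c : ℝ, 0 < c ∧ ∀ᶠ n : ℕ in Filter.atTop,
      c * (n : ℝ) ^ d < (Module.finrank k (Coh.HH X (CohB1.tensorPow L n) 0) : ℝ))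
    (Z : X.IdealSheafData) (hZ : topologicalKrullDim (Z.support : Set X) < d) :
    ∃ m : ℕ, 0 < m ∧
      Nontrivial (Coh.HH X (CohB1.tensorMod (ClSub.idealMod Z) (CohB1.tensorPow L m)) 0) := by
  obtain ⟨c, hc, hev⟩ := hbig
  haveI := CurvLib.isNoetherian k (X := X)
  have hQ : Coh.IsCoh (ClSub.quotMod Z) := CurvLib.isCoh_quotMod Z
  have hO := DevissLib.isCoh_structureModule X
  have hI : Coh.IsCoh (ClSub.idealMod Z) := QCohLib.isCoh_kernel (ClSub.toSubscheme Z) hO hQ.1
  obtain ⟨C, hC⟩ := GrowthLib.exists_small_twist (k := k) hL hQ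
    ((IntFunLib.dim_mono (CurvLib.support_quotMod_subset Z)).trans_lt hZ)
  obtain ⟨n, hn1, hn2, hn3⟩ := ((Filter.eventually_ge_atTop 1).and (hev.and
    (GrowthLib.exists_half (f := fun n => HodgeIdxLib.hh k (CohB1.tensorMod (CohB1.tensorPow L n) (ClSub.quotMod Z)) 0) hC hc))).exists
  refine ⟨n, hn1, ?_⟩
  have hLn := AmpleThLib.tensorPow_isInvertible hL n
  have h1 := HodgeIdxLib.ses_left (k := k) hLn (CurvLib.idealSeq_shortExact Z) hI hO hQ 0
  change HodgeIdxLib.hh k (CohB1.tensorMod (CohB1.tensorPow L n) (Coh.structureModule X)) 0 ≤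
    HodgeIdxLib.hh k (CohB1.tensorMod (CohB1.tensorPow L n) (ClSub.idealMod Z)) 0 +
      HodgeIdxLib.hh k (CohB1.tensorMod (CohB1.tensorPow L n) (ClSub.quotMod Z)) 0 at h1
  rw [HodgeIdxLib.hh_congr (HilbPolyLib.swapIso _ _ ≪≫ HilbPolyLib.unitLeft (CohB1.tensorPow L n)) 0,
    HodgeIdxLib.hh_congr (HilbPolyLib.swapIso _ (ClSub.idealMod Z)) 0] at h1
  refine Module.nontrivial_of_finrank_pos (R := k) (Nat.pos_of_ne_zero fun h0 => ?_)
  have h2 : (HodgeIdxLib.hh k (CohB1.tensorPow L n) 0 : ℝ) ≤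
      (HodgeIdxLib.hh k (CohB1.tensorMod (CohB1.tensorPow L n) (ClSub.quotMod Z)) 0 : ℝ) := by
    have : HodgeIdxLib.hh k (CohB1.tensorMod (ClSub.idealMod Z) (CohB1.tensorPow L n)) 0 = 0 := h0
    exact_mod_cast h1.trans (le_of_eq (by rw [this, Nat.zero_add]))
  have h3 : c * (n : ℝ) ^ d < (HodgeIdxLib.hh k (CohB1.tensorPow L n) 0 : ℝ) := hn2
  have h4 := hn3 le_rfl
  have h5 : (0 : ℝ) ≤ c * (n : ℝ) ^ d := by positivity
  linarith

end Groth.Agent.S17277
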