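import Groth.Statements.S17278
import Mathlib
import Groth.Agent.GrowthLib.Nef
-- import your own Groth.Agent.* helpers here

set_option autoImplicit false
universe u
open CategoryTheory CategoryTheory.Limits AlgebraicGeometry TopologicalSpace
open Variety

namespace Groth.Agent.S17278

/-- Let X be a projective variety over a field k (an integral scheme, proper over k, carrying an ample
invertible module A₀) of dimension d, and L an invertible O_X-module. Then L is big, meaning that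
for some real c > 0 one has dim_k H^0(X, L^{⊗n}) > c·n^d for all sufficiently large n, if and only
if for every ample invertible O_X-module A, with a tensor inverse A' (A' ⊗ A ≅ O_X), there is an
integer m > 0 with H^0(X, A' ⊗ L^{⊗m}) ≠ 0. -/
theorem result (k : Type u) [Field k]
    (X : Scheme.{u}) [X.Over (Spec (CommRingCat.of k))] [IsProper (X ↘ (Spec (CommRingCat.of k)))] [IsIntegral X]
    (A₀ : X.Modules) (hA₀ : CohB1.IsAmple A₀)
    (d : ℕ) (hdim : topologicalKrullDim X = d) (L : X.Modules) (hL : PicF.IsInvertible L) :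
    (∃ c : ℝ, 0 < c ∧ ∀ᶠ n : ℕ in Filter.atTop,
        c * (n : ℝ) ^ d < (Module.finrank k (Coh.HH X (CohB1.tensorPow L n) 0) : ℝ)) ↔
      ∀ (A A' : X.Modules), CohB1.IsAmple A → ClSub.IsInverseOf A' A →
        ∃ m : ℕ, 0 < m ∧ Nontrivial (Coh.HH X (CohB1.tensorMod A' (CohB1.tensorPow L m)) 0) := by
  haveI := CurvLib.isNoetherian k (X := X)
  constructor
  · rintro ⟨c, hc, h⟩ A A' hA hA'
    obtain ⟨m₁, hm₁⟩ := Filter.eventually_atTop.mp h
    obtain ⟨e⟩ := hA'
    have hA'i := IntMultLib.isInvertible_of_inverse hA.1 (HilbPolyLib.swapIso A A' ≪≫ e)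
    obtain ⟨m, φ, hm, hφ⟩ := GrowthLib.isBigMod_of_grows (k := k) hA₀ hL hdim
      (GrowthLib.grows_of_evGrows (k := k) ⟨c, hc, m₁, fun n hn => (hm₁ n hn).le⟩) A hA
    obtain ⟨ψ, hψ⟩ := NumRLib.mono_tensor hA'i φ
    haveI : Mono (e.inv ≫ ψ) := mono_comp' inferInstance hψ
    have hM := HilbPolyLib.isInvertible_tensor hA'i (AmpleThLib.tensorPow_isInvertible hL m)
    have h1 := GrowthLib.hh_le_of_mono (k := k) (e.inv ≫ ψ) (DevissLib.isCoh_structureModule X)
      (CurvLib.isCoh_of_isInvertible hM)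
    exact ⟨m, hm, Module.nontrivial_of_finrank_pos (lt_of_lt_of_le (GrowthLib.hh_structure_pos k X) h1)⟩
  · intro h
    letI := LMLib.law X
    obtain ⟨A', hA'i, ⟨e⟩⟩ := NumRLib.exists_inverse (k := k) hA₀.1
    obtain ⟨m, hm, hne⟩ := h A₀ A' hA₀ ⟨HilbPolyLib.swapIso A' A₀ ≪≫ e⟩
    have hLm := AmpleThLib.tensorPow_isInvertible hL m
    obtain ⟨s, hs⟩ := CurvLib.exists_hom_ne_zero hne
    haveI := CurvLib.mono_of_ne_zero CurvLib.isInvertible_structureModule (HilbPolyLib.isInvertible_tensor hA'i hLm) hs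
    haveI : Mono (s ≫ (HilbPolyLib.swapIso A' (CohB1.tensorPow L m)).hom) := mono_comp' ‹_› inferInstance
    obtain ⟨φ, hφ⟩ := NumRLib.exists_mono_twist (k := k) hA₀.1 e
      (s ≫ (HilbPolyLib.swapIso A' (CohB1.tensorPow L m)).hom)
    obtain ⟨C, hC, m₁, hev⟩ := GrowthLib.evGrows_of_isBigMod (k := k) hA₀ hL hdim
      (GrowthLib.isBigMod_of_bigPow (k := k) hL ⟨m, A₀, φ, hm, hA₀, hφ⟩)
    refine ⟨C / 2, by positivity, Filter.eventually_atTop.mpr ⟨m₁ + 1, fun n hn => ?_⟩⟩
    refine lt_of_lt_of_le (mul_lt_mul_of_pos_right (by linarith) (pow_pos ?_ _)) (hev n (by omega))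
    exact_mod_cast (show 0 < n by omega)

end Groth.Agent.S17278
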