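import Groth.Statements.S1728
import Groth.Agent.InjHullLib.Noetherian
-- import your own Groth.Agent.* helpers here

set_option autoImplicit false
universe u
open InjHull

namespace Groth.Agent.S1728

/-- Let I be an injective R-module and E a submodule of I. Then E is an injective module if and only if
every submodule E' of I containing E, such that every nonzero submodule of E' meets E nontrivially,
is equal to E. -/
theorem result (R : Type u) [CommRing R] (I : Type u) [AddCommGroup I] [Module R I] [Module.Injective R I] (E : Submodule R I) : Module.Injective R E ↔ ∀ E' : Submodule R I, E ≤ E' → (∀ N : Submodule R I, N ≤ E' → N ≠ ⊥ → N ⊓ E ≠ ⊥) → E' = E := by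
  refine ⟨fun hE E' hle hess => le_antisymm ?_ hle, InjHullLib.injective_of_no_essential ‹_› E⟩
  obtain ⟨p, hp⟩ := InjHullLib.exists_extend hE E.subtype (Submodule.injective_subtype E) LinearMap.id
  intro x hx
  have hy : x - (p x : I) ∈ E' ⊓ LinearMap.ker p := ⟨E'.sub_mem hx (hle (p x).2), by
    rw [SetLike.mem_coe, LinearMap.mem_ker, map_sub, show p (p x : I) = p x from LinearMap.congr_fun hp (p x), sub_self]⟩
  have hbot : (E' ⊓ LinearMap.ker p) ⊓ E = ⊥ := by
    rw [Submodule.eq_bot_iff]
    rintro z ⟨⟨-, hz⟩, hzE⟩
    have h1 := LinearMap.congr_fun hp ⟨z, hzE⟩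
    simp only [LinearMap.comp_apply, Submodule.subtype_apply, LinearMap.id_apply] at h1
    rw [LinearMap.mem_ker.1 hz] at h1
    exact (congrArg Subtype.val h1).symm
  have h0 : E' ⊓ LinearMap.ker p = ⊥ := by_contra fun h => hess _ inf_le_left h hbot
  rw [h0, Submodule.mem_bot, sub_eq_zero] at hy
  rw [hy]; exact (p x).2

end Groth.Agent.S1728
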