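import Groth.Statements.S17281
import Mathlib
import Groth.Agent.NefCurveLib.Vanish
import Groth.Agent.NumRLib.Big
import Groth.Agent.LMLib.Rank
import Groth.Agent.HopfIneqLib.Sections
import Groth.Agent.GenusZeroLib.Degrees
-- import your own Groth.Agent.* helpers here

set_option autoImplicit false
universe u
open CategoryTheory CategoryTheory.Limits AlgebraicGeometry TopologicalSpace
open Curves

namespace Groth.Agent.S17281

/-- Fix an algebraically closed field k and a regular projective curve C over it (integral, proper over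
k, of dimension one, all local rings regular) of genus g = dim_k H^1(C, O_C), E a finite locally
free O_C-module that is nef in the curve-test sense (for every regular projective curve C' over k,
every k-morphism f : C' → C and every invertible quotient M of f^*E, deg M = χ(M) - χ(O_{C'}) ≥ 0),
and H an invertible O_C-module with deg H = χ(H) - χ(O_C) ≥ 2g. Then E ⊗ H is generated by its
global sections. -/
theorem result (k : Type u) [Field k] [IsAlgClosed k]
    (X : Scheme.{u}) [X.Over (Spec (CommRingCat.of k))] [IsProper (X ↘ (Spec (CommRingCat.of k)))] [IsIntegral X]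
    (hdim : topologicalKrullDim X = 1) (hreg : ∀ x : X, IsRegularLocalRing (X.presheaf.stalk x))
    (E : X.Modules) (hE : FlatMod.IsFinLocFree E)
    (hnef : ∀ (C : Scheme.{u}) [C.Over (Spec (CommRingCat.of k))] [IsProper (C ↘ (Spec (CommRingCat.of k)))] [IsIntegral C],
      topologicalKrullDim C = 1 → (∀ x : C, IsRegularLocalRing (C.presheaf.stalk x)) →
      ∀ (f : C ⟶ X), f ≫ (X ↘ (Spec (CommRingCat.of k))) = C ↘ (Spec (CommRingCat.of k)) →
      ∀ (M : C.Modules), PicF.IsInvertible M →
      ∀ (q : (Scheme.Modules.pullback f).obj E ⟶ M), Epi q → 0 ≤ Curv2.deg k C M 1)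
    (H : X.Modules) (hH : PicF.IsInvertible H)
    (hdeg : 2 * (Curv2.genus k X : ℤ) ≤ Curv2.deg k X H 1) :
    Curv2.IsGloballyGenerated (CohB1.tensorMod E H) := by
  haveI := CurvLib.isNoetherian k (X := X)
  have hHr := (CohCmpLib.invertible_iff_rank_one H).1 hH
  have hEr := CurveVBLib.rank_genRank hE
  have hEc := CurvLib.isCoh_of_locFree hEr
  have hA : ∀ {G : X.Modules}, PicF.IsInvertible G → FlatMod.IsFinLocFree (CohB1.tensorMod E G) := fun {G} hG =>
    CurveVBLib.isFinLocFree_of_rank (HopfIneqLib.locFree_tensor hEr ((CohCmpLib.invertible_iff_rank_one G).1 hG))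
  have hN := HopfIneqLib.locFree_tensor hEr hHr
  refine NefCurveLib.gg_of_h1 (k := k) hdim hN fun x hx => ?_
  obtain ⟨hdvr, hr⟩ := GenusZeroLib.closed_point_data (k := k) hdim hx
    (haveI := hreg x; NormalLib.isIntegrallyClosed_of_isRegularLocalRing _)
  obtain ⟨L, ⟨eL⟩, hL, hLd⟩ := GenusZeroLib.exists_idealMod_iso (k := k) hx hdim
  rw [hr] at hLd
  let G := CohB1.tensorMod L H
  have hG : PicF.IsInvertible G := HilbPolyLib.isInvertible_tensor hL hH
  have hGd : Curv2.deg k X G 1 = Curv2.deg k X H 1 - 1 := by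
    rw [GenusZeroLib.deg_tensor k hdim hL hH, hLd]; push_cast; ring
  let e : CohB1.tensorMod (ClSub.idealMod (GenusZeroLib.ptIdeal hx)) (CohB1.tensorMod E H) ≅ CohB1.tensorMod E G :=
    HilbPolyLib.congrLeft eL.symm _ ≪≫ (HilbPolyLib.assocIso L E H).symm ≪≫
      HilbPolyLib.congrLeft (HilbPolyLib.swapIso L E) H ≪≫ HilbPolyLib.assocIso E L H
  suffices h : Subsingleton (Coh.HH X (CohB1.tensorMod E G) 1) from
    (CurvLib.hIso (k := k) e 1).toEquiv.subsingleton_congr.mpr h
  refine NefCurveLib.subsingleton_h1_of_quot (k := k) hdim hreg (hA hG) fun M hM q hq => ?_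
  letI := LMLib.law X
  obtain ⟨G', hG', ⟨eG⟩⟩ := NumRLib.exists_inverse (k := k) hG
  haveI : DCoh.HasSheafHom G' := (HomCohLib.homAdj G').isLeftAdjoint
  let T := (DCoh.tensorBi (X := X)).obj G'
  haveI := hq
  haveI : Epi (T.map q) := inferInstance
  let i : E ≅ T.obj (CohB1.tensorMod E G) := (PicPnLib.unitRight E).symm ≪≫ HilbPolyLib.congrRight E eG.symm ≪≫
    (HilbPolyLib.assocIso E G G').symm ≪≫ HilbPolyLib.swapIso _ G'
  have hMG : PicF.IsInvertible (CohB1.tensorMod G' M) := HilbPolyLib.isInvertible_tensor hG' hM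
  have h1 := hnef X hdim hreg (𝟙 X) (Category.id_comp _) _ hMG
    (((Scheme.Modules.pullbackId X).app E).hom ≫ i.hom ≫ T.map q)
    (@epi_comp _ _ _ _ _ _ inferInstance _ (@epi_comp _ _ _ _ _ _ inferInstance _ ‹Epi (T.map q)›))
  have h2 := GenusZeroLib.deg_tensor k hdim hG hG'
  rw [show Curv2.deg k X (CohB1.tensorMod G G') 1 = 0 by
    rw [Curv2.deg, CurvLib.euler_congr eG, Nat.cast_one, one_mul, sub_self]] at h2
  rw [GenusZeroLib.deg_tensor k hdim hG' hM] at h1
  omega

end Groth.Agent.S17281
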