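import Groth.Statements.S17283
import Mathlib
import Groth.Agent.NefCurveLib.CurveTest
-- import your own Groth.Agent.* helpers here

set_option autoImplicit false
universe u
open CategoryTheory CategoryTheory.Limits AlgebraicGeometry TopologicalSpace
open Variety

namespace Groth.Agent.S17283

/-- Scheme case, curve-test form of nefness: let f : Y → X be a surjective k-morphism of proper schemes
over a field k and E a finite locally free O_X-module. If the pullback f^*E is nef on Y in the
curve-test sense (for every regular projective curve C over k — integral, proper over k, of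
dimension one, all local rings regular — every k-morphism g : C → Y and every invertible quotient M
of g^*(f^*E), deg M = χ(M) - χ(O_C) ≥ 0), then E is nef on X in the same sense. (The source states
this for proper algebraic spaces with nefness of O(1) on P(E); on proper schemes the senses agree by
the Barton–Kleiman criterion.) -/
theorem result (k : Type u) [Field k] (X Y : Scheme.{u})
    [X.Over (Spec (CommRingCat.of k))] [IsProper (X ↘ (Spec (CommRingCat.of k)))] [Y.Over (Spec (CommRingCat.of k))] [IsProper (Y ↘ (Spec (CommRingCat.of k)))]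
    (f : Y ⟶ X) (hf : f ≫ (X ↘ (Spec (CommRingCat.of k))) = Y ↘ (Spec (CommRingCat.of k))) [Surjective f]
    (E : X.Modules) (hE : FlatMod.IsFinLocFree E)
    (hnef : ∀ (C : Scheme.{u}) [C.Over (Spec (CommRingCat.of k))] [IsProper (C ↘ (Spec (CommRingCat.of k)))] [IsIntegral C],
      topologicalKrullDim C = 1 → (∀ x : C, IsRegularLocalRing (C.presheaf.stalk x)) →
      ∀ (g : C ⟶ Y), g ≫ (Y ↘ (Spec (CommRingCat.of k))) = C ↘ (Spec (CommRingCat.of k)) →
      ∀ (M : C.Modules), PicF.IsInvertible M →
      ∀ (q : (Scheme.Modules.pullback g).obj ((Scheme.Modules.pullback f).obj E) ⟶ M), Epi q → 0 ≤ Curv2.deg k C M 1) :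
    ∀ (C : Scheme.{u}) [C.Over (Spec (CommRingCat.of k))] [IsProper (C ↘ (Spec (CommRingCat.of k)))] [IsIntegral C],
    topologicalKrullDim C = 1 → (∀ x : C, IsRegularLocalRing (C.presheaf.stalk x)) →
    ∀ (g : C ⟶ X), g ≫ (X ↘ (Spec (CommRingCat.of k))) = C ↘ (Spec (CommRingCat.of k)) →
    ∀ (M : C.Modules), PicF.IsInvertible M →
    ∀ (q : (Scheme.Modules.pullback g).obj E ⟶ M), Epi q → 0 ≤ Curv2.deg k C M 1 := by
  intro C _ _ _ hdimC hreg g hg M hM q hq
  haveI := hq
  haveI := CurvLib.isNoetherian k (X := C)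
  haveI := IntFunLib.isProper_g hf
  let sC := C ↘ Spec (CommRingCat.of k)
  let T := pullback g f
  let a : T ⟶ C := pullback.fst g f
  let b : T ⟶ Y := pullback.snd g f
  haveI : Surjective a := MorphismProperty.pullback_fst (P := @Surjective) g f inferInstance
  letI : T.Over (Spec (CommRingCat.of k)) := ⟨a ≫ sC⟩
  haveI : IsProper (T ↘ Spec (CommRingCat.of k)) := inferInstanceAs (IsProper (pullback.fst g f ≫ sC))
  obtain ⟨y, hy, hyd⟩ := IntFunLib.exists_point_over (k := k) (g := a) rfl (genericPoint C) (a.surjective _)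
  have hdC : topologicalKrullDim (closure ({genericPoint C} : Set C)) = ((1 : ℕ) : WithBot ℕ∞) :=
    IntFunLib.dim_closure_generic.trans (hdimC.trans Nat.cast_one.symm)
  haveI := IntMultLib.isIntegral_ptIdeal y
  let Z := (IntMultLib.ptIdeal y).subscheme
  let ι : Z ⟶ T := (IntMultLib.ptIdeal y).subschemeι
  letI : Z.Over (Spec (CommRingCat.of k)) := ⟨ι ≫ a ≫ sC⟩
  haveI : IsProper (Z ↘ Spec (CommRingCat.of k)) :=
    inferInstanceAs (IsProper ((IntMultLib.ptIdeal y).subschemeι ≫ (T ↘ Spec (CommRingCat.of k))))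
  have hgen : ι (genericPoint Z) = y := NefCurveLib.subscheme_generic y
  have hdZ : topologicalKrullDim (closure ({genericPoint Z} : Set Z)) = ((1 : ℕ) : WithBot ℕ∞) := by
    rw [← IntFunLib.dim_closure_image ι, hgen, hyd]; exact hdC
  have hd1 : topologicalKrullDim Z = 1 := IntFunLib.dim_closure_generic.symm.trans (hdZ.trans Nat.cast_one)
  let P := Scheme.Modules.pullback (ι ≫ a)
  haveI : P.IsLeftAdjoint := (Scheme.Modules.pullbackPushforwardAdjunction (ι ≫ a)).isLeftAdjoint
  haveI : Epi (P.map q) := inferInstance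
  have hsq : (ι ≫ b) ≫ f = (ι ≫ a) ≫ g := by simp only [a, b, Category.assoc, pullback.condition]
  let e : (Scheme.Modules.pullback (ι ≫ b)).obj ((Scheme.Modules.pullback f).obj E) ≅
      P.obj ((Scheme.Modules.pullback g).obj E) :=
    (Scheme.Modules.pullbackComp (ι ≫ b) f).app E ≪≫ (Scheme.Modules.pullbackCongr hsq).app E ≪≫
      ((Scheme.Modules.pullbackComp (ι ≫ a) g).app E).symm
  have h := NefCurveLib.test_integral hnef hd1 (f := ι ≫ b)
    (by
      change (ι ≫ b) ≫ (Y ↘ Spec (CommRingCat.of k)) = ι ≫ a ≫ sC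
      rw [← hf, ← Category.assoc, hsq]
      simp only [Category.assoc, hg, sC])
    (AmpleDevLib.isInvertible_pb (ι ≫ a) hM) (e.hom ≫ P.map q)
  have hga : (ι ≫ a) (genericPoint Z) = genericPoint C := by rw [Scheme.Hom.comp_apply, hgen, hy]
  have h1 := (NefCurveLib.N_pullback_nonneg_iff (k := k) (g := ι ≫ a) (Category.assoc _ _ _) hM hdZ
    (by rw [hga]; exact hdC)).mp h
  rw [hga] at h1
  exact (NefCurveLib.deg_nonneg_iff hdimC hM).mpr h1

end Groth.Agent.S17283
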