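import Groth.Statements.S17284
import Mathlib
import Groth.Agent.NefCurveLib.CurveTest
-- import your own Groth.Agent.* helpers here

set_option autoImplicit false
universe u
open CategoryTheory CategoryTheory.Limits AlgebraicGeometry TopologicalSpace
open Variety

namespace Groth.Agent.S17284

/-- (iii) ⇒ (ii): let X be a proper scheme over a field k and E a finite locally free O_X-module.
Suppose that for every regular projective curve C over k (integral, proper over k, of dimension one,
all local rings regular), every k-morphism f : C → X and every invertible quotient f^*E → M, deg M =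
χ(M) - χ(O_C) ≥ 0. Then for every proper k-scheme C of dimension one (equivalently projective;
possibly reducible or non-reduced), every k-morphism f : C → X and every invertible quotient f^*E →
M, deg M = χ(M) - χ(O_C) ≥ 0. (The source states this for proper algebraic spaces X; this is the
case of schemes.) -/
theorem result (k : Type u) [Field k]
    (X : Scheme.{u}) [X.Over (Spec (CommRingCat.of k))] [IsProper (X ↘ (Spec (CommRingCat.of k)))] (E : X.Modules) (hE : FlatMod.IsFinLocFree E)
    (hnef : ∀ (C : Scheme.{u}) [C.Over (Spec (CommRingCat.of k))] [IsProper (C ↘ (Spec (CommRingCat.of k)))] [IsIntegral C],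
      topologicalKrullDim C = 1 → (∀ x : C, IsRegularLocalRing (C.presheaf.stalk x)) →
      ∀ (f : C ⟶ X), f ≫ (X ↘ (Spec (CommRingCat.of k))) = C ↘ (Spec (CommRingCat.of k)) →
      ∀ (M : C.Modules), PicF.IsInvertible M →
      ∀ (q : (Scheme.Modules.pullback f).obj E ⟶ M), Epi q → 0 ≤ Curv2.deg k C M 1) :
    ∀ (C : Scheme.{u}) [C.Over (Spec (CommRingCat.of k))] [IsProper (C ↘ (Spec (CommRingCat.of k)))], topologicalKrullDim C = 1 →
    ∀ (f : C ⟶ X), f ≫ (X ↘ (Spec (CommRingCat.of k))) = C ↘ (Spec (CommRingCat.of k)) →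
    ∀ (M : C.Modules), PicF.IsInvertible M →
    ∀ (q : (Scheme.Modules.pullback f).obj E ⟶ M), Epi q → 0 ≤ Curv2.deg k C M 1 := by
  intro C _ _ hdimC f hf M hM q hq
  haveI := CurvLib.isNoetherian k (X := C)
  haveI := hq
  rw [NefCurveLib.deg_eq_N]
  refine IntFunLib.N_nonneg (NefCurveLib.one_singleton hM) (DevissLib.isCoh_structureModule C)
    ((topologicalKrullDim_subspace_le _ _).trans (le_of_eq (by rw [hdimC]; rfl))) fun ξ _ hξ => ?_
  haveI := IntMultLib.isIntegral_ptIdeal ξ
  let Z := (IntMultLib.ptIdeal ξ).subscheme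
  let ι : Z ⟶ C := (IntMultLib.ptIdeal ξ).subschemeι
  let s := C ↘ Spec (CommRingCat.of k)
  letI : Z.Over (Spec (CommRingCat.of k)) := ⟨ι ≫ s⟩
  haveI : IsProper (Z ↘ Spec (CommRingCat.of k)) := inferInstanceAs (IsProper (ι ≫ s))
  have hg : ι (genericPoint Z) = ξ := NefCurveLib.subscheme_generic ξ
  have hdZ : topologicalKrullDim (closure ({genericPoint Z} : Set Z)) = ((1 : ℕ) : WithBot ℕ∞) := by
    rw [← IntFunLib.dim_closure_image ι, hg]; exact hξ
  have hd1 : topologicalKrullDim Z = 1 := IntFunLib.dim_closure_generic.symm.trans (hdZ.trans Nat.cast_one)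
  let P := Scheme.Modules.pullback ι
  haveI : P.IsLeftAdjoint := (Scheme.Modules.pullbackPushforwardAdjunction ι).isLeftAdjoint
  haveI : Epi (P.map q) := inferInstance
  have h := NefCurveLib.test_integral hnef hd1 (f := ι ≫ f) (by rw [Category.assoc, hf]; rfl)
    (AmpleDevLib.isInvertible_pb ι hM) (((Scheme.Modules.pullbackComp ι f).app E).inv ≫ P.map q)
  have h1 := (NefCurveLib.N_pullback_nonneg_iff (k := k) (g := ι) rfl hM hdZ (by rw [hg]; exact hξ)).mp h
  rwa [hg] at h1

end Groth.Agent.S17284
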