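import Groth.Statements.S17285
import Mathlib
import Groth.Agent.GrowthLib.Proper
-- import your own Groth.Agent.* helpers here

set_option autoImplicit false
universe u
open CategoryTheory CategoryTheory.Limits AlgebraicGeometry TopologicalSpace
open Variety

namespace Groth.Agent.S17285

/-- Let X and Y be proper varieties over a field k (integral schemes, proper over k) of the same
dimension d, f : Y → X a birational k-morphism (generic point to generic point, with a single point
in that fibre and the same residue field there), and L an invertible O_X-module. Then L is big,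
meaning that some real c > 0 has dim_k H^0(X, L^{⊗n}) > c·n^d for all sufficiently large n, if and
only if f^*L is big on Y in the same sense. (The source states this for birational morphisms of
proper schemes over k; it is stated here for integral X and Y, the case in which the printed
argument's injectivity of O_X → f_*O_Y holds.) -/
theorem result (k : Type u) [Field k] (X Y : Scheme.{u})
    [X.Over (Spec (CommRingCat.of k))] [IsProper (X ↘ (Spec (CommRingCat.of k)))] [IsIntegral X]
    [Y.Over (Spec (CommRingCat.of k))] [IsProper (Y ↘ (Spec (CommRingCat.of k)))] [IsIntegral Y]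
    (f : Y ⟶ X) (hf : f ≫ (X ↘ (Spec (CommRingCat.of k))) = Y ↘ (Spec (CommRingCat.of k))) (hbir : RadPt.IsBirational f)
    (d : ℕ) (hdimX : topologicalKrullDim X = d) (hdimY : topologicalKrullDim Y = d)
    (L : X.Modules) (hL : PicF.IsInvertible L) :
    (∃ c : ℝ, 0 < c ∧ ∀ᶠ n : ℕ in Filter.atTop,
        c * (n : ℝ) ^ d < (Module.finrank k (Coh.HH X (CohB1.tensorPow L n) 0) : ℝ)) ↔
      (∃ c : ℝ, 0 < c ∧ ∀ᶠ n : ℕ in Filter.atTop,
        c * (n : ℝ) ^ d < (Module.finrank k (Coh.HH Y (CohB1.tensorPow ((Scheme.Modules.pullback f).obj L) n) 0) : ℝ)) := by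
  haveI := CurvLib.isNoetherian k (X := X)
  haveI := CurvLib.isNoetherian k (X := Y)
  haveI : IsProper f := IntFunLib.isProper_g hf
  obtain ⟨hmono, hgen⟩ := GrowthLib.unitToPush_birational k hbir
  let P := (Scheme.Modules.pushforward f).obj (Coh.structureModule Y)
  have hP : Coh.IsCoh P := FormalCohLib.isCoh_push_proper f (DevissLib.isCoh_structureModule Y)
  have hO := DevissLib.isCoh_structureModule X
  let ι : Coh.structureModule X ⟶ P := ClSub.unitToPush f
  haveI : Mono ι := hmono
  have hQ : Coh.IsCoh (cokernel ι) := QCohLib.isCoh_cokernel ι hO.1 hP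
  have hQd : topologicalKrullDim (CohB1.support (cokernel ι)) < (d : ℕ) := by
    refine HilbPolyLib.dim_lt_of_notMem (QCohLib.isClosed_support _ hQ.2) (fun z _ => ?_) hgen (Y := Set.univ)
      (Set.subset_univ _) (((topologicalKrullDim_subspace_le _ _).trans hdimX.le).trans_lt
        (by exact_mod_cast Nat.lt_succ_self d))
    rw [(genericPoint_spec X).def]; exact trivial
  -- sections upstairs
  have key : ∀ n, HodgeIdxLib.hh k (CohB1.tensorPow ((Scheme.Modules.pullback f).obj L) n) 0 =
      HodgeIdxLib.hh k (CohB1.tensorMod (CohB1.tensorPow L n) P) 0 := by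
    intro n
    have hLn := AmpleThLib.tensorPow_isInvertible hL n
    obtain ⟨φp, -⟩ := AmpleDevLib.exists_pullPowIso f hL n
    let pr := @asIso _ _ _ _ (ProjFormLib.projApp f (CohB1.tensorPow L n) (Coh.structureModule Y))
      (ProjFormLib.isIso_projApp f (CurveVBLib.isFinLocFree_of_rank (CurvLib.locFree_of_isInvertible hLn)) _)
    let e1 : CohB1.tensorMod (CohB1.tensorPow L n) P ≅ (Coh.push f).obj
        (CohB1.tensorMod ((Scheme.Modules.pullback f).obj (CohB1.tensorPow L n)) (Coh.structureModule Y)) := pr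
    rw [HodgeIdxLib.hh_congr e1 0,
      ← HodgeIdxLib.hh_congr (HilbPolyLib.swapIso _ _ ≪≫ HilbPolyLib.unitLeft _ ≪≫ φp) 0]
    exact DegPullLib.finrank_H0_push k f hf _
  have hS : (ShortComplex.mk ι (cokernel.π ι) (cokernel.condition ι)).ShortExact :=
    { exact := ShortComplex.exact_cokernel ι, mono_f := inferInstanceAs (Mono ι)
      epi_g := inferInstanceAs (Epi (cokernel.π ι)) }
  constructor
  · rintro ⟨c, hc, hev⟩
    refine ⟨c, hc, hev.mono fun n hn => lt_of_lt_of_le hn (Nat.cast_le.mpr ?_)⟩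
    have hLn := AmpleThLib.tensorPow_isInvertible hL n
    obtain ⟨ψ, hψ⟩ := NumRLib.mono_tensor hLn ι
    show HodgeIdxLib.hh k (CohB1.tensorPow L n) 0 ≤ HodgeIdxLib.hh k (CohB1.tensorPow ((Scheme.Modules.pullback f).obj L) n) 0
    rw [key n, ← HodgeIdxLib.hh_congr (HilbPolyLib.swapIso _ _ ≪≫ HilbPolyLib.unitLeft (CohB1.tensorPow L n)) 0]
    exact GrowthLib.hh_le_of_mono ψ (HilbPolyLib.isCoh_tensor hLn hO) (HilbPolyLib.isCoh_tensor hLn hP)
  · rintro ⟨c, hc, hev⟩
    obtain ⟨C, hC⟩ := GrowthLib.exists_small_twist (k := k) hL hQ hQd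
    refine ⟨c / 2, by positivity, (hev.and (GrowthLib.exists_half (f := fun n =>
      HodgeIdxLib.hh k (CohB1.tensorMod (CohB1.tensorPow L n) (cokernel ι)) 0) hC hc)).mono fun n hn => ?_⟩
    have hLn := AmpleThLib.tensorPow_isInvertible hL n
    have h1 := HodgeIdxLib.ses_left (k := k) hLn hS hO hP hQ 0
    change HodgeIdxLib.hh k (CohB1.tensorMod (CohB1.tensorPow L n) P) 0 ≤
      HodgeIdxLib.hh k (CohB1.tensorMod (CohB1.tensorPow L n) (Coh.structureModule X)) 0 +
        HodgeIdxLib.hh k (CohB1.tensorMod (CohB1.tensorPow L n) (cokernel ι)) 0 at h1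
    rw [← key n, HodgeIdxLib.hh_congr (HilbPolyLib.swapIso _ _ ≪≫ HilbPolyLib.unitLeft (CohB1.tensorPow L n)) 0] at h1
    have h2 : (HodgeIdxLib.hh k (CohB1.tensorPow ((Scheme.Modules.pullback f).obj L) n) 0 : ℝ) ≤
        (HodgeIdxLib.hh k (CohB1.tensorPow L n) 0 : ℝ) +
          (HodgeIdxLib.hh k (CohB1.tensorMod (CohB1.tensorPow L n) (cokernel ι)) 0 : ℝ) := by exact_mod_cast h1
    have h3 : c * (n : ℝ) ^ d < (HodgeIdxLib.hh k (CohB1.tensorPow ((Scheme.Modules.pullback f).obj L) n) 0 : ℝ) := hn.1
    have h4 := hn.2 le_rfl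
    show c / 2 * (n : ℝ) ^ d < (HodgeIdxLib.hh k (CohB1.tensorPow L n) 0 : ℝ)
    linarith

end Groth.Agent.S17285
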