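import Groth.Statements.S17287
import Mathlib
import Groth.Agent.IntFunLib.StrictNef
-- import your own Groth.Agent.* helpers here

set_option autoImplicit false
universe u
open CategoryTheory CategoryTheory.Limits AlgebraicGeometry TopologicalSpace
open Variety

namespace Groth.Agent.S17287

/-- Let f : Y → X be a surjective k-morphism of proper schemes over a field k and C ⊆ X an integral
closed subscheme of dimension one. Then there is an integral closed subscheme C' ⊆ Y of dimension
one with f(C') = C as closed subsets. (The source states this for proper algebraic spaces over k;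
this is the case of schemes.) -/
theorem result (k : Type u) [Field k] (X Y : Scheme.{u})
    [X.Over (Spec (CommRingCat.of k))] [IsProper (X ↘ (Spec (CommRingCat.of k)))] [Y.Over (Spec (CommRingCat.of k))] [IsProper (Y ↘ (Spec (CommRingCat.of k)))]
    (f : Y ⟶ X) (hf : f ≫ (X ↘ (Spec (CommRingCat.of k))) = Y ↘ (Spec (CommRingCat.of k))) [Surjective f]
    (C : X.IdealSheafData) [IsIntegral C.subscheme] (hC : topologicalKrullDim (C.support : Set X) = 1) :
    ∃ C' : Y.IdealSheafData, IsIntegral C'.subscheme ∧ topologicalKrullDim (C'.support : Set Y) = 1 ∧
      f.base '' (C'.support : Set Y) = (C.support : Set X) := by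
  haveI := IntFunLib.isProper_g hf
  have hη := (IntFunLib.dim_generic_of_support C).trans hC
  have hr : (C.subschemeι (genericPoint C.subscheme)) ∈ Set.range f := f.surjective _
  obtain ⟨y, hy, hyd⟩ := IntFunLib.exists_point_over (k := k) hf _ hr
  refine ⟨IntMultLib.ptIdeal y, IntMultLib.isIntegral_ptIdeal y, by rw [IntFunLib.dim_ptIdeal, hyd, hη], ?_⟩
  conv_rhs => rw [IntFunLib.eq_ptIdeal C]
  rw [Scheme.IdealSheafData.coe_support_vanishingIdeal ⟨closure {y}, isClosed_closure⟩,
    Scheme.IdealSheafData.coe_support_vanishingIdeal ⟨closure {C.subschemeι (genericPoint C.subscheme)}, isClosed_closure⟩]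
  change f.base '' closure {y} = closure {C.subschemeι (genericPoint C.subscheme)}
  rw [← f.isClosedMap.closure_image_eq_of_continuous f.continuous, Set.image_singleton]
  exact congrArg (fun z => closure {z}) hy

end Groth.Agent.S17287
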