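import Groth.Statements.S17288
import Groth.Agent.EvGGLib.Main
import Groth.Agent.S1611
import Groth.Agent.S2329
import Groth.Agent.SerreVanLib.Main
import Groth.Agent.CurveDualLib.Family
-- import your own Groth.Agent.* helpers here

set_option autoImplicit false
universe u
open CategoryTheory CategoryTheory.Limits AlgebraicGeometry TopologicalSpace
open Variety

set_option backward.isDefEq.respectTransparency false
set_option linter.style.haveILetI false
set_option maxHeartbeats 1000000

namespace Groth.Agent.S17288

/-- Let X be a proper scheme over a field k, D ⊆ X an effective Cartier divisor, i.e. a closed subscheme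
whose quasi-coherent ideal I_D is an invertible O_X-module, and O_X(D) an invertible module with
O_X(D) ⊗ I_D ≅ O_X. If the restriction of O_X(D) to D is ample on D, then O_X(mD) = O_X(D)^{⊗m} is
generated by its global sections for all sufficiently large m. (The source states this for proper
algebraic spaces over k; this is the case of schemes.) -/
theorem result (k : Type u) [Field k] (X : Scheme.{u})
    [X.Over (Spec (CommRingCat.of k))] [IsProper (X ↘ (Spec (CommRingCat.of k)))] (D : X.IdealSheafData)
    (hD : PicF.IsInvertible (ClSub.idealMod D)) (LD : X.Modules) (hLD : ClSub.IsInverseOf LD (ClSub.idealMod D))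
    (hample : CohB1.IsAmple ((Scheme.Modules.pullback D.subschemeι).obj LD)) :
    ∀ᶠ m : ℕ in Filter.atTop, Curv2.IsGloballyGenerated (CohB1.tensorPow LD m) := by
  have hLinv : PicF.IsInvertible LD := by
    obtain ⟨e⟩ := hLD
    exact IntMultLib.isInvertible_of_inverse hD (HilbPolyLib.swapIso _ _ ≪≫ e)
  let i := D.subschemeι
  let g := i ≫ (X ↘ Spec (CommRingCat.of k))
  haveI : CompactSpace D.subscheme := QuasiCompact.compactSpace_of_compactSpace g
  haveI : D.subscheme.IsSeparated := Scheme.IsSeparated.mk (by
    rw [terminal.hom_ext (terminal.from D.subscheme) (g ≫ terminal.from _)]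
    infer_instance)
  haveI : IsLocallyNoetherian D.subscheme := LocallyOfFiniteType.isLocallyNoetherian g
  let M := KFlatLib.pb i LD
  obtain ⟨n₁, hn₁⟩ := SerreVanLib.exists_vanishing g (AmpleDevLib.isInvertible_pb i hLinv) hample
    (Coh.structureModule D.subscheme) (DevissLib.isCoh_structureModule _)
  obtain ⟨n₂, -, hn₂⟩ := Groth.Agent.S2329.result D.subscheme M (Coh.structureModule D.subscheme) hample
    CurvLib.isInvertible_structureModule
  obtain ⟨m₀, -, hm₀⟩ := EvGGLib.eventually_gg (X ↘ Spec (CommRingCat.of k)) hLinv hLD (n₁ + n₂) fun m hm => by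
    have hinv := AmpleDevLib.isInvertible_pb i (AmpleThLib.tensorPow_isInvertible hLinv m)
    obtain ⟨e⟩ := CurveDualLib.nonempty_pb_tensorPow i LD m
    refine ⟨SerreVanLib.subsingleton_HH_of_iso (e ≪≫ (HilbPolyLib.unitLeft _).symm) 1
      (hn₁ m (by omega) 1 one_pos), fun z => ?_⟩
    exact Groth.Agent.S1611.exists_genAt_of_gg hinv (MiscFlat6.isGloballyGenerated_of_iso
      (HilbPolyLib.swapIso _ _ ≪≫ HilbPolyLib.unitLeft _ ≪≫ e.symm) (hn₂ m (by omega)).2) z
  exact Filter.eventually_atTop.2 ⟨m₀, hm₀⟩

end Groth.Agent.S17288
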