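import Groth.Statements.S17289
import Groth.Agent.EGA2SymLib.GenOne
import Groth.Agent.RichLib.IsFPAffine
import Groth.Agent.FinLFAnnLib.Main
import Groth.Agent.AmpleDevLib.Components
import Groth.Agent.S9815
import Groth.Agent.S8286
-- import your own Groth.Agent.* helpers here

set_option autoImplicit false
universe u
open CategoryTheory CategoryTheory.Limits AlgebraicGeometry TopologicalSpace
open Variety
open scoped HomogeneousIdeal

namespace Groth.Agent.S17289

/-- Suppose X is a proper scheme over a field k, and E, F are finite locally free O_X-modules with E → F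
surjective. Assume E is ample, meaning that the fundamental module O(1) of the projective bundle
P(E) = Proj(Sym E) → X is ample (for any relative-Proj data of the graded symmetric algebra of E
with its O(1)); then F is ample in the same sense. (The source states this for proper algebraic
spaces over k, together with the analogous assertion for nef modules; this is the ample assertion in
the case of schemes.) -/
theorem result (k : Type u) [Field k] (X : Scheme.{u})
    [X.Over (Spec (CommRingCat.of k))] [IsProper (X ↘ (Spec (CommRingCat.of k)))] (E F : X.Modules)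
    (hE : FlatMod.IsFinLocFree E) (hF : FlatMod.IsFinLocFree F) (φ : E ⟶ F) [Epi φ]
    (hample : ∀ (𝒮 : RelProj.QCGrAlg X) (j : E ⟶ 𝒮.toModule) (P : Scheme.{u}) (p : P ⟶ X)
        (chart : ∀ (U : X.Opens) (hU : IsAffineOpen U),
          (((p ⁻¹ᵁ U : P.Opens) : Scheme.{u}) ≅ Proj (𝒮.deg U hU)))
        (O1 : P.Modules)
        (lam : ∀ (U : X.Opens) (hU : IsAffineOpen U),
          O1 ⟶ (Scheme.Modules.pushforward (RelProj.emb p chart U hU)).obj (GrTwist.twist (𝒮.deg U hU) 1)),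
        RelProj.IsGrSymAlg E 𝒮 j → RelProj.IsRelProj 𝒮 p chart → RelProj.IsRelTwist 𝒮 p chart 1 O1 lam →
        CohB1.IsAmple O1) :
    ∀ (𝒮 : RelProj.QCGrAlg X) (j : F ⟶ 𝒮.toModule) (P : Scheme.{u}) (p : P ⟶ X)
      (chart : ∀ (U : X.Opens) (hU : IsAffineOpen U),
        (((p ⁻¹ᵁ U : P.Opens) : Scheme.{u}) ≅ Proj (𝒮.deg U hU)))
      (O1 : P.Modules)
      (lam : ∀ (U : X.Opens) (hU : IsAffineOpen U),
        O1 ⟶ (Scheme.Modules.pushforward (RelProj.emb p chart U hU)).obj (GrTwist.twist (𝒮.deg U hU) 1)),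
      RelProj.IsGrSymAlg F 𝒮 j → RelProj.IsRelProj 𝒮 p chart → RelProj.IsRelTwist 𝒮 p chart 1 O1 lam →
      CohB1.IsAmple O1 := by
  intro 𝒮 j P p chart O1 lam hj hP hO1
  haveI : Coh.IsQCoh E := FinLFAnn.isQCoh_of_isFinLocFree hE
  haveI : Coh.IsQCoh F := FinLFAnn.isQCoh_of_isFinLocFree hF
  obtain ⟨𝒯, k', hk⟩ := EGA2SymLib.exists_isGrSymAlg E
  obtain ⟨π, hπ, -⟩ := hk.1 𝒮.toQCAlg (φ ≫ j)
  have hπj : ∀ (U : X.Opens) (x : Γ(E, U)),
      (π.hom.app (Opposite.op U)).hom (EGA2SymLib.jS k' U x) = EGA2SymLib.jS j U (φ.app U x) :=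
    fun U x => congr($(hπ).app U x)
  have hπg : RelProj.IsGradedHom π := by
    intro U hU d x hx
    refine EGA2SymLib.map_mem_of_gen (π.hom.app (Opposite.op U)).hom (SymGenLib.isGenDegOne hk U hU)
      (fun y hy => ?_) (fun y hy => ?_) hx
    · obtain ⟨r, rfl⟩ := EGA2SymLib.exists_of_mem_zero hk hU hy
      rw [show (π.hom.app (Opposite.op U)).hom ((𝒯.str.app (Opposite.op U)).hom r) =
          (𝒮.str.app (Opposite.op U)).hom r from congr($(NatTrans.congr_app π.comm (Opposite.op U)) r)]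
      exact 𝒮.str_mem U hU r
    · obtain ⟨x, rfl⟩ := EGA2SymLib.exists_of_mem_one hk U hU hy
      rw [hπj]
      exact hj.2 U hU _
  have hpos : ∀ (U : X.Opens) (hU : IsAffineOpen U), EGA2SymLib.PosSurj (RelProj.gradedHomAt π hπg U hU) :=
    fun U hU => EGA2SymLib.posSurj_of_gen _ (SymGenLib.isGenDegOne hj U hU) fun b hb => by
      obtain ⟨x, rfl⟩ := EGA2SymLib.exists_of_mem_one hj U hU hb
      obtain ⟨y, hy⟩ := RichLib.IsFPAffine.appLin_surjective φ hU x
      exact ⟨_, hk.2 U hU y, (hπj U y).trans (congrArg (EGA2SymLib.jS j U) hy)⟩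
  have hirr : ∀ (U : X.Opens) (hU : IsAffineOpen U),
      (𝒮.deg U hU)₊ ≤ ((𝒯.deg U hU)₊).map (RelProj.gradedHomAt π hπg U hU) := fun U hU => by
    refine (HomogeneousIdeal.irrelevant_le _).mpr fun n hn b hb => ?_
    obtain ⟨a, ha, rfl⟩ := hpos U hU n hn b hb
    exact Ideal.mem_map_of_mem _ (HomogeneousIdeal.mem_irrelevant_of_mem _ hn ha)
  obtain ⟨Q, pQ, chartQ, hQ⟩ := MiscFlat6.exists_relProj 𝒯
  obtain ⟨⟨h, hh, -⟩, -⟩ := MiscFlat6.existsUnique_relProjMap (φ := π) (hφ := hπg) (hirr := hirr) hQ hP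
  haveI : IsClosedImmersion h := MiscFlat6.relProjMap_of_local hQ hP hh @IsClosedImmersion fun U hU =>
    EGA2SymLib.isClosedImmersion_map _ (hpos U hU) _
  obtain ⟨OQ, lamQ, hOQ⟩ := GrModLib6.exists_isRelTwist hQ 1
  have hamQ := hample 𝒯 k' Q pQ chartQ OQ lamQ hk hQ hOQ
  obtain ⟨l, hl⟩ := GrModLib6.isRelTwist_congr (show (1 : ℤ) = 1 * ((1 : ℕ) : ℤ) by simp) hO1
  obtain ⟨l', hl'⟩ := GrModLib6.isRelTwist_congr (show (1 : ℤ) = 1 * ((1 : ℕ) : ℤ) by simp) hOQ
  obtain ⟨θ⟩ := GrModLib6.exists_pullback_twist_iso (SymGenLib.isGenDegOne hk) hQ hP hh hl' hl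
  haveI : CompactSpace Q := hamQ.2.1
  haveI : CompactSpace P := QuasiCompact.compactSpace_of_compactSpace h
  have h1 := Groth.Agent.S9815.result h h.isClosedEmbedding.isEmbedding OQ hamQ
  exact AmpleDevLib.isAmple_of_iso h1.1
    (Groth.Agent.S8286.result 𝒮 (SymGenLib.isGenDegOne hj) p chart hP 1 O1 lam hO1) θ h1

end Groth.Agent.S17289
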