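import Groth.Statements.S1729
import Mathlib
-- import your own Groth.Agent.* helpers here

set_option autoImplicit false
set_option linter.style.haveILetI false
universe u
open Dual2

namespace Groth.Agent.S1729

/-- Over a local ring, every finite module M admits a projective cover: a surjection from a projective
module P onto M such that no proper submodule of P maps onto M. -/
theorem result (R : Type u) [CommRing R] [IsLocalRing R] (M : Type u) [AddCommGroup M] [Module R M] [Module.Finite R M] : ∃ (P : Type u) (_ : AddCommGroup P) (_ : Module R P) (f : P →ₗ[R] M), Dual2.IsProjectiveCover f := by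
  classical
  obtain ⟨s, hcard, hs⟩ := (Module.Finite.fg_top (R := R) (M := M)).exists_span_finset_card_eq_spanFinrank
  let f : (s →₀ R) →ₗ[R] M := Finsupp.linearCombination R (fun j : s => (j : M))
  have hf : Function.Surjective f := by
    rw [← LinearMap.range_eq_top, Finsupp.range_linearCombination]
    simpa using hs
  refine ⟨s →₀ R, inferInstance, inferInstance, f, inferInstance, hf, fun N hN => ?_⟩
  have hker : LinearMap.ker f ≤ IsLocalRing.maximalIdeal R • (⊤ : Submodule R (s →₀ R)) := by
    intro x hx
    have hm : ∀ j, x j ∈ IsLocalRing.maximalIdeal R := by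
      intro j
      by_contra h
      rw [IsLocalRing.mem_maximalIdeal, mem_nonunits_iff, not_not] at h
      have h1 : (j : M) ∈ Submodule.span R (↑(s.erase (j : M)) : Set M) := by
        have h2 : x j • (j : M) + ∑ i ∈ Finset.univ.erase j, x i • (i : M) = 0 := by
          rw [Finset.add_sum_erase _ (fun i => x i • (i : M)) (Finset.mem_univ j)]
          have := LinearMap.mem_ker.1 hx
          rwa [Finsupp.linearCombination_apply, Finsupp.sum_fintype _ _ (by simp)] at this
        rw [← Submodule.smul_mem_iff_of_isUnit _ h, eq_neg_of_add_eq_zero_left h2]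
        refine Submodule.neg_mem _ (Submodule.sum_mem _ fun i hi => Submodule.smul_mem _ _
          (Submodule.subset_span ?_))
        simp only [Finset.coe_erase, Set.mem_sdiff, Finset.mem_coe, Set.mem_singleton_iff]
        exact ⟨i.2, fun e => Finset.ne_of_mem_erase hi (Subtype.ext e)⟩
      have h3 : Submodule.span R (↑(s.erase (j : M)) : Set M) = ⊤ := by
        rw [eq_top_iff, ← hs, Submodule.span_le]
        intro m hm
        by_cases e : m = j
        · exact e ▸ h1
        · exact Submodule.subset_span (by simp [e, Finset.mem_coe.1 hm])
      have h4 := Submodule.spanFinrank_span_le_ncard_of_finite (R := R) (s.erase (j : M)).finite_toSet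
      rw [h3, Set.ncard_coe_finset, ← hcard, Finset.card_erase_of_mem j.2] at h4
      have := Finset.card_pos.2 ⟨_, j.2⟩
      omega
    rw [← x.sum_single]
    refine Submodule.sum_mem _ fun j _ => ?_
    have : Finsupp.single j (x j) = x j • Finsupp.single j (1 : R) := by simp
    rw [this]
    exact Submodule.smul_mem_smul (hm j) trivial
  refine eq_top_iff.2 (Submodule.le_of_le_smul_of_le_jacobson_bot
    (Module.Finite.fg_top) (IsLocalRing.maximalIdeal_le_jacobson ⊥) fun x _ => ?_)
  obtain ⟨y, hy, hxy⟩ : f x ∈ Submodule.map f N := by rw [hN]; trivial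
  rw [Submodule.mem_sup]
  exact ⟨y, hy, x - y, hker (by simp [hxy]), add_sub_cancel y x⟩

end Groth.Agent.S1729
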