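import Groth.Statements.S17290
import Groth.Agent.NefBundleLib.BaseField

set_option autoImplicit false
set_option backward.isDefEq.respectTransparency false
set_option backward.isDefEq.respectTransparency.types false
set_option maxRecDepth 8000
set_option maxHeartbeats 1000000
universe u
open CategoryTheory CategoryTheory.Limits AlgebraicGeometry TopologicalSpace
open Variety

namespace Groth.Agent.S17290

/-- Scheme case, curve-test form of nefness: let X be a proper scheme over a field k, E a finite locally
free O_X-module, k'/k a field extension, X' = X ×_k Spec k' and E' the pullback of E to X'. Then E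
is nef over k in the curve-test sense (for every regular projective curve C over k — integral,
proper over k, of dimension one, all local rings regular — every k-morphism f : C → X and every
invertible quotient f^*E → M, deg M = χ(M) - χ(O_C) ≥ 0) if and only if E' is nef over k' in the
same sense (test curves being regular projective curves over k' with k'-morphisms to X'). (The
published statement asserts that E is nef if and only if its pullback is nef for every field
extension k' of k, and its converse is the case k' = k; this row states the equivalence for one
given extension k', so its converse, that nefness over k' implies nefness over k, is stronger than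
the published one. The source states this for proper algebraic spaces with nefness of O(1) on P(E);
on proper schemes the two senses of nef agree by the Barton–Kleiman criterion.) -/
theorem result (k : Type u) [Field k] (X : Scheme.{u})
    [X.Over (Spec (CommRingCat.of k))] [IsProper (X ↘ (Spec (CommRingCat.of k)))] (E : X.Modules) (hE : FlatMod.IsFinLocFree E)
    (k' : Type u) [Field k'] [Algebra k k'] :
    (∀ (C : Scheme.{u}) [C.Over (Spec (CommRingCat.of k))] [IsProper (C ↘ (Spec (CommRingCat.of k)))] [IsIntegral C],
      topologicalKrullDim C = 1 → (∀ x : C, IsRegularLocalRing (C.presheaf.stalk x)) →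
      ∀ (f : C ⟶ X), f ≫ (X ↘ (Spec (CommRingCat.of k))) = C ↘ (Spec (CommRingCat.of k)) →
      ∀ (M : C.Modules), PicF.IsInvertible M →
      ∀ (q : (Scheme.Modules.pullback f).obj E ⟶ M), Epi q → 0 ≤ Curv2.deg k C M 1) ↔
    (∀ (C' : Scheme.{u}) [C'.Over (Spec (CommRingCat.of k'))] [IsProper (C' ↘ (Spec (CommRingCat.of k')))] [IsIntegral C'],
      topologicalKrullDim C' = 1 → (∀ x : C', IsRegularLocalRing (C'.presheaf.stalk x)) →
      ∀ (g : C' ⟶ (Curv2.bc k X k')), g ≫ Curv2.bcSnd k X k' = C' ↘ (Spec (CommRingCat.of k')) →
      ∀ (M : C'.Modules), PicF.IsInvertible M →
      ∀ (q : (Scheme.Modules.pullback g).obj ((Scheme.Modules.pullback (Curv2.bcFst k X k')).obj E) ⟶ M), Epi q → 0 ≤ Curv2.deg k' C' M 1) := by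
  constructor
  · intro hnef C' _ _ _ hdim _ g hg M hM q hq
    haveI := hq
    exact NefBundleLib.deg_nonneg_bc k hE k' hnef hdim hg hM q
  · intro hnef C _ _ _ hdim _ f hf M hM q hq
    haveI := hq
    exact NefBundleLib.deg_nonneg_of_bc k hE k' hnef hdim hf hM q

end Groth.Agent.S17290
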