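import Groth.Statements.S17300
import Groth.Agent.CurvOpenLib.Example
-- import your own Groth.Agent.* helpers here

set_option autoImplicit false
universe u
open CurvSt

namespace Groth.Agent.S17300

open CategoryTheory AlgebraicGeometry in
/-- Assume the stack of curves over the base scheme S (families with algebraic-space total space, flat,
proper, of finite presentation and of relative dimension at most 1, no marked points) is an
algebraic stack for the fppf topology. Then, inside it, the families whose structure morphism is a
local complete intersection morphism of algebraic spaces (a Koszul morphism: etale locally on every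
chart diagram the morphism of schemes is Koszul at every point) form an open substack for the fppf
topology; moreover this substack has an object over every algebraically closed field point of S.
(Since families of curves are flat, the same substack is cut out by the structure morphism being
syntomic. The source works over the integers; the statement over S is its form over a base.) -/
theorem result (S : Scheme.{u})
    (hC : AlgSt.IsAlgStack Scheme.fppfPrecoverage (CurvSt.Curves S 0)) :
    AlgSt.IsOpenSubstack (CurvSt.Curves S 0) (fun A => AlgSp.IsLCIMor A.obj.f) Scheme.fppfPrecoverage ∧
      ∀ (Ω : Type u) [Field Ω] [IsAlgClosed Ω] (t : Spec (CommRingCat.of Ω) ⟶ S),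
        Nonempty ((AlgSt.fullSub (CurvSt.Curves S 0) (fun A => AlgSp.IsLCIMor A.obj.f)).p.Fiber (Over.mk t)) := by
  refine ⟨CurvOpenLib.isOpenSubstack_curves CurvOpenLib.good_lci hC _ (fun A => CurvOpenLib.isLCIMor_iff A.obj.f), fun Ω _ _ t => ?_⟩
  haveI := GenusZeroLib.smooth_toSpec 1 Ω
  exact CurvOpenLib.nonempty_fiber Ω t CurvOpenLib.good_lci _ (fun A => CurvOpenLib.isLCIMor_iff A.obj.f) ((CurvOpenLib.forall_koz_iff _).2 (KoszAtLib.lciMor_of_smooth _))

end Groth.Agent.S17300
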