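import Groth.Statements.S1731
import Mathlib
import Groth.Agent.TorsBCLib.Modules

set_option autoImplicit false
universe u
open CategoryTheory
open scoped TensorProduct
attribute [local instance] HasDerivedCategory.standard
open LocCoh

namespace Groth.Agent.S1731

/-- Statement for modules: let A → B be a flat ring map and I a finitely generated ideal of A such that
A → B/IB is surjective with kernel I (so A/I ≅ B/IB). If M is an I-power torsion A-module, then for
every A-module N and every integer i the group of maps M → N[i] in D(A) is isomorphic to the group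
of maps B ⊗_A M → (B ⊗_A N)[i] in D(B). (Only the existence of an isomorphism is asserted; the
published statement shows that the base-change map is one.) -/
theorem result (A B : Type u) [CommRing A] [CommRing B] [Algebra A B] [Module.Flat A B] (I : Ideal A) (hI : I.FG) (hs : Function.Surjective ((Ideal.Quotient.mk (I.map (algebraMap A B))).comp (algebraMap A B))) (hk : RingHom.ker ((Ideal.Quotient.mk (I.map (algebraMap A B))).comp (algebraMap A B)) = I) (M N : Type u) [AddCommGroup M] [Module A M] [AddCommGroup N] [Module A N] (hM : LocCoh.IsPowerTorsion I M) (i : ℤ) : Nonempty ((Dual.inD A M ⟶ (Dual.inD A N)⟦i⟧) ≃+ (Dual.inD B (B ⊗[A] M) ⟶ (Dual.inD B (B ⊗[A] N))⟦i⟧)) := by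
  have key : ∀ (R : Type u) [CommRing R] (X Y : ModuleCat.{u} R) (m : ℕ),
      Nonempty (((DerivedCategory.singleFunctor (ModuleCat.{u} R) 0).obj X ⟶
        ((DerivedCategory.singleFunctor (ModuleCat.{u} R) 0).obj Y)⟦(m : ℤ)⟧) ≃+ Abelian.Ext.{u} X Y m) :=
    fun R _ X Y m => ⟨Abelian.Ext.homAddEquiv.symm⟩
  have hneg : ∀ (R : Type u) [CommRing R] (X Y : ModuleCat.{u} R) (j : ℤ), j < 0 →
      Subsingleton ((DerivedCategory.singleFunctor (ModuleCat.{u} R) 0).obj X ⟶
        ((DerivedCategory.singleFunctor (ModuleCat.{u} R) 0).obj Y)⟦j⟧) := by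
    intro R _ X Y j hj
    haveI := DerivedCategory.TStructure.t.isGE_shift
      ((DerivedCategory.singleFunctor (ModuleCat.{u} R) 0).obj Y) 0 j (-j) (by omega)
    exact subsingleton_of_forall_eq 0 fun f =>
      DerivedCategory.TStructure.t.zero_of_isLE_of_isGE f 0 (-j) (by omega) inferInstance inferInstance
  rcases i with m | m
  · obtain ⟨e⟩ := TorsBCLib.ext_iso I B hI hs hk (ModuleCat.of A M) (ModuleCat.of A N) hM m
    obtain ⟨e₁⟩ := key A (ModuleCat.of A M) (ModuleCat.of A N) m
    obtain ⟨e₂⟩ := key B ((ModuleCat.extendScalars.{u, u, u} (algebraMap A B)).obj (ModuleCat.of A M))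
      ((ModuleCat.extendScalars.{u, u, u} (algebraMap A B)).obj (ModuleCat.of A N)) m
    let iM : (DerivedCategory.singleFunctor (ModuleCat.{u} B) 0).obj _ ≅ Dual.inD B (B ⊗[A] M) :=
      (DerivedCategory.singleFunctor (ModuleCat.{u} B) 0).mapIso
        (LinearEquiv.toModuleIso (FlatCxLib.extEquiv (B := B) (ModuleCat.of A M)))
    let iN : (DerivedCategory.singleFunctor (ModuleCat.{u} B) 0).obj _ ≅ Dual.inD B (B ⊗[A] N) :=
      (DerivedCategory.singleFunctor (ModuleCat.{u} B) 0).mapIso
        (LinearEquiv.toModuleIso (FlatCxLib.extEquiv (B := B) (ModuleCat.of A N)))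
    refine ⟨(e₁.trans (e.trans e₂.symm)).trans ?_⟩
    exact
      { toFun := fun f => iM.inv ≫ f ≫ iN.hom⟦(Int.ofNat m)⟧'
        invFun := fun g => iM.hom ≫ g ≫ iN.inv⟦(Int.ofNat m)⟧'
        left_inv := fun f => by simp [← Functor.map_comp]
        right_inv := fun g => by simp [← Functor.map_comp]
        map_add' := fun f g => by simp }
  · haveI := hneg A (ModuleCat.of A M) (ModuleCat.of A N) (Int.negSucc m) (Int.negSucc_lt_zero m)
    haveI := hneg B (ModuleCat.of B (B ⊗[A] M)) (ModuleCat.of B (B ⊗[A] N)) (Int.negSucc m) (Int.negSucc_lt_zero m)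
    exact ⟨{ toFun := fun _ => 0, invFun := fun _ => 0, left_inv := fun _ => Subsingleton.elim _ _,
             right_inv := fun _ => Subsingleton.elim _ _, map_add' := fun _ _ => (add_zero _).symm }⟩

end Groth.Agent.S1731
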