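import Groth.Statements.S17310
import Groth.Agent.CurvFieldLib.Basic
import Groth.Agent.S2535
import Groth.Agent.S2501
import Groth.Agent.S4625
import Groth.Agent.S9777

set_option autoImplicit false
universe u
open CurvSt

namespace Groth.Agent.S17310

open CategoryTheory AlgebraicGeometry in
/-- Let X be a proper scheme of dimension at most 1 over a field k with structure morphism p, and Spec k
→ S a point of the base. The classifying object of X in the stack of curves over S lies in the open
substack of curves with geometrically reduced, connected fibres of dimension 1 — by definition: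
every geometric fibre of h_X → h_{Spec k}, realised as a scheme over an algebraically closed field
through a cartesian square of sheaves, is reduced, connected and of Krull dimension 1 — if and only
if X is geometrically reduced and geometrically connected over k and has Krull dimension 1. -/
theorem result (S : Scheme.{u}) (k : Type u) [Field k] (t : Spec (CommRingCat.of k) ⟶ S)
    (X : Scheme.{u}) (p : X ⟶ Spec (CommRingCat.of k)) [IsProper p] (hdim : topologicalKrullDim ↥X ≤ 1) :
    CurvSt.GeomFib (fun _ _ _ X' _ _ => IsReduced X' ∧ ConnectedSpace ↥X' ∧ topologicalKrullDim ↥X' = 1) ((CurvSt.toSpFam S 0).obj ⟨Over.mk t, X, p, Fin.elim0, fun i => i.elim0⟩) ↔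
      GeometricallyReduced p ∧ GeometricallyConnected p ∧ topologicalKrullDim ↥X = 1 := by
  rw [CurvFieldLib.geomFib_toSpFam_iff _
    (fun _ _ _ X' _ => IsReduced X' ∧ ConnectedSpace ↥X' ∧ topologicalKrullDim ↥X' = 1)]
  have dimEq : ∀ {Ω : Type u} [Field Ω] {X' : Scheme.{u}} (q : X' ⟶ Spec (CommRingCat.of Ω)) (y : Spec (CommRingCat.of Ω)),
      topologicalKrullDim ↥(q.fiber y) = topologicalKrullDim ↥X' := by
    intro Ω _ X' q y
    have hu : q.base ⁻¹' {y} = Set.univ :=
      Set.eq_univ_of_forall fun _ => Subsingleton.elim (α := PrimeSpectrum Ω) _ _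
    exact IsHomeomorph.topologicalKrullDim_eq _
      (((q.fiberHomeo y).trans ((Homeomorph.setCongr hu).trans (Homeomorph.Set.univ _))).isHomeomorph)
  have key : ∀ {Ω : Type u} [Field Ω] {t' : Spec (CommRingCat.of Ω) ⟶ Spec (CommRingCat.of k)} {X' : Scheme.{u}}
      {q : X' ⟶ Spec (CommRingCat.of Ω)} {i : X' ⟶ X}, IsPullback i q p t' →
      topologicalKrullDim ↥X' = topologicalKrullDim ↥X := by
    intro Ω _ t' X' q i sq
    rw [← dimEq q (IsLocalRing.closedPoint Ω), ← dimEq p (t' (IsLocalRing.closedPoint Ω))]
    exact Groth.Agent.S9777.result p t' q i sq _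
  refine ⟨fun H => ?_, fun ⟨h1, h2, h3⟩ Ω _ _ t' X' q i sq => ⟨h1.geometrically_isReduced t' i q sq,
    h2.geometrically_connectedSpace t' i q sq, (key sq).trans h3⟩⟩
  obtain ⟨r, c, d⟩ := H (AlgebraicClosure k) (Spec.map (CommRingCat.ofHom (algebraMap k (AlgebraicClosure k))))
    _ _ _ (IsPullback.of_hasPullback p _)
  haveI : IsReduced (FBase.bc p (AlgebraicClosure k)) := r
  haveI : ConnectedSpace ↥(FBase.bc p (AlgebraicClosure k)) := c
  refine ⟨Groth.Agent.S2535.result (Ω := AlgebraicClosure k) p, ?_,
    (key (IsPullback.of_hasPullback p _)).symm.trans d⟩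
  exact (Groth.Agent.S4625.result (K := AlgebraicClosure k) p).2 (Groth.Agent.S2501.result _)

end Groth.Agent.S17310
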