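import Groth.Statements.S17311
import Groth.Agent.CurvFieldLib.Basic
import Groth.Agent.S2155

set_option autoImplicit false
set_option linter.style.haveILetI false
universe u
open CurvSt

namespace Groth.Agent.S17311

open CategoryTheory AlgebraicGeometry in
/-- Let X be a proper scheme of dimension at most 1 over a field k with structure morphism p, and Spec k
→ S a point of the base. The classifying object of X in the stack of curves over S lies in the open
substack of curves with isolated singularities — by definition: every geometric fibre of h_X →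
h_{Spec k}, realised as a scheme over an algebraically closed field Ω through a cartesian square of
sheaves, is smooth over Ω outside a finite set of points — if and only if p : X → Spec k is smooth
outside a finite set of points of X. -/
theorem result (S : Scheme.{u}) (k : Type u) [Field k] (t : Spec (CommRingCat.of k) ⟶ S)
    (X : Scheme.{u}) (p : X ⟶ Spec (CommRingCat.of k)) [IsProper p] (hdim : topologicalKrullDim ↥X ≤ 1) :
    CurvSt.GeomFib (fun _ _ _ X' q _ => Set.Finite {x : ↥X' | ¬ ∃ U : X'.Opens, x ∈ U ∧ Smooth (U.ι ≫ q)}) ((CurvSt.toSpFam S 0).obj ⟨Over.mk t, X, p, Fin.elim0, fun i => i.elim0⟩) ↔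
      Set.Finite {x : ↥X | ¬ ∃ U : X.Opens, x ∈ U ∧ Smooth (U.ι ≫ p)} := by
  rw [CurvFieldLib.geomFib_toSpFam_iff _
    (fun _ _ _ X' q => Set.Finite {x : ↥X' | ¬ ∃ U : X'.Opens, x ∈ U ∧ Smooth (U.ι ≫ q)})]
  haveI : LocallyOfFinitePresentation p :=
    inferInstance
  have hp : {x : X | ¬ ∃ U : X.Opens, x ∈ U ∧ Smooth (U.ι ≫ p)} = (p.smoothLocus : Set X)ᶜ := by
    rw [← CurvFieldLib.setOf_exists_smooth_eq p]; rfl
  have key : ∀ {Ω : Type u} [Field Ω] {t' : Spec (CommRingCat.of Ω) ⟶ Spec (CommRingCat.of k)} {X' : Scheme.{u}}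
      {q : X' ⟶ Spec (CommRingCat.of Ω)} {i : X' ⟶ X}, IsPullback i q p t' →
      {x : X' | ¬ ∃ U : X'.Opens, x ∈ U ∧ Smooth (U.ι ≫ q)} =
        i.base ⁻¹' {x : X | ¬ ∃ U : X.Opens, x ∈ U ∧ Smooth (U.ι ≫ p)} := by
    intro Ω _ t' X' q i sq
    haveI : LocallyOfFinitePresentation q := MorphismProperty.of_isPullback sq ‹_›
    haveI : Flat t' := by
      obtain ⟨φ, rfl⟩ := Spec.map_surjective t'
      rw [Flat.SpecMap_iff]
      letI := φ.hom.toAlgebra
      exact RingHom.flat_algebraMap_iff.2 (Module.Flat.of_free (R := k) (M := Ω))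
    rw [hp, Set.preimage_compl, show {x : X' | ¬ ∃ U : X'.Opens, x ∈ U ∧ Smooth (U.ι ≫ q)} =
      (q.smoothLocus : Set X')ᶜ by rw [← CurvFieldLib.setOf_exists_smooth_eq q]; rfl,
      Groth.Agent.S2155.result p t' q i sq (Or.inr ‹_›)]
    rfl
  refine ⟨fun H => ?_, fun h Ω _ _ t' X' q i sq => ?_⟩
  · let sΩ := Spec.map (CommRingCat.ofHom (algebraMap k (AlgebraicClosure k)))
    have hfin := H (AlgebraicClosure k) sΩ _ _ _ (IsPullback.of_hasPullback p sΩ)
    rw [key (IsPullback.of_hasPullback p sΩ)] at hfin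
    haveI : Surjective sΩ := ⟨fun z => ⟨IsLocalRing.closedPoint _, Subsingleton.elim (α := PrimeSpectrum k) _ _⟩⟩
    haveI : Surjective (CategoryTheory.Limits.pullback.fst p sΩ) := CategoryTheory.MorphismProperty.pullback_fst _ _ ‹_›
    exact hfin.of_preimage (CategoryTheory.Limits.pullback.fst p sΩ).surjective
  · rw [key sq]
    haveI : JacobsonSpace X := LocallyOfFiniteType.jacobsonSpace p
    exact h.preimage' fun x hx => CurvFieldLib.finite_preimage_of_isClosed p sq
      (CurvFieldLib.isClosed_singleton_of_mem_finite (hp ▸ p.smoothLocus.isOpen.isClosed_compl) h hx)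

end Groth.Agent.S17311
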