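import Groth.Statements.S1732
import Groth.Agent.InjHullLib.Local
import Groth.Agent.InjHullLib.Noetherian
import Groth.Agent.CohenLib.FSRegular

set_option autoImplicit false
universe u
open LocCoh

namespace Groth.Agent.S1732

open IsLocalRing InjHullLib

/-- A power torsion module on which a regular system of parameters has dual derivations is a sum of
copies of the injective hull of the residue field. -/
theorem main {R : Type u} [CommRing R] [IsLocalRing R] [IsNoetherianRing R] {E : Type u} [AddCommGroup E]
    [Module R E] {f : ResidueField R →ₗ[R] E} (hf : InjHull.IsInjectiveHull f) {d : ℕ} (x : Fin d → R)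
    (hm : maximalIdeal R = Ideal.span (Set.range x)) (hu : ∀ n : ℕ, IsUnit ((n + 1 : ℕ) : R))
    (θ : Fin d → R → R) (hθ : ∀ i j, i ≠ j → θ i (x j) = 0)
    (hθp : ∀ i (n : ℕ), θ i (x i ^ (n + 1)) = ((n + 1 : ℕ) : R) * x i ^ n)
    (M : Type u) [AddCommGroup M] [Module R M] (hM : LocCoh.IsPowerTorsion (maximalIdeal R) M)
    (D : Fin d → M →+ M) (hD : ∀ i (r : R) (z : M), D i (r • z) = θ i r • z + r • D i z) :
    ∃ J : Type u, Nonempty (M ≃ₗ[R] (J →₀ E)) := by
  classical
  have hxm : ∀ i, x i ∈ maximalIdeal R := fun i => hm ▸ Ideal.subset_span ⟨i, rfl⟩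
  -- each parameter acts surjectively on the kernel of the previous ones
  have hsur : ∀ (i : Fin d) (n : ℕ) (z : M), x i ^ n • z = 0 → (∀ j, j < i → x j • z = 0) →
      ∃ w, x i • w = z ∧ ∀ j, j < i → x j • w = 0 := by
    intro i n
    induction n with
    | zero => exact fun z hz _ => ⟨0, by simpa using hz.symm, fun j _ => smul_zero _⟩
    | succ n ih =>
      intro z hz hker
      have hkerD : ∀ j, j < i → x j • D i z = 0 := fun j hj => by
        have h := hD i (x j) z
        rw [hker j hj, map_zero, hθ i j hj.ne', zero_smul, zero_add] at h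
        exact h.symm
      have h := hD i (x i ^ (n + 1)) z
      rw [hz, map_zero, hθp, mul_comm, mul_smul, pow_succ, mul_smul, ← smul_add] at h
      obtain ⟨w', hw', hwk⟩ := ih _ h.symm fun j hj => by
        rw [smul_add, smul_comm (x j) ((n + 1 : ℕ) : R), hker j hj, smul_zero,
          smul_comm (x j) (x i), hkerD j hj, smul_zero, add_zero]
      obtain ⟨v, hv⟩ := isUnit_iff_exists_inv'.1 (hu n)
      refine ⟨v • (w' - D i z), ?_, fun j hj => ?_⟩
      · rw [smul_comm (x i), smul_sub, hw', add_sub_cancel_right, smul_smul, hv, one_smul]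
      · rw [smul_comm (x j), smul_sub, hwk j hj, hkerD j hj, sub_zero, smul_zero]
  have hsolve : ∀ y : Fin d → M, (∀ i j, x i • y j = x j • y i) → ∃ w, ∀ i, x i • w = y i := by
    intro y hy
    suffices h : ∀ m : ℕ, ∃ w, ∀ i : Fin d, i.1 < m → x i • w = y i by
      obtain ⟨w, hw⟩ := h d
      exact ⟨w, fun i => hw i i.2⟩
    intro m
    induction m with
    | zero => exact ⟨0, fun i hi => absurd hi (Nat.not_lt_zero _)⟩
    | succ m ih =>
      obtain ⟨w, hw⟩ := ih
      rcases lt_or_ge m d with hmd | hmd
      · let i₀ : Fin d := ⟨m, hmd⟩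
        obtain ⟨n, hn⟩ := hM (y i₀ - x i₀ • w)
        obtain ⟨w', hw', hwk⟩ := hsur i₀ n (y i₀ - x i₀ • w) (hn _ (Ideal.pow_mem_pow (hxm _) n))
          fun j hj => by rw [smul_sub, smul_comm, hw j hj, hy j i₀, sub_self]
        refine ⟨w + w', fun i hi => ?_⟩
        rw [smul_add]
        rcases Nat.lt_succ_iff_lt_or_eq.1 hi with h | h
        · rw [hw i h, hwk i h, add_zero]
        · rw [show i = i₀ from Fin.ext h, hw', add_sub_cancel]
      · exact ⟨w, fun i _ => hw i (lt_of_lt_of_le i.2 hmd)⟩
  let S := Submodule.torsionBySet R M (maximalIdeal R : Set R)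
  haveI : (maximalIdeal R).IsMaximal := IsLocalRing.maximalIdeal.isMaximal R
  letI : Field (R ⧸ maximalIdeal R) := Ideal.Quotient.field _
  let f' : (R ⧸ maximalIdeal R) →ₗ[R] E := f
  let J := Module.Free.ChooseBasisIndex (R ⧸ maximalIdeal R) S
  let rep := ((Module.Free.chooseBasis (R ⧸ maximalIdeal R) S).repr).restrictScalars R
  let g : S →ₗ[R] (J →₀ E) := Finsupp.mapRange.linearMap f' ∘ₗ rep.toLinearMap
  have hg : Function.Injective g :=
    (Finsupp.mapRange_injective f' (map_zero f') hf.injective).comp rep.injective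
  have hrange : ∀ e : J →₀ E, (∀ r ∈ maximalIdeal R, r • e = 0) → e ∈ LinearMap.range g := fun e he => by
    rw [← Finsupp.sum_single e]
    refine Submodule.sum_mem _ fun j _ => ?_
    have hj : e j ∈ LinearMap.range f := socle_eq_range hf ▸ mem_torsionBy_iff.2 fun r hr => by
      rw [← Finsupp.smul_apply, he r hr, Finsupp.zero_apply]
    obtain ⟨c, hc⟩ := hj
    refine ⟨rep.symm (Finsupp.single j c), ?_⟩
    simp only [g, LinearMap.comp_apply, LinearEquiv.coe_coe, LinearEquiv.apply_symm_apply]
    rw [Finsupp.mapRange.linearMap_apply, Finsupp.mapRange_single]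
    exact congrArg _ hc
  have hI : Module.Injective R (J →₀ E) :=
    injective_of_equiv (injective_directSum _ fun _ : J => hf.isInjective) (finsuppLEquivDirectSum R E J).symm
  obtain ⟨φ, hφ⟩ := exists_extend hI S.subtype (Submodule.injective_subtype _) g
  have hφi : Function.Injective φ := injective_of_comp_essential (socle_essential hM) φ (by rw [hφ]; exact hg)
  have hφs : Function.Surjective φ := by
    suffices h : ∀ (n : ℕ) (e : J →₀ E), (∀ a ∈ maximalIdeal R ^ n, a • e = 0) → e ∈ LinearMap.range φ by
      intro e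
      choose k hk using fun j => isPowerTorsion_hull_local hf (e j)
      refine h (e.support.sup k) e fun a ha => Finsupp.ext fun j => ?_
      rw [Finsupp.smul_apply, Finsupp.zero_apply]
      by_cases hj : j ∈ e.support
      · exact hk j a (Ideal.pow_le_pow_right (Finset.le_sup hj) ha)
      · rw [Finsupp.notMem_support_iff.1 hj, smul_zero]
    intro n
    induction n with
    | zero => exact fun e he => by rw [show e = 0 by simpa using he 1 (by simp)]; exact zero_mem _
    | succ n ih =>
      intro e he
      choose y hy using fun i => LinearMap.mem_range.1 (ih (x i • e) fun a ha => by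
        rw [smul_smul]; exact he _ (by rw [pow_succ]; exact Ideal.mul_mem_mul ha (hxm i)))
      obtain ⟨w, hw⟩ := hsolve y fun i j => hφi (by rw [map_smul, map_smul, hy, hy, smul_comm])
      have hsoc : e - φ w ∈ LinearMap.range g := hrange _ fun r hr => by
        rw [hm] at hr
        have : Ideal.span (Set.range x) ≤ Ideal.torsionOf R _ (e - φ w) := Ideal.span_le.2 <| by
          rintro _ ⟨i, rfl⟩
          show x i ∈ Ideal.torsionOf R _ (e - φ w)
          rw [Ideal.mem_torsionOf_iff, smul_sub, ← map_smul, hw, hy, sub_self]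
        exact (Ideal.mem_torsionOf_iff _ _).1 (this hr)
      obtain ⟨s, hs⟩ := hsoc
      refine ⟨w + (s : M), ?_⟩
      rw [map_add, show φ (s : M) = g s from LinearMap.congr_fun hφ s, hs, add_sub_cancel]
  exact ⟨J, ⟨LinearEquiv.ofBijective φ ⟨hφi, hφs⟩⟩⟩

/-- Let k be a field of characteristic zero, d ≥ 1, A = k[[x_1, …, x_d]] with maximal ideal m, and E an
injective hull of the residue field of A. Let M be an m-power torsion A-module equipped with
additive maps D_1, …, D_d such that D_i(f z) = θ_i(f) z + f D_i(z), where θ_i is the k-derivation of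
A with θ_i(x_j) = δ_ij (the partial derivative in x_i). Then M is, up to isomorphism, a direct sum
of copies of E. -/
theorem result (k : Type u) [Field k] [CharZero k] (d : ℕ) (hd : 1 ≤ d) (E : Type u) [AddCommGroup E] [Module (MvPowerSeries (Fin d) k) E] (e : IsLocalRing.ResidueField (MvPowerSeries (Fin d) k) →ₗ[MvPowerSeries (Fin d) k] E) (he : InjHull.IsInjectiveHull e) (θ : Fin d → Derivation k (MvPowerSeries (Fin d) k) (MvPowerSeries (Fin d) k)) (hθ : ∀ i j : Fin d, θ i (MvPowerSeries.X j) = if i = j then 1 else 0) (M : Type u) [AddCommGroup M] [Module (MvPowerSeries (Fin d) k) M] (hM : LocCoh.IsPowerTorsion (IsLocalRing.maximalIdeal (MvPowerSeries (Fin d) k)) M) (D : Fin d → M →+ M) (hD : ∀ (i : Fin d) (f : MvPowerSeries (Fin d) k) (z : M), D i (f • z) = θ i f • z + f • D i z) : ∃ J : Type u, Nonempty (M ≃ₗ[MvPowerSeries (Fin d) k] (J →₀ E)) := by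
  haveI : IsNoetherianRing (MvPowerSeries (Fin d) k) := CohenLib.isNoetherianRing_mvPowerSeries (Λ := k) (n := d)
  refine main he MvPowerSeries.X ?_ (fun n => ?_) (fun i => θ i) (fun i j h => by simp [hθ, h]) (fun i n => ?_) M hM D hD
  · exact CohenLib.maximalIdeal_mvPowerSeries_field k d
  · have h : IsUnit ((n + 1 : ℕ) : k) := IsUnit.mk0 _ (Nat.cast_ne_zero.2 n.succ_ne_zero)
    simpa only [map_natCast] using h.map (algebraMap k (MvPowerSeries (Fin d) k))
  · rw [Derivation.leibniz_pow, hθ, if_pos rfl, Nat.add_sub_cancel, smul_eq_mul, mul_one, nsmul_eq_mul]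

end Groth.Agent.S1732
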