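import Groth.Statements.S17323
import Groth.Agent.FinAlgLib.Split

set_option autoImplicit false
universe u v
open CAlg

namespace Groth.Agent.S17323

/-- Let k be an algebraically closed field and A a commutative k-algebra which is finite-dimensional as
a k-vector space. Then A has a largest reduced subalgebra: a k-subalgebra B which is reduced and
contains every reduced k-subalgebra of A; moreover the composite of the inclusion B → A with the
projection A → A/nilradical(A) is bijective. -/
theorem result (k : Type u) [Field k] [IsAlgClosed k]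
    (A : Type v) [CommRing A] [Algebra k A] [Module.Finite k A] :
    ∃ B : Subalgebra k A, IsReduced ↥B ∧ (∀ C : Subalgebra k A, IsReduced ↥C → C ≤ B) ∧
      Function.Bijective ((Ideal.Quotient.mkₐ k (nilradical A)).comp B.val) := by
  obtain ⟨s, hs⟩ := FinAlgLib.exists_section (k := k) (A := A)
  refine ⟨s.range, FinAlgLib.isReduced_pi_range hs, fun C hC => FinAlgLib.le_range_section hs C, ?_, ?_⟩
  · intro x y hxy
    obtain ⟨a, ha⟩ := x.2
    obtain ⟨b, hb⟩ := y.2
    have h1 : (x : A) - (y : A) ∈ nilradical A := Ideal.Quotient.eq.1 hxy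
    rw [← FinAlgLib.ker_ev (k := k), RingHom.mem_ker, map_sub, sub_eq_zero, ← show s a = (x : A) from ha,
      ← show s b = (y : A) from hb, hs, hs] at h1
    exact Subtype.ext (by rw [← show s a = (x : A) from ha, ← show s b = (y : A) from hb, h1])
  · intro q
    obtain ⟨a, rfl⟩ := Ideal.Quotient.mk_surjective q
    refine ⟨⟨s (FinAlgLib.ev k A a), ⟨_, rfl⟩⟩, ?_⟩
    show Ideal.Quotient.mk _ (s (FinAlgLib.ev k A a)) = Ideal.Quotient.mk _ a
    rw [Ideal.Quotient.eq, ← FinAlgLib.ker_ev (k := k), RingHom.mem_ker, map_sub, hs, sub_self]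

end Groth.Agent.S17323
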