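import Groth.Statements.S17324
import Groth.Agent.FinAlgLib.Split
import Mathlib.RingTheory.Artinian.Ring

set_option autoImplicit false
universe u v
open CAlg

namespace Groth.Agent.S17324

/-- (i) ⟺ (ii): let k be an algebraically closed field, A a commutative k-algebra which is
finite-dimensional as a k-vector space and is a local ring with maximal ideal m, and a_1, …, a_m ∈
m. Then A is generated as a k-algebra by a_1, …, a_m if and only if m is generated as an ideal by
a_1, …, a_m. (The printed lemma has a third equivalent condition, that the images of the a_i span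
m/m²; its equivalence with (ii) is Nakayama's lemma.) -/
theorem result (k : Type u) [Field k] [IsAlgClosed k]
    (A : Type v) [CommRing A] [Algebra k A] [Module.Finite k A] [IsLocalRing A]
    (m : ℕ) (a : Fin m → A) (ha : ∀ i, a i ∈ IsLocalRing.maximalIdeal A) :
    Algebra.adjoin k (Set.range a) = ⊤ ↔ Ideal.span (Set.range a) = IsLocalRing.maximalIdeal A := by
  classical
  set mA := IsLocalRing.maximalIdeal A with hmA
  have : IsArtinianRing A := isArtinian_of_tower k inferInstance
  have : Algebra.IsIntegral k (A ⧸ mA) := Algebra.IsIntegral.of_finite k _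
  have hres : ∀ x : A, ∃ c : k, x - algebraMap k A c ∈ mA := fun x => by
    obtain ⟨c, hc⟩ := (IsAlgClosed.algebraMap_bijective_of_isIntegral (k := k) (K := A ⧸ mA)).2
      (Ideal.Quotient.mk mA x)
    exact ⟨c, Ideal.Quotient.eq.1 hc.symm⟩
  have hspan : Ideal.span (Set.range a) ≤ mA := Ideal.span_le.2 (by rintro _ ⟨i, rfl⟩; exact ha i)
  constructor
  · intro h
    refine le_antisymm hspan fun x hx => ?_
    have hx' : x ∈ Algebra.adjoin k (Set.range a) := h ▸ Algebra.mem_top
    obtain ⟨c, hc⟩ : ∃ c : k, x - algebraMap k A c ∈ Ideal.span (Set.range a) := by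
      clear hx
      induction hx' using Algebra.adjoin_induction with
      | mem y hy => exact ⟨0, by rw [map_zero, sub_zero]; exact Ideal.subset_span hy⟩
      | algebraMap r => exact ⟨r, by rw [sub_self]; exact zero_mem _⟩
      | add y z _ _ hy hz =>
        obtain ⟨c, hc⟩ := hy
        obtain ⟨d, hd⟩ := hz
        exact ⟨c + d, by rw [map_add, add_sub_add_comm]; exact add_mem hc hd⟩
      | mul y z _ _ hy hz =>
        obtain ⟨c, hc⟩ := hy
        obtain ⟨d, hd⟩ := hz
        refine ⟨c * d, ?_⟩
        rw [map_mul, show y * z - algebraMap k A c * algebraMap k A d =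
          y * (z - algebraMap k A d) + algebraMap k A d * (y - algebraMap k A c) by ring]
        exact add_mem (Ideal.mul_mem_left _ _ hd) (Ideal.mul_mem_left _ _ hc)
    rcases eq_or_ne c 0 with rfl | hc0
    · simpa using hc
    · have h1 : algebraMap k A c ∈ mA := by
        have := sub_mem hx (hspan hc)
        rwa [sub_sub_cancel] at this
      exact absurd ((isUnit_iff_ne_zero.2 hc0).map (algebraMap k A)) ((IsLocalRing.mem_maximalIdeal _).1 h1)
  · intro h
    set S := Algebra.adjoin k (Set.range a)
    have hnil : IsNilpotent mA := by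
      rw [hmA, ← IsLocalRing.jacobson_eq_maximalIdeal (⊥ : Ideal A) bot_ne_top]
      exact IsArtinianRing.isNilpotent_jacobson_bot
    obtain ⟨n, hn⟩ := hnil
    have hstep : ∀ j : ℕ, ∀ x ∈ mA ^ j, ∃ y ∈ S, x - y ∈ mA ^ (j + 1) := by
      intro j
      induction j with
      | zero =>
        intro x _
        obtain ⟨c, hc⟩ := hres x
        exact ⟨_, S.algebraMap_mem c, by simpa using hc⟩
      | succ j ih =>
        intro x hx
        rw [pow_succ] at hx
        induction hx using Submodule.mul_induction_on' with
        | mem_mul_mem b hb c hc =>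
          rw [← h] at hc
          clear ha hspan
          induction hc using Submodule.span_induction generalizing b with
          | mem z hz =>
            obtain ⟨y, hy, hby⟩ := ih b hb
            refine ⟨y * z, S.mul_mem hy (Algebra.subset_adjoin hz), ?_⟩
            rw [← sub_mul, pow_succ]
            exact Ideal.mul_mem_mul hby (h.le (Ideal.subset_span hz))
          | zero => exact ⟨0, S.zero_mem, by simp⟩
          | add z w _ _ hz hw =>
            obtain ⟨y₁, hy₁, h₁⟩ := hz b hb
            obtain ⟨y₂, hy₂, h₂⟩ := hw b hb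
            exact ⟨y₁ + y₂, S.add_mem hy₁ hy₂, by rw [mul_add, add_sub_add_comm]; exact add_mem h₁ h₂⟩
          | smul r z _ hz =>
            obtain ⟨y, hy, hy'⟩ := hz (b * r) (Ideal.mul_mem_right _ _ hb)
            exact ⟨y, hy, by rw [smul_eq_mul, ← mul_assoc]; exact hy'⟩
        | add z _ w _ hz hw =>
          obtain ⟨y₁, hy₁, h₁⟩ := hz
          obtain ⟨y₂, hy₂, h₂⟩ := hw
          exact ⟨y₁ + y₂, S.add_mem hy₁ hy₂, by rw [add_sub_add_comm]; exact add_mem h₁ h₂⟩
    rw [eq_top_iff]
    rintro x -
    have key : ∀ j : ℕ, ∃ y ∈ S, x - y ∈ mA ^ j := by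
      intro j
      induction j with
      | zero => exact ⟨0, S.zero_mem, by simp⟩
      | succ j ih =>
        obtain ⟨y, hy, hxy⟩ := ih
        obtain ⟨z, hz, hz'⟩ := hstep j _ hxy
        exact ⟨y + z, S.add_mem hy hz, by rw [← sub_sub]; exact hz'⟩
    obtain ⟨y, hy, hxy⟩ := key n
    rw [hn, Ideal.zero_eq_bot, Ideal.mem_bot, sub_eq_zero] at hxy
    rw [hxy]; exact hy

end Groth.Agent.S17324
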