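import Groth.Statements.S17325
-- import your own Groth.Agent.* helpers here

set_option autoImplicit false
universe u v
open LieAlg

namespace Groth.Agent.S17325

/-- Let k be an algebraically closed field of characteristic p > 0, V a finite-dimensional k-vector
space and g a nonzero k-linear subspace of End_k(V) closed under the p-th power map u ↦ u^p. Then g
contains a nonzero u with u^p = c u for some c ∈ k, i.e. a line k u closed under p-th powers. (The
published lemma concerns an abstract nonzero finite-dimensional restricted Lie algebra; this row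
concerns subspaces of End_k(V) closed under p-th powers, a class that contains every restricted Lie
subalgebra of gl(V).) -/
theorem result (k : Type u) [Field k] [IsAlgClosed k]
    (p : ℕ) [Fact p.Prime] [CharP k p] (V : Type v) [AddCommGroup V] [Module k V] [FiniteDimensional k V]
    (g : Submodule k (Module.End k V)) (hg : ∀ u ∈ g, u ^ p ∈ g) (hne : g ≠ ⊥) :
    ∃ u ∈ g, u ≠ 0 ∧ ∃ c : k, u ^ p = c • u := by
  classical
  by_cases hnil : ∃ u ∈ g, u ≠ 0 ∧ u ^ p = 0
  · obtain ⟨u, hu, hu0, hup⟩ := hnil
    exact ⟨u, hu, hu0, 0, by rw [hup, zero_smul]⟩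
  push Not at hnil
  obtain ⟨u, hu, hu0⟩ := Submodule.exists_mem_ne_zero_of_ne_bot hne
  let v : ℕ → Module.End k V := fun i => u ^ (p ^ i)
  have hvg : ∀ i, v i ∈ g ∧ v i ≠ 0 := by
    intro i
    induction i with
    | zero => simpa [v] using And.intro hu hu0
    | succ i ih =>
      have : v (i + 1) = v i ^ p := by simp only [v]; rw [← pow_mul, pow_succ]
      exact this ▸ ⟨hg _ ih.1, hnil _ ih.1 ih.2⟩
  -- the first dependence
  have hex : ∃ r, v r ∈ Submodule.span k (v '' (Set.Iio r)) := by
    by_contra hne'
    push Not at hne'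
    have hli : ∀ r : ℕ, LinearIndependent k (fun i : Fin r => v i) := by
      intro r
      induction r with
      | zero => exact linearIndependent_empty_type
      | succ r ih =>
        rw [linearIndependent_fin_succ']
        refine ⟨ih, ?_⟩
        rw [show Set.range (Fin.init fun i : Fin (r + 1) => v i) = v '' Set.Iio r from ?_]
        · simpa using hne' r
        ext x
        constructor
        · rintro ⟨i, rfl⟩; exact ⟨i, i.2, by simp [Fin.init]⟩
        · rintro ⟨i, hi, rfl⟩; exact ⟨⟨i, hi⟩, by simp [Fin.init]⟩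
    have := (hli (Module.finrank k (Module.End k V) + 1)).fintype_card_le_finrank
    simp at this
  let r := Nat.find hex
  have hr : v r ∈ Submodule.span k (v '' (Set.Iio r)) := Nat.find_spec hex
  have hli : LinearIndependent k (fun i : Fin r => v i) := by
    have : ∀ s ≤ r, LinearIndependent k (fun i : Fin s => v i) := by
      intro s
      induction s with
      | zero => exact fun _ => linearIndependent_empty_type
      | succ s ih =>
        intro hs
        rw [linearIndependent_fin_succ']
        refine ⟨ih (by omega), ?_⟩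
        rw [show Set.range (Fin.init fun i : Fin (s + 1) => v i) = v '' Set.Iio s from ?_]
        · simpa using Nat.find_min hex (show s < r by omega)
        ext x
        constructor
        · rintro ⟨i, rfl⟩; exact ⟨i, i.2, by simp [Fin.init]⟩
        · rintro ⟨i, hi, rfl⟩; exact ⟨⟨i, hi⟩, by simp [Fin.init]⟩
    exact this r le_rfl
  rw [show v '' (Set.Iio r) = Set.range (fun i : Fin r => v i) by
    ext x; exact ⟨fun ⟨i, hi, e⟩ => ⟨⟨i, hi⟩, e⟩, fun ⟨i, e⟩ => ⟨i, i.2, e⟩⟩] at hr
  obtain ⟨a, ha⟩ := (Submodule.mem_span_range_iff_exists_fun k).1 hr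
  let a' : ℕ → k := fun i => if h : i < r then a ⟨i, h⟩ else 0
  -- the polynomials giving the coordinates
  let G : ℕ → Polynomial k := fun i => Nat.rec (Polynomial.C (a' 0) * Polynomial.X ^ p)
    (fun j Gj => Polynomial.C (a' (j + 1)) * Polynomial.X ^ p + Gj ^ p) i
  have hp1 : 1 < p := (Fact.out : p.Prime).one_lt
  have hG : ∀ i, (G i ≠ 0 → p ≤ (G i).natDegree) ∧ ((∃ j ≤ i, a' j ≠ 0) → G i ≠ 0) ∧ (G i).coeff 1 = 0 ∧ (G i).coeff 0 = 0 := by
    intro i
    induction i with
    | zero =>
      show (Polynomial.C (a' 0) * Polynomial.X ^ p ≠ 0 → p ≤ (Polynomial.C (a' 0) * Polynomial.X ^ p).natDegree) ∧ _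
      refine ⟨fun h => ?_, fun ⟨j, hj, hja⟩ => ?_, ?_, ?_⟩
      · rw [Polynomial.natDegree_C_mul_X_pow p (a' 0) (fun e => h (by rw [e, map_zero, zero_mul]))]
      · rw [Nat.le_zero.1 hj] at hja
        exact mul_ne_zero (Polynomial.C_ne_zero.2 hja) (pow_ne_zero _ Polynomial.X_ne_zero)
      · show (Polynomial.C (a' 0) * Polynomial.X ^ p).coeff 1 = 0
        rw [Polynomial.coeff_C_mul_X_pow, if_neg (by omega)]
      · show (Polynomial.C (a' 0) * Polynomial.X ^ p).coeff 0 = 0
        rw [Polynomial.coeff_C_mul_X_pow, if_neg (by omega)]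
    | succ i ih =>
      obtain ⟨h1, h2, h3, h4⟩ := ih
      have hG' : G (i + 1) = Polynomial.C (a' (i + 1)) * Polynomial.X ^ p + G i ^ p := rfl
      have hX : Polynomial.X ∣ G i := Polynomial.X_dvd_iff.2 h4
      have hc : ∀ m < 2, (G i ^ p).coeff m = 0 := fun m hm =>
        Polynomial.X_pow_dvd_iff.1 (pow_dvd_pow_of_dvd hX p) m (by omega)
      have hbig : G i ≠ 0 → p < (G i ^ p).natDegree := fun h => by
        rw [Polynomial.natDegree_pow]
        calc p = p * 1 := (mul_one p).symm
          _ < p * p := Nat.mul_lt_mul_of_pos_left hp1 (by omega)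
          _ ≤ p * (G i).natDegree := Nat.mul_le_mul_left p (h1 h)
      have hdeg : G i ≠ 0 → (G (i + 1)).natDegree = (G i ^ p).natDegree := fun h => by
        rw [hG']
        exact Polynomial.natDegree_add_eq_right_of_natDegree_lt ((Polynomial.natDegree_C_mul_X_pow_le _ _).trans_lt (hbig h))
      refine ⟨fun h => ?_, fun ⟨j, hj, hja⟩ => ?_, ?_, ?_⟩
      · rcases eq_or_ne (G i) 0 with hi | hi
        · rw [hG', hi, zero_pow (by omega), add_zero] at h ⊢
          rw [Polynomial.natDegree_C_mul_X_pow p (a' (i + 1)) (fun e => h (by rw [e, map_zero, zero_mul]))]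
        · rw [hdeg hi]; exact (hbig hi).le
      · rcases eq_or_ne (G i) 0 with hi | hi
        · have : j = i + 1 := by
            by_contra hne'
            exact h2 ⟨j, by omega, hja⟩ hi
          subst this
          rw [hG', hi, zero_pow (by omega), add_zero]
          exact mul_ne_zero (Polynomial.C_ne_zero.2 hja) (pow_ne_zero _ Polynomial.X_ne_zero)
        · intro h0
          have := hdeg hi
          rw [h0, Polynomial.natDegree_zero] at this
          have := hbig hi
          omega
      · rw [hG', Polynomial.coeff_add, Polynomial.coeff_C_mul_X_pow, if_neg (by omega), hc 1 (by omega), add_zero]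
      · rw [hG', Polynomial.coeff_add, Polynomial.coeff_C_mul_X_pow, if_neg (by omega), hc 0 (by omega), add_zero]
  have hr0 : 0 < r := by
    rcases Nat.eq_zero_or_pos r with h | h
    · exfalso
      haveI : IsEmpty (Fin r) := by rw [h]; infer_instance
      rw [Fintype.sum_empty] at ha
      exact (hvg r).2 ha.symm
    · exact h
  obtain ⟨hdeg, hnz, hc1, hc0⟩ := hG (r - 1)
  have hGne : G (r - 1) ≠ 0 := by
    refine hnz ?_
    by_contra hall
    push Not at hall
    refine (hvg r).2 (ha ▸ Finset.sum_eq_zero fun i _ => ?_)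
    have := hall i (by have := i.2; omega)
    simp only [a', dif_pos i.2] at this
    rw [this, zero_smul]
  let f := G (r - 1) - Polynomial.X
  have hf : f = Polynomial.X * f.divX := by
    conv_lhs => rw [← Polynomial.X_mul_divX_add f]
    simp [f, hc0]
  have hfd : f.natDegree = (G (r - 1)).natDegree :=
    Polynomial.natDegree_sub_eq_left_of_natDegree_lt (by rw [Polynomial.natDegree_X]; have := hdeg hGne; omega)
  obtain ⟨t, ht⟩ := IsAlgClosed.exists_root f.divX (fun h => by
    have h' := Polynomial.natDegree_eq_zero_iff_degree_le_zero.2 h.le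
    rw [Polynomial.natDegree_divX_eq_natDegree_tsub_one, hfd] at h'
    have := hdeg hGne
    omega)
  have ht0 : t ≠ 0 := by
    rintro rfl
    have : f.divX.coeff 0 = 0 := by rw [Polynomial.coeff_zero_eq_eval_zero]; exact ht
    rw [Polynomial.coeff_divX] at this
    simp [f, hc1] at this
  have hft : (G (r - 1)).eval t = t := by
    have : f.eval t = 0 := by rw [hf, Polynomial.eval_mul, ht.eq_zero, mul_zero]
    simpa [f, sub_eq_zero] using this
  let x : ℕ → k := fun i => (G i).eval t
  let w : Module.End k V := ∑ i : Fin r, x i • v i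
  refine ⟨w, Submodule.sum_mem _ fun i _ => g.smul_mem _ (hvg i).1, fun h0 => ?_, 1, ?_⟩
  · exact ht0 (hft.symm.trans (Fintype.linearIndependent_iff.1 hli _ h0 ⟨r - 1, by omega⟩))
  · rw [one_smul]
    have hwp : w ^ p = ∑ i : Fin r, x i ^ p • v (i + 1) := by
      have hw : w = Polynomial.aeval u (∑ i : Fin r, Polynomial.C (x i) * Polynomial.X ^ (p ^ (i : ℕ))) := by
        simp [w, v, map_sum, Algebra.smul_def]
      rw [hw, ← map_pow, sum_pow_char p]
      rw [map_sum]
      refine Finset.sum_congr rfl fun i _ => ?_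
      rw [mul_pow, ← map_pow Polynomial.C, ← pow_mul, ← pow_succ, map_mul, Polynomial.aeval_C,
        map_pow (Polynomial.aeval u) Polynomial.X, Polynomial.aeval_X, Algebra.smul_def]
    rw [hwp]
    obtain ⟨s, hs⟩ : ∃ s, r = s + 1 := ⟨r - 1, by omega⟩
    have hw' : w = ∑ i ∈ Finset.range r, x i • v i := Fin.sum_univ_eq_sum_range (fun i => x i • v i) r
    have hvr : v r = ∑ i ∈ Finset.range r, a' i • v i := by
      rw [← ha, ← Fin.sum_univ_eq_sum_range (fun i => a' i • v i) r]
      exact Finset.sum_congr rfl fun i _ => by simp only [a', dif_pos i.2]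
    rw [Fin.sum_univ_eq_sum_range (fun i => x i ^ p • v (i + 1)) r, hw']
    have hxs : x s = t := by rw [show s = r - 1 by omega]; exact hft
    have hx0 : x 0 = a' 0 * t ^ p := by simp [x, G]
    have hxS : ∀ i, x (i + 1) = a' (i + 1) * t ^ p + x i ^ p := fun i => by simp [x, G]
    rw [hs, Finset.sum_range_succ, ← hs, hvr, hxs, Finset.smul_sum, hs, Finset.sum_range_succ' (fun i => t ^ p • a' i • v i),
      Finset.sum_range_succ' (fun i => x i • v i), ← add_assoc, ← Finset.sum_add_distrib]
    congr 1
    · refine Finset.sum_congr rfl fun i _ => ?_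
      rw [hxS, add_smul, smul_smul, mul_comm (t ^ p)]
      abel
    · rw [hx0, smul_smul, mul_comm]

end Groth.Agent.S17325
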