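import Groth.Statements.S17326
import Groth.Agent.FinAlgLib.Split
import Mathlib.FieldTheory.Perfect
import Mathlib.Algebra.CharP.Algebra

set_option autoImplicit false
universe u v
open CAlg

namespace Groth.Agent.S17326

/-- Let k be an algebraically closed field of characteristic p > 0, A a commutative k-algebra which is
finite-dimensional as a k-vector space (a finite k-scheme X), and n ≥ 1. The n-th iterated relative
Frobenius morphism X → X^(p^n) is an isomorphism if and only if X is reduced; on rings: the map a ↦
a^(p^n) of A to itself (which is the ring homomorphism underlying the relative Frobenius, the twist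
A^(p^n) having the same underlying ring as A) is bijective if and only if A is reduced. -/
theorem result (k : Type u) [Field k] [IsAlgClosed k]
    (p : ℕ) [Fact p.Prime] [CharP k p] (A : Type v) [CommRing A] [Algebra k A] [Module.Finite k A]
    (n : ℕ) (hn : 1 ≤ n) :
    Function.Bijective (fun a : A => a ^ p ^ n) ↔ IsReduced A := by
  have hp := (Fact.out : p.Prime)
  constructor
  · intro h
    refine ⟨fun x hx => ?_⟩
    obtain ⟨m, hm⟩ := hx
    have key : ∀ j : ℕ, x ^ (p ^ n) ^ j = 0 → x = 0 := by
      intro j
      induction j with
      | zero => simp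
      | succ j ih =>
        intro hj
        refine ih (h.1 ?_)
        show (x ^ (p ^ n) ^ j) ^ p ^ n = (0 : A) ^ p ^ n
        rw [← pow_mul, ← pow_succ, hj, zero_pow (pow_ne_zero _ hp.ne_zero)]
    refine key m (pow_eq_zero_of_le ?_ hm)
    exact (Nat.lt_pow_self (Nat.one_lt_pow (by omega) hp.one_lt)).le
  · intro h
    have hbij := FinAlgLib.ev_bijective (k := k) (A := A)
    refine ⟨fun x y hxy => hbij.1 (funext fun f => ?_), fun y => ?_⟩
    · have h1 : f x ^ p ^ n = f y ^ p ^ n := by rw [← map_pow, ← map_pow]; exact congrArg f hxy
      rw [← sub_eq_zero, ← sub_pow_char_pow] at h1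
      exact sub_eq_zero.1 (eq_zero_of_pow_eq_zero h1)
    · choose g hg using fun f : A →ₐ[k] k => IsAlgClosed.exists_pow_nat_eq (f y) (pow_pos hp.pos n)
      obtain ⟨x, hx⟩ := hbij.2 g
      refine ⟨x, hbij.1 ?_⟩
      show FinAlgLib.ev k A (x ^ p ^ n) = FinAlgLib.ev k A y
      rw [map_pow, hx]
      exact funext hg

end Groth.Agent.S17326
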