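import Groth.Statements.S1733
import Mathlib


-- import your own Groth.Agent.* helpers here

set_option autoImplicit false
universe u
open LocCoh

namespace Groth.Agent.S1733

/-- Let f_1, …, f_r and g be elements of a ring (r ≥ 1). If the family f_1, …, f_{r-1}, f_r g is
independent (every linear relation has coefficients in the ideal the family generates), then f_1, …,
f_r is independent. -/
theorem result (A : Type u) [CommRing A] (r : ℕ) (f : Fin (r + 1) → A) (g : A) (h : Dual2.Independent (Function.update f (Fin.last r) (f (Fin.last r) * g))) : Dual2.Independent f := by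
  classical
  intro a ha
  set l := Fin.last r
  set f' := Function.update f l (f l * g) with hf'
  have hle : Ideal.span (Set.range f') ≤ Ideal.span (Set.range f) := by
    rw [Ideal.span_le]
    rintro _ ⟨i, rfl⟩
    by_cases hi : i = l
    · subst hi; rw [hf', Function.update_self]; exact Ideal.mul_mem_right _ _ (Ideal.subset_span ⟨l, rfl⟩)
    · rw [hf', Function.update_of_ne hi]; exact Ideal.subset_span ⟨i, rfl⟩
  have h1 : a l ∈ Ideal.span (Set.range f') := by
    have := h (fun i => if i = l then a l else a i * g) (by
      rw [← zero_mul g, ← ha, Finset.sum_mul]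
      refine Finset.sum_congr rfl fun i _ => ?_
      by_cases hi : i = l
      · subst hi; simp [f']; ring
      · simp [f', hi]; ring) l
    simpa using this
  obtain ⟨b, hb⟩ := Ideal.mem_span_range_iff_exists_fun.1 h1
  have hsum := h (fun i => if i = l then b l * f l else a i + b i * f l) (by
    rw [← ha]
    have e : a l * f l = ∑ i, b i * f' i * f l := by rw [← hb, Finset.sum_mul]
    rw [← Finset.add_sum_erase _ _ (Finset.mem_univ l), ← Finset.add_sum_erase _ (fun i => a i * f i) (Finset.mem_univ l), e,
      ← Finset.add_sum_erase _ (fun i => b i * f' i * f l) (Finset.mem_univ l), add_assoc, ← Finset.sum_add_distrib]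
    congr 1
    · simp; ring
    · refine Finset.sum_congr rfl fun i hi => ?_
      have hne := (Finset.mem_erase.1 hi).1
      simp [f', hne]; ring)
  intro i
  by_cases hi : i = l
  · subst hi; exact hle h1
  · have := hle (hsum i)
    rw [if_neg hi] at this
    exact (Ideal.add_mem_iff_left _ (Ideal.mul_mem_left _ _ (Ideal.subset_span (Set.mem_range_self (f := f) l)))).1 this

end Groth.Agent.S1733
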