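import Groth.Statements.S17333
import Mathlib.RingTheory.Derivation.Basic
import Mathlib.LinearAlgebra.Prod

set_option autoImplicit false
universe u v w
open CAlg

namespace Groth.Agent.S17333

/-- Let k be a field and A = B × C a decomposable commutative k-algebra. Then the natural map Der(B) ×
Der(C) → Der(A) is bijective: every k-derivation D : A → A is (b, c) ↦ (D₁ b, D₂ c) for a unique
pair of k-derivations D₁ : B → B, D₂ : C → C. Compatibility with brackets is not stated. (The
published statement takes k algebraically closed; this row takes any field.) -/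
theorem result (k : Type u) [Field k] (B : Type v) [CommRing B] [Algebra k B]
    (C : Type w) [CommRing C] [Algebra k C] (D : Derivation k (B × C) (B × C)) :
    ∃! P : Derivation k B B × Derivation k C C, ∀ (b : B) (c : C), D (b, c) = (P.1 b, P.2 c) := by
  have he : D ((1 : B), (0 : C)) = 0 := by
    set e : B × C := (1, 0)
    have he2 : e * e = e := by simp [e]
    have h := D.leibniz e e
    rw [he2, smul_eq_mul] at h
    have h2 : e * D e = 0 := by
      have h3 := congrArg (e * ·) h
      simp only [mul_add, ← mul_assoc, he2] at h3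
      exact left_eq_add.1 h3
    rw [h, h2, add_zero]
  have he' : D ((0 : B), (1 : C)) = 0 := by
    have h : ((0 : B), (1 : C)) = 1 - ((1 : B), (0 : C)) := by simp [Prod.ext_iff]
    rw [h, map_sub, D.map_one_eq_zero, he, sub_zero]
  have hb : ∀ b : B, (D (b, (0 : C))).2 = 0 := fun b => by
    have h := D.leibniz ((1 : B), (0 : C)) (b, (0 : C))
    rw [he, show ((1 : B), (0 : C)) * (b, (0 : C)) = (b, (0 : C)) by simp] at h
    rw [h]
    simp
  have hc : ∀ c : C, (D ((0 : B), c)).1 = 0 := fun c => by
    have h := D.leibniz ((0 : B), (1 : C)) ((0 : B), c)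
    rw [he', show ((0 : B), (1 : C)) * ((0 : B), c) = ((0 : B), c) by simp] at h
    rw [h]
    simp
  let D₁ : Derivation k B B := Derivation.mk'
    ((LinearMap.fst k B C).comp ((D : B × C →ₗ[k] B × C).comp (LinearMap.inl k B C))) (fun a b => by
      have h := congrArg Prod.fst (D.leibniz (a, (0 : C)) (b, (0 : C)))
      simpa using h)
  let D₂ : Derivation k C C := Derivation.mk'
    ((LinearMap.snd k B C).comp ((D : B × C →ₗ[k] B × C).comp (LinearMap.inr k B C))) (fun a b => by
      have h := congrArg Prod.snd (D.leibniz ((0 : B), a) ((0 : B), b))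
      simpa using h)
  refine ⟨(D₁, D₂), fun b c => ?_, fun P hP => ?_⟩
  · rw [show (b, c) = (b, (0 : C)) + ((0 : B), c) by simp, map_add]
    ext
    · show (D (b, (0 : C))).1 + (D ((0 : B), c)).1 = _
      rw [hc, add_zero]
      rfl
    · show (D (b, (0 : C))).2 + (D ((0 : B), c)).2 = _
      rw [hb, zero_add]
      rfl
  · refine Prod.ext (Derivation.ext fun b => ?_) (Derivation.ext fun c => ?_)
    · exact (congrArg Prod.fst (hP b 0)).symm
    · exact (congrArg Prod.snd (hP 0 c)).symm

end Groth.Agent.S17333
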