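import Groth.Statements.S17334
import Mathlib.RingTheory.Artinian.Module
import Mathlib.RingTheory.LocalRing.Basic
import Mathlib.RingTheory.Nilpotent.Basic

set_option autoImplicit false
universe u v
open CAlg

namespace Groth.Agent.S17334

/-- Let k be a field and A a nonzero commutative k-algebra which is finite-dimensional as a k-vector
space. Then A is indecomposable (no decomposition as a product of two nonzero rings, i.e. no
idempotent other than 0 and 1) if and only if A is a local ring. (In the source k is algebraically
closed and the lemma adds that the maximal ideal is then the nilradical, is nilpotent, and has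
residue field k; the equivalence itself uses only that k is a field, and the zero algebra is
excluded here explicitly.) -/
theorem result (k : Type u) [Field k]
    (A : Type v) [CommRing A] [Algebra k A] [Module.Finite k A] [Nontrivial A] :
    (∀ e : A, IsIdempotentElem e → e = 0 ∨ e = 1) ↔ IsLocalRing A := by
  refine ⟨fun h => ?_, fun h e he => ?_⟩
  · have : IsArtinianRing A := isArtinian_of_tower k inferInstance
    refine IsLocalRing.of_isUnit_or_isUnit_one_sub_self fun x => ?_
    obtain ⟨n, hn⟩ := IsArtinian.monotone_stabilizes (R := A) (M := A)
      ⟨fun j => OrderDual.toDual (Ideal.span {x ^ j}), fun i j hij =>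
        OrderDual.toDual_le_toDual.2 (Ideal.span_singleton_le_span_singleton.2 (pow_dvd_pow x hij))⟩
    have h2 : x ^ n ∈ Ideal.span {x ^ (2 * n)} := by
      have := hn (2 * n) (by omega)
      rw [show Ideal.span {x ^ (2 * n)} = Ideal.span {x ^ n} from (OrderDual.toDual_inj.1 this).symm]
      exact Ideal.mem_span_singleton_self _
    obtain ⟨a, ha⟩ := Ideal.mem_span_singleton'.1 h2
    have hidem : IsIdempotentElem (a * x ^ n) := by
      show a * x ^ n * (a * x ^ n) = a * x ^ n
      calc a * x ^ n * (a * x ^ n) = a * (a * x ^ (2 * n)) := by rw [two_mul, pow_add]; ring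
        _ = a * x ^ n := by rw [ha]
    rcases h _ hidem with h0 | h1
    · right
      refine IsNilpotent.isUnit_one_sub ⟨n, ?_⟩
      rw [← ha, show a * x ^ (2 * n) = a * x ^ n * x ^ n by rw [two_mul, pow_add]; ring, h0, zero_mul]
    · rcases Nat.eq_zero_or_pos n with rfl | hpos
      · obtain h2 := hn 1 (by omega)
        left
        have h3 : (1 : A) ∈ Ideal.span {x ^ 1} := by
          rw [show Ideal.span {x ^ 1} = Ideal.span {x ^ 0} from (OrderDual.toDual_inj.1 h2).symm, pow_zero]
          exact Ideal.mem_span_singleton_self _
        rw [pow_one, Ideal.mem_span_singleton] at h3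
        exact isUnit_of_dvd_one h3
      · left
        exact (isUnit_pow_iff hpos.ne').1 (IsUnit.of_mul_eq_one_right a h1)
  · have h1 : e * (1 - e) = 0 := by rw [mul_sub, mul_one, he.eq, sub_self]
    rcases IsLocalRing.isUnit_or_isUnit_one_sub_self e with hu | hu
    · exact Or.inr (sub_eq_zero.1 (hu.mul_right_eq_zero.1 h1)).symm
    · exact Or.inl (hu.mul_left_eq_zero.1 h1)

end Groth.Agent.S17334
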