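import Groth.Statements.S17336
import Groth.Agent.FinAlgLib.Split

set_option autoImplicit false
universe u v
open CAlg

namespace Groth.Agent.S17336

/-- Let k be an algebraically closed field and A a commutative k-algebra which is finite-dimensional as
a k-vector space (a finite scheme X = Spec A with largest reduced subscheme X_red = Spec
(A/nilradical A) and immersion i : X_red → X). Then there is a unique morphism r : X → X_red with r
∘ i = id; on rings: the projection A → A/nilradical(A) admits exactly one section that is a
k-algebra homomorphism. -/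
theorem result (k : Type u) [Field k]
    [IsAlgClosed k] (A : Type v) [CommRing A] [Algebra k A] [Module.Finite k A] :
    ∃! s : (A ⧸ nilradical A) →ₐ[k] A,
      (Ideal.Quotient.mkₐ k (nilradical A)).comp s = AlgHom.id k (A ⧸ nilradical A) := by
  obtain ⟨s, hs⟩ := FinAlgLib.exists_section (k := k) (A := A)
  let e : (A ⧸ nilradical A) ≃ₐ[k] ((A →ₐ[k] k) → k) :=
    (Ideal.quotientEquivAlgOfEq k FinAlgLib.ker_ev.symm).trans
      (Ideal.quotientKerAlgEquivOfSurjective FinAlgLib.ev_surjective)
  have he : ∀ a, e (Ideal.Quotient.mk _ a) = FinAlgLib.ev k A a := fun a => rfl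
  refine ⟨s.comp e.toAlgHom, AlgHom.ext fun x => ?_, fun t ht => ?_⟩
  · obtain ⟨a, rfl⟩ := Ideal.Quotient.mk_surjective x
    refine e.injective ?_
    show e (Ideal.Quotient.mk _ (s (e (Ideal.Quotient.mk _ a)))) = _
    rw [he, he, hs, AlgHom.id_apply, he]
  · have h1 : t.comp e.symm.toAlgHom = s := FinAlgLib.section_unique (fun y => by
      obtain ⟨a, ha⟩ := Ideal.Quotient.mk_surjective (e.symm y)
      have h2 := AlgHom.congr_fun ht (e.symm y)
      show FinAlgLib.ev k A (t (e.symm y)) = y
      rw [← he]
      rw [show Ideal.Quotient.mk _ (t (e.symm y)) = e.symm y from h2, AlgEquiv.apply_symm_apply]) hs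
    refine AlgHom.ext fun x => ?_
    rw [← h1]
    show t x = t (e.symm (e x))
    rw [AlgEquiv.symm_apply_apply]

end Groth.Agent.S17336
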