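import Groth.Statements.S1734
import Mathlib

set_option autoImplicit false
universe u
open LocCoh

namespace Groth.Agent.S1734

/-- Let f_1, …, f_r, g be elements of a ring A (r ≥ 1) such that f_1, …, f_{r-1}, f_r g is independent
and A/(f_1, …, f_{r-1}, f_r g) has finite length. Then length A/(f_1, …, f_{r-1}, f_r g) = length
A/(f_1, …, f_r) + length A/(f_1, …, f_{r-1}, g). -/
theorem result (A : Type u) [CommRing A] (r : ℕ) (f : Fin (r + 1) → A) (g : A) (h : Dual2.Independent (Function.update f (Fin.last r) (f (Fin.last r) * g))) (hfin : IsFiniteLength A (A ⧸ Ideal.span (Set.range (Function.update f (Fin.last r) (f (Fin.last r) * g))))) : Module.length A (A ⧸ Ideal.span (Set.range (Function.update f (Fin.last r) (f (Fin.last r) * g)))) = Module.length A (A ⧸ Ideal.span (Set.range f)) + Module.length A (A ⧸ Ideal.span (Set.range (Function.update f (Fin.last r) g))) := by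
  set F := Function.update f (Fin.last r) (f (Fin.last r) * g) with hF
  set G := Function.update f (Fin.last r) g with hG
  have hsum : ∀ (c : Fin (r + 1) → A) (x : A),
      ∑ i, c i * Function.update f (Fin.last r) x i =
        (∑ i : Fin r, c i.castSucc * f i.castSucc) + c (Fin.last r) * x := fun c x => by
    rw [Fin.sum_univ_castSucc, Function.update_self]
    congr 1
    refine Finset.sum_congr rfl fun i _ => ?_
    rw [Function.update_of_ne (Fin.castSucc_lt_last i).ne]
  have hsumf : ∀ c : Fin (r + 1) → A, ∑ i, c i * f i =
      (∑ i : Fin r, c i.castSucc * f i.castSucc) + c (Fin.last r) * f (Fin.last r) := fun c =>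
    Fin.sum_univ_castSucc _
  have hle : Ideal.span (Set.range F) ≤ Ideal.span (Set.range G) := by
    refine Ideal.span_le.2 ?_
    rintro _ ⟨i, rfl⟩
    by_cases hi : i = Fin.last r
    · subst hi
      rw [hF, Function.update_self]
      exact Ideal.mul_mem_left _ _ (Ideal.subset_span ⟨Fin.last r, Function.update_self _ _ _⟩)
    · refine Ideal.subset_span ⟨i, ?_⟩
      rw [hF, hG, Function.update_of_ne hi, Function.update_of_ne hi]
  have hmul : Ideal.span (Set.range f) ≤ Submodule.comap (LinearMap.mulRight A g) (Ideal.span (Set.range F)) := by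
    refine Ideal.span_le.2 ?_
    rintro _ ⟨i, rfl⟩
    show f i * g ∈ Ideal.span (Set.range F)
    by_cases hi : i = Fin.last r
    · subst hi
      exact Ideal.subset_span ⟨Fin.last r, Function.update_self _ _ _⟩
    · exact Ideal.mul_mem_right _ _ (Ideal.subset_span ⟨i, Function.update_of_ne hi _ _⟩)
  let φ : (A ⧸ Ideal.span (Set.range f)) →ₗ[A] A ⧸ Ideal.span (Set.range F) :=
    Submodule.mapQ _ _ (LinearMap.mulRight A g) hmul
  let ψ : (A ⧸ Ideal.span (Set.range F)) →ₗ[A] A ⧸ Ideal.span (Set.range G) :=
    Submodule.mapQ _ _ LinearMap.id hle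
  refine Module.length_eq_add_of_exact φ ψ ((injective_iff_map_eq_zero φ).2 fun a => ?_)
    (fun b => ?_) (fun b => ?_)
  · induction a using Submodule.Quotient.induction_on with
    | _ a =>
      intro ha
      obtain ⟨c, hc⟩ := Ideal.mem_span_range_iff_exists_fun.1
        ((Submodule.Quotient.mk_eq_zero _).1 ha)
      rw [hF, hsum] at hc
      change _ = a * g at hc
      let coef : Fin (r + 1) → A := Function.update (fun i => -(c i * f (Fin.last r))) (Fin.last r)
        (a - c (Fin.last r) * f (Fin.last r))
      have hrel : ∑ i, coef i * F i = 0 := by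
        rw [hF, hsum]
        simp only [coef, Function.update_self]
        rw [Finset.sum_congr rfl fun i _ => by
          rw [Function.update_of_ne (Fin.castSucc_lt_last i).ne]]
        have h1 : ∑ i : Fin r, -(c i.castSucc * f (Fin.last r)) * f i.castSucc =
            -f (Fin.last r) * ∑ i : Fin r, c i.castSucc * f i.castSucc := by
          rw [Finset.mul_sum]
          exact Finset.sum_congr rfl fun i _ => by ring
        rw [h1]
        linear_combination (-f (Fin.last r)) * hc
      have h2 := h coef hrel (Fin.last r)
      rw [show coef (Fin.last r) = a - c (Fin.last r) * f (Fin.last r) from Function.update_self _ _ _] at h2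
      refine (Submodule.Quotient.mk_eq_zero _).2 ?_
      obtain ⟨e, he⟩ := Ideal.mem_span_range_iff_exists_fun.1 h2
      rw [hsum] at he
      refine Ideal.mem_span_range_iff_exists_fun.2
        ⟨Function.update e (Fin.last r) (e (Fin.last r) * g + c (Fin.last r)), ?_⟩
      rw [hsumf, Function.update_self, Finset.sum_congr rfl fun i _ => by
        rw [Function.update_of_ne (Fin.castSucc_lt_last i).ne]]
      linear_combination he
  · obtain ⟨b, rfl⟩ := Submodule.Quotient.mk_surjective _ b
    exact ⟨Submodule.Quotient.mk b, rfl⟩
  · induction b using Submodule.Quotient.induction_on with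
    | _ b =>
      refine ⟨fun hb => ?_, ?_⟩
      · obtain ⟨e, he⟩ := Ideal.mem_span_range_iff_exists_fun.1 ((Submodule.Quotient.mk_eq_zero _).1 hb)
        rw [hG, hsum] at he
        refine ⟨Submodule.Quotient.mk (e (Fin.last r)), (Submodule.Quotient.eq _).2 ?_⟩
        refine Ideal.mem_span_range_iff_exists_fun.2 ⟨Function.update (fun i => -e i) (Fin.last r) 0, ?_⟩
        rw [hF, hsum, Function.update_self, Finset.sum_congr rfl fun i _ => by
          rw [Function.update_of_ne (Fin.castSucc_lt_last i).ne, neg_mul],
          Finset.sum_neg_distrib]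
        change _ = e (Fin.last r) * g - b
        change _ = b at he
        linear_combination (-1 : A) * he
      · rintro ⟨x, hx⟩
        obtain ⟨x, rfl⟩ := Submodule.Quotient.mk_surjective _ x
        rw [← hx]
        refine (Submodule.Quotient.mk_eq_zero _).2 ?_
        exact Ideal.mul_mem_left _ x (Ideal.subset_span ⟨Fin.last r, Function.update_self _ _ _⟩)

end Groth.Agent.S1734
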