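import Groth.Statements.S17341
import Groth.Agent.SurfExtLib.CBGeom
import Groth.Agent.SurfNumLib.RRApps
import Groth.Agent.S1535

set_option autoImplicit false
universe u
open CategoryTheory CategoryTheory.Limits AlgebraicGeometry
open AdjLin
set_option backward.isDefEq.respectTransparency false
set_option backward.isDefEq.respectTransparency.types false
set_option maxHeartbeats 1600000

namespace Groth.Agent.S17341

open SurfExtLib HilbPolyLib
open CohB1 (tensorMod)


/-- Let k be an algebraically closed field of characteristic zero and X a smooth projective surface over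
k (irreducible, proper, smooth of dimension 2, with an ample invertible module), ω a second exterior
power of Ω_{X/k}, L an invertible O_X-module and Z ⊆ X a finite set of closed points, viewed as a
reduced finite subscheme with ideal sheaf I_Z (the vanishing ideal of the closed set Z). Then the
following are equivalent: (a) there are a locally free O_X-module E of rank 2, a section s : O_X → E
and a map E → L ⊗ I_Z making 0 → O_X → E → L ⊗ I_Z → 0 a short exact sequence (the Koszul complex of
a rank-2 bundle of determinant L with a section vanishing exactly on Z); (b) for every point z of Z,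
every global section of L ⊗ ω whose zero scheme contains all the other points of Z also vanishes at
z. -/
theorem result (k : Type u) [Field k] [IsAlgClosed k] [CharZero k]
    (X : Scheme.{u}) [X.Over (Spec (CommRingCat.of k))] [IsProper (X ↘ (Spec (CommRingCat.of k)))]
    [Smooth (X ↘ (Spec (CommRingCat.of k)))] [IrreducibleSpace X] (hdim : topologicalKrullDim X = 2)
    (H : X.Modules) (hH : CohB1.IsAmple H)
    (L : X.Modules) (hL : PicF.IsInvertible L)
    (ω : X.Modules) (hω : ExtPow.IsExtPow 2 (Omega.sheaf (X ↘ (Spec (CommRingCat.of k)))) ω)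
    (Z : Finset X) (hZc : IsClosed ((Z : Set X))) (hZ : ∀ z ∈ Z, IsClosed ({z} : Set X)) :
    (∃ (E : X.Modules) (sE : Coh.structureModule X ⟶ E)
        (p : E ⟶ CohB1.tensorMod L (ClSub.idealMod (Scheme.IdealSheafData.vanishingIdeal ⟨(Z : Set X), hZc⟩)))
        (w : sE ≫ p = 0), FlatMod.IsFinLocFreeOfRank 2 E ∧ (ShortComplex.mk sE p w).ShortExact) ↔
      (∀ z ∈ Z, ∀ σ : Coh.structureModule X ⟶ CohB1.tensorMod L ω,
        (∀ z' ∈ Z, z' ≠ z → z' ∈ (PicF2.zeroScheme (CohB1.tensorMod L ω) σ).support) →
          z ∈ (PicF2.zeroScheme (CohB1.tensorMod L ω) σ).support) := by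
  classical
  haveI : ∀ x : X, _root_.IsReduced (X.presheaf.stalk x) := fun x =>
    haveI := Groth.Agent.S1535.result k X x
    haveI := CommAlgDim.isDomain_of_isRegularLocalRing (X.presheaf.stalk x)
    inferInstance
  haveI : AlgebraicGeometry.IsReduced X := isReduced_of_isReduced_stalk X
  haveI : AlgebraicGeometry.IsIntegral X := isIntegral_of_irreducibleSpace_of_isReduced X
  haveI := SurfNumLib.smoothRel_of_dim (k := k) (X := X) (n := 2) (by simpa using hdim)
  haveI := CurvLib.isNoetherian k (X := X)
  obtain ⟨r, i, hi, hik⟩ := SurfNumLib.exists_embedding k hH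
  haveI := hi
  haveI : HasExt.{u} X.Modules := inferInstance
  have hωi := SurfNumLib.isInvertible_canonical (k := k) hω
  have hωf := CurveVBLib.isFinLocFree_of_rank (CurvLib.locFree_of_isInvertible hωi)
  let M := tensorMod L ω
  have hM : PicF.IsInvertible M := isInvertible_tensor hL hωi
  let I := ClSub.idealMod (ptsI Z hZc)
  have hη : genericPoint X ∉ Z := fun h => by
    have hf : IsField (X.presheaf.stalk (genericPoint X)) := Field.toIsField X.functionField
    have h1 := dim_stalk_closed (k := k) (hZ _ h)
    rw [ringKrullDim_eq_zero_of_isField hf] at h1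
    exact absurd h1 (by decide)
  choose P K a b w hstep hiff using fun z : Z => exists_step hM hZc hZ z.1 z.2
  have hcore := exists_finLocFree_extension_iff (k := k) i hik hωf hω (isCoh_vanMod hM Z hZc)
    (tfStalks_vanMod hM Z hZc) Z P K a b w hstep (fun x hx => free_vanMod hM Z hZc hZ hx)
  have hb : (∀ z : Z, ∀ s : Coh.structureModule X ⟶ P z, s ≫ b z = 0) ↔
      ∀ z ∈ Z, ∀ σ : Coh.structureModule X ⟶ tensorMod L ω,
        (∀ z' ∈ Z, z' ≠ z → z' ∈ (PicF2.zeroScheme (tensorMod L ω) σ).support) →
          z ∈ (PicF2.zeroScheme (tensorMod L ω) σ).support :=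
    ⟨fun h z hz => (hiff ⟨z, hz⟩).1 (h ⟨z, hz⟩), fun h z => (hiff z).2 (h z.1 z.2)⟩
  refine Iff.trans ?_ (hcore.trans hb)
  let θ : tensorMod ω (tensorMod L I) ≅ vanMod Z hZc M := leftComm ω L I ≪≫ (assocIso L ω I).symm
  constructor
  · rintro ⟨E, sE, p, w', hE, hS⟩
    have hT := shortExact_tensor hωi hS
    let T := (ShortComplex.mk sE p w').map (CurvLib.tensorLeft' ω)
    let u : tensorMod ω (Coh.structureModule X) ≅ ω := SecTwist.unitorR ω
    let T' : ShortComplex X.Modules := ShortComplex.mk (u.inv ≫ T.f) (T.g ≫ θ.hom)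
      (by rw [Category.assoc, T.zero_assoc, zero_comp, comp_zero])
    have hT' : T'.ShortExact := ShortComplex.shortExact_of_iso (S₁ := T)
      (ShortComplex.isoMk u (Iso.refl _) θ (by simp [T']) (by simp [T'])) hT
    exact ⟨_, _, _, T'.zero, hT', CurveVBLib.isFinLocFree_of_rank
      (HopfIneqLib.locFree_tensor (CurvLib.locFree_of_isInvertible hωi) hE)⟩
  · rintro ⟨E, f, g, w', hS, hE⟩
    have hE2 := rank_two Z hZc hS hωi hE hZ hη hM (Iso.refl _)
    obtain ⟨e₀⟩ := MiscFlat6.nonempty_dualIso hωi
    let ν := MiscFlat6.dual ω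
    let e : tensorMod ν ω ≅ Coh.structureModule X := swapIso ν ω ≪≫ e₀
    have hν := MiscFlat6.dual_isInvertible hωi
    have hT := shortExact_tensor hν hS
    let T := (ShortComplex.mk f g w').map (CurvLib.tensorLeft' ν)
    let φ : tensorMod ν (vanMod Z hZc M) ≅ tensorMod L I :=
      congrRight ν θ.symm ≪≫ (assocIso ν ω (tensorMod L I)).symm ≪≫ congrLeft e _ ≪≫ unitLeft _
    let T' : ShortComplex X.Modules := ShortComplex.mk (e.inv ≫ T.f) (T.g ≫ φ.hom)
      (by rw [Category.assoc, T.zero_assoc, zero_comp, comp_zero])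
    have hT' : T'.ShortExact := ShortComplex.shortExact_of_iso (S₁ := T)
      (ShortComplex.isoMk e (Iso.refl _) φ (by simp [T']) (by simp [T'])) hT
    exact ⟨_, _, _, T'.zero, HopfIneqLib.locFree_tensor (CurvLib.locFree_of_isInvertible hν) hE2, hT'⟩

end Groth.Agent.S17341
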