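import Groth.Statements.S17342
import Groth.Agent.StrictCurveLib.Genus
import Groth.Agent.AlgSpLib.ReducedSmooth
-- import your own Groth.Agent.* helpers here

set_option autoImplicit false
set_option backward.isDefEq.respectTransparency false
set_option backward.isDefEq.respectTransparency.types false
universe u
open CategoryTheory CategoryTheory.Limits AlgebraicGeometry
open LocPos
open TopologicalSpace
open HilbPolyLib DevissLib IntMultLib IntFunLib HodgeIdxLib
open KFlatLib (pb)
open NumBlowLib (excI)

namespace Groth.Agent.S17342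

section Helpers

open TopologicalSpace
open HilbPolyLib DevissLib IntMultLib IntFunLib HodgeIdxLib
open KFlatLib (pb)
open NumBlowLib (excI)

variable {k : Type u} [Field k] {X Y : Scheme.{u}} [X.Over (Spec (CommRingCat.of k))]
  [IsProper (X ↘ Spec (CommRingCat.of k))]

/-- The degree on a divisor as an intersection number. -/
theorem deg_eq {C : Scheme.{u}} (j : C ⟶ X) [IsClosedImmersion j] (hC : topologicalKrullDim C = 1)
    (hI : PicF.IsInvertible (ClSub.idealMod j.ker)) {M : X.Modules} (hM : PicF.IsInvertible M) :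
    Pic13.curveDeg k (j ≫ (X ↘ Spec (CommRingCat.of k))) (pb j M) = -pr k (ClSub.idealMod j.ker) M := by
  letI : C.Over (Spec (CommRingCat.of k)) := ⟨j ≫ (X ↘ Spec (CommRingCat.of k))⟩
  haveI : IsProper (C ↘ Spec (CommRingCat.of k)) := inferInstanceAs (IsProper (j ≫ (X ↘ Spec (CommRingCat.of k))))
  haveI := CurvLib.isNoetherian k (X := X)
  haveI := CurvLib.isNoetherian k (X := C)
  rw [SurfNumLib.pr_ideal j.ker (CurvLib.isCoh_of_isInvertible hI) hM, neg_neg,
    N_congr [M] (SurfNumLib.quotMod_ker_iso j).some,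
    ← N_push (k := k) (g := j) rfl (l := [M]) (by simpa using hM) (DevissLib.isCoh_structureModule C)
      ((topologicalKrullDim_subspace_le _ _).trans (by rw [hC]; simp))]
  change _ = N k [pb j M] (Coh.structureModule C)
  rw [← euler_sub_eq_N]
  have hd : topologicalKrullDim C ≤ ((1 : ℕ) : WithBot ℕ∞) := by rw [hC, Nat.cast_one]
  simp only [Pic13.curveDeg]
  rw [eulerCharLE_eq hd, eulerCharLE_eq hd]

omit [X.Over (Spec (CommRingCat.of k))] [IsProper (X ↘ Spec (CommRingCat.of k))] in
/-- The generic point of an integral closed subscheme. -/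
theorem closure_gen (Z : X.IdealSheafData) [IsIntegral Z.subscheme] :
    closure ({Z.subschemeι (genericPoint Z.subscheme)} : Set X) = (Z.support : Set X) := by
  have h := (genericPoint_spec Z.subscheme).image Z.subschemeι.continuous
  rw [Set.image_univ, Z.range_subschemeι] at h
  rw [h.def]
  exact Z.support.isClosed.closure_eq

omit [X.Over (Spec (CommRingCat.of k))] [IsProper (X ↘ Spec (CommRingCat.of k))] in
theorem gen_ptIdeal (c : X) [IsIntegral (ptIdeal c).subscheme] :
    (ptIdeal c).subschemeι (genericPoint (ptIdeal c).subscheme) = c := by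
  have h : IsGenericPoint ((ptIdeal c).subschemeι (genericPoint (ptIdeal c).subscheme)) (closure ({c} : Set X)) := by
    unfold IsGenericPoint
    rw [closure_gen, Scheme.IdealSheafData.coe_support_vanishingIdeal]
    rfl
  exact h.eq isGenericPoint_closure

omit [X.Over (Spec (CommRingCat.of k))] [IsProper (X ↘ Spec (CommRingCat.of k))] in
theorem le_pointPow {x : X} (hx : IsClosed ({x} : Set X)) (K : X.IdealSheafData) (n : ℕ) :
    K ≤ Scheme.IdealSheafData.vanishingIdeal ⟨{x}, hx⟩ ^ n ↔
      IntMult.stalkIdeal K x ≤ IsLocalRing.maximalIdeal (X.presheaf.stalk x) ^ n := by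
  constructor
  · intro h
    refine (PtBlowLib.stalkIdeal_mono h x).trans ?_
    rw [SDivLib.stalkIdeal_pow, PtBlowLib.stalkIdeal_vanishing_point x hx]
  · refine fun h => SDivLib.le_of_stalk fun y => ?_
    rw [SDivLib.stalkIdeal_pow]
    by_cases hy : y = x
    · subst hy
      rwa [PtBlowLib.stalkIdeal_vanishing_point y hx]
    · rw [StrictCurveLib.stalkIdeal_eq_top' (Scheme.IdealSheafData.vanishingIdeal ⟨{x}, hx⟩) fun h' => hy (by
        rw [← SetLike.mem_coe, Scheme.IdealSheafData.coe_support_vanishingIdeal] at h'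
        exact h'), ← Ideal.one_eq_top, one_pow, Ideal.one_eq_top]
      exact le_top

omit [X.Over (Spec (CommRingCat.of k))] [IsProper (X ↘ Spec (CommRingCat.of k))] in
/-- The multiplicity of an effective divisor at a point. -/
theorem exists_mult_point [IsLocallyNoetherian X] {x : X} (hx : IsClosed ({x} : Set X)) {K : X.IdealSheafData}
    (hK : BlowUp.IsEffCartierIdeal K) :
    ∃ m, K ≤ Scheme.IdealSheafData.vanishingIdeal ⟨{x}, hx⟩ ^ m ∧
      ¬ K ≤ Scheme.IdealSheafData.vanishingIdeal ⟨{x}, hx⟩ ^ (m + 1) := by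
  classical
  have h0 : ∃ d, ¬ K ≤ Scheme.IdealSheafData.vanishingIdeal ⟨{x}, hx⟩ ^ (d + 1) := by
    by_contra h
    push Not at h
    obtain ⟨t, ht, hKt⟩ := DivDescLib.exists_gen hK x
    have hb : IntMult.stalkIdeal K x = ⊥ := le_bot_iff.mp ((le_iInf fun i =>
      ((le_pointPow hx K _).mp (h i)).trans (Ideal.pow_le_pow_right (Nat.le_succ i))).trans
      (Ideal.iInf_pow_eq_bot_of_isLocalRing _ (IsLocalRing.maximalIdeal.isMaximal _).ne_top).le)
    rw [hKt, Ideal.span_singleton_eq_bot] at hb
    exact nonZeroDivisors.ne_zero ht hb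
  refine ⟨Nat.find h0, ?_, Nat.find_spec h0⟩
  rcases Nat.eq_zero_or_pos (Nat.find h0) with h | h
  · rw [h, pow_zero, Scheme.IdealSheafData.one_eq_top]
    exact le_top
  · have := Nat.find_min h0 (Nat.sub_lt h one_pos)
    rw [not_not, Nat.sub_add_cancel (show 1 ≤ Nat.find h0 by omega)] at this
    exact this

variable [Y.Over (Spec (CommRingCat.of k))] [IsProper (Y ↘ Spec (CommRingCat.of k))]
  [IsAlgClosed k] [IsIntegral X] [IsIntegral Y] [Smooth (X ↘ Spec (CommRingCat.of k))]
  [Smooth (Y ↘ Spec (CommRingCat.of k))]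

/-- Intersection numbers of a strict transform with pullbacks and with the exceptional curve. -/
theorem strict_numbers (hX : topologicalKrullDim X = 2) (hY : topologicalKrullDim Y = 2) (π : Y ⟶ X)
    (hover : π ≫ (X ↘ Spec (CommRingCat.of k)) = Y ↘ Spec (CommRingCat.of k)) (x : X) (hx : IsClosed ({x} : Set X))
    (hd2 : ringKrullDim (X.presheaf.stalk x) = ((2 : ℕ) : WithBot ℕ∞))
    (hπ : BlowUp.IsBlowUp π (Scheme.IdealSheafData.vanishingIdeal ⟨{x}, hx⟩))
    {K : X.IdealSheafData} (hK : BlowUp.IsEffCartierIdeal K) {K' : Y.IdealSheafData}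
    (hK' : BlowUp.IsEffCartierIdeal K') (m : ℕ) (hm : K.comap π = K' * excI π x hx ^ m)
    {L : X.Modules} (hL : PicF.IsInvertible L) :
    pr k (ClSub.idealMod K') (pb π L) = pr k (ClSub.idealMod K) L ∧
      pr k (ClSub.idealMod K') (ClSub.idealMod (excI π x hx)) = m := by
  haveI := CurvLib.isNoetherian k (X := X)
  haveI := CurvLib.isNoetherian k (X := Y)
  haveI := WeilExtLib.isRegular_stalk_smooth (X ↘ Spec (CommRingCat.of k)) x
  have hI := NumBlowLib.excI_invertible π x hx hπ
  have hX2 : topologicalKrullDim Y ≤ ((2 : ℕ) : WithBot ℕ∞) := hY.le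
  have hEm : ∀ n : ℕ, BlowUp.IsEffCartierIdeal (excI π x hx ^ n) := fun n => PtBlowLib.isEffCartier_pow hπ.1 n
  have hpow : ∀ n : ℕ, ∀ {Q : Y.Modules}, PicF.IsInvertible Q →
      pr k (ClSub.idealMod (excI π x hx ^ n)) Q = n * pr k (ClSub.idealMod (excI π x hx)) Q := by
    intro n
    induction n with
    | zero =>
      intro Q _
      obtain ⟨e⟩ := BlowPtLib.nonempty_idealMod_top Y
      rw [Nat.cast_zero, zero_mul, pow_zero, Scheme.IdealSheafData.one_eq_top, pr, N_congr_head e]
      exact pr_unit Q
    | succ n ih =>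
      intro Q hQ
      obtain ⟨e⟩ := SurfNumLib.nonempty_idealMod_mul (hEm n) hπ.1
      rw [pow_succ, pr, ← N_congr_head e, ← pr,
        pr_tensor hX2 (IntMultLib.isInvertible_idealMod _ (hEm n)) hI hQ, ih hQ]
      push_cast
      ring
  haveI := NumBlowLib.surjective (k := k) π x hx hd2 hπ
  have hc := IntMultLib.isInvertible_idealMod _ hK
  have hc' := IntMultLib.isInvertible_idealMod _ hK'
  obtain ⟨a⟩ := SymSqLib.nonempty_pb_ideal (f := π) (K := K) hc
    (IntMultLib.isInvertible_idealMod _ (EffDivSurfLib.isEffCartier_comap hK π))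
  obtain ⟨b⟩ := SurfNumLib.nonempty_idealMod_mul hK' (hEm m)
  have key1 : ∀ {Q : Y.Modules}, PicF.IsInvertible Q → pr k (pb π (ClSub.idealMod K)) Q =
      pr k (ClSub.idealMod K') Q + m * pr k (ClSub.idealMod (excI π x hx)) Q := fun {Q} hQ => by
    rw [← hpow m hQ, ← pr_tensor hX2 hc' (IntMultLib.isInvertible_idealMod _ (hEm m)) hQ, pr, pr,
      N_congr_head (a ≪≫ CategoryTheory.eqToIso (congrArg ClSub.idealMod hm) ≪≫ b.symm)]
  obtain ⟨hcL, hcE, hEE⟩ := BlowRegLib.intersection_rules (k := k) (π := π) hover x hx hd2 hπ hc hL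
  obtain ⟨-, hLE, -⟩ := BlowRegLib.intersection_rules (k := k) (π := π) hover x hx hd2 hπ hL hL
  have j1 := key1 (AmpleDevLib.isInvertible_pb π hL)
  have j2 := key1 hI
  simp only [excI] at j1 j2 hcE hEE hLE ⊢
  rw [hcL, pr_comm (k := k) (ClSub.idealMod ((Scheme.IdealSheafData.vanishingIdeal ⟨{x}, hx⟩).comap π)) (pb π L)] at j1
  simp only [BlowUp.exceptional] at hcE hEE hLE
  rw [hLE] at j1
  rw [hcE, hEE] at j2
  constructor <;> linarith

end Helpers

/-- Let k be an algebraically closed field of characteristic zero, X a smooth projective surface over k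
(irreducible, proper, smooth of dimension 2, with an ample invertible module), L a nef invertible
O_X-module, x a closed point with ideal sheaf m_x and f : Y → X a blow-up of X at x over k, with
exceptional ideal I_E = m_x · O_Y. For a real number ε ≥ 0 the following are equivalent: (a) the
ℝ-divisor class f^*L − ε E is nef, i.e. deg(f^*L|_{C'}) + ε · deg(I_E|_{C'}) ≥ 0 for every integral
one-dimensional closed subscheme C' ⊆ Y, degrees being χ(M|_{C'}) − χ(O_{C'}); (b) for every
integral one-dimensional closed subscheme C ⊆ X passing through x and every n such that the stalk at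
x of the ideal of C is contained in the n-th power of the maximal ideal of O_{X,x} (that is,
mult_x(C) ≥ n), one has ε · n ≤ deg(L|_C). In other words the Seshadri constant of L at x, the
supremum of the ε with f^*L − εE nef, is the infimum of (L·C)/mult_x(C) over the integral curves C
through x. -/
theorem result (k : Type u) [Field k] [IsAlgClosed k] [CharZero k]
    (X : Scheme.{u}) [X.Over (Spec (CommRingCat.of k))] [IsProper (X ↘ (Spec (CommRingCat.of k)))]
    [Smooth (X ↘ (Spec (CommRingCat.of k)))] [IrreducibleSpace X] (hdim : topologicalKrullDim X = 2)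
    (H : X.Modules) (hH : CohB1.IsAmple H)
    (L : X.Modules) (hL : PicF.IsInvertible L)
    (hnef : (∀ (C : Scheme.{u}) (i : C ⟶ X) [IsClosedImmersion i], IsIntegral C → topologicalKrullDim C = 1 →
      0 ≤ Pic13.curveDeg k (i ≫ (X ↘ (Spec (CommRingCat.of k)))) ((Scheme.Modules.pullback i).obj L)))
    (x : X) (hx : IsClosed ({x} : Set X))
    (Y : Scheme.{u}) [Y.Over (Spec (CommRingCat.of k))] (f : Y ⟶ X) (hf : f ≫ (X ↘ (Spec (CommRingCat.of k))) = Y ↘ (Spec (CommRingCat.of k)))
    (hbl : BlowUp.IsBlowUp f (W4c2seshadripos.pointIdeal x hx))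
    (ε : ℝ) (hε : 0 ≤ ε) :
    (∀ (C : Scheme.{u}) (i : C ⟶ Y) [IsClosedImmersion i], IsIntegral C → topologicalKrullDim C = 1 →
      (0 : ℝ) ≤ (Pic13.curveDeg k (i ≫ (Y ↘ (Spec (CommRingCat.of k))))
          ((Scheme.Modules.pullback i).obj ((Scheme.Modules.pullback f).obj L)) : ℝ) +
        ε * (Pic13.curveDeg k (i ≫ (Y ↘ (Spec (CommRingCat.of k))))
          ((Scheme.Modules.pullback i).obj
            (ClSub.idealMod (BlowUp.exceptional f (W4c2seshadripos.pointIdeal x hx)))) : ℝ)) ↔
    (∀ (C : Scheme.{u}) (j : C ⟶ X) [IsClosedImmersion j], IsIntegral C → topologicalKrullDim C = 1 →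
      x ∈ Set.range (fun c : C => j.base c) → ∀ n : ℕ,
        (∀ (V : X.affineOpens) (hxV : x ∈ (V : X.Opens)),
          (j.ker.ideal V).map (X.presheaf.germ V x hxV).hom ≤ (IsLocalRing.maximalIdeal (X.presheaf.stalk x)) ^ n) →
        ε * (n : ℝ) ≤ (Pic13.curveDeg k (j ≫ (X ↘ (Spec (CommRingCat.of k)))) ((Scheme.Modules.pullback j).obj L) : ℝ)) := by
  classical
  haveI : AlgebraicGeometry.IsReduced X := AlgSpLib.isReduced_of_smooth (X ↘ Spec (CommRingCat.of k))
  haveI : IsIntegral X := isIntegral_of_irreducibleSpace_of_isReduced X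
  haveI := CurvLib.isNoetherian k (X := X)
  obtain ⟨hYint, hdY, hYp, hYs⟩ := StrictCurveLib.blowUp_facts (k := k) hdim x hx f hbl
  haveI := hYint
  haveI : IsProper (Y ↘ Spec (CommRingCat.of k)) := hf ▸ hYp
  haveI : Smooth (Y ↘ Spec (CommRingCat.of k)) := hf ▸ hYs
  haveI := CurvLib.isNoetherian k (X := Y)
  have hreg : ∀ z : X, IsRegularLocalRing (X.presheaf.stalk z) :=
    fun z => WeilExtLib.isRegular_stalk_smooth (X ↘ Spec (CommRingCat.of k)) z
  have hreg' : ∀ z : Y, IsRegularLocalRing (Y.presheaf.stalk z) :=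
    fun z => WeilExtLib.isRegular_stalk_smooth (Y ↘ Spec (CommRingCat.of k)) z
  haveI := hreg x
  have hd2 : ringKrullDim (X.presheaf.stalk x) = ((2 : ℕ) : WithBot ℕ∞) :=
    PnDualLib.dim_stalk_closed (k := k) hreg (d := 2) hdim x hx
  haveI := NumBlowLib.surjective (k := k) f x hx hd2 hbl
  have hEc : BlowUp.IsEffCartierIdeal (excI f x hx) := hbl.1
  have hIE := NumBlowLib.excI_invertible f x hx hbl
  have hfL := AmpleDevLib.isInvertible_pb f hL
  -- off the centre
  let V : X.Opens := ⟨({x} : Set X)ᶜ, hx.isOpen_compl⟩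
  haveI := BlowRegLib.isIso_off_centre hbl V (BlowPtLib.comap_eq_top_of_disjoint V.ι _ fun z h => by
    rw [← SetLike.mem_coe, W4c2seshadripos.pointIdeal, Scheme.IdealSheafData.coe_support_vanishingIdeal] at h
    exact z.2 h)
  have hinj : ∀ a b : Y, f.base a ≠ x → f.base a = f.base b → a = b := fun a b ha hab =>
    congrArg Subtype.val ((f ∣_ V).homeomorph.injective (a₁ := ⟨a, ha⟩) (a₂ := ⟨b, fun h => ha (hab.trans h)⟩) (by
      refine Subtype.ext ?_
      exact (morphismRestrict_base_coe f V ⟨a, ha⟩).trans (hab.trans (morphismRestrict_base_coe f V ⟨b, fun h => ha (hab.trans h)⟩).symm)))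
  have hgenY : f.base (genericPoint Y) = genericPoint X := by
    obtain ⟨a, ha⟩ := f.surjective (genericPoint X)
    have h1 : f.base (genericPoint Y) ⤳ genericPoint X :=
      ha ▸ ((genericPoint_spec Y).specializes trivial).map f.continuous
    exact (h1.antisymm ((genericPoint_spec X).specializes trivial)).eq
  have hηx : genericPoint X ≠ x := fun h => by
    have h0 : topologicalKrullDim (closure ({genericPoint X} : Set X)) ≤ 0 := by
      rw [h, hx.closure_eq]
      exact topologicalKrullDim_zero_of_discreteTopology _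
    rw [(genericPoint_spec X).def, (Homeomorph.Set.univ _).isHomeomorph.topologicalKrullDim_eq, hdim] at h0
    exact absurd h0 (by norm_num)
  -- proper closed subsets of Y
  have hsmall : ∀ {T : Set Y}, IsClosed T → genericPoint Y ∉ T →
      topologicalKrullDim T ≤ ((1 : ℕ) : WithBot ℕ∞) := fun {T} hT hη => by
    refine IntFunLib.dim_le_iff.mp (HilbPolyLib.dim_lt_of_notMem hT
      (fun z _ => specializes_iff_mem_closure.mp ((genericPoint_spec Y).specializes trivial)) hη
      (Y := Set.univ) (Set.subset_univ _) (d := 2) ?_)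
    rw [(Homeomorph.Set.univ _).isHomeomorph.topologicalKrullDim_eq, hdY]
    exact_mod_cast Nat.lt_succ_self 2
  have hsuppE : ∀ z : Y, z ∈ ((excI f x hx).support : Set Y) ↔ f.base z = x := fun z => by
    rw [Scheme.IdealSheafData.support_comap]
    change f.base z ∈ ((Scheme.IdealSheafData.vanishingIdeal ⟨{x}, hx⟩).support : Set X) ↔ _
    rw [Scheme.IdealSheafData.coe_support_vanishingIdeal]
    rfl
  -- the numbers of a curve and its transform
  have hnum : ∀ (c : X) (z : Y), topologicalKrullDim (closure ({c} : Set X)) = ((1 : ℕ) : WithBot ℕ∞) →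
      topologicalKrullDim (closure ({z} : Set Y)) = ((1 : ℕ) : WithBot ℕ∞) → f.base z = c →
      ∃ m : ℕ, IntMult.stalkIdeal (ptIdeal c) x ≤ IsLocalRing.maximalIdeal (X.presheaf.stalk x) ^ m ∧
        (∀ n, IntMult.stalkIdeal (ptIdeal c) x ≤ IsLocalRing.maximalIdeal (X.presheaf.stalk x) ^ n → n ≤ m) ∧
        pr k (ClSub.idealMod (ptIdeal z)) (pb f L) = pr k (ClSub.idealMod (ptIdeal c)) L ∧
        pr k (ClSub.idealMod (ptIdeal z)) (ClSub.idealMod (excI f x hx)) = m := by
    intro c z hc hz hzc
    haveI := isIntegral_ptIdeal c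
    haveI := isIntegral_ptIdeal z
    have hcd : topologicalKrullDim ((ptIdeal c).support : Set X) = 1 := by
      rw [IntFunLib.dim_ptIdeal, hc, Nat.cast_one]
    have hzd : topologicalKrullDim ((ptIdeal z).support : Set Y) = 1 := by
      rw [IntFunLib.dim_ptIdeal, hz, Nat.cast_one]
    have hK := SurfNumLib.isEffCartier_curve k (X := X) hdim hreg _ hcd
    have hK' := SurfNumLib.isEffCartier_curve k (X := Y) hdY hreg' _ hzd
    obtain ⟨m, hm, hm'⟩ := exists_mult_point hx hK
    have hco := StrictCurveLib.comap_eq (k := k) hdim hdY f hf x hx hd2 hbl (ptIdeal c) hcd m hm hm' (ptIdeal z) hzd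
      (by rw [gen_ptIdeal, gen_ptIdeal]; exact hzc)
    obtain ⟨h1, h2⟩ := strict_numbers hdim hdY f hf x hx hd2 hbl hK hK' m hco hL
    refine ⟨m, (le_pointPow hx _ _).mp hm, fun n hn => ?_, h1, h2⟩
    by_contra hnm
    exact hm' ((le_pointPow hx _ _).mpr (hn.trans (Ideal.pow_le_pow_right (by omega))))
  constructor
  · intro ha C j _ hCi hC hxC n hn
    haveI := hCi
    obtain ⟨hint, hd, hgen⟩ := StrictCurveLib.image_facts j hC
    haveI := hint
    have hcd : topologicalKrullDim (closure ({j (genericPoint C)} : Set X)) = ((1 : ℕ) : WithBot ℕ∞) := by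
      rw [← hgen, IntFunLib.dim_generic_of_support, hd, Nat.cast_one]
    have hker : j.ker = ptIdeal (j (genericPoint C)) := by rw [← hgen]; exact IntFunLib.eq_ptIdeal _
    obtain ⟨z, hz⟩ := f.surjective (j (genericPoint C))
    have hcx : genericPoint X ∉ closure ({j (genericPoint C)} : Set X) := fun h => by
      have hle := IntFunLib.dim_mono (isClosed_closure.closure_subset_iff.mpr (Set.singleton_subset_iff.mpr h))
      rw [(genericPoint_spec X).def, (Homeomorph.Set.univ _).isHomeomorph.topologicalKrullDim_eq, hdim, hcd] at hle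
      exact absurd (show ((2 : ℕ) : WithBot ℕ∞) ≤ ((1 : ℕ) : WithBot ℕ∞) from hle) (by norm_num)
    have hηz : genericPoint Y ∉ closure ({z} : Set Y) := fun h => hcx (by
      rw [← hgenY]
      exact hz ▸ map_mem_closure f.continuous h (fun w hw => by rw [Set.mem_singleton_iff.mp hw]; rfl))
    have hzd : topologicalKrullDim (closure ({z} : Set Y)) = ((1 : ℕ) : WithBot ℕ∞) := by
      refine le_antisymm (hsmall isClosed_closure hηz) ?_
      have h2 := IntFunLib.dim_closure_map_le (k := k) (X := X) (Y := Y) (g := f) hf z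
      rw [show f z = j (genericPoint C) from hz, hcd] at h2
      exact h2
    obtain ⟨m, hm, hmax, hA, hB⟩ := hnum _ z hcd hzd hz
    haveI := isIntegral_ptIdeal z
    have hK' := SurfNumLib.isEffCartier_curve k (X := Y) hdY hreg' (ptIdeal z) (by
      rw [IntFunLib.dim_ptIdeal, hzd, Nat.cast_one])
    have hK := SurfNumLib.isEffCartier_curve k (X := X) hdim hreg j.ker hd
    have hz1 : topologicalKrullDim (ptIdeal z).subscheme = 1 :=
      ((ptIdeal z).subschemeι.isEmbedding.toHomeomorph.trans
        (Homeomorph.setCongr (range_ptIdeal z))).isHomeomorph.topologicalKrullDim_eq.trans (by rw [hzd, Nat.cast_one])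
    have hI' : PicF.IsInvertible (ClSub.idealMod (ptIdeal z).subschemeι.ker) := by
      rw [Scheme.IdealSheafData.ker_subschemeι]
      exact IntMultLib.isInvertible_idealMod _ hK'
    have h0 := ha _ (ptIdeal z).subschemeι (isIntegral_ptIdeal z) hz1
    rw [deg_eq (k := k) (X := Y) _ hz1 hI' hfL, deg_eq (k := k) (X := Y) _ hz1 hI' (M := ClSub.idealMod
      (BlowUp.exceptional f (W4c2seshadripos.pointIdeal x hx))) hIE, Scheme.IdealSheafData.ker_subschemeι] at h0
    change (0 : ℝ) ≤ ((-pr k (ClSub.idealMod (ptIdeal z)) (pb f L) : ℤ) : ℝ) +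
      ε * ((-pr k (ClSub.idealMod (ptIdeal z)) (ClSub.idealMod (excI f x hx)) : ℤ) : ℝ) at h0
    rw [hA, hB] at h0
    rw [deg_eq (k := k) j hC (IntMultLib.isInvertible_idealMod _ hK) hL]
    change ε * (n : ℝ) ≤ ((-pr k (ClSub.idealMod j.ker) L : ℤ) : ℝ)
    rw [hker]
    have hnm : n ≤ m := hmax n (hker ▸ iSup₂_le fun U hU => hn U hU)
    have hmR : (n : ℝ) ≤ (m : ℝ) := Nat.cast_le.mpr hnm
    push_cast at h0 ⊢
    nlinarith [mul_le_mul_of_nonneg_left hmR hε]
  · intro hb C i _ hCi hC
    haveI := hCi
    obtain ⟨hint, hd, hgen⟩ := StrictCurveLib.image_facts i hC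
    haveI := hint
    have hzd : topologicalKrullDim (closure ({i (genericPoint C)} : Set Y)) = ((1 : ℕ) : WithBot ℕ∞) := by
      rw [← hgen, IntFunLib.dim_generic_of_support, hd, Nat.cast_one]
    have hker : i.ker = ptIdeal (i (genericPoint C)) := by rw [← hgen]; exact IntFunLib.eq_ptIdeal _
    generalize hzdef : i (genericPoint C) = z at hzd hker
    have hIi : PicF.IsInvertible (ClSub.idealMod i.ker) :=
      IntMultLib.isInvertible_idealMod _ (SurfNumLib.isEffCartier_curve k (X := Y) hdY hreg' i.ker hd)
    rw [deg_eq (k := k) i hC hIi hfL, deg_eq (k := k) i hC hIi (M := ClSub.idealMod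
      (BlowUp.exceptional f (W4c2seshadripos.pointIdeal x hx))) hIE, hker]
    change (0 : ℝ) ≤ ((-pr k (ClSub.idealMod (ptIdeal z)) (pb f L) : ℤ) : ℝ) +
      ε * ((-pr k (ClSub.idealMod (ptIdeal z)) (ClSub.idealMod (excI f x hx)) : ℤ) : ℝ)
    by_cases hzx : f.base z = x
    · -- the exceptional curve
      obtain ⟨φ, hφ, -, -⟩ := NumBlowLib.exists_line (k := k) f x hx hd2 hbl
      haveI := hφ
      haveI : IsIntegral (CohB1.ProjSpace 1 k) := VBP1Lib.isIntegral_line k
      haveI : IsIntegral (excI f x hx).subscheme := IsIntegral.of_isIso (inv φ)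
      have he := closure_gen (excI f x hx)
      generalize hedef : (excI f x hx).subschemeι (genericPoint (excI f x hx).subscheme) = e at he
      have hsub : closure ({z} : Set Y) ⊆ closure {e} :=
        isClosed_closure.closure_subset_iff.mpr (Set.singleton_subset_iff.mpr (he ▸ (hsuppE z).mpr hzx))
      have hη : genericPoint Y ∉ closure ({e} : Set Y) := fun h => hηx (by
        rw [← hgenY]; exact (hsuppE _).mp (he ▸ h))
      have hez : e ∈ closure ({z} : Set Y) := by
        by_contra hn
        have h := HilbPolyLib.dim_lt_of_notMem isClosed_closure hsub hn (Y := closure {e}) subset_rfl (d := 1)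
          (lt_of_le_of_lt (hsmall isClosed_closure hη) (by norm_num))
        rw [hzd] at h
        exact lt_irrefl _ h
      have hze : z = e :=
        ((specializes_iff_mem_closure.mpr hez).antisymm (specializes_iff_mem_closure.mpr (hsub (subset_closure rfl)))).eq
      have hKE : ptIdeal z = excI f x hx := by
        rw [IntFunLib.eq_ptIdeal (excI f x hx), hedef, hze]
      obtain ⟨-, hLE, hEE⟩ := BlowRegLib.intersection_rules (k := k) (π := f) hf x hx hd2 hbl hL hL
      rw [hKE, pr_comm (k := k) (ClSub.idealMod (excI f x hx)) (pb f L)]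
      simp only [NumBlowLib.excI, BlowUp.exceptional] at hLE hEE ⊢
      rw [hLE, hEE]
      push_cast
      linarith
    · -- a strict transform
      have hcle : topologicalKrullDim (closure ({f.base z} : Set X)) ≤ ((1 : ℕ) : WithBot ℕ∞) :=
        hzd ▸ IntFunLib.dim_closure_map_le (k := k) (X := X) (Y := Y) (g := f) hf z
      have hcd : topologicalKrullDim (closure ({f.base z} : Set X)) = ((1 : ℕ) : WithBot ℕ∞) := by
        rcases lt_or_eq_of_le hcle with hlt | heq
        · exfalso
          have hone : ∀ d ∈ closure ({f.base z} : Set X), d = f.base z := fun d hd' => by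
            by_contra hne
            have hsub : closure ({d} : Set X) ⊆ closure {f.base z} :=
              isClosed_closure.closure_subset_iff.mpr (Set.singleton_subset_iff.mpr hd')
            have hn : f.base z ∉ closure ({d} : Set X) := fun h => hne
              ((specializes_iff_mem_closure.mpr hd').antisymm (specializes_iff_mem_closure.mpr h)).eq.symm
            have h := HilbPolyLib.dim_lt_of_notMem isClosed_closure hsub hn (Y := closure {f.base z}) subset_rfl
              (d := 0) (by rw [Nat.zero_add]; exact hlt)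
            exact absurd h (not_lt.mpr (IntFunLib.nonneg_dim ⟨d, subset_closure rfl⟩))
          have hzone : closure ({z} : Set Y) = {z} := Set.Subset.antisymm (fun w hw => by
            have h1 : f.base w = f.base z := hone _
              (map_mem_closure f.continuous hw (fun v hv => by rw [Set.mem_singleton_iff.mp hv]; rfl))
            exact (hinj z w hzx h1.symm).symm) subset_closure
          have h0 : topologicalKrullDim (closure ({z} : Set Y)) ≤ 0 := by
            rw [hzone]
            exact topologicalKrullDim_zero_of_discreteTopology _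
          rw [hzd] at h0
          exact absurd h0 (by norm_num)
        · exact heq
      obtain ⟨m, hm, -, hA, hB⟩ := hnum _ z hcd hzd rfl
      rw [hA, hB]
      haveI := isIntegral_ptIdeal (f.base z)
      have hd1 : topologicalKrullDim (ptIdeal (f.base z)).subscheme = 1 :=
        ((ptIdeal (f.base z)).subschemeι.isEmbedding.toHomeomorph.trans
          (Homeomorph.setCongr (range_ptIdeal (f.base z)))).isHomeomorph.topologicalKrullDim_eq.trans
          (by rw [hcd, Nat.cast_one])
      have hI : PicF.IsInvertible (ClSub.idealMod (ptIdeal (f.base z)).subschemeι.ker) := by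
        rw [Scheme.IdealSheafData.ker_subschemeι]
        exact IntMultLib.isInvertible_idealMod _ (SurfNumLib.isEffCartier_curve k (X := X) hdim hreg _ (by
          rw [IntFunLib.dim_ptIdeal, hcd, Nat.cast_one]))
      have hdeg : Pic13.curveDeg k ((ptIdeal (f.base z)).subschemeι ≫ (X ↘ Spec (CommRingCat.of k)))
          (pb (ptIdeal (f.base z)).subschemeι L) = -pr k (ClSub.idealMod (ptIdeal (f.base z))) L := by
        rw [deg_eq (k := k) _ hd1 hI hL, Scheme.IdealSheafData.ker_subschemeι]
      suffices h : ε * (m : ℝ) ≤ ((-pr k (ClSub.idealMod (ptIdeal (f.base z))) L : ℤ) : ℝ) by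
        push_cast at h ⊢
        linarith
      by_cases hxc : x ∈ closure ({f.base z} : Set X)
      · have h := hb _ (ptIdeal (f.base z)).subschemeι (isIntegral_ptIdeal _) hd1
          ((range_ptIdeal (f.base z)).ge hxc) m (fun U hU => by
            refine le_trans ?_ hm
            rw [Scheme.IdealSheafData.ker_subschemeι]
            exact le_iSup₂_of_le U hU le_rfl)
        rw [hdeg] at h
        exact h
      · have hm0 : m = 0 := by
          by_contra hne
          have htop : IntMult.stalkIdeal (ptIdeal (f.base z)) x = ⊤ := StrictCurveLib.stalkIdeal_eq_top' _ fun h => hxc (by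
            rw [← SetLike.mem_coe, Scheme.IdealSheafData.coe_support_vanishingIdeal] at h
            exact h)
          rw [htop] at hm
          exact (IsLocalRing.maximalIdeal.isMaximal _).ne_top (top_le_iff.mp (hm.trans (Ideal.pow_le_self hne)))
        rw [hm0, Nat.cast_zero, mul_zero, Int.cast_nonneg_iff, ← hdeg]
        exact hnef _ (ptIdeal (f.base z)).subschemeι (isIntegral_ptIdeal _) hd1

end Groth.Agent.S17342
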