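import Groth.Statements.S17344
import Groth.Agent.SurfExtLib.CBGeom
import Groth.Agent.SurfNumLib.RRApps
import Groth.Agent.SurfNumLib.Basic
import Groth.Agent.PtBlowLib.Stalk
import Groth.Agent.KoszIntLib.Stalk
import Groth.Agent.ProVanLib.Lift
import Groth.Agent.DhmLib.Len
import Groth.Agent.S8163
import Groth.Agent.S1535

set_option autoImplicit false
universe u
open CategoryTheory CategoryTheory.Limits AlgebraicGeometry
open AdjLin
set_option backward.isDefEq.respectTransparency false
set_option backward.isDefEq.respectTransparency.types false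
set_option maxHeartbeats 1600000
open SurfNumLib HilbPolyLib HodgeIdxLib

namespace Groth.Agent.S17344

variable {k : Type u} [Field k] [IsAlgClosed k] {X : Scheme.{u}} [X.Over (Spec (CommRingCat.of k))]
  [IsProper (X ↘ Spec (CommRingCat.of k))] [SmoothOfRelativeDimension 2 (X ↘ Spec (CommRingCat.of k))]
  [IsIntegral X] [IsLocallyNoetherian X]

theorem map_fprod {R S ι : Type*} [CommRing R] [CommRing S] (f : R →+* S) (s : Finset ι) (I : ι → Ideal R) :
    (∏ i ∈ s, I i).map f = ∏ i ∈ s, (I i).map f := by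
  classical
  induction s using Finset.induction_on with
  | empty => simp [Ideal.one_eq_top, Ideal.map_top]
  | insert a s ha ih => rw [Finset.prod_insert ha, Finset.prod_insert ha, Ideal.map_mul, ih]

/-- The ideal of multiplicity `n` at the points of `Z`. -/
noncomputable abbrev multI (Z : Finset X) (hZ : ∀ z ∈ Z, IsClosed ({z} : Set X)) (n : ℕ) : X.IdealSheafData :=
  ⨅ z : ↥Z, (W4c2seshadripos.pointIdeal (z : X) (hZ z z.2)) ^ n

variable (Z : Finset X) (hZ : ∀ z ∈ Z, IsClosed ({z} : Set X)) (n : ℕ)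

theorem prod_le_stalk (x : X) :
    (∏ z : ↥Z, IntMult.stalkIdeal ((W4c2seshadripos.pointIdeal (z : X) (hZ z z.2)) ^ n) x) ≤
      IntMult.stalkIdeal (multI Z hZ n) x := by
  obtain ⟨U, hU, hxU, -⟩ := exists_isAffineOpen_mem_and_subset (x := x) (U := (⊤ : X.Opens)) trivial
  simp only [SDivLib.stalkIdeal_eq _ ⟨U, hU⟩ hxU]
  rw [← map_fprod]
  refine Ideal.map_mono ?_
  rw [multI, Scheme.IdealSheafData.ideal_iInf, iInf_apply]
  exact le_iInf fun z => Ideal.prod_le_inf.trans (Finset.inf_le (Finset.mem_univ z))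

theorem pow_le_stalk {x : X} (hx : x ∈ Z) :
    IsLocalRing.maximalIdeal (X.presheaf.stalk x) ^ n ≤ IntMult.stalkIdeal (multI Z hZ n) x := by
  classical
  refine le_trans (le_of_eq ?_) (prod_le_stalk Z hZ n x)
  rw [Finset.prod_eq_single (⟨x, hx⟩ : ↥Z) (fun w _ hw => ?_) (fun h => absurd (Finset.mem_univ _) h)]
  · rw [ProVanLib.stalkIdeal_pow', W4c2seshadripos.pointIdeal, PtBlowLib.stalkIdeal_vanishing_point]
  · rw [ProVanLib.stalkIdeal_pow', KoszIntLib.stalkIdeal_eq_top, ← Ideal.one_eq_top, one_pow]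
    intro h
    rw [W4c2seshadripos.pointIdeal, Scheme.IdealSheafData.coe_support_vanishingIdeal] at h
    exact hw (Subtype.ext (h : x = (w : X)).symm)

theorem support_subset : CohB1.support (ClSub.quotMod (multI Z hZ n)) ⊆ (Z : Set X) := fun x hx => by
  classical
  by_contra hxZ
  have htop : IntMult.stalkIdeal (multI Z hZ n) x = ⊤ := by
    refine top_le_iff.1 (le_trans (le_of_eq ?_) (prod_le_stalk Z hZ n x))
    rw [Finset.prod_eq_one fun w _ => ?_, Ideal.one_eq_top]
    rw [ProVanLib.stalkIdeal_pow', KoszIntLib.stalkIdeal_eq_top, ← Ideal.one_eq_top, one_pow]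
    intro h
    rw [W4c2seshadripos.pointIdeal, Scheme.IdealSheafData.coe_support_vanishingIdeal] at h
    exact hxZ ((h : x = (w : X)) ▸ w.2)
  obtain ⟨e⟩ := KoszIntLib.nonempty_stalk_quotMod (multI Z hZ n) x
  haveI : Subsingleton (X.presheaf.stalk x ⧸ IntMult.stalkIdeal (multI Z hZ n) x) :=
    Ideal.Quotient.subsingleton_iff.2 htop
  exact hx e.toEquiv.subsingleton

variable (k)

theorem stalkDim_le {x : X} (hx : x ∈ Z) (hn : 1 ≤ n) :
    CurvLib.stalkDim k (ClSub.quotMod (multI Z hZ n)) x ≤ (n + 1).choose 2 := by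
  let A := X.presheaf.stalk x
  let J := IntMult.stalkIdeal (multI Z hZ n) x
  let m := IsLocalRing.maximalIdeal A
  letI : Algebra k A := (Curv2.stalkMap k X x).toAlgebra
  haveI : IsRegularLocalRing A := SurfExtLib.regular_stalk (k := k) x
  have hd : ringKrullDim A = ((2 : ℕ) : WithBot ℕ∞) := by exact_mod_cast SurfExtLib.dim_stalk_closed (k := k) (hZ x hx)
  have hle : m ^ n ≤ J := pow_le_stalk Z hZ n hx
  have hlen : Module.length A (A ⧸ m ^ n) = (((n + 1).choose 2 : ℕ) : ℕ∞) := by
    rw [Groth.Agent.S8163.result A 2 hd n hn, show n + 2 - 1 = n + 1 by omega]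
  have hJl : Module.length A (A ⧸ J) ≤ (((n + 1).choose 2 : ℕ) : ℕ∞) :=
    hlen ▸ Module.length_le_of_surjective (Submodule.factor hle) (Submodule.factor_surjective hle)
  have hfl : IsFiniteLength A (A ⧸ J) :=
    Module.length_ne_top_iff.1 (ne_top_of_le_ne_top (ENat.coe_ne_top _) hJl)
  obtain ⟨-, h2⟩ := DhmLib.length_eq_finrank (k := k) m
    (SurfExtLib.exists_sub_const_mem (k := k) (hZ x hx)) n hfl (M := A ⧸ J) (fun a ha v => by
      obtain ⟨b, rfl⟩ := Ideal.Quotient.mk_surjective v
      exact Ideal.Quotient.eq_zero_iff_mem.2 (J.mul_mem_right _ (hle ha)))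
  obtain ⟨e⟩ := KoszIntLib.nonempty_stalk_quotMod (multI Z hZ n) x
  letI := CurvLib.stalkModule (k := k) (ClSub.quotMod (multI Z hZ n)) x
  let e' : (DevissLib.St x).obj (ClSub.quotMod (multI Z hZ n)) ≃ₗ[k] (A ⧸ J) :=
    { e.toAddEquiv with
      map_smul' := fun c z => (e.map_smul (Curv2.stalkMap k X x c) z).trans (algebraMap_smul A c (e z)) }
  rw [CurvLib.stalkDim, e'.finrank_eq]
  rw [h2] at hJl
  exact_mod_cast hJl

theorem hh_quot_le {L : X.Modules} (hL : PicF.IsInvertible L) (hn : 1 ≤ n) :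
    hh k (CohB1.tensorMod L (ClSub.quotMod (multI Z hZ n))) 0 ≤ Z.card * (n + 1).choose 2 := by
  classical
  haveI := CurvLib.isNoetherian k (X := X)
  let Q := ClSub.quotMod (multI Z hZ n)
  have hQ : Coh.IsCoh Q := CurvLib.isCoh_quotMod _
  have hfin : (Z : Set X).Finite := Z.finite_toSet
  have hcl : IsClosed (Z : Set X) := by
    rw [← Set.biUnion_of_singleton (Z : Set X)]
    exact hfin.isClosed_biUnion fun z hz => hZ z hz
  haveI : Finite ↥(Z : Set X) := hfin.to_subtype
  haveI : T1Space ↥(Z : Set X) := ⟨fun z => by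
    have e : ({z} : Set ↥(Z : Set X)) = Subtype.val ⁻¹' {z.1} :=
      Set.ext fun w => ⟨fun h => congrArg Subtype.val h, fun h => Subtype.ext h⟩
    exact e ▸ (hZ z.1 z.2).preimage continuous_subtype_val⟩
  have hd : topologicalKrullDim ↥(Z : Set X) ≤ 0 := topologicalKrullDim_zero_of_discreteTopology _
  have hsQ : CohB1.support Q ⊆ (Z : Set X) := support_subset Z hZ n
  have hdQ : topologicalKrullDim (CohB1.support Q) ≤ 0 :=
    (Topology.IsInducing.topologicalKrullDim_le
      (Topology.IsEmbedding.inclusion hsQ).isInducing).trans hd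
  have h1 : Curv2.euler k X (CohB1.tensorMod L Q) = (hh k (CohB1.tensorMod L Q) 0 : ℤ) :=
    CurvLib.euler_eq_finrank fun p hp => CurvLib.subsingleton_HH_of_support _ hcl
      (by rw [HilbPolyLib.support_tensor hL]; exact hsQ) (d := 0) (by exact_mod_cast hd) p (by omega)
  have h2 := CurvLib.euler_tensor_locFree_of_dim_zero (k := k) hQ hdQ (CurvLib.locFree_of_isInvertible hL)
  rw [Nat.cast_one, one_mul, CurvLib.euler_congr (k := k) (HilbPolyLib.swapIso Q L), h1] at h2
  haveI := CurvLib.finite_HH (k := k) hQ 0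
  rw [CurvLib.euler_eq_sum_stalks Q hfin hcl hd hsQ
    (fun y => CurvLib.finite_stalk (k := k) Q hfin (fun z hz => hZ z hz) hsQ y)] at h2
  have h3 : hh k (CohB1.tensorMod L Q) 0 = ∑ x ∈ hfin.toFinset, CurvLib.stalkDim k Q x := by exact_mod_cast h2
  rw [h3, Finset.finite_toSet_toFinset, ← smul_eq_mul]
  exact Finset.sum_le_card_nsmul _ _ _ fun x hx => stalkDim_le k Z hZ n hx hn

end Groth.Agent.S17344

namespace Groth.Agent.S17344


/-- Let k be an algebraically closed field of characteristic zero, X a smooth projective surface over k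
(irreducible, proper, smooth of dimension 2, with an ample invertible module), L an ample invertible
O_X-module with tensor inverse L⁻¹, and Z a finite set of closed points of X such that the
self-intersection number (L²), the alternating sum of Euler characteristics attached to two copies
of L⁻¹, exceeds 4 · #Z. Then for every sufficiently large m there is a non-zero global section of
(⋂_{z ∈ Z} m_z^(2m+1)) ⊗ L^{⊗m}: a divisor in the linear series of L^{⊗m} with multiplicity greater
than 2m at every point of Z. (In the source L is the ample determinant of a globally generated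
rank-2 bundle E and Z the reduced zero set of a section of E, so that (L²) = c_1(E)² and #Z =
c_2(E); the assertion is the dimension count under c_1(E)² > 4 c_2(E).) -/
theorem result (k : Type u) [Field k] [IsAlgClosed k] [CharZero k]
    (X : Scheme.{u}) [X.Over (Spec (CommRingCat.of k))] [IsProper (X ↘ (Spec (CommRingCat.of k)))]
    [Smooth (X ↘ (Spec (CommRingCat.of k)))] [IrreducibleSpace X] (hdim : topologicalKrullDim X = 2)
    (H : X.Modules) (hH : CohB1.IsAmple H)
    (L Linv : X.Modules) (hL : CohB1.IsAmple L) (hLinv : ClSub.IsInverseOf Linv L)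
    (Z : Finset X) (hZ : ∀ z ∈ Z, IsClosed ({z} : Set X))
    (hsq : 4 * (Z.card : ℤ) < FGA.intNum k X 2 (fun _ : Fin 2 => Linv) (Coh.structureModule X)) :
    ∃ m₀ : ℕ, ∀ m : ℕ, m₀ ≤ m →
      Nontrivial (Coh.HH X (CohB1.tensorMod
        (ClSub.idealMod (⨅ z : ↥Z, (W4c2seshadripos.pointIdeal (z : X) (hZ z z.2)) ^ (2 * m + 1)))
        (CohB1.tensorPow L m)) 0) := by
  haveI : ∀ x : X, _root_.IsReduced (X.presheaf.stalk x) := fun x =>
    haveI := Groth.Agent.S1535.result k X x
    haveI := CommAlgDim.isDomain_of_isRegularLocalRing (X.presheaf.stalk x)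
    inferInstance
  haveI : AlgebraicGeometry.IsReduced X := isReduced_of_isReduced_stalk X
  haveI : AlgebraicGeometry.IsIntegral X := isIntegral_of_irreducibleSpace_of_isReduced X
  haveI := SurfNumLib.smoothRel_of_dim (k := k) (X := X) (n := 2) (by simpa using hdim)
  haveI := CurvLib.isNoetherian k (X := X)
  have hX : topologicalKrullDim X ≤ ((2 : ℕ) : WithBot ℕ∞) := by simpa using hdim.le
  have hL1 := hL.1
  obtain ⟨eL⟩ := hLinv
  have eL' : CohB1.tensorMod L Linv ≅ Coh.structureModule X := HilbPolyLib.swapIso _ _ ≪≫ eL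
  let N : ℤ := pr k L L
  have hN : 4 * (Z.card : ℤ) < N := by
    have e : (fun _ : Fin 2 => Linv) = ![Linv, Linv] := by funext i; fin_cases i <;> rfl
    rw [e, SurfNumLib.intNum_eq_pr_two hdim, SurfNumLib.pr_inv_inv hX hL1 hL1 eL' eL'] at hsq
    exact hsq
  obtain ⟨n₀, h₀⟩ := SerreVanLib.exists_vanishing (X ↘ Spec (CommRingCat.of k)) hL1 hL
    (Coh.structureModule X) (DevissLib.isCoh_structureModule X)
  set c₀ : ℤ := Curv2.euler k X (Coh.structureModule X)
  set c₁ : ℤ := Curv2.euler k X L - c₀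
  set c : ℤ := (Z.card : ℤ)
  let B : ℤ := |2 * c₁ - N - 6 * c| + |2 * c₀ - 2 * c| + 1
  refine ⟨max n₀ B.toNat, fun m hm => ?_⟩
  have hm₀ : n₀ ≤ m := (le_max_left _ _).trans hm
  have hmB : B ≤ (m : ℤ) := by
    have := (le_max_right n₀ B.toNat).trans hm
    omega
  let Lm := CohB1.tensorPow L m
  have hLm : PicF.IsInvertible Lm := AmpleThLib.tensorPow_isInvertible hL1 m
  let J := multI Z hZ (2 * m + 1)
  have hS := HilbPolyLib.shortExact_tensor hLm (CurvLib.idealSeq_shortExact J)
  have hle := hh_mid_le (k := k) hS (HilbPolyLib.isCoh_tensor hLm (SurfExtLib.isCoh_idealMod J))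
    (HilbPolyLib.isCoh_tensor hLm (DevissLib.isCoh_structureModule X))
    (HilbPolyLib.isCoh_tensor hLm (CurvLib.isCoh_quotMod J)) 0
  have hq : hh k (CohB1.tensorMod Lm (ClSub.quotMod J)) 0 ≤ Z.card * (2 * m + 1 + 1).choose 2 :=
    hh_quot_le k Z hZ _ hLm (by omega)
  let unitR : CohB1.tensorMod Lm (Coh.structureModule X) ≅ Lm :=
    HilbPolyLib.swapIso _ _ ≪≫ HilbPolyLib.unitLeft _
  have he : Curv2.euler k X Lm = (hh k (CohB1.tensorMod Lm (Coh.structureModule X)) 0 : ℤ) := by
    rw [← CurvLib.euler_congr (k := k) unitR]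
    exact CurvLib.euler_eq_finrank fun p hp =>
      SerreVanLib.subsingleton_HH_of_iso (HilbPolyLib.swapIso _ _) _ (h₀ m hm₀ p hp)
  have hp := HodgeIdxLib.euler_pow (k := k) hX hL1 m
  have hch : (((2 * m + 1 + 1).choose 2 : ℕ) : ℤ) = (m + 1) * (2 * m + 1) := by
    have : (2 * m + 1 + 1).choose 2 = (m + 1) * (2 * m + 1) := by
      rw [Nat.choose_two_right, show 2 * m + 1 + 1 - 1 = 2 * m + 1 by omega,
        show (2 * m + 1 + 1) * (2 * m + 1) = 2 * ((m + 1) * (2 * m + 1)) by ring, Nat.mul_div_cancel_left _ (by omega)]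
    rw [this]; push_cast; ring
  have hpos : 0 < hh k (CohB1.tensorMod Lm (ClSub.idealMod J)) 0 := by
    by_contra h0
    have h0' : hh k (CohB1.tensorMod Lm (ClSub.idealMod J)) 0 = 0 := by omega
    have hle' : hh k (CohB1.tensorMod Lm (Coh.structureModule X)) 0 ≤
        hh k (CohB1.tensorMod Lm (ClSub.idealMod J)) 0 + hh k (CohB1.tensorMod Lm (ClSub.quotMod J)) 0 := hle
    have hbd : Curv2.euler k X Lm ≤ c * ((m + 1) * (2 * m + 1)) := by
      rw [he, ← hch]
      simp only [c]
      exact_mod_cast (hle'.trans (by rw [h0', zero_add])).trans hq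
    have hNm : (1 : ℤ) ≤ N - 4 * c := by omega
    have hm1 : (1 : ℤ) ≤ m := le_trans (by simp only [B]; linarith [abs_nonneg (2 * c₁ - N - 6 * c), abs_nonneg (2 * c₀ - 2 * c)]) hmB
    change 2 * Curv2.euler k X Lm = _ at hp
    have key : (N - 4 * c) * (m : ℤ) ^ 2 + (2 * c₁ - N - 6 * c) * m + (2 * c₀ - 2 * c) ≤ 0 := by
      have e : HodgeIdxLib.pr k L L = N := rfl
      simp only [HodgeIdxLib.pr] at e
      rw [e] at hp
      linarith [hbd, hp]
    have a1 : (m : ℤ) ^ 2 ≤ (N - 4 * c) * (m : ℤ) ^ 2 := le_mul_of_one_le_left (sq_nonneg _) hNm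
    have a2 := mul_le_mul_of_nonneg_right (neg_abs_le (2 * c₁ - N - 6 * c)) (by omega : (0 : ℤ) ≤ m)
    have a3 := mul_le_mul_of_nonneg_left hm1 (abs_nonneg (2 * c₀ - 2 * c))
    have a4 := mul_le_mul_of_nonneg_left hmB (by omega : (0 : ℤ) ≤ m)
    simp only [B] at a4
    nlinarith [neg_abs_le (2 * c₀ - 2 * c)]
  have hiso : CohB1.tensorMod Lm (ClSub.idealMod J) ≅ CohB1.tensorMod (ClSub.idealMod J) Lm :=
    HilbPolyLib.swapIso _ _
  rw [HodgeIdxLib.hh_congr (k := k) hiso 0] at hpos
  exact Module.nontrivial_of_finrank_pos hpos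

end Groth.Agent.S17344
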