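import Groth.Statements.S17351
import Groth.Agent.SerreExtLib.Basic
import Groth.Agent.CurveVBLib.Basic
import Groth.Agent.SurfNumLib.RR
import Groth.Agent.SurfNumLib.Meet
import Groth.Agent.StabLib.CohExt
import Groth.Agent.PerfLib.Restrict

set_option autoImplicit false
universe u
open CategoryTheory CategoryTheory.Limits AlgebraicGeometry
open AdjLin

set_option backward.isDefEq.respectTransparency false
set_option backward.isDefEq.respectTransparency.types false
set_option maxHeartbeats 1000000

namespace Groth.Agent.S17351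

/-- Let k be an algebraically closed field of characteristic zero and X a smooth projective surface over
k (irreducible, proper, smooth of dimension 2, with an ample invertible module); let M be an
invertible O_X-module, Z ⊆ X a closed subscheme whose underlying set is finite, with quasi-coherent
ideal I_Z regarded as an O_X-module, and let 0 → M → F → I_Z → 0 be a short exact sequence of
O_X-modules (an extension of L ⊗ I_Z by O_X in the source, here tensored with M = L⁻¹). Then F is
not finite locally free if and only if there exist an ideal sheaf I' strictly containing I_Z (a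
proper closed subscheme Z' of Z, the empty one allowed), a short exact sequence 0 → M → F' → I' → 0
and a morphism g : F → F' which is compatible with the two maps from M and, on the quotients, with
the inclusion I_Z → I' (the unique map commuting with the inclusions into O_X); in other words the
extension class of F is the pull-back of an extension of I' by M. -/
theorem result (k : Type u) [Field k] [IsAlgClosed k] [CharZero k]
    (X : Scheme.{u}) [X.Over (Spec (CommRingCat.of k))] [IsProper (X ↘ (Spec (CommRingCat.of k)))]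
    [Smooth (X ↘ (Spec (CommRingCat.of k)))] [IrreducibleSpace X] (hdim : topologicalKrullDim X = 2)
    (H : X.Modules) (hH : CohB1.IsAmple H)
    (M : X.Modules) (hM : PicF.IsInvertible M)
    (IZ : X.IdealSheafData) (hZ : (IZ.support : Set X).Finite)
    (F : X.Modules) (a : M ⟶ F) (b : F ⟶ ClSub.idealMod IZ) (w : a ≫ b = 0)
    (hex : (ShortComplex.mk a b w).ShortExact) :
    ¬ FlatMod.IsFinLocFree F ↔
      ∃ (I' : X.IdealSheafData) (F' : X.Modules) (a' : M ⟶ F') (b' : F' ⟶ ClSub.idealMod I') (w' : a' ≫ b' = 0)
        (φ : ClSub.idealMod IZ ⟶ ClSub.idealMod I') (g : F ⟶ F'),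
        IZ < I' ∧ (ShortComplex.mk a' b' w').ShortExact ∧ φ ≫ ClSub.idealModι I' = ClSub.idealModι IZ ∧
          a ≫ g = a' ∧ g ≫ b' = b ≫ φ := by
  haveI := CurvLib.isNoetherian k (X := X)
  haveI : ∀ x : X, IsDomain (X.presheaf.stalk x) := fun x =>
    haveI := CurveVBLib.regular_stalk (k := k) x; CommAlgDim.isDomain_of_isRegularLocalRing _
  haveI : IsIntegral X := CurveVBLib.isIntegral_of_connected
  haveI := SurfNumLib.smoothRel_of_dim (k := k) (X := X) (n := 2) hdim
  have hMf : FlatMod.IsFinLocFree M := CurveVBLib.isFinLocFree_of_rank (CurvLib.locFree_of_isInvertible hM)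
  have hMc : Coh.IsCoh M := CurvLib.isCoh_of_isInvertible hM
  have hOf : FlatMod.IsFinLocFree (Coh.structureModule X) :=
    CurveVBLib.isFinLocFree_of_rank (CurvLib.locFree_of_isInvertible CurvLib.isInvertible_structureModule)
  have hιmono : ∀ I : X.IdealSheafData, Mono (ClSub.idealModι I) := fun I => inferInstanceAs (Mono (kernel.ι _))
  have hItf : ∀ I : X.IdealSheafData, TorSh.IsTorsionFree (ClSub.idealMod I) := fun I =>
    haveI := hιmono I
    PicOneLib.torsionFree_of_mono (ClSub.idealModι I) (PicOneLib.torsionFree_of_isFinLocFree hOf)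
  have hMtf : TorSh.IsTorsionFree M := PicOneLib.torsionFree_of_isFinLocFree hMf
  haveI : Mono a := hex.mono_f
  haveI : Epi b := hex.epi_g
  have hFc : Coh.IsCoh F := StabLib.isCoh_extension hex hMc (SurfExtLib.isCoh_idealMod IZ)
  have hFtf : TorSh.IsTorsionFree F := SerreExtLib.torsionFree_of_ses hex hMtf (hItf IZ)
  constructor
  · intro hnot
    obtain ⟨J, j, hJf, hJc, hjm, hjd⟩ := SerreExtLib.exists_bundle_hull k hdim hFc hFtf
    haveI := hjm
    obtain ⟨β, hβ⟩ := PicOneLib.exists_extend_finite k hdim hFc hJc j hjd hOf (b ≫ ClSub.idealModι IZ)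
    let a' : M ⟶ J := a ≫ j
    haveI : Mono a' := mono_comp _ _
    have haβ : a' ≫ β = 0 := by
      rw [Category.assoc, hβ, ← Category.assoc, w, zero_comp]
    -- the kernel of the extended map is the line bundle
    haveI := hJc.1
    have hKc : Coh.IsCoh (kernel β) := QCohLib.isCoh_kernel β hJc (DevissLib.isCoh_structureModule X).1
    have hKtf : TorSh.IsTorsionFree (kernel β) :=
      PicOneLib.torsionFree_of_mono (kernel.ι β) (PicOneLib.torsionFree_of_isFinLocFree hJf)
    let u : M ⟶ kernel β := kernel.lift β a' haβ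
    have huι : u ≫ kernel.ι β = a' := kernel.lift_ι _ _ _
    haveI : Mono u := mono_of_mono_fac huι
    have hud : topologicalKrullDim (CohB1.support (cokernel u)) ≤ 0 := by
      have hCu := QCohLib.isCoh_cokernel u hMc.1 hKc
      have hCj := QCohLib.isCoh_cokernel j hFc.1 hJc
      refine SurfExtLib.dim_le_zero_of_closed_points (QCohLib.isClosed_support _ hCu.2) fun y hy => ?_
      refine (CurvLib.finite_isClosed_of_dim_le_zero (QCohLib.isClosed_support _ hCj.2) hjd).2 y ?_
      by_contra hyj
      refine DevissLib.notMem_support_cokernel u y (fun t => ?_) hy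
      haveI : Subsingleton (CohCmpLib.stk (cokernel j) y) := SurfExtLib.subsingleton_stk hyj
      obtain ⟨v, hv⟩ := FLI.exists_of_exact j (cokernel.π j) (cokernel.condition j) (ShortComplex.exact_cokernel j) y
        (b := FLI.sMap (kernel.ι β) y t) (Subsingleton.elim _ _)
      have hb0 : FLI.sMap (ClSub.idealModι IZ) y (FLI.sMap b y v) = 0 := by
        rw [← FLI.sMap_comp, ← hβ, FLI.sMap_comp, hv, ← FLI.sMap_comp, kernel.condition]
        exact FLI.sMap_zero _ _
      have hbv : FLI.sMap b y v = 0 := by
        haveI := hιmono IZ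
        exact FLI.sMap_injective (ClSub.idealModι IZ) y (hb0.trans (map_zero _).symm)
      obtain ⟨m, hm⟩ := FLI.exists_of_exact a b w hex.exact y (b := v) hbv
      refine ⟨m, FLI.sMap_injective (kernel.ι β) y ?_⟩
      show FLI.sMap (kernel.ι β) y (FLI.sMap u y m) = FLI.sMap (kernel.ι β) y t
      rw [← hv, ← hm, ← FLI.sMap_comp, huι, FLI.sMap_comp]
    haveI := SerreExtLib.isIso_of_finite_coker k hdim hMc hMf hKc hKtf u hud
    -- the quotient is an ideal
    let β' := cokernel.desc a' β haβ
    have hex' : (ShortComplex.mk a' β haβ).Exact := by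
      refine ShortComplex.exact_of_f_is_kernel _ ?_
      refine IsLimit.ofIsoLimit (kernelIsKernel β) (Fork.ext (asIso u).symm ?_)
      show inv u ≫ a' = kernel.ι β
      rw [← huι, IsIso.inv_hom_id_assoc]
    haveI : Mono β' := hex'.mono_cokernelDesc
    haveI : Coh.IsQCoh (cokernel a') := (QCohLib.isCoh_cokernel a' hMc.1 hJc).1
    obtain ⟨I', θ, hθ⟩ := SerreExtLib.exists_ideal_of_mono β'
    let b' : J ⟶ ClSub.idealMod I' := cokernel.π a' ≫ θ.hom
    have hb'ι : b' ≫ ClSub.idealModι I' = β := by
      rw [Category.assoc, hθ, cokernel.π_desc]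
    have w' : a' ≫ b' = 0 := by rw [← Category.assoc, cokernel.condition, zero_comp]
    have hse' : (ShortComplex.mk a' b' w').ShortExact := by
      refine ShortComplex.shortExact_of_iso ?_ (show (ShortComplex.mk a' (cokernel.π a') (cokernel.condition a')).ShortExact
        from { exact := ShortComplex.exact_cokernel a', mono_f := ‹_›, epi_g := inferInstance })
      exact ShortComplex.isoMk (Iso.refl _) (Iso.refl _) θ (by simp) (by simp [b'])
    have hab : a ≫ (j ≫ b') = 0 := by rw [← Category.assoc]; exact w'
    let φ : ClSub.idealMod IZ ⟶ ClSub.idealMod I' := hex.exact.desc (j ≫ b') hab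
    have hφ : b ≫ φ = j ≫ b' := hex.exact.g_desc _ _
    have hφι : φ ≫ ClSub.idealModι I' = ClSub.idealModι IZ := by
      rw [← cancel_epi b, ← Category.assoc, hφ, Category.assoc, hb'ι, hβ]
    refine ⟨I', J, a', b', w', φ, j, lt_of_le_of_ne (SerreExtLib.le_of_hom φ hφι) ?_, hse', hφι, rfl, hφ.symm⟩
    rintro rfl
    haveI := hιmono IZ
    have hφ1 : φ = 𝟙 _ := by rw [← cancel_mono (ClSub.idealModι IZ), hφι, Category.id_comp]
    rw [hφ1, Category.comp_id] at hφ
    let T := ShortComplex.homMk (S₁ := ShortComplex.mk a b w) (S₂ := ShortComplex.mk a' b' w') (𝟙 _) j (𝟙 _)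
      (by simp [a']) (by simp [hφ])
    haveI : IsIso T.τ₁ := inferInstanceAs (IsIso (𝟙 M))
    haveI : IsIso T.τ₃ := inferInstanceAs (IsIso (𝟙 _))
    have hiso : IsIso j := ShortComplex.isIso₂_of_shortExact_of_isIso₁₃ T hex hse'
    exact hnot (PerfLib.isFinLocFree_of_iso (asIso j).symm hJf)
  · rintro ⟨I', F', a', b', w', φ, g, hlt, hse', hφι, hag, hgb⟩ hFf
    haveI : Mono a' := hse'.mono_f
    have hF'c : Coh.IsCoh F' := StabLib.isCoh_extension hse' hMc (SurfExtLib.isCoh_idealMod I')
    have hF'tf : TorSh.IsTorsionFree F' := SerreExtLib.torsionFree_of_ses hse' hMtf (hItf I')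
    haveI := hιmono IZ
    haveI : Mono φ := mono_of_mono_fac hφι
    let T := ShortComplex.homMk (S₁ := ShortComplex.mk a b w) (S₂ := ShortComplex.mk a' b' w') (𝟙 _) g φ
      (by simp [hag]) (by simp [hgb])
    haveI : Mono T.τ₁ := inferInstanceAs (Mono (𝟙 M))
    haveI : Mono T.τ₃ := ‹Mono φ›
    haveI : Mono g := ShortComplex.mono_τ₂_of_exact_of_mono T hex.exact
    have hgd : topologicalKrullDim (CohB1.support (cokernel g)) ≤ 0 := by
      have hCg := QCohLib.isCoh_cokernel g hFc.1 hF'c
      refine SurfExtLib.dim_le_zero_of_closed_points (QCohLib.isClosed_support _ hCg.2) fun y hy => ?_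
      by_contra hnc
      have hfin : ∀ z ∈ (IZ.support : Set X), IsClosed ({z} : Set X) := fun z hz =>
        SurfNumLib.isClosed_of_finite (k := k) IZ.support.isClosed hZ hz
      have hyZ : y ∉ (IZ.support : Set X) := fun h => hnc (hfin y h)
      refine DevissLib.notMem_support_cokernel g y (fun t => ?_) hy
      haveI : Subsingleton (CohCmpLib.stk (CurvLib.idealSeq IZ).X₃ y) :=
        SurfExtLib.subsingleton_stk fun h => hyZ (CurvLib.support_quotMod_subset IZ h)
      obtain ⟨v, hv⟩ := FLI.exists_of_exact (CurvLib.idealSeq IZ).f (CurvLib.idealSeq IZ).g (CurvLib.idealSeq IZ).zero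
        (CurvLib.idealSeq_shortExact IZ).exact y (b := FLI.sMap (ClSub.idealModι I') y (FLI.sMap b' y t))
        (Subsingleton.elim _ _)
      change FLI.sMap (ClSub.idealModι IZ) y v = _ at hv
      have hv' : FLI.sMap φ y v = FLI.sMap b' y t := by
        haveI := hιmono I'
        refine FLI.sMap_injective (ClSub.idealModι I') y ?_
        rw [← hv, ← hφι, FLI.sMap_comp]
      obtain ⟨v', hv''⟩ : ∃ v', FLI.sMap b y v' = v :=
        (ModuleCat.epi_iff_surjective _).1 (inferInstanceAs (Epi ((DerSch.stalkFunctor X y).map b))) v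
      have h0 : FLI.sMap b' y (t - FLI.sMap g y v') = 0 := by
        rw [map_sub, ← FLI.sMap_comp g b', hgb, FLI.sMap_comp, hv'', hv', sub_self]
      obtain ⟨m, hm⟩ := FLI.exists_of_exact a' b' w' hse'.exact y (b := t - FLI.sMap g y v') h0
      refine ⟨FLI.sMap a y m + v', ?_⟩
      show FLI.sMap g y (FLI.sMap a y m + v') = t
      rw [map_add, ← FLI.sMap_comp a g, hag, hm, sub_add_cancel]
    haveI := SerreExtLib.isIso_of_finite_coker k hdim hFc hFf hF'c hF'tf g hgd
    haveI : Epi (g ≫ b') := @epi_comp _ _ _ _ _ g inferInstance b' hse'.epi_g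
    haveI : Epi (b ≫ φ) := hgb ▸ inferInstance
    haveI : Epi φ := epi_of_epi b φ
    haveI : IsIso φ := isIso_of_mono_of_epi φ
    exact not_le_of_gt hlt (SerreExtLib.le_of_hom (inv φ) (by rw [IsIso.inv_comp_eq]; exact hφι.symm))

end Groth.Agent.S17351
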