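import Groth.Statements.S17352
import Groth.Agent.AzInvLib.Types

set_option autoImplicit false
universe u v w w'
open scoped TensorProduct
open AzInv

namespace Groth.Agent.S17352

/-- (b) ⇒ (a): let `R` be a commutative ring with an involution `lam` whose fixed ring is exactly `S`;
assume that units have square roots locally for the etale topology of `S` (every unit of an etale
`S`-algebra becomes a square in some etale faithfully flat extension), and that `2` is a unit in
`S`, or `R` is a quadratic etale `S`-algebra, or `n` is odd. Let `A` and `A'` be Azumaya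
`R`-algebras of the same degree `n ≥ 1` with `lam`-involutions `t` and `t'`. If `t` and `t'` have
the same type, i.e. for some positive sizes the matrix algebras over `A` and `A'` with the
involutions induced by `t` and `t'` (apply the involution entrywise, then transpose) become
isomorphic as `R`-algebras with involution after an etale faithfully flat base change of `S`, then
`(A, t)` and `(A', t')` themselves become isomorphic as `R`-algebras with involution after an etale
faithfully flat base change of `S`. (The source states this for an exact quotient of a locally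
ringed topos with involution; the row is the affine case `Spec R → Spec S`, with etale coverings of
`Spec S` replaced by a single etale faithfully flat `S`-algebra.) -/
theorem result (S : Type u) (R : Type v) [CommRing S] [CommRing R] [Algebra S R]
    (lam : R ≃ₐ[S] R) (hlam : ∀ r, lam (lam r) = r) (hfix : RInv.IsFixedRing S R lam.toRingEquiv)
    (hsq : ∀ (S₁ : Type u) [CommRing S₁] [Algebra S S₁] [Algebra.Etale S S₁] (x : S₁ˣ),
      ∃ (S₂ : Type u) (_ : CommRing S₂) (_ : Algebra S₁ S₂) (_ : Algebra.Etale S₁ S₂)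
        (_ : Module.FaithfullyFlat S₁ S₂) (y : S₂), y * y = algebraMap S₁ S₂ ↑x)
    (n : ℕ) (hn : 0 < n) (hcond : IsUnit (2 : S) ∨ RInv.IsQuadEtale S R ∨ Odd n)
    (A : Type w) [Ring A] [Algebra S A] [Algebra R A] [IsScalarTower S R A]
    (A' : Type w') [Ring A'] [Algebra S A'] [Algebra R A'] [IsScalarTower S R A']
    (hA : AzInv.IsAzumayaDeg R A n) (hA' : AzInv.IsAzumayaDeg R A' n)
    (t : AzInv.LamInv R A lam) (t' : AzInv.LamInv R A' lam) (h : AzInv.SameType S lam t t') :
    AzInv.LocIsoEt S lam t t' := by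
  obtain ⟨hP, hF⟩ := AzInvLib.projective_finite hA
  obtain ⟨hP', hF'⟩ := AzInvLib.projective_finite hA'
  haveI := hP; haveI := hF; haveI := hP'; haveI := hF'
  obtain ⟨m, m', hm, hm', hloc⟩ := h
  obtain ⟨U, _, _, hE, hFF, ⟨iU⟩⟩ := (AzInvLib.locIsoEt_iff _ _).1 hloc
  refine (AzInvLib.locIsoEt_iff _ _).2 (AzInvLib.exists_cover_iso (R := R) (fun r => lam r)
    (fun r a => t.map_smul r a) (fun r a => t'.map_smul r a) fun T _ _ hT => ?_)
  haveI := hT.hens; haveI := hT.sep; haveI := hT.flat; haveI := hE; haveI := hFF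
  obtain ⟨g⟩ := hT.exists_hom' (U := U)
  have iT := AzInvLib.Iso.map g iU
  have hc : (∃ a : T ⊗[S] R, IsUnit (a - AzInvLib.bcLam lam T a)) ∨ Odd n ∨ IsUnit (2 : T) := by
    rcases hcond with h | h | h
    · exact Or.inr (Or.inr (by simpa [map_ofNat] using h.map (algebraMap S T)))
    · exact Or.inl (AzInvLib.exists_unit_point T hlam hfix h)
    · exact Or.inr (Or.inl h)
  haveI : Nonempty (Fin m) := ⟨⟨0, hm⟩⟩
  haveI : Nonempty (Fin m') := ⟨⟨0, hm'⟩⟩
  haveI : Nonempty (Fin n) := ⟨⟨0, hn⟩⟩
  rcases AzInvLib.exists_model_iso (T := T) hlam hfix (hT.exists_sqrt hsq) hn hA hc t with ⟨⟨i⟩⟩ | ⟨hno, h2, k, hk, ⟨i⟩⟩ <;>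
    rcases AzInvLib.exists_model_iso (T := T) hlam hfix (hT.exists_sqrt hsq) hn hA' hc t' with ⟨⟨j⟩⟩ | ⟨hno', h2', k', hk', ⟨j⟩⟩
  · exact ⟨i.trans j.symm⟩
  · exact (AzInvLib.not_iso_pos_neg (T := T) hlam hfix hno' h2' (ι := Fin m × Fin n) (κ := Fin m' × Fin k')
      ⟨((((AzInvLib.posMatrix T hlam (Fin m) (Fin n)).symm.trans (i.symm.matrix (Fin m))).trans iT).trans
        (j.matrix (Fin m'))).trans (AzInvLib.negMatrix T hlam (Fin m') (Fin k'))⟩).elim
  · exact (AzInvLib.not_iso_pos_neg (T := T) hlam hfix hno h2 (ι := Fin m' × Fin n) (κ := Fin m × Fin k)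
      ⟨((((AzInvLib.posMatrix T hlam (Fin m') (Fin n)).symm.trans (j.symm.matrix (Fin m'))).trans iT.symm).trans
        (i.matrix (Fin m))).trans (AzInvLib.negMatrix T hlam (Fin m) (Fin k))⟩).elim
  · obtain rfl : k = k' := by omega
    exact ⟨i.trans j.symm⟩

end Groth.Agent.S17352
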