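import Groth.Statements.S17353
import Groth.Agent.AzInvLib.Global

set_option autoImplicit false
universe u v w
open scoped TensorProduct
open AzInv

namespace Groth.Agent.S17353

/-- Let `R` be a commutative ring with an involution `lam` whose fixed ring is exactly `S`, and assume
that units have square roots locally for the etale topology of `S` (every unit of an etale
`S`-algebra becomes a square in some etale faithfully flat extension). Let `A` be an Azumaya
`R`-algebra of odd degree `n` with a `lam`-involution `t`. Then `t` has the same type as the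
involution `lam` of `R` itself (the neutral type): for some positive sizes `m`, `m'` the matrix
algebras of size `m` over `A` and of size `m'` over `R`, with the involutions induced by `t` and by
`lam`, become isomorphic as `R`-algebras with involution after an etale faithfully flat base change
of `S`. (The source states this for an exact quotient of a locally ringed topos with involution; the
row is the affine case `Spec R → Spec S`, with etale coverings of `Spec S` replaced by a single
etale faithfully flat `S`-algebra.) -/
theorem result (S : Type u) (R : Type v) [CommRing S] [CommRing R] [Algebra S R]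
    (lam : R ≃ₐ[S] R) (hlam : ∀ r, lam (lam r) = r) (hfix : RInv.IsFixedRing S R lam.toRingEquiv)
    (hsq : ∀ (S₁ : Type u) [CommRing S₁] [Algebra S S₁] [Algebra.Etale S S₁] (x : S₁ˣ),
      ∃ (S₂ : Type u) (_ : CommRing S₂) (_ : Algebra S₁ S₂) (_ : Algebra.Etale S₁ S₂)
        (_ : Module.FaithfullyFlat S₁ S₂) (y : S₂), y * y = algebraMap S₁ S₂ ↑x)
    (A : Type w) [Ring A] [Algebra S A] [Algebra R A] [IsScalarTower S R A]
    (n : ℕ) (hn : Odd n) (hA : AzInv.IsAzumayaDeg R A n) (t : AzInv.LamInv R A lam) :
    AzInv.SameType S lam t (AzInv.LamInv.self lam hlam) := by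
  obtain ⟨hP, hF⟩ := AzInvLib.projective_finite hA
  haveI := hP; haveI := hF
  haveI := AzInvLib.finite_matrix R A (Fin 1)
  haveI := AzInvLib.projective_matrix R A (Fin 1)
  haveI := AzInvLib.projective_matrix R R (Fin n)
  have hn0 : 0 < n := hn.pos
  refine ⟨1, n, one_pos, hn0, (AzInvLib.locIsoEt_iff _ _).2 (AzInvLib.exists_cover_iso (R := R) (fun r => lam r)
    (fun r a => (t.matrix (Fin 1)).map_smul r a)
    (fun r a => ((AzInv.LamInv.self lam hlam).matrix (Fin n)).map_smul r a) fun T _ _ hT => ?_)⟩
  haveI := hT.hens; haveI := hT.sep; haveI := hT.flat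
  rcases AzInvLib.exists_model_iso (T := T) hlam hfix (hT.exists_sqrt hsq) hn0 hA (Or.inr (Or.inl hn)) t
    with ⟨⟨i⟩⟩ | ⟨-, -, m, hm, -⟩
  · exact ⟨(AzInvLib.Iso.ofAlgEquiv T (R := R) (σ := t.linS S lam) (σ' := (t.matrix (Fin 1)).linS S lam)
      (AzInvLib.oneMatrix R A) (fun a => by
        ext i j; rfl)).symm.trans i⟩
  · exact absurd hn (Nat.not_odd_iff_even.2 ⟨m, by omega⟩)

end Groth.Agent.S17353
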