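import Groth.Statements.S17355
import Groth.Agent.AzInvLib.Global

set_option autoImplicit false
universe u v w
open scoped TensorProduct
open AzInv

namespace Groth.Agent.S17355

/-- Let `R` be a commutative ring with an involution `lam` whose fixed ring is exactly `S`, assume that
units have square roots locally for the etale topology of `S` (every unit of an etale `S`-algebra
becomes a square in some etale faithfully flat extension), and let `A` be an Azumaya `R`-algebra of
degree `n ≥ 1` with a `lam`-involution `t`. Then every `R`-algebra automorphism `ψ` of `A` that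
commutes with `t` is, locally for the etale topology of `S`, conjugation by a unitary element: there
are an etale faithfully flat `S`-algebra `S'` and a unit `u` of `S' ⊗_S A` with `(id ⊗ t)(u) * u =
1` such that `id ⊗ ψ` is `x ↦ u x u⁻¹` (the map from the unitary group to the automorphism sheaf of
`(A, t)` is an epimorphism). This row states the surjectivity part only; the published statement
also identifies the kernel of the map from the unitary group as the group of norm-one elements of
`R` (the units `r` of `R` with `lam r * r = 1`), so that the projective unitary group of `(A, t)` is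
its automorphism sheaf. (The source states this for an exact quotient of a locally ringed topos with
involution; the row is the affine case `Spec R → Spec S`, with etale coverings of `Spec S` replaced
by a single etale faithfully flat `S`-algebra.) -/
theorem result (S : Type u) (R : Type v) [CommRing S] [CommRing R] [Algebra S R]
    (lam : R ≃ₐ[S] R) (hlam : ∀ r, lam (lam r) = r) (hfix : RInv.IsFixedRing S R lam.toRingEquiv)
    (hsq : ∀ (S₁ : Type u) [CommRing S₁] [Algebra S S₁] [Algebra.Etale S S₁] (x : S₁ˣ),
      ∃ (S₂ : Type u) (_ : CommRing S₂) (_ : Algebra S₁ S₂) (_ : Algebra.Etale S₁ S₂)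
        (_ : Module.FaithfullyFlat S₁ S₂) (y : S₂), y * y = algebraMap S₁ S₂ ↑x)
    (A : Type w) [Ring A] [Algebra S A] [Algebra R A] [IsScalarTower S R A]
    (n : ℕ) (hn : 0 < n) (hA : AzInv.IsAzumayaDeg R A n) (t : AzInv.LamInv R A lam)
    (ψ : A ≃ₐ[R] A) (hψ : AzInv.IsInvHom t t ψ) :
    ∃ (S' : Type u) (_ : CommRing S') (_ : Algebra S S') (_ : Algebra.Etale S S')
      (_ : Module.FaithfullyFlat S S') (u : (S' ⊗[S] A)ˣ),
      t.bc S lam S' (↑u : S' ⊗[S] A) * ↑u = 1 ∧
        ∀ x : S' ⊗[S] A,
          Algebra.TensorProduct.congr (AlgEquiv.refl : S' ≃ₐ[S'] S') (ψ.restrictScalars S) x =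
            ↑u * x * ↑u⁻¹ := by
  obtain ⟨hP, hF⟩ := AzInvLib.projective_finite hA
  haveI := hP; haveI := hF
  obtain ⟨U, _, _, hE, hFF, u, hu, hu'⟩ := AzInvLib.exists_cover_units (S := S) (R := R) (A := A)
    (fun (U : Type u) [CommRing U] [Algebra S U] (u : (U ⊗[S] A)ˣ) =>
      (∀ a : A, ((1 : U) ⊗ₜ ψ a) * (u : U ⊗[S] A) = (u : U ⊗[S] A) * ((1 : U) ⊗ₜ a)) ∧
        (t.linS S lam).lTensor U (u : U ⊗[S] A) * u = 1)
    (fun ι _ _ U _ _ u h => ⟨fun a => AzInvLib.pi_ext U fun i => by
        have h' := (h i).1 a
        simp only [Units.coe_map] at h'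
        simpa [AzInvLib.gmap_tmul] using h',
      AzInvLib.pi_ext U fun i => by
        have h' := (h i).2
        simp only [Units.coe_map] at h'
        rw [map_mul, map_one, AzInvLib.gmap_lTensor]
        exact h'⟩)
    (fun T _ _ hT => by
      haveI := hT.hens; haveI := hT.sep; haveI := hT.flat
      obtain ⟨u₀, hu₀, hu₀'⟩ := AzInvLib.exists_unitary_over (T := T) hlam hfix (hT.exists_sqrt hsq) hn hA t ψ hψ
      obtain ⟨U, _, _, hE, ξ, u, hξu, hu⟩ := AzInvLib.spread_inner hT ψ u₀ hu₀
      obtain ⟨V, _, _, hV, g, ξ', hξ', hk⟩ := AzInvLib.exists_away_kill ξ (M := A)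
        (fun _ : Unit => (t.linS S lam).lTensor U (u : U ⊗[S] A) * u - 1) (fun _ => by
          rw [map_sub, map_mul, map_one, AzInvLib.gmap_lTensor, hξu, hu₀', sub_self])
      refine ⟨V, inferInstance, inferInstance, hV, ξ', Units.map (AzInvLib.gmap g).toMonoidHom u, fun a => ?_, ?_⟩
      · have := congrArg (AzInvLib.gmap g) (hu a)
        simpa [AzInvLib.gmap_tmul] using this
      · have := hk ()
        rw [map_sub, map_mul, map_one, AzInvLib.gmap_lTensor, sub_eq_zero] at this
        exact this)
  refine ⟨U, inferInstance, inferInstance, hE, hFF, u, hu', fun x => ?_⟩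
  induction x with
  | zero => simp
  | add a b ha hb => rw [map_add, ha, hb, mul_add, add_mul]
  | tmul s a =>
    have e : (s ⊗ₜ[S] a : U ⊗[S] A) = s • ((1 : U) ⊗ₜ[S] a) := by
      rw [TensorProduct.smul_tmul', smul_eq_mul, mul_one]
    rw [e, map_smul, mul_smul_comm, smul_mul_assoc, ← hu a, Units.mul_inv_cancel_right]
    simp [Algebra.TensorProduct.congr_apply]

end Groth.Agent.S17355
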