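import Groth.Statements.S17356
import Groth.Agent.AzInvLib.Global

set_option autoImplicit false
universe u v w
open scoped TensorProduct
open AzInv

namespace Groth.Agent.S17356

/-- Let `R` be a commutative ring with an involution `lam` whose fixed ring is exactly `S`, and let `A`
be an Azumaya `R`-algebra of degree `n ≥ 1`. Then `A` becomes a matrix algebra after base change
along an etale covering of `S` (and not merely of `R`): there are an etale faithfully flat
`S`-algebra `S'` and an `S'`-algebra isomorphism from `S' ⊗_S A` to the `n × n` matrices over `S'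
⊗_S R` that carries multiplication by `1 ⊗ r`, for `r` in `R`, to multiplication by the scalar
matrix `1 ⊗ r`. (The source states this for a good quotient of schemes by an involution; the row is
the affine case `Spec R → Spec S`.) -/
theorem result (S : Type u) (R : Type v) [CommRing S] [CommRing R] [Algebra S R]
    (lam : R ≃ₐ[S] R) (hlam : ∀ r, lam (lam r) = r) (hfix : RInv.IsFixedRing S R lam.toRingEquiv)
    (A : Type w) [Ring A] [Algebra S A] [Algebra R A] [IsScalarTower S R A]
    (n : ℕ) (hn : 0 < n) (hA : AzInv.IsAzumayaDeg R A n) :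
    ∃ (S' : Type u) (_ : CommRing S') (_ : Algebra S S') (_ : Algebra.Etale S S')
      (_ : Module.FaithfullyFlat S S') (f : S' ⊗[S] A ≃ₐ[S'] Matrix (Fin n) (Fin n) (S' ⊗[S] R)),
      ∀ (r : R) (x : S' ⊗[S] A),
        f (((1 : S') ⊗ₜ[S] algebraMap R A r) * x) = Matrix.scalar (Fin n) ((1 : S') ⊗ₜ[S] r) * f x := by
  obtain ⟨hP, hF⟩ := AzInvLib.projective_finite hA
  haveI := hP; haveI := hF
  obtain ⟨U, _, _, hE, hFF, ⟨i⟩⟩ := AzInvLib.exists_cover_iso (R := R) (A := A) (A' := Matrix (Fin n) (Fin n) R)
    (σ := LinearMap.id) (σ' := LinearMap.id) id (fun _ _ => rfl) (fun _ _ => rfl) fun (T : Type u) [CommRing T] [Algebra S T] (hT : AzInvLib.IsPoint S T) => by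
      haveI := hT.hens; haveI := hT.sep; haveI := hT.flat
      obtain ⟨Φ, hΦ⟩ := AzInvLib.exists_split (T := T) (lam := lam) n hA hlam hfix
      refine ⟨AzInvLib.Iso.ofEquiv (Φ.trans (AlgEquiv.ofBijective _
        (AzInvLib.theta_bijective (S := S) T R (Fin n))).symm) (fun r => ?_) (fun a => ?_)⟩
      · rw [AlgEquiv.trans_apply, hΦ, AlgEquiv.symm_apply_eq]
        exact (AzInvLib.theta_scalar r).symm
      · simp
  let θ := AlgEquiv.ofBijective _ (AzInvLib.theta_bijective (S := S) U R (Fin n))
  refine ⟨U, inferInstance, inferInstance, hE, hFF, i.toEquiv.trans θ, fun r x => ?_⟩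
  rw [map_mul, AlgEquiv.trans_apply, i.toEquiv_apply, AzInvLib.ext_one_tmul, i.scal]
  congr 1
  exact (AzInvLib.theta_scalar r).trans rfl

end Groth.Agent.S17356
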