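import Groth.Statements.S17357
import Groth.Agent.AzInvLib.Global

set_option autoImplicit false
universe u v w
open scoped TensorProduct
open AzInv

namespace Groth.Agent.S17357

/-- Let `R` be a commutative ring with an involution `lam` whose fixed ring is exactly `S`, let `A` be
an Azumaya `R`-algebra of degree `n ≥ 1` and `ψ` an `R`-algebra automorphism of `A`. Then `ψ`
becomes an inner automorphism after base change along an etale covering of `S` (and not merely of
`R`): there are an etale faithfully flat `S`-algebra `S'` and a unit `u` of `S' ⊗_S A` such that `id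
⊗ ψ` is `x ↦ u x u⁻¹`. (The source states this for a good quotient of schemes by an involution; the
row is the affine case `Spec R → Spec S`.) -/
theorem result (S : Type u) (R : Type v) [CommRing S] [CommRing R] [Algebra S R]
    (lam : R ≃ₐ[S] R) (hlam : ∀ r, lam (lam r) = r) (hfix : RInv.IsFixedRing S R lam.toRingEquiv)
    (A : Type w) [Ring A] [Algebra S A] [Algebra R A] [IsScalarTower S R A]
    (n : ℕ) (hn : 0 < n) (hA : AzInv.IsAzumayaDeg R A n) (ψ : A ≃ₐ[R] A) :
    ∃ (S' : Type u) (_ : CommRing S') (_ : Algebra S S') (_ : Algebra.Etale S S')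
      (_ : Module.FaithfullyFlat S S') (u : (S' ⊗[S] A)ˣ),
      ∀ x : S' ⊗[S] A,
        Algebra.TensorProduct.congr (AlgEquiv.refl : S' ≃ₐ[S'] S') (ψ.restrictScalars S) x =
          ↑u * x * ↑u⁻¹ := by
  obtain ⟨hP, hF⟩ := AzInvLib.projective_finite hA
  haveI := hP; haveI := hF
  obtain ⟨U, _, _, hE, hFF, u, hu⟩ := AzInvLib.exists_cover_units (S := S) (R := R) (A := A)
    (fun (U : Type u) [CommRing U] [Algebra S U] (u : (U ⊗[S] A)ˣ) =>
      ∀ a : A, ((1 : U) ⊗ₜ ψ a) * (u : U ⊗[S] A) = (u : U ⊗[S] A) * ((1 : U) ⊗ₜ a))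
    (fun ι _ _ U _ _ u h a => AzInvLib.pi_ext U fun i => by
      have h' := h i a
      simp only [Units.coe_map] at h'
      simpa [AzInvLib.gmap_tmul] using h')
    (fun T _ _ hT => by
      haveI := hT.hens; haveI := hT.sep; haveI := hT.flat
      obtain ⟨u₀, hu₀⟩ := AzInvLib.exists_inner_over (T := T) hlam hfix hn hA ψ
      obtain ⟨U, _, _, hE, ξ, u, -, hu⟩ := AzInvLib.spread_inner hT ψ u₀ hu₀
      exact ⟨U, inferInstance, inferInstance, hE, ξ, u, hu⟩)
  refine ⟨U, inferInstance, inferInstance, hE, hFF, u, fun x => ?_⟩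
  induction x with
  | zero => simp
  | add a b ha hb => rw [map_add, ha, hb, mul_add, add_mul]
  | tmul t a =>
    have e : (t ⊗ₜ[S] a : U ⊗[S] A) = t • ((1 : U) ⊗ₜ[S] a) := by
      rw [TensorProduct.smul_tmul', smul_eq_mul, mul_one]
    rw [e, map_smul, mul_smul_comm, smul_mul_assoc, ← hu a, Units.mul_inv_cancel_right]
    simp [Algebra.TensorProduct.congr_apply]

end Groth.Agent.S17357
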