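import Groth.Statements.S17358
import Groth.Agent.AzInvLib.Sign

set_option autoImplicit false
universe u v w
open scoped TensorProduct
open AzInv

namespace Groth.Agent.S17358

/-- Let `R` be a commutative ring with an involution `lam` whose fixed ring is exactly `S`; assume that
units have square roots locally for the etale topology of `S` (every unit of an etale `S`-algebra
becomes a square in some etale faithfully flat extension), and that either `2` is a unit in `S` and
the quotient `Spec R → Spec S` is everywhere ramified (for no prime `p` of `S` is `S_p ⊗_S R` a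
quadratic etale `S_p`-algebra; the case `R = S` is included), or `R` is a quadratic etale
`S`-algebra (the unramified case). Then every `lam`-involution `t` of an Azumaya `R`-algebra `A` of
degree `n ≥ 1` is ordinary: there are a global invertible `n × n` matrix `w` over `R` and an element
`e` of `R` with `lam`-transpose of `w` equal to `e • w` and `lam e * e = 1`, such that `(A, t)`
becomes isomorphic, after an etale faithfully flat base change of `S`, to the matrix algebra over
`R` with the involution `x ↦ w * (lam-transpose of x) * w⁻¹` (equivalently `x ↦ (a x a⁻¹)` followed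
by the `lam`-transpose, for the global matrix `a` whose `lam`-transpose is `w⁻¹`). (The source
states this for an exact quotient of a locally ringed topos with involution; the row is the affine
case `Spec R → Spec S`, with etale coverings of `Spec S` replaced by a single etale faithfully flat
`S`-algebra.) -/
theorem result (S : Type u) (R : Type v) [CommRing S] [CommRing R] [Algebra S R]
    (lam : R ≃ₐ[S] R) (hlam : ∀ r, lam (lam r) = r) (hfix : RInv.IsFixedRing S R lam.toRingEquiv)
    (hsq : ∀ (S₁ : Type u) [CommRing S₁] [Algebra S S₁] [Algebra.Etale S S₁] (x : S₁ˣ),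
      ∃ (S₂ : Type u) (_ : CommRing S₂) (_ : Algebra S₁ S₂) (_ : Algebra.Etale S₁ S₂)
        (_ : Module.FaithfullyFlat S₁ S₂) (y : S₂), y * y = algebraMap S₁ S₂ ↑x)
    (hram : (IsUnit (2 : S) ∧ ∀ p : PrimeSpectrum S,
        ¬ RInv.IsQuadEtale (Localization.AtPrime p.asIdeal) (Localization.AtPrime p.asIdeal ⊗[S] R)) ∨
      RInv.IsQuadEtale S R)
    (A : Type w) [Ring A] [Algebra S A] [Algebra R A] [IsScalarTower S R A]
    (n : ℕ) (hn : 0 < n) (hA : AzInv.IsAzumayaDeg R A n) (t : AzInv.LamInv R A lam) :
    ∃ (w : (Matrix (Fin n) (Fin n) R)ˣ) (e : R)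
      (hw : AzInv.LamInv.transpose lam (Fin n) hlam (↑w : Matrix (Fin n) (Fin n) R) = e • (↑w : Matrix (Fin n) (Fin n) R))
      (he : lam e * e = 1),
      AzInv.LocIsoEt S lam t ((AzInv.LamInv.transpose lam (Fin n) hlam).conj w e hw he) := by
  obtain ⟨hP, hF⟩ := AzInvLib.projective_finite hA
  haveI := hP; haveI := hF
  rcases hram with ⟨h2, hram⟩ | hq
  swap
  · have hw : AzInv.LamInv.transpose lam (Fin n) hlam (↑(1 : (Matrix (Fin n) (Fin n) R)ˣ) : Matrix (Fin n) (Fin n) R) =
        (1 : R) • (↑(1 : (Matrix (Fin n) (Fin n) R)ˣ) : Matrix (Fin n) (Fin n) R) := by simp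
    refine ⟨1, 1, hw, by simp, (AzInvLib.locIsoEt_iff _ _).2 (AzInvLib.exists_cover_iso (R := R) (fun r => lam r)
      (fun r a => t.map_smul r a)
      (fun r a => ((AzInv.LamInv.transpose lam (Fin n) hlam).conj 1 1 hw (by simp)).map_smul r a) fun T _ _ hT => ?_)⟩
    haveI := hT.hens; haveI := hT.sep; haveI := hT.flat
    obtain ⟨a, ha⟩ := AzInvLib.exists_unit_point T hlam hfix hq
    rcases AzInvLib.exists_model_iso (T := T) hlam hfix (hT.exists_sqrt hsq) hn hA (Or.inl ⟨a, ha⟩) t
      with ⟨⟨i⟩⟩ | ⟨hno, -⟩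
    · exact ⟨i.trans (AzInvLib.Iso.ofAlgEquiv T AlgEquiv.refl fun x => by simp)⟩
    · exact absurd ha (hno a)
  obtain ⟨ε, hε, hsign⟩ := AzInvLib.exists_sign hlam hfix h2
    (fun T _ _ hT => AzInvLib.not_unit_diff_of_ramified hlam hfix hram hT) hn hA t
  by_cases heven : ∃ m, n = m * 2
  swap
  · have hw : AzInv.LamInv.transpose lam (Fin n) hlam (↑(1 : (Matrix (Fin n) (Fin n) R)ˣ) : Matrix (Fin n) (Fin n) R) =
        (1 : R) • (↑(1 : (Matrix (Fin n) (Fin n) R)ˣ) : Matrix (Fin n) (Fin n) R) := by simp
    refine ⟨1, 1, hw, by simp, (AzInvLib.locIsoEt_iff _ _).2 (AzInvLib.exists_cover_iso (R := R) (fun r => lam r)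
      (fun r a => t.map_smul r a)
      (fun r a => ((AzInv.LamInv.transpose lam (Fin n) hlam).conj 1 1 hw (by simp)).map_smul r a) fun T _ _ hT => ?_)⟩
    obtain ⟨-, ⟨i⟩⟩ := (hsign T hT).resolve_right fun ⟨_, m, hm, _⟩ => heven ⟨m, hm⟩
    exact ⟨i.trans (AzInvLib.Iso.ofAlgEquiv T AlgEquiv.refl fun x => by simp)⟩
  obtain ⟨m, rfl⟩ := heven
  let e : Fin (m * 2) ≃ Fin m × Fin 2 := finProdFinEquiv.symm
  let J : Matrix (Fin (m * 2)) (Fin (m * 2)) R := (AzInvLib.Jm R (Fin m)).submatrix e e
  have hJJ : J * J = -1 := by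
    rw [show J * J = (AzInvLib.Jm R (Fin m) * AzInvLib.Jm R (Fin m)).submatrix e e from
      (Matrix.submatrix_mul_equiv _ _ _ _ _), AzInvLib.Jm_mul_self]
    ext i j
    by_cases h : i = j <;> simp [h]
  set a : R := algebraMap S R ε with ha
  have haa : a * a = a := by rw [ha, ← map_mul, hε]
  have hla : lam a = a := lam.commutes ε
  have hJt : AzInv.lamTr lam J = -J := by
    ext i j
    show lam (AzInvLib.Jm R (Fin m) (e j) (e i)) = _
    exact congrFun (congrFun (AzInvLib.Jm_st (κ := Fin m) lam.toRingEquiv) (e i)) (e j)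
  let w : (Matrix (Fin (m * 2)) (Fin (m * 2)) R)ˣ :=
    { val := a • (1 : Matrix (Fin (m * 2)) (Fin (m * 2)) R) + (1 - a) • J
      inv := a • (1 : Matrix (Fin (m * 2)) (Fin (m * 2)) R) + (-(1 - a)) • J
      val_inv := by
        simp only [add_mul, mul_add, smul_mul_smul_comm, one_mul, mul_one, hJJ, haa]
        rw [show a * -(1 - a) = 0 by linear_combination haa, show (1 - a) * a = 0 by linear_combination -haa,
          show (1 - a) * -(1 - a) = -(1 - a) by linear_combination -haa, zero_smul]
        module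
      inv_val := by
        simp only [add_mul, mul_add, smul_mul_smul_comm, one_mul, mul_one, hJJ, haa]
        rw [show -(1 - a) * a = 0 by linear_combination haa, show a * (1 - a) = 0 by linear_combination -haa,
          show -(1 - a) * (1 - a) = -(1 - a) by linear_combination -haa, zero_smul]
        module }
  have hw : AzInv.LamInv.transpose lam (Fin (m * 2)) hlam (↑w : Matrix (Fin (m * 2)) (Fin (m * 2)) R) =
      (2 * a - 1) • (↑w : Matrix (Fin (m * 2)) (Fin (m * 2)) R) := by
    show AzInv.LamInv.transpose lam (Fin (m * 2)) hlam (a • 1 + (1 - a) • J) = (2 * a - 1) • (a • 1 + (1 - a) • J)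
    rw [AzInv.LamInv.map_add, AzInv.LamInv.map_smul, AzInv.LamInv.map_smul, AzInv.LamInv.map_one,
      show AzInv.LamInv.transpose lam (Fin (m * 2)) hlam J = -J from hJt, map_sub, map_one, hla,
      smul_add, smul_smul, smul_smul,
      show (2 * a - 1) * a = a by linear_combination 2 * haa,
      show (2 * a - 1) * (1 - a) = -(1 - a) by linear_combination -2 * haa, neg_smul, smul_neg]
  have he : lam (2 * a - 1) * (2 * a - 1) = 1 := by
    rw [map_sub, map_mul, map_ofNat, map_one, hla]; linear_combination 4 * haa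
  refine ⟨w, 2 * a - 1, hw, he, (AzInvLib.locIsoEt_iff _ _).2 (AzInvLib.exists_cover_iso (R := R) (fun r => lam r)
    (fun r x => t.map_smul r x)
    (fun r x => ((AzInv.LamInv.transpose lam (Fin (m * 2)) hlam).conj w _ hw he).map_smul r x) fun T _ _ hT => ?_)⟩
  have hkey : ∀ x : Matrix (Fin (m * 2)) (Fin (m * 2)) R,
      (AzInv.LamInv.transpose lam (Fin (m * 2)) hlam).conj w _ hw he x =
        ε • AzInv.LamInv.transpose lam (Fin (m * 2)) hlam x +
          (1 - ε) • (J * AzInv.LamInv.transpose lam (Fin (m * 2)) hlam x * -J) := fun x => by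
    rw [AzInv.LamInv.conj_apply]
    show (a • 1 + (1 - a) • J) * _ * (a • 1 + (-(1 - a)) • J) = _
    rw [← algebraMap_smul R ε, ← algebraMap_smul R (1 - ε), map_sub, map_one, ← ha]
    simp only [add_mul, mul_add, smul_mul_assoc, mul_smul_comm, one_mul, mul_one, smul_add, smul_smul, Matrix.mul_neg,
      smul_neg]
    rw [haa, show -(1 - a) * a = 0 by linear_combination haa, show a * (1 - a) = 0 by linear_combination -haa,
      show -(1 - a) * (1 - a) = -(1 - a) by linear_combination -haa, zero_smul, zero_smul, neg_smul,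
      zero_add, add_zero]
  rcases hsign T hT with ⟨h1, ⟨i⟩⟩ | ⟨h0, k, hk, ⟨i⟩⟩
  · refine ⟨i.trans (AzInvLib.Iso.ofEquiv AlgEquiv.refl (fun r => rfl) fun x => ?_)⟩
    show (1 : T) ⊗ₜ[S] _ = (1 : T) ⊗ₜ[S] _
    rw [AzInv.LamInv.linS_apply, AzInv.LamInv.linS_apply, hkey, TensorProduct.tmul_add, ← TensorProduct.smul_tmul,
      ← TensorProduct.smul_tmul, Algebra.smul_def, Algebra.smul_def, map_sub, map_one, h1, sub_self,
      mul_one, zero_mul, TensorProduct.zero_tmul, add_zero]
  · obtain rfl : k = m := by omega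
    refine ⟨i.trans ((AzInvLib.Iso.ofEquiv (Algebra.TensorProduct.congr AlgEquiv.refl
      ((Matrix.reindexAlgEquiv R R e).restrictScalars S)) (fun r => ?_) fun x => ?_).symm)⟩
    · simp [Algebra.TensorProduct.congr_apply]
    · rw [AzInv.LamInv.linS_apply, hkey, TensorProduct.tmul_add, ← TensorProduct.smul_tmul,
        ← TensorProduct.smul_tmul, Algebra.smul_def, Algebra.smul_def, map_sub, map_one, h0, sub_zero]
      simp only [mul_one, one_mul, zero_mul, mul_zero, TensorProduct.zero_tmul, zero_add]
      simp only [Algebra.TensorProduct.congr_apply, Algebra.TensorProduct.map_tmul,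
        LinearMap.lTensor_tmul, AlgEquiv.coe_refl, id_eq, AlgEquiv.coe_toAlgHom, AlgEquiv.restrictScalars_apply,
        AzInv.LamInv.linS_apply]
      congr 1
      rw [AzInvLib.negInv_apply]
      simp only [J, Matrix.reindexAlgEquiv_apply, Matrix.reindex_apply, Matrix.submatrix_mul_equiv,
        ← Matrix.submatrix_neg, Matrix.submatrix_submatrix]
      ext p q
      simp [Matrix.mul_apply, AzInvLib.st_apply]
      conv_rhs => rw [← Equiv.sum_comp e]
      refine Finset.sum_congr rfl fun b _ => ?_
      conv_rhs => rw [← Equiv.sum_comp e]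
      simp

end Groth.Agent.S17358
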