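import Groth.Statements.S17359
import Groth.Agent.AzInvLib.Sign

set_option autoImplicit false
universe u w
open scoped TensorProduct
open AzInv

namespace Groth.Agent.S17359

/-- Let `R` be a nontrivial commutative ring with connected spectrum in which `2` is a unit, with the
trivial involution (so that the involutions considered are of the first kind and the quotient is the
trivial one). Then there are exactly two types, the orthogonal and the symplectic one; this row
states the first half: every involution of the first kind `t` of an Azumaya `R`-algebra `A` of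
degree `n ≥ 1` has the same type either as the identity of `R` or as the standard symplectic
involution `x ↦ J xᵀ J⁻¹` of the `2 × 2` matrix algebra, `J` the matrix with rows `(0, -1)` and `(1,
0)` (same type: suitable matrix algebras over the two, with the induced involutions, become
isomorphic as `R`-algebras with involution after an etale faithfully flat base change of `R`). (The
source states that the monoid of types is isomorphic to the group of global square roots of `1`, for
a locally ringed topos with trivial involution and `2` invertible; the row is the affine case with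
connected spectrum, where that group is `{1, -1}`.) -/
theorem result (R : Type u) [CommRing R] (hlam : ∀ r : R, (AlgEquiv.refl : R ≃ₐ[R] R) ((AlgEquiv.refl : R ≃ₐ[R] R) r) = r)
    [Nontrivial R] [ConnectedSpace (PrimeSpectrum R)] (h2 : IsUnit (2 : R))
    (J : (Matrix (Fin 2) (Fin 2) R)ˣ) (hJ : (↑J : Matrix (Fin 2) (Fin 2) R) = Matrix.of ![![0, -1], ![1, 0]])
    (hJt : AzInv.LamInv.transpose (AlgEquiv.refl : R ≃ₐ[R] R) (Fin 2) hlam (↑J : Matrix (Fin 2) (Fin 2) R) = (-1 : R) • (↑J : Matrix (Fin 2) (Fin 2) R))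
    (hneg : (AlgEquiv.refl : R ≃ₐ[R] R) (-1) * (-1) = 1)
    (A : Type w) [Ring A] [Algebra R A]
    (n : ℕ) (hn : 0 < n) (hA : AzInv.IsAzumayaDeg R A n) (t : AzInv.LamInv R A (AlgEquiv.refl : R ≃ₐ[R] R)) :
    AzInv.SameType R (AlgEquiv.refl : R ≃ₐ[R] R) t (AzInv.LamInv.self (AlgEquiv.refl : R ≃ₐ[R] R) hlam) ∨
      AzInv.SameType R (AlgEquiv.refl : R ≃ₐ[R] R) t ((AzInv.LamInv.transpose (AlgEquiv.refl : R ≃ₐ[R] R) (Fin 2) hlam).conj J (-1) hJt hneg) := by
  obtain ⟨hP, hF⟩ := AzInvLib.projective_finite hA
  haveI := hP; haveI := hF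
  haveI := AzInvLib.finite_matrix R A (Fin 1)
  haveI := AzInvLib.projective_matrix R A (Fin 1)
  obtain ⟨ε, hε, hsign⟩ := AzInvLib.exists_sign (S := R) hlam AzInvLib.isFixedRing_refl h2
    (fun T _ _ hT => by
      haveI := hT.hens
      exact AzInvLib.not_unit_diff_refl T) hn hA t
  have hcases : ε = 0 ∨ ε = 1 := by
    rcases isClopen_iff.1 (PrimeSpectrum.isClopen_iff.2 ⟨ε, hε, rfl⟩ :
        IsClopen (↑(PrimeSpectrum.basicOpen ε) : Set (PrimeSpectrum R))) with h | h
    · left
      have hn' : IsNilpotent ε := by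
        rw [← PrimeSpectrum.basicOpen_eq_bot_iff]
        exact SetLike.coe_injective h
      exact IsIdempotentElem.eq_zero_of_isNilpotent hε hn'
    · right
      have hu : IsUnit ε := by
        by_contra hn'
        obtain ⟨M, hM, hεM⟩ := exists_max_ideal_of_mem_nonunits hn'
        exact (h.ge (Set.mem_univ ⟨M, hM.isPrime⟩) : ε ∉ M) hεM
      exact hu.mul_left_cancel (by rw [hε, mul_one])
  rcases hcases with rfl | rfl
  · right
    obtain ⟨p⟩ : Nonempty (PrimeSpectrum R) := inferInstance
    obtain ⟨T₀, _, _, hT₀, -⟩ := AzInvLib.exists_point_at p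
    haveI := hT₀.hens
    obtain ⟨m, hm, -⟩ := ((hsign T₀ hT₀).resolve_left fun h => zero_ne_one ((map_zero (algebraMap R T₀)).symm.trans h.1)).2
    haveI := AzInvLib.finite_matrix R (Matrix (Fin 2) (Fin 2) R) (Fin m)
    haveI := AzInvLib.projective_matrix R (Matrix (Fin 2) (Fin 2) R) (Fin m)
    refine ⟨1, m, one_pos, by omega, (AzInvLib.locIsoEt_iff _ _).2 (AzInvLib.exists_cover_iso (R := R)
      (fun r => (AlgEquiv.refl : R ≃ₐ[R] R) r) (fun r a => (t.matrix (Fin 1)).map_smul r a)
      (fun r a => (((AzInv.LamInv.transpose (AlgEquiv.refl : R ≃ₐ[R] R) (Fin 2) hlam).conj J (-1) hJt hneg).matrix (Fin m)).map_smul r a)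
      fun T _ _ hT => ?_)⟩
    haveI := hT.hens
    obtain ⟨m', hm', ⟨i⟩⟩ := ((hsign T hT).resolve_left fun h => zero_ne_one ((map_zero (algebraMap R T)).symm.trans h.1)).2
    obtain rfl : m' = m := by omega
    exact ⟨((AzInvLib.Iso.ofAlgEquiv T (R := R) (σ := t.linS R (AlgEquiv.refl : R ≃ₐ[R] R))
        (σ' := (t.matrix (Fin 1)).linS R (AlgEquiv.refl : R ≃ₐ[R] R)) (AzInvLib.oneMatrix R A)
        (fun a => by ext i j; rfl)).symm.trans i).trans
      ((((AzInvLib.stdSymplectic T hlam J hJ hJt hneg).matrix (Fin m')).trans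
        (AzInvLib.negMatrix T hlam (Fin m') (Fin 1))).trans
        (AzInvLib.negReindex T hlam (Equiv.prodUnique (Fin m') (Fin 1)))).symm⟩
  · left
    haveI := AzInvLib.projective_matrix R R (Fin n)
    refine ⟨1, n, one_pos, hn, (AzInvLib.locIsoEt_iff _ _).2 (AzInvLib.exists_cover_iso (R := R)
      (fun r => (AlgEquiv.refl : R ≃ₐ[R] R) r) (fun r a => (t.matrix (Fin 1)).map_smul r a)
      (fun r a => ((AzInv.LamInv.self (AlgEquiv.refl : R ≃ₐ[R] R) hlam).matrix (Fin n)).map_smul r a) fun T _ _ hT => ?_)⟩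
    haveI := hT.hens
    obtain ⟨i⟩ := ((hsign T hT).resolve_right fun h => one_ne_zero ((map_one (algebraMap R T)).symm.trans h.1)).2
    exact ⟨(AzInvLib.Iso.ofAlgEquiv T (R := R) (σ := t.linS R (AlgEquiv.refl : R ≃ₐ[R] R))
        (σ' := (t.matrix (Fin 1)).linS R (AlgEquiv.refl : R ≃ₐ[R] R)) (AzInvLib.oneMatrix R A)
        (fun a => by ext i j; rfl)).symm.trans i⟩

end Groth.Agent.S17359
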