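import Groth.Statements.S17361
import Groth.Agent.AzInvLib.Invariant

set_option autoImplicit false
universe u v w w'
open scoped TensorProduct
open AzInv

namespace Groth.Agent.S17361

/-- Let `R` be a commutative ring with an involution `lam` whose fixed ring is exactly `S`, with `2` a
unit in `S`, and let `(A, t)` and `(A', t')` be Azumaya `R`-algebras of degrees `n, n' ≥ 1` with
`lam`-involutions. For a prime `q` of `R` in the ramification locus, i.e. such that `lam` is the
identity modulo `q`, the involution induced by `t` on the central simple algebra `k(q) ⊗_R A` is of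
the first kind, and it is orthogonal precisely when the images of the `t`-symmetric elements of `A`
span a subspace of dimension `n (n + 1) / 2` over `k(q)` (and symplectic otherwise). Then `t` and
`t'` have the same type (for some positive sizes, the matrix algebras over `A` and `A'` with the
induced involutions become isomorphic as `R`-algebras with involution after an etale faithfully flat
base change of `S`) if and only if at every prime of the ramification locus the involutions induced
by `t` and by `t'` are both orthogonal or both symplectic. (The source states this for a good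
quotient of schemes by an involution, with `2` invertible, through a locally constant sign function
on the ramification locus; the row is the affine case `Spec R → Spec S` with the signs spelled out
by dimensions of symmetric elements.) -/
theorem result (S : Type u) (R : Type v) [CommRing S] [CommRing R] [Algebra S R]
    (lam : R ≃ₐ[S] R) (hlam : ∀ r, lam (lam r) = r) (hfix : RInv.IsFixedRing S R lam.toRingEquiv)
    (h2 : IsUnit (2 : S))
    (A : Type w) [Ring A] [Algebra S A] [Algebra R A] [IsScalarTower S R A]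
    (A' : Type w') [Ring A'] [Algebra S A'] [Algebra R A'] [IsScalarTower S R A']
    (n n' : ℕ) (hn : 0 < n) (hn' : 0 < n') (hA : AzInv.IsAzumayaDeg R A n) (hA' : AzInv.IsAzumayaDeg R A' n')
    (t : AzInv.LamInv R A lam) (t' : AzInv.LamInv R A' lam) :
    AzInv.SameType S lam t t' ↔
      ∀ q : PrimeSpectrum R, (∀ r : R, lam r - r ∈ q.asIdeal) →
        (Module.finrank q.asIdeal.ResidueField
            (Submodule.span q.asIdeal.ResidueField
              (Set.range fun a : {a : A // t a = a} => (1 : q.asIdeal.ResidueField) ⊗ₜ[R] (a : A))) = Nat.choose (n + 1) 2 ↔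
          Module.finrank q.asIdeal.ResidueField
            (Submodule.span q.asIdeal.ResidueField
              (Set.range fun a : {a : A' // t' a = a} => (1 : q.asIdeal.ResidueField) ⊗ₜ[R] (a : A'))) = Nat.choose (n' + 1) 2) := by
  obtain ⟨hP, hF⟩ := AzInvLib.projective_finite hA
  obtain ⟨hP', hF'⟩ := AzInvLib.projective_finite hA'
  haveI := hP; haveI := hF; haveI := hP'; haveI := hF'
  constructor
  · rintro ⟨m, m', hm, hm', hloc⟩ q hq
    obtain ⟨U, _, _, hE, hFF, ⟨iU⟩⟩ := (AzInvLib.locIsoEt_iff _ _).1 hloc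
    obtain ⟨T, _, _, hT, hTp⟩ := AzInvLib.exists_point_at (PrimeSpectrum.comap (algebraMap S R) q)
    haveI := hT.hens; haveI := hT.sep; haveI := hT.flat; haveI := hE; haveI := hFF
    obtain ⟨g⟩ := hT.exists_hom' (U := U)
    have iT := AzInvLib.Iso.map g iU
    have h2T : IsUnit (2 : T) := by simpa [map_ofNat] using h2.map (algebraMap S T)
    haveI : Nonempty (Fin m) := ⟨⟨0, hm⟩⟩
    haveI : Nonempty (Fin m') := ⟨⟨0, hm'⟩⟩
    haveI : Nonempty (Fin n) := ⟨⟨0, hn⟩⟩
    haveI : Nonempty (Fin n') := ⟨⟨0, hn'⟩⟩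
    have hs := AzInvLib.sign_at_prime hn hA t hlam hfix h2 q hq hT hTp
    have hs' := AzInvLib.sign_at_prime hn' hA' t' hlam hfix h2 q hq hT hTp
    rcases AzInvLib.exists_model_iso (T := T) hlam hfix (AzInvLib.exists_sqrt_of_two h2T) hn hA (Or.inr (Or.inr h2T)) t
      with ⟨⟨i⟩⟩ | ⟨hno, -, k, hk, ⟨i⟩⟩ <;>
      rcases AzInvLib.exists_model_iso (T := T) hlam hfix (AzInvLib.exists_sqrt_of_two h2T) hn' hA' (Or.inr (Or.inr h2T)) t'
      with ⟨⟨j⟩⟩ | ⟨hno', -, k', hk', ⟨j⟩⟩
    · exact iff_of_true (hs.1 ⟨i⟩) (hs'.1 ⟨j⟩)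
    · exact (AzInvLib.not_iso_pos_neg (T := T) hlam hfix hno' h2T (ι := Fin m × Fin n) (κ := Fin m' × Fin k')
        ⟨((((AzInvLib.posMatrix T hlam (Fin m) (Fin n)).symm.trans (i.symm.matrix (Fin m))).trans iT).trans
          (j.matrix (Fin m'))).trans (AzInvLib.negMatrix T hlam (Fin m') (Fin k'))⟩).elim
    · exact (AzInvLib.not_iso_pos_neg (T := T) hlam hfix hno h2T (ι := Fin m' × Fin n') (κ := Fin m × Fin k)
        ⟨((((AzInvLib.posMatrix T hlam (Fin m') (Fin n')).symm.trans (j.symm.matrix (Fin m'))).trans iT.symm).trans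
          (i.matrix (Fin m))).trans (AzInvLib.negMatrix T hlam (Fin m) (Fin k))⟩).elim
    · exact iff_of_false (hs.2 k hk ⟨i⟩) (hs'.2 k' hk' ⟨j⟩)
  · intro h
    haveI := AzInvLib.finite_matrix R A (Fin n')
    haveI := AzInvLib.projective_matrix R A (Fin n')
    haveI := AzInvLib.finite_matrix R A' (Fin n)
    haveI := AzInvLib.projective_matrix R A' (Fin n)
    refine ⟨n', n, hn', hn, (AzInvLib.locIsoEt_iff _ _).2 (AzInvLib.exists_cover_iso (R := R) (fun r => lam r)
      (fun r a => (t.matrix (Fin n')).map_smul r a) (fun r a => (t'.matrix (Fin n)).map_smul r a) fun T _ _ hT => ?_)⟩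
    haveI := hT.hens; haveI := hT.sep; haveI := hT.flat
    have h2T : IsUnit (2 : T) := by simpa [map_ofNat] using h2.map (algebraMap S T)
    have getq : (∀ a : T ⊗[S] R, ¬ IsUnit (a - AzInvLib.bcLam lam T a)) →
        ∃ q : PrimeSpectrum R, (∀ r : R, lam r - r ∈ q.asIdeal) ∧ hT.prime = PrimeSpectrum.comap (algebraMap S R) q := by
      intro hno
      obtain ⟨q, hq, hqp⟩ := AzInvLib.exists_isPrime_over hT.prime.asIdeal hlam hfix
      exact ⟨⟨q, hq⟩, (AzInvLib.forall_diff_mem_iff hT.prime.asIdeal hlam hfix q hqp).2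
        (AzInvLib.criterion_of_not_unit_diff hlam hT hno), PrimeSpectrum.ext hqp.symm⟩
    rcases AzInvLib.exists_model_iso (T := T) hlam hfix (AzInvLib.exists_sqrt_of_two h2T) hn hA (Or.inr (Or.inr h2T)) t
      with ⟨⟨i⟩⟩ | ⟨hno, -, k, hk, ⟨i⟩⟩ <;>
      rcases AzInvLib.exists_model_iso (T := T) hlam hfix (AzInvLib.exists_sqrt_of_two h2T) hn' hA' (Or.inr (Or.inr h2T)) t'
      with ⟨⟨j⟩⟩ | ⟨hno', -, k', hk', ⟨j⟩⟩
    · exact ⟨((((i.matrix (Fin n')).trans (AzInvLib.posMatrix T hlam (Fin n') (Fin n))).trans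
        (AzInvLib.posReindex T hlam (Equiv.prodComm (Fin n') (Fin n)))).trans
        (AzInvLib.posMatrix T hlam (Fin n) (Fin n')).symm).trans (j.matrix (Fin n)).symm⟩
    · obtain ⟨q, hq, hqp⟩ := getq hno'
      exact absurd ((h q hq).1 ((AzInvLib.sign_at_prime hn hA t hlam hfix h2 q hq hT hqp).1 ⟨i⟩))
        ((AzInvLib.sign_at_prime hn' hA' t' hlam hfix h2 q hq hT hqp).2 k' hk' ⟨j⟩)
    · obtain ⟨q, hq, hqp⟩ := getq hno
      exact absurd ((h q hq).2 ((AzInvLib.sign_at_prime hn' hA' t' hlam hfix h2 q hq hT hqp).1 ⟨j⟩))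
        ((AzInvLib.sign_at_prime hn hA t hlam hfix h2 q hq hT hqp).2 k hk ⟨i⟩)
    · have hc : Fintype.card (Fin n' × Fin k) = Fintype.card (Fin n × Fin k') := by
        simp only [Fintype.card_prod, Fintype.card_fin]; subst hk hk'; ring
      exact ⟨((((i.matrix (Fin n')).trans (AzInvLib.negMatrix T hlam (Fin n') (Fin k))).trans
        (AzInvLib.negReindex T hlam (Fintype.equivOfCardEq hc))).trans
        (AzInvLib.negMatrix T hlam (Fin n) (Fin k')).symm).trans (j.matrix (Fin n)).symm⟩

end Groth.Agent.S17361
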