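import Groth.Statements.S17362
import Groth.Agent.AzInvLib.Invariant

set_option autoImplicit false
universe u v w
open scoped TensorProduct
open AzInv

namespace Groth.Agent.S17362

/-- Let `R` be a commutative ring with an involution `lam` whose fixed ring is exactly `S`, with `2` a
unit in `S`, and let `(A, t)` be an Azumaya `R`-algebra of degree `n ≥ 1` with a `lam`-involution.
For a prime `q` of `R` in the ramification locus (`lam` is the identity modulo `q`) call `t`
orthogonal at `q` when the images of the `t`-symmetric elements of `A` span a subspace of `k(q) ⊗_R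
A` of dimension `n (n + 1) / 2` over `k(q)` (the induced involution of the central simple algebra
`k(q) ⊗_R A` is then orthogonal, and symplectic otherwise). Then this orthogonal/symplectic sign is
locally constant on the ramification locus: every such `q` has a basic open neighbourhood `D(f)`
such that at every prime of the ramification locus inside `D(f)` the sign is the same as at `q`.
(The source states this for a good quotient of schemes by an involution with `2` invertible, as
local constancy of a sign function on the ramification locus; the row is the affine case with the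
sign spelled out by dimensions of symmetric elements.) -/
theorem result (S : Type u) (R : Type v) [CommRing S] [CommRing R] [Algebra S R]
    (lam : R ≃ₐ[S] R) (hlam : ∀ r, lam (lam r) = r) (hfix : RInv.IsFixedRing S R lam.toRingEquiv)
    (h2 : IsUnit (2 : S))
    (A : Type w) [Ring A] [Algebra S A] [Algebra R A] [IsScalarTower S R A]
    (n : ℕ) (hn : 0 < n) (hA : AzInv.IsAzumayaDeg R A n) (t : AzInv.LamInv R A lam)
    (q : PrimeSpectrum R) (hq : ∀ r : R, lam r - r ∈ q.asIdeal) :
    ∃ f : R, f ∉ q.asIdeal ∧ ∀ q' : PrimeSpectrum R, (∀ r : R, lam r - r ∈ q'.asIdeal) → f ∉ q'.asIdeal →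
      (Module.finrank q'.asIdeal.ResidueField
          (Submodule.span q'.asIdeal.ResidueField
            (Set.range fun a : {a : A // t a = a} => (1 : q'.asIdeal.ResidueField) ⊗ₜ[R] (a : A))) = Nat.choose (n + 1) 2 ↔
        Module.finrank q.asIdeal.ResidueField
            (Submodule.span q.asIdeal.ResidueField
              (Set.range fun a : {a : A // t a = a} => (1 : q.asIdeal.ResidueField) ⊗ₜ[R] (a : A))) = Nat.choose (n + 1) 2) := by
  obtain ⟨hP, hF⟩ := AzInvLib.projective_finite hA
  haveI := hP; haveI := hF
  have hsm : ∀ r a, t.linS S lam (r • a) = lam r • t.linS S lam a := fun r a => t.map_smul r a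
  obtain ⟨T, _, _, hT, hTp⟩ := AzInvLib.exists_point_at (PrimeSpectrum.comap (algebraMap S R) q)
  haveI := hT.hens; haveI := hT.sep; haveI := hT.flat
  have h2T : IsUnit (2 : T) := by simpa [map_ofNat] using h2.map (algebraMap S T)
  obtain ⟨O, hO, hmem, hOq⟩ : ∃ O : Set (PrimeSpectrum S), IsOpen O ∧ hT.prime ∈ O ∧
      ∀ q' : PrimeSpectrum R, (∀ r : R, lam r - r ∈ q'.asIdeal) → PrimeSpectrum.comap (algebraMap S R) q' ∈ O →
        (Module.finrank q'.asIdeal.ResidueField
            (Submodule.span q'.asIdeal.ResidueField
              (Set.range fun a : {a : A // t a = a} => (1 : q'.asIdeal.ResidueField) ⊗ₜ[R] (a : A))) = Nat.choose (n + 1) 2 ↔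
          Module.finrank q.asIdeal.ResidueField
              (Submodule.span q.asIdeal.ResidueField
                (Set.range fun a : {a : A // t a = a} => (1 : q.asIdeal.ResidueField) ⊗ₜ[R] (a : A))) = Nat.choose (n + 1) 2) := by
    rcases AzInvLib.exists_model_iso (T := T) hlam hfix (AzInvLib.exists_sqrt_of_two h2T) hn hA (Or.inr (Or.inr h2T)) t
      with hi | ⟨-, -, m, hm, hi⟩
    · obtain ⟨O, hO, hmem, hiso⟩ := AzInvLib.exists_isOpen_iso (fun r => lam r) hsm
        (fun r a => (AzInv.LamInv.transpose lam (Fin n) hlam).map_smul r a) hT hi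
      refine ⟨O, hO, hmem, fun q' hq' hO' => ?_⟩
      obtain ⟨T', _, _, hT', hp'⟩ := AzInvLib.exists_point_at (PrimeSpectrum.comap (algebraMap S R) q')
      exact iff_of_true ((AzInvLib.sign_at_prime hn hA t hlam hfix h2 q' hq' hT' hp').1 (hiso T' hT' (hp' ▸ hO')))
        ((AzInvLib.sign_at_prime hn hA t hlam hfix h2 q hq hT hTp).1 hi)
    · obtain ⟨O, hO, hmem, hiso⟩ := AzInvLib.exists_isOpen_iso (fun r => lam r) hsm
        (fun r a => (AzInvLib.negInv lam hlam (Fin m)).map_smul r a) hT hi
      refine ⟨O, hO, hmem, fun q' hq' hO' => ?_⟩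
      obtain ⟨T', _, _, hT', hp'⟩ := AzInvLib.exists_point_at (PrimeSpectrum.comap (algebraMap S R) q')
      exact iff_of_false ((AzInvLib.sign_at_prime hn hA t hlam hfix h2 q' hq' hT' hp').2 m hm (hiso T' hT' (hp' ▸ hO')))
        ((AzInvLib.sign_at_prime hn hA t hlam hfix h2 q hq hT hTp).2 m hm hi)
  obtain ⟨_, ⟨f, rfl⟩, hf, hfO⟩ := PrimeSpectrum.isTopologicalBasis_basic_opens.exists_subset_of_mem_open hmem hO
  refine ⟨algebraMap S R f, fun h => ?_, fun q' hq' hfq' => hOq q' hq' (hfO hfq')⟩
  rw [hTp] at hf
  exact hf h

end Groth.Agent.S17362
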