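import Groth.Statements.S17363
import Groth.Agent.AzInvLib.FixedBC
import Groth.Agent.AzInvLib.Normal

set_option autoImplicit false
universe u v
open scoped TensorProduct
open RInv

namespace Groth.Agent.S17363

/-- Let `A` be a commutative ring with an involution `lam` whose fixed ring `B` is local; assume that
`lam` is the identity modulo the Jacobson radical of `A`, that `2` is a unit of `A`, and that `h` is
an invertible `2 × 2` matrix over `A` with `h = -(lam h)ᵀ` whose entries are congruent modulo the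
Jacobson radical to those of the matrix with rows `(0, 1)`, `(-1, 0)`. Then there are units `s, t`
of `B`, finitely many elements `f_i` of `B' = B[X, Y]/(X² - s, Y² - t)` (`B` with square roots of
`s` and `t` adjoined) that generate the unit ideal, and for every `i` an invertible `2 × 2` matrix
`v` over `B'_{f_i} ⊗_B A` (that is, `A` with the two square roots adjoined, localised at `f_i`;
`lam` extends so as to fix the square roots) such that `(lam v)ᵀ h v` is the matrix with rows `(0,
1)`, `(-1, 0)`. (The published statement writes the congruence with the plain transpose `vᵀ h v`,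
which fails in general: for a field `k` of characteristic not `2`, the ring `A` of formal power
series in `y` over `k`, with `B` its subring of series in `y²`, `lam y = -y` and `h` with rows `(y,
1)`, `(-1, y)`, satisfies every hypothesis, while `vᵀ h v` equal to the matrix with rows `(0, 1)`,
`(-1, 0)` would, added to its transpose, give `2y · vᵀ v = 0` and hence `det v = 0` over a nonzero
ring in which `y` is not a zero divisor. The proof computes the Gram matrix of the hermitian form
`(a, b) ↦ (lam a)ᵀ h b` in a new basis, which is `(lam v)ᵀ h v`, and that is what is stated here.) -/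
theorem result (B : Type u) (A : Type v) [CommRing B] [CommRing A]
    [Algebra B A] (lam : A ≃ₐ[B] A) (hlam : ∀ a, lam (lam a) = a) (hB : RInv.IsFixedRing B A lam.toRingEquiv)
    [IsLocalRing B] (hid : ∀ a : A, lam a - a ∈ Ring.jacobson A) (h2 : IsUnit (2 : A))
    (h : Matrix (Fin 2) (Fin 2) A) (hh : IsUnit h) (herm : -(h.map lam).transpose = h)
    (hJ : ∀ i j : Fin 2, h i j - Matrix.of ![![(0 : A), 1], ![-1, 0]] i j ∈ Ring.jacobson A) :
    ∃ (s t : Bˣ) (r : ℕ) (f : Fin r → (MvPolynomial (Fin 2) B ⧸ Ideal.span ({MvPolynomial.X 0 ^ 2 - MvPolynomial.C (s : B), MvPolynomial.X 1 ^ 2 - MvPolynomial.C (t : B)} : Set (MvPolynomial (Fin 2) B)))),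
      Ideal.span (Set.range f) = ⊤ ∧
      ∀ i : Fin r, ∃ v : Matrix (Fin 2) (Fin 2) (Localization.Away (f i) ⊗[B] A), IsUnit v ∧
        (v.map (Algebra.TensorProduct.congr (AlgEquiv.refl : Localization.Away (f i) ≃ₐ[Localization.Away (f i)] Localization.Away (f i)) lam)).transpose * h.map (Algebra.TensorProduct.includeRight : A →ₐ[B] Localization.Away (f i) ⊗[B] A) * v
          = (Matrix.of ![![(0 : A), 1], ![-1, 0]]).map (Algebra.TensorProduct.includeRight : A →ₐ[B] Localization.Away (f i) ⊗[B] A) := by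
  let l := lam.toRingEquiv
  have hli : Function.Involutive l := hlam
  haveI : Nontrivial A := AzInvLib.nontrivial (S := B) (lam := l) hB
  have hherm : ∀ i j, h i j = -lam (h j i) := fun i j => (congrFun (congrFun herm i) j).symm
  have hcu : IsUnit (h 0 1) := by
    have h1 := hJ 0 1
    simp only [Matrix.of_apply, Matrix.cons_val_zero, Matrix.cons_val_one] at h1
    by_contra hn
    obtain ⟨M, hM, hMx⟩ := exists_max_ideal_of_mem_nonunits hn
    refine hM.ne_top ((Ideal.eq_top_iff_one _).2 ?_)
    have hJM : Ring.jacobson A ≤ M := (Ring.jacobson_eq_sInf_isMaximal A).trans_le (sInf_le hM)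
    simpa using sub_mem hMx (hJM h1)
  obtain ⟨c, hc⟩ := hcu.exists_right_inv
  have h10 : h 1 0 = -lam (h 0 1) := hherm 1 0
  set a := h 0 0 with ha0
  set b := lam c * h 1 1 * c with hb0
  have hla : lam a = -a := by
    have := hherm 0 0
    linear_combination this
  have hlb : lam b = -b := by
    have := hherm 1 1
    have e : lam (h 1 1) = -h 1 1 := by linear_combination this
    rw [hb0, map_mul, map_mul, hlam, e]
    ring
  have haJ : a ∈ Ring.jacobson A := by simpa using hJ 0 0
  obtain ⟨s, hs⟩ := (hB.2 _).1 (show l (1 + a * b) = 1 + a * b by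
    show lam _ = _
    rw [map_add, map_one, map_mul, hla, hlb, neg_mul_neg])
  have hsA : IsUnit (1 + a * b) := by
    by_contra hn
    obtain ⟨M, hM, hMx⟩ := exists_max_ideal_of_mem_nonunits hn
    refine hM.ne_top ((Ideal.eq_top_iff_one _).2 ?_)
    have hJM : Ring.jacobson A ≤ M := (Ring.jacobson_eq_sInf_isMaximal A).trans_le (sInf_le hM)
    simpa using sub_mem hMx (M.mul_mem_right b (hJM haJ))
  have hsu : IsUnit s := AzInvLib.isUnit_of_isUnit_algebraMap (lam := l) hli hB (by rw [hs]; exact hsA)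
  have h2B : IsUnit (2 : B) := AzInvLib.isUnit_of_isUnit_algebraMap (lam := l) hli hB (by rw [map_ofNat]; exact h2)
  refine ⟨hsu.unit, 1, 2, ![Ideal.Quotient.mk _ (1 + MvPolynomial.X 0), Ideal.Quotient.mk _ (1 - MvPolynomial.X 0)], ?_, ?_⟩
  · refine Ideal.eq_top_of_isUnit_mem _ (add_mem (Ideal.subset_span ⟨0, rfl⟩) (Ideal.subset_span ⟨1, rfl⟩)) ?_
    simp only [Matrix.cons_val_zero, Matrix.cons_val_one, ← map_add]
    rw [add_add_sub_cancel, one_add_one_eq_two, map_ofNat]
    have := h2B.map (algebraMap B (MvPolynomial (Fin 2) B ⧸ Ideal.span ({MvPolynomial.X 0 ^ 2 - MvPolynomial.C (hsu.unit : B), MvPolynomial.X 1 ^ 2 - MvPolynomial.C ((1 : Bˣ) : B)} : Set (MvPolynomial (Fin 2) B))))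
    rwa [map_ofNat] at this
  intro i
  set Q := MvPolynomial (Fin 2) B ⧸ Ideal.span ({MvPolynomial.X 0 ^ 2 - MvPolynomial.C (hsu.unit : B), MvPolynomial.X 1 ^ 2 - MvPolynomial.C ((1 : Bˣ) : B)} : Set (MvPolynomial (Fin 2) B))
  obtain ⟨x, hx, hx2⟩ : ∃ x : Q, x = Ideal.Quotient.mk _ (MvPolynomial.X 0) ∧ x * x = algebraMap B Q s := by
    refine ⟨_, rfl, ?_⟩
    rw [← map_mul]
    refine Ideal.Quotient.eq.2 ?_
    rw [← sq]
    exact Ideal.subset_span (Or.inl rfl)
  set f : Fin 2 → Q := ![Ideal.Quotient.mk _ (1 + MvPolynomial.X 0), Ideal.Quotient.mk _ (1 - MvPolynomial.X 0)] with hf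
  let C := Localization.Away (f i)
  obtain ⟨y, hy2, hyu⟩ : ∃ y : C, y * y = algebraMap B C s ∧ IsUnit (1 + y) := by
    have hx' : algebraMap Q C x * algebraMap Q C x = algebraMap B C s := by
      rw [← map_mul, hx2, ← IsScalarTower.algebraMap_apply]
    have hu : IsUnit (algebraMap Q C (f i)) := IsLocalization.Away.algebraMap_isUnit (f i)
    have h0 : f 0 = 1 + x := by rw [hx, hf]; rfl
    have h1 : f 1 = 1 - x := by rw [hx, hf]; rfl
    obtain rfl | rfl : i = 0 ∨ i = 1 := by omega
    · exact ⟨algebraMap Q C x, hx', by rwa [congrArg (algebraMap Q C) h0, map_add, map_one] at hu⟩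
    · exact ⟨-algebraMap Q C x, by rw [neg_mul_neg, hx'], by
        rw [congrArg (algebraMap Q C) h1, map_sub, map_one] at hu
        exact Eq.mp (congrArg IsUnit (sub_eq_add_neg _ _)) hu⟩
  let ι : A →ₐ[B] C ⊗[B] A := Algebra.TensorProduct.includeRight
  let L := AzInvLib.bcLam lam C
  have hLι : ∀ z, L (ι z) = ι (lam z) := fun z => AzInvLib.bcLam_tmul lam C 1 z
  let y' : C ⊗[B] A := algebraMap C (C ⊗[B] A) y
  have hyy : y' * y' = 1 + ι a * ι b := by
    rw [← map_mul, hy2, ← map_mul ι, ← map_one ι, ← map_add, ← hs, AlgHom.commutes]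
    exact (IsScalarTower.algebraMap_apply B C (C ⊗[B] A) s).symm
  have hy'u : IsUnit y' := isUnit_of_mul_isUnit_left (y := y') (by
    rw [hyy, ← map_mul ι, ← map_one ι, ← map_add]; exact hsA.map ι)
  obtain ⟨v, w, hvw, hwv, hv⟩ := AzInvLib.cong_block (lam := L.toRingEquiv) (AzInvLib.bcLam_invol C hlam)
    (by simpa [map_ofNat] using h2.map ι) (ι a) (ι b)
    (by show L (ι a) = _; rw [hLι, hla, map_neg]) (by show L (ι b) = _; rw [hLι, hlb, map_neg])
    y' (L.commutes y) hyy hy'u (by simpa [y'] using hyu.map (algebraMap C (C ⊗[B] A)))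
  let D : Matrix (Fin 2) (Fin 2) (C ⊗[B] A) := Matrix.diagonal ![1, ι c]
  let E : Matrix (Fin 2) (Fin 2) (C ⊗[B] A) := Matrix.diagonal ![1, -1]
  have hD : IsUnit D := by
    rw [Matrix.isUnit_iff_isUnit_det, Matrix.det_diagonal, Fin.prod_univ_two]
    simpa using (IsUnit.of_mul_eq_one (h 0 1) ((mul_comm _ _).trans hc)).map ι
  have hE : IsUnit E := by
    rw [Matrix.isUnit_iff_isUnit_det, Matrix.det_diagonal, Fin.prod_univ_two]
    simp
    exact IsUnit.neg (isUnit_one (M := C ⊗[B] A))
  refine ⟨D * v * E, (hD.mul (isUnit_iff_exists_and_exists.2 ⟨⟨w, hvw⟩, ⟨w, hwv⟩⟩)).mul hE, ?_⟩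
  show AzInvLib.st L.toRingEquiv (D * v * E) * h.map ι * (D * v * E) = _
  have hDh : AzInvLib.st L.toRingEquiv D * h.map ι * D = Matrix.of ![![ι a, 1], ![-1, ι b]] := by
    have h1 : ι (h 0 1) * ι c = 1 := by rw [← map_mul, hc, map_one]
    have h2' : ι (lam c) * ι (lam (h 0 1)) = 1 := by rw [← map_mul, ← map_mul, mul_comm, hc, map_one, map_one]
    ext p q
    fin_cases p <;> fin_cases q <;>
      simp [D, AzInvLib.st_apply, Matrix.mul_apply, Fin.sum_univ_two, hLι, a, b, h10, h1, h2', mul_assoc]
  rw [AzInvLib.st_mul, AzInvLib.st_mul]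
  calc AzInvLib.st L.toRingEquiv E * (AzInvLib.st L.toRingEquiv v * AzInvLib.st L.toRingEquiv D) * h.map ι * (D * v * E)
      = AzInvLib.st L.toRingEquiv E * (AzInvLib.st L.toRingEquiv v * (AzInvLib.st L.toRingEquiv D * h.map ι * D) * v) * E := by
        simp only [Matrix.mul_assoc]
    _ = AzInvLib.st L.toRingEquiv E * AzInvLib.J0 (C ⊗[B] A) * E := by rw [hDh, hv]
    _ = _ := by
      ext p q
      fin_cases p <;> fin_cases q <;>
        simp [E, AzInvLib.J0, AzInvLib.st_apply, Matrix.mul_apply, Fin.sum_univ_two]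
      all_goals first
        | exact (map_zero ι).symm
        | exact (map_one ι).symm
        | exact ((map_neg ι 1).trans (congrArg _ (map_one ι))).symm

end Groth.Agent.S17363
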