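import Groth.Statements.S17364
import Groth.Agent.AzInvLib.SpreadAway

set_option autoImplicit false
universe u v
open scoped TensorProduct
open RInv

namespace Groth.Agent.S17364

/-- Let `A` be a commutative ring with an involution `lam` whose fixed ring is `B`, let `ε = ±1`, and
let `h, h'` be invertible `n × n` matrices over `A` with `h = ε (lam h)ᵀ` and `h' = ε (lam h')ᵀ`.
Let `p` be a prime of `B` and suppose there are units `s_1, …, s_l` of the local ring `B_p`,
elements `f_1, …, f_r` of `B_p[X_1, …, X_l]/(X_k² - s_k)` (square roots of the `s_k` adjoined)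
generating the unit ideal, and for each `i` an invertible matrix `v` over `C ⊗_B A` for the
localisation `C` of that ring at `f_i` (any `B`-algebra with the universal property of that
localisation) (`lam` extended so as to fix the square roots and `B_p`) with `(lam v)ᵀ h v = h'`.
Then there is `b ∉ p` in `B` such that the same kind of data exists with `B_p` replaced by `B_b`:
units of `B_b`, a finite family generating the unit ideal of `B_b[X_1, …, X_l]/(X_k² - s_k)`, and
invertible matrices over the corresponding localisations tensored with `A` congruating `h` to `h'`. -/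
theorem result (B : Type u) (A : Type v) [CommRing B] [CommRing A]
    [Algebra B A] (lam : A ≃ₐ[B] A) (hlam : ∀ a, lam (lam a) = a) (hB : RInv.IsFixedRing B A lam.toRingEquiv)
    (n : ℕ) (ε : A) (hε : ε = 1 ∨ ε = -1) (h h' : Matrix (Fin n) (Fin n) A) (hh : IsUnit h) (hh' : IsUnit h')
    (herm : ε • (h.map lam).transpose = h) (herm' : ε • (h'.map lam).transpose = h')
    (p : Ideal B) [p.IsPrime]
    (hdata : (∃ (l : ℕ) (s : Fin l → (Localization.AtPrime p)ˣ) (r : ℕ) (f : Fin r → (MvPolynomial (Fin l) (Localization.AtPrime p) ⧸ Ideal.span (Set.range fun k : Fin l => MvPolynomial.X k ^ 2 - MvPolynomial.C (s k : Localization.AtPrime p)))),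
        Ideal.span (Set.range f) = ⊤ ∧
        ∀ (i : Fin r) (C : Type u) [CommRing C] [Algebra B C]
          [Algebra (MvPolynomial (Fin l) (Localization.AtPrime p) ⧸ Ideal.span (Set.range fun k : Fin l => MvPolynomial.X k ^ 2 - MvPolynomial.C (s k : Localization.AtPrime p))) C]
          [IsScalarTower B (MvPolynomial (Fin l) (Localization.AtPrime p) ⧸ Ideal.span (Set.range fun k : Fin l => MvPolynomial.X k ^ 2 - MvPolynomial.C (s k : Localization.AtPrime p))) C]
          [IsLocalization.Away (f i) C],
          ∃ v : Matrix (Fin n) (Fin n) (C ⊗[B] A), IsUnit v ∧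
            (v.map (Algebra.TensorProduct.congr (AlgEquiv.refl : C ≃ₐ[C] C) lam)).transpose * h.map (Algebra.TensorProduct.includeRight : A →ₐ[B] C ⊗[B] A) * v = h'.map (Algebra.TensorProduct.includeRight : A →ₐ[B] C ⊗[B] A))) :
    ∃ b : B, b ∉ p ∧
      (∃ (l : ℕ) (s : Fin l → (Localization.Away b)ˣ) (r : ℕ) (f : Fin r → (MvPolynomial (Fin l) (Localization.Away b) ⧸ Ideal.span (Set.range fun k : Fin l => MvPolynomial.X k ^ 2 - MvPolynomial.C (s k : Localization.Away b)))),
        Ideal.span (Set.range f) = ⊤ ∧
        ∀ (i : Fin r) (C : Type u) [CommRing C] [Algebra B C]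
          [Algebra (MvPolynomial (Fin l) (Localization.Away b) ⧸ Ideal.span (Set.range fun k : Fin l => MvPolynomial.X k ^ 2 - MvPolynomial.C (s k : Localization.Away b))) C]
          [IsScalarTower B (MvPolynomial (Fin l) (Localization.Away b) ⧸ Ideal.span (Set.range fun k : Fin l => MvPolynomial.X k ^ 2 - MvPolynomial.C (s k : Localization.Away b))) C]
          [IsLocalization.Away (f i) C],
          ∃ v : Matrix (Fin n) (Fin n) (C ⊗[B] A), IsUnit v ∧
            (v.map (Algebra.TensorProduct.congr (AlgEquiv.refl : C ≃ₐ[C] C) lam)).transpose * h.map (Algebra.TensorProduct.includeRight : A →ₐ[B] C ⊗[B] A) * v = h'.map (Algebra.TensorProduct.includeRight : A →ₐ[B] C ⊗[B] A)) := by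
  classical
  obtain ⟨l, s, r, f, hf, hC⟩ := hdata
  -- a basic open set over which the units are defined
  choose sn sd hs using fun k => IsLocalization.exists_mk'_eq p.primeCompl ((s k : Localization.AtPrime p))
  have hsn : ∀ k, sn k ∈ p.primeCompl := fun k =>
    (IsLocalization.AtPrime.isUnit_mk'_iff (Localization.AtPrime p) p (sn k) (sd k)).1
      (hs k ▸ (s k).isUnit)
  let b₀ : B := ∏ k, sn k * (sd k : B)
  have hb₀ : b₀ ∈ p.primeCompl := Submonoid.prod_mem _ fun k _ => mul_mem (hsn k) (sd k).2
  have hdvd : ∀ k, sn k * (sd k : B) ∣ b₀ := fun k => Finset.dvd_prod_of_mem _ (Finset.mem_univ k)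
  have hu : ∀ k, IsUnit (algebraMap B (Localization.Away b₀) (sn k)) ∧
      IsUnit (algebraMap B (Localization.Away b₀) (sd k : B)) := fun k =>
    ⟨IsLocalization.Away.isUnit_of_dvd b₀ ((dvd_mul_right _ _).trans (hdvd k)),
      IsLocalization.Away.isUnit_of_dvd b₀ ((dvd_mul_left _ _).trans (hdvd k))⟩
  let s₀ : Fin l → (Localization.Away b₀)ˣ := fun k => (hu k).1.unit * (hu k).2.unit⁻¹
  have hb₀u : IsUnit ((Algebra.ofId B (Localization.AtPrime p)) b₀) :=
    IsLocalization.map_units (Localization.AtPrime p) (⟨b₀, hb₀⟩ : p.primeCompl)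
  let χ : Localization.Away b₀ →ₐ[B] Localization.AtPrime p :=
    IsLocalization.Away.liftAlgHom b₀ (f := Algebra.ofId B (Localization.AtPrime p)) hb₀u
  have hχs : ∀ k, χ (s₀ k : Localization.Away b₀) = (s k : Localization.AtPrime p) := by
    intro k
    have h1 : (s₀ k : Localization.Away b₀) * algebraMap B _ (sd k : B) = algebraMap B _ (sn k) := by
      rw [Units.val_mul, mul_assoc, (hu k).2.val_inv_mul, mul_one, IsUnit.unit_spec]
    have h2 := congrArg χ h1
    rw [map_mul, AlgHom.commutes, AlgHom.commutes] at h2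
    rw [← hs k, IsLocalization.eq_mk'_iff_mul_eq]
    exact h2
  -- square root algebras
  have hsurj : ∀ x, ∃ m ∈ p.primeCompl, ∃ x₀, m • x = χ x₀ := by
    intro x
    obtain ⟨⟨a, m⟩, ha⟩ := IsLocalization.surj p.primeCompl x
    refine ⟨m, m.2, algebraMap B _ a, ?_⟩
    rw [AlgHom.commutes, Algebra.smul_def, mul_comm]
    exact ha
  have heq : ∀ x, χ x = 0 → ∃ m ∈ p.primeCompl, m • x = 0 := by
    intro x hx
    obtain ⟨k, a, ha⟩ := IsLocalization.Away.surj b₀ x
    have h1 := congrArg χ ha
    rw [map_mul, hx, zero_mul, AlgHom.commutes, ← map_zero (algebraMap B (Localization.AtPrime p))] at h1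
    obtain ⟨c, hc⟩ := IsLocalization.exists_of_eq (M := p.primeCompl) h1
    rw [mul_zero] at hc
    refine ⟨c, c.2, ?_⟩
    refine (IsLocalization.Away.algebraMap_pow_isUnit (S := Localization.Away b₀) b₀ k).mul_left_eq_zero.1 ?_
    rw [smul_mul_assoc, ha, Algebra.smul_def, ← map_mul, ← hc, map_zero]
  haveI hπ := AzInvLib.SpreadAway.localized_qmap χ hχs (S := p.primeCompl)
    (fun m hm => IsLocalization.map_units (Localization.AtPrime p) (⟨m, hm⟩ : p.primeCompl)) hsurj heq
  let π := AzInvLib.SpreadAway.qmap χ hχs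
  -- numerators of the covering elements
  choose am ham using fun i => IsLocalizedModule.surj p.primeCompl π.toLinearMap (f i)
  have ham' : ∀ i, π (am i).1 = ((am i).2 : B) • f i := fun i => (ham i).symm
  have key : ∀ i, ∃ b ∈ p.primeCompl, ∀ (C : Type u) [CommRing C] [Algebra B C]
      (_ : Localization.Away (am i).1 →ₐ[B] C),
      IsUnit (algebraMap B C b) → AzInvLib.SpreadAway.Congr lam h h' C := by
    intro i
    obtain ⟨φ, hφ⟩ := AzInvLib.SpreadAway.localized_away (π := π) (am i).1 (f i) (am i).2.2 (ham' i)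
      (Localization.Away (am i).1) (Localization.Away (f i))
    haveI := hφ
    exact AzInvLib.SpreadAway.exists_congr_of_localized lam φ (hC i (Localization.Away (f i)))
  choose bc hbc hcong using key
  obtain ⟨mI, hmI, hmI'⟩ := AzInvLib.SpreadAway.exists_smul_one_mem (S := p.primeCompl) (π := π)
    (Ideal.span (Set.range fun i => (am i).1)) (by
      rw [eq_top_iff, ← hf, Ideal.span_le]
      rintro _ ⟨i, rfl⟩
      have h1 := Ideal.mem_map_of_mem π (Ideal.subset_span ⟨i, rfl⟩ :
        (am i).1 ∈ Ideal.span (Set.range fun i => (am i).1))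
      have h2 : IsUnit (algebraMap B (AzInvLib.SpreadAway.Q fun k => (s k : Localization.AtPrime p))
          ((am i).2 : B)) := by
        rw [IsScalarTower.algebraMap_apply B (Localization.AtPrime p)]
        exact (IsLocalization.map_units (Localization.AtPrime p) (am i).2).map _
      have h3 : ((am i).2 : B) • f i = algebraMap B _ ((am i).2 : B) * f i := by
        obtain ⟨P, hP⟩ := Ideal.Quotient.mk_surjective (f i)
        rw [← hP]
        exact congrArg (Ideal.Quotient.mk _) (Algebra.smul_def ((am i).2 : B) P)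
      rw [ham' i, h3, Ideal.unit_mul_mem_iff_mem _ h2] at h1
      exact h1)
  let b : B := b₀ * mI * ∏ i, bc i
  have hb : b ∈ p.primeCompl := mul_mem (mul_mem hb₀ hmI) (Submonoid.prod_mem _ fun i _ => hbc i)
  refine ⟨b, hb, ?_⟩
  have hb₀b : IsUnit ((Algebra.ofId B (Localization.Away b)) b₀) :=
    IsLocalization.Away.isUnit_of_dvd b ((dvd_mul_right _ _).trans (dvd_mul_right _ _))
  let χb : Localization.Away b₀ →ₐ[B] Localization.Away b :=
    IsLocalization.Away.liftAlgHom b₀ (f := Algebra.ofId B (Localization.Away b)) hb₀b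
  let sb : Fin l → (Localization.Away b)ˣ := fun k => Units.map (χb : Localization.Away b₀ →* _) (s₀ k)
  let πb := AzInvLib.SpreadAway.qmap χb (s₁ := fun k => (s₀ k : Localization.Away b₀))
    (s₂ := fun k => (sb k : Localization.Away b)) fun k => rfl
  refine ⟨l, sb, r, fun i => πb (am i).1, ?_, ?_⟩
  · have h1 := Ideal.mem_map_of_mem πb hmI'
    rw [Ideal.map_span, ← Set.range_comp, map_smul, map_one, ← Algebra.algebraMap_eq_smul_one] at h1
    refine Ideal.eq_top_of_isUnit_mem _ h1 ?_
    rw [IsScalarTower.algebraMap_apply B (Localization.Away b)]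
    exact (IsLocalization.Away.isUnit_of_dvd b ((dvd_mul_left _ _).trans (dvd_mul_right _ _))).map _
  · intro i C _ _ _ _ _
    let g := (IsScalarTower.toAlgHom B (AzInvLib.SpreadAway.Q fun k => (sb k : Localization.Away b)) C).comp πb
    have hg : IsUnit (g (am i).1) := IsLocalization.Away.algebraMap_isUnit (πb (am i).1)
    refine hcong i C (IsLocalization.Away.liftAlgHom (am i).1 (f := g) hg) ?_
    rw [IsScalarTower.algebraMap_apply B (AzInvLib.SpreadAway.Q fun k => (sb k : Localization.Away b)) C,
      IsScalarTower.algebraMap_apply B (Localization.Away b)]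
    refine ((IsLocalization.Away.isUnit_of_dvd b ?_).map _).map _
    exact (Finset.dvd_prod_of_mem bc (Finset.mem_univ i)).trans (dvd_mul_left _ _)

end Groth.Agent.S17364
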