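import Groth.Statements.S17365
import Mathlib
import Groth.Agent.QGorBCLib.Extends
import Groth.Agent.KleimanLib.GenSmooth
import Groth.Agent.MiscFlat6.FreeStalks
import Groth.Agent.NormalLib.Regular
import Groth.Agent.PerfLib.Coherent
-- import your own Groth.Agent.* helpers here

set_option autoImplicit false
set_option maxHeartbeats 2000000
set_option backward.isDefEq.respectTransparency false
universe u
open CategoryTheory CategoryTheory.Limits AlgebraicGeometry TopologicalSpace
open CInt

namespace Groth.Agent.S17365

set_option backward.isDefEq.respectTransparency false in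
theorem depth_le_depth_of_free {R : Type u} [CommRing R] [IsLocalRing R] {M : Type u} [AddCommGroup M]
    [Module R M] [Module.Free R M] [IsNoetherianRing R] [Module.Finite R M] (c : ℕ) (h : (c : ℕ∞) ≤ LocCoh.depth R R) :
    (c : ℕ∞) ≤ LocCoh.depth R M := by
  rw [CommAlgDim.le_depth_iff] at h ⊢
  obtain ⟨rs, hl, hm, hr⟩ := h
  exact ⟨rs, hl, hm, ((TensorProduct.rid R M).isWeaklyRegular_congr rs).1 hr.isWeaklyRegular_lTensor⟩


/-- Let k be an algebraically closed field, X a smooth proper k-scheme admitting an ample invertible
sheaf, and S a locally Noetherian k-scheme. Let E be a finite locally free module on S ×_k X and Z a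
closed subset of S ×_k X whose intersection with every fibre {s} × X has codimension at least 2
there, i.e. at every point of Z the local ring of the fibre of the projection S ×_k X ⟶ S has Krull
dimension at least 2. Then, with j the inclusion of the complement of Z, the natural map E ⟶ j_*
(E|_{S × X ∖ Z}) is an isomorphism. -/
theorem result
    (k : Type u) [Field k] [IsAlgClosed k] (S X : Scheme.{u})
    (b : S ⟶ Spec (CommRingCat.of k)) (a : X ⟶ Spec (CommRingCat.of k))
    [IsLocallyNoetherian S] [Smooth a] [IsProper a]
    (hproj : ∃ H : X.Modules, CohB1.IsAmple H)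
    (E : (pullback b a).Modules) (hE : FlatMod.IsFinLocFree E)
    (Z : Closeds ↥(pullback b a))
    (hZ : ∀ x : ↥(pullback b a), x ∈ Z →
      (2 : WithBot ℕ∞) ≤ ringKrullDim ↑(CInt.fiberStalk (pullback.fst b a) x)) :
    IsIso ((Scheme.Modules.restrictAdjunction (Scheme.Opens.ι (Z.compl : (pullback b a).Opens))).unit.app E) := by
  let f := pullback.fst b a
  haveI : Smooth f := inferInstance
  haveI : Coh.IsQCoh E := (Groth.Agent.PerfLib.isCoh_of_isFinLocFree hE).1
  haveI : IsLocallyNoetherian (pullback b a) := LocallyOfFiniteType.isLocallyNoetherian f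
  have hEcoh := Groth.Agent.PerfLib.isCoh_of_isFinLocFree hE
  refine QGorSecLib.isIso_unit_of_extends _ fun V => ?_
  refine (LocSuppLib.depth_two_iff_bijective (Z.compl : (pullback b a).Opens) hEcoh).1 (fun x hx => ?_) V
  have hxZ : x ∈ Z := by simpa using hx
  refine QGorBCLib.two_le_depth_stalk f E hEcoh x ?_ ?_
  · letI : Algebra (S.presheaf.stalk (f x)) ((pullback b a).presheaf.stalk x) := (f.stalkMap x).hom.toAlgebra
    haveI : Module.Flat (S.presheaf.stalk (f x)) ((pullback b a).presheaf.stalk x) := Flat.stalkMap f x
    haveI : Module.Flat ((pullback b a).presheaf.stalk x) (E.presheaf.stalk x) := by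
      haveI := MiscFlat6.free_stalk_of_isFinLocFree hE x
      infer_instance
    letI := FlatMod.moduleStalkOver f E x
    haveI : IsScalarTower (S.presheaf.stalk (f x)) ((pullback b a).presheaf.stalk x) (E.presheaf.stalk x) :=
      IsScalarTower.of_algebraMap_smul fun r m => rfl
    exact Module.Flat.trans (S.presheaf.stalk (f x)) ((pullback b a).presheaf.stalk x) (E.presheaf.stalk x)
  · let ι := f.fiberι (f x)
    let v := f.asFiber x
    haveI : Smooth (f.fiberToSpecResidueField (f x)) :=
      MorphismProperty.pullback_snd _ _ ‹Smooth f›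
    haveI : IsRegularLocalRing ((f.fiber (f x)).presheaf.stalk v) :=
      KleimanLib.regular_of_smooth (f.fiberToSpecResidueField (f x)) v
    let B := (f.fiber (f x)).presheaf.stalk v
    let M := E.presheaf.stalk (ι v)
    letI : Algebra ((pullback b a).presheaf.stalk (ι v)) B := (ι.stalkMap v).hom.toAlgebra
    haveI := MiscFlat6.free_stalk_of_isFinLocFree hE (ι v)
    haveI : Module.Finite ((pullback b a).presheaf.stalk (ι v)) M := ZClosLib.finite_stalk hEcoh (ι v)
    let e : TensorProduct ((pullback b a).presheaf.stalk (ι v)) B M
        ≃ₗ[B] ((Scheme.Modules.pullback ι).obj E).presheaf.stalk v :=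
      ((KFlatLib.stalkPullIso ι v).symm.app E).toLinearEquiv
    rw [← CommAlgDim.depth_congr e]
    refine depth_le_depth_of_free (R := B) 2 ?_
    have h := (hZ x hxZ).trans (NormalLib.le_depth_self_of_isRegularLocalRing B)
    exact WithBot.coe_le_coe.1 h

end Groth.Agent.S17365
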