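import Groth.Statements.S17366
import Mathlib
import Groth.Agent.QGorBCLib.Extends
import Groth.Agent.KleimanLib.GenSmooth
import Groth.Agent.MiscFlat6.FreeStalks
import Groth.Agent.NormalLib.Regular
import Groth.Agent.PerfLib.Coherent
import Groth.Agent.RhoBigLib.Free
-- import your own Groth.Agent.* helpers here

set_option autoImplicit false
set_option maxHeartbeats 2000000
set_option backward.isDefEq.respectTransparency false
universe u
open CategoryTheory CategoryTheory.Limits AlgebraicGeometry TopologicalSpace
open CInt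

namespace Groth.Agent.S17366

open AlgebraicGeometry CategoryTheory CategoryTheory.Limits
set_option backward.isDefEq.respectTransparency false in
theorem depth_le_depth_of_free {R : Type u} [CommRing R] [IsLocalRing R] {M : Type u} [AddCommGroup M]
    [Module R M] [Module.Free R M] [IsNoetherianRing R] [Module.Finite R M] (c : ℕ) (h : (c : ℕ∞) ≤ LocCoh.depth R R) :
    (c : ℕ∞) ≤ LocCoh.depth R M := by
  rw [CommAlgDim.le_depth_iff] at h ⊢
  obtain ⟨rs, hl, hm, hr⟩ := h
  exact ⟨rs, hl, hm, ((TensorProduct.rid R M).isWeaklyRegular_congr rs).1 hr.isWeaklyRegular_lTensor⟩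

theorem isIso_unit {S P : Scheme.{u}} [IsLocallyNoetherian S] (f : P ⟶ S) [Smooth f]
    (E : P.Modules) (hE : FlatMod.IsFinLocFree E) (U : P.Opens)
    (hcod : ∀ x : P, x ∉ U → (2 : WithBot ℕ∞) ≤ ringKrullDim ↑(CInt.fiberStalk f x)) :
    IsIso ((Scheme.Modules.restrictAdjunction U.ι).unit.app E) := by
  haveI : IsLocallyNoetherian P := LocallyOfFiniteType.isLocallyNoetherian f
  have hEcoh := Groth.Agent.PerfLib.isCoh_of_isFinLocFree hE
  haveI : Coh.IsQCoh E := hEcoh.1
  refine QGorSecLib.isIso_unit_of_extends _ fun V => ?_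
  refine (LocSuppLib.depth_two_iff_bijective U hEcoh).1 (fun x hx => ?_) V
  refine QGorBCLib.two_le_depth_stalk f E hEcoh x ?_ ?_
  · letI : Algebra (S.presheaf.stalk (f x)) (P.presheaf.stalk x) := (f.stalkMap x).hom.toAlgebra
    haveI : Module.Flat (S.presheaf.stalk (f x)) (P.presheaf.stalk x) := Flat.stalkMap f x
    haveI : Module.Flat (P.presheaf.stalk x) (E.presheaf.stalk x) := by
      haveI := MiscFlat6.free_stalk_of_isFinLocFree hE x
      infer_instance
    letI := FlatMod.moduleStalkOver f E x
    haveI : IsScalarTower (S.presheaf.stalk (f x)) (P.presheaf.stalk x) (E.presheaf.stalk x) :=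
      IsScalarTower.of_algebraMap_smul fun r m => rfl
    exact Module.Flat.trans (S.presheaf.stalk (f x)) (P.presheaf.stalk x) (E.presheaf.stalk x)
  · let ι := f.fiberι (f x)
    let v := f.asFiber x
    haveI : Smooth (f.fiberToSpecResidueField (f x)) :=
      MorphismProperty.pullback_snd _ _ ‹Smooth f›
    haveI : IsRegularLocalRing ((f.fiber (f x)).presheaf.stalk v) :=
      KleimanLib.regular_of_smooth (f.fiberToSpecResidueField (f x)) v
    let B := (f.fiber (f x)).presheaf.stalk v
    let M := E.presheaf.stalk (ι v)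
    letI : Algebra (P.presheaf.stalk (ι v)) B := (ι.stalkMap v).hom.toAlgebra
    haveI := MiscFlat6.free_stalk_of_isFinLocFree hE (ι v)
    haveI : Module.Finite (P.presheaf.stalk (ι v)) M := ZClosLib.finite_stalk hEcoh (ι v)
    let e : TensorProduct (P.presheaf.stalk (ι v)) B M
        ≃ₗ[B] ((Scheme.Modules.pullback ι).obj E).presheaf.stalk v :=
      ((KFlatLib.stalkPullIso ι v).symm.app E).toLinearEquiv
    rw [← CommAlgDim.depth_congr e]
    refine depth_le_depth_of_free (R := B) 2 ?_
    exact WithBot.coe_le_coe.1 ((hcod x hx).trans (NormalLib.le_depth_self_of_isRegularLocalRing B))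

theorem existsUnique_extension {P : Scheme.{u}} (U : P.Opens) {E F : P.Modules}
    (h : IsIso ((Scheme.Modules.restrictAdjunction U.ι).unit.app F))
    (ψ : E.restrict U.ι ⟶ F.restrict U.ι) :
    ∃! φ : E ⟶ F, (Scheme.Modules.restrictFunctor U.ι).map φ = ψ := by
  haveI := h
  let adj := Scheme.Modules.restrictAdjunction U.ι
  let η := adj.unit.app F
  have key : ∀ φ : E ⟶ F, adj.homEquiv _ _ ((Scheme.Modules.restrictFunctor U.ι).map φ) = φ ≫ η :=
    fun φ => by rw [Adjunction.homEquiv_unit]; exact (adj.unit.naturality φ).symm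
  refine ⟨adj.homEquiv _ _ ψ ≫ inv η, (adj.homEquiv _ _).injective ?_, fun φ' hφ' => ?_⟩
  · rw [key, Category.assoc, IsIso.inv_hom_id, Category.comp_id]
  · rw [← hφ', key, Category.assoc, IsIso.hom_inv_id, Category.comp_id]


/-- Let k be an algebraically closed field, X a smooth proper k-scheme admitting an ample invertible
sheaf, and S a locally Noetherian k-scheme. Let E be a coherent module on S ×_k X, flat over S,
whose restriction to every fibre {s} × X is torsion-free, let F be a finite locally free module on S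
×_k X, and let U be the largest open subset of S ×_k X over which E is finite locally free. Then
every homomorphism E|_U ⟶ F|_U is the restriction of a unique homomorphism E ⟶ F. (The published
statement also asserts the compatibility of this extension with base change along morphisms S' ⟶ S;
that clause is not restated here.) -/
theorem result
    (k : Type u) [Field k] [IsAlgClosed k] (S X : Scheme.{u})
    (b : S ⟶ Spec (CommRingCat.of k)) (a : X ⟶ Spec (CommRingCat.of k))
    [IsLocallyNoetherian S] [Smooth a] [IsProper a]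
    (hproj : ∃ H : X.Modules, CohB1.IsAmple H)
    (E F : (pullback b a).Modules) (hEcoh : Coh.IsCoh E)
    (hEfl : FlatMod.IsFlatOver (pullback.fst b a) E)
    (hEtf : ∀ s : ↥S, TorSh.IsTorsionFree
      ((Scheme.Modules.pullback ((pullback.fst b a).fiberι s)).obj E))
    (hF : FlatMod.IsFinLocFree F)
    (U : (pullback b a).Opens)
    (hU : ∀ x : ↥(pullback b a), x ∈ U ↔
      ∃ (V : (pullback b a).Opens) (n : ℕ), x ∈ V ∧ Nonempty (E.restrict V.ι ≅ FlatMod.freeMod (↑V) n))
    (ψ : E.restrict U.ι ⟶ F.restrict U.ι) :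
    ∃! φ : E ⟶ F, (Scheme.Modules.restrictFunctor U.ι).map φ = ψ := by
  let f := pullback.fst b a
  haveI : Smooth f := inferInstance
  haveI : IsLocallyNoetherian (pullback b a) := LocallyOfFiniteType.isLocallyNoetherian f
  haveI : Coh.IsQCoh E := hEcoh.1
  refine existsUnique_extension U (isIso_unit f F hF U fun x hx => ?_) ψ
  by_contra h
  refine hx ((hU x).2 (RhoBigLib.exists_free_nhd f E (QCohLib.isFP_of_isCoh E hEcoh) hEfl hEtf x ?_))
  rw [not_le] at h
  rcases hd : ringKrullDim ↑(CInt.fiberStalk f x) with _ | (_ | n)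
  · exact bot_le
  · rw [hd] at h; exact absurd h (not_lt.2 le_top)
  · rw [hd] at h
    change ((n : ℕ∞) : WithBot ℕ∞) ≤ ((1 : ℕ∞) : WithBot ℕ∞)
    change ((n : ℕ∞) : WithBot ℕ∞) < ((2 : ℕ∞) : WithBot ℕ∞) at h
    rw [WithBot.coe_lt_coe] at h
    rw [WithBot.coe_le_coe]
    norm_cast at h ⊢
    omega

end Groth.Agent.S17366
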