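import Groth.Statements.S1737
import Groth.Agent.CommAlgDim.Depth
-- import your own Groth.Agent.* helpers here

set_option autoImplicit false
universe u
open LocCoh

namespace Groth.Agent.S1737

/-- Let A be a Noetherian ring, T ⊆ Spec A stable under specialization and M a finite A-module. There
are a finite A-module M' and a surjection M → M' which is bijective after localizing at every prime
outside T and such that M'_p has depth ≥ 1 over A_p for every p in T. (The source states this for
coherent modules on a Noetherian scheme, with uniqueness.) -/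
theorem result (A : Type u) [CommRing A] [IsNoetherianRing A] (T : Set (PrimeSpectrum A)) (hT : StableUnderSpecialization T) (M : Type u) [AddCommGroup M] [Module A M] [Module.Finite A M] : ∃ (M' : Type u) (_ : AddCommGroup M') (_ : Module A M') (_ : Module.Finite A M') (f : M →ₗ[A] M'), Function.Surjective f ∧ (∀ p : PrimeSpectrum A, p ∉ T → Function.Bijective (LocalizedModule.map p.asIdeal.primeCompl f)) ∧ ∀ p : PrimeSpectrum A, p ∈ T → 1 ≤ LocCoh.depth (Localization.AtPrime p.asIdeal) (LocalizedModule p.asIdeal.primeCompl M') := by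
  let N : Submodule A M :=
    { carrier := {m | ∀ q : PrimeSpectrum A, q ∉ T → ∃ s : A, s ∉ q.asIdeal ∧ s • m = 0}
      zero_mem' := fun q _ => ⟨1, fun h => q.isPrime.ne_top ((Ideal.eq_top_iff_one _).2 h), one_smul A 0⟩
      add_mem' := fun {a b} ha hb q hq => by
        obtain ⟨s, hs, hsa⟩ := ha q hq
        obtain ⟨s', hs', hsb⟩ := hb q hq
        refine ⟨s * s', fun h => (q.isPrime.mem_or_mem h).elim hs hs', ?_⟩
        rw [smul_add, mul_comm, mul_smul, hsa, mul_comm, mul_smul, hsb, smul_zero, smul_zero, add_zero]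
      smul_mem' := fun c m hm q hq => by
        obtain ⟨s, hs, hsm⟩ := hm q hq
        exact ⟨s, hs, by rw [smul_comm, hsm, smul_zero]⟩ }
  refine ⟨M ⧸ N, inferInstance, inferInstance, inferInstance, N.mkQ, N.mkQ_surjective, fun p hp => ?_, fun p hp => ?_⟩
  · refine ⟨?_, LocalizedModule.map_surjective _ _ N.mkQ_surjective⟩
    refine (injective_iff_map_eq_zero _).2 fun z hz => ?_
    induction z using LocalizedModule.induction_on with | _ m s => ?_
    rw [LocalizedModule.map_mk, IsLocalizedModule.mk_eq_mk', IsLocalizedModule.mk'_eq_zero'] at hz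
    obtain ⟨t, ht⟩ := hz
    rw [Submonoid.smul_def, ← map_smul, Submodule.mkQ_apply, Submodule.Quotient.mk_eq_zero] at ht
    obtain ⟨u, hu, hut⟩ := ht p hp
    rw [IsLocalizedModule.mk_eq_mk', IsLocalizedModule.mk'_eq_zero']
    refine ⟨⟨u * t, fun h => (p.isPrime.mem_or_mem h).elim hu t.2⟩, ?_⟩
    rw [Submonoid.smul_def]
    show (u * (t : A)) • m = 0
    rw [mul_smul, hut]
  · rw [← Nat.cast_one, CommAlgDim.le_depth_iff]
    refine CommAlgDim.HasSeqIn.localization le_rfl ((CommAlgDim.hasSeqIn_one_iff _).2 fun q hq hpq => ?_)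
    obtain ⟨hqp, x, hx⟩ := isAssociatedPrime_iff.1 hq
    obtain ⟨m, rfl⟩ := N.mkQ_surjective x
    have hm : m ∈ N := by
      intro r hr
      obtain ⟨a, haq, har⟩ : ∃ a ∈ q, a ∉ r.asIdeal := by
        by_contra hcon
        push_neg at hcon
        exact hr (hT ((PrimeSpectrum.le_iff_specializes p r).1 (hpq.trans hcon)) hp)
      rw [hx, Submodule.mem_colon_singleton, Submodule.mem_bot, ← map_smul, Submodule.mkQ_apply,
        Submodule.Quotient.mk_eq_zero] at haq
      obtain ⟨s, hs, hsa⟩ := haq r hr
      exact ⟨s * a, fun h => (r.isPrime.mem_or_mem h).elim hs har, by rw [mul_smul, hsa]⟩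
    refine hqp.ne_top ?_
    rw [hx, Submodule.mkQ_apply, (Submodule.Quotient.mk_eq_zero N).2 hm]
    ext; simp

end Groth.Agent.S1737
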