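import Groth.Statements.S17371
import Groth.Agent.AlgzApproxLib.Model

set_option autoImplicit false
universe u
open CategoryTheory CategoryTheory.Limits
open Algz

namespace Groth.Agent.S17371

/-- Functor form. Let k be an algebraically closed field and F a set-valued functor on commutative
k-algebras which preserves filtered colimits (limit preserving). Let R be a complete local
Noetherian k-algebra with residue field k, ξ an element of F(R) and N a natural number. Then there
exist a finitely generated k-algebra A, a maximal ideal m of A with residue field k, an element η of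
F(A) and a k-algebra isomorphism φ from R/m_R^(N+1) to A/m^(N+1) such that the images of ξ and η in
F(A/m^(N+1)) agree (ξ pushed forward along R → R/m_R^(N+1) followed by φ, η along A → A/m^(N+1)),
and moreover a ring isomorphism between the associated graded rings of R along m_R and of A along m
which carries each graded piece m_R^n/m_R^(n+1) into m^n/m^(n+1) and commutes with the scalars from
k. (The published statement is for limit-preserving prestacks over k-schemes and does not require
the residue field of R to be k, without which it fails (R = k(t)); this row is stated for set-valued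
functors on k-algebras and assumes residue field k.) -/
theorem result (k : Type u) [Field k] [IsAlgClosed k]
    (F : CommAlgCat.{u} k ⥤ Type u)
    (hF : ∀ (J : Type u) [SmallCategory J] [IsFiltered J], PreservesColimitsOfShape J F)
    (R : Type u) [CommRing R] [Algebra k R] [IsLocalRing R] [IsNoetherianRing R]
    [IsAdicComplete (IsLocalRing.maximalIdeal R) R]
    (hres : Function.Surjective (fun c : k => IsLocalRing.residue R (algebraMap k R c)))
    (ξ : F.obj (CommAlgCat.of k R)) (N : ℕ) :
    ∃ (A : Type u) (_ : CommRing A) (_ : Algebra k A) (_ : Algebra.FiniteType k A)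
      (m : Ideal A) (_ : m.IsMaximal)
      (_ : Function.Surjective (fun c : k => Ideal.Quotient.mk m (algebraMap k A c)))
      (η : F.obj (CommAlgCat.of k A))
      (φ : (R ⧸ IsLocalRing.maximalIdeal R ^ (N + 1)) ≃ₐ[k] (A ⧸ m ^ (N + 1))),
      F.map (CommAlgCat.ofHom (φ.toAlgHom.comp
          (Ideal.Quotient.mkₐ k (IsLocalRing.maximalIdeal R ^ (N + 1))))) ξ =
        F.map (CommAlgCat.ofHom (Ideal.Quotient.mkₐ k (m ^ (N + 1)))) η ∧
      ∃ e : AssocGr.GrRing (FiltBl.IdealFiltration.adic (IsLocalRing.maximalIdeal R)) ≃+*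
          AssocGr.GrRing (FiltBl.IdealFiltration.adic m),
        (∀ (n : ℕ) (x : AssocGr.GrRing (FiltBl.IdealFiltration.adic (IsLocalRing.maximalIdeal R))),
            x ∈ AssocGr.gr (FiltBl.IdealFiltration.adic (IsLocalRing.maximalIdeal R)) n →
              e x ∈ AssocGr.gr (FiltBl.IdealFiltration.adic m) n) ∧
        (∀ c : k, e (algebraMap R _ (algebraMap k R c)) = algebraMap A _ (algebraMap k A c)) := by
  obtain ⟨C, _, _, _, mC, J, hmC, q, D, _, _, x, f, c, hJ, hk, hmap, hlift, hker, hkerN, hx, compat⟩ :=
    AlgzApproxLib.exists_approx F hF R hres ξ N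
  let m : Ideal (C ⧸ J) := mC.map (Ideal.Quotient.mk J)
  have hm : m.IsMaximal := Ideal.IsMaximal.map_of_surjective_of_ker_le Ideal.Quotient.mk_surjective
    (by rw [Ideal.mk_ker]; exact hJ)
  obtain ⟨φ, hφ⟩ := AlgzApproxLib.exists_quotEquiv hres hlift N hkerN
  obtain ⟨e, he, hec⟩ := AlgzApproxLib.exists_grEquiv (F := FiltBl.IdealFiltration.adic mC)
    (G := FiltBl.IdealFiltration.adic (IsLocalRing.maximalIdeal R)) (G' := FiltBl.IdealFiltration.adic m)
    q.toRingHom hmap (Ideal.Quotient.mk J)
    (fun i a ha => (Ideal.map_pow _ mC i).le (Ideal.mem_map_of_mem _ ha)) hlift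
    (fun i y hy => by
      obtain ⟨a, ha, rfl⟩ :=
        (Ideal.mem_map_iff_of_surjective _ Ideal.Quotient.mk_surjective).mp ((Ideal.map_pow _ mC i).ge hy)
      exact ⟨a, ha, by rw [sub_self]; exact zero_mem _⟩)
    (fun i a ha => (hker i a ha).trans (AlgzApproxLib.mk_mem_pow_iff (i + 1) a).symm)
  refine ⟨C ⧸ J, inferInstance, inferInstance, inferInstance, m, hm, fun z => ?_,
    F.map (CommAlgCat.ofHom c) x, φ, ?_, e, he, fun t => ?_⟩
  · obtain ⟨z, rfl⟩ := Ideal.Quotient.mk_surjective z
    obtain ⟨a, rfl⟩ := Ideal.Quotient.mk_surjective z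
    obtain ⟨t, ht⟩ := hk a
    refine ⟨t, Ideal.Quotient.eq.mpr ?_⟩
    show Ideal.Quotient.mk J (algebraMap k C t) - Ideal.Quotient.mk J a ∈ m
    rw [← map_sub, ← neg_sub, map_neg]
    exact (Ideal.neg_mem_iff _).mpr (Ideal.mem_map_of_mem _ ht)
  · rw [← hx, ← FunctorToTypes.map_comp_apply, ← FunctorToTypes.map_comp_apply, ← CommAlgCat.ofHom_comp,
      ← CommAlgCat.ofHom_comp]
    refine congrArg (fun h => F.map (CommAlgCat.ofHom h) x) (AlgHom.ext fun b => ?_)
    obtain ⟨a, ha⟩ := Ideal.Quotient.mk_surjective (c b)
    show φ (Ideal.Quotient.mk _ (f b)) = Ideal.Quotient.mk _ (c b)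
    rw [← ha, ← hφ, EmbeddingLike.apply_eq_iff_eq, eq_comm, Ideal.Quotient.eq]
    exact compat b a ha.symm
  · have := hec (algebraMap k C t)
    rwa [show q.toRingHom (algebraMap k C t) = algebraMap k R t from q.commutes t] at this

end Groth.Agent.S17371
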