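import Groth.Statements.S17372
import Groth.Agent.AlgzApproxLib.Versal

set_option autoImplicit false
universe u
open CategoryTheory CategoryTheory.Limits
open Algz

namespace Groth.Agent.S17372

/-- Functor form. Let k be an algebraically closed field and F a set-valued functor on commutative
k-algebras which preserves filtered colimits (limit preserving). Let R be a complete local
Noetherian k-algebra with residue field k and ξ an element of F(R) which is versal: for every
surjection π : B → B₀ of local Artinian k-algebras with residue field k, every k-algebra map g₀ : R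
→ B₀ and every y in F(B) whose image in F(B₀) is the image of ξ under g₀, there is a k-algebra map g
: R → B lifting g₀ along π with image of ξ equal to y. Then there exist a finitely generated
k-algebra A, a maximal ideal m of A with residue field k, an element η of F(A) and a ring
isomorphism α from R to the m-adic completion of A commuting with the scalars from k, such that for
every n, pushing ξ forward along the k-algebra map R → A/m^(n+1) obtained from α and the evaluation
of the completion gives the image of η under A → A/m^(n+1). (The published statement is for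
limit-preserving prestacks over k-schemes; this row is stated for set-valued functors on k-algebras,
with the residue field k that a formal deformation carries by definition made an explicit
hypothesis.) -/
theorem result (k : Type u) [Field k] [IsAlgClosed k]
    (F : CommAlgCat.{u} k ⥤ Type u)
    (hF : ∀ (J : Type u) [SmallCategory J] [IsFiltered J], PreservesColimitsOfShape J F)
    (R : Type u) [CommRing R] [Algebra k R] [IsLocalRing R] [IsNoetherianRing R]
    [IsAdicComplete (IsLocalRing.maximalIdeal R) R]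
    (hres : Function.Surjective (fun c : k => IsLocalRing.residue R (algebraMap k R c)))
    (ξ : F.obj (CommAlgCat.of k R))
    (hvers : ∀ (B B₀ : Type u) [CommRing B] [Algebra k B] [IsLocalRing B] [IsArtinianRing B]
        [CommRing B₀] [Algebra k B₀] [IsLocalRing B₀] [IsArtinianRing B₀],
        Function.Surjective (fun c : k => IsLocalRing.residue B (algebraMap k B c)) →
        ∀ (π : B →ₐ[k] B₀), Function.Surjective π →
          ∀ (g₀ : R →ₐ[k] B₀) (y : F.obj (CommAlgCat.of k B)),
            F.map (CommAlgCat.ofHom π) y = F.map (CommAlgCat.ofHom g₀) ξ →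
              ∃ g : R →ₐ[k] B, π.comp g = g₀ ∧ F.map (CommAlgCat.ofHom g) ξ = y) :
    ∃ (A : Type u) (_ : CommRing A) (_ : Algebra k A) (_ : Algebra.FiniteType k A)
      (m : Ideal A) (_ : m.IsMaximal)
      (_ : Function.Surjective (fun c : k => Ideal.Quotient.mk m (algebraMap k A c)))
      (η : F.obj (CommAlgCat.of k A))
      (α : R ≃+* AdicCompletion m A),
      (∀ c : k, α (algebraMap k R c) = algebraMap A (AdicCompletion m A) (algebraMap k A c)) ∧
      ∀ (n : ℕ) (ψ : R →ₐ[k] A ⧸ m ^ (n + 1)),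
        ψ.toRingHom = (AdicCompletion.evalₐ m (n + 1) :
            AdicCompletion m A →ₐ[A] A ⧸ m ^ (n + 1)).toRingHom.comp α.toRingHom →
          F.map (CommAlgCat.ofHom ψ) ξ = F.map (CommAlgCat.ofHom (Ideal.Quotient.mkₐ k (m ^ (n + 1)))) η := by
  obtain ⟨C, _, _, _, mC, J, hmC, q, D, _, _, x, f, c, hJ, hk, hmap, hlift, hker, hkerN, hx, compat⟩ :=
    AlgzApproxLib.exists_approx F hF R hres ξ 1
  let m : Ideal (C ⧸ J) := mC.map (Ideal.Quotient.mk J)
  have hm : m.IsMaximal := Ideal.IsMaximal.map_of_surjective_of_ker_le Ideal.Quotient.mk_surjective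
    (by rw [Ideal.mk_ker]; exact hJ)
  have hkA : ∀ z : C ⧸ J, ∃ t : k, z - algebraMap k (C ⧸ J) t ∈ m := fun z => by
    obtain ⟨a, rfl⟩ := Ideal.Quotient.mk_surjective z
    obtain ⟨t, ht⟩ := hk a
    refine ⟨t, ?_⟩
    show Ideal.Quotient.mk J a - Ideal.Quotient.mk J (algebraMap k C t) ∈ m
    rw [← map_sub]
    exact Ideal.mem_map_of_mem _ ht
  haveI : IsNoetherianRing (C ⧸ J) := Algebra.FiniteType.isNoetherianRing k _
  let η := F.map (CommAlgCat.ofHom c) x
  obtain ⟨φ, hφ⟩ := AlgzApproxLib.exists_quotEquiv hres hlift 1 hkerN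
  let g0 : R →ₐ[k] (C ⧸ J) ⧸ m ^ (0 + 2) :=
    φ.toAlgHom.comp (Ideal.Quotient.mkₐ k (IsLocalRing.maximalIdeal R ^ (1 + 1)))
  have hg0 : F.map (CommAlgCat.ofHom g0) ξ = F.map (CommAlgCat.ofHom (Ideal.Quotient.mkₐ k (m ^ (0 + 2)))) η := by
    simp only [η, ← hx]
    rw [← FunctorToTypes.map_comp_apply, ← FunctorToTypes.map_comp_apply, ← CommAlgCat.ofHom_comp,
      ← CommAlgCat.ofHom_comp]
    refine congrArg (fun h => F.map (CommAlgCat.ofHom h) x) (AlgHom.ext fun b => ?_)
    obtain ⟨a, ha⟩ := Ideal.Quotient.mk_surjective (c b)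
    show φ (Ideal.Quotient.mk _ (f b)) = Ideal.Quotient.mk (m ^ (1 + 1)) (c b)
    rw [← ha, ← hφ, EmbeddingLike.apply_eq_iff_eq, eq_comm, Ideal.Quotient.eq]
    exact compat b a ha.symm
  have step : ∀ n (g : R →ₐ[k] (C ⧸ J) ⧸ m ^ (n + 2)),
      F.map (CommAlgCat.ofHom g) ξ = F.map (CommAlgCat.ofHom (Ideal.Quotient.mkₐ k (m ^ (n + 2)))) η →
      ∃ g' : R →ₐ[k] (C ⧸ J) ⧸ m ^ (n + 1 + 2),
        (Ideal.Quotient.factorₐ k (Ideal.pow_le_pow_right (show n + 2 ≤ n + 1 + 2 by omega))).comp g' = g ∧
        F.map (CommAlgCat.ofHom g') ξ =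
          F.map (CommAlgCat.ofHom (Ideal.Quotient.mkₐ k (m ^ (n + 1 + 2)))) η := by
    intro n g hg
    haveI : IsLocalRing ((C ⧸ J) ⧸ m ^ (n + 1 + 2)) := AlgzApproxLib.isLocalRing_quotient_pow hm (n + 2)
    haveI : IsArtinianRing ((C ⧸ J) ⧸ m ^ (n + 1 + 2)) := AlgzApproxLib.isArtinianRing_quotient_pow hm (n + 2)
    haveI : IsLocalRing ((C ⧸ J) ⧸ m ^ (n + 2)) := AlgzApproxLib.isLocalRing_quotient_pow hm (n + 1)
    haveI : IsArtinianRing ((C ⧸ J) ⧸ m ^ (n + 2)) := AlgzApproxLib.isArtinianRing_quotient_pow hm (n + 1)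
    refine hvers _ _ (AlgzApproxLib.residue_quotient_pow hm hkA (n + 2))
      (Ideal.Quotient.factorₐ k (Ideal.pow_le_pow_right (show n + 2 ≤ n + 1 + 2 by omega)))
      (Ideal.Quotient.factor_surjective (Ideal.pow_le_pow_right (show n + 2 ≤ n + 1 + 2 by omega))) g _ ?_
    rw [hg, ← FunctorToTypes.map_comp_apply, ← CommAlgCat.ofHom_comp, Ideal.Quotient.factorₐ_comp_mk]
  choose s hs1 hs2 using step
  let G : ∀ n, {g : R →ₐ[k] (C ⧸ J) ⧸ m ^ (n + 2) //
      F.map (CommAlgCat.ofHom g) ξ = F.map (CommAlgCat.ofHom (Ideal.Quotient.mkₐ k (m ^ (n + 2)))) η} :=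
    fun n => Nat.rec ⟨g0, hg0⟩ (fun i p => ⟨s i p.1 p.2, hs2 i p.1 p.2⟩) n
  obtain ⟨α, hα⟩ := AlgzApproxLib.exists_completion_equiv hmap hlift hker (fun n => (G n).1)
    (fun n y => DFunLike.congr_fun (hs1 n (G n).1 (G n).2) y) hφ
    (fun y hy => by
      show φ (Ideal.Quotient.mk _ y) = 0
      rw [Ideal.Quotient.eq_zero_iff_mem.mpr (show y ∈ IsLocalRing.maximalIdeal R ^ (1 + 1) from hy), map_zero])
  refine ⟨C ⧸ J, inferInstance, inferInstance, inferInstance, m, hm, fun z => ?_, η, α, fun t => ?_,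
    fun n ψ hψ => ?_⟩
  · obtain ⟨z, rfl⟩ := Ideal.Quotient.mk_surjective z
    obtain ⟨t, ht⟩ := hkA z
    exact ⟨t, (Ideal.Quotient.eq.mpr ht).symm⟩
  · refine AdicCompletion.ext_evalₐ fun n => ?_
    rw [hα, AlgHom.commutes, AlgHom.commutes]
    rfl
  · have h : ψ = (Ideal.Quotient.factorₐ k (Ideal.pow_le_pow_right (show n + 1 ≤ n + 1 + 2 by omega))).comp
        (G (n + 1)).1 := by
      refine AlgHom.ext fun y => ?_
      rw [AlgHom.comp_apply, Ideal.Quotient.factorₐ_apply, ← hα (n + 1) y]
      exact DFunLike.congr_fun hψ y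
    rw [h, CommAlgCat.ofHom_comp, FunctorToTypes.map_comp_apply, (G (n + 1)).2, ← FunctorToTypes.map_comp_apply,
      ← CommAlgCat.ofHom_comp, Ideal.Quotient.factorₐ_comp_mk]

end Groth.Agent.S17372
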