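import Groth.Statements.S17376
import Mathlib.RingTheory.Norm.Basic
import Mathlib.RingTheory.TensorProduct.MvPolynomial
import Mathlib.RingTheory.Polynomial.IsIntegral
import Mathlib.RingTheory.Localization.Integral
import Mathlib.RingTheory.Algebraic.Integral
import Mathlib.LinearAlgebra.Matrix.Nonsingular
import Mathlib.LinearAlgebra.Matrix.Charpoly.Eigs
import Mathlib.LinearAlgebra.TensorProduct.Pi
import Mathlib.FieldTheory.IsAlgClosed.AlgebraicClosure
import Mathlib.RingTheory.Flat.Basic
import Mathlib.FieldTheory.IsAlgClosed.Spectrum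
-- import your own Groth.Agent.* helpers here

set_option autoImplicit false
universe u
open scoped TensorProduct
open CAlg

namespace Groth.Agent.S17376

noncomputable section

lemma isIntegral_det {S Ω : Type*} [CommRing S] [Field Ω] [IsAlgClosed Ω] [Algebra S Ω]
    {ι : Type*} [Fintype ι] [DecidableEq ι] {Q : Matrix ι ι Ω} (hQ : IsIntegral S Q) :
    IsIntegral S Q.det := by
  rw [Matrix.det_eq_prod_roots_charpoly]
  refine IsIntegral.multiset_prod fun μ hμ => ?_
  obtain ⟨g, hg, hg0⟩ := hQ
  refine ⟨g, hg, ?_⟩
  rw [Polynomial.mem_roots Q.charpoly_monic.ne_zero, ← Matrix.mem_spectrum_iff_isRoot_charpoly] at hμ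
  have h0 : Polynomial.aeval Q (g.map (algebraMap S Ω)) = 0 := by
    rw [Polynomial.aeval_map_algebraMap]; exact hg0
  have := spectrum.subset_polynomial_aeval Q (g.map (algebraMap S Ω)) ⟨μ, hμ, rfl⟩
  rw [h0] at this
  rcases subsingleton_or_nontrivial (Matrix ι ι Ω) with hs | hs
  · exact absurd hμ (by rw [spectrum.of_subsingleton]; exact Set.notMem_empty μ)
  · rw [spectrum.zero_eq, Set.mem_singleton_iff] at this
    rw [← Polynomial.eval_map]; exact this

lemma isIntegral_map {S B C : Type*} [CommRing S] [Ring B] [Ring C] [Algebra S B] [Algebra S C] (f : B →ₐ[S] C)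
    {x : B} (h : IsIntegral S x) : IsIntegral S (f x) := h.map f

variable {k K L R : Type u} [Field k] [Field K] [Field L] [Algebra k K] [Algebra k L] [Algebra K L]
  [IsScalarTower k K L] [CommRing R] [Algebra k R] {ι : Type*} [Fintype ι] [DecidableEq ι]

variable (R) in
def rho (b : Module.Basis ι K L) : L ⊗[k] R ≃ₗ[k] (ι → K ⊗[k] R) :=
  TensorProduct.congr ((b.equivFun.restrictScalars k : L ≃ₗ[k] (ι → K))) (LinearEquiv.refl k R) ≪≫ₗ TensorProduct.piLeft k R (fun _ : ι => K)

lemma rho_tmul (b : Module.Basis ι K L) (l : L) (r : R) (i : ι) : rho R b (l ⊗ₜ[k] r) i = b.repr l i ⊗ₜ[k] r := by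
  simp [rho]

variable [Algebra (K ⊗[k] R) (L ⊗[k] R)]

abbrev Compat (k K L R : Type u) [Field k] [Field K] [Field L] [Algebra k K] [Algebra k L] [Algebra K L]
    [CommRing R] [Algebra k R] [Algebra (K ⊗[k] R) (L ⊗[k] R)] : Prop :=
  ∀ (c : K) (r : R), algebraMap (K ⊗[k] R) (L ⊗[k] R) (c ⊗ₜ[k] r) = algebraMap K L c ⊗ₜ[k] r

def bT (b : Module.Basis ι K L) (halg : Compat k K L R) : Module.Basis ι (K ⊗[k] R) (L ⊗[k] R) :=
  Module.Basis.ofEquivFun
    { rho R b with
      map_smul' := fun s x => by
        ext i
        show rho R b (s • x) i = s * rho R b x i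
        induction x using TensorProduct.induction_on with
        | zero => simp
        | add x y hx hy => rw [smul_add, map_add, map_add, Pi.add_apply, Pi.add_apply, hx, hy, mul_add]
        | tmul l r =>
          induction s using TensorProduct.induction_on with
          | zero => simp
          | add x y hx hy => rw [add_smul, map_add, Pi.add_apply, hx, hy, add_mul]
          | tmul c r' =>
            rw [Algebra.smul_def, halg, Algebra.TensorProduct.tmul_mul_tmul, rho_tmul, rho_tmul,
              Algebra.TensorProduct.tmul_mul_tmul, ← Algebra.smul_def, map_smul, Finsupp.smul_apply, smul_eq_mul] }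

lemma bT_repr (b : Module.Basis ι K L) (halg : Compat k K L R) (x : L ⊗[k] R) (i : ι) :
    (bT b halg).repr x i = rho R b x i := by
  rw [← Module.Basis.equivFun_apply, bT, Module.Basis.equivFun_ofEquivFun]; rfl

lemma bT_apply (b : Module.Basis ι K L) (halg : Compat k K L R) (j : ι) : bT b halg j = b j ⊗ₜ[k] 1 := by
  apply (bT b halg).repr.injective
  ext i
  rw [Module.Basis.repr_self, bT_repr, rho_tmul, Module.Basis.repr_self]
  rcases eq_or_ne j i with rfl | h
  · simp [Algebra.TensorProduct.one_def]
  · simp [Finsupp.single_eq_of_ne' h]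

lemma matrix_tmul (b : Module.Basis ι K L) (halg : Compat k K L R) (l : L) (r : R) (i j : ι) :
    Algebra.leftMulMatrix (bT b halg) (l ⊗ₜ[k] r) i j = Algebra.leftMulMatrix b l i j ⊗ₜ[k] r := by
  rw [Algebra.leftMulMatrix_eq_repr_mul, Algebra.leftMulMatrix_eq_repr_mul, bT_apply, bT_repr,
    Algebra.TensorProduct.tmul_mul_tmul, mul_one, rho_tmul]

lemma matrix_natural {R' : Type u} [CommRing R'] [Algebra k R'] [Algebra (K ⊗[k] R') (L ⊗[k] R')]
    (b : Module.Basis ι K L) (halg : Compat k K L R) (halg' : Compat k K L R') (φ : R →ₐ[k] R') (x : L ⊗[k] R) :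
    Algebra.leftMulMatrix (bT b halg') (Algebra.TensorProduct.map (AlgHom.id k L) φ x) =
      (Algebra.TensorProduct.map (AlgHom.id k K) φ).toRingHom.mapMatrix (Algebra.leftMulMatrix (bT b halg) x) := by
  induction x using TensorProduct.induction_on with
  | zero => simp
  | add x y hx hy => rw [map_add, map_add, map_add, map_add, hx, hy]
  | tmul l r =>
    ext i j
    rw [Algebra.TensorProduct.map_tmul, RingHom.mapMatrix_apply, Matrix.map_apply, matrix_tmul, matrix_tmul]
    rfl

lemma det_universal {A : Type u} [CommRing A] [IsDomain A] [IsIntegrallyClosed A] [Algebra k A]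
    [Algebra A K] [IsFractionRing A K] [IsScalarTower k A K] [Algebra A L] [IsScalarTower A K L] [IsScalarTower k A L]
    {σ : Type u} [Fintype σ] [Algebra (K ⊗[k] MvPolynomial σ k) (L ⊗[k] MvPolynomial σ k)]
    (b : Module.Basis ι K L) (halg : Compat k K L (MvPolynomial σ k)) (c : σ → integralClosure A L) :
    ∃ a : A ⊗[k] MvPolynomial σ k, Algebra.TensorProduct.map (IsScalarTower.toAlgHom k A K) (AlgHom.id k _) a =
      (Algebra.leftMulMatrix (bT b halg) (∑ s, (c s : L) ⊗ₜ[k] MvPolynomial.X s)).det := by
  classical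
  let R0 := MvPolynomial σ k
  let S := A ⊗[k] R0
  let fK : S →+* K ⊗[k] R0 := (Algebra.TensorProduct.map (IsScalarTower.toAlgHom k A K) (AlgHom.id k R0)).toRingHom
  let fL : S →+* L ⊗[k] R0 := (algebraMap (K ⊗[k] R0) (L ⊗[k] R0)).comp fK
  letI : Algebra S (K ⊗[k] R0) := fK.toAlgebra
  letI : Algebra S (L ⊗[k] R0) := fL.toAlgebra
  haveI : IsScalarTower S (K ⊗[k] R0) (L ⊗[k] R0) := IsScalarTower.of_algebraMap_eq fun _ => rfl
  have hfL : ∀ (a : A) (r : R0), algebraMap S (L ⊗[k] R0) (a ⊗ₜ[k] r) = algebraMap A L a ⊗ₜ[k] r := fun a r => by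
    show algebraMap (K ⊗[k] R0) (L ⊗[k] R0) (algebraMap A K a ⊗ₜ[k] r) = _
    rw [halg, ← IsScalarTower.algebraMap_apply]
  haveI : IsScalarTower A S (L ⊗[k] R0) := IsScalarTower.of_algebraMap_eq (R := A) (S := S) (A := L ⊗[k] R0) fun a => (hfL a 1).symm
  have hz : IsIntegral S (∑ s, (c s : L) ⊗ₜ[k] MvPolynomial.X s : L ⊗[k] R0) := by
    refine IsIntegral.sum _ fun s _ => ?_
    rw [← mul_one (c s : L), ← one_mul (MvPolynomial.X s), ← Algebra.TensorProduct.tmul_mul_tmul]
    refine IsIntegral.mul ?_ ?_
    · exact ((c s).2.map (Algebra.TensorProduct.includeLeft : L →ₐ[A] L ⊗[k] R0)).tower_top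
    · have := hfL 1 (MvPolynomial.X s)
      rw [map_one] at this
      exact this ▸ isIntegral_algebraMap
  have hQ := isIntegral_map ((Algebra.leftMulMatrix (bT b halg)).restrictScalars S) hz
  let eK := (MvPolynomial.algebraTensorAlgEquiv (σ := σ) k K)
  let eA := (MvPolynomial.algebraTensorAlgEquiv (σ := σ) k A)
  let Ω := AlgebraicClosure (FractionRing (MvPolynomial σ K))
  let θ : K ⊗[k] R0 →+* Ω := ((algebraMap (FractionRing (MvPolynomial σ K)) Ω).comp
    (algebraMap (MvPolynomial σ K) _)).comp eK.toRingEquiv.toRingHom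
  have hθ : Function.Injective θ :=
    ((algebraMap (FractionRing (MvPolynomial σ K)) Ω).injective.comp (IsFractionRing.injective _ _)).comp eK.injective
  letI : Algebra S Ω := (θ.comp fK).toAlgebra
  let θ' : K ⊗[k] R0 →ₐ[S] Ω := { θ with commutes' := fun _ => rfl }
  have h1 := isIntegral_det (isIntegral_map θ'.mapMatrix hQ)
  rw [← AlgHom.map_det, isIntegral_algHom_iff θ' hθ] at h1
  set d := (Algebra.leftMulMatrix (bT b halg) (∑ s, (c s : L) ⊗ₜ[k] MvPolynomial.X s)).det
  have h1' : IsIntegral S d := h1
  letI : Algebra (MvPolynomial σ A) (MvPolynomial σ K) := (MvPolynomial.map (algebraMap A K)).toAlgebra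
  have h2 : IsIntegral (MvPolynomial σ A) (eK d) := by
    refine IsIntegral.map_of_comp_eq eA.toRingEquiv.toRingHom eK.toRingEquiv.toRingHom ?_ h1'
    refine RingHom.ext fun x => ?_
    induction x using TensorProduct.induction_on with
    | zero => simp
    | add x y hx hy => rw [map_add, map_add, hx, hy]
    | tmul a p =>
      show MvPolynomial.map (algebraMap A K) (eA (a ⊗ₜ[k] p)) = eK (algebraMap A K a ⊗ₜ[k] p)
      simp [eA, eK, MvPolynomial.algebraTensorAlgEquiv_tmul, Algebra.smul_def, MvPolynomial.algebraMap_apply, MvPolynomial.map_map, ← IsScalarTower.algebraMap_eq]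
  have h3 : eK d ∈ (MvPolynomial.map (algebraMap A K) : MvPolynomial σ A →+* MvPolynomial σ K).range := by
    rw [(eK d).as_sum]
    refine Subring.sum_mem _ fun m _ => ?_
    obtain ⟨a, ha⟩ := IsIntegrallyClosed.isIntegral_iff.1 (MvPolynomial.isIntegral_iff_isIntegral_coeff.1 h2 m)
    exact ⟨MvPolynomial.monomial m a, by rw [MvPolynomial.map_monomial, ha]⟩
  obtain ⟨q, hq⟩ := h3
  refine ⟨eA.symm q, eK.injective ?_⟩
  rw [← hq]
  conv_rhs => rw [← eA.apply_symm_apply q]
  generalize eA.symm q = x
  induction x using TensorProduct.induction_on with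
  | zero => simp
  | add x y hx hy => rw [map_add, map_add, map_add, map_add, hx, hy]
  | tmul a p =>
    simp [eA, eK, MvPolynomial.algebraTensorAlgEquiv_tmul, Algebra.smul_def, MvPolynomial.algebraMap_apply, MvPolynomial.map_map, ← IsScalarTower.algebraMap_eq]

end


/-- Let k be a field, A an integrally closed domain over k with fraction field K, L a finite extension
of K, B the integral closure of A in L, and R an arbitrary commutative k-algebra; view L ⊗_k R as an
algebra over K ⊗_k R through K → L. Then L ⊗_k R is finite free over K ⊗_k R, so the norm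
(determinant of multiplication) L ⊗_k R → K ⊗_k R is defined; the norm of any element β of B ⊗_k R
(mapped into L ⊗_k R) lies in the image of A ⊗_k R; and β is a nonzerodivisor in B ⊗_k R if and only
if its norm is a nonzerodivisor in K ⊗_k R. (Nonzerodivisors of A ⊗_k R are exactly its elements
that are nonzerodivisors in K ⊗_k R, the latter being a localisation of the former at
nonzerodivisors, so this is the source's formulation with the norm regarded in A ⊗_k R.) -/
theorem result (k A K L R : Type u) [Field k]
    [CommRing A] [IsDomain A] [IsIntegrallyClosed A] [Algebra k A]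
    [Field K] [Algebra A K] [IsFractionRing A K] [Algebra k K] [IsScalarTower k A K]
    [Field L] [Algebra K L] [FiniteDimensional K L] [Algebra A L] [IsScalarTower A K L]
    [Algebra k L] [IsScalarTower k K L] [IsScalarTower k A L]
    [CommRing R] [Algebra k R] :
    letI : Algebra (K ⊗[k] R) (L ⊗[k] R) :=
      (Algebra.TensorProduct.map (IsScalarTower.toAlgHom k K L) (AlgHom.id k R)).toRingHom.toAlgebra
    Module.Free (K ⊗[k] R) (L ⊗[k] R) ∧ Module.Finite (K ⊗[k] R) (L ⊗[k] R) ∧
      ∀ b : (integralClosure A L) ⊗[k] R,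
        Algebra.norm (K ⊗[k] R)
            (Algebra.TensorProduct.map ((integralClosure A L).val.restrictScalars k) (AlgHom.id k R) b) ∈
          Set.range (Algebra.TensorProduct.map (IsScalarTower.toAlgHom k A K) (AlgHom.id k R)) ∧
        (IsRegular b ↔ IsRegular (Algebra.norm (K ⊗[k] R)
            (Algebra.TensorProduct.map ((integralClosure A L).val.restrictScalars k) (AlgHom.id k R) b))) := by
  letI : Algebra (K ⊗[k] R) (L ⊗[k] R) :=
      (Algebra.TensorProduct.map (IsScalarTower.toAlgHom k K L) (AlgHom.id k R)).toRingHom.toAlgebra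
  classical
  let b := Module.finBasis K L
  have halg : Compat k K L R := fun c r => rfl
  refine ⟨Module.Free.of_basis (bT b halg), Module.Finite.of_basis (bT b halg), fun β => ?_⟩
  let j := Algebra.TensorProduct.map ((integralClosure A L).val.restrictScalars k) (AlgHom.id k R)
  show Algebra.norm (K ⊗[k] R) (j β) ∈ _ ∧ (IsRegular β ↔ IsRegular (Algebra.norm (K ⊗[k] R) (j β)))
  rw [Algebra.norm_eq_matrix_det (bT b halg)]
  constructor
  · obtain ⟨T, hT⟩ := TensorProduct.exists_finset β
    let R0 := MvPolynomial T k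
    let φ : R0 →ₐ[k] R := MvPolynomial.aeval fun s => s.1.2
    letI : Algebra (K ⊗[k] R0) (L ⊗[k] R0) :=
      (Algebra.TensorProduct.map (IsScalarTower.toAlgHom k K L) (AlgHom.id k R0)).toRingHom.toAlgebra
    have halg0 : Compat k K L R0 := fun c r => rfl
    obtain ⟨a, ha⟩ := det_universal (A := A) b halg0 (fun s : T => s.1.1)
    refine ⟨Algebra.TensorProduct.map (AlgHom.id k A) φ a, ?_⟩
    have hβ : j β = Algebra.TensorProduct.map (AlgHom.id k L) φ (∑ s : T, (s.1.1 : L) ⊗ₜ[k] MvPolynomial.X s) := by
      rw [hT, map_sum, map_sum, ← Finset.sum_coe_sort]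
      refine Finset.sum_congr rfl fun s _ => ?_
      simp only [j, Algebra.TensorProduct.map_tmul, AlgHom.id_apply]
      show _ = _ ⊗ₜ[k] MvPolynomial.aeval (fun s : T => s.1.2) (MvPolynomial.X s)
      rw [MvPolynomial.aeval_X]
      rfl
    rw [hβ, matrix_natural b halg0 halg φ, ← RingHom.map_det, ← ha]
    have e : (Algebra.TensorProduct.map (IsScalarTower.toAlgHom k A K) (AlgHom.id k R)).comp (Algebra.TensorProduct.map (AlgHom.id k A) φ) =
        (Algebra.TensorProduct.map (AlgHom.id k K) φ).comp (Algebra.TensorProduct.map (IsScalarTower.toAlgHom k A K) (AlgHom.id k R0)) := by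
      apply Algebra.TensorProduct.ext' ; intro x y; simp
    exact AlgHom.congr_fun e a
  · have hj : Function.Injective j := by
      have : j.toLinearMap = LinearMap.rTensor R ((integralClosure A L).val.restrictScalars k).toLinearMap :=
        TensorProduct.ext' fun x r => rfl
      show Function.Injective j.toLinearMap
      rw [this]
      exact Module.Flat.rTensor_preserves_injective_linearMap _ Subtype.val_injective
    haveI : FaithfulSMul A L := (faithfulSMul_iff_algebraMap_injective A L).2 (by
      rw [IsScalarTower.algebraMap_eq A K L]; exact (algebraMap K L).injective.comp (IsFractionRing.injective A K))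
    haveI : Module.IsTorsionFree A L := Module.isTorsionFree_iff_faithfulSMul.2 inferInstance
    have halgA : Algebra.IsAlgebraic A L := (IsFractionRing.comap_isAlgebraic_iff (A := A) (K := K) (C := L)).2 (Algebra.IsAlgebraic.of_finite K L)
    have hloc : ∀ t : L ⊗[k] R, ∃ a : A, a ≠ 0 ∧ ∃ x, j x = (algebraMap A L a ⊗ₜ[k] 1) * t := by
      intro t
      induction t using TensorProduct.induction_on with
      | zero => exact ⟨1, one_ne_zero, 0, by simp⟩
      | tmul l r =>
        obtain ⟨a, ha, hal⟩ := (halgA.isAlgebraic l).exists_integral_multiple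
        exact ⟨a, ha, (⟨a • l, hal⟩ : integralClosure A L) ⊗ₜ[k] r, by simp [j, Algebra.smul_def]⟩
      | add t t' ht ht' =>
        obtain ⟨a, ha, x, hx⟩ := ht
        obtain ⟨a', ha', x', hx'⟩ := ht'
        refine ⟨a * a', mul_ne_zero ha ha', (algebraMap A (integralClosure A L) a' ⊗ₜ[k] 1) * x + (algebraMap A (integralClosure A L) a ⊗ₜ[k] 1) * x', ?_⟩
        rw [map_add, map_mul, map_mul, hx, hx', map_mul, mul_add]
        simp only [j, Algebra.TensorProduct.map_tmul, map_one, ← mul_assoc, Algebra.TensorProduct.tmul_mul_tmul, one_mul]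
        simp [mul_comm (algebraMap A L a) (algebraMap A L a')]
    rw [isRegular_iff_mem_nonZeroDivisors (r := Matrix.det _), ← Matrix.nonsingular_iff_det_mem_nonZeroDivisors,
      ← Matrix.isLeftRegular_iff_nonsingular, Matrix.isLeftRegular_iff_mulVec_injective]
    have hmv : Function.Injective (Algebra.leftMulMatrix (bT b halg) (j β)).mulVec ↔ IsLeftRegular (j β) := by
      constructor
      · intro h x y hxy
        apply (bT b halg).equivFun.injective
        apply h
        simp only [Module.Basis.equivFun_apply]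
        rw [Algebra.leftMulMatrix_mulVec_repr, Algebra.leftMulMatrix_mulVec_repr]
        simp only at hxy
        rw [hxy]
      · intro h x y hxy
        obtain ⟨x, rfl⟩ := (bT b halg).equivFun.surjective x
        obtain ⟨y, rfl⟩ := (bT b halg).equivFun.surjective y
        simp only [Module.Basis.equivFun_apply] at hxy ⊢
        rw [Algebra.leftMulMatrix_mulVec_repr, Algebra.leftMulMatrix_mulVec_repr] at hxy
        rw [h ((bT b halg).repr.injective (Finsupp.ext fun i => congrFun hxy i))]
    rw [hmv]
    constructor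
    · intro hβ
      refine isLeftRegular_of_non_zero_divisor _ fun t ht => ?_
      obtain ⟨a, ha, x, hx⟩ := hloc t
      have h0 : β * x = 0 := hj (by rw [map_mul, hx, map_zero, ← mul_assoc, mul_comm (j β), mul_assoc, ht, mul_zero])
      have hx0 : x = 0 := hβ.left (show β * x = β * 0 by rw [h0, mul_zero])
      rw [hx0, map_zero] at hx
      have hne : algebraMap A L a ≠ 0 := by
        rw [IsScalarTower.algebraMap_apply A K L, map_ne_zero]
        exact (map_ne_zero_iff _ (IsFractionRing.injective A K)).2 ha
      calc t = ((algebraMap A L a)⁻¹ ⊗ₜ[k] (1 : R)) * ((algebraMap A L a ⊗ₜ[k] 1) * t) := by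
            rw [← mul_assoc, Algebra.TensorProduct.tmul_mul_tmul, inv_mul_cancel₀ hne, mul_one, ← Algebra.TensorProduct.one_def, one_mul]
        _ = 0 := by rw [← hx, mul_zero]
    · intro h
      have h' : IsLeftRegular β := fun x y hxy => hj (h (show j β * j x = j β * j y by rw [← map_mul, ← map_mul]; exact congrArg j hxy))
      exact (Commute.isRegular_iff fun b => Commute.all _ b).2 h'


end Groth.Agent.S17376
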