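import Groth.Statements.S1738
import Groth.Agent.LcFinLib.Main

set_option autoImplicit false
universe u
open CategoryTheory
attribute [local instance] HasDerivedCategory.standard
open LocCoh

namespace Groth.Agent.S1738

set_option maxHeartbeats 1000000

open CategoryTheory.Limits LcFinLib LcFinLib.GammaDelta

variable {A : Type u} [CommRing A] {T : Set (PrimeSpectrum A)}

/-- The saturation with respect to `T` has torsion-free quotient. -/
theorem gam_quotient {E Q : Type u} [AddCommGroup E] [Module A E] [AddCommGroup Q] [Module A Q]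
    (g : E →ₗ[A] Q) : gam T (E ⧸ (gam T Q).comap g) = ⊥ := by
  refine eq_bot_iff.2 fun y hy => ?_
  obtain ⟨x, rfl⟩ := Submodule.Quotient.mk_surjective _ y
  refine (Submodule.mem_bot A).2 ((Submodule.Quotient.mk_eq_zero _).2 ?_)
  rw [Submodule.mem_comap]
  refine mem_gam_iff.2 fun r hr => ?_
  obtain ⟨s, hs, hsx⟩ := mem_gam_iff.1 hy r hr
  have h1 : Submodule.Quotient.mk (p := (gam T Q).comap g) (s • x) = 0 :=
    (Submodule.Quotient.mk_smul _ s x).trans hsx
  have h2 : g (s • x) ∈ gam T Q := Submodule.mem_comap.1 ((Submodule.Quotient.mk_eq_zero _).1 h1)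
  obtain ⟨t, ht, htx⟩ := mem_gam_iff.1 h2 r hr
  refine ⟨t * s, fun h => (r.isPrime.mem_or_mem h).elim ht hs, ?_⟩
  rw [mul_smul, ← map_smul g s x]
  exact htx

theorem gam_bot_of_injective {M N : Type u} [AddCommGroup M] [Module A M] [AddCommGroup N]
    [Module A N] (f : M →ₗ[A] N) (hf : Function.Injective f) (h : gam T N = ⊥) : gam T M = ⊥ :=
  eq_bot_iff.2 fun x hx => (Submodule.mem_bot A).2
    (hf (((Submodule.mem_bot A).1 (h.le (map_mem_gam f hx))).trans (map_zero f).symm))

theorem F0_subsingleton (G : GammaDelta T) (M : ModuleCat.{u} A) (h : gam T M = ⊥) :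
    Subsingleton ((G.D.F 0).obj M) := by
  haveI : Subsingleton ((gamF T).obj M) :=
    subsingleton_of_forall_eq 0 fun z => Subtype.ext ((Submodule.mem_bot A).1 (h ▸ z.2))
  exact (G.e.app M).toLinearEquiv.toEquiv.subsingleton

theorem gam_quotient_gam (E : Type u) [AddCommGroup E] [Module A E] :
    gam T (E ⧸ gam T E) = ⊥ := by
  have h := gam_quotient (T := T) (LinearMap.id : E →ₗ[A] E)
  rwa [Submodule.comap_id] at h

/-- The torsion-free quotient of an injective module is injective. -/
theorem baer_quotient_gam [IsNoetherianRing A] {E : Type u} [AddCommGroup E] [Module A E]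
    (hE : Module.Baer A E) (T : Set (PrimeSpectrum A)) : Module.Baer A (E ⧸ gam T E) := by
  have hΓ : Module.Injective A (gam T E) := (baer_gam hE T).injective
  obtain ⟨r, hr⟩ := hΓ.out (gam T E).subtype Subtype.val_injective LinearMap.id
  let sec : (E ⧸ gam T E) →ₗ[A] E :=
    (gam T E).liftQ (LinearMap.id - (gam T E).subtype ∘ₗ r) fun z hz => by
      have h1 : r z = ⟨z, hz⟩ := hr ⟨z, hz⟩
      simp [h1]
  have hsec : ∀ y, (gam T E).mkQ (sec y) = y := by
    intro y
    obtain ⟨z, rfl⟩ := Submodule.mkQ_surjective _ y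
    show (gam T E).mkQ (z - (r z).1) = (gam T E).mkQ z
    rw [map_sub, sub_eq_self]
    exact (Submodule.Quotient.mk_eq_zero _).2 (r z).2
  intro L g
  obtain ⟨g', hg'⟩ := hE L (sec ∘ₗ g)
  exact ⟨(gam T E).mkQ ∘ₗ g', fun y hy => by
    rw [LinearMap.comp_apply, hg' y hy, LinearMap.comp_apply, hsec]⟩

/-- A torsion-free module embeds in a torsion-free injective one. -/
theorem exists_embedding [IsNoetherianRing A] (M : Type u) [AddCommGroup M] [Module A M]
    (hM : gam T M = ⊥) : ∃ (E : Type u) (_ : AddCommGroup E) (_ : Module A E) (ι : M →ₗ[A] E),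
      Injective (ModuleCat.of A E) ∧ gam T E = ⊥ ∧ Function.Injective ι := by
  obtain ⟨E₀, hE₀, j, hj⟩ : ∃ (E₀ : ModuleCat.{u} A) (_ : Module.Baer A E₀) (j : M →ₗ[A] E₀),
      Function.Injective j :=
    ⟨Injective.under (ModuleCat.of A M),
      Module.Baer.of_injective (haveI : Injective (ModuleCat.of A (Injective.under (ModuleCat.of A M) : ModuleCat.{u} A)) :=
          (inferInstance : Injective (Injective.under (ModuleCat.of A M)))
        Module.injective_module_of_injective_object A _),
      (Injective.ι (ModuleCat.of A M)).hom,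
      (ModuleCat.mono_iff_injective (Injective.ι (ModuleCat.of A M))).1 inferInstance⟩
  haveI : Module.Injective A (E₀ ⧸ gam T E₀) := (baer_quotient_gam hE₀ T).injective
  refine ⟨E₀ ⧸ gam T E₀, inferInstance, inferInstance, (gam T E₀).mkQ ∘ₗ j,
    Module.injective_object_of_injective_module A _, gam_quotient_gam E₀, ?_⟩
  exact (injective_iff_map_eq_zero _).2 fun x hx => (Submodule.mem_bot A).1
    (hM.le (mem_gam_of_injective j hj ((Submodule.Quotient.mk_eq_zero _).1 hx)))

/-- Saturating `M` inside an injective module. -/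
theorem exists_saturation [IsNoetherianRing A] (G : GammaDelta T) (M : Type u) [AddCommGroup M]
    [Module A M] [Module.Finite A M] (hH1 : Module.Finite A ((G.D.F 1).obj (ModuleCat.of A M))) :
    ∃ (N : Type u) (_ : AddCommGroup N) (_ : Module A N) (_ : Module.Finite A N) (f : M →ₗ[A] N),
      (∀ x, f x = 0 → x ∈ gam T M) ∧
      (∀ y : N, ∀ r : PrimeSpectrum A, r ∉ T → ∃ s ∉ r.asIdeal, ∃ x, f x = s • y) ∧
      (∀ i ≤ 1, Subsingleton ((G.D.F i).obj (ModuleCat.of A N))) := by
  classical
  let Γ := gam T M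
  let M₁ := M ⧸ Γ
  have hM₁ : gam T M₁ = ⊥ := gam_quotient_gam M
  obtain ⟨E, _, _, ι, hEinj, hE, hι⟩ := exists_embedding (T := T) M₁ hM₁
  let Q := E ⧸ LinearMap.range ι
  let g : E →ₗ[A] Q := (LinearMap.range ι).mkQ
  let N : Submodule A E := (gam T Q).comap g
  -- `H^1(M₁)` is finite
  let S₀ : ShortComplex (ModuleCat.{u} A) := ShortComplex.moduleCatMk Γ.subtype Γ.mkQ
    (LinearMap.ext fun x => (Submodule.Quotient.mk_eq_zero _).2 x.2)
  have hS₀ : S₀.ShortExact :=
    { exact := (ShortComplex.ShortExact.moduleCat_exact_iff_function_exact _).2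
        (LinearMap.exact_subtype_mkQ Γ)
      mono_f := (ModuleCat.mono_iff_injective _).2 Subtype.val_injective
      epi_g := (ModuleCat.epi_iff_surjective _).2 (Submodule.mkQ_surjective _) }
  have h1M₁ : Module.Finite A ((G.D.F 1).obj (ModuleCat.of A M₁)) := by
    haveI : Module.Finite A ((G.D.F 1).obj S₀.X₂) := hH1
    refine Module.Finite.of_surjective ((G.D.F 1).map S₀.g).hom fun x => ?_
    haveI : Subsingleton ((G.D.F (1 + 1)).obj S₀.X₁) :=
      G.subsingleton_F_of_gam_top 1 S₀.X₁ gam_gam
    exact (ShortComplex.moduleCat_exact_iff _).1 (G.D.exact₃ hS₀ 1) x (Subsingleton.elim _ _)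
  -- `Γ_T Q` embeds in it
  let S₁ : ShortComplex (ModuleCat.{u} A) := ShortComplex.moduleCatMk ι g
    (LinearMap.ext fun x => (Submodule.Quotient.mk_eq_zero _).2 ⟨x, rfl⟩)
  have hS₁ : S₁.ShortExact :=
    { exact := (ShortComplex.ShortExact.moduleCat_exact_iff_function_exact _).2
        (LinearMap.exact_map_mkQ_range ι)
      mono_f := (ModuleCat.mono_iff_injective _).2 hι
      epi_g := (ModuleCat.epi_iff_surjective _).2 (Submodule.mkQ_surjective _) }
  have hΓQ : Module.Finite A (gam T Q) := by
    haveI : IsNoetherian A ((G.D.F (0 + 1)).obj S₁.X₁) :=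
      @isNoetherian_of_isNoetherianRing_of_finite A _ _ _ _ _ h1M₁
    have hinj : Function.Injective (G.D.δ hS₁ 0).hom := (injective_iff_map_eq_zero _).2 fun x hx => by
      obtain ⟨w, hw⟩ := (ShortComplex.moduleCat_exact_iff _).1 (G.D.exact₃ hS₁ 0) x hx
      haveI : Subsingleton ((G.D.F 0).obj S₁.X₂) := F0_subsingleton G S₁.X₂ hE
      rw [← hw, Subsingleton.elim w 0]
      exact map_zero _
    haveI : Module.Finite A ((G.D.F 0).obj S₁.X₃) := Module.Finite.of_injective _ hinj
    exact Module.Finite.equiv (G.e.app S₁.X₃).toLinearEquiv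
  have hN : N.FG := by
    refine Submodule.fg_of_fg_map_of_fg_inf_ker g ?_ ?_
    · rw [Submodule.map_comap_eq_of_surjective (Submodule.mkQ_surjective _)]
      exact Module.Finite.iff_fg.1 hΓQ
    · have h1 : N ⊓ LinearMap.ker g = LinearMap.range ι := by
        rw [inf_eq_right.2 fun z hz => show g z ∈ gam T Q by
          rw [LinearMap.mem_ker.1 hz]; exact zero_mem _]
        exact Submodule.ker_mkQ _
      rw [h1]
      exact Module.Finite.iff_fg.1 (Module.Finite.range ι)
  haveI : Module.Finite A N := Module.Finite.iff_fg.2 hN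
  let f : M →ₗ[A] N := (ι ∘ₗ Γ.mkQ).codRestrict N fun x => by
    show g (ι (Γ.mkQ x)) ∈ gam T Q
    rw [show g (ι (Γ.mkQ x)) = 0 from
      (Submodule.Quotient.mk_eq_zero _).2 (LinearMap.mem_range_self ι _)]
    exact zero_mem _
  refine ⟨N, inferInstance, inferInstance, inferInstance, f, fun x hx => ?_, fun y r hr => ?_,
    fun i hi => ?_⟩
  · exact (Submodule.Quotient.mk_eq_zero Γ).1
      (hι ((congrArg Subtype.val hx).trans (map_zero ι).symm))
  · obtain ⟨s, hs, hsy⟩ := mem_gam_iff.1 y.2 r hr
    rw [← map_smul] at hsy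
    obtain ⟨z, hz⟩ := (Submodule.Quotient.mk_eq_zero _).1 hsy
    obtain ⟨x, rfl⟩ := Submodule.mkQ_surjective Γ z
    exact ⟨s, hs, x, Subtype.ext hz⟩
  · have h0 : gam T N = ⊥ := gam_bot_of_injective N.subtype Subtype.val_injective hE
    match i, hi with
    | 0, _ => exact F0_subsingleton G (ModuleCat.of A N) h0
    | 1, _ =>
      let S₂ : ShortComplex (ModuleCat.{u} A) := ShortComplex.moduleCatMk N.subtype N.mkQ
        (LinearMap.ext fun x => (Submodule.Quotient.mk_eq_zero _).2 x.2)
      have hS₂ : S₂.ShortExact :=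
        { exact := (ShortComplex.ShortExact.moduleCat_exact_iff_function_exact _).2
            (LinearMap.exact_subtype_mkQ N)
          mono_f := (ModuleCat.mono_iff_injective _).2 Subtype.val_injective
          epi_g := (ModuleCat.epi_iff_surjective _).2 (Submodule.mkQ_surjective _) }
      haveI : Injective S₂.X₂ := hEinj
      haveI := G.D.epi_δ hS₂ 0 (G.eff S₂.X₂ inferInstance 0)
      haveI : Subsingleton ((G.D.F 0).obj S₂.X₃) := F0_subsingleton G S₂.X₃ (gam_quotient g)
      exact ((ModuleCat.epi_iff_surjective (G.D.δ hS₂ 0)).1 inferInstance).subsingleton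


/-- Let A be a Noetherian ring with a dualizing complex, T' ⊆ Spec A stable under specialization, and M
a finite A-module such that depth(M_p) ≥ 1 whenever q covers p in Spec A with q in T' and p outside
T'. Then there are a finite A-module M'' and a map M → M'' which is bijective after localizing at
every prime outside T' and such that M''_p has depth ≥ 2 for every p in T'. (The source: coherent
modules on a Noetherian scheme locally having a dualizing complex, with uniqueness and a pullback
clause.) -/
theorem result (A : Type u) [CommRing A] [IsNoetherianRing A] (hA : ∃ ω : Dual.D A, Dual.IsDualizing A ω) (T' : Set (PrimeSpectrum A)) (hT : StableUnderSpecialization T') (M : Type u) [AddCommGroup M] [Module A M] [Module.Finite A M] (hM : ∀ p q : PrimeSpectrum A, p ⋖ q → q ∈ T' → p ∉ T' → 1 ≤ LocCoh.depth (Localization.AtPrime p.asIdeal) (LocalizedModule p.asIdeal.primeCompl M)) : ∃ (M'' : Type u) (_ : AddCommGroup M'') (_ : Module A M'') (_ : Module.Finite A M'') (f : M →ₗ[A] M''), (∀ p : PrimeSpectrum A, p ∉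 T' → Function.Bijective (LocalizedModule.map p.asIdeal.primeCompl f)) ∧ ∀ p : PrimeSpectrum A, p ∈ T' → 2 ≤ LocCoh.depth (Localization.AtPrime p.asIdeal) (LocalizedModule p.asIdeal.primeCompl M'') := by
  classical
  obtain ⟨ω, hω⟩ := hA
  let G := LcFinLib.htGD T'
  have hH1 : Module.Finite A ((G.D.F 1).obj (ModuleCat.of A M)) := by
    obtain ⟨J, hJ, hk⟩ := LcFinLib.exists_ideal_kill hω M G hT T' hT 1 fun p q hp hq hpq => by
      rw [LcFinLib.krullDim_Icc_eq hω hpq, ← WithBot.coe_add]
      refine WithBot.coe_lt_coe.2 ?_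
      have hne : p < q := lt_of_le_of_ne hpq fun h => hp (h ▸ hq)
      have h1 := DualCxLib.deg_strictMono hω hne
      by_cases h2 : (DualCxLib.deg hω q - DualCxLib.deg hω p).toNat = 1
      · have hcov : p ⋖ q := ⟨hne, fun r hr hr' => by
          have a := DualCxLib.deg_strictMono hω hr
          have b := DualCxLib.deg_strictMono hω hr'
          omega⟩
        rw [h2]
        exact lt_of_lt_of_le (by norm_num) (add_le_add (hM p q hcov hq hp) le_rfl)
      · refine lt_of_lt_of_le ?_ le_add_self
        exact_mod_cast (show 1 < (DualCxLib.deg hω q - DualCxLib.deg hω p).toNat by omega)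
    exact G.finite_of_killed 1 (ModuleCat.of A M) J hJ hk
  obtain ⟨N, _, _, _, f, hker, hcok, hvan⟩ := exists_saturation G M hH1
  refine ⟨N, inferInstance, inferInstance, inferInstance, f, fun p hp => ⟨?_, ?_⟩, fun q hq => ?_⟩
  · refine (injective_iff_map_eq_zero _).2 fun z hz => ?_
    induction z using LocalizedModule.induction_on with
    | h m s =>
      rw [LocalizedModule.map_mk, ← LocalizedModule.zero_mk s, LocalizedModule.mk_eq] at hz
      obtain ⟨t, ht⟩ := hz
      simp only [smul_zero] at ht
      obtain ⟨w, hw, hwm⟩ := LcFinLib.mem_gam_iff.1 (hker ((t.1 * s.1) • m)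
        (by rw [map_smul, mul_smul]; exact ht)) p hp
      rw [← LocalizedModule.zero_mk s, LocalizedModule.mk_eq]
      refine ⟨⟨w * t.1, fun h => (p.isPrime.mem_or_mem h).elim hw t.2⟩, ?_⟩
      simp only [smul_zero, Submonoid.smul_def]
      rw [mul_smul] at hwm ⊢
      exact hwm
  · intro z
    induction z using LocalizedModule.induction_on with
    | h y s =>
      obtain ⟨t, ht, x, hx⟩ := hcok y p hp
      refine ⟨LocalizedModule.mk x (⟨t, ht⟩ * s), ?_⟩
      rw [LocalizedModule.map_mk, hx, LocalizedModule.mk_eq]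
      exact ⟨1, by simp only [one_smul, Submonoid.smul_def, Submonoid.coe_mul]; rw [smul_smul, mul_comm]⟩
  · have h := LcFinLib.lt_depth_add_of_kill hω N G hT ∅ 1 ⊤
      (fun r hr => absurd (top_le_iff.1 hr) r.isPrime.ne_top)
      (fun i hi a _ x => @Subsingleton.elim _ (hvan i hi) _ _) q q (Set.notMem_empty q) hq le_rfl
    rw [LcFinLib.krullDim_Icc_eq hω le_rfl, sub_self, Int.toNat_zero] at h
    revert h
    generalize LocCoh.depth (Localization.AtPrime q.asIdeal) (LocalizedModule q.asIdeal.primeCompl N) = D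
    intro h
    induction D using ENat.recTopCoe with
    | top => exact le_top
    | coe D =>
      have h' : 1 < D := by exact_mod_cast (by simpa using h)
      exact_mod_cast (show 2 ≤ D by omega)

end Groth.Agent.S1738
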