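import Groth.Statements.S17380
import Mathlib
import Groth.Agent.GrowthLib.VolNum
-- import your own Groth.Agent.* helpers here

set_option autoImplicit false
universe u
open CategoryTheory CategoryTheory.Limits AlgebraicGeometry
open scoped ENNReal
open Variety

namespace Groth.Agent.S17380

/-- Let X be a geometrically integral scheme of dimension d, proper over a field k and admitting an
ample invertible module, and L an invertible module on X which is big, i.e. the lower limit of dim_k
H^0(X, L^m)/m^d as m → ∞ is positive. Then some power L^a, a > 0, is such that H^0(X, L^(aj) ⊗ N) ≠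
0 for every j > 0 and every numerically trivial invertible module N (degree zero on every integral
closed one-dimensional subscheme); in other words every invertible module numerically equivalent to
L^(aj) comes from an effective divisor. (The published statement asserts this for all sufficiently
large powers of L; its printed reduction to an ample module yields one power a and its multiples,
which is what is stated.) -/
theorem result (k : Type u) [Field k] (X : Scheme.{u})
    [X.Over (Spec (CommRingCat.of k))] [IsIntegral X] [GeometricallyIntegral (X ↘ Spec (CommRingCat.of k))]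
    [IsProper (X ↘ Spec (CommRingCat.of k))] (hproj : ∃ A : X.Modules, CohB1.IsAmple A)
    (d : ℕ) (hd : topologicalKrullDim X = d) (L : X.Modules) (hL : PicF.IsInvertible L)
    (hbig : 0 < Filter.liminf (fun m : ℕ => (Module.finrank k (Coh.HH X (CohB1.tensorPow L m) 0) : ℝ≥0∞) /
        (m : ℝ≥0∞) ^ d) Filter.atTop) :
    ∃ a : ℕ, 0 < a ∧ ∀ j : ℕ, 0 < j → ∀ N : X.Modules, PicF.IsInvertible N → Pic13.IsNumEquivZero k X N →
      0 < Module.finrank k (Coh.HH X (CohB1.tensorMod (CohB1.tensorPow L (a * j)) N) 0) := by
  obtain ⟨A, hA⟩ := hproj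
  obtain ⟨c, hc0, hc⟩ := exists_between hbig
  have hev := Filter.eventually_lt_of_lt_liminf hc
  obtain ⟨m₁, hm₁⟩ := Filter.eventually_atTop.1 hev
  have hgrow : GrowthLib.EvGrows k L d := by
    refine ⟨c.toReal, ENNReal.toReal_pos hc0.ne' (ne_top_of_lt hc), max m₁ 1, fun m hm => ?_⟩
    have h0 : ((m : ℝ≥0∞)) ^ d ≠ 0 := pow_ne_zero _ (by simp; omega)
    have h := (ENNReal.le_div_iff_mul_le (Or.inl h0) (Or.inl (ENNReal.pow_ne_top (ENNReal.natCast_ne_top m)))).1
      (hm₁ m (le_of_max_le_left hm)).le
    have h2 := ENNReal.toReal_mono (ENNReal.natCast_ne_top _) h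
    rwa [ENNReal.toReal_mul, ENNReal.toReal_pow, ENNReal.toReal_natCast, ENNReal.toReal_natCast] at h2
  obtain ⟨a, ha, h⟩ := GrowthLib.exists_big_NT k X hA hL
    (GrowthLib.isBigMod_of_grows (k := k) hA hL hd (GrowthLib.grows_of_evGrows hgrow))
  exact ⟨a, ha, fun j hj N hN hNum => h j hj N (NumTrivLib.NT.of_isNumEquivZero hN hNum)⟩

end Groth.Agent.S17380
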