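import Groth.Statements.S17384
import Groth.Agent.NagataCompLib.GluePair
import Groth.Agent.LocImmLib.Graph

set_option autoImplicit false
universe u
open FlatMor

namespace Groth.Agent.S17384

open AlgebraicGeometry CategoryTheory Limits in
/-- Let S be a quasi-compact quasi-separated scheme, X and Y quasi-compact quasi-separated S-schemes
with Y → S separated and locally of finite type, U ⊆ V ⊆ X dense quasi-compact open subschemes, and
f : U → Y an S-morphism which is a quasi-domination of V over Y: the image Γ of its graph morphism U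
→ X ×_S Y satisfies closure(Γ) ∩ (part over V) ⊆ Γ, i.e. the graph is closed in V ×_S Y. Then there
are a blowing up q : X̃ → X in a quasi-coherent ideal of finite type with support disjoint from V, a
dense open W ⊆ X̃ containing q⁻¹(U), and an S-morphism f̃ : W → Y which agrees with f on q⁻¹(U) and
whose graph morphism W → X̃ ×_S Y has closed image (a quasi-domination of X̃ over Y extending f). -/
theorem result
    {S X Y : Scheme.{u}} [CompactSpace S] [QuasiSeparatedSpace S]
    [CompactSpace X] [QuasiSeparatedSpace X] [CompactSpace Y] [QuasiSeparatedSpace Y]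
    (pX : X ⟶ S) (pY : Y ⟶ S) [IsSeparated pY] [LocallyOfFiniteType pY]
    (U V : X.Opens) (hUV : U ≤ V) (hU : IsCompact (U : Set X)) (hV : IsCompact (V : Set X))
    (hUd : Dense (U : Set X))
    (f : (U : Scheme.{u}) ⟶ Y) (hf : U.ι ≫ pX = f ≫ pY)
    (hcl : closure (Set.range (fun x => pullback.lift U.ι f hf x)) ∩
        ((pullback.fst pX pY) ⁻¹ᵁ V : Set ↥(pullback pX pY)) ⊆ Set.range (fun x => pullback.lift U.ι f hf x)) :
    ∃ (𝓘 : X.IdealSheafData) (Xt : Scheme.{u}) (q : Xt ⟶ X),
      BlowUp.IsBlowUp q 𝓘 ∧ BlowUp.IsAdmissibleFor V 𝓘 ∧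
      ∃ (W : Xt.Opens) (hle : q ⁻¹ᵁ U ≤ W) (ft : (W : Scheme.{u}) ⟶ Y) (hft : W.ι ≫ q ≫ pX = ft ≫ pY),
        Dense (W : Set Xt) ∧ Xt.homOfLE hle ≫ ft = (q ∣_ U) ≫ f ∧
        IsClosed (Set.range (fun x => pullback.lift W.ι ft hft x)) := by
  classical
  haveI : CompactSpace ↥(U : Scheme.{u}) := isCompact_iff_compactSpace.mp hU
  haveI : QuasiCompact pY := NagataCompLib.quasiCompact_of_compactSpace pY
  let σ : (U : Scheme.{u}) ⟶ pullback pX pY := pullback.lift U.ι f hf
  haveI : QuasiSeparatedSpace ↥(pullback pX pY) := quasiSeparatedSpace_of_quasiSeparated (pullback.fst pX pY)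
  haveI : QuasiCompact σ := NagataCompLib.quasiCompact_of_compactSpace σ
  let φ : σ.image ⟶ X := σ.imageι ≫ pullback.fst pX pY
  have hσ : σ ≫ pullback.fst pX pY = U.ι := pullback.lift_fst _ _ _
  have hiso : IsIso (φ ∣_ U.ι.opensRange) := RGFlatLib.isIso_image_of_section σ _ _ hσ
  have hpre : φ ⁻¹ᵁ V = φ ⁻¹ᵁ U.ι.opensRange := by
    refine le_antisymm (fun γ hγ => ?_) fun γ hγ => hUV ((Scheme.Opens.opensRange_ι U).le hγ)
    obtain ⟨t, ht⟩ := hcl ⟨NagataCompLib.imageι_mem_closure σ γ, hγ⟩
    exact ⟨t, by rw [← hσ, Scheme.Hom.comp_apply]; exact congrArg (pullback.fst pX pY) ht⟩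
  have htoI : σ.toImage ≫ φ = U.ι := by rw [Scheme.Hom.toImage_imageι_assoc, hσ]
  haveI : IsOpenImmersion (φ ∣_ V) := NagataCompLib.isOpenImmersion_restrict_of_eq φ hpre hiso
  obtain ⟨K, Xt, q, Z, o, z, hq, hK, ho, hoq, hz, hKz⟩ := NagataCompLib.exists_side φ V hV
  haveI := ho
  haveI := BlowUpLib.isProper_of_isBlowUp hq hK.1
  haveI := BlowUpLib.isProper_of_isBlowUp hz hKz.1
  haveI hqV : IsIso (q ∣_ V) := NagataCompLib.isIso_restrict_of_admissible hq hK
  haveI hzV : IsIso (z ∣_ (φ ⁻¹ᵁ V)) := NagataCompLib.isIso_restrict_of_admissible hz hKz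
  let W : Xt.Opens := o.opensRange
  have hle : q ⁻¹ᵁ U ≤ W := by
    intro x hx
    have hm : σ.toImage ⟨q x, hx⟩ ∈ φ ⁻¹ᵁ V := by
      show φ (σ.toImage ⟨q x, hx⟩) ∈ V
      rw [← Scheme.Hom.comp_apply, htoI]
      exact hUV hx
    obtain ⟨⟨y, hy⟩, hyz⟩ := (z ∣_ (φ ⁻¹ᵁ V)).homeomorph.surjective ⟨_, hm⟩
    have hyz' : z y = σ.toImage ⟨q x, hx⟩ := by
      have := congrArg Subtype.val hyz
      rw [Scheme.Hom.homeomorph_apply, morphismRestrict_base_coe] at this
      exact this
    have hqy : q (o y) = q x := by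
      rw [← Scheme.Hom.comp_apply, hoq, Scheme.Hom.comp_apply, hyz', ← Scheme.Hom.comp_apply, htoI]
      rfl
    exact ⟨y, congrArg Subtype.val ((q ∣_ V).homeomorph.injective
      (a₁ := ⟨o y, show q (o y) ∈ V from hqy ▸ hUV hx⟩) (a₂ := ⟨x, hUV hx⟩) (Subtype.ext (by
        rw [Scheme.Hom.homeomorph_apply, Scheme.Hom.homeomorph_apply, morphismRestrict_base_coe,
          morphismRestrict_base_coe]
        exact hqy)))⟩
  have hWo : W.ι = o.isoOpensRange.inv ≫ o := (Scheme.Hom.isoOpensRange_inv_comp o).symm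
  let ft : (W : Scheme.{u}) ⟶ Y := o.isoOpensRange.inv ≫ z ≫ σ.imageι ≫ pullback.snd pX pY
  have hft : W.ι ≫ q ≫ pX = ft ≫ pY := by
    rw [hWo, Category.assoc, reassoc_of% hoq]
    simp only [ft, φ, Category.assoc, pullback.condition]
  refine ⟨K, Xt, q, hq, hK, W, hle, ft, hft, ?_, ?_, ?_⟩
  · exact (Groth.Agent.LocImmLib.dense_preimage_blowUp hq hUd (hK.2.mono_right hUV)).mono hle
  · have key : Xt.homOfLE hle ≫ o.isoOpensRange.inv ≫ z = (q ∣_ U) ≫ σ.toImage := by
      haveI := hiso
      refine ModPairLib.eq_of_isIso_restrict (s := φ) (V := U.ι.opensRange) ?_ fun t => ?_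
      · simp only [Category.assoc]
        rw [← hoq, ← reassoc_of% hWo, Scheme.homOfLE_ι_assoc, htoI, morphismRestrict_ι]
      · rw [Scheme.Opens.opensRange_ι, ← Scheme.Hom.comp_apply]
        simp only [Category.assoc]
        rw [← hoq, ← reassoc_of% hWo, Scheme.homOfLE_ι_assoc]
        exact t.2
    simp only [ft]
    rw [reassoc_of% key, Scheme.Hom.toImage_imageι_assoc, pullback.lift_snd]
  · have hT : o ≫ q ≫ pX = (z ≫ σ.imageι ≫ pullback.snd pX pY) ≫ pY := by
      rw [reassoc_of% hoq]
      simp only [φ, Category.assoc, pullback.condition]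
    let T : Z ⟶ pullback (q ≫ pX) pY := pullback.lift o (z ≫ σ.imageι ≫ pullback.snd pX pY) hT
    haveI : IsClosedImmersion T := by
      let m : pullback (q ≫ pX) pY ⟶ pullback pX pY :=
        pullback.map _ _ _ _ q (𝟙 Y) (𝟙 S) (by simp) (by simp)
      haveI : IsSeparated m := by
        haveI : IsSeparated (m ≫ pullback.fst pX pY) := by rw [pullback.lift_fst]; infer_instance
        exact IsSeparated.of_comp m (pullback.fst pX pY)
      haveI : IsProper (T ≫ m) := by
        rw [show T ≫ m = z ≫ σ.imageι from pullback.hom_ext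
          (by rw [Category.assoc, pullback.lift_fst, pullback.lift_fst_assoc, hoq, Category.assoc])
          (by rw [Category.assoc, pullback.lift_snd, pullback.lift_snd_assoc, Category.comp_id, Category.assoc])]
        infer_instance
      haveI : IsProper T := IsProper.of_comp _ m
      haveI : Mono T := by
        haveI : Mono (T ≫ pullback.fst (q ≫ pX) pY) := by rw [pullback.lift_fst]; infer_instance
        exact mono_of_mono _ (pullback.fst (q ≫ pX) pY)
      exact (IsClosedImmersion.iff_isProper_and_mono _).mpr ⟨inferInstance, inferInstance⟩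
    have hTW : pullback.lift W.ι ft hft = o.isoOpensRange.inv ≫ T := pullback.hom_ext
      (by rw [pullback.lift_fst, Category.assoc, pullback.lift_fst, hWo])
      (by rw [pullback.lift_snd, Category.assoc, pullback.lift_snd])
    have : Set.range (fun x => pullback.lift W.ι ft hft x) = Set.range T := by
      rw [hTW]
      show Set.range (⇑(o.isoOpensRange.inv ≫ T)) = _
      rw [Scheme.Hom.comp_base, TopCat.coe_comp, Set.range_comp,
        (o.isoOpensRange.inv.surjective.range_eq), Set.image_univ]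
    rw [this]
    exact T.isClosedEmbedding.isClosed_range

end Groth.Agent.S17384
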