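import Groth.Statements.S17386
import Groth.Agent.BlowUpLib.Props

set_option autoImplicit false
universe u
open BlowUp

namespace Groth.Agent.S17386

open AlgebraicGeometry CategoryTheory Limits in
/-- Let X be any scheme, J_1, …, J_n quasi-coherent ideals on X with closed subschemes Y_i, and b : X' →
X a blowing up of X in the ideal J_1 + ⋯ + J_n of the intersection of the Y_i. For each i let b_i' :
Y_i' → Y_i be a blowing up of Y_i in the inverse image of J_1 + ⋯ + J_n and k_i : Y_i' → X' the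
morphism with k_i ≫ b = b_i' ≫ (Y_i → X), so that the image of k_i is the strict transform of Y_i.
Then the strict transforms have empty common intersection: no point of X' lies in the image of every
k_i. -/
theorem result
    {X X' : Scheme.{u}} {n : ℕ} (𝓙 : Fin n → X.IdealSheafData) (b : X' ⟶ X)
    (hb : BlowUp.IsBlowUp b (⨆ i, 𝓙 i))
    (Y' : Fin n → Scheme.{u}) (b' : ∀ i, Y' i ⟶ (𝓙 i).subscheme)
    (hb' : ∀ i, BlowUp.IsBlowUp (b' i) ((⨆ j, 𝓙 j).comap (𝓙 i).subschemeι))
    (k : ∀ i, Y' i ⟶ X') (hk : ∀ i, k i ≫ b = b' i ≫ (𝓙 i).subschemeι) :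
    (⋂ i, Set.range (fun y => k i y)) = (∅ : Set X') := by
  classical
  refine Set.eq_empty_iff_forall_notMem.mpr fun x hx => ?_
  rw [Set.mem_iInter] at hx
  obtain ⟨N, hxN, -, e, -, he, -, hEN, -⟩ := SDivLib.exists_common hb.1 hb.1 x ⊤ trivial
  have hsup : (⨆ i, ((𝓙 i).comap b).ideal N) = Ideal.span {e} := by
    rw [← hEN, show (⨆ i, 𝓙 i).comap b = ⨆ i, (𝓙 i).comap b from
      (Scheme.IdealSheafData.map_gc b).l_iSup, Scheme.IdealSheafData.ideal_iSup]
    exact (iSup_apply).symm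
  have hne : ∃ i, ∃ a ∈ ((𝓙 i).comap b).ideal N, ∃ u, a = e * u ∧ x ∈ X'.basicOpen u := by
    by_contra hne
    simp only [not_exists, not_and] at hne
    let q := (N.2.primeIdealOf ⟨x, hxN⟩).asIdeal
    have hle : Ideal.span {e} ≤ Ideal.span {e} * q := by
      conv_lhs => rw [← hsup]
      refine iSup_le fun i a ha => ?_
      obtain ⟨u, rfl⟩ := Ideal.mem_span_singleton.mp (hsup ▸ Submodule.mem_iSup_of_mem i ha)
      refine Ideal.mul_mem_mul (Ideal.mem_span_singleton_self e) ?_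
      by_contra hu
      refine hne i _ ha u rfl ?_
      have hmem : N.2.primeIdealOf ⟨x, hxN⟩ ∈ PrimeSpectrum.basicOpen u := hu
      rw [← N.2.fromSpec_preimage_basicOpen] at hmem
      have h' : N.2.fromSpec (N.2.primeIdealOf ⟨x, hxN⟩) ∈ X'.basicOpen u := hmem
      rwa [N.2.fromSpec_primeIdealOf] at h'
    obtain ⟨w, hw, hwe⟩ := Ideal.mem_span_singleton_mul.mp (hle (Ideal.mem_span_singleton_self e))
    have h0 : (1 - w) * e = 0 := by linear_combination -hwe
    exact (N.2.primeIdealOf ⟨x, hxN⟩).2.ne_top ((Ideal.eq_top_iff_one q).mpr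
      (by rwa [sub_eq_zero.mp (mem_nonZeroDivisors_iff_right.mp he _ h0)]))
  obtain ⟨i, a, ha, u, hau, hxu⟩ := hne
  obtain ⟨y, hy⟩ := hx i
  have hc : BlowUp.IsEffCartierIdeal (((⨆ j, 𝓙 j).comap b).comap (k i)) := by
    rw [← Scheme.IdealSheafData.comap_comp, hk i, Scheme.IdealSheafData.comap_comp]
    exact (hb' i).1
  obtain ⟨W, hyW, hWV, t, -, ht, -, htW, -⟩ :=
    SDivLib.exists_common hc hc y ((k i) ⁻¹ᵁ X'.basicOpen u) (show k i y ∈ X'.basicOpen u by rw [show k i y = x from hy]; exact hxu)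
  have h1 : W.1 ≤ (k i) ⁻¹ᵁ N.1 := fun z hz => X'.basicOpen_le u (hWV hz)
  let φ := ((k i).appLE N.1 W.1 h1).hom
  have hbot : (((𝓙 i).comap b).comap (k i)) = ⊥ := by
    rw [← Scheme.IdealSheafData.comap_comp, hk i, Scheme.IdealSheafData.comap_comp]
    rw [show (𝓙 i).comap (𝓙 i).subschemeι = ⊥ from ?_, Scheme.IdealSheafData.comap_bot]
    refine le_bot_iff.mp ?_
    rw [← Scheme.IdealSheafData.le_map_iff_comap_le, Scheme.IdealSheafData.map_bot,
      Scheme.IdealSheafData.ker_subschemeι]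
  have hφa : φ a = 0 := by
    have h := Ideal.mem_map_of_mem φ ha
    rw [← Groth.Agent.S4666.ideal_comap_eq _ (k i) N W h1, hbot] at h
    simpa using h
  have hu : IsUnit (φ u) := by
    refine RingedSpace.isUnit_of_isUnit_germ _ _ _ fun z hz => ?_
    rw [← Scheme.mem_basicOpen (Y' i) (φ u) z hz]
    change z ∈ (Y' i).basicOpen (((k i).appLE N.1 W.1 h1).hom u)
    rw [Scheme.basicOpen_appLE]
    exact ⟨hz, hWV hz⟩
  rw [Groth.Agent.S4666.ideal_comap_eq _ (k i) N W h1, hEN, Ideal.map_span, Set.image_singleton] at htW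
  have he0 : φ e = 0 := hu.mul_left_eq_zero.mp (by rw [← map_mul, ← hau, hφa])
  change Ideal.span {φ e} = Ideal.span {t} at htW
  rw [he0, Ideal.span_singleton_zero, eq_comm, Ideal.span_singleton_eq_bot] at htW
  rw [htW] at ht
  have h10 : (1 : Γ(Y' i, W.1)) = 0 := mem_nonZeroDivisors_iff_right.mp ht 1 (mul_zero _)
  have : y ∈ (Y' i).basicOpen (1 : Γ(Y' i, W.1)) := by
    rw [Scheme.basicOpen_of_isUnit _ isUnit_one]
    exact hyW
  rw [h10, Scheme.basicOpen_zero] at this
  exact this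
end Groth.Agent.S17386
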