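import Groth.Statements.S17387
import Groth.Agent.NagataCompLib.GluePair
import Groth.Agent.RGFlatLib.CommonTarget

set_option autoImplicit false
universe u
open FlatMor

namespace Groth.Agent.S17387

open AlgebraicGeometry CategoryTheory CategoryTheory.Limits TopologicalSpace in
/-- Finitely many models map to a common one after admissible blow-ups. -/
theorem exists_common {S U : Scheme.{u}} [CompactSpace S] [QuasiSeparatedSpace S]
    (gU : U ⟶ S) [IsSeparated gU] [QuasiCompact gU] [LocallyOfFiniteType gU] :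
    ∀ {n : ℕ} (X : Fin n → Scheme.{u}) (g : ∀ i, X i ⟶ S) [∀ i, IsSeparated (g i)] [∀ i, QuasiCompact (g i)]
      [∀ i, LocallyOfFiniteType (g i)] (j : ∀ i, U ⟶ X i) [∀ i, IsOpenImmersion (j i)],
      (∀ i, j i ≫ g i = gU) →
      ∃ (Z : Scheme.{u}) (r : Z ⟶ S) (w : U ⟶ Z),
        IsSeparated r ∧ LocallyOfFiniteType r ∧ QuasiCompact r ∧ IsOpenImmersion w ∧ w ≫ r = gU ∧
        ∀ i, ∃ (M : (X i).IdealSheafData) (X' : Scheme.{u}) (β : X' ⟶ X i) (v : U ⟶ X') (o : X' ⟶ Z),
          BlowUp.IsBlowUp β M ∧ BlowUp.IsAdmissibleFor (j i).opensRange M ∧ IsOpenImmersion o ∧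
          v ≫ β = j i ∧ v ≫ o = w ∧ o ≫ r = β ≫ g i := by
  intro n
  induction n with
  | zero =>
    intro X g _ _ _ j _ hj
    exact ⟨U, gU, 𝟙 _, inferInstance, inferInstance, inferInstance, inferInstance,
      Category.id_comp _, fun i => i.elim0⟩
  | succ n ih =>
    intro X g _ _ _ j _ hj
    haveI : ∀ i, CompactSpace (X i) := fun i => QuasiCompact.compactSpace_of_compactSpace (g i)
    haveI : ∀ i, QuasiSeparatedSpace (X i) := fun i => quasiSeparatedSpace_of_quasiSeparated (g i)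
    obtain ⟨Z, r, w, _, _, _, _, hw, hall⟩ :=
      ih (fun i => X i.castSucc) (fun i => g i.castSucc) (fun i => j i.castSucc) (fun i => hj _)
    obtain ⟨Xn, q, hq, hq', hq'', I₁, I₂, Z', X', b₁, b₂, o₁, o₂, u₁, u₂, hb₁, ha₁, hb₂, ha₂, ho₁, ho₂, hoq₁, hoq₂,
      hu₁, hu₂, hu⟩ := RGFlatLib.exists_common_target gU r (g (Fin.last n)) w (j (Fin.last n)) hw (hj _)
    haveI := ho₁
    haveI : IsOpenImmersion u₁ :=
      (NagataCompLib.isOpenImmersion_lift w b₁ (NagataCompLib.isIso_restrict_of_admissible hb₁ ha₁) u₁ hu₁).1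
    refine ⟨Xn, q, u₁ ≫ o₁, hq, hq', hq'', inferInstance, by rw [Category.assoc, hoq₁, reassoc_of% hu₁, hw],
      fun i => ?_⟩
    refine Fin.lastCases ?_ (fun i => ?_) i
    · exact ⟨I₂, X', b₂, u₂, o₂, hb₂, ha₂, ho₂, hu₂, hu.symm, hoq₂⟩
    obtain ⟨M, W₁, β, v, o, hβ, hM, ho, hv, hvo, hor⟩ := hall i
    haveI := ho
    haveI := BlowUpLib.isProper_of_isBlowUp hβ hM.1
    have hsq := IsPullback.of_hasPullback o b₁
    have hγ : BlowUp.IsBlowUp (pullback.fst o b₁) (I₁.comap o) := BlowUpLib.isBlowUp_of_isPullback hsq.flip hb₁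
    have hrv := (NagataCompLib.isOpenImmersion_lift (j i.castSucc) β
      (NagataCompLib.isIso_restrict_of_admissible hβ hM) v hv).2
    have hγM : BlowUp.IsAdmissibleFor (β ⁻¹ᵁ (j i.castSucc).opensRange) (I₁.comap o) := by
      refine ⟨RGFlatLib.isFiniteTypeIdeal_comap ha₁.1 o, Set.disjoint_left.mpr fun z hz hz' => ?_⟩
      rw [Scheme.IdealSheafData.support_comap] at hz
      obtain ⟨t, rfl⟩ : z ∈ Set.range v := by rw [hrv]; exact hz'
      refine Set.disjoint_left.mp ha₁.2 hz ?_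
      exact ⟨t, congr($hvo.symm t)⟩
    obtain ⟨K, hK, hKb⟩ := RGFlatLib.exists_admissible_comp hβ hM hγ hγM
    have hc : v ≫ o = u₁ ≫ b₁ := hvo.trans hu₁.symm
    refine ⟨K, pullback o b₁, pullback.fst o b₁ ≫ β, pullback.lift v u₁ hc, pullback.snd o b₁ ≫ o₁, hKb, hK,
      inferInstance, ?_, ?_, ?_⟩
    · rw [pullback.lift_fst_assoc, hv]
    · rw [pullback.lift_snd_assoc]
    · rw [Category.assoc, hoq₁, ← pullback.condition_assoc, hor, Category.assoc]

open AlgebraicGeometry CategoryTheory Limits in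
/-- Let S be a quasi-compact quasi-separated scheme, U and X_1, …, X_n separated S-schemes of finite
type, and j_i : U → X_i open immersions over S with dense image. Then there are blowing ups b_i :
X_i' → X_i in quasi-coherent ideals of finite type with support disjoint from the image of U, a
separated S-scheme X of finite type, and open immersions o_i : X_i' → X over S whose images cover X,
together with the lifts u_i : U → X_i' of the j_i (u_i ≫ b_i = j_i), such that all the composites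
u_i ≫ o_i : U → X coincide. -/
theorem result
    {S U : Scheme.{u}} [CompactSpace S] [QuasiSeparatedSpace S] {n : ℕ}
    (gU : U ⟶ S) [IsSeparated gU] [QuasiCompact gU] [LocallyOfFiniteType gU]
    (X : Fin n → Scheme.{u}) (g : ∀ i, X i ⟶ S)
    [∀ i, IsSeparated (g i)] [∀ i, QuasiCompact (g i)] [∀ i, LocallyOfFiniteType (g i)]
    (j : ∀ i, U ⟶ X i) [∀ i, IsOpenImmersion (j i)] [∀ i, IsDominant (j i)] (hj : ∀ i, j i ≫ g i = gU) :
    ∃ (Xc : Scheme.{u}) (q : Xc ⟶ S) (_ : IsSeparated q) (_ : QuasiCompact q) (_ : LocallyOfFiniteType q)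
      (𝓘 : ∀ i, (X i).IdealSheafData) (X' : Fin n → Scheme.{u}) (b : ∀ i, X' i ⟶ X i)
      (o : ∀ i, X' i ⟶ Xc) (u : ∀ i, U ⟶ X' i),
      (∀ i, BlowUp.IsBlowUp (b i) (𝓘 i) ∧ BlowUp.IsAdmissibleFor (j i).opensRange (𝓘 i) ∧
        IsOpenImmersion (o i) ∧ o i ≫ q = b i ≫ g i ∧ u i ≫ b i = j i) ∧
      (⋃ i, Set.range (fun x => o i x)) = Set.univ ∧ (∀ i i', u i ≫ o i = u i' ≫ o i') := by
  obtain ⟨Z, r, w, _, _, _, _, hw, hall⟩ := exists_common gU X g j hj
  choose M X' β v o hβ hM ho hv hvo hor using hall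
  haveI : ∀ i, CompactSpace (X i) := fun i => QuasiCompact.compactSpace_of_compactSpace (g i)
  haveI : ∀ i, IsProper (β i) := fun i => BlowUpLib.isProper_of_isBlowUp (hβ i) (hM i).1
  haveI : ∀ i, CompactSpace (X' i) := fun i => QuasiCompact.compactSpace_of_compactSpace (β i)
  let Zu : Z.Opens := ⨆ i, (o i).opensRange
  have hle : ∀ i, (o i).opensRange ≤ Zu := le_iSup fun i => (o i).opensRange
  let o' : ∀ i, X' i ⟶ (Zu : Scheme.{u}) := fun i =>
    IsOpenImmersion.lift Zu.ι (o i) (by rw [Scheme.Opens.range_ι]; exact hle i)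
  have ho' : ∀ i, o' i ≫ Zu.ι = o i := fun i => IsOpenImmersion.lift_fac _ _ _
  haveI : QuasiSeparatedSpace Z := quasiSeparatedSpace_of_quasiSeparated r
  haveI : CompactSpace Zu := by
    refine isCompact_iff_compactSpace.mp ?_
    rw [show ((Zu : Z.Opens) : Set Z) = ⋃ i, Set.range (o i) from TopologicalSpace.Opens.coe_iSup _]
    exact isCompact_iUnion fun i => isCompact_range (o i).continuous
  refine ⟨Zu, Zu.ι ≫ r, inferInstance, NagataCompLib.quasiCompact_of_compactSpace _, inferInstance, M, X', β, o', v,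
    fun i => ⟨hβ i, hM i, ?_, ?_, hv i⟩, ?_, fun i i' => ?_⟩
  · haveI := ho i
    haveI : IsOpenImmersion (o' i ≫ Zu.ι) := by rw [ho']; infer_instance
    exact IsOpenImmersion.of_comp _ Zu.ι
  · rw [reassoc_of% ho' i, hor]
  · refine Set.eq_univ_of_forall fun z => ?_
    obtain ⟨i, y, hy⟩ : ∃ i, z.1 ∈ Set.range (o i) := TopologicalSpace.Opens.mem_iSup.mp z.2
    exact Set.mem_iUnion.mpr ⟨i, y, Subtype.ext (congr($(ho' i) y).trans hy)⟩
  · rw [← cancel_mono Zu.ι, Category.assoc, Category.assoc, ho', ho', hvo, hvo]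

end Groth.Agent.S17387
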