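import Groth.Statements.S17388
import Groth.Agent.NagataCompLib.GluePair

set_option autoImplicit false
universe u
open FlatMor

namespace Groth.Agent.S17388

open AlgebraicGeometry CategoryTheory Limits in
/-- Let X, Y₁, Y₂ be quasi-compact quasi-separated schemes and π_i : X → Y_i (i = 1, 2) separated
morphisms of finite type which are birational: U_i ⊆ Y_i is a quasi-compact dense open subscheme
over which π_i restricts to an isomorphism and whose preimage is dense in X. Let U = π₁⁻¹(U₁) ∩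
π₂⁻¹(U₂), a dense quasi-compact open of X mapping isomorphically onto dense opens of Y₁ and Y₂. Then
there are blowing ups b : X̃ → X, c₁ : Ỹ₁ → Y₁, c₂ : Ỹ₂ → Y₂ in quasi-coherent ideals of finite type
whose supports are disjoint from U, π₁(U) and π₂(U) respectively, and open immersions j_i : X̃ → Ỹ_i
with j_i ≫ c_i = b ≫ π_i. -/
theorem result
    {X Y₁ Y₂ : Scheme.{u}} [CompactSpace X] [QuasiSeparatedSpace X]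
    [CompactSpace Y₁] [QuasiSeparatedSpace Y₁] [CompactSpace Y₂] [QuasiSeparatedSpace Y₂]
    (π₁ : X ⟶ Y₁) (π₂ : X ⟶ Y₂)
    [IsSeparated π₁] [QuasiCompact π₁] [LocallyOfFiniteType π₁]
    [IsSeparated π₂] [QuasiCompact π₂] [LocallyOfFiniteType π₂]
    (U₁ : Y₁.Opens) (U₂ : Y₂.Opens) (hU₁ : IsCompact (U₁ : Set Y₁)) (hU₂ : IsCompact (U₂ : Set Y₂))
    (hd₁ : Dense (U₁ : Set Y₁)) (hd₂ : Dense (U₂ : Set Y₂)) [IsIso (π₁ ∣_ U₁)] [IsIso (π₂ ∣_ U₂)]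
    (hd₁' : Dense ((π₁ ⁻¹ᵁ U₁ : X.Opens) : Set X)) (hd₂' : Dense ((π₂ ⁻¹ᵁ U₂ : X.Opens) : Set X)) :
    ∃ (𝓘 : X.IdealSheafData) (𝓙₁ : Y₁.IdealSheafData) (𝓙₂ : Y₂.IdealSheafData)
      (Xt Yt₁ Yt₂ : Scheme.{u}) (b : Xt ⟶ X) (c₁ : Yt₁ ⟶ Y₁) (c₂ : Yt₂ ⟶ Y₂) (j₁ : Xt ⟶ Yt₁) (j₂ : Xt ⟶ Yt₂),
      BlowUp.IsBlowUp b 𝓘 ∧ BlowUp.IsAdmissibleFor (π₁ ⁻¹ᵁ U₁ ⊓ π₂ ⁻¹ᵁ U₂) 𝓘 ∧
      BlowUp.IsBlowUp c₁ 𝓙₁ ∧ BlowUp.IsFiniteTypeIdeal 𝓙₁ ∧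
        Disjoint (𝓙₁.support : Set Y₁) ((fun x => π₁ x) '' ((π₁ ⁻¹ᵁ U₁ ⊓ π₂ ⁻¹ᵁ U₂ : X.Opens) : Set X)) ∧
      BlowUp.IsBlowUp c₂ 𝓙₂ ∧ BlowUp.IsFiniteTypeIdeal 𝓙₂ ∧
        Disjoint (𝓙₂.support : Set Y₂) ((fun x => π₂ x) '' ((π₁ ⁻¹ᵁ U₁ ⊓ π₂ ⁻¹ᵁ U₂ : X.Opens) : Set X)) ∧
      IsOpenImmersion j₁ ∧ IsOpenImmersion j₂ ∧ j₁ ≫ c₁ = b ≫ π₁ ∧ j₂ ≫ c₂ = b ≫ π₂ := by
  classical
  let U : X.Opens := π₁ ⁻¹ᵁ U₁ ⊓ π₂ ⁻¹ᵁ U₂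
  have hUc : IsCompact (U : Set X) :=
    QuasiSeparatedSpace.inter_isCompact _ _ (π₁ ⁻¹ᵁ U₁).isOpen (π₁.isCompact_preimage hU₁)
      (π₂ ⁻¹ᵁ U₂).isOpen (π₂.isCompact_preimage hU₂)
  have side : ∀ {Y : Scheme.{u}} [CompactSpace Y] [QuasiSeparatedSpace Y] (π : X ⟶ Y) [IsSeparated π] [QuasiCompact π]
      [LocallyOfFiniteType π] (U₀ : Y.Opens), IsIso (π ∣_ U₀) → U ≤ π ⁻¹ᵁ U₀ →
      ∃ (O : Y.Opens), IsCompact (O : Set Y) ∧ π ⁻¹ᵁ O = U ∧ (O : Set Y) = (fun x => π x) '' (U : Set X) ∧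
        IsOpenImmersion (π ∣_ O) := by
    intro Y _ _ π _ _ _ U₀ hπ hle
    haveI := hπ
    haveI : IsOpenImmersion (U.ι ≫ π) := by
      rw [show U.ι ≫ π = X.homOfLE hle ≫ (π ∣_ U₀) ≫ U₀.ι by rw [morphismRestrict_ι, Scheme.homOfLE_ι_assoc]]
      infer_instance
    have hr : (((U.ι ≫ π).opensRange : Y.Opens) : Set Y) = (fun x => π x) '' (U : Set X) := by
      rw [Scheme.Hom.coe_opensRange, Scheme.Hom.comp_base, TopCat.coe_comp, Set.range_comp, Scheme.Opens.range_ι]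
    have hpre : π ⁻¹ᵁ (U.ι ≫ π).opensRange = U := by
      refine le_antisymm (fun x hx => ?_) fun x hx => ⟨⟨x, hx⟩, rfl⟩
      obtain ⟨u, hu⟩ := hx
      have hu0 : π u.1 ∈ U₀ := hle u.2
      have hu' : π u.1 = π x := hu
      have := congrArg Subtype.val ((π ∣_ U₀).homeomorph.injective (a₁ := ⟨u.1, hu0⟩)
        (a₂ := ⟨x, show π x ∈ U₀ from hu' ▸ hu0⟩) (Subtype.ext (by
          rw [Scheme.Hom.homeomorph_apply, Scheme.Hom.homeomorph_apply, morphismRestrict_base_coe,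
            morphismRestrict_base_coe]
          exact hu')))
      have h3 : u.1 = x := this
      rw [← h3]
      exact u.2
    refine ⟨_, ?_, hpre, hr, ?_⟩
    · rw [hr]
      exact hUc.image π.continuous
    · haveI : IsOpenImmersion ((π ∣_ (U.ι ≫ π).opensRange) ≫ (U.ι ≫ π).opensRange.ι) := by
        rw [morphismRestrict_ι, show (π ⁻¹ᵁ (U.ι ≫ π).opensRange).ι ≫ π = (X.isoOfEq hpre).hom ≫ U.ι ≫ π by
          rw [Scheme.isoOfEq_hom_ι_assoc]]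
        infer_instance
      exact IsOpenImmersion.of_comp _ (U.ι ≫ π).opensRange.ι
  obtain ⟨O₁, hO₁, hp₁, hr₁, hi₁⟩ := side π₁ U₁ inferInstance inf_le_left
  obtain ⟨O₂, hO₂, hp₂, hr₂, hi₂⟩ := side π₂ U₂ inferInstance inf_le_right
  haveI := hi₁
  haveI := hi₂
  obtain ⟨K₁, Y₁a, b₁, Z₁, p₁, z₁, hb₁, ha₁, ho₁, hp₁', hz₁, hA₁⟩ := NagataCompLib.exists_side π₁ O₁ hO₁
  obtain ⟨K₂, Y₂a, b₂, Z₂, p₂, z₂, hb₂, ha₂, ho₂, hp₂', hz₂, hA₂⟩ := NagataCompLib.exists_side π₂ O₂ hO₂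
  rw [hp₁] at hA₁
  rw [hp₂] at hA₂
  have hM : BlowUp.IsAdmissibleFor U (K₁.comap π₁ * K₂.comap π₂) := by
    refine ⟨fun V => ?_, ?_⟩
    · rw [Scheme.IdealSheafData.ideal_mul, Pi.mul_apply]; exact Submodule.FG.mul (hA₁.1 V) (hA₂.1 V)
    · rw [Scheme.IdealSheafData.support_mul]; exact Disjoint.union_left hA₁.2 hA₂.2
  obtain ⟨Xt, w, hw⟩ := BlowUpLib.exists_isBlowUp X (K₁.comap π₁ * K₂.comap π₂)
  obtain ⟨w₁, hw₁, hw₁'⟩ := RGFlatLib.exists_factor (R := K₂.comap π₂) (I := K₁.comap π₁) hz₁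
    (mul_comm (K₁.comap π₁) _ ▸ hw)
  obtain ⟨w₂, hw₂, hw₂'⟩ := RGFlatLib.exists_factor (R := K₁.comap π₁) (I := K₂.comap π₂) hz₂ hw
  haveI := BlowUpLib.isProper_of_isBlowUp hb₁ ha₁.1
  haveI := BlowUpLib.isProper_of_isBlowUp hb₂ ha₂.1
  haveI : CompactSpace Y₁a := QuasiCompact.compactSpace_of_compactSpace b₁
  haveI : CompactSpace Y₂a := QuasiCompact.compactSpace_of_compactSpace b₂
  haveI : QuasiSeparatedSpace Y₁a := quasiSeparatedSpace_of_quasiSeparated b₁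
  haveI : QuasiSeparatedSpace Y₂a := quasiSeparatedSpace_of_quasiSeparated b₂
  haveI := BlowUpLib.isProper_of_isBlowUp hz₁ hA₁.1
  haveI := BlowUpLib.isProper_of_isBlowUp hz₂ hA₂.1
  haveI : CompactSpace Z₁ := QuasiCompact.compactSpace_of_compactSpace z₁
  haveI : CompactSpace Z₂ := QuasiCompact.compactSpace_of_compactSpace z₂
  haveI := ho₁
  haveI := ho₂
  obtain ⟨D₁, Yt₁, c₁, m₁, hc₁, hD₁, hm₁o, hm₁⟩ := RGFlatLib.exists_extended_blowUp (b₁ ⁻¹ᵁ O₁)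
    (b₁.isCompact_preimage hO₁) p₁ _
    (by
      rw [← Scheme.Hom.comp_preimage, hp₁', Scheme.Hom.comp_preimage, hp₁, mul_comm (K₂.comap π₂)]
      exact RGFlatLib.admissible_comap hM z₁) w₁ hw₁'
  obtain ⟨D₂, Yt₂, c₂, m₂, hc₂, hD₂, hm₂o, hm₂⟩ := RGFlatLib.exists_extended_blowUp (b₂ ⁻¹ᵁ O₂)
    (b₂.isCompact_preimage hO₂) p₂ _
    (by
      rw [← Scheme.Hom.comp_preimage, hp₂', Scheme.Hom.comp_preimage, hp₂]
      exact RGFlatLib.admissible_comap hM z₂) w₂ hw₂'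
  obtain ⟨J₁, hJ₁, hJb₁⟩ := RGFlatLib.exists_admissible_comp hb₁ ha₁ hc₁ hD₁
  obtain ⟨J₂, hJ₂, hJb₂⟩ := RGFlatLib.exists_admissible_comp hb₂ ha₂ hc₂ hD₂
  exact ⟨_, J₁, J₂, Xt, Yt₁, Yt₂, w, c₁ ≫ b₁, c₂ ≫ b₂, m₁, m₂, hw, hM, hJb₁, hJ₁.1, hr₁ ▸ hJ₁.2, hJb₂, hJ₂.1,
    hr₂ ▸ hJ₂.2, hm₁o, hm₂o, by rw [reassoc_of% hm₁, hp₁', reassoc_of% hw₁],
    by rw [reassoc_of% hm₂, hp₂', reassoc_of% hw₂]⟩

end Groth.Agent.S17388
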