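import Groth.Statements.S17390
import Groth.Agent.NagataCompLib.GluePair

set_option autoImplicit false
universe u
open FlatMor

namespace Groth.Agent.S17390

open AlgebraicGeometry CategoryTheory CategoryTheory.Limits in
/-- A morphism factors through a closed immersion if it does after a scheme theoretically dominant morphism. -/
theorem exists_factor_of_dominant {U T P G : Scheme.{u}} (d : U ⟶ T) [IsSchemeTheoreticallyDominant d]
    (a : T ⟶ P) (i : G ⟶ P) [IsClosedImmersion i] (l : U ⟶ G) (h : d ≫ a = l ≫ i) : ∃ a' : T ⟶ G, a' ≫ i = a := by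
  haveI : IsIso (pullback.fst a i) := by
    rw [IsClosedImmersion.isIso_iff_ker_eq_bot, ← le_bot_iff, ← d.ker_eq_bot]
    have := Scheme.Hom.le_ker_comp (pullback.lift d l h) (pullback.fst a i)
    rwa [pullback.lift_fst] at this
  exact ⟨inv (pullback.fst a i) ≫ pullback.snd a i, by
    rw [Category.assoc, ← pullback.condition, IsIso.inv_hom_id_assoc]⟩

open AlgebraicGeometry CategoryTheory Limits in
/-- Let S be a quasi-compact quasi-separated scheme, X and Y separated S-schemes of finite type, U a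
quasi-compact scheme with an open immersion jX : U → X with dense image (so U is separated of finite
type over S), V ⊆ Y a quasi-compact open subscheme with an open immersion jV : U → V which is
schematically dense and such that U has dense image in Y, and φ : V → X an S-morphism with jV ≫ φ =
jX which is a quasi-domination of Y over X (its graph morphism V → Y ×_S X has closed image). Let I
be a quasi-coherent ideal of finite type on X with support disjoint from the image of U and b : X̃ →
X a blowing up of X in I; let W ⊆ X̃ be an open subscheme, u : U → W the lift of jX (u ≫ W.ι ≫ b =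
jX), assumed schematically dense as a morphism to X̃, and ψ : W → V an S-morphism with u ≫ ψ = jV
which is a quasi-domination of X̃ over V (its graph morphism W → X̃ ×_S V has closed image). Then ψ
is a blowing up of V in the inverse image ideal I·O_V, hence proper, and the graph morphism W → X̃
×_S Y of ψ followed by V ⊆ Y has closed image. -/
theorem result
    {S U X Y Xt : Scheme.{u}} [CompactSpace S] [QuasiSeparatedSpace S]
    (gX : X ⟶ S) (gY : Y ⟶ S)
    [IsSeparated gX] [QuasiCompact gX] [LocallyOfFiniteType gX]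
    [IsSeparated gY] [QuasiCompact gY] [LocallyOfFiniteType gY]
    (jX : U ⟶ X) [IsOpenImmersion jX] [IsDominant jX] [CompactSpace U]
    (V : Y.Opens) (hVc : IsCompact (V : Set Y))
    (jV : U ⟶ (V : Scheme.{u})) [IsOpenImmersion jV] [IsSchemeTheoreticallyDominant jV]
    [IsDominant (jV ≫ V.ι)]
    (φ : (V : Scheme.{u}) ⟶ X) (hφU : jV ≫ φ = jX) (hφ : V.ι ≫ gY = φ ≫ gX)
    (hφcl : IsClosed (Set.range (fun x => pullback.lift V.ι φ hφ x)))
    (𝓘 : X.IdealSheafData) (h𝓘 : BlowUp.IsAdmissibleFor jX.opensRange 𝓘)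
    (b : Xt ⟶ X) (hb : BlowUp.IsBlowUp b 𝓘)
    (W : Xt.Opens) (u : U ⟶ (W : Scheme.{u})) (hu : u ≫ W.ι ≫ b = jX)
    [IsSchemeTheoreticallyDominant (u ≫ W.ι)]
    (ψ : (W : Scheme.{u}) ⟶ (V : Scheme.{u})) (hψU : u ≫ ψ = jV)
    (hψ : W.ι ≫ b ≫ gX = ψ ≫ V.ι ≫ gY)
    (hψcl : IsClosed (Set.range (fun x => pullback.lift W.ι ψ hψ x))) :
    BlowUp.IsBlowUp ψ (𝓘.comap φ) ∧
      IsClosed (Set.range (fun x => pullback.lift (f := b ≫ gX) (g := gY) W.ι (ψ ≫ V.ι)
        (hψ.trans (Category.assoc ψ V.ι gY).symm) x)) := by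
  classical
  haveI := BlowUpLib.isProper_of_isBlowUp hb h𝓘.1
  -- the two maps to `X` agree
  haveI : QuasiSeparatedSpace X := quasiSeparatedSpace_of_quasiSeparated gX
  haveI : QuasiSeparatedSpace Xt := quasiSeparatedSpace_of_quasiSeparated b
  haveI : QuasiSeparatedSpace Y := quasiSeparatedSpace_of_quasiSeparated gY
  haveI : QuasiCompact (u ≫ W.ι) := NagataCompLib.quasiCompact_of_compactSpace _
  haveI : QuasiSeparatedSpace ↥(V : Scheme.{u}) := quasiSeparatedSpace_of_quasiSeparated V.ι
  haveI : QuasiCompact jV := NagataCompLib.quasiCompact_of_compactSpace _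
  have hsq : IsPullback (𝟙 U) u (u ≫ W.ι) W.ι :=
    ⟨⟨by simp⟩, ⟨PullbackCone.IsLimit.mk _ (fun c => c.fst) (fun c => Category.comp_id _)
      (fun c => by rw [← cancel_mono W.ι, Category.assoc]; exact c.condition)
      (fun c m h _ => by simpa using h)⟩⟩
  haveI : IsSchemeTheoreticallyDominant u := IsSchemeTheoreticallyDominant.of_isPullback hsq
  have hψφ : ψ ≫ φ = W.ι ≫ b := by
    refine ModPairLib.ext_of_dominant gX u ?_ ?_
    · rw [Category.assoc, ← hφ, ← hψ, Category.assoc]
    · rw [reassoc_of% hψU, hφU, hu]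
  let X₀ := ModPair.interior 𝓘
  haveI hbX : IsIso (b ∣_ X₀) := EffCartLib.isIso_off_center 𝓘 b hb X₀ le_rfl
  -- the graph of `ψ`
  let Γψ : (W : Scheme.{u}) ⟶ pullback (b ≫ gX) (V.ι ≫ gY) := pullback.lift W.ι ψ hψ
  haveI : IsClosedImmersion Γψ := by
    haveI : IsImmersion Γψ := by
      haveI : IsImmersion (Γψ ≫ pullback.fst _ _) := by rw [pullback.lift_fst]; infer_instance
      exact IsImmersion.of_comp Γψ (pullback.fst _ _)
    exact IsClosedImmersion.of_isPreimmersion Γψ hψcl
  -- over the complement of the centre the graph is everything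
  let V₀ := φ ⁻¹ᵁ X₀
  have hs : ((φ ∣_ X₀) ≫ inv (b ∣_ X₀) ≫ (b ⁻¹ᵁ X₀).ι) ≫ b ≫ gX = V₀.ι ≫ V.ι ≫ gY := by
    simp only [Category.assoc]
    rw [← morphismRestrict_ι_assoc b X₀, IsIso.inv_hom_id_assoc, morphismRestrict_ι_assoc, hφ]
  let s : (V₀ : Scheme.{u}) ⟶ pullback (b ≫ gX) (V.ι ≫ gY) :=
    pullback.lift ((φ ∣_ X₀) ≫ inv (b ∣_ X₀) ≫ (b ⁻¹ᵁ X₀).ι) V₀.ι hs
  haveI : IsSchemeTheoreticallyDominant (jV ∣_ V₀) :=
    IsSchemeTheoreticallyDominant.of_isPullback (isPullback_morphismRestrict jV V₀).flip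
  obtain ⟨σ, hσ⟩ := exists_factor_of_dominant (jV ∣_ V₀) s Γψ ((jV ⁻¹ᵁ V₀).ι ≫ u) (by
    apply pullback.hom_ext
    · simp only [s, Γψ, Category.assoc, pullback.lift_fst]
      haveI := hbX
      refine ModPairLib.eq_of_isIso_restrict (s := b) (V := X₀) ?_ fun t => ?_
      · simp only [Category.assoc]
        rw [← morphismRestrict_ι b X₀, IsIso.inv_hom_id_assoc, morphismRestrict_ι, morphismRestrict_ι_assoc, hφU, hu]
      · exact (inv (b ∣_ X₀) ((φ ∣_ X₀) ((jV ∣_ V₀) t))).2
    · simp only [s, Γψ, Category.assoc, pullback.lift_snd, morphismRestrict_ι, hψU])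
  have hblow : BlowUp.IsBlowUp ψ (𝓘.comap φ) := by
    refine ⟨?_, fun T g hg => ?_⟩
    · rw [← Scheme.IdealSheafData.comap_comp, hψφ, Scheme.IdealSheafData.comap_comp]
      exact BlowUpLib.isEffCartier_comap_of_flat W.ι hb.1
    · rw [← Scheme.IdealSheafData.comap_comp] at hg
      obtain ⟨h, hh, huniq⟩ := hb.2 T (g ≫ φ) hg
      have hc : h ≫ b ≫ gX = g ≫ V.ι ≫ gY := by rw [reassoc_of% hh, hφ]
      let T₀ := ModPair.interior (𝓘.comap (g ≫ φ))
      haveI : IsSchemeTheoreticallyDominant T₀.ι := ModPairLib.isDominant_interior hg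
      have hT₀ : Set.range (T₀.ι ≫ g) ⊆ (V₀ : Set (V : Scheme.{u})) := by
        rintro _ ⟨t, rfl⟩
        exact (ModPairLib.interior_comap 𝓘 (g ≫ φ)).le t.2
      let l : (T₀ : Scheme.{u}) ⟶ V₀ := IsOpenImmersion.lift V₀.ι (T₀.ι ≫ g) (by rwa [Scheme.Opens.range_ι])
      have hl : l ≫ V₀.ι = T₀.ι ≫ g := IsOpenImmersion.lift_fac _ _ _
      obtain ⟨a, ha⟩ := exists_factor_of_dominant T₀.ι (pullback.lift h g hc) Γψ (l ≫ σ) (by
        rw [Category.assoc, hσ]
        apply pullback.hom_ext
        · simp only [s, Category.assoc, pullback.lift_fst]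
          haveI := hbX
          refine ModPairLib.eq_of_isIso_restrict (s := b) (V := X₀) ?_ fun t => ?_
          · simp only [Category.assoc]
            rw [← morphismRestrict_ι b X₀, IsIso.inv_hom_id_assoc, morphismRestrict_ι, reassoc_of% hl, hh]
          · rw [← Scheme.Hom.comp_apply, Category.assoc, hh]
            exact hT₀ ⟨t, rfl⟩
        · simp only [s, Category.assoc, pullback.lift_snd, hl])
      have ha₁ : a ≫ W.ι = h := by
        have := congrArg (· ≫ pullback.fst (b ≫ gX) (V.ι ≫ gY)) ha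
        simpa [Γψ, pullback.lift_fst] using this
      have ha₂ : a ≫ ψ = g := by
        have := congrArg (· ≫ pullback.snd (b ≫ gX) (V.ι ≫ gY)) ha
        simpa [Γψ, pullback.lift_snd] using this
      refine ⟨a, ha₂, fun a' ha' => ?_⟩
      rw [← cancel_mono W.ι, ha₁]
      exact huniq _ (show (a' ≫ W.ι) ≫ b = g ≫ φ by rw [Category.assoc, ← hψφ, reassoc_of% ha'])
  refine ⟨hblow, ?_⟩
  haveI := BlowUpLib.isProper_of_isBlowUp hblow (RGFlatLib.isFiniteTypeIdeal_comap h𝓘.1 φ)
  let Γφ : (V : Scheme.{u}) ⟶ pullback gY gX := pullback.lift V.ι φ hφ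
  haveI : IsClosedImmersion Γφ := by
    haveI : IsImmersion Γφ := by
      haveI : IsImmersion (Γφ ≫ pullback.fst _ _) := by rw [pullback.lift_fst]; infer_instance
      exact IsImmersion.of_comp Γφ (pullback.fst _ _)
    exact IsClosedImmersion.of_isPreimmersion Γφ hφcl
  have hw : W.ι ≫ b ≫ gX = (ψ ≫ V.ι) ≫ gY := hψ.trans (Category.assoc ψ V.ι gY).symm
  let L : (W : Scheme.{u}) ⟶ pullback (b ≫ gX) gY := pullback.lift W.ι (ψ ≫ V.ι) hw
  let m : pullback (b ≫ gX) gY ⟶ pullback gY gX :=
    pullback.lift (pullback.snd _ _) (pullback.fst _ _ ≫ b) (by rw [Category.assoc, pullback.condition])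
  haveI : IsSeparated m := by
    haveI : IsSeparated (m ≫ pullback.fst gY gX) := by rw [pullback.lift_fst]; infer_instance
    exact IsSeparated.of_comp m (pullback.fst gY gX)
  haveI : IsProper (L ≫ m) := by
    rw [show L ≫ m = ψ ≫ Γφ from pullback.hom_ext
      (by rw [Category.assoc, pullback.lift_fst, pullback.lift_snd, Category.assoc, pullback.lift_fst])
      (by rw [Category.assoc, pullback.lift_snd, pullback.lift_fst_assoc, Category.assoc, pullback.lift_snd, hψφ])]
    infer_instance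
  haveI : IsProper L := IsProper.of_comp L m
  show IsClosed (Set.range L)
  rw [← Set.image_univ]
  exact L.isClosedMap _ isClosed_univ

end Groth.Agent.S17390
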