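import Groth.Statements.S17391
import Groth.Agent.BlowUpLib.Props

set_option autoImplicit false
universe u
open BlowUp

namespace Groth.Agent.S17391

open CategoryTheory CategoryTheory.Limits AlgebraicGeometry

theorem notMem_basicOpen {X : Scheme.{u}} {I : X.IdealSheafData} {U : X.affineOpens} {z : X}
    (hz : z ∈ I.support) (hzU : z ∈ U.1) {a : Γ(X, U.1)} (ha : a ∈ I.ideal U) : z ∉ X.basicOpen a := by
  have h := (Scheme.IdealSheafData.mem_support_iff_of_mem (U := U) hzU).mp hz
  rw [Scheme.mem_zeroLocus_iff] at h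
  exact h a ha


open AlgebraicGeometry CategoryTheory Limits in
/-- Let X and Z be schemes, p : Z → X a morphism, U ⊆ V ⊆ X open subschemes, and f : Y → Z a
quasi-compact immersion whose composite with p lands in U. Let I₁ be a quasi-coherent ideal on X
whose support contains V ∖ U and is disjoint from U, and I₂ a quasi-coherent ideal whose support
lies in supp(I₁) ∖ V. Assume that the closed subscheme p⁻¹(V(I₁²)) ∩ Ȳ of Z, where Ȳ is the
scheme-theoretic image of f, is contained in p⁻¹(V(I₂)) as a closed subscheme: the inverse image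
ideal of I₂ on Z lies in the sum of the inverse image ideal of I₁² and the kernel ideal of f. Then
for every blowing up q : X' → X of X in I₁ + I₂, writing Z' = Z ×_X X' → X' and Y' = Y ×_Z Z' → Z'
for the base changes, the closure in Z' of the image of Y' is disjoint from the preimage in Z' of
the closure in X' of q⁻¹(V ∖ U). (The blowing up is an isomorphism over V, since the support of I₁ +
I₂ is that of I₂ and lies in X ∖ V; the point is that the closure of q⁻¹(V ∖ U) in X', which may
reach over X ∖ V, still misses the closure of Y'.) -/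
theorem result
    {X Y Z X' : Scheme.{u}} (p : Z ⟶ X) (U V : X.Opens) (hUV : U ≤ V)
    (f : Y ⟶ Z) [IsImmersion f] [QuasiCompact f] (hY : Set.range (fun y => p (f y)) ⊆ (U : Set X))
    (𝓘₁ 𝓘₂ : X.IdealSheafData)
    (h₁ : (V : Set X) \ (U : Set X) ⊆ (𝓘₁.support : Set X)) (h₁' : Disjoint (𝓘₁.support : Set X) (U : Set X))
    (h₂ : (𝓘₂.support : Set X) ⊆ (𝓘₁.support : Set X) \ (V : Set X))
    (hincl : 𝓘₂.comap p ≤ (𝓘₁ * 𝓘₁).comap p ⊔ f.ker)
    (q : X' ⟶ X) (hq : BlowUp.IsBlowUp q (𝓘₁ ⊔ 𝓘₂)) :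
    Disjoint (closure (Set.range (fun y => (pullback.snd f (pullback.fst p q)) y)))
      ((fun z => (pullback.snd p q) z) ⁻¹'
        closure ((fun x' => q x') ⁻¹' ((V : Set X) \ (U : Set X)))) := by
  classical
  rw [Set.disjoint_left]
  intro w hw hw'
  let g := pullback.snd f (pullback.fst p q)
  let r : pullback p q ⟶ Z := pullback.fst p q
  let s : pullback p q ⟶ X' := pullback.snd p q
  let E := (𝓘₁ ⊔ 𝓘₂).comap q
  -- points of `q ⁻¹ (V ∖ U)` lie in the support of the first centre and not in that of the second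
  have hA : closure ((fun x' => q x') ⁻¹' ((V : Set X) \ (U : Set X))) ⊆ (𝓘₁.comap q).support :=
    closure_minimal (fun x hx => by
      rw [SetLike.mem_coe, Scheme.IdealSheafData.support_comap]
      exact h₁ hx) (𝓘₁.comap q).support.isClosed
  have hrange : ∀ y, s (g y) ∉ (𝓘₁.comap q).support := by
    intro y h
    rw [Scheme.IdealSheafData.support_comap] at h
    have e : q (s (g y)) = p (f (pullback.fst f (pullback.fst p q) y)) := by
      simp only [g, s, ← Scheme.Hom.comp_apply, Category.assoc]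
      rw [← pullback.condition (f := p) (g := q), ← pullback.condition_assoc]
    exact Set.disjoint_left.mp h₁' (show q (s (g y)) ∈ 𝓘₁.support from h) (e ▸ hY ⟨_, rfl⟩)
  have hker : f.ker.comap r ≤ g.ker := by
    rw [← Scheme.IdealSheafData.le_map_iff_comap_le, ← Scheme.Hom.ker_comp, ← pullback.condition]
    exact Scheme.Hom.le_ker_comp _ _
  have hincl' : (𝓘₂.comap q).comap s ≤ ((𝓘₁.comap q).comap s * (𝓘₁.comap q).comap s) ⊔ g.ker := by
    have h := Scheme.IdealSheafData.comap_mono r hincl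
    simp only [Scheme.IdealSheafData.comap_sup, ← Scheme.IdealSheafData.comap_comp] at h
    rw [show r ≫ p = s ≫ q from pullback.condition, Scheme.IdealSheafData.comap_comp,
      Scheme.IdealSheafData.comap_comp, BlowUpLib.comap_mul, BlowUpLib.comap_mul] at h
    exact h.trans (sup_le_sup le_rfl hker)
  have hwker : w ∈ g.ker.support := by
    rw [← SetLike.mem_coe, Scheme.Hom.support_ker]
    exact hw
  have hx₁ : s w ∈ (𝓘₁.comap q).support := hA hw'
  have hx₂ : s w ∈ (𝓘₂.comap q).support := by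
    have hw₁ : w ∈ ((𝓘₁.comap q).comap s * (𝓘₁.comap q).comap s ⊔ g.ker).support := by
      rw [Scheme.IdealSheafData.support_sup, Scheme.IdealSheafData.support_mul,
        Scheme.IdealSheafData.support_comap _ s]
      exact ⟨Or.inl hx₁, hwker⟩
    have := Scheme.IdealSheafData.support_antitone hincl' hw₁
    rwa [Scheme.IdealSheafData.support_comap _ s] at this
  -- a chart where the exceptional ideal is generated by `e`
  obtain ⟨N, hxN, -, e, -, he, -, hEN, -⟩ := SDivLib.exists_common hq.1 hq.1 (s w) ⊤ trivial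
  have hEN' : (𝓘₁.comap q).ideal N ⊔ (𝓘₂.comap q).ideal N = Ideal.span {e} := by
    rw [← hEN, Scheme.IdealSheafData.comap_sup]
    rfl
  obtain ⟨a, ha, c, hc, hac⟩ := Submodule.mem_sup.mp (hEN' ▸ Ideal.mem_span_singleton_self e)
  obtain ⟨α, hα⟩ := Ideal.mem_span_singleton.mp (hEN' ▸ Ideal.mem_sup_left ha)
  obtain ⟨γ, hγ⟩ := Ideal.mem_span_singleton.mp (hEN' ▸ Ideal.mem_sup_right hc)
  have hαγ : α + γ = 1 := by
    refine sub_eq_zero.mp (mem_nonZeroDivisors_iff_right.mp he _ ?_)
    linear_combination hac - hα - hγ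
  have hxα : s w ∉ X'.basicOpen α := by
    intro hx
    obtain ⟨z, ⟨hz, hzα⟩, hzV⟩ := (mem_closure_iff.mp hw') _ (N.1.2.inter (X'.basicOpen α).2) ⟨hxN, hx⟩
    have hz₁ : z ∈ (𝓘₁.comap q).support := hA (subset_closure hzV)
    have hze : z ∈ X'.basicOpen e := by
      by_contra hze
      have hzE : z ∈ ((𝓘₁ ⊔ 𝓘₂).comap q).support := by
        rw [Scheme.IdealSheafData.mem_support_iff_of_mem hz, hEN, Scheme.zeroLocus_span,
          Scheme.mem_zeroLocus_iff]
        rintro _ rfl
        exact hze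
      rw [Scheme.IdealSheafData.support_comap, Scheme.IdealSheafData.support_sup] at hzE
      exact (h₂ hzE.2).2 hzV.1
    have hza : z ∈ X'.basicOpen a := by
      rw [hα, Scheme.basicOpen_mul]
      exact ⟨hze, hzα⟩
    exact notMem_basicOpen hz₁ hz ha hza
  have hxγ : s w ∈ X'.basicOpen γ := by
    have h := Scheme.basicOpen_of_isUnit X' (f := (1 : Γ(X', N.1))) isUnit_one
    by_contra hx
    have h1 : s w ∈ X'.basicOpen (1 : Γ(X', N.1)) := h.ge hxN
    rw [Scheme.mem_basicOpen _ _ _ hxN] at hx hxα h1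
    rw [← hαγ, map_add] at h1
    exact (IsLocalRing.isUnit_or_isUnit_of_isUnit_add h1).elim hxα hx
  -- restrict to an affine neighbourhood of `w`
  obtain ⟨M, hwM, hMN⟩ := BlowUpLib.exists_affine w (W := s ⁻¹ᵁ (X'.basicOpen γ)) hxγ
  have hMN' : M.1 ≤ s ⁻¹ᵁ N.1 := hMN.trans (fun z hz => X'.basicOpen_le γ hz)
  let φ := (s.appLE N.1 M.1 hMN').hom
  have hγu : IsUnit (φ γ) := by
    refine RingedSpace.isUnit_of_isUnit_germ _ _ _ fun z hz => ?_
    rw [← Scheme.mem_basicOpen (pullback p q) (φ γ) z hz]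
    change z ∈ (pullback p q).basicOpen ((s.appLE N.1 M.1 hMN').hom γ)
    rw [Scheme.basicOpen_appLE]
    exact ⟨hz, hMN hz⟩
  have hI₁ : ((𝓘₁.comap q).comap s).ideal M ≤ Ideal.span {φ e} := by
    rw [Groth.Agent.S4666.ideal_comap_eq _ s N M hMN', ← Set.image_singleton, ← Ideal.map_span, ← hEN']
    exact Ideal.map_mono le_sup_left
  have heI₂ : φ e ∈ ((𝓘₂.comap q).comap s).ideal M := by
    rw [Groth.Agent.S4666.ideal_comap_eq _ s N M hMN']
    have h := Ideal.mem_map_of_mem φ hc
    rw [hγ, map_mul] at h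
    exact (Ideal.mul_unit_mem_iff_mem _ hγu).mp h
  have hmem := hincl' M heI₂
  rw [Scheme.IdealSheafData.ideal_sup, Pi.sup_apply, Scheme.IdealSheafData.ideal_mul, Pi.mul_apply] at hmem
  obtain ⟨m, hm, n, hn, hmn⟩ := Submodule.mem_sup.mp hmem
  obtain ⟨k, hk⟩ : φ e * φ e ∣ m := Ideal.mem_span_singleton.mp
    (Ideal.span_singleton_mul_span_singleton (φ e) (φ e) ▸ Ideal.mul_mono hI₁ hI₁ hm)
  have hn' : φ e * (1 - φ e * k) ∈ g.ker.ideal M := by
    convert hn using 1
    linear_combination -hmn + hk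
  have hwe : w ∉ (pullback p q).basicOpen (φ e) := by
    change w ∉ (pullback p q).basicOpen ((s.appLE N.1 M.1 hMN').hom e)
    rw [Scheme.basicOpen_appLE]
    intro h
    have hx : s w ∈ ((𝓘₁ ⊔ 𝓘₂).comap q).support := by
      rw [Scheme.IdealSheafData.comap_sup, Scheme.IdealSheafData.support_sup]
      exact ⟨hx₁, hx₂⟩
    exact notMem_basicOpen hx hxN (hEN ▸ Ideal.mem_span_singleton_self e) h.2
  have hwu : w ∈ (pullback p q).basicOpen (1 - φ e * k) := by
    rw [Scheme.mem_basicOpen _ _ _ hwM, map_sub, map_one, map_mul]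
    refine IsLocalRing.isUnit_one_sub_self_of_mem_nonunits _ (mem_nonunits_iff.mpr fun hu => hwe ?_)
    rw [Scheme.mem_basicOpen _ _ _ hwM]
    exact isUnit_of_mul_isUnit_left hu
  obtain ⟨z, hzO, y, hy⟩ := (mem_closure_iff.mp hw) _
    (M.1.2.inter ((pullback p q).basicOpen (1 - φ e * k)).2) ⟨hwM, hwu⟩
  have hz : g y = z := hy
  subst hz
  have hzk : g y ∈ g.ker.support := g.range_subset_ker_support ⟨y, rfl⟩
  have hze : g y ∈ (pullback p q).basicOpen (φ e) := by
    change g y ∈ (pullback p q).basicOpen ((s.appLE N.1 M.1 hMN').hom e)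
    rw [Scheme.basicOpen_appLE]
    refine ⟨hzO.1, ?_⟩
    by_contra h
    have hzE : s (g y) ∈ ((𝓘₁ ⊔ 𝓘₂).comap q).support := by
      rw [Scheme.IdealSheafData.mem_support_iff_of_mem (hMN' hzO.1), hEN, Scheme.zeroLocus_span,
        Scheme.mem_zeroLocus_iff]
      rintro _ rfl
      exact h
    rw [Scheme.IdealSheafData.comap_sup, Scheme.IdealSheafData.support_sup] at hzE
    exact hrange y hzE.1
  exact notMem_basicOpen hzk hzO.1 hn' (by rw [Scheme.basicOpen_mul]; exact ⟨hze, hzO.2⟩)
end Groth.Agent.S17391
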