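import Groth.Statements.S17392
import Groth.Agent.RGFlatLib.Separate
import Groth.Agent.NagataCompLib.Tools

set_option autoImplicit false
universe u
open BlowUp

namespace Groth.Agent.S17392

open AlgebraicGeometry CategoryTheory Limits in
/-- Let X₁ and X₂ be quasi-compact quasi-separated schemes, q : X₂ → X₁ a quasi-compact separated
morphism, V₁ ⊆ X₁ a quasi-compact open subscheme and U ⊆ q⁻¹(V₁) an open subscheme of X₂ on which q
restricts to an open immersion (so U is identified with an open of V₁). Let Z₁ ⊆ X₁ be a closed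
subset whose open complement is quasi-compact, put Y₁ = Z₁ ∩ V₁, and let Z₂ ⊆ X₂ be a closed subset
whose open complement is also quasi-compact, with q⁻¹(Y₁) ⊆ Z₂. Then there is a quasi-coherent ideal
E of finite type on X₁ with support contained in Z₁ ∖ V₁ (so that blowing up E is V₁-admissible)
such that, for every blowing up c : X₁' → X₁ of X₁ in E with base change q' : X₂' = X₂ ×_{X₁} X₁' →
X₁' and c₂ : X₂' → X₂, one has q'⁻¹(closure of c⁻¹(Y₁)) ∩ closure(c₂⁻¹(U)) ⊆ c₂⁻¹(Z₂) as subsets of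
X₂'. -/
theorem result
    {X₁ X₂ : Scheme.{u}} [CompactSpace X₁] [QuasiSeparatedSpace X₁] [CompactSpace X₂] [QuasiSeparatedSpace X₂]
    (q : X₂ ⟶ X₁) [QuasiCompact q] [IsSeparated q]
    (V₁ : X₁.Opens) (hV₁ : IsCompact (V₁ : Set X₁))
    (U : X₂.Opens) (hU : U ≤ q ⁻¹ᵁ V₁) [IsOpenImmersion (U.ι ≫ q)]
    (Z₁ : Set X₁) (hZ₁ : IsClosed Z₁) (hZ₁c : IsCompact Z₁ᶜ)
    (Z₂ : Set X₂) (hZ₂ : IsClosed Z₂) (hZ₂c : IsCompact Z₂ᶜ)
    (hYZ : (fun x => q x) ⁻¹' (Z₁ ∩ (V₁ : Set X₁)) ⊆ Z₂) :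
    ∃ 𝓔 : X₁.IdealSheafData, BlowUp.IsFiniteTypeIdeal 𝓔 ∧ (𝓔.support : Set X₁) ⊆ Z₁ \ (V₁ : Set X₁) ∧
      ∀ (X₁' : Scheme.{u}) (c : X₁' ⟶ X₁), BlowUp.IsBlowUp c 𝓔 →
        (fun z => (pullback.snd q c) z) ⁻¹' closure ((fun x => c x) ⁻¹' (Z₁ ∩ (V₁ : Set X₁))) ∩
            closure ((fun z => (pullback.fst q c) z) ⁻¹' (U : Set X₂)) ⊆
          (fun z => (pullback.fst q c) z) ⁻¹' Z₂ := by
  classical
  haveI : QuasiSeparatedSpace X₁ := inferInstance
  let W : X₂.Opens := ⟨Z₂ᶜ, hZ₂.isOpen_compl⟩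
  haveI : CompactSpace ↥(W : Scheme.{u}) := isCompact_iff_compactSpace.mp hZ₂c
  obtain ⟨J₁, hJ₁, hs₁⟩ := MiscFlat6.exists_finiteType_idealSheaf (X := X₁) ⟨Z₁ᶜ, hZ₁.isOpen_compl⟩ hZ₁c
  have hs₁' : (J₁.support : Set X₁) = Z₁ := hs₁.trans (compl_compl _)
  let p : (W : Scheme.{u}) ⟶ X₁ := W.ι ≫ q
  haveI : QuasiCompact p := NagataCompLib.quasiCompact_of_compactSpace p
  let K := (J₁.comap p).map p
  have hKd : ∀ x ∈ V₁, x ∉ (K.support : Set X₁) := by
    intro x hx hxK
    rw [Scheme.IdealSheafData.support_map] at hxK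
    obtain ⟨_, hyV, w, hw, rfl⟩ := mem_closure_iff.mp hxK V₁ V₁.isOpen hx
    rw [Scheme.IdealSheafData.support_comap] at hw
    exact w.2 (hYZ ⟨hs₁' ▸ hw, hyV⟩)
  have key : ∀ x : V₁, ∃ (M : X₁.IdealSheafData), (∀ V, (M.ideal V).FG) ∧ M ≤ K ∧ x.1 ∉ (M.support : Set X₁) := by
    intro x
    obtain ⟨O, hO, hxO⟩ := QCohLib.exists_affine_nhd x.1
    have hx := hKd x.1 x.2
    rw [SetLike.mem_coe, Scheme.IdealSheafData.mem_support_iff_of_mem (U := ⟨O, hO⟩) hxO, Scheme.mem_zeroLocus_iff] at hx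
    push Not at hx
    obtain ⟨a, ha, hxa⟩ := hx
    obtain ⟨M, hM, hMK, haM⟩ := RGFlatLib.exists_ft_le K ⟨O, hO⟩ (Ideal.span {a}) (Submodule.fg_span_singleton a)
      ((Ideal.span_singleton_le_iff_mem _).mpr ha)
    refine ⟨M, hM, hMK, fun h => ?_⟩
    rw [SetLike.mem_coe, Scheme.IdealSheafData.mem_support_iff_of_mem (U := ⟨O, hO⟩) hxO, Scheme.mem_zeroLocus_iff] at h
    exact h a (haM (Ideal.mem_span_singleton_self a)) hxa
  choose M hM hMK hMx using key
  obtain ⟨t, ht⟩ := hV₁.elim_finite_subcover (fun x : V₁ => ((M x).support : Set X₁)ᶜ)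
    (fun x => (M x).support.isClosed.isOpen_compl) (fun x hx => Set.mem_iUnion.mpr ⟨⟨x, hx⟩, hMx ⟨x, hx⟩⟩)
  let E := J₁ ⊔ t.sup M
  have hEft : BlowUp.IsFiniteTypeIdeal E := by
    refine ModPairLib.fg_sup hJ₁ ?_
    clear ht E
    induction t using Finset.induction_on with
    | empty => intro V; rw [Finset.sup_empty, Scheme.IdealSheafData.ideal_bot, Pi.bot_apply]; exact Submodule.fg_bot
    | insert W' s' _ ih' => rw [Finset.sup_insert]; exact ModPairLib.fg_sup (hM W') ih'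
  have hEV : ∀ x ∈ (E.support : Set X₁), x ∉ V₁ := fun x hx hxV => by
    obtain ⟨i, hi, hxi⟩ := Set.mem_iUnion₂.mp (ht hxV)
    exact hxi (Scheme.IdealSheafData.support_antitone ((Finset.le_sup (f := M) hi).trans le_sup_right) hx)
  refine ⟨E, hEft, fun x hx => ⟨hs₁' ▸ Scheme.IdealSheafData.support_antitone le_sup_left hx, hEV x hx⟩,
    fun X₁' c hc z ⟨hzF, hzU⟩ => ?_⟩
  show pullback.fst q c z ∈ Z₂
  by_contra hzW
  let P := pullback q c
  obtain ⟨J, hJ⟩ := ModPairLib.exists_mul_eq hc.1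
    (Scheme.IdealSheafData.comap_mono c (le_sup_left : J₁ ≤ E))
  have hJ' : J * E.comap c = J₁.comap c := hJ
  have hJF : closure ((fun x => c x) ⁻¹' (Z₁ ∩ (V₁ : Set X₁))) ⊆ (J.support : Set X₁') := by
    refine closure_minimal (fun y hy => ?_) J.support.isClosed
    have h : y ∈ ((J₁.comap c).support : Set X₁') := by
      rw [Scheme.IdealSheafData.support_comap]
      exact hs₁'.ge hy.1
    rw [← hJ', Scheme.IdealSheafData.support_mul] at h
    refine h.resolve_right fun h' => ?_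
    rw [SetLike.mem_coe, ← SetLike.mem_coe, Scheme.IdealSheafData.support_comap] at h'
    exact hEV _ h' hy.2
  -- the equation of ideals over `W`
  let O : P.Opens := pullback.fst q c ⁻¹ᵁ W
  let s : (O : Scheme.{u}) ⟶ X₁' := O.ι ≫ pullback.snd q c
  let r : (O : Scheme.{u}) ⟶ (W : Scheme.{u}) := pullback.fst q c ∣_ W
  have hr : r ≫ p = s ≫ c := by
    simp only [r, p, s, Category.assoc, ← pullback.condition]
    rw [← Category.assoc, morphismRestrict_ι, Category.assoc]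
  have hEK : E.comap p ≤ J₁.comap p := by
    refine Scheme.IdealSheafData.le_map_iff_comap_le.mp (sup_le ?_ (Finset.sup_le fun i _ => hMK i))
    exact Scheme.IdealSheafData.le_map_iff_comap_le.mpr le_rfl
  have heq : J.comap s * (E.comap c).comap s = (E.comap c).comap s := by
    have h := congrArg (fun T : X₁'.IdealSheafData => T.comap s) hJ'
    simp only [BlowUpLib.comap_mul] at h
    rw [h, ← Scheme.IdealSheafData.comap_comp, ← Scheme.IdealSheafData.comap_comp, ← hr]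
    have h3 : (J₁.comap p).comap r ≤ (E.comap p).comap r := by
      refine Scheme.IdealSheafData.comap_mono r ?_
      exact Scheme.IdealSheafData.comap_mono p (le_sup_left (a := J₁) (b := t.sup M))
    have h4 : (E.comap p).comap r ≤ (J₁.comap p).comap r := Scheme.IdealSheafData.comap_mono r hEK
    exact (Scheme.IdealSheafData.comap_comp _ _ _).trans ((le_antisymm h3 h4).trans (Scheme.IdealSheafData.comap_comp _ _ _).symm)
  let z' : ↥(O : Scheme.{u}) := ⟨z, hzW⟩
  obtain ⟨N, hN, hzN⟩ := QCohLib.exists_affine_nhd (X := (O : Scheme.{u})) z'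
  have hfg : (((E.comap c).comap s).ideal ⟨N, hN⟩).FG :=
    RGFlatLib.isFiniteTypeIdeal_comap (RGFlatLib.isFiniteTypeIdeal_comap hEft c) s ⟨N, hN⟩
  have hle : ((E.comap c).comap s).ideal ⟨N, hN⟩ ≤ (J.comap s).ideal ⟨N, hN⟩ • ((E.comap c).comap s).ideal ⟨N, hN⟩ := by
    have := congrArg (fun T : (O : Scheme.{u}).IdealSheafData => T.ideal ⟨N, hN⟩) heq
    simp only [Scheme.IdealSheafData.ideal_mul, Pi.mul_apply] at this
    exact this.ge
  obtain ⟨a, ha1, ha0⟩ := Submodule.exists_sub_one_mem_and_smul_eq_zero_of_fg_of_le_smul _ _ hfg hle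
  have hzJ : z' ∈ ((J.comap s).support : Set ↥(O : Scheme.{u})) := by
    rw [Scheme.IdealSheafData.support_comap]
    exact hJF hzF
  rw [SetLike.mem_coe, Scheme.IdealSheafData.mem_support_iff_of_mem (U := ⟨N, hN⟩) hzN,
    Scheme.mem_zeroLocus_iff] at hzJ
  have hza : z' ∈ (O : Scheme.{u}).basicOpen a := by
    have h1 := hzJ _ ha1
    by_contra h2
    rw [Scheme.mem_basicOpen _ _ z' hzN] at h1 h2
    rw [map_sub, map_one] at h1
    rcases IsLocalRing.isUnit_or_isUnit_one_sub_self (((O : Scheme.{u}).presheaf.germ N z' hzN).hom a) with h3 | h3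
    · exact h2 h3
    · exact h1 (by rw [← IsUnit.neg_iff, neg_sub]; exact h3)
  have hsub : ∀ y ∈ (O : Scheme.{u}).basicOpen a, c (s y) ∈ (E.support : Set X₁) := by
    intro y hy
    have h : y ∈ (((E.comap c).comap s).support : Set ↥(O : Scheme.{u})) := by
      rw [SetLike.mem_coe, Scheme.IdealSheafData.mem_support_iff_of_mem (U := ⟨N, hN⟩) ((O : Scheme.{u}).basicOpen_le a hy),
        Scheme.mem_zeroLocus_iff]
      intro e he hye
      have h0 : a * e = 0 := ha0 e he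
      have h1 := congrArg ((O : Scheme.{u}).presheaf.germ N y ((O : Scheme.{u}).basicOpen_le a hy)) h0
      rw [map_mul, map_zero] at h1
      have hm := (O : Scheme.{u}).basicOpen_le a hy
      rw [Scheme.mem_basicOpen _ _ y hm] at hy hye
      exact not_isUnit_zero (h1 ▸ hy.mul hye)
    rw [Scheme.IdealSheafData.support_comap] at h
    have h' : s y ∈ ((E.comap c).support : Set X₁') := h
    rw [Scheme.IdealSheafData.support_comap] at h'
    exact h'
  obtain ⟨_, ⟨y, hy, rfl⟩, hyU⟩ := mem_closure_iff.mp hzU _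
    (O.ι.isOpenEmbedding.isOpenMap _ ((O : Scheme.{u}).basicOpen a).isOpen) ⟨z', hza, rfl⟩
  refine hEV _ (hsub y hy) ?_
  have h := congr($(pullback.condition (f := q) (g := c)) (O.ι y))
  show (c (pullback.snd q c (O.ι y))) ∈ V₁
  rw [← show q (pullback.fst q c (O.ι y)) = c (pullback.snd q c (O.ι y)) from h]
  exact hU hyU

end Groth.Agent.S17392
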