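import Groth.Statements.S17393
import Groth.Agent.BlowUpLib.Props

set_option autoImplicit false
universe u
open BlowUp

namespace Groth.Agent.S17393

open AlgebraicGeometry CategoryTheory Limits in
/-- Let X be any scheme, I and I' quasi-coherent ideals on X (of closed subschemes Y and Y'), b : X' → X
a blowing up of X in I + I' (the ideal of Y ∩ Y'), b' : Ỹ → Y a blowing up of Y = V(I) in the
inverse image of I + I' and k : Ỹ → X' the morphism with k ≫ b = b' ≫ (Y → X), whose image is the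
strict transform of Y. For an affine open V of X, a section s of I over V, and an affine open V' ⊆
b⁻¹(V) of X' which meets the image of k, the ideal of the inverse image ideal sheaf (I + I')·O_X' on
V' is not the principal ideal generated by the pullback of s. Equivalently the strict transform of Y
does not meet the open locus U(s) where s generates the (invertible) inverse image ideal; since the
U(s) for s ranging over local sections of I and of I' cover X', the strict transform of Y lies in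
the union of the U(s) with s a local section of I'. -/
theorem result
    {X X' Yt : Scheme.{u}} (𝓘 𝓘' : X.IdealSheafData) (b : X' ⟶ X) (hb : BlowUp.IsBlowUp b (𝓘 ⊔ 𝓘'))
    (b' : Yt ⟶ 𝓘.subscheme) (hb' : BlowUp.IsBlowUp b' ((𝓘 ⊔ 𝓘').comap 𝓘.subschemeι))
    (k : Yt ⟶ X') (hk : k ≫ b = b' ≫ 𝓘.subschemeι)
    (V : X.affineOpens) (s : Γ(X, V.1)) (hs : s ∈ 𝓘.ideal V)
    (V' : X'.affineOpens) (hV' : V'.1 ≤ b ⁻¹ᵁ V.1)
    (hmeet : (Set.range (fun y => k y) ∩ (V'.1 : Set X')).Nonempty) :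
    ((𝓘 ⊔ 𝓘').comap b).ideal V' ≠ Ideal.span {(b.appLE V.1 V'.1 hV').hom s} := by
  intro hE
  obtain ⟨_, ⟨y, rfl⟩, hy⟩ := hmeet
  have hc : BlowUp.IsEffCartierIdeal (((𝓘 ⊔ 𝓘').comap b).comap k) := by
    rw [← Scheme.IdealSheafData.comap_comp, hk, Scheme.IdealSheafData.comap_comp]
    exact hb'.1
  obtain ⟨W, hyW, hWV, t, -, ht, -, htW, -⟩ := SDivLib.exists_common hc hc y (k ⁻¹ᵁ V'.1) hy
  have h1 : W.1 ≤ k ⁻¹ᵁ V'.1 := hWV
  have h2 : W.1 ≤ (k ≫ b) ⁻¹ᵁ V.1 := fun z hz => hV' (h1 hz)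
  have hzero : ((k ≫ b).appLE V.1 W.1 h2).hom s = 0 := by
    have key : ∀ (φ : Yt ⟶ X) (hφ : φ = b' ≫ 𝓘.subschemeι) (e : W.1 ≤ φ ⁻¹ᵁ V.1),
        (φ.appLE V.1 W.1 e).hom s = 0 := by
      rintro _ rfl e
      rw [Scheme.Hom.comp_appLE, CommRingCat.hom_comp, RingHom.comp_apply]
      rw [show (𝓘.subschemeι.app V.1).hom s = 0 from
        RingHom.mem_ker.mp (by rw [Scheme.IdealSheafData.ker_subschemeι_app]; exact hs), map_zero]
    exact key _ hk h2
  rw [Groth.Agent.S4666.ideal_comap_eq _ k V' W h1, hE, Ideal.map_span, Set.image_singleton] at htW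
  have hs0 : (k.appLE V'.1 W.1 h1).hom ((b.appLE V.1 V'.1 hV').hom s) = 0 := by
    rw [← hzero, ← Scheme.Hom.appLE_comp_appLE k b V.1 V'.1 W.1 hV' h1]
    rfl
  rw [hs0, Ideal.span_singleton_zero, eq_comm, Ideal.span_singleton_eq_bot] at htW
  rw [htW] at ht
  have h10 : (1 : Γ(Yt, W.1)) = 0 := mem_nonZeroDivisors_iff_right.mp ht 1 (mul_zero _)
  have : y ∈ Yt.basicOpen (1 : Γ(Yt, W.1)) := by rw [Scheme.basicOpen_of_isUnit _ isUnit_one]; exact hyW
  rw [h10, Scheme.basicOpen_zero] at this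
  exact this
end Groth.Agent.S17393
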