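import Groth.Statements.S1740
import Mathlib

set_option autoImplicit false
universe u
open CategoryTheory
attribute [local instance] HasDerivedCategory.standard
open LocCoh

namespace Groth.Agent.S1740

open MonoidalCategory Limits
open scoped TensorProduct

variable {R : Type u} [CommRing R]

/-- Vanishing of a map of Tor, on cycles of a projective resolution. -/
theorem boundary_of_zero {M M' : ModuleCat.{u} R} (α : M ⟶ M') (N : ModuleCat.{u} R)
    (h : ((CategoryTheory.Tor (ModuleCat.{u} R) 1).map α).app N = 0)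
    (z : M ⊗[R] (projectiveResolution N).complex.X 1)
    (hz : ((projectiveResolution N).complex.d 1 0).hom.lTensor M z = 0) :
    ∃ x : M' ⊗[R] (projectiveResolution N).complex.X 2,
      ((projectiveResolution N).complex.d 2 1).hom.lTensor M' x =
        α.hom.rTensor ((projectiveResolution N).complex.X 1) z := by
  let P := projectiveResolution N
  let T := tensoringLeft (ModuleCat.{u} R)
  let K := ((T.obj M).mapHomologicalComplex (ComplexShape.down ℕ)).obj P.complex
  let L := ((T.obj M').mapHomologicalComplex (ComplexShape.down ℕ)).obj P.complex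
  let φ : K ⟶ L := (NatTrans.mapHomologicalComplex (T.map α) (ComplexShape.down ℕ)).app P.complex
  have h1 : (P.isoLeftDerivedObj (T.obj M) 1).hom ≫ HomologicalComplex.homologyMap φ 1 ≫
      (P.isoLeftDerivedObj (T.obj M') 1).inv = 0 :=
    (ProjectiveResolution.leftDerived_app_eq (T.map α) P 1).symm.trans h
  have h0 : HomologicalComplex.homologyMap φ 1 = 0 :=
    (cancel_mono (P.isoLeftDerivedObj (T.obj M') 1).inv).1
      (((cancel_epi (P.isoLeftDerivedObj (T.obj M) 1).hom).1 (h1.trans comp_zero.symm)).trans zero_comp.symm)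
  let j : ModuleCat.of R R ⟶ K.X 1 := ModuleCat.ofHom (LinearMap.toSpanSingleton R (K.X 1) z)
  have hj : j ≫ K.d 1 0 = 0 := by
    refine ModuleCat.hom_ext (LinearMap.ext_ring ?_)
    show K.d 1 0 ((1 : R) • (z : K.X 1)) = 0
    rw [one_smul]
    exact hz
  let cl := K.liftCycles j 0 (by simp) hj
  have h2 : (cl ≫ HomologicalComplex.cyclesMap φ 1) ≫ L.homologyπ 1 = 0 := by
    rw [Category.assoc, ← HomologicalComplex.homologyπ_naturality, h0, comp_zero, comp_zero]
  have hex : (ShortComplex.mk (L.toCycles 2 1) (L.homologyπ 1) (L.toCycles_comp_homologyπ 2 1)).Exact :=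
    ShortComplex.exact_of_g_is_cokernel _ (L.homologyIsCokernel 2 1 (by simp [ChainComplex.prev]))
  obtain ⟨x, hx⟩ := (ShortComplex.moduleCat_exact_iff _).1 hex _ (ConcreteCategory.congr_hom h2 (1 : R))
  refine ⟨x, ?_⟩
  have h3 : (cl ≫ HomologicalComplex.cyclesMap φ 1) ≫ L.iCycles 1 = j ≫ φ.f 1 := by
    rw [Category.assoc, HomologicalComplex.cyclesMap_i, HomologicalComplex.liftCycles_i_assoc]
  have h4 := congrArg (fun y => L.iCycles 1 y) hx
  have h5 : L.d 2 1 x = φ.f 1 (j (1 : R)) := by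
    rw [← L.toCycles_i 2 1]
    exact h4.trans (ConcreteCategory.congr_hom h3 (1 : R))
  refine h5.trans ?_
  show φ.f 1 ((1 : R) • (z : K.X 1)) = _
  rw [one_smul]
  rfl

variable {F₀ F₁ : Type u} [AddCommGroup F₀] [Module R F₀] [AddCommGroup F₁] [Module R F₁]

/-- Lifting a boundary into the kernel. -/
theorem mem_range_ker (ψ : F₁ →ₗ[R] F₀) [Module.Projective R F₀] [Module.Projective R F₁]
    {M M' : Type u} [AddCommGroup M] [Module R M] [AddCommGroup M'] [Module R M'] (α : M →ₗ[R] M')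
    (h : ((CategoryTheory.Tor (ModuleCat.{u} R) 1).map (ModuleCat.ofHom α)).app
      (ModuleCat.of R (F₀ ⧸ LinearMap.range ψ)) = 0)
    (ξ : M ⊗[R] F₁) (hξ : ψ.lTensor M ξ = 0) :
    α.rTensor F₁ ξ ∈ LinearMap.range ((LinearMap.ker ψ).subtype.lTensor M') := by
  let N := ModuleCat.of R (F₀ ⧸ LinearMap.range ψ)
  let P := projectiveResolution N
  let q := (LinearMap.range ψ).mkQ
  let ε : P.complex.X 0 →ₗ[R] F₀ ⧸ LinearMap.range ψ := (P.π.f 0).hom
  have hε : Function.Surjective ε := (ModuleCat.epi_iff_surjective (P.π.f 0)).1 inferInstance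
  haveI hP : ∀ i, Module.Projective R (P.complex.X i) := fun i => (IsProjective.iff_projective _).2 (P.projective i)
  let d1 : P.complex.X 1 →ₗ[R] P.complex.X 0 := (P.complex.d 1 0).hom
  let d2 : P.complex.X 2 →ₗ[R] P.complex.X 1 := (P.complex.d 2 1).hom
  have hd12 : d1 ∘ₗ d2 = 0 := congrArg ModuleCat.Hom.hom (P.complex.d_comp_d 2 1 0)
  have hexε : Function.Exact d1 ε :=
    (ShortComplex.ShortExact.moduleCat_exact_iff_function_exact _).1 P.exact₀
  have hεd : ε ∘ₗ d1 = 0 := hexε.linearMap_comp_eq_zero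
  obtain ⟨f₀, hf₀⟩ := Module.projective_lifting_property ε q hε
  obtain ⟨g₀, hg₀⟩ := Module.projective_lifting_property q ε (Submodule.mkQ_surjective _)
  have hr1 : ∀ x, f₀ (ψ x) ∈ LinearMap.range d1 := fun x =>
    (hexε _).1 ((LinearMap.congr_fun hf₀ (ψ x)).trans
      ((Submodule.Quotient.mk_eq_zero _).2 (LinearMap.mem_range_self ψ x)))
  obtain ⟨f₁, hf₁⟩ := Module.projective_lifting_property d1.rangeRestrict
    ((f₀ ∘ₗ ψ).codRestrict (LinearMap.range d1) hr1) d1.surjective_rangeRestrict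
  have hf₁' : d1 ∘ₗ f₁ = f₀ ∘ₗ ψ := LinearMap.ext fun x => congrArg Subtype.val (LinearMap.congr_fun hf₁ x)
  have hr2 : ∀ x, g₀ (d1 x) ∈ LinearMap.range ψ := fun x =>
    (Submodule.Quotient.mk_eq_zero _).1 ((LinearMap.congr_fun hg₀ (d1 x)).trans (LinearMap.congr_fun hεd x))
  obtain ⟨g₁, hg₁⟩ := Module.projective_lifting_property ψ.rangeRestrict
    ((g₀ ∘ₗ d1).codRestrict (LinearMap.range ψ) hr2) ψ.surjective_rangeRestrict
  have hg₁' : ψ ∘ₗ g₁ = g₀ ∘ₗ d1 := LinearMap.ext fun x => congrArg Subtype.val (LinearMap.congr_fun hg₁ x)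
  have hr3 : ∀ x, (g₀ ∘ₗ f₀ - LinearMap.id : F₀ →ₗ[R] F₀) x ∈ LinearMap.range ψ := fun x => by
    refine (Submodule.Quotient.mk_eq_zero _).1 ?_
    show q (g₀ (f₀ x) - x) = 0
    rw [map_sub, ← LinearMap.comp_apply q g₀, hg₀, ← LinearMap.comp_apply ε f₀, hf₀, sub_self]
  obtain ⟨s, hs⟩ := Module.projective_lifting_property ψ.rangeRestrict
    ((g₀ ∘ₗ f₀ - LinearMap.id).codRestrict (LinearMap.range ψ) hr3) ψ.surjective_rangeRestrict
  have hs' : ψ ∘ₗ s = g₀ ∘ₗ f₀ - LinearMap.id := LinearMap.ext fun x => congrArg Subtype.val (LinearMap.congr_fun hs x)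
  let κ : F₁ →ₗ[R] LinearMap.ker ψ := (g₁ ∘ₗ f₁ - LinearMap.id - s ∘ₗ ψ).codRestrict _ fun x => by
    rw [LinearMap.mem_ker]
    show (ψ ∘ₗ (g₁ ∘ₗ f₁ - LinearMap.id - s ∘ₗ ψ)) x = 0
    rw [LinearMap.comp_sub, LinearMap.comp_sub, LinearMap.comp_id, ← LinearMap.comp_assoc, hg₁', LinearMap.comp_assoc,
      hf₁', ← LinearMap.comp_assoc, ← LinearMap.comp_assoc, hs', LinearMap.sub_comp, LinearMap.id_comp, sub_self,
      LinearMap.zero_apply]
  let μ : P.complex.X 2 →ₗ[R] LinearMap.ker ψ := (g₁ ∘ₗ d2).codRestrict _ fun x => by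
    rw [LinearMap.mem_ker]
    show (ψ ∘ₗ g₁) (d2 x) = 0
    rw [hg₁', LinearMap.comp_apply, ← LinearMap.comp_apply d1 d2, hd12, LinearMap.zero_apply, map_zero]
  obtain ⟨x, hx⟩ := boundary_of_zero (ModuleCat.ofHom α) N h (f₁.lTensor M ξ) (by
    show (d1.lTensor M) ((f₁.lTensor M) ξ) = 0
    rw [← LinearMap.lTensor_comp_apply, hf₁', LinearMap.lTensor_comp_apply, hξ, map_zero])
  change d2.lTensor M' x = α.rTensor (P.complex.X 1) (f₁.lTensor M ξ) at hx
  refine ⟨μ.lTensor M' x - κ.lTensor M' (α.rTensor F₁ ξ), ?_⟩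
  have hψ : ψ.lTensor M' (α.rTensor F₁ ξ) = 0 := by
    rw [← LinearMap.comp_apply, LinearMap.lTensor_comp_rTensor, ← LinearMap.rTensor_comp_lTensor,
      LinearMap.comp_apply, hξ, map_zero]
  rw [map_sub, ← LinearMap.lTensor_comp_apply, ← LinearMap.lTensor_comp_apply,
    show (LinearMap.ker ψ).subtype ∘ₗ μ = g₁ ∘ₗ d2 from rfl,
    show (LinearMap.ker ψ).subtype ∘ₗ κ = g₁ ∘ₗ f₁ - LinearMap.id - s ∘ₗ ψ from rfl,
    LinearMap.lTensor_comp_apply, hx, LinearMap.lTensor_sub, LinearMap.lTensor_sub, LinearMap.sub_apply,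
    LinearMap.sub_apply, LinearMap.lTensor_comp_apply, LinearMap.lTensor_comp_apply M' s ψ, hψ, map_zero,
    LinearMap.lTensor_id, LinearMap.id_apply, sub_zero]
  rw [show f₁.lTensor M' (α.rTensor F₁ ξ) = α.rTensor _ (f₁.lTensor M ξ) by
    rw [← LinearMap.comp_apply, LinearMap.lTensor_comp_rTensor, ← LinearMap.rTensor_comp_lTensor,
      LinearMap.comp_apply], sub_sub_cancel]

/-- Let α : M → M' be a map of R-modules with M finitely presented such that the induced map Tor_1(M, N)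
→ Tor_1(M', N) is zero for every R-module N. Then α is the composite of a map from M into a free
R-module and a map from that free module to M'. -/
theorem result (R : Type u) [CommRing R] (M M' : Type u) [AddCommGroup M] [Module R M] [Module.FinitePresentation R M] [AddCommGroup M'] [Module R M'] (α : M →ₗ[R] M') (h : ∀ (N : Type u) [AddCommGroup N] [Module R N], ((CategoryTheory.Tor (ModuleCat.{u} R) 1).map (ModuleCat.ofHom α)).app (ModuleCat.of R N) = 0) : ∃ (ι : Type u) (g : M →ₗ[R] (ι →₀ R)) (h : (ι →₀ R) →ₗ[R] M'), α = h ∘ₗ g := by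
  classical
  obtain ⟨a, π, hπ⟩ := Module.Finite.exists_fin' R M
  obtain ⟨S, hS⟩ := Module.FinitePresentation.fg_ker π hπ
  let ψ : (Fin a → R) →ₗ[R] (S → R) := LinearMap.pi fun j => ∑ i, (j.1 i) • (LinearMap.proj i)
  let e : Fin a → Fin a → R := fun i => Pi.single i 1
  let ξ : M ⊗[R] (Fin a → R) := ∑ i, π (e i) ⊗ₜ[R] e i
  have hpi : ∀ c : Fin a → R, π c = ∑ i, c i • π (e i) := fun c => by
    conv_lhs => rw [pi_eq_sum_univ' c]
    simp [map_sum, e]
  have hξ : ψ.lTensor M ξ = 0 := by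
    apply (TensorProduct.piScalarRight R R M S).injective
    rw [map_zero]
    ext j
    have h1 : π j.1 = 0 := LinearMap.mem_ker.1 (hS ▸ Submodule.subset_span j.2)
    simp only [ξ, map_sum, LinearMap.lTensor_tmul, TensorProduct.piScalarRight_apply,
      TensorProduct.piScalarRightHom_tmul, Finset.sum_apply, Pi.zero_apply]
    rw [← h1, hpi j.1]
    refine Finset.sum_congr rfl fun i _ => ?_
    congr 1
    simp [ψ, e, LinearMap.sum_apply, Pi.single_apply]
  obtain ⟨t, ht⟩ := mem_range_ker ψ α (h _) ξ hξ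
  obtain ⟨T, rfl⟩ := TensorProduct.exists_finset t
  let G : (Fin a → R) →ₗ[R] ((M' × LinearMap.ker ψ) →₀ R) :=
    ∑ p ∈ T, Finsupp.lsingle p ∘ₗ (∑ i, (p.2.1 i) • LinearMap.proj i)
  have hG : LinearMap.ker π ≤ LinearMap.ker G := by
    rw [← hS, Submodule.span_le]
    intro j hj
    rw [SetLike.mem_coe, LinearMap.mem_ker]
    simp only [G, LinearMap.sum_apply, LinearMap.comp_apply]
    refine Finset.sum_eq_zero fun p _ => ?_
    have hp := congrFun (LinearMap.mem_ker.1 p.2.2) ⟨j, hj⟩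
    simp only [ψ, LinearMap.pi_apply, LinearMap.sum_apply, LinearMap.smul_apply, LinearMap.proj_apply, smul_eq_mul,
      Pi.zero_apply] at hp
    simp only [LinearMap.smul_apply, LinearMap.proj_apply, smul_eq_mul]
    rw [show ∑ i, p.2.1 i * j i = 0 by rw [← hp]; exact Finset.sum_congr rfl fun i _ => mul_comm _ _, map_zero]
  let g : M →ₗ[R] ((M' × LinearMap.ker ψ) →₀ R) :=
    ((LinearMap.ker π).liftQ G hG) ∘ₗ (π.quotKerEquivOfSurjective hπ).symm.toLinearMap
  let H : ((M' × LinearMap.ker ψ) →₀ R) →ₗ[R] M' := Finsupp.linearCombination R Prod.fst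
  refine ⟨M' × LinearMap.ker ψ, g, H, LinearMap.ext fun m => ?_⟩
  obtain ⟨c, rfl⟩ := hπ m
  have hg : g (π c) = G c := by
    show (LinearMap.ker π).liftQ G hG ((π.quotKerEquivOfSurjective hπ).symm (π c)) = _
    rw [show (π.quotKerEquivOfSurjective hπ).symm (π c) = Submodule.Quotient.mk c from
      (LinearEquiv.symm_apply_eq _).2 rfl]
    rfl
  rw [LinearMap.comp_apply, hg]
  let ev : M' ⊗[R] (Fin a → R) →ₗ[R] M' :=
    TensorProduct.rid R M' ∘ₗ (∑ i, (c i) • (LinearMap.proj i : (Fin a → R) →ₗ[R] R)).lTensor M'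
  have hev := congrArg ev ht
  simp only [ev, ξ, map_sum, LinearMap.comp_apply, LinearMap.rTensor_tmul, LinearMap.lTensor_tmul,
    Submodule.coe_subtype, LinearEquiv.coe_coe, TensorProduct.rid_tmul, LinearMap.sum_apply, LinearMap.smul_apply,
    LinearMap.proj_apply, smul_eq_mul] at hev
  simp only [G, H, LinearMap.sum_apply, map_sum, LinearMap.comp_apply, Finsupp.lsingle_apply,
    Finsupp.linearCombination_single, LinearMap.smul_apply, LinearMap.proj_apply, smul_eq_mul]
  rw [hpi c, map_sum]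
  refine Eq.trans ?_ (hev.symm.trans (Finset.sum_congr rfl fun p _ => ?_))
  · refine Finset.sum_congr rfl fun i _ => ?_
    simp [e, Pi.single_apply, map_smul]
  · rw [Finset.sum_smul]
    exact Finset.sum_congr rfl fun i _ => by rw [mul_comm]

end Groth.Agent.S1740
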