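import Groth.Statements.S17409
import Mathlib
import Mathlib
-- import your own Groth.Agent.* helpers here

set_option autoImplicit false
universe u
open Prym5

namespace Groth.Agent.S17409

/-- Over a perfect field K of characteristic different from 2 and 3, let G₂, G₃, G₄ be polynomials in
two variables x, y and consider G₂ z² + 2 G₃ z + G₄ as a polynomial in the three variables x, y, z.
If it lies in the square of the ideal (x, y, z) — the surface it defines has a double point at the
origin — then the discriminant G₃² − G₂ G₄ lies in the square of the ideal (x, y) of K[x, y], so the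
plane curve G₃² − G₂ G₄ = 0 is singular at the origin. (This is the affine-local form used in the
published proof: the surface is a quartic with a node at the centre of projection placed at infinity
on the z-axis, and the curve is the branch sextic of that projection.) -/
theorem result (K : Type u) [Field K] [PerfectField K]
    (h2 : (2 : K) ≠ 0) (h3 : (3 : K) ≠ 0) (G₂ G₃ G₄ : MvPolynomial (Fin 2) K)
    (h : MvPolynomial.rename (Fin.castSucc : Fin 2 → Fin 3) G₂ * MvPolynomial.X (2 : Fin 3) ^ 2
        + 2 * MvPolynomial.rename (Fin.castSucc : Fin 2 → Fin 3) G₃ * MvPolynomial.X (2 : Fin 3)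
        + MvPolynomial.rename (Fin.castSucc : Fin 2 → Fin 3) G₄
        ∈ (Ideal.span (Set.range (MvPolynomial.X : Fin 3 → MvPolynomial (Fin 3) K))) ^ 2) :
    G₃ ^ 2 - G₂ * G₄ ∈ (Ideal.span (Set.range (MvPolynomial.X : Fin 2 → MvPolynomial (Fin 2) K))) ^ 2 := by
  classical
  rw [← MvPolynomial.idealOfVars.eq_def] at h ⊢
  rw [MvPolynomial.mem_pow_idealOfVars_iff'] at h ⊢
  have hsmall : ∀ {ι : Type} (x : ι →₀ ℕ), x.degree < 2 → ∀ a, x a ≤ 1 := fun x hx a => by
    have := Finsupp.le_degree a x
    omega
  have key : ∀ d : Fin 3 →₀ ℕ, d.degree < 2 → ∀ G : MvPolynomial (Fin 2) K, ∀ j : ℕ,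
      MvPolynomial.coeff d (MvPolynomial.rename (Fin.castSucc : Fin 2 → Fin 3) G * MvPolynomial.X (2 : Fin 3) ^ j) =
      if d 2 = j then MvPolynomial.coeff (d.comapDomain Fin.castSucc (Fin.castSucc_injective 2).injOn) G else 0 := by
    intro d _ G j
    induction G using MvPolynomial.induction_on' with
    | monomial e c =>
      rw [MvPolynomial.rename_monomial, MvPolynomial.X_pow_eq_monomial, MvPolynomial.monomial_mul, mul_one, MvPolynomial.coeff_monomial, MvPolynomial.coeff_monomial]
      have h2 : (Finsupp.mapDomain (Fin.castSucc : Fin 2 → Fin 3) e) 2 = 0 := Finsupp.mapDomain_notin_range _ _ (by decide)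
      by_cases hj : d 2 = j
      · rw [if_pos hj]
        refine if_congr ⟨fun h => ?_, fun h => ?_⟩ rfl rfl
        · ext l
          rw [Finsupp.comapDomain_apply, ← h, Finsupp.add_apply, Finsupp.mapDomain_apply (Fin.castSucc_injective 2), Finsupp.single_eq_of_ne (by fin_cases l <;> decide), add_zero]
        · ext l
          induction l using Fin.lastCases with
          | last => show _ = d (2 : Fin 3); rw [Finsupp.add_apply]; show (Finsupp.mapDomain Fin.castSucc e) (2 : Fin 3) + _ = _; rw [h2, zero_add, show (Fin.last 2 : Fin 3) = 2 from rfl, Finsupp.single_eq_same, hj]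
          | cast l => rw [Finsupp.add_apply, Finsupp.mapDomain_apply (Fin.castSucc_injective 2), Finsupp.single_eq_of_ne (by fin_cases l <;> decide), add_zero, h, Finsupp.comapDomain_apply]
      · rw [if_neg hj, if_neg (fun h => hj (by rw [← h, Finsupp.add_apply, h2, zero_add, Finsupp.single_eq_same]))]
    | add p q hp hq => rw [map_add, add_mul, MvPolynomial.coeff_add, hp, hq, MvPolynomial.coeff_add]; split_ifs <;> simp
  have h4 : ∀ x : Fin 2 →₀ ℕ, x.degree < 2 → MvPolynomial.coeff x G₄ = 0 ∧ (x = 0 → MvPolynomial.coeff x G₃ = 0) := by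
    intro x hx
    have hd : (x.mapDomain (Fin.castSucc : Fin 2 → Fin 3)).degree = x.degree := Finsupp.degree_mapDomain _ _
    refine ⟨?_, fun hx0 => ?_⟩
    · have hh := h _ (hd.trans_lt hx)
      have e := fun G j => key (x.mapDomain Fin.castSucc) (hd.trans_lt hx) G j
      rw [MvPolynomial.coeff_add, MvPolynomial.coeff_add, e, mul_assoc, show (2 : MvPolynomial (Fin 3) K) = MvPolynomial.C 2 from (map_ofNat _ _).symm, MvPolynomial.coeff_C_mul, ← pow_one (MvPolynomial.X (2 : Fin 3)), e, ← mul_one (MvPolynomial.rename Fin.castSucc G₄), ← pow_zero (MvPolynomial.X (2 : Fin 3)), e] at hh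
      have h2' : (Finsupp.mapDomain (Fin.castSucc : Fin 2 → Fin 3) x) 2 = 0 := Finsupp.mapDomain_notin_range _ _ (by decide)
      rw [h2', if_neg (by norm_num), if_neg (by norm_num), if_pos rfl] at hh
      rw [show (x.mapDomain Fin.castSucc).comapDomain Fin.castSucc (Fin.castSucc_injective 2).injOn = x from
        Finsupp.comapDomain_mapDomain Fin.castSucc (Fin.castSucc_injective 2) x] at hh
      simpa using hh
    · subst hx0
      have hd' : (Finsupp.single (2 : Fin 3) 1).degree < 2 := by simp
      have hh := h _ hd'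
      have e := fun G j => key (Finsupp.single (2 : Fin 3) 1) hd' G j
      rw [MvPolynomial.coeff_add, MvPolynomial.coeff_add, e, mul_assoc, show (2 : MvPolynomial (Fin 3) K) = MvPolynomial.C 2 from (map_ofNat _ _).symm, MvPolynomial.coeff_C_mul, ← pow_one (MvPolynomial.X (2 : Fin 3)), e, ← mul_one (MvPolynomial.rename Fin.castSucc G₄), ← pow_zero (MvPolynomial.X (2 : Fin 3)), e] at hh
      rw [Finsupp.single_eq_same, if_neg (by norm_num), if_pos rfl, if_neg (by norm_num)] at hh
      have : (Finsupp.single (2 : Fin 3) 1).comapDomain Fin.castSucc (Fin.castSucc_injective 2).injOn = 0 := by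
        ext l; rw [Finsupp.comapDomain_apply, Finsupp.single_eq_of_ne (by fin_cases l <;> decide)]; rfl
      rw [this, zero_add, add_zero] at hh
      exact (mul_eq_zero.1 hh).resolve_left h2
  intro x hx
  rw [MvPolynomial.coeff_sub, sq, MvPolynomial.coeff_mul, MvPolynomial.coeff_mul, sub_eq_zero]
  rw [Finset.sum_eq_zero, Finset.sum_eq_zero]
  · intro q hq
    replace hq := Finset.HasAntidiagonal.mem_antidiagonal.1 hq
    rw [(h4 q.2 (by have := congrArg Finsupp.degree hq; rw [map_add] at this; omega)).1, mul_zero]
  · intro q hq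
    replace hq := Finset.HasAntidiagonal.mem_antidiagonal.1 hq
    have hdeg := congrArg Finsupp.degree hq
    rw [map_add] at hdeg
    rcases Nat.eq_zero_or_pos q.1.degree with h0 | h0
    · rw [(h4 q.1 (by omega)).2 ((Finsupp.degree_eq_zero_iff _).1 h0), zero_mul]
    · rw [(h4 q.2 (by omega)).2 ((Finsupp.degree_eq_zero_iff _).1 (by omega)), mul_zero]

end Groth.Agent.S17409
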