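import Groth.Statements.S1741
import Groth.Agent.TorSESLib.Basic
import Groth.Agent.S1740

set_option autoImplicit false
universe u
open CategoryTheory
attribute [local instance] HasDerivedCategory.standard
open LocCoh

namespace Groth.Agent.S1741

open Limits Abelian MonoidalCategory

variable {R : Type u} [CommRing R]

/-- The map on `Tor` is zero. -/
def TorZero {M M' : ModuleCat.{u} R} (α : M ⟶ M') (i : ℕ) : Prop :=
  ∀ N : ModuleCat.{u} R, ((CategoryTheory.Tor (ModuleCat.{u} R) i).map α).app N = 0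

/-- The map on `Ext` is zero. -/
def ExtZero {M M' : ModuleCat.{u} R} (α : M ⟶ M') (i : ℕ) : Prop :=
  ∀ (N : ModuleCat.{u} R) (x : Ext M' N i), (Ext.mk₀ α).comp x (zero_add i) = 0

theorem tor_map_conj {M M' : ModuleCat.{u} R} (α : M ⟶ M') (i : ℕ) (N : ModuleCat.{u} R) :
    ((CategoryTheory.Tor (ModuleCat.{u} R) i).map α).app N = (TorSESLib.torIso N M i).hom ≫
      HomologicalComplex.homologyMap ((NatTrans.mapHomologicalComplex ((tensoringLeft (ModuleCat.{u} R)).map α)
        (ComplexShape.down ℕ)).app (projectiveResolution N).complex) i ≫ (TorSESLib.torIso N M' i).inv :=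
  ProjectiveResolution.leftDerived_app_eq ((tensoringLeft (ModuleCat.{u} R)).map α) (projectiveResolution N) i

theorem torZero_iff {M M' : ModuleCat.{u} R} (α : M ⟶ M') (i : ℕ) :
    TorZero α i ↔ ∀ N : ModuleCat.{u} R,
      HomologicalComplex.homologyMap ((NatTrans.mapHomologicalComplex ((tensoringLeft (ModuleCat.{u} R)).map α)
        (ComplexShape.down ℕ)).app (projectiveResolution N).complex) i = 0 := by
  refine forall_congr' fun N => ⟨fun h => ?_, fun h => ?_⟩
  · have h1 := (tor_map_conj α i N).symm.trans h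
    exact (cancel_mono (TorSESLib.torIso N M' i).inv).1 (((cancel_epi (TorSESLib.torIso N M i).hom).1
      (h1.trans comp_zero.symm)).trans zero_comp.symm)
  · rw [tor_map_conj, h, zero_comp, comp_zero]

theorem torZero_shift {S T : ShortComplex (ModuleCat.{u} R)} (hS : S.ShortExact) (hT : T.ShortExact)
    [Module.Flat R S.X₂] [Module.Flat R T.X₂] (φ : S ⟶ T) {i : ℕ} (hi : 0 < i) :
    TorZero φ.τ₁ i ↔ TorZero φ.τ₃ (i + 1) := by
  rw [torZero_iff, torZero_iff]
  refine forall_congr' fun N => ?_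
  let m : ∀ {X Y : ModuleCat.{u} R} (_f : X ⟶ Y), _ := fun {X Y} f =>
    (NatTrans.mapHomologicalComplex ((tensoringLeft (ModuleCat.{u} R)).map f)
      (ComplexShape.down ℕ)).app (projectiveResolution N).complex
  have hcomm : ∀ {X Y Z : ModuleCat.{u} R} (f : X ⟶ Y) (g : Y ⟶ Z), m (f ≫ g) = m f ≫ m g := fun {X Y Z} f g => by
    refine HomologicalComplex.hom_ext _ _ fun j => ?_
    show ((tensoringLeft (ModuleCat.{u} R)).map (f ≫ g)).app _ = _
    rw [Functor.map_comp]
    rfl
  let ψ : TorSESLib.cx S N ⟶ TorSESLib.cx T N :=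
    { τ₁ := m φ.τ₁
      τ₂ := m φ.τ₂
      τ₃ := m φ.τ₃
      comm₁₂ := (hcomm _ _).symm.trans ((congrArg m φ.comm₁₂).trans (hcomm _ _))
      comm₂₃ := (hcomm _ _).symm.trans ((congrArg m φ.comm₂₃).trans (hcomm _ _)) }
  have hδ := HomologicalComplex.HomologySequence.δ_naturality ψ (TorSESLib.cx_shortExact S N hS)
    (TorSESLib.cx_shortExact T N hT) (i + 1) i (by simp)
  have z1 : ∀ (W : ShortComplex (ModuleCat.{u} R)) [Module.Flat R W.X₂] (j : ℕ), 0 < j →
      IsZero ((TorSESLib.cx W N).X₂.homology j) := fun W _ j hj =>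
    (TorSESLib.isZero_tor_of_flat N W.X₂ hj).of_iso (TorSESLib.torIso N W.X₂ j).symm
  haveI := (TorSESLib.cx_shortExact S N hS).isIso_δ (i + 1) i (by simp) (z1 S (i + 1) (Nat.succ_pos i)) (z1 S i hi)
  haveI := (TorSESLib.cx_shortExact T N hT).isIso_δ (i + 1) i (by simp) (z1 T (i + 1) (Nat.succ_pos i)) (z1 T i hi)
  change HomologicalComplex.homologyMap ψ.τ₁ i = 0 ↔ HomologicalComplex.homologyMap ψ.τ₃ (i + 1) = 0
  constructor
  · intro h
    rw [h, comp_zero] at hδ
    exact (cancel_mono ((TorSESLib.cx_shortExact T N hT).δ (i + 1) i (by simp))).1 (hδ.symm.trans zero_comp.symm)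
  · intro h
    rw [h, zero_comp] at hδ
    exact (cancel_epi ((TorSESLib.cx_shortExact S N hS).δ (i + 1) i (by simp))).1 (hδ.trans comp_zero.symm)

theorem extZero_shift {S T : ShortComplex (ModuleCat.{u} R)} (hS : S.ShortExact) (hT : T.ShortExact)
    [Projective S.X₂] [Projective T.X₂] (φ : S ⟶ T) (i : ℕ) :
    ExtZero φ.τ₁ (i + 1) ↔ ExtZero φ.τ₃ (i + 2) := by
  have hnat : ∀ (N : ModuleCat.{u} R) (z : Ext T.X₁ N (i + 1)),
      (Ext.mk₀ φ.τ₃).comp (hT.extClass.comp z (show 1 + (i + 1) = i + 2 by omega)) (zero_add _) =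
        hS.extClass.comp ((Ext.mk₀ φ.τ₁).comp z (zero_add _)) (show 1 + (i + 1) = i + 2 by omega) := by
    intro N z
    rw [← Ext.comp_assoc (Ext.mk₀ φ.τ₃) hT.extClass z (zero_add 1) (by omega) (by omega),
      ← ShortComplex.ShortExact.extClass_naturality hS hT φ,
      Ext.comp_assoc_of_second_deg_zero]
  constructor
  · intro h N x
    obtain ⟨z, rfl⟩ := Ext.contravariant_sequence_exact₃ hT N x (Ext.eq_zero_of_projective _)
      (n₀ := i + 1) (by omega)
    rw [hnat, h, Ext.comp_zero]
  · intro h N z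
    obtain ⟨w, hw⟩ := Ext.contravariant_sequence_exact₁ hS N ((Ext.mk₀ φ.τ₁).comp z (zero_add _))
      (n₁ := i + 2) (by omega) ((hnat N z).symm.trans (h N _))
    rw [← hw, Ext.eq_zero_of_projective w, Ext.comp_zero]

/-- The canonical free cover. -/
noncomputable def cover (M : ModuleCat.{u} R) : ModuleCat.of R (M →₀ R) ⟶ M :=
  ModuleCat.ofHom (Finsupp.linearCombination R id)

instance (M : ModuleCat.{u} R) : Epi (cover M) :=
  (ModuleCat.epi_iff_surjective _).2 (Finsupp.linearCombination_surjective _ Function.surjective_id)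

/-- The kernel sequence. -/
noncomputable abbrev ker {F M : ModuleCat.{u} R} (p : F ⟶ M) : ShortComplex (ModuleCat.{u} R) :=
  ShortComplex.mk (kernel.ι p) p (kernel.condition p)

theorem ker_shortExact {F M : ModuleCat.{u} R} (p : F ⟶ M) [Epi p] : (ker p).ShortExact where
  exact := ShortComplex.exact_of_f_is_kernel _ (kernelIsKernel p)
  mono_f := inferInstanceAs (Mono (kernel.ι p))
  epi_g := inferInstanceAs (Epi p)

/-- A free cover with kernel. -/
theorem exists_cover_map [IsNoetherianRing R] {M M' : ModuleCat.{u} R} [Module.Finite R M] (α : M ⟶ M') :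
    ∃ (S T : ShortComplex (ModuleCat.{u} R)) (φ : S ⟶ T) (_ : S.ShortExact) (_ : T.ShortExact)
      (_ : Module.Free R S.X₂) (_ : Module.Free R T.X₂) (_ : Module.Finite R S.X₁)
      (e : S.X₃ = M) (e' : T.X₃ = M'), φ.τ₃ = eqToHom e ≫ α ≫ eqToHom e'.symm := by
  obtain ⟨a, p, hp⟩ := Module.Finite.exists_fin' R M
  let P : ModuleCat.of R (Fin a → R) ⟶ M := ModuleCat.ofHom p
  let P' : ModuleCat.of R (M' →₀ R) ⟶ M' := cover M'
  have : Projective (ModuleCat.of R (Fin a → R)) := (IsProjective.iff_projective _).1 inferInstance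
  have : Epi P := (ModuleCat.epi_iff_surjective _).2 hp
  let L := Projective.factorThru (P ≫ α) P'
  let φ : ker P ⟶ ker P' :=
    { τ₁ := kernel.map P P' L α (Projective.factorThru_comp _ _).symm
      τ₂ := L
      τ₃ := α
      comm₁₂ := kernel.lift_ι _ _ _
      comm₂₃ := Projective.factorThru_comp _ _ }
  refine ⟨ker P, ker P', φ, ker_shortExact P, ker_shortExact P', inferInstanceAs (Module.Free R (Fin a → R)),
    inferInstanceAs (Module.Free R (M' →₀ R)), ?_, rfl, rfl,
    ((Category.id_comp _).trans (Category.comp_id _)).symm⟩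
  exact Module.Finite.equiv (ModuleCat.kernelIsoKer P).toLinearEquiv.symm

theorem iff_one [IsNoetherianRing R] {M M' : ModuleCat.{u} R} [Module.Finite R M] (α : M ⟶ M') :
    ExtZero α 1 ↔ TorZero α 1 := by
  constructor
  · intro h N
    let T := ker (cover M')
    have hT : T.ShortExact := ker_shortExact (cover M')
    obtain ⟨g, hg⟩ := Ext.covariant_sequence_exact₃ M hT (Ext.mk₀ α) (zero_add 1) (h _ hT.extClass)
    obtain ⟨g, rfl⟩ := (Ext.mk₀_bijective _ _).2 g
    rw [Ext.mk₀_comp_mk₀] at hg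
    rw [← (Ext.mk₀_bijective _ _).1 hg, Functor.map_comp, NatTrans.comp_app]
    haveI : Module.Flat R T.X₂ := inferInstanceAs (Module.Flat R (M' →₀ R))
    rw [((TorSESLib.isZero_tor_of_flat N T.X₂ Nat.one_pos)).eq_of_src (((CategoryTheory.Tor _ 1).map T.g).app N) 0,
      comp_zero]
  · intro h N x
    haveI : Module.FinitePresentation R M := Module.finitePresentation_of_finite R M
    obtain ⟨ι, g, k, hk⟩ := Groth.Agent.S1740.result R M M' α.hom fun N => h (ModuleCat.of R N)
    have hα : α = ModuleCat.ofHom g ≫ ModuleCat.ofHom k := ModuleCat.hom_ext hk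
    haveI : Projective (ModuleCat.of R (ι →₀ R)) :=
      (IsProjective.iff_projective _).1 inferInstance
    rw [hα, ← Ext.mk₀_comp_mk₀_assoc, Ext.eq_zero_of_projective ((Ext.mk₀ (ModuleCat.ofHom k)).comp x (zero_add 1)),
      Ext.comp_zero]

theorem main [IsNoetherianRing R] : ∀ (e : ℕ) {M M' : ModuleCat.{u} R} [Module.Finite R M] (α : M ⟶ M'),
    ExtZero α (e + 1) ↔ TorZero α (e + 1) := by
  intro e
  induction e with
  | zero => intro M M' _ α; exact iff_one α
  | succ e ih =>
    intro M M' _ α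
    obtain ⟨S, T, φ, hS, hT, _, _, _, eM, eM', hφ⟩ := exists_cover_map α
    subst eM eM'
    rw [eqToHom_refl, eqToHom_refl, Category.id_comp, Category.comp_id] at hφ
    subst hφ
    haveI : Projective S.X₂ := (IsProjective.iff_projective _).1 inferInstance
    haveI : Projective T.X₂ := (IsProjective.iff_projective _).1 inferInstance
    exact (extZero_shift hS hT φ e).symm.trans ((ih φ.τ₁).trans (torZero_shift hS hT φ (Nat.succ_pos e)))

/-- Equivalence of (4) and (7) in the Noetherian case. Let R be a Noetherian ring, α : M → M' a map of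
R-modules with M finite, and e ≥ 0. Then precomposition with α kills all classes in Ext^{e+1}(M', N)
(maps M' → N[e+1] in D(R)) for every module N if and only if the map Tor_{e+1}(M, N) → Tor_{e+1}(M',
N) induced by α is zero for every module N. -/
theorem result (R : Type u) [CommRing R] [IsNoetherianRing R] (M M' : Type u) [AddCommGroup M] [Module R M] [Module.Finite R M] [AddCommGroup M'] [Module R M'] (α : M →ₗ[R] M') (e : ℕ) : (∀ (N : Type u) [AddCommGroup N] [Module R N] (φ : Dual.inD R M' ⟶ (Dual.inD R N)⟦((e : ℤ) + 1)⟧), (DerivedCategory.singleFunctor (ModuleCat.{u} R) 0).map (ModuleCat.ofHom α) ≫ φ = 0) ↔ (∀ (N : Type u) [AddCommGroup N] [Module R N], ((CategoryTheory.Tor (ModuleCat.{u} R) (e + 1)).map (ModuleCat.ofHom α)).app (ModuleCat.of R N) = 0) := by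
  rw [show (∀ (N : Type u) [AddCommGroup N] [Module R N],
      ((CategoryTheory.Tor (ModuleCat.{u} R) (e + 1)).map (ModuleCat.ofHom α)).app (ModuleCat.of R N) = 0) ↔
    TorZero (ModuleCat.ofHom α) (e + 1) from ⟨fun h N => h N, fun h N _ _ => h (ModuleCat.of R N)⟩,
    ← main e (ModuleCat.ofHom α)]
  constructor
  · intro h N x
    refine Ext.homEquiv.injective ?_
    show ((Ext.mk₀ (ModuleCat.ofHom α)).comp x (zero_add _)).hom = (0 : Ext _ N (e + 1)).hom
    rw [Ext.comp_hom, Ext.mk₀_hom, Ext.zero_hom, ShiftedHom.mk₀_comp]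
    exact h N x.hom
  · intro h N _ _ φ
    obtain ⟨x, hx⟩ := (Ext.homEquiv (n := e + 1) (X := ModuleCat.of R M') (Y := ModuleCat.of R N)).surjective φ
    have h2 := congrArg Ext.hom (h _ x)
    rw [Ext.comp_hom, Ext.mk₀_hom, Ext.zero_hom, ShiftedHom.mk₀_comp] at h2
    rw [← hx]
    exact h2

end Groth.Agent.S1741
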