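import Groth.Statements.S17413
import Groth.Agent.S1561
import Groth.Agent.SmoothPtLib.Scheme
import Groth.Agent.GeomRedFieldLib.CharZero
import Groth.Agent.OrbitLib.Smooth
-- import your own Groth.Agent.* helpers here

set_option autoImplicit false
set_option maxHeartbeats 2000000
set_option backward.isDefEq.respectTransparency false
universe u
open CategoryTheory AlgebraicGeometry
open Prym5

namespace Groth.Agent.S17413

open IsLocalRing in
/-- A local homomorphism into a regular local ring which is injective on cotangent spaces, with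
equal residue fields, is injective on a Noetherian local domain. -/
theorem injective_of_cotangent {A B : Type u} [CommRing A] [IsDomain A] [IsLocalRing A] [IsNoetherianRing A]
    [CommRing B] [IsRegularLocalRing B] (φ : A →+* B) [IsLocalHom φ]
    (hres : ∀ b : B, ∃ a : A, b - φ a ∈ maximalIdeal B)
    (hinj : ∀ a ∈ maximalIdeal A, φ a ∈ maximalIdeal B ^ 2 → a ∈ maximalIdeal A ^ 2) :
    Function.Injective φ := by
  classical
  have hJ : (maximalIdeal A).map φ ≤ maximalIdeal B :=
    Ideal.map_le_iff_le_comap.2 fun a ha => map_nonunit φ a ha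
  let e := Module.finrank (ResidueField A) (CotangentSpace A)
  let d := Module.finrank (ResidueField B) (CotangentSpace B)
  let v := Module.finBasis (ResidueField A) (CotangentSpace A)
  choose a ha using fun i => Ideal.toCotangent_surjective _ (v i)
  let w : Fin e → CotangentSpace B := fun i => (maximalIdeal B).toCotangent ⟨φ (a i), map_nonunit φ _ (a i).2⟩
  have hw : LinearIndependent (ResidueField B) w := by
    rw [Fintype.linearIndependent_iff]
    intro r hr i
    choose b hb using fun i => IsLocalRing.residue_surjective (r i)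
    choose s hs using fun i => hres (b i)
    have h1 : (maximalIdeal B).toCotangent (∑ i, b i • ⟨φ (a i), map_nonunit φ _ (a i).2⟩) = 0 := by
      rw [map_sum]
      refine Eq.trans (Finset.sum_congr rfl fun i _ => ?_) hr
      rw [map_smul, ← hb]
      rfl
    rw [Ideal.toCotangent_eq_zero] at h1
    simp only [AddSubmonoidClass.coe_finset_sum, SetLike.val_smul, smul_eq_mul] at h1
    have h2 : φ (∑ i, s i * a i) ∈ maximalIdeal B ^ 2 := by
      have h3 : ∑ i, b i * φ (a i) - φ (∑ i, s i * a i) ∈ maximalIdeal B ^ 2 := by
        rw [map_sum, ← Finset.sum_sub_distrib]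
        refine Ideal.sum_mem _ fun i _ => ?_
        rw [map_mul, ← sub_mul, sq]
        exact Ideal.mul_mem_mul (hs i) (map_nonunit φ _ (a i).2)
      simpa using Ideal.sub_mem _ h1 h3
    have h4 := hinj _ (Ideal.sum_mem _ fun i _ => Ideal.mul_mem_left _ _ (a i).2) h2
    have h5 : ∑ i, residue A (s i) • v i = 0 := by
      have h6 : (maximalIdeal A).toCotangent (∑ i, s i • a i) = 0 := by
        rw [Ideal.toCotangent_eq_zero]
        simpa [AddSubmonoidClass.coe_finset_sum] using h4
      rw [map_sum] at h6
      refine Eq.trans (Finset.sum_congr rfl fun i _ => ?_) h6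
      rw [map_smul, ha]
      rfl
    have h7 := Fintype.linearIndependent_iff.1 v.linearIndependent _ h5 i
    rw [← hb, residue_eq_zero_iff]
    rw [residue_eq_zero_iff] at h7
    simpa using Ideal.add_mem _ (hs i) (map_nonunit φ _ h7)
  obtain ⟨C, hC⟩ := Submodule.exists_isCompl (Submodule.span (ResidueField B) (Set.range w))
  have hCrank : Module.finrank (ResidueField B) C + e = d := by
    show _ = Module.finrank (ResidueField B) (CotangentSpace B)
    rw [← Submodule.finrank_add_eq_of_isCompl hC, finrank_span_eq_card hw, Fintype.card_fin, add_comm]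
  let u := Module.finBasis (ResidueField B) C
  choose c hc using fun i => Ideal.toCotangent_surjective _ ((u i : C) : CotangentSpace B)
  let J := (maximalIdeal A).map φ
  let K : Ideal B := J ⊔ Ideal.span (Set.range fun i => (c i : B))
  have hK : K = maximalIdeal B := by
    have hKle : K ≤ maximalIdeal B := sup_le hJ (Ideal.span_le.2 (by rintro _ ⟨i, rfl⟩; exact (c i).2))
    refine le_antisymm hKle (Submodule.le_of_le_smul_of_le_jacobson_bot (IsNoetherian.noetherian _)
      (by rw [IsLocalRing.jacobson_eq_maximalIdeal ⊥ bot_ne_top]) ?_)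
    intro x hx
    have key : ∀ z : CotangentSpace B, ∃ y : maximalIdeal B, (y : B) ∈ K ∧ (maximalIdeal B).toCotangent y = z := by
      intro z
      have hz : z ∈ Submodule.span (ResidueField B) (Set.range w ∪ Set.range fun i => ((u i : C) : CotangentSpace B)) := by
        rw [Submodule.span_union]
        have hCs : Submodule.span (ResidueField B) (Set.range fun i => ((u i : C) : CotangentSpace B)) = C := by
          rw [show (fun i => ((u i : C) : CotangentSpace B)) = C.subtype ∘ u from rfl, Set.range_comp,
            Submodule.span_image, u.span_eq, Submodule.map_top, Submodule.range_subtype]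
        rw [hCs, hC.sup_eq_top]
        trivial
      induction hz using Submodule.span_induction with
      | mem z hz =>
        rcases hz with ⟨i, rfl⟩ | ⟨i, rfl⟩
        · exact ⟨_, Ideal.mem_sup_left (Ideal.mem_map_of_mem φ (a i).2), rfl⟩
        · exact ⟨c i, Ideal.mem_sup_right (Ideal.subset_span ⟨i, rfl⟩), hc i⟩
      | zero => exact ⟨0, K.zero_mem, map_zero _⟩
      | add z₁ z₂ _ _ h₁ h₂ =>
        obtain ⟨y₁, hy₁, rfl⟩ := h₁
        obtain ⟨y₂, hy₂, rfl⟩ := h₂
        exact ⟨y₁ + y₂, K.add_mem hy₁ hy₂, map_add _ _ _⟩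
      | smul t z _ h =>
        obtain ⟨y, hy, rfl⟩ := h
        obtain ⟨b, rfl⟩ := IsLocalRing.residue_surjective t
        exact ⟨b • y, K.mul_mem_left b hy, by rw [map_smul]; rfl⟩
    obtain ⟨y, hy, hyx⟩ := key ((maximalIdeal B).toCotangent ⟨x, hx⟩)
    rw [Ideal.toCotangent_eq, sq] at hyx
    rw [show x = (y : B) - ((y : B) - x) by ring]
    exact Submodule.sub_mem _ (Submodule.mem_sup_left hy) (Submodule.mem_sup_right hyx)
  by_contra hni
  obtain ⟨a₀, ha₀, ha₀0⟩ : ∃ a₀, φ a₀ = 0 ∧ a₀ ≠ 0 := by
    rw [injective_iff_map_eq_zero] at hni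
    push_neg at hni
    exact hni
  have hker : RingHom.ker φ ≤ maximalIdeal A := fun x hx => by
    by_contra hu
    rw [mem_maximalIdeal, mem_nonunits_iff, not_not] at hu
    exact (hu.map φ).ne_zero hx
  let A' := A ⧸ RingHom.ker φ
  haveI : Nontrivial A' := Ideal.Quotient.nontrivial_iff.2 fun h => (maximalIdeal.isMaximal A).ne_top (eq_top_iff.2 (h ▸ hker))
  letI : Algebra A' B := (RingHom.kerLift φ).toAlgebra
  let p : Ideal A' := (maximalIdeal A).map (Ideal.Quotient.mk _)
  haveI : IsLocalRing A' := IsLocalRing.of_surjective' _ Ideal.Quotient.mk_surjective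
  haveI : IsLocalHom (Ideal.Quotient.mk (RingHom.ker φ)) := IsLocalHom.of_surjective _ Ideal.Quotient.mk_surjective
  have hp : p = maximalIdeal A' := by
    refine le_antisymm (Ideal.map_le_iff_le_comap.2 fun x hx => map_nonunit _ x hx) ?_
    intro x hx
    obtain ⟨y, rfl⟩ := Ideal.Quotient.mk_surjective x
    exact Ideal.mem_map_of_mem _ (fun hy => hx (hy.map _))
  have hpJ : (maximalIdeal A').map (algebraMap A' B) = J := by
    rw [← hp, Ideal.map_map]
    rfl
  haveI : (maximalIdeal B).LiesOver (maximalIdeal A') := ⟨by
    refine Ideal.ext fun x => ?_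
    obtain ⟨y, rfl⟩ := Ideal.Quotient.mk_surjective x
    show _ ↔ φ y ∈ maximalIdeal B
    rw [mem_maximalIdeal, mem_maximalIdeal, mem_nonunits_iff, mem_nonunits_iff,
      isUnit_map_iff (Ideal.Quotient.mk (RingHom.ker φ)), isUnit_map_iff φ]⟩
  have h8 := Ideal.height_le_height_add_of_liesOver (maximalIdeal A') (maximalIdeal B)
  have h9 : ((maximalIdeal B).map (Ideal.Quotient.mk ((maximalIdeal A').map (algebraMap A' B)))).height ≤
      ((Module.finrank (ResidueField B) C : ℕ) : ℕ∞) := by
    let q := Ideal.Quotient.mk ((maximalIdeal A').map (algebraMap A' B))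
    have hle : (maximalIdeal A').map (algebraMap A' B) ≤ maximalIdeal B := hpJ ▸ hJ
    have hspan : (maximalIdeal B).map q = Ideal.span ↑(Finset.univ.image fun i => q (c i : B)) := by
      conv_lhs => rw [← hK]
      rw [Ideal.map_sup, show J.map q = ⊥ from (Ideal.map_eq_bot_iff_le_ker _).2 (by
        rw [Ideal.mk_ker, hpJ]), bot_sup_eq, Ideal.map_span, ← Set.range_comp]
      congr 1
      ext z
      simp
    haveI : ((maximalIdeal B).map q).IsPrime :=
      Ideal.map_isPrime_of_surjective Ideal.Quotient.mk_surjective (by rwa [Ideal.mk_ker])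
    refine le_trans (Ideal.height_le_card_of_mem_minimalPrimes_span_finset
      (s := Finset.univ.image fun i => q (c i : B)) ?_) ?_
    · rw [← hspan]
      exact ⟨⟨inferInstance, le_rfl⟩, fun x hx _ => hx.2⟩
    · exact_mod_cast (Finset.card_image_le.trans (le_of_eq (Finset.card_fin _)))
  have hd : (d : WithBot ℕ∞) = ringKrullDim B := (IsRegularLocalRing.iff_finrank_cotangentSpace B).1 inferInstance
  rw [← IsLocalRing.maximalIdeal_height_eq_ringKrullDim] at hd
  have hd' : (d : ℕ∞) = (maximalIdeal B).height := by exact_mod_cast hd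
  rw [← hd', ← hCrank] at h8
  have h10 : (e : ℕ∞) ≤ (maximalIdeal A').height := by
    have h11 := h8.trans (add_le_add le_rfl h9)
    push_cast at h11
    rw [add_comm] at h11
    exact (ENat.add_le_add_iff_right (ENat.natCast_ne_top _)).1 h11
  have h12 : ringKrullDim A ≤ ringKrullDim A' := by
    refine (ringKrullDim_le_spanFinrank_maximalIdeal A).trans ?_
    rw [spanFinrank_maximalIdeal_eq_finrank_cotangentSpace, ← IsLocalRing.maximalIdeal_height_eq_ringKrullDim]
    exact_mod_cast h10
  have h13 : ringKrullDim A' + 1 ≤ ringKrullDim A :=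
    ringKrullDim_succ_le_of_surjective (Ideal.Quotient.mk _) Ideal.Quotient.mk_surjective
      (mem_nonZeroDivisors_of_ne_zero ha₀0) (Ideal.Quotient.eq_zero_iff_mem.2 ha₀)
  have h14 : ringKrullDim A + 1 ≤ ringKrullDim A := (add_le_add h12 le_rfl).trans h13
  obtain ⟨n, hn⟩ : ∃ n : ℕ, ringKrullDim A = n := by
    haveI : FiniteRingKrullDim A := inferInstance
    obtain ⟨m, hm⟩ := WithBot.ne_bot_iff_exists.1 (ringKrullDim_ne_bot (R := A))
    cases m with
    | top => exact absurd (hm.symm) (ne_of_lt ringKrullDim_lt_top)
    | coe m => exact ⟨m, hm.symm⟩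
  rw [hn] at h14
  norm_cast at h14
  omega

/-- In a Noetherian space, the generic point of an irreducible space is the image of a maximal point
under a dominant map. -/
theorem exists_max_point_map_generic {X Y : Scheme.{u}} [TopologicalSpace.NoetherianSpace X] [IsIntegral Y]
    (u : X ⟶ Y) [IsDominant u] : ∃ ξ : X, (∀ z, z ⤳ ξ → z = ξ) ∧ u ξ = genericPoint Y := by
  have hfin := TopologicalSpace.NoetherianSpace.finite_irreducibleComponents (α := X)
  let g : irreducibleComponents X → X := fun Z => Z.2.1.genericPoint
  have hg : ∀ Z : irreducibleComponents X, closure ({g Z} : Set X) = (Z : Set X) := fun Z =>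
    Z.2.1.genericPoint_closure_eq.trans (isClosed_of_mem_irreducibleComponents _ Z.2).closure_eq
  haveI := hfin.to_subtype
  have hcov : Set.range u ⊆ ⋃ Z, closure {u (g Z)} := by
    rintro _ ⟨x, rfl⟩
    refine Set.mem_iUnion.2 ⟨⟨_, irreducibleComponent_mem_irreducibleComponents x⟩, ?_⟩
    have hx : x ∈ closure ({g ⟨_, irreducibleComponent_mem_irreducibleComponents x⟩} : Set X) := by
      rw [hg]; exact mem_irreducibleComponent
    simpa using map_mem_closure u.continuous hx (fun z (hz : z ∈ _) => Set.mem_image_of_mem u hz)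
  have hall : genericPoint Y ∈ ⋃ Z, closure {u (g Z)} :=
    closure_minimal hcov (isClosed_iUnion_of_finite fun _ => isClosed_closure) (u.denseRange _)
  obtain ⟨Z, hZ⟩ := Set.mem_iUnion.1 hall
  refine ⟨g Z, fun z hz => ?_, ?_⟩
  · have h1 : (Z : Set X) ⊆ closure {z} := by
      rw [← hg]; exact closure_minimal (Set.singleton_subset_iff.2 (specializes_iff_mem_closure.1 hz)) isClosed_closure
    have h2 : closure ({z} : Set X) = Z := le_antisymm (Z.2.2 (isIrreducible_singleton.closure) h1) h1
    refine (hz.antisymm ?_).eq
    rw [specializes_iff_mem_closure, hg, ← h2]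
    exact subset_closure rfl
  · exact ((genericPoint_specializes _).antisymm (specializes_iff_mem_closure.2 hZ)).eq.symm

theorem stalkMap_tower {k : Type u} [Field k] {X Y : Scheme.{u}} [X.Over (Spec (CommRingCat.of k))]
    [Y.Over (Spec (CommRingCat.of k))] (f : X ⟶ Y) (hf : f ≫ (Y ↘ Spec (CommRingCat.of k)) = X ↘ Spec (CommRingCat.of k))
    (x : X) (c : k) : (f.stalkMap x).hom (Curv2.stalkMap k Y (f x) c) = Curv2.stalkMap k X x c := by
  show f.stalkMap x (Y.presheaf.germ ⊤ (f x) trivial _) = X.presheaf.germ ⊤ x trivial _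
  refine (Scheme.Hom.germ_stalkMap_apply f ⊤ x (trivial : f x ∈ (⊤ : Y.Opens)) _).trans ?_
  have : (X ↘ Spec (CommRingCat.of k)).appTop = (Y ↘ Spec (CommRingCat.of k)).appTop ≫ f.appTop := by
    rw [← Scheme.Hom.comp_appTop, hf]
  refine congrArg _ ?_
  show f.appTop _ = (X ↘ Spec (CommRingCat.of k)).appTop _
  rw [this]
  rfl


/-- Let k be an algebraically closed field of characteristic zero, X a reduced scheme of finite type
over k, Y an integral scheme of finite type over k and u : X → Y a k-morphism. Then u is dominant if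
and only if there is a closed point P of X such that X is regular at P and the differential of u at
P is surjective onto the tangent space of Y at u(P); surjectivity of the differential is written
dually as injectivity of the map of cotangent spaces m_{u(P)}/m_{u(P)}² → m_P/m_P² induced by the
local homomorphism of u at P. (The published statement asks only that Y be irreducible, puts no
condition on P and concludes that the scheme-theoretic image is all of Y. Without regularity at P
the backward implication fails: the inclusion of the union of the two coordinate axes into the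
affine plane induces a bijection of tangent spaces at the origin and is not dominant. Without
reducedness of Y the forward implication fails: the reduced line inside the doubled line y² = 0 is
dominant but its differential is nowhere surjective. For Y integral and u quasi-compact, dominance
is the same as the scheme-theoretic image being Y.) -/
theorem result (k : Type u) [Field k]
    [IsAlgClosed k] [CharZero k] (X Y : Scheme.{u})
    [X.Over (Spec (CommRingCat.of k))] [Y.Over (Spec (CommRingCat.of k))]
    [LocallyOfFiniteType (X ↘ Spec (CommRingCat.of k))] [QuasiCompact (X ↘ Spec (CommRingCat.of k))]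
    [LocallyOfFiniteType (Y ↘ Spec (CommRingCat.of k))] [QuasiCompact (Y ↘ Spec (CommRingCat.of k))]
    [AlgebraicGeometry.IsReduced X] [AlgebraicGeometry.IsIntegral Y] (u : X ⟶ Y) [u.IsOver (Spec (CommRingCat.of k))] :
    IsDominant u ↔
      ∃ P : X, IsClosed ({P} : Set X) ∧ IsRegularLocalRing (X.presheaf.stalk P) ∧
        ∀ a ∈ IsLocalRing.maximalIdeal (Y.presheaf.stalk (u P)),
          (u.stalkMap P).hom a ∈ IsLocalRing.maximalIdeal (X.presheaf.stalk P) ^ 2 →
            a ∈ IsLocalRing.maximalIdeal (Y.presheaf.stalk (u P)) ^ 2 := by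
  let qX := X ↘ Spec (CommRingCat.of k)
  let qY := Y ↘ Spec (CommRingCat.of k)
  have hu : u ≫ qY = qX := comp_over u _
  haveI : IsLocallyNoetherian Y := LocallyOfFiniteType.isLocallyNoetherian qY
  haveI : IsLocallyNoetherian X := LocallyOfFiniteType.isLocallyNoetherian qX
  haveI : LocallyOfFiniteType (u ≫ qY) := by rw [hu]; infer_instance
  haveI : LocallyOfFiniteType u := locallyOfFiniteType_of_comp u qY
  haveI : LocallyOfFinitePresentation u := LocallyOfFinitePresentation.iff_locallyOfFiniteType.2 inferInstance
  haveI : LocallyOfFinitePresentation qX := LocallyOfFinitePresentation.iff_locallyOfFiniteType.2 inferInstance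
  haveI : LocallyOfFinitePresentation qY := LocallyOfFinitePresentation.iff_locallyOfFiniteType.2 inferInstance
  haveI : JacobsonSpace X := LocallyOfFiniteType.jacobsonSpace qX
  haveI : PerfectField k := PerfectField.ofCharZero
  constructor
  · intro hdom
    haveI := hdom
    haveI : CompactSpace X := QuasiCompact.compactSpace_of_compactSpace qX
    haveI : IsNoetherian X := {}
    obtain ⟨ξ, hmax, hξ⟩ := exists_max_point_map_generic u
    haveI := GeomRedFieldLib.perfectField_functionField_of_charZero qY
    letI : Field (X.presheaf.stalk ξ) := (OrbitLib.isField_stalk_of_max ξ hmax).toField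
    have hreg : IsRegularLocalRing (X.presheaf.stalk ξ) :=
      IsRegularLocalRing.of_ringEquiv (RingEquiv.refl (X.presheaf.stalk ξ))
    obtain ⟨hX1, -⟩ := Groth.Agent.S1561.result k X
    obtain ⟨-, hY2⟩ := Groth.Agent.S1561.result k Y
    have h1 : ξ ∈ u.smoothLocus := GeomRedFieldLib.mem_smoothLocus_of_regular u ξ hξ hreg
    have h2 : ξ ∈ qX.smoothLocus := (hX1 ξ).2 hreg
    have h3 : u ξ ∈ qY.smoothLocus := by
      rw [hξ]
      exact (genericPoint_spec Y).mem_open_set_iff qY.smoothLocus.isOpen |>.2 (by
        rw [Set.univ_inter]; exact hY2.nonempty)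
    let W : X.Opens := u.smoothLocus ⊓ qX.smoothLocus ⊓ u ⁻¹ᵁ qY.smoothLocus
    obtain ⟨P, hPW, hP⟩ := nonempty_inter_closedPoints (Z := (W : Set X)) ⟨ξ, ⟨h1, h2⟩, h3⟩ W.isOpen.isLocallyClosed
    refine ⟨P, hP, (hX1 P).1 hPW.1.2, ?_⟩
    intro a ha ha2
    letI := Curv2.stalkAlgebra k Y (u P)
    letI := Curv2.stalkAlgebra k X P
    letI : Algebra (Y.presheaf.stalk (u P)) (X.presheaf.stalk P) := (u.stalkMap P).hom.toAlgebra
    haveI : IsScalarTower k (Y.presheaf.stalk (u P)) (X.presheaf.stalk P) :=
      IsScalarTower.of_algebraMap_eq fun c => (stalkMap_tower u hu P c).symm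
    haveI : IsLocalHom (algebraMap (Y.presheaf.stalk (u P)) (X.presheaf.stalk P)) :=
      inferInstanceAs (IsLocalHom (u.stalkMap P).hom)
    haveI : Algebra.EssFiniteType k (X.presheaf.stalk P) := NodalLib.essFiniteType_stalk k P
    haveI : Algebra.EssFiniteType k (Y.presheaf.stalk (u P)) := NodalLib.essFiniteType_stalk k (u P)
    haveI : Algebra.FormallySmooth k (X.presheaf.stalk P) := (NodalLib.mem_smoothLocus_iff_stalk k P).1 hPW.1.2
    haveI : Algebra.FormallySmooth k (Y.presheaf.stalk (u P)) := (NodalLib.mem_smoothLocus_iff_stalk k (u P)).1 hPW.2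
    haveI : Algebra.FormallySmooth (Y.presheaf.stalk (u P)) (X.presheaf.stalk P) :=
      RingHom.formallySmooth_algebraMap.1 hPW.1.1
    have hB := SmoothPtLib.bijective_residue (k := k) hP
    have hle : IsLocalRing.maximalIdeal (Y.presheaf.stalk (u P)) ≤ (IsLocalRing.maximalIdeal (X.presheaf.stalk P)).comap
        (algebraMap (Y.presheaf.stalk (u P)) (X.presheaf.stalk P)).toIntAlgHom :=
      fun b hb => map_nonunit (algebraMap (Y.presheaf.stalk (u P)) (X.presheaf.stalk P)) b hb
    have hinj := (SmoothPtLib.injective_iff (k := k) hB hle).2 (SmoothPtLib.injective_of_formallySmooth hB)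
    have h4 := hinj (a₁ := (IsLocalRing.maximalIdeal _).toCotangent ⟨a, ha⟩) (a₂ := 0) (by
      rw [map_zero, Ideal.mapCotangent_toCotangent, Ideal.toCotangent_eq_zero]
      exact ha2)
    rw [Ideal.toCotangent_eq_zero] at h4
    exact h4
  · rintro ⟨P, hP, hreg, hcot⟩
    have hres := SmoothPtLib.bijective_residue (k := k) hP
    have hinj := injective_of_cotangent (u.stalkMap P).hom (fun b => by
      letI := Curv2.stalkAlgebra k Y (u P)
      letI := Curv2.stalkAlgebra k X P
      obtain ⟨c, hc⟩ := hres.2 (IsLocalRing.residue _ b)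
      refine ⟨algebraMap k _ c, ?_⟩
      rw [← IsLocalRing.residue_eq_zero_iff, map_sub, show (u.stalkMap P).hom (algebraMap k _ c) = algebraMap k _ c from stalkMap_tower u hu P c, ← hc]
      exact sub_self _) hcot
    have hd : genericPoint Y ∈ closure (Set.range u) := by
      obtain ⟨t, ht⟩ : genericPoint Y ∈ Set.range (Y.fromSpecStalk (u P)) := by
        rw [Scheme.range_fromSpecStalk]; exact genericPoint_specializes _
      have hdm : DenseRange (Spec.map (u.stalkMap P)) :=
        (PrimeSpectrum.denseRange_comap_iff_ker_le_nilRadical (u.stalkMap P).hom).2 (by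
          rw [(RingHom.injective_iff_ker_eq_bot _).1 hinj]; exact bot_le)
      rw [← ht]
      refine map_mem_closure (Y.fromSpecStalk (u P)).continuous (hdm t) ?_
      rintro _ ⟨q, rfl⟩
      exact ⟨X.fromSpecStalk P q, by
        rw [← Scheme.Hom.comp_apply, ← Scheme.SpecMap_stalkMap_fromSpecStalk]
        rfl⟩
    refine ⟨fun y => ?_⟩
    refine (genericPoint_specializes y).mem_closed isClosed_closure hd

end Groth.Agent.S17413
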