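import Groth.Statements.S17418
import Groth.Agent.ModStackLib.Main

set_option autoImplicit false
set_option backward.isDefEq.respectTransparency false
set_option backward.isDefEq.respectTransparency.types false
set_option maxRecDepth 8000
set_option maxHeartbeats 1000000
open CategoryTheory CategoryTheory.Limits AlgebraicGeometry
universe u
open ModSt

namespace Groth.Agent.S17418

/-- Let `f : X ⟶ S` be a morphism of schemes of finite presentation. The category over `(Sch/S)` of
finitely presented modules flat over the base on the base changes of `X` is a stack in groupoids for
the fppf topology. (The published statement concerns a morphism of finite presentation of algebraic
spaces `X → B` over a base scheme and modules whose support is moreover proper over the base; this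
row is the case of schemes with `S = B`, for the category without the support condition.) -/
theorem result {X S : Scheme.{u}} (f : X ⟶ S)
    [QuasiCompact f] [QuasiSeparated f] [LocallyOfFinitePresentation f] :
    Stk.IsStack (QuotSh.J Scheme.fppfPrecoverage S) (ModSt.Coh f) := by
  exact ModStackLib.isStack_coh

end Groth.Agent.S17418
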