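import Groth.Statements.S17425
import Groth.Agent.RelLocDualLib.Inj
import Groth.Agent.CurvLib.Line

set_option autoImplicit false
universe u
open CategoryTheory CategoryTheory.Limits AlgebraicGeometry
attribute [local instance] HasDerivedCategory.standard
open Dual

namespace Groth.Agent.S17425

/-- Let (R, m) be a Noetherian local ring with a dualizing complex ω_R (given in D(R), and as the object
W of D_QCoh(Spec R)), and let f : X → Spec R be proper (f is the structure morphism of X over Spec
R; Rf_*, its preservation of D_QCoh and its right adjoint f^! are carried as hypotheses). Assume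
every local ring of X is Cohen–Macaulay, X has dimension n, and the relative dualizing complex
f^!ω_R has zero cohomology sheaves outside a single degree d (as happens when X is moreover
equidimensional and connected); write ω_X for its degree-d cohomology sheaf, and let Z ⊆ X be the
closed fibre (the complement of the preimage of the punctured spectrum). Let a : L₁ → L₂ be a
monomorphism of invertible O_X-modules (equivalently L₂ = L₁(D) for an effective Cartier divisor D,
a the canonical inclusion) and let a^∨ : L₂^∨ → L₁^∨ be the dual map on L_k^∨ = Hom(L_k, O_X) (the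
internal Homs are carried as right adjoints of L_k ⊗ −, and a^∨ is the adjunct of (a ⊗ id) followed
by evaluation). Then for all natural numbers i, j with i + j = n: the map H^i(X, ω_X ⊗ L₁) → H^i(X,
ω_X ⊗ L₂) induced by a (that is, R^i f_*(ω_X ⊗ L₁) → R^i f_*(ω_X ⊗ L₁(D))) is injective if and only
if the map of local cohomology groups H^j_Z(X, L₂^∨) → H^j_Z(X, L₁^∨) induced by a^∨ is surjective.
(The published statement is over an arbitrary Noetherian base Y at a point y, after base change to
Spec O_{Y,y}, for the inclusion O_X → O_X(D) of an effective Cartier divisor; this is that local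
form.) -/
theorem result (R : Type u) [CommRing R] [IsNoetherianRing R] [IsLocalRing R]
    (ωR : Dual.D R) (hω : Dual.IsDualizing R ωR)
    [PreservesFiniteLimits (tilde.functor (CommRingCat.of R))]
    (W : DCoh.DQCoh (Spec (CommRingCat.of R))) (hW : Nonempty (W.obj ≅ (DCoh.tildeD (CommRingCat.of R)).obj ωR))
    (X : Scheme.{u}) [X.Over (Spec (CommRingCat.of R))] [IsProper (X ↘ Spec (CommRingCat.of R))]
    [DCoh.HasRpush (X ↘ Spec (CommRingCat.of R))] (h : DCoh.RpushPreservesQCoh (X ↘ Spec (CommRingCat.of R))) [DCoh.HasShriek (X ↘ Spec (CommRingCat.of R)) h]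
    (hCM : ∀ x : X, LocCoh.IsCohenMacaulayLocalRing (X.presheaf.stalk x))
    (d : ℤ) (hconc : ∀ j : ℤ, j ≠ d → IsZero (DCoh.HD (DCoh.dualizingCx (X ↘ Spec (CommRingCat.of R)) h W) j))
    (n : ℕ) (hn : topologicalKrullDim X = n)
    (L₁ L₂ : X.Modules) (hL₁ : PicF.IsInvertible L₁) (hL₂ : PicF.IsInvertible L₂) [DCoh.HasSheafHom L₁] [DCoh.HasSheafHom L₂]
    (a : L₁ ⟶ L₂) [Mono a]
    (i j : ℕ) (hij : i + j = n) :
    Function.Injective (Sheaf.H.map ((SheafOfModules.toSheaf X.ringCatSheaf).map ((DCoh.tensorBi.obj (DCoh.HD (DCoh.dualizingCx (X ↘ Spec (CommRingCat.of R)) h W) d)).map a)) i) ↔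
      Function.Surjective (LocCohZ.map (X := X.carrier) ((SheafOfModules.toSheaf X.ringCatSheaf).map ((DCoh.sheafHomAdj L₁).homEquiv ((DCoh.sheafHom L₂).obj (Coh.structureModule X)) (Coh.structureModule X) ((DCoh.tensorBi.map a).app ((DCoh.sheafHom L₂).obj (Coh.structureModule X)) ≫ (DCoh.sheafHomAdj L₂).counit.app (Coh.structureModule X)))) j
        (le_top : ((X ↘ Spec (CommRingCat.of R)) ⁻¹ᵁ (LocCoh.puncturedOpen R (IsLocalRing.maximalIdeal R))) ≤ ⊤)) := by
  obtain ⟨eW⟩ := hW
  haveI : HasExt.{u} X.Modules := hasExt_of_enoughInjectives.{u} _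
  have hD : ∀ (L : X.Modules) [DCoh.HasSheafHom L], PicF.IsInvertible L →
      Coh.IsCoh ((DCoh.sheafHom L).obj (Coh.structureModule X)) := fun L _ hL => by
    haveI := ShriekLib.isNoetherian_of_proper (X ↘ Spec (CommRingCat.of R))
    exact CurvLib.isCoh_of_isInvertible (CohCmpLib.isInvertible_of_inverse' hL
      (@asIso _ _ _ _ ((DCoh.sheafHomAdj L).counit.app (Coh.structureModule X))
      (RelLocDualLib.isIso_counit_invertible hL (Coh.structureModule X))))
  exact (RelLocDualLib.injective_H_iff_precomp a hL₁ hL₂
      (DCoh.HD (DCoh.dualizingCx (X ↘ Spec (CommRingCat.of R)) h W) d) i).trans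
    (RelLocDualLib.surjective_HZM_iff_injective_ext (X ↘ Spec (CommRingCat.of R)) h (DCoh.shriek _ h)
      (DCoh.shriekAdj _ h) W eW hω (hD L₂ hL₂) (hD L₁ hL₁) (RelLocDualLib.dualMap a) d hconc n hn i j hij).symm

end Groth.Agent.S17425
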