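import Groth.Statements.S17428
import Groth.Agent.CplTensorLib.Basic
import Mathlib

set_option autoImplicit false
universe u
open FrobAlg

namespace Groth.Agent.S17428

open scoped TensorProduct in
theorem core (p : ℕ) [Fact p.Prime] (A : Type u) [CommRing A] [IsNoetherianRing A] [CharP A p]
    (hF : (frobenius A p).Finite) (I : Ideal A) [CharP (AdicCompletion I A) p] :
    Function.Bijective (FrobAlg.relFrob p A (AdicCompletion I A)) := by
  haveI : Module.Finite A (FrobAlg.Twist p A) := hF
  let J : Ideal (FrobAlg.Twist p A) := I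
  have hI : I.FG := IsNoetherian.noetherian I
  haveI : IsNoetherianRing (FrobAlg.Twist p A) := ‹IsNoetherianRing A›
  have hp1 : 1 ≤ p := (Fact.out : p.Prime).one_le
  have hle : I.map (algebraMap A (FrobAlg.Twist p A)) ≤ J := by
    rw [Ideal.map_le_iff_le_comap]
    intro a ha
    exact Ideal.pow_mem_of_mem I ha p hp1
  obtain ⟨k, hk⟩ : ∃ k, J ^ k ≤ I.map (algebraMap A (FrobAlg.Twist p A)) := by
    obtain ⟨k, hk⟩ := Ideal.exists_radical_pow_le_of_fg (I.map (algebraMap A (FrobAlg.Twist p A)))
      (IsNoetherian.noetherian _)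
    have hJ : J ≤ (I.map (algebraMap A (FrobAlg.Twist p A))).radical := fun a ha =>
      ⟨p, Ideal.mem_map_of_mem (algebraMap A (FrobAlg.Twist p A)) ha⟩
    exact ⟨k, le_trans (Ideal.pow_right_mono hJ k) hk⟩
  obtain ⟨E⟩ := Groth.Agent.CplTensorLib.exists_algEquiv_tensor_completion I J hle k hk
  let c := Algebra.TensorProduct.comm A (AdicCompletion I A) (FrobAlg.Twist p A)
  let ρ : AdicCompletion I A ⊗[A] FrobAlg.Twist p A →+* AdicCompletion I A :=
    (E.toAlgHom.toRingHom.comp c.toAlgHom.toRingHom : _ →+* AdicCompletion J (FrobAlg.Twist p A))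
  have hρ : Function.Bijective ρ := E.bijective.comp c.bijective
  suffices h : FrobAlg.relFrob p A (AdicCompletion I A) = ρ by rw [h]; exact hρ
  have hT : ∀ a : FrobAlg.Twist p A, ρ (1 ⊗ₜ a) = algebraMap A (AdicCompletion I A)
      ((FrobAlg.toTwist p A).symm a) := by
    intro a
    show E (c (1 ⊗ₜ a)) = _
    rw [Algebra.TensorProduct.comm_tmul]
    exact E.commutes a
  have hT' : ∀ a : FrobAlg.Twist p A, FrobAlg.relFrob p A (AdicCompletion I A) (1 ⊗ₜ a) =
      algebraMap A (AdicCompletion I A) ((FrobAlg.toTwist p A).symm a) := by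
    intro a
    simp only [FrobAlg.relFrob, RingHom.comp_apply, AlgHom.toRingHom_eq_coe, RingHom.coe_coe,
      Algebra.TensorProduct.lift_tmul, map_one, one_mul]
    rfl
  have hA : ∀ a : A, FrobAlg.relFrob p A (AdicCompletion I A) (algebraMap A _ a ⊗ₜ 1) =
      algebraMap A (AdicCompletion I A) (a ^ p) := by
    intro a
    simp only [FrobAlg.relFrob, RingHom.comp_apply, AlgHom.toRingHom_eq_coe, RingHom.coe_coe,
      Algebra.TensorProduct.lift_tmul, map_one, mul_one, AlgHom.commutes]
    rw [map_pow]
    rfl
  let iL : AdicCompletion I A →+* AdicCompletion I A ⊗[A] FrobAlg.Twist p A :=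
    Algebra.TensorProduct.includeLeftRingHom
  have hL : (FrobAlg.relFrob p A (AdicCompletion I A)).comp iL = ρ.comp iL := by
    refine Groth.Agent.CplTensorLib.ringHom_ext hI hI _ _ (fun i hi => ?_) (fun a => ?_)
    · show FrobAlg.relFrob p A (AdicCompletion I A) (algebraMap A _ i ⊗ₜ 1) ∈ _
      rw [hA]
      exact Ideal.mem_map_of_mem _ (Ideal.pow_mem_of_mem I hi p hp1)
    · show FrobAlg.relFrob p A (AdicCompletion I A) (algebraMap A _ a ⊗ₜ 1) =
        ρ (algebraMap A _ a ⊗ₜ 1)
      rw [hA, Algebra.algebraMap_eq_smul_one a, TensorProduct.smul_tmul,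
        ← Algebra.algebraMap_eq_smul_one, hT]
      rfl
  refine RingHom.ext fun z => ?_
  induction z using TensorProduct.induction_on with
  | zero => rw [map_zero, map_zero]
  | add x y hx hy => rw [map_add, map_add, hx, hy]
  | tmul b a =>
    rw [← mul_one b, ← one_mul a, ← Algebra.TensorProduct.tmul_mul_tmul, map_mul, map_mul, hT, hT']
    exact congrArg (· * _) (RingHom.congr_fun hL b)

/-- Let p be a prime, A a regular local ring of characteristic p whose absolute Frobenius a ↦ a^p is a
finite ring homomorphism, I an ideal of A and Â the I-adic completion of A. Then Spec Â → Spec A is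
relatively perfect: the relative Frobenius Â ⊗_{A,Frob} A → Â, b ⊗ a ↦ b^p a, is bijective. (Â is
also flat over A since A is Noetherian, so the morphism is flat and relatively perfect. The instance
hypothesis that Â has characteristic p holds as soon as I ≠ A.) -/
theorem result (p : ℕ) [Fact p.Prime]
    (A : Type u) [CommRing A] [IsRegularLocalRing A] [CharP A p] (hF : (frobenius A p).Finite)
    (I : Ideal A) [CharP (AdicCompletion I A) p] :
    Function.Bijective (FrobAlg.relFrob p A (AdicCompletion I A)) := by
  exact core p A hF I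

end Groth.Agent.S17428
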