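import Groth.Statements.S5162
import Groth.Agent.LocCohLib.ExtVanish

set_option autoImplicit false
universe u
open CategoryTheory
open LocCoh

namespace Groth.Agent.S5162

/-- The affine case. Let A be a Noetherian ring, J an ideal, G any A-module and n ≥ 0. Then: H^i_J(G) =
0 for all i < n iff Ext^i_A(F, G) = 0 for all i < n and all finite A-modules F with Supp F ⊆ V(J),
iff Ext^i_A(F, G) = 0 for all i < n for one finite F with Supp F = V(J). (G is not assumed finitely
generated.) -/
theorem result (A : Type u) [CommRing A] [IsNoetherianRing A] (J : Ideal A) (G : Type u) [AddCommGroup G] [Module A G] (n : ℕ) : ((∀ i : ℕ, i < n → Subsingleton (LocCoh.H J i G)) ↔ ∀ (F : Type u) [AddCommGroup F] [Module A F], Module.Finite A F → Module.support A F ⊆ PrimeSpectrum.zeroLocus (J : Set A) → ∀ i : ℕ, i < n → Subsingleton (Abelian.Ext (ModuleCat.of A F) (ModuleCat.of A G) i)) ∧ ((∀ i : ℕ, i < n → Subsingleton (LocCoh.H J i G)) ↔ ∃ (F : Type u) (_ : AddCommGroup F) (_ : Module A F), Module.Finite A F ∧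 Module.support A F = PrimeSpectrum.zeroLocus (J : Set A) ∧ ∀ i : ℕ, i < n → Subsingleton (Abelian.Ext (ModuleCat.of A F) (ModuleCat.of A G) i)) := by
  have h1 : (∀ i : ℕ, i < n → Subsingleton (LocCoh.H J i G)) → ∀ (F : Type u) [AddCommGroup F] [Module A F],
      Module.Finite A F → Module.support A F ⊆ PrimeSpectrum.zeroLocus (J : Set A) → ∀ i : ℕ, i < n →
      Subsingleton (Abelian.Ext (ModuleCat.of A F) (ModuleCat.of A G) i) := fun h F _ _ _ hF i hi =>
    LocCohLib.subsingleton_ext_of_subsingleton_H J F (LocCohLib.isPowerTorsion_of_support_le J F hF) G i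
      fun j hj => h j (lt_of_le_of_lt hj hi)
  have hsupp : Module.support A (A ⧸ J) = PrimeSpectrum.zeroLocus (J : Set A) := by
    rw [Module.support_eq_zeroLocus, Ideal.annihilator_quotient]
  have h2 : ∀ (F : Type u) [AddCommGroup F] [Module A F] [Module.Finite A F],
      Module.support A F = PrimeSpectrum.zeroLocus (J : Set A) → (∀ i : ℕ, i < n →
      Subsingleton (Abelian.Ext (ModuleCat.of A F) (ModuleCat.of A G) i)) →
      ∀ i : ℕ, i < n → Subsingleton (LocCoh.H J i G) := fun F _ _ _ hs h =>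
    LocCohLib.subsingleton_H_of_subsingleton_ext J F hs n G h
  refine ⟨⟨h1, fun h => h2 (A ⧸ J) hsupp (h (A ⧸ J) inferInstance hsupp.le)⟩, ⟨fun h => ?_, ?_⟩⟩
  · exact ⟨A ⧸ J, inferInstance, inferInstance, inferInstance, hsupp, h1 h (A ⧸ J) inferInstance hsupp.le⟩
  · rintro ⟨F, _, _, _, hs, h⟩
    exact h2 F hs h

end Groth.Agent.S5162
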