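import Groth.Statements.S17429
import Mathlib
import Groth.Agent.KaehlerFlatLib.Basic
import Groth.Agent.KaehlerFlatLib.Exterior
import Groth.Agent.LocCohLib.Facts
import Groth.Agent.TransLib.Lift
import Groth.Agent.CommAlgDim.GlobalDim
import Groth.Agent.S5150
import Groth.Agent.S5162
-- import your own Groth.Agent.* helpers here

set_option autoImplicit false
universe u
open LocCoh

namespace Groth.Agent.S17429

/-- Let p be a prime, A a regular local ring of characteristic p, t_1, …, t_r an A-regular sequence such
that A/(t_1, …, t_r) is again a regular local ring (a regular closed immersion Z ↪ X = Spec A of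
codimension r with Z regular and non-empty), and I = (t_1, …, t_r). Then for every i and every j ≠ r
the local cohomology module H^j_I(Ω^i_A) vanishes, where Ω^i_A is the i-th exterior power over A of
the module of Kähler differentials of A over ℤ (the same module as over the prime field). (Module
form, for X local, of the vanishing of the local cohomology sheaves H^j_Z(X, Ω^i_X), j ≠ r; the same
vanishing holds more generally for the de Rham–Witt sheaves W_mΩ^i_X and their quotients by
dV^{m-1}Ω^{i-1}_X on the étale site of a regular F_p-scheme, a form not stated here.) -/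
theorem result (p : ℕ) [Fact p.Prime]
    (A : Type u) [CommRing A] [IsRegularLocalRing A] [CharP A p]
    (ts : List A) (hreg : RingTheory.Sequence.IsRegular A ts)
    (hZ : IsRegularLocalRing (A ⧸ Ideal.ofList ts))
    (i j : ℕ) (hj : j ≠ ts.length) :
    Subsingleton (LocCoh.H (Ideal.ofList ts) j
      ↥(ExteriorAlgebra.exteriorPower A i (KaehlerDifferential ℤ A))) := by
  haveI : IsNoetherianRing A := inferInstance
  haveI : IsRegularRing A := CommAlgDim.isRegularRing_of_isRegularLocalRing A
  let K : Type u := ULift.{u} (ZMod p)
  letI : Algebra (ZMod p) A := ZMod.algebra A p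
  letI : Field K := ULift.field
  letI : Algebra K A := ((algebraMap (ZMod p) A).comp (ULift.ringEquiv.toRingHom : K →+* ZMod p)).toAlgebra
  haveI : Finite K := inferInstance
  haveI : PerfectField K := inferInstance
  haveI : Module.Flat A (KaehlerDifferential ℤ A) := KaehlerFlatLib.flat_kaehler_int K fun x => by
    obtain ⟨n, hn⟩ := ZMod.intCast_surjective x.down
    refine ⟨n, ULift.down_injective ?_⟩
    rw [eq_intCast, ← hn]
    exact ULift.down_intCast n
  haveI := KaehlerFlatLib.flat_exteriorPower (A := A) (M := KaehlerDifferential ℤ A) i
  rcases lt_or_gt_of_ne hj with hlt | hlt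
  · refine ((Groth.Agent.S5162.result A (Ideal.ofList ts) _ ts.length).2.2 ?_) j hlt
    refine ⟨A ⧸ Ideal.ofList ts, inferInstance, inferInstance, inferInstance, ?_, fun k hk => ?_⟩
    · rw [Module.support_eq_zeroLocus, Ideal.annihilator_quotient]
    · refine Groth.Agent.S5150.result A (Ideal.ofList ts) _ _ ts
        (TransLib.isWeaklyRegular_of_flat (M := ↥(ExteriorAlgebra.exteriorPower A i (KaehlerDifferential ℤ A))) ts hreg.toIsWeaklyRegular) (fun r hr => Ideal.subset_span hr) 1 ?_ k hk
      rw [pow_one, eq_bot_iff, Submodule.smul_le]
      intro r hr n _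
      obtain ⟨n, rfl⟩ := Ideal.Quotient.mk_surjective n
      refine (Submodule.mem_bot _).2 ?_
      rw [← Ideal.Quotient.mk_eq_mk, ← Submodule.Quotient.mk_smul, Submodule.Quotient.mk_eq_zero]
      exact Ideal.mul_mem_right n _ hr
  · exact LocCohLib.subsingleton_H_of_length_lt (I := Ideal.ofList ts) ts rfl j hlt _

end Groth.Agent.S17429
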