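import Groth.Statements.S1743
import Groth.Agent.LocCohLib.Finiteness

set_option autoImplicit false
universe u
open LocCoh

namespace Groth.Agent.S1743

open LocCohLib

variable {R : Type u} [CommRing R] [IsNoetherianRing R] {I : Ideal R}

theorem free_annihilated (J : Ideal R) (i n : ℕ) (hA : ∀ a ∈ J ^ n, ∀ x : LocCoh.H I i R, a • x = 0) :
    ∀ m : ℕ, ∀ a ∈ J ^ (n * m), ∀ x : LocCoh.H I i (Fin m → R), a • x = 0
  | 0 => fun a _ x => by
    haveI := subsingleton_H_of_subsingleton (I := I) (Fin 0 → R) i
    exact Subsingleton.elim _ _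
  | m + 1 => by
    have ih := free_annihilated J i n hA m
    let e : LocCoh.H I i (R × (Fin m → R)) ≃ₗ[R] LocCoh.H I i (Fin (m + 1) → R) :=
      ((localCohomology I i).mapIso (Fin.consLinearEquiv R fun _ : Fin (m + 1) => R).toModuleIso).toLinearEquiv
    intro a ha x
    obtain ⟨y, rfl⟩ := e.surjective x
    rw [← map_smul, LinearEquiv.map_eq_zero_iff]
    rw [Nat.mul_succ, pow_add, mul_comm (J ^ (n * m))] at ha
    refine Submodule.mul_induction_on ha (fun c hc d hd => ?_) fun c d hc hd => by rw [add_smul, hc, hd, add_zero]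
    rw [mul_smul]
    have hex := exact_Hf (I := I) (f := LinearMap.inl R R (Fin m → R)) (g := LinearMap.snd R R (Fin m → R))
        LinearMap.inl_injective .inl_snd LinearMap.snd_surjective i
    obtain ⟨z, hz⟩ := (hex (d • y)).1 (by rw [map_smul]; exact ih d hd _)
    rw [← hz, ← map_smul, hA c hc, map_zero]

theorem main (J : Ideal R) (hJI : J ≤ I) (i n : ℕ) (hA : ∀ a ∈ J ^ n, ∀ x : LocCoh.H I i R, a • x = 0)
    (M : Type u) [AddCommGroup M] [Module R M] [Module.Finite R M]
    (hM : ∀ f ∈ I, Module.Projective (Localization.Away f) (LocalizedModule (Submonoid.powers f) M)) :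
    ∃ m : ℕ, ∀ a ∈ J ^ m, ∀ x : LocCoh.H I i M, a • x = 0 := by
  obtain ⟨m, π, hπ⟩ := Module.Finite.exists_fin' R M
  haveI : Module.FinitePresentation R M := Module.finitePresentation_of_finite R M
  suffices h : J ≤ (Module.annihilator R (LocCoh.H I i M)).radical by
    obtain ⟨k, hk⟩ := Ideal.exists_pow_le_of_le_radical_of_fg h (IsNoetherian.noetherian J)
    exact ⟨k, fun a ha x => Module.mem_annihilator.1 (hk ha) x⟩
  intro f hfJ
  have hf := hJI hfJ
  let S := Submonoid.powers f
  haveI := hM f hf
  let πS := LocalizedModule.map S π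
  haveI : Module.FinitePresentation R M := Module.finitePresentation_of_finite R M
  obtain ⟨σ, hσ⟩ := Module.projective_lifting_property πS LinearMap.id (LocalizedModule.map_surjective S π hπ)
  obtain ⟨h, ⟨s, a, rfl⟩, hh⟩ := Module.FinitePresentation.exists_lift_of_isLocalizedModule S
    (LocalizedModule.mkLinearMap S (Fin m → R)) ((σ.restrictScalars R) ∘ₗ LocalizedModule.mkLinearMap S M)
  have hloc : ∀ y : M, ∃ c : ℕ, f ^ c • (π (h y) - f ^ a • y) = 0 := fun y => by
    have h1 : LocalizedModule.mkLinearMap S M (π (h y) - f ^ a • y) = 0 := by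
      have h2 := LinearMap.congr_fun hh y
      simp only [LinearMap.comp_apply, LinearMap.smul_apply, LinearMap.coe_restrictScalars] at h2
      rw [map_sub, sub_eq_zero, map_smul]
      have h3 : πS (LocalizedModule.mkLinearMap S (Fin m → R) (h y)) = LocalizedModule.mkLinearMap S M (π (h y)) := by
        simp [πS, LocalizedModule.map_mk, LocalizedModule.mkLinearMap_apply]
      rw [← h3, h2, Submonoid.smul_def, LinearMap.map_smul_of_tower]
      exact congrArg (f ^ a • ·) (LinearMap.congr_fun hσ _)
    obtain ⟨⟨_, c, rfl⟩, hc⟩ := (IsLocalizedModule.eq_zero_iff S (LocalizedModule.mkLinearMap S M)).1 h1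
    exact ⟨c, hc⟩
  choose c hc using hloc
  obtain ⟨gs, hgs⟩ := Module.Finite.fg_top (R := R) (M := M)
  let b := gs.sup c
  have hid : π ∘ₗ (f ^ b • h) = f ^ (b + a) • LinearMap.id := by
    refine LinearMap.ext_on hgs fun y hy => ?_
    obtain ⟨d, hd⟩ := Nat.exists_eq_add_of_le (Finset.le_sup (f := c) hy)
    have h1 : f ^ b • (π (h y) - f ^ a • y) = 0 := by
      show f ^ gs.sup c • _ = _
      rw [hd, add_comm, pow_add, mul_smul, hc y, smul_zero]
    rw [smul_sub, sub_eq_zero, smul_smul, ← pow_add] at h1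
    simpa using h1
  refine ⟨n * m + (b + a), Module.mem_annihilator.2 fun y => ?_⟩
  rw [pow_add, mul_smul, ← Hf_smul_id (f ^ (b + a)) i y, ← hid, Hf_comp, ← map_smul,
    free_annihilated J i n hA m _ (Ideal.pow_mem_pow hfJ _), map_zero]

/-- Let A be a Noetherian ring, J ⊆ I ideals and i ≥ 0. If H^i_I(A) is annihilated by J^n for some n,
then for every finite A-module M such that M_f is a projective A_f-module for every f in I, the
module H^i_I(M) is annihilated by J^m for some m. (The source allows any ring with finitely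
generated ideals and finitely presented M.) -/
theorem result (A : Type u) [CommRing A] [IsNoetherianRing A] (J I : Ideal A) (hJI : J ≤ I) (i n : ℕ) (hA : ∀ a ∈ J ^ n, ∀ x : LocCoh.H I i A, a • x = 0) (M : Type u) [AddCommGroup M] [Module A M] [Module.Finite A M] (hM : ∀ f ∈ I, Module.Projective (Localization.Away f) (LocalizedModule (Submonoid.powers f) M)) : ∃ m : ℕ, ∀ a ∈ J ^ m, ∀ x : LocCoh.H I i M, a • x = 0 := by
  exact main J hJI i n hA M hM

end Groth.Agent.S1743
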