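import Groth.Statements.S17430
import Groth.Agent.AdjVarLib.Config
-- import your own Groth.Agent.* helpers here

set_option autoImplicit false
universe u v w
open LieAlgebra LieModule
open AdjVar

namespace Groth.Agent.S17430

/-- Let L be a finite-dimensional simple Lie algebra over an algebraically closed field K of
characteristic zero, H a Cartan subalgebra and b a basis of (L, H) in Mathlib's sense (Chevalley
generators h_i, e_i, f_i indexed by a finite type, with simple roots α_i = b.baseSupp i and upper
Borel subalgebra 𝔟 = H + the Lie subalgebra generated by the e_i). Let ρ be the highest root: a root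
of H on L whose root space is nonzero and such that no ρ + α_i is a root (the root space of ρ + α_i
is zero for every i). Assume that exactly one simple root α_j is not orthogonal to ρ (ρ(h_i) ≠ 0 if
and only if i = j) and that ρ(h_j) = 1; for simple L these two conditions say precisely that L is
not of type A_r or C_r (r ≥ 1), the case excluded in the source. Then a two-dimensional linear
subspace W of L is stable under 𝔟 (bracketing with any element of 𝔟 maps W into W) if and only if W
is the sum of the root spaces of ρ and of ρ − α_j. Equivalently, the projective line spanned by the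
root vectors of ρ and ρ − α_j is the only line of P(L) stable under the Borel subgroup (over the
complex numbers, stability under the connected group B is the same as stability under its Lie
algebra 𝔟, which is the form stated here). -/
theorem result {ι : Type u} {K : Type v} {L : Type w} [Fintype ι] [Field K] [CharZero K]
    [IsAlgClosed K] [LieRing L] [LieAlgebra K L] [FiniteDimensional K L] [LieAlgebra.IsSimple K L]
    (H : LieSubalgebra K L) [H.IsCartanSubalgebra] (b : LieAlgebra.Basis ι H)
    (ρ : Module.Dual K H) (hρ : rootSpace H ρ ≠ ⊥) (htop : ∀ i, rootSpace H (ρ + b.baseSupp i) = ⊥)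
    (j : ι) (hN : ∀ i, ρ (b.h' i) ≠ 0 ↔ i = j) (hj : ρ (b.h' j) = 1)
    (W : Submodule K L) :
    (Module.finrank K W = 2 ∧
        ∀ x ∈ H.toSubmodule ⊔ (b.borelUpper : Submodule K L), ∀ w ∈ W, ⁅x, w⁆ ∈ W) ↔
      W = (rootSpace H ρ : Submodule K L) ⊔ (rootSpace H (ρ - b.baseSupp j) : Submodule K L) := by
  obtain ⟨x₀, T⟩ := AdjVarLib.exists_top_data H b ρ j hρ htop hN hj
  have hli : LinearIndependent K ![x₀, ⁅b.f j, x₀⁆] :=
    (LinearIndependent.pair_iff' T.ne).2 fun a h => T.y_notMem (Submodule.mem_span_singleton.2 ⟨a, h⟩)
  have hV : (rootSpace H ρ : Submodule K L) ⊔ (rootSpace H (ρ - b.baseSupp j) : Submodule K L) =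
      Submodule.span K (Set.range ![x₀, ⁅b.f j, x₀⁆]) := by
    rw [Matrix.range_cons, Matrix.range_cons, Matrix.range_empty, Set.union_empty, Submodule.span_union,
      ← T.span_eq, ← T.span_y_eq]
    rfl
  have hdim : Module.finrank K ↥(Submodule.span K (Set.range ![x₀, ⁅b.f j, x₀⁆])) = 2 := by
    rw [finrank_span_eq_card hli, Fintype.card_fin]
  rw [hV]
  constructor
  · rintro ⟨h2, hst⟩
    obtain ⟨hx, hy⟩ := T.pair_mem hst (by omega)
    refine (Submodule.eq_of_le_of_finrank_le (Submodule.span_le.2 ?_) (le_of_eq (h2.trans hdim.symm))).symm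
    rintro _ ⟨t, rfl⟩
    fin_cases t
    exacts [hx, hy]
  · rintro rfl
    refine ⟨hdim, AdjVarLib.stable_of_generators _ ?_ ?_⟩
    · intro h w hw
      induction hw using Submodule.span_induction with
      | mem y hy =>
        obtain ⟨t, rfl⟩ := hy
        fin_cases t
        · change ⁅(h : L), x₀⁆ ∈ _
          rw [(AdjVarLib.mem_rootSpace_iff H _ _).1 T.mem h]
          exact Submodule.smul_mem _ _ (Submodule.subset_span ⟨0, rfl⟩)
        · change ⁅(h : L), ⁅b.f j, x₀⁆⁆ ∈ _
          rw [(AdjVarLib.mem_rootSpace_iff H _ _).1 T.y_mem h]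
          exact Submodule.smul_mem _ _ (Submodule.subset_span ⟨1, rfl⟩)
      | zero => rw [lie_zero]; exact Submodule.zero_mem _
      | add y z _ _ hy hz => rw [lie_add]; exact Submodule.add_mem _ hy hz
      | smul c y _ hy => rw [lie_smul]; exact Submodule.smul_mem _ c hy
    · intro i w hw
      induction hw using Submodule.span_induction with
      | mem y hy =>
        obtain ⟨t, rfl⟩ := hy
        fin_cases t
        · change ⁅b.e i, x₀⁆ ∈ _
          rw [T.e_x₀]; exact Submodule.zero_mem _
        · change ⁅b.e i, ⁅b.f j, x₀⁆⁆ ∈ _
          by_cases hi : i = j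
          · subst hi; rw [T.e_y]; exact Submodule.subset_span ⟨0, rfl⟩
          · rw [T.e_y_ne hi]; exact Submodule.zero_mem _
      | zero => rw [lie_zero]; exact Submodule.zero_mem _
      | add y z _ _ hy hz => rw [lie_add]; exact Submodule.add_mem _ hy hz
      | smul c y _ hy => rw [lie_smul]; exact Submodule.smul_mem _ c hy

end Groth.Agent.S17430
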