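import Groth.Statements.S17432
import Groth.Agent.AdjVarLib.Config
-- import your own Groth.Agent.* helpers here

set_option autoImplicit false
universe u v w
open LieAlgebra LieModule
open AdjVar

namespace Groth.Agent.S17432

/-- Let L be a finite-dimensional simple Lie algebra over an algebraically closed field K of
characteristic zero, H a Cartan subalgebra and b a basis of (L, H) in Mathlib's sense (Chevalley
generators h_i, e_i, f_i indexed by a finite type, with simple roots α_i = b.baseSupp i and upper
Borel subalgebra 𝔟 = H + the Lie subalgebra generated by the e_i). Let ρ be the highest root: a root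
of H on L whose root space is nonzero and such that no ρ + α_i is a root (the root space of ρ + α_i
is zero for every i). Assume that exactly one simple root α_j is not orthogonal to ρ (ρ(h_i) ≠ 0 if
and only if i = j) and that ρ(h_j) = 1; for simple L these two conditions say precisely that L is
not of type A_r or C_r (r ≥ 1), the case excluded in the source. Let W be a three-dimensional linear
subspace of L stable under 𝔟 and q a quadratic form on W which is semi-invariant under 𝔟: for every
x in 𝔟 there is a scalar c with polar_q([x, w], w) = c q(w) for all w in W (this is the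
infinitesimal condition for the line spanned by q, equivalently the conic q = 0 of the plane P(W),
to be stable under the Borel subgroup). Then q is a scalar multiple of the square of a linear form
on W. In the source's words: P(L) contains no Borel-stable conic which is smooth or reducible (a
pair of distinct lines); only double lines occur. (Over the complex numbers a conic of rank at least
two is Borel-stable exactly when its plane is 𝔟-stable and its equation is 𝔟-semi-invariant, which
is the form stated here.) -/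
theorem result {ι : Type u} {K : Type v} {L : Type w} [Fintype ι] [Field K] [CharZero K]
    [IsAlgClosed K] [LieRing L] [LieAlgebra K L] [FiniteDimensional K L] [LieAlgebra.IsSimple K L]
    (H : LieSubalgebra K L) [H.IsCartanSubalgebra] (b : LieAlgebra.Basis ι H)
    (ρ : Module.Dual K H) (hρ : rootSpace H ρ ≠ ⊥) (htop : ∀ i, rootSpace H (ρ + b.baseSupp i) = ⊥)
    (j : ι) (hN : ∀ i, ρ (b.h' i) ≠ 0 ↔ i = j) (hj : ρ (b.h' j) = 1)
    (W : Submodule K L) (hW : Module.finrank K W = 3)
    (hst : ∀ x ∈ H.toSubmodule ⊔ (b.borelUpper : Submodule K L), ∀ w ∈ W, ⁅x, w⁆ ∈ W)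
    (q : QuadraticForm K W)
    (hq : ∀ (x : L) (hx : x ∈ H.toSubmodule ⊔ (b.borelUpper : Submodule K L)), ∃ c : K, ∀ w : W,
      QuadraticMap.polar q ⟨⁅x, (w : L)⁆, hst x hx w w.property⟩ w = c * q w) :
    ∃ (ℓ : Module.Dual K W) (c : K), ∀ w : W, q w = c * ℓ w ^ 2 := by
  obtain ⟨x₀, T⟩ := AdjVarLib.exists_top_data H b ρ j hρ htop hN hj
  obtain ⟨i, z, c, hij, -, hc, hzW, hli, hspan, -, hejz, heiz⟩ := T.triple hst hW
  obtain ⟨hxW, hyW⟩ := T.pair_mem hst (by omega)
  let X : W := ⟨x₀, hxW⟩
  let Y : W := ⟨⁅b.f j, x₀⁆, hyW⟩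
  let Z : W := ⟨z, hzW⟩
  have he : ∀ t, b.e t ∈ H.toSubmodule ⊔ (b.borelUpper : Submodule K L) := fun t =>
    Submodule.mem_sup_right
      (LieSubalgebra.subset_lieSpan ⟨t, rfl⟩ : b.e t ∈ LieSubalgebra.lieSpan K L (Set.range b.e))
  let D : ∀ t, W → W := fun t w => ⟨⁅b.e t, (w : L)⁆, hst _ (he t) w w.2⟩
  have hlin : ∀ t, ∃ r : K, ∀ u v : W,
      QuadraticMap.polar q (D t u) v + QuadraticMap.polar q (D t v) u = r * QuadraticMap.polar q u v := by
    intro t
    obtain ⟨r, hr⟩ := hq (b.e t) (he t)
    refine ⟨r, fun u v => ?_⟩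
    have h : QuadraticMap.polar q (D t (u + v)) (u + v) = r * q (u + v) := hr (u + v)
    have hD : D t (u + v) = D t u + D t v := Subtype.ext (lie_add _ _ _)
    have hu : QuadraticMap.polar q (D t u) u = r * q u := hr u
    have hv : QuadraticMap.polar q (D t v) v = r * q v := hr v
    rw [hD, QuadraticMap.polar_add_left, QuadraticMap.polar_add_right, QuadraticMap.polar_add_right,
      QuadraticMap.map_add q u v] at h
    linear_combination h - hu - hv
  have hDjX : D j X = 0 := Subtype.ext (T.e_x₀ j)
  have hDjY : D j Y = X := Subtype.ext T.e_y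
  have hDjZ : D j Z = 0 := Subtype.ext hejz
  have hDiX : D i X = 0 := Subtype.ext (T.e_x₀ i)
  have hDiY : D i Y = 0 := Subtype.ext (T.e_y_ne hij)
  have hDiZ : D i Z = c • Y := Subtype.ext heiz
  have hXX : QuadraticMap.polar q X X = 2 * q X := by rw [QuadraticMap.polar_self]; simp [two_mul]
  have hYY : QuadraticMap.polar q Y Y = 2 * q Y := by rw [QuadraticMap.polar_self]; simp [two_mul]
  have hZZ : QuadraticMap.polar q Z Z = 2 * q Z := by rw [QuadraticMap.polar_self]; simp [two_mul]
  have hsc : ∀ (a : K) (u v : W), QuadraticMap.polar q (a • u) v = a * QuadraticMap.polar q u v :=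
    fun a u v => by rw [QuadraticMap.polar_smul_left, smul_eq_mul]
  have hsym : ∀ u v : W, QuadraticMap.polar q u v = QuadraticMap.polar q v u :=
    fun u v => QuadraticMap.polar_comm q u v
  have hdecomp : ∀ w : W, ∃ a : Fin 3 → K, w = a 0 • X + a 1 • Y + a 2 • Z := by
    intro w
    obtain ⟨a, ha⟩ := (Submodule.mem_span_range_iff_exists_fun K).1 (hspan.le w.2)
    refine ⟨a, Subtype.ext ?_⟩
    rw [Fin.sum_univ_three] at ha
    exact ha.symm
  have hexp : ∀ a : Fin 3 → K, q (a 0 • X + a 1 • Y + a 2 • Z) = a 0 * a 0 * q X + a 1 * a 1 * q Y +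
      a 2 * a 2 * q Z + a 0 * a 1 * QuadraticMap.polar q X Y + a 0 * a 2 * QuadraticMap.polar q X Z +
      a 1 * a 2 * QuadraticMap.polar q Y Z := by
    intro a
    rw [QuadraticMap.map_add q (a 0 • X + a 1 • Y) (a 2 • Z), QuadraticMap.map_add q (a 0 • X) (a 1 • Y),
      QuadraticMap.polar_add_left]
    simp only [QuadraticMap.map_smul, hsc, QuadraticMap.polar_smul_right, smul_eq_mul]
    ring
  obtain ⟨r, hr⟩ := hlin j
  obtain ⟨s, hs⟩ := hlin i
  have e1 := hr X X
  have e2 := hr X Y
  have e3 := hr Y Y
  have e4 := hr X Z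
  have e5 := hr Y Z
  have e6 := hr Z Z
  have f3 := hs Y Y
  have f5 := hs Y Z
  have f6 := hs Z Z
  rw [hDjX, QuadraticMap.polar_zero_left, hXX] at e1
  rw [hDjX, hDjY, QuadraticMap.polar_zero_left, hXX] at e2
  rw [hDjY, hYY] at e3
  rw [hDjX, hDjZ, QuadraticMap.polar_zero_left, QuadraticMap.polar_zero_left] at e4
  rw [hDjY, hDjZ, QuadraticMap.polar_zero_left] at e5
  rw [hDjZ, QuadraticMap.polar_zero_left, hZZ] at e6
  rw [hDiY, QuadraticMap.polar_zero_left, hYY] at f3
  rw [hDiY, hDiZ, QuadraticMap.polar_zero_left, hsc, hYY] at f5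
  rw [hDiZ, hsc, hZZ] at f6
  have two : (2 : K) ≠ 0 := two_ne_zero
  have hlast : ∀ _ : q X = 0, ∀ _ : QuadraticMap.polar q X Y = 0, ∀ _ : QuadraticMap.polar q X Z = 0,
      ∃ (ℓ : Module.Dual K W) (k : K), ∀ w : W, q w = k * ℓ w ^ 2 := by
    intro hx hxy hxz
    by_cases hzero : q Y = 0 ∧ QuadraticMap.polar q Y Z = 0
    · let B : Module.Basis (Fin 3) K W := Module.Basis.mk (v := ![X, Y, Z])
        (LinearIndependent.of_comp W.subtype (by convert hli using 1; funext t; fin_cases t <;> rfl))
        (fun w _ => by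
          obtain ⟨a, rfl⟩ := hdecomp w
          exact add_mem (add_mem (Submodule.smul_mem _ _ (Submodule.subset_span ⟨0, rfl⟩))
            (Submodule.smul_mem _ _ (Submodule.subset_span ⟨1, rfl⟩)))
            (Submodule.smul_mem _ _ (Submodule.subset_span ⟨2, rfl⟩)))
      refine ⟨B.coord 2, q Z, fun w => ?_⟩
      have hw : w = B.repr w 0 • X + B.repr w 1 • Y + B.repr w 2 • Z := by
        conv_lhs => rw [← B.sum_repr w]
        rw [Fin.sum_univ_three, Module.Basis.mk_apply, Module.Basis.mk_apply, Module.Basis.mk_apply]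
        rfl
      conv_lhs => rw [hw]
      rw [hexp (B.repr w), hx, hxy, hxz, hzero.1, hzero.2, Module.Basis.coord_apply]
      ring
    · refine absurd ?_ hzero
      by_cases hs0 : s = 0
      · subst hs0
        have hy0 : q Y = 0 := mul_left_cancel₀ two (mul_left_cancel₀ hc (by linear_combination f5))
        refine ⟨hy0, mul_left_cancel₀ two (mul_left_cancel₀ hc (by linear_combination f6))⟩
      · have hy0 : q Y = 0 := mul_left_cancel₀ two (mul_left_cancel₀ hs0 (by linear_combination -f3))
        exact ⟨hy0, mul_left_cancel₀ hs0 (by linear_combination -f5 + 2 * c * hy0)⟩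
  by_cases hr0 : r = 0
  · subst hr0
    exact hlast (mul_left_cancel₀ two (by linear_combination e2))
      (mul_left_cancel₀ two (by linear_combination e3)) (by linear_combination e5)
  · have hx : q X = 0 := mul_left_cancel₀ two (mul_left_cancel₀ hr0 (by linear_combination -e1))
    exact hlast hx (mul_left_cancel₀ hr0 (by linear_combination -e2 + 2 * hx))
      (mul_left_cancel₀ hr0 (by linear_combination -e4))

end Groth.Agent.S17432
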