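import Groth.Statements.S17433
import Mathlib
-- import your own Groth.Agent.* helpers here

set_option autoImplicit false
set_option maxHeartbeats 2000000
set_option backward.isDefEq.respectTransparency false
universe u v w
open LieAlgebra LieModule
open AdjVar

namespace Groth.Agent.S17433

open LieAlgebra LieModule

noncomputable section

variable {K : Type v} {L : Type w} [Field K] [CharZero K] [IsAlgClosed K] [LieRing L] [LieAlgebra K L]
  [FiniteDimensional K L] {H : LieSubalgebra K L} [H.IsCartanSubalgebra]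

/-- weight space of a functional -/
abbrev rs (χ : Module.Dual K H) : LieSubmodule K H L := rootSpace H χ

theorem mem_rs_add {a b : Module.Dual K H} {x y : L} (hx : x ∈ rs a) (hy : y ∈ rs b) : ⁅x, y⁆ ∈ rs (a + b) := by
  exact lie_mem_genWeightSpace_of_mem_genWeightSpace hx hy

variable [LieAlgebra.IsKilling K L]

theorem rs_neg_ne_bot {a : Module.Dual K H} (h : rs a ≠ ⊥) : rs (-a) ≠ ⊥ := by
  have := (-(⟨⇑a, h⟩ : Weight K H L)).genWeightSpace_ne_bot
  simpa only [rs, LinearMap.coe_neg] using! this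

theorem lie_h {a : Module.Dual K H} {x : L} (hx : x ∈ rs a) (h : H) : ⁅(h : L), x⁆ = a h • x :=
  IsKilling.lie_eq_smul_of_mem_rootSpace hx h

theorem mem_span_single {a : Module.Dual K H} (ha : a ≠ 0) {x v : L} (hx : x ∈ rs a) (hv : v ∈ rs a) (hx0 : x ≠ 0) :
    ∃ c : K, c • x = v := by
  have hne : rs a ≠ ⊥ := fun h => hx0 (by rw [h] at hx; simpa using hx)
  have h1 := IsKilling.finrank_rootSpace_eq_one (⟨⇑a, hne⟩ : Weight K H L)
    (fun h => ha (LinearMap.ext fun z => congrFun h z))
  obtain ⟨c, hc⟩ := exists_smul_eq_of_finrank_eq_one (V := rs a) h1 (x := ⟨x, hx⟩)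
    (fun h => hx0 (congrArg Subtype.val h)) ⟨v, hv⟩
  exact ⟨c, congrArg Subtype.val hc⟩

theorem exists_coeff {ι : Type u} [Fintype ι] (b : LieAlgebra.Basis ι H) {a : Module.Dual K H} (ha : a ≠ 0)
    (h : rs a ≠ ⊥) :
    (∃ n : ι → ℕ, a = ∑ i, n i • b.baseSupp i) ∨ (∃ n : ι → ℕ, a = -∑ i, n i • b.baseSupp i) := by
  let W : Weight K H L := ⟨⇑a, h⟩
  have hW : W ∈ H.root := by simpa using fun h : W.IsZero => ha (LinearMap.ext fun z => congrFun h z)
  have hk : ∀ y ∈ AddSubmonoid.closure ((IsKilling.rootSystem H).root '' Set.range b.baseSupp'),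
      ∃ n : ι → ℕ, y = ∑ i, n i • b.baseSupp i := by
    intro y hy
    rw [← Submodule.span_nat_eq_addSubmonoidClosure, Submodule.mem_toAddSubmonoid, ← Set.range_comp,
      Submodule.mem_span_range_iff_exists_fun] at hy
    obtain ⟨n, hn⟩ := hy
    exact ⟨n, hn.symm⟩
  have e : (IsKilling.rootSystem H).root ⟨W, hW⟩ = a := LinearMap.ext fun z => rfl
  rcases b.root_mem_or_mem_neg ⟨W, hW⟩ with h1 | h1
  · left
    obtain ⟨n, hn⟩ := hk _ h1
    exact ⟨n, e ▸ hn⟩
  · right
    obtain ⟨n, hn⟩ := hk _ h1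
    exact ⟨n, by rw [← hn, e, neg_neg]⟩

theorem upper_kills {ι : Type u} [Fintype ι] (b : LieAlgebra.Basis ι H) {ρ : Module.Dual K H}
    (htop : ∀ i, rs (ρ + b.baseSupp i) = ⊥) {e : L} (he : e ∈ rs ρ) {x : L}
    (hx : x ∈ LieSubalgebra.lieSpan K L (Set.range b.e)) : ⁅x, e⁆ = 0 := by
  induction hx using LieSubalgebra.lieSpan_induction with
  | mem u hu =>
    obtain ⟨i, rfl⟩ := hu
    have hei : b.e i ∈ rs (b.baseSupp i) := (mem_genWeightSpace _ _ _).mpr fun z => ⟨1, by simp⟩
    have := mem_rs_add hei he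
    rwa [add_comm, htop i, LieSubmodule.mem_bot] at this
  | zero => simp
  | add u v _ _ hu hv => rw [add_lie, hu, hv, add_zero]
  | smul t u _ hu => rw [smul_lie, hu, smul_zero]
  | lie u v _ _ hu hv => rw [lie_lie, hu, hv, lie_zero, lie_zero, sub_zero]

/-- the five vectors and their table -/
structure Tbl (e f h g q : L) (a : K) : Prop where
  he : ⁅h, e⁆ = (2 : K) • e
  hf : ⁅h, f⁆ = -((2 : K) • f)
  ef : ⁅e, f⁆ = h
  hg : ⁅h, g⁆ = (2 - a) • g
  hq : ⁅h, q⁆ = (-a) • q
  eg : ⁅e, g⁆ = 0
  eq : ⁅e, q⁆ = -g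
  fg : ⁅f, g⁆ = (-a) • q
  fq : ⁅f, q⁆ = 0
  gq : ⁅g, q⁆ = 0

theorem lie_mem_span {e f h g q : L} {a : K} (T : Tbl e f h g q a) :
    ∀ x ∈ Submodule.span K ({e, f, h, g, q} : Set L), ∀ y ∈ Submodule.span K ({e, f, h, g, q} : Set L),
      ⁅x, y⁆ ∈ Submodule.span K ({e, f, h, g, q} : Set L) := by
  set S := Submodule.span K ({e, f, h, g, q} : Set L)
  have me : e ∈ S := Submodule.subset_span (by simp)
  have mf : f ∈ S := Submodule.subset_span (by simp)
  have mh : h ∈ S := Submodule.subset_span (by simp)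
  have mg : g ∈ S := Submodule.subset_span (by simp)
  have mq : q ∈ S := Submodule.subset_span (by simp)
  have rev : ∀ {u v : L}, ⁅u, v⁆ ∈ S → ⁅v, u⁆ ∈ S := fun {u v} h' => by rw [← lie_skew]; exact S.neg_mem h'
  have h1 : ⁅h, e⁆ ∈ S := by rw [T.he]; exact S.smul_mem _ me
  have h2 : ⁅h, f⁆ ∈ S := by rw [T.hf]; exact S.neg_mem (S.smul_mem _ mf)
  have h3 : ⁅e, f⁆ ∈ S := by rw [T.ef]; exact mh
  have h4 : ⁅h, g⁆ ∈ S := by rw [T.hg]; exact S.smul_mem _ mg
  have h5 : ⁅h, q⁆ ∈ S := by rw [T.hq]; exact S.smul_mem _ mq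
  have h6 : ⁅e, g⁆ ∈ S := by rw [T.eg]; exact S.zero_mem
  have h7 : ⁅e, q⁆ ∈ S := by rw [T.eq]; exact S.neg_mem mg
  have h8 : ⁅f, g⁆ ∈ S := by rw [T.fg]; exact S.smul_mem _ mq
  have h9 : ⁅f, q⁆ ∈ S := by rw [T.fq]; exact S.zero_mem
  have h10 : ⁅g, q⁆ ∈ S := by rw [T.gq]; exact S.zero_mem
  intro x hx y hy
  induction hx, hy using Submodule.span_induction₂ with
  | mem_mem x y hx hy =>
    simp only [Set.mem_insert_iff, Set.mem_singleton_iff] at hx hy
    rcases hx with rfl | rfl | rfl | rfl | rfl <;> rcases hy with rfl | rfl | rfl | rfl | rfl <;>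
      first
        | (rw [lie_self]; exact S.zero_mem)
        | assumption
        | (apply rev; assumption)
  | zero_left y _ => rw [zero_lie]; exact S.zero_mem
  | zero_right x _ => rw [lie_zero]; exact S.zero_mem
  | add_left x y z _ _ _ h' h'' => rw [add_lie]; exact S.add_mem h' h''
  | add_right x y z _ _ _ h' h'' => rw [lie_add]; exact S.add_mem h' h''
  | smul_left r x y _ _ h' => rw [smul_lie]; exact S.smul_mem _ h'
  | smul_right r x y _ _ h' => rw [lie_smul]; exact S.smul_mem _ h'

theorem radical_eq {e f h g q : L} {a : K} (T : Tbl e f h g q a) (he0 : e ≠ 0)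
    (A : LieSubalgebra K L) (hA : A.toSubmodule = Submodule.span K ({e, f, h, g, q} : Set L)) :
    (LieAlgebra.radical K A).toSubmodule.map (A.incl : A →ₗ⁅K⁆ L).toLinearMap = Submodule.span K ({g, q} : Set L) := by
  have mem : ∀ v ∈ ({e, f, h, g, q} : Set L), v ∈ A := fun v hv => by
    rw [← LieSubalgebra.mem_toSubmodule, hA]; exact Submodule.subset_span hv
  have he : e ∈ A := mem e (by simp)
  have hf : f ∈ A := mem f (by simp)
  have hh : h ∈ A := mem h (by simp)
  have hg : g ∈ A := mem g (by simp)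
  have hq : q ∈ A := mem q (by simp)
  let P := Submodule.span K ({g, q} : Set L)
  have pg : g ∈ P := Submodule.subset_span (by simp)
  have pq : q ∈ P := Submodule.subset_span (by simp)
  have hP : ∀ x ∈ Submodule.span K ({e, f, h, g, q} : Set L), ∀ y ∈ P, ⁅x, y⁆ ∈ P := by
    intro x hx y hy
    induction hx, hy using Submodule.span_induction₂ with
    | mem_mem x y hx hy =>
      simp only [Set.mem_insert_iff, Set.mem_singleton_iff] at hx hy
      have e1 : ⁅q, g⁆ ∈ P := by rw [← lie_skew, T.gq, neg_zero]; exact P.zero_mem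
      rcases hx with rfl | rfl | rfl | rfl | rfl <;> rcases hy with rfl | rfl <;>
        first
          | (rw [lie_self]; exact P.zero_mem)
          | assumption
          | (rw [T.eg]; exact P.zero_mem)
          | (rw [T.eq]; exact P.neg_mem pg)
          | (rw [T.fg]; exact P.smul_mem _ pq)
          | (rw [T.fq]; exact P.zero_mem)
          | (rw [T.hg]; exact P.smul_mem _ pg)
          | (rw [T.hq]; exact P.smul_mem _ pq)
          | (rw [T.gq]; exact P.zero_mem)
    | zero_left y _ => rw [zero_lie]; exact P.zero_mem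
    | zero_right x _ => rw [lie_zero]; exact P.zero_mem
    | add_left x y z _ _ _ h' h'' => rw [add_lie]; exact P.add_mem h' h''
    | add_right x y z _ _ _ h' h'' => rw [lie_add]; exact P.add_mem h' h''
    | smul_left r x y _ _ h' => rw [smul_lie]; exact P.smul_mem _ h'
    | smul_right r x y _ _ h' => rw [lie_smul]; exact P.smul_mem _ h'
  let I : LieIdeal K A :=
    { toSubmodule := P.comap A.toSubmodule.subtype
      lie_mem := fun {x m} hm => hP x (by rw [← hA]; exact x.2) m hm }
  have hab : IsLieAbelian I := by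
    refine ⟨fun x y => Subtype.ext (Subtype.ext ?_)⟩
    show ⁅((x : A) : L), ((y : A) : L)⁆ = 0
    obtain ⟨c, d, hx⟩ := Submodule.mem_span_pair.1 (show ((x : A) : L) ∈ P from x.2)
    obtain ⟨c', d', hy⟩ := Submodule.mem_span_pair.1 (show ((y : A) : L) ∈ P from y.2)
    have hqg : ⁅q, g⁆ = 0 := by rw [← lie_skew, T.gq, neg_zero]
    rw [← hx, ← hy]
    simp only [add_lie, lie_add, smul_lie, lie_smul, lie_self, T.gq, hqg, smul_zero, add_zero]
  have hle : I ≤ LieAlgebra.radical K A := (LieIdeal.solvable_iff_le_radical K A I).1 inferInstance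
  let R := LieAlgebra.radical K A
  have hR : (⟨e, he⟩ : A) ∈ R → False := by
    intro hemem
    have ch : (⟨h, hh⟩ : A) = ⁅(⟨e, he⟩ : A), (⟨f, hf⟩ : A)⁆ := Subtype.ext T.ef.symm
    have ce : (⟨e, he⟩ : A) = (2 : K)⁻¹ • ⁅(⟨h, hh⟩ : A), (⟨e, he⟩ : A)⁆ := Subtype.ext (by
      show e = (2 : K)⁻¹ • ⁅h, e⁆
      rw [T.he, smul_smul, inv_mul_cancel₀ two_ne_zero, one_smul])
    have cf : (⟨f, hf⟩ : A) = -((2 : K)⁻¹ • ⁅(⟨h, hh⟩ : A), (⟨f, hf⟩ : A)⁆) := Subtype.ext (by
      show f = -((2 : K)⁻¹ • ⁅h, f⁆)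
      rw [T.hf, smul_neg, neg_neg, smul_smul, inv_mul_cancel₀ two_ne_zero, one_smul])
    have hh' : (⟨h, hh⟩ : A) ∈ R := by rw [ch]; exact lie_mem_left K A R _ _ hemem
    have hf' : (⟨f, hf⟩ : A) ∈ R := by rw [cf]; exact R.neg_mem (R.smul_mem _ (lie_mem_left K A R _ _ hh'))
    obtain ⟨n, hn⟩ := (LieAlgebra.isSolvable_iff K R).1 (LieAlgebra.radicalIsSolvable (R := K) (L := A))
    have key : ∀ n, (⟨⟨e, he⟩, hemem⟩ : R) ∈ LieAlgebra.derivedSeries K R n ∧
        (⟨⟨f, hf⟩, hf'⟩ : R) ∈ LieAlgebra.derivedSeries K R n ∧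
        (⟨⟨h, hh⟩, hh'⟩ : R) ∈ LieAlgebra.derivedSeries K R n := by
      intro n
      induction n with
      | zero => simp
      | succ n ih =>
        rw [LieAlgebra.derivedSeries_def, LieAlgebra.derivedSeriesOfIdeal_succ, ← LieAlgebra.derivedSeries_def]
        obtain ⟨ie, iff', ih'⟩ := ih
        refine ⟨?_, ?_, ?_⟩
        · rw [show (⟨⟨e, he⟩, hemem⟩ : R) = (2 : K)⁻¹ • ⁅(⟨⟨h, hh⟩, hh'⟩ : R), (⟨⟨e, he⟩, hemem⟩ : R)⁆ from
            Subtype.ext ce]
          exact SMulMemClass.smul_mem _ (LieSubmodule.lie_mem_lie ih' ie)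
        · rw [show (⟨⟨f, hf⟩, hf'⟩ : R) = -((2 : K)⁻¹ • ⁅(⟨⟨h, hh⟩, hh'⟩ : R), (⟨⟨f, hf⟩, hf'⟩ : R)⁆) from
            Subtype.ext cf]
          exact neg_mem (SMulMemClass.smul_mem _ (LieSubmodule.lie_mem_lie ih' iff'))
        · rw [show (⟨⟨h, hh⟩, hh'⟩ : R) = ⁅(⟨⟨e, he⟩, hemem⟩ : R), (⟨⟨f, hf⟩, hf'⟩ : R)⁆ from Subtype.ext ch]
          exact LieSubmodule.lie_mem_lie ie iff'
    have := (key n).1
    rw [hn, LieSubmodule.mem_bot] at this
    exact he0 (congrArg (fun z : R => ((z : A) : L)) this)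
  refine le_antisymm ?_ ?_
  · rintro _ ⟨x, hx, rfl⟩
    change (x : L) ∈ P
    have hxA : (x : L) ∈ Submodule.span K ({e, f, h, g, q} : Set L) := by rw [← hA]; exact x.2
    rw [Submodule.mem_span_insert] at hxA
    obtain ⟨ce, y₁, hy₁, e₁⟩ := hxA
    rw [Submodule.mem_span_insert] at hy₁
    obtain ⟨cf, y₂, hy₂, e₂⟩ := hy₁
    rw [Submodule.mem_span_insert] at hy₂
    obtain ⟨chh, y₃, hy₃, e₃⟩ := hy₂
    by_contra hne
    refine hR ?_
    have hy₃A : y₃ ∈ A := by rw [← LieSubalgebra.mem_toSubmodule, hA]; exact Submodule.span_mono (by intro v; simp; tauto) hy₃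
    let z : A := x - ⟨y₃, hy₃A⟩
    have hz : z ∈ R := R.sub_mem hx (hle (show (⟨y₃, hy₃A⟩ : A) ∈ I from hy₃))
    have zval : (z : L) = ce • e + cf • f + chh • h := by
      show (x : L) - y₃ = _
      rw [e₁, e₂, e₃]; abel
    have u1 : ⁅(⟨e, he⟩ : A), z⁆ ∈ R := lie_mem_right K A R _ _ hz
    have v1 : ((⁅(⟨e, he⟩ : A), z⁆ : A) : L) = cf • h + (-(2 * chh)) • e := by
      show ⁅e, (z : L)⁆ = _
      rw [zval, lie_add, lie_add, lie_smul, lie_smul, lie_smul, lie_self, T.ef, ← lie_skew e h, T.he, smul_zero,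
        zero_add, smul_neg, smul_smul, mul_comm chh, neg_smul]
    by_cases hcf : cf = 0
    · by_cases hch : chh = 0
      · have hce : ce ≠ 0 := fun h0 => hne (by
          rw [e₁, e₂, e₃, h0, hcf, hch]; simpa using hy₃)
        have : (⟨e, he⟩ : A) = ce⁻¹ • z := Subtype.ext (by
          show e = ce⁻¹ • (z : L)
          rw [zval, hcf, hch, zero_smul, zero_smul, add_zero, add_zero, smul_smul, inv_mul_cancel₀ hce, one_smul])
        rw [this]; exact R.smul_mem _ hz
      · have : (⟨e, he⟩ : A) = (-(2 * chh))⁻¹ • ⁅(⟨e, he⟩ : A), z⁆ := Subtype.ext (by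
          show e = (-(2 * chh))⁻¹ • ((⁅(⟨e, he⟩ : A), z⁆ : A) : L)
          rw [v1, hcf, zero_smul, zero_add, smul_smul, inv_mul_cancel₀ (by simpa using hch), one_smul])
        rw [this]; exact R.smul_mem _ u1
    · have u2 : ⁅(⟨e, he⟩ : A), ⁅(⟨e, he⟩ : A), z⁆⁆ ∈ R := lie_mem_right K A R _ _ u1
      have : (⟨e, he⟩ : A) = (-(2 * cf))⁻¹ • ⁅(⟨e, he⟩ : A), ⁅(⟨e, he⟩ : A), z⁆⁆ := Subtype.ext (by
        show e = (-(2 * cf))⁻¹ • ⁅e, ((⁅(⟨e, he⟩ : A), z⁆ : A) : L)⁆
        rw [v1, lie_add, lie_smul, lie_smul, lie_self, ← lie_skew e h, T.he, smul_zero, add_zero, smul_neg,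
          smul_smul (cf), mul_comm cf, ← neg_smul, smul_smul, inv_mul_cancel₀ (by simpa using hcf), one_smul])
      rw [this]; exact R.smul_mem _ u2
  · refine Submodule.span_le.2 ?_
    intro v hv
    have hvA : v ∈ A := mem v (by revert hv; simp; tauto)
    exact ⟨⟨v, hvA⟩, hle (show (⟨v, hvA⟩ : A) ∈ I from Submodule.subset_span hv), rfl⟩

end


/-- Let L be a finite-dimensional simple Lie algebra over an algebraically closed field K of
characteristic zero, H a Cartan subalgebra and b a basis of (L, H) in Mathlib's sense (Chevalley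
generators h_i, e_i, f_i indexed by a finite type, with simple roots α_i = b.baseSupp i and upper
Borel subalgebra 𝔟 = H + the Lie subalgebra generated by the e_i). Let ρ be the highest root: a root
of H on L whose root space is nonzero and such that no ρ + α_i is a root (the root space of ρ + α_i
is zero for every i). Assume that exactly one simple root α_j is not orthogonal to ρ (ρ(h_i) ≠ 0 if
and only if i = j) and that ρ(h_j) = 1; for simple L these two conditions say precisely that L is
not of type A_r or C_r (r ≥ 1), the case excluded in the source. Let A be the Lie subalgebra of L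
generated by the root spaces of ρ, of −ρ and of ρ − α_j; this is the smallest Lie subalgebra whose
projectivisation contains both the standard twistor conic (which spans the plane on E_ρ, H_ρ,
E_{−ρ}) and the Borel-stable line (through E_ρ and E_{ρ−α_j}). Then A has dimension 5, its solvable
radical has dimension 2, and the image of that radical in L is the sum of the root spaces of ρ − α_j
and of −α_j (the two-dimensional ideal which the source's proof displays as the unipotent radical of
A; the solvable radical and the unipotent radical agree here because the quotient of A by this ideal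
is sl_2). The published statement also says that the sl_2-subalgebra spanned by the root spaces of ρ
and −ρ is a maximal reductive subalgebra of A; that clause is not stated here. The source states
this for an arbitrary point x of the adjoint variety, a twistor conic C and a line through x, and
reduces to the present configuration by homogeneity; only this base configuration, which its proof
computes, is stated here. -/
theorem result {ι : Type u} {K : Type v} {L : Type w} [Fintype ι] [Field K] [CharZero K]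
    [IsAlgClosed K] [LieRing L] [LieAlgebra K L] [FiniteDimensional K L] [LieAlgebra.IsSimple K L]
    (H : LieSubalgebra K L) [H.IsCartanSubalgebra] (b : LieAlgebra.Basis ι H)
    (ρ : Module.Dual K H) (hρ : rootSpace H ρ ≠ ⊥) (htop : ∀ i, rootSpace H (ρ + b.baseSupp i) = ⊥)
    (j : ι) (hN : ∀ i, ρ (b.h' i) ≠ 0 ↔ i = j) (hj : ρ (b.h' j) = 1)
    (A : LieSubalgebra K L)
    (hA : A = LieSubalgebra.lieSpan K L
      ((rootSpace H ρ : Set L) ∪ (rootSpace H (-ρ) : Set L) ∪ (rootSpace H (ρ - b.baseSupp j) : Set L))) :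
    Module.finrank K A = 5 ∧ Module.finrank K (LieAlgebra.radical K A) = 2 ∧
      (LieAlgebra.radical K A).toSubmodule.map (A.incl : A →ₗ⁅K⁆ L).toLinearMap =
        (rootSpace H (ρ - b.baseSupp j) : Submodule K L) ⊔ (rootSpace H (-b.baseSupp j) : Submodule K L) := by
  classical
  haveI : LieAlgebra.IsKilling K L := inferInstance
  set α := b.baseSupp j with hα
  have hρ0 : ρ ≠ 0 := fun h => one_ne_zero (α := K) (by rw [← hj, h, LinearMap.zero_apply])
  have haj : α (b.h' j) = 2 := by
    rw [hα, b.baseSupp_apply_h']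
    haveI : IsAddTorsionFree L := .of_isTorsionFree K L
    simp
  have hα0 : α ≠ 0 := fun h => two_ne_zero (α := K) (by rw [← haj, h, LinearMap.zero_apply])
  have hlin : ∀ n m : ι → ℕ, ∑ i, n i • b.baseSupp i = ∑ i, m i • b.baseSupp i → ∀ i, n i = m i :=
    Fintype.linearIndependent_iffₛ.mp (b.linearIndependent_baseSupp.restrict_scalars' ℕ)
  have fnsum : α = ∑ i, (Pi.single j 1 : ι → ℕ) i • b.baseSupp i := by
    rw [Finset.sum_eq_single j] <;> simp +contextual [hα]
  -- the sl2 triple of ρ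
  let W : LieModule.Weight K H L := ⟨⇑ρ, hρ⟩
  obtain ⟨h, e, f, t, he, hf⟩ := LieAlgebra.IsKilling.exists_isSl2Triple_of_weight_isNonZero
    (α := W) (fun h0 => hρ0 (LinearMap.ext fun z => congrFun h0 z))
  replace he : e ∈ rs ρ := he
  replace hf : f ∈ rs (-ρ) := by simpa only [rs, LinearMap.coe_neg] using! hf
  have hH : h ∈ H := by
    have h0 := mem_rs_add he hf
    rw [add_neg_cancel, t.lie_e_f] at h0
    rw [show rs (0 : Module.Dual K H) = H.toLieSubmodule from LieAlgebra.rootSpace_zero_eq K L H] at h0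
    exact h0
  let hh : H := ⟨h, hH⟩
  have hρh : ρ hh = 2 := by
    have e1 := lie_h he hh
    change ⁅h, e⁆ = _ at e1
    rw [t.lie_h_e_smul K] at e1
    exact smul_left_injective K t.e_ne_zero e1.symm
  -- ρ is positive
  obtain ⟨m, hm⟩ : ∃ m : ι → ℕ, ρ = ∑ i, m i • b.baseSupp i := by
    rcases exists_coeff b hρ0 hρ with h1 | ⟨n, hn⟩
    · exact h1
    · exfalso
      have hfu : f ∈ LieSubalgebra.lieSpan K L (Set.range b.e) := by
        have hf2 : f ∈ b.borelUpper := by
          rw [b.borelUpper_eq]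
          refine LieSubmodule.mem_iSup_of_mem n (LieSubmodule.mem_iSup_of_mem ?_ ?_)
          · intro h0; apply hρ0; rw [hn, h0]; simp
          · have e2 : -ρ = ∑ i, n i • b.baseSupp i := by rw [hn, neg_neg]
            rw [e2] at hf
            simpa only [rs, LinearMap.coe_sum, LinearMap.coe_smul] using! hf
        exact hf2
      have := upper_kills b htop he hfu
      rw [← lie_skew, t.lie_e_f, neg_eq_zero] at this
      exact t.h_ne_zero this
  set q := b.f j with hqdef
  set g := ⁅q, e⁆ with hgdef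
  have hq : q ∈ rs (-α) := by
    rw [LieModule.mem_genWeightSpace]
    exact fun z => ⟨1, by simp [hα, hqdef, ← eq_neg_iff_add_eq_zero]⟩
  have hej : b.e j ∈ rs α := (LieModule.mem_genWeightSpace _ _ _).mpr fun z => ⟨1, by simp [hα]⟩
  have hg : g ∈ rs (ρ - α) := by rw [sub_eq_neg_add]; exact mem_rs_add hq he
  have heje : ⁅b.e j, e⁆ = 0 := upper_kills b htop he (LieSubalgebra.subset_lieSpan (Set.mem_range_self j))
  have hje : ⁅b.h j, e⁆ = e := by
    have := lie_h he (b.h' j)
    rwa [hj, one_smul] at this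
  have hejg : ⁅b.e j, g⁆ = e := by rw [hgdef, leibniz_lie, (b.sl2 j).lie_e_f, heje, lie_zero, add_zero, hje]
  have hg0 : g ≠ 0 := fun h0 => t.e_ne_zero (by rw [← hejg, h0, lie_zero])
  have hμne : ρ - α ≠ 0 := by
    intro h0
    have := congrArg (fun φ : Module.Dual K H => φ (b.h' j)) h0
    rw [LinearMap.sub_apply, hj, haj, LinearMap.zero_apply] at this
    norm_num at this
  have hμbot : rs (ρ - α) ≠ ⊥ := fun h0 => hg0 (by rw [h0] at hg; simpa using hg)
  obtain ⟨p, hp⟩ : ∃ p : ι → ℕ, ρ - α = ∑ i, p i • b.baseSupp i := by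
    rcases exists_coeff b hμne hμbot with h1 | ⟨n, hn⟩
    · exact h1
    · exfalso
      have e1 : ∑ i, (m i + n i) • b.baseSupp i = ∑ i, (Pi.single j 1 : ι → ℕ) i • b.baseSupp i := by
        rw [← fnsum]
        simp only [add_smul, Finset.sum_add_distrib]
        rw [← hm, eq_neg_iff_add_eq_zero.1 hn |> fun h => eq_sub_of_add_eq' h]
        abel
      have e2 := hlin _ _ e1
      have hm0 : m ≠ 0 := fun h0 => hρ0 (by rw [hm, h0]; simp)
      obtain ⟨i, hi⟩ := Function.ne_iff.1 hm0
      have hij : i = j := by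
        by_contra hne
        have := e2 i
        rw [Pi.single_eq_of_ne hne] at this
        exact hi (by simp only [Pi.zero_apply]; omega)
      subst hij
      refine hμne ?_
      rw [hn, neg_eq_zero]
      refine Finset.sum_eq_zero fun l _ => ?_
      have hl := e2 l
      by_cases hl' : l = i
      · subst hl'
        rw [Pi.single_eq_same] at hl
        simp only [Pi.zero_apply] at hi
        rw [show n l = 0 by omega, zero_smul]
      · rw [Pi.single_eq_of_ne hl'] at hl
        rw [show n l = 0 by omega, zero_smul]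
  have hgu : g ∈ LieSubalgebra.lieSpan K L (Set.range b.e) := by
    have hg2 : g ∈ b.borelUpper := by
      rw [b.borelUpper_eq]
      refine LieSubmodule.mem_iSup_of_mem p (LieSubmodule.mem_iSup_of_mem ?_ ?_)
      · intro h0; apply hμne; rw [hp, h0]; simp
      · rw [hp] at hg
        simpa only [rs, LinearMap.coe_sum, LinearMap.coe_smul] using! hg
    exact hg2
  have hfq : ⁅f, q⁆ = 0 := by
    by_contra h0
    have h1 := mem_rs_add hf hq
    have h2 : rs (-ρ + -α) ≠ ⊥ := fun hb => h0 (by rw [hb] at h1; simpa using h1)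
    have h3 := rs_neg_ne_bot h2
    rw [show -(-ρ + -α) = ρ + α by abel] at h3
    exact h3 (htop j)
  set a := α hh with hadef
  have thq : ⁅h, q⁆ = (-a) • q := by
    have := lie_h hq hh
    rwa [LinearMap.neg_apply] at this
  have teq : ⁅e, q⁆ = -g := by rw [hgdef, lie_skew]
  have tfg : ⁅f, g⁆ = (-a) • q := by
    rw [hgdef, leibniz_lie, hfq, zero_lie, zero_add, ← lie_skew f e, t.lie_e_f, lie_neg, lie_skew, thq]
  have ha0 : a ≠ 0 := by
    intro h0
    have P : t.symm.HasPrimitiveVectorWith q (0 : K) := ⟨(b.sl2 j).f_ne_zero, by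
      rw [neg_lie, thq, h0]; simp, hfq⟩
    have := P.pow_toEnd_f_eq_zero_of_eq_nat (n := 0) (by simp)
    simp only [zero_add, pow_one, LieModule.toEnd_apply_apply] at this
    rw [teq, neg_eq_zero] at this
    exact hg0 this
  have hgq : ⁅g, q⁆ = 0 := by
    have P : (b.sl2 j).HasPrimitiveVectorWith e (1 : K) := ⟨t.e_ne_zero, by rw [hje, one_smul], heje⟩
    have := P.pow_toEnd_f_eq_zero_of_eq_nat (n := 1) (by simp)
    simp only [pow_succ, pow_zero, one_mul, Module.End.mul_apply, LieModule.toEnd_apply_apply] at this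
    rw [← lie_skew, hgdef, this, neg_zero]
  have T : Tbl e f h g q a :=
    { he := t.lie_h_e_smul K
      hf := t.lie_lie_smul_f K
      ef := t.lie_e_f
      hg := by have := lie_h hg hh; rwa [LinearMap.sub_apply, hρh] at this
      hq := thq
      eg := by rw [← lie_skew, upper_kills b htop he hgu, neg_zero]
      eq := teq
      fg := tfg
      fq := hfq
      gq := hgq }
  let S := Submodule.span K ({e, f, h, g, q} : Set L)
  let A' : LieSubalgebra K L := { S with lie_mem' := fun {x y} hx hy => lie_mem_span T x hx y hy }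
  have hqA : q ∈ A := by
    have hgA : g ∈ A := hA ▸ LieSubalgebra.subset_lieSpan (Or.inr hg)
    have hfA : f ∈ A := hA ▸ LieSubalgebra.subset_lieSpan (Or.inl (Or.inr hf))
    have := A.smul_mem (-a)⁻¹ (A.lie_mem hfA hgA)
    rwa [T.fg, smul_smul, inv_mul_cancel₀ (neg_ne_zero.2 ha0), one_smul] at this
  have hAS : A.toSubmodule = S := by
    refine le_antisymm ?_ ?_
    · have : A ≤ A' := by
        rw [hA, LieSubalgebra.lieSpan_le]
        have mS : ∀ v ∈ ({e, f, h, g, q} : Set L), v ∈ S := fun v hv => Submodule.subset_span hv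
        rintro v ((hv | hv) | hv)
        · obtain ⟨c, rfl⟩ := mem_span_single hρ0 he hv t.e_ne_zero
          exact S.smul_mem _ (mS e (by simp))
        · obtain ⟨c, rfl⟩ := mem_span_single (neg_ne_zero.2 hρ0) hf hv t.f_ne_zero
          exact S.smul_mem _ (mS f (by simp))
        · obtain ⟨c, rfl⟩ := mem_span_single hμne hg hv hg0
          exact S.smul_mem _ (mS g (by simp))
      exact fun x hx => this hx
    · refine Submodule.span_le.2 ?_
      have heA : e ∈ A := hA ▸ LieSubalgebra.subset_lieSpan (Or.inl (Or.inl he))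
      have hfA : f ∈ A := hA ▸ LieSubalgebra.subset_lieSpan (Or.inl (Or.inr hf))
      have hgA : g ∈ A := hA ▸ LieSubalgebra.subset_lieSpan (Or.inr hg)
      intro v hv
      simp only [Set.mem_insert_iff, Set.mem_singleton_iff] at hv
      rcases hv with rfl | rfl | rfl | rfl | rfl
      · exact heA
      · exact hfA
      · exact t.lie_e_f ▸ A.lie_mem heA hfA
      · exact hgA
      · exact hqA
  -- distinct weights
  let wt : Fin 5 → Module.Dual K H := ![ρ, -ρ, 0, ρ - α, -α]
  let vec : Fin 5 → L := ![e, f, h, g, q]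
  have hneg : ∀ n : ι → ℕ, ∀ φ : Module.Dual K H, φ ≠ 0 → φ = ∑ i, n i • b.baseSupp i →
      ∀ l : ι → ℕ, φ ≠ -∑ i, l i • b.baseSupp i := by
    intro n φ hφ hn l hl
    apply hφ
    have e1 : ∑ i, (n i + l i) • b.baseSupp i = ∑ i, (0 : ι → ℕ) i • b.baseSupp i := by
      simp only [add_smul, Finset.sum_add_distrib, Pi.zero_apply, zero_smul, Finset.sum_const_zero]
      rw [← hn, hl, neg_add_cancel]
    rw [hn]
    exact Finset.sum_eq_zero fun i _ => by
      have := hlin _ _ e1 i
      simp only [Pi.zero_apply] at this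
      rw [show n i = 0 by omega, zero_smul]
  have hwt : Function.Injective wt := by
    have n1 : ρ ≠ -ρ := hneg m ρ hρ0 hm m |> fun h => by rwa [← hm] at h
    have n2 : ρ ≠ -α := by have := hneg m ρ hρ0 hm (Pi.single j 1); rwa [← fnsum] at this
    have n3 : ρ - α ≠ -ρ := by have := hneg p _ hμne hp m; rwa [← hm] at this
    have n4 : ρ - α ≠ -α := fun h0 => hρ0 (by simpa [sub_eq_add_neg] using h0)
    have n5 : ρ ≠ ρ - α := fun h0 => hα0 (by simpa using h0.symm)
    have n6 : -ρ ≠ -α := fun h0 => hμne (by rw [neg_inj.1 h0, sub_self])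
    intro x y hxy
    fin_cases x <;> fin_cases y <;> simp [wt] at hxy ⊢ <;>
      first
        | exact (n1 hxy) | exact (n1 hxy.symm) | exact (n2 hxy) | exact (n2 hxy.symm) | exact (n3 hxy)
        | exact (n3 hxy.symm) | exact (n4 hxy) | exact (n4 hxy.symm) | exact (n5 hxy) | exact (n5 hxy.symm)
        | exact (n6 (neg_inj.2 hxy)) | exact (n6 (neg_inj.2 hxy.symm)) | exact (hρ0 hxy) | exact (hρ0 hxy.symm)
        | exact (hα0 hxy) | exact (hα0 hxy.symm) | exact (hμne hxy) | exact (hμne hxy.symm) | exact (hμne (sub_eq_zero.2 hxy)) | exact (hμne (sub_eq_zero.2 hxy.symm))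
  have hvec : ∀ i, vec i ∈ rs (wt i) ∧ vec i ≠ 0 := by
    have hh0 : h ∈ rs (0 : Module.Dual K H) := by
      rw [show rs (0 : Module.Dual K H) = H.toLieSubmodule from LieAlgebra.rootSpace_zero_eq K L H]
      exact hH
    intro i
    fin_cases i
    exacts [⟨he, t.e_ne_zero⟩, ⟨hf, t.f_ne_zero⟩, ⟨hh0, t.h_ne_zero⟩, ⟨hg, hg0⟩, ⟨hq, (b.sl2 j).f_ne_zero⟩]
  have hli : LinearIndependent K vec := by
    refine iSupIndep.linearIndependent (fun i => (rs (wt i)).toSubmodule) ?_ (fun i => (hvec i).1) (fun i => (hvec i).2)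
    exact (LieSubmodule.iSupIndep_toSubmodule.2 (LieModule.iSupIndep_genWeightSpace K H L)).comp
      (f := fun i => (⇑(wt i) : H → K)) fun x y hxy => hwt (DFunLike.coe_injective hxy)
  have hrad := radical_eq T t.e_ne_zero A hAS
  refine ⟨?_, ?_, ?_⟩
  · show Module.finrank K A.toSubmodule = 5
    rw [hAS]
    show Module.finrank K (Submodule.span K ({e, f, h, g, q} : Set L)) = 5
    rw [← (show Set.range vec = ({e, f, h, g, q} : Set L) by
      simp only [vec, Matrix.range_cons, Matrix.range_empty, Set.union_empty, Set.singleton_union]),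
      finrank_span_eq_card hli, Fintype.card_fin]
  · show Module.finrank K (LieAlgebra.radical K A).toSubmodule = 2
    refine (Submodule.finrank_map_subtype_eq A.toSubmodule (LieAlgebra.radical K A).toSubmodule).symm.trans ?_
    rw [show (LieAlgebra.radical K A).toSubmodule.map A.toSubmodule.subtype = _ from hrad]
    have h2 : LinearIndependent K ![g, q] := by
      have := hli.comp ![3, 4] (by decide)
      convert this using 1
      ext i; fin_cases i <;> rfl
    rw [show ({g, q} : Set L) = Set.range ![g, q] by simp [Set.pair_comm], finrank_span_eq_card h2, Fintype.card_fin]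
  · rw [hrad]
    refine le_antisymm (Submodule.span_le.2 ?_) (sup_le ?_ ?_)
    · rintro v (rfl | rfl)
      · exact Submodule.mem_sup_left hg
      · exact Submodule.mem_sup_right hq
    · intro v hv
      obtain ⟨c, rfl⟩ := mem_span_single hμne hg hv hg0
      exact Submodule.smul_mem _ _ (Submodule.subset_span (by simp))
    · intro v hv
      obtain ⟨c, rfl⟩ := mem_span_single (neg_ne_zero.2 hα0) hq hv (b.sl2 j).f_ne_zero
      exact Submodule.smul_mem _ _ (Submodule.subset_span (by simp))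

end Groth.Agent.S17433
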