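import Groth.Statements.S1744
import Groth.Agent.LocCohLib.LocalCohomology
import Mathlib.Algebra.Category.ModuleCat.Projective
import Mathlib.Algebra.Homology.DerivedCategory.Ext.EnoughProjectives
import Mathlib.Algebra.Homology.DerivedCategory.Ext.EnoughInjectives

set_option autoImplicit false
universe u
open CategoryTheory
attribute [local instance] HasDerivedCategory.standard
open LocCoh

namespace Groth.Agent.S1744

open CategoryTheory Limits LocCohLib

variable {R : Type u} [CommRing R] (I : Ideal R)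

/-- The transition map. -/
noncomputable abbrev q {n m : ℕ} (h : n ≤ m) : ModuleCat.of R (R ⧸ I ^ m) ⟶ ModuleCat.of R (R ⧸ I ^ n) :=
  ModuleCat.ofHom (Submodule.mapQ (I ^ m) (I ^ n) LinearMap.id (Ideal.pow_le_pow_right h))

theorem q_comp {n m k : ℕ} (h : n ≤ m) (h' : m ≤ k) : q I h' ≫ q I h = q I (h.trans h') := by
  refine ModuleCat.hom_ext (Submodule.linearMap_qext _ ?_)
  exact LinearMap.ext fun x => rfl

open Abelian

theorem lift_aux (F G : ModuleCat.{u} R ⥤ ModuleCat.{u} R) (e : F ≅ G) (ι : G ⟶ 𝟭 _) {X Y : ModuleCat.{u} R}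
    (g : X ⟶ Y) (hepi : Epi (F.map g)) (c : G.obj Y) :
    ∃ d : G.obj X, g (ι.app X d) = ι.app Y c := by
  obtain ⟨v, hv⟩ := (ModuleCat.epi_iff_surjective _).1 hepi (e.inv.app Y c)
  refine ⟨e.hom.app X v, ?_⟩
  have h1 : (e.hom ≫ ι).app Y (F.map g v) = g ((e.hom ≫ ι).app X v) :=
    ConcreteCategory.congr_hom ((e.hom ≫ ι).naturality g) v
  refine h1.symm.trans ((congrArg (fun t => (e.hom ≫ ι).app Y t) hv).trans ?_)
  exact ConcreteCategory.congr_hom (Iso.inv_hom_id_app_assoc e Y (ι.app Y)) c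

theorem killed_base (S : ShortComplex (ModuleCat.{u} R)) (hS : S.ShortExact)
    (hN : IsZero (((lcDelta I).F 1).obj S.X₁)) {n : ℕ} (φ : ModuleCat.of R (R ⧸ I ^ n) ⟶ S.X₃) :
    ∃ (m : ℕ) (h : n ≤ m) (ψ : ModuleCat.of R (R ⧸ I ^ m) ⟶ S.X₂), q I h ≫ φ = ψ ≫ S.g := by
  have hc : φ.hom (Submodule.Quotient.mk 1) ∈ DRing.torsionSub I S.X₃ := ⟨n, fun a ha => by
    rw [← map_smul, ← Submodule.Quotient.mk_smul, smul_eq_mul, mul_one,
      (Submodule.Quotient.mk_eq_zero _).2 ha, map_zero]⟩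
  have hepi : Epi (((lcDelta I).F 0).map S.g) := ((lcDelta I).exact₃ hS 0).epi_f (hN.eq_of_tgt _ _)
  obtain ⟨⟨e, k, hk⟩, he⟩ := lift_aux _ _ (lcZeroIso I) (DRing.gammaIι I) S.g hepi ⟨_, hc⟩
  replace he : S.g.hom e = φ.hom (Submodule.Quotient.mk 1) := he
  refine ⟨n + k, Nat.le_add_right n k, ModuleCat.ofHom (Submodule.liftQ (I ^ (n + k))
    (LinearMap.toSpanSingleton R S.X₂ e) fun a ha =>
      LinearMap.mem_ker.2 (hk a (Ideal.pow_le_pow_right (Nat.le_add_left k n) ha))), ?_⟩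
  refine ModuleCat.hom_ext (Submodule.linearMap_qext _ (LinearMap.ext_ring ?_))
  show φ.hom (Submodule.Quotient.mk 1) = S.g.hom ((1 : R) • e)
  rw [one_smul]
  exact he.symm

/-- A class dies at a finite stage if local cohomology vanishes. -/
theorem exists_killed : ∀ (i : ℕ) (N : ModuleCat.{u} R), IsZero (((lcDelta I).F (i + 1)).obj N) →
    ∀ (n : ℕ) (x : Ext (ModuleCat.of R (R ⧸ I ^ n)) N (i + 1)),
      ∃ (m : ℕ) (h : n ≤ m), (Ext.mk₀ (q I h)).comp x (zero_add _) = 0 := by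
  intro i
  induction i with
  | zero =>
    intro N hN n x
    have hS := DeltaFun.under_shortExact (C := ModuleCat.{u} R) N
    haveI : Injective (DeltaFun.under (ModuleCat.{u} R) N).X₂ := inferInstanceAs (Injective (Injective.under N))
    obtain ⟨y, rfl⟩ := Ext.covariant_sequence_exact₁ _ hS x (Ext.eq_zero_of_injective _) (zero_add 1)
    obtain ⟨φ, rfl⟩ := (Ext.mk₀_bijective _ _).2 y
    obtain ⟨m, h, ψ, hψ⟩ := killed_base I _ hS hN φ
    refine ⟨m, h, ?_⟩
    refine (Ext.mk₀_comp_mk₀_assoc (q I h) φ _).trans ?_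
    rw [hψ]
    refine (Ext.mk₀_comp_mk₀_assoc ψ _ _).symm.trans ?_
    exact (congrArg (fun t => (Ext.mk₀ ψ).comp t (zero_add 1)) hS.comp_extClass).trans (Ext.comp_zero _ _ _ _ _)
  | succ i ih =>
    intro N hN n x
    have hS := DeltaFun.under_shortExact (C := ModuleCat.{u} R) N
    haveI : Injective (DeltaFun.under (ModuleCat.{u} R) N).X₂ := inferInstanceAs (Injective (Injective.under N))
    obtain ⟨y, rfl⟩ := Ext.covariant_sequence_exact₁ _ hS x (Ext.eq_zero_of_injective _) (n₀ := i + 1) rfl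
    have hC : IsZero (((lcDelta I).F (i + 1)).obj (DeltaFun.under (ModuleCat.{u} R) N).X₃) :=
      ShortComplex.Exact.isZero_X₂ ((lcDelta I).exact₃ hS (i + 1))
        ((lcDelta_effaceable I _ ‹_› i).eq_of_src _ _) (hN.eq_of_tgt _ _)
    obtain ⟨m, h, hm⟩ := ih _ hC n y
    exact ⟨m, h, (Ext.comp_assoc _ y _ (zero_add _) rfl (by omega)).symm.trans
      ((congrArg (fun t => t.comp hS.extClass rfl) hm).trans (Ext.zero_comp _ _ _ _ _))⟩

/-- Every class of degree `j + k` is pulled back from one universal class of degree `j`. -/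
theorem exists_universal (X : ModuleCat.{u} R) : ∀ j : ℕ, ∃ (K : ModuleCat.{u} R) (d : Ext X K j),
    ∀ (N : ModuleCat.{u} R) (k l : ℕ) (h : j + k = l) (x : Ext X N l), ∃ z : Ext K N k, d.comp z h = x := by
  intro j
  induction j with
  | zero =>
    refine ⟨X, Ext.mk₀ (𝟙 X), fun N k l h x => ?_⟩
    obtain rfl : k = l := by omega
    exact ⟨x, Ext.mk₀_id_comp x⟩
  | succ j ih =>
    obtain ⟨K, d, hd⟩ := ih
    let π : Projective.over K ⟶ K := Projective.π K
    let S : ShortComplex (ModuleCat.{u} R) := ShortComplex.mk (kernel.ι π) π (kernel.condition π)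
    have hS : S.ShortExact :=
      { exact := ShortComplex.exact_of_f_is_kernel _ (kernelIsKernel π)
        mono_f := inferInstanceAs (Mono (kernel.ι π))
        epi_g := inferInstanceAs (Epi (Projective.π K)) }
    refine ⟨S.X₁, d.comp hS.extClass rfl, fun N k l h x => ?_⟩
    obtain ⟨z, rfl⟩ := hd N (k + 1) l (by omega) x
    haveI : Projective S.X₂ := inferInstanceAs (Projective (Projective.over K))
    obtain ⟨z', rfl⟩ := Ext.contravariant_sequence_exact₃ hS N z (Ext.eq_zero_of_projective _)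
      (n₀ := k) (by omega)
    exact ⟨z', Ext.comp_assoc _ _ _ rfl (by omega) (by omega)⟩

/-- Let I be an ideal of a Noetherian ring A and e a natural number with cd(A, I) ≤ e. For every n ≥ 1
there is m > n such that for every A-module N and every i > e, precomposing with A/I^m → A/I^n kills
every map A/I^n → N[i] in D(A), i.e. the transition maps annihilate Ext^i_A(A/I^n, N) for i > e. -/
theorem result (A : Type u) [CommRing A] [IsNoetherianRing A] (I : Ideal A) (e : ℕ) (he : LocCoh.CdLE A I e) (n : ℕ) (hn : 1 ≤ n) : ∃ (m : ℕ) (hm : n < m), ∀ (N : Type u) [AddCommGroup N] [Module A N] (i : ℕ), e < i → ∀ φ : Dual.inD A (A ⧸ I ^ n) ⟶ (Dual.inD A N)⟦(i : ℤ)⟧, (DerivedCategory.singleFunctor (ModuleCat.{u} A) 0).map (ModuleCat.ofHom (Submodule.mapQ (I ^ m) (I ^ n) LinearMap.id (Ideal.pow_le_pow_right (Nat.le_of_lt hm)))) ≫ φ = 0 := by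
  obtain ⟨K, d, hd⟩ := exists_universal (ModuleCat.of A (A ⧸ I ^ n)) (e + 1)
  obtain ⟨m₀, h₀, hm₀⟩ := exists_killed I e K
    (ModuleCat.isZero_iff_subsingleton.2 (he K (e + 1) (Nat.lt_succ_self e))) n d
  have hm : n < m₀ + 1 := Nat.lt_succ_of_le h₀
  refine ⟨m₀ + 1, hm, fun N _ _ i hi φ => ?_⟩
  obtain ⟨x, hx⟩ := (Abelian.Ext.homEquiv (n := i) (X := ModuleCat.of A (A ⧸ I ^ n))
    (Y := ModuleCat.of A N)).surjective φ
  obtain ⟨z, rfl⟩ := hd _ (i - (e + 1)) i (by omega) x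
  have h1 : (Abelian.Ext.mk₀ (q I (Nat.le_of_lt hm))).comp (d.comp z (show e + 1 + (i - (e + 1)) = i by omega))
      (zero_add i) = 0 := by
    rw [← q_comp I h₀ (Nat.le_succ m₀), ← Abelian.Ext.mk₀_comp_mk₀_assoc,
      ← Abelian.Ext.comp_assoc (Abelian.Ext.mk₀ (q I h₀)) d z (zero_add _) (by omega) (by omega), hm₀,
      Abelian.Ext.zero_comp, Abelian.Ext.comp_zero]
  have h2 := congrArg Abelian.Ext.hom h1
  rw [Abelian.Ext.comp_hom, Abelian.Ext.mk₀_hom, Abelian.Ext.zero_hom, ShiftedHom.mk₀_comp] at h2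
  rw [← hx]
  exact h2

end Groth.Agent.S1744
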