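import Groth.Statements.S17442
import Groth.Agent.CubeConsLib.Poincare

set_option autoImplicit false
universe u
open CategoryTheory CategoryTheory.Limits MonoidalCategory CartesianMonoidalCategory MonObj GrpObj AlgebraicGeometry
open AbVar

namespace Groth.Agent.S17442

/-- Let k be a field, A an abelian variety over k (a proper smooth k-group scheme with geometrically
connected fibres), (A^t, φ) a given dual abelian variety of A for the fppf topology with A^t itself
an abelian variety, and P an invertible module on A ×_k A^t whose class is a Poincaré class (it lies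
in Pic⁰ fibrewise over A^t, corresponds to the identity of A^t under φ, and is rigidified along the
unit section of A). For a natural number n write [n] for the n-th power of the identity in the group
of endomorphisms of A, resp. of A^t. Then the pull back of P along id_A × [n] and the pull back of P
along [n] × id_{A^t} both have the same isomorphism class as the n-th tensor power of P. (The
published statement covers every integer n; only n ≥ 0 is stated here.) -/
theorem result (k : Type u) [Field k]
    (A At : Over (Spec (CommRingCat.of k))) [GrpObj A] [IsProper A.hom] [Smooth A.hom] [GeometricallyConnected A.hom]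
    [GrpObj At] [IsProper At.hom] [Smooth At.hom] [GeometricallyConnected At.hom]
    (φ : ∀ T : Over (Spec (CommRingCat.of k)), PicF.Cl (PicF.XT A.hom T) → (T ⟶ At))
    (hφ : AbDual.IsDualAV Scheme.fppfPrecoverage A At φ)
    (P : (PicF.XT A.hom At).Modules) (hP : PicF.IsInvertible P)
    (hξ : AbDual.IsPoincareCl A At φ (PicF.cl P)) (n : ℕ) :
    PicF.cl ((Scheme.Modules.pullback (PicF.XTmap A.hom (𝟙 At ^ n))).obj P) = PicF.cl (CohB1.tensorPow P n) ∧
      PicF.cl ((Scheme.Modules.pullback (AbDual.bcMap (𝟙 A ^ n) At)).obj P) = PicF.cl (CohB1.tensorPow P n) := by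
  have := CubeConsLib.geometricallyIntegral_of_smooth_group A
  have := CubeConsLib.geometricallyIntegral_of_smooth_group At
  have : LocallyOfFinitePresentation A.hom := LocallyOfFinitePresentation.iff_locallyOfFiniteType.2 inferInstance
  have : IsLocallyNoetherian At.left := LocallyOfFiniteType.isLocallyNoetherian At.hom
  have : IsReduced At.left := GeometricallyReduced.isReduced_of_flat_of_isLocallyNoetherian At.hom
  obtain ⟨hz, hφP, hrig⟩ := hξ
  have hs := CubeConsLib.clA_zero_of_trivialCl _ hP hrig
  have key := CubeConsLib.pullA_bcMap_pow (n := n) hP hz hs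
  have hb := AmpleDevLib.isInvertible_pb (AbDual.bcMap (𝟙 A ^ n) At) hP
  have ha := AmpleDevLib.isInvertible_pb (PicF.XTmap A.hom (𝟙 At ^ n)) hP
  have eb : CubeConsLib.clA hb = n • CubeConsLib.clA hP := by rw [← CubeConsLib.pullA_clA _ hP, key]
  have hφm : ∀ m : ℕ, φ At (PicF.pullCl (AbDual.bcMap (𝟙 A ^ m) At) (PicF.cl P)) = 𝟙 At ^ m := by
    intro m
    induction m with
    | zero => rw [pow_zero, pow_zero, CubeConsLib.phi_pullCl_one hφ At hz]
    | succ m ih => rw [pow_succ, pow_succ, CubeConsLib.phi_pullCl_mul hφ At hz, ih, CubeConsLib.bcMap_id,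
        CubeConsLib.pullCl_id, hφP]
  have e : CubeConsLib.clA ha = CubeConsLib.clA hb := by
    refine CubeConsLib.eq_of_phi_eq ‹AbDual.IsDualAV _ A At φ› ha hb (CubeConsLib.isPicZeroCl_XTmap _ hz)
      (CubeConsLib.isPicZeroCl_bcMap _ hz) ?_ ?_ ?_
    · rw [← CubeConsLib.pullA_clA _ hP, CubeConsLib.pullA_comp, CubeConsLib.secT_natural, ← CubeConsLib.pullA_comp,
        hs, map_zero]
    · rw [← CubeConsLib.pullA_clA _ hP, CubeConsLib.pullA_comp,
        CubeConsLib.secT_bcMap _ (by rw [MonObj.comp_pow, Category.comp_id, MonObj.one_eq_one, one_pow]), hs]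
    · show φ At (PicF.pullCl (PicF.XTmap A.hom (𝟙 At ^ n)) (PicF.cl P)) =
        φ At (PicF.pullCl (AbDual.bcMap (𝟙 A ^ n) At) (PicF.cl P))
      rw [hφm n, ‹AbDual.IsDualAV _ A At φ›.relPic.natural At At _ _ hz, hφP, Category.comp_id]
  rw [eb, ← CubeConsLib.clA_pow hP, CubeConsLib.clA_eq_iff] at e
  rw [← CubeConsLib.clA_pow hP, CubeConsLib.clA_eq_iff] at eb
  exact ⟨Quot.sound e, Quot.sound eb⟩

end Groth.Agent.S17442
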