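import Groth.Statements.S17443
import Groth.Agent.CubeConsLib.Poincare

set_option autoImplicit false
universe u
open CategoryTheory CategoryTheory.Limits MonoidalCategory CartesianMonoidalCategory MonObj GrpObj AlgebraicGeometry
open AbVar

namespace Groth.Agent.S17443

/-- Let k be a field, A an abelian variety over k (a proper smooth k-group scheme with geometrically
connected fibres), (A^t, φ) a given dual abelian variety of A for the fppf topology with A^t itself
an abelian variety, and P an invertible module on A ×_k A^t whose class is a Poincaré class (it lies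
in Pic⁰ fibrewise over A^t, corresponds to the identity of A^t under φ, and is rigidified along the
unit section of A). Write [-1] for the inverse of the identity in the group of endomorphisms of A,
resp. of A^t (the inversion). Then the pull back of P along id_A × [-1] and the pull back of P along
[-1] × id_{A^t} are both inverse to P: their tensor products with P have the class of the structure
sheaf. (This is the case n = -1 of the published statement, which asserts (id_A × [n])^*P ≅ P^{⊗n} ≅
([n] × id_{A^t})^*P for every integer n; together with the case n ≥ 0 it yields every integer n.) -/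
theorem result (k : Type u) [Field k]
    (A At : Over (Spec (CommRingCat.of k))) [GrpObj A] [IsProper A.hom] [Smooth A.hom] [GeometricallyConnected A.hom]
    [GrpObj At] [IsProper At.hom] [Smooth At.hom] [GeometricallyConnected At.hom]
    (φ : ∀ T : Over (Spec (CommRingCat.of k)), PicF.Cl (PicF.XT A.hom T) → (T ⟶ At))
    (hφ : AbDual.IsDualAV Scheme.fppfPrecoverage A At φ)
    (P : (PicF.XT A.hom At).Modules) (hP : PicF.IsInvertible P)
    (hξ : AbDual.IsPoincareCl A At φ (PicF.cl P)) :
    PicF.IsTrivialCl (PicF.cl (CohB1.tensorMod ((Scheme.Modules.pullback (PicF.XTmap A.hom (𝟙 At)⁻¹)).obj P) P)) ∧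
      PicF.IsTrivialCl (PicF.cl (CohB1.tensorMod ((Scheme.Modules.pullback (AbDual.bcMap (𝟙 A)⁻¹ At)).obj P) P)) := by
  have := CubeConsLib.geometricallyIntegral_of_smooth_group A
  have := CubeConsLib.geometricallyIntegral_of_smooth_group At
  have : LocallyOfFinitePresentation A.hom := LocallyOfFinitePresentation.iff_locallyOfFiniteType.2 inferInstance
  have : IsLocallyNoetherian At.left := LocallyOfFiniteType.isLocallyNoetherian At.hom
  have : IsReduced At.left := GeometricallyReduced.isReduced_of_flat_of_isLocallyNoetherian At.hom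
  obtain ⟨hz, hφP, hrig⟩ := hξ
  have hs := CubeConsLib.clA_zero_of_trivialCl _ hP hrig
  have hb := AmpleDevLib.isInvertible_pb (AbDual.bcMap (𝟙 A)⁻¹ At) hP
  have ha := AmpleDevLib.isInvertible_pb (PicF.XTmap A.hom (𝟙 At)⁻¹) hP
  have eb : CubeConsLib.clA hb + CubeConsLib.clA hP = 0 := by
    have h := CubeConsLib.pullA_bcMap_mul hP hz hs (𝟙 A)⁻¹ (𝟙 A)
    rw [inv_mul_cancel, CubeConsLib.bcMap_one, ← CubeConsLib.pullA_comp, hs, map_zero, CubeConsLib.bcMap_id,
      CubeConsLib.pullA_id, CubeConsLib.pullA_clA _ hP] at h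
    exact h.symm
  have hφinv : φ At (PicF.pullCl (AbDual.bcMap (𝟙 A)⁻¹ At) (PicF.cl P)) = (𝟙 At)⁻¹ := by
    have h := CubeConsLib.phi_pullCl_mul hφ At hz (𝟙 A)⁻¹ (𝟙 A)
    rw [inv_mul_cancel, CubeConsLib.phi_pullCl_one hφ At hz, CubeConsLib.bcMap_id, CubeConsLib.pullCl_id, hφP] at h
    exact eq_inv_of_mul_eq_one_left h.symm
  have e : CubeConsLib.clA ha = CubeConsLib.clA hb := by
    refine CubeConsLib.eq_of_phi_eq hφ ha hb (CubeConsLib.isPicZeroCl_XTmap _ hz)
      (CubeConsLib.isPicZeroCl_bcMap _ hz) ?_ ?_ ?_
    · rw [← CubeConsLib.pullA_clA _ hP, CubeConsLib.pullA_comp, CubeConsLib.secT_natural, ← CubeConsLib.pullA_comp,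
        hs, map_zero]
    · rw [← CubeConsLib.pullA_clA _ hP, CubeConsLib.pullA_comp,
        CubeConsLib.secT_bcMap _ (by rw [GrpObj.comp_inv, Category.comp_id, MonObj.one_eq_one, inv_one]), hs]
    · show φ At (PicF.pullCl (PicF.XTmap A.hom (𝟙 At)⁻¹) (PicF.cl P)) =
        φ At (PicF.pullCl (AbDual.bcMap (𝟙 A)⁻¹ At) (PicF.cl P))
      rw [hφinv, hφ.relPic.natural At At _ _ hz, hφP, Category.comp_id]
  have ea : CubeConsLib.clA ha + CubeConsLib.clA hP = 0 := by rw [e, eb]
  rw [← CubeConsLib.clA_tensor, ← CubeConsLib.clA_one, CubeConsLib.clA_eq_iff] at ea eb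
  exact ⟨Quot.sound ea, Quot.sound eb⟩

end Groth.Agent.S17443
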