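import Groth.Statements.S17444
import Mathlib.RingTheory.Nilpotent.Basic
import Mathlib.Algebra.Algebra.Basic
import Mathlib.RingTheory.Nilpotent.Lemmas

set_option autoImplicit false
universe u v
open SSRed

namespace Groth.Agent.S17444

/-- Let K be a field of characteristic zero, V a K-vector space and g a K-linear endomorphism of V such
that g - 1 is nilpotent (a unipotent automorphism). Then for every integer n > 0 the endomorphisms
gⁿ - 1 and g - 1 have the same kernel: a vector fixed by gⁿ is fixed by g. (The published statement
assumes V finite-dimensional; this row allows any V.) -/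
theorem result (K : Type u) (V : Type v) [Field K] [CharZero K]
    [AddCommGroup V] [Module K V] (g : Module.End K V) (hg : IsNilpotent (g - 1)) (n : ℕ) (hn : 0 < n) :
    LinearMap.ker (g ^ n - 1) = LinearMap.ker (g - 1) := by
  let u : Module.End K V := ∑ i ∈ Finset.range n, g ^ i
  let w : Module.End K V := ∑ i ∈ Finset.range n, ∑ j ∈ Finset.range i, g ^ j
  have hu : IsUnit u := by
    have e : u = (w * (g - 1)) + (n : Module.End K V) := by
      have h1 : w * (g - 1) = ∑ i ∈ Finset.range n, (g ^ i - 1) :=
        (Finset.sum_mul _ _ _).trans (Finset.sum_congr rfl fun i _ => geom_sum_mul g i)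
      rw [h1, Finset.sum_sub_distrib, Finset.sum_const, Finset.card_range, nsmul_eq_mul, mul_one, sub_add_cancel]
    have hc : Commute w (g - 1) := Commute.sum_left _ _ _ fun i _ => Commute.sum_left _ _ _ fun j _ =>
      ((Commute.refl g).pow_left j).sub_right (Commute.one_right _)
    have hn' : IsUnit (n : Module.End K V) := by
      rw [← map_natCast (algebraMap K (Module.End K V))]
      exact (isUnit_iff_ne_zero.2 (Nat.cast_ne_zero.2 hn.ne')).map _
    rw [e]
    exact (hc.isNilpotent_mul_left hg).isUnit_add_right_of_commute hn' (Nat.cast_commute _ _).symm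
  have hfac : g ^ n - 1 = u * (g - 1) := (geom_sum_mul g n).symm
  obtain ⟨u', hu'⟩ := hu
  ext v
  rw [LinearMap.mem_ker, LinearMap.mem_ker, hfac, Module.End.mul_apply]
  constructor
  · intro h
    have h2 := congrArg (fun z => (↑u'⁻¹ : Module.End K V) z) h
    simp only [map_zero] at h2
    rwa [← hu', ← Module.End.mul_apply, Units.inv_mul, Module.End.one_apply] at h2
  · intro h
    rw [h, map_zero]

end Groth.Agent.S17444
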