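import Groth.Statements.S17445
import Mathlib.NumberTheory.LSeries.PrimesInAP
import Mathlib.NumberTheory.Multiplicity
import Mathlib.RingTheory.ZMod.UnitsCyclic
import Mathlib.Data.Nat.Factorization.Basic
import Mathlib.FieldTheory.Finite.Basic

set_option autoImplicit false
open Finset
open SSRed

namespace Groth.Agent.S17445

/-- For natural numbers g and B with B ≥ 2g + 1, a natural number d divides ∏_{a=1}^{g} (ℓ^{2a} - 1) for
every prime ℓ > B if and only if d divides N(g) = 2^{3g + v₂(g!)} · ∏_{3 ≤ p ≤ 2g+1, p prime}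
p^{[2g/(p-1)] + Σ_{1 ≤ i ≤ [2g/(p-1)]} v_p(i)}. In words: N(g) is the greatest common divisor of
these products as ℓ runs through the primes beyond any bound that is at least 2g + 1; its prime
factors are the primes p ≤ 2g + 1. (This is the number N(g) of the published result, which bounds
the degree of the field of semistable reduction of a g-dimensional abelian variety over a strictly
henselian discretely valued field; the printed phrase is the greatest common divisor over all large
primes, made precise here by the bound 2g + 1, below which a prime ℓ ≤ 2g + 1 divides N(g) but not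
its own product.) -/
theorem result (g B d : ℕ) (hB : 2 * g + 1 ≤ B) :
    (∀ ℓ : ℕ, ℓ.Prime → B < ℓ → d ∣ ∏ a ∈ Icc 1 g, (ℓ ^ (2 * a) - 1)) ↔
      d ∣ 2 ^ (3 * g + padicValNat 2 g.factorial) *
        ∏ p ∈ (Icc 3 (2 * g + 1)).filter Nat.Prime,
          p ^ ((2 * g) / (p - 1) + ∑ i ∈ Icc 1 ((2 * g) / (p - 1)), padicValNat p i) := by
  classical
  let c : ℕ → ℕ → ℕ := fun p a =>
    if p = 2 then 3 + padicValNat 2 a else if (p - 1) ∣ 2 * a then 1 + padicValNat p (2 * a) else 0
  let e : ℕ → ℕ := fun p => ∑ a ∈ Icc 1 g, c p a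
  have hfac : ∀ p ℓ : ℕ, p.Prime → ℓ.Prime → ∀ k, p ^ k ∣ ∏ a ∈ Icc 1 g, (ℓ ^ (2 * a) - 1) ↔
      k ≤ ∑ a ∈ Icc 1 g, padicValNat p (ℓ ^ (2 * a) - 1) := by
    intro p ℓ hp hl k
    have hne : ∀ a ∈ Icc 1 g, ℓ ^ (2 * a) - 1 ≠ 0 := fun a ha => by
      have := Nat.one_lt_pow (n := 2 * a) (by simp at ha; omega) hl.one_lt
      omega
    rw [hp.pow_dvd_iff_le_factorization (Finset.prod_ne_zero_iff.2 hne), Nat.factorization_prod_apply hne]
    simp [Nat.factorization_def _ hp]
  have hlow : ∀ p : ℕ, p.Prime → ∀ ℓ : ℕ, ℓ.Prime → B < ℓ → ∀ a ∈ Icc 1 g,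
      c p a ≤ padicValNat p (ℓ ^ (2 * a) - 1) := by
    intro p hp ℓ hl hBl a ha
    haveI := Fact.mk hp
    simp only [Finset.mem_Icc] at ha
    have hne : ℓ ^ (2 * a) - 1 ≠ 0 := by
      have := Nat.one_lt_pow (n := 2 * a) (by omega) hl.one_lt
      omega
    simp only [c]
    split_ifs with h2 hdvd
    · subst h2
      have := padicValNat.pow_two_sub_one_ge (x := ℓ) (n := 2 * a) hl.one_lt
        (fun h => by have := (Nat.prime_dvd_prime_iff_eq Nat.prime_two hl).1 h; omega) (by omega) (even_two_mul a)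
      rw [padicValNat.mul (by omega) (by omega), padicValNat.self (by omega)] at this
      omega
    · have hp2g : p ≤ 2 * g + 1 := by
        have := Nat.le_of_dvd (by omega) hdvd
        omega
      have hcop : Nat.Coprime ℓ p := (Nat.coprime_primes hl hp).2 (by omega)
      refine (padicValNat_dvd_iff_le hne).1 ?_
      have hphi : Nat.totient (p ^ (padicValNat p (2 * a) + 1)) ∣ 2 * a := by
        rw [Nat.totient_prime_pow hp (by omega), Nat.add_sub_cancel]
        refine Nat.Coprime.mul_dvd_of_dvd_of_dvd ?_ pow_padicValNat_dvd hdvd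
        exact Nat.Coprime.pow_left _ ((Nat.Prime.coprime_iff_not_dvd hp).2 fun h => by
          have h1 := Nat.le_of_dvd (by have := hp.two_le; omega) h
          have := hp.two_le
          omega)
      rw [← Nat.modEq_iff_dvd' (Nat.one_le_pow _ _ hl.pos), add_comm]
      obtain ⟨m, hm⟩ := hphi
      conv_rhs => rw [hm, pow_mul]
      have h1 := (Nat.ModEq.pow_totient (hcop.pow_right (padicValNat p (2 * a) + 1))).pow m
      rw [one_pow] at h1
      exact h1.symm
    · exact Nat.zero_le _
  have hupp : ∀ p : ℕ, p.Prime → ∃ ℓ : ℕ, ℓ.Prime ∧ B < ℓ ∧ ∀ a ∈ Icc 1 g,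
      padicValNat p (ℓ ^ (2 * a) - 1) ≤ c p a := by
    intro p hp
    haveI := Fact.mk hp
    by_cases h2 : p = 2
    · subst h2
      obtain ⟨ℓ, hlB, hl, hl3⟩ := Nat.forall_exists_prime_gt_and_eq_mod (q := 8) (a := 3) (by decide) B
      refine ⟨ℓ, hl, hlB, fun a ha => ?_⟩
      simp only [Finset.mem_Icc] at ha
      have h8 : ℓ % 8 = 3 := by
        have := congrArg ZMod.val hl3
        rw [ZMod.val_natCast] at this
        exact this
      have hv := padicValNat.pow_two_sub_one (x := ℓ) (n := 2 * a) hl.one_lt (by omega) (by omega) (even_two_mul a)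
      have hA : padicValNat 2 (ℓ + 1) = 2 := by
        obtain ⟨m, hm⟩ : ∃ m, ℓ + 1 = 2 ^ 2 * m := ⟨(ℓ + 1) / 4, by omega⟩
        rw [hm, padicValNat.mul (by norm_num) (by omega), padicValNat.prime_pow,
          padicValNat.eq_zero_of_not_dvd (n := m) (by omega)]
      have hB : padicValNat 2 (ℓ - 1) = 1 := by
        obtain ⟨m, hm⟩ : ∃ m, ℓ - 1 = 2 * m := ⟨(ℓ - 1) / 2, by omega⟩
        rw [hm, padicValNat.mul (by omega) (by omega), padicValNat.self (by omega),
          padicValNat.eq_zero_of_not_dvd (n := m) (by omega)]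
      rw [hA, hB, padicValNat.mul (by omega) (by omega), padicValNat.self (by omega)] at hv
      simp only [c, if_pos rfl]
      omega
    · set M := 2 * g + 2
      haveI : NeZero (p ^ M) := ⟨pow_ne_zero _ hp.ne_zero⟩
      obtain ⟨u, hu⟩ := (ZMod.isCyclic_units_of_prime_pow p hp h2 M).exists_generator
      obtain ⟨ℓ, hlB, hl, hlu⟩ := Nat.forall_exists_prime_gt_and_eq_mod (q := p ^ M) (a := (u : ZMod (p ^ M))) u.isUnit B
      refine ⟨ℓ, hl, hlB, fun a ha => ?_⟩
      simp only [Finset.mem_Icc] at ha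
      have hne : ℓ ^ (2 * a) - 1 ≠ 0 := by
        have := Nat.one_lt_pow (n := 2 * a) (by omega) hl.one_lt
        omega
      by_contra hcon
      push Not at hcon
      set k := c p a + 1 with hk
      have hkM : k ≤ M := by
        have hle : padicValNat p (2 * a) ≤ 2 * a := (padicValNat_le_nat_log _).trans (Nat.log_le_self _ _)
        simp only [hk, c, if_neg h2]
        split_ifs <;> omega
      haveI : NeZero (p ^ k) := ⟨pow_ne_zero _ hp.ne_zero⟩
      have hd : p ^ k ∣ ℓ ^ (2 * a) - 1 := (padicValNat_dvd_iff_le hne).2 hcon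
      have heq : ((ℓ : ZMod (p ^ k))) ^ (2 * a) = 1 := by
        have := (ZMod.natCast_eq_natCast_iff _ _ _).2 ((Nat.modEq_iff_dvd' (Nat.one_le_pow _ _ hl.pos)).2 hd)
        simpa using this.symm
      let π := ZMod.unitsMap (pow_dvd_pow p hkM)
      have hπu : ((π u : (ZMod (p ^ k))ˣ) : ZMod (p ^ k)) = (ℓ : ZMod (p ^ k)) := by
        show ZMod.castHom (pow_dvd_pow p hkM) (ZMod (p ^ k)) (u : ZMod (p ^ M)) = _
        rw [← hlu, map_natCast]
      have hord : orderOf (π u) = Nat.totient (p ^ k) := by
        rw [← ZMod.card_units_eq_totient, ← Nat.card_eq_fintype_card]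
        refine orderOf_eq_card_of_forall_mem_zpowers fun x => ?_
        obtain ⟨y, rfl⟩ := ZMod.unitsMap_surjective (pow_dvd_pow p hkM) x
        obtain ⟨n, rfl⟩ := Subgroup.mem_zpowers_iff.1 (hu y)
        exact Subgroup.mem_zpowers_iff.2 ⟨n, (map_zpow _ _ _).symm⟩
      have hdiv : Nat.totient (p ^ k) ∣ 2 * a := by
        rw [← hord]
        refine orderOf_dvd_of_pow_eq_one (Units.ext ?_)
        rw [Units.val_pow_eq_pow_val, hπu, heq, Units.val_one]
      rw [Nat.totient_prime_pow hp (by omega)] at hdiv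
      have hp1 : p - 1 ∣ 2 * a := (dvd_mul_left _ _).trans hdiv
      have hk' : k = 1 + padicValNat p (2 * a) + 1 := by simp [hk, c, h2, hp1]
      have hpw : p ^ (padicValNat p (2 * a) + 1) ∣ 2 * a := by
        refine dvd_trans ?_ ((dvd_mul_right _ _).trans hdiv)
        rw [hk', show 1 + padicValNat p (2 * a) + 1 - 1 = padicValNat p (2 * a) + 1 by omega]
      exact pow_succ_padicValNat_not_dvd (by omega) hpw
  have hcond : (∀ ℓ : ℕ, ℓ.Prime → B < ℓ → d ∣ ∏ a ∈ Icc 1 g, (ℓ ^ (2 * a) - 1)) ↔
      ∀ p k : ℕ, p.Prime → p ^ k ∣ d → k ≤ e p := by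
    constructor
    · intro h p k hp hpk
      obtain ⟨ℓ, hl, hlB, hle⟩ := hupp p hp
      exact ((hfac p ℓ hp hl k).1 (hpk.trans (h ℓ hl hlB))).trans (Finset.sum_le_sum hle)
    · intro h ℓ hl hlB
      refine (Nat.dvd_iff_prime_pow_dvd_dvd _ _).2 fun p k hp hpk => (hfac p ℓ hp hl k).2 ?_
      exact (h p k hp hpk).trans (Finset.sum_le_sum (hlow p hp ℓ hl hlB))
  rw [hcond, Nat.dvd_iff_prime_pow_dvd_dvd]
  set F := (Icc 3 (2 * g + 1)).filter Nat.Prime with hF
  set f : ℕ → ℕ := fun p => (2 * g) / (p - 1) + ∑ i ∈ Icc 1 ((2 * g) / (p - 1)), padicValNat p i with hf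
  have hFne : ∀ q ∈ F, q ^ f q ≠ 0 := fun q hq => pow_ne_zero _ (Finset.mem_filter.1 hq).2.ne_zero
  have hN : ∀ p : ℕ, p.Prime → (2 ^ (3 * g + padicValNat 2 g.factorial) * ∏ q ∈ F, q ^ f q).factorization p = e p := by
    intro p hp
    rw [Nat.factorization_mul (pow_ne_zero _ two_ne_zero) (Finset.prod_ne_zero_iff.2 hFne), Finsupp.add_apply,
      Nat.factorization_prod_apply hFne, Nat.Prime.factorization_pow Nat.prime_two,
      Finset.sum_congr rfl fun q hq => by
        rw [Nat.Prime.factorization_pow (Finset.mem_filter.1 hq).2, Finsupp.single_apply]]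
    rw [Finset.sum_ite_eq', Finsupp.single_apply]
    by_cases h2 : p = 2
    · subst h2
      rw [if_pos rfl, if_neg (by simp [hF]), add_zero]
      simp only [e, c, if_pos rfl]
      clear * -
      haveI := Fact.mk Nat.prime_two
      induction g with
      | zero => simp
      | succ g ih =>
        rw [Finset.sum_Icc_succ_top (by omega), ← ih, Nat.factorial_succ,
          padicValNat.mul (by omega) (Nat.factorial_ne_zero g)]
        simp only [if_true]
        omega
    · rw [if_neg (Ne.symm h2), zero_add]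
      have hp3 : 3 ≤ p := by have := hp.two_le; omega
      haveI := Fact.mk hp
      have he : e p = f p := by
        simp only [e, c, if_neg h2, hf]
        rw [← Finset.sum_filter, Finset.sum_add_distrib, Finset.sum_const, smul_eq_mul, mul_one]
        obtain ⟨r, hr⟩ : 2 ∣ p - 1 := by
          have := hp.odd_of_ne_two h2
          rw [Nat.odd_iff] at this
          omega
        have hbij : ∀ φ : ℕ → ℕ, ∑ a ∈ (Icc 1 g).filter (fun a => p - 1 ∣ 2 * a), φ (2 * a) =
            ∑ i ∈ Icc 1 ((2 * g) / (p - 1)), φ ((p - 1) * i) := by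
          intro φ
          refine Finset.sum_nbij' (fun a => 2 * a / (p - 1)) (fun i => r * i) ?_ ?_ ?_ ?_ ?_
          · intro a ha
            obtain ⟨ha1, m, hm⟩ := Finset.mem_filter.1 ha
            simp only [Finset.mem_Icc, Finset.mem_coe] at ha1 ⊢
            exact ⟨Nat.div_pos (Nat.le_of_dvd (by omega) ⟨m, hm⟩) (by omega), Nat.div_le_div_right (by omega)⟩
          · intro i hi
            simp only [Finset.mem_Icc, Finset.mem_coe, Finset.mem_filter] at hi ⊢
            have h1 := (Nat.le_div_iff_mul_le (by omega)).1 hi.2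
            rw [hr] at h1 ⊢
            refine ⟨⟨Nat.one_le_iff_ne_zero.2 (Nat.mul_ne_zero (by omega) (by omega)), by nlinarith⟩, ⟨i, by ring⟩⟩
          · intro a ha
            obtain ⟨-, m, hm⟩ := Finset.mem_filter.1 ha
            rw [hm, Nat.mul_div_cancel_left _ (by omega)]
            rw [hr] at hm
            nlinarith
          · intro i hi
            rw [show 2 * (r * i) = (p - 1) * i by rw [hr]; ring, Nat.mul_div_cancel_left _ (by omega)]
          · intro a ha
            obtain ⟨-, hm⟩ := Finset.mem_filter.1 ha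
            show φ (2 * a) = φ ((p - 1) * (2 * a / (p - 1)))
            rw [Nat.mul_div_cancel' hm]
        congr 1
        · have := hbij fun _ => 1
          simpa using this
        · rw [hbij (padicValNat p)]
          refine Finset.sum_congr rfl fun i hi => ?_
          simp only [Finset.mem_Icc] at hi
          rw [padicValNat.mul (by omega) (by omega), padicValNat.eq_zero_of_not_dvd (n := p - 1) (fun h => by
            have := Nat.le_of_dvd (by omega) h
            omega), zero_add]
      rw [he]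
      split_ifs with hmem
      · rfl
      · have : ¬ p ≤ 2 * g + 1 := fun hle => hmem (by simp [hF, hp, hp3, hle])
        simp [hf, Nat.div_eq_of_lt (show 2 * g < p - 1 by omega)]
  constructor
  · intro h p k hp hpk
    rw [hp.pow_dvd_iff_le_factorization (mul_ne_zero (pow_ne_zero _ two_ne_zero) (Finset.prod_ne_zero_iff.2 hFne)), hN p hp]
    exact h p k hp hpk
  · intro h p k hp hpk
    have := h p k hp hpk
    rwa [hp.pow_dvd_iff_le_factorization (mul_ne_zero (pow_ne_zero _ two_ne_zero) (Finset.prod_ne_zero_iff.2 hFne)), hN p hp] at this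

end Groth.Agent.S17445
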