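import Groth.Statements.S17447
import Groth.Agent.EtLocLib.Henselian
-- import your own Groth.Agent.* helpers here

set_option autoImplicit false
universe u
open CategoryTheory CategoryTheory.Limits AlgebraicGeometry
open Hensel

namespace Groth.Agent.S17447

/-- Let R be a henselian local ring and X → Spec R a quasi-finite separated morphism (locally of finite
type, quasi-compact, with discrete fibres). Then X decomposes uniquely as the disjoint union of an
open and closed subscheme finite over Spec R and an open and closed subscheme with empty special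
fibre: there is exactly one open subset W of X which is closed, finite over Spec R (as an open
subscheme) and contains every point lying over the closed point of Spec R. (No Noetherian hypothesis
on R.) -/
theorem result (R : Type u) [CommRing R] [HenselianLocalRing R]
    {X : Scheme.{u}} (f : X ⟶ Spec (CommRingCat.of R))
    [LocallyQuasiFinite f] [LocallyOfFiniteType f] [QuasiCompact f] [IsSeparated f] :
    ∃! W : X.Opens, IsClosed (W : Set X) ∧ IsFinite (W.ι ≫ f) ∧
      ∀ x : X, f.base x = IsLocalRing.closedPoint R → x ∈ W := by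
  obtain ⟨W, hWc, hWf, hW⟩ := EtLocLib.exists_clopen_finite_henselian f
  refine ⟨W, ⟨hWc, hWf, hW⟩, ?_⟩
  rintro W' ⟨hWc', hWf', hW'⟩
  have key : ∀ V V' : X.Opens, IsClosed (V' : Set X) → IsFinite (V.ι ≫ f) →
      (∀ x : X, f.base x = IsLocalRing.closedPoint R → x ∈ V') → V ≤ V' := by
    intro V V' hc hf hcl x hx
    by_contra hx'
    haveI := hf
    have hclosed : IsClosed ((V.ι ≫ f).base '' (V.ι.base ⁻¹' (V' : Set X)ᶜ)) :=
      (V.ι ≫ f).isClosedMap _ (V'.2.isClosed_compl.preimage V.ι.continuous)
    obtain ⟨⟨y, hy⟩, hyV', hye⟩ : IsLocalRing.closedPoint R ∈ (V.ι ≫ f).base '' (V.ι.base ⁻¹' (V' : Set X)ᶜ) :=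
      (IsLocalRing.specializes_closedPoint (R := R) _).mem_closed hclosed ⟨(⟨x, hx⟩ : V), hx', rfl⟩
    exact hyV' (hcl y hye)
  exact le_antisymm (key W' W hWc hWf' hW) (key W W' hWc' hWf hW')

end Groth.Agent.S17447
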