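import Groth.Statements.S17449
import Groth.Agent.DvrProperLib.GeomConnApps
-- import your own Groth.Agent.* helpers here

set_option autoImplicit false
universe u
open CategoryTheory CategoryTheory.Limits AlgebraicGeometry
open Stein

namespace Groth.Agent.S17449

/-- Let S be a Noetherian scheme and f : X → S a proper, flat and surjective morphism. Suppose that for
every generic point η of an irreducible component of S the fibre of f at η is geometrically
connected and smooth over the residue field κ(η). Then every fibre of f is geometrically connected. -/
theorem result {X S : Scheme.{u}}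
    (f : X ⟶ S) [IsProper f] [Flat f] [Surjective f] [IsNoetherian S]
    (h : ∀ (Z : Set ↑S) (η : ↑S), Z ∈ irreducibleComponents ↑S → IsGenericPoint η Z →
      GeometricallyConnected (f.fiberToSpecResidueField η) ∧ Smooth (f.fiberToSpecResidueField η)) :
    GeometricallyConnected f := by
  have key : ∀ η : S, (∀ η' : S, η' ⤳ η → η' = η) →
      GeometricallyConnected (f.fiberToSpecResidueField η) := fun η hη ↦ by
    obtain ⟨η', hη', hs⟩ := DvrDomLib.exists_generic_specializes η
    obtain rfl := hη η' hs
    exact (h _ η' hη' rfl).1
  refine ⟨fun K _ y Z fst snd hZ ↦ ?_⟩
  have := DvrProperLib.connectedSpace_pullback_of_maximal f key K y (f.surjective _)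
  exact (Scheme.homeoOfIso hZ.isoPullback).symm.surjective.connectedSpace
    (Scheme.homeoOfIso hZ.isoPullback).symm.continuous

end Groth.Agent.S17449
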