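import Groth.Statements.S1745
import Mathlib

-- import your own Groth.Agent.* helpers here

set_option autoImplicit false
universe u
open scoped TensorProduct
open InjHull

namespace Groth.Agent.S1745

/-- Let A → B be a flat homomorphism of Noetherian rings such that for every prime q of B with
contraction p, the ideal p B_q equals the maximal ideal q B_q of B_q (for instance an étale map).
Then for every injective A-module I the B-module B ⊗_A I is injective. -/
theorem result (A B : Type u) [CommRing A] [CommRing B] [Algebra A B] [IsNoetherianRing A] [IsNoetherianRing B] [Module.Flat A B] (h : ∀ q : PrimeSpectrum B, Ideal.map (algebraMap B (Localization.AtPrime q.asIdeal)) ((q.asIdeal.comap (algebraMap A B)).map (algebraMap A B)) = IsLocalRing.maximalIdeal (Localization.AtPrime q.asIdeal)) (I : Type u) [AddCommGroup I] [Module A I] [Module.Injective A I] : Module.Injective B (B ⊗[A] I) := by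
  classical
  let J := B ⊗[A] I
  refine Module.Baer.injective ?_
  suffices key : ∀ L : Ideal B, ∀ f : L →ₗ[B] J, ∃ w : J, ∀ x : L, f x = (x : B) • w by
    intro L f
    obtain ⟨w, hw⟩ := key L f
    exact ⟨LinearMap.toSpanSingleton B J w, fun x hx => (hw ⟨x, hx⟩).symm⟩
  intro L
  induction L using (wellFounded_gt (α := Ideal B)).induction with
  | _ L ih =>
  intro f
  have ext : ∀ (x : B), x ∉ L → ∀ (g : L →ₗ[B] J) (w : J),
      (∀ (c : B) (hc : c * x ∈ L), g ⟨c * x, hc⟩ = c • w) → ∃ w', ∀ z : L, g z = (z : B) • w' := by
    intro x hx g w hgw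
    let L' : Ideal B := L ⊔ Ideal.span {x}
    have hlt : L < L' := lt_of_le_of_ne le_sup_left fun h' =>
      hx (h' ▸ (Ideal.mem_sup_right (Ideal.mem_span_singleton_self x) : x ∈ L'))
    let π : (L × B) →ₗ[B] L' := LinearMap.codRestrict L'
      ((Submodule.subtype L).coprod (LinearMap.toSpanSingleton B B x)) (fun z =>
        Submodule.add_mem_sup z.1.2 (Ideal.mem_span_singleton'.2 ⟨z.2, rfl⟩))
    have hπ : Function.Surjective π := by
      rintro ⟨z, hz⟩
      obtain ⟨l, hl, r, hr, rfl⟩ := Submodule.mem_sup.1 hz
      obtain ⟨c, rfl⟩ := Ideal.mem_span_singleton'.1 hr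
      exact ⟨(⟨l, hl⟩, c), Subtype.ext rfl⟩
    let G : (L × B) →ₗ[B] J := g.coprod (LinearMap.toSpanSingleton B J w)
    have hker : LinearMap.ker π ≤ LinearMap.ker G := by
      rintro ⟨l, c⟩ hz
      have hz' : (l : B) + c * x = 0 := congrArg Subtype.val hz
      have hc : c * x ∈ L := by
        rw [← neg_eq_of_add_eq_zero_right hz']
        exact L.neg_mem l.2
      have hl : l = -(⟨c * x, hc⟩ : L) := Subtype.ext (eq_neg_of_add_eq_zero_left hz')
      show g l + c • w = 0
      rw [hl, map_neg, hgw, neg_add_cancel]
    let G' : L' →ₗ[B] J := (LinearMap.ker π).liftQ G hker ∘ₗ (π.quotKerEquivOfSurjective hπ).symm.toLinearMap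
    obtain ⟨w', hw'⟩ := ih L' hlt G'
    refine ⟨w', fun z => ?_⟩
    have h1 : (π.quotKerEquivOfSurjective hπ).symm (π (z, 0)) = Submodule.Quotient.mk (z, 0) :=
      (π.quotKerEquivOfSurjective hπ).symm_apply_eq.2 rfl
    have h2 := hw' (π (z, 0))
    rw [LinearMap.comp_apply, LinearEquiv.coe_coe, h1, Submodule.liftQ_apply] at h2
    simpa [G, π] using h2
  by_cases htop : L = ⊤
  · subst htop
    refine ⟨f ⟨1, Submodule.mem_top⟩, fun x => ?_⟩
    rw [← map_smul]
    exact congrArg f (Subtype.ext (by simp))
  by_cases hp : L.IsPrime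
  · -- prime case
    haveI := hp
    let p : Ideal A := L.comap (algebraMap A B)
    obtain ⟨n, a, ha⟩ := Submodule.fg_iff_exists_fin_generating_family.1 (IsNoetherian.noetherian p)
    let lin : (Fin n → A) →ₗ[A] A := Fintype.linearCombination A a
    obtain ⟨m, r, hr⟩ := Submodule.fg_iff_exists_fin_generating_family.1
      (IsNoetherian.noetherian (LinearMap.ker lin))
    let Φ : I →ₗ[A] (Fin n → I) := LinearMap.pi fun i => a i • LinearMap.id
    let Ψ : (Fin n → I) →ₗ[A] (Fin m → I) :=
      LinearMap.pi fun j => ∑ i, r j i • LinearMap.proj i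
    have hex : Function.Exact Φ Ψ := by
      intro z
      constructor
      · intro hz
        let S : (Fin n → A) →ₗ[A] I := Fintype.linearCombination A z
        have hS : LinearMap.ker lin ≤ LinearMap.ker S := by
          rw [← hr, Submodule.span_le]
          rintro _ ⟨j, rfl⟩
          have := congrFun hz j
          simpa [Ψ, S, Fintype.linearCombination_apply] using this
        let g : LinearMap.range lin →ₗ[A] I := (LinearMap.ker lin).liftQ S hS ∘ₗ lin.quotKerEquivRange.symm.toLinearMap
        obtain ⟨G, hG⟩ := (Module.Baer.of_injective (inferInstance : Module.Injective A I)) (LinearMap.range lin) g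
        refine ⟨G 1, funext fun i => ?_⟩
        have hai : lin (Pi.single i 1) = a i := by simp [lin, Fintype.linearCombination_apply, Pi.single_apply]
        have h1 := hG (lin (Pi.single i 1)) (LinearMap.mem_range_self lin _)
        have h2 : lin.quotKerEquivRange.symm ⟨lin (Pi.single i 1), LinearMap.mem_range_self lin _⟩
            = Submodule.Quotient.mk (Pi.single i 1) :=
          lin.quotKerEquivRange.symm_apply_eq.2 rfl
        rw [LinearMap.comp_apply, LinearEquiv.coe_coe, h2, Submodule.liftQ_apply, hai] at h1
        show a i • G 1 = z i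
        rw [← map_smul, smul_eq_mul, mul_one, h1]
        simp [S, Fintype.linearCombination_apply, Pi.single_apply]
      · rintro ⟨w, rfl⟩
        funext j
        have hj : lin (r j) = 0 := by
          rw [← LinearMap.mem_ker, ← hr]
          exact Submodule.subset_span ⟨j, rfl⟩
        simp only [Fintype.linearCombination_apply, lin, smul_eq_mul] at hj
        simp [Ψ, Φ, smul_smul, ← Finset.sum_smul, hj]
    have hmem : ∀ i, algebraMap A B (a i) ∈ L := fun i =>
      (show a i ∈ p from ha ▸ Submodule.subset_span ⟨i, rfl⟩)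
    let y : Fin n → J := fun i => f ⟨algebraMap A B (a i), hmem i⟩
    have hrel : ∀ j, ∑ i, r j i • y i = 0 := by
      intro j
      have hj : lin (r j) = 0 := by
        rw [← LinearMap.mem_ker, ← hr]
        exact Submodule.subset_span ⟨j, rfl⟩
      simp only [Fintype.linearCombination_apply, lin, smul_eq_mul] at hj
      have h0 : ∑ i, (algebraMap A B (r j i)) • (⟨algebraMap A B (a i), hmem i⟩ : L) = 0 :=
        Subtype.ext (by
          rw [Submodule.coe_sum]
          simp only [Submodule.coe_smul, smul_eq_mul, ← map_mul, ← map_sum, hj, map_zero, ZeroMemClass.coe_zero])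
      calc ∑ i, r j i • y i = ∑ i, algebraMap A B (r j i) • y i := by simp [algebraMap_smul]
        _ = f (∑ i, (algebraMap A B (r j i)) • (⟨algebraMap A B (a i), hmem i⟩ : L)) := by
          rw [map_sum]
          exact Finset.sum_congr rfl fun i _ => (map_smul f _ _).symm
        _ = 0 := by rw [h0, map_zero]
    let eN := TensorProduct.piRight A A B (fun _ : Fin n => I)
    let eM := TensorProduct.piRight A A B (fun _ : Fin m => I)
    have hΦ : ∀ t i, eN (LinearMap.lTensor B Φ t) i = a i • t := by
      intro t i
      induction t using TensorProduct.induction_on with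
      | zero => simp
      | tmul b x => simp [eN, Φ, TensorProduct.piRight_apply, TensorProduct.smul_tmul']
      | add u v hu hv => simp [hu, hv, smul_add]
    have hΨ : ∀ t j, eM (LinearMap.lTensor B Ψ t) j = ∑ i, r j i • eN t i := by
      intro t j
      induction t using TensorProduct.induction_on with
      | zero => simp
      | tmul b x => simp [eN, eM, Ψ, TensorProduct.piRight_apply, TensorProduct.tmul_sum, TensorProduct.smul_tmul']
      | add u v hu hv => simp [hu, hv, smul_add, Finset.sum_add_distrib]
    have hexB := Module.Flat.lTensor_exact B hex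
    obtain ⟨ω, hω⟩ := (hexB (eN.symm y)).1 (eM.injective (funext fun j => by
      rw [hΨ, map_zero, LinearEquiv.apply_symm_apply]; exact hrel j))
    have hfω : ∀ i, f ⟨algebraMap A B (a i), hmem i⟩ = (algebraMap A B (a i)) • ω := by
      intro i
      have := hΦ ω i
      rw [hω, LinearEquiv.apply_symm_apply] at this
      rw [algebraMap_smul]
      exact this
    let f' : L →ₗ[B] J := f - (LinearMap.toSpanSingleton B J ω).comp L.subtype
    have hf'0 : ∀ x : L, (x : B) ∈ p.map (algebraMap A B) → f' x = 0 := by
      have hpm : p.map (algebraMap A B) = Ideal.span (Set.range fun i => algebraMap A B (a i)) := by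
        rw [← ha]
        show Ideal.map _ (Ideal.span _) = _
        rw [Ideal.map_span, ← Set.range_comp]
        rfl
      have hle : Submodule.span B (Set.range fun i => algebraMap A B (a i)) ≤ Submodule.map L.subtype (LinearMap.ker f') := by
        rw [Submodule.span_le]
        rintro _ ⟨i, rfl⟩
        exact ⟨⟨_, hmem i⟩, by simp [f', hfω], rfl⟩
      intro x hx
      rw [hpm] at hx
      obtain ⟨x', hx', hxx⟩ := hle hx
      rw [← Subtype.ext hxx]
      exact hx'
    have hs : ∀ x : B, x ∈ L → ∃ s, s ∉ L ∧ s * x ∈ p.map (algebraMap A B) := by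
      intro x hx
      have h1 : algebraMap B (Localization.AtPrime L) x ∈
          Ideal.map (algebraMap B (Localization.AtPrime L)) (p.map (algebraMap A B)) := by
        rw [h ⟨L, hp⟩]
        exact (IsLocalization.AtPrime.to_map_mem_maximal_iff _ L x).2 hx
      obtain ⟨s, hs, hsx⟩ := (IsLocalization.algebraMap_mem_map_algebraMap_iff L.primeCompl _ _ _).1 h1
      exact ⟨s, hs, hsx⟩
    obtain ⟨k, b, hb⟩ := Submodule.fg_iff_exists_fin_generating_family.1 (IsNoetherian.noetherian L)
    choose s hs1 hs2 using fun i => hs (b i) (hb ▸ Submodule.subset_span ⟨i, rfl⟩)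
    let σ := ∏ i, s i
    have hσ : σ ∉ L := fun h' => by
      obtain ⟨i, -, hi⟩ := (Ideal.IsPrime.prod_mem_iff (p := L)).1 h'
      exact hs1 i hi
    have hσL : ∀ x ∈ L, σ * x ∈ p.map (algebraMap A B) := by
      intro x hx
      rw [← hb] at hx
      induction hx using Submodule.span_induction with
      | mem x hx =>
        obtain ⟨i, rfl⟩ := hx
        obtain ⟨c, hc⟩ := Finset.dvd_prod_of_mem s (Finset.mem_univ i)
        rw [show σ = s i * c from hc, mul_comm (s i), mul_assoc]
        exact Ideal.mul_mem_left _ _ (hs2 i)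
      | zero => simp
      | add u v _ _ hu hv => rw [mul_add]; exact Ideal.add_mem _ hu hv
      | smul c u _ hu => rw [smul_eq_mul, mul_left_comm]; exact Ideal.mul_mem_left _ c hu
    obtain ⟨w', hw'⟩ := ext σ hσ f' 0 (fun c hc => by
      rw [smul_zero]
      apply hf'0
      have hcL : c ∈ L := (hp.mem_or_mem hc).resolve_right hσ
      show c * σ ∈ _
      rw [mul_comm]
      exact hσL c hcL)
    refine ⟨w' + ω, fun z => ?_⟩
    have := hw' z
    simp [f', sub_eq_iff_eq_add] at this
    rw [this, smul_add]
  · -- not prime
    obtain ⟨a, ha, b, hb, hab⟩ : ∃ a, a ∉ L ∧ ∃ b, b ∉ L ∧ a * b ∈ L := by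
      by_contra hcon
      push_neg at hcon
      exact hp ⟨htop, fun {u v} huv => or_iff_not_imp_left.2 fun hu => by
        by_contra hv; exact hcon u hu v hv huv⟩
    let L' : Ideal B := Submodule.comap (LinearMap.mulRight B a) L
    have hle : L ≤ L' := fun c hc => show c * a ∈ L from L.mul_mem_right _ hc
    have hlt : L < L' := lt_of_le_of_ne hle fun h' =>
      hb (h' ▸ (show b * a ∈ L by rwa [mul_comm]))
    let g : L' →ₗ[B] J := f.comp ((LinearMap.mulRight B a).restrict (fun c hc => hc))
    obtain ⟨w, hw⟩ := ih L' hlt g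
    exact ext a ha f w (fun c hc => hw ⟨c, hc⟩)

end Groth.Agent.S1745
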