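import Groth.Statements.S17450
import Groth.Agent.SemiAbLib.SemiDescent
import Groth.Agent.SemiAbLib.Stability
import Groth.Agent.DenseSubLib.Basic
import Groth.Agent.ChevThmLib.PtSub
import Groth.Agent.QuotRepLib.Artin

set_option autoImplicit false
set_option backward.isDefEq.respectTransparency false
set_option linter.style.haveILetI false
set_option maxHeartbeats 1000000
universe u
open CategoryTheory MonoidalCategory CartesianMonoidalCategory MonObj GrpObj AlgebraicGeometry CategoryTheory.Limits
open AlgGrp

namespace Groth.Agent.S17450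

/-- Let k be a field with algebraic closure K and G a semi-abelian variety over k, that is, a smooth
connected commutative k-group scheme of finite type whose base change to K is an extension of an
abelian variety by a torus (there are a closed subgroup scheme T of G_K which is a torus and a flat
surjective homomorphism from G_K onto a proper smooth connected K-group scheme with kernel T). Let H
be a closed subgroup scheme of G and ℓ a prime number such that the ℓ-torsion subgroup scheme H[ℓ]
is trivial: every point h of H with values in any k-scheme satisfying h^ℓ = 1 is the unit. Then H is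
finite over k. -/
theorem result (k : Type u) [Field k]
    (G : Over (Spec (CommRingCat.of k))) [GrpObj G] [IsCommMonObj G] [Smooth G.hom] [QuasiCompact G.hom]
    [ConnectedSpace ↥G.left]
    (hK : (∃ (T : Over (Spec (CommRingCat.of (AlgebraicClosure k)))) (_ : GrpObj T) (i : T ⟶ Red.bc (Spec.map (CommRingCat.ofHom (algebraMap k (AlgebraicClosure k)))) G) (A : Over (Spec (CommRingCat.of (AlgebraicClosure k)))) (_ : GrpObj A) (q : Red.bc (Spec.map (CommRingCat.ofHom (algebraMap k (AlgebraicClosure k)))) G ⟶ A),
        IsMonHom i ∧ IsClosedImmersion i.left ∧ Red.IsTorus T ∧ IsMonHom q ∧ Surjective q.left ∧ Flat q.left ∧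
        AlgGrp.IsKernel i q ∧ IsProper A.hom ∧ Smooth A.hom ∧ ConnectedSpace ↥A.left))
    (H : Over (Spec (CommRingCat.of k))) [GrpObj H] (j : H ⟶ G) [IsMonHom j] [IsClosedImmersion j.left]
    (ℓ : ℕ) (hℓ : ℓ.Prime)
    (htors : ∀ (Y : Over (Spec (CommRingCat.of k))) (h : Y ⟶ H), h ^ ℓ = 1 → h = 1) :
    IsFinite H.hom := by
  haveI : Fact ℓ.Prime := ⟨hℓ⟩
  haveI : LocallyOfFiniteType H.hom := by rw [← Over.w j]; infer_instance
  haveI : QuasiCompact H.hom := by rw [← Over.w j]; infer_instance
  haveI : IsSeparated H.hom := Groth.Agent.GrpField.isSeparated_grp (G := H)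
  let K := AlgebraicClosure k
  let F := AVAmpleLib.bcF (k := k) K
  letI : GrpObj (F.obj G) := Functor.grpObjObj
  letI : GrpObj (F.obj H) := Functor.grpObjObj
  haveI : IsMonHom (F.map j) := @Functor.map.instIsMonHom _ _ _ _ _ _ F _ _ _ _ _ j _
  haveI : IsClosedImmersion (F.map j).left := SemiAbLib.isClosedImmersion_map _ j
  haveI : LocallyOfFiniteType (F.obj H).hom := inferInstanceAs (LocallyOfFiniteType (pullback.snd H.hom _))
  haveI : QuasiCompact (F.obj H).hom := inferInstanceAs (QuasiCompact (pullback.snd H.hom _))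
  haveI : LocallyOfFiniteType (F.obj G).hom := inferInstanceAs (LocallyOfFiniteType (pullback.snd G.hom _))
  haveI : QuasiCompact (F.obj G).hom := inferInstanceAs (QuasiCompact (pullback.snd G.hom _))
  have h1 : ∀ (T : Over (Spec (CommRingCat.of K))) (x : T ⟶ F.obj H), x ^ ℓ = 1 → x = 1 := by
    have he : (η[H] : 𝟙_ (Over (Spec (CommRingCat.of k))) ⟶ H) = 1 := by
      rw [Hom.one_def, toUnit_unique (toUnit _) (𝟙 _), Category.id_comp]
    intro T x hx
    have hk : AlgGrp.IsKernel η[H] ((𝟙 H) ^ ℓ) := by
      haveI : Mono η[H] := ⟨fun {Z} a b _ => toUnit_unique _ _⟩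
      refine AntiAffLib.isKernel_of_forall _ _ ?_ fun T g hg => ⟨toUnit T, ?_⟩
      · rw [MonObj.comp_pow, Category.comp_id, he, _root_.one_pow]
      · rw [MonObj.comp_pow, Category.comp_id] at hg
        rw [htors T g hg, ← Hom.one_def]
    obtain ⟨l, hl⟩ := SemiAbLib.exists_lift_map K hk x (by
      rw [SemiAbLib.map_pow_id K H ℓ, MonObj.comp_pow, Category.comp_id, hx])
    rw [← hl, he, SemiAbLib.map_one_pt, MonObj.comp_one]
  obtain ⟨B, _, b, hb, hbc, hBs, hBr⟩ := DenseSubLib.exists_smooth_subgroup (A := F.obj H) ⊤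
  haveI := hb; haveI := hbc; haveI := hBs
  haveI : QuasiCompact B.hom := by rw [← Over.w b]; infer_instance
  obtain ⟨C, _, c, hc, hcc, hco, hCs, hCq, hCi, hCc, -, t, ht⟩ := ChevThmLib.exists_component' B
  haveI := hc; haveI := hcc; haveI := hCs; haveI := hCq; haveI := hCc
  haveI : IsClosedImmersion (c ≫ b ≫ F.map j).left := by rw [Over.comp_left, Over.comp_left]; infer_instance
  have hC : SemiAbLib.IsSemiAb C := SemiAbLib.IsSemiAb.sub (G := F.obj G) hK (c ≫ b ≫ F.map j)
  haveI : Mono c := Over.mono_of_mono_left c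
  haveI : Mono b := Over.mono_of_mono_left b
  have hC1 : ∀ (m : ℕ) (T : Over (Spec (CommRingCat.of K))) (x : T ⟶ C), x ^ ℓ ^ m = 1 → x = 1 := by
    intro m
    induction m with
    | zero => intro T x hx; rwa [Nat.pow_zero, _root_.pow_one] at hx
    | succ m ih =>
      intro T x hx
      refine ih T x ?_
      have h2 : (x ≫ c ≫ b) ^ ℓ ^ m = 1 := h1 T _ (by
        rw [← _root_.pow_mul, ← Nat.pow_succ, ← MonObj.pow_comp, hx, MonObj.one_comp])
      rw [← cancel_mono (c ≫ b), MonObj.pow_comp, h2, MonObj.one_comp]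
  have hC2 : 𝟙 C = 1 := hC.eq_one_of_divisible ℓ (𝟙 C) fun m => by
    obtain ⟨w', hw', hw'm⟩ := hC.exists_div (n := ℓ ^ m) (pow_ne_zero _ hℓ.ne_zero) (𝟙 C)
      fun T x hx => by rw [Category.comp_id]; exact hC1 m T x hx
    exact ⟨w', hw'.symm, hw'm⟩
  haveI : IsSeparated B.hom := Groth.Agent.GrpField.isSeparated_grp (G := B)
  have hBfin : ∀ y : B.left, y ∈ ⋃ d ∈ t, {AVAmpleLib.pt d} := by
    refine ChevThmLib.forall_mem_of_points
      (isClosed_biUnion_finset fun d _ => ChevThmLib.isClosed_pt d) fun x => ?_
    obtain ⟨d, hd, e, rfl⟩ := ht x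
    refine Set.mem_biUnion hd ?_
    rw [← Category.comp_id e, hC2, MonObj.comp_one, MonObj.one_comp, _root_.one_mul]
    rfl
  haveI : Finite B.left := Set.finite_univ_iff.1
    (((t.finite_toSet).biUnion fun d _ => Set.finite_singleton _).subset fun y _ => hBfin y)
  haveI : Finite (F.obj H).left := by
    refine Finite.of_surjective b.left fun y => ?_
    rw [← Set.mem_range, hBr]
    refine ChevThmLib.forall_mem_of_points isClosed_closure (fun x => subset_closure (Set.mem_image_of_mem _ (Subgroup.mem_top x))) y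
  haveI : Finite ↥(pullback H.hom (Spec.map (CommRingCat.ofHom (algebraMap k K)))) := ‹Finite (F.obj H).left›
  haveI : Finite H.left := Finite.of_surjective
    (pullback.fst H.hom (Spec.map (CommRingCat.ofHom (algebraMap k K))))
    (MorphismProperty.pullback_fst (P := @Surjective) _ _ (SemiAbLib.surjective_spec K)).surj
  haveI : Subsingleton ↥(Spec (CommRingCat.of k)) := inferInstanceAs (Subsingleton (PrimeSpectrum k))
  exact Groth.Agent.QuotRep.isFinite_of_subsingleton H.hom fun _ => Set.toFinite _

end Groth.Agent.S17450
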