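import Groth.Statements.S17451
import Groth.Agent.AlbNormLib.Rosen
import Groth.Agent.BorelLib.NonAffTori
import Groth.Agent.ExtGmLib.Basic
import Groth.Agent.RCentreLib.SelfCent

set_option autoImplicit false
set_option linter.style.haveILetI false
set_option backward.isDefEq.respectTransparency false
universe u
open CategoryTheory MonoidalCategory CartesianMonoidalCategory MonObj GrpObj AlgebraicGeometry CategoryTheory.Limits
open AlgGrp

namespace Groth.Agent.S17451

attribute [-instance] CategoryTheory.Hom.commGroup
open Groth.Agent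

/-- An extension of an abelian variety by a torus over an algebraically closed field is commutative. -/
theorem isCommMonObj_ext {K : Type u} [Field K] [IsAlgClosed K] {G T A : Over (Spec (CommRingCat.of K))}
    [GrpObj G] [GrpObj T] [GrpObj A] [Smooth G.hom] [QuasiCompact G.hom] [ConnectedSpace ↥G.left]
    (i : T ⟶ G) [IsMonHom i] [IsClosedImmersion i.left] (hT : Red.IsTorus T) (q : G ⟶ A) [IsMonHom q]
    [IsProper A.hom] (hk : AlgGrp.IsKernel i q) : IsCommMonObj G := by
  haveI : Mono i := Over.mono_of_mono_left i
  obtain ⟨haff, hsm, hconn, hqc, -, -⟩ := BorelLib.NA.torus_props i hT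
  haveI := haff; haveI := hsm; haveI := hconn; haveI := hqc
  have hN : AlgGrp.IsNormalHom i := fun X g t => by
    obtain ⟨l, hl⟩ := AntiAffLib.exists_lift_kernel hk (g * (t ≫ i) * g⁻¹) (by
      rw [MonObj.mul_comp, MonObj.mul_comp, GrpObj.inv_comp, Category.assoc, AntiAffLib.kernel_comp hk,
        MonObj.comp_one, _root_.mul_one, mul_inv_cancel])
    exact ⟨l, hl.symm⟩
  haveI := AlbNormLib.surjective_gAff_antiAff i hN fun N' _ i' _ _ _ _ _ _ =>
    AntiAffLib.exists_lift_kernel hk i' (AlbLib.eq_one_of_affine (i' ≫ q))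
  haveI : IsCommMonObj T := AlbNormLib.isCommMonObj_of_points T fun a b => RCentre.commute_torus hT a b
  haveI : IsSeparated G.hom := GrpField.isSeparated_grp (G := G)
  haveI : LocallyOfFiniteType (T ⊗ AntiAffLib.ker G).hom :=
    inferInstanceAs (LocallyOfFiniteType (pullback.fst T.hom (AntiAffLib.ker G).hom ≫ T.hom))
  have hc : ∀ (X : Over (Spec (CommRingCat.of K))) (d : X ⟶ AntiAffLib.ker G) (g : X ⟶ G),
      (d ≫ AntiAffLib.kerIncl G) * g = g * (d ≫ AntiAffLib.kerIncl G) := fun X d g => by
    have e := congrArg (lift d g ≫ ·) (AntiAffLib.comm_of_hom (AntiAffLib.kerIncl G))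
    simpa only [MonObj.comp_mul, lift_fst_assoc, lift_snd, Category.comp_id] using e
  have hdec : ∀ g : 𝟙_ (Over (Spec (CommRingCat.of K))) ⟶ G, ∃ t d, (t ≫ i) * (d ≫ AntiAffLib.kerIncl G) = g := by
    intro g
    obtain ⟨w, rfl⟩ := AVAmpleLib.exists_pt_lift ((i ⊗ₘ AntiAffLib.kerIncl G) ≫ μ[G]) g
    refine ⟨w ≫ fst _ _, w ≫ snd _ _, ?_⟩
    rw [show (i ⊗ₘ AntiAffLib.kerIncl G) ≫ μ[G] = (fst T _ ≫ i) * (snd T _ ≫ AntiAffLib.kerIncl G) by
      rw [Hom.mul_def]; congr 1]
    simp only [MonObj.comp_mul, Category.assoc]
  refine AlbNormLib.isCommMonObj_of_points G fun x y => ?_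
  obtain ⟨s, d, rfl⟩ := hdec x
  obtain ⟨t, e, rfl⟩ := hdec y
  have h1 : Commute (s ≫ i) (t ≫ i) := by
    show (s ≫ i) * (t ≫ i) = (t ≫ i) * (s ≫ i)
    rw [← MonObj.mul_comp, ← MonObj.mul_comp, RCentre.commute_torus hT s t]
  exact (Commute.mul_left (h1.mul_right (hc _ e _).symm)
    ((Commute.mul_right (show Commute _ _ from hc _ d _) (show Commute _ _ from hc _ d _)))).eq

/-- Commutativity of a smooth group descends from a field extension. -/
theorem isCommMonObj_of_bc {k K : Type u} [Field k] [Field K] (p : Spec (CommRingCat.of K) ⟶ Spec (CommRingCat.of k))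
    (G : Over (Spec (CommRingCat.of k))) [GrpObj G] [Smooth G.hom] [Surjective p] [IsCommMonObj (Red.bc p G)] :
    IsCommMonObj G := by
  haveI : IsSeparated G.hom := GrpField.isSeparated_grp (G := G)
  haveI : Smooth (G ⊗ G).hom := inferInstanceAs (Smooth (pullback.fst G.hom G.hom ≫ G.hom))
  haveI : IsReduced (G ⊗ G).left := AlgSpLib.isReduced_of_smooth (G ⊗ G).hom
  let X := (Over.pullback p).obj (G ⊗ G)
  let c : (Over.map p).obj X ⟶ G ⊗ G := (Over.mapPullbackAdj p).counit.app (G ⊗ G)
  have e : c ≫ fst G G * c ≫ snd G G = c ≫ snd G G * c ≫ fst G G := by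
    apply (ExtGm.pts p G X).injective
    rw [AlgGrp.Action.homEquiv_mul, AlgGrp.Action.homEquiv_mul]
    rw [Hom.mul_def, Hom.mul_def, ← lift_braiding_hom, Category.assoc, IsCommMonObj.mul_comm]
  haveI : Surjective c.left := by
    rw [show c.left = pullback.fst (G ⊗ G).hom p by simp [c, X]]
    exact MorphismProperty.pullback_fst (P := @Surjective) _ _ inferInstance
  have key : fst G G * snd G G = snd G G * fst G G := by
    rw [← MonObj.comp_mul, ← MonObj.comp_mul] at e
    exact Over.OverMorphism.ext (ext_of_isDominant_of_isSeparated G.hom (by rw [Over.w, Over.w]) c.left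
      (congrArg CommaMorphism.left e))
  have hb : (β_ G G).hom = lift (snd G G) (fst G G) := by apply CartesianMonoidalCategory.hom_ext <;> simp
  constructor
  rw [hb]
  rw [Hom.mul_def, Hom.mul_def, lift_fst_snd, Category.id_comp] at key
  exact key.symm

/-- Let k be a field with algebraic closure K and G a smooth connected k-group scheme of finite type,
not assumed commutative, whose base change G_K has a torus as a subgroup with an abelian variety as
the quotient: there are a closed subgroup scheme T of G_K which is a torus and a flat surjective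
homomorphism from G_K onto a proper smooth connected K-group scheme with kernel T. Then G is
commutative. (The published result also asserts that G then has, over k itself, a unique torus
subgroup with abelian-variety quotient of this kind; only commutativity is stated here.) -/
theorem result (k : Type u) [Field k]
    (G : Over (Spec (CommRingCat.of k))) [GrpObj G] [Smooth G.hom] [QuasiCompact G.hom] [ConnectedSpace ↥G.left]
    (hK : (∃ (T : Over (Spec (CommRingCat.of (AlgebraicClosure k)))) (_ : GrpObj T) (i : T ⟶ Red.bc (Spec.map (CommRingCat.ofHom (algebraMap k (AlgebraicClosure k)))) G) (A : Over (Spec (CommRingCat.of (AlgebraicClosure k)))) (_ : GrpObj A) (q : Red.bc (Spec.map (CommRingCat.ofHom (algebraMap k (AlgebraicClosure k)))) G ⟶ A),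
        IsMonHom i ∧ IsClosedImmersion i.left ∧ Red.IsTorus T ∧ IsMonHom q ∧ Surjective q.left ∧ Flat q.left ∧
        AlgGrp.IsKernel i q ∧ IsProper A.hom ∧ Smooth A.hom ∧ ConnectedSpace ↥A.left)) :
    IsCommMonObj G := by
  obtain ⟨T, _, i, A, _, q, hi, hic, hT, hq, hqs, hqf, hk, hA, -, -⟩ := hK
  haveI := hi; haveI := hic; haveI := hq; haveI := hA
  let p := Spec.map (CommRingCat.ofHom (algebraMap k (AlgebraicClosure k)))
  haveI : Surjective p := ⟨fun y => ⟨IsLocalRing.closedPoint _, Subsingleton.elim (α := PrimeSpectrum k) _ _⟩⟩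
  haveI : Smooth (Red.bc p G).hom := MorphismProperty.pullback_snd (P := @Smooth) G.hom p inferInstance
  haveI : QuasiCompact (Red.bc p G).hom := MorphismProperty.pullback_snd (P := @QuasiCompact) G.hom p inferInstance
  haveI : ConnectedSpace ↥(Red.bc p G).left := by
    haveI := CommSubLib.geometricallyIrreducible_of_connected G
    haveI : GeometricallyIrreducible (Red.bc p G).hom :=
      MorphismProperty.pullback_snd (P := @GeometricallyIrreducible) G.hom p inferInstance
    haveI := GeometricallyIrreducible.irreducibleSpace_of_subsingleton (Red.bc p G).hom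
    infer_instance
  haveI := isCommMonObj_ext i hT q hk
  exact isCommMonObj_of_bc p G

end Groth.Agent.S17451
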