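import Groth.Statements.S17453
import Groth.Agent.SemiAbLib.BaseChange
import Groth.Agent.SemiAbLib.Stability

set_option autoImplicit false
set_option backward.isDefEq.respectTransparency false
set_option linter.style.haveILetI false
set_option maxHeartbeats 1000000
universe u
open CategoryTheory MonoidalCategory CartesianMonoidalCategory MonObj GrpObj AlgebraicGeometry CategoryTheory.Limits
open AlgGrp

namespace Groth.Agent.S17453

/-- Let k be a field with algebraic closure K and 1 → G' → G → G'' → 1 a short exact sequence of smooth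
connected k-group schemes of finite type: G' → G is a homomorphism and a closed immersion, G → G''
is a flat surjective homomorphism, and G' is its kernel. Say that such a group is semi-abelian when
its base change to K, modulo a suitable torus, is an abelian variety (there are a closed subgroup
scheme of the base change which is a torus and a flat surjective homomorphism onto a proper smooth
connected K-group scheme with that kernel); commutativity is not assumed, it follows. Then G is
semi-abelian exactly when both G' and G'' are semi-abelian. -/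
theorem result (k : Type u) [Field k]
    (G' G G'' : Over (Spec (CommRingCat.of k))) [GrpObj G'] [GrpObj G] [GrpObj G'']
    [Smooth G'.hom] [QuasiCompact G'.hom] [ConnectedSpace ↥G'.left]
    [Smooth G.hom] [QuasiCompact G.hom] [ConnectedSpace ↥G.left]
    [Smooth G''.hom] [QuasiCompact G''.hom] [ConnectedSpace ↥G''.left]
    (j : G' ⟶ G) [IsMonHom j] [IsClosedImmersion j.left]
    (p : G ⟶ G'') [IsMonHom p] [Surjective p.left] [Flat p.left] (hex : AlgGrp.IsKernel j p) :
    (∃ (T : Over (Spec (CommRingCat.of (AlgebraicClosure k)))) (_ : GrpObj T) (i : T ⟶ Red.bc (Spec.map (CommRingCat.ofHom (algebraMap k (AlgebraicClosure k)))) G) (A : Over (Spec (CommRingCat.of (AlgebraicClosure k)))) (_ : GrpObj A) (q : Red.bc (Spec.map (CommRingCat.ofHom (algebraMap k (AlgebraicClosure k)))) G ⟶ A),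
        IsMonHom i ∧ IsClosedImmersion i.left ∧ Red.IsTorus T ∧ IsMonHom q ∧ Surjective q.left ∧ Flat q.left ∧
        AlgGrp.IsKernel i q ∧ IsProper A.hom ∧ Smooth A.hom ∧ ConnectedSpace ↥A.left) ↔
    ((∃ (T : Over (Spec (CommRingCat.of (AlgebraicClosure k)))) (_ : GrpObj T) (i : T ⟶ Red.bc (Spec.map (CommRingCat.ofHom (algebraMap k (AlgebraicClosure k)))) G') (A : Over (Spec (CommRingCat.of (AlgebraicClosure k)))) (_ : GrpObj A) (q : Red.bc (Spec.map (CommRingCat.ofHom (algebraMap k (AlgebraicClosure k)))) G' ⟶ A),
        IsMonHom i ∧ IsClosedImmersion i.left ∧ Red.IsTorus T ∧ IsMonHom q ∧ Surjective q.left ∧ Flat q.left ∧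
        AlgGrp.IsKernel i q ∧ IsProper A.hom ∧ Smooth A.hom ∧ ConnectedSpace ↥A.left) ∧
     (∃ (T : Over (Spec (CommRingCat.of (AlgebraicClosure k)))) (_ : GrpObj T) (i : T ⟶ Red.bc (Spec.map (CommRingCat.ofHom (algebraMap k (AlgebraicClosure k)))) G'') (A : Over (Spec (CommRingCat.of (AlgebraicClosure k)))) (_ : GrpObj A) (q : Red.bc (Spec.map (CommRingCat.ofHom (algebraMap k (AlgebraicClosure k)))) G'' ⟶ A),
        IsMonHom i ∧ IsClosedImmersion i.left ∧ Red.IsTorus T ∧ IsMonHom q ∧ Surjective q.left ∧ Flat q.left ∧
        AlgGrp.IsKernel i q ∧ IsProper A.hom ∧ Smooth A.hom ∧ ConnectedSpace ↥A.left)) := by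
  let F := AVAmpleLib.bcF (k := k) (AlgebraicClosure k)
  letI : GrpObj (F.obj G) := Functor.grpObjObj
  letI : GrpObj (F.obj G') := Functor.grpObjObj
  letI : GrpObj (F.obj G'') := Functor.grpObjObj
  haveI : IsMonHom (F.map j) := @Functor.map.instIsMonHom _ _ _ _ _ _ F _ _ _ _ _ j _
  haveI : IsMonHom (F.map p) := @Functor.map.instIsMonHom _ _ _ _ _ _ F _ _ _ _ _ p _
  haveI : IsClosedImmersion (F.map j).left := SemiAbLib.isClosedImmersion_map _ j
  haveI : Surjective (F.map p).left :=
    MorphismProperty.of_isPullback (P := @Surjective) (AVAmpleLib.isPullback_bc _ p) ‹_›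
  haveI : Smooth (F.obj G).hom := inferInstanceAs (Smooth (pullback.snd G.hom _))
  haveI : Smooth (F.obj G').hom := inferInstanceAs (Smooth (pullback.snd G'.hom _))
  haveI : Smooth (F.obj G'').hom := inferInstanceAs (Smooth (pullback.snd G''.hom _))
  haveI : QuasiCompact (F.obj G).hom := inferInstanceAs (QuasiCompact (pullback.snd G.hom _))
  haveI : QuasiCompact (F.obj G').hom := inferInstanceAs (QuasiCompact (pullback.snd G'.hom _))
  haveI : QuasiCompact (F.obj G'').hom := inferInstanceAs (QuasiCompact (pullback.snd G''.hom _))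
  have hc : ∀ X : Over (Spec (CommRingCat.of k)), GrpObj X → Smooth X.hom → QuasiCompact X.hom →
      ConnectedSpace X.left → ConnectedSpace (F.obj X).left := fun X _ _ _ _ => by
    haveI := AlbLib.geometricallyIntegral_grp X
    haveI : GeometricallyIntegral (F.obj X).hom := inferInstanceAs (GeometricallyIntegral (pullback.snd X.hom _))
    exact AlbLib.connectedSpace_gi _
  haveI := hc G inferInstance inferInstance inferInstance inferInstance
  haveI := hc G' inferInstance inferInstance inferInstance inferInstance
  haveI := hc G'' inferInstance inferInstance inferInstance inferInstance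
  constructor
  · intro h
    exact ⟨SemiAbLib.IsSemiAb.sub (G := F.obj G) h (F.map j), SemiAbLib.IsSemiAb.quotient (G := F.obj G) h (F.map p)⟩
  · rintro ⟨h', h''⟩
    exact SemiAbLib.IsSemiAb.extension (G' := F.obj G') h' (H := F.obj G'') h'' (G := F.obj G) (F.map j) (F.map p)
      (SemiAbLib.isKernel_map _ hex)

end Groth.Agent.S17453
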