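import Groth.Statements.S17454
import Groth.Agent.AlbLib.AffineHom
import Groth.Agent.AntiAffLib.Supplement
import Groth.Agent.AntiAffLib.Image
import Groth.Agent.AlgSpLib.ReducedSmooth

set_option autoImplicit false
universe u
open CategoryTheory MonoidalCategory CartesianMonoidalCategory MonObj GrpObj AlgebraicGeometry CategoryTheory.Limits
open AlgGrp

attribute [-instance] CategoryTheory.Hom.commGroup

namespace Groth.Agent.S17454

/-- Let k be a perfect field and f : G' → G a surjective homomorphism of smooth connected k-group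
schemes of finite type. Let N' → G' and N → G be Chevalley decompositions: normal closed subgroup
schemes which are smooth, connected and affine, kernels of flat surjective homomorphisms q' : G' →
A' and q : G → A onto proper smooth connected k-group schemes. Then f maps N' onto N: there is a
homomorphism g : N' → N, compatible with f and the two inclusions, whose underlying map is
surjective; and f induces a homomorphism A' → A compatible with q' and q whose underlying map is
surjective. (The isogeny refinement of the published statement is not stated.) -/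
theorem result (k : Type u) [Field k] [PerfectField k]
    (G' G : Over (Spec (CommRingCat.of k))) [GrpObj G'] [GrpObj G]
    [Smooth G'.hom] [QuasiCompact G'.hom] [ConnectedSpace ↥G'.left]
    [Smooth G.hom] [QuasiCompact G.hom] [ConnectedSpace ↥G.left]
    (f : G' ⟶ G) [IsMonHom f] [Surjective f.left]
    (N' : Over (Spec (CommRingCat.of k))) [GrpObj N'] (i' : N' ⟶ G') [IsMonHom i'] [IsClosedImmersion i'.left]
    [Smooth N'.hom] [ConnectedSpace ↥N'.left] [IsAffine N'.left] (hn' : AlgGrp.IsNormalHom i')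
    (A' : Over (Spec (CommRingCat.of k))) [GrpObj A'] (q' : G' ⟶ A') [IsMonHom q'] [Surjective q'.left] [Flat q'.left]
    [IsProper A'.hom] [Smooth A'.hom] [ConnectedSpace ↥A'.left] (hk' : AlgGrp.IsKernel i' q')
    (N : Over (Spec (CommRingCat.of k))) [GrpObj N] (i : N ⟶ G) [IsMonHom i] [IsClosedImmersion i.left]
    [Smooth N.hom] [ConnectedSpace ↥N.left] [IsAffine N.left] (hn : AlgGrp.IsNormalHom i)
    (A : Over (Spec (CommRingCat.of k))) [GrpObj A] (q : G ⟶ A) [IsMonHom q] [Surjective q.left] [Flat q.left]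
    [IsProper A.hom] [Smooth A.hom] [ConnectedSpace ↥A.left] (hk : AlgGrp.IsKernel i q) :
    (∃ g : N' ⟶ N, IsMonHom g ∧ g ≫ i = i' ≫ f ∧ Surjective g.left) ∧
      (∃ h : A' ⟶ A, IsMonHom h ∧ q' ≫ h = f ≫ q ∧ Surjective h.left) := by
  haveI : Mono i := Over.mono_of_mono_left i
  haveI := AntiAffLib.lfp_of_lft q'
  haveI := Groth.Agent.MonoQuot.epi_over q'
  -- the affine part goes into the affine part
  have h1 : (i' ≫ f) ≫ q = 1 := AlbLib.eq_one_of_affine ((i' ≫ f) ≫ q)
  obtain ⟨g, hg⟩ := AntiAffLib.exists_lift_kernel hk (i' ≫ f) h1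
  haveI : IsMonHom (g ≫ i) := by rw [hg]; infer_instance
  haveI : IsMonHom g := Groth.Agent.DiagRep.isMonHom_of_comp_mono g i
  -- the map of abelian parts
  obtain ⟨h, hh⟩ := Groth.Agent.MonoQuot.exists_desc_over q' (f ≫ q) fun T a b e => by
    obtain ⟨l, hl⟩ := AntiAffLib.exists_lift_kernel hk' (a * b⁻¹)
      (by rw [MonObj.mul_comp, GrpObj.inv_comp, e, mul_inv_cancel])
    have e2 : (a * b⁻¹) ≫ f ≫ q = 1 := by
      rw [← hl, Category.assoc, ← Category.assoc i', h1, MonObj.comp_one]
    rwa [MonObj.mul_comp, GrpObj.inv_comp, mul_inv_eq_one] at e2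
  haveI : IsMonHom h := by
    obtain ⟨f1, f2, f3⟩ := Groth.Agent.MonoQuot.fppf_tensor q' q'
    haveI := f1; haveI := f2; haveI := f3
    haveI := Groth.Agent.MonoQuot.epi_over (q' ⊗ₘ q')
    refine ⟨by rw [← IsMonHom.one_hom q', Category.assoc, hh, IsMonHom.one_hom], ?_⟩
    rw [← cancel_epi (q' ⊗ₘ q'), ← Category.assoc, ← IsMonHom.mul_hom q', Category.assoc, hh, IsMonHom.mul_hom,
      ← Category.assoc (q' ⊗ₘ q'), tensorHom_comp_tensorHom, hh]
  refine ⟨⟨g, inferInstance, hg, ?_⟩, ⟨h, inferInstance, hh, ⟨fun a => ?_⟩⟩⟩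
  swap
  · haveI : Surjective (f ≫ q).left := by rw [Over.comp_left]; infer_instance
    obtain ⟨x, hx⟩ := (f ≫ q).left.surjective a
    exact ⟨q'.left x, by rw [← Scheme.Hom.comp_apply, ← Over.comp_left, hh, hx]⟩
  -- the inverse image of the affine part
  obtain ⟨K, _, κ, hκm, hκc, hκk, -⟩ := AntiAffLib.exists_kernel h
  haveI := hκm; haveI := hκc
  haveI : Mono κ := Over.mono_of_mono_left κ
  haveI : IsProper K.hom := by rw [← Over.w κ]; infer_instance
  let W := pullback q' κ
  let m : W ⟶ G' := pullback.fst _ _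
  let p : W ⟶ K := pullback.snd _ _
  haveI : Mono m := inferInstance
  haveI : IsClosedImmersion m.left := MorphismProperty.of_isPullback (P := @IsClosedImmersion)
    ((IsPullback.of_hasPullback q' κ).map (Over.forget _)).flip ‹_›
  haveI : Flat p.left := MorphismProperty.of_isPullback (P := @Flat)
    ((IsPullback.of_hasPullback q' κ).map (Over.forget _)) ‹_›
  haveI : Surjective p.left := MorphismProperty.of_isPullback (P := @Surjective)
    ((IsPullback.of_hasPullback q' κ).map (Over.forget _)) ‹_›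
  have hW : ∀ {T : Over (Spec (CommRingCat.of k))} (y : T ⟶ G'), (y ≫ f) ≫ q = 1 → ∃ l : T ⟶ W, l ≫ m = y :=
    fun y hy => by
      obtain ⟨l, hl⟩ := AntiAffLib.exists_lift_kernel hκk (y ≫ q') (by rw [Category.assoc, hh, ← Category.assoc, hy])
      exact ⟨pullback.lift y l hl.symm, pullback.lift_fst _ _ _⟩
  have hm0 : (m ≫ f) ≫ q = 1 := by
    rw [Category.assoc, ← hh, ← Category.assoc, pullback.condition, Category.assoc, AntiAffLib.kernel_comp hκk,
      MonObj.comp_one]
  obtain ⟨gW, hmm⟩ := Groth.Agent.SubDesc.exists_grpObj_of_mono m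
    (hW _ (by simp only [MonObj.mul_comp, Category.assoc]; rw [← Category.assoc m f q, hm0, MonObj.comp_one,
      MonObj.comp_one, _root_.mul_one]))
    (hW 1 (by rw [MonObj.one_comp, MonObj.one_comp]))
    (hW _ (by rw [GrpObj.inv_comp, GrpObj.inv_comp, hm0, inv_one]))
  haveI := hmm
  obtain ⟨a, ha⟩ := AntiAffLib.exists_lift_kernel hk (m ≫ f) hm0
  haveI : IsMonHom (a ≫ i) := by rw [ha]; infer_instance
  haveI : IsMonHom a := Groth.Agent.DiagRep.isMonHom_of_comp_mono a i
  haveI : LocallyOfFiniteType W.hom := by rw [← Over.w m]; infer_instance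
  haveI : QuasiCompact W.hom := by rw [← Over.w m]; infer_instance
  haveI : Surjective a.left := by
    refine ⟨fun x => ?_⟩
    obtain ⟨T, s, y, ⟨o, ho⟩, est⟩ := AntiAffLib.exists_pair i f inferInstance x
    obtain ⟨l, hl⟩ := hW y (by rw [← est, Category.assoc, AntiAffLib.kernel_comp hk, MonObj.comp_one])
    have e : l ≫ a = s := by rw [← cancel_mono i, Category.assoc, ha, reassoc_of% hl, est]
    exact ⟨l.left o, by rw [← Scheme.Hom.comp_apply, ← Over.comp_left, e, ho]⟩
  haveI : IsReduced N.left := AlgSpLib.isReduced_of_smooth N.hom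
  haveI : Flat a.left := AntiAffLib.flat_of_surjective a
  haveI := AntiAffLib.lfp_of_lft a
  -- the image of the affine part
  haveI : QuasiCompact N'.hom := quasiCompact_of_compactSpace _
  haveI : Flat N'.hom := Groth.Agent.GrpField.flat_field _
  haveI : QuasiCompact g.left := by
    haveI : QuasiCompact (g.left ≫ N.hom) := by rw [Over.w g]; infer_instance
    exact QuasiCompact.of_comp g.left N.hom
  obtain ⟨C, _, r, c, hrm, hcm, hrc, hrf, hrs, hrl, hc⟩ :=
    Groth.Agent.GrpHom.exists_fppf_image g (Groth.Agent.GrpField.flat_field _)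
  haveI := hrm; haveI := hcm; haveI := hrf; haveI := hrs; haveI := hrl; haveI := hc
  haveI : Mono c := Over.mono_of_mono_left c
  obtain ⟨f1, f2, f3⟩ := Groth.Agent.MonoQuot.fppf_tensor a r
  haveI := f1; haveI := f2; haveI := f3
  haveI := Groth.Agent.MonoQuot.epi_over (a ⊗ₘ r)
  let z : N ⊗ C ⟶ N := fst _ _ * (snd _ _ ≫ c) * (fst _ _)⁻¹
  obtain ⟨n', hn''⟩ := hn' (W ⊗ N') (fst _ _ ≫ m) (snd _ _)
  have hz : (a ⊗ₘ r) ≫ z = (n' ≫ r) ≫ c := by
    rw [← cancel_mono i, Category.assoc n' r c, hrc, Category.assoc n' g i, hg, ← Category.assoc n' i' f, ← hn'']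
    simp only [z, MonObj.comp_mul, GrpObj.comp_inv, MonObj.mul_comp, GrpObj.inv_comp, tensorHom_fst,
      tensorHom_snd_assoc, Category.assoc, reassoc_of% hrc, ha, hg]
  obtain ⟨z', hz'⟩ := Groth.Agent.MonoQuot.exists_desc_over (a ⊗ₘ r) (n' ≫ r) fun T u v e => by
    rw [← cancel_mono c, Category.assoc u, Category.assoc v, ← hz, reassoc_of% e]
  have hzc : z' ≫ c = z := by rw [← cancel_epi (a ⊗ₘ r), reassoc_of% hz', hz, Category.assoc]
  have hC : AlgGrp.IsNormalHom c := fun T x y => ⟨lift x y ≫ z', by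
    rw [Category.assoc, hzc]
    simp only [z, MonObj.comp_mul, GrpObj.comp_inv, lift_fst, lift_snd_assoc]⟩
  -- the quotient by the image is affine and proper, hence trivial
  obtain ⟨P, _, π, hPaff, hπm, ⟨hPl, hπf, hπs⟩, hπ⟩ := AntiAffLib.exists_affine_kernel' c hC
  haveI := hPaff; haveI := hπm; haveI := hPl; haveI := hπf; haveI := hπs
  haveI := AntiAffLib.lfp_of_lft p
  have hgπ : g ≫ π = 1 := by rw [← hrc, Category.assoc, (hπ C c).2 ⟨𝟙 C, Category.id_comp c⟩, MonObj.comp_one]
  obtain ⟨e, he⟩ := Groth.Agent.MonoQuot.exists_desc_over p (a ≫ π) fun T u v huv => by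
    obtain ⟨l, hl⟩ := AntiAffLib.exists_lift_kernel hk' ((u ≫ m) * (v ≫ m)⁻¹) (by
      rw [MonObj.mul_comp, GrpObj.inv_comp, Category.assoc, Category.assoc,
        show m ≫ q' = p ≫ κ from pullback.condition, reassoc_of% huv, mul_inv_cancel])
    have e1 : (u ≫ a) * (v ≫ a)⁻¹ = l ≫ g := by
      rw [← cancel_mono i, MonObj.mul_comp, GrpObj.inv_comp, Category.assoc, Category.assoc, Category.assoc, ha, hg,
        ← Category.assoc l, hl, MonObj.mul_comp, GrpObj.inv_comp, Category.assoc, Category.assoc]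
    have e2 := congrArg (· ≫ π) e1
    simp only [MonObj.mul_comp, GrpObj.inv_comp, Category.assoc, hgπ, MonObj.comp_one] at e2
    exact mul_inv_eq_one.1 e2
  haveI : Surjective e.left := by
    haveI : Surjective (a ≫ π).left := by rw [Over.comp_left]; infer_instance
    haveI : Surjective (p.left ≫ e.left) := by rw [← Over.comp_left, he]; infer_instance
    exact Surjective.of_comp p.left e.left
  haveI : UniversallyClosed P.hom := by
    haveI : UniversallyClosed (e.left ≫ P.hom) := by rw [Over.w e]; infer_instance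
    exact UniversallyClosed.of_comp_surjective e.left P.hom
  haveI : IsReduced P.left := AlgSpLib.isReduced_of_flat_surjective π.left
  haveI : ConnectedSpace P.left := π.left.surjective.connectedSpace π.left.continuous
  haveI := AntiAffLib.antiAff_of_universallyClosed P η[P]
  have hP1 : π = 1 := by
    rw [← Category.comp_id π, AntiAffLib.comp_eq_one (𝟙 P) (Category.comp_id _), MonObj.comp_one]
  obtain ⟨l, hl⟩ := (hπ N (𝟙 N)).1 (by rw [Category.id_comp, hP1])
  refine ⟨fun x => ?_⟩
  obtain ⟨x', hx'⟩ := r.left.surjective (l.left x)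
  refine ⟨x', ?_⟩
  rw [← hrc, Over.comp_left, Scheme.Hom.comp_apply, hx', ← Scheme.Hom.comp_apply, ← Over.comp_left, hl]
  rfl

end Groth.Agent.S17454
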