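import Groth.Statements.S17456
import Groth.Agent.NTorsLib.Torus
import Groth.Agent.AVAmpleLib.MulDegree
import Groth.Agent.AVAmpleLib.MulFinite
import Groth.Agent.AlbLib.AVBasic
import Groth.Agent.HilbPtsLib.SymHilb
import Groth.Agent.SemiAbLib.PowField

set_option autoImplicit false
set_option linter.style.haveILetI false
set_option maxHeartbeats 400000
set_option backward.isDefEq.respectTransparency false
universe u
open CategoryTheory MonoidalCategory CartesianMonoidalCategory MonObj GrpObj AlgebraicGeometry CategoryTheory.Limits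
open AlgGrp

open scoped MonObj
attribute [-instance] CategoryTheory.Hom.commGroup

namespace Groth.Agent.S17456

/-- Let k be a field and G a smooth connected commutative k-group scheme of finite type which is an
extension of an abelian variety B of dimension a by a torus T of dimension t: T → G is a
homomorphism and a closed immersion with T a torus, G → B is a flat surjective homomorphism onto a
proper smooth connected k-group scheme, and T is its kernel. Then for every integer N ≥ 1, the
characteristic of k being allowed to divide N, the N-torsion subgroup scheme G[N] (the kernel of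
multiplication by N on G) is finite locally free over Spec k of degree N^(t + 2a). (In the source G
is the identity component of the special fibre of the Néron model of an abelian variety with
semistable reduction, which is such an extension.) -/
theorem result (k : Type u) [Field k]
    (G T B : Over (Spec (CommRingCat.of k))) [GrpObj G] [IsCommMonObj G] [GrpObj T] [GrpObj B]
    [Smooth G.hom] [QuasiCompact G.hom] [ConnectedSpace ↥G.left]
    (i : T ⟶ G) [IsMonHom i] [IsClosedImmersion i.left] (hT : Red.IsTorus T)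
    (q : G ⟶ B) [IsMonHom q] [Surjective q.left] [Flat q.left] (hk : AlgGrp.IsKernel i q)
    [IsProper B.hom] [Smooth B.hom] [ConnectedSpace ↥B.left]
    (t a : ℕ) (ht : topologicalKrullDim ↥T.left = t) (ha : topologicalKrullDim ↥B.left = a)
    (N : ℕ) (hN : 0 < N)
    (K : Over (Spec (CommRingCat.of k))) [GrpObj K] (κ : K ⟶ G) [IsMonHom κ]
    (hK : AlgGrp.IsKernel κ ((𝟙 G) ^ N)) :
    Mor2.IsFinLocFreeOfDeg (N ^ (t + 2 * a)) K.hom := by
  have hTor := hT
  haveI : LocallyOfFiniteType T.hom := by rw [← Over.w i]; infer_instance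
  haveI : GeometricallyIntegral B.hom := AlbLib.geometricallyIntegral_grp B
  haveI : IsCommMonObj B := CubeConsLib.isCommMonObj_field
  haveI : Mono i := Over.mono_of_mono_left i
  haveI : Mono κ := ⟨fun {Z} x y e => hK.hom_ext e (toUnit_unique _ _)⟩
  haveI : Mono η[B] := ⟨fun {Z} x y _ => toUnit_unique x y⟩
  have hN' : (N : ℤ) ≠ 0 := by exact_mod_cast hN.ne'
  have hβ : Mor2.IsFinLocFreeOfDeg (N ^ (2 * a)) (𝟙 B ^ N).left := by
    refine ⟨⟨?_, ?_, AntiAffLib.lfp_of_lft _⟩, fun y => ?_⟩
    · rw [← zpow_natCast]; exact AVAmpleLib.isFinite_zpow B hN'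
    · rw [← zpow_natCast]; exact AVAmpleLib.flat_zpow B hN'
    · rw [← zpow_natCast, AVAmpleLib.finrank_zpow B hN' ha y, Int.natAbs_natCast]
  -- the torsion of `B`
  let BN := pullback (𝟙 B ^ N) η[B]
  let ib : BN ⟶ B := pullback.fst _ _
  have hib : ib ^ N = 1 := by
    have h := pullback.condition (f := 𝟙 B ^ N) (g := η[B])
    rw [MonObj.comp_pow, Category.comp_id] at h
    rw [h, Hom.one_def, toUnit_unique (pullback.snd (𝟙 B ^ N) η[B]) (toUnit _)]
  have hBN : Mor2.IsFinLocFreeOfDeg (N ^ (2 * a)) BN.hom := by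
    have h := HilbPts.isFinLocFreeOfDeg_of_isPullback
      ((IsPullback.of_hasPullback (𝟙 B ^ N) η[B]).map (Over.forget _)) hβ
    have e : BN.hom = (pullback.snd (𝟙 B ^ N) η[B]).left :=
      (Over.w (pullback.snd (𝟙 B ^ N) η[B])).symm.trans (Category.comp_id _)
    rw [e]
    exact h
  let G₁ := pullback q ib
  let g : G₁ ⟶ G := pullback.fst _ _
  let p : G₁ ⟶ BN := pullback.snd _ _
  have hg : g ≫ q = p ≫ ib := pullback.condition
  haveI : QuasiCompact q.left := by
    haveI : QuasiCompact (q.left ≫ B.hom) := by rw [Over.w q]; infer_instance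
    exact QuasiCompact.of_comp q.left B.hom
  have hp := (IsPullback.of_hasPullback q ib).map (Over.forget _)
  haveI : Flat p.left := MorphismProperty.of_isPullback (P := @Flat) hp.flip.flip (inferInstance : Flat q.left)
  haveI : Surjective p.left := MorphismProperty.of_isPullback (P := @Surjective) hp (inferInstance : Surjective q.left)
  haveI : QuasiCompact p.left := MorphismProperty.of_isPullback (P := @QuasiCompact) hp (inferInstance : QuasiCompact q.left)
  letI : ∀ Z : Over (Spec (CommRingCat.of k)), CommGroup (Z ⟶ G) := fun _ => Hom.commGroup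
  let h : G₁ ⟶ T := hk.lift (g ^ N) (toUnit _) (by
    rw [MonObj.pow_comp, hg, ← MonObj.comp_pow, hib, MonObj.comp_one, Hom.one_def])
  have hh : h ≫ i = g ^ N := hk.lift_fst _ _ _
  have hκ : κ ^ N = 1 := by
    have e := hK.w
    rw [MonObj.comp_pow, Category.comp_id] at e
    rw [e, Hom.one_def]
  let m : K ⟶ BN := pullback.lift (κ ≫ q) (toUnit _) (by
    rw [MonObj.comp_pow, Category.comp_id, ← MonObj.pow_comp, hκ, MonObj.one_comp, Hom.one_def])
  have hm : m ≫ ib = κ ≫ q := pullback.lift_fst _ _ _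
  let w₁ : pullback p m ⟶ G₁ := pullback.fst _ _
  let w₂ : pullback p m ⟶ K := pullback.snd _ _
  have hw : w₁ ≫ g ≫ q = w₂ ≫ κ ≫ q := by
    rw [hg, ← hm, ← Category.assoc, ← Category.assoc, pullback.condition]
  let τ : pullback p m ⟶ T := hk.lift ((w₁ ≫ g) * (w₂ ≫ κ)⁻¹) (toUnit _) (by
    rw [MonObj.mul_comp, GrpObj.inv_comp, Category.assoc, Category.assoc, hw, mul_inv_cancel, Hom.one_def])
  have hτ : τ ≫ i = (w₁ ≫ g) * (w₂ ≫ κ)⁻¹ := hk.lift_fst _ _ _
  have sq : IsPullback w₁ τ h (𝟙 T ^ N) := by
    have e2 : (w₂ ≫ κ) ^ N = 1 := by rw [← MonObj.comp_pow, hκ, MonObj.comp_one]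
    have w : w₁ ≫ h = τ ≫ 𝟙 T ^ N := by
      rw [← cancel_mono i, Category.assoc, hh, Category.assoc, MonObj.pow_comp, Category.id_comp,
        MonObj.comp_pow, MonObj.comp_pow, hτ, mul_pow, inv_pow, e2,
        _root_.inv_one, _root_.mul_one]
    have key : ∀ {Z : Over (Spec (CommRingCat.of k))} (x : Z ⟶ G₁) (v : Z ⟶ T), x ≫ h = v ≫ 𝟙 T ^ N →
        ∃ l : Z ⟶ pullback p m, l ≫ w₁ = x ∧ l ≫ τ = v := by
      intro Z x v e
      have e' : (x ≫ g) ^ N = (v ≫ i) ^ N := by
        have := congrArg (· ≫ i) e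
        simp only [Category.assoc, hh, MonObj.pow_comp, Category.id_comp, MonObj.comp_pow] at this
        exact this
      let y : Z ⟶ K := hK.lift ((v ≫ i)⁻¹ * (x ≫ g)) (toUnit _) (by
        rw [MonObj.comp_pow, Category.comp_id, mul_pow, inv_pow, e', _root_.inv_mul_cancel, Hom.one_def])
      have hy : y ≫ κ = (v ≫ i)⁻¹ * (x ≫ g) := hK.lift_fst _ _ _
      have hvq : (v ≫ i) ≫ q = 1 := by
        rw [Category.assoc, hk.w, ← Category.assoc, Hom.one_def, toUnit_unique (v ≫ toUnit T) (toUnit _)]
      have hc : x ≫ p = y ≫ m := by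
        rw [← cancel_mono ib, Category.assoc, Category.assoc, ← hg, hm]
        conv_rhs => rw [← Category.assoc, hy, MonObj.mul_comp, GrpObj.inv_comp, hvq, _root_.inv_one, _root_.one_mul,
          Category.assoc]
      refine ⟨pullback.lift x y hc, pullback.lift_fst _ _ _, ?_⟩
      have l1 : pullback.lift x y hc ≫ w₁ = x := pullback.lift_fst _ _ _
      have l2 : pullback.lift x y hc ≫ w₂ = y := pullback.lift_snd _ _ _
      rw [← cancel_mono i, Category.assoc, hτ, MonObj.comp_mul, GrpObj.comp_inv, ← Category.assoc,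
        ← Category.assoc, l1, l2, hy]
      exact NTorsLib.mul_inv_aux (x ≫ g) (v ≫ i)
    have uniq : ∀ {Z : Over (Spec (CommRingCat.of k))} (l l' : Z ⟶ pullback p m),
        l ≫ w₁ = l' ≫ w₁ → l ≫ τ = l' ≫ τ → l = l' := by
      intro Z l l' h1 h2
      have hrec : ∀ n : Z ⟶ pullback p m, (n ≫ w₂) ≫ κ = ((n ≫ τ) ≫ i)⁻¹ * ((n ≫ w₁) ≫ g) := by
        intro n
        rw [Category.assoc, Category.assoc, Category.assoc, hτ, MonObj.comp_mul, GrpObj.comp_inv]
        exact (NTorsLib.inv_mul_aux (n ≫ w₁ ≫ g) (n ≫ w₂ ≫ κ)).symm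
      refine pullback.hom_ext h1 ?_
      rw [← cancel_mono κ]
      refine (hrec l).trans ?_
      rw [h1, h2]
      exact (hrec l').symm
    choose l hl1 hl2 using fun s : PullbackCone h (𝟙 T ^ N) => key s.fst s.snd s.condition
    exact IsPullback.of_isLimit' ⟨w⟩ (PullbackCone.IsLimit.mk w l hl1 hl2
      fun s n n1 n2 => uniq n (l s) (n1.trans (hl1 s).symm) (n2.trans (hl2 s).symm))
  have hw₁ : Mor2.IsFinLocFreeOfDeg (N ^ t) w₁.left :=
    HilbPts.isFinLocFreeOfDeg_of_isPullback (sq.map (Over.forget _)).flip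
      (NTorsLib.isFinLocFreeOfDeg_pow_torus hTor ht hN)
  haveI : QuasiCompact ((Over.forget (Spec (CommRingCat.of k))).map p) := inferInstanceAs (QuasiCompact p.left)
  haveI : Flat ((Over.forget (Spec (CommRingCat.of k))).map p) := inferInstanceAs (Flat p.left)
  haveI : Surjective ((Over.forget (Spec (CommRingCat.of k))).map p) := inferInstanceAs (Surjective p.left)
  have hmd : Mor2.IsFinLocFreeOfDeg (N ^ t) m.left :=
    HilbPts.isFinLocFreeOfDeg_descend (((IsPullback.of_hasPullback p m).map (Over.forget _)).flip) hw₁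
  rw [← Over.w m, pow_add]
  exact HilbPts.SC.isFinLocFreeOfDeg_comp hmd hBN

end Groth.Agent.S17456
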