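import Groth.Statements.S17459
import Groth.Agent.NeronQFLib.Basic

set_option autoImplicit false
set_option backward.isDefEq.respectTransparency false
universe u
open CategoryTheory CategoryTheory.Limits AlgebraicGeometry MonObj
open SGA7
open MonoidalCategory CartesianMonoidalCategory

namespace Groth.Agent.S17459

/-- Let R be a discrete valuation ring with fraction field K, let N and N' be group schemes over Spec R
which are Néron models of their generic fibres A = N_K and B = N'_K, abelian varieties (proper and
geometrically integral) of the same dimension, and let u : N → N' be a homomorphism (the extension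
of u_K : A → B). If the homomorphism induced by u on the special fibres is locally quasi-finite — as
it is when it restricts to an isogeny between the identity components, the printed hypothesis, which
also forces dim A = dim B — then u_K is an isogeny: its underlying map is surjective and its kernel
is finite. -/
theorem result (R K : Type u) [CommRing R] [IsDomain R]
    [IsDiscreteValuationRing R] [Field K] [Algebra R K] [IsFractionRing R K]
    (N N' : Over (Spec (CommRingCat.of R))) [GrpObj N] [GrpObj N']
    (hN : SGA7.IsNeron R K N) (hN' : SGA7.IsNeron R K N')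
    [IsProper ((SGA7.genFib R K).obj N).hom] [GeometricallyIntegral ((SGA7.genFib R K).obj N).hom]
    [IsProper ((SGA7.genFib R K).obj N').hom] [GeometricallyIntegral ((SGA7.genFib R K).obj N').hom]
    (hdim : topologicalKrullDim ↥((SGA7.genFib R K).obj N).left = topologicalKrullDim ↥((SGA7.genFib R K).obj N').left)
    (u : N ⟶ N') [IsMonHom u]
    [LocallyQuasiFinite (SGA7.fibreHom (IsLocalRing.closedPoint R) u).left] :
    SGA7.IsIsogenyOver ((SGA7.genFib R K).map u) := by
  obtain ⟨hNsm, hNsep, hNqc, -⟩ := hN
  obtain ⟨hN'sm, hN'sep, -, -⟩ := hN'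
  haveI := hNsm
  haveI := hN'sm
  haveI := hN'sep
  haveI : LocallyOfFiniteType (u.left ≫ N'.hom) := by rw [Over.w]; infer_instance
  haveI : LocallyOfFiniteType u.left := locallyOfFiniteType_of_comp u.left N'.hom
  let F := SGA7.genFib R K
  let A := F.obj N
  let B := F.obj N'
  let v : A ⟶ B := F.map u
  letI : GrpObj A := Functor.grpObjObj
  letI : GrpObj B := Functor.grpObjObj
  haveI : IsMonHom v := @Functor.map.instIsMonHom _ _ _ _ _ _ F _ _ _ _ _ u _
  haveI : IsProper A.hom := ‹IsProper ((SGA7.genFib R K).obj N).hom›
  haveI : IsProper B.hom := ‹IsProper ((SGA7.genFib R K).obj N').hom›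
  haveI : IsIntegral A.left := GeometricallyIntegral.isIntegral_of_subsingleton ((SGA7.genFib R K).obj N).hom
  haveI : IsIntegral B.left := GeometricallyIntegral.isIntegral_of_subsingleton ((SGA7.genFib R K).obj N').hom
  haveI : IsProper (v.left ≫ B.hom) := by rw [Over.w]; infer_instance
  haveI : IsProper v.left := IsProper.of_comp v.left B.hom
  -- the unit of the generic fibre is a point of quasi-finiteness
  let e : A.left := (η[A] : 𝟙_ _ ⟶ A).left.base (IsLocalRing.closedPoint K)
  let s := IsLocalRing.closedPoint R
  let e₀ : N.left := (pullback.fst N.hom (Spec.map (CommRingCat.ofHom (algebraMap R K)))).base e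
  let o : N.left := (η[N] : 𝟙_ _ ⟶ N).left.base s
  have hge : e₀ ⤳ o := by
    have h1 : (η[A] : 𝟙_ _ ⟶ A).left ≫ pullback.fst N.hom (Spec.map (CommRingCat.ofHom (algebraMap R K))) =
        Spec.map (CommRingCat.ofHom (algebraMap R K)) ≫ (η[N] : 𝟙_ _ ⟶ N).left := by
      simp [A, F]
    have h2 : (Spec.map (CommRingCat.ofHom (algebraMap R K))).base (IsLocalRing.closedPoint K) ⤳ s :=
      IsLocalRing.specializes_closedPoint _
    have := h2.map (η[N] : 𝟙_ _ ⟶ N).left.continuous
    exact (specializes_of_eq (congrArg (fun m => m.base (IsLocalRing.closedPoint K)) h1)).trans this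
  have ho : FlatMor.fibreDimAt u.left o = 0 := by
    have sq := NeronQFLib.isPullback_map (Scheme.fromSpecResidueField (X := Spec (CommRingCat.of R)) s) u
    haveI : LocallyOfFiniteType (SGA7.fibreHom s u).left := MorphismProperty.of_isPullback sq inferInstance
    obtain ⟨c, hc⟩ : o ∈ Set.range (pullback.fst N.hom (Scheme.fromSpecResidueField (X := Spec (CommRingCat.of R)) s)).base := by
      rw [Scheme.Pullback.range_fst, Scheme.range_fromSpecResidueField]
      show N.hom.base o = s
      rw [← Scheme.Hom.comp_apply, Over.w (η[N] : 𝟙_ _ ⟶ N)]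
      rfl
    rw [← hc, ← FibDimLib.fibreDimAt_baseChange sq c]
    exact (AlgSpLib.lqf_iff_fibreDimAt_eq_zero _).1 inferInstance c
  have he : FlatMor.fibreDimAt v.left e = 0 := by
    rw [FibDimLib.fibreDimAt_baseChange (NeronQFLib.isPullback_map (Spec.map (CommRingCat.ofHom (algebraMap R K))) u) e]
    exact le_antisymm (ho ▸ FibDimLib.fibreDimAt_le_of_specializes u.left hge) (AlgSpLib.fibreDimAt_nonneg _ _)
  haveI : LocallyQuasiFinite v.left := Groth.Agent.GrpHom.lqf_of_quasiFiniteAt v e
    (Scheme.Hom.quasiFiniteAt_iff_isOpen_singleton_asFiber.2 ((AlgSpLib.fibreDimAt_eq_zero_iff _ _).1 he))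
  haveI : IsFinite v.left := IsFinite.of_isProper_of_locallyQuasiFinite v.left
  refine ⟨?_, fun M i hM => ?_⟩
  · -- surjective: the closed image has full dimension
    haveI : IrreducibleSpace ↥(pullback N'.hom (Spec.map (CommRingCat.ofHom (algebraMap R K)))) :=
      inferInstanceAs (IrreducibleSpace B.left)
    obtain ⟨g, -, hdB⟩ := NeronQFLib.exists_fibreDimAt_eq R K N'
    have hl : FlatMor.localDim B.left (v.left.base (genericPoint A.left)) = g := by
      rw [FibDimLib.localDim_of_irreducible B.hom]; exact hdB
    have hc : topologicalKrullDim (closure ({v.left.base (genericPoint A.left)} : Set B.left)) = g := by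
      rw [← NeronQFLib.dim_closure_eq_of_lqf v, genericPoint_closure, ← hdB]
      exact (IsHomeomorph.topologicalKrullDim_eq _ (Homeomorph.Set.univ _).isHomeomorph).trans hdim
    have hm := NeronQFLib.isMax_of_dim B.hom _ hl hc
    rw [irreducibleComponents_eq_singleton, Set.mem_singleton_iff] at hm
    refine ⟨fun y => ?_⟩
    have hy : y ∈ closure ({v.left.base (genericPoint A.left)} : Set B.left) := by rw [hm]; trivial
    exact closure_minimal (Set.singleton_subset_iff.2 (Set.mem_range_self (genericPoint A.left)))
      v.left.isClosedMap.isClosed_range hy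
  · have sq : IsPullback i.left (toUnit M).left v.left (η[B] : 𝟙_ _ ⟶ B).left := hM.map (Over.forget _)
    have := MorphismProperty.of_isPullback (P := @IsFinite) sq ‹IsFinite v.left›
    rw [Over.toUnit_left] at this
    exact this

end Groth.Agent.S17459
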