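import Groth.Statements.S17460
import Groth.Agent.UnipKerLib.Gen
import Groth.Agent.InertiaPtsLib.Points
import Groth.Agent.FFDescLib.Closure

set_option autoImplicit false
set_option backward.isDefEq.respectTransparency false
set_option maxHeartbeats 4000000
universe u
open CategoryTheory CategoryTheory.Limits MonoidalCategory CartesianMonoidalCategory AlgebraicGeometry MonObj MonoidalCategory
open SGA7

namespace Groth.Agent.S17460

/-- Let R be a discrete valuation ring with fraction field K and let N and N' be group schemes over Spec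
R which are Néron models of their generic fibres A = N_K and B = N'_K, abelian varieties (proper and
geometrically integral), both with semistable reduction: the geometric fibres of N and of N' contain
no copy of the additive group. Let u : N → N' be a homomorphism (equivalently a homomorphism A → B,
by the Néron property). If u is constant on the connected component of the unit in the special fibre
of N (any two of its points have the same image; equivalently, since u is a homomorphism, they all
go to the unit point of the special fibre of N'), then u is the trivial homomorphism. (Since the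
special fibre is reduced this says that the restriction map Hom_K(A, B) → Hom_k(N_k^0, N'_k^0) is
injective; without semistability it fails, e.g. for multiplication by p on an elliptic curve with
additive reduction in residue characteristic p.) -/
theorem result (R K : Type u) [CommRing R] [IsDomain R]
    [IsDiscreteValuationRing R] [Field K] [Algebra R K] [IsFractionRing R K]
    (N N' : Over (Spec (CommRingCat.of R))) [GrpObj N] [GrpObj N']
    (hN : SGA7.IsNeron R K N) (hN' : SGA7.IsNeron R K N')
    [IsProper ((SGA7.genFib R K).obj N).hom] [GeometricallyIntegral ((SGA7.genFib R K).obj N).hom]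
    [IsProper ((SGA7.genFib R K).obj N').hom] [GeometricallyIntegral ((SGA7.genFib R K).obj N').hom]
    (hss : SGA7.FibresUnipotentRankZero N) (hss' : SGA7.FibresUnipotentRankZero N')
    (u : N ⟶ N') [IsMonHom u]
    (hu : ∀ x ∈ SGA7.secComp R N η[N], ∀ y ∈ SGA7.secComp R N η[N], u.left.base x = u.left.base y) :
    u = 1 := by
  haveI := hN.1
  haveI := hN.2.1
  haveI := hN.2.2.1
  haveI := hN'.1
  haveI := hN'.2.1
  haveI := hN'.2.2.1
  haveI := InertiaPtsLib.isCommMonObj_neron N hN
  let s : Spec (CommRingCat.of R) := IsLocalRing.closedPoint R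
  let t : Spec (CommRingCat.of R) := ((⟨⊥, Ideal.isPrime_bot⟩ : PrimeSpectrum R))
  have hts : t ⤳ s := (PrimeSpectrum.le_iff_specializes _ _).1 (bot_le (α := Ideal R))
  have hst : s ≠ t := fun h => IsDiscreteValuationRing.not_a_field R (congrArg PrimeSpectrum.asIdeal h)
  let ξK := Spec.map (CommRingCat.ofHom (algebraMap R K))
  have htK : ξK.base (IsLocalRing.closedPoint K) = t := PrimeSpectrum.ext (by
    show Ideal.comap (algebraMap R K) (IsLocalRing.maximalIdeal K) = ⊥
    rw [IsLocalRing.maximalIdeal_eq_bot, ← RingHom.ker_eq_comap_bot,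
      (RingHom.injective_iff_ker_eq_bot _).1 (IsFractionRing.injective R K)])
  haveI : IsPreimmersion ξK := IsPreimmersion.of_isLocalization (nonZeroDivisors R)
  obtain ⟨A, _, _, _, _, L, _, _, _, _, a, c, ha, hc⟩ := UnipKerLib.exists_valuationRing hts
  let kA := IsLocalRing.ResidueField A
  let b := Spec.map (CommRingCat.ofHom (IsLocalRing.residue A))
  have hbc : b.base (IsLocalRing.closedPoint kA) = IsLocalRing.closedPoint A :=
    IsLocalRing.comap_closedPoint (S := kA) (IsLocalRing.residue A)
  let ξ : Spec (CommRingCat.of kA) ⟶ Spec (CommRingCat.of R) := b ≫ a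
  have hξ : ξ.base (IsLocalRing.closedPoint kA) = s := by
    show a.base (b.base _) = s
    rw [hbc]; exact ha
  let m₀ := Spec.map (CommRingCat.ofHom (algebraMap A L))
  let η₀ : Spec (CommRingCat.of A) := m₀.base (IsLocalRing.closedPoint L)
  have hη : ∀ x, η₀ ⤳ x := fun x => by
    refine (PrimeSpectrum.le_iff_specializes _ _).1 fun r hr => ?_
    have h0 : algebraMap A L r = 0 := by
      have hr' : algebraMap A L r ∈ IsLocalRing.maximalIdeal L := hr
      rwa [IsLocalRing.maximalIdeal_eq_bot, Ideal.mem_bot] at hr'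
    rw [FaithfulSMul.algebraMap_injective A L (h0.trans (map_zero _).symm)]
    exact zero_mem _
  have hη₀ : a.base η₀ = t := by
    show a.base (m₀.base _) = t
    rw [← Scheme.Hom.comp_apply, hc, Scheme.Hom.comp_apply]
    exact Scheme.fromSpecResidueField_apply t _
  let P := Over.pullback ξ
  letI : GrpObj (P.obj N) := Functor.grpObjObj
  letI : GrpObj (P.obj N') := Functor.grpObjObj
  haveI := AbSchLib.isMonHom_pullback_map ξ u
  haveI : IsCommMonObj (P.obj N) := Functor.isCommMonObj_obj (F := P)
  haveI : Smooth (P.obj N).hom := inferInstanceAs (Smooth (pullback.snd N.hom ξ))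
  haveI : IsSeparated (P.obj N').hom := inferInstanceAs (IsSeparated (pullback.snd N'.hom ξ))
  -- the identity component of the geometric special fibre
  obtain ⟨G₀, _, i, hi, hic, hif, hir, hgi, hcs⟩ := GrpField.exists_identity_component (G := P.obj N)
  haveI := hi; haveI := hic; haveI := hif; haveI := hgi; haveI := hcs
  haveI : Mono i := Over.mono_of_mono_left i
  haveI : IsCommMonObj G₀ := AntiAffLib.CommCat.isComm_of_mono i
  haveI : IsLocallyNoetherian (P.obj N).left := LocallyOfFiniteType.isLocallyNoetherian (P.obj N).hom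
  haveI : LocallyOfFinitePresentation i.left := inferInstance
  haveI : IsOpenImmersion i.left := IsOpenImmersion.of_flat_of_mono i.left
  haveI : Smooth G₀.hom := by rw [← Over.w i]; infer_instance
  haveI : Subsingleton ↥(Spec (CommRingCat.of kA)) := inferInstanceAs (Subsingleton (PrimeSpectrum kA))
  haveI : Subsingleton (𝟙_ (Over (Spec (CommRingCat.of kA)))).left := inferInstanceAs (Subsingleton (PrimeSpectrum kA))
  haveI : IrreducibleSpace G₀.left := GeometricallyIrreducible.irreducibleSpace_of_subsingleton G₀.hom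
  haveI : QuasiCompact G₀.hom := HasAffineProperty.iff_of_isAffine.2 (inferInstance : CompactSpace G₀.left)
  have h₀ : SemiAbLib.IsSemiAb G₀ := SemiAbLib.isSemiAb_of_no_ga fun j hj hjc => by
    haveI := hj; haveI := hjc
    exact UnipKerLib.noGa_point kA N (hss s) ξ hξ (j ≫ i) inferInstance (by rw [Over.comp_left]; infer_instance)
  let φ : G₀.left ⟶ N.left := i.left ≫ pullback.fst N.hom ξ
  have hφs : ∀ y, N.hom.base (φ.base y) = s := fun y => by
    rw [← Scheme.Hom.comp_apply, Category.assoc, pullback.condition, Scheme.Hom.comp_apply, Scheme.Hom.comp_apply]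
    exact (congrArg ξ.base (Subsingleton.elim (α := ↥(Spec (CommRingCat.of kA))) _ _)).trans hξ
  have hfst1 : ∀ x : (P.obj (𝟙_ (Over (Spec (CommRingCat.of R))))).left,
      (pullback.fst (𝟙_ (Over (Spec (CommRingCat.of R)))).hom ξ).base x = s := fun x => by
    have e := congr($(pullback.condition (f := (𝟙_ (Over (Spec (CommRingCat.of R)))).hom) (g := ξ)).base x)
    rw [Scheme.Hom.comp_apply, Scheme.Hom.comp_apply] at e
    refine e.trans ?_
    rw [Subsingleton.elim ((pullback.snd (𝟙_ (Over (Spec (CommRingCat.of R)))).hom ξ).base x)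
      (IsLocalRing.closedPoint kA)]
    exact hξ
  let eN := (η[N] : 𝟙_ _ ⟶ N).left
  let eN' := (η[N'] : 𝟙_ _ ⟶ N').left
  have heN : eN.base s ∈ SGA7.specialFibreSet R N := by
    show N.hom.base (eN.base s) = s
    rw [← Scheme.Hom.comp_apply, Over.w (η[N] : 𝟙_ _ ⟶ N)]; rfl
  -- the unit in the image
  obtain ⟨y₁, hy₁⟩ : ∃ y, φ.base y = eN.base s := by
    refine ⟨(η[G₀] : 𝟙_ _ ⟶ G₀).left.base (IsLocalRing.closedPoint kA), ?_⟩
    show (pullback.fst N.hom ξ).base (i.left.base _) = _
    rw [← Scheme.Hom.comp_apply (η[G₀] : 𝟙_ _ ⟶ G₀).left i.left, ← Over.comp_left, IsMonHom.one_hom,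
      Functor.obj.η_def, Over.comp_left, Scheme.Hom.comp_apply]
    refine (congr($((NeronQFLib.isPullback_map ξ (η[N] : 𝟙_ _ ⟶ N)).w.symm).base _)).trans ?_
    rw [Scheme.Hom.comp_apply, hfst1]
  have hsec : ∀ y, φ.base y ∈ SGA7.secComp R N η[N] := fun y => by
    refine (isPreconnected_range φ.continuous).subset_connectedComponentIn ⟨y₁, hy₁⟩ ?_ ⟨y, rfl⟩
    rintro _ ⟨z, rfl⟩
    exact hφs z
  have hu1 : ∀ y, u.left.base (φ.base y) = eN'.base s := fun y => by
    rw [hu _ (hsec y) _ (mem_connectedComponentIn heN), ← Scheme.Hom.comp_apply, ← Over.comp_left, IsMonHom.one_hom]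
  let v : G₀ ⟶ P.obj N' := i ≫ P.map u
  haveI : IsMonHom v := inferInstance
  haveI : Subsingleton (P.obj (𝟙_ (Over (Spec (CommRingCat.of R))))).left := by
    haveI : IsIso (pullback.snd (𝟙_ (Over (Spec (CommRingCat.of R)))).hom ξ) := by
      show IsIso (pullback.snd (𝟙 _) ξ); infer_instance
    exact (pullback.snd (𝟙_ (Over (Spec (CommRingCat.of R)))).hom ξ).homeomorph.injective.subsingleton
  have hv : ∀ y y', v.left.base y = v.left.base y' := by
    have key : ∀ y, ∃ z, (P.map (η[N'] : 𝟙_ _ ⟶ N')).left.base z = v.left.base y := fun y => by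
      obtain ⟨z, -, hz⟩ := NeronQFLib.exists_preimage (NeronQFLib.isPullback_map ξ (η[N'] : 𝟙_ _ ⟶ N')) s
        (v.left.base y) (by
          show eN'.base s = _
          rw [← hu1 y, ← Scheme.Hom.comp_apply φ, ← Scheme.Hom.comp_apply v.left]
          have hφv : φ ≫ u.left = v.left ≫ pullback.fst N'.hom ξ := by
            rw [Over.comp_left, Category.assoc, Category.assoc, (NeronQFLib.isPullback_map ξ u).w]
          rw [hφv])
      exact ⟨z, hz⟩
    intro y y'
    obtain ⟨z, hz⟩ := key y
    obtain ⟨z', hz'⟩ := key y'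
    rw [← hz, ← hz', Subsingleton.elim z z']
  have hv1 : ∀ τ : 𝟙_ (Over (Spec (CommRingCat.of kA))) ⟶ G₀, τ ≫ v = 1 := fun τ =>
    (AVRigidLib.ext_pt (hv _ _)).trans (MonObj.one_comp v)
  -- the kernel on the generic fibre
  let F := SGA7.genFib R K
  letI : GrpObj (F.obj N) := Functor.grpObjObj
  letI : GrpObj (F.obj N') := Functor.grpObjObj
  haveI := AbSchLib.isMonHom_pullback_map ξK u
  haveI : LocallyOfFiniteType (F.obj N).hom := inferInstanceAs (LocallyOfFiniteType (pullback.snd N.hom ξK))
  haveI : LocallyOfFiniteType (F.obj N').hom := inferInstanceAs (LocallyOfFiniteType (pullback.snd N'.hom ξK))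
  haveI : IsSeparated (F.obj N').hom := inferInstanceAs (IsSeparated (pullback.snd N'.hom ξK))
  obtain ⟨Kk, _, k, hk, hkc, hker, -⟩ := AntiAffLib.exists_kernel (F.map u)
  haveI := hk; haveI := hkc
  let f : Kk.left ⟶ N.left := k.left ≫ pullback.fst N.hom ξK
  haveI : QuasiCompact f := by
    haveI : QuasiCompact ξK := inferInstance
    haveI : QuasiCompact (pullback.fst N.hom ξK) := MorphismProperty.pullback_fst _ _ inferInstance
    infer_instance
  have hKer : ∀ g : N.left, N.hom.base g = t → u.left.base g = eN'.base t → g ∈ Set.range f.base := by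
    intro g hg hug
    obtain ⟨g₁, hg₁, -⟩ := NeronQFLib.exists_preimage (IsPullback.of_hasPullback N.hom ξK) g
      (IsLocalRing.closedPoint K) (hg.trans htK.symm)
    obtain ⟨z, -, hz⟩ := NeronQFLib.exists_preimage (NeronQFLib.isPullback_map ξK (η[N'] : 𝟙_ _ ⟶ N')) t
      ((F.map u).left.base g₁) (by
        show eN'.base t = _
        rw [← hug, ← hg₁, ← Scheme.Hom.comp_apply, ← Scheme.Hom.comp_apply, (NeronQFLib.isPullback_map ξK u).w]; rfl)
    haveI : Subsingleton (F.obj (𝟙_ (Over (Spec (CommRingCat.of R))))).left := by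
      haveI : IsIso (pullback.snd (𝟙_ (Over (Spec (CommRingCat.of R)))).hom ξK) := by
        show IsIso (pullback.snd (𝟙 _) ξK); infer_instance
      haveI : Subsingleton ↥(Spec (CommRingCat.of K)) := inferInstanceAs (Subsingleton (PrimeSpectrum K))
      exact (pullback.snd (𝟙_ (Over (Spec (CommRingCat.of R)))).hom ξK).homeomorph.injective.subsingleton
    obtain ⟨w, hw, -⟩ := NeronQFLib.exists_preimage (hker.map (Over.forget _)) g₁ (IsLocalRing.closedPoint K) (by
      show (F.map u).left.base g₁ = (η[F.obj N'] : 𝟙_ _ ⟶ F.obj N').left.base (IsLocalRing.closedPoint K)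
      rw [← hz, Functor.obj.η_def, Over.comp_left, Scheme.Hom.comp_apply]
      exact congrArg _ (@Subsingleton.elim (F.obj (𝟙_ (Over (Spec (CommRingCat.of R))))).left _ _ _))
    refine ⟨w, ?_⟩
    show (pullback.fst N.hom ξK).base (k.left.base w) = g
    rw [show k.left.base w = g₁ from hw, hg₁]
  -- torsion points lift into the kernel
  obtain ⟨l, hl, hlk⟩ := AVAmpleLib.exists_prime_ne_zero kA
  haveI := hl
  let adj := Over.mapPullbackAdj ξ
  let e : Over.mk ξ ⟶ (Over.map ξ).obj (𝟙_ (Over (Spec (CommRingCat.of kA)))) :=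
    Over.homMk (𝟙 _) (by simp)
  have hmulX : ∀ (X : Over (Spec (CommRingCat.of R))) [GrpObj X],
      letI : GrpObj (P.obj X) := Functor.grpObjObj
      ∀ y y' : 𝟙_ (Over (Spec (CommRingCat.of kA))) ⟶ P.obj X,
        e ≫ (adj.homEquiv _ _).symm (y * y') =
          (e ≫ (adj.homEquiv _ _).symm y) * (e ≫ (adj.homEquiv _ _).symm y') := by
    intro X _ y y'
    rw [← MonObj.comp_mul]
    congr 1
    rw [Equiv.symm_apply_eq, Adjunction.homEquiv_unit, Functor.map_mul, MonObj.comp_mul,
      ← Adjunction.homEquiv_unit, ← Adjunction.homEquiv_unit, Equiv.apply_symm_apply, Equiv.apply_symm_apply]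
  let Φ : (𝟙_ (Over (Spec (CommRingCat.of kA))) ⟶ P.obj N) →* (Over.mk ξ ⟶ N) :=
    MonoidHom.mk' (fun y => e ≫ (adj.homEquiv _ _).symm y) (hmulX N)
  let Φ' : (𝟙_ (Over (Spec (CommRingCat.of kA))) ⟶ P.obj N') →* (Over.mk ξ ⟶ N') :=
    MonoidHom.mk' (fun y => e ≫ (adj.homEquiv _ _).symm y) (hmulX N')
  have hΦu : ∀ y, Φ y ≫ u = Φ' (y ≫ P.map u) := fun y => by
    show (e ≫ (adj.homEquiv _ _).symm y) ≫ u = e ≫ (adj.homEquiv _ _).symm (y ≫ P.map u)
    rw [Category.assoc, Adjunction.homEquiv_naturality_right_symm]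
  have hΦl : ∀ y, (Φ y).left = y.left ≫ pullback.fst N.hom ξ := fun y => by
    show (e ≫ (adj.homEquiv _ _).symm y).left = _
    simp [e, adj, Over.mapPullbackAdj, Adjunction.homEquiv_counit]
  have hmem : ∀ τ ∈ AVAmpleLib.torsPow G₀ l, φ.base (AVAmpleLib.pt τ) ∈ closure (Set.range f.base) := by
    rintro τ ⟨m, hτ⟩
    let M := l ^ m
    have hM : IsUnit (M : A) := by
      refine IsLocalRing.notMem_maximalIdeal.1 fun hmem => ?_
      have h0 := (Ideal.Quotient.eq_zero_iff_mem (I := IsLocalRing.maximalIdeal A)).2 hmem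
      have h0' : IsLocalRing.residue A (M : A) = 0 := h0
      rw [map_natCast, Nat.cast_pow] at h0'
      exact pow_ne_zero m hlk h0'
    let τ' : Over.mk ξ ⟶ N := Φ (τ ≫ i)
    have hτ' : τ' ^ M = 1 := by rw [← map_pow, ← MonObj.pow_comp, hτ, MonObj.one_comp, map_one]
    have hτu : τ' ≫ u = 1 := by rw [hΦu, Category.assoc, hv1, map_one]
    obtain ⟨σ, hσ, hσb⟩ := UnipKerLib.exists_lift (G := N) a M hM τ' hτ'
    have hd : σ ≫ u = 1 := by
      refine UnipKerLib.eq_one_of_reduction a (σ ≫ u) ?_ M hM (by rw [← MonObj.pow_comp, hσ, MonObj.one_comp])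
      rw [Over.comp_left, ← Category.assoc, hσb, ← Over.comp_left, hτu,
        ← MonObj.comp_one (Over.homMk b rfl : Over.mk ξ ⟶ Over.mk a)]
      rfl
    have hg1 : N.hom.base (σ.left.base η₀) = t := by
      rw [← Scheme.Hom.comp_apply, Over.w σ]; exact hη₀
    have hg2 : u.left.base (σ.left.base η₀) = eN'.base t := by
      rw [← Scheme.Hom.comp_apply, ← Over.comp_left, hd, Hom.one_def, Over.comp_left, Scheme.Hom.comp_apply]
      rw [Over.toUnit_left]
      exact congrArg eN'.base hη₀
    have hspec : σ.left.base η₀ ⤳ φ.base (AVAmpleLib.pt τ) := by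
      have e1 : φ.base (AVAmpleLib.pt τ) = σ.left.base (IsLocalRing.closedPoint A) := by
        refine Eq.trans ?_ (congrArg σ.left.base hbc)
        show _ = (b ≫ σ.left).base (IsLocalRing.closedPoint kA)
        rw [hσb, hΦl]
        rfl
      rw [e1]
      exact (hη _).map σ.left.continuous
    exact hspec.mem_closed isClosed_closure (subset_closure (hKer _ hg1 hg2))
  let y₀ := genericPoint G₀.left
  have hy₀ : ∀ y, y₀ ⤳ y := fun y => genericPoint_specializes y
  let z := φ.base y₀
  have hz : z ∈ closure (Set.range f.base) := by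
    have h1 : y₀ ∈ closure (AVAmpleLib.pt '' AVAmpleLib.torsPow G₀ l) := by
      rw [UnipKerLib.semi_dense_torsPow h₀ l hlk]; trivial
    refine closure_minimal ?_ isClosed_closure (image_closure_subset_closure_image φ.continuous ⟨_, h1, rfl⟩)
    rintro _ ⟨_, ⟨τ, hτ, rfl⟩, rfl⟩
    exact hmem τ hτ
  obtain ⟨w, hw⟩ := FFDescLib.exists_specializes_of_mem_closure_range f hz
  have hfw : N.hom.base (f.base w) = t := by
    show N.hom.base ((pullback.fst N.hom ξK).base (k.left.base w)) = t
    rw [← Scheme.Hom.comp_apply, pullback.condition, Scheme.Hom.comp_apply]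
    haveI : Subsingleton ↥(Spec (CommRingCat.of K)) := inferInstanceAs (Subsingleton (PrimeSpectrum K))
    rw [Subsingleton.elim ((pullback.snd N.hom ξK).base (k.left.base w)) (IsLocalRing.closedPoint K)]
    exact htK
  haveI : IsReduced (F.obj N).left := by
    haveI : Subsingleton ↥(Spec (CommRingCat.of K)) := inferInstanceAs (Subsingleton (PrimeSpectrum K))
    haveI : IsIntegral (F.obj N).left := GeometricallyIntegral.isIntegral_of_subsingleton (F.obj N).hom
    infer_instance
  haveI : IrreducibleSpace (F.obj N).left := by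
    haveI : Subsingleton ↥(Spec (CommRingCat.of K)) := inferInstanceAs (Subsingleton (PrimeSpectrum K))
    haveI : IsIntegral (F.obj N).left := GeometricallyIntegral.isIntegral_of_subsingleton (F.obj N).hom
    infer_instance
  let gen := genericPoint (F.obj N).left
  have hgen : (pullback.fst N.hom ξK).base gen = f.base w := by
    refine UnipKerLib.eq_of_specializes N.hom z (hφs y₀) ?_ (f.base w) _ hw ?_
      ((genericPoint_specializes (k.left.base w)).map (pullback.fst N.hom ξK).continuous)
    · exact fun w' hw' hws => UnipKerLib.eq_of_specializes_fibre ξ hξ i.left y₀ hy₀ w' hw' hws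
    · intro h
      exact hst (((hφs y₀).symm.trans ((congrArg (fun p => N.hom.base p) h.symm))).trans hfw)
  have hkw : k.left.base w = gen := ((pullback.fst N.hom ξK).isEmbedding.injective hgen).symm
  haveI : Surjective k.left := by
    refine ⟨Set.range_eq_univ.1 (Set.eq_univ_of_univ_subset ?_)⟩
    exact (genericPoint_spec (F.obj N).left).symm.subset.trans
      (closure_minimal (Set.singleton_subset_iff.2 ⟨w, hkw⟩) k.left.isClosedEmbedding.isClosed_range)
  haveI : IsIso k.left := isIso_of_isClosedImmersion_of_surjective k.left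
  haveI : IsIso ((Over.forget _).map k) := ‹IsIso k.left›
  haveI : IsIso k := isIso_of_reflects_iso k (Over.forget _)
  refine (hN'.2.2.2 N hN.1).1 ?_
  show F.map u = F.map 1
  rw [← cancel_epi k, AntiAffLib.kernel_comp hker, Functor.map_one, MonObj.comp_one]

end Groth.Agent.S17460
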