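import Groth.Statements.S17462
import Groth.Agent.EtLocLib.Henselian
-- import your own Groth.Agent.* helpers here

set_option autoImplicit false
universe u
open CategoryTheory CategoryTheory.Limits AlgebraicGeometry
open Hensel

namespace Groth.Agent.S17462

/-- Let R be a henselian local ring and let X and Y be quasi-finite separated schemes over Spec R
(locally of finite type, quasi-compact, with discrete fibres, separated), with finite parts W_X ⊆ X
and W_Y ⊆ Y (open and closed subsets, finite over Spec R as open subschemes, containing every point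
over the closed point). If W ⊆ X ×_R Y is the finite part of the fibre product (same three
conditions, for the structure morphism of X ×_R Y), then W = W_X ×_R W_Y: a point of X ×_R Y lies in
W if and only if its first projection lies in W_X and its second projection lies in W_Y. -/
theorem result (R : Type u) [CommRing R] [HenselianLocalRing R]
    {X Y : Scheme.{u}} (f : X ⟶ Spec (CommRingCat.of R)) (f' : Y ⟶ Spec (CommRingCat.of R))
    [LocallyQuasiFinite f] [LocallyOfFiniteType f] [QuasiCompact f] [IsSeparated f]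
    [LocallyQuasiFinite f'] [LocallyOfFiniteType f'] [QuasiCompact f'] [IsSeparated f']
    (WX : X.Opens) (hWX : (IsClosed (WX : Set ↥X) ∧ IsFinite (WX.ι ≫ f) ∧ ∀ x : ↥X, f.base x = IsLocalRing.closedPoint R → x ∈ WX))
    (WY : Y.Opens) (hWY : (IsClosed (WY : Set ↥Y) ∧ IsFinite (WY.ι ≫ f') ∧ ∀ x : ↥Y, f'.base x = IsLocalRing.closedPoint R → x ∈ WY))
    (W : (pullback f f').Opens)
    (hW : (IsClosed (W : Set ↥(pullback f f')) ∧ IsFinite (W.ι ≫ (pullback.fst f f' ≫ f)) ∧ ∀ x : ↥(pullback f f'), (pullback.fst f f' ≫ f).base x = IsLocalRing.closedPoint R → x ∈ W))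
    (z : ↥(pullback f f')) :
    z ∈ W ↔ ((pullback.fst f f').base z ∈ WX ∧ (pullback.snd f f').base z ∈ WY) := by
  have key : ∀ {Z : Scheme.{u}} (h : Z ⟶ Spec (CommRingCat.of R)) (V V' : Z.Opens),
      IsFinite (V.ι ≫ h) → (∀ z : Z, h.base z = IsLocalRing.closedPoint R → z ∈ V') → ∀ z ∈ V,
        ∃ z₀ ∈ V', z ⤳ z₀ := by
    intro Z h V V' hfin hcl z hz
    haveI := hfin
    have hcls : IsClosed ((V.ι ≫ h).base '' closure {(⟨z, hz⟩ : V)}) :=
      (V.ι ≫ h).isClosedMap _ isClosed_closure
    obtain ⟨y, hy, hye⟩ : IsLocalRing.closedPoint R ∈ (V.ι ≫ h).base '' closure {(⟨z, hz⟩ : V)} :=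
      (IsLocalRing.specializes_closedPoint (R := R) _).mem_closed hcls ⟨_, subset_closure rfl, rfl⟩
    exact ⟨V.ι.base y, hcl _ hye, (specializes_iff_mem_closure.mpr hy).map V.ι.continuous⟩
  let π : pullback f f' ⟶ Spec (CommRingCat.of R) := pullback.fst f f' ≫ f
  let W' : (pullback f f').Opens := pullback.fst f f' ⁻¹ᵁ WX ⊓ pullback.snd f f' ⁻¹ᵁ WY
  have hcl : ∀ v : ↥(pullback f f'), π.base v = IsLocalRing.closedPoint R → v ∈ W' := fun v hv =>
    ⟨hWX.2.2 _ (by rw [← Scheme.Hom.comp_apply]; exact hv), hWY.2.2 _ (by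
      rw [← Scheme.Hom.comp_apply, ← pullback.condition]; exact hv)⟩
  have hfin : IsFinite (W'.ι ≫ π) := by
    haveI := hWX.2.1
    haveI := hWY.2.1
    let a : pullback (WX.ι ≫ f) (WY.ι ≫ f') ⟶ pullback f f' :=
      pullback.map _ _ _ _ WX.ι WY.ι (𝟙 _) (by simp) (by simp)
    haveI : IsOpenImmersion a := inferInstance
    have hr : a.opensRange = W' := TopologicalSpace.Opens.ext (by
      ext v
      constructor
      · rintro ⟨q, rfl⟩
        have h1 : (a ≫ pullback.fst f f').base q ∈ WX := by
          rw [pullback.lift_fst, Scheme.Hom.comp_apply]; exact Subtype.prop _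
        have h2 : (a ≫ pullback.snd f f').base q ∈ WY := by
          rw [pullback.lift_snd, Scheme.Hom.comp_apply]; exact Subtype.prop _
        exact ⟨h1, h2⟩
      · rintro ⟨h1, h2⟩
        show v ∈ Set.range a.base
        rw [Scheme.Pullback.range_map]
        exact ⟨by rw [Set.mem_preimage, Scheme.Opens.range_ι]; exact h1, by rw [Set.mem_preimage, Scheme.Opens.range_ι]; exact h2⟩)
    rw [← hr, ← MorphismProperty.cancel_left_of_respectsIso @IsFinite a.isoOpensRange.hom,
      Scheme.Hom.isoOpensRange_hom_ι_assoc,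
      show a ≫ π = pullback.fst _ _ ≫ WX.ι ≫ f from (pullback.lift_fst_assoc _ _ _ _).trans (Category.assoc _ _ _)]
    exact MorphismProperty.comp_mem @IsFinite _ _ (MorphismProperty.pullback_fst _ _ inferInstance) inferInstance
  refine ⟨fun hz => ?_, fun hz => ?_⟩
  · obtain ⟨z₀, hz₀, hsp⟩ := key π W W' hW.2.1 hcl z hz
    exact hsp.mem_open W'.2 hz₀
  · obtain ⟨z₀, hz₀, hsp⟩ := key π W' W hfin hW.2.2 z hz
    exact hsp.mem_open W.2 hz₀

end Groth.Agent.S17462
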