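import Groth.Statements.S17464
import Mathlib
import Groth.Agent.S13371
import Groth.Agent.KummerExactLib.Basic
import Groth.Agent.RedRankLib.Open
import Groth.Agent.TorusFieldLib.Scheme
import Groth.Agent.MonoQuotLib.Orbit
import Groth.Agent.AntiAffLib.Image
import Groth.Agent.AntiAffLib.Descend
-- import your own Groth.Agent.* helpers here

set_option autoImplicit false
set_option backward.isDefEq.respectTransparency false
universe u
open CategoryTheory MonoidalCategory CartesianMonoidalCategory MonObj GrpObj AlgebraicGeometry CategoryTheory.Limits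
open AlgGrp

attribute [-instance] CategoryTheory.Hom.commGroup

namespace Groth.Agent.S17464
/-- Homomorphisms from the additive group to a diagonalisable group are trivial over a reduced base. -/
theorem hom_Ga_DS {S : Scheme.{u}} [IsReduced S] {M : Type} [AddCommGroup M] (φ : Red.Ga S ⟶ Red.DS S M)
    [IsMonHom φ] : φ = 1 := by
  obtain ⟨χ, hχ⟩ := (DSPtsLib.dsPt_bijective (M := M) (Red.Ga S)).2 φ
  have h : ∀ m : M, χ (.ofAdd m) = 1 := fun m => by
    let z : ℤ →+ M := zmultiplesHom M m
    haveI : IsMonHom (Red.DSmap S z) := KummerExactLib.isMonHom_DSmap z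
    have h1 : φ ≫ Red.DSmap S z = 1 := Groth.Agent.S13371.result S _
    rw [← hχ, KummerExactLib.dsPt_DSmap, ← DSPtsLib.dsPt_one] at h1
    have h2 := congrArg (fun f => f (Multiplicative.ofAdd (1 : ℤ))) ((DSPtsLib.dsPt_bijective (Red.Ga S)).1 h1)
    simp [z] at h2; exact h2.trans rfl
  rw [← hχ, ← DSPtsLib.dsPt_one]
  exact congrArg _ (MonoidHom.ext h)


/-- Let k be an algebraically closed field, T a k-torus and U a smooth connected affine k-group scheme
of finite type with a composition series whose successive quotients are additive groups: closed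
subgroup schemes U_0 → U_1 → … → U_n = U (homomorphisms which are closed immersions, U_i ↦ U_{i+1}),
with U_0 the trivial group, U_n identified with U by an isomorphism of group schemes, and each U_i
the kernel of a flat surjective homomorphism from U_{i+1} onto the additive group. Then every
homomorphism from U to T is the trivial one. (The published statement is over an arbitrary field for
a torus and a smooth connected unipotent group, unipotent meaning that such a composition series
exists over an algebraic closure; this row states the case of an algebraically closed base field.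
The companion assertion, that homomorphisms from T to U are trivial, is an existing statement about
groups of multiplicative type.) -/
theorem result (k : Type u) [Field k] [IsAlgClosed k]
    (T U : Over (Spec (CommRingCat.of k))) [GrpObj T] [GrpObj U] (hT : Red.IsTorus T)
    [Smooth U.hom] [QuasiCompact U.hom] [ConnectedSpace ↥U.left] [IsAffine U.left]
    (n : ℕ) (Us : Fin (n + 1) → Over (Spec (CommRingCat.of k))) [∀ i, GrpObj (Us i)]
    (h0 : Red.IsTrivialGrp (Us 0))
    (e : Us (Fin.last n) ≅ U) [IsMonHom e.hom]
    (incl : ∀ i : Fin n, Us i.castSucc ⟶ Us i.succ) [∀ i, IsMonHom (incl i)]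
    [∀ i, IsClosedImmersion (incl i).left]
    (quot : ∀ i : Fin n, Us i.succ ⟶ Red.Ga (Spec (CommRingCat.of k))) [∀ i, IsMonHom (quot i)]
    [∀ i, Surjective (quot i).left] [∀ i, Flat (quot i).left]
    (hker : ∀ i : Fin n, AlgGrp.IsKernel (incl i) (quot i))
    (f : U ⟶ T) [IsMonHom f] :
    f = 1 := by
  haveI : IsReduced (Spec (CommRingCat.of k)) := inferInstance
  obtain ⟨r, v, hv, hv', -⟩ := Groth.Agent.RedRank.exists_torus_rank hT
  obtain ⟨w, hw, hw'⟩ := TorusField.exists_DS_iso k (Fin r → ℤ)
  haveI := hv; haveI := hv'; haveI := hw; haveI := hw'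
  have hGa : ∀ (φ : Red.Ga (Spec (CommRingCat.of k)) ⟶ T) [IsMonHom φ], φ = 1 := fun φ _ => by
    have h := hom_Ga_DS (φ ≫ v.inv ≫ w.hom)
    rw [← cancel_mono (v.inv ≫ w.hom), h, MonObj.one_comp]
  haveI : ∀ j, @IsMonHom _ _ _ _ _ _ (GrpObj.toMonObj (X := Red.Ga (Spec (CommRingCat.of k)))) (quot j) :=
    fun j => (inferInstance : IsMonHom (quot j))
  haveI : LocallyOfFiniteType U.hom := inferInstance
  have hlft : ∀ i, LocallyOfFiniteType (Us i).hom := by
    intro i
    induction i using Fin.reverseInduction with
    | last =>
      haveI : IsIso e.hom.left := ((Over.forget _).mapIso e).isIso_hom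
      rw [← Over.w e.hom]; infer_instance
    | cast i ih =>
      haveI := ih
      rw [← Over.w (incl i)]; infer_instance
  haveI : LocallyOfFiniteType (Red.Ga (Spec (CommRingCat.of k))).hom := by
    haveI : LocallyOfFiniteType Red.GaZ.{u}.hom := by
      haveI : Algebra.FiniteType (ULift.{u} ℤ) (SymmetricAlgebra (ULift.{u} ℤ) (ULift.{u} ℤ)) :=
        Algebra.FiniteType.equiv inferInstance
          (SymmetricAlgebra.equivMvPolynomial (Module.Basis.singleton Unit (ULift.{u} ℤ))).symm
      exact (HasRingHomProperty.Spec_iff (P := @LocallyOfFiniteType)).2 (RingHom.finiteType_algebraMap.2 this)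
    exact MorphismProperty.pullback_snd (P := @LocallyOfFiniteType) _ _ inferInstance
  have key : ∀ i, ∀ (g : Us i ⟶ T) [IsMonHom g], g = 1 := by
    intro i
    induction i using Fin.induction with
    | zero =>
      intro g _
      haveI : IsIso (Us 0).hom := h0
      have e0 : (𝟙 (Us 0) : Us 0 ⟶ Us 0) = 1 := Over.OverMorphism.ext ((cancel_mono (Us 0).hom).1 (by
        rw [Over.w, Over.w]))
      rw [← Category.id_comp g, e0, MonObj.one_comp]
    | succ i ih =>
      intro g _
      haveI := hlft i.succ
      haveI := AntiAffLib.lfp_of_lft (quot i)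
      obtain ⟨φ, hφ⟩ := Groth.Agent.MonoQuot.exists_desc_over (quot i) g fun S' a b eab => by
        obtain ⟨l, hl⟩ := AntiAffLib.exists_lift_kernel (hker i) (a⁻¹ * b) (by
          rw [MonObj.mul_comp (g := quot i)]; rw [GrpObj.inv_comp (g := quot i)]; rw [eab, inv_mul_cancel])
        have : (a⁻¹ * b) ≫ g = 1 := by rw [← hl, Category.assoc, ih (incl i ≫ g), MonObj.comp_one]
        rw [MonObj.mul_comp, GrpObj.inv_comp, inv_mul_eq_one] at this
        exact this
      haveI : Epi (quot i) := Groth.Agent.MonoQuot.epi_over _
      obtain ⟨f1, f2, f3⟩ := Groth.Agent.MonoQuot.fppf_tensor (quot i) (quot i)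
      haveI := f1; haveI := f2; haveI := f3
      haveI : Epi (MonoidalCategory.tensorHom (quot i) (quot i)) := Groth.Agent.MonoQuot.epi_over _
      haveI : IsMonHom φ := by
        refine ⟨?_, ?_⟩
        · rw [← IsMonHom.one_hom (quot i), Category.assoc, hφ, IsMonHom.one_hom g]
        · rw [← cancel_epi (MonoidalCategory.tensorHom (quot i) (quot i)), ← Category.assoc,
            ← IsMonHom.mul_hom (quot i), Category.assoc, hφ, IsMonHom.mul_hom g, ← Category.assoc,
            MonoidalCategory.tensorHom_comp_tensorHom, hφ]
      rw [← hφ, hGa φ, MonObj.comp_one]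
  rw [← cancel_epi e.hom, MonObj.comp_one]
  exact key _ _

end Groth.Agent.S17464
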