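import Groth.Statements.S17465
import Groth.Agent.S16615
import Groth.Agent.S19598
import Groth.Agent.S14594
import Groth.Agent.RedRankLib.Tori
import Groth.Agent.AlbLib.AffineHom
import Groth.Agent.AntiAffLib.Image
import Groth.Agent.AntiAffLib.KerSub
import Groth.Agent.AntiAffLib.Descend
import Groth.Agent.AlgSpLib.ReducedSmooth
import Groth.Agent.GrpFieldLib.KerShear

set_option autoImplicit false
universe u
open CategoryTheory MonoidalCategory CartesianMonoidalCategory MonObj GrpObj AlgebraicGeometry CategoryTheory.Limits
open AlgGrp

attribute [-instance] CategoryTheory.Hom.commGroup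

namespace Groth.Agent.S17465

/-- Let k be a field and f : G' → G an isogeny, i.e. a surjective homomorphism with finite kernel,
between smooth connected commutative affine k-group schemes of finite type. Then G' is a torus
exactly when G is one. (The published sentence draws this conclusion after treating surjective
homomorphisms and isogenies together; for a surjective homomorphism with positive-dimensional kernel
only the implication from G' to G survives — the projection of the product of the multiplicative and
the additive group onto the multiplicative group is surjective with a non-torus source — so the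
equivalence is stated for isogenies, the case the dimension count in the printed proof covers. The
companion clause about unipotence is not stated.) -/
theorem result (k : Type u) [Field k]
    (G' G : Over (Spec (CommRingCat.of k))) [GrpObj G'] [GrpObj G] [IsCommMonObj G'] [IsCommMonObj G]
    [Smooth G'.hom] [QuasiCompact G'.hom] [ConnectedSpace ↥G'.left] [IsAffine G'.left]
    [Smooth G.hom] [QuasiCompact G.hom] [ConnectedSpace ↥G.left] [IsAffine G.left]
    (f : G' ⟶ G) [IsMonHom f] (hf : SGA7.IsIsogenyOver f) :
    Red.IsTorus G' ↔ Red.IsTorus G := by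
  obtain ⟨hs, hfin⟩ := hf
  haveI := hs
  obtain ⟨N, _, n, hnm, hnc, hnk, -⟩ := AntiAffLib.exists_kernel f
  haveI := hnm; haveI := hnc
  haveI : IsFinite N.hom := hfin N n hnk
  haveI : Mono n := Over.mono_of_mono_left n
  constructor
  · intro hT
    haveI : IsReduced G.left := AlgSpLib.isReduced_of_smooth G.hom
    haveI : Flat f.left := AntiAffLib.flat_of_surjective f
    haveI := AntiAffLib.lfp_of_lft f
    haveI : LocallyOfFiniteType N.hom := inferInstance
    haveI : IsLocallyNoetherian (Spec (CommRingCat.of k)) := inferInstance
    have hN : SGA3x.IsMultTypeFT N := Groth.Agent.S19598.result N G' (RedRank.isMultTypeFT_of_isTorus hT) n hnc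
      (Groth.Agent.GrpField.flat_field _) (LocallyOfFinitePresentation.iff_locallyOfFiniteType.2 inferInstance)
    refine Groth.Agent.S16615.result hT n hN f ⟨hs, inferInstance, inferInstance, ?_⟩
    rw [show (G' ◁ n) ≫ μ[G'] = fst G' N * (snd G' N ≫ n) by
      rw [Hom.mul_def]; exact congrArg (· ≫ μ[G']) (CartesianMonoidalCategory.hom_ext _ _ (by simp) (by simp))]
    exact Groth.Agent.GrpKerShear.isPullback_shear f n hnk
  · intro hT
    haveI : ConnectedSpace (𝟙_ (Over (Spec (CommRingCat.of k)))).left :=
      inferInstanceAs (ConnectedSpace (PrimeSpectrum k))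
    obtain ⟨T, _, i, A, _, q, him, hic, hTT, hqm, hqs, hqf, hk, hAp, hAs, hAc⟩ :=
      Groth.Agent.S14594.result k G' G f N n hnk
        ⟨G, inferInstance, 𝟙 G, 𝟙_ _, GrpObj.instTensorUnit, toUnit G, inferInstance,
          inferInstanceAs (IsClosedImmersion (𝟙 G.left)), hT,
          Groth.Agent.RedRank.isMonHom_of_mul _ (fun _ a b => toUnit_unique _ _),
          (by rw [AntiAffLib.toUnit_left]; exact ⟨fun z => ⟨(η[G] : 𝟙_ _ ⟶ G).left z,
            by rw [← Scheme.Hom.comp_apply, Over.w]; rfl⟩⟩),
          (by rw [AntiAffLib.toUnit_left]; exact Groth.Agent.GrpField.flat_field _),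
          (by
            show IsPullback (𝟙 G) (toUnit G) (toUnit G) η[𝟙_ (Over (Spec (CommRingCat.of k)))]
            rw [toUnit_unique η[𝟙_ (Over (Spec (CommRingCat.of k)))] (𝟙 _)]
            exact IsPullback.of_horiz_isIso ⟨by simp⟩),
          inferInstanceAs (IsProper (𝟙 (Spec (CommRingCat.of k)))),
          inferInstanceAs (Smooth (𝟙 (Spec (CommRingCat.of k)))), inferInstance⟩
    haveI := him; haveI := hic; haveI := hqm; haveI := hAp
    haveI : Mono i := Over.mono_of_mono_left i
    obtain ⟨l, hl⟩ := AntiAffLib.exists_lift_kernel hk (𝟙 G') (by rw [Category.id_comp]; exact AlbLib.eq_one_of_affine q)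
    haveI : IsIso i := ⟨l, (cancel_mono i).1 (by rw [Category.assoc, hl, Category.comp_id, Category.id_comp]), hl⟩
    haveI : IsMonHom (asIso i).symm.hom := by
      haveI : IsMonHom ((asIso i).symm.hom ≫ i) := by
        rw [show (asIso i).symm.hom ≫ i = 𝟙 G' from (asIso i).inv_hom_id]; infer_instance
      exact Groth.Agent.DiagRep.isMonHom_of_comp_mono _ i
    exact Groth.Agent.RedRank.isTorus_of_iso (asIso i).symm hTT

end Groth.Agent.S17465
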