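import Groth.Statements.S17467
import Groth.Agent.FibreConstLib.Alg
import Groth.Agent.NormalLib.Serre
import Groth.Agent.LocFFLib.Basic

set_option autoImplicit false
universe u
open CategoryTheory AlgebraicGeometry
open Variety

namespace Groth.Agent.S17467

/-- Let k be an algebraically closed field of characteristic zero, X and Y integral separated schemes of
finite type over k with Y normal, and f : X → Y a k-morphism surjective on points. A global function
s on X which takes equal values at any two k-rational points of X having the same image under f is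
the pull-back of a global function on Y. (The published statement is phrased for set-theoretic
sections of a vector bundle on Y whose pull-back along f is a regular section; that form reduces to
the present one locally on Y, and the present one is the case of the trivial line bundle.) -/
theorem result
    (k : Type u) [Field k] [IsAlgClosed k] [CharZero k]
    (X Y : Over (Spec (CommRingCat.of k)))
    [AlgebraicGeometry.IsIntegral X.left] [AlgebraicGeometry.IsIntegral Y.left]
    [LocallyOfFiniteType X.hom] [QuasiCompact X.hom] [IsSeparated X.hom]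
    [LocallyOfFiniteType Y.hom] [QuasiCompact Y.hom] [IsSeparated Y.hom]
    (hY : Pi1.IsNormalScheme Y.left)
    (f : X ⟶ Y) (hf : Function.Surjective f.left.base)
    (s : Γ(X.left, ⊤))
    (hs : ∀ x₁ x₂ : Spec (CommRingCat.of k) ⟶ X.left,
      x₁ ≫ X.hom = 𝟙 _ → x₂ ≫ X.hom = 𝟙 _ → x₁ ≫ f.left = x₂ ≫ f.left →
        x₁.appTop.hom s = x₂.appTop.hom s) :
    ∃ r : Γ(Y.left, ⊤), f.left.appTop.hom r = s := by
  haveI : QuasiCompact f.left := by
    haveI : QuasiCompact (f.left ≫ Y.hom) := by rw [Over.w f]; infer_instance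
    exact QuasiCompact.of_comp f.left Y.hom
  haveI : LocallyOfFiniteType f.left := by
    haveI : LocallyOfFiniteType (f.left ≫ Y.hom) := by rw [Over.w f]; infer_instance
    exact locallyOfFiniteType_of_comp f.left Y.hom
  haveI : IsDominant f.left := ⟨hf.denseRange⟩
  haveI : IsSchemeTheoreticallyDominant f.left := .of_isDominant _
  haveI : IsLocallyNoetherian Y.left := LocallyOfFiniteType.isLocallyNoetherian Y.hom
  have key : ∀ V : Y.left.affineOpens, ∃ r : Γ(Y.left, V.1),
      f.left.app V.1 r = X.left.presheaf.map (homOfLE le_top).op s := by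
    rintro ⟨V, hV⟩
    show ∃ r : Γ(Y.left, V), f.left.app V r = X.left.presheaf.map (homOfLE le_top).op s
    rcases Set.eq_empty_or_nonempty (V : Set Y.left) with hVe | hVne
    · obtain rfl : V = ⊥ := SetLike.coe_injective hVe
      exact ⟨0, Subsingleton.elim (α := Γ(X.left, ⊥)) _ _⟩
    obtain ⟨y₀, hy₀⟩ := hVne
    obtain ⟨x₀, rfl⟩ := hf y₀
    obtain ⟨U, hU, hxU, hUV⟩ := exists_isAffineOpen_mem_and_subset (X := X.left) (x := x₀) (U := f.left ⁻¹ᵁ V) hy₀
    haveI : Nonempty V := ⟨⟨_, hy₀⟩⟩
    haveI : Nonempty U := ⟨⟨_, hxU⟩⟩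
    let W := f.left ⁻¹ᵁ V
    haveI : Nonempty W := ⟨⟨x₀, hy₀⟩⟩
    obtain ⟨ψ, hψ⟩ : ∃ ψ : CommRingCat.of k ⟶ Γ(Y.left, V), Spec.map ψ = hV.fromSpec ≫ Y.hom := Spec.map_surjective _
    let φ := f.left.appLE V U hUV
    have hfac : hU.fromSpec ≫ f.left = Spec.map φ ≫ hV.fromSpec :=
      (IsAffineOpen.SpecMap_appLE_fromSpec f.left hV hU hUV).symm
    have hXU : hU.fromSpec ≫ X.hom = Spec.map (ψ ≫ φ) := by
      rw [Spec.map_comp, hψ, ← Over.w f, reassoc_of% hfac]
    letI : Algebra k Γ(Y.left, V) := ψ.hom.toAlgebra
    letI : Algebra Γ(Y.left, V) Γ(X.left, U) := φ.hom.toAlgebra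
    letI : Algebra k Γ(X.left, U) := (ψ ≫ φ).hom.toAlgebra
    haveI : IsScalarTower k Γ(Y.left, V) Γ(X.left, U) := IsScalarTower.of_algebraMap_eq' rfl
    haveI : Algebra.FiniteType k Γ(X.left, U) := RingHom.finiteType_algebraMap.mp
      ((HasRingHomProperty.Spec_iff (P := @LocallyOfFiniteType)).mp
        (hXU ▸ (inferInstance : LocallyOfFiniteType (hU.fromSpec ≫ X.hom))))
    let res := X.left.presheaf.map (homOfLE hUV).op
    have hres : Function.Injective res := map_injective_of_isIntegral X.left (homOfLE hUV)
    have hφ : Function.Injective φ := hres.comp (f.left.app_injective V)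
    let sW := X.left.presheaf.map (homOfLE (le_top : W ≤ ⊤)).op s
    have hval : ∀ a : Γ(X.left, U) →ₐ[k] k, (Spec.map (CommRingCat.ofHom a.toRingHom) ≫ hU.fromSpec).appTop s =
        (Scheme.ΓSpecIso (CommRingCat.of k)).inv (a (res sW)) := by
      intro a
      have e : hU.fromSpec.appTop = X.left.presheaf.map (homOfLE (le_top : U ≤ ⊤)).op ≫ (Scheme.ΓSpecIso Γ(X.left, U)).inv := by
        rw [Scheme.Hom.appTop, hU.fromSpec_app_of_le ⊤ le_top]
        simp
        try rfl
      rw [Scheme.Hom.comp_appTop, e, Category.assoc, ← Scheme.ΓSpecIso_inv_naturality]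
      show (Scheme.ΓSpecIso (CommRingCat.of k)).inv (a (X.left.presheaf.map (homOfLE le_top).op s)) = _
      congr 2
      exact (ConcreteCategory.congr_hom (X.left.presheaf.map_comp (homOfLE (le_top : W ≤ ⊤)).op (homOfLE hUV).op) s)
    obtain ⟨a, c, hc, hac⟩ := FibreConstLib.exists_fraction k Γ(Y.left, V) Γ(X.left, U) hφ (res sW) (by
      intro a₁ a₂ h
      have hover : ∀ a : Γ(X.left, U) →ₐ[k] k, (Spec.map (CommRingCat.ofHom a.toRingHom) ≫ hU.fromSpec) ≫ X.hom = 𝟙 _ := by
        intro a
        rw [Category.assoc, hXU, ← Spec.map_comp, ← Spec.map_id]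
        congr 1
        ext t
        exact a.commutes t
      have himg : (Spec.map (CommRingCat.ofHom a₁.toRingHom) ≫ hU.fromSpec) ≫ f.left =
          (Spec.map (CommRingCat.ofHom a₂.toRingHom) ≫ hU.fromSpec) ≫ f.left := by
        rw [Category.assoc, Category.assoc, hfac, ← Category.assoc, ← Category.assoc, ← Spec.map_comp, ← Spec.map_comp]
        congr 2
        ext t
        exact h t
      have h' := hs _ _ (hover a₁) (hover a₂) himg
      rw [hval, hval] at h'
      exact (ConcreteCategory.bijective_of_isIso (Scheme.ΓSpecIso (CommRingCat.of k)).inv).1 h')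
    have hE : f.left.app V a = f.left.app V c * sW := hres (by rw [map_mul]; exact hac)
    haveI : IsNoetherianRing Γ(Y.left, V) := IsLocallyNoetherian.component_noetherian ⟨V, hV⟩
    haveI : IsIntegrallyClosed Γ(Y.left, V) := LocFFLib.isIntegrallyClosed_sections hY V
    obtain ⟨r, hr⟩ : c ∣ a := by
      refine NormalLib.dvd_of_forall_associatedPrimes fun P hP => ?_
      haveI := hP.isPrime
      have hh : P.height = 1 := NormalLib.height_eq_one_of_mem_associatedPrimes hc hP
      let p : PrimeSpectrum Γ(Y.left, V) := ⟨P, inferInstance⟩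
      let y := hV.fromSpec.base p
      have hy : y ∈ V := by
        have : y ∈ Set.range hV.fromSpec.base := ⟨p, rfl⟩
        rwa [hV.range_fromSpec] at this
      have hpp : hV.primeIdealOf ⟨y, hy⟩ = p :=
        (haveI := hV.isOpenImmersion_fromSpec; hV.fromSpec.isOpenEmbedding.injective) (hV.fromSpec_primeIdealOf _)
      letI := Y.left.presheaf.algebra_section_stalk ⟨y, hy⟩
      haveI := hV.isLocalization_stalk ⟨y, hy⟩
      haveI := (hY y).2
      haveI : IsNoetherianRing (Y.left.presheaf.stalk y) := inferInstance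
      have hd : ringKrullDim (Y.left.presheaf.stalk y) = 1 := by
        rw [IsLocalization.AtPrime.ringKrullDim_eq_height (hV.primeIdealOf ⟨y, hy⟩).asIdeal (Y.left.presheaf.stalk y),
          hpp, hh]
        rfl
      haveI : Ring.KrullDimLE 1 (Y.left.presheaf.stalk y) := Ring.krullDimLE_iff.2 hd.le
      have hnF : ¬ IsField (Y.left.presheaf.stalk y) := fun h => by
        rw [ringKrullDim_eq_zero_of_isField h] at hd
        exact zero_ne_one hd
      haveI : IsDiscreteValuationRing (Y.left.presheaf.stalk y) := by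
        have hiff : (IsIntegrallyClosed (Y.left.presheaf.stalk y) ∧ ∃! Q : Ideal (Y.left.presheaf.stalk y), Q ≠ ⊥ ∧ Q.IsPrime) ↔
            IsDiscreteValuationRing (Y.left.presheaf.stalk y) := (IsDiscreteValuationRing.TFAE _ hnF).out 3 0
        refine hiff.1 ⟨inferInstance, IsLocalRing.maximalIdeal _,
          ⟨fun h => hnF (IsLocalRing.isField_iff_maximalIdeal_eq.2 h), inferInstance⟩, fun Q ⟨hQ, hp⟩ => ?_⟩
        exact IsLocalRing.eq_maximalIdeal (hp.isMaximal_of_ne_bot hQ)
      let g := algebraMap Γ(Y.left, V) (Y.left.presheaf.stalk y)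
      have hdvd : g c ∣ g a := by
        obtain ⟨d, hd'⟩ := ValuationRing.cond (g a) (g c)
        rcases hd' with hd' | hd'
        · by_cases hu : IsUnit d
          · exact ⟨↑hu.unit⁻¹, by rw [← hd', mul_assoc, IsUnit.mul_val_inv, mul_one]⟩
          exfalso
          obtain ⟨x, hx⟩ := hf y
          have hinjS : Function.Injective g :=
            IsLocalization.injective (Y.left.presheaf.stalk y) ((hV.primeIdealOf ⟨y, hy⟩).asIdeal.primeCompl_le_nonZeroDivisors)
          have ha0 : a ≠ 0 := by
            rintro rfl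
            rw [map_zero, zero_mul] at hd'
            exact hc (hinjS (hd'.symm.trans (map_zero g).symm))
          have hxW : x ∈ W := show f.left x ∈ V from (show f.left x = y from hx) ▸ hy
          have hin : Inseparable y (f.left x) := .of_eq hx.symm
          let σ : Y.left.presheaf.stalk y ⟶ X.left.presheaf.stalk x :=
            (Y.left.presheaf.stalkCongr hin).hom ≫ f.left.stalkMap x
          have hσ : ∀ b, σ (g b) = X.left.presheaf.germ W x hxW (f.left.app V b) := by
            intro b
            have hxV : f.left x ∈ V := hxW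
            refine (congrArg (f.left.stalkMap x) ?_).trans (Scheme.Hom.germ_stalkMap_apply f.left V x hxV b)
            show (Y.left.presheaf.stalkCongr hin).hom (Y.left.presheaf.germ V y hy b) = _
            exact TopCat.Presheaf.germ_stalkSpecializes_apply _ hy hin.ge b
          haveI : IsLocalHom σ.hom := inferInstance
          have hnu : ¬ IsUnit (σ d * X.left.presheaf.germ W x hxW sW) := fun h =>
            hu (isUnit_of_map_unit σ.hom _ (isUnit_of_mul_isUnit_left h))
          have h1 : σ (g a) = σ (g a) * (σ d * X.left.presheaf.germ W x hxW sW) := by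
            rw [← mul_assoc, ← map_mul, hd', hσ, hσ, ← map_mul, ← hE]
          have h2 : σ (g a) = 0 := by
            have h3 : σ (g a) * (1 - σ d * X.left.presheaf.germ W x hxW sW) = 0 := by rw [mul_sub, mul_one, ← h1, sub_self]
            exact ((IsLocalRing.isUnit_or_isUnit_one_sub_self _).resolve_left hnu).mul_left_eq_zero.1 h3
          rw [hσ, ← map_zero (X.left.presheaf.germ W x hxW).hom] at h2
          exact ha0 (f.left.app_injective V ((AlgebraicGeometry.germ_injective_of_isIntegral X.left x hxW h2).trans (map_zero _).symm))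
        · exact ⟨d, hd'.symm⟩
      obtain ⟨d, hd⟩ := hdvd
      obtain ⟨d, t, rfl⟩ := IsLocalization.exists_mk'_eq (hV.primeIdealOf ⟨y, hy⟩).asIdeal.primeCompl d
      refine ⟨t, fun ht => t.2 ((congrArg (fun q : PrimeSpectrum _ => (t : Γ(Y.left, V)) ∈ q.asIdeal) hpp).mpr ht), d, ?_⟩
      refine IsLocalization.injective (Y.left.presheaf.stalk y) ((hV.primeIdealOf ⟨y, hy⟩).asIdeal.primeCompl_le_nonZeroDivisors) ?_
      rw [map_mul, map_mul, show algebraMap _ _ a = g a from rfl, hd, mul_left_comm, IsLocalization.mk'_spec']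
    refine ⟨r, ?_⟩
    have hc' : f.left.app V c ≠ 0 := fun h => hc (f.left.app_injective V (h.trans (map_zero _).symm))
    exact mul_left_cancel₀ hc' (by rw [← map_mul, ← hr, hE])
  choose r hr using key
  have hcompat : TopCat.Presheaf.IsCompatible Y.left.presheaf (fun V : Y.left.affineOpens => V.1) r := by
    intro V V'
    apply f.left.app_injective (V.1 ⊓ V'.1)
    have h1 := ConcreteCategory.congr_hom (f.left.naturality (TopologicalSpace.Opens.infLELeft V.1 V'.1).op) (r V)
    have h2 := ConcreteCategory.congr_hom (f.left.naturality (TopologicalSpace.Opens.infLERight V.1 V'.1).op) (r V')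
    simp only [ConcreteCategory.comp_apply] at h1 h2
    refine h1.trans (Eq.trans ?_ h2.symm)
    rw [hr, hr, ← ConcreteCategory.comp_apply, ← ConcreteCategory.comp_apply, ← Functor.map_comp, ← Functor.map_comp]
    rfl
  obtain ⟨t, ht, -⟩ := Y.left.sheaf.existsUnique_gluing' (fun V : Y.left.affineOpens => V.1) ⊤
    (fun V => homOfLE le_top) (by rw [iSup_affineOpens_eq_top]) r hcompat
  refine ⟨t, TopCat.Sheaf.eq_of_locally_eq' X.left.sheaf (fun V : Y.left.affineOpens => f.left ⁻¹ᵁ V.1) ⊤
    (fun V => homOfLE le_top) (fun x _ => ?_) _ _ fun V => ?_⟩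
  · have hx : f.left x ∈ (⨆ V : Y.left.affineOpens, V.1) := by rw [iSup_affineOpens_eq_top]; trivial
    obtain ⟨V, hV⟩ := TopologicalSpace.Opens.mem_iSup.1 hx
    exact TopologicalSpace.Opens.mem_iSup.2 ⟨V, hV⟩
  · have h1 := ConcreteCategory.congr_hom (f.left.naturality (homOfLE (le_top : V.1 ≤ ⊤)).op) t
    simp only [ConcreteCategory.comp_apply] at h1
    refine h1.symm.trans ((congrArg (f.left.app V.1) (ht V)).trans ?_)
    exact hr V

end Groth.Agent.S17467
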