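import Groth.Statements.S17468
import Mathlib

-- import your own Groth.Agent.* helpers here

set_option autoImplicit false
universe u v w
open LieRep

namespace Groth.Agent.S17468
open LieModule Module

theorem sum_sq {k : Type*} [Field k] [CharZero k] (c : k) (d : ℕ) :
    ∑ i ∈ Finset.range d, (c - 2 * i) ^ 2 = d * c ^ 2 - 2 * c * d * (d - 1) + 2 * d * (d - 1) * (2 * d - 1) / 3 := by
  induction d with
  | zero => simp
  | succ d ih =>
    rw [Finset.sum_range_succ, ih]
    push_cast
    ring

theorem choose_three {k : Type*} [Field k] [CharZero k] (d : ℕ) :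
    (((d + 1).choose 3 : ℕ) : k) = (d + 1 : k) * d * (d - 1) / 6 := by
  induction d with
  | zero => simp
  | succ d ih =>
    rw [Nat.choose_succ_succ, Nat.cast_add, ih, Nat.cast_choose_two]
    push_cast
    ring

theorem trace_irred (k : Type u) [Field k] [IsAlgClosed k] [CharZero k]
    (L : Type v) [LieRing L] [LieAlgebra k L]
    (h e f : L) (t : IsSl2Triple h e f) (hspan : t.toLieSubalgebra k = ⊤)
    (V : Type w) [AddCommGroup V] [Module k V] [LieRingModule L V] [LieModule k L V]
    [FiniteDimensional k V] [LieModule.IsIrreducible k L V] :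
    LinearMap.trace k V ((LieModule.toEnd k L V h) ^ 2) = 2 * (((Module.finrank k V + 1).choose 3 : ℕ) : k) := by
  classical
  have : Nontrivial V := LieModule.nontrivial_of_isIrreducible k L V
  obtain ⟨μ, m, -, P⟩ := t.exists_hasPrimitiveVectorWith (R := k) (M := V)
  obtain ⟨n, hn⟩ := P.exists_nat
  let ψ : Fin (n + 1) → V := fun i => ((toEnd k L V f) ^ (i : ℕ)) m
  have hψ0 : ∀ i : Fin (n + 1), ψ i ≠ 0 := fun i => P.pow_toEnd_f_ne_zero_of_eq_nat hn (Nat.lt_succ_iff.1 i.2)
  have hhi : ∀ i : Fin (n + 1), toEnd k L V h (ψ i) = ((n : k) - 2 * (i : ℕ)) • ψ i := fun i => by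
    rw [toEnd_apply_apply, P.lie_h_pow_toEnd_f, hn]
  have hli : LinearIndependent k ψ := by
    refine Module.End.eigenvectors_linearIndependent' (toEnd k L V h) (fun i : Fin (n + 1) => (n : k) - 2 * (i : ℕ)) (fun i j hij => ?_) ψ (fun i => ?_)
    · simp only [sub_right_inj, mul_eq_mul_left_iff, Nat.cast_inj, two_ne_zero, or_false] at hij
      exact Fin.ext hij
    · exact ⟨Module.End.mem_eigenspace_iff.2 (hhi i), hψ0 i⟩
  let S := Submodule.span k (Set.range ψ)
  have hψS : ∀ j : ℕ, ((toEnd k L V f) ^ j) m ∈ S := by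
    intro j
    by_cases hj : j < n + 1
    · exact Submodule.subset_span ⟨⟨j, hj⟩, rfl⟩
    · obtain ⟨l, rfl⟩ : ∃ l, j = l + (n + 1) := ⟨j - (n + 1), by omega⟩
      rw [pow_add, Module.End.mul_apply, P.pow_toEnd_f_eq_zero_of_eq_nat hn, map_zero]
      exact S.zero_mem
  have hgen : ∀ x ∈ ({e, f, h} : Set L), ∀ v ∈ S, ⁅x, v⁆ ∈ S := by
    intro x hx v hv
    induction hv using Submodule.span_induction with
    | mem v hv =>
      obtain ⟨i, rfl⟩ := hv
      rcases hx with rfl | rfl | rfl
      · rcases i with ⟨_ | i, hi⟩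
        · show ⁅x, ((toEnd k L V f) ^ 0) m⁆ ∈ S
          rw [pow_zero, Module.End.one_apply, P.lie_e]; exact S.zero_mem
        · show ⁅x, ((toEnd k L V f) ^ (i + 1)) m⁆ ∈ S
          rw [P.lie_e_pow_succ_toEnd_f]; exact S.smul_mem _ (hψS i)
      · show ⁅x, ((toEnd k L V x) ^ (i : ℕ)) m⁆ ∈ S
        rw [P.lie_f_pow_toEnd_f]; exact hψS _
      · show ⁅x, ((toEnd k L V f) ^ (i : ℕ)) m⁆ ∈ S
        rw [P.lie_h_pow_toEnd_f]; exact S.smul_mem _ (hψS i)
    | zero => simp
    | add a b _ _ ha hb => rw [lie_add]; exact S.add_mem ha hb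
    | smul r a _ ha => rw [lie_smul]; exact S.smul_mem _ ha
  have hall : ∀ x : L, ∀ v ∈ S, ⁅x, v⁆ ∈ S := by
    intro x v hv
    have hx : x ∈ Submodule.span k ({e, f, h} : Set L) := by
      have : x ∈ t.toLieSubalgebra k := hspan ▸ LieSubalgebra.mem_top x
      exact this
    induction hx using Submodule.span_induction with
    | mem x hx => exact hgen x hx v hv
    | zero => simp
    | add a b _ _ ha hb => rw [add_lie]; exact S.add_mem ha hb
    | smul r a _ ha => rw [smul_lie]; exact S.smul_mem _ ha
  let N : LieSubmodule k L V := { S with lie_mem := fun {x v} hv => hall x v hv }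
  have hN : N = ⊤ := (IsSimpleOrder.eq_bot_or_eq_top N).resolve_left (by
    intro hbot
    have : ψ 0 ∈ N := Submodule.subset_span ⟨0, rfl⟩
    rw [hbot, LieSubmodule.mem_bot] at this
    exact hψ0 0 this)
  let b : Module.Basis (Fin (n + 1)) k V := Module.Basis.mk hli (by
    intro v _
    have : v ∈ N := hN ▸ LieSubmodule.mem_top v
    exact this)
  have hb : ∀ i, b i = ψ i := fun i => Module.Basis.mk_apply _ _ i
  have hdim : Module.finrank k V = n + 1 := by rw [Module.finrank_eq_card_basis b, Fintype.card_fin]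
  rw [LinearMap.trace_eq_matrix_trace k b, Matrix.trace]
  have hdiag : ∀ i, Matrix.diag (LinearMap.toMatrix b b ((toEnd k L V h) ^ 2)) i = ((n : k) - 2 * (i : ℕ)) ^ 2 := by
    intro i
    rw [Matrix.diag_apply, LinearMap.toMatrix_apply, hb, pow_two, Module.End.mul_apply, hhi, map_smul, hhi, smul_smul, map_smul, ← hb, b.repr_self]
    simp [pow_two]
  rw [Finset.sum_congr rfl fun i _ => hdiag i, Fin.sum_univ_eq_sum_range (fun i => ((n : k) - 2 * i) ^ 2), sum_sq, hdim, choose_three]
  push_cast
  ring


/-- Let k be an algebraically closed field of characteristic zero, L a Lie algebra over k spanned by an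
sl_2-triple (h, e, f), and V a finite-dimensional L-module written as an internal direct sum of
finitely many irreducible Lie submodules V_i. Then the trace on V of the square of the action of h
is 2 Σ_i C(dim V_i + 1, 3). (The published statement concerns a finite-dimensional representation V
of a simple Lie algebra restricted to the copy of sl_2 attached to the highest root θ, with h the
coroot θ^∨; there Σ_i C(dim V_i + 1, 3) is the index of V, and the trace is the sum over the weights
λ of V, with multiplicity, of ⟨λ, θ^∨⟩².) -/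
theorem result
    (k : Type u) [Field k] [IsAlgClosed k] [CharZero k]
    (L : Type v) [LieRing L] [LieAlgebra k L]
    (h e f : L) (t : IsSl2Triple h e f) (hspan : t.toLieSubalgebra k = ⊤)
    (V : Type w) [AddCommGroup V] [Module k V] [LieRingModule L V] [LieModule k L V]
    [FiniteDimensional k V]
    (ι : Type) [Fintype ι] [DecidableEq ι] (W : ι → LieSubmodule k L V)
    (hW : DirectSum.IsInternal fun i => (W i).toSubmodule)
    (hirr : ∀ i, LieModule.IsIrreducible k L (W i)) :
    LinearMap.trace k V ((LieModule.toEnd k L V h) ^ 2) =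
      2 * ∑ i, (((Module.finrank k (W i) + 1).choose 3 : ℕ) : k) := by
  classical
  have hmaps : ∀ i, Set.MapsTo (⇑((LieModule.toEnd k L V h) ^ 2 : Module.End k V)) ((W i).toSubmodule : Set V) ((W i).toSubmodule : Set V) := by
    intro i v hv
    rw [pow_two, Module.End.mul_apply]
    exact (W i).lie_mem ((W i).lie_mem hv)
  rw [LinearMap.trace_eq_sum_trace_restrict hW hmaps, Finset.mul_sum]
  refine Finset.sum_congr rfl fun i _ => ?_
  have := hirr i
  have h1 := trace_irred k L h e f t hspan (W i)
  refine Eq.trans ?_ h1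
  congr 1

end Groth.Agent.S17468
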