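import Groth.Statements.S17469
import Mathlib.AlgebraicGeometry.FunctionField
-- import your own Groth.Agent.* helpers here

set_option autoImplicit false
universe u
open CategoryTheory AlgebraicGeometry
open Variety

namespace Groth.Agent.S17469

/-- Let X be a locally Noetherian integral scheme all of whose local rings are integrally closed domains
and U an open subset of X. A section of O_X over U that is integral over the ring of global sections
of X, the latter acting through restriction, is itself the restriction of a global section. (The
published lemma is stated for an irreducible normal variety and for the graded ring of sections over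
U of all non-negative powers of a line bundle, integral over the corresponding ring of sections over
X; for the trivial line bundle its homogeneous components are the present statement, which is made
here for any locally Noetherian normal integral scheme.) -/
theorem result
    (X : Scheme.{u}) [AlgebraicGeometry.IsIntegral X] [IsLocallyNoetherian X]
    (hX : Pi1.IsNormalScheme X) (U : X.Opens) (b : Γ(X, U))
    (hb : (X.presheaf.map (homOfLE le_top : U ⟶ ⊤).op).hom.IsIntegralElem b) :
    b ∈ Set.range (X.presheaf.map (homOfLE le_top : U ⟶ ⊤).op).hom := by
  classical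
  by_cases hUne : Nonempty U
  · haveI : Nonempty (⊤ : X.Opens) := ⟨⟨genericPoint X, trivial⟩⟩
    have htop : ∀ s : Γ(X, ⊤), X.germToFunctionField U ((X.presheaf.map (homOfLE le_top : U ⟶ ⊤).op) s) =
        X.germToFunctionField ⊤ s := fun s => X.presheaf.germ_res_apply _ _ _ _
    set k := X.germToFunctionField U b with hk
    have hint : (X.germToFunctionField (⊤ : X.Opens)).hom.IsIntegralElem k := by
      obtain ⟨p, hp, he⟩ := hb
      refine ⟨p, hp, ?_⟩
      have hco : (X.germToFunctionField (⊤ : X.Opens)).hom =
          (X.germToFunctionField U).hom.comp (X.presheaf.map (homOfLE le_top : U ⟶ ⊤).op).hom :=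
        RingHom.ext fun s => (htop s).symm
      rw [hco, hk, ← Polynomial.hom_eval₂, he, map_zero]
    have hst : ∀ x : X, ∃ s : X.presheaf.stalk x, algebraMap (X.presheaf.stalk x) X.functionField s = k := by
      intro x
      haveI := (hX x).2
      refine IsIntegrallyClosed.isIntegral_iff.mp ?_
      obtain ⟨p, hp, he⟩ := hint
      refine ⟨p.map (X.presheaf.germ (⊤ : X.Opens) x trivial).hom, hp.map _, ?_⟩
      rw [Polynomial.eval₂_map]
      convert he using 2
      exact RingHom.ext fun s => X.algebraMap_germ_eq_germToFunctionField _ s
    choose s hs using hst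
    choose V hV t ht using fun x => X.presheaf.exists_germ_eq (s x)
    haveI hne : ∀ x, Nonempty (V x) := fun x => ⟨⟨x, hV x⟩⟩
    have hVk : ∀ x, X.germToFunctionField (V x) (t x) = k := fun x => by
      rw [← hs x, ← ht x]
      exact (X.algebraMap_germ_eq_germToFunctionField _ _).symm
    obtain ⟨g, hg, -⟩ := X.sheaf.existsUnique_gluing' V ⊤ (fun _ => homOfLE le_top)
      (fun x _ => TopologicalSpace.Opens.mem_iSup.mpr ⟨x, hV x⟩) t (fun x y => by
        have hxy : genericPoint X ∈ V x ⊓ V y :=
          ⟨((genericPoint_spec X).mem_open_set_iff (V x).isOpen).mpr ⟨x, Set.mem_univ _, hV x⟩,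
            ((genericPoint_spec X).mem_open_set_iff (V y).isOpen).mpr ⟨y, Set.mem_univ _, hV y⟩⟩
        refine germ_injective_of_isIntegral X (genericPoint X) hxy ?_
        refine (X.presheaf.germ_res_apply _ _ _ _).trans ?_
        refine Eq.trans ?_ (X.presheaf.germ_res_apply _ _ _ _).symm
        exact (hVk x).trans (hVk y).symm)
    refine ⟨g, X.germToFunctionField_injective U ?_⟩
    obtain ⟨x, -⟩ := Classical.arbitrary U
    rw [htop, ← hk, ← hVk x, ← hg x]
    exact (X.presheaf.germ_res_apply _ _ _ _).symm
  · have hbot : U = ⊥ := by
      rw [eq_bot_iff]; intro x hx; exact (hUne ⟨⟨x, hx⟩⟩).elim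
    subst hbot
    exact ⟨0, Subsingleton.elim _ _⟩

end Groth.Agent.S17469
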