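import Groth.Statements.S17471
import Groth.Agent.RootChLib.Form
import Mathlib.LinearAlgebra.RootSystem.Base
-- import your own Groth.Agent.* helpers here

set_option autoImplicit false
universe u v w x
open RootCh

namespace Groth.Agent.S17471

/-- Let Φ be a finite, reduced, crystallographic, irreducible root system with a base, and θ a positive
root such that θ + β is a root for no positive root β (so θ is the highest root). Then Σ_{β>0} ⟨β,
θ^∨⟩² = 2 + Σ_{β>0} ⟨β, θ^∨⟩ = 2(1 + ⟨ρ, θ^∨⟩), ρ being half the sum of the positive roots; in the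
source the left side is the index of the adjoint representation obtained from its formal character,
and 1 + ⟨ρ, θ^∨⟩ is the dual Coxeter number. -/
theorem result
    {ι : Type u} {R : Type v} {M : Type w} {N : Type x}
    [Field R] [LinearOrder R] [IsStrictOrderedRing R]
    [AddCommGroup M] [Module R M] [AddCommGroup N] [Module R N] [Fintype ι]
    (P : RootPairing ι R M N) [P.IsRootSystem] [P.IsCrystallographic] [P.IsReduced]
    [P.IsIrreducible] (b : P.Base) (θ : ι) (hθ : b.IsPos θ)
    (hmax : ∀ i : ι, b.IsPos i → P.root θ + P.root i ∉ Set.range P.root) :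
    ∑ i ∈ Finset.univ.filter (fun i => 0 < b.height i), P.pairing i θ ^ 2 =
      2 + ∑ i ∈ Finset.univ.filter (fun i => 0 < b.height i), P.pairing i θ := by
  classical
  have hmem : θ ∈ Finset.univ.filter (fun i => 0 < b.height i) :=
    Finset.mem_filter.2 ⟨Finset.mem_univ _, hθ⟩
  rw [← Finset.add_sum_erase _ _ hmem, ← Finset.add_sum_erase _ (fun i => P.pairing i θ) hmem,
    P.pairing_same]
  have key : ∀ i, b.IsPos i → i ≠ θ → P.pairing i θ ^ 2 = P.pairing i θ := by
    intro i hi hne
    have hR : P.pairing i θ = ((P.pairingIn ℤ i θ : ℤ) : R) := (P.algebraMap_pairingIn ℤ i θ).symm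
    have hnn : 0 ≤ P.pairingIn ℤ i θ := by
      by_contra hc
      push Not at hc
      obtain ⟨k, hk⟩ := P.root_add_root_mem_of_pairingIn_neg hc (fun e => by
        have : i = P.reflectionPerm θ θ := P.root.injective (by simpa using e)
        rw [this] at hi
        exact (RootPairing.Base.IsPos.neg_iff_not b θ).1 hi hθ)
      exact hmax i hi ⟨k, by rw [hk, add_comm]⟩
    have hle : P.pairingIn ℤ i θ ≤ 1 := by
      by_contra hc
      push Not at hc
      obtain ⟨γ, hγ⟩ := P.root_sub_root_mem_of_pairingIn_pos (i := i) (j := θ) (by omega) hne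
      have hγn : ¬ b.IsPos γ := fun h => hmax γ h ⟨i, by rw [hγ]; abel⟩
      have hδ : b.IsPos (P.reflectionPerm γ γ) :=
        (RootPairing.Base.IsPos.neg_iff_not b γ).2 hγn
      have hmem : P.root i - (2 : R) • P.root θ ∈ Set.range P.root := by
        rcases Nat.lt_or_ge 2 (P.pairingIn ℤ i θ).toNat with h3 | h2
        · have hp : 0 < P.pairingIn ℤ γ θ := by
            have : ((P.pairingIn ℤ γ θ : ℤ) : R) = ((P.pairingIn ℤ i θ - 2 : ℤ) : R) := by
              rw [show ((P.pairingIn ℤ γ θ : ℤ) : R) = P.pairing γ θ from
                P.algebraMap_pairingIn ℤ γ θ, ← P.root_coroot_eq_pairing, hγ, map_sub,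
                LinearMap.sub_apply, P.root_coroot_eq_pairing, P.root_coroot_eq_pairing,
                P.pairing_same, hR]
              simp
            have := Int.cast_injective (α := R) this
            omega
          obtain ⟨k, hk⟩ := P.root_sub_root_mem_of_pairingIn_pos hp (fun e => hγn (e ▸ hθ))
          exact ⟨k, by rw [hk, hγ]; module⟩
        · have h2' : P.pairingIn ℤ i θ = 2 := by omega
          refine ⟨P.reflectionPerm θ i, ?_⟩
          rw [P.root_reflectionPerm, P.reflection_apply_root, hR, h2']
          simp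
      obtain ⟨k, hk⟩ := hmem
      refine hmax _ hδ ⟨P.reflectionPerm k k, ?_⟩
      rw [P.root_reflectionPerm, P.reflection_apply_self, P.root_reflectionPerm,
        P.reflection_apply_self, hk, hγ]
      module
    rcases (show P.pairingIn ℤ i θ = 0 ∨ P.pairingIn ℤ i θ = 1 by omega) with h | h <;>
      simp [hR, h]
  rw [Finset.sum_congr (s₁ := (Finset.univ.filter fun i => 0 < b.height i).erase θ) rfl fun i hi =>
    key i (Finset.mem_filter.1 (Finset.mem_erase.1 hi).2).2 (Finset.mem_erase.1 hi).1]
  ring

end Groth.Agent.S17471
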