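import Groth.Statements.S17472
import Groth.Agent.GrpSchLib.HopfDim
-- import your own Groth.Agent.* helpers here

set_option autoImplicit false
universe u
open HopfAlg

namespace Groth.Agent.S17472

open Groth.Agent.GrpSchLib.HopfRed

/-- A finite set of ideals stable under all translations, with a member in the augmentation ideal,
has intersection inside the nilradical. -/
theorem finset_inf_le_nilradical {k : Type u} [Field k] [IsAlgClosed k] {A : Type u} [CommRing A]
    [HopfAlgebra k A] [Algebra.FiniteType k A] (P : Set (Ideal A)) (hP : P.Finite)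
    (hstab : ∀ σ : A ≃ₐ[k] A, ∀ Q ∈ P, Q.comap σ.toRingEquiv.toRingHom ∈ P)
    (hne : ∃ Q ∈ P, Q ≠ ⊤) : hP.toFinset.inf id ≤ nilradical A := by
  have : IsJacobsonRing A := isJacobsonRing_of_finiteType (A := k)
  rw [nilradical, Ideal.radical_eq_jacobson, Ideal.jacobson]
  refine le_sInf fun M hM => ?_
  obtain ⟨-, hMax⟩ := hM
  obtain ⟨Q, hQP, hQ⟩ := hne
  obtain ⟨M₀, hM₀, hQM₀⟩ := Ideal.exists_le_maximal Q hQ
  -- move `M₀` to `M`
  have key : ∀ N : Ideal A, N.IsMaximal → ∃ σ : A ≃ₐ[k] A, ∀ a, σ a ∈ augI k A ↔ a ∈ N := by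
    intro N hN
    let : Field (A ⧸ N) := Ideal.Quotient.field N
    have : Module.Finite k (A ⧸ N) := finite_of_finite_type_of_isJacobsonRing k (A ⧸ N)
    let e : k ≃ₐ[k] (A ⧸ N) := AlgEquiv.ofBijective (Algebra.ofId k (A ⧸ N))
      IsAlgClosed.algebraMap_bijective_of_isIntegral
    let g : A →ₐ[k] k := e.symm.toAlgHom.comp (Ideal.Quotient.mkₐ k N)
    refine ⟨translEquiv g, fun a => ?_⟩
    rw [RingHom.mem_ker, cou_translEquiv]
    simp [g, Ideal.Quotient.eq_zero_iff_mem]
  obtain ⟨σ₀, hσ₀⟩ := key M₀ hM₀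
  obtain ⟨σ, hσ⟩ := key M hMax
  refine (Finset.inf_le ((Set.Finite.mem_toFinset hP).2 (hstab (σ.trans σ₀.symm) Q hQP))).trans ?_
  intro a ha
  have := (hσ₀ _).2 (hQM₀ ha)
  rw [← hσ]
  simpa using this

theorem comap_mem_associated {k : Type u} [CommSemiring k] {A : Type u} [CommRing A] [Algebra k A]
    [IsNoetherianRing A] (σ : A ≃ₐ[k] A) {Q : Ideal A} (hQ : Q ∈ associatedPrimes A A) :
    Q.comap σ.toRingEquiv.toRingHom ∈ associatedPrimes A A := by
  rw [associatedPrimes, Set.mem_ofPred_eq, isAssociatedPrime_iff_exists_injective_linearMap] at hQ ⊢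
  obtain ⟨hQp, f, hf⟩ := hQ
  refine ⟨Ideal.IsPrime.comap _, ?_⟩
  set P := Q.comap σ.toRingEquiv.toRingHom
  have hx : ∀ a : A, a ∈ P ↔ a • σ.symm (f (Ideal.Quotient.mk Q 1)) = 0 := by
    intro a
    rw [Ideal.mem_comap, ← (map_eq_zero_iff σ σ.injective), smul_eq_mul, map_mul, AlgEquiv.apply_symm_apply,
      ← smul_eq_mul (σ a), ← map_smul f, map_eq_zero_iff f hf, Algebra.smul_def,
      Ideal.Quotient.algebraMap_eq, ← map_mul, mul_one, Ideal.Quotient.eq_zero_iff_mem]
    rfl
  refine ⟨Submodule.liftQ P (LinearMap.toSpanSingleton A A (σ.symm (f (Ideal.Quotient.mk Q 1))))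
    (fun a ha => (hx a).1 ha), ?_⟩
  rw [← LinearMap.ker_eq_bot]
  exact Submodule.ker_liftQ_eq_bot _ _ _ fun a ha => (hx a).2 ha

/-- Let k be an algebraically closed field and A a commutative Hopf algebra over k, finitely generated
as a k-algebra, whose only idempotents are 0 and 1 (so that Spec A is a connected affine algebraic
group over k, possibly non-reduced). Let m be the kernel of the counit, the ideal of the neutral
element. Then the intersection of the powers m^n, n ≥ 0, is the zero ideal; equivalently the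
infinitesimal neighbourhoods Spec (A/m^n) of the neutral element are jointly schematically dense.
(The published statement assumes the group smooth, that is, a connected linear algebraic group; the
statement here allows any connected affine algebraic group, possibly non-reduced, a case the
published argument also treats.) -/
theorem result (k : Type u) [Field k] [IsAlgClosed k]
    (A : Type u) [CommRing A] [HopfAlgebra k A] [Algebra.FiniteType k A]
    (hconn : ∀ e : A, IsIdempotentElem e → e = 0 ∨ e = 1) :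
    (⨅ n : ℕ, RingHom.ker (Bialgebra.counitAlgHom k A) ^ n) = ⊥ := by
  classical
  have : IsNoetherianRing A := Algebra.FiniteType.isNoetherianRing k A
  have : Nontrivial A := (Bialgebra.counitAlgHom k A).toRingHom.domain_nontrivial
  have hcomap : ∀ (σ : A ≃ₐ[k] A) (P : Ideal A), P ∈ minimalPrimes A →
      P.comap σ.toRingEquiv.toRingHom ∈ minimalPrimes A := by
    intro σ P hP
    have := hP.1.1
    refine ⟨⟨Ideal.IsPrime.comap _, bot_le⟩, fun P' hP' hle => ?_⟩
    have := hP'.1
    have h2 : P ≤ P'.comap σ.symm.toRingEquiv.toRingHom := hP.2 ⟨Ideal.IsPrime.comap _, bot_le⟩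
      (fun a ha => by simpa using hle ha)
    intro a ha
    simpa using h2 ha
  have hminfin : (minimalPrimes A).Finite := minimalPrimes.finite_of_isNoetherianRing A
  have hle : ∀ (P : Set (Ideal A)) (hP : P.Finite), hP.toFinset.inf id ≤ nilradical A →
      ∀ p ∈ minimalPrimes A, ∃ Q ∈ P, Q ≤ p := by
    intro P hP h p hp
    have := hp.1.1
    obtain ⟨Q, hQ, hQp⟩ := (Ideal.IsPrime.inf_le' ‹p.IsPrime›).1 (h.trans (nilradical_le_prime p))
    exact ⟨Q, hP.mem_toFinset.1 hQ, hQp⟩
  -- associated primes are minimal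
  have hass : associatedPrimes A A ⊆ minimalPrimes A := by
    intro Q hQ
    by_contra hQm
    have hP : (associatedPrimes A A \ minimalPrimes A).Finite :=
      (associatedPrimes.finite A A).diff
    obtain ⟨p, hp⟩ := Ideal.nonempty_minimalPrimes (show (⊥ : Ideal A) ≠ ⊤ from bot_ne_top)
    obtain ⟨Q', ⟨hQ'a, hQ'm⟩, hQ'p⟩ := hle _ hP (finset_inf_le_nilradical (k := k) _ hP
      (fun σ R hR => ⟨comap_mem_associated σ hR.1, fun h => hR.2 (by
        have := hcomap σ.symm _ h
        rwa [Ideal.comap_comap, show σ.toRingEquiv.toRingHom.comp σ.symm.toRingEquiv.toRingHom =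
          RingHom.id A from RingHom.ext fun a => by simp, Ideal.comap_id] at this)⟩)
      ⟨Q, ⟨hQ, hQm⟩, hQ.isPrime.ne_top⟩) p hp
    exact hQ'm ((hp.2 ⟨hQ'a.isPrime, bot_le⟩ hQ'p).antisymm hQ'p ▸ hp)
  -- minimal primes are pairwise comaximal
  have hcop : ∀ p₁ ∈ minimalPrimes A, ∀ p₂ ∈ minimalPrimes A, p₁ ≠ p₂ → p₁ ⊔ p₂ = ⊤ := by
    intro p₁ h₁ p₂ h₂ hne
    by_contra hsup
    let P : Set (Ideal A) := {J | ∃ a ∈ minimalPrimes A, ∃ b ∈ minimalPrimes A, a ≠ b ∧ J = a ⊔ b}
    have hP : P.Finite := by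
      refine ((hminfin.prod hminfin).image fun ab => ab.1 ⊔ ab.2).subset ?_
      rintro J ⟨a, ha, b, hb, -, rfl⟩
      exact ⟨(a, b), ⟨ha, hb⟩, rfl⟩
    obtain ⟨J, ⟨a, ha, b, hb, hab, rfl⟩, hJ⟩ := hle P hP (finset_inf_le_nilradical (k := k) P hP
      (by
        rintro σ J ⟨a, ha, b, hb, hab, rfl⟩
        refine ⟨_, hcomap σ a ha, _, hcomap σ b hb, fun h => hab ?_, ?_⟩
        · exact Ideal.comap_injective_of_surjective σ.toRingEquiv.toRingHom σ.surjective h
        · have e : ∀ I : Ideal A, I.comap σ.toRingEquiv.toRingHom = I.map σ.toRingEquiv.symm.toRingHom :=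
            fun I => (Ideal.map_symm (I := I) σ.toRingEquiv).symm
          rw [e, e, e, Ideal.map_sup])
      ⟨_, ⟨p₁, h₁, p₂, h₂, hne, rfl⟩, hsup⟩) p₁ h₁
    have h3 := sup_le_iff.1 hJ
    exact hab ((h₁.2 ha.1 h3.1).antisymm' h3.1 |>.trans ((h₁.2 hb.1 h3.2).antisymm h3.2))
  -- connectedness: one minimal prime
  have huniq : ∀ p ∈ minimalPrimes A, ∀ q ∈ minimalPrimes A, p = q := by
    intro p hp q hq
    by_contra hpq
    have hP : (minimalPrimes A \ {p}).Finite := hminfin.diff
    have htop : p ⊔ hP.toFinset.inf id = ⊤ := by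
      rw [Finset.inf_eq_iInf]
      exact Ideal.sup_iInf_eq_top fun r hr => hcop p hp r (hP.mem_toFinset.1 hr).1
        (Ne.symm fun h => (hP.mem_toFinset.1 hr).2 h)
    obtain ⟨x, hx, y, hy, hxy⟩ := Submodule.mem_sup.1 (htop.symm ▸ Submodule.mem_top : (1 : A) ∈ p ⊔ _)
    have hnil : y - y * y ∈ nilradical A := by
      rw [show y - y * y = x * y by rw [eq_sub_of_add_eq hxy]; ring]
      rw [nilradical_eq_sInf, Ideal.mem_sInf]
      intro r hr
      obtain ⟨r', hr', hle'⟩ := @Ideal.exists_minimalPrimes_le A _ ⊥ r hr bot_le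
      apply hle'
      rcases eq_or_ne r' p with rfl | hne
      · exact Ideal.mul_mem_right _ _ hx
      · exact Ideal.mul_mem_left _ _ (Finset.inf_le (f := id) (hP.mem_toFinset.2 ⟨hr', hne⟩) hy)
    obtain ⟨e, he, hey⟩ := exists_isIdempotentElem_eq_of_ker_isNilpotent (Ideal.Quotient.mk (nilradical A))
      (fun z hz => mem_nilradical.1 (Ideal.Quotient.eq_zero_iff_mem.1 hz)) (Ideal.Quotient.mk _ y)
      ⟨y, rfl⟩ (by
        show _ = _
        rw [← map_mul, eq_comm]
        exact Ideal.Quotient.eq.2 hnil)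
    have hey' : e - y ∈ nilradical A := Ideal.Quotient.eq.1 hey
    have := hp.1.1
    have := hq.1.1
    rcases hconn e he with rfl | rfl
    · have hy' : y ∈ p := nilradical_le_prime p (by simpa using hey')
      exact ‹p.IsPrime›.ne_top ((Ideal.eq_top_iff_one p).2 (hxy ▸ p.add_mem hx hy'))
    · have hx' : x ∈ q := nilradical_le_prime q (by rw [eq_sub_of_add_eq hxy]; exact hey')
      have hy' : y ∈ q := Finset.inf_le (f := id) (hP.mem_toFinset.2 ⟨hq, Ne.symm hpq⟩) hy
      exact ‹q.IsPrime›.ne_top ((Ideal.eq_top_iff_one q).2 (hxy ▸ q.add_mem hx' hy'))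
  rw [eq_bot_iff]
  intro a ha
  obtain ⟨⟨r, hr⟩, hra⟩ := (Ideal.mem_iInf_smul_pow_eq_bot_iff (RingHom.ker (Bialgebra.counitAlgHom k A)) a).1
    (by simpa only [smul_eq_mul, Ideal.mul_top] using ha)
  rw [Ideal.mem_bot]
  by_contra hane
  have hz : (1 - r) ∈ {z : A | ∃ b : A, b ≠ 0 ∧ z • b = 0} :=
    ⟨a, hane, by simp only [smul_eq_mul] at hra ⊢; rw [sub_mul, one_mul, hra, sub_self]⟩
  rw [← biUnion_associatedPrimes_eq_zero_divisors] at hz
  obtain ⟨Q, hQ, hrQ⟩ := Set.mem_iUnion₂.1 hz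
  have := RingHom.ker_isPrime (Bialgebra.counitAlgHom k A)
  obtain ⟨p, hp, hple⟩ := Ideal.exists_minimalPrimes_le
    (bot_le (a := RingHom.ker (Bialgebra.counitAlgHom k A)))
  have h1r : 1 - r ∈ RingHom.ker (Bialgebra.counitAlgHom k A) :=
    hple ((huniq Q (hass hQ) p hp) ▸ hrQ)
  exact this.ne_top ((Ideal.eq_top_iff_one _).2 (by simpa using Ideal.add_mem _ h1r hr))

end Groth.Agent.S17472
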