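import Groth.Statements.S17474
import Groth.Agent.AlgEqFamLib.Alg
import Groth.Agent.FixAmpleLib.Main

set_option autoImplicit false
set_option backward.isDefEq.respectTransparency false
set_option backward.isDefEq.respectTransparency.types false
set_option maxRecDepth 8000
set_option maxHeartbeats 1000000
universe u
open CategoryTheory MonoidalCategory CartesianMonoidalCategory MonObj GrpObj AlgebraicGeometry CategoryTheory.Limits
open AlgGrp

namespace Groth.Agent.S17474

/-- Over an algebraically closed field k, let X be a projective variety (an integral k-scheme admitting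
a closed immersion into some projective space over k) and let a connected k-group scheme of finite
type G act on X. For a k-point g of G write t_g : X → X, x ↦ g · x. Then for every invertible
O_X-module L and every invertible M with L ⊗ M ≅ O_X (an inverse of L), the invertible module
t_g^*(L) ⊗ M is algebraically equivalent to zero. Equivalently, the neutral component of the
automorphism group scheme of X acts trivially on the Néron–Severi group of X. -/
theorem result (k : Type u) [Field k] [IsAlgClosed k]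
    (G X : Over (Spec (CommRingCat.of k))) [GrpObj G] [LocallyOfFiniteType G.hom] [QuasiCompact G.hom]
    [ConnectedSpace ↥G.left] [IsIntegral X.left] (hX : RelProj.IsHProjective X.hom)
    (a : AlgGrp.Action G X) (g : 𝟙_ (Over (Spec (CommRingCat.of k))) ⟶ G)
    (L M : X.left.Modules) (hL : PicF.IsInvertible L) (hM : PicF.IsInvertible M)
    (hLM : Nonempty (CohB1.tensorMod L M ≅ Coh.structureModule X.left)) :
    @Pic13.IsAlgEquivZero k _ X.left ⟨X.hom⟩
      (CohB1.tensorMod ((Scheme.Modules.pullback (lift (toUnit X ≫ g) (𝟙 X) ≫ a.act).left).obj L) M) := by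
  letI : X.left.Over (Spec (CommRingCat.of k)) := ⟨X.hom⟩
  let T : X ⊗ G ⟶ X := lift (snd X G) (fst X G) ≫ a.act
  have h₁ := AmpleDevLib.isInvertible_pb T.left hL
  have h₂ := AmpleDevLib.isInvertible_pb (fst X G).left hM
  have h₃ := HilbPolyLib.isInvertible_tensor h₁ h₂
  have hsum : CubeConsLib.clA hL + CubeConsLib.clA hM = 0 := by
    rw [← CubeConsLib.clA_tensor hL hM, ← CubeConsLib.clA_one, CubeConsLib.clA_eq_iff]; exact hLM
  have hs : ∀ t : 𝟙_ (Over (Spec (CommRingCat.of k))) ⟶ G, AlgEqFam.sl X t (CubeConsLib.clA h₃) =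
      SquareLib.pb (lift (toUnit X ≫ t) (𝟙 X) ≫ a.act) (CubeConsLib.clA hL) + CubeConsLib.clA hM := fun t => by
    rw [CubeConsLib.clA_tensor h₁ h₂, ← CubeConsLib.pullA_clA _ hL, ← CubeConsLib.pullA_clA _ hM, map_add]
    show AlgEqFam.sl X t (SquareLib.pb T (CubeConsLib.clA hL)) + AlgEqFam.sl X t (SquareLib.pb (fst X G) (CubeConsLib.clA hM)) = _
    rw [AlgEqFam.sl_fst, AlgEqFam.sl, SquareLib.pb_comp]
    simp only [T, comp_lift_assoc, lift_fst, lift_snd]
  have h1 : lift (toUnit X ≫ (1 : 𝟙_ (Over (Spec (CommRingCat.of k))) ⟶ G)) (𝟙 X) ≫ a.act = 𝟙 X := by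
    rw [MonObj.comp_one]; exact FixAmple.lift_one_act a _
  refine ⟨G.left, G.hom, inferInstance, inferInstance, inferInstance, _, h₃, g.left, (1 : 𝟙_ (Over (Spec (CommRingCat.of k))) ⟶ G).left,
    Over.w g, Over.w (1 : 𝟙_ (Over (Spec (CommRingCat.of k))) ⟶ G),
    (AlgEqFam.sl_clA g h₃ (Over.w g) (HilbPolyLib.isInvertible_tensor (AmpleDevLib.isInvertible_pb _ hL) hM)).1 ?_,
    (AlgEqFam.sl_clA _ h₃ (Over.w (1 : 𝟙_ (Over (Spec (CommRingCat.of k))) ⟶ G)) (CubeConsLib.isInvertible_one _)).1 ?_⟩
  · rw [hs, CubeConsLib.clA_tensor (AmpleDevLib.isInvertible_pb _ hL) hM, ← CubeConsLib.pullA_clA _ hL]; rfl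
  · rw [hs, h1, SquareLib.pb_id, CubeConsLib.clA_one, hsum]

end Groth.Agent.S17474
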