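import Groth.Statements.S17479
import Groth.Agent.FixAmpleLib.Affine
import Groth.Agent.ProjBunLib.Props
import Groth.Agent.FormalCohLib.ProjAmple
import Groth.Agent.S17474

set_option autoImplicit false
set_option backward.isDefEq.respectTransparency false
set_option backward.isDefEq.respectTransparency.types false
set_option maxRecDepth 8000
set_option maxHeartbeats 1000000
universe u
open CategoryTheory MonoidalCategory CartesianMonoidalCategory MonObj GrpObj AlgebraicGeometry CategoryTheory.Limits
open AlgGrp

namespace Groth.Agent.S17479

/-- Over an algebraically closed field k, let X be a projective variety (an integral k-scheme with a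
closed immersion into some projective space over k) whose Picard variety is trivial: every
invertible O_X-module algebraically equivalent to zero is isomorphic to O_X. Let G be a connected
k-group scheme of finite type acting faithfully on X (for every k-scheme T, a T-point of G acting as
the identity on X × T is the unit). Then G is affine. (The published statement is that the neutral
component of the reduced automorphism group of X is linear; linear is read as affine, and the form
here is its consequence for connected algebraic groups acting faithfully, which are closed subgroup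
schemes of the neutral component of the automorphism group scheme. For a non-reduced such group this
says slightly more than the published corollary: one also uses that a Noetherian scheme whose
reduction is affine is affine.) -/
theorem result (k : Type u) [Field k] [IsAlgClosed k]
    (G X : Over (Spec (CommRingCat.of k))) [GrpObj G] [LocallyOfFiniteType G.hom] [QuasiCompact G.hom]
    [ConnectedSpace ↥G.left] [IsIntegral X.left] (hX : RelProj.IsHProjective X.hom)
    (hPic : ∀ L : X.left.Modules, PicF.IsInvertible L → @Pic13.IsAlgEquivZero k _ X.left ⟨X.hom⟩ L →
      Nonempty (L ≅ Coh.structureModule X.left))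
    (a : AlgGrp.Action G X)
    (hfaith : ∀ (T : Over (Spec (CommRingCat.of k))) (g : T ⟶ G),
      lift (fst T X ≫ g) (snd T X) ≫ a.act = snd T X → g = toUnit T ≫ η[G]) :
    IsAffine G.left := by
  haveI := ProjBunLib.isProper_of_isHProjective hX
  obtain ⟨n, i, hi, hie⟩ := hX
  haveI := hi
  let c : X.left ⟶ CohB1.ProjSpace n (ULift.{u} ℤ) := i ≫ CategoryTheory.Limits.pullback.fst _ _
  haveI : IsAffineHom c := by
    haveI : IsAffineHom (specULiftZIsTerminal.from (Spec (CommRingCat.of k))) := inferInstance
    haveI : IsAffineHom (CategoryTheory.Limits.pullback.fst (CohB1.ProjSpace.toSpec n (ULift.{u} ℤ))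
      (specULiftZIsTerminal.from (Spec (CommRingCat.of k)))) :=
      MorphismProperty.pullback_fst (P := @IsAffineHom) _ _ inferInstance
    exact inferInstanceAs (IsAffineHom (i ≫ CategoryTheory.Limits.pullback.fst (CohB1.ProjSpace.toSpec n (ULift.{u} ℤ))
      (specULiftZIsTerminal.from (Spec (CommRingCat.of k)))))
  have hO := FormalCohLib.isAmple_twistProjSpace n (ULift.{u} ℤ)
  have hLa := AmpleDevLib.isAmple_pb (f := c) hO.1 hO
  have hL := hLa.1
  refine FixAmple.isAffine_of_fix a hfaith hL hLa fun g => ?_
  have hM := MiscFlat6.dual_isInvertible hL
  have ht := AmpleDevLib.isInvertible_pb (lift (toUnit X ≫ g) (𝟙 X) ≫ a.act).left hL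
  obtain ⟨e⟩ := hPic _ (HilbPolyLib.isInvertible_tensor ht hM) (Groth.Agent.S17474.result k G X
    (by exact ⟨n, i, hi, hie⟩) a g _ _ hL hM (MiscFlat6.nonempty_dualIso hL))
  have h := (CubeConsLib.clA_eq_iff (HilbPolyLib.isInvertible_tensor ht hM) (CubeConsLib.isInvertible_one _)).2 ⟨e⟩
  rw [CubeConsLib.clA_tensor ht hM, CubeConsLib.clA_dual hL, CubeConsLib.clA_one, add_neg_eq_zero,
    ← CubeConsLib.pullA_clA _ hL] at h
  exact h

end Groth.Agent.S17479
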