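import Groth.Statements.S17480
import Groth.Agent.SemiAbLib.Points
import Groth.Agent.BorelLib.QuotProper
import Groth.Agent.ChevLib.Main
import Groth.Agent.AVAmpleLib.HomDiv
import Groth.Agent.MonoQuotLib.Orbit
import Groth.Agent.AntiAffLib.Image
import Groth.Agent.GrpFieldLib.Comps
import Groth.Agent.S3278

set_option autoImplicit false
universe u
open CategoryTheory MonoidalCategory CartesianMonoidalCategory MonObj GrpObj AlgebraicGeometry CategoryTheory.Limits
open AlgGrp
set_option backward.isDefEq.respectTransparency false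
set_option linter.style.haveILetI false
set_option maxHeartbeats 1000000

attribute [-instance] CategoryTheory.Hom.commGroup

namespace Groth.Agent.S17480

section

variable {k : Type u} [Field k]

/-- The underlying point of a rational point. -/
noncomputable abbrev img {X : Over (Spec (CommRingCat.of k))} (b : 𝟙_ (Over (Spec (CommRingCat.of k))) ⟶ X) : ↥X.left :=
  b.left (IsLocalRing.closedPoint k)

theorem img_comp {X Y : Over (Spec (CommRingCat.of k))} (b : 𝟙_ (Over (Spec (CommRingCat.of k))) ⟶ X) (g : X ⟶ Y) :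
    img (b ≫ g) = g.left (img b) := by
  simp [img]

/-- Closed points are rational. -/
theorem exists_img [IsAlgClosed k] {X : Over (Spec (CommRingCat.of k))} [LocallyOfFiniteType X.hom] (x : ↥X.left)
    (hx : IsClosed ({x} : Set ↥X.left)) : ∃ b : 𝟙_ (Over (Spec (CommRingCat.of k))) ⟶ X, img b = x :=
  ⟨Over.homMk (pointOfClosedPoint X.hom x hx) (pointOfClosedPoint_comp _ _ _), by
    simp [img, pointOfClosedPoint_apply]⟩

/-- An open set holding all rational points is everything. -/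
theorem eq_univ_of_img [IsAlgClosed k] {X : Over (Spec (CommRingCat.of k))} [LocallyOfFiniteType X.hom]
    {W : Set ↥X.left} (hW : IsOpen W) (h : ∀ b : 𝟙_ (Over (Spec (CommRingCat.of k))) ⟶ X, img b ∈ W) :
    W = Set.univ := by
  haveI : JacobsonSpace X.left := LocallyOfFiniteType.jacobsonSpace X.hom
  by_contra hne
  obtain ⟨x, hx, hxc⟩ := nonempty_inter_closedPoints (Z := Wᶜ)
    (Set.nonempty_compl.2 hne) hW.isClosed_compl.isLocallyClosed
  obtain ⟨b, rfl⟩ := exists_img x hxc
  exact hx (h b)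

/-- Morphisms into an open subscheme. -/
theorem exists_factor {T U X : Over (Spec (CommRingCat.of k))} (j : U ⟶ X) [IsOpenImmersion j.left] (g : T ⟶ X)
    (h : Set.range g.left ⊆ Set.range j.left) : ∃ g' : T ⟶ U, g' ≫ j = g :=
  ⟨Over.homMk (IsOpenImmersion.lift j.left g.left h) (by rw [← Over.w j, IsOpenImmersion.lift_fac_assoc, Over.w g]),
    Over.OverMorphism.ext (by simp)⟩

/-- An open subgroup is closed. -/
theorem isClosed_range_openSubgroup [IsAlgClosed k] {H H₀ : Over (Spec (CommRingCat.of k))} [GrpObj H] [GrpObj H₀]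
    [LocallyOfFiniteType H.hom] (j : H₀ ⟶ H) [IsMonHom j] [IsOpenImmersion j.left] :
    IsClosed (Set.range j.left) := by
  haveI : JacobsonSpace H.left := LocallyOfFiniteType.jacobsonSpace H.hom
  have hU : IsOpen (Set.range j.left) := j.left.isOpenEmbedding.isOpen_range
  have hpt : ∀ u : 𝟙_ (Over (Spec (CommRingCat.of k))) ⟶ H, img u ∈ Set.range j.left →
      ∃ y, y ≫ j = u := fun u hu => exists_factor j u (by
    rintro _ ⟨q, rfl⟩
    rw [show q = IsLocalRing.closedPoint k from Subsingleton.elim (α := PrimeSpectrum k) _ _]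
    exact hu)
  refine isClosed_of_closure_subset fun x₀ hx₀ => ?_
  by_contra hne
  obtain ⟨x, ⟨hx, hxU⟩, hxc⟩ := nonempty_inter_closedPoints
    (Z := closure (Set.range j.left) ∩ (Set.range j.left)ᶜ) ⟨x₀, hx₀, hne⟩
    (isClosed_closure.inter hU.isClosed_compl).isLocallyClosed
  obtain ⟨b, rfl⟩ := exists_img x hxc
  let e : H ⟶ H := (toUnit H ≫ b⁻¹) * 𝟙 H
  have he : ∀ u : 𝟙_ (Over (Spec (CommRingCat.of k))) ⟶ H, u ≫ e = b⁻¹ * u := fun u => by
    simp only [e, MonObj.comp_mul, Category.comp_id, ← Category.assoc, toUnit_unique (u ≫ toUnit H) (𝟙 _),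
      Category.id_comp]
  have hW : IsOpen (e.left ⁻¹' Set.range j.left) := hU.preimage e.left.continuous
  have h1 : img (1 : 𝟙_ (Over (Spec (CommRingCat.of k))) ⟶ H) ∈ Set.range j.left := by
    rw [← MonObj.one_comp j, img_comp]
    exact ⟨_, rfl⟩
  have hb : img b ∈ e.left ⁻¹' Set.range j.left := by
    show e.left (img b) ∈ Set.range j.left
    rw [← img_comp, he, inv_mul_cancel]
    exact h1
  obtain ⟨z, ⟨hz1, hz2⟩, hzc⟩ := nonempty_inter_closedPoints
    (mem_closure_iff.1 hx _ hW hb) (hW.inter hU).isLocallyClosed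
  obtain ⟨u, rfl⟩ := exists_img z hzc
  obtain ⟨y₂, hy₂⟩ := hpt u hz2
  obtain ⟨y₁, hy₁⟩ := hpt (b⁻¹ * u) (by rw [← he, img_comp]; exact hz1)
  refine hxU ?_
  have : b = (y₂ * y₁⁻¹) ≫ j := by
    rw [MonObj.mul_comp, GrpObj.inv_comp, hy₂, hy₁, _root_.mul_inv_rev, _root_.inv_inv, mul_inv_cancel_left]
  rw [this, img_comp]
  exact ⟨_, rfl⟩

/-- Conjugation preserves a connected open subgroup. -/
theorem exists_conj_factor [IsAlgClosed k] {H H₀ : Over (Spec (CommRingCat.of k))} [GrpObj H] [GrpObj H₀]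
    [LocallyOfFiniteType H.hom] [LocallyOfFiniteType H₀.hom] (j : H₀ ⟶ H) [IsMonHom j] [IsOpenImmersion j.left]
    [ConnectedSpace ↥H₀.left] :
    ∃ c : H ⊗ H₀ ⟶ H₀, c ≫ j = fst H H₀ * (snd H H₀ ≫ j) * (fst H H₀)⁻¹ := by
  let c : H ⊗ H₀ ⟶ H := fst H H₀ * (snd H H₀ ≫ j) * (fst H H₀)⁻¹
  refine exists_factor j c ?_
  have hU : IsOpen (Set.range j.left) := j.left.isOpenEmbedding.isOpen_range
  have hUc : IsClopen (Set.range j.left) := ⟨isClosed_range_openSubgroup j, hU⟩
  haveI : LocallyOfFiniteType (H ⊗ H₀).hom := by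
    show LocallyOfFiniteType (Limits.pullback.fst H.hom H₀.hom ≫ H.hom)
    infer_instance
  suffices h : c.left ⁻¹' Set.range j.left = Set.univ by
    rintro _ ⟨z, rfl⟩
    exact (Set.eq_univ_iff_forall.1 h z : z ∈ c.left ⁻¹' Set.range j.left)
  refine eq_univ_of_img (hU.preimage c.left.continuous) fun b => ?_
  let h := b ≫ fst H H₀
  let x := b ≫ snd H H₀
  let e : H₀ ⟶ H := (toUnit H₀ ≫ h) * j * (toUnit H₀ ≫ h)⁻¹
  have he : ∀ y : 𝟙_ (Over (Spec (CommRingCat.of k))) ⟶ H₀, y ≫ e = h * (y ≫ j) * h⁻¹ := fun y => by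
    simp only [e, MonObj.comp_mul, GrpObj.comp_inv, ← Category.assoc, toUnit_unique (y ≫ toUnit H₀) (𝟙 _),
      Category.id_comp]
  have hsub : Set.range e.left ⊆ Set.range j.left := by
    refine (isPreconnected_range e.left.continuous).subset_isClopen hUc
      ⟨img ((1 : 𝟙_ (Over (Spec (CommRingCat.of k))) ⟶ H₀) ≫ e), ?_, ?_⟩
    · exact ⟨_, (img_comp _ _).symm⟩
    · rw [he, MonObj.one_comp, _root_.mul_one, mul_inv_cancel, ← MonObj.one_comp j, img_comp]
      exact ⟨_, rfl⟩
  show c.left (img b) ∈ Set.range j.left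
  have : b ≫ c = x ≫ e := by
    rw [he]
    simp only [c, h, x, MonObj.comp_mul, GrpObj.comp_inv, Category.assoc]
  rw [← img_comp, this, img_comp]
  exact hsub ⟨_, rfl⟩

/-- Finitely many translates of an open subgroup cover the group. -/
theorem exists_translates [IsAlgClosed k] {H H₀ : Over (Spec (CommRingCat.of k))} [GrpObj H] [GrpObj H₀]
    [LocallyOfFiniteType H.hom] [CompactSpace ↥H.left] (j : H₀ ⟶ H) [IsMonHom j] [IsOpenImmersion j.left] :
    ∃ (m : ℕ) (hc : Fin m → (𝟙_ (Over (Spec (CommRingCat.of k))) ⟶ H)),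
      ∀ x : 𝟙_ (Over (Spec (CommRingCat.of k))) ⟶ H, ∃ (c : Fin m) (y : _ ⟶ H₀), hc c * (y ≫ j) = x := by
  classical
  let e : (𝟙_ (Over (Spec (CommRingCat.of k))) ⟶ H) → (H ⟶ H) := fun h => (toUnit H ≫ h⁻¹) * 𝟙 H
  have he : ∀ h u : 𝟙_ (Over (Spec (CommRingCat.of k))) ⟶ H, u ≫ e h = h⁻¹ * u := fun h u => by
    simp only [e, MonObj.comp_mul, Category.comp_id, ← Category.assoc, toUnit_unique (u ≫ toUnit H) (𝟙 _),
      Category.id_comp]
  let V : (𝟙_ (Over (Spec (CommRingCat.of k))) ⟶ H) → Set ↥H.left := fun h => (e h).left ⁻¹' Set.range j.left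
  have hV : ∀ h, IsOpen (V h) := fun h => j.left.isOpenEmbedding.isOpen_range.preimage (e h).left.continuous
  have hcov : (⋃ h, V h) = Set.univ := eq_univ_of_img (isOpen_iUnion hV) fun b => Set.mem_iUnion.2 ⟨b, by
    show (e b).left (img b) ∈ Set.range j.left
    rw [← img_comp, he, inv_mul_cancel, ← MonObj.one_comp j, img_comp]
    exact ⟨_, rfl⟩⟩
  obtain ⟨s, hs⟩ := isCompact_univ.elim_finite_subcover V hV hcov.ge
  refine ⟨s.card, fun c => (s.equivFin.symm c : _), fun x => ?_⟩
  obtain ⟨h, hh, hx⟩ := Set.mem_iUnion₂.1 (hs (Set.mem_univ (img x)))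
  obtain ⟨y, hy⟩ := exists_factor j (x ≫ e h) (by
    rintro _ ⟨q, rfl⟩
    rw [show q = IsLocalRing.closedPoint k from Subsingleton.elim (α := PrimeSpectrum k) _ _]
    change img (x ≫ e h) ∈ _
    rw [img_comp]
    exact hx)
  refine ⟨s.equivFin ⟨h, hh⟩, y, ?_⟩
  simp only [Equiv.symm_apply_apply]
  rw [hy, he, mul_inv_cancel_left]

variable {G H X : Over (Spec (CommRingCat.of k))} [GrpObj G] [GrpObj H] {i : H ⟶ G}
  {a : AlgGrp.Action G X} {o : 𝟙_ (Over (Spec (CommRingCat.of k))) ⟶ X}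
  (sq : IsPullback (fst G H) ((G ◁ i) ≫ μ[G]) (a.orbitMap o) (a.orbitMap o))

include sq in
theorem orbit_mul {T : Over (Spec (CommRingCat.of k))} (u : T ⟶ G) (x : T ⟶ H) :
    (u * (x ≫ i)) ≫ a.orbitMap o = u ≫ a.orbitMap o := by
  have h2 := congrArg (lift u x ≫ ·) sq.w
  simp only [lift_whiskerLeft_assoc, lift_fst_assoc, Category.assoc] at h2
  rw [Hom.mul_def, Category.assoc]
  exact h2.symm

include sq in
theorem exists_of_orbit_eq {T : Over (Spec (CommRingCat.of k))} (u v : T ⟶ G)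
    (e : u ≫ a.orbitMap o = v ≫ a.orbitMap o) : ∃ x : T ⟶ H, u * (x ≫ i) = v := by
  refine ⟨sq.lift u v e ≫ snd G H, ?_⟩
  have hl : sq.lift u v e = lift u (sq.lift u v e ≫ snd G H) :=
    CartesianMonoidalCategory.hom_ext _ _ (by rw [lift_fst]; exact sq.lift_fst u v e) (by rw [lift_snd])
  conv_rhs => rw [← sq.lift_snd u v e, hl, lift_whiskerLeft_assoc]
  rw [Hom.mul_def, Category.assoc]

theorem one_orbit {T : Over (Spec (CommRingCat.of k))} : (1 : T ⟶ G) ≫ a.orbitMap o = toUnit T ≫ o := by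
  have h := congrArg (lift (toUnit T) (toUnit T ≫ o) ≫ ·) a.one_act
  simp only [lift_whiskerRight_assoc, leftUnitor_hom, lift_snd] at h
  rw [Hom.one_def, AlgGrp.Action.orbitMap, comp_lift_assoc, Category.comp_id, ← Category.assoc _ (toUnit G) o,
    toUnit_unique ((toUnit T ≫ η[G]) ≫ toUnit G) (toUnit T)]
  exact h

end

/-- Over an algebraically closed field k, let G be a connected linear algebraic group (a smooth, affine,
connected k-group scheme), i : H → G a closed subgroup scheme (not necessarily reduced), j : H⁰ → H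
its neutral component (an open subgroup scheme which is connected), and n : N → G the normaliser of
H⁰ in G. Let Q₁ = G/H and Q₂ = G/N be the quotients (G-actions with base points o₁, o₂ whose orbit
maps are flat and surjective, with G × H ≅ G ×_{Q₁} G and likewise for N), and let f : Q₁ → Q₂ be
the morphism under which the orbit map of o₁ composes to the orbit map of o₂ (it exists since H ⊆
N). Then f is an affine morphism. -/
theorem result (k : Type u) [Field k] [IsAlgClosed k]
    (G H H₀ N Q₁ Q₂ : Over (Spec (CommRingCat.of k))) [GrpObj G] [GrpObj H] [GrpObj H₀] [GrpObj N]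
    [IsAffine G.left] [Smooth G.hom] [ConnectedSpace ↥G.left]
    (i : H ⟶ G) [IsMonHom i] (hi : IsClosedImmersion i.left)
    (j : H₀ ⟶ H) [IsMonHom j] (hj : IsOpenImmersion j.left) [ConnectedSpace ↥H₀.left]
    (n : N ⟶ G) (hN : Red.IsNormalizerOf (j ≫ i) n)
    (a₁ : AlgGrp.Action G Q₁) (o₁ : 𝟙_ (Over (Spec (CommRingCat.of k))) ⟶ Q₁) (hQ₁ : AGF.IsQuotient i Q₁ a₁ o₁)
    (a₂ : AlgGrp.Action G Q₂) (o₂ : 𝟙_ (Over (Spec (CommRingCat.of k))) ⟶ Q₂) (hQ₂ : AGF.IsQuotient n Q₂ a₂ o₂)
    (f : Q₁ ⟶ Q₂) (hf : a₁.orbitMap o₁ ≫ f = a₂.orbitMap o₂) :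
    IsAffineHom f.left := by
  obtain ⟨hl₁, hf₁, hs₁, sq₁⟩ := hQ₁
  obtain ⟨hl₂, hf₂, hs₂, sq₂⟩ := hQ₂
  obtain ⟨hnm, hnmono, hnorm⟩ := hN
  haveI := hl₁; haveI := hl₂; haveI := hf₁; haveI := hf₂; haveI := hs₁; haveI := hs₂
  haveI : IsMonHom n := hnm
  haveI : Mono n := hnmono
  haveI := hi; haveI := hj
  haveI : QuasiCompact G.hom := quasiCompact_of_compactSpace _
  haveI : LocallyOfFiniteType H.hom := by rw [← Over.w i]; infer_instance
  haveI : LocallyOfFiniteType H₀.hom := by rw [← Over.w j]; infer_instance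
  haveI : IsAffine H.left := isAffine_of_isAffineHom i.left
  -- N is closed in G
  have sqN : IsPullback n (toUnit N) (a₂.orbitMap o₂) o₂ := by
    have hw : n ≫ a₂.orbitMap o₂ = toUnit N ≫ o₂ := by
      have h := orbit_mul sq₂ (1 : N ⟶ G) (𝟙 N)
      rw [Category.id_comp, _root_.one_mul, one_orbit] at h
      exact h
    have key : ∀ c : PullbackCone (a₂.orbitMap o₂) o₂, ∃ x : c.pt ⟶ N, x ≫ n = c.fst := fun c => by
      obtain ⟨x, hx⟩ := exists_of_orbit_eq sq₂ (1 : c.pt ⟶ G) c.fst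
        (by rw [one_orbit, c.condition, toUnit_unique c.snd (toUnit c.pt)])
      exact ⟨x, by rw [← hx, _root_.one_mul]⟩
    choose x hx using key
    exact IsPullback.of_isLimit' ⟨hw⟩ (PullbackCone.IsLimit.mk _ x hx (fun c => toUnit_unique _ _)
      fun c m h1 _ => (cancel_mono n).1 (h1.trans (hx c).symm))
  haveI : Subsingleton ↥(Spec (CommRingCat.of k)) := inferInstanceAs (Subsingleton (PrimeSpectrum k))
  haveI : IsClosedImmersion n.left := by
    haveI : Subsingleton ↥(𝟙_ (Over (Spec (CommRingCat.of k)))).left :=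
      inferInstanceAs (Subsingleton (PrimeSpectrum k))
    haveI : IsClosedImmersion o₂.left := isClosedImmersion_of_comp_eq_id Q₂.hom o₂.left (Over.w o₂)
    exact MorphismProperty.of_isPullback (P := @IsClosedImmersion) (sqN.map (Over.forget _)).flip ‹_›
  haveI : IsAffine N.left := isAffine_of_isAffineHom n.left
  haveI : LocallyOfFiniteType N.hom := by rw [← Over.w n]; infer_instance
  haveI : QuasiCompact N.hom := quasiCompact_of_compactSpace _
  -- H normalises H₀
  obtain ⟨c, hc⟩ := exists_conj_factor j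
  obtain ⟨m, hm⟩ : ∃ m : H ⟶ N, m ≫ n = i := by
    refine (hnorm H i).2 fun X' x h => ?_
    have hl : ∀ y : X' ⟶ H, (lift y h ≫ c) ≫ j = y * (h ≫ j) * y⁻¹ := fun y => by
      rw [Category.assoc, hc]
      simp [MonObj.comp_mul, GrpObj.comp_inv]
    refine ⟨⟨lift x h ≫ c, ?_⟩, ⟨lift x⁻¹ h ≫ c, ?_⟩⟩
    · rw [show (lift x h ≫ c) ≫ j ≫ i = ((lift x h ≫ c) ≫ j) ≫ i from (Category.assoc _ _ _).symm, hl,
        MonObj.mul_comp, MonObj.mul_comp, GrpObj.inv_comp, Category.assoc]
    · rw [show (lift x⁻¹ h ≫ c) ≫ j ≫ i = ((lift x⁻¹ h ≫ c) ≫ j) ≫ i from (Category.assoc _ _ _).symm, hl,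
        MonObj.mul_comp, MonObj.mul_comp]
      simp only [GrpObj.inv_comp, _root_.inv_inv, Category.assoc]
  haveI : IsMonHom m :=
    { one_hom := (cancel_mono n).1 (by rw [Category.assoc, hm, IsMonHom.one_hom, IsMonHom.one_hom])
      mul_hom := (cancel_mono n).1 (by
        rw [Category.assoc, Category.assoc, hm, IsMonHom.mul_hom, IsMonHom.mul_hom, ← Category.assoc,
          MonoidalCategory.tensorHom_comp_tensorHom, hm]) }
  haveI : IsClosedImmersion j.left := IsClosedImmersion.of_isPreimmersion _ (isClosed_range_openSubgroup j)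
  haveI : IsClosedImmersion (j ≫ m).left := by
    haveI : IsClosedImmersion ((j ≫ m).left ≫ n.left) := by
      rw [← Over.comp_left, Category.assoc, hm, Over.comp_left]; infer_instance
    exact IsClosedImmersion.of_comp (j ≫ m).left n.left
  have hnormal : AlgGrp.IsNormalHom (j ≫ m) := fun T g x => by
    obtain ⟨x', hx'⟩ := ((hnorm T (g ≫ n)).1 ⟨g, rfl⟩ T (𝟙 T) x).1
    refine ⟨x', (cancel_mono n).1 ?_⟩
    rw [Category.id_comp] at hx'
    simp only [MonObj.mul_comp, GrpObj.inv_comp, Category.assoc, hm]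
    exact hx'
  obtain ⟨Q, _, q, hqm, hQa, hQl, hqf, hqs, hker⟩ := Groth.Agent.S3278.result k N H₀ (j ≫ m) hnormal
  haveI := hqm; haveI := hQa; haveI := hQl; haveI := hqf; haveI := hqs
  have hq0 : ∀ {T : Over (Spec (CommRingCat.of k))} (y : T ⟶ H₀), y ≫ j ≫ m ≫ q = 1 := fun {T} y => by
    rw [← Category.assoc j m q, hker.w, ← Category.assoc, toUnit_unique (y ≫ toUnit H₀) (toUnit T), Hom.one_def]
  haveI : LocallyOfFinitePresentation q.left := AntiAffLib.lfp_of_lft q
  haveI : QuasiCompact Q.hom := quasiCompact_of_compactSpace _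
  -- separatedness
  haveI := AntiAffLib.lfp_of_lft (a₁.orbitMap o₁)
  haveI := AntiAffLib.lfp_of_lft (a₂.orbitMap o₂)
  haveI : IsSeparated Q₁.hom := Groth.Agent.BorelLib.isSeparated_of_isQuotient sq₁
  haveI : IsSeparated Q₂.hom := Groth.Agent.BorelLib.isSeparated_of_isQuotient sq₂
  haveI : CompactSpace Q₁.left := (a₁.orbitMap o₁).left.surjective.compactSpace (a₁.orbitMap o₁).left.continuous
  haveI : CompactSpace Q₂.left := (a₂.orbitMap o₂).left.surjective.compactSpace (a₂.orbitMap o₂).left.continuous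
  haveI : QuasiCompact Q₁.hom := quasiCompact_of_compactSpace _
  haveI : QuasiCompact Q₂.hom := quasiCompact_of_compactSpace _
  haveI : QuasiCompact (a₂.orbitMap o₂).left := by
    haveI : QuasiCompact ((a₂.orbitMap o₂).left ≫ Q₂.hom) := by rw [Over.w]; infer_instance
    exact QuasiCompact.of_comp (a₂.orbitMap o₂).left Q₂.hom
  haveI : QuasiCompact (a₁.orbitMap o₁).left := by
    haveI : QuasiCompact ((a₁.orbitMap o₁).left ≫ Q₁.hom) := by rw [Over.w]; infer_instance
    exact QuasiCompact.of_comp (a₁.orbitMap o₁).left Q₁.hom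
  haveI : IsSeparated f.left := by
    haveI : IsSeparated (f.left ≫ Q₂.hom) := by rw [Over.w]; infer_instance
    exact IsSeparated.of_comp f.left Q₂.hom
  haveI : LocallyOfFiniteType f.left := by
    haveI : LocallyOfFiniteType (f.left ≫ Q₂.hom) := by rw [Over.w]; infer_instance
    exact locallyOfFiniteType_of_comp f.left Q₂.hom
  haveI : QuasiCompact f.left := by
    haveI : QuasiCompact (f.left ≫ Q₂.hom) := by rw [Over.w]; infer_instance
    exact QuasiCompact.of_comp f.left Q₂.hom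
  -- the fibre product
  let P := Limits.pullback (a₂.orbitMap o₂) f
  let p₁ : P ⟶ G := Limits.pullback.fst _ _
  let p₂ : P ⟶ Q₁ := Limits.pullback.snd _ _
  have sqP : IsPullback p₁ p₂ (a₂.orbitMap o₂) f := IsPullback.of_hasPullback _ _
  have sqP' := sqP.map (Over.forget _)
  haveI : IsSeparated p₁.left := MorphismProperty.of_isPullback (P := @IsSeparated) sqP'.flip ‹_›
  haveI : LocallyOfFiniteType p₁.left := MorphismProperty.of_isPullback (P := @LocallyOfFiniteType) sqP'.flip ‹_›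
  haveI : QuasiCompact p₁.left := MorphismProperty.of_isPullback (P := @QuasiCompact) sqP'.flip ‹_›
  haveI : IsSeparated P.hom := by rw [← Over.w p₁]; infer_instance
  haveI : LocallyOfFiniteType P.hom := by rw [← Over.w p₁]; infer_instance
  haveI : QuasiCompact P.hom := by rw [← Over.w p₁]; infer_instance
  -- G × N and G × N/H₀
  let act : G ⊗ N ⟶ G := (G ◁ n) ≫ μ[G]
  have hact : ∀ {T : Over (Spec (CommRingCat.of k))} (u : T ⟶ G) (v : T ⟶ N), lift u v ≫ act = u * (v ≫ n) := by
    intro T u v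
    simp only [act, lift_whiskerLeft_assoc, Hom.mul_def]
  let ψ : G ⊗ N ⟶ P := sqP.lift (fst G N) (act ≫ a₁.orbitMap o₁) (by
    rw [Category.assoc, hf]; exact sq₂.w)
  have hψ₁ : ψ ≫ p₁ = fst G N := sqP.lift_fst _ _ _
  have hψ₂ : ψ ≫ p₂ = act ≫ a₁.orbitMap o₁ := sqP.lift_snd _ _ _
  have hψeq : ∀ {T : Over (Spec (CommRingCat.of k))} (u : T ⟶ G) (v : T ⟶ N) (x : T ⟶ H),
      lift u (v * (x ≫ m)) ≫ ψ = lift u v ≫ ψ := fun u v x => by
    refine sqP.hom_ext ?_ ?_
    · simp [hψ₁]
    · simp only [Category.assoc, hψ₂]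
      rw [← Category.assoc, hact, ← Category.assoc, hact,
        show (v * (x ≫ m)) ≫ n = (v ≫ n) * (x ≫ i) by rw [MonObj.mul_comp, Category.assoc, hm],
        ← _root_.mul_assoc, orbit_mul sq₁]
  have sqψ : IsPullback act ψ (a₁.orbitMap o₁) p₂ := by
    have key : ∀ c : PullbackCone (a₁.orbitMap o₁) p₂, ∃ v : c.pt ⟶ N, (c.snd ≫ p₁) * (v ≫ n) = c.fst := fun c => by
      refine exists_of_orbit_eq sq₂ _ _ ?_
      rw [Category.assoc, sqP.w, ← Category.assoc c.snd, ← c.condition, Category.assoc, hf]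
    choose v hv using key
    refine IsPullback.of_isLimit' ⟨hψ₂.symm⟩ (PullbackCone.IsLimit.mk _ (fun c => lift (c.snd ≫ p₁) (v c))
      (fun c => (hact _ _).trans (hv c)) (fun c => ?_) fun c l h1 h2 => ?_)
    · refine sqP.hom_ext ?_ ?_
      · simp [hψ₁]
      · rw [Category.assoc, hψ₂, ← Category.assoc, hact, hv, c.condition]
    · have e1 : l ≫ fst G N = c.snd ≫ p₁ := by rw [← h2, Category.assoc, hψ₁]
      refine CartesianMonoidalCategory.hom_ext _ _ (by rw [lift_fst, e1]) ?_
      rw [lift_snd]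
      refine (cancel_mono n).1 (mul_left_cancel (a := c.snd ≫ p₁) ?_)
      rw [hv, ← h1, ← e1, ← hact]
      exact congrArg (· ≫ act) (CartesianMonoidalCategory.hom_ext _ _ (by simp) (by simp))
  have sqψ' := sqψ.map (Over.forget _)
  haveI : Flat ψ.left := MorphismProperty.of_isPullback (P := @Flat) sqψ' ‹_›
  haveI : Surjective ψ.left := MorphismProperty.of_isPullback (P := @Surjective) sqψ' ‹_›
  haveI : QuasiCompact ψ.left := MorphismProperty.of_isPullback (P := @QuasiCompact) sqψ' ‹_›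
  haveI : IsAffineHom G.hom := isAffineHom_of_isAffine _
  haveI : IsAffineHom N.hom := isAffineHom_of_isAffine _
  haveI : IsAffineHom Q.hom := isAffineHom_of_isAffine _
  haveI : IsAffineHom (G ⊗ N).hom := by
    show IsAffineHom (Limits.pullback.fst G.hom N.hom ≫ G.hom); infer_instance
  haveI : IsAffineHom (G ⊗ Q).hom := by
    show IsAffineHom (Limits.pullback.fst G.hom Q.hom ≫ G.hom); infer_instance
  haveI : LocallyOfFiniteType (G ⊗ N).hom := by
    show LocallyOfFiniteType (Limits.pullback.fst G.hom N.hom ≫ G.hom); infer_instance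
  haveI : LocallyOfFiniteType (G ⊗ Q).hom := by
    show LocallyOfFiniteType (Limits.pullback.fst G.hom Q.hom ≫ G.hom); infer_instance
  haveI : IsAffine (G ⊗ Q).left := isAffine_of_isAffineHom (G ⊗ Q).hom
  -- descend ψ along G × q
  have sqq : IsPullback (G ◁ q) (snd G N) (snd G Q) q := by
    refine IsPullback.of_isLimit' ⟨by simp⟩ (PullbackCone.IsLimit.mk _ (fun c => lift (c.fst ≫ fst G Q) c.snd)
      (fun c => ?_) (fun c => lift_snd _ _) fun c l h1 h2 => ?_)
    · refine CartesianMonoidalCategory.hom_ext _ _ (by simp) ?_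
      simp [c.condition]
    · refine CartesianMonoidalCategory.hom_ext _ _ ?_ (by rw [lift_snd, h2])
      rw [lift_fst, ← h1]
      simp
  have sqq' := (sqq.map (Over.forget _)).flip
  haveI : Flat (G ◁ q).left := MorphismProperty.of_isPullback (P := @Flat) sqq' ‹_›
  haveI : Surjective (G ◁ q).left := MorphismProperty.of_isPullback (P := @Surjective) sqq' ‹_›
  haveI : LocallyOfFinitePresentation (G ◁ q).left :=
    MorphismProperty.of_isPullback (P := @LocallyOfFinitePresentation) sqq' ‹_›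
  obtain ⟨φ, hφ⟩ := Groth.Agent.MonoQuot.exists_desc_over (G ◁ q) ψ fun T a b e => by
    have e1 : a ≫ fst G N = b ≫ fst G N := by simpa using congrArg (· ≫ fst G Q) e
    have e2 : (a ≫ snd G N) ≫ q = (b ≫ snd G N) ≫ q := by simpa using congrArg (· ≫ snd G Q) e
    obtain ⟨y, hy⟩ : ∃ y : T ⟶ H₀, y ≫ j ≫ m = (a ≫ snd G N)⁻¹ * (b ≫ snd G N) :=
      ⟨hker.lift _ (toUnit T) (by rw [MonObj.mul_comp, GrpObj.inv_comp, e2, inv_mul_cancel, Hom.one_def]),
        hker.lift_fst _ _ _⟩
    have eb : b = lift (a ≫ fst G N) ((a ≫ snd G N) * ((y ≫ j) ≫ m)) := by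
      refine CartesianMonoidalCategory.hom_ext _ _ (by rw [lift_fst, e1]) ?_
      rw [lift_snd, Category.assoc, hy, mul_inv_cancel_left]
    rw [eb, hψeq]
    exact congrArg (· ≫ ψ) (CartesianMonoidalCategory.hom_ext _ _ (by simp) (by simp))
  have hφ' : ∀ {T : Over (Spec (CommRingCat.of k))} (u : T ⟶ G) (v : T ⟶ N),
      lift u (v ≫ q) ≫ φ = lift u v ≫ ψ := fun u v => by
    rw [← hφ, ← lift_whiskerLeft_assoc]
  haveI : Surjective φ.left := by
    haveI : Surjective ((G ◁ q).left ≫ φ.left) := by rw [← Over.comp_left, hφ]; infer_instance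
    exact Surjective.of_comp (G ◁ q).left φ.left
  -- φ is universally closed
  obtain ⟨M, hcM, hcov⟩ := exists_translates j
  let ι' : Type u := ULift.{u} (Fin M)
  let C : Over (Spec (CommRingCat.of k)) :=
    Over.mk (Spec.map (CommRingCat.ofHom (algebraMap k (ι' → k))))
  haveI : IsFinite C.hom := (IsFinite.SpecMap_iff _).2
    (RingHom.finite_algebraMap.2 (inferInstance : Module.Finite k (ι' → k)))
  let cH : C ⟶ H := Over.homMk (inv (sigmaSpec fun _ : ι' => CommRingCat.of k) ≫ Sigma.desc fun c => (hcM c.down).left)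
    (by
      rw [Category.assoc, IsIso.inv_comp_eq]
      refine Sigma.hom_ext _ _ fun c => ?_
      rw [colimit.ι_desc_assoc, ι_sigmaSpec_assoc]
      show (hcM c.down).left ≫ H.hom = _
      rw [Over.w (hcM c.down)]
      show 𝟙 _ = Spec.map _ ≫ Spec.map _
      rw [← Spec.map_comp, ← Spec.map_id]
      rfl)
  have hcH : ∀ c : Fin M, ∃ e : 𝟙_ (Over (Spec (CommRingCat.of k))) ⟶ C, e ≫ cH = hcM c := fun c =>
    ⟨Over.homMk (Spec.map (CommRingCat.ofHom (Pi.evalRingHom (fun _ : ι' => k) ⟨c⟩))) (by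
        show Spec.map _ ≫ Spec.map _ = 𝟙 _
        rw [← Spec.map_comp, ← Spec.map_id]
        rfl),
      Over.OverMorphism.ext (by
        simp only [Over.comp_left, cH, Over.homMk_left]
        rw [← ι_sigmaSpec (fun _ : ι' => CommRingCat.of k) ⟨c⟩, Category.assoc, IsIso.hom_inv_id_assoc]
        exact colimit.ι_desc _ _)⟩
  let D := Limits.pullback φ ψ
  let d₁ : D ⟶ G ⊗ Q := Limits.pullback.fst _ _
  let d₂ : D ⟶ G ⊗ N := Limits.pullback.snd _ _
  have sqD : IsPullback d₁ d₂ φ ψ := IsPullback.of_hasPullback _ _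
  have sqD' := sqD.map (Over.forget _)
  haveI : LocallyOfFiniteType φ.left := by
    haveI : LocallyOfFiniteType (φ.left ≫ P.hom) := by rw [Over.w]; infer_instance
    exact locallyOfFiniteType_of_comp φ.left P.hom
  haveI : IsSeparated φ.left := by
    haveI : IsSeparated (φ.left ≫ P.hom) := by rw [Over.w]; infer_instance
    exact IsSeparated.of_comp φ.left P.hom
  haveI : QuasiCompact φ.left := by
    haveI : QuasiCompact (φ.left ≫ P.hom) := by rw [Over.w]; infer_instance
    exact QuasiCompact.of_comp φ.left P.hom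
  haveI : IsSeparated d₂.left := MorphismProperty.of_isPullback (P := @IsSeparated) sqD' ‹_›
  haveI : LocallyOfFiniteType d₂.left := MorphismProperty.of_isPullback (P := @LocallyOfFiniteType) sqD' ‹_›
  haveI : QuasiCompact d₂.left := MorphismProperty.of_isPullback (P := @QuasiCompact) sqD' ‹_›
  haveI : IsSeparated D.hom := by rw [← Over.w d₂]; infer_instance
  haveI : LocallyOfFiniteType D.hom := by rw [← Over.w d₂]; infer_instance
  haveI : QuasiCompact D.hom := by rw [← Over.w d₂]; infer_instance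
  haveI : LocallyOfFiniteType ((G ⊗ N) ⊗ C).hom := by
    show LocallyOfFiniteType (Limits.pullback.fst (G ⊗ N).hom C.hom ≫ (G ⊗ N).hom); infer_instance
  haveI : QuasiCompact ((G ⊗ N) ⊗ C).hom := by
    show QuasiCompact (Limits.pullback.fst (G ⊗ N).hom C.hom ≫ (G ⊗ N).hom); infer_instance
  let t : (G ⊗ N) ⊗ C ⟶ D := sqD.lift
    (lift (fst _ C ≫ fst G N) (((fst _ C ≫ snd G N) * ((snd _ C ≫ cH) ≫ m)) ≫ q)) (fst _ C) (by
      rw [hφ', hψeq]
      exact congrArg (· ≫ ψ) (CartesianMonoidalCategory.hom_ext _ _ (by simp) (by simp)))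
  have ht₁ : t ≫ d₁ = _ := sqD.lift_fst _ _ _
  have ht₂ : t ≫ d₂ = fst _ C := sqD.lift_snd _ _ _
  haveI : Surjective t.left := SemiAbLib.surjective_of_pts t fun d => by
    let u := d ≫ d₁ ≫ fst G Q
    obtain ⟨v', hv'⟩ := AVAmpleLib.exists_pt_lift q (d ≫ d₁ ≫ snd G Q)
    let u₀ := d ≫ d₂ ≫ fst G N
    let v := d ≫ d₂ ≫ snd G N
    have he1 : d ≫ d₁ = lift u (v' ≫ q) := CartesianMonoidalCategory.hom_ext _ _
      (by rw [lift_fst, Category.assoc]) (by rw [lift_snd, hv', Category.assoc])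
    have he2 : d ≫ d₂ = lift u₀ v := CartesianMonoidalCategory.hom_ext _ _
      (by rw [lift_fst, Category.assoc]) (by rw [lift_snd, Category.assoc])
    have heq : lift u v' ≫ ψ = lift u₀ v ≫ ψ := by
      rw [← hφ', ← he1, ← he2, Category.assoc, Category.assoc, sqD.w]
    have hu : u = u₀ := by simpa [hψ₁] using congrArg (· ≫ p₁) heq
    have hy := congrArg (· ≫ p₂) heq
    simp only [Category.assoc, hψ₂] at hy
    rw [← Category.assoc, hact, ← Category.assoc, hact, ← hu] at hy
    obtain ⟨x, hx⟩ := exists_of_orbit_eq sq₁ _ _ hy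
    have hv : v' * (x ≫ m) = v := (cancel_mono n).1 (by
      rw [MonObj.mul_comp, Category.assoc, hm]
      exact mul_left_cancel ((_root_.mul_assoc _ _ _).symm.trans hx))
    obtain ⟨c, y, hxy⟩ := hcov x⁻¹
    obtain ⟨e, he⟩ := hcH c
    refine ⟨lift (d ≫ d₂) e, sqD.hom_ext ?_ ?_⟩
    · rw [Category.assoc, ht₁, he1, comp_lift]
      refine CartesianMonoidalCategory.hom_ext _ _ ?_ ?_
      · rw [lift_fst, lift_fst, lift_fst_assoc, hu, Category.assoc]
      · rw [lift_snd, lift_snd]
        simp only [← Category.assoc, MonObj.comp_mul, lift_fst, lift_snd]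
        rw [he, show (d ≫ d₂) ≫ snd G N = v from Category.assoc _ _ _]
        have : v' = v * (hcM c ≫ m) * ((y ≫ j) ≫ m) := by
          rw [_root_.mul_assoc, ← MonObj.mul_comp, hxy, GrpObj.inv_comp, ← hv, mul_inv_cancel_right]
        rw [this]
        simp only [MonObj.mul_comp, Category.assoc, hq0, _root_.mul_one]
    · rw [Category.assoc, ht₂, lift_fst]
  haveI : UniversallyClosed d₂.left := by
    have sqC := (IsPullback.of_hasPullback (G ⊗ N).hom C.hom)
    haveI : IsFinite (fst (G ⊗ N) C).left := MorphismProperty.of_isPullback (P := @IsFinite) sqC.flip ‹_›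
    haveI : UniversallyClosed (t.left ≫ d₂.left) := by rw [← Over.comp_left, ht₂]; infer_instance
    exact UniversallyClosed.of_comp_surjective t.left d₂.left
  haveI : UniversallyClosed φ.left := MorphismProperty.of_isPullback_of_descendsAlong (P := @UniversallyClosed)
    (Q := @Surjective ⊓ @Flat ⊓ @QuasiCompact) sqD'.flip ⟨⟨‹Surjective ψ.left›, ‹Flat ψ.left›⟩, ‹QuasiCompact ψ.left›⟩ ‹_›
  haveI : IsAffine P.left := ChevLib.isAffine_of_surjective_universallyClosed φ.left
  haveI hp : IsAffineHom p₁.left := by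
    haveI : IsAffineHom (p₁.left ≫ G.hom) := by rw [Over.w]; exact isAffineHom_of_isAffine _
    exact IsAffineHom.of_comp p₁.left G.hom
  exact MorphismProperty.of_isPullback_of_descendsAlong (P := @IsAffineHom)
    (Q := @Surjective ⊓ @Flat ⊓ @QuasiCompact) sqP'
    ⟨⟨‹Surjective (a₂.orbitMap o₂).left›, ‹Flat (a₂.orbitMap o₂).left›⟩, ‹QuasiCompact (a₂.orbitMap o₂).left›⟩ hp

end Groth.Agent.S17480
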