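import Groth.Statements.S17482
import Mathlib
import Groth.Agent.SurfNumLib.RRApps
import Groth.Agent.SurfNumLib.K3
import Groth.Agent.SurfNumLib.Config
import Groth.Agent.SurfNumLib.Eff
import Groth.Agent.SurfNumLib.Deg
import Groth.Agent.IntFunLib.Kleiman
import Groth.Agent.S1536
import Groth.Agent.S1537
import Groth.Agent.GrpdFieldLib.ClosedSub
import Groth.Agent.CurveH0Lib.Smooth
-- import your own Groth.Agent.* helpers here

set_option autoImplicit false
universe u
open CategoryTheory CategoryTheory.Limits AlgebraicGeometry
open Surf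

namespace Groth.Agent.S17482

/-- Let k be an algebraically closed field of characteristic zero and X a smooth projective surface over
k (an integral scheme of dimension two with all local rings regular, admitting a closed immersion
into some P^n_k over k) such that H^1(X, O_X) = 0. Let D be a nonempty closed subscheme of X, given
by a quasi-coherent ideal sheaf whose associated O_X-module I_D is invertible (a nonzero effective
divisor). If H^1(X, I_D) = 0, then D is connected. (The published statement is for rational
surfaces; this row assumes only H^1(X, O_X) = 0. Since H^1(X, I_D) depends only on the isomorphism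
class of I_D, the same holds for every effective divisor linearly equivalent to D.) -/
theorem result
    (k : Type u) [Field k] [IsAlgClosed k] [CharZero k]
    (X : Scheme.{u}) [X.Over (Spec (CommRingCat.of k))] [AlgebraicGeometry.IsIntegral X]
    (hdim : topologicalKrullDim X = 2) (hreg : ∀ x : X, IsRegularLocalRing (X.presheaf.stalk x))
    (hproj : ∃ (n : ℕ) (ι : X ⟶ CohB1.ProjSpace n k), IsClosedImmersion ι ∧
      ι ≫ CohB1.ProjSpace.toSpec n k = (X ↘ (Spec (CommRingCat.of k))))
    (hH1 : Subsingleton (Coh.HH X (Coh.structureModule X) 1))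
    (D : X.IdealSheafData) (hD : PicF.IsInvertible (ClSub.idealMod D)) (hne : Nonempty ↥D.subscheme)
    (hvan : Subsingleton (Coh.HH X (ClSub.idealMod D) 1)) :
    ConnectedSpace ↥D.subscheme := by
  have hX : topologicalKrullDim X = ((2 : ℕ) : WithBot ℕ∞) := hdim
  obtain ⟨n, ι, hι, hιc⟩ := hproj
  haveI := SurfNumLib.isProper_of_embedding (k := k) ι hιc
  haveI := CurvLib.isNoetherian k (X := X)
  have hqc : Coh.IsCoh (ClSub.quotMod D) := CurvLib.isCoh_quotMod D
  have hb := HodgeIdxLib.hh_right_le (k := k) (S := CurvLib.idealSeq D) (CurvLib.idealSeq_shortExact _)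
    (CurvLib.isCoh_of_isInvertible hD) (DevissLib.isCoh_structureModule X) hqc 0
  change HodgeIdxLib.hh k (ClSub.quotMod D) 0 ≤
    HodgeIdxLib.hh k (Coh.structureModule X) 0 + HodgeIdxLib.hh k (ClSub.idealMod D) 1 at hb
  rw [SurfNumLib.h0_structure k, show HodgeIdxLib.hh k (ClSub.idealMod D) 1 = 0 from Module.finrank_zero_of_subsingleton] at hb
  letI : D.subscheme.Over (Spec (CommRingCat.of k)) := ⟨D.subschemeι ≫ (X ↘ Spec (CommRingCat.of k))⟩
  haveI : IsProper (D.subscheme ↘ Spec (CommRingCat.of k)) :=
    inferInstanceAs (IsProper (D.subschemeι ≫ (X ↘ Spec (CommRingCat.of k))))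
  haveI := CurvLib.isNoetherian k (X := D.subscheme)
  rw [SurfNumLib.hh_quot D rfl] at hb
  haveI := CurvLib.finite_HH (k := k) (DevissLib.isCoh_structureModule D.subscheme) 0
  have hpos : HodgeIdxLib.hh k (Coh.structureModule D.subscheme) 0 ≠ 0 := fun h0 => by
    have h1 : Subsingleton (Coh.HH D.subscheme (Coh.structureModule D.subscheme) 0) := (Module.finrank_zero_iff (R := k)).mp h0
    have h2 : Subsingleton Γ(Coh.structureModule D.subscheme, ⊤) :=
      ((QCohLib.hEquiv ((QCohLib.toAbF D.subscheme).obj (Coh.structureModule D.subscheme)) 0).trans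
        (QCohLib.h0 (U := (⊤ : TopologicalSpace.Opens D.subscheme.toTopCat)))).toEquiv.subsingleton_congr.mp h1
    haveI : Nonempty (⊤ : D.subscheme.Opens) := ⟨⟨Classical.arbitrary _, trivial⟩⟩
    exact zero_ne_one (α := Γ(D.subscheme, ⊤)) (h2.elim _ _)
  exact SurfNumLib.connected_of_h0 (k := k) (le_antisymm hb (Nat.one_le_iff_ne_zero.mpr hpos))

end Groth.Agent.S17482
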