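import Groth.Statements.S17483
import Mathlib
import Groth.Agent.SurfNumLib.RRApps
import Groth.Agent.SurfNumLib.K3
import Groth.Agent.SurfNumLib.Config
import Groth.Agent.SurfNumLib.Eff
import Groth.Agent.SurfNumLib.Deg
import Groth.Agent.IntFunLib.Kleiman
import Groth.Agent.S1536
import Groth.Agent.S1537
import Groth.Agent.GrpdFieldLib.ClosedSub
import Groth.Agent.CurveH0Lib.Smooth
-- import your own Groth.Agent.* helpers here

set_option autoImplicit false
universe u
open CategoryTheory CategoryTheory.Limits AlgebraicGeometry
open Surf

namespace Groth.Agent.S17483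

/-- Let k be an algebraically closed field of characteristic zero and X a smooth projective surface over
k (an integral scheme of dimension two with all local rings regular, admitting a closed immersion
into some P^n_k over k) such that H^1(X, O_X) = 0. Let D be a closed subscheme of X, given by a
quasi-coherent ideal sheaf whose associated O_X-module I_D is invertible (an effective divisor). If
D is connected and reduced, then H^1(X, I_D) = 0. (The published statement asserts H^1(X, I_D) = 0
as soon as the linear system of D contains a connected curve, without reducedness; that fails: on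
the blow-up of the projective plane at a point, with exceptional curve E, the divisor D = 2E is
connected and is the only member of its linear system, yet H^0(O_{2E}) is three-dimensional, so
H^1(X, I_{2E}) is two-dimensional. The published statement is for rational surfaces; this row
assumes H^1(X, O_X) = 0 instead.) -/
theorem result
    (k : Type u) [Field k] [IsAlgClosed k] [CharZero k]
    (X : Scheme.{u}) [X.Over (Spec (CommRingCat.of k))] [AlgebraicGeometry.IsIntegral X]
    (hdim : topologicalKrullDim X = 2) (hreg : ∀ x : X, IsRegularLocalRing (X.presheaf.stalk x))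
    (hproj : ∃ (n : ℕ) (ι : X ⟶ CohB1.ProjSpace n k), IsClosedImmersion ι ∧
      ι ≫ CohB1.ProjSpace.toSpec n k = (X ↘ (Spec (CommRingCat.of k))))
    (hH1 : Subsingleton (Coh.HH X (Coh.structureModule X) 1))
    (D : X.IdealSheafData) (hD : PicF.IsInvertible (ClSub.idealMod D))
    [ConnectedSpace ↥D.subscheme] [IsReduced D.subscheme] :
    Subsingleton (Coh.HH X (ClSub.idealMod D) 1) := by
  have hX : topologicalKrullDim X = ((2 : ℕ) : WithBot ℕ∞) := hdim
  obtain ⟨n, ι, hι, hιc⟩ := hproj
  haveI := SurfNumLib.isProper_of_embedding (k := k) ι hιc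
  haveI := CurvLib.isNoetherian k (X := X)
  have hJ := IntMultLib.isEffCartier_of_isInvertible D hD
  have hne : D ≠ ⊤ := fun h => by
    obtain ⟨x, hx⟩ : (D.support : Set X).Nonempty := by
      rw [← D.range_subschemeι]; exact Set.range_nonempty _
    rw [h, Scheme.IdealSheafData.support_top] at hx
    exact hx
  have h0I := SurfNumLib.h0_ideal_zero (k := k) hX hJ hne (SurfNumLib.isAmple_embedding ι)
  letI : D.subscheme.Over (Spec (CommRingCat.of k)) := ⟨D.subschemeι ≫ (X ↘ Spec (CommRingCat.of k))⟩
  haveI : IsProper (D.subscheme ↘ Spec (CommRingCat.of k)) :=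
    inferInstanceAs (IsProper (D.subschemeι ≫ (X ↘ Spec (CommRingCat.of k))))
  haveI : GeometricallyReduced (D.subscheme ↘ Spec (CommRingCat.of k)) :=
    GrpdFieldLib.geometricallyReduced_of_perfect (D.subscheme ↘ Spec (CommRingCat.of k))
  haveI := CurvLib.isNoetherian k (X := D.subscheme)
  obtain ⟨z, -, hz⟩ := IsClosed.exists_closed_singleton (isClosed_univ (X := D.subscheme)) ⟨Classical.arbitrary _, trivial⟩
  haveI : GeometricallyConnected (D.subscheme ↘ Spec (CommRingCat.of k)) :=
    Groth.Agent.S1537.result k D.subscheme z fun a ha => by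
      letI : Algebra k (D.subscheme.residueField z) := Curv2.resAlgebra k D.subscheme z
      have hi : _root_.IsIntegral k a := ha
      exact minpoly.mem_range_of_degree_eq_one k a
        (IsAlgClosed.degree_eq_one_of_irreducible k (minpoly.irreducible hi))
  have h0D : HodgeIdxLib.hh k (ClSub.quotMod D) 0 = 1 := by
    rw [SurfNumLib.hh_quot D rfl]
    exact Groth.Agent.S1536.result k D.subscheme
  have hles := SurfNumLib.hh_les (k := k) (S := CurvLib.idealSeq D) (CurvLib.idealSeq_shortExact _)
    (CurvLib.isCoh_of_isInvertible hD) (DevissLib.isCoh_structureModule X) (CurvLib.isCoh_quotMod _)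
  change HodgeIdxLib.hh k (ClSub.idealMod D) 1 + HodgeIdxLib.hh k (Coh.structureModule X) 0 ≤
      HodgeIdxLib.hh k (ClSub.idealMod D) 0 + HodgeIdxLib.hh k (ClSub.quotMod D) 0 +
        HodgeIdxLib.hh k (Coh.structureModule X) 1 at hles
  rw [SurfNumLib.h0_structure k, h0I, h0D,
    show HodgeIdxLib.hh k (Coh.structureModule X) 1 = 0 from Module.finrank_zero_of_subsingleton] at hles
  haveI := CurvLib.finite_HH (k := k) (CurvLib.isCoh_of_isInvertible hD) 1
  refine (Module.finrank_zero_iff (R := k)).mp ?_
  simp only [HodgeIdxLib.hh] at hles
  omega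

end Groth.Agent.S17483
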