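import Groth.Statements.S17485
import Groth.Agent.DegenGenLib.Bound
import Groth.Agent.ProjDegLib.Criterion

set_option autoImplicit false
set_option backward.isDefEq.respectTransparency false
set_option backward.isDefEq.respectTransparency.types false
set_option maxRecDepth 8000
set_option maxHeartbeats 1000000
universe u
open CategoryTheory CategoryTheory.Limits AlgebraicGeometry
open Coherent

namespace Groth.Agent.S17485

/-- Let k be an algebraically closed field of characteristic zero and Y a smooth projective variety over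
k (an integral scheme, smooth over k, with a closed immersion into some P^n_k over k), of dimension
n. Let A = A₁ ⊕ A₂ and B = B₁ ⊕ B₂ be finite locally free O_Y-modules with A_i of rank a_i ≥ 1 and
B_j of rank b_j ≥ 1, a₁ + a₂ ≤ b₁ + b₂, such that the sheaves Hom(A₁, B₁), Hom(A₁, B₂), Hom(A₂, B₂)
(right adjoints of A_i ⊗ -, whose existence is the stated instance hypothesis; it holds) are
globally generated while every morphism A₂ → B₁ is zero (the sheaf Hom(A₂, B₁) has no nonzero global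
section). For φ : A → B let Z(φ) ⊆ Y be the closed set where φ drops rank, i.e. where the rank of φ
on fibres is less than a₁ + a₂: the zero set of the (b₁ + b₂ - a₁ - a₂)-th Fitting ideal sheaf of
the cokernel of φ (locally generated by the maximal minors of φ). Assume b₂ ≥ a₂. Then for φ general
— for all φ in a non-empty Zariski-open subset of the finite-dimensional k-vector space Hom(A, B),
namely all φ at which some fixed nonzero polynomial in linear coordinates on Hom(A, B) does not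
vanish — the set Z(φ) is either empty, or min(b₂ - a₂, b₁ + b₂ - a₁ - a₂) + 1 ≤ n and every
irreducible component of Z(φ) has dimension at most n - min(b₂ - a₂, b₁ + b₂ - a₁ - a₂) - 1. (The
published statement says that this locus is empty or has codimension min(b₂ - a₂, b - a) + 1; the
row records the bound on every irreducible component, which is what the dimension count in the
argument gives.) -/
theorem result
    (k : Type u) [Field k] [IsAlgClosed k] [CharZero k]
    (Y : Scheme.{u}) [Y.Over (Spec (CommRingCat.of k))] [AlgebraicGeometry.IsIntegral Y]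
    [Smooth (Y ↘ Spec (CommRingCat.of k))]
    (hproj : ∃ (N : ℕ) (ι : Y ⟶ CohB1.ProjSpace N k), IsClosedImmersion ι ∧
      ι ≫ CohB1.ProjSpace.toSpec N k = (Y ↘ (Spec (CommRingCat.of k))))
    (n : ℕ) (hdim : topologicalKrullDim Y = n)
    (A₁ A₂ B₁ B₂ : Y.Modules) (a₁ a₂ b₁ b₂ : ℕ)
    (hA₁ : FlatMod.IsFinLocFreeOfRank a₁ A₁) (hA₂ : FlatMod.IsFinLocFreeOfRank a₂ A₂)
    (hB₁ : FlatMod.IsFinLocFreeOfRank b₁ B₁) (hB₂ : FlatMod.IsFinLocFreeOfRank b₂ B₂)
    (ha₁ : 1 ≤ a₁) (ha₂ : 1 ≤ a₂) (hb₁ : 1 ≤ b₁) (hb₂ : 1 ≤ b₂) (hab : a₁ + a₂ ≤ b₁ + b₂)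
    [DCoh.HasSheafHom A₁] [DCoh.HasSheafHom A₂]
    (h₁₁ : Curv2.IsGloballyGenerated ((DCoh.sheafHom A₁).obj B₁))
    (h₁₂ : Curv2.IsGloballyGenerated ((DCoh.sheafHom A₁).obj B₂))
    (h₂₂ : Curv2.IsGloballyGenerated ((DCoh.sheafHom A₂).obj B₂))
    (h₂₁ : ∀ ψ : A₂ ⟶ B₁, ψ = 0) (hab₂ : a₂ ≤ b₂) :
    ∃ (m : ℕ) (c : ((A₁ ⊞ A₂) ⟶ (B₁ ⊞ B₂)) ≃ₗ[k] (Fin m → k)) (p : MvPolynomial (Fin m) k), p ≠ 0 ∧
      ∀ φ : (A₁ ⊞ A₂) ⟶ (B₁ ⊞ B₂), MvPolynomial.eval (c φ) p ≠ 0 →
        letI Z : Set Y := ((Fitt.sheafIdeal (cokernel φ) (b₁ + b₂ - (a₁ + a₂))).support : TopologicalSpace.Closeds Y)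
        Z = ∅ ∨ (min (b₂ - a₂) (b₁ + b₂ - (a₁ + a₂)) + 1 ≤ n ∧
          ∀ T ∈ irreducibleComponents Z,
            topologicalKrullDim T ≤ ((n - (min (b₂ - a₂) (b₁ + b₂ - (a₁ + a₂)) + 1) : ℕ) : WithBot ℕ∞)) := by
  obtain ⟨N, ι, hι, hι'⟩ := hproj
  haveI := hι
  haveI : IsProper (CohB1.ProjSpace.toSpec N k) := ProjDegLib.toSpec_isProper k N
  haveI : IsProper (Y ↘ Spec (CommRingCat.of k)) := hι' ▸ inferInstance
  exact DegenGenLib.block_main k n hdim hA₁ hA₂ hB₁ hB₂ hab h₁₁ h₁₂ h₂₂ h₂₁ hab₂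

end Groth.Agent.S17485
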