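import Groth.Statements.S17487
import Mathlib.Algebra.Homology.DerivedCategory.Ext.ExactSequences
import Mathlib.CategoryTheory.Preadditive.Biproducts

set_option autoImplicit false
universe u w v z
open CategoryTheory CategoryTheory.Limits AlgebraicGeometry
open Coherent

namespace Groth.Agent.S17487

open CategoryTheory CategoryTheory.Limits in
theorem subsingleton_to_coprod {C : Type w} [Category.{v} C] [Abelian C] [HasExt.{z} C] {m : ℕ} (f : Fin m → C)
    {M : C} (e : M ≅ ∐ f) (X : C) (p : ℕ) (h : ∀ t, Subsingleton (Abelian.Ext X (f t) p)) :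
    Subsingleton (Abelian.Ext X M p) := by
  have : HasFiniteBiproducts C := HasFiniteBiproducts.of_hasFiniteCoproducts
  refine subsingleton_of_forall_eq 0 fun x => ?_
  let e' : M ≅ ⨁ f := e ≪≫ (biproduct.isoCoproduct f).symm
  have hid : 𝟙 M = ∑ t, (e'.hom ≫ biproduct.π f t) ≫ (biproduct.ι f t ≫ e'.inv) := by
    have h0 : 𝟙 M = e'.hom ≫ (∑ t, biproduct.π f t ≫ biproduct.ι f t) ≫ e'.inv := by
      rw [biproduct.total, Category.id_comp, Iso.hom_inv_id]
    rw [h0]
    simp only [Preadditive.sum_comp, Preadditive.comp_sum, Category.assoc]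
  rw [← Abelian.Ext.comp_mk₀_id x, hid, ← Abelian.Ext.addEquiv₀_symm_apply, map_sum, Abelian.Ext.comp_sum]
  refine Finset.sum_eq_zero fun t _ => ?_
  rw [Abelian.Ext.addEquiv₀_symm_apply, ← Abelian.Ext.mk₀_comp_mk₀,
    ← Abelian.Ext.comp_assoc_of_third_deg_zero, @Subsingleton.elim _ (h t) (x.comp _ _) 0, Abelian.Ext.zero_comp]

open CategoryTheory CategoryTheory.Limits in
theorem subsingleton_from_coprod {C : Type w} [Category.{v} C] [Abelian C] [HasExt.{z} C] {m : ℕ} (f : Fin m → C)
    {M : C} (e : M ≅ ∐ f) (X : C) (p : ℕ) (h : ∀ t, Subsingleton (Abelian.Ext (f t) X p)) :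
    Subsingleton (Abelian.Ext M X p) := by
  have : HasFiniteBiproducts C := HasFiniteBiproducts.of_hasFiniteCoproducts
  refine subsingleton_of_forall_eq 0 fun x => ?_
  let e' : M ≅ ⨁ f := e ≪≫ (biproduct.isoCoproduct f).symm
  have hid : 𝟙 M = ∑ t, (e'.hom ≫ biproduct.π f t) ≫ (biproduct.ι f t ≫ e'.inv) := by
    have h0 : 𝟙 M = e'.hom ≫ (∑ t, biproduct.π f t ≫ biproduct.ι f t) ≫ e'.inv := by
      rw [biproduct.total, Category.id_comp, Iso.hom_inv_id]
    rw [h0]
    simp only [Preadditive.sum_comp, Preadditive.comp_sum, Category.assoc]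
  rw [← Abelian.Ext.mk₀_id_comp x, hid, ← Abelian.Ext.addEquiv₀_symm_apply, map_sum, Abelian.Ext.sum_comp]
  refine Finset.sum_eq_zero fun t _ => ?_
  rw [Abelian.Ext.addEquiv₀_symm_apply, ← Abelian.Ext.mk₀_comp_mk₀,
    Abelian.Ext.comp_assoc_of_second_deg_zero, @Subsingleton.elim _ (h t) (Abelian.Ext.comp (Abelian.Ext.mk₀ _) x _) 0,
    Abelian.Ext.comp_zero]

/-- Let k be an algebraically closed field of characteristic zero and Y a smooth projective variety over
k (an integral scheme, smooth over k, with a closed immersion into some P^n_k over k). Let E_1, …,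
E_n be coherent O_Y-modules forming a strong exceptional sequence, expressed through Ext groups in
the category of O_Y-modules (the Ext instance is the stated hypothesis; it holds): End(E_i) is
one-dimensional over k, Ext^p(E_i, E_j) = 0 for all p when i > j, and Ext^p(E_i, E_j) = 0 for all i,
j when p ≥ 1 (indices here run over 0, …, n-1). Let d ≤ n and let 0 → K → M → F → 0 be a short exact
sequence of O_Y-modules in which K is isomorphic to a finite direct sum of copies of members E_i
with i < d and M to a finite direct sum of copies of members E_i with i ≥ d (a two-term resolution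
of F by the sequence, split at d). Then Ext^p(E_i, F) = 0 for every i and every p ≥ 1, and Ext^p(F,
E_i) = 0 for every i < d and every p ≠ 1. (The published criterion also asks that the sequence
generate the derived category, states the first vanishing only for i ≥ d, and adds conditions on
terms of the associated filtration and cofiltration of F, which are not restated here; the
vanishings above follow from the resolution alone.) -/
theorem result
    (k : Type u) [Field k] [IsAlgClosed k] [CharZero k]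
    (Y : Scheme.{u}) [Y.Over (Spec (CommRingCat.of k))] [AlgebraicGeometry.IsIntegral Y]
    [Smooth (Y ↘ Spec (CommRingCat.of k))]
    (hproj : ∃ (N : ℕ) (ι : Y ⟶ CohB1.ProjSpace N k), IsClosedImmersion ι ∧
      ι ≫ CohB1.ProjSpace.toSpec N k = (Y ↘ (Spec (CommRingCat.of k))))
    [HasExt.{u} Y.Modules]
    (n d : ℕ) (hdn : d ≤ n) (E : Fin n → Y.Modules) (hEcoh : ∀ i, Coh.IsCoh (E i))
    (hend : ∀ i, Module.finrank k (E i ⟶ E i) = 1)
    (hexc : ∀ i j : Fin n, j < i → ∀ p : ℕ, Subsingleton (Abelian.Ext (E i) (E j) p))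
    (hstr : ∀ (i j : Fin n) (p : ℕ), 1 ≤ p → Subsingleton (Abelian.Ext (E i) (E j) p))
    (S : ShortComplex Y.Modules) (hS : S.ShortExact)
    (m₁ : ℕ) (c₁ : Fin m₁ → Fin n) (hc₁ : ∀ t, (c₁ t : ℕ) < d) (e₁ : S.X₁ ≅ ∐ fun t => E (c₁ t))
    (m₂ : ℕ) (c₂ : Fin m₂ → Fin n) (hc₂ : ∀ t, d ≤ (c₂ t : ℕ)) (e₂ : S.X₂ ≅ ∐ fun t => E (c₂ t)) :
    (∀ (i : Fin n) (p : ℕ), 1 ≤ p → Subsingleton (Abelian.Ext (E i) S.X₃ p)) ∧
      (∀ i : Fin n, (i : ℕ) < d → ∀ p : ℕ, p ≠ 1 → Subsingleton (Abelian.Ext S.X₃ (E i) p)) := by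
  have h2 : ∀ i p, 1 ≤ p → Subsingleton (Abelian.Ext (E i) S.X₂ p) := fun i p hp =>
    subsingleton_to_coprod _ e₂ _ p fun t => hstr _ _ p hp
  have h1 : ∀ i p, 1 ≤ p → Subsingleton (Abelian.Ext (E i) S.X₁ p) := fun i p hp =>
    subsingleton_to_coprod _ e₁ _ p fun t => hstr _ _ p hp
  have g2 : ∀ i : Fin n, (i : ℕ) < d → ∀ p, Subsingleton (Abelian.Ext S.X₂ (E i) p) := fun i hi p =>
    subsingleton_from_coprod _ e₂ _ p fun t => hexc _ _ (show i < c₂ t from Fin.lt_def.2 (lt_of_lt_of_le hi (hc₂ t))) p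
  refine ⟨fun i p hp => subsingleton_of_forall_eq 0 fun x => ?_,
    fun i hi p hp => subsingleton_of_forall_eq 0 fun x => ?_⟩
  · have := h1 i (p + 1) (Nat.le_add_left 1 p)
    obtain ⟨y, rfl⟩ := Abelian.Ext.covariant_sequence_exact₃ _ hS x rfl (Subsingleton.elim _ _)
    have := h2 i p hp
    rw [Subsingleton.elim y 0, Abelian.Ext.zero_comp]
  · have hx : (Abelian.Ext.mk₀ S.g).comp x (zero_add p) = 0 := @Subsingleton.elim _ (g2 i hi p) _ _
    match p, hp with
    | 0, _ =>
      have := hS.epi_g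
      obtain ⟨φ, rfl⟩ := Abelian.Ext.addEquiv₀.symm.surjective x
      rw [Abelian.Ext.addEquiv₀_symm_apply, Abelian.Ext.mk₀_comp_mk₀, ← Abelian.Ext.mk₀_zero] at hx
      have h0 : S.g ≫ φ = 0 := (Abelian.Ext.mk₀_bijective _ _).1 hx
      rw [(cancel_epi S.g).1 (h0.trans comp_zero.symm), Abelian.Ext.addEquiv₀_symm_apply, Abelian.Ext.mk₀_zero]
    | 1, hp => exact absurd rfl hp
    | q + 2, _ =>
      obtain ⟨y, rfl⟩ := Abelian.Ext.contravariant_sequence_exact₃ hS _ x hx (n₀ := q + 1) (by omega)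
      have := subsingleton_from_coprod _ e₁ (E i) (q + 1) fun t => hstr _ _ (q + 1) (Nat.le_add_left 1 q)
      rw [Subsingleton.elim y 0, Abelian.Ext.comp_zero]

end Groth.Agent.S17487
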