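import Groth.Statements.S17492
import Groth.Agent.GaetaPtsLib.Witness

set_option autoImplicit false
set_option backward.isDefEq.respectTransparency false
set_option backward.isDefEq.respectTransparency.types false
set_option maxRecDepth 8000
set_option maxHeartbeats 1000000
universe u
open CategoryTheory CategoryTheory.Limits AlgebraicGeometry
open Coherent

namespace Groth.Agent.S17492

/-- Let k be an algebraically closed field of characteristic zero and P = P²_k with its line bundles
O(m). Fix natural numbers α₁, α₂, α₃ and consider morphisms φ : O(-2)^{α₁} → O(-1)^{α₂} ⊕ O^{α₃}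
(candidate Gaeta resolutions for the sequence (O(-2), O(-1), O)), which form a finite-dimensional
k-vector space; 'for general φ' means: for all φ at which some fixed nonzero polynomial in linear
coordinates on that space does not vanish. Let r ≥ 1 and ℓ ≥ 1 and take α₃ = ℓr and α₁ = α₂ + (ℓ -
1)r (so that the cokernel F_φ of an injective φ has rank r and, for Z of length ℓ, χ(F_φ ⊗ I_Z) =
0). Then for general φ: φ is a monomorphism, and there is a closed subscheme Z of P consisting of ℓ
distinct reduced points (a reduced closed subscheme whose underlying set has exactly ℓ elements)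
such that H^i(P, F_φ ⊗ I_Z) = 0 for every i, where I_Z is the ideal sheaf of Z as an O_P-module.
(The published statement is for φ general and Z a general point of the Hilbert scheme of ℓ points;
lacking that Hilbert scheme here, the row asserts the existence of one such reduced Z for general φ,
which the printed statement implies.) -/
theorem result
    (k : Type u) [Field k] [IsAlgClosed k] [CharZero k] (α₁ α₂ α₃ : ℕ) (r ℓ : ℕ) (hr : 1 ≤ r) (hℓ : 1 ≤ ℓ) (h₃ : α₃ = ℓ * r) (h₁ : α₁ = α₂ + (ℓ - 1) * r) :
    letI P := CohB1.ProjSpace 2 k
    letI A : P.Modules := ∐ fun _ : Fin α₁ => Twist.twistProjSpace 2 k (-2)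
    letI B : P.Modules := (∐ fun _ : Fin α₂ => Twist.twistProjSpace 2 k (-1)) ⊞ (∐ fun _ : Fin α₃ => Coh.structureModule P)
    ∃ (m : ℕ) (c : (A ⟶ B) ≃ₗ[k] (Fin m → k)) (p : MvPolynomial (Fin m) k), p ≠ 0 ∧
      ∀ φ : A ⟶ B, MvPolynomial.eval (c φ) p ≠ 0 →
        Mono φ ∧ ∃ Z : P.IdealSheafData, IsReduced Z.subscheme ∧ Nat.card ↥Z.subscheme = ℓ ∧
          ∀ i : ℕ, Subsingleton (Coh.HH P (CohB1.tensorMod (cokernel φ) (ClSub.idealMod Z)) i) := by
  exact GaetaPtsLib.exists_general k (r := r) hℓ h₁ h₃

end Groth.Agent.S17492
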