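import Groth.Statements.S1750
import Groth.Agent.InjHullLib.Change
import Groth.Agent.InjHullLib.Local
-- import your own Groth.Agent.* helpers here

set_option autoImplicit false
universe u
open InjHull

namespace Groth.Agent.S1750

/-- Let R → S be a flat local homomorphism of Noetherian local rings with m_R S = m_S inducing a
bijection on residue fields. If κ_S → E is an injective hull of the residue field of S over S, then
E regarded as an R-module is an injective hull of the residue field of R (for a suitable R-linear
map κ_R → E). -/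
theorem result (R S : Type u) [CommRing R] [CommRing S] [IsLocalRing R] [IsLocalRing S] [IsNoetherianRing R] [IsNoetherianRing S] [Algebra R S] [IsLocalHom (algebraMap R S)] [Module.Flat R S] (hm : (IsLocalRing.maximalIdeal R).map (algebraMap R S) = IsLocalRing.maximalIdeal S) (hk : Function.Bijective (IsLocalRing.ResidueField.map (algebraMap R S))) (E : Type u) [AddCommGroup E] [Module S E] [Module R E] [IsScalarTower R S E] (f : IsLocalRing.ResidueField S →ₗ[S] E) (hf : InjHull.IsInjectiveHull f) : ∃ g : IsLocalRing.ResidueField R →ₗ[R] E, InjHull.IsInjectiveHull g := by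
  let π : IsLocalRing.ResidueField R →ₗ[R] IsLocalRing.ResidueField S :=
    { toFun := IsLocalRing.ResidueField.map (algebraMap R S)
      map_add' := map_add _
      map_smul' := fun r x => by
        obtain ⟨x, rfl⟩ := IsLocalRing.residue_surjective x
        rw [Algebra.smul_def, Algebra.smul_def, map_mul]
        rfl }
  let g : IsLocalRing.ResidueField R →ₗ[R] E := f.restrictScalars R ∘ₗ π
  have hkill : ∀ (k : ℕ) (x : E), (∀ a ∈ IsLocalRing.maximalIdeal R ^ k, a • x = 0) →
      ∀ b ∈ IsLocalRing.maximalIdeal S ^ k, b • x = 0 := fun k x hx b hb => by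
    rw [← hm, ← Ideal.map_pow] at hb
    induction hb using Submodule.span_induction with
    | mem b hb =>
      obtain ⟨a, ha, rfl⟩ := hb
      rw [algebraMap_smul, hx a ha]
    | zero => rw [zero_smul]
    | add b c _ _ hb hc => rw [add_smul, hb, hc, add_zero]
    | smul c b _ hb => rw [smul_assoc, hb, smul_zero]
  have htors : LocCoh.IsPowerTorsion (IsLocalRing.maximalIdeal R) E := fun x => by
    obtain ⟨n, hn⟩ := InjHullLib.isPowerTorsion_hull_local hf x
    refine ⟨n, fun a ha => ?_⟩
    rw [← algebraMap_smul S a x]
    exact hn _ (hm ▸ (Ideal.map_pow (algebraMap R S) _ n ▸ Ideal.mem_map_of_mem _ ha))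
  refine ⟨g, ⟨InjHullLib.isEssentialInj_of_exists_smul (hf.injective.comp hk.1) fun x hx => ?_,
    InjHullLib.injective_restrictScalars S hf.isInjective⟩⟩
  obtain ⟨r, ⟨y, hy⟩, hr⟩ := InjHullLib.exists_smul_mem_of_essential (InjHullLib.socle_essential htors) hx
  have h1 : (y : E) ∈ LocCoh.torsionBy (IsLocalRing.maximalIdeal S) E := InjHullLib.mem_torsionBy_iff.2 fun b hb =>
    hkill 1 (y : E) (fun a ha => InjHullLib.mem_torsionBy_iff.1 y.2 a (by rwa [pow_one] at ha)) b (by rwa [pow_one])
  rw [InjHullLib.socle_eq_range hf] at h1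
  obtain ⟨q, hq⟩ := h1
  obtain ⟨p, rfl⟩ := hk.2 q
  exact ⟨r, ⟨p, hq.trans hy⟩, hr⟩

end Groth.Agent.S1750
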