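import Groth.Statements.S17500
import Mathlib


-- import your own Groth.Agent.* helpers here

set_option autoImplicit false
universe u
open TorsMod

namespace Groth.Agent.S17500

/-- Let p be a prime number, n a natural number and H a module over ℤ/p^nℤ. Then H is flat over ℤ/p^nℤ
if and only if, for every i with 0 ≤ i ≤ n, the kernel of multiplication by p^i on H coincides with
the image of multiplication by p^(n-i) on H. (The published item is phrased for an fppf sheaf of
ℤ/p^nℤ-modules on a scheme; this is the case of a single module, which is the case the argument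
treats.) -/
theorem result (p n : ℕ) [Fact p.Prime]
    (H : Type u) [AddCommGroup H] [Module (ZMod (p ^ n)) H] :
    Module.Flat (ZMod (p ^ n)) H ↔
      ∀ i : ℕ, i ≤ n →
        LinearMap.ker ((p ^ i : ZMod (p ^ n)) • (LinearMap.id : H →ₗ[ZMod (p ^ n)] H)) =
          LinearMap.range ((p ^ (n - i) : ZMod (p ^ n)) • (LinearMap.id : H →ₗ[ZMod (p ^ n)] H)) := by
  have hsmul : ∀ (a : ZMod (p ^ n)), (a • (LinearMap.id : H →ₗ[ZMod (p ^ n)] H)) = LinearMap.lsmul (ZMod (p ^ n)) H a :=
    fun a => rfl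
  have hpn : (p : ZMod (p ^ n)) ^ n = 0 := by rw [← Nat.cast_pow, ZMod.natCast_self]
  have hann : ∀ i, i ≤ n → ∀ x : ZMod (p ^ n), (p : ZMod (p ^ n)) ^ i * x = 0 ↔
      ∃ y, x = (p : ZMod (p ^ n)) ^ (n - i) * y := by
    intro i hi x
    constructor
    · intro h
      obtain ⟨z, rfl⟩ := ZMod.intCast_surjective x
      have h' : ((p ^ n : ℕ) : ℤ) ∣ (p : ℤ) ^ i * z :=
        (ZMod.intCast_zmod_eq_zero_iff_dvd _ _).1 (by push_cast; exact h)
      have hp0 : (p : ℤ) ^ i ≠ 0 := pow_ne_zero _ (by exact_mod_cast (Fact.out : p.Prime).ne_zero)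
      have h2 : (p : ℤ) ^ (n - i) ∣ z := by
        apply (mul_dvd_mul_iff_left hp0).1
        rw [← pow_add, Nat.add_sub_cancel' hi]
        exact_mod_cast h'
      obtain ⟨w, rfl⟩ := h2
      exact ⟨(w : ZMod (p ^ n)), by push_cast; rfl⟩
    · rintro ⟨y, rfl⟩
      rw [← mul_assoc, ← pow_add, Nat.add_sub_cancel' hi, hpn, zero_mul]
  have hle : ∀ i, i ≤ n → LinearMap.range (LinearMap.lsmul (ZMod (p ^ n)) H ((p : ZMod (p ^ n)) ^ (n - i))) ≤
      LinearMap.ker (LinearMap.lsmul (ZMod (p ^ n)) H ((p : ZMod (p ^ n)) ^ i)) := by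
    intro i hi
    rintro _ ⟨y, rfl⟩
    simp only [LinearMap.mem_ker, LinearMap.lsmul_apply, ← mul_smul, ← pow_add, Nat.add_sub_cancel' hi, hpn, zero_smul]
  constructor
  · intro hflat i hi
    refine le_antisymm ?_ (by simpa only [hsmul] using hle i hi)
    intro h hh
    rw [hsmul] at hh ⊢
    have hex : Function.Exact (LinearMap.lsmul (ZMod (p ^ n)) (ZMod (p ^ n)) ((p : ZMod (p ^ n)) ^ (n - i)))
        (LinearMap.lsmul (ZMod (p ^ n)) (ZMod (p ^ n)) ((p : ZMod (p ^ n)) ^ i)) := by
      intro x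
      simp only [LinearMap.lsmul_apply, smul_eq_mul, hann i hi x, Set.mem_range]
      exact ⟨fun ⟨y, hy⟩ => ⟨y, hy.symm⟩, fun ⟨y, hy⟩ => ⟨y, hy.symm⟩⟩
    have := Module.Flat.rTensor_exact H hex
    obtain ⟨t, ht⟩ := (this ((TensorProduct.lid (ZMod (p ^ n)) H).symm h)).1 (by
      simp only [TensorProduct.lid_symm_apply, LinearMap.rTensor_tmul, LinearMap.lsmul_apply]
      rw [TensorProduct.smul_tmul, show ((p : ZMod (p ^ n)) ^ i) • h = 0 from hh, TensorProduct.tmul_zero])
    refine ⟨TensorProduct.lid (ZMod (p ^ n)) H t, ?_⟩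
    have h2 := congrArg (TensorProduct.lid (ZMod (p ^ n)) H) ht
    rw [LinearEquiv.apply_symm_apply] at h2
    rw [← h2]
    clear ht h2
    induction t using TensorProduct.induction_on with
    | zero => simp
    | tmul a b => simp [smul_smul, mul_comm]
    | add a b ha hb => rw [map_add, map_add, map_add, map_add, ha, hb]
  · intro hc
    rw [Module.Flat.iff_rTensor_injective']
    intro I
    obtain ⟨i, hi, rfl⟩ : ∃ i, i ≤ n ∧ I = Ideal.span {(p : ZMod (p ^ n)) ^ i} := by
      obtain ⟨d, hd⟩ := (Submodule.IsPrincipal.principal (I.comap (Int.castRingHom (ZMod (p ^ n)))))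
      rw [Ideal.submodule_span_eq] at hd
      have hmem : ((p ^ n : ℕ) : ℤ) ∈ I.comap (Int.castRingHom (ZMod (p ^ n))) := by
        simp [hpn]
      rw [hd, Ideal.mem_span_singleton] at hmem
      obtain ⟨i, hi, hi'⟩ := (Nat.dvd_prime_pow (Fact.out : p.Prime)).1
        (by simpa using Int.natAbs_dvd_natAbs.2 hmem : d.natAbs ∣ p ^ n)
      refine ⟨i, hi, ?_⟩
      rw [← Ideal.map_comap_of_surjective (Int.castRingHom (ZMod (p ^ n))) ZMod.intCast_surjective I, hd,
        Ideal.map_span, Set.image_singleton]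
      rcases Int.natAbs_eq d with h | h
      · rw [h, hi']; simp
      · rw [h, hi']; simp [Ideal.span_singleton_neg]
    set a := (p : ZMod (p ^ n)) ^ i with ha
    let a' : (Ideal.span {a} : Ideal (ZMod (p ^ n))) := ⟨a, Ideal.subset_span rfl⟩
    have hgen : ∀ t : TensorProduct (ZMod (p ^ n)) (Ideal.span {a} : Ideal (ZMod (p ^ n))) H,
        ∃ h, t = TensorProduct.tmul (ZMod (p ^ n)) a' h := by
      intro t
      induction t using TensorProduct.induction_on with
      | zero => exact ⟨0, by simp⟩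
      | tmul x h =>
        obtain ⟨r, hr⟩ := Ideal.mem_span_singleton'.1 x.2
        exact ⟨r • h, by rw [← TensorProduct.smul_tmul, show r • a' = x from Subtype.ext hr]⟩
      | add x y hx hy =>
        obtain ⟨u, rfl⟩ := hx; obtain ⟨v, rfl⟩ := hy
        exact ⟨u + v, (TensorProduct.tmul_add _ _ _).symm⟩
    rw [injective_iff_map_eq_zero]
    intro t ht
    obtain ⟨h, rfl⟩ := hgen t
    have h0 : a • h = 0 := by
      have := congrArg (TensorProduct.lid (ZMod (p ^ n)) H) ht
      simpa [a'] using this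
    have h1 : h ∈ LinearMap.range (LinearMap.lsmul (ZMod (p ^ n)) H ((p : ZMod (p ^ n)) ^ (n - i))) := by
      have h2 := hc i hi
      simp only [hsmul] at h2
      rw [← h2]
      exact h0
    obtain ⟨h', rfl⟩ := h1
    rw [LinearMap.lsmul_apply, ← TensorProduct.smul_tmul,
      show ((p : ZMod (p ^ n)) ^ (n - i)) • a' = 0 from Subtype.ext (by
        simp [a', a, ← pow_add, Nat.sub_add_cancel hi, hpn]), TensorProduct.zero_tmul]

end Groth.Agent.S17500
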