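import Groth.Statements.S17502
import Mathlib
import Groth.Agent.GrowthLib.Asymp
-- import your own Groth.Agent.* helpers here

set_option autoImplicit false
universe u
open CategoryTheory CategoryTheory.Limits MonoidalCategory CartesianMonoidalCategory MonObj GrpObj AlgebraicGeometry
open Coherent

namespace Groth.Agent.S17502

/-- Let k be a field, Y a projective k-scheme of dimension d (a k-scheme with a closed immersion c into
projective N-space over k, compatible with the structure morphisms, whose underlying topological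
space has Krull dimension d), L_1, …, L_r invertible O_Y-modules, and F a family of O_Y-modules
indexed by a ∈ ℤ^r with F(0) ≅ O_Y and F(a + e_j) ≅ F(a) ⊗ L_j for all a and j, so that F(a) ≅
L_1^{⊗ a_1} ⊗ ⋯ ⊗ L_r^{⊗ a_r} for every a. Then there is a real constant C > 0, depending only on Y
and the L_j, such that dim_k H^i(Y, F(a)) ≤ C · (1 + |a|^d) for every i and every a, where |a| =
|a_1| + ⋯ + |a_r|. (The published statement prints the exponent as the number r of line bundles
instead of the dimension d of Y; that bound fails as soon as r < d — on the projective plane with r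
= 1 and L_1 = O(1) the dimension of H^0(O(a)) grows like a²/2 — while the printed induction on d + r
over hyperplane sections yields the exponent d, which is what is stated here.) -/
theorem result
    (k : Type u) [Field k] (Y : Scheme.{u}) [Y.Over (Spec (CommRingCat.of k))]
    (N : ℕ) (c : Y ⟶ CohB1.ProjSpace N k) [IsClosedImmersion c]
    (hc : c ≫ CohB1.ProjSpace.toSpec N k = Y ↘ Spec (CommRingCat.of k))
    (d : ℕ) (hd : topologicalKrullDim ↥Y = d)
    (r : ℕ) (Lb : Fin r → Y.Modules) (hLb : ∀ j, PicF.IsInvertible (Lb j))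
    (F : (Fin r → ℤ) → Y.Modules) (hF0 : Nonempty (F 0 ≅ Coh.structureModule Y))
    (hF : ∀ (a : Fin r → ℤ) (j : Fin r), Nonempty (F (a + Pi.single j 1) ≅ CohB1.tensorMod (F a) (Lb j))) :
    ∃ C : ℝ, 0 < C ∧ ∀ (i : ℕ) (a : Fin r → ℤ),
      (Module.finrank k (Coh.HH Y (F a) i) : ℝ) ≤ C * (1 + (∑ j, |(a j : ℝ)|) ^ d) := by
  haveI := FormalCohLib.isProper_projToSpec N k
  haveI : IsProper (Y ↘ Spec (CommRingCat.of k)) := hc ▸ inferInstance
  haveI := CurvLib.isNoetherian k (X := Y)
  obtain ⟨A, hA⟩ : ∃ A : Y.Modules, CohB1.IsAmple A :=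
    ⟨_, AmpleDevLib.isAmple_pb c (FormalCohLib.isAmple_twistProjSpace N k).1 (FormalCohLib.isAmple_twistProjSpace N k)⟩
  have hT := GrowthLib.isTwistFam_of_zero (k := k) hLb hF0 hF
  obtain ⟨C, hC⟩ := GrowthLib.exists_bound_multi (k := k) d Y A hA r Lb F hT (Coh.structureModule Y)
    (DevissLib.isCoh_structureModule Y) ((topologicalKrullDim_subspace_le _ _).trans hd.le)
  refine ⟨(C : ℝ) * 2 ^ d + 1, by positivity, fun i a => ?_⟩
  have e : Module.finrank k (Coh.HH Y (F a) i) = HodgeIdxLib.hh k (CohB1.tensorMod (F a) (Coh.structureModule Y)) i :=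
    (HodgeIdxLib.hh_congr (HilbPolyLib.swapIso _ _ ≪≫ HilbPolyLib.unitLeft _) i).symm
  rw [e]
  set s : ℝ := ∑ j, |(a j : ℝ)| with hs
  have hsz : (GrowthLib.size a : ℝ) = s := by
    rw [GrowthLib.size, hs, Nat.cast_sum]
    exact Finset.sum_congr rfl fun j _ => by rw [Nat.cast_natAbs, Int.cast_abs]
  have hs0 : 0 ≤ s := Finset.sum_nonneg fun j _ => abs_nonneg _
  have h1 : (HodgeIdxLib.hh k (CohB1.tensorMod (F a) (Coh.structureModule Y)) i : ℝ) ≤ C * (s + 1) ^ d := by
    rw [← hsz]; exact_mod_cast hC i a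
  have h2 : (s + 1) ^ d ≤ 2 ^ d * (1 + s ^ d) := by
    rcases le_total s 1 with h | h
    · calc (s + 1) ^ d ≤ 2 ^ d := pow_le_pow_left₀ (by positivity) (by linarith) d
        _ ≤ _ := le_mul_of_one_le_right (by positivity) (by linarith [pow_nonneg hs0 d])
    · calc (s + 1) ^ d ≤ (2 * s) ^ d := pow_le_pow_left₀ (by positivity) (by linarith) d
        _ = 2 ^ d * s ^ d := mul_pow _ _ _
        _ ≤ _ := mul_le_mul_of_nonneg_left (by linarith) (by positivity)
  refine h1.trans ((mul_le_mul_of_nonneg_left h2 (Nat.cast_nonneg C)).trans ?_)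
  rw [← _root_.mul_assoc, add_mul]
  exact le_add_of_nonneg_right (by positivity)

end Groth.Agent.S17502
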