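import Groth.Statements.S17511
import Groth.Agent.CohCmpLib.FibreRowsBC
import Groth.Agent.CohCmpLib.CanonApps
import Groth.Agent.AVVanishLib.Family
-- import your own Groth.Agent.* helpers here

set_option autoImplicit false
universe u
open CategoryTheory CategoryTheory.Limits MonoidalCategory CartesianMonoidalCategory MonObj GrpObj AlgebraicGeometry
open AbVar

set_option backward.isDefEq.respectTransparency false
set_option linter.style.haveILetI false

namespace Groth.Agent.S17511

/-- In an algebraic family of line bundles the index cannot jump locally. Let X be an abelian variety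
over a field k (a proper, geometrically integral k-group scheme), let T be a locally Noetherian
k-scheme, M an invertible module on X ×_k T, and for each point t of T let M_t be the pull-back of M
to the fibre X ×_k Spec k(t). Suppose every M_t is non-degenerate, with index idx(t): H^j(X ×_k Spec
k(t), M_t) = 0 for j ≠ idx(t) and H^{idx(t)} ≠ 0. Then t ↦ idx(t) is a locally constant function on
T. (Non-degeneracy with index i is expressed by the equivalent condition that the cohomology is
concentrated in degree i and non-zero there.) -/
theorem result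
    (k : Type u) [Field k] (X : Over (Spec (CommRingCat.of k))) [GrpObj X] [IsProper X.hom] [GeometricallyIntegral X.hom]
    (T : Over (Spec (CommRingCat.of k))) [IsLocallyNoetherian T.left]
    (M : (X ⊗ T).left.Modules) (hM : PicF.IsInvertible M)
    (idx : ↥T.left → ℕ)
    (hidx : ∀ t : ↥T.left,
      (∀ j : ℕ, j ≠ idx t →
        Subsingleton (Coh.HH (pullback (snd X T).left (T.left.fromSpecResidueField t))
          ((Scheme.Modules.pullback (pullback.fst (snd X T).left (T.left.fromSpecResidueField t))).obj M) j)) ∧
      Nontrivial (Coh.HH (pullback (snd X T).left (T.left.fromSpecResidueField t))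
          ((Scheme.Modules.pullback (pullback.fst (snd X T).left (T.left.fromSpecResidueField t))).obj M) (idx t))) :
    IsLocallyConstant idx := by
  let f := (snd X T).left
  have hsq : IsPullback (fst X T).left f X.hom T.hom := IsPullback.of_hasPullback X.hom T.hom
  haveI : LocallyOfFinitePresentation X.hom := LocallyOfFinitePresentation.iff_locallyOfFiniteType.2 inferInstance
  haveI : Flat X.hom := inferInstance
  haveI : IsProper f := MorphismProperty.of_isPullback hsq ‹_›
  haveI : Flat f := MorphismProperty.of_isPullback hsq ‹_›
  haveI : LocallyOfFinitePresentation f := MorphismProperty.of_isPullback hsq ‹_›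
  haveI : IsLocallyNoetherian (X ⊗ T).left := LocallyOfFiniteType.isLocallyNoetherian f
  obtain ⟨hq, hfp, hfl⟩ := CohCmpLib.rank_one_hyps f ((CohCmpLib.invertible_iff_rank_one M).1 hM)
  haveI := hq
  refine (IsLocallyConstant.iff_exists_open idx).2 fun t₀ => ?_
  obtain ⟨W, K, hW, htW⟩ := CohCmpLib.exists_chart_at hfp hfl t₀
  refine ⟨(W : Set T.left) ∩ ⋂ j ∈ (Finset.range (K.mdl.N + 1)).erase (idx t₀),
      {s | Subsingleton (CohIII.fiberH f M s j)},
    W.isOpen.inter (isOpen_biInter_finset fun j _ => CohCmpLib.isOpen_fibre_vanishing hfp hfl j),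
    ⟨htW, Set.mem_iInter₂.2 fun j hj => (hidx t₀).1 j (Finset.ne_of_mem_erase hj)⟩, ?_⟩
  rintro t ⟨htW', ht⟩
  by_contra hne
  haveI := (hidx t).2
  refine not_subsingleton (Coh.HH (pullback (snd X T).left (T.left.fromSpecResidueField t))
    ((Scheme.Modules.pullback (pullback.fst (snd X T).left (T.left.fromSpecResidueField t))).obj M) (idx t)) ?_
  show Subsingleton (CohIII.fiberH f M t (idx t))
  by_cases hN : idx t ≤ K.mdl.N
  · exact Set.mem_iInter₂.1 ht (idx t) (Finset.mem_erase.2 ⟨hne, Finset.mem_range.2 (by omega)⟩)
  · refine K.subsingleton_fiberH hW le_rfl _ ?_ (K.subsingleton_HmB_above le_rfl _ (by omega)) htW'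
    let := K.alg (le_refl W)
    exact K.fl_above Γ(T.left, W) (idx t + 1) (by omega)

end Groth.Agent.S17511
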