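import Groth.Statements.S17517
import Mathlib
-- import your own Groth.Agent.* helpers here

set_option autoImplicit false
universe u
open GIT

namespace Groth.Agent.S17517

open Finset in
section
variable {E : Type u} [NormedAddCommGroup E] [InnerProductSpace ℝ E] [Module ℚ E] [IsScalarTower ℚ ℝ E]

local notation "⟪" x ", " y "⟫" => @inner ℝ E _ x y

lemma ratSmul (q : ℚ) (x : E) : (q • x) = ((q : ℝ)) • x :=
  ((algebraMap_smul ℝ q x).symm : _)

lemma rat_span (φ : Module.Dual ℝ E) {s : Set E} (h : ∀ x ∈ s, ∃ q : ℚ, φ x = q) {x : E}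
    (hx : x ∈ Submodule.span ℚ s) : ∃ q : ℚ, φ x = q := by
  induction hx using Submodule.span_induction with
  | mem y hy => exact h y hy
  | zero => exact ⟨0, by simp⟩
  | add y z _ _ hy hz => obtain ⟨a, ha⟩ := hy; obtain ⟨b, hb⟩ := hz; exact ⟨a + b, by simp [ha, hb]⟩
  | smul c y _ hy => obtain ⟨a, ha⟩ := hy; exact ⟨c * a, by rw [ratSmul, map_smul, ha]; simp⟩

lemma rep (W : Submodule ℚ E) [FiniteDimensional ℚ W] (hW : ∀ x ∈ W, ∀ y ∈ W, ∃ q : ℚ, ⟪x, y⟫ = q)
    (φ : Module.Dual ℝ E) (hφ : ∀ x ∈ W, ∃ q : ℚ, φ x = q) : ∃ w ∈ W, ∀ x ∈ W, ⟪w, x⟫ = φ x := by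
  choose q hq using hφ
  choose b hb using hW
  let ψ : Module.Dual ℚ W :=
    { toFun := fun x => q x x.2
      map_add' := fun x y => Rat.cast_injective (α := ℝ) (by
        rw [Rat.cast_add, ← hq, ← hq, ← hq, Submodule.coe_add, map_add])
      map_smul' := fun c x => Rat.cast_injective (α := ℝ) (by
        rw [RingHom.id_apply, smul_eq_mul, Rat.cast_mul, ← hq, ← hq, Submodule.coe_smul, ratSmul, map_smul,
          smul_eq_mul]) }
  let B : W →ₗ[ℚ] Module.Dual ℚ W := LinearMap.mk₂ ℚ (fun x y => b x x.2 y y.2)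
    (fun x y z => Rat.cast_injective (α := ℝ) (by
      rw [Rat.cast_add, ← hb, ← hb, ← hb, Submodule.coe_add, inner_add_left]))
    (fun c x z => Rat.cast_injective (α := ℝ) (by
      rw [smul_eq_mul, Rat.cast_mul, ← hb, ← hb, Submodule.coe_smul, ratSmul, real_inner_smul_left]))
    (fun x y z => Rat.cast_injective (α := ℝ) (by
      rw [Rat.cast_add, ← hb, ← hb, ← hb, Submodule.coe_add, inner_add_right]))
    (fun c x z => Rat.cast_injective (α := ℝ) (by
      rw [smul_eq_mul, Rat.cast_mul, ← hb, ← hb, Submodule.coe_smul, ratSmul, real_inner_smul_right]))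
  have hinj : Function.Injective B := by
    rw [injective_iff_map_eq_zero]
    intro x hx
    have h0 : b x x.2 x x.2 = 0 := LinearMap.congr_fun hx x
    have := hb x x.2 x x.2
    rw [h0, Rat.cast_zero, inner_self_eq_zero] at this
    exact Subtype.ext this
  obtain ⟨w, hw⟩ := (LinearMap.injective_iff_surjective_of_finrank_eq_finrank
    Subspace.dual_finrank_eq.symm).1 hinj ψ
  refine ⟨w, w.2, fun x hx => ?_⟩
  have := congrArg (Rat.cast : ℚ → ℝ) (LinearMap.congr_fun hw ⟨x, hx⟩)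
  rw [hb w w.2 x hx, hq x hx]
  exact this

theorem main [FiniteDimensional ℝ E]
    (L : Submodule ℤ E) [DiscreteTopology L] [IsZLattice ℝ L]
    (hint : ∀ x ∈ L, ∀ y ∈ L, ∃ n : ℤ, inner ℝ x y = (n : ℝ))
    (F G : Finset (Module.Dual ℝ E)) (hF : F.Nonempty) (hG : G.Nonempty)
    (hFi : ∀ f ∈ F, ∀ x ∈ L, ∃ n : ℤ, f x = (n : ℝ)) (hGi : ∀ g ∈ G, ∀ x ∈ L, ∃ n : ℤ, g x = (n : ℝ))
    (hpos : ∃ v : E, 0 ≤ F.inf' hF (fun f => f v) ∧ 0 < G.inf' hG (fun g => g v)) :
    ∃ M : ℝ, IsGreatest ((fun v => G.inf' hG (fun g => g v) / ‖v‖) ''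
        {v : E | v ≠ 0 ∧ 0 ≤ F.inf' hF (fun f => f v)}) M ∧
      ∃! v₀ : E, v₀ ∈ L ∧ v₀ ≠ 0 ∧ 0 ≤ F.inf' hF (fun f => f v₀) ∧
        G.inf' hG (fun g => g v₀) / ‖v₀‖ = M ∧
        ∀ v ∈ L, v ≠ 0 → 0 ≤ F.inf' hF (fun f => f v) → G.inf' hG (fun g => g v) / ‖v‖ = M →
          ∃ n : ℤ, v = n • v₀ := by
  classical
  set gm : E → ℝ := fun v => G.inf' hG (fun g => g v) with hgm
  set fm : E → ℝ := fun v => F.inf' hF (fun f => f v) with hfm
  have hgsmul : ∀ (t : ℝ) (v : E), 0 ≤ t → gm (t • v) = t * gm v := fun t v ht => by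
    obtain ⟨g₀, hg₀, he⟩ := G.exists_mem_eq_inf' hG (fun g => g v)
    refine le_antisymm ?_ (Finset.le_inf' _ _ fun g hg => ?_)
    · calc gm (t • v) ≤ g₀ (t • v) := Finset.inf'_le (fun g : Module.Dual ℝ E => g (t • v)) hg₀
        _ = t * gm v := by rw [map_smul, smul_eq_mul]; exact congrArg (t * ·) he.symm
    · rw [map_smul, smul_eq_mul]
      exact mul_le_mul_of_nonneg_left (Finset.inf'_le (fun g : Module.Dual ℝ E => g v) hg) ht
  have hfm0 : ∀ v, 0 ≤ fm v ↔ ∀ f ∈ F, 0 ≤ f v := fun v => Finset.le_inf'_iff hF _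
  have hgm1 : ∀ (c : ℝ) v, c ≤ gm v ↔ ∀ g ∈ G, c ≤ g v := fun c v => Finset.le_inf'_iff hG _
  have hfsmul : ∀ (t : ℝ) (v : E), 0 ≤ t → 0 ≤ fm v → 0 ≤ fm (t • v) := fun t v ht hv =>
    (hfm0 _).2 fun f hf => by rw [map_smul, smul_eq_mul]; exact mul_nonneg ht ((hfm0 v).1 hv f hf)
  let P : Set E := {v | (∀ f ∈ F, 0 ≤ f v) ∧ ∀ g ∈ G, 1 ≤ g v}
  have hPc : IsClosed P := by
    have : P = (⋂ f ∈ F, {v | 0 ≤ f v}) ∩ ⋂ g ∈ G, {v | 1 ≤ g v} := by ext v; simp [P]
    rw [this]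
    exact (isClosed_biInter fun f _ => isClosed_le continuous_const f.continuous_of_finiteDimensional).inter
      (isClosed_biInter fun g _ => isClosed_le continuous_const g.continuous_of_finiteDimensional)
  have hscale : ∀ v, 0 ≤ fm v → 0 < gm v → (gm v)⁻¹ • v ∈ P := fun v h1 h2 =>
    ⟨(hfm0 _).1 (hfsmul _ _ (inv_nonneg.2 h2.le) h1),
      (hgm1 _ _).1 (by rw [hgsmul _ _ (inv_nonneg.2 h2.le), inv_mul_cancel₀ h2.ne'])⟩
  obtain ⟨v₁, hv₁f, hv₁g⟩ := hpos
  obtain ⟨v, hvP, hvd⟩ := hPc.exists_infDist_eq_dist ⟨_, hscale v₁ hv₁f hv₁g⟩ 0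
  have hmin : ∀ a ∈ P, ‖v‖ ≤ ‖a‖ := fun a ha => by
    have := Metric.infDist_le_dist_of_mem (x := (0 : E)) ha
    rw [hvd, dist_zero_left, dist_zero_left] at this
    exact this
  have hvf : 0 ≤ fm v := (hfm0 v).2 hvP.1
  have hvg1 : 1 ≤ gm v := (hgm1 1 v).2 hvP.2
  have hv0 : v ≠ 0 := fun h => by
    obtain ⟨g, hg⟩ := hG
    have := hvP.2 g hg
    rw [h, map_zero] at this
    linarith
  have hvn : 0 < ‖v‖ := norm_pos_iff.2 hv0
  have hvg : gm v = 1 := by
    refine le_antisymm ?_ hvg1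
    have hg0 : 0 < gm v := lt_of_lt_of_le one_pos hvg1
    have := hmin _ (hscale v hvf hg0)
    rw [norm_smul, norm_inv, Real.norm_of_nonneg hg0.le] at this
    by_contra hcon
    have : (gm v)⁻¹ * ‖v‖ < 1 * ‖v‖ := mul_lt_mul_of_pos_right (inv_lt_one_of_one_lt₀ (not_le.1 hcon)) hvn
    linarith
  set M : ℝ := ‖v‖⁻¹ with hM
  have hMpos : 0 < M := inv_pos.2 hvn
  have hub : ∀ x, x ≠ 0 → 0 ≤ fm x → gm x / ‖x‖ ≤ M := fun x hx hxf => by
    have hxn : 0 < ‖x‖ := norm_pos_iff.2 hx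
    by_cases hg0 : gm x ≤ 0
    · exact (div_nonpos_of_nonpos_of_nonneg hg0 hxn.le).trans hMpos.le
    rw [not_le] at hg0
    have h1 := hmin _ (hscale x hxf hg0)
    rw [norm_smul, norm_inv, Real.norm_of_nonneg hg0.le] at h1
    rw [hM, div_le_iff₀ hxn, ← div_eq_inv_mul, le_div_iff₀ hvn]
    rw [← div_eq_inv_mul, le_div_iff₀ hg0] at h1
    linarith
  have hray : ∀ x, x ≠ 0 → 0 ≤ fm x → gm x / ‖x‖ = M → 0 < gm x ∧ x = gm x • v := fun x hx hxf hxM => by
    have hxn : 0 < ‖x‖ := norm_pos_iff.2 hx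
    have hgx : gm x = M * ‖x‖ := (div_eq_iff hxn.ne').1 hxM
    have hg0 : 0 < gm x := hgx ▸ mul_pos hMpos hxn
    refine ⟨hg0, ?_⟩
    have haP := hscale x hxf hg0
    have han : ‖(gm x)⁻¹ • x‖ = ‖v‖ := by
      rw [norm_smul, norm_inv, Real.norm_of_nonneg hg0.le, hgx, hM]
      field_simp
    set a := (gm x)⁻¹ • x with ha
    have hmid : (2 : ℝ)⁻¹ • (a + v) ∈ P := by
      refine ⟨fun f hf => ?_, fun g hg => ?_⟩
      · rw [map_smul, map_add, smul_eq_mul]
        linarith [haP.1 f hf, hvP.1 f hf]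
      · rw [map_smul, map_add, smul_eq_mul]
        linarith [haP.2 g hg, hvP.2 g hg]
    have h1 := hmin _ hmid
    rw [norm_smul, norm_inv, Real.norm_two] at h1
    have h2 := parallelogram_law_with_norm ℝ a v
    rw [han] at h2
    have h3 : ‖a - v‖ * ‖a - v‖ ≤ 0 := by nlinarith [norm_nonneg (a + v)]
    have h4 : a = v := sub_eq_zero.1 (norm_eq_zero.1 (by nlinarith [norm_nonneg (a - v)]))
    rw [← h4, ha, smul_smul, mul_inv_cancel₀ hg0.ne', one_smul]
  have hvray : ∀ t : ℝ, 0 < t → t • v ≠ 0 ∧ 0 ≤ fm (t • v) ∧ gm (t • v) / ‖t • v‖ = M := fun t ht =>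
    ⟨smul_ne_zero ht.ne' hv0, hfsmul t v ht.le hvf, by
      rw [hgsmul t v ht.le, hvg, norm_smul, Real.norm_of_nonneg ht.le, hM]
      field_simp⟩
  -- the ℚ-structure
  let Wq : Submodule ℚ E := Submodule.span ℚ (L : Set E)
  haveI : FiniteDimensional ℚ Wq := by
    obtain ⟨s, hs⟩ := Module.Finite.iff_fg.1 (inferInstance : Module.Finite ℤ L)
    have : Wq = Submodule.span ℚ (s : Set E) := by
      refine le_antisymm (Submodule.span_le.2 ?_) (Submodule.span_mono ?_)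
      · rw [← hs]
        exact Submodule.span_le_restrictScalars ℤ ℚ (s : Set E)
      · rw [← hs]; exact Submodule.subset_span
    rw [this]
    exact FiniteDimensional.span_finset ℚ s
  have hWq : ∀ x ∈ Wq, ∀ y ∈ Wq, ∃ q : ℚ, ⟪x, y⟫ = q := fun x hx y hy =>
    rat_span (innerSL ℝ x).toLinearMap (fun z hz => by
      obtain ⟨q, hq⟩ := rat_span (innerSL ℝ z).toLinearMap (fun t ht => by
        obtain ⟨n, hn⟩ := hint z hz t ht
        exact ⟨n, by simpa using hn⟩) hx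
      exact ⟨q, by rw [← hq]; exact real_inner_comm _ _⟩) hy
  have hrep : ∀ f : Module.Dual ℝ E, f ∈ F ∪ G → ∃ r ∈ Wq, ∀ x, ⟪r, x⟫ = f x := fun f hf => by
    obtain ⟨r, hr, h⟩ := rep Wq hWq f (fun x hx => rat_span f (fun z hz => by
      rcases Finset.mem_union.1 hf with hf | hf
      · obtain ⟨n, hn⟩ := hFi f hf z hz; exact ⟨n, by simpa using hn⟩
      · obtain ⟨n, hn⟩ := hGi f hf z hz; exact ⟨n, by simpa using hn⟩) hx)
    refine ⟨r, hr, fun x => ?_⟩
    have := LinearMap.ext_on (s := (L : Set E)) (IsZLattice.span_top (K := ℝ) (L := L))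
      (f := (innerSL ℝ r).toLinearMap) (g := f) (fun z hz => h z (Submodule.subset_span hz))
    exact LinearMap.congr_fun this x
  choose r hrW hr using hrep
  let R : Set E := {z | ∃ (f : Module.Dual ℝ E) (h : f ∈ F ∪ G),
    ((f ∈ F ∧ f v = 0) ∨ (f ∈ G ∧ f v = 1)) ∧ r f h = z}
  have hvR : v ∈ Submodule.span ℝ R := by
    rw [← Submodule.orthogonal_orthogonal (Submodule.span ℝ R), Submodule.mem_orthogonal]
    intro u hu
    have hu' : ∀ (f : Module.Dual ℝ E), ((f ∈ F ∧ f v = 0) ∨ (f ∈ G ∧ f v = 1)) → f u = 0 := fun f hf => by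
      have hfm : f ∈ F ∪ G := Finset.mem_union.2 (hf.imp And.left And.left)
      rw [← hr f hfm u]
      exact (Submodule.mem_orthogonal _ _).1 hu _ (Submodule.subset_span ⟨f, hfm, hf, rfl⟩)
    set a := ⟪u, v⟫ with ha
    have hcont : ∀ f : Module.Dual ℝ E, Filter.Tendsto (fun s : ℝ => f (v + (-s * a) • u)) (nhds 0) (nhds (f v)) :=
      fun f => by
        have : Continuous (fun s : ℝ => f (v + (-s * a) • u)) := f.continuous_of_finiteDimensional.comp (by fun_prop)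
        simpa using this.tendsto 0
    have hev : ∀ᶠ s in nhds (0 : ℝ), v + (-s * a) • u ∈ P ∧ s * (‖u‖ * ‖u‖) < 1 := by
      refine Filter.Eventually.and (Filter.Eventually.and ?_ ?_) ?_
      · rw [Filter.eventually_all_finset]
        intro f hf
        rcases (hvP.1 f hf).eq_or_lt with he | hlt
        · exact Filter.Eventually.of_forall fun s => by
            rw [map_add, map_smul, hu' f (Or.inl ⟨hf, he.symm⟩), smul_zero, add_zero, ← he]
        · exact ((hcont f).eventually_const_lt hlt).mono fun s hs => hs.le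
      · rw [Filter.eventually_all_finset]
        intro f hf
        rcases (hvP.2 f hf).eq_or_lt with he | hlt
        · exact Filter.Eventually.of_forall fun s => by
            rw [map_add, map_smul, hu' f (Or.inr ⟨hf, he.symm⟩), smul_zero, add_zero, ← he]
        · exact ((hcont f).eventually_const_lt hlt).mono fun s hs => hs.le
      · exact ((continuous_id.mul continuous_const).tendsto' (0 : ℝ) 0 (zero_mul _)).eventually_lt_const one_pos
    obtain ⟨s, ⟨hsP, hsb⟩, hs0⟩ :=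
      ((hev.filter_mono nhdsWithin_le_nhds).and (self_mem_nhdsWithin : ∀ᶠ s in nhdsWithin (0:ℝ) (Set.Ioi 0), s ∈ Set.Ioi (0:ℝ))).exists
    have h1 := mul_self_le_mul_self hvn.le (hmin _ hsP)
    rw [norm_add_mul_self_real, real_inner_smul_right, real_inner_comm, ← ha, norm_smul, Real.norm_eq_abs] at h1
    by_contra hne
    have hb : |-s * a| * ‖u‖ * (|-s * a| * ‖u‖) = s * a * (s * a) * (‖u‖ * ‖u‖) := by
      rw [mul_mul_mul_comm, abs_mul_abs_self]; ring
    rw [hb] at h1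
    have ha2 : 0 < s * (a * a) := mul_pos hs0 (mul_self_pos.2 hne)
    nlinarith [mul_lt_mul_of_pos_left hsb ha2]
  let W : Submodule ℚ E := Submodule.span ℚ R
  have hRW : R ⊆ Wq := by rintro _ ⟨f, hf, -, rfl⟩; exact hrW f hf
  have hWle : W ≤ Wq := Submodule.span_le.2 hRW
  haveI : FiniteDimensional ℚ W := Submodule.finiteDimensional_of_le hWle
  obtain ⟨w, hwW, hw⟩ := rep W (fun x hx y hy => hWq x (hWle hx) y (hWle hy)) (innerSL ℝ v).toLinearMap
    (fun x hx => rat_span _ (by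
      rintro _ ⟨f, hf, hact, rfl⟩
      have : ⟪v, r f hf⟫ = f v := by rw [real_inner_comm]; exact hr f hf v
      rcases hact with ⟨-, h⟩ | ⟨-, h⟩
      · exact ⟨0, by simpa [h] using this⟩
      · exact ⟨1, by simpa [h] using this⟩) hx)
  have hvw : v = w := by
    have hle : W ≤ (Submodule.span ℝ R).restrictScalars ℚ := Submodule.span_le.2 Submodule.subset_span
    have hd : v - w ∈ Submodule.span ℝ R := sub_mem hvR (hle hwW)
    have : ∀ z ∈ Submodule.span ℝ R, ⟪v - w, z⟫ = 0 := fun z hz => by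
      induction hz using Submodule.span_induction with
      | mem y hy => rw [inner_sub_left, hw y (Submodule.subset_span hy)]; exact sub_self _
      | zero => exact inner_zero_right _
      | add y z _ _ hy hz => rw [inner_add_right, hy, hz, add_zero]
      | smul c y _ hy => rw [real_inner_smul_right, hy, mul_zero]
    exact sub_eq_zero.1 (inner_self_eq_zero.1 (this _ hd))
  have hclear : ∀ x ∈ Wq, ∃ n : ℤ, n ≠ 0 ∧ (n : ℝ) • x ∈ L := fun x hx => by
    induction hx using Submodule.span_induction with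
    | mem y hy => exact ⟨1, one_ne_zero, by simpa using hy⟩
    | zero => exact ⟨1, one_ne_zero, by simp⟩
    | add y z _ _ hy hz =>
      obtain ⟨n, hn, h⟩ := hy
      obtain ⟨m, hm, h'⟩ := hz
      refine ⟨n * m, mul_ne_zero hn hm, ?_⟩
      have := add_mem (L.smul_mem m h) (L.smul_mem n h')
      simp only [← Int.cast_smul_eq_zsmul ℝ, smul_smul] at this
      rw [smul_add, Int.cast_mul]
      simpa only [mul_comm] using this
    | smul c y _ hy =>
      obtain ⟨n, hn, h⟩ := hy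
      refine ⟨(c.den : ℤ) * n, mul_ne_zero (by simp) hn, ?_⟩
      have := L.smul_mem c.num h
      simp only [← Int.cast_smul_eq_zsmul ℝ, smul_smul] at this
      rw [ratSmul, smul_smul]
      convert this using 2
      push_cast
      rw [mul_right_comm, mul_comm _ (c : ℝ), mul_comm (c : ℝ), Rat.cast_def]
      field_simp
  obtain ⟨n, hn, hnv⟩ := hclear v (by rw [hvw]; exact hWle hwW)
  -- smallest lattice point on the ray
  let S : Set ℕ := {k | ∃ t : ℝ, 0 < t ∧ t • v ∈ L ∧ ⟪t • v, t • v⟫ = (k : ℝ)}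
  have hk : ∀ t : ℝ, 0 < t → t • v ∈ L → ∃ k : ℕ, ⟪t • v, t • v⟫ = (k : ℝ) := fun t _ ht => by
    obtain ⟨k, hk⟩ := hint _ ht _ ht
    have : (0 : ℤ) ≤ k := by exact_mod_cast hk ▸ real_inner_self_nonneg
    exact ⟨k.toNat, by rw [hk]; exact_mod_cast (Int.toNat_of_nonneg this).symm⟩
  have hSne : S.Nonempty := by
    have habs : ((|n| : ℤ) : ℝ) • v ∈ L := by
      rcases abs_choice n with h | h <;> rw [h]
      · exact hnv
      · rw [Int.cast_neg, neg_smul]; exact neg_mem hnv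
    have hpos' : (0 : ℝ) < ((|n| : ℤ) : ℝ) := by exact_mod_cast abs_pos.2 hn
    obtain ⟨k, hk'⟩ := hk _ hpos' habs
    exact ⟨k, _, hpos', habs, hk'⟩
  obtain ⟨t₀, ht₀, ht₀L, ht₀k⟩ := Nat.sInf_mem hSne
  have hprim : ∀ x ∈ L, x ≠ 0 → 0 ≤ fm x → gm x / ‖x‖ = M → ∃ m : ℤ, x = m • (t₀ • v) := by
    intro x hxL hx hxf hxM
    obtain ⟨hgx, hxe⟩ := hray x hx hxf hxM
    refine ⟨⌊gm x / t₀⌋, ?_⟩
    set m := ⌊gm x / t₀⌋
    set s := gm x - m * t₀ with hs
    have hs0 : 0 ≤ s := by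
      have := (le_div_iff₀ ht₀).1 (Int.floor_le (gm x / t₀))
      rw [hs]; linarith
    have hs1 : s < t₀ := by
      have := (div_lt_iff₀ ht₀).1 (Int.lt_floor_add_one (gm x / t₀))
      rw [hs]; linarith
    have hsL : s • v ∈ L := by
      rw [hs, sub_smul, ← hxe, ← smul_smul, Int.cast_smul_eq_zsmul]
      exact sub_mem hxL (L.smul_mem m ht₀L)
    have hsz : s = 0 := by
      by_contra hne
      have hsp := lt_of_le_of_ne hs0 (Ne.symm hne)
      obtain ⟨k, hk'⟩ := hk s hsp hsL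
      have hle : sInf S ≤ k := Nat.sInf_le ⟨s, hsp, hsL, hk'⟩
      have : ⟪s • v, s • v⟫ < ⟪t₀ • v, t₀ • v⟫ := by
        simp only [real_inner_smul_left, real_inner_smul_right, real_inner_self_eq_norm_mul_norm]
        have h0 := mul_lt_mul'' hs1 hs1 hs0 hs0
        have h9 := mul_lt_mul_of_pos_right h0 (mul_pos hvn hvn)
        rw [norm_smul, norm_smul, Real.norm_of_nonneg hs0, Real.norm_of_nonneg ht₀.le]
        linarith
      rw [hk', ht₀k] at this
      exact absurd hle (not_le.2 (by exact_mod_cast this))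
    rw [← Int.cast_smul_eq_zsmul ℝ, smul_smul]
    conv_lhs => rw [hxe]
    congr 1
    linarith
  obtain ⟨hne₀, hf₀, hM₀⟩ := hvray t₀ ht₀
  refine ⟨M, ⟨⟨v, ⟨hv0, hvf⟩, ?_⟩, ?_⟩, t₀ • v, ⟨ht₀L, hne₀, hf₀, hM₀, hprim⟩, ?_⟩
  · show gm v / ‖v‖ = M
    rw [hvg, one_div]
  · rintro _ ⟨x, ⟨hx, hxf⟩, rfl⟩
    exact hub x hx hxf
  · rintro y ⟨hyL, hy0, hyf, hyM, hy⟩
    obtain ⟨m, hm⟩ := hprim y hyL hy0 hyf hyM
    obtain ⟨l, hl⟩ := hy _ ht₀L hne₀ hf₀ hM₀
    obtain ⟨hgy, hye⟩ := hray y hy0 hyf hyM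
    have hlm : l * m = 1 := by
      have h1 : ((l * m : ℤ) : ℝ) • (t₀ • v) = (1 : ℝ) • (t₀ • v) := by
        rw [one_smul, Int.cast_smul_eq_zsmul, mul_smul, ← hm, ← hl]
      exact_mod_cast smul_left_injective ℝ hne₀ h1
    have hm0 : (0 : ℝ) < m := by
      have h1 : gm y • v = ((m : ℝ) * t₀) • v := by
        rw [← hye, ← smul_smul, Int.cast_smul_eq_zsmul]; exact hm
      have h2 : gm y = m * t₀ := smul_left_injective ℝ hv0 h1
      exact pos_of_mul_pos_left (h2 ▸ hgy) ht₀.le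
    rcases Int.eq_one_or_neg_one_of_mul_eq_one (mul_comm l m ▸ hlm) with h | h
    · rw [hm, h, one_smul]
    · rw [h] at hm0; norm_num at hm0

end


/-- Let `E` be a finite-dimensional real inner product space and `L` a full lattice in `E` (a discrete
subgroup spanning `E`) on which the inner product is integer valued; let `F` and `G` be nonempty
finite sets of real linear functionals on `E` taking integer values on `L`, with `f_min v = min_{f ∈
F} f v` and `g_min v = min_{g ∈ G} g v`. If some vector `v` has `f_min v ≥ 0` and `g_min v > 0`,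
then on the set `C_F` of nonzero `v` with `f_min v ≥ 0` the function `v ↦ g_min v / ‖v‖` attains a
greatest value `M`, and there is exactly one lattice vector `v₀ ∈ C_F` with `g_min v₀ / ‖v₀‖ = M` of
which every lattice vector `v ∈ C_F` with `g_min v / ‖v‖ = M` is an integer multiple. -/
theorem result
    (E : Type u) [NormedAddCommGroup E] [InnerProductSpace ℝ E] [FiniteDimensional ℝ E]
    (L : Submodule ℤ E) [DiscreteTopology L] [IsZLattice ℝ L]
    (hint : ∀ x ∈ L, ∀ y ∈ L, ∃ n : ℤ, inner ℝ x y = (n : ℝ))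
    (F G : Finset (Module.Dual ℝ E)) (hF : F.Nonempty) (hG : G.Nonempty)
    (hFi : ∀ f ∈ F, ∀ x ∈ L, ∃ n : ℤ, f x = (n : ℝ)) (hGi : ∀ g ∈ G, ∀ x ∈ L, ∃ n : ℤ, g x = (n : ℝ))
    (hpos : ∃ v : E, 0 ≤ F.inf' hF (fun f => f v) ∧ 0 < G.inf' hG (fun g => g v)) :
    ∃ M : ℝ, IsGreatest ((fun v => G.inf' hG (fun g => g v) / ‖v‖) ''
        {v : E | v ≠ 0 ∧ 0 ≤ F.inf' hF (fun f => f v)}) M ∧
      ∃! v₀ : E, v₀ ∈ L ∧ v₀ ≠ 0 ∧ 0 ≤ F.inf' hF (fun f => f v₀) ∧
        G.inf' hG (fun g => g v₀) / ‖v₀‖ = M ∧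
        ∀ v ∈ L, v ≠ 0 → 0 ≤ F.inf' hF (fun f => f v) → G.inf' hG (fun g => g v) / ‖v‖ = M →
          ∃ n : ℤ, v = n • v₀ := by
  letI : Module ℚ E := Module.compHom E (algebraMap ℚ ℝ)
  haveI : IsScalarTower ℚ ℝ E := IsScalarTower.of_algebraMap_smul fun _ _ => rfl
  exact main L hint F G hF hG hFi hGi hpos

end Groth.Agent.S17517
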