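import Groth.Statements.S18030
import Groth.Agent.GenInertiaLib.Scheme
import Groth.Agent.GenInertiaLib.Sub
import Groth.Agent.S10543
import Groth.Agent.AlgSpLib.Noeth
import Groth.Agent.IsoNatLib.OpenSub
import Groth.Agent.AlgStLib.Rows3
import Groth.Agent.AlgStLib.LocQ5
-- import your own Groth.Agent.* helpers here

set_option autoImplicit false
set_option backward.isDefEq.respectTransparency false
set_option backward.isDefEq.respectTransparency.types false
universe u
open CategoryTheory AlgebraicGeometry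
open AlgSt CategoryTheory.Limits

namespace Groth.Agent.S18030

open AlgSp FibCat FibLib AlgSpLib AlgStLib

/-- The trivial stack over a Noetherian base is Noetherian on every smooth chart. -/
theorem smoothLocally_selfOver {S : Scheme.{u}} [IsLocallyNoetherian S] :
    AlgSt.SmoothLocally (fun T => IsLocallyNoetherian T) (FibCat.selfOver (Over S)) := by
  intro V y hy
  let T : Over S := Over.mk (𝟙 S)
  haveI : (FibCat.toSelf (overCat T)).toFunctor.Faithful :=
    ⟨fun {a b f g} h => Over.OverMorphism.ext h⟩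
  let m : V ⟶ T := Over.homMk V.hom (Category.comp_id _)
  let y' : overCat V ⥤ᵇ overCat T := AlgSt.overMap m
  obtain ⟨α⟩ := nonempty_iso_selfOver (BasedFunctor.comp y' (FibCat.toSelf (overCat T))) y
  haveI : (FibCat.toSelf (overCat T)).toFunctor.Full := ⟨fun {a b} f => by
    refine ⟨Over.homMk f ?_, rfl⟩
    apply Over.OverMorphism.ext
    have h1 := Over.w a.hom
    have h2 := Over.w b.hom
    have h3 := Over.w f
    change f.left ≫ b.hom.left = a.hom.left
    have ha : a.hom.left = a.left.hom := by simpa [T] using h1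
    have hb : b.hom.left = b.left.hom := by simpa [T] using h2
    rw [ha, hb]
    exact h3⟩
  have hT : IsEquivOver (FibCat.toSelf (overCat T)) := by
    refine isEquivOver_of_vertEssSurj _ fun W =>
      ⟨Over.mk (Over.homMk W.hom (Category.comp_id _) : W ⟶ T), Iso.refl _, IsHomLift.id rfl⟩
  have hy' : AlgSt.RepByAlgSpWith (LocP @Smooth) (BasedFunctor.comp (AlgSt.toOverCat V)
      (BasedFunctor.comp y' (AlgSt.ofOverCat T))) := by
    refine repByAlgSpWith_toOverCat_comp ?_
    refine (repByAlgSpWith_square_iff (f := y) (f' := BasedFunctor.comp y' (AlgSt.ofOverCat T))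
      (a := BasedFunctor.id _) (b := BasedFunctor.comp (AlgSt.toOverCat T) (FibCat.toSelf (overCat T)))
      (isEquivOver_id _) (isEquivOver_comp (isEquivOver_toOverCat T) hT) ?_ _).mp hy
    exact α
  haveI : IsFibGrpd (AlgSt.ofSch T).p := Stk.isFibGrpd_ofPsh _
  exact (smoothLocally_ofSch_iff T smLocalProp_isLocallyNoetherian).2 ‹_› V
    (BasedFunctor.comp y' (AlgSt.ofOverCat T)) (by
      refine (repByAlgSpWith_square_iff (f := y) (f' := BasedFunctor.comp y' (AlgSt.ofOverCat T))
        (a := BasedFunctor.id _) (b := BasedFunctor.comp (AlgSt.toOverCat T) (FibCat.toSelf (overCat T)))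
        (isEquivOver_id _) (isEquivOver_comp (isEquivOver_toOverCat T) hT) α _).mp hy)

/-- The generic-finiteness step of its proof: let `B` be a Noetherian ring and `𝒳` a Deligne–Mumford
stack over `Spec B` (big étale topology) which is locally of finite type and quasi-compact over
`Spec B`, has affine diagonal, is reduced and has an irreducible space of points. Then some open
substack `𝒰 ⊆ 𝒳` with a point has finite étale inertia: there is an open immersion `j : 𝒰 ⟶ 𝒳` with
`|𝒰|` non-empty such that `I𝒰 ⟶ 𝒰` is representable by algebraic spaces, finite and étale. (The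
published proposition is the stratification of every Noetherian Deligne–Mumford stack into finitely
many locally closed substacks that are connected with finite étale inertia; this row is the generic
step that its proof establishes and from which the stratification follows by Noetherian induction.) -/
theorem result
    (B : Type u) [CommRing B] [IsNoetherianRing B]
    (𝒳 : AlgSt.Cat (Spec (CommRingCat.of B)))
    (h𝒳 : AlgSt.IsDM Scheme.etalePrecoverage 𝒳)
    (hft : AlgSt.LocQ (AlgSp.LocP @LocallyOfFiniteType) (FibCat.toSelf 𝒳))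
    (hqc : AlgSt.IsQuasiCompact 𝒳)
    (hΔ : AlgSt.RepByAlgSpWith AlgSp.IsAffineMor (FibCat.diag (FibCat.toSelf 𝒳)))
    (hred : AlgSt.SmoothLocally (fun T => IsReduced T) 𝒳)
    (hirr : IrreducibleSpace (AlgSt.Points 𝒳)) :
    ∃ (𝒰 : AlgSt.Cat (Spec (CommRingCat.of B))) (j : 𝒰 ⥤ᵇ 𝒳),
      AlgSt.IsOpenImm j ∧ Nonempty (AlgSt.Points 𝒰) ∧
      AlgSt.RepByAlgSpWith (AlgSp.IsFiniteMor ⊓ AlgSp.IsEtaleMor) (FibCat.inertiaToBase (FibCat.toSelf 𝒰)) := by
  haveI := isFibGrpd_of_isAlgStack h𝒳.1
  haveI : IsFibGrpd (selfOver (Over (Spec (CommRingCat.of B)))).p := inferInstance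
  haveI : IsFibGrpd (fp (toSelf 𝒳) (toSelf 𝒳)).p := isFibGrpd_fp
  obtain ⟨U, x, hU, hx, hxs⟩ := hqc
  haveI := hU
  let u₀ := BasedFunctor.comp (AlgSt.toOverCat U) x
  have hu₀ : AlgSt.RepByAlgSpWith (LocP @Smooth) u₀ := repByAlgSpWith_toOverCat_comp hx
  -- the chart
  haveI : IsLocallyNoetherian U.left := by
    obtain ⟨U₀, V₀, x₀, y₀, h, α, hx₀, hx₀s, hy₀, hP⟩ := hft
    haveI : IsLocallyNoetherian V₀.left := smoothLocally_selfOver V₀ y₀ hy₀
    haveI : LocallyOfFiniteType h.left := locP_yon_map hP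
    exact smoothLocally_of_chart smLocalProp_isLocallyNoetherian hx₀ hx₀s
      (LocallyOfFiniteType.isLocallyNoetherian h.left) U x hx
  haveI : IsNoetherian U.left := {}
  haveI : IsReduced U.left := hred U x hx
  have hsurj := surjective_ofChart hxs
  haveI : Nonempty U.left := by
    obtain ⟨p⟩ := hirr.toNonempty
    exact ⟨(hsurj p).choose⟩
  -- the inertia over the chart
  let I := inertiaToBase (toSelf 𝒳)
  have hIa : AlgSt.RepByAlgSpWith AlgSp.IsAffineMor I :=
    (repByAlgSpWith_inertiaToBase_iff (toSelf 𝒳) _).2 (repByAlgSpWith_fpFst _ _ hΔ)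
  have hDM : AlgSt.RepByAlgSpWith (LocP (@LocallyOfFiniteType ⊓ @FormallyUnramified)) (diag (toSelf 𝒳)) := by
    obtain ⟨U', w, hw, hws⟩ := h𝒳.2
    have m : ∀ (P : MorphismProperty Scheme.{u}), (@Etale : MorphismProperty Scheme.{u}) ≤ P →
        AlgSt.RepByAlgSpWith (LocP P) w := fun P hP =>
      repByAlgSpWith_mono (fun _ _ a _ _ ha => locP_mono hP (locP_etale_of_isEtaleMor ha)) hw
    refine repByAlgSpWith_diag_toSelf_of_cover good_unramified.bc
      (isLocalOnBase_fppf_of_fpqc (Groth.Agent.S10543.result _))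
      (fun _ _ _ h₁ h₂ h₃ _ _ hab => cancel_unramified h₁ h₂ h₃ hab) h𝒳.1.diag (repByAlgSp_overCat U') w
      (m _ fun _ _ f hf => ?_) (m _ fun _ _ f hf => ?_) hws (m _ fun _ _ f hf => ?_)
    · haveI : Etale f := hf
      exact (inferInstance : Flat f)
    · haveI : Etale f := hf
      exact (inferInstance : LocallyOfFinitePresentation f)
    · haveI : Etale f := hf
      exact ⟨(inferInstance : LocallyOfFiniteType f), (inferInstance : FormallyUnramified f)⟩
  have hIu := (repByAlgSpWith_inertiaToBase_iff (toSelf 𝒳) _).2 (repByAlgSpWith_fpFst _ _ hDM)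
  obtain ⟨H, a, hH, ha, hPa⟩ := (repByAlgSpWith_iff _ I).mp hIa U u₀
  obtain ⟨W, i, fst, sq, hW⟩ := hPa hU (𝟙 _)
  have hi : Along u₀ I ((yon _).map i).hom := ha.of_isPullback (isPullback_sheaf sq)
  obtain ⟨hi₁, hi₂⟩ := locP_yon_map (prop_of_along good_unramified.bc.precomp_iso hIu hi)
  haveI : LocallyOfFiniteType i.left := hi₁
  haveI : FormallyUnramified i.left := hi₂
  haveI := hW
  haveI : LocallyQuasiFinite i.left := AlgSpLib.locallyQuasiFinite_of_unramified i.left
  obtain ⟨V, hVne, hfin, het⟩ := GenInertiaLib.exists_open_finite_etale i.left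
  -- the open substack
  let T : Set (AlgSt.Points 𝒳) := AlgSt.Points.ofChart x '' V
  have hTo : IsOpen T := isOpenMap_ofChart_smooth x hx _ V.2
  let Vo : Over (Spec (CommRingCat.of B)) := Over.mk (V.ι ≫ U.hom)
  let ιV : Vo ⟶ U := Over.homMk V.ι rfl
  let v₀ : AlgSt.ofSch Vo ⥤ᵇ 𝒳 := BasedFunctor.comp (Stk.ofPshMap ((yon _).map ιV).hom) u₀
  have hιV : LocP @Smooth ((yon _).map ιV) := (locP_yon_map_iff ιV).2 (inferInstanceAs (Smooth V.ι))
  have hv₀ : AlgSt.RepByAlgSpWith (LocP @Smooth) v₀ := by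
    haveI : IsFibGrpd (AlgSt.ofSch Vo).p := Stk.isFibGrpd_ofPsh _
    haveI : IsFibGrpd (AlgSt.ofSch U).p := Stk.isFibGrpd_ofPsh _
    refine repByAlgSpWith_comp' good_smooth ?_ hu₀
    exact repByAlgSpWith_ofSpMap (IsAlgSpace.yon_obj Vo) (IsAlgSpace.yon_obj U) ((yon _).map ιV) fun W' ξ =>
      good_smooth.bc (IsAlgSpace.yon_obj Vo) (IsAlgSpace.yon_obj U)
        (isAlgSpace_pullback (IsAlgSpace.yon_obj Vo) (IsAlgSpace.yon_obj W') (IsAlgSpace.yon_obj U) _ ξ)
        (IsAlgSpace.yon_obj W') _ ξ _ _ (IsPullback.of_hasPullback _ ξ) hιV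
  have hrange : Set.range (ptMap v₀) = T := by
    rw [ptMap_comp]
    ext z
    constructor
    · rintro ⟨y, rfl⟩
      obtain ⟨v, rfl⟩ := (Points.schemeHomeo Vo).surjective y
      refine ⟨V.ι v, v.2, ?_⟩
      rw [ofChart_eq]
      simp only [Function.comp_apply, Points.map_yon_map_apply]
      rfl
    · rintro ⟨v, hv, rfl⟩
      refine ⟨Points.schemeHomeo Vo ⟨v, hv⟩, ?_⟩
      rw [ofChart_eq]
      simp only [Function.comp_apply, Points.map_yon_map_apply]
      rfl
  haveI := isFibGrpd_ptsIn (T := T)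
  have hopen : AlgSt.IsOpenImm (AlgSt.subIncl 𝒳 (PtsIn T)) := isOpenImm_subIncl h𝒳.1.atlas hTo
  refine ⟨_, _, hopen, ?_, GenInertiaLib.repByAlgSpWith_inertia_sub h𝒳.1.diag (repByAlgSp1_of_with hopen) v₀
    (fun o => (ptsIn_obj_iff (F := (yon _).obj Vo) v₀ o).2 fun t => hrange.subset ⟨_, rfl⟩)
    (repByAlgSpWith_mono (fun _ _ _ _ _ h => locP_flat_of_smooth h) hv₀)
    (repByAlgSpWith_mono (fun _ _ _ _ _ h => locP_lfp_of_smooth h) hv₀)
    (fun z => by
      rw [← range_ptMap, hrange]
      exact (range_subIncl_ptsIn T).subset ⟨z, rfl⟩)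
    (IsoNatLib.injective_subIncl T)
    (W := Over.mk ((i.left ⁻¹ᵁ V).ι ≫ W.hom)) (Over.homMk (i.left ∣_ V) ?_) ?_ hfin het⟩
  · obtain ⟨v, hv⟩ := hVne
    exact ⟨((range_subIncl_ptsIn T).superset (⟨v, hv, rfl⟩ : AlgSt.Points.ofChart x v ∈ T)).choose⟩
  · change (i.left ∣_ V) ≫ V.ι ≫ U.hom = (i.left ⁻¹ᵁ V).ι ≫ W.hom
    rw [morphismRestrict_ι_assoc, Over.w i]
  · refine hi.of_isPullback (b' := ((yon _).map (Over.homMk (i.left ⁻¹ᵁ V).ι rfl :
      Over.mk ((i.left ⁻¹ᵁ V).ι ≫ W.hom) ⟶ W)).hom) (isPullback_sheaf (IsPullback.map (yon _) ?_))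
    exact IsPullback.of_map (Over.forget _) (Over.OverMorphism.ext (morphismRestrict_ι i.left V).symm)
      (isPullback_morphismRestrict i.left V).flip

end Groth.Agent.S18030
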