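import Groth.Statements.S17529
import Groth.Agent.CohAffMorLib.UnitBC.Coherent
import Groth.Agent.S18030
import Groth.Agent.AlgStLib.QcMor
import Groth.Agent.AlgStLib.LocQ5

set_option autoImplicit false
set_option linter.style.haveILetI false
set_option backward.isDefEq.respectTransparency false
set_option backward.isDefEq.respectTransparency.types false

set_option autoImplicit false
universe u
open CategoryTheory AlgebraicGeometry
open StMod

namespace Groth.Agent.S17529

/-- Let `S` be a Noetherian scheme, `𝒳` an algebraic stack over `(Sch/S)` for the fppf topology which is
quasi-compact and locally of finite type over `S`, `M` an algebraic space over `S` that is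
quasi-separated over `S`, `π : 𝒳 ⟶ M` a quasi-compact and quasi-separated good moduli space, and `F`
a quasi-coherent module on `𝒳` of finite type (a coherent module, `𝒳` being locally Noetherian).
Then `π_* F` is coherent: over every affine scheme `E` etale over `M` its sections form a finitely
generated `Γ(E, O_E)`-module. Here a good moduli space is a morphism to an algebraic space along
which pushforward takes surjections of quasi-coherent modules to maps surjective on sections over
every affine scheme etale over the target, and for which the canonical map from the functions on any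
scheme etale over the target to the sections of the pushforward of the structure sheaf is bijective;
cohomologically affine means the first of these two conditions. (The published statement has a
Noetherian algebraic space as base; the base is a Noetherian scheme here.) -/
theorem result
    (S : Scheme.{u}) [IsNoetherian S]
    (𝒳 : AlgSt.Cat S) (h𝒳 : AlgSt.IsAlgStack Scheme.fppfPrecoverage 𝒳)
    (hft : AlgSt.LocQ (AlgSp.LocP @LocallyOfFiniteType) (FibCat.toSelf 𝒳)) (hq : AlgSt.IsQuasiCompact 𝒳)
    (M : AlgSp.Space S) (hM : AlgSp.IsQuasiSeparatedSp M.obj) (π : 𝒳 ⥤ᵇ AlgSt.ofSp M.obj)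
    (hqc : AlgSt.IsQuasiCompactMor Scheme.fppfPrecoverage π) (hqs : AlgSt.IsQuasiSeparatedMor π)
    (h : StMod.IsGoodModuli π)
    (F : StMod.QCoh 𝒳) (hF : F.obj.IsFinType)
    (E : AlgSp.EtOver M.obj) (hE : IsAffine E.obj.left.left) :
    Module.Finite Γ(StMod.sch (AlgSt.ofSp M.obj) (StMod.etaOf E), ⊤)
      (StMod.Mod.RelSect π F.obj (StMod.etaOf E)) := by
  have hN := AlgStLib.smoothLocally_noetherian_of_lft h𝒳 AlgStLib.isAlgStack_selfOver (FibCat.toSelf 𝒳) hft
    Groth.Agent.S18030.smoothLocally_selfOver
  exact CohAffMorLib.UnitBC.finite_relSect h𝒳 (StPushLib.qcProd_space M.property hM) hqc hqs h hN F hF E hE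

end Groth.Agent.S17529
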