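import Groth.Statements.S1753
import Groth.Agent.LichtLib.Main

set_option autoImplicit false
universe u
open CategoryTheory AlgebraicGeometry
open Dual

namespace Groth.Agent.S1753

/-- Let U be a variety over a field k (integral, separated and of finite type over k) and F a coherent
O_U-module with H^d(U, F) ≠ 0. Then dim U ≥ d, and if dim U = d then U is proper over k. -/
theorem result (k : Type u) [Field k] (U : Scheme.{u}) (f : U ⟶ Spec (CommRingCat.of k)) [IsIntegral U] [IsSeparated f] [LocallyOfFiniteType f] [QuasiCompact f] (F : U.Modules) (hF : Coh.IsCoh F) (d : ℕ) (h : Nontrivial (Coh.HH U F d)) : (d : WithBot ℕ∞) ≤ topologicalKrullDim U ∧ (topologicalKrullDim U = d → IsProper f) := by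
  haveI : IsLocallyNoetherian U := LocallyOfFiniteType.isLocallyNoetherian f
  haveI : CompactSpace U := QuasiCompact.compactSpace_of_compactSpace f
  haveI : IsNoetherian U := {}
  cases d with
  | zero =>
    exact ⟨by exact_mod_cast LichtLib.zero_le_dim U,
      fun hd => LichtLib.isProper_of_dim_zero f (by exact_mod_cast hd.le)⟩
  | succ d =>
    refine ⟨not_lt.1 fun hlt => not_subsingleton_iff_nontrivial.2 h
      (CurvLib.subsingleton_HH_of_dim_le F (LichtLib.le_of_lt_succ hlt) (d + 1) (Nat.lt_succ_self d)), fun hd => ?_⟩
    by_contra hf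
    exact not_subsingleton_iff_nontrivial.2 h (LichtLib.subsingleton_of_not_proper f hd hf F hF)

end Groth.Agent.S1753
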