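import Groth.Statements.S17533
import Groth.Agent.HomogQuotLib.Coact
import Groth.Agent.S12924
import Groth.Agent.ComodLib.LinRed
-- import your own Groth.Agent.* helpers here

set_option autoImplicit false
universe u
open CategoryTheory MonoidalCategory CartesianMonoidalCategory AlgebraicGeometry
open HopfRep

namespace Groth.Agent.S17533

/-- In the case where `H` acts on `U = G` by translations, let `k` be an algebraically closed field,
`AG` a commutative Hopf algebra of finite type over `k` (`G = Spec AG` an affine algebraic group),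
`AH` a commutative Hopf algebra of finite type which is linearly reductive (every finite-dimensional
comodule semisimple) and `ψ : AG → AH` a surjective bialgebra map, so that `H = Spec AH → G` is a
closed subgroup (assumed a homomorphism of group schemes), and let `q : G ⟶ Q` present the
`k`-scheme `Q` as the fppf quotient `G/H` (`q` surjective, flat and locally of finite presentation,
and the square with the projection and the multiplication `G × H → G` cartesian). Then `Q` is
affine. (The published statement is that the algebraic-space quotient of an affine scheme by a free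
action of a linearly reductive group is affine; this row is its case of `H` acting on `G` by
translations, with the quotient given as a scheme.) -/
theorem result
    (k : Type u) [Field k] [IsAlgClosed k]
    (AG AH : Type u) [CommRing AG] [HopfAlgebra k AG] [Algebra.FiniteType k AG]
    [CommRing AH] [HopfAlgebra k AH] [Algebra.FiniteType k AH]
    (hH : HopfRep.IsLinearlyReductive k AH)
    (ψ : AG →ₐc[k] AH) (hψ : Function.Surjective ψ)
    [IsMonHom (CoactBr.pt (ψ : AG →ₐ[k] AH))]
    (Q : Over (Spec (CommRingCat.of k))) (q : CoactBr.sp k AG ⟶ Q)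
    (hq : RedSub.IsQuotient (CoactBr.pt (ψ : AG →ₐ[k] AH)) q) :
    IsAffine Q.left := by
  obtain ⟨hsurj, hflat, hfp, hpb⟩ := hq
  haveI := hsurj; haveI := hflat; haveI := hfp
  letI := HomogQuotLib.coact ψ
  haveI := HomogQuotLib.isCoactAlg ψ
  obtain ⟨β, hβ, hβ1⟩ := ComodLib.exists_invariant_of_isLinearlyReductive hH
  have htame : ∃ α : AH →ₗ[k] AG, Hoch.IsComodHom AH α ∧ α 1 = 1 := by
    refine ⟨(LinearMap.toSpanSingleton k AG 1) ∘ₗ β, LinearMap.ext fun x => ?_, by simp [hβ1]⟩
    simp only [LinearMap.comp_apply]
    rw [LinearMap.rTensor_comp_apply]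
    show Comod.coact (k := k) (A := AH) (β x • (1 : AG)) = _
    rw [map_smul, GLin.IsCoactAlg.coact_one, Algebra.TensorProduct.one_def, ← TensorProduct.tmul_smul,
      ← hβ x]
    show _ = LinearMap.rTensor AH (LinearMap.toSpanSingleton k AG 1)
      (LinearMap.rTensor AH β (CoalgebraStruct.comul (R := k) x))
    generalize CoalgebraStruct.comul (R := k) x = z
    induction z with
    | zero => simp
    | add a b ha hb => simp only [map_add, TensorProduct.tmul_add, ha, hb]
    | tmul a b => simp [TensorProduct.smul_tmul]
  have hρ : GLin.coactAlgHom k AH AG = HomogQuotLib.transl ψ :=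
    AlgHom.ext fun x => HomogQuotLib.coact_apply ψ x
  have hinv : Spec.map (CommRingCat.ofHom (GLin.coactAlgHom k AH AG).toRingHom) ≫ q.left =
      Spec.map (CommRingCat.ofHom
        (Algebra.TensorProduct.includeLeftRingHom : AG →+* TensorProduct k AG AH)) ≫ q.left := by
    rw [hρ]
    exact (congrArg CommaMorphism.left (HomogQuotLib.pt_inl_comp ψ hpb)).symm
  obtain ⟨χ, hχ, -⟩ := Groth.Agent.S12924.result k AH AG htame Q.left q.left hinv
  let π : Spec (CommRingCat.of AG) ⟶ Spec (CommRingCat.of (GLin.invariants k AH AG)) :=
    Spec.map (CommRingCat.ofHom (algebraMap (GLin.invariants k AH AG) AG))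
  have hπ : Spec.map (CommRingCat.ofHom (GLin.coactAlgHom k AH AG).toRingHom) ≫ π =
      Spec.map (CommRingCat.ofHom
        (Algebra.TensorProduct.includeLeftRingHom : AG →+* TensorProduct k AG AH)) ≫ π := by
    rw [← Spec.map_comp, ← Spec.map_comp]
    congr 1
    ext c
    exact c.2
  obtain ⟨θ, hθ⟩ := HomogQuotLib.exists_desc ψ hsurj hflat hfp hpb π (hρ ▸ hπ)
  obtain ⟨χ', -, huniq⟩ := Groth.Agent.S12924.result k AH AG htame _ π hπ
  have h1 : χ ≫ θ = 𝟙 _ := by
    rw [huniq (χ ≫ θ) ((Category.assoc _ _ _).symm.trans ((congrArg (· ≫ θ) hχ).trans hθ)),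
      huniq (𝟙 _) (Category.comp_id _)]
  have h2 : θ ≫ χ = 𝟙 _ := by
    haveI : Epi q.left := inferInstance
    rw [← cancel_epi q.left, ← Category.assoc, hθ, Category.comp_id]
    exact hχ
  haveI : IsIso θ := ⟨χ, h2, h1⟩
  exact IsAffine.of_isIso θ

end Groth.Agent.S17533
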