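import Groth.Statements.S17534
import Groth.Agent.HomogQuotLib.Coact
import Groth.Agent.LinRedSeqLib.Subgroup
-- import your own Groth.Agent.* helpers here

set_option autoImplicit false
universe u
open CategoryTheory MonoidalCategory CartesianMonoidalCategory AlgebraicGeometry
open HopfRep
open CategoryTheory.MonObj

namespace Groth.Agent.S17534

/-- Let `k` be an algebraically closed field, `AG` a commutative Hopf algebra of finite type over `k`
which is linearly reductive (every finite-dimensional comodule semisimple; `G = Spec AG`), `AH` a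
commutative Hopf algebra of finite type and `ψ : AG → AH` a surjective bialgebra map, so that `H =
Spec AH → G` is a closed subgroup (assumed a homomorphism of group schemes), and let `q : G ⟶ Q`
present the `k`-scheme `Q` as the fppf quotient `G/H` (`q` surjective, flat and locally of finite
presentation, and the square with the projection and the multiplication `G × H → G` cartesian). If
`Q` is affine, then `H` is linearly reductive. (The direct direction — `Q` affine whenever `H` is
linearly reductive — holds without hypothesis on `G`; together they form the published equivalence.) -/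
theorem result
    (k : Type u) [Field k] [IsAlgClosed k]
    (AG AH : Type u) [CommRing AG] [HopfAlgebra k AG] [Algebra.FiniteType k AG]
    [CommRing AH] [HopfAlgebra k AH] [Algebra.FiniteType k AH]
    (hG : HopfRep.IsLinearlyReductive k AG)
    (ψ : AG →ₐc[k] AH) (hψ : Function.Surjective ψ)
    [IsMonHom (CoactBr.pt (ψ : AG →ₐ[k] AH))]
    (Q : Over (Spec (CommRingCat.of k))) (q : CoactBr.sp k AG ⟶ Q)
    (hq : RedSub.IsQuotient (CoactBr.pt (ψ : AG →ₐ[k] AH)) q) :
    IsAffine Q.left → HopfRep.IsLinearlyReductive k AH := by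
  intro hQ
  obtain ⟨hsurj, hflat, hfp, hpb⟩ := hq
  haveI := hsurj; haveI := hflat; haveI := hfp; haveI := hQ
  let B : Subalgebra k AG :=
    AlgHom.equalizer (HomogQuotLib.transl ψ) Algebra.TensorProduct.includeLeft
  have htr : ∀ x : AG, HomogQuotLib.transl ψ x =
      LinearMap.lTensor AG (ψ : AG →ₐ[k] AH).toLinearMap (CoalgebraStruct.comul (R := k) x) := by
    intro x
    simp only [HomogQuotLib.transl, AlgHom.comp_apply, Bialgebra.comulAlgHom_apply]
    generalize CoalgebraStruct.comul (R := k) x = z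
    induction z with
    | zero => simp
    | add a b ha hb => simp only [map_add, ha, hb]
    | tmul a b => simp
  have hB : ∀ x, x ∈ B ↔ LinearMap.lTensor AG (ψ : AG →ₐ[k] AH).toLinearMap
      (CoalgebraStruct.comul (R := k) x) = x ⊗ₜ[k] (1 : AH) := by
    intro x
    rw [← htr]
    rfl
  let q0 : Spec (CommRingCat.of AG) ⟶ Q.left := q.left
  haveI : Flat q0 := hflat
  haveI : Surjective q0 := hsurj
  obtain ⟨f, hf⟩ : ∃ f : Γ(Q.left, ⊤) ⟶ CommRingCat.of AG, Spec.map f = q0 ≫ Q.left.isoSpec.hom :=
    Spec.map_surjective _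
  haveI : Flat (Spec.map f) := by rw [hf]; infer_instance
  haveI : Surjective (Spec.map f) := by rw [hf]; infer_instance
  have hff : f.hom.FaithfullyFlat :=
    (flat_and_surjective_SpecMap_iff f).1 ⟨inferInstance, inferInstance⟩
  -- the invariants are the functions on the quotient
  have hmem : ∀ c, f.hom c ∈ B := by
    intro c
    have h := (congrArg (fun w => w ≫ Q.left.isoSpec.hom)
      (congrArg CommaMorphism.left (HomogQuotLib.pt_inl_comp ψ hpb)))
    have h' : Spec.map (CommRingCat.ofHom
          (Algebra.TensorProduct.includeLeft : AG →ₐ[k] TensorProduct k AG AH).toRingHom) ≫ Spec.map f =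
        Spec.map (CommRingCat.ofHom (HomogQuotLib.transl ψ).toRingHom) ≫ Spec.map f := by
      rw [hf]
      exact (Category.assoc _ _ _).symm.trans (h.trans (Category.assoc _ _ _))
    rw [← Spec.map_comp, ← Spec.map_comp] at h'
    exact ((RingHom.congr_fun (congrArg CommRingCat.Hom.hom (Spec.map_injective h')) c)).symm
  have hsurjB : ∀ x ∈ B, ∃ c, f.hom c = x := by
    intro x hx
    let j : CommRingCat.of B ⟶ CommRingCat.of AG := CommRingCat.ofHom (B.val : B →+* AG)
    have he : Spec.map (CommRingCat.ofHom (HomogQuotLib.transl ψ).toRingHom) ≫ Spec.map j =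
        Spec.map (CommRingCat.ofHom
          (Algebra.TensorProduct.includeLeftRingHom : AG →+* TensorProduct k AG AH)) ≫ Spec.map j := by
      rw [← Spec.map_comp, ← Spec.map_comp]
      congr 1
      ext c
      exact c.2
    obtain ⟨θ, hθ⟩ := HomogQuotLib.exists_desc ψ hsurj hflat hfp hpb (Spec.map j) he
    obtain ⟨g, hg⟩ := Spec.map_surjective (Q.left.isoSpec.inv ≫ θ)
    refine ⟨g.hom ⟨x, hx⟩, ?_⟩
    have : Spec.map f ≫ Spec.map g = Spec.map j := by
      rw [hg, hf, Category.assoc, Iso.hom_inv_id_assoc]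
      exact hθ
    rw [← Spec.map_comp] at this
    exact RingHom.congr_fun (congrArg CommRingCat.Hom.hom (Spec.map_injective this)) ⟨x, hx⟩
  let fB : Γ(Q.left, ⊤) →+* ↥B := f.hom.codRestrict B hmem
  have hfB : Function.Surjective fB := fun x =>
    let ⟨c, hc⟩ := hsurjB x x.2
    ⟨c, Subtype.ext hc⟩
  letI : Algebra Γ(Q.left, ⊤) AG := f.hom.toAlgebra
  haveI : Module.FaithfullyFlat Γ(Q.left, ⊤) AG := RingHom.faithfullyFlat_algebraMap_iff.1 hff
  have hinj : Function.Injective fB := fun a b h =>
    FaithfulSMul.algebraMap_injective Γ(Q.left, ⊤) AG (congrArg Subtype.val h)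
  haveI : IsNoetherianRing AG := Algebra.FiniteType.isNoetherianRing k AG
  haveI : Module.FaithfullyFlat ↥B AG := by
    refine RingHom.faithfullyFlat_algebraMap_iff.1 ?_
    letI : Algebra ↥B Γ(Q.left, ⊤) := ((RingEquiv.ofBijective fB ⟨hinj, hfB⟩).symm : ↥B →+* _).toAlgebra
    haveI : IsScalarTower ↥B Γ(Q.left, ⊤) AG := IsScalarTower.of_algebraMap_eq fun b => by
      show (b : AG) = ((fB ((RingEquiv.ofBijective fB ⟨hinj, hfB⟩).symm b) : ↥B) : AG)
      exact congrArg Subtype.val ((RingEquiv.ofBijective fB ⟨hinj, hfB⟩).apply_symm_apply b).symm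
    haveI : Module.FaithfullyFlat ↥B Γ(Q.left, ⊤) :=
      Module.FaithfullyFlat.of_linearEquiv ↥B ↥B
        (LinearEquiv.ofBijective (Algebra.linearMap ↥B Γ(Q.left, ⊤))
          (RingEquiv.ofBijective fB ⟨hinj, hfB⟩).symm.bijective).symm
    exact RingHom.faithfullyFlat_algebraMap_iff.2 (Module.FaithfullyFlat.trans ↥B Γ(Q.left, ⊤) AG)
  haveI : IsNoetherianRing ↥B := by
    have hm : StrictMono fun I : Ideal ↥B => I.map (algebraMap ↥B AG) :=
      Monotone.strictMono_of_injective (fun _ _ h => Ideal.map_mono h)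
        (Function.LeftInverse.injective (g := fun J => J.comap (algebraMap ↥B AG))
          fun I => Ideal.comap_map_eq_self_of_faithfullyFlat I)
    have : WellFoundedGT (Ideal ↥B) := hm.wellFoundedGT
    exact isNoetherian_iff'.2 this
  refine LinRedSeqLib.subgroup_linearlyReductive ψ hψ B hB ?_ hG
  intro y hy
  let J : Ideal AG := Ideal.span {x : AG | x ∈ B ∧ CoalgebraStruct.counit (R := k) x = 0}
  let R := AG ⧸ J
  let g : AG →ₐ[k] R := Ideal.Quotient.mkₐ k J
  let ε : AG →ₐ[k] R := (Algebra.ofId k R).comp (Bialgebra.counitAlgHom k AG)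
  have hfe : f ≫ CommRingCat.ofHom ε.toRingHom = f ≫ CommRingCat.ofHom g.toRingHom := by
    ext c
    show ε (f.hom c) = g (f.hom c)
    have h0 : g (f.hom c - algebraMap k AG (CoalgebraStruct.counit (R := k) (f.hom c))) = 0 := by
      refine Ideal.Quotient.eq_zero_iff_mem.2 (Ideal.subset_span ⟨?_, ?_⟩)
      · exact sub_mem (hmem c) (B.algebraMap_mem _)
      · simp
    rw [map_sub, AlgHom.commutes, sub_eq_zero] at h0
    exact h0.symm
  have hq' : CoactBr.pt ε ≫ q = CoactBr.pt g ≫ q := by
    refine Over.OverMorphism.ext ?_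
    have e : Spec.map (CommRingCat.ofHom ε.toRingHom) ≫ q0 =
        Spec.map (CommRingCat.ofHom g.toRingHom) ≫ q0 := by
      rw [← cancel_mono Q.left.isoSpec.hom, Category.assoc, Category.assoc, ← hf]
      exact (Spec.map_comp _ _).symm.trans ((congrArg Spec.map hfe).trans (Spec.map_comp _ _))
    exact e
  obtain ⟨l, hl₁, hl₂⟩ := hpb.exists_lift (CoactBr.pt ε) (CoactBr.pt g) hq'
  have hprod : l ≫ (CoactBr.sp k AG ◁ CoactBr.pt (ψ : AG →ₐ[k] AH)) ≫ MonObj.mul =
      (l ≫ fst _ _) * ((l ≫ snd _ _) ≫ CoactBr.pt (ψ : AG →ₐ[k] AH)) := by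
    rw [Hom.mul_def, ← lift_whiskerLeft_assoc, ← comp_lift, lift_fst_snd, Category.comp_id]
  have hone : l ≫ fst (CoactBr.sp k AG) (CoactBr.sp k AH) = 1 := by
    rw [hl₁, CoactBr.one_eq_pt]
  have hl₃ := hprod.symm.trans hl₂
  have hl₄ : (l ≫ snd _ _) ≫ CoactBr.pt (ψ : AG →ₐ[k] AH) = CoactBr.pt g :=
    ((_root_.one_mul _).symm.trans (congrArg (· * _) hone).symm).trans hl₃
  obtain ⟨h0, hh0⟩ := Spec.map_surjective (l ≫ snd (CoactBr.sp k AG) (CoactBr.sp k AH)).left
  have hfac : CommRingCat.ofHom g.toRingHom = CommRingCat.ofHom ((ψ : AG →ₐ[k] AH).toRingHom) ≫ h0 := by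
    apply Spec.map_injective
    rw [Spec.map_comp, hh0]
    exact (congrArg CommaMorphism.left hl₄).symm
  refine Ideal.Quotient.eq_zero_iff_mem.1 ?_
  show g y = 0
  have := RingHom.congr_fun (congrArg CommRingCat.Hom.hom hfac) y
  refine this.trans ?_
  show h0.hom (ψ y) = 0
  rw [show ψ y = 0 from hy, map_zero]

end Groth.Agent.S17534
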