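import Groth.Statements.S17537
import Mathlib.RingTheory.AdicCompletion.Basic

set_option autoImplicit false
universe u v
open CAlg

namespace Groth.Agent.S17537

/-- For a commutative ring A, an ideal I and an A-module M, the I-adic completion M^ of M is itself
I-adically complete if and only if, for every n, every element of M^ is congruent modulo I^n M^ to
the image of an element of M (the maps M/I^n M → M^/I^n M^ are surjective). -/
theorem result {A : Type u} [CommRing A] (I : Ideal A)
    (M : Type v) [AddCommGroup M] [Module A M] :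
    IsAdicComplete I (AdicCompletion I M) ↔
      ∀ (n : ℕ) (x : AdicCompletion I M), ∃ y : M,
        x - AdicCompletion.of I M y ∈ (I ^ n • ⊤ : Submodule A (AdicCompletion I M)) := by
  have hk : ∀ (n : ℕ) (x : AdicCompletion I M), x ∈ (I ^ n • ⊤ : Submodule A (AdicCompletion I M)) → x.1 n = 0 :=
    fun n x hx => by
      induction hx using Submodule.smul_induction_on' with
      | smul r hr z _ =>
        rw [AdicCompletion.val_smul_apply]
        obtain ⟨a, ha⟩ := Submodule.mkQ_surjective _ (z.1 n)
        rw [← ha, ← map_smul, Submodule.mkQ_apply, Submodule.Quotient.mk_eq_zero]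
        exact Submodule.smul_mem_smul hr trivial
      | add a _ b _ ha hb => rw [AdicCompletion.val_add_apply, ha, hb, add_zero]
  have hof : ∀ (n : ℕ) (y : M), y ∈ (I ^ n • ⊤ : Submodule A M) →
      AdicCompletion.of I M y ∈ (I ^ n • ⊤ : Submodule A (AdicCompletion I M)) := fun n y hy => by
    have h := Submodule.mem_map_of_mem (f := AdicCompletion.of I M) hy
    rw [Submodule.map_smul''] at h
    exact Submodule.smul_mono le_rfl le_top h
  constructor
  · intro hc n x
    -- correct one step at a time
    have step : ∀ (j : ℕ) (z : AdicCompletion I M), z.1 j = 0 →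
        ∃ y : M, y ∈ (I ^ j • ⊤ : Submodule A M) ∧ (z - AdicCompletion.of I M y).1 (j + 1) = 0 := by
      intro j z hz
      obtain ⟨y, hy⟩ := Submodule.mkQ_surjective _ (z.1 (j + 1))
      refine ⟨y, ?_, ?_⟩
      · have h := z.2 (show j ≤ j + 1 by omega)
        rw [hz, ← hy] at h
        exact (Submodule.Quotient.mk_eq_zero _).1 h
      · rw [AdicCompletion.val_sub_apply, AdicCompletion.of_apply, hy, sub_self]
    choose Y hY hz using step
    obtain ⟨y₀, hy₀⟩ := Submodule.mkQ_surjective _ (x.1 n)
    have hx0 : (x - AdicCompletion.of I M y₀).1 n = 0 := by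
      rw [AdicCompletion.val_sub_apply, AdicCompletion.of_apply, hy₀, sub_self]
    refine ⟨y₀, ?_⟩
    let seq : ∀ j : ℕ, {z : AdicCompletion I M // z.1 (n + j) = 0} := fun j =>
      Nat.rec ⟨x - AdicCompletion.of I M y₀, hx0⟩
        (fun j z => ⟨z.1 - AdicCompletion.of I M (Y (n + j) z.1 z.2), hz (n + j) z.1 z.2⟩) j
    let f : ℕ → AdicCompletion I M := fun j => (seq j).1
    have hf : ∀ j, f j - f (j + 1) ∈ (I ^ (n + j) • ⊤ : Submodule A (AdicCompletion I M)) := fun j => by
      show (seq j).1 - ((seq j).1 - AdicCompletion.of I M (Y (n + j) (seq j).1 (seq j).2)) ∈ _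
      rw [sub_sub_cancel]
      exact hof _ _ (hY _ _ _)
    have hanti : ∀ {a b : ℕ}, a ≤ b →
        (I ^ b • ⊤ : Submodule A (AdicCompletion I M)) ≤ I ^ a • ⊤ := fun h =>
      Submodule.smul_mono (Ideal.pow_le_pow_right h) le_rfl
    have hcauchy : ∀ j l, j ≤ l → f j - f l ∈ (I ^ (n + j) • ⊤ : Submodule A (AdicCompletion I M)) := by
      intro j l hjl
      induction l, hjl using Nat.le_induction with
      | base => rw [sub_self]; exact zero_mem _
      | succ l hjl ih =>
        rw [← sub_add_sub_cancel (f j) (f l) (f (l + 1))]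
        exact add_mem ih (hanti (by omega) (hf l))
    obtain ⟨L, hL⟩ := IsPrecomplete.prec (I := I) inferInstance (f := f) fun {a b} hab => by
      rw [SModEq.sub_mem]
      exact hanti (by omega) (hcauchy a b hab)
    have hLf : ∀ l, f l - L ∈ (I ^ l • ⊤ : Submodule A (AdicCompletion I M)) := fun l => by
      have := hL l
      rwa [SModEq.sub_mem] at this
    have hL0 : L = 0 := AdicCompletion.ext fun j => by
      have h1 := hk j _ (hLf j)
      have h2 := (f j).2 (show j ≤ n + j by omega)
      rw [(seq j).2, map_zero] at h2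
      rw [AdicCompletion.val_sub_apply, ← h2, zero_sub, neg_eq_zero] at h1
      rw [h1]
      rfl
    have h3 := hLf n
    rw [hL0, sub_zero] at h3
    have h4 := add_mem (hanti (show n ≤ n + 0 by omega) (hcauchy 0 n (Nat.zero_le _))) h3
    rwa [sub_add_cancel] at h4
  · intro h
    refine { haus' := IsHausdorff.haus' (I := I), prec' := fun f hf => ?_ }
    have hcomp : ∀ {m n : ℕ} (hle : m ≤ n), AdicCompletion.transitionMap I M hle ((f n).1 n) = (f m).1 m := by
      intro m n hle
      rw [(f n).2 hle]
      have := hf hle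
      rw [SModEq.sub_mem] at this
      have h2 := hk m _ this
      rw [AdicCompletion.val_sub_apply, sub_eq_zero] at h2
      exact h2.symm
    refine ⟨⟨fun n => (f n).1 n, fun {m n} hle => hcomp hle⟩, fun n => ?_⟩
    refine SModEq.sub_mem.2 ?_
    set L : AdicCompletion I M := ⟨fun n => (f n).1 n, fun {m n} hle => hcomp hle⟩
    obtain ⟨y, hy⟩ := h n (f n - L)
    have h1 := hk n _ hy
    rw [AdicCompletion.val_sub_apply, AdicCompletion.val_sub_apply, AdicCompletion.of_apply] at h1
    rw [show L.1 n = (f n).1 n from rfl, sub_self, zero_sub, neg_eq_zero] at h1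
    have h2 := hof n y ((Submodule.Quotient.mk_eq_zero _).1 h1)
    simpa using add_mem hy h2

end Groth.Agent.S17537
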