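import Groth.Statements.S17538
import Mathlib.RingTheory.AdicCompletion.Basic

set_option autoImplicit false
universe u v
open CAlg

namespace Groth.Agent.S17538

/-- For a commutative ring A, an ideal I and an A-module M, the canonical map from the I-adic completion
M^ to the I-adic completion of M^ admits an A-linear retraction (it is a split injection). (That M^
is I-adically separated is standard.) -/
theorem result {A : Type u} [CommRing A] (I : Ideal A)
    (M : Type v) [AddCommGroup M] [Module A M] :
    ∃ ψ : AdicCompletion I (AdicCompletion I M) →ₗ[A] AdicCompletion I M,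
      ψ ∘ₗ AdicCompletion.of I (AdicCompletion I M) = LinearMap.id := by
  have hk : ∀ n, (I ^ n • ⊤ : Submodule A (AdicCompletion I M)) ≤ LinearMap.ker (AdicCompletion.eval I M n) :=
    fun n x hx => by
      have h := Submodule.mem_map_of_mem (f := AdicCompletion.eval I M n) hx
      rw [Submodule.map_smul''] at h
      rw [LinearMap.mem_ker]
      have h2 : (I ^ n • Submodule.map (AdicCompletion.eval I M n) ⊤ :
          Submodule A (M ⧸ (I ^ n • ⊤ : Submodule A M))) ≤ ⊥ := by
        refine Submodule.smul_le.2 fun r hr q _ => ?_
        obtain ⟨a, rfl⟩ := Submodule.mkQ_surjective _ q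
        rw [Submodule.mem_bot, ← map_smul, Submodule.mkQ_apply, Submodule.Quotient.mk_eq_zero]
        exact Submodule.smul_mem_smul hr trivial
      exact (Submodule.mem_bot A).1 (h2 h)
  refine ⟨AdicCompletion.lift I (fun n => ((I ^ n • ⊤ : Submodule A (AdicCompletion I M)).liftQ
    (AdicCompletion.eval I M n) (hk n)).comp (AdicCompletion.eval I (AdicCompletion I M) n))
    (fun {m n} hle => LinearMap.ext fun x => ?_), LinearMap.ext fun x => AdicCompletion.ext fun n => rfl⟩
  obtain ⟨y, hy⟩ := Submodule.mkQ_surjective _ (AdicCompletion.eval I (AdicCompletion I M) n x)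
  have hm : AdicCompletion.eval I (AdicCompletion I M) m x = Submodule.mkQ _ y :=
    (x.2 hle).symm.trans ((congrArg (AdicCompletion.transitionMap I (AdicCompletion I M) hle) hy.symm).trans rfl)
  simp only [LinearMap.comp_apply]
  rw [← hy, hm]
  exact y.2 hle

end Groth.Agent.S17538
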