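import Groth.Statements.S17544
import Groth.Agent.DecayLib.Basic

set_option autoImplicit false
universe u v w
open W4c5adicflatcompl
open CAlg

namespace Groth.Agent.S17544

/-- For a Noetherian ring A which is I-adically complete, a set Z and n ≥ 0, reduction modulo I^n maps
the decaying functions Z → A onto the finitely supported functions Z → A/I^n, and its kernel, the
decaying functions with all values in I^n, equals I^n times the module of decaying functions; so
(A/I^n) ⊗ F_dec(Z, A) → F_fin(Z, A/I^n) is bijective. -/
theorem result {A : Type u} [CommRing A] [IsNoetherianRing A]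
    (I : Ideal A) [IsAdicComplete I A] (Z : Type v) (n : ℕ) :
    (∀ g : Z →₀ A ⧸ I ^ n, ∃ f : decaying I Z A,
        ∀ z, Ideal.Quotient.mk (I ^ n) ((f : Z → A) z) = g z) ∧
      ∀ f : decaying I Z A,
        f ∈ (I ^ n • ⊤ : Submodule A (decaying I Z A)) ↔ ∀ z, (f : Z → A) z ∈ I ^ n := by
  classical
  constructor
  · intro g
    choose r hr using fun z => Ideal.Quotient.mk_surjective (g z)
    refine ⟨∑ z ∈ g.support, single I z (r z), fun z => ?_⟩
    simp only [Submodule.coe_sum, Finset.sum_apply, coe_single, Finset.sum_pi_single]
    split_ifs with h
    · exact hr z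
    · rw [map_zero, Finsupp.notMem_support_iff.1 h]
  · intro f
    constructor
    · intro h z
      simpa [smul_eq_mul, Ideal.mul_top] using DecayLib.mem_of_smul_top I _ h z
    · intro h
      exact DecayLib.mem_pow_smul_top I (IsNoetherian.noetherian I) n f fun z => by
        rw [smul_eq_mul, Ideal.mul_top]; exact h z

end Groth.Agent.S17544
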