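import Groth.Statements.S17549
import Groth.Agent.DecayLib.Free
import Groth.Agent.DecayLib.Basic

set_option autoImplicit false
universe u
open W4c5adicflatcompl
open CAlg

namespace Groth.Agent.S17549

/-- Over a Noetherian ring A with I-adic completion Â, an A-module P is I-adically projective
(I-adically complete, and every A-linear map from P to the target of a surjection between I-adically
complete modules lifts along that surjection) exactly when P is a retract of some module of
I-adically decaying functions Z → Â: there are a set Z, an A-linear map i from P to the decaying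
functions Z → Â and an A-linear map r back with r ∘ i the identity of P. Test modules, P and Z live
in the universe of A. -/
theorem result {A : Type u} [CommRing A] [IsNoetherianRing A]
    (I : Ideal A) (P : Type u) [AddCommGroup P] [Module A P] :
    IsAdicProjective I P ↔
      ∃ (Z : Type u) (i : P →ₗ[A] decaying I Z (AdicCompletion I A))
        (r : decaying I Z (AdicCompletion I A) →ₗ[A] P), r ∘ₗ i = LinearMap.id := by
  classical
  constructor
  · rintro ⟨hc, hlift⟩
    have := hc
    obtain ⟨φ, hφ⟩ := DecayLib.exists_map_single I (Z := P) (M := P) (fun z => z)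
    have hF : IsAdicComplete I (decaying I P (AdicCompletion I A)) := by
      have := DecayLib.isAdicComplete_completion I A
      exact DecayLib.isAdicComplete I (IsNoetherian.noetherian I)
    obtain ⟨χ, hχ⟩ := hlift _ P hF hc φ (fun p => ⟨_, hφ p⟩) LinearMap.id
    exact ⟨P, χ, φ, hχ⟩
  · rintro ⟨Z, i, r, hri⟩
    have hri' : ∀ x, r (i x) = x := LinearMap.congr_fun hri
    have := DecayLib.isAdicComplete_completion I A
    have hF : IsAdicComplete I (decaying I Z (AdicCompletion I A)) :=
      DecayLib.isAdicComplete I (IsNoetherian.noetherian I)
    have hmap : ∀ {M N : Type u} [AddCommGroup M] [Module A M] [AddCommGroup N] [Module A N] (f : M →ₗ[A] N)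
        (n : ℕ) (x : M), x ∈ (I ^ n • ⊤ : Submodule A M) → f x ∈ (I ^ n • ⊤ : Submodule A N) := by
      intro M N _ _ _ _ f n x hx
      have h := Submodule.mem_map_of_mem (f := f) hx
      rw [Submodule.map_smul''] at h
      exact Submodule.smul_mono le_rfl le_top h
    refine ⟨{ haus' := fun x hx => ?_, prec' := fun f hf => ?_ }, fun M N _ _ _ _ hM hN φ hφ ψ => ?_⟩
    · have h0 : i x = 0 := IsHausdorff.haus' (I := I) _ fun n => by
        have := hx n
        rw [SModEq.zero] at this ⊢
        exact hmap i n x this
      rw [← hri' x, h0, map_zero]
    · obtain ⟨L, hL⟩ := IsPrecomplete.prec (I := I) inferInstance (f := fun n => i (f n)) fun {a b} hab => by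
        have := hf hab
        rw [SModEq.sub_mem] at this ⊢
        rw [← map_sub]
        exact hmap i a _ this
      refine ⟨r L, fun n => ?_⟩
      have := hL n
      rw [SModEq.sub_mem] at this ⊢
      rw [← hri' (f n), ← map_sub]
      exact hmap r n _ this
    · choose pre hpre using hφ
      obtain ⟨g, hg⟩ := DecayLib.exists_map_single I (Z := Z) (M := M) fun z => pre (ψ (r (single I z 1)))
      have he : φ ∘ₗ g = ψ ∘ₗ r := DecayLib.map_ext I Z N fun z => by
        rw [LinearMap.comp_apply, LinearMap.comp_apply, hg, hpre]
      refine ⟨g ∘ₗ i, LinearMap.ext fun x => ?_⟩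
      rw [LinearMap.comp_apply, LinearMap.comp_apply, ← LinearMap.comp_apply φ g, he, LinearMap.comp_apply, hri']

end Groth.Agent.S17549
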