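import Groth.Statements.S1755
import Groth.Agent.FinH1Lib.Kollar

set_option autoImplicit false
universe u
open LocCoh

namespace Groth.Agent.S1755

/-- Kollár's criterion for finiteness of first local cohomology, sufficiency direction, in affine form.
Let A be a Noetherian ring, I an ideal and M a finite A-module. Suppose that for every associated
prime p of M not containing I, every prime q containing both p and I, and every associated prime P
of the completion C of the local ring A_q/pA_q at its maximal ideal, the quotient C/P has Krull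
dimension at least 2. Then H¹_I(M) is a finite A-module. (The criterion is an equivalence; only this
implication is asserted here.) -/
theorem result (A : Type u) [CommRing A] [IsNoetherianRing A] (I : Ideal A) (M : Type u) [AddCommGroup M] [Module A M] [Module.Finite A M] (h : ∀ p : Ideal A, p ∈ associatedPrimes A M → ¬ I ≤ p → ∀ (q : PrimeSpectrum A), p ≤ q.asIdeal → I ≤ q.asIdeal → ∀ P ∈ associatedPrimes (AdicCompletion ((IsLocalRing.maximalIdeal (Localization.AtPrime q.asIdeal)).map (Ideal.Quotient.mk (p.map (algebraMap A (Localization.AtPrime q.asIdeal))))) (Localization.AtPrime q.asIdeal ⧸ p.map (algebraMap A (Localization.AtPrime q.asIdeal)))) (AdicCompletion ((IsLocalRing.maximalIdeal (Localization.AtPrime q.asIdeal)).map (Ideal.Quotient.mk (p.map (algebraMap A (Localization.AtPrime q.asIdeal))))) (Localization.AtPrime q.asIdeal ⧸ p.map (algebraMap A (Localization.AtPrime q.asIdeal)))), (2 : WithBot ℕ∞) ≤ ringKrullDim (AdicCompletion ((IsLocalRing.maximalIdeal (Localization.AtPrime q.asIdeal)).map (Ideal.Quotient.mk (p.map (algebraMap A (Localization.AtPrime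 q.asIdeal))))) (Localization.AtPrime q.asIdeal ⧸ p.map (algebraMap A (Localization.AtPrime q.asIdeal))) ⧸ P)) : Module.Finite A (LocCoh.H I 1 M) := by
  refine (FinH1Lib.finite_H1_iff M).2 fun p hp hpI => ?_
  let D := A ⧸ p
  haveI : Module.Finite D (LocCoh.H (I.map (algebraMap A D)) 1 D) := by
    refine FinH1Lib.finite_H1_of_witness _ fun Q hQ hIQ => ?_
    let q : Ideal A := Q.comap (algebraMap A D)
    have hpq : p ≤ q := fun a ha => by
      show algebraMap A D a ∈ Q
      rw [show algebraMap A D a = 0 from Ideal.Quotient.eq_zero_iff_mem.2 ha]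
      exact zero_mem Q
    let L := Localization.AtPrime q
    let R := L ⧸ p.map (algebraMap A L)
    haveI : IsNoetherianRing L := IsLocalization.isNoetherianRing q.primeCompl _ inferInstance
    haveI : Module.Flat D R := IsLocalization.flat R (Algebra.algebraMapSubmonoid D q.primeCompl)
    have hle : p.map (algebraMap A L) ≤ IsLocalRing.maximalIdeal L := by
      rw [← Localization.AtPrime.map_eq_maximalIdeal]
      exact Ideal.map_mono hpq
    haveI : Nontrivial R :=
      Ideal.Quotient.nontrivial_iff.2 (ne_top_of_le_ne_top (IsLocalRing.maximalIdeal.isMaximal L).ne_top hle)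
    haveI : IsLocalRing R := IsLocalRing.of_surjective' _ Ideal.Quotient.mk_surjective
    have hm : (IsLocalRing.maximalIdeal L).map (Ideal.Quotient.mk (p.map (algebraMap A L))) =
        IsLocalRing.maximalIdeal R := by
      refine IsLocalRing.eq_maximalIdeal ?_
      exact Ideal.IsMaximal.map_of_surjective_of_ker_le Ideal.Quotient.mk_surjective (by rw [Ideal.mk_ker]; exact hle)
    have hQ1 : IsLocalRing.maximalIdeal R = Q.map (algebraMap D R) := by
      refine Eq.trans ?_ (congrArg (Ideal.map (algebraMap D R))
        (Ideal.map_comap_of_surjective (algebraMap A D) Ideal.Quotient.mk_surjective Q))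
      rw [← hm, ← Localization.AtPrime.map_eq_maximalIdeal, Ideal.map_map, Ideal.map_map]
      rfl
    refine FinH1Lib.witness_completion (R := R) Q hQ1 ?_ _ hm (h p hp hpI ⟨q, inferInstance⟩ hpq
      (Ideal.map_le_iff_le_comap.1 hIQ))
    refine le_antisymm (fun x hx => ?_) ?_
    · obtain ⟨a, rfl⟩ := Ideal.Quotient.mk_surjective x
      have h1 : Ideal.Quotient.mk (p.map (algebraMap A L)) (algebraMap A L a) ∈ IsLocalRing.maximalIdeal R := hx
      rw [IsLocalRing.mem_maximalIdeal, mem_nonunits_iff] at h1
      show a ∈ q
      by_contra haq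
      exact h1 ((IsLocalization.map_units L (⟨a, haq⟩ : q.primeCompl)).map _)
    · rw [← Ideal.map_le_iff_le_comap, hQ1]
  obtain ⟨φ, hφ⟩ := LocCohLib.exists_addEquiv_restrict (R := A) (R' := D) I D 1
  obtain ⟨s, hs⟩ := Module.Finite.fg_top (R := D) (M := LocCoh.H (I.map (algebraMap A D)) 1 D)
  refine ⟨⟨s.map φ.toEquiv.toEmbedding, eq_top_iff.2 fun y _ => ?_⟩⟩
  obtain ⟨x, rfl⟩ := φ.surjective y
  have hx : x ∈ Submodule.span D (s : Set (LocCoh.H (I.map (algebraMap A D)) 1 D)) := hs ▸ Submodule.mem_top
  induction hx using Submodule.span_induction with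
  | mem z hz => exact Submodule.subset_span (Finset.mem_map_of_mem _ hz)
  | zero => rw [map_zero]; exact zero_mem _
  | add a b _ _ ha hb => rw [map_add]; exact add_mem (ha trivial) (hb trivial)
  | smul d a _ ha =>
    obtain ⟨c, rfl⟩ := Ideal.Quotient.mk_surjective d
    rw [← Ideal.Quotient.algebraMap_eq, hφ]
    exact Submodule.smul_mem _ c (ha trivial)

end Groth.Agent.S1755
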