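import Groth.Statements.S17550
import Groth.Agent.DecayLib.Free

set_option autoImplicit false
universe u
open W4c5adicflatcompl
open scoped TensorProduct
open CAlg

namespace Groth.Agent.S17550

/-- For Noetherian rings A and B with B an A-algebra, ideals I of A and J of B with I B contained in J,
and an I-adically free A-module P, the J-adic completion of B ⊗ P is a J-adically free B-module (the
completed base change of an adically free module is adically free). -/
theorem result {A B : Type u} [CommRing A] [CommRing B] [Algebra A B]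
    [IsNoetherianRing A] [IsNoetherianRing B] (I : Ideal A) (J : Ideal B)
    (hIJ : I.map (algebraMap A B) ≤ J) (P : Type u) [AddCommGroup P] [Module A P]
    (hP : IsAdicFree I P) :
    IsAdicFree J (AdicCompletion J (B ⊗[A] P)) := by
  classical
  obtain ⟨Z, ⟨e⟩⟩ := hP
  let v : Z → P := fun z => e.symm (single I z 1)
  let ι : (Z →₀ B) →ₗ[B] B ⊗[A] P := Finsupp.linearCombination B fun z => (1 : B) ⊗ₜ[A] v z
  have hpow : ∀ n, ∀ a ∈ I ^ n, algebraMap A B a ∈ J ^ n := fun n a ha =>
    Ideal.pow_right_mono hIJ n (Ideal.map_pow (algebraMap A B) I n ▸ Ideal.mem_map_of_mem _ ha)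
  have hdense : ∀ n (p : P), ∃ c : Z →₀ A, p - Finsupp.linearCombination A v c ∈ (I ^ n • ⊤ : Submodule A P) := by
    intro n p
    obtain ⟨c, hc⟩ := DecayLib.exists_finsupp_sub_mem I Z (e p) n
    refine ⟨c, ?_⟩
    have h := Submodule.mem_map_of_mem (f := e.symm.toLinearMap) hc
    rw [Submodule.map_smul''] at h
    have h2 := Submodule.smul_mono le_rfl le_top h
    simpa only [LinearEquiv.coe_coe, map_sub, LinearEquiv.symm_apply_apply, Finsupp.linearCombination_apply,
      map_finsuppSum, map_smul] using h2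
  have htensor : ∀ n (b : B) (r : P), r ∈ (I ^ n • ⊤ : Submodule A P) →
      b ⊗ₜ[A] r ∈ (J ^ n • ⊤ : Submodule B (B ⊗[A] P)) := by
    intro n b r hr
    refine Submodule.smul_induction_on hr (fun a ha p _ => ?_) (fun x y hx hy => ?_)
    · rw [TensorProduct.tmul_smul, ← algebraMap_smul B a (b ⊗ₜ[A] p)]
      exact Submodule.smul_mem_smul (hpow n a ha) Submodule.mem_top
    · rw [TensorProduct.tmul_add]
      exact add_mem hx hy
  have hsurj : ∀ n y, ∃ x, ι x - y ∈ (J ^ n • ⊤ : Submodule B (B ⊗[A] P)) := by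
    intro n y
    induction y using TensorProduct.induction_on with
    | zero => exact ⟨0, by simp⟩
    | add y y' hy hy' =>
      obtain ⟨x, hx⟩ := hy
      obtain ⟨x', hx'⟩ := hy'
      refine ⟨x + x', ?_⟩
      rw [map_add, add_sub_add_comm]
      exact add_mem hx hx'
    | tmul b p =>
      obtain ⟨c, hc⟩ := hdense n p
      refine ⟨b • c.mapRange (algebraMap A B) (map_zero _), ?_⟩
      have h1 : ι (c.mapRange (algebraMap A B) (map_zero _)) =
          (1 : B) ⊗ₜ[A] Finsupp.linearCombination A v c := by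
        simp only [ι, Finsupp.linearCombination_apply]
        rw [Finsupp.sum_mapRange_index (h := fun z a => a • ((1 : B) ⊗ₜ[A] v z)) fun z => zero_smul B _]
        simp only [Finsupp.sum, TensorProduct.tmul_sum, algebraMap_smul, TensorProduct.tmul_smul]
      rw [map_smul, h1, TensorProduct.smul_tmul', smul_eq_mul, mul_one, ← neg_sub, neg_mem_iff,
        ← TensorProduct.tmul_sub]
      exact htensor n b _ hc
  have hinj : ∀ n x, ι x ∈ (J ^ n • ⊤ : Submodule B (B ⊗[A] P)) → x ∈ (J ^ n • ⊤ : Submodule B (Z →₀ B)) := by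
    intro n x hx
    let Q := (Z →₀ B) ⧸ (J ^ n • ⊤ : Submodule B (Z →₀ B))
    have hQ0 : ∀ b ∈ J ^ n, ∀ q : Q, b • q = 0 := by
      intro b hb q
      obtain ⟨q, rfl⟩ := Submodule.Quotient.mk_surjective _ q
      rw [← Submodule.Quotient.mk_smul, Submodule.Quotient.mk_eq_zero]
      exact Submodule.smul_mem_smul hb Submodule.mem_top
    have : IsAdicComplete I Q := DecayLib.isAdicComplete_of_pow_smul_eq_bot I n (by
      rw [eq_bot_iff, Submodule.smul_le]
      intro a ha q _
      rw [Submodule.mem_bot, ← algebraMap_smul B a q]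
      exact hQ0 _ (hpow n a ha) q)
    obtain ⟨φ, hφ⟩ := DecayLib.exists_map_single I Z Q fun z => Submodule.Quotient.mk (Finsupp.single z (1 : B))
    let Φ : B ⊗[A] P →ₗ[B] Q := (φ ∘ₗ e.toLinearMap).liftBaseChange B
    have hΦ : Φ ∘ₗ ι = Submodule.mkQ _ := by
      refine Finsupp.lhom_ext fun z b => ?_
      simp only [Φ, ι, v, LinearMap.coe_comp, Function.comp_apply, Finsupp.linearCombination_single, map_smul,
        LinearMap.liftBaseChange_tmul, one_smul, LinearEquiv.coe_coe, LinearEquiv.apply_symm_apply, hφ,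
        Submodule.mkQ_apply]
      rw [← Submodule.Quotient.mk_smul, Finsupp.smul_single, smul_eq_mul, mul_one]
      rfl
    have h := Submodule.mem_map_of_mem (f := Φ) hx
    rw [Submodule.map_smul''] at h
    have h2 : Φ (ι x) ∈ (⊥ : Submodule B Q) :=
      (Submodule.smul_le.2 fun b hb q _ => (Submodule.mem_bot _).2 (hQ0 b hb q)) h
    rw [Submodule.mem_bot, ← LinearMap.comp_apply, hΦ] at h2
    exact (Submodule.Quotient.mk_eq_zero _).1 h2
  have := DecayLib.isAdicComplete_completion J B
  exact ⟨Z, ⟨((LinearEquiv.ofBijective _ (DecayLib.map_bijective J ι hinj hsurj)).symm.restrictScalars B).trans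
    (DecayLib.completionEquiv J)⟩⟩

end Groth.Agent.S17550
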