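import Groth.Statements.S17551
import Groth.Agent.DecayLib.Local

set_option autoImplicit false
universe u
open W4c5adicflatcompl
open CAlg

namespace Groth.Agent.S17551

/-- For a complete Noetherian local ring A (maximal ideal m, m-adic completion Â) and an m-adic system
(M n, ψ n : M (n+1) → M n) of A-modules, meaning that each M n is a module over A/m^(n+1) and each ψ
n is surjective with kernel m^(n+1) M (n+1), if every M n is flat over A/m^(n+1) then the inverse
limit of the system is m-adically free (isomorphic to the m-adically decaying functions Z → Â for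
some set Z), and for every n its projection to M n is surjective with kernel m^(n+1) times the
limit. A, the M n and Z share one universe. -/
theorem result {A : Type u} [CommRing A] [IsNoetherianRing A] [IsLocalRing A]
    [IsAdicComplete (IsLocalRing.maximalIdeal A) A]
    (M : ℕ → Type u) [∀ n, AddCommGroup (M n)] [∀ n, Module A (M n)]
    [∀ n, Module (A ⧸ IsLocalRing.maximalIdeal A ^ (n + 1)) (M n)]
    [∀ n, IsScalarTower A (A ⧸ IsLocalRing.maximalIdeal A ^ (n + 1)) (M n)]
    [∀ n, Module.Flat (A ⧸ IsLocalRing.maximalIdeal A ^ (n + 1)) (M n)]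
    (ψ : ∀ n, M (n + 1) →ₗ[A] M n) (hψ : ∀ n, Function.Surjective (ψ n))
    (hker : ∀ n, LinearMap.ker (ψ n) =
      (IsLocalRing.maximalIdeal A ^ (n + 1) • ⊤ : Submodule A (M (n + 1)))) :
    IsAdicFree (IsLocalRing.maximalIdeal A) (sysLim M ψ) ∧
      ∀ n, Function.Surjective (sysProj M ψ n) ∧
        LinearMap.ker (sysProj M ψ n) =
          (IsLocalRing.maximalIdeal A ^ (n + 1) • ⊤ : Submodule A (sysLim M ψ)) := by
  classical
  let 𝔪 := IsLocalRing.maximalIdeal A
  change IsAdicFree 𝔪 (sysLim M ψ) ∧ _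
  have hAc := DecayLib.isAdicComplete_completion 𝔪 A
  -- composite projections to the first module
  let π : ∀ n, M n →ₗ[A] M 0 := fun n => Nat.rec LinearMap.id (fun k p => p ∘ₗ ψ k) n
  have hπs : ∀ n, π (n + 1) = π n ∘ₗ ψ n := fun n => rfl
  have hkill : ∀ n, (𝔪 ^ (n + 1) • ⊤ : Submodule A (M n)) = ⊥ := fun n => by
    rw [eq_bot_iff, Submodule.smul_le]
    intro a ha p _
    rw [Submodule.mem_bot, ← algebraMap_smul (A ⧸ 𝔪 ^ (n + 1)) a p, Ideal.Quotient.algebraMap_eq,
      Ideal.Quotient.eq_zero_iff_mem.2 ha, zero_smul]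
  have hπker : ∀ n, LinearMap.ker (π n) ≤ (𝔪 • ⊤ : Submodule A (M n)) := fun n => by
    induction n with
    | zero => exact le_of_eq_of_le LinearMap.ker_id bot_le
    | succ n ih =>
      intro p hp
      have h : ψ n p ∈ (𝔪 • ⊤ : Submodule A (M (n + 1))).map (ψ n) := by
        rw [Submodule.map_smul'', Submodule.map_top, LinearMap.range_eq_top.2 (hψ n)]
        exact ih hp
      obtain ⟨q, hq, hqp⟩ := h
      have h2 : p - q ∈ LinearMap.ker (ψ n) := by rw [LinearMap.mem_ker, map_sub, hqp, sub_self]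
      rw [hker n] at h2
      have h3 : p - q ∈ (𝔪 • ⊤ : Submodule A (M (n + 1))) :=
        Submodule.smul_mono (Ideal.pow_le_self (Nat.succ_ne_zero n)) le_rfl h2
      simpa using add_mem h3 hq
  -- a basis of the first module and compatible lifts
  have : (𝔪 ^ (0 + 1)).IsMaximal := by
    rw [zero_add, pow_one]
    exact IsLocalRing.maximalIdeal.isMaximal A
  obtain ⟨Z, _, v, ξ, hξ, hspan⟩ := DecayLib.exists_residue_basis (𝔪 ^ (0 + 1)) (M 0)
  have hlift : ∀ p : M 0, ∃ y : sysLim M ψ, sysProj M ψ 0 y = p := fun p => by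
    let y : ∀ n, M n := fun n => Nat.rec p (fun k q => Function.surjInv (hψ k) q) n
    exact ⟨⟨y, fun n => Function.surjInv_eq (hψ n) (y n)⟩, rfl⟩
  choose x hx using fun z => hlift (v z)
  let L : ∀ n, (Z →₀ A) →ₗ[A] M n := fun n => Finsupp.linearCombination A fun z => sysProj M ψ n (x z)
  have hψL : ∀ n c, ψ n (L (n + 1) c) = L n c := fun n c => by
    simp only [L, Finsupp.linearCombination_apply, Finsupp.sum, map_sum, map_smul]
    exact Finset.sum_congr rfl fun z _ => congrArg (c z • ·) ((x z).2 n)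
  have hπx : ∀ n z, π n (sysProj M ψ n (x z)) = v z := fun n z => by
    induction n with
    | zero => exact hx z
    | succ n ih =>
      rw [hπs, LinearMap.comp_apply]
      exact (congrArg (π n) ((x z).2 n)).trans ih
  have hπL : ∀ n c, π n (L n c) = Finsupp.linearCombination A v c := fun n c => by
    simp only [L, Finsupp.linearCombination_apply, Finsupp.sum, map_sum, map_smul, hπx]
  have hLsurj : ∀ n, Function.Surjective (L n) := fun n => by
    rw [← LinearMap.range_eq_top]
    refine CompleteLib.eq_top_of_sup_smul_eq_top (I := 𝔪) ?_ (hkill n)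
    refine eq_top_iff.2 fun p _ => ?_
    have h : π n p ∈ Submodule.span A (Set.range v) := hspan.symm ▸ Submodule.mem_top
    obtain ⟨c, hc⟩ := Finsupp.mem_span_range_iff_exists_finsupp.1 h
    have h1 : p - L n c ∈ LinearMap.ker (π n) := by
      rw [LinearMap.mem_ker, map_sub, hπL, ← hc, Finsupp.linearCombination_apply, sub_self]
    exact Submodule.mem_sup.2 ⟨_, ⟨c, rfl⟩, _, hπker n h1, add_sub_cancel _ _⟩
  have hLker : ∀ n c, L n c = 0 → c ∈ (𝔪 ^ (n + 1) • ⊤ : Submodule A (Z →₀ A)) := by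
    intro n c hc
    let R := A ⧸ 𝔪 ^ (n + 1)
    let P : Ideal R := 𝔪.map (Ideal.Quotient.mk (𝔪 ^ (n + 1)))
    have hsurjR : Function.Surjective (algebraMap A R) := Ideal.Quotient.mk_surjective
    let τ : A ⧸ 𝔪 ^ (0 + 1) →ₗ[A] R ⧸ P :=
      Submodule.liftQ _ (Algebra.linearMap A (R ⧸ P)) fun a ha => by
        rw [LinearMap.mem_ker, Algebra.linearMap_apply, IsScalarTower.algebraMap_apply A R (R ⧸ P),
          Ideal.Quotient.algebraMap_eq]
        refine Ideal.Quotient.eq_zero_iff_mem.2 (Ideal.mem_map_of_mem _ ?_)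
        simpa using ha
    have hτ : τ 1 = 1 := map_one (algebraMap A (R ⧸ P))
    let ξ' : Z → M n →ₗ[R] R ⧸ P := fun z =>
      { toFun := τ ∘ₗ ξ z ∘ₗ π n
        map_add' := map_add _
        map_smul' := fun r q => by
          obtain ⟨a, rfl⟩ := hsurjR r
          rw [RingHom.id_apply, algebraMap_smul, algebraMap_smul]
          exact map_smul (τ ∘ₗ ξ z ∘ₗ π n) a q }
    have hξ' : ∀ z y, ξ' z (sysProj M ψ n (x y)) = if y = z then 1 else 0 := fun z y => by
      show τ (ξ z (π n (sysProj M ψ n (x y)))) = _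
      rw [hπx, hξ, apply_ite τ, hτ, map_zero]
    let c' : Z →₀ R := c.mapRange (algebraMap A R) (map_zero _)
    have hc' : Finsupp.linearCombination R (fun z => sysProj M ψ n (x z)) c' = 0 := by
      rw [← hc]
      simp only [c', L, Finsupp.linearCombination_apply]
      rw [Finsupp.sum_mapRange_index (h := fun z a => a • sysProj M ψ n (x z)) fun z => zero_smul R _]
      simp only [algebraMap_smul]
    refine (DecayLib.finsupp_mem_smul_top _ c).2 fun z => ?_
    rw [smul_eq_mul, Ideal.mul_top]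
    have h := DecayLib.coeff_mem_of_flat P (fun z => sysProj M ψ n (x z)) ξ' hξ' c' (n + 1)
      (hc'.symm ▸ zero_mem _) z
    rw [show P ^ (n + 1) = ⊥ by rw [← Ideal.map_pow, Ideal.map_quotient_self], Ideal.mem_bot,
      Finsupp.mapRange_apply] at h
    exact Ideal.Quotient.eq_zero_iff_mem.1 h
  have hLkill : ∀ n, (𝔪 ^ (n + 1) • ⊤ : Submodule A (Z →₀ A)) ≤ LinearMap.ker (L n) := fun n => by
    intro c hc
    have h := Submodule.mem_map_of_mem (f := L n) hc
    rw [Submodule.map_smul''] at h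
    exact (Submodule.mem_bot _).1 (hkill n ▸ Submodule.smul_mono le_rfl le_top h)
  -- the limit of the comparison maps
  let Φn : ∀ n, AdicCompletion 𝔪 (Z →₀ A) →ₗ[A] M n := fun n =>
    Submodule.liftQ _ (L n) (hLkill n) ∘ₗ AdicCompletion.eval 𝔪 (Z →₀ A) (n + 1)
  have hΦn : ∀ n ζ c, Submodule.Quotient.mk c = ζ.val (n + 1) → Φn n ζ = L n c := fun n ζ c hc => by
    show Submodule.liftQ _ (L n) (hLkill n) (ζ.val (n + 1)) = _
    rw [← hc]
    rfl
  let Φ : AdicCompletion 𝔪 (Z →₀ A) →ₗ[A] sysLim M ψ :=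
    (LinearMap.pi Φn).codRestrict _ fun ζ n => by
      obtain ⟨c, hc⟩ := Submodule.Quotient.mk_surjective _ (ζ.val (n + 2))
      show ψ n (Φn (n + 1) ζ) = Φn n ζ
      rw [hΦn (n + 1) ζ c hc, hψL, hΦn n ζ c]
      have h := ζ.2 (Nat.le_succ (n + 1))
      rw [← hc] at h
      exact h
  have hval : ∀ n ζ, Φn n ζ = 0 → ζ.val (n + 1) = 0 := fun n ζ h => by
    obtain ⟨c, hc⟩ := Submodule.Quotient.mk_surjective _ (ζ.val (n + 1))
    rw [hΦn n ζ c hc] at h
    rw [← hc, Submodule.Quotient.mk_eq_zero]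
    exact hLker n c h
  have hΦinj : Function.Injective Φ := by
    rw [injective_iff_map_eq_zero]
    intro ζ hζ
    refine AdicCompletion.ext fun k => ?_
    have h : ζ.val (k + 1) = 0 := hval k ζ (congrFun (congrArg Subtype.val hζ) k)
    rw [AdicCompletion.val_zero_apply, ← ζ.2 (Nat.le_succ k), h, map_zero]
  have hΦsurj : Function.Surjective Φ := by
    intro y
    choose c hc using fun n => hLsurj n ((y : ∀ n, M n) n)
    have hcomp : ∀ a b, a ≤ b → c b - c a ∈ (𝔪 ^ (a + 1) • ⊤ : Submodule A (Z →₀ A)) := fun a b hab => by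
      induction hab with
      | refl => simp
      | @step b h ih =>
        have h1 : c (b + 1) - c b ∈ (𝔪 ^ (b + 1) • ⊤ : Submodule A (Z →₀ A)) := hLker b _ (by
          rw [map_sub, ← hψL, hc, hc, y.2 b, sub_self])
        simpa using add_mem (DecayLib.pow_anti 𝔪 (Nat.add_le_add_right h 1) h1) ih
    let ζ : AdicCompletion 𝔪 (Z →₀ A) := ⟨fun k => Submodule.Quotient.mk (c k), fun {a b} hab => by
      show Submodule.Quotient.mk (c b) = Submodule.Quotient.mk (c a)
      rw [Submodule.Quotient.eq]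
      exact DecayLib.pow_anti 𝔪 (Nat.le_succ a) (hcomp a b hab)⟩
    refine ⟨ζ, Subtype.ext (funext fun n => ?_)⟩
    show Φn n ζ = _
    rw [hΦn n ζ (c (n + 1)) rfl, ← hc n, ← sub_eq_zero, ← map_sub]
    exact hLkill n (hcomp n (n + 1) n.le_succ)
  let e := LinearEquiv.ofBijective Φ ⟨hΦinj, hΦsurj⟩
  refine ⟨⟨Z, ⟨e.symm.trans (DecayLib.completionEquiv 𝔪)⟩⟩, fun n => ⟨fun p => ?_, le_antisymm ?_ ?_⟩⟩
  · obtain ⟨c, rfl⟩ := hLsurj n p
    exact ⟨Φ (AdicCompletion.of 𝔪 _ c), hΦn n (AdicCompletion.of 𝔪 (Z →₀ A) c) c rfl⟩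
  · intro y hy
    obtain ⟨ζ, rfl⟩ := hΦsurj y
    have := DecayLib.isAdicComplete_completion 𝔪 (Z →₀ A)
    have h := Submodule.mem_map_of_mem (f := Φ)
      (DecayLib.mem_pow_smul_top_of_val_eq_zero 𝔪 (n + 1) ζ (hval n ζ hy))
    rw [Submodule.map_smul''] at h
    exact Submodule.smul_mono le_rfl le_top h
  · intro y hy
    have h := Submodule.mem_map_of_mem (f := sysProj M ψ n) hy
    rw [Submodule.map_smul''] at h
    have h2 := Submodule.smul_mono le_rfl le_top h
    rw [hkill n] at h2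
    exact (Submodule.mem_bot _).1 h2

end Groth.Agent.S17551
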