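import Groth.Statements.S17552
import Groth.Agent.DecayLib.Local

set_option autoImplicit false
universe u
open W4c5adicflatcompl
open CAlg

namespace Groth.Agent.S17552

/-- For a complete Noetherian local ring A (maximal ideal m, m-adic completion Â), an A-module M is
isomorphic to the module of m-adically decaying functions Z → Â for some set Z (m-adically free)
exactly when M is flat and m-adically complete. M and Z live in the universe of A. -/
theorem result {A : Type u} [CommRing A] [IsNoetherianRing A] [IsLocalRing A]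
    [IsAdicComplete (IsLocalRing.maximalIdeal A) A]
    (M : Type u) [AddCommGroup M] [Module A M] :
    IsAdicFree (IsLocalRing.maximalIdeal A) M ↔
      Module.Flat A M ∧ IsAdicComplete (IsLocalRing.maximalIdeal A) M := by
  classical
  let 𝔪 := IsLocalRing.maximalIdeal A
  have hAc := DecayLib.isAdicComplete_completion 𝔪 A
  constructor
  · rintro ⟨Z, ⟨e⟩⟩
    let e' : M ≃ₗ[A] decaying 𝔪 Z A := e.trans (DecayLib.congr 𝔪 (AdicCompletion.ofLinearEquiv 𝔪 A).symm)
    have : Module.Flat A (decaying 𝔪 Z A) := DecayLib.flat_decaying 𝔪 Z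
    have : IsAdicComplete 𝔪 (decaying 𝔪 Z A) := DecayLib.isAdicComplete 𝔪 (IsNoetherian.noetherian _)
    refine ⟨Module.Flat.of_linearEquiv e', ?_⟩
    exact { toIsHausdorff := ⟨fun x hx => e'.injective (by
              rw [map_zero]
              refine DecayLib.eq_zero_of_forall_mem 𝔪 fun n => ?_
              have h := Submodule.mem_map_of_mem (f := e'.toLinearMap) (SModEq.sub_mem.1 (hx n))
              rw [Submodule.map_smul''] at h
              simpa using Submodule.smul_mono le_rfl le_top h)⟩,
            toIsPrecomplete := CompleteLib.isPrecomplete_of_surjective e'.symm.toLinearMap e'.symm.surjective }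
  · rintro ⟨hflat, hcomp⟩
    obtain ⟨Z, _, v, ξ, hξ, hspan⟩ := DecayLib.exists_residue_basis 𝔪 (M ⧸ (𝔪 • ⊤ : Submodule A M))
    choose x hx using fun z => Submodule.Quotient.mk_surjective _ (v z)
    have hx' : ∀ z y, (ξ z ∘ₗ Submodule.mkQ _) (x y) = if y = z then 1 else 0 := fun z y => by
      rw [LinearMap.comp_apply, Submodule.mkQ_apply, hx, hξ]
    have hgen : Submodule.span A (Set.range x) ⊔ 𝔪 • ⊤ = ⊤ := by
      refine eq_top_iff.2 fun y _ => ?_
      have h : Submodule.Quotient.mk y ∈ (Submodule.span A (Set.range x)).map (Submodule.mkQ (𝔪 • ⊤)) := by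
        rw [Submodule.map_span, ← Set.range_comp,
          show (Submodule.mkQ (𝔪 • ⊤ : Submodule A M)) ∘ x = v from funext hx, hspan]
        exact Submodule.mem_top
      obtain ⟨y', hy', hy⟩ := h
      exact Submodule.mem_sup.2 ⟨y', hy', y - y', (Submodule.Quotient.eq _).1 hy.symm, add_sub_cancel _ _⟩
    have hbij := DecayLib.map_bijective 𝔪 (Finsupp.linearCombination A x)
      (fun n c hc => (DecayLib.finsupp_mem_smul_top _ c).2 fun z => by
        rw [smul_eq_mul, Ideal.mul_top]
        exact DecayLib.coeff_mem_of_flat 𝔪 x (fun z => ξ z ∘ₗ Submodule.mkQ _) hx' c n hc z)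
      (fun n y => by
        have h : y ∈ Submodule.span A (Set.range x) ⊔ 𝔪 ^ n • ⊤ :=
          (DecayLib.sup_pow_eq_top 𝔪 hgen n).symm ▸ Submodule.mem_top
        obtain ⟨s, hs, t, ht, rfl⟩ := Submodule.mem_sup.1 h
        obtain ⟨c, rfl⟩ := (Finsupp.mem_span_range_iff_exists_finsupp).1 hs
        refine ⟨c, ?_⟩
        rw [Finsupp.linearCombination_apply, sub_add_cancel_left, neg_mem_iff]
        exact ht)
    exact ⟨Z, ⟨((AdicCompletion.ofLinearEquiv 𝔪 M).trans
      ((LinearEquiv.ofBijective _ hbij).symm.restrictScalars A)).trans (DecayLib.completionEquiv 𝔪)⟩⟩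

end Groth.Agent.S17552
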