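import Groth.Statements.S1756
import Groth.Agent.FinH1Lib.FormalS1

set_option autoImplicit false
universe u
open LocCoh

namespace Groth.Agent.S1756

/-- Let A be a universally catenary Noetherian ring and I an ideal such that for every prime q
containing I the formal fibres of A_q satisfy (S_1), and let M be a finite A-module. If for every
associated prime p of M not containing I and every prime q containing both p and I the longest chain
of primes from p to q has length at least 2, then the local cohomology module H^1_I(M) is a finite
A-module. (Affine form: finiteness of H^1_I(M) stands in for coherence of the pushforward of the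
restriction of M~ to Spec A ∖ V(I).) -/
theorem result (A : Type u) [CommRing A] [IsNoetherianRing A] (hA : CAlg.IsUniversallyCatenary A) (I : Ideal A) (hF : ∀ q : PrimeSpectrum A, I ≤ q.asIdeal → EGA4.HasSnFormalFibres 1 (Localization.AtPrime q.asIdeal)) (M : Type u) [AddCommGroup M] [Module A M] [Module.Finite A M] (h : ∀ (p q : PrimeSpectrum A) (hpq : p ≤ q), p.asIdeal ∈ associatedPrimes A M → ¬ I ≤ p.asIdeal → I ≤ q.asIdeal → (2 : ℕ∞) ≤ Order.height (⟨q, hpq⟩ : Set.Ici p)) : Module.Finite A (LocCoh.H I 1 M) := by
  refine FinH1Lib.finite_H1_of_witness_assoc I M fun p hp hpI Q hQ hIQ => ?_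
  haveI := hp.1
  let f : A →+* A ⧸ p := algebraMap A (A ⧸ p)
  letI : Algebra (Localization.AtPrime (Q.comap f)) (Localization.AtPrime Q) :=
    (Localization.localRingHom (Q.comap f) Q f rfl).toAlgebra
  haveI : IsNoetherianRing (Localization.AtPrime (Q.comap f)) :=
    IsLocalization.isNoetherianRing (Q.comap f).primeCompl _ inferInstance
  exact FinH1Lib.witness_of_S1 (CatLib.isUniversallyCatenary_of_finiteType A (A ⧸ p) hA) Q
    (FinH1Lib.hasSnFormalFibres_of_surjective 1 (Localization.AtPrime (Q.comap f)) (Localization.AtPrime Q)
      (CatLib.localRingHom_surjective f Ideal.Quotient.mk_surjective Q).1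
      (hF ⟨Q.comap f, inferInstance⟩ (Ideal.map_le_iff_le_comap.1 hIQ)))
    (FinH1Lib.two_le_dim_of_height I ⟨p, hp.1⟩ (fun q hpq hq => h ⟨p, hp.1⟩ q hpq hp hpI hq) Q hIQ)

end Groth.Agent.S1756
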