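import Groth.Statements.S1757
import Groth.Agent.S1733
import Groth.Agent.S1734
import Mathlib

set_option autoImplicit false
universe u
open LocCoh

namespace Groth.Agent.S1757

theorem indep_comp {A : Type u} [CommRing A] {r : ℕ} (f : Fin r → A) (σ : Equiv.Perm (Fin r))
    (h : Dual2.Independent f) : Dual2.Independent (f ∘ σ) := by
  intro a ha i
  rw [σ.surjective.range_comp f]
  have h1 : ∑ k, a (σ.symm k) * f k = 0 := by
    rw [← ha]
    exact (Fintype.sum_equiv σ _ _ fun j => by simp).symm
  simpa using h (fun k => a (σ.symm k)) h1 (σ i)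

theorem finite_length_quot {A : Type u} [CommRing A] [IsLocalRing A] (r : ℕ) (x : Fin r → A)
    (hx : Ideal.span (Set.range x) = IsLocalRing.maximalIdeal A) (e : Fin r → ℕ) :
    IsFiniteLength A (A ⧸ Ideal.span (Set.range fun i => x i ^ e i)) := by
  set I := Ideal.span (Set.range fun i => x i ^ e i)
  have hp : ∀ P : Ideal (A ⧸ I), P.IsPrime →
      P = (IsLocalRing.maximalIdeal A).map (Ideal.Quotient.mk I) := by
    intro P hP
    have hle : IsLocalRing.maximalIdeal A ≤ P.comap (Ideal.Quotient.mk I) := by
      rw [← hx, Ideal.span_le]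
      rintro _ ⟨i, rfl⟩
      refine Ideal.IsPrime.mem_of_pow_mem (hI := Ideal.IsPrime.comap (hK := hP) _) (e i) ?_
      have h0 : Ideal.Quotient.mk I (x i ^ e i) = 0 :=
        Ideal.Quotient.eq_zero_iff_mem.2 (Ideal.subset_span ⟨i, rfl⟩)
      rw [Ideal.mem_comap, h0]
      exact P.zero_mem
    have heq : P.comap (Ideal.Quotient.mk I) = IsLocalRing.maximalIdeal A :=
      ((IsLocalRing.maximalIdeal.isMaximal A).eq_of_le
        (Ideal.IsPrime.comap (hK := hP) _).ne_top hle).symm
    rw [← heq, Ideal.map_comap_of_surjective _ Ideal.Quotient.mk_surjective]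
  haveI : IsNoetherianRing (A ⧸ I) := IsNoetherianRing.of_prime fun P hP => by
    rw [hp P hP, ← hx, Ideal.map_span]
    exact Submodule.fg_span (s := Ideal.Quotient.mk I '' Set.range x) ((Set.finite_range x).image _)
  haveI : Ring.KrullDimLE 0 (A ⧸ I) := Ring.KrullDimLE.mk₀ fun P hP => by
    obtain ⟨M, hM, hPM⟩ := Ideal.exists_le_maximal P hP.ne_top
    rw [hp P hP, ← hp M hM.isPrime]
    exact hM
  haveI : IsArtinianRing (A ⧸ I) :=
    isArtinianRing_iff_isNoetherianRing_krullDimLE_zero.2 ⟨inferInstance, inferInstance⟩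
  rw [← Module.length_ne_top_iff,
    Module.length_eq_of_surjective (R := A ⧸ I) (S := A) Ideal.Quotient.mk_surjective,
    Module.length_ne_top_iff]
  exact isFiniteLength_iff_isNoetherian_isArtinian.2 ⟨inferInstance, inferInstance⟩

/-- Let A be a local ring whose maximal ideal is generated by x_1, …, x_r, and let e_1, …, e_r be
positive integers such that x_1^{e_1}, …, x_r^{e_r} are independent. Then the length of
A/(x_1^{e_1}, …, x_r^{e_r}) equals the product e_1 ⋯ e_r. -/
theorem result (A : Type u) [CommRing A] [IsLocalRing A] (r : ℕ) (x : Fin r → A) (hx : Ideal.span (Set.range x) = IsLocalRing.maximalIdeal A) (e : Fin r → ℕ) (he : ∀ i, 0 < e i) (hind : Dual2.Independent (fun i => x i ^ e i)) : Module.length A (A ⧸ Ideal.span (Set.range (fun i => x i ^ e i))) = ∏ i, (e i : ℕ∞) := by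
  induction hn : ∑ i, e i using Nat.strong_induction_on generalizing e with
  | _ n IH =>
  by_cases h1 : ∀ i, e i = 1
  · have : (fun i => x i ^ e i) = x := funext fun i => by simp [h1]
    rw [this, hx, Finset.prod_eq_one fun i _ => by simp [h1]]
    haveI : IsSimpleModule A (A ⧸ IsLocalRing.maximalIdeal A) := by
      rw [isSimpleModule_iff_isCoatom, ← Ideal.isMaximal_def]
      exact IsLocalRing.maximalIdeal.isMaximal A
    exact Module.length_eq_one A _
  push_neg at h1
  obtain ⟨i, hi⟩ := h1
  cases r with
  | zero => exact i.elim0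
  | succ s =>
    obtain ⟨d, hd⟩ : ∃ d, e i = d + 1 := ⟨e i - 1, by have := he i; omega⟩
    have hd0 : 0 < d := by omega
    set σ := Equiv.swap i (Fin.last s) with hσ
    set e₁ := Function.update e i d with he₁
    set e₂ := Function.update e i 1 with he₂
    set f : Fin (s + 1) → A := (fun j => x j ^ e₁ j) ∘ σ with hf
    have hσl : σ (Fin.last s) = i := Equiv.swap_apply_right _ _
    have hne : ∀ j, j ≠ Fin.last s → σ j ≠ i := fun j hj h =>
      hj (σ.injective (h.trans hσl.symm))
    have hF : Function.update f (Fin.last s) (f (Fin.last s) * x i) = (fun j => x j ^ e j) ∘ σ := by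
      funext j
      by_cases hj : j = Fin.last s
      · subst hj
        simp [hf, he₁, hσl, hd, pow_succ]
      · rw [Function.update_of_ne hj]
        simp [hf, he₁, hne j hj]
    have hG : Function.update f (Fin.last s) (x i) = (fun j => x j ^ e₂ j) ∘ σ := by
      funext j
      by_cases hj : j = Fin.last s
      · subst hj
        simp [hf, he₂, hσl]
      · rw [Function.update_of_ne hj]
        simp [hf, he₁, he₂, hne j hj]
    have hindF : Dual2.Independent (Function.update f (Fin.last s) (f (Fin.last s) * x i)) := by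
      rw [hF]; exact indep_comp _ σ hind
    have hspan : ∀ g : Fin (s + 1) → A, Ideal.span (Set.range (g ∘ σ)) = Ideal.span (Set.range g) :=
      fun g => by rw [σ.surjective.range_comp g]
    have hsym : ∀ g : Fin (s + 1) → A, Dual2.Independent (g ∘ σ) → Dual2.Independent g := fun g hg => by
      have := indep_comp _ σ.symm hg
      rwa [Function.comp_assoc, Equiv.self_comp_symm, Function.comp_id] at this
    have hind1 : Dual2.Independent (fun j => x j ^ e₁ j) :=
      hsym _ (S1733.result A s f (x i) hindF)
    have hind2 : Dual2.Independent (fun j => x j ^ e₂ j) := by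
      refine hsym _ ?_
      rw [← hG]
      refine S1733.result A s _ (f (Fin.last s)) ?_
      rw [Function.update_self, Function.update_idem, mul_comm (x i)]
      exact hindF
    have hpos1 : ∀ j, 0 < e₁ j := fun j => by
      by_cases hj : j = i
      · subst hj; simp [he₁, hd0]
      · simp [he₁, hj, he j]
    have hpos2 : ∀ j, 0 < e₂ j := fun j => by
      by_cases hj : j = i
      · subst hj; simp [he₂]
      · simp [he₂, hj, he j]
    have hs : ∀ v : ℕ, ∑ j, Function.update e i v j = v + ∑ j ∈ Finset.univ \ {i}, e j := fun v =>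
      Finset.sum_update_of_mem (Finset.mem_univ i) _ _
    have hse : ∑ j, e j = e i + ∑ j ∈ Finset.univ \ {i}, e j := by
      simpa using hs (e i)
    have hr1 := IH (∑ j, e₁ j) (by rw [← hn, he₁, hs, hse]; omega) e₁ hpos1 hind1 rfl
    have hr2 := IH (∑ j, e₂ j) (by rw [← hn, he₂, hs, hse]; omega) e₂ hpos2 hind2 rfl
    have key := S1734.result A s f (x i) hindF (by
      rw [hF, hspan]; exact finite_length_quot _ x hx e)
    rw [hF, hG] at key
    rw [hspan (fun j => x j ^ e j), hspan (fun j => x j ^ e₂ j),
      show Ideal.span (Set.range f) = Ideal.span (Set.range fun j => x j ^ e₁ j) from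
        hspan (fun j => x j ^ e₁ j)] at key
    rw [hr1, hr2] at key
    rw [key]
    have hp : ∀ v : ℕ, ∏ j, (Function.update e i v j : ℕ∞) =
        (v : ℕ∞) * ∏ j ∈ Finset.univ \ {i}, (e j : ℕ∞) := fun v => by
      have h3 := Finset.prod_update_of_mem (Finset.mem_univ i) (fun j => (e j : ℕ∞)) (v : ℕ∞)
      convert h3 using 2 with j
      exact Function.apply_update (fun _ (k : ℕ) => (k : ℕ∞)) e i v j
    have hpe : ∏ j, (e j : ℕ∞) = ((d + 1 : ℕ) : ℕ∞) * ∏ j ∈ Finset.univ \ {i}, (e j : ℕ∞) := by
      simpa [← hd] using hp (e i)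
    rw [hpe, he₁, he₂, hp, hp, Nat.cast_add, add_mul]

end Groth.Agent.S1757
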