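import Groth.Statements.S17591
import Groth.Agent.GenSectLib.Basic
import Groth.Agent.IntFunLib.Kleiman
import Groth.Agent.GrowthLib.Nef
import Groth.Agent.MultSecLib.Basic
import Groth.Agent.CurvLib.Euler
-- import your own Groth.Agent.* helpers here

set_option autoImplicit false
open CategoryTheory CategoryTheory.Limits AlgebraicGeometry
open PosLin

namespace Groth.Agent.S17591

/-- Let X be a projective variety over the complex numbers (an integral scheme, proper over ℂ, with an
ample invertible module) which is normal, and L an invertible O_X-module (the module of a Cartier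
divisor D) which is numerically effective (non-negative degree on every integral one-dimensional
closed subscheme) and big, bigness being expressed through the equivalent condition that every ample
invertible O_X-module A admits a monomorphism A → L^⊗m for some m > 0. In the text the remaining
hypothesis is that the section ring R(X, D) = ⊕_m H^0(X, mD) is a finitely generated ℂ-algebra, and
the proof uses it only through its consequence that for a suitable n > 0 with H^0(X, nD) ≠ 0 the
Veronese subring ⊕_k H^0(X, knD) is generated by H^0(X, nD); this row takes that consequence as the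
hypothesis: n > 0, H^0(X, L^⊗n) ≠ 0, and for every k ≥ 1 the multiplication map H^0(X, (L^⊗n)^⊗k) ⊗
H^0(X, L^⊗n) → H^0(X, (L^⊗n)^⊗(k+1)) is surjective (written as the map from the global sections of
the sectionwise tensor product presheaf to those of its sheafification). Then L^⊗n is globally
generated; in particular D is semiample. -/
theorem result (X : Scheme.{0}) [X.Over (Spec (CommRingCat.of ℂ))] [IsIntegral X]
    [IsProper (X ↘ Spec (CommRingCat.of ℂ))] (H : X.Modules) (hH : CohB1.IsAmple H)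
    (hXn : Pi1.IsNormalScheme X)
    (L : X.Modules) (hL : PicF.IsInvertible L)
    (hnef : ∀ (Z : Scheme.{0}) (i : Z ⟶ X) [IsClosedImmersion i], IsIntegral Z → topologicalKrullDim Z = 1 →
      0 ≤ Pic13.curveDeg ℂ (i ≫ (X ↘ Spec (CommRingCat.of ℂ))) ((Scheme.Modules.pullback i).obj L))
    (hbig : ∀ A : X.Modules, CohB1.IsAmple A → ∃ (m : ℕ) (φ : A ⟶ CohB1.tensorPow L m), 0 < m ∧ Mono φ)
    (n : ℕ) (hn : 0 < n) (hsec : Nontrivial (Coh.HH X (CohB1.tensorPow L n) 0))
    (hgen : ∀ k : ℕ, 0 < k → Function.Surjective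
      ((toSheafify (Opens.grothendieckTopology X)
        (CohB1.tensorPre (CohB1.tensorPow (CohB1.tensorPow L n) k) (CohB1.tensorPow L n)).presheaf).app
        (Opposite.op ⊤))) :
    Curv2.IsGloballyGenerated (CohB1.tensorPow L n) := by
  haveI := CurvLib.isNoetherian ℂ (X := X)
  set G := CohB1.tensorPow L n with hGdef
  have hG : PicF.IsInvertible G := AmpleThLib.tensorPow_isInvertible hL n
  refine GenSectLib.gg_of_genAt hG fun x => ?_
  by_contra hne
  push Not at hne
  have hA1 : CohB1.IsAmple (CohB1.tensorPow H 1) := (AmpleThLib.isAmple_tensorPow_iff (hL := hH.1) one_pos).mp hH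
  have hA : PicF.IsInvertible (CohB1.tensorPow H 1) := hA1.1
  obtain ⟨m, φ, hm, hφ⟩ := hbig _ hA1
  obtain ⟨U, e₀, hxU, he₀⟩ := TwistLib.exists_genOn hL x
  obtain ⟨U', h₀, hxU', hh₀⟩ := TwistLib.exists_genOn hA x
  let W : X.Opens := U ⊓ U'
  have hx : x ∈ W := ⟨hxU, hxU'⟩
  let e := AmpleLib.res L (inf_le_left : W ≤ U) e₀
  have he : AmpleLib.GenOn L e := he₀.res inf_le_left
  let h := AmpleLib.res (CohB1.tensorPow H 1) (inf_le_right : W ≤ U') h₀
  have hh : AmpleLib.GenOn (CohB1.tensorPow H 1) h := hh₀.res inf_le_right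
  obtain ⟨a, ha⟩ := ((AmpleThLib.pS_genOn he m) W le_rfl).2 (φ.app W h)
  dsimp only at ha
  rw [AmpleLib.res_refl] at ha
  haveI : Nonempty W := ⟨⟨x, hx⟩⟩
  have hax : X.presheaf.germ W x hx a ≠ 0 := by
    intro h0
    have ha0 : a = 0 := germ_injective_of_isIntegral X x hx (h0.trans (map_zero _).symm)
    rw [ha0, zero_smul] at ha
    have hz : h = 0 := QCohLib.app_injective_of_mono φ W (ha.symm.trans (map_zero _).symm)
    have hb := hh.genAt hx
    rw [hz] at hb
    exact one_ne_zero (hb.1 (a₁ := (1 : X.presheaf.stalk x)) (a₂ := 0)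
      (by dsimp only; rw [map_zero, smul_zero, smul_zero]))
  have hmul : ∀ k : ℕ, 0 < k → Function.Surjective (KFlatLib.shApp (CohB1.tensorPow G k) G ⊤) :=
    fun k hk => (MultSecLib.mult_iff _ _).mpr (hgen k hk)
  refine hax (GenSectLib.eq_zero_of_pow_mem _ m fun j hj => ?_)
  obtain ⟨k, hk⟩ : ∃ k, k + m = n * j := ⟨n * j - m, by
    have : j ≤ n * j := Nat.le_mul_of_pos_left j hn
    omega⟩
  have hk0 : 0 < k := by
    have : j ≤ n * j := Nat.le_mul_of_pos_left j hn
    omega
  set M := CohB1.tensorMod (CohB1.tensorPow L k) (CohB1.tensorPow H 1) with hMdef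
  have hMa : CohB1.IsAmple M :=
    IntFunLib.isAmple_nef_add (k := ℂ) hL (GrowthLib.nef_of_curveTest hL hnef) hH hk0 one_pos
  obtain ⟨-, hloc⟩ := (AmpleThLib.isAmple_iff (hL := hMa.1)).mp hMa
  obtain ⟨s, V, hs, ⟨σ, hσV⟩, hxV, -⟩ := hloc x
  refine ⟨s, hs, ?_⟩
  let g : Γ(M, W) := AmpleLib.shT (AmpleThLib.pS e k) h
  have hg : AmpleLib.GenOn M g := AmpleThLib.shT_genOn (AmpleThLib.pS_genOn he k) hh
  obtain ⟨r, hr⟩ := ((AmpleThLib.pS_genOn hg s) W le_rfl).2 (AmpleLib.res (CohB1.tensorPow M s) le_top σ)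
  dsimp only at hr
  rw [AmpleLib.res_refl] at hr
  have hru : IsUnit (X.presheaf.germ W x hx r) := by
    rw [← Scheme.mem_basicOpen X r x hx,
      ← AmpleThLib.mem_genSet_coeff (AmpleThLib.tensorPow_isInvertible hMa.1 s) σ (AmpleThLib.pS_genOn hg s) hr]
    exact ⟨hσV.symm ▸ hxV, hx⟩
  let ψ : M ⟶ CohB1.tensorPow L (k + m) :=
    GenSectLib.tmap (𝟙 (CohB1.tensorPow L k)) φ ≫ (AmpleThLib.mulIso hL k m).hom
  have hψ : ψ.app W g = a • AmpleThLib.pS e (k + m) := by
    change (AmpleThLib.mulIso hL k m).hom.app W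
      ((GenSectLib.tmap (𝟙 (CohB1.tensorPow L k)) φ).app W (AmpleLib.shT (AmpleThLib.pS e k) h)) = _
    rw [GenSectLib.tmap_shT, ← ha]
    have h1 := AmpleThLib.mul_coeff hL he (m := k) (n := m) (1 : Γ(X, W)) a
    rw [one_smul, one_mul] at h1
    exact h1
  obtain ⟨P, hP⟩ := AmpleThLib.exists_powIso hL (k + m) s
  obtain ⟨E, hE⟩ := GenSectLib.exists_powEq (L := L) (show (k + m) * s = n * (j * s) by rw [hk]; ring)
  obtain ⟨Q, hQ⟩ := AmpleThLib.exists_powIso hL n (j * s)
  let Φ : CohB1.tensorPow M s ⟶ CohB1.tensorPow G (j * s) :=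
    GenSectLib.powMap ψ s ≫ P.hom ≫ E.hom ≫ Q.inv
  have hΦ : Φ.app W (AmpleThLib.pS g s) = a ^ s • AmpleThLib.pS (AmpleThLib.pS e n) (j * s) := by
    change Q.inv.app W (E.hom.app W (P.hom.app W ((GenSectLib.powMap ψ s).app W (AmpleThLib.pS g s)))) = _
    rw [GenSectLib.powMap_pS, hψ, AmpleThLib.pS_smul, QCohLib.app_smul, hP ⟨W, e, he⟩, QCohLib.app_smul,
      hE, QCohLib.app_smul, ← hQ ⟨W, e, he⟩]
    refine congrArg (a ^ s • ·) ?_
    change (Q.hom ≫ Q.inv).app W _ = _
    rw [Iso.hom_inv_id]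
    rfl
  obtain ⟨K, hK⟩ := Nat.exists_eq_succ_of_ne_zero (Nat.mul_pos (by omega : 0 < j) hs).ne'
  have key : ∀ (q : ℕ) (τ : Γ(CohB1.tensorPow G q, ⊤)) (c : Γ(X, W)), q = K + 1 →
      c • AmpleThLib.pS (AmpleThLib.pS e n) q = AmpleLib.res (CohB1.tensorPow G q) le_top τ →
      X.presheaf.germ W x hx c ∈ IsLocalRing.maximalIdeal (X.presheaf.stalk x) ^ q := by
    intro q τ c hq hc
    subst hq
    exact GenSectLib.coeff_mem_pow hx (AmpleThLib.pS_genOn he n) hne hmul K τ hc
  have h2 := key (j * s) (Φ.app ⊤ σ) (r * a ^ s) hK (by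
    rw [← smul_smul, ← hΦ, ← QCohLib.app_smul, hr]
    exact QCohLib.app_map Φ _ _)
  rw [map_mul, map_pow] at h2
  exact (Ideal.unit_mul_mem_iff_mem _ hru).mp h2

end Groth.Agent.S17591
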