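import Groth.Statements.S17599
import Groth.Agent.PairHensLib.SmoothSurj
import Groth.Agent.PairHensLib.Construction
import Groth.Agent.S6827

set_option autoImplicit false
set_option linter.style.haveILetI false
set_option backward.isDefEq.respectTransparency false
set_option backward.isDefEq.respectTransparency.types false

set_option autoImplicit false
universe u
open Hensel

namespace Groth.Agent.S17599

/-- Let (A, I) be a Henselian pair and let B be a Henselization of the pair (R₀, IR₀) for a finitely
presented A-algebra R₀ (so A → B is a Henselian finitely presented map of Henselian pairs). Assume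
that A/I^r → B/I^rB is smooth for every r ≥ 1 (for Henselian finitely presented maps this is
equivalent to the h-formally smooth lifting property). Then there exist a smooth A-algebra R, a
Henselization H of the pair (R, IR) and a surjective A-algebra map H → B whose kernel is a finitely
generated ideal contained in I^n H for every n. -/
theorem result (A : Type u) [CommRing A] (I : Ideal A)
    [HenselianRing A I] (R₀ : Type u) [CommRing R₀] [Algebra A R₀] [Algebra.FinitePresentation A R₀]
    (B : Type u) [CommRing B] [Algebra R₀ B] [Algebra A B] [IsScalarTower A R₀ B]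
    (hB : Hens2.IsPairHenselization R₀ (I.map (algebraMap A R₀)) B)
    (het : ∀ r : ℕ, 1 ≤ r → Algebra.Smooth (A ⧸ I ^ r) (B ⧸ (I ^ r).map (algebraMap A B))) :
    ∃ (R : Type u) (_ : CommRing R) (_ : Algebra A R) (H : Type u) (_ : CommRing H) (_ : Algebra R H)
      (_ : Algebra A H) (_ : IsScalarTower A R H),
      Algebra.Smooth A R ∧ Hens2.IsPairHenselization R (I.map (algebraMap A R)) H ∧
      ∃ φ : H →ₐ[A] B, Function.Surjective φ ∧ (RingHom.ker φ).FG ∧
        ∀ n : ℕ, RingHom.ker φ ≤ (I ^ n).map (algebraMap A H) := by
  haveI : Algebra.Smooth (A ⧸ I) (B ⧸ I.map (algebraMap A B)) := by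
    have := het 1 le_rfl
    rwa [pow_one] at this
  obtain ⟨R, _, _, hR, ⟨e⟩⟩ := Groth.Agent.S6827.result (A₀ := B ⧸ I.map (algebraMap A B)) I
  let M := I.map (algebraMap A R)
  obtain ⟨H, _, _, hH⟩ : ∃ (H : Type u) (_ : CommRing H) (_ : Algebra R H), Hens2.IsPairHenselization R M H :=
    ⟨PairHensLib.PH R M, inferInstance, inferInstance, PairHensLib.isPairHenselization_PH R M⟩
  letI : Algebra A H := ((algebraMap R H).comp (algebraMap A R)).toAlgebra
  haveI : IsScalarTower A R H := IsScalarTower.of_algebraMap_eq' rfl
  haveI := hR
  have hb := PairHensLib.quotientMap_bijective hH 1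
  rw [pow_one] at hb
  let e₁ : (R ⧸ M) ≃+* H ⧸ I.map (algebraMap A H) :=
    (RingEquiv.ofBijective _ hb).trans (Ideal.quotEquivOfEq (PairHensLib.map_map_eq I))
  let e' : (R ⧸ M) ≃ₐ[A] H ⧸ I.map (algebraMap A H) := AlgEquiv.ofRingEquiv (f := e₁) fun a => rfl
  exact ⟨R, inferInstance, inferInstance, H, inferInstance, inferInstance, inferInstance, inferInstance, hR, hH,
    PairHensLib.exists_smooth_surjection hB het hH (e'.symm.trans (e.restrictScalars A))⟩

end Groth.Agent.S17599
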