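import Groth.Statements.S17605
import Groth.Agent.PairHensLib.HEtale
-- import your own Groth.Agent.* helpers here

set_option autoImplicit false
universe u
open Hensel

namespace Groth.Agent.S17605

/-- Let A be a ring with an ideal I and let f₁, f₂ be elements of A such that D(f₂) ∩ V(I) ⊆ D(f₁) ∩
V(I) in Spec A. If H₁ is a Henselization of the pair (A_{f₁}, IA_{f₁}) and H₂ a Henselization of the
pair (A_{f₂}, IA_{f₂}), with their induced A-algebra structures, then there is exactly one A-algebra
map H₁ → H₂. -/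
theorem result (A : Type u) [CommRing A]
    (I : Ideal A) (f₁ f₂ : A)
    (h : (PrimeSpectrum.basicOpen f₂ : Set (PrimeSpectrum A)) ∩ PrimeSpectrum.zeroLocus (I : Set A) ⊆
      (PrimeSpectrum.basicOpen f₁ : Set (PrimeSpectrum A)) ∩ PrimeSpectrum.zeroLocus (I : Set A))
    (H₁ : Type u) [CommRing H₁] [Algebra (Localization.Away f₁) H₁] [Algebra A H₁]
    [IsScalarTower A (Localization.Away f₁) H₁]
    (hH₁ : Hens2.IsPairHenselization (Localization.Away f₁)
      (I.map (algebraMap A (Localization.Away f₁))) H₁)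
    (H₂ : Type u) [CommRing H₂] [Algebra (Localization.Away f₂) H₂] [Algebra A H₂]
    [IsScalarTower A (Localization.Away f₂) H₂]
    (hH₂ : Hens2.IsPairHenselization (Localization.Away f₂)
      (I.map (algebraMap A (Localization.Away f₂))) H₂) :
    Nonempty (H₁ →ₐ[A] H₂) ∧ Subsingleton (H₁ →ₐ[A] H₂) := by
  haveI := PairHensLib.henselianRing_tower hH₂
  set J := I.map (algebraMap A H₂)
  have hu : IsUnit (algebraMap A H₂ f₁) := by
    by_contra hn
    obtain ⟨m, hm, hfm⟩ := exists_max_ideal_of_mem_nonunits hn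
    have hJm : J ≤ m := (HenselianRing.jac (I := J)).trans (sInf_le ⟨bot_le, hm⟩)
    let p : PrimeSpectrum A := ⟨m.comap (algebraMap A H₂), Ideal.comap_isPrime _ m⟩
    have hp : p ∈ (PrimeSpectrum.basicOpen f₂ : Set (PrimeSpectrum A)) ∩ PrimeSpectrum.zeroLocus (I : Set A) := by
      refine ⟨fun hf => hm.ne_top (Ideal.eq_top_of_isUnit_mem _ hf ?_), fun x hx => hJm (Ideal.mem_map_of_mem _ hx)⟩
      rw [IsScalarTower.algebraMap_apply A (Localization.Away f₂) H₂]
      exact (IsLocalization.Away.algebraMap_isUnit f₂).map _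
    exact (h hp).1 hfm
  let u : Localization.Away f₁ →+* H₂ := IsLocalization.Away.lift f₁ hu
  have hle : (I.map (algebraMap A (Localization.Away f₁))).map u ≤ J := by
    rw [Ideal.map_map, IsLocalization.Away.lift_comp]
  obtain ⟨g, hg, hguniq⟩ := hH₁.2 H₂ J u ‹_› hle
  have huA : u.comp (algebraMap A _) = algebraMap A H₂ := IsLocalization.Away.lift_comp f₁ hu
  refine ⟨⟨{ toRingHom := g, commutes' := fun a => ?_ }⟩, ⟨fun φ ψ => AlgHom.coe_ringHom_injective ?_⟩⟩
  · show g (algebraMap A H₁ a) = _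
    rw [IsScalarTower.algebraMap_apply A (Localization.Away f₁) H₁, ← RingHom.comp_apply, hg]
    exact RingHom.congr_fun huA a
  · have key : ∀ χ : H₁ →ₐ[A] H₂, (χ : H₁ →+* H₂) = g := fun χ => hguniq _ (by
      refine IsLocalization.ringHom_ext (Submonoid.powers f₁) ?_
      rw [huA, RingHom.comp_assoc, ← IsScalarTower.algebraMap_eq, χ.comp_algebraMap])
    rw [key, key]

end Groth.Agent.S17605
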