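import Groth.Statements.S17607
import Groth.Agent.PairHensLib.Hfp
import Groth.Agent.HenselLib.Perm
-- import your own Groth.Agent.* helpers here

set_option autoImplicit false
universe u
open Hensel

namespace Groth.Agent.S17607

/-- Let (A, I) and (B, IB) be Henselian pairs with B an A-algebra. Then the following are equivalent:
(i) A → B is Henselian finitely presented, i.e. there are n, a Henselization P of the pair
(A[X₁,…,Xₙ], I·A[X₁,…,Xₙ]) (a Henselized polynomial ring) and a surjective A-algebra map P → B with
finitely generated kernel; (ii) there are a finitely presented A-algebra R and an R-algebra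
structure on B compatible with that of A for which B is a Henselization of the pair (R, IR). -/
theorem result (A : Type u) [CommRing A] (I : Ideal A)
    [HenselianRing A I] (B : Type u) [CommRing B] [Algebra A B]
    [HenselianRing B (I.map (algebraMap A B))] :
    (∃ (n : ℕ) (P : Type u) (_ : CommRing P) (_ : Algebra (MvPolynomial (Fin n) A) P) (_ : Algebra A P)
        (_ : IsScalarTower A (MvPolynomial (Fin n) A) P),
        Hens2.IsPairHenselization (MvPolynomial (Fin n) A)
          (I.map (algebraMap A (MvPolynomial (Fin n) A))) P ∧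
        ∃ φ : P →ₐ[A] B, Function.Surjective φ ∧ (RingHom.ker φ).FG) ↔
    ∃ (R : Type u) (_ : CommRing R) (_ : Algebra A R) (_ : Algebra R B) (_ : IsScalarTower A R B),
      Algebra.FinitePresentation A R ∧ Hens2.IsPairHenselization R (I.map (algebraMap A R)) B := by
  classical
  constructor
  · rintro ⟨n, P, _, _, _, _, hP, φ, hφ, ⟨zs, hzs⟩⟩
    obtain ⟨U, _, _, _, ξ, hb, hξ⟩ := PairHensLib.exists_nbhd hP zs
    choose u hu using hξ
    letI : Algebra A U := ((algebraMap (MvPolynomial (Fin n) A) U).comp (algebraMap A _)).toAlgebra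
    haveI : IsScalarTower A (MvPolynomial (Fin n) A) U := IsScalarTower.of_algebraMap_eq' rfl
    haveI : Algebra.FinitePresentation A U := Algebra.FinitePresentation.trans A (MvPolynomial (Fin n) A) U
    letI : Algebra U P := ξ.toRingHom.toAlgebra
    haveI : IsScalarTower (MvPolynomial (Fin n) A) U P := IsScalarTower.of_algebraMap_eq fun a => (ξ.commutes a).symm
    have hP' := PairHensLib.isPairHenselization_nbhd hP (U := U) hb
    let K : Ideal U := Ideal.span (zs.attach.image fun z => u z.1 z.2 : Finset U)
    haveI : Algebra.FinitePresentation A (U ⧸ K) := Algebra.FinitePresentation.quotient ⟨_, rfl⟩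
    let μ : U →+* B := (φ : P →+* B).comp ξ.toRingHom
    have hμ : ∀ x ∈ K, μ x = 0 := fun x hx => by
      have hle : K ≤ RingHom.ker μ := Ideal.span_le.2 fun y hy => by
        obtain ⟨⟨z, hz⟩, -, rfl⟩ := Finset.mem_image.1 (Finset.mem_coe.1 hy)
        show φ (ξ (u z hz)) = 0
        rw [show ξ (u z hz) = z from hu z hz]
        exact RingHom.mem_ker.1 (hzs.le (Ideal.subset_span hz))
      exact hle hx
    letI : Algebra (U ⧸ K) B := (Ideal.Quotient.lift K μ hμ).toAlgebra
    have hAK : ∀ a, algebraMap A (U ⧸ K) a = Ideal.Quotient.mk K (algebraMap A U a) := fun a => rfl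
    haveI hT : IsScalarTower A (U ⧸ K) B := IsScalarTower.of_algebraMap_eq (R := A) (S := U ⧸ K) (A := B) fun a => by
      show algebraMap A B a = φ (ξ (algebraMap (MvPolynomial (Fin n) A) U (algebraMap A _ a)))
      rw [ξ.commutes, ← IsScalarTower.algebraMap_apply, φ.commutes]
    refine ⟨U ⧸ K, inferInstance, inferInstance, inferInstance, inferInstance, inferInstance, ?_, fun D _ J h hD hJ => ?_⟩
    · rw [Ideal.map_map, ← IsScalarTower.algebraMap_eq]; infer_instance
    have hJU : ((I.map (algebraMap A _)).map (algebraMap (MvPolynomial (Fin n) A) U)).map (h.comp (Ideal.Quotient.mk K)) ≤ J := by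
      rw [Ideal.map_map (algebraMap A _), ← IsScalarTower.algebraMap_eq, ← Ideal.map_map, Ideal.map_map (algebraMap A U)]
      exact hJ
    obtain ⟨g, hg, hguniq⟩ := hP'.2 D J (h.comp (Ideal.Quotient.mk K)) hD hJU
    have hker : RingHom.ker (φ : P →+* B) ≤ RingHom.ker g := by
      refine (show RingHom.ker (φ : P →+* B) ≤ Ideal.span (zs : Set P) from hzs.ge).trans (Ideal.span_le.2 fun z hz => ?_)
      show g z = 0
      rw [← hu z hz]
      show g (algebraMap U P (u z hz)) = 0
      rw [← RingHom.comp_apply g, hg]
      show h (Ideal.Quotient.mk K (u z hz)) = 0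
      rw [Ideal.Quotient.eq_zero_iff_mem.2 (Ideal.subset_span (Finset.mem_image.2 ⟨⟨z, hz⟩, Finset.mem_attach _ _, rfl⟩)),
        map_zero]
    let g' : B →+* D := RingHom.liftOfSurjective (φ : P →+* B) hφ ⟨g, hker⟩
    have hg' : ∀ p, g' (φ p) = g p := fun p => RingHom.liftOfSurjective_comp_apply (φ : P →+* B) hφ ⟨g, hker⟩ p
    refine ⟨g', Ideal.Quotient.ringHom_ext (RingHom.ext fun x => ?_), fun k (hk : k.comp _ = h) => RingHom.ext fun b => ?_⟩
    · show g' (φ (ξ x)) = h (Ideal.Quotient.mk K x)
      rw [hg']
      exact RingHom.congr_fun hg x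
    · obtain ⟨p, rfl⟩ := hφ b
      rw [hg']
      exact RingHom.congr_fun (hguniq (k.comp (φ : P →+* B)) (RingHom.ext fun x =>
        RingHom.congr_fun hk (Ideal.Quotient.mk K x))) p
  · rintro ⟨R, _, _, _, _, hfp, hB⟩
    obtain ⟨n, π, hπ, ⟨rels, hrels⟩⟩ := Algebra.FinitePresentation.out (R := A) (A := R)
    let M := MvPolynomial (Fin n) A
    obtain ⟨P, _, _, hP⟩ : ∃ (P : Type u) (_ : CommRing P) (_ : Algebra M P),
        Hens2.IsPairHenselization M (I.map (algebraMap A M)) P :=
      ⟨PairHensLib.PH M (I.map (algebraMap A M)), inferInstance, inferInstance, PairHensLib.isPairHenselization_PH M _⟩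
    letI : Algebra A P := ((algebraMap M P).comp (algebraMap A M)).toAlgebra
    haveI : IsScalarTower A M P := IsScalarTower.of_algebraMap_eq' rfl
    haveI hP1 : HenselianRing P (I.map (algebraMap A P)) := PairHensLib.henselianRing_tower hP
    let μ : M →+* B := (algebraMap R B).comp π.toRingHom
    have hμA : ∀ a, μ (algebraMap A M a) = algebraMap A B a := fun a => by
      show algebraMap R B (π (algebraMap A M a)) = _
      rw [π.commutes, ← IsScalarTower.algebraMap_apply]
    have hle : (I.map (algebraMap A M)).map μ ≤ I.map (algebraMap A B) := by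
      rw [Ideal.map_map, show μ.comp (algebraMap A M) = algebraMap A B from RingHom.ext hμA]
    obtain ⟨φ₀, hφ₀, -⟩ := hP.2 B _ μ inferInstance hle
    let φ : P →ₐ[A] B :=
      { toRingHom := φ₀
        commutes' := fun a => (RingHom.congr_fun hφ₀ (algebraMap A M a)).trans (hμA a) }
    let K : Ideal P := Ideal.span ((rels.image (algebraMap M P) : Finset P) : Set P)
    have hK : ∀ x ∈ K, φ x = 0 := fun x hx => by
      have hle : K ≤ RingHom.ker φ₀ := Ideal.span_le.2 fun y hy => by
        obtain ⟨r, hr, rfl⟩ := Finset.mem_image.1 (Finset.mem_coe.1 hy)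
        show φ₀ (algebraMap M P r) = 0
        rw [← RingHom.comp_apply φ₀, hφ₀]
        show algebraMap R B (π r) = 0
        rw [show π r = 0 from hrels.le (Ideal.subset_span hr), map_zero]
      exact hle hx
    -- the quotient is again a henselization of the algebra
    have hk : RingHom.ker π.toRingHom ≤ RingHom.ker ((Ideal.Quotient.mk K).comp (algebraMap M P)) := by
      refine (show RingHom.ker π.toRingHom ≤ Ideal.span (rels : Set M) from hrels.ge).trans (Ideal.span_le.2 fun r hr => ?_)
      exact Ideal.Quotient.eq_zero_iff_mem.2 (Ideal.subset_span (Finset.mem_image_of_mem _ hr))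
    let ψ : R →+* P ⧸ K := π.toRingHom.liftOfSurjective hπ ⟨(Ideal.Quotient.mk K).comp (algebraMap M P), hk⟩
    have hψ : ∀ m, ψ (π m) = Ideal.Quotient.mk K (algebraMap M P m) := fun m =>
      RingHom.liftOfSurjective_comp_apply π.toRingHom hπ _ m
    haveI hQ : HenselianRing (P ⧸ K) ((I.map (algebraMap A P)).map (Ideal.Quotient.mk K)) :=
      HenselLib.henselianRing_map_of_isIntegral
    have hψI : (I.map (algebraMap A R)).map ψ ≤ (I.map (algebraMap A P)).map (Ideal.Quotient.mk K) := by
      refine (Ideal.map_map _ _).le.trans (le_of_eq ?_)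
      rw [Ideal.map_map]
      refine congrArg (fun f => I.map f) (RingHom.ext fun a => ?_)
      show ψ (algebraMap A R a) = _
      rw [← π.commutes, hψ]
      rfl
    obtain ⟨g, hg, -⟩ := hB.2 (P ⧸ K) _ ψ hQ hψI
    let φb : P ⧸ K →+* B := Ideal.Quotient.lift K φ₀ hK
    have e1 : φb.comp g = RingHom.id B := by
      refine (hB.2 B _ (algebraMap R B) hB.1 le_rfl).unique (RingHom.ext fun r => ?_) (RingHom.id_comp _)
      obtain ⟨m, rfl⟩ := hπ r
      show φb (g (algebraMap R B (π m))) = _
      rw [← RingHom.comp_apply g, hg, hψ]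
      exact RingHom.congr_fun hφ₀ m
    have e2 : g.comp φ₀ = Ideal.Quotient.mk K := by
      have hle' : (I.map (algebraMap A M)).map ((Ideal.Quotient.mk K).comp (algebraMap M P)) ≤
          (I.map (algebraMap A P)).map (Ideal.Quotient.mk K) := by
        rw [Ideal.map_map, Ideal.map_map, RingHom.comp_assoc]; exact le_rfl
      refine (hP.2 (P ⧸ K) _ _ hQ hle').unique (RingHom.ext fun m => ?_) rfl
      show g (φ₀ (algebraMap M P m)) = _
      rw [← RingHom.comp_apply φ₀, hφ₀]
      show g (algebraMap R B (π m)) = _
      rw [← RingHom.comp_apply g, hg, hψ]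
      rfl
    refine ⟨n, P, inferInstance, inferInstance, inferInstance, inferInstance, hP, φ, fun b => ?_, ⟨rels.image (algebraMap M P), ?_⟩⟩
    · obtain ⟨p, hp⟩ := Ideal.Quotient.mk_surjective (g b)
      refine ⟨p, ?_⟩
      show φb (Ideal.Quotient.mk K p) = b
      rw [hp]
      exact RingHom.congr_fun e1 b
    · refine le_antisymm (fun x hx => hK x hx) fun x hx => ?_
      have := RingHom.congr_fun e2 x
      rw [RingHom.comp_apply, show φ₀ x = 0 from hx, map_zero] at this
      exact Ideal.Quotient.eq_zero_iff_mem.1 this.symm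

end Groth.Agent.S17607
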