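import Groth.Statements.S17614
import Groth.Agent.EtSliceLib.Basic
import Groth.Agent.EtZarStrictLib.Basic

set_option maxHeartbeats 1000000
set_option linter.unusedSectionVars false
set_option backward.isDefEq.respectTransparency false
set_option backward.isDefEq.respectTransparency.types false

set_option autoImplicit false
open CategoryTheory CategoryTheory.Limits AlgebraicGeometry Opposite
universe u
open EtZar

namespace Groth.Agent.S17614

open CategoryTheory.Abelian

variable (S : Scheme.{u}) [EtZar.ZarCont S]

theorem vanish (n : ℕ) : ∀ (G : EtCoh.Ab S),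
    (∀ (T : S.Etale), IsAffine T.left → ∀ i : ℕ, 1 ≤ i → ∀ x : Ext.{u + 1} (EtSliceLib.free T) G i, x = 0) →
    IsAffine S → Subsingleton (EtZar.H ((EtZar.resZar S).obj G) (n + 1)) := by
  induction n using Nat.strong_induction_on with
  | _ n ih =>
    intro G hG hS
    let ip := (EnoughInjectives.presentation G).some
    let Q := ShortComplex.mk ip.f (cokernel.π ip.f) (cokernel.condition _)
    have hQ : Q.ShortExact := { exact := ShortComplex.exact_of_g_is_cokernel _ (cokernelIsCokernel _) }
    haveI : Injective Q.X₂ := ip.injective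
    haveI := EtZarStrictLib.flat_zarToEt S
    let R := EtZar.resZar S
    let adj := (EtZar.zarToEt S).sheafAdjunctionContinuous AddCommGrpCat.{u + 1} (Opens.grothendieckTopology S)
      S.smallEtaleTopology
    haveI : R.IsRightAdjoint := adj.isRightAdjoint
    haveI : R.Additive := { }
    haveI : PreservesFiniteLimits R := inferInstance
    haveI : Injective (R.obj Q.X₂) := by
      haveI : PreservesFiniteLimits ((EtZar.zarToEt S).sheafPullback AddCommGrpCat.{u + 1}
          (Opens.grothendieckTopology S) S.smallEtaleTopology) :=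
        AnLib.sheafPullback_preservesFiniteLimits.{u + 1} _ _ _
      exact Injective.injective_of_adjoint adj Q.X₂
    have hsurj : ∀ (U : S.Opens), IsAffineOpen U → Function.Surjective ((R.map Q.g).hom.app (op U)) := by
      intro U hU y
      let T := (EtZar.zarToEt S).obj U
      obtain ⟨z, hz⟩ := Ext.covariant_sequence_exact₃ (EtSliceLib.free T) hQ (Ext.mk₀ (EtSliceLib.desc T y))
        (zero_add 1) (hG T hU 1 le_rfl _)
      obtain ⟨a, rfl⟩ := (Ext.mk₀_bijective _ _).2 z
      rw [Ext.mk₀_comp_mk₀] at hz
      refine ⟨a.hom.app (op T) (EtSliceLib.gen T), ?_⟩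
      have h := congrArg (fun c => c.hom.app (op T) (EtSliceLib.gen T)) ((Ext.mk₀_bijective _ _).1 hz)
      exact h.trans (EtSliceLib.desc_gen T y)
    haveI : Epi (R.map Q.g) := by
      suffices h : Sheaf.IsLocallySurjective (R.map Q.g) from Sheaf.epi_of_isLocallySurjective _
      refine ⟨fun {U} y => ?_⟩
      intro x hx
      obtain ⟨V, hV, hxV, hVU⟩ := exists_isAffineOpen_mem_and_subset (x := x) (U := U) hx
      exact ⟨V, homOfLE hVU, hsurj V hV _, hxV⟩
    haveI : Mono (R.map Q.f) := by
      haveI : Mono Q.f := hQ.mono_f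
      infer_instance
    haveI : Mono (Q.map R).f := ‹Mono (R.map Q.f)›
    haveI : Epi (Q.map R).g := ‹Epi (R.map Q.g)›
    have hR : (Q.map R).ShortExact :=
      { exact := by
          refine ShortComplex.exact_of_f_is_kernel _ ?_
          exact (KernelFork.isLimitMapConeEquiv _ R) (isLimitOfPreserves R hQ.fIsKernel) }
    haveI : Injective (Q.map R).X₂ := ‹Injective (R.obj Q.X₂)›
    refine ⟨fun a b => ?_⟩
    suffices h : ∀ x : EtZar.H (R.obj G) (n + 1), x = 0 by rw [h a, h b]
    intro x
    obtain ⟨y, rfl⟩ := Ext.covariant_sequence_exact₁ _ hR (n₁ := n + 1) x (Ext.eq_zero_of_injective _) (n₀ := n) rfl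
    rcases n with _ | n
    · obtain ⟨f, rfl⟩ := (Ext.mk₀_bijective _ _).2 y
      let hT : IsTerminal (⊤ : S.Opens) := IsTerminal.ofUniqueHom (fun _ => homOfLE le_top) fun _ _ => Subsingleton.elim _ _
      let e := fun M : EtZar.Ab S => BigEtLib.homEquivTop (Opens.grothendieckTopology S) hT M
      obtain ⟨a, ha⟩ := hsurj ⊤ (isAffineOpen_top S) (e _ f)
      obtain ⟨f', hf'⟩ := (e (R.obj Q.X₂)).surjective a
      have hf : f = f' ≫ R.map Q.g := (e _).injective (by
        rw [BigEtLib.homEquivTop_comp, hf']
        exact ha.symm)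
      rw [hf, ← Ext.mk₀_comp_mk₀, Ext.comp_assoc_of_second_deg_zero]
      exact (congrArg (fun c => (Ext.mk₀ f').comp c (zero_add 1)) hR.comp_extClass).trans (Ext.comp_zero ..)
    · haveI := ih n (Nat.lt_succ_self n) Q.X₃ (fun T hT i hi z => by
        obtain ⟨w, hw⟩ := Ext.covariant_sequence_exact₃ (EtSliceLib.free T) hQ z rfl (hG T hT (i + 1) (by omega) _)
        obtain ⟨k, rfl⟩ : ∃ k, i = k + 1 := ⟨i - 1, by omega⟩
        rw [← hw, Ext.eq_zero_of_injective w, Ext.zero_comp]) hS
      rw [Subsingleton.elim (α := EtZar.H (R.obj Q.X₃) (n + 1)) y 0]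
      exact Ext.zero_comp ..

/-- Suppose S is an affine scheme, and G denotes a sheaf of abelian groups on the small étale site of S.
If for every affine scheme T étale over S and every i ≥ 1 the étale cohomology group H^i(T, G|_T)
vanishes, then the Zariski cohomology groups H^i(S, G|_{S_Zar}) of the restriction of G to the site
of opens of S vanish for every i ≥ 1. (Continuity of the opens-to-étale-schemes functor is carried
as an instance binder.) -/
theorem result (S : Scheme.{u}) [IsAffine S]
    [EtZar.ZarCont S] (G : EtCoh.Ab S)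
    (hG : ∀ (T : S.Etale), IsAffine T.left → ∀ i : ℕ, 1 ≤ i →
      Subsingleton (EtCoh.H T.left ((EtCoh.pull T.hom).obj G) i))
    (i : ℕ) (hi : 1 ≤ i) :
    Subsingleton (EtZar.H ((EtZar.resZar S).obj G) i) := by
  obtain ⟨n, rfl⟩ : ∃ n, i = n + 1 := ⟨i - 1, by omega⟩
  refine vanish S n G (fun T hT j hj x => ?_) ‹_›
  haveI := hG T hT j hj
  exact (EtSliceLib.psi_bijective T j G).1 (Subsingleton.elim _ _)

end Groth.Agent.S17614
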