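import Groth.Statements.S17617
import Groth.Agent.PairHensLib.Flat
-- import your own Groth.Agent.* helpers here

set_option autoImplicit false
universe u
open Hensel

namespace Groth.Agent.S17617

/-- Let (A, I) be a Henselian pair and let M' → M → M'' be A-linear maps with zero composite. Then M' →
M → M'' is exact if and only if for every prime ideal p of A containing I and every Henselization H
of the pair (A_p, IA_p), the sequence H ⊗_A M' → H ⊗_A M → H ⊗_A M'' is exact. (The modules H ⊗_A M
are the stalks at p of the sheaf associated to M on the affine Henselian scheme of (A, I), and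
exactness of a sequence of such sheaves is exactness at every stalk, so this is the statement that
the sequence of modules is exact exactly when the associated sequence of sheaves is.) -/
theorem result (A : Type u) [CommRing A]
    (I : Ideal A) [HenselianRing A I]
    (M' M M'' : Type u) [AddCommGroup M'] [Module A M'] [AddCommGroup M] [Module A M]
    [AddCommGroup M''] [Module A M''] (f : M' →ₗ[A] M) (g : M →ₗ[A] M'') (hfg : g.comp f = 0) :
    Function.Exact f g ↔
    ∀ (p : Ideal A) [p.IsPrime], I ≤ p →
      ∀ (H : Type u) [CommRing H] [Algebra (Localization.AtPrime p) H] [Algebra A H]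
        [IsScalarTower A (Localization.AtPrime p) H],
        Hens2.IsPairHenselization (Localization.AtPrime p)
          (I.map (algebraMap A (Localization.AtPrime p))) H →
        Function.Exact (f.baseChange H) (g.baseChange H) := by
  refine ⟨fun h p _ hIp H _ _ _ _ hH => ?_, fun h => ?_⟩
  · haveI := PairHensLib.flat_of_isPairHenselization hH
    haveI : Module.Flat A H := Module.Flat.trans A (Localization.AtPrime p) H
    exact Module.Flat.lTensor_exact H h
  let Z := LinearMap.ker g
  let f' : M' →ₗ[A] Z := f.codRestrict Z fun x => LinearMap.congr_fun hfg x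
  suffices hq : ∀ y : Z, y ∈ LinearMap.range f' by
    intro y
    refine ⟨fun hy => ?_, fun ⟨x, hx⟩ => hx ▸ LinearMap.congr_fun hfg x⟩
    obtain ⟨x, hx⟩ := hq ⟨y, hy⟩
    exact ⟨x, congrArg Subtype.val hx⟩
  suffices hsub : Subsingleton (Z ⧸ LinearMap.range f') from fun y =>
    (Submodule.Quotient.mk_eq_zero _).1 (Subsingleton.elim (Submodule.Quotient.mk y) 0)
  refine (Module.support_eq_empty_iff (R := A)).1 (Set.eq_empty_iff_forall_notMem.2 fun P hP => ?_)
  obtain ⟨m, hm, hPm⟩ := P.asIdeal.exists_le_maximal P.2.ne_top
  have hPm' : (⟨m, hm.isPrime⟩ : PrimeSpectrum A) ∈ Module.support A (Z ⧸ LinearMap.range f') :=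
    Module.mem_support_mono (show P ≤ ⟨m, hm.isPrime⟩ from hPm) hP
  have hIm : I ≤ m := (HenselianRing.jac (I := I)).trans (sInf_le ⟨bot_le, hm⟩)
  haveI := hm.isPrime
  let L := Localization.AtPrime m
  let J := I.map (algebraMap A L)
  obtain ⟨H, _, _, hH⟩ : ∃ (H : Type u) (_ : CommRing H) (_ : Algebra L H), Hens2.IsPairHenselization L J H :=
    ⟨PairHensLib.PH L J, inferInstance, inferInstance, PairHensLib.isPairHenselization_PH L J⟩
  letI : Algebra A H := ((algebraMap L H).comp (algebraMap A L)).toAlgebra
  haveI : IsScalarTower A L H := IsScalarTower.of_algebraMap_eq' rfl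
  haveI := PairHensLib.flat_of_isPairHenselization hH
  haveI : Module.Flat A H := Module.Flat.trans A L H
  haveI : Module.FaithfullyFlat L H := by
    refine ⟨fun {𝔪} h𝔪 htop => ?_⟩
    obtain rfl := IsLocalRing.eq_maximalIdeal h𝔪
    have hb := PairHensLib.quotientMap_bijective hH 1
    rw [pow_one] at hb
    have hJ : J ≤ IsLocalRing.maximalIdeal L := Ideal.map_le_iff_le_comap.2 fun a ha => by
      rw [Ideal.mem_comap, IsLocalization.AtPrime.to_map_mem_maximal_iff L m]
      exact hIm ha
    have hmap : (IsLocalRing.maximalIdeal L).map (algebraMap L H) = ⊤ := by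
      rw [Ideal.smul_top_eq_map] at htop
      exact (Submodule.restrictScalars_eq_top_iff _ _ _).1 htop
    have h2 : ((IsLocalRing.maximalIdeal L).map (Ideal.Quotient.mk J)).map
        (Ideal.quotientMap (J.map (algebraMap L H)) (algebraMap L H) Ideal.le_comap_map) = ⊤ := by
      rw [Ideal.map_map (Ideal.Quotient.mk J), Ideal.quotientMap_comp_mk,
        ← Ideal.map_map (algebraMap L H) (Ideal.Quotient.mk (J.map (algebraMap L H))), hmap, Ideal.map_top]
    have h3 := congrArg (Ideal.comap (Ideal.quotientMap (J.map (algebraMap L H)) (algebraMap L H) Ideal.le_comap_map)) h2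
    rw [Ideal.comap_map_of_bijective _ hb, Ideal.comap_top] at h3
    have h4 := congrArg (Ideal.comap (Ideal.Quotient.mk J)) h3
    rw [Ideal.comap_map_of_surjective _ Ideal.Quotient.mk_surjective, ← RingHom.ker_eq_comap_bot, Ideal.mk_ker,
      sup_eq_left.2 hJ, Ideal.comap_top] at h4
    exact (IsLocalRing.maximalIdeal.isMaximal L).ne_top h4
  have hex := h m hIm H hH
  have hsurj : Function.Surjective (f'.baseChange H) := by
    intro z
    have hι : Function.Injective (Z.subtype.baseChange H) :=
      Module.Flat.lTensor_preserves_injective_linearMap _ Z.injective_subtype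
    have hc0 : g.baseChange H (Z.subtype.baseChange H z) = 0 := by
      rw [← LinearMap.comp_apply, ← LinearMap.baseChange_comp,
        show g.comp Z.subtype = 0 from LinearMap.ext fun x => x.2, LinearMap.baseChange_zero, LinearMap.zero_apply]
    obtain ⟨w, hw⟩ := (hex _).1 hc0
    refine ⟨w, hι ?_⟩
    rw [← LinearMap.comp_apply, ← LinearMap.baseChange_comp]
    exact hw
  haveI hs : Subsingleton (TensorProduct A H (Z ⧸ LinearMap.range f')) := by
    refine subsingleton_of_forall_eq 0 fun z => ?_
    obtain ⟨z', rfl⟩ := LinearMap.lTensor_surjective H (Submodule.mkQ_surjective _) z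
    obtain ⟨w, rfl⟩ := hsurj z'
    show ((LinearMap.range f').mkQ.lTensor H).comp (f'.lTensor H) w = 0
    rw [← LinearMap.lTensor_comp, LinearMap.range_mkQ_comp, LinearMap.lTensor_zero, LinearMap.zero_apply]
  haveI : Subsingleton (TensorProduct L H (TensorProduct A L (Z ⧸ LinearMap.range f'))) :=
    (TensorProduct.AlgebraTensorModule.cancelBaseChange A L L H (Z ⧸ LinearMap.range f')).toEquiv.subsingleton
  haveI : Subsingleton (TensorProduct A L (Z ⧸ LinearMap.range f')) := Module.FaithfullyFlat.lTensor_reflects_triviality L H _
  exact (Module.notMem_support_iff.2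
    ((IsLocalizedModule.iso m.primeCompl (TensorProduct.mk A L (Z ⧸ LinearMap.range f') 1)).toEquiv.subsingleton)) hPm'

end Groth.Agent.S17617
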