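import Groth.Statements.S17620
import Groth.Agent.PairHensLib.Flat
import Groth.Agent.HenselLib.Perm
-- import your own Groth.Agent.* helpers here

set_option autoImplicit false
universe u
open Hensel

namespace Groth.Agent.S17620

/-- Let R be a local ring and J an ideal of R contained in the maximal ideal, let H be a Henselization
of the pair (R, J) which is a local ring with local structure map R → H, and let S be a strict
Henselization of the local ring H. Then S, with its composite R-algebra structure, is a strict
Henselization of the local ring R. (This is the identification of the strict Henselization of the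
local ring of a scheme at a point with that of the local ring of its Henselization along a closed
subscheme through the point.) -/
theorem result
    (R : Type u) [CommRing R] [IsLocalRing R] (J : Ideal R) (hJ : J ≤ IsLocalRing.maximalIdeal R)
    (H : Type u) [CommRing H] [IsLocalRing H] [Algebra R H] [IsLocalHom (algebraMap R H)]
    (hH : Hens2.IsPairHenselization R J H)
    (S : Type u) [CommRing S] [IsLocalRing S] [Algebra H S] [IsLocalHom (algebraMap H S)]
    [Hensel.IsStrictHenselization H S]
    [Algebra R S] [IsScalarTower R H S] [IsLocalHom (algebraMap R S)] :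
    Hensel.IsStrictHenselization R S := by
  classical
  haveI := hH.1
  have hJH : J.map (algebraMap R H) ≤ IsLocalRing.maximalIdeal H :=
    Ideal.map_le_iff_le_comap.2 fun a ha => map_nonunit (algebraMap R H) a (hJ ha)
  -- elements of `H` are congruent to elements of `R`
  have hres : ∀ x : H, ∃ r : R, IsLocalRing.residue H x = IsLocalRing.residue H (algebraMap R H r) := fun x => by
    obtain ⟨r, hr⟩ := PairHensLib.exists_sub_mem_pow hH 1 x
    rw [pow_one] at hr
    refine ⟨r, Ideal.Quotient.eq.2 (?_ : x - algebraMap R H r ∈ IsLocalRing.maximalIdeal H)⟩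
    exact hJH hr
  let e : IsLocalRing.ResidueField R ≃+* IsLocalRing.ResidueField H :=
    RingEquiv.ofBijective (IsLocalRing.ResidueField.map (algebraMap R H)) ⟨RingHom.injective _, fun y => by
      obtain ⟨x, rfl⟩ := IsLocalRing.residue_surjective y
      obtain ⟨r, hr⟩ := hres x
      exact ⟨IsLocalRing.residue R r, hr.symm⟩⟩
  have hcomp : ∀ r, IsLocalRing.ResidueField.map (algebraMap H S) (e (IsLocalRing.residue R r)) =
      IsLocalRing.ResidueField.map (algebraMap R S) (IsLocalRing.residue R r) := fun r => by
    show IsLocalRing.residue S (algebraMap H S (algebraMap R H r)) = IsLocalRing.residue S (algebraMap R S r)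
    rw [← IsScalarTower.algebraMap_apply]
  refine ⟨Hensel.IsStrictHenselization.henselian (R := H) (S := S), ?_, ?_⟩
  rotate_left
  · intro T _ _ f _ τ hτ
    have hJT : J.map f ≤ IsLocalRing.maximalIdeal T :=
      Ideal.map_le_iff_le_comap.2 fun a ha => map_nonunit f a (hJ ha)
    haveI : HenselianRing T (J.map f) := HenselLib.henselianRing_of_le (J := IsLocalRing.maximalIdeal T) hJT
    obtain ⟨f', hf', hf'u⟩ := hH.2 T (J.map f) f ‹_› le_rfl
    haveI : IsLocalHom f' := ⟨fun x hx => by
      by_contra hxu
      obtain ⟨r, hr⟩ := PairHensLib.exists_sub_mem_pow hH 1 x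
      rw [pow_one] at hr
      have hrm : algebraMap R H r ∈ IsLocalRing.maximalIdeal H := by
        have hxm : x ∈ IsLocalRing.maximalIdeal H := hxu
        have := Ideal.sub_mem _ hxm (hJH hr)
        rwa [sub_sub_cancel] at this
      have hr' : r ∈ IsLocalRing.maximalIdeal R := fun hu => hrm (hu.map _)
      have hfr : f r ∈ IsLocalRing.maximalIdeal T := map_nonunit f r hr'
      have h2 : f' (x - algebraMap R H r) ∈ IsLocalRing.maximalIdeal T := by
        have h3 := Ideal.mem_map_of_mem f' hr
        rw [Ideal.map_map, hf'] at h3
        exact hJT h3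
      rw [map_sub, ← RingHom.comp_apply f', hf'] at h2
      have := Ideal.add_mem _ h2 hfr
      rw [sub_add_cancel] at this
      exact this hx⟩
    have hτ' : τ.comp (IsLocalRing.ResidueField.map (algebraMap H S)) = IsLocalRing.ResidueField.map f' := by
      refine RingHom.ext fun y => ?_
      obtain ⟨z, rfl⟩ := e.surjective y
      obtain ⟨r, rfl⟩ := IsLocalRing.residue_surjective z
      rw [RingHom.comp_apply, hcomp, ← RingHom.comp_apply τ, hτ]
      show IsLocalRing.residue T (f r) = IsLocalRing.residue T (f' (algebraMap R H r))
      rw [← RingHom.comp_apply f', hf']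
    obtain ⟨g, ⟨hg1, hg2⟩, hgu⟩ := Hensel.IsStrictHenselization.universal (R := H) (S := S) T f' τ hτ'
    refine ⟨g, ⟨?_, hg2⟩, fun g' ⟨h1, h2⟩ => hgu g' ⟨hf'u _ ?_, h2⟩⟩
    · rw [IsScalarTower.algebraMap_eq R H S, ← RingHom.comp_assoc, hg1, hf']
    · show (g'.comp (algebraMap H S)).comp (algebraMap R H) = f
      rw [RingHom.comp_assoc, ← IsScalarTower.algebraMap_eq, h1]
  · have hsep := Hensel.IsStrictHenselization.isSepClosure (R := H) (S := S)
    haveI := hsep.separable
    have he : (algebraMap (IsLocalRing.ResidueField R) (IsLocalRing.ResidueField S)).comp e.symm.toRingHom =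
        (RingEquiv.refl (IsLocalRing.ResidueField S)).toRingHom.comp
          (algebraMap (IsLocalRing.ResidueField H) (IsLocalRing.ResidueField S)) := by
      refine RingHom.ext fun y => ?_
      obtain ⟨z, rfl⟩ := e.surjective y
      obtain ⟨r, rfl⟩ := IsLocalRing.residue_surjective z
      show algebraMap _ _ (e.symm (e (IsLocalRing.residue R r))) = algebraMap _ _ (e (IsLocalRing.residue R r))
      rw [e.symm_apply_apply]
      exact (hcomp r).symm
    exact ⟨hsep.sep_closed, Algebra.IsSeparable.of_equiv_equiv e.symm (RingEquiv.refl _) he⟩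

end Groth.Agent.S17620
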