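import Groth.Statements.S17626
import Mathlib
import Groth.Agent.GrowthLib.Top
-- import your own Groth.Agent.* helpers here

set_option autoImplicit false
universe u
open CategoryTheory CategoryTheory.Limits AlgebraicGeometry
open Variety

namespace Groth.Agent.S17626

/-- Let X be an integral scheme, proper over an algebraically closed field k of characteristic zero and
admitting an ample invertible module, of dimension n ≥ 1 (stated in the source over the complex
numbers), and L an invertible O_X-module which is big, in the sense that its volume ĥ^0(X, L) =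
limsup_m dim_k H^0(X, L^{⊗m}) · n!/m^n is positive. Then ĥ^n(X, L) = 0. (The published statement
allows n = 0, where it fails: X is then a point, every L is big and ĥ^0(X, L) = 1; the printed
argument uses that L and its inverse cannot both be big, which needs n ≥ 1.) -/
theorem result (k : Type u) [Field k] [IsAlgClosed k] [CharZero k] (X : Scheme.{u})
    [X.Over (Spec (CommRingCat.of k))] [AlgebraicGeometry.IsIntegral X]
    [IsProper (X ↘ Spec (CommRingCat.of k))] (hproj : ∃ A : X.Modules, CohB1.IsAmple A)
    (n : ℕ) (hn : topologicalKrullDim X = n) (hn1 : 1 ≤ n)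
    (L : X.Modules) (hL : PicF.IsInvertible L) (hbig : 0 < W4c5asymptcohfn.hhat k X n 0 L) :
    W4c5asymptcohfn.hhat k X n n L = 0 := by
  haveI := CurvLib.isNoetherian k (X := X)
  haveI : X.IsSeparated := ⟨by
    rw [show Limits.terminal.from X = (X ↘ Spec (CommRingCat.of k)) ≫ Limits.terminal.from _ from Subsingleton.elim _ _]
    infer_instance⟩
  obtain ⟨A, hA⟩ := hproj
  letI := LMLib.law X
  obtain ⟨C, hC⟩ := GrowthLib.exists_bound_pow (k := k) hA hL (DevissLib.isCoh_structureModule X)
    ((topologicalKrullDim_subspace_le _ _).trans hn.le)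
  have hLbig : NumRLib.IsBigMod L := by
    refine GrowthLib.isBigMod_of_limsup_pos (k := k) hA hL hn ?_
    rw [GrowthLib.hhat_eq_nrm] at hbig
    have hC' : ∀ m, HodgeIdxLib.hh k (CohB1.tensorPow L m) 0 ≤ C * (m + 1) ^ n := fun m =>
      (le_of_eq (HodgeIdxLib.hh_congr (HilbPolyLib.unitLeft _) 0).symm).trans (hC 0 m)
    obtain ⟨b1, b2⟩ := GrowthLib.isBoundedUnder_nrm hC'
    obtain ⟨c, hc0, hc⟩ := exists_between hbig
    have hfr := Filter.frequently_lt_of_lt_limsup b2.isCoboundedUnder_le hc
    refine lt_of_lt_of_le (ENNReal.ofReal_pos.mpr (div_pos hc0 (show (0 : ℝ) < n.factorial by positivity))) ?_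
    refine Filter.le_limsup_of_frequently_le ((hfr.and_eventually (Filter.eventually_ge_atTop 1)).mono fun m h => ?_) (by isBoundedDefault)
    have hm0 : (0 : ℝ) < m := by exact_mod_cast h.2
    have h1 : c / n.factorial ≤ (HodgeIdxLib.hh k (CohB1.tensorPow L m) 0 : ℝ) / (m : ℝ) ^ n := by
      have h2 := h.1
      unfold GrowthLib.nrm at h2
      rw [lt_div_iff₀ (by positivity)] at h2
      rw [div_le_div_iff₀ (by positivity) (by positivity)]
      linarith
    refine le_trans (ENNReal.ofReal_le_ofReal h1) (le_of_eq ?_)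
    rw [ENNReal.ofReal_div_of_pos (by positivity), ENNReal.ofReal_natCast, ENNReal.ofReal_pow (Nat.cast_nonneg m),
      ENNReal.ofReal_natCast]
  obtain ⟨ν, φ, hν, hφ⟩ := hLbig A hA
  have hh0 : W4c5asymptcohfn.hhat k X n n (CohB1.tensorPow L ν) = 0 := by
    obtain ⟨N₀, hN₀⟩ := GrowthLib.exists_top_vanishing (k := k) hA hn1
    obtain ⟨B, hB⟩ := GrowthLib.exists_bound_pow (k := k) hA (AmpleThLib.tensorPow_isInvertible hL ν)
      (DevissLib.isCoh_structureModule X) ((topologicalKrullDim_subspace_le _ _).trans hn.le)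
    rw [GrowthLib.hhat_eq_nrm]
    refine (Filter.Tendsto.limsup_eq ?_)
    refine tendsto_const_nhds.congr' (Filter.eventually_atTop.mpr ⟨N₀, fun m hm => ?_⟩)
    obtain ⟨ψ, hψ⟩ := GrowthLib.exists_mono_pow hA.1 (AmpleThLib.tensorPow_isInvertible hL ν) φ m
    have h := GrowthLib.hh_top_le (k := k) hn (AmpleThLib.tensorPow_isInvertible hA.1 m)
      (AmpleThLib.tensorPow_isInvertible (AmpleThLib.tensorPow_isInvertible hL ν) m) ψ
    rw [hN₀ m hm] at h
    simp [GrowthLib.nrm, Nat.le_zero.mp h]
  rw [GrowthLib.hhat_pow (k := k) hA hL hn.le hν n] at hh0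
  rcases mul_eq_zero.mp hh0 with h | h
  · exact absurd h (pow_ne_zero _ (by exact_mod_cast hν.ne'))
  · exact h

end Groth.Agent.S17626
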