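import Groth.Statements.S17630
import Groth.Agent.CurvLib.Euler
import Mathlib.Algebra.BigOperators.Intervals
-- import your own Groth.Agent.* helpers here

set_option autoImplicit false
universe u
open CategoryTheory CategoryTheory.Limits AlgebraicGeometry
open Coherent

namespace Groth.Agent.S17630

/-- Let X be a scheme proper over a field k and 0 → C_0 → C_1 → C_2 → ⋯ an exact sequence of coherent
O_X-modules: the composite of consecutive maps is zero, the sequence is exact at every C_j with j ≥
1, and C_0 → C_1 is a monomorphism (the source numbers the sequence from C_{−1}; its argument and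
its application use that the first map is injective). Then for every i ≥ 0, |dim_k H^i(X, C_0) −
dim_k H^i(X, C_1)| ≤ Σ_{j=1}^{i+1} dim_k H^{i+1−j}(X, C_{j+1}) + Σ_{j=1}^{i} dim_k H^{i−j}(X,
C_{j+1}). (The published bound is 2 · Σ_{j=1}^{i+1} dim_k H^{i+1−j}(X, C_{j+1}); the argument given
yields the two sums here, and the published form fails for the sequence 0 → O(−3) → O(−1) → O_Z → 0
on the projective line, Z a subscheme of length 2, with i = 1: the left side is 2 and the published
right side is 0.) -/
theorem result (k : Type u) [Field k] (X : Scheme.{u})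
    [X.Over (Spec (CommRingCat.of k))] [IsProper (X ↘ Spec (CommRingCat.of k))]
    (C : ℕ → X.Modules) (hC : ∀ j, Coh.IsCoh (C j)) (d : ∀ j, C j ⟶ C (j + 1))
    (hd : ∀ j, d j ≫ d (j + 1) = 0) [Mono (d 0)]
    (hex : ∀ j, (ShortComplex.mk (d j) (d (j + 1)) (hd j)).Exact) (i : ℕ) :
    |(Module.finrank k (Coh.HH X (C 0) i) : ℤ) - (Module.finrank k (Coh.HH X (C 1) i) : ℤ)| ≤
      (Finset.Icc 1 (i + 1)).sum (fun j => ((Module.finrank k (Coh.HH X (C (j + 1)) (i + 1 - j))) : ℤ)) +
        (Finset.Icc 1 i).sum (fun j => ((Module.finrank k (Coh.HH X (C (j + 1)) (i - j))) : ℤ)) := by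
  let h : X.Modules → ℕ → ℕ := fun M p => Module.finrank k (Coh.HH X M p)
  have sE : ∀ j, (ShortComplex.mk (kernel.ι (d j)) (kernel.lift (d (j + 1)) (d j) (hd j))
      (by rw [← cancel_mono (kernel.ι (d (j + 1)))]; simp)).ShortExact := fun j => by
    haveI : Epi (kernel.lift (d (j + 1)) (d j) (hd j)) := (hex j).epi_kernelLift
    refine { exact := ?_ }
    let φ : ShortComplex.mk (kernel.ι (d j)) (kernel.lift (d (j + 1)) (d j) (hd j))
        (by rw [← cancel_mono (kernel.ι (d (j + 1)))]; simp) ⟶
        ShortComplex.mk (kernel.ι (d j)) (d j) (kernel.condition _) :=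
      { τ₁ := 𝟙 _, τ₂ := 𝟙 _, τ₃ := kernel.ι (d (j + 1)) }
    exact (ShortComplex.exact_iff_of_epi_of_isIso_of_mono φ).2
      (ShortComplex.exact_of_f_is_kernel _ (kernelIsKernel (d j)))
  have bnd : ∀ p j, Module.Finite k (Coh.HH X (kernel (d j)) p) ∧
      h (kernel (d j)) p ≤ ∑ l ∈ Finset.range (p + 1), h (C (j + l)) (p - l) := by
    intro p
    induction p with
    | zero =>
      intro j
      haveI := CurvLib.finite_HH (k := k) (hC j) 0
      have hi := CurvLib.injective₀ (k := k) (sE j)
      refine ⟨Module.Finite.of_injective _ hi, ?_⟩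
      rw [Finset.sum_range_one]
      exact LinearMap.finrank_le_finrank_of_injective hi
    | succ p ih =>
      intro j
      obtain ⟨hfin, hle⟩ := ih (j + 1)
      haveI := hfin
      haveI := CurvLib.finite_HH (k := k) (hC j) (p + 1)
      let f := CurvLib.hMap (k := k) (kernel.ι (d j)) (p + 1)
      have hker : LinearMap.range (CurvLib.hDel (k := k) (sE j) p) = LinearMap.ker f :=
        CurvLib.exact₁ (sE j) p
      haveI : Module.Finite k (LinearMap.ker f) :=
        Module.Finite.equiv (LinearEquiv.ofEq _ _ hker)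
      haveI : Module.Finite k (LinearMap.range f) := FiniteDimensional.finiteDimensional_submodule _
      haveI : Module.Finite k (Coh.HH X (kernel (d j)) (p + 1) ⧸ LinearMap.ker f) :=
        Module.Finite.equiv f.quotKerEquivRange.symm
      have hfin' : Module.Finite k (Coh.HH X (kernel (d j)) (p + 1)) :=
        Module.Finite.of_submodule_quotient (LinearMap.ker f)
      refine ⟨hfin', ?_⟩
      have h1 := f.finrank_range_add_finrank_ker
      have h2 := Submodule.finrank_le (LinearMap.range f)
      have h3 := LinearMap.finrank_range_le (CurvLib.hDel (k := k) (sE j) p)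
      rw [← hker] at h1
      rw [Finset.sum_range_succ']
      simp only [Nat.add_sub_add_right, Nat.sub_zero, Nat.add_zero]
      rw [Finset.sum_congr rfl fun l _ => by rw [show j + (l + 1) = j + 1 + l by omega]]
      dsimp only [h] at *
      omega
  have hs : ∀ n, (Finset.Icc 1 (n + 1)).sum (fun j => h (C (j + 1)) (n + 1 - j)) =
      ∑ l ∈ Finset.range (n + 1), h (C (2 + l)) (n - l) := fun n => by
    rw [← Finset.Ico_add_one_right_eq_Icc, Finset.sum_Ico_eq_sum_range]
    refine Finset.sum_congr (by simp) fun l _ => ?_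
    rw [show 1 + l + 1 = 2 + l by omega, show n + 1 - (1 + l) = n - l by omega]
  haveI : Epi (kernel.lift (d 2) (d 1) (hd 1)) := (hex 1).epi_kernelLift
  have w0 : d 0 ≫ kernel.lift (d 2) (d 1) (hd 1) = 0 := by
    rw [← cancel_mono (kernel.ι (d 2))]; simpa using hd 0
  have s0 : (ShortComplex.mk (d 0) (kernel.lift (d 2) (d 1) (hd 1)) w0).ShortExact := by
    refine { exact := ?_ }
    let φ : ShortComplex.mk (d 0) (kernel.lift (d 2) (d 1) (hd 1)) w0 ⟶
        ShortComplex.mk (d 0) (d 1) (hd 0) :=
      { τ₁ := 𝟙 _, τ₂ := 𝟙 _, τ₃ := kernel.ι (d 2) }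
    exact (ShortComplex.exact_iff_of_epi_of_isIso_of_mono φ).2 (hex 0)
  haveI : ∀ q, Module.Finite k (Coh.HH X (C 1) q) := CurvLib.finite_HH (hC 1)
  haveI : ∀ q, Module.Finite k (Coh.HH X (C 0) q) := CurvLib.finite_HH (hC 0)
  haveI : ∀ q, Module.Finite k (Coh.HH X (kernel (d 2)) q) := fun q => (bnd q 2).1
  have up : h (C 1) i ≤ h (C 0) i + ∑ l ∈ Finset.range (i + 1), h (C (2 + l)) (i - l) := by
    refine le_trans ?_ (Nat.add_le_add_left (bnd i 2).2 _)
    have h1 := (CurvLib.hMap (k := k) (kernel.lift (d 2) (d 1) (hd 1)) i).finrank_range_add_finrank_ker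
    have h2 := Submodule.finrank_le (LinearMap.range (CurvLib.hMap (k := k) (kernel.lift (d 2) (d 1) (hd 1)) i))
    have h3 := LinearMap.finrank_range_le (CurvLib.hMap (k := k) (d 0) i)
    have h4 : Module.finrank k (LinearMap.ker
        (CurvLib.hMap (k := k) (kernel.lift (d 2) (d 1) (hd 1)) i)) ≤ Module.finrank k (Coh.HH X (C 0) i) :=
      ((LinearEquiv.ofEq _ _ (CurvLib.exact₂ s0 i)).finrank_eq.symm.trans_le h3 :)
    dsimp only [h] at *
    omega
  have down : h (C 0) i ≤ h (C 1) i + (Finset.Icc 1 i).sum (fun j => h (C (j + 1)) (i - j)) := by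
    rcases i with _ | p
    · refine le_add_right ?_
      exact LinearMap.finrank_le_finrank_of_injective (CurvLib.injective₀ (k := k) s0)
    · rw [hs p]
      refine le_trans ?_ (Nat.add_le_add_left (bnd p 2).2 _)
      have h1 := (CurvLib.hMap (k := k) (d 0) (p + 1)).finrank_range_add_finrank_ker
      have h2 := Submodule.finrank_le (LinearMap.range (CurvLib.hMap (k := k) (d 0) (p + 1)))
      have h3 := LinearMap.finrank_range_le (CurvLib.hDel (k := k) s0 p)
      have h4 : Module.finrank k (LinearMap.ker (CurvLib.hMap (k := k) (d 0) (p + 1))) ≤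
          Module.finrank k (Coh.HH X (kernel (d 2)) p) :=
        ((LinearEquiv.ofEq _ _ (CurvLib.exact₁ s0 p)).finrank_eq.symm.trans_le h3 :)
      have h5 : Module.finrank k (LinearMap.range (CurvLib.hMap (k := k) (d 0) (p + 1))) ≤
          Module.finrank k (Coh.HH X (C 1) (p + 1)) := h2
      dsimp only [h, Nat.zero_add] at *
      omega
  rw [← hs i] at up
  dsimp only [h] at up down
  rw [← Nat.cast_sum, ← Nat.cast_sum, abs_le]
  constructor <;> omega

end Groth.Agent.S17630
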