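import Groth.Statements.S17632
import Mathlib
import Groth.Agent.GrowthLib.Lip
-- import your own Groth.Agent.* helpers here

set_option autoImplicit false
universe u
open CategoryTheory CategoryTheory.Limits AlgebraicGeometry
open Variety

namespace Groth.Agent.S17632

/-- Let X be an integral scheme, proper over an uncountable algebraically closed field k of
characteristic zero and admitting an ample invertible module, of dimension n (stated in the source
over the complex numbers), L an invertible O_X-module and A an ample invertible O_X-module with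
inverse A', i.e. A ⊗ A' ≅ O_X. Then for every i ≥ 0, (ĥ^i(X, L^{⊗p} ⊗ A') − ĥ^i(X, L^{⊗p})) / p^n
tends to 0 as p → ∞, where ĥ^i(X, M) = limsup_m dim_k H^i(X, M^{⊗m}) · n!/m^n. -/
theorem result (k : Type u) [Field k] [IsAlgClosed k] [CharZero k] [Uncountable k] (X : Scheme.{u})
    [X.Over (Spec (CommRingCat.of k))] [AlgebraicGeometry.IsIntegral X]
    [IsProper (X ↘ Spec (CommRingCat.of k))] (hproj : ∃ A : X.Modules, CohB1.IsAmple A)
    (n : ℕ) (hn : topologicalKrullDim X = n)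
    (L : X.Modules) (hL : PicF.IsInvertible L) (A A' : X.Modules) (hA : CohB1.IsAmple A)
    (hA' : ClSub.IsInverseOf A A') (i : ℕ) :
    Filter.Tendsto (fun p : ℕ =>
        (W4c5asymptcohfn.hhat k X n i (CohB1.tensorMod (CohB1.tensorPow L p) A') -
          W4c5asymptcohfn.hhat k X n i (CohB1.tensorPow L p)) / (p : ℝ) ^ n)
      Filter.atTop (nhds 0) := by
  haveI := CurvLib.isNoetherian k (X := X)
  letI := LMLib.law X
  obtain ⟨A₀, hA₀⟩ := hproj
  let Ls : Fin 2 → X.Modules := ![L, A]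
  obtain ⟨L', hL', eL⟩ := NumRLib.exists_inverse (k := k) hL
  let Ms : Fin 2 → X.Modules := ![L', A']
  have hLs : ∀ j, PicF.IsInvertible (Ls j) := by intro j; fin_cases j; exacts [hL, hA.1]
  have hMs : ∀ j, ClSub.IsInverseOf (Ls j) (Ms j) := by intro j; fin_cases j; exacts [eL, hA']
  have hAi : PicF.IsInvertible A' := hA'.elim fun e => IntMultLib.isInvertible_of_inverse hA.1 e
  have hMi : ∀ j, PicF.IsInvertible (Ms j) := by intro j; fin_cases j; exacts [hL', hAi]
  obtain ⟨C, hC0, hC⟩ := GrowthLib.exists_hhat_lip (k := k) hA₀ hn.le hLs hMs i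
  have hcong : ∀ P Q : X.Modules, Nonempty (P ≅ Q) →
      W4c5asymptcohfn.hhat k X n i P = W4c5asymptcohfn.hhat k X n i Q := fun P Q ⟨e⟩ => by
    rw [GrowthLib.hhat_eq_nrm, GrowthLib.hhat_eq_nrm]
    refine congrArg (fun f => Filter.limsup (GrowthLib.nrm n f) Filter.atTop) (funext fun m => ?_)
    have : Nonempty (CohB1.tensorPow P m ≅ CohB1.tensorPow Q m) := by
      induction m with
      | zero => exact ⟨Iso.refl _⟩
      | succ m ih => exact ih.elim fun e' => ⟨HilbPolyLib.congrLeft e' P ≪≫ HilbPolyLib.congrRight _ e⟩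
    exact this.elim fun e' => HodgeIdxLib.hh_congr e' i
  have e1 : ∀ p : ℕ, Nonempty (CohB1.tensorMod (CohB1.tensorPow L p) A' ≅
      W4c5asymptcohfn.ztwist X Ls Ms ![(p : ℤ), -1]) := fun p => by
    rw [← PicGrp.cls_eq_cls_iff (HilbPolyLib.isInvertible_tensor (AmpleThLib.tensorPow_isInvertible hL p) hAi)
      (GrowthLib.isInvertible_ztwist hLs hMi _), GrowthLib.cls_ztwist hLs hMi hMs,
      GrowthLib.cls_tensor (AmpleThLib.tensorPow_isInvertible hL p) hAi, GrowthLib.cls_tpow hL p, Fin.prod_univ_two]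
    simp only [Matrix.cons_val_zero, Matrix.cons_val_one, zpow_natCast, zpow_neg, zpow_one]
    congr 1
    exact (PicGrp.cls_inv_eq_cls hA.1 hAi hA').symm
  have e2 : ∀ p : ℕ, Nonempty (CohB1.tensorPow L p ≅ W4c5asymptcohfn.ztwist X Ls Ms ![(p : ℤ), 0]) := fun p => by
    rw [← PicGrp.cls_eq_cls_iff (AmpleThLib.tensorPow_isInvertible hL p)
      (GrowthLib.isInvertible_ztwist hLs hMi _), GrowthLib.cls_ztwist hLs hMi hMs,
      GrowthLib.cls_tpow hL p, Fin.prod_univ_two]
    simp only [Matrix.cons_val_zero, Matrix.cons_val_one, zpow_natCast, zpow_zero, mul_one]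
    rfl
  have key : ∀ p : ℕ, 1 ≤ p → |W4c5asymptcohfn.hhat k X n i (CohB1.tensorMod (CohB1.tensorPow L p) A') -
      W4c5asymptcohfn.hhat k X n i (CohB1.tensorPow L p)| / (p : ℝ) ^ n ≤ C / p := fun p hp => by
    rw [hcong _ _ (e1 p), hcong _ _ (e2 p)]
    obtain ⟨h, h0⟩ := hC ![(p : ℤ), -1] ![(p : ℤ), 0]
    have hp0 : (0 : ℝ) < p := by exact_mod_cast hp
    rcases Nat.eq_zero_or_pos n with rfl | hpos
    · rw [h0 rfl, sub_self, abs_zero, zero_div]; positivity
    have n1 : ∀ t : ℤ, |(t : ℝ)| ≤ p → ‖(fun j => ((![(p : ℤ), t] j : ℤ) : ℝ))‖ ≤ (p : ℝ) := fun t ht => by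
      refine (pi_norm_le_iff_of_nonneg hp0.le).mpr fun j => ?_
      fin_cases j <;> simp [ht]
    have n2 : ‖(fun j => ((![(p : ℤ), -1] j - ![(p : ℤ), 0] j : ℤ) : ℝ))‖ ≤ 1 := by
      refine (pi_norm_le_iff_of_nonneg zero_le_one).mpr fun j => ?_
      fin_cases j <;> simp
    have h1 : max ‖(fun j => ((![(p : ℤ), -1] j : ℤ) : ℝ))‖ ‖(fun j => ((![(p : ℤ), 0] j : ℤ) : ℝ))‖ ≤ (p : ℝ) :=
      max_le (n1 (-1) (by simpa using hp)) (n1 0 (by simp))
    rw [div_le_div_iff₀ (by positivity) hp0]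
    refine (mul_le_mul_of_nonneg_right (h.trans (mul_le_mul_of_nonneg_left
      (mul_le_mul (pow_le_pow_left₀ (le_max_of_le_left (norm_nonneg _)) h1 _) n2 (norm_nonneg _) (by positivity)) hC0)) hp0.le).trans
      (le_of_eq ?_)
    rw [mul_one, _root_.mul_assoc, ← pow_succ, Nat.sub_add_cancel hpos]
  refine squeeze_zero_norm' (Filter.eventually_atTop.mpr ⟨1, fun p hp => ?_⟩) (tendsto_const_div_atTop_nhds_zero_nat C)
  rw [Real.norm_eq_abs, abs_div, abs_of_nonneg (show (0 : ℝ) ≤ (p : ℝ) ^ n by positivity)]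
  exact key p hp

end Groth.Agent.S17632
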