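import Groth.Statements.S17634
import Mathlib
import Groth.Agent.GrowthLib.Lip
-- import your own Groth.Agent.* helpers here

set_option autoImplicit false
universe u
open CategoryTheory CategoryTheory.Limits AlgebraicGeometry
open Variety

namespace Groth.Agent.S17634

/-- Let X be an integral scheme, proper over an uncountable algebraically closed field k of
characteristic zero and admitting an ample invertible module, of dimension n (stated in the source
over the complex numbers), and L_1, …, L_r invertible O_X-modules with inverses M_1, …, M_r; for a ∈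
ℤ^r write L^a = ⊗_j L_j^{a_j} (negative powers through the M_j) and ‖a‖ = max_j |a_j|. Then for
every i there is a constant C with ĥ^i(X, L^a) ≤ C · ‖a‖^n for all a ∈ ℤ^r, where ĥ^i(X, L) =
limsup_m dim_k H^i(X, L^{⊗m}) · n!/m^n. (The source states the bound for all real classes in the
Néron–Severi space with any fixed norm.) -/
theorem result (k : Type u) [Field k] [IsAlgClosed k] [CharZero k] [Uncountable k] (X : Scheme.{u})
    [X.Over (Spec (CommRingCat.of k))] [AlgebraicGeometry.IsIntegral X]
    [IsProper (X ↘ Spec (CommRingCat.of k))] (hproj : ∃ A : X.Modules, CohB1.IsAmple A)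
    (n : ℕ) (hn : topologicalKrullDim X = n)
    (r : ℕ) (L M : Fin r → X.Modules) (hL : ∀ j, PicF.IsInvertible (L j))
    (hM : ∀ j, ClSub.IsInverseOf (L j) (M j)) (i : ℕ) :
    ∃ C : ℝ, ∀ a : Fin r → ℤ,
      W4c5asymptcohfn.hhat k X n i (W4c5asymptcohfn.ztwist X L M a) ≤
        C * ‖(fun j => ((a j : ℤ) : ℝ))‖ ^ n := by
  haveI := CurvLib.isNoetherian k (X := X)
  letI := LMLib.law X
  obtain ⟨A, hA⟩ := hproj
  obtain ⟨C, hC0, hC⟩ := GrowthLib.exists_hhat_lip (k := k) hA hn.le hL hM i
  rcases Nat.eq_zero_or_pos n with rfl | hpos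
  · refine ⟨W4c5asymptcohfn.hhat k X 0 i (W4c5asymptcohfn.ztwist X L M 0), fun a => ?_⟩
    rw [pow_zero, mul_one]
    exact ((hC a 0).2 rfl).le
  refine ⟨C, fun a => ?_⟩
  have hMi : ∀ j, PicF.IsInvertible (M j) := fun j => (hM j).elim fun e => IntMultLib.isInvertible_of_inverse (hL j) e
  have e0 : Nonempty (W4c5asymptcohfn.ztwist X L M 0 ≅ Coh.structureModule X) := by
    rw [← PicGrp.cls_eq_cls_iff (GrowthLib.isInvertible_ztwist hL hMi 0) CurvLib.isInvertible_structureModule,
      GrowthLib.cls_ztwist hL hMi hM]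
    refine Eq.trans ?_ PicGrp.cls_structureModule_eq_one.symm
    exact Finset.prod_eq_one fun j _ => zpow_zero _
  have h := (hC a 0).1
  rw [GrowthLib.hhat_trivial (k := k) e0 hpos, sub_zero] at h
  refine (le_abs_self _).trans (h.trans (le_of_eq ?_))
  have hz : (fun j => (((0 : Fin r → ℤ) j : ℤ) : ℝ)) = 0 := funext fun j => by simp
  simp only [Pi.zero_apply, sub_zero, Int.cast_zero]
  rw [show (fun _ : Fin r => (0 : ℝ)) = 0 from rfl, norm_zero, max_eq_left (norm_nonneg _), ← pow_succ,
    Nat.sub_add_cancel hpos]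

end Groth.Agent.S17634
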