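import Groth.Statements.S17635
import Mathlib.Analysis.Normed.Group.Constructions
import Mathlib.Analysis.Normed.Module.Basic
import Mathlib.Analysis.Real.Sqrt
import Mathlib.Algebra.Order.BigOperators.Ring.Finset
import Mathlib.Data.Rat.Lemmas
import Mathlib.Tactic.Positivity
import Mathlib.Tactic.Ring
-- import your own Groth.Agent.* helpers here

set_option autoImplicit false
open Finset
open Variety

namespace Groth.Agent.S17635

/-- Let r and n be natural numbers and f : ℚ^r → ℝ a nonnegative function which is homogeneous of degree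
n for positive rational scalars, f(q · v) = q^n · f(v) for q > 0; give ℚ^r the maximum norm ‖v‖ =
max_j |v_j| of its standard basis. Suppose that for every standard basis vector e_i there is a
constant C_i with |f(v − b · e_i) − f(v)| ≤ C_i · Σ_{q=1}^{n} ‖v‖^{n−q} · b^q for all v ∈ ℚ^r and
all integers b ≥ 1. Then there is a constant C > 0 such that |f(v) − f(w)| ≤ C · Σ_{q=1}^{n}
max(‖v‖, ‖w‖)^{n−q} · ‖v − w‖^q for all v, w ∈ ℚ^r. (The source allows any norm on an r-dimensional
rational vector space with a chosen basis and argues with the maximum norm of that basis, which is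
the case stated here.) -/
theorem result (r n : ℕ) (f : (Fin r → ℚ) → ℝ)
    (hf0 : ∀ v, 0 ≤ f v)
    (hhom : ∀ (q : ℚ) (v : Fin r → ℚ), 0 < q → f (q • v) = (q : ℝ) ^ n * f v)
    (hdir : ∀ i : Fin r, ∃ Ci : ℝ, ∀ (v : Fin r → ℚ) (b : ℕ), 1 ≤ b →
      |f (v - (b : ℚ) • Pi.single i 1) - f v| ≤
        Ci * (Finset.Icc 1 n).sum (fun q => ‖(fun j => ((v j : ℚ) : ℝ))‖ ^ (n - q) * (b : ℝ) ^ q)) :
    ∃ C : ℝ, 0 < C ∧ ∀ v w : Fin r → ℚ,
      |f v - f w| ≤ C * (Finset.Icc 1 n).sum (fun q =>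
        (max ‖(fun j => ((v j : ℚ) : ℝ))‖ ‖(fun j => ((w j : ℚ) : ℝ))‖) ^ (n - q) *
          ‖(fun j => ((v j - w j : ℚ) : ℝ))‖ ^ q) := by
  classical
  choose Ci hCi using hdir
  let nr : (Fin r → ℚ) → ℝ := fun v => ‖(fun j => ((v j : ℚ) : ℝ))‖
  let S : ℝ → ℝ → ℝ := fun M d => (Finset.Icc 1 n).sum fun q => M ^ (n - q) * d ^ q
  have hS0 : ∀ M d : ℝ, 0 ≤ M → 0 ≤ d → 0 ≤ S M d := fun M d hM hd =>
    Finset.sum_nonneg fun q _ => mul_nonneg (pow_nonneg hM _) (pow_nonneg hd _)
  have hmono : ∀ M M' d d' : ℝ, 0 ≤ M → M ≤ M' → 0 ≤ d → d ≤ d' → S M d ≤ S M' d' :=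
    fun M M' d d' hM hMM hd hdd => Finset.sum_le_sum fun q _ =>
      mul_le_mul (pow_le_pow_left₀ hM hMM _) (pow_le_pow_left₀ hd hdd _) (pow_nonneg hd _)
        (pow_nonneg (hM.trans hMM) _)
  -- one coordinate step
  have hstep : ∀ (i : Fin r) (u u' : Fin r → ℚ) (z : ℤ) (M : ℝ), (∀ j, j ≠ i → u j = u' j) →
      u i - u' i = z → nr u ≤ M → nr u' ≤ M → |f u - f u'| ≤ |Ci i| * S M |(z : ℝ)| := by
    intro i u u' z M hne hz hu hu'
    rcases lt_trichotomy z 0 with hz0 | hz0 | hz0
    · have e : u = u' - ((z.natAbs : ℕ) : ℚ) • Pi.single i 1 := by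
        ext j
        by_cases hj : j = i
        · subst hj
          have : ((z.natAbs : ℕ) : ℚ) = -(z : ℚ) := by
            rw [Nat.cast_natAbs, abs_of_neg hz0, Int.cast_neg]
          simp [this, ← hz]
        · simp [hj, hne j hj]
      have := hCi i u' z.natAbs (Int.natAbs_pos.mpr hz0.ne)
      rw [← e] at this
      refine this.trans ?_
      have hb : ((z.natAbs : ℕ) : ℝ) = |(z : ℝ)| := by rw [Nat.cast_natAbs, Int.cast_abs]
      rw [hb]
      exact (mul_le_mul_of_nonneg_right (le_abs_self _) (hS0 _ _ (norm_nonneg _) (abs_nonneg _))).trans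
        (mul_le_mul_of_nonneg_left (hmono _ _ _ _ (norm_nonneg _) hu' (abs_nonneg _) le_rfl) (abs_nonneg _))
    · have e : u = u' := by
        ext j
        by_cases hj : j = i
        · subst hj
          rw [hz0, Int.cast_zero, sub_eq_zero] at hz
          exact hz
        · exact hne j hj
      rw [e, sub_self, abs_zero]
      exact mul_nonneg (abs_nonneg _) (hS0 _ _ ((norm_nonneg _).trans hu') (abs_nonneg _))
    · have e : u' = u - ((z.natAbs : ℕ) : ℚ) • Pi.single i 1 := by
        ext j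
        by_cases hj : j = i
        · subst hj
          have : ((z.natAbs : ℕ) : ℚ) = (z : ℚ) := by
            rw [Nat.cast_natAbs, abs_of_pos hz0]
          simp [this, ← hz]
        · simp [hj, hne j hj]
      have := hCi i u z.natAbs (Int.natAbs_pos.mpr hz0.ne')
      rw [← e, abs_sub_comm] at this
      refine this.trans ?_
      have hb : ((z.natAbs : ℕ) : ℝ) = |(z : ℝ)| := by rw [Nat.cast_natAbs, Int.cast_abs]
      rw [hb]
      exact (mul_le_mul_of_nonneg_right (le_abs_self _) (hS0 _ _ (norm_nonneg _) (abs_nonneg _))).trans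
        (mul_le_mul_of_nonneg_left (hmono _ _ _ _ (norm_nonneg _) hu (abs_nonneg _) le_rfl) (abs_nonneg _))
  -- integral vectors
  have hint : ∀ V W : Fin r → ℚ, (∀ j, ∃ z : ℤ, V j - W j = z) →
      |f V - f W| ≤ (∑ i, |Ci i|) * S (max (nr V) (nr W)) (nr fun j => V j - W j) := by
    intro V W hVW
    let u : ℕ → Fin r → ℚ := fun k j => if (j : ℕ) < k then W j else V j
    have hu0 : u 0 = V := funext fun j => by simp [u]
    have hur : u r = W := funext fun j => by simp [u]
    have hnu : ∀ k, nr (u k) ≤ max (nr V) (nr W) := fun k => by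
      refine (pi_norm_le_iff_of_nonneg (le_max_of_le_left (norm_nonneg _))).mpr fun j => ?_
      simp only [u]
      split_ifs
      · exact le_max_of_le_right (norm_le_pi_norm (fun j => ((W j : ℚ) : ℝ)) j)
      · exact le_max_of_le_left (norm_le_pi_norm (fun j => ((V j : ℚ) : ℝ)) j)
    have e := Finset.sum_range_sub' (fun k => f (u k)) r
    rw [hu0, hur] at e
    rw [← e, Finset.sum_mul, ← Fin.sum_univ_eq_sum_range (fun k => f (u k) - f (u (k + 1))) r]
    refine (Finset.abs_sum_le_sum_abs _ _).trans (Finset.sum_le_sum fun i _ => ?_)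
    obtain ⟨z, hz⟩ := hVW i
    refine (hstep i (u i) (u ((i : ℕ) + 1)) z _ (fun j hj => ?_) (by simp [u, hz]) (hnu _) (hnu _)).trans
      (mul_le_mul_of_nonneg_left (hmono _ _ _ _ (le_max_of_le_left (norm_nonneg _)) le_rfl (abs_nonneg _) ?_)
        (abs_nonneg _))
    · have : (j : ℕ) ≠ (i : ℕ) := fun h => hj (Fin.ext h)
      simp only [u, show ((j : ℕ) < (i : ℕ) + 1) ↔ (j : ℕ) < (i : ℕ) by omega]
    · have := norm_le_pi_norm (fun j => ((V j - W j : ℚ) : ℝ)) i
      rw [Real.norm_eq_abs, hz, Rat.cast_intCast] at this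
      exact this
  refine ⟨(∑ i, |Ci i|) + 1, add_pos_of_nonneg_of_pos (Finset.sum_nonneg fun i _ => abs_nonneg _) one_pos,
    fun v w => ?_⟩
  change |f v - f w| ≤ _ * S (max (nr v) (nr w)) (nr fun j => v j - w j)
  let N : ℕ := ∏ j, (v j - w j).den
  have hN : (0 : ℚ) < N := Nat.cast_pos.mpr (Finset.prod_pos fun j _ => (v j - w j).den_pos)
  have hN' : (0 : ℝ) < N := Nat.cast_pos.mpr (Finset.prod_pos fun j _ => (v j - w j).den_pos)
  have hnr : ∀ x : Fin r → ℚ, nr (fun j => (N : ℚ) * x j) = N * nr x := fun x => by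
    simp only [nr]
    have : (fun j => (((N : ℚ) * x j : ℚ) : ℝ)) = (N : ℝ) • fun j => ((x j : ℚ) : ℝ) := by
      ext j; simp
    rw [this, norm_smul, Real.norm_of_nonneg hN'.le]
  have h := hint (fun j => (N : ℚ) * v j) (fun j => (N : ℚ) * w j) fun j => by
    obtain ⟨m, hm⟩ : (v j - w j).den ∣ N := Finset.dvd_prod_of_mem _ (Finset.mem_univ j)
    refine ⟨(m : ℤ) * (v j - w j).num, ?_⟩
    rw [← mul_sub, hm, Nat.cast_mul, Int.cast_mul, ← Rat.mul_den_eq_num (v j - w j), Int.cast_natCast]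
    ring
  have hfv : ∀ x : Fin r → ℚ, f (fun j => (N : ℚ) * x j) = (N : ℝ) ^ n * f x := fun x => by
    have := hhom (N : ℚ) x hN
    rw [Rat.cast_natCast] at this
    exact this
  have e2 : (fun j => (N : ℚ) * v j - (N : ℚ) * w j) = fun j => (N : ℚ) * (v j - w j) :=
    funext fun j => (mul_sub _ _ _).symm
  rw [hfv, hfv, hnr, hnr, e2, hnr, ← mul_sub, abs_mul, abs_of_pos (pow_pos hN' n),
    ← mul_max_of_nonneg _ _ hN'.le] at h
  have hS : ∀ M d : ℝ, S ((N : ℝ) * M) ((N : ℝ) * d) = (N : ℝ) ^ n * S M d := fun M d => by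
    simp only [S, Finset.mul_sum]
    refine Finset.sum_congr rfl fun q hq => ?_
    rw [mul_pow, mul_pow, ← pow_sub_mul_pow (N : ℝ) (Finset.mem_Icc.mp hq).2]
    ring
  rw [hS, mul_left_comm] at h
  refine (le_of_mul_le_mul_left h (pow_pos hN' n)).trans ?_
  exact mul_le_mul_of_nonneg_right (le_add_of_nonneg_right zero_le_one)
    (hS0 _ _ (le_max_of_le_left (norm_nonneg _)) (norm_nonneg _))

end Groth.Agent.S17635
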