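import Groth.Statements.S17636
import Mathlib
import Groth.Agent.GrowthLib.BaseLocus
import Groth.Agent.GrowthLib.Asymp2
import Groth.Agent.BaseLocusLib.Basic
-- import your own Groth.Agent.* helpers here

set_option autoImplicit false
universe u
open CategoryTheory CategoryTheory.Limits AlgebraicGeometry
open Variety

namespace Groth.Agent.S17636

/-- Let X be an integral scheme, smooth and proper over an algebraically closed field k of
characteristic zero and admitting an ample invertible module, of dimension n (stated in the source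
over the complex numbers), and let L be an invertible O_X-module which is big — its volume ĥ^0(X, L)
= limsup_m dim_k H^0(X, L^{⊗m}) · n!/m^n is positive — and whose stable base locus, the set of
points of X at which every global section of every L^{⊗m}, m ≥ 1, vanishes, has dimension at most d.
Then ĥ^i(X, L) = limsup_m dim_k H^i(X, L^{⊗m}) · n!/m^n = 0 for every i > d. -/
theorem result (k : Type u) [Field k] [IsAlgClosed k] [CharZero k] (X : Scheme.{u})
    [X.Over (Spec (CommRingCat.of k))] [AlgebraicGeometry.IsIntegral X]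
    [IsProper (X ↘ Spec (CommRingCat.of k))] (hproj : ∃ A : X.Modules, CohB1.IsAmple A)
    (n : ℕ) (hn : topologicalKrullDim X = n)
    [Smooth (X ↘ Spec (CommRingCat.of k))]
    (L : X.Modules) (hL : PicF.IsInvertible L) (hbig : 0 < W4c5asymptcohfn.hhat k X n 0 L)
    (d : ℕ) (hd : topologicalKrullDim ↥(W4c5asymptcohfn.stableBaseLocus X L) ≤ (d : WithBot ℕ∞))
    (i : ℕ) (hi : d < i) :
    W4c5asymptcohfn.hhat k X n i L = 0 := by
  obtain ⟨A, hA⟩ := hproj
  haveI := CurvLib.isNoetherian k (X := X)
  obtain ⟨a, ha, hbs⟩ := BaseLocusLib.exists_sbs_eq_bs_mul (X := X) hL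
  have hbs1 := hbs 1 one_pos
  rw [one_mul] at hbs1
  have hd' : topologicalKrullDim (W4c5asymptcohfn.baseLocus X (CohB1.tensorPow L a)) ≤ (d : ℕ) := by
    refine le_trans (le_of_eq ?_) hd
    refine congrArg (fun S : Set X => topologicalKrullDim S) ?_
    refine Eq.trans (show W4c5asymptcohfn.baseLocus X (CohB1.tensorPow L a) = BaseLocusLib.SBs L from hbs1.symm) ?_
    ext x
    simp only [W4c5asymptcohfn.stableBaseLocus, Set.mem_iInter]
    exact ⟨fun h m => h (m + 1) m.succ_pos, fun h m hm => by
      obtain ⟨j, rfl⟩ : ∃ j, m = j + 1 := ⟨m - 1, by omega⟩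
      exact h j⟩
  have hLa := AmpleThLib.tensorPow_isInvertible hL a
  have h0 : W4c5asymptcohfn.hhat k X n i (CohB1.tensorPow L a) = 0 := by
    rw [GrowthLib.hhat_eq_nrm]
    have hdim : topologicalKrullDim (CohB1.support (Coh.structureModule X)) ≤ (n : ℕ) :=
      (topologicalKrullDim_subspace_le _ _).trans hn.le
    obtain ⟨C, hC⟩ := GrowthLib.exists_bound_baseLocus (k := k) hLa hd' n _
      (DevissLib.isCoh_structureModule X) hdim
    have e : ∀ m, Nonempty (CohB1.tensorMod (CohB1.tensorPow (CohB1.tensorPow L a) m) (Coh.structureModule X) ≅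
        CohB1.tensorPow (CohB1.tensorPow L a) m) := fun m => ⟨HilbPolyLib.swapIso _ _ ≪≫ HilbPolyLib.unitLeft _⟩
    refine (GrowthLib.tendsto_nrm_zero (C := C) fun m => ?_).limsup_eq
    show (m + 1) * HodgeIdxLib.hh k (CohB1.tensorPow (CohB1.tensorPow L a) m) i ≤ _
    rw [← HodgeIdxLib.hh_congr (e m).some i]
    rcases Nat.eq_zero_or_pos n with h | h
    · rw [GrowthLib.hh_eq_zero_of_dim (d := 0) (HilbPolyLib.isCoh_tensor (AmpleThLib.tensorPow_isInvertible hLa m)
        (DevissLib.isCoh_structureModule X)) (by
          rw [HilbPolyLib.support_tensor (AmpleThLib.tensorPow_isInvertible hLa m)]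
          subst h; exact hdim) (by omega)]
      simp
    · refine (Nat.mul_le_mul_left _ (hC i hi m)).trans (le_of_eq ?_)
      rw [mul_left_comm, ← pow_succ', Nat.sub_add_cancel h]
  have h1 := GrowthLib.hhat_pow (k := k) hA hL hn.le ha i
  rw [h0] at h1
  exact (mul_eq_zero.mp h1.symm).resolve_left (pow_ne_zero _ (Nat.cast_ne_zero.mpr (by omega)))

end Groth.Agent.S17636
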