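import Groth.Statements.S17637
import Mathlib
import Groth.Agent.NumTrivLib.Main
import Groth.Agent.NumTrivLib.Num
import Groth.Agent.GrowthLib.FieldBound
import Groth.Agent.S10965
import Groth.Agent.PnCohLib.Serre
-- import your own Groth.Agent.* helpers here

set_option autoImplicit false
universe u
open CategoryTheory CategoryTheory.Limits AlgebraicGeometry
open Variety

namespace Groth.Agent.S17637

/-- Let X be an integral scheme, proper over an algebraically closed field k of characteristic zero and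
admitting an ample invertible module (the published statement is over the complex numbers). Then
there is a very ample invertible O_X-module A — A ≅ i^*O(1) for an immersion i : X → P^N_k over k —
such that A ⊗ N is again very ample for every invertible O_X-module N which is numerically
equivalent to zero. (The published statement also provides one flat family over a quasi-projective
base whose fibres include every divisor of every |A ⊗ N|; that clause is not stated here.) -/
theorem result (k : Type u) [Field k] [IsAlgClosed k] [CharZero k] (X : Scheme.{u})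
    [X.Over (Spec (CommRingCat.of k))] [AlgebraicGeometry.IsIntegral X]
    [IsProper (X ↘ Spec (CommRingCat.of k))] (hproj : ∃ A : X.Modules, CohB1.IsAmple A) :
    ∃ A : X.Modules, PicF.IsInvertible A ∧
      RelAmple.IsRelVeryAmplePn (X ↘ Spec (CommRingCat.of k)) A ∧
      ∀ N : X.Modules, PicF.IsInvertible N → Pic13.IsNumEquivZero k X N →
        RelAmple.IsRelVeryAmplePn (X ↘ Spec (CommRingCat.of k)) (CohB1.tensorMod A N) := by
  obtain ⟨H, hH⟩ := hproj
  obtain ⟨n, i, hi, hib⟩ := NumTrivLib.exists_embedding (k := k) hH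
  haveI := hi
  haveI := CurvLib.isNoetherian k (X := X)
  obtain ⟨D, hD⟩ := HilbPolyLib.exists_dim_lt k (X := X)
  have hO : Coh.IsCoh (Coh.structureModule X) := DevissLib.isCoh_structureModule X
  obtain ⟨m, hm⟩ := ((NumTrivLib.good_all i hib D).2 _ hO ((topologicalKrullDim_subspace_le _ _).trans_lt hD)).reg
  let O' := Twist.twistProjSpace n k
  have hinv : ∀ d : ℤ, PicF.IsInvertible (KFlatLib.pb i (O' d)) := fun d =>
    AmpleDevLib.isInvertible_pb i (PicPnLib.twist_inv n k d)
  have hva : RelAmple.IsRelVeryAmplePn (X ↘ Spec (CommRingCat.of k)) (KFlatLib.pb i (O' 1)) := by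
    obtain ⟨N, j, hj, hjb, ⟨ej⟩⟩ := PnCohLib.isRelVeryAmplePn_twist (n := n) (R := k)
    haveI := hj
    exact ⟨N, i ≫ j, inferInstance, by rw [Category.assoc, hjb, hib],
      ⟨(Scheme.Modules.pullback i).mapIso ej ≪≫ (Scheme.Modules.pullbackComp i j).app _⟩⟩
  have key : ∀ N : X.Modules, NumTrivLib.NT k N → RelAmple.IsRelVeryAmplePn (X ↘ Spec (CommRingCat.of k))
      (CohB1.tensorMod (KFlatLib.pb i (O' 1)) (CohB1.tensorMod (KFlatLib.pb i (O' m)) N)) := by
    intro N hN
    have hinv' := HilbPolyLib.isInvertible_tensor (hinv m) hN.inv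
    have hreg := NumTrivLib.isMRegular_congr ((Coh.push i).mapIso
      (HilbPolyLib.swapIso N (Coh.structureModule X) ≪≫ HilbPolyLib.unitLeft N)) (hm N hN)
    obtain ⟨g⟩ := NumTrivLib.nonempty_tw_push i N m
    obtain ⟨-, M, s, hs⟩ := GrowthLib.fgen_of_gg k hinv' (GrowthLib.gg_of_iso ((Scheme.Modules.pullback i).mapIso g ≪≫
      CycKSuppLib.pullPushIso i _) (GrowthLib.gg_pb i (PnCohLib.isGloballyGenerated_of_regular k _
        (NumTrivLib.isCoh_push k i (CurvLib.isCoh_of_isInvertible hN.inv)).1 _ hreg)))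
    refine Groth.Agent.S10965.result _ _ _ (hinv 1) hva hinv' (fun a => s a) fun x => ?_
    obtain ⟨a, ha⟩ := hs x
    refine eq_top_iff.2 fun z _ => ?_
    obtain ⟨r, hr⟩ := ha.2 z
    rw [← hr]
    exact Submodule.smul_mem _ _ (Submodule.subset_span ⟨a, rfl⟩)
  refine ⟨CohB1.tensorMod (KFlatLib.pb i (O' 1)) (KFlatLib.pb i (O' m)),
    HilbPolyLib.isInvertible_tensor (hinv 1) (hinv m), ?_, fun N hN hNum => ?_⟩
  · obtain ⟨M, j, hj, hjb, ⟨ej⟩⟩ := key (Coh.structureModule X) NumTrivLib.NT.unit
    exact ⟨M, j, hj, hjb, ⟨(HilbPolyLib.congrRight _ (HilbPolyLib.swapIso _ _ ≪≫ HilbPolyLib.unitLeft _)).symm ≪≫ ej⟩⟩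
  · obtain ⟨M, j, hj, hjb, ⟨ej⟩⟩ := key N (NumTrivLib.NT.of_isNumEquivZero hN hNum)
    refine ⟨M, j, hj, hjb, ⟨(CubeConsLib.cl_eq_iff.1 ?_).some ≪≫ ej⟩⟩
    rw [CubeConsLib.cl_tensor, CubeConsLib.cl_tensor, CubeConsLib.cl_tensor, CubeConsLib.cl_tensor, mul_assoc]

end Groth.Agent.S17637
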