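import Groth.Statements.S1764
import Groth.Agent.LcCxLib.Finite
import Mathlib

set_option autoImplicit false
universe u
open CategoryTheory
attribute [local instance] HasDerivedCategory.standard
open LocCoh

namespace Groth.Agent.S1764

/-- (1)⇔(2): Let A be a Noetherian ring, T ⊆ Spec A stable under specialization, n an integer and K an
object of D(A) which is bounded below with finite cohomology modules. Then H^i_T(K) (the direct
limit of Hom(A/J, K[i]) over ideals J with V(J) ⊆ T) is a finite A-module for every i ≤ n if and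
only if there is an ideal J with V(J) ⊆ T annihilating H^i_T(K) for every i ≤ n. -/
theorem result (A : Type u) [CommRing A] [IsNoetherianRing A] (T : Set (PrimeSpectrum A)) (hT : StableUnderSpecialization T) (K : Dual.D A) (a : ℤ) (hKa : ∀ i : ℤ, i < a → Subsingleton (Dual.HD A K i)) (hK : ∀ i : ℤ, Module.Finite A (Dual.HD A K i)) (n : ℤ) : (∀ i : ℤ, i ≤ n → Module.Finite A (Dual2.HDT A T K i)) ↔ ∃ J : Ideal A, PrimeSpectrum.zeroLocus (J : Set A) ⊆ T ∧ ∀ i : ℤ, i ≤ n → ∀ x : A, x ∈ J → ∀ y : Dual2.HDT A T K i, x • y = 0 := by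
  obtain ⟨E, hE, -, -, hKI, ⟨eE⟩⟩ := LcCxLib.exists_good_model K a hKa hK
  haveI := hKI
  have he := fun i => (LcCxLib.exists_HDT_equiv eE T i).some
  refine Iff.trans ⟨fun h i hi => haveI := h i hi; Module.Finite.equiv (he i),
    fun h i hi => haveI := h i hi; Module.Finite.equiv (he i).symm⟩
    ((LcCxLib.finite_iff_killed (T := T) hE n).trans ⟨?_, ?_⟩)
  · rintro ⟨J, hJ, hk⟩
    refine ⟨J, hJ, fun i hi x hx y => (he i).injective ?_⟩
    rw [map_smul, map_zero]
    exact (LcCxLib.kill_iff T E i x).2 (hk i hi x hx) _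
  · rintro ⟨J, hJ, hk⟩
    refine ⟨J, hJ, fun i hi x hx => (LcCxLib.kill_iff T E i x).1 fun z => ?_⟩
    obtain ⟨y, rfl⟩ := (he i).surjective z
    rw [← map_smul, hk i hi x hx y, map_zero]

end Groth.Agent.S1764
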