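import Groth.Statements.S17640
import Groth.Agent.PushSuppLib.Main

set_option autoImplicit false
universe u
open CategoryTheory CategoryTheory.Limits AlgebraicGeometry
attribute [local instance] HasDerivedCategory.standard
open Dual3

namespace Groth.Agent.S17640

/-- Let f : X ⟶ Y be a separated morphism of finite type of Noetherian schemes factored as f = f̄ ∘ j (j
: X ⟶ X̄ an open immersion, f̄ proper), Z ⊆ Y closed with open complement U, and Z' = j⁻¹(X̄ ∖ W)
for an open W ⊆ X̄ with X̄ ∖ W ⊆ j(X) and f⁻¹(U) ⊆ j⁻¹(W) (that is, Z' ⊆ X closed, proper over Y and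
contained in f⁻¹(Z)). Let Rf̄_* and Rj_* exist and preserve complexes with quasi-coherent
cohomology, let a be a right adjoint of Rf̄_* on D_qc with its adjunction, put f^!G = (a G)|_X, and
let the internal derived Hom functors RHom(E, −) on D(O_X) and RHom(E', −) on D(O_Y) be given as
right adjoints of − ⊗^L E and − ⊗^L E'. Then for every cochain complex E of O_X-modules whose image
in D(O_X) has quasi-coherent cohomology sheaves, bounded above and supported on Z', every G in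
D_qc(O_Y) bounded below with cohomology supported on Z, and every cochain complex E' of O_Y-modules
whose image in D(O_Y) is isomorphic to Rf̄_* Rj_* E, there exists an isomorphism Rf̄_* Rj_* RHom(E,
RΓ_{Z'}(f^!G)) ≅ RHom(E', G) in D(O_Y), Rf_* being computed as Rf̄_* ∘ Rj_*. (Existence of an
isomorphism only: the published isomorphism is the canonical morphism Rf_* RHom(E, RΓ_{Z'} f^!G) ⟶
RHom(Rf_* E, Rf_* RΓ_{Z'} f^!G) followed by the trace, a comparison morphism not available here.)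
(Throughout, RΓ with support is the total right derived functor of the sheaf of sections supported
in the closed subset. The published statement derives instead the functor of sections killed by some
power of a defining ideal; on complexes with quasi-coherent cohomology sheaves over a Noetherian
scheme the two derived functors agree.) -/
theorem result {X Y : Scheme.{u}} [IsNoetherian X] [IsNoetherian Y]
    (f : X ⟶ Y) [IsSeparated f] [LocallyOfFiniteType f] (c : DEt.Compactification f)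
    (U : Y.Opens) (W : c.Xbar.Opens) (hW : (W : Set c.Xbar)ᶜ ⊆ Set.range c.j.base) (hZ : f ⁻¹ᵁ U ≤ c.j ⁻¹ᵁ W)
    [DCoh.HasRpush c.fbar] [DCoh.HasRpush c.j] (hfbar : DCoh.RpushPreservesQCoh c.fbar) (hj : DCoh.RpushPreservesQCoh c.j)
    (a : DCoh.DQCoh Y ⥤ DCoh.DQCoh c.Xbar) (adj : DCoh.RpushQ c.fbar hfbar ⊣ a)
    [CxOX.HasRgammaZ (c.j ⁻¹ᵁ W).ι]
    (G : DCoh.DQCoh Y) (n : ℤ) (hGn : DerivedCategory.IsGE G.obj n) (hGZ : CxOX.IsSuppD U.ι G.obj)
    (E : CochainComplex X.Modules ℤ) [DCoh.HasLTensorCx E] [DCoh.HasRSheafHom E]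
    (hE : DCoh.IsQCohD (DCoh.toD X E)) (m : ℤ) (hEm : DerivedCategory.IsLE (DCoh.toD X E) m)
    (hEZ : CxOX.IsSuppD (c.j ⁻¹ᵁ W).ι (DCoh.toD X E))
    (E' : CochainComplex Y.Modules ℤ) [DCoh.HasLTensorCx E'] [DCoh.HasRSheafHom E']
    (e' : DCoh.toD Y E' ≅ (DCoh.Rpush c.fbar).obj ((DCoh.Rpush c.j).obj (DCoh.toD X E))) :
    Nonempty ((DCoh.Rpush c.fbar).obj ((DCoh.Rpush c.j).obj
        ((DCoh.RSheafHom E).obj ((CxOX.RgammaZ (c.j ⁻¹ᵁ W).ι).obj ((Dual3.shriekC c a).obj G)))) ≅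
      (DCoh.RSheafHom E').obj G.obj) := by
  haveI := hGn
  haveI := PushSuppLib.hasRgammaZ W
  haveI := DCohRestrLib.hasRpush (c.j ≫ c.fbar)
  haveI := KFlatLib.hasLpull c.j
  haveI := KFlatLib.hasLpull c.fbar
  haveI := KFlatLib.hasLpull (c.j ≫ c.fbar)
  obtain ⟨I, hI, ⟨eI⟩⟩ := Groth.Agent.DerLib.KInjUse.exists_iso_Q_kInjective (DCoh.toD X E)
  haveI := hI
  haveI := KFlatLib.hasLTensorCx I
  haveI := BidualSchLib.hasRSheafHom I
  let A := (KFlatLib.resP Y).obj ((ProjFormLib.pushC (c.j ≫ c.fbar)).obj I)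
  haveI := KFlatLib.hasLTensorCx A
  haveI := BidualSchLib.hasRSheafHom A
  haveI := KFlatLib.quasiIso_resψ (X := Y) ((ProjFormLib.pushC (c.j ≫ c.fbar)).obj I)
  obtain ⟨ξ⟩ := PushSuppLib.nonempty_iso c.j c.fbar hfbar a adj W hW G n I
    (KFlatLib.isQCohD_iso eI hE) (CxOXLib.isSuppD_of_iso _ eI hEZ) A
    ((KFlatLib.resψ Y).app _) (KFlatLib.good_resP _).1
  obtain ⟨ef⟩ := KFlatLib.rpush_comp c.j c.fbar
  haveI := Dual3Lib.isIso_pushQ (c.j ≫ c.fbar) I
  let eA : DerivedCategory.Q.obj A ≅ DerivedCategory.Q.obj E' :=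
    asIso (DerivedCategory.Q.map ((KFlatLib.resψ Y).app _)) ≪≫ asIso (Dual3Lib.pushQ (c.j ≫ c.fbar) I) ≪≫
      (ef.app _).symm ≪≫ (DCoh.Rpush c.fbar).mapIso ((DCoh.Rpush c.j).mapIso eI.symm) ≪≫ e'.symm
  obtain ⟨hX⟩ := PushSuppLib.nonempty_rSheafHom_congr_iso (M := E) (N := I) eI
  obtain ⟨hY⟩ := PushSuppLib.nonempty_rSheafHom_congr_iso (M := A) (N := E') eA
  exact ⟨(DCoh.Rpush c.fbar).mapIso ((DCoh.Rpush c.j).mapIso (hX.app _)) ≪≫ ξ ≪≫ hY.app G.obj⟩

end Groth.Agent.S17640
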