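import Groth.Statements.S17642
import Groth.Agent.ChowLib.Embed
import Groth.Agent.GenusZeroLib.PSmooth
import Mathlib.AlgebraicGeometry.Morphisms.Immersion
-- import your own Groth.Agent.* helpers here

set_option autoImplicit false
set_option backward.isDefEq.respectTransparency false
set_option linter.all false
universe u
open CategoryTheory AlgebraicGeometry
open DerSch

namespace Groth.Agent.S17642

/-- Consider Noetherian schemes X and Y together with a morphism f : X ⟶ Y that is locally of finite
type. Given affine open subsets U ⊆ X and V ⊆ Y such that f(U) ⊆ V, the restriction of f to U can be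
written as a composite U ⟶ W ⟶ P ⟶ Y in which the first map U ⟶ W is an open immersion, the middle
map W ⟶ P is a closed immersion, and the last map P ⟶ Y is both smooth and proper. In the published
section every morphism is taken to be separated as a standing convention; since the printed proof
never uses this, no separatedness hypothesis appears here. -/
theorem result {X Y : Scheme.{u}}
    [IsNoetherian X] [IsNoetherian Y] (f : X ⟶ Y) [LocallyOfFiniteType f]
    (U : X.Opens) (hU : IsAffineOpen U) (V : Y.Opens) (hV : IsAffineOpen V) (hUV : U ≤ f ⁻¹ᵁ V) :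
    ∃ (W P : Scheme.{u}) (g : (U : Scheme.{u}) ⟶ W) (h : W ⟶ P) (k : P ⟶ Y),
      IsOpenImmersion g ∧ IsClosedImmersion h ∧ Smooth k ∧ IsProper k ∧ g ≫ h ≫ k = U.ι ≫ f := by
  classical
  haveI : IsAffine (U : Scheme.{u}) := hU
  haveI : LocallyOfFiniteType (f.resLE V U hUV) := inferInstance
  obtain ⟨n, φ, hφ, hb⟩ := ChowLib.exists_immersion_sigma (S := Y) (K := PUnit.{u + 1})
    (fun _ => (U : Scheme.{u})) (fun _ => V) (fun _ => hV) (fun _ => f.resLE V U hUV)
  haveI := hφ
  let i : (U : Scheme.{u}) ⟶ ∐ (fun _ : PUnit.{u + 1} => (U : Scheme.{u})) :=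
    Limits.Sigma.ι (fun _ : PUnit.{u + 1} => (U : Scheme.{u})) PUnit.unit
  haveI : IsOpenImmersion i := inferInstance
  have hg : (i ≫ φ) ≫ CohB1.ProjSpaceOver.toBase n Y = U.ι ≫ f := by
    rw [Category.assoc, hb, Limits.Sigma.ι_desc]
    exact f.resLE_comp_ι hUV
  haveI : QuasiCompact ((i ≫ φ) ≫ CohB1.ProjSpaceOver.toBase n Y) := by
    rw [hg]; infer_instance
  haveI : IsProper (CohB1.ProjSpaceOver.toBase n Y) := ChowLib.isProper_toBase n Y
  haveI : QuasiCompact (i ≫ φ) := QuasiCompact.of_comp (i ≫ φ) (CohB1.ProjSpaceOver.toBase n Y)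
  refine ⟨(i ≫ φ).image, CohB1.ProjSpaceOver n Y, (i ≫ φ).toImage, (i ≫ φ).imageι,
    CohB1.ProjSpaceOver.toBase n Y, inferInstance, inferInstance, MorphismProperty.of_isPullback (ChowLib.isPullback_po n Y) (GenusZeroLib.smooth_toSpec n (ULift.{u} ℤ)), inferInstance, ?_⟩
  rw [Scheme.Hom.toImage_imageι_assoc, hg]


end Groth.Agent.S17642
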