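import Groth.Statements.S17646
import Groth.Agent.GabLocLib.Closed
-- import your own Groth.Agent.* helpers here

set_option autoImplicit false
set_option linter.style.haveILetI false
universe w v u
open CategoryTheory CategoryTheory.Limits
open GabLoc

namespace Groth.Agent.S17646

/-- Let C be a Grothendieck abelian category, E an indecomposable injective object of C (E is nonzero
and whenever E ≅ A ⊞ B one of A, B is zero) and S₁, S₂ localizing classes of objects (Serre classes
closed under coproducts). If there are an object of S₁ with a nonzero morphism to E and an object of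
S₂ with a nonzero morphism to E, then there is an object belonging to both S₁ and S₂ with a nonzero
morphism to E. Thus, on the set of isomorphism classes of indecomposable injectives, the subsets of
those having S-torsion, S localizing, are closed under finite intersections (they are also closed
under unions, and form a topology). The published definition of the injective spectrum says
injective objects without the word indecomposable; the published proof of this step uses that each
point of the spectrum is uniform, which is the indecomposable reading taken here. -/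
theorem result {C : Type u} [Category.{v} C] [Abelian C]
    [IsGrothendieckAbelian.{w} C] (E : C) [Injective E] (hE : ¬ IsZero E)
    (hind : ∀ (A B : C), Nonempty (E ≅ A ⊞ B) → IsZero A ∨ IsZero B)
    (S₁ S₂ : ObjectProperty C) (h₁ : GabLoc.IsLocalizing.{w} S₁) (h₂ : GabLoc.IsLocalizing.{w} S₂)
    (ht₁ : GabLoc.HasTorsion S₁ E) (ht₂ : GabLoc.HasTorsion S₂ E) :
    GabLoc.HasTorsion (S₁ ⊓ S₂) E := by
  haveI := h₁.isSerreClass
  haveI := h₂.isSerreClass
  obtain ⟨Y₁, hY₁, f₁, hf₁⟩ := ht₁
  obtain ⟨Y₂, hY₂, f₂, hf₂⟩ := ht₂
  have hn₁ : image.ι f₁ ≠ 0 := fun h => hf₁ (by rw [← image.fac f₁, h, comp_zero])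
  have hn₂ : image.ι f₂ ≠ 0 := fun h => hf₂ (by rw [← image.fac f₂, h, comp_zero])
  have hess := InjHullCatLib.isEssential_of_indecomposable.{w} hind (image.ι f₁) hn₁
  refine ⟨pullback (image.ι f₁) (image.ι f₂),
    ⟨S₁.prop_of_mono (pullback.fst _ _) (S₁.prop_of_epi (factorThruImage f₁) hY₁),
     S₂.prop_of_mono (pullback.snd _ _) (S₂.prop_of_epi (factorThruImage f₂) hY₂)⟩,
    pullback.fst _ _ ≫ image.ι f₁, fun h0 => hn₂ ?_⟩
  have hm : Mono (image.ι f₁ ≫ cokernel.π (image.ι f₂)) := by
    refine Preadditive.mono_of_cancel_zero _ fun {T} a ha => ?_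
    have h1 : Abelian.monoLift (image.ι f₂) (a ≫ image.ι f₁) (by rw [Category.assoc, ha]) ≫
        image.ι f₂ = a ≫ image.ι f₁ := Abelian.monoLift_comp _ _ _
    rw [← cancel_mono (image.ι f₁), zero_comp, ← pullback.lift_fst a _ h1.symm, Category.assoc,
      h0, comp_zero]
  haveI := hess _ hm
  rw [← cancel_mono (cokernel.π (image.ι f₂)), cokernel.condition, zero_comp]

end Groth.Agent.S17646
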