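import Groth.Statements.S17647
import Groth.Agent.QCohLib.Push
import Groth.Agent.DevissLib.Stalk
import Groth.Agent.RpushLib.Sections

set_option autoImplicit false
universe u
open CategoryTheory CategoryTheory.Limits AlgebraicGeometry
open QCohCat

namespace Groth.Agent.S17647

/-- Let X be a scheme and U ⊆ X an open subset whose inclusion U ⟶ X is quasi-compact, Z = X ∖ U. Then
the restriction functor QCoh(X) ⥤ QCoh(U) between the categories of quasi-coherent modules is a
localization functor for the class of morphisms of quasi-coherent O_X-modules whose kernel and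
cokernel (computed in O_X-modules) have support contained in Z: the category QCoh(U) is the quotient
of QCoh(X) by the localizing subcategory of quasi-coherent modules supported in Z, the direct image
along U ⟶ X being the fully faithful right adjoint. No hypothesis is made on X beyond the
quasi-compactness of U ⟶ X. -/
theorem result (X : Scheme.{u})
    (U : X.Opens) [QuasiCompact U.ι] :
    (ObjectProperty.lift (QCohCat.isQCoh (↑U : Scheme.{u}))
        (ObjectProperty.ι (QCohCat.isQCoh X) ⋙ Scheme.Modules.restrictFunctor U.ι)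
        (fun M => @Scheme.Modules.isQuasicoherent_restrictFunctor (↑U : Scheme.{u}) X U.ι
          inferInstance M.obj M.property)).IsLocalization
      (fun (A B : QCohCat.QCoh X) (f : A ⟶ B) =>
        CohB1.support (kernel f.hom) ⊆ (↑U : Set X)ᶜ ∧
          CohB1.support (cokernel f.hom) ⊆ (↑U : Set X)ᶜ) := by
  let R := Scheme.Modules.restrictFunctor U.ι
  haveI : PreservesFiniteLimits R := inferInstance
  let PB : QCohCat.QCoh X ⥤ QCohCat.QCoh (↑U : Scheme.{u}) := ObjectProperty.lift (QCohCat.isQCoh (↑U : Scheme.{u}))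
        (ObjectProperty.ι (QCohCat.isQCoh X) ⋙ Scheme.Modules.restrictFunctor U.ι)
        (fun M => @Scheme.Modules.isQuasicoherent_restrictFunctor (↑U : Scheme.{u}) X U.ι
          inferInstance M.obj M.property)
  let PF : QCohCat.QCoh (↑U : Scheme.{u}) ⥤ QCohCat.QCoh X := ObjectProperty.lift _
    ((QCohCat.isQCoh (↑U : Scheme.{u})).ι ⋙ Scheme.Modules.pushforward U.ι)
    (fun M => @QCohLib.isQCoh_pushforward _ _ U.ι _ _ M.obj M.property)
  let adj : PB ⊣ PF := (Scheme.Modules.restrictAdjunction U.ι).restrictFullyFaithful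
    (ObjectProperty.fullyFaithfulι (QCohCat.isQCoh X)) (ObjectProperty.fullyFaithfulι (QCohCat.isQCoh (↑U : Scheme.{u})))
    (Iso.refl _) (Iso.refl _)
  haveI : PF.Full := Functor.Full.of_comp_faithful_iso (F := PF) (G := (QCohCat.isQCoh X).ι)
    (H := (QCohCat.isQCoh (↑U : Scheme.{u})).ι ⋙ Scheme.Modules.pushforward U.ι) (Iso.refl _)
  haveI : PF.Faithful := Functor.Faithful.of_comp_iso (F := PF) (G := (QCohCat.isQCoh X).ι)
    (H := (QCohCat.isQCoh (↑U : Scheme.{u})).ι ⋙ Scheme.Modules.pushforward U.ι) (Iso.refl _)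
  have key : ((MorphismProperty.isomorphisms _).inverseImage PB) =
      (fun (A B : QCohCat.QCoh X) (f : A ⟶ B) =>
        CohB1.support (kernel f.hom) ⊆ (↑U : Set X)ᶜ ∧
          CohB1.support (cokernel f.hom) ⊆ (↑U : Set X)ᶜ) := by
    have hz : ∀ K : X.Modules, IsZero (R.obj K) ↔ CohB1.support K ⊆ (↑U : Set X)ᶜ := fun K => by
      refine ⟨fun h x hx hxU => ?_, fun h => DevissLib.isZero_of_support_empty (Set.eq_empty_iff_forall_notMem.2 fun y hy => h (show y.1 ∈ CohB1.support K from fun h' => hy (((Scheme.Modules.restrictStalkNatIso U.ι y).app K).addCommGroupIsoToAddEquiv.toEquiv.subsingleton_congr.2 h')) y.2)⟩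
      have h1 : (⟨x, hxU⟩ : (↑U : Scheme.{u})) ∈ CohB1.support (R.obj K) := fun h' => hx
        (((Scheme.Modules.restrictStalkNatIso U.ι ⟨x, hxU⟩).app K).addCommGroupIsoToAddEquiv.toEquiv.subsingleton_congr.1 h')
      rw [DevissLib.support_of_isZero h] at h1
      exact h1
    ext A B f
    rw [← hz, ← hz]
    change IsIso (PB.map f) ↔ _
    rw [← isIso_iff_of_reflects_iso (PB.map f) (QCohCat.isQCoh (↑U : Scheme.{u})).ι]
    change IsIso (R.map f.hom) ↔ _
    refine ⟨fun h => ⟨(isZero_kernel_of_mono (R.map f.hom)).of_iso (PreservesKernel.iso R f.hom),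
      (isZero_cokernel_of_epi (R.map f.hom)).of_iso (PreservesCokernel.iso R f.hom)⟩, fun ⟨hk, hc⟩ => ?_⟩
    haveI : Mono (R.map f.hom) :=
      Preadditive.mono_of_isZero_kernel _ (hk.of_iso (PreservesKernel.iso R f.hom).symm)
    haveI : Epi (R.map f.hom) :=
      Preadditive.epi_of_isZero_cokernel _ (hc.of_iso (PreservesCokernel.iso R f.hom).symm)
    exact isIso_of_mono_of_epi _
  exact key ▸ adj.isLocalization
end Groth.Agent.S17647
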