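import Groth.Statements.S17649
import Groth.Agent.LimHomLib.Extend
-- import your own Groth.Agent.* helpers here

set_option autoImplicit false
set_option backward.isDefEq.respectTransparency false
set_option linter.all false
universe u
open CategoryTheory CategoryTheory.Limits AlgebraicGeometry
open QCohCat

namespace Groth.Agent.S17649

open CategoryTheory CategoryTheory.Limits AlgebraicGeometry TopologicalSpace Opposite

theorem isZero_of_sections {Y : Scheme.{u}} (M : Y.Modules) (h : ∀ W : Y.Opens, Subsingleton Γ(M, W)) : IsZero M := by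
  rw [IsZero.iff_id_eq_zero]
  refine Scheme.Modules.hom_ext _ _ fun W => ?_
  haveI := h W
  ext m
  exact Subsingleton.elim _ _

theorem subsingleton_of_isZero {Y : Scheme.{u}} {M : Y.Modules} (h : IsZero M) (W : Y.Opens) :
    Subsingleton Γ(M, W) :=
  subsingleton_of_forall_eq 0 fun m => congr_arg (fun φ : M ⟶ M => φ.app W m) (h.eq_of_src (𝟙 M) 0)

/-- Suppose the scheme X is quasi-compact and quasi-separated, and take two quasi-compact opens U, V ⊆
X. Given a quasi-compact open W, denote by S_W the class of quasi-coherent O_X-modules that restrict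
to zero on W. Then S_{U ∩ V} is the smallest localizing subcategory of Qcoh(X) that contains both
S_U and S_V; concretely (this is the inclusion that is not formal): any quasi-coherent O_X-module F
satisfying F|_{U ∩ V} = 0 arises as an extension of a quasi-coherent module that is zero on V by a
quasi-coherent submodule that is zero on U — one can find a monomorphism A ⟶ F where A is
quasi-coherent, A|_U = 0 and (F/A)|_V = 0. -/
theorem result {X : Scheme.{u}}
    [CompactSpace X] [QuasiSeparatedSpace X] (U V : X.Opens) [QuasiCompact U.ι] [QuasiCompact V.ι]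
    (F : X.Modules) (hF : Coh.IsQCoh F) (h : IsZero ((Scheme.Modules.restrictFunctor (U ⊓ V).ι).obj F)) :
    ∃ (A : X.Modules) (i : A ⟶ F), Mono i ∧ Coh.IsQCoh A ∧
      IsZero ((Scheme.Modules.restrictFunctor U.ι).obj A) ∧
      IsZero ((Scheme.Modules.restrictFunctor V.ι).obj (cokernel i)) := by
  haveI := hF
  haveI : Coh.IsQCoh (F.restrict U.ι) := Groth.Agent.PerfDualLib.isQCoh_restrict F U
  haveI : Coh.IsQCoh ((Scheme.Modules.pushforward U.ι).obj (F.restrict U.ι)) := QCohLib.isQCoh_pushforward U.ι _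
  let adj := Scheme.Modules.restrictAdjunction U.ι
  let R := Scheme.Modules.restrictFunctor U.ι
  haveI := LimHomLib.preservesFiniteLimits_restrict U
  haveI := LimHomLib.preservesFiniteLimits_restrict V
  haveI : Mono (R.map (adj.unit.app F)) := by
    haveI : Mono (R.map (adj.unit.app F) ≫ adj.counit.app (R.obj F)) := by
      rw [adj.left_triangle_components F]; infer_instance
    exact mono_of_mono _ (adj.counit.app (R.obj F))
  haveI : Coh.IsQCoh ((𝟭 X.Modules).obj F) := hF
  haveI : Coh.IsQCoh ((Scheme.Modules.restrictFunctor U.ι ⋙ Scheme.Modules.pushforward U.ι).obj F) :=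
    QCohLib.isQCoh_pushforward U.ι (F.restrict U.ι)
  refine ⟨kernel (adj.unit.app F), kernel.ι _, inferInstance, QCohLib.isQCoh_kernel _, ?_, ?_⟩
  · rw [IsZero.iff_id_eq_zero]
    have h0 : R.map (kernel.ι (adj.unit.app F)) = 0 := by
      rw [← cancel_mono (R.map (adj.unit.app F)), zero_comp, ← R.map_comp, kernel.condition, R.map_zero]
    rw [← cancel_mono (R.map (kernel.ι (adj.unit.app F))), h0, comp_zero, comp_zero]
  · have hP : IsZero ((Scheme.Modules.restrictFunctor V.ι).obj
        ((Scheme.Modules.pushforward U.ι).obj (F.restrict U.ι))) := by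
      refine isZero_of_sections _ fun W => ?_
      show Subsingleton Γ(F, U.ι ''ᵁ (U.ι ⁻¹ᵁ (V.ι ''ᵁ W)))
      have hle : U.ι ''ᵁ (U.ι ⁻¹ᵁ (V.ι ''ᵁ W)) ≤ (U ⊓ V).ι.opensRange := by
        rw [Scheme.Opens.opensRange_ι, Scheme.Hom.image_preimage_eq_opensRange_inf, Scheme.Opens.opensRange_ι]
        exact inf_le_inf_left U (V.ι_image_le W)
      have h1 := subsingleton_of_isZero h ((U ⊓ V).ι ⁻¹ᵁ (U.ι ''ᵁ (U.ι ⁻¹ᵁ (V.ι ''ᵁ W))))
      have e : (U ⊓ V).ι ''ᵁ ((U ⊓ V).ι ⁻¹ᵁ (U.ι ''ᵁ (U.ι ⁻¹ᵁ (V.ι ''ᵁ W)))) = U.ι ''ᵁ (U.ι ⁻¹ᵁ (V.ι ''ᵁ W)) := by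
        rw [Scheme.Hom.image_preimage_eq_opensRange_inf, inf_eq_right]
        exact hle
      exact e ▸ (show Subsingleton Γ(F, (U ⊓ V).ι ''ᵁ ((U ⊓ V).ι ⁻¹ᵁ (U.ι ''ᵁ (U.ι ⁻¹ᵁ (V.ι ''ᵁ W))))) from h1)
    have hc : Mono (Abelian.factorThruCoimage (adj.unit.app F)) := inferInstance
    haveI : Mono ((Scheme.Modules.restrictFunctor V.ι).map (Abelian.factorThruCoimage (adj.unit.app F))) := inferInstance
    rw [IsZero.iff_id_eq_zero, ← cancel_mono ((Scheme.Modules.restrictFunctor V.ι).map (Abelian.factorThruCoimage (adj.unit.app F)))]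
    exact hP.eq_of_tgt _ _

end Groth.Agent.S17649
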