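import Groth.Statements.S17651
import Groth.Agent.S17650
import Groth.Agent.GenusZeroLib.PointIdeal
import Groth.Agent.ProjFormLib.Proj
import Groth.Agent.RRVanLib.GG

set_option autoImplicit false
universe u
open CategoryTheory CategoryTheory.Limits AlgebraicGeometry TopologicalSpace
open Curves DevissLib

namespace Groth.Agent.S17651

open Opposite DevissLib in
/-- The stalk at `P` of `O / I_P` is killed by the maximal ideal. -/
theorem quot_stalk_killed {X : Scheme.{u}} {P : X} (hP : IsClosed ({P} : Set X))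
    (m : X.presheaf.stalk P) (hm : ¬ IsUnit m) (a : (St P).obj (ClSub.quotMod (GenusZeroLib.ptIdeal hP))) :
    m • a = 0 := by
  haveI := CurvLib.epi_toSubscheme (GenusZeroLib.ptIdeal hP)
  have hsurj := (ModuleCat.epi_iff_surjective _).mp
    (inferInstance : Epi ((St P).map (ClSub.toSubscheme (GenusZeroLib.ptIdeal hP))))
  obtain ⟨b, rfl⟩ := hsurj a
  rw [← map_smul]
  obtain ⟨U, hU, t, rfl⟩ := exists_gm_eq (Coh.structureModule X) P b
  obtain ⟨V, hV, c, rfl⟩ := TopCat.Presheaf.exists_germ_eq (F := X.presheaf) m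
  rw [← gm_map (Coh.structureModule X) (inf_le_left : U ⊓ V ≤ U) P ⟨hU, hV⟩ t,
    ← TopCat.Presheaf.germ_res_apply X.presheaf (homOfLE (inf_le_right : U ⊓ V ≤ V)) P ⟨hU, hV⟩ c, ← gm_smul]
  refine (gm_app _ P _ _).trans ?_
  refine (congrArg (gm _ P _) ((GenusZeroLib.ptIdeal_app_eq_zero_iff hP _).mpr fun hb => hm ?_)).trans (gm_zero _ P _)
  have hb' : P ∈ X.basicOpen (X.presheaf.map (homOfLE (inf_le_right : U ⊓ V ≤ V)).op c *
      (show Γ(X, U ⊓ V) from (Coh.structureModule X).presheaf.map (homOfLE (inf_le_left : U ⊓ V ≤ U)).op t)) := hb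
  rw [Scheme.basicOpen_mul, Scheme.basicOpen_res] at hb'
  exact (X.mem_basicOpen c P hV).mp hb'.1.2

/-- Let k be an algebraically closed field and B a connected scheme, proper over k, of dimension one,
with at-worst-nodal singularities and with H^1(B, O_B) = 0. Let E be a finite locally free
O_B-module generated by its global sections and p a closed point of B, with I_p the ideal sheaf of
functions vanishing at p. Then H^1(B, E ⊗ I_p) = 0; since E is locally free, E ⊗ I_p is the
submodule I_p E of sections vanishing at p. (The source works over the complex numbers; the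
statement and its proof are unchanged over any algebraically closed field.) -/
theorem result (k : Type u) [Field k] [IsAlgClosed k]
    (B : Scheme.{u}) [B.Over (Spec (CommRingCat.of k))] [IsProper (B ↘ Spec (CommRingCat.of k))]
    [ConnectedSpace ↥B] (hdim : topologicalKrullDim ↥B = 1) (hnod : Curv2.AtWorstNodal k B)
    (hg : Subsingleton (Coh.HH B (Coh.structureModule B) 1))
    (E : B.Modules) (hE : FlatMod.IsFinLocFree E) (hgg : Curv2.IsGloballyGenerated E)
    (p : ↥B) (hp : IsClosed ({p} : Set ↥B)) :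
    Subsingleton (Coh.HH B (CohB1.tensorMod E
      (ClSub.idealMod (Scheme.IdealSheafData.vanishingIdeal (⟨{p}, hp⟩ : Closeds ↥B)))) 1) := by
  haveI := CurvLib.isNoetherian k (X := B)
  haveI : Coh.IsQCoh E := (LocSuppLib.isCoh_of_isFinLocFree hE).1
  have hE1 : Subsingleton (Coh.HH B E 1) := Groth.Agent.S17650.result k B hdim hnod hg E hE hgg
  let I := GenusZeroLib.ptIdeal hp
  have hT := ProjFormLib.shortExact_tens hE (CurvLib.idealSeq_shortExact I)
  let T := (CurvLib.idealSeq I).map (ProjFormLib.tF E)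
  let e0 : T.X₂ ≅ E := KFlatLib.tensSwap (Coh.structureModule B) E ≪≫ KFlatLib.tensUnitIso E
  haveI : Epi T.g := hT.epi_g
  -- stalks away from the point vanish
  have hoff : ∀ x : B, x ≠ p → Subsingleton ((St x).obj T.X₃) := fun x hx => by
    have h1 : x ∉ CohB1.support (ClSub.quotMod I) := fun h => hx (by
      have h2 := CurvLib.support_quotMod_subset I h
      rw [show (I.support : Set B) = {p} from Scheme.IdealSheafData.coe_support_vanishingIdeal _] at h2
      exact h2)
    haveI : Subsingleton ((St x).obj (ClSub.quotMod I)) := not_not.mp h1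
    refine (KFlatLib.stalkTensorIso E (ClSub.quotMod I) x).toLinearEquiv.toEquiv.subsingleton_congr.mp ?_
    refine ⟨fun u v => ?_⟩
    have h0 : ∀ z : TensorProduct (B.presheaf.stalk x) ((St x).obj E) ((St x).obj (ClSub.quotMod I)), z = 0 := fun z => by
      induction z using TensorProduct.induction_on with
      | zero => rfl
      | tmul e q => rw [Subsingleton.elim q 0, TensorProduct.tmul_zero]
      | add z w hz hw => rw [hz, hw, add_zero]
    exact (h0 u).trans (h0 v).symm
  -- the maximal ideal kills the stalk at the point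
  have hkill : ∀ (m : B.presheaf.stalk p), ¬ IsUnit m → ∀ a : (St p).obj T.X₃, m • a = 0 := by
    intro m hm a
    obtain ⟨z, rfl⟩ := (KFlatLib.stalkTensorIso E (ClSub.quotMod I) p).toLinearEquiv.surjective a
    refine ((map_smul (KFlatLib.stalkTensorIso E (ClSub.quotMod I) p).toLinearEquiv m z).symm).trans ?_
    refine (congrArg _ ?_).trans (map_zero _)
    induction z using TensorProduct.induction_on with
    | zero => exact smul_zero _
    | tmul e q =>
      refine (TensorProduct.tmul_smul m e q).symm.trans ?_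
      erw [quot_stalk_killed hp m hm q, TensorProduct.tmul_zero]
    | add z w hz hw =>
      refine (smul_add m z w).trans ?_
      erw [hz, hw, add_zero]
  -- scalars
  have hscal : ∀ a : B.presheaf.stalk p, ∃ c : k, ¬ IsUnit (a - Curv2.stalkMap k B p c) := by
    intro a
    let w := AlgebraicGeometry.pointOfClosedPoint (B ↘ Spec (CommRingCat.of k)) p hp
    have hw : w ≫ (B ↘ Spec (CommRingCat.of k)) = 𝟙 _ := AlgebraicGeometry.pointOfClosedPoint_comp _ p hp
    let q : ↥(Spec (CommRingCat.of k)) := IsLocalRing.closedPoint k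
    have hq : w q = p := AlgebraicGeometry.pointOfClosedPoint_apply _ p hp q
    have h1 := GenusZeroLib.finrank_residueField_rational w hw q
    rw [hq] at h1
    letI := Curv2.resAlgebra k B p
    obtain ⟨c, hc⟩ := (finrank_eq_one_iff_of_nonzero' (K := k) (1 : B.residueField p) one_ne_zero).mp h1
      (B.residue p a)
    rw [Algebra.smul_def, mul_one] at hc
    refine ⟨c, fun hu => ?_⟩
    have h2 := hu.map (B.residue p).hom
    rw [map_sub] at h2
    exact h2.ne_zero (sub_eq_zero.mpr hc.symm)
  have hsurj : Function.Surjective (T.g.app ⊤) := by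
    intro y
    obtain ⟨D, hD, hpD, -⟩ := Opens.isBasis_iff_nbhd.mp B.isBasis_affineOpens (show p ∈ (⊤ : B.Opens) from trivial)
    obtain ⟨ι, e, he⟩ := hgg
    haveI : Epi (C := B.Modules) (show (∐ fun _ : ι => Coh.structureModule B) ⟶ E from e) := he
    obtain ⟨b, hb⟩ := (ModuleCat.epi_iff_surjective _).mp
      (inferInstance : Epi ((St p).map (e0.inv ≫ T.g))) (gm T.X₃ p (show p ∈ (⊤ : B.Opens) from trivial) y)
    obtain ⟨U, hU, bU, rfl⟩ := exists_gm_eq E p b
    obtain ⟨W, hW, hpW, hWU⟩ := Opens.isBasis_iff_nbhd.mp B.isBasis_affineOpens hU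
    obtain ⟨t, c, hc⟩ := FibVanLib.exists_eq_sum_of_epi
      (show (∐ fun _ : ι => Coh.structureModule B) ⟶ E from e) hW (E.presheaf.map (homOfLE hWU).op bU)
    let σ : ι → Γ(E, ⊤) := fun i => FibVanLib.secOf
      (Sigma.ι (fun _ : ι => Coh.structureModule B) i ≫ (show (∐ fun _ : ι => Coh.structureModule B) ⟶ E from e))
    choose cc hcc using fun i => hscal (B.presheaf.germ W p hpW (c i))
    let cG : ι → Γ(B, ⊤) := fun i => Coh.toGlobal (B ↘ Spec (CommRingCat.of k)) (cc i)
    refine ⟨e0.inv.app ⊤ (∑ i ∈ t, cG i • σ i), ?_⟩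
    refine TopCat.Presheaf.section_ext ((QCohLib.toAbF B).obj T.X₃ : TopCat.Sheaf AddCommGrpCat B.toTopCat) ⊤ _ _
      fun x hx => ?_
    by_cases hxp : x = p
    swap
    · exact @Subsingleton.elim _ (hoff x hxp) _ _
    subst hxp
    refine Eq.trans ?_ hb
    show gm T.X₃ x hx ((e0.inv ≫ T.g).app ⊤ (∑ i ∈ t, cG i • σ i)) = _
    rw [← gm_app]
    rw [← gm_map E hWU x hpW bU, hc]
    simp only [map_sum]
    refine (map_sum _ _ _).trans (Eq.trans (Finset.sum_congr rfl fun i _ => ?_) (map_sum _ _ _).symm)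
    rw [FibVanLib.app_eq_smul]
    show ((St x).map (e0.inv ≫ T.g)).hom (gm E x hx (cG i • σ i)) = ((St x).map (e0.inv ≫ T.g)).hom
      (gm E x hpW (c i • E.presheaf.map (homOfLE (le_top : W ≤ ⊤)).op (σ i)))
    rw [gm_smul, gm_smul, gm_map E (le_top : W ≤ ⊤) x hpW (σ i)]
    rw [map_smul, map_smul]
    refine (sub_eq_zero.mp ?_).symm
    rw [← sub_smul]
    exact hkill _ (hcc i) _
  have h0 : Function.Surjective (CurvLib.hMap (k := k) T.g 0) := fun z => by
    obtain ⟨y, hy⟩ := hsurj (DegPullLib.e0 T.X₃ z)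
    refine ⟨(DegPullLib.e0 T.X₂).symm y, (DegPullLib.e0 T.X₃).injective ?_⟩
    rw [RRVanLib.e0_map, AddEquiv.apply_symm_apply, hy]
  haveI : Subsingleton (Coh.HH B T.X₂ 1) := (CurvLib.hIso (k := k) e0 1).toEquiv.subsingleton
  have hdel : CurvLib.hDel (k := k) hT 0 = 0 := by
    rw [← LinearMap.ker_eq_top, ← CurvLib.exact₃ hT 0, LinearMap.range_eq_top]
    exact h0
  have hker : LinearMap.ker (CurvLib.hMap (k := k) T.f 1) = ⊥ := by
    rw [← CurvLib.exact₁ hT 0, hdel, LinearMap.range_zero]
  exact (LinearMap.ker_eq_bot.mp hker).subsingleton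

end Groth.Agent.S17651
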