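import Groth.Statements.S17653
import Groth.Agent.DimFibreLib.Main
import Groth.Agent.DimIneqLib.Dim
import Groth.Agent.FibIrrLib.Basic
import Mathlib.AlgebraicGeometry.ZariskisMainTheorem
-- import your own Groth.Agent.* helpers here

set_option autoImplicit false
set_option backward.isDefEq.respectTransparency false
set_option linter.all false
universe u
open CategoryTheory CategoryTheory.Limits AlgebraicGeometry TopologicalSpace
open Variety

namespace Groth.Agent.S17653

/-- Suppose X and Y are locally Noetherian schemes of the same pure dimension d (every irreducible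
component of X and every irreducible component of Y has topological Krull dimension d), and π : X →
Y is a proper morphism between them. If there is a point x of X which is isolated in its fibre
π⁻¹(π(x)), i.e. some open neighbourhood of x meets that fibre only in x, then the image of π, with
the subspace topology, has the same dimension as Y. -/
theorem result
    (X Y : Scheme.{u}) [IsLocallyNoetherian X] [IsLocallyNoetherian Y] (π : X ⟶ Y) [IsProper π]
    (d : WithBot ℕ∞) (hX : ∀ Z ∈ irreducibleComponents ↥X, topologicalKrullDim ↥Z = d)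
    (hY : ∀ Z ∈ irreducibleComponents ↥Y, topologicalKrullDim ↥Z = d)
    (x : ↥X) (hx : ∃ U : X.Opens, x ∈ U ∧ ∀ x' ∈ U, π x' = π x → x' = x) :
    topologicalKrullDim ↥(Set.range (fun z : ↥X => π z)) = topologicalKrullDim ↥Y := by
  classical
  obtain ⟨U, hxU, hU⟩ := hx
  -- `x` is a quasi-finite point
  have hqx : π.QuasiFiniteAt x := by
    rw [Scheme.Hom.quasiFiniteAt_iff_isOpen_singleton_asFiber]
    have : ({π.asFiber x} : Set ↥(π.fiber (π x))) = (π.fiberι (π x)) ⁻¹' (U : Set X) := by
      ext z
      refine ⟨fun h => by rw [Set.mem_singleton_iff.1 h, Set.mem_preimage, π.fiberι_asFiber]; exact hxU, fun h => ?_⟩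
      have h1 := hU _ h (Set.mem_singleton_iff.1 (Set.mem_preimage.1 (π.range_fiberι (π x) ▸ Set.mem_range_self z)))
      exact (π.fiberι (π x)).isEmbedding.injective (h1.trans (π.fiberι_asFiber x).symm)
    rw [this]
    exact U.2.preimage (π.fiberι (π x)).continuous
  let Cp : Set X := irreducibleComponent x
  have hCp := irreducibleComponent_mem_irreducibleComponents x
  have hCpc : IsClosed Cp := isClosed_irreducibleComponent
  obtain ⟨η, hη⟩ := QuasiSober.sober hCp.1 hCpc
  have hqη : π.QuasiFiniteAt η :=
    (hη.specializes mem_irreducibleComponent).mem_open π.quasiFiniteLocus.2 (show x ∈ π.quasiFiniteLocus from hqx)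
  -- the component as a scheme over its image
  let I := Scheme.IdealSheafData.vanishingIdeal (X := X) ⟨Cp, hCpc⟩
  let ιC := I.subschemeι
  have hrC : Set.range ιC = Cp := by
    rw [Scheme.IdealSheafData.range_subschemeι, Scheme.IdealSheafData.coe_support_vanishingIdeal]
    rfl
  let h : I.subscheme ⟶ Y := ιC ≫ π
  let g := h.toImage
  let j := h.imageι
  haveI : QuasiCompact h := inferInstance
  haveI : LocallyOfFiniteType (g ≫ j) := by rw [Scheme.Hom.toImage_imageι]; infer_instance
  haveI : LocallyOfFiniteType g := locallyOfFiniteType_of_comp g j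
  haveI : IsLocallyNoetherian h.image := LocallyOfFiniteType.isLocallyNoetherian j
  have hgj : ∀ z, j (g z) = π (ιC z) := fun z => by
    rw [← Scheme.Hom.comp_apply, Scheme.Hom.toImage_imageι, Scheme.Hom.comp_apply]
  have hrj : Set.range j ⊆ Set.range (fun z : ↥X => π z) := by
    have hcl : IsClosed (Set.range (fun z : ↥X => π z)) := π.isClosedMap.isClosed_range
    show Set.range h.ker.subschemeι ⊆ _
    rw [Scheme.IdealSheafData.range_subschemeι, Scheme.Hom.support_ker]
    refine hcl.closure_subset_iff.2 ?_
    rintro _ ⟨z, rfl⟩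
    exact ⟨ιC z, rfl⟩
  haveI : IrreducibleSpace ↥I.subscheme := FibIrrLib.irreducibleSpace_of_embedding ιC.isEmbedding (by rw [hrC]; exact hCp.1)
  haveI : IrreducibleSpace ↥h.image := FibIrrLib.irreducibleSpace_of_embedding j.isEmbedding (by
    show IsIrreducible (Set.range h.ker.subschemeι)
    rw [Scheme.IdealSheafData.range_subschemeι, Scheme.Hom.support_ker, ← Set.image_univ]
    exact ((IrreducibleSpace.isIrreducible_univ _).image _ h.continuous.continuousOn).closure)
  have hgen : ιC (genericPoint ↥I.subscheme) = η := by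
    have := (genericPoint_spec ↥I.subscheme).image ιC.continuous
    rw [Set.image_univ, hrC, hCpc.closure_eq] at this
    exact this.eq hη
  have he : topologicalKrullDim (g.fiber (genericPoint h.image)) = (0 : ℕ) := by
    haveI : Subsingleton ↥(g ⁻¹' {genericPoint h.image}) := by
      suffices H : ∀ z : I.subscheme, g z = genericPoint h.image → z = genericPoint ↥I.subscheme from
        ⟨fun a b => Subtype.ext ((H a.1 a.2).trans (H b.1 b.2).symm)⟩
      intro z hz
      refine ιC.isEmbedding.injective ?_
      rw [hgen]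
      have hsp : η ⤳ ιC z := hη.specializes ((Set.ext_iff.1 hrC _).1 (Set.mem_range_self z))
      have hπ : π (ιC z) = π η := by
        rw [← hgen, ← hgj, ← hgj, hz, DimFibreLib.image_genericPoint g g.denseRange]
      have hclop := hqη.isClopen_singleton_asFiber
      have hmem : (⟨ιC z, hπ⟩ : ↥(π ⁻¹' {π η})) ∈ closure ({⟨η, rfl⟩} : Set ↥(π ⁻¹' {π η})) := by
        rw [closure_subtype]
        simpa using specializes_iff_mem_closure.1 hsp
      have hcl : IsClosed ({⟨η, rfl⟩} : Set ↥(π ⁻¹' {π η})) := by
        have := (π.fiberHomeo (π η)).isClosedMap _ hclop.isClosed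
        simpa [Set.image_singleton, Scheme.Hom.asFiber] using this
      rw [hcl.closure_eq] at hmem
      exact congrArg Subtype.val hmem
    rw [IsHomeomorph.topologicalKrullDim_eq _ (g.fiberHomeo _).isHomeomorph]
    haveI : Nonempty ↥(g ⁻¹' {genericPoint h.image}) :=
      ⟨⟨genericPoint ↥I.subscheme, DimFibreLib.image_genericPoint g g.denseRange⟩⟩
    refine le_antisymm ?_ ?_
    · haveI : Subsingleton (TopologicalSpace.IrreducibleCloseds ↥(g ⁻¹' {genericPoint h.image})) := ⟨fun S T => by
        apply TopologicalSpace.IrreducibleCloseds.ext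
        exact (Subsingleton.eq_univ_of_nonempty S.isIrreducible.1).trans (Subsingleton.eq_univ_of_nonempty T.isIrreducible.1).symm⟩
      exact le_of_le_of_eq Order.krullDim_nonpos_of_subsingleton Nat.cast_zero.symm
    · haveI : Nonempty (TopologicalSpace.IrreducibleCloseds ↥(g ⁻¹' {genericPoint h.image})) :=
        ⟨⟨irreducibleComponent (Classical.arbitrary _), isIrreducible_irreducibleComponent, isClosed_irreducibleComponent⟩⟩
      exact le_of_eq_of_le Nat.cast_zero Order.krullDim_nonneg
  have hCW : topologicalKrullDim ↥I.subscheme ≤ topologicalKrullDim ↥h.image := by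
    refine DimFibreLib.dim_le_of_stalks _ fun z => ?_
    have h1 := DimFibreLib.stalk_le g g.denseRange 0 he z
    rw [Nat.cast_zero, add_zero] at h1
    exact h1.trans (DimIneqLib.stalk_dim_le_dim _)
  have h2 : d ≤ topologicalKrullDim ↥(Set.range (fun z : ↥X => π z)) := by
    rw [← hX Cp hCp, ← FibIrrLib.dim_eq_of_embedding ιC.isEmbedding hrC]
    refine hCW.trans ?_
    rw [FibIrrLib.dim_eq_of_embedding j.isEmbedding rfl]
    exact Topology.IsInducing.topologicalKrullDim_le (Topology.IsEmbedding.inclusion hrj).isInducing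
  have h3 : topologicalKrullDim ↥(Set.range (fun z : ↥X => π z)) ≤ topologicalKrullDim ↥Y :=
    Topology.IsInducing.topologicalKrullDim_le Topology.IsInducing.subtypeVal
  have h4 : topologicalKrullDim ↥Y ≤ d := by
    refine iSup_le fun p => ?_
    obtain ⟨Z, hZ, hle⟩ : ∃ Z ∈ irreducibleComponents ↥Y, (p.last : Set ↥Y) ⊆ Z := by
      obtain ⟨Z, h1, h2⟩ := exists_preirreducible (p.last : Set ↥Y) p.last.isIrreducible.2
      exact ⟨Z, ⟨⟨p.last.isIrreducible.1.mono h2.1, h1⟩, fun T hT hZT => h2.2 T hT.2 hZT |>.symm ▸ le_rfl⟩, h2.1⟩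
    have hsub : ∀ i, (p i : Set ↥Y) ⊆ Z := fun i => (SetLike.coe_subset_coe.2 (p.monotone (Fin.le_last i))).trans hle
    let q : LTSeries (TopologicalSpace.IrreducibleCloseds ↥Z) := LTSeries.mk p.length
      (fun i => ⟨Subtype.val ⁻¹' (p i : Set ↥Y), by
        refine ⟨?_, fun U V hU hV hU' hV' => ?_⟩
        swap
        · obtain ⟨U₁, hU₁, rfl⟩ := isOpen_induced_iff.1 hU
          obtain ⟨V₁, hV₁, rfl⟩ := isOpen_induced_iff.1 hV
          obtain ⟨a, ha, haU⟩ := hU'
          obtain ⟨b, hb, hbV⟩ := hV'
          obtain ⟨c, hc, hcU, hcV⟩ := (p i).isIrreducible.2 U₁ V₁ hU₁ hV₁ ⟨a.1, ha, haU⟩ ⟨b.1, hb, hbV⟩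
          exact ⟨⟨c, hsub i hc⟩, hc, hcU, hcV⟩
        obtain ⟨a, ha⟩ := (p i).isIrreducible.1
        exact ⟨⟨a, hsub i ha⟩, ha⟩, (p i).isClosed.preimage continuous_subtype_val⟩)
      (fun i i' hii => by
        have hlt := p.strictMono hii
        refine lt_of_le_of_ne (fun a ha => hlt.le ha) (fun heq => hlt.ne ?_)
        apply TopologicalSpace.IrreducibleCloseds.ext
        ext a
        have := congrArg (fun S : TopologicalSpace.IrreducibleCloseds ↥Z => (S : Set ↥Z)) heq
        exact ⟨fun ha => (Set.ext_iff.1 this ⟨a, hsub i ha⟩).1 ha, fun ha => (Set.ext_iff.1 this ⟨a, hsub i' ha⟩).2 ha⟩)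
    rw [← hY Z hZ]
    exact le_iSup (fun r : LTSeries (TopologicalSpace.IrreducibleCloseds ↥Z) => (r.length : WithBot ℕ∞)) q
  exact le_antisymm h3 (h4.trans h2)


end Groth.Agent.S17653
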