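import Groth.Statements.S17654
import Groth.Agent.NodalTreeLib.Tree

set_option autoImplicit false
set_option backward.isDefEq.respectTransparency false
set_option backward.isDefEq.respectTransparency.types false
set_option maxHeartbeats 1000000

universe u
open CategoryTheory CategoryTheory.Limits AlgebraicGeometry TopologicalSpace
attribute [local instance] HasDerivedCategory.standard
open Curves

namespace Groth.Agent.S17654

/-- Let k be an algebraically closed field and B a connected scheme, proper over k, of dimension one,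
with at-worst-nodal singularities and H^1(B, O_B) = 0. Write ω_B for the dualizing module of B over
k, the cohomology sheaf in degree −1 of the upper-shriek pull-back of O_{Spec k} (the existence of
the upper-shriek functor is assumed), and similarly for closed subschemes of B. A locally free E on
such a curve is called deformation ample when it is generated by global sections and H^1(E ⊗ ω) = 0.
Let E be a finite locally free O_B-module such that (1) for every irreducible component Z of B,
taken with its reduced structure, E|_Z is generated by global sections, and (2) for some connected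
reduced closed subscheme B' of B whose support is a union of irreducible components of B, the
restriction E|_{B'} is deformation ample on B'. Then E is deformation ample: E is generated by
global sections and H^1(B, E ⊗ ω_B) = 0. (The source works over the complex numbers and with E of
positive rank; the proof is unchanged over any algebraically closed field, and rank zero is
trivially allowed.) -/
theorem result (k : Type u) [Field k] [IsAlgClosed k]
    (B : Scheme.{u}) [B.Over (Spec (CommRingCat.of k))] [IsProper (B ↘ Spec (CommRingCat.of k))]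
    [ConnectedSpace ↥B] (hdim : topologicalKrullDim ↥B = 1) (hnod : Curv2.AtWorstNodal k B)
    (hg : Subsingleton (Coh.HH B (Coh.structureModule B) 1))
    [DCoh.HasRpush (B ↘ Spec (CommRingCat.of k))] (h : DCoh.RpushPreservesQCoh (B ↘ Spec (CommRingCat.of k))) [DCoh.HasShriek (B ↘ Spec (CommRingCat.of k)) h]
    (OY : DCoh.DQCoh (Spec (CommRingCat.of k))) (hOY : Nonempty (OY.obj ≅ DCoh.inD (Spec (CommRingCat.of k)) (Coh.structureModule (Spec (CommRingCat.of k)))))
    (E : B.Modules) (hE : FlatMod.IsFinLocFree E)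
    (hcomp : ∀ Z : B.IdealSheafData, IsIntegral Z.subscheme → topologicalKrullDim (Z.support : Set ↥B) = 1 →
      Curv2.IsGloballyGenerated ((Scheme.Modules.pullback Z.subschemeι).obj E))
    (B' : B.IdealSheafData) [ConnectedSpace ↥B'.subscheme] [AlgebraicGeometry.IsReduced B'.subscheme]
    (hunion : ∀ x ∈ (B'.support : Set ↥B), ∃ Z : B.IdealSheafData, IsIntegral Z.subscheme ∧
      topologicalKrullDim (Z.support : Set ↥B) = 1 ∧ (Z.support : Set ↥B) ⊆ B'.support ∧ x ∈ (Z.support : Set ↥B))
    [DCoh.HasRpush (B'.subschemeι ≫ (B ↘ Spec (CommRingCat.of k)))] (h' : DCoh.RpushPreservesQCoh (B'.subschemeι ≫ (B ↘ Spec (CommRingCat.of k))))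
    [DCoh.HasShriek (B'.subschemeι ≫ (B ↘ Spec (CommRingCat.of k))) h']
    (hgg' : Curv2.IsGloballyGenerated ((Scheme.Modules.pullback B'.subschemeι).obj E))
    (hvan' : Subsingleton (Coh.HH B'.subscheme (CohB1.tensorMod ((Scheme.Modules.pullback B'.subschemeι).obj E)
      (DCoh.dualizingMod (B'.subschemeι ≫ (B ↘ Spec (CommRingCat.of k))) h' OY 1)) 1)) :
    Curv2.IsGloballyGenerated E ∧
      Subsingleton (Coh.HH B (CohB1.tensorMod E (DCoh.dualizingMod (B ↘ Spec (CommRingCat.of k)) h OY 1)) 1) := by
  haveI := NodalLib.isReduced k hnod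
  haveI := CurvLib.isNoetherian k (X := B)
  haveI : EnoughInjectives B.Modules := IsGrothendieckAbelian.enoughInjectives.{u}
  haveI : HasExt.{u} B.Modules := hasExt_of_enoughInjectives.{u} B.Modules
  have hd1 : topologicalKrullDim B ≤ ((1 : ℕ) : WithBot ℕ∞) := by simpa using hdim.le
  obtain ⟨hdual, -⟩ := NefH1Lib.Adj.setup k hdim h OY hOY
  have hω := NodalLib.omega_invertible k hdim (fun x => (NodalLib.stalk_facts k hnod x).2) h OY hOY
  let ω := DCoh.dualizingMod (B ↘ Spec (CommRingCat.of k)) h OY 1
  have hh1 : ∀ T : Set B, Subsingleton (Coh.HH B (ClSub.quotMod (NefH1Lib.Subcurve.sub T)) 1) := fun T => by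
    haveI := CurvLib.finite_HH (k := k) (CurvLib.isCoh_quotMod (NefH1Lib.Subcurve.sub T)) 1
    refine (Module.finrank_zero_iff (R := k)).mp ?_
    rw [← (NefH1Lib.Subcurve.euler_subscheme k hd1 (NefH1Lib.Subcurve.sub T)).2]
    exact NodalLib.gJ_eq_zero k hdim hdual hg (NefH1Lib.Subcurve.sub T)
  have hgg := NodalTreeLib.gg_of_components k hdim hh1 hE hcomp
  refine ⟨hgg, ?_⟩
  have hEc := LocSuppLib.isCoh_of_isFinLocFree hE
  have hM := BddFamLib.isCoh_tensorMod hEc (CurvLib.isCoh_of_isInvertible hω)
  haveI := CurvLib.finite_HH (k := k) hM 1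
  obtain ⟨D⟩ := hdual _ hM.1
  suffices hsub : Subsingleton (CohB1.tensorMod E ω ⟶ ω) by
    haveI := hsub
    haveI : Subsingleton (Module.Dual k (Coh.HH B (CohB1.tensorMod E ω) 1)) := D.symm.toEquiv.subsingleton
    exact (Module.finrank_zero_iff (R := k)).mp
      (Subspace.dual_finrank_eq.symm.trans Module.finrank_zero_of_subsingleton)
  refine subsingleton_of_forall_eq 0 fun φ => ?_
  by_contra hφ
  -- a nonzero map would give an epimorphism onto the structure sheaf
  let ω' := MiscFlat6.dual ω
  have hω' := MiscFlat6.dual_isInvertible hω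
  obtain ⟨eω⟩ := MiscFlat6.nonempty_dualIso hω
  let j : CohB1.tensorMod ω' (CohB1.tensorMod E ω) ≅ E :=
    HilbPolyLib.leftComm ω' E ω ≪≫ HilbPolyLib.congrRight E (HilbPolyLib.swapIso _ _ ≪≫ eω) ≪≫
      HilbPolyLib.swapIso _ _ ≪≫ HilbPolyLib.unitLeft E
  let j' : CohB1.tensorMod ω' ω ≅ Coh.structureModule B := HilbPolyLib.swapIso _ _ ≪≫ eω
  let ψ : E ⟶ Coh.structureModule B := j.inv ≫ SerreVanLib.tmap ω' φ ≫ j'.hom
  have hψ : ψ ≠ 0 := fun h0 => hφ (NodalTreeLib.eq_zero_of_tensor hω' φ (by
    rw [← cancel_epi j.inv, ← cancel_mono j'.hom, comp_zero, zero_comp, Category.assoc]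
    exact h0))
  obtain ⟨u, hu⟩ : ∃ u : Γ(E, ⊤), ψ.app ⊤ u ≠ 0 := by
    by_contra hall
    push Not at hall
    exact hψ (MiscFlat6.cancel_of_isGloballyGenerated hgg ψ hall)
  haveI : Epi ψ := by
    have hne : QCohLib.unitHom E u ≫ ψ ≠ 0 := fun h0 => hu (by
      have h1 := congrArg (fun f : Coh.structureModule B ⟶ Coh.structureModule B => f.app ⊤ (1 : Γ(B, ⊤))) h0
      have h2 : (QCohLib.unitHom E u).app ⊤ (1 : Γ(B, ⊤)) = u := by
        rw [QCohLib.unitHom_app, one_smul]
        simp
      exact (congrArg (ψ.app ⊤) h2).symm.trans h1)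
    have hone : Module.finrank k (Coh.structureModule B ⟶ Coh.structureModule B) = 1 :=
      (NefH1Lib.Subcurve.homUnit (k := k) _).finrank_eq.trans (NefH1Lib.Adj.finrank_h0 k)
    have hid : 𝟙 (Coh.structureModule B) ≠ 0 := fun h0 => hne (by
      rw [← Category.comp_id (QCohLib.unitHom E u ≫ ψ), h0, comp_zero])
    obtain ⟨c, hc⟩ := exists_smul_eq_of_finrank_eq_one hone hid (QCohLib.unitHom E u ≫ ψ)
    have hc0 : c ≠ 0 := fun h0 => hne (by rw [← hc, h0, zero_smul])
    refine Preadditive.epi_of_cancel_zero ψ fun {G} g hgz => ?_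
    have h1 : (c • 𝟙 (Coh.structureModule B)) ≫ g = 0 := by rw [hc, Category.assoc, hgz, comp_zero]
    rw [Linear.smul_comp, Category.id_comp] at h1
    exact (smul_eq_zero.mp h1).resolve_left hc0
  -- restricted to the subcurve it kills the first cohomology of the dualizing module
  let i := B'.subschemeι
  letI : B'.subscheme.Over (Spec (CommRingCat.of k)) := ⟨i ≫ (B ↘ Spec (CommRingCat.of k))⟩
  haveI : IsProper (B'.subscheme ↘ Spec (CommRingCat.of k)) :=
    inferInstanceAs (IsProper (i ≫ (B ↘ Spec (CommRingCat.of k))))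
  haveI : DCoh.HasRpush (B'.subscheme ↘ Spec (CommRingCat.of k)) :=
    show DCoh.HasRpush (i ≫ (B ↘ Spec (CommRingCat.of k))) from inferInstance
  haveI : DCoh.HasShriek (B'.subscheme ↘ Spec (CommRingCat.of k)) h' :=
    show DCoh.HasShriek (i ≫ (B ↘ Spec (CommRingCat.of k))) h' from inferInstance
  have hd' : topologicalKrullDim B'.subscheme = 1 := by
    refine le_antisymm ((NefH1Lib.topDim_le i).trans hdim.le) ?_
    obtain ⟨y⟩ := (inferInstance : Nonempty B'.subscheme)
    obtain ⟨Z, -, hZd, hZs, -⟩ := hunion (i y) (B'.range_subschemeι.le ⟨y, rfl⟩)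
    rw [i.isEmbedding.toHomeomorph.isHomeomorph.topologicalKrullDim_eq, B'.range_subschemeι, ← hZd]
    exact NefH1Lib.Subcurve.dim_mono hZs
  obtain ⟨hdual', hχ'⟩ := NefH1Lib.Adj.setup k (X := B'.subscheme) hd' h' OY hOY
  let ωB := DCoh.dualizingMod (B'.subscheme ↘ Spec (CommRingCat.of k)) h' OY 1
  haveI := CurvLib.isNoetherian k (X := B'.subscheme)
  haveI : CompactSpace B'.subscheme :=
    QuasiCompact.compactSpace_of_compactSpace (B'.subscheme ↘ Spec (CommRingCat.of k))
  have hvan : ∀ N : B'.subscheme.Modules, Coh.IsQCoh N → Subsingleton (Coh.HH B'.subscheme N 2) :=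
    fun N _ => NodalLib.hvan k hd' N
  have hωB : Coh.IsCoh ωB := (FieldDualLib.exists_duality (k := k)
    (CurveDualModLib.isCM_of_reduced (X := B'.subscheme) (by simpa using hd'.le)) 1
    (NefH1Lib.Subcurve.equidim k hd') (by simpa using hd') h' _ (DCoh.shriekAdj _ h') OY hOY.some).1
  haveI := (Scheme.Modules.pullbackPushforwardAdjunction i).leftAdjoint_preservesColimits
  haveI : PreservesColimitsOfSize.{0, 0} (Scheme.Modules.pullback i) := preservesColimitsOfSize_shrink.{0, u, 0, u} _
  haveI : (Scheme.Modules.pullback i).PreservesEpimorphisms :=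
    preservesEpimorphisms_of_preservesColimitsOfShape _
  let g0 : (Scheme.Modules.pullback i).obj E ⟶ Coh.structureModule B'.subscheme :=
    (Scheme.Modules.pullback i).map ψ ≫ (KFlatLib.pullUnitIso i).hom
  haveI : Epi g0 := epi_comp _ _
  haveI := NodalTreeLib.epi_tmap ωB g0
  let g1 : CohB1.tensorMod ((Scheme.Modules.pullback i).obj E) ωB ⟶ ωB :=
    (HilbPolyLib.swapIso _ _).hom ≫ SerreVanLib.tmap ωB g0 ≫ (HilbPolyLib.swapIso _ _).hom ≫
      (HilbPolyLib.unitLeft ωB).hom
  haveI : Epi g1 := epi_comp _ _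
  have hωB1 : Subsingleton (Coh.HH B'.subscheme ωB 1) := NefH1Lib.h1_of_epi hvan
    (BddFamLib.isCoh_tensorMod (LocSuppLib.isCoh_of_isFinLocFree (KFlatLib.isFinLocFree_pull i hE)) hωB).1 hωB.1 g1 hvan'
  obtain ⟨D'⟩ := hdual' _ hωB.1
  haveI : Subsingleton (Module.Dual k (Coh.HH B'.subscheme ωB 1)) :=
    ⟨fun a b => LinearMap.ext fun v => by rw [Subsingleton.elim v 0, map_zero, map_zero]⟩
  haveI : Subsingleton (ωB ⟶ ωB) := D'.toEquiv.subsingleton
  have hz : IsZero ωB := (IsZero.iff_id_eq_zero _).mpr (Subsingleton.elim _ _)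
  obtain ⟨DO⟩ := hdual' _ (DevissLib.isCoh_structureModule B'.subscheme).1
  haveI : Subsingleton (Coh.structureModule B'.subscheme ⟶ ωB) := ⟨fun a b => hz.eq_of_tgt a b⟩
  haveI : Subsingleton (Module.Dual k (Coh.HH B'.subscheme (Coh.structureModule B'.subscheme) 1)) :=
    DO.symm.toEquiv.subsingleton
  haveI := CurvLib.finite_HH (k := k) (DevissLib.isCoh_structureModule B'.subscheme) 1
  have hO1 : Module.finrank k (Coh.HH B'.subscheme (Coh.structureModule B'.subscheme) 1) = 0 :=
    Subspace.dual_finrank_eq.symm.trans Module.finrank_zero_of_subsingleton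
  have hvn : ∀ M : B'.subscheme.Modules, ∀ n, 2 ≤ n → Subsingleton (Coh.HH B'.subscheme M n) := fun M n hn =>
    CurvLib.subsingleton_HH_of_dim_le M (d := 1) (by simpa using hd'.le) n (by omega)
  haveI := CurveDualModLib.subsingleton_H0_of_isZero hz
  rw [CurvLib.euler_eq_sub (k := k) (hvn _), CurvLib.euler_eq_sub (k := k) (hvn _), NefH1Lib.Adj.finrank_h0 k,
    hO1, Module.finrank_zero_of_subsingleton (R := k) (M := Coh.HH B'.subscheme ωB 0),
    Module.finrank_zero_of_subsingleton (R := k) (M := Coh.HH B'.subscheme ωB 1)] at hχ'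
  omega

end Groth.Agent.S17654
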