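import Groth.Statements.S17655
import Groth.Agent.NodalLib.DefAmple
import Groth.Agent.NefH1Lib.Adjunction.Basic

set_option autoImplicit false
set_option backward.isDefEq.respectTransparency false
set_option backward.isDefEq.respectTransparency.types false
set_option maxHeartbeats 1000000
set_option linter.style.haveILetI false

universe u
open CategoryTheory CategoryTheory.Limits AlgebraicGeometry TopologicalSpace
attribute [local instance] HasDerivedCategory.standard
open Curves

namespace Groth.Agent.S17655

/-- Let k be an algebraically closed field and B a connected scheme, proper over k, of dimension one,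
with at-worst-nodal singularities and H^1(B, O_B) = 0, and let ω_B be its dualizing module over k
(the cohomology sheaf in degree −1 of the upper-shriek pull-back of O_{Spec k}; the existence of the
upper-shriek functor is assumed). Call a finite locally free O_B-module deformation ample when it is
generated by global sections and H^1(B, E ⊗ ω_B) = 0. If φ : E₁ → E₂ is a morphism of finite locally
free O_B-modules whose cokernel is a torsion module (every point of its support is closed) and E₁ is
deformation ample, then E₂ is deformation ample. (The source states this for a family of prestable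
genus-zero curves over an arbitrary base T, with relative global generation and R^1 of the direct
image in place of global generation and H^1; this is the case T = Spec k of a field base, the
general case needing relative duality not available here. The source also assumes the sheaves
nonzero (positive rank), which the conclusion does not need.) -/
theorem result (k : Type u) [Field k] [IsAlgClosed k]
    (B : Scheme.{u}) [B.Over (Spec (CommRingCat.of k))] [IsProper (B ↘ Spec (CommRingCat.of k))]
    [ConnectedSpace ↥B] (hdim : topologicalKrullDim ↥B = 1) (hnod : Curv2.AtWorstNodal k B)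
    (hg : Subsingleton (Coh.HH B (Coh.structureModule B) 1))
    [DCoh.HasRpush (B ↘ Spec (CommRingCat.of k))] (h : DCoh.RpushPreservesQCoh (B ↘ Spec (CommRingCat.of k))) [DCoh.HasShriek (B ↘ Spec (CommRingCat.of k)) h]
    (OY : DCoh.DQCoh (Spec (CommRingCat.of k))) (hOY : Nonempty (OY.obj ≅ DCoh.inD (Spec (CommRingCat.of k)) (Coh.structureModule (Spec (CommRingCat.of k)))))
    (E₁ E₂ : B.Modules) (hE₁ : FlatMod.IsFinLocFree E₁) (hE₂ : FlatMod.IsFinLocFree E₂) (φ : E₁ ⟶ E₂)
    (htors : ∀ x ∈ CohB1.support (cokernel φ), IsClosed ({x} : Set ↥B))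
    (h₁ : (Curv2.IsGloballyGenerated E₁ ∧ Subsingleton (Coh.HH B (CohB1.tensorMod E₁ (DCoh.dualizingMod (B ↘ Spec (CommRingCat.of k)) h OY 1)) 1))) :
    (Curv2.IsGloballyGenerated E₂ ∧ Subsingleton (Coh.HH B (CohB1.tensorMod E₂ (DCoh.dualizingMod (B ↘ Spec (CommRingCat.of k)) h OY 1)) 1)) := by
  haveI := NodalLib.isReduced k hnod
  haveI := CurvLib.isNoetherian k (X := B)
  haveI := NodalLib.isSeparated_of_proper k (X := B)
  haveI : CompactSpace B := QuasiCompact.compactSpace_of_compactSpace (B ↘ Spec (CommRingCat.of k))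
  have hω := NodalLib.omega_invertible k hdim (fun x => (NodalLib.stalk_facts k hnod x).2) h OY hOY
  let ω := DCoh.dualizingMod (B ↘ Spec (CommRingCat.of k)) h OY 1
  have hωc := CurvLib.isCoh_of_isInvertible hω
  have hvan : ∀ N : B.Modules, Coh.IsQCoh N → Subsingleton (Coh.HH B N 2) := fun N _ => NodalLib.hvan k hdim N
  obtain ⟨hg1, hv1⟩ := h₁
  have c1 := LocSuppLib.isCoh_of_isFinLocFree hE₁
  have c2 := LocSuppLib.isCoh_of_isFinLocFree hE₂
  have hd1 : topologicalKrullDim B ≤ 1 := hdim.le
  have hC : Coh.IsCoh (cokernel φ) := QCohLib.isCoh_cokernel φ c1.1 c2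
  have hCd : topologicalKrullDim (CohB1.support (cokernel φ)) ≤ 0 := by
    refine CurvLib.dim_le_zero_of_no_maximal hd1 (QCohLib.isClosed_support _ hC.2) fun x hx => ?_
    obtain ⟨η, hη, hsp⟩ := NefH1Lib.Subcurve.exists_maxPt x
    refine ⟨η, hsp, fun he => ?_⟩
    subst he
    have h2 := NefH1Lib.Subcurve.equidim k hdim _ (NefH1Lib.Subcurve.closure_mem_components hη)
    rw [(htors η hx).closure_eq] at h2
    have h3 := topologicalKrullDim_zero_of_discreteTopology ({η} : Set B)
    rw [h2] at h3
    exact absurd h3 (not_le.mpr zero_lt_one)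
  have hI : Coh.IsCoh (Abelian.image φ) := QCohLib.isCoh_kernel _ c2 hC.1
  have hgI : Curv2.IsGloballyGenerated (Abelian.image φ) := by
    obtain ⟨ι, p, hp⟩ := hg1
    haveI := hp
    exact ⟨ι, p ≫ Abelian.factorThruImage φ, epi_comp _ _⟩
  refine ⟨NodalLib.gg_ext k hdim (DevissLib.imCokSeq_shortExact φ) hgI (NefH1Lib.h1_of_gg hvan hg hI.1 hgI)
    (CurvLib.isGloballyGenerated_of_dim_zero k hC hCd), ?_⟩
  have sw : ∀ M : B.Modules, CohB1.tensorMod ω M ≅ CohB1.tensorMod M ω := fun M => KFlatLib.tensSwap M ω
  refine NefH1Lib.h1_iso (sw _) (subsingleton_of_forall_eq 0 fun y => ?_)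
  have hI1 : Subsingleton (Coh.HH B (CohB1.tensorMod ω (Abelian.image φ)) 1) := by
    haveI := (HilbPolyLib.shortExact_tensor hω (DevissLib.kerImSeq_shortExact φ)).epi_g
    exact NefH1Lib.h1_of_epi hvan (HilbPolyLib.isCoh_tensor hω c1).1 (HilbPolyLib.isCoh_tensor hω hI).1
      ((DevissLib.kerImSeq φ).map (CurvLib.tensorLeft' ω)).g (NefH1Lib.h1_iso (sw E₁).symm hv1)
  have hT := HilbPolyLib.shortExact_tensor hω (DevissLib.imCokSeq_shortExact φ)
  have hsupp : topologicalKrullDim (CohB1.support (CohB1.tensorMod ω (cokernel φ))) ≤ 0 := by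
    refine (NefH1Lib.Subcurve.dim_mono fun x hx => ?_).trans hCd
    intro hs
    haveI : Subsingleton ((DevissLib.St x).obj (cokernel φ)) := hs
    obtain ⟨e⟩ := NefH1Lib.Subcurve.stalkTens hω (cokernel φ) x
    exact hx e.toEquiv.subsingleton
  have h3' : Subsingleton (Coh.HH B (CohB1.tensorMod ω (cokernel φ)) 1) :=
    CurvLib.subsingleton_HH_of_support (CohB1.tensorMod ω (cokernel φ))
      (QCohLib.isClosed_support _ (HilbPolyLib.isCoh_tensor hω hC).2) subset_rfl (d := 0) (by exact_mod_cast hsupp) 1 (by omega)
  obtain ⟨z, rfl⟩ := AtlasCoh.hExact₂ (QCohLib.toAbF_shortExact hT) 1 y (h3'.elim _ _)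
  exact (congrArg _ (hI1.elim z 0)).trans (map_zero _)

end Groth.Agent.S17655
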