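import Groth.Statements.S17656
import Groth.Agent.NodalLib.DefAmple
import Groth.Agent.NefH1Lib.Adjunction.Basic

set_option autoImplicit false
set_option backward.isDefEq.respectTransparency false
set_option backward.isDefEq.respectTransparency.types false
set_option maxHeartbeats 1000000
set_option linter.style.haveILetI false

universe u
open CategoryTheory CategoryTheory.Limits AlgebraicGeometry TopologicalSpace
attribute [local instance] HasDerivedCategory.standard
open Curves

namespace Groth.Agent.S17656

/-- Let k be an algebraically closed field and B a connected scheme, proper over k, of dimension one,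
with at-worst-nodal singularities and H^1(B, O_B) = 0, and let ω_B be its dualizing module over k
(the cohomology sheaf in degree −1 of the upper-shriek pull-back of O_{Spec k}; the existence of the
upper-shriek functor is assumed). Call a finite locally free O_B-module deformation ample when it is
generated by global sections and H^1(B, E ⊗ ω_B) = 0. If 0 → E₁ → E₂ → E₃ → 0 is a short exact
sequence of finite locally free O_B-modules with E₁ and E₃ deformation ample, then E₂ is deformation
ample. (The source states this for a family of prestable genus-zero curves over an arbitrary base T,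
with relative global generation and R^1 of the direct image in place of global generation and H^1;
this is the case T = Spec k of a field base, the general case needing relative duality not available
here. The source also assumes the sheaves nonzero (positive rank), which the conclusion does not
need.) -/
theorem result (k : Type u) [Field k] [IsAlgClosed k]
    (B : Scheme.{u}) [B.Over (Spec (CommRingCat.of k))] [IsProper (B ↘ Spec (CommRingCat.of k))]
    [ConnectedSpace ↥B] (hdim : topologicalKrullDim ↥B = 1) (hnod : Curv2.AtWorstNodal k B)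
    (hg : Subsingleton (Coh.HH B (Coh.structureModule B) 1))
    [DCoh.HasRpush (B ↘ Spec (CommRingCat.of k))] (h : DCoh.RpushPreservesQCoh (B ↘ Spec (CommRingCat.of k))) [DCoh.HasShriek (B ↘ Spec (CommRingCat.of k)) h]
    (OY : DCoh.DQCoh (Spec (CommRingCat.of k))) (hOY : Nonempty (OY.obj ≅ DCoh.inD (Spec (CommRingCat.of k)) (Coh.structureModule (Spec (CommRingCat.of k)))))
    (S : ShortComplex B.Modules) (hS : S.ShortExact)
    (hE₁ : FlatMod.IsFinLocFree S.X₁) (hE₂ : FlatMod.IsFinLocFree S.X₂) (hE₃ : FlatMod.IsFinLocFree S.X₃)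
    (h₁ : (Curv2.IsGloballyGenerated S.X₁ ∧ Subsingleton (Coh.HH B (CohB1.tensorMod S.X₁ (DCoh.dualizingMod (B ↘ Spec (CommRingCat.of k)) h OY 1)) 1))) (h₃ : (Curv2.IsGloballyGenerated S.X₃ ∧ Subsingleton (Coh.HH B (CohB1.tensorMod S.X₃ (DCoh.dualizingMod (B ↘ Spec (CommRingCat.of k)) h OY 1)) 1))) :
    (Curv2.IsGloballyGenerated S.X₂ ∧ Subsingleton (Coh.HH B (CohB1.tensorMod S.X₂ (DCoh.dualizingMod (B ↘ Spec (CommRingCat.of k)) h OY 1)) 1)) := by
  haveI := NodalLib.isReduced k hnod
  haveI := CurvLib.isNoetherian k (X := B)
  haveI := NodalLib.isSeparated_of_proper k (X := B)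
  haveI : CompactSpace B := QuasiCompact.compactSpace_of_compactSpace (B ↘ Spec (CommRingCat.of k))
  have hω := NodalLib.omega_invertible k hdim (fun x => (NodalLib.stalk_facts k hnod x).2) h OY hOY
  let ω := DCoh.dualizingMod (B ↘ Spec (CommRingCat.of k)) h OY 1
  have hωc := CurvLib.isCoh_of_isInvertible hω
  have hvan : ∀ N : B.Modules, Coh.IsQCoh N → Subsingleton (Coh.HH B N 2) := fun N _ => NodalLib.hvan k hdim N
  obtain ⟨hg1, hv1⟩ := h₁
  obtain ⟨hg3, hv3⟩ := h₃
  have c1 := LocSuppLib.isCoh_of_isFinLocFree hE₁
  refine ⟨NodalLib.gg_ext k hdim hS hg1 (NefH1Lib.h1_of_gg hvan hg c1.1 hg1) hg3, ?_⟩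
  have hT := HilbPolyLib.shortExact_tensor hω hS
  have sw : ∀ M : B.Modules, CohB1.tensorMod ω M ≅ CohB1.tensorMod M ω := fun M => KFlatLib.tensSwap M ω
  refine NefH1Lib.h1_iso (sw _) (subsingleton_of_forall_eq 0 fun y => ?_)
  have h1' := NefH1Lib.h1_iso (sw S.X₁).symm hv1
  have h3' := NefH1Lib.h1_iso (sw S.X₃).symm hv3
  obtain ⟨z, rfl⟩ := AtlasCoh.hExact₂ (QCohLib.toAbF_shortExact hT) 1 y (h3'.elim _ _)
  exact (congrArg _ (h1'.elim z 0)).trans (map_zero _)

end Groth.Agent.S17656
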