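import Groth.Statements.S17660
import Groth.Agent.BlowPtLib.Plane
import Groth.Agent.BlowPtLib.Seq
import Groth.Agent.DevissLib.KilledImm
import Groth.Agent.GenFlatStrat.FGExtend
import Groth.Agent.IntMultLib.Cartier
import Groth.Agent.SurfNumLib.CastSev
import Groth.Agent.PicPnLib.Twist
import Groth.Agent.LMLib.Push

set_option autoImplicit false
universe u
open CategoryTheory CategoryTheory.Limits AlgebraicGeometry
open Ribbon

set_option linter.style.haveILetI false
set_option backward.isDefEq.respectTransparency false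
set_option backward.isDefEq.respectTransparency.types false

set_option maxHeartbeats 1000000

namespace Groth.Agent.S17660

theorem killed_idealMod {X : Scheme.{u}} (I : X.IdealSheafData) (hI : I ^ 2 = ⊥) :
    ClSub.KilledByIdeal I (ClSub.idealMod I) := by
  intro U a ha m
  refine IntMultLib.idealModι_app_injective I U.1 ?_
  refine Eq.trans ?_ (map_zero _).symm
  have hm := GenFlatStrat.idealModι_mem I U m
  have h2 : a * (show Γ(X, U.1) from (ClSub.idealModι I).app U.1 m) ∈ (I ^ 2).ideal U := by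
    rw [Scheme.IdealSheafData.ideal_pow, Pi.pow_apply, pow_two]
    exact Ideal.mul_mem_mul ha hm
  rw [hI, Scheme.IdealSheafData.ideal_bot] at h2
  exact (IntMultLib.idealModι_smul I U.1 a m).trans h2

theorem euler_line (k : Type u) [Field k] (n : ℤ) :
    @Curv2.euler k _ (CohB1.ProjSpace 1 k) ⟨CohB1.ProjSpace.toSpec 1 k⟩ (Twist.twistProjSpace 1 k n) = n + 1 := by
  letI : (CohB1.ProjSpace 1 k).Over (Spec (CommRingCat.of k)) := ⟨CohB1.ProjSpace.toSpec 1 k⟩
  rw [CurvLib.euler_eq_sum (k := k) (d := 2) fun q hq =>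
    PnCohLib.subsingleton_HH_twist (n := 1) (R := k) n q (by omega) (by omega),
    Groth.Agent.S4466.result k 1 one_pos n, Ring.choose_one_right]
  norm_num

theorem push_data (k : Type u) [Field k] (C : Scheme.{u}) [C.Over (Spec (CommRingCat.of k))]
    [IsProper (C ↘ (Spec (CommRingCat.of k)))] (j : CohB1.ProjSpace 1 k ⟶ C) [IsClosedImmersion j]
    (hj : j ≫ (C ↘ (Spec (CommRingCat.of k))) = CohB1.ProjSpace.toSpec 1 k)
    {F : (CohB1.ProjSpace 1 k).Modules} {m : ℤ} (eF : F ≅ Twist.twistProjSpace 1 k m)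
    {G : C.Modules} (eG : G ≅ (Coh.push j).obj F) : Coh.IsCoh G ∧ Curv2.euler k C G = m + 1 := by
  letI : (CohB1.ProjSpace 1 k).Over (Spec (CommRingCat.of k)) := ⟨CohB1.ProjSpace.toSpec 1 k⟩
  haveI := CurvLib.isNoetherian k (X := C)
  haveI : IsLocallyNoetherian (CohB1.ProjSpace 1 k) := LocallyOfFiniteType.isLocallyNoetherian j
  let eG' : G ≅ (Coh.push j).obj (Twist.twistProjSpace 1 k m) := eG ≪≫ (Coh.push j).mapIso eF
  have hc := CurvLib.isCoh_of_isInvertible (PicPnLib.twist_inv 1 k m)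
  haveI : Coh.IsQCoh (Twist.twistProjSpace 1 k m) := hc.1
  refine ⟨QCohLib.isCoh_of_iso eG'.symm (VBResLib.isCoh_push_of_isClosedImmersion j hc), ?_⟩
  rw [CurvLib.euler_congr (k := k) eG', ← (PushLinLib.euler_push k j hj _).2, euler_line k m]

theorem projLine {X Y : Scheme.{u}} (j : X ⟶ Y) [IsClosedImmersion j] {L : Y.Modules} (hL : PicF.IsInvertible L)
    {F : X.Modules} {G : Y.Modules} (eG : G ≅ (Coh.push j).obj F) :
    Nonempty (CohB1.tensorMod L G ≅ (Coh.push j).obj (CohB1.tensorMod ((Scheme.Modules.pullback j).obj L) F)) :=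
  ⟨HilbPolyLib.congrRight L eG ≪≫ @asIso _ _ _ _ (ProjFormLib.projApp j L F)
    (ProjFormLib.isIso_projApp j (CurveVBLib.isFinLocFree_of_rank (CurvLib.locFree_of_isInvertible hL)) F)⟩

theorem idealIso {X Y : Scheme.{u}} (j : X ⟶ Y) [IsClosedImmersion j] (hI : j.ker ^ 2 = ⊥)
    {F : X.Modules} (ec : (Scheme.Modules.pullback j).obj (ClSub.idealMod j.ker) ≅ F) :
    Nonempty (ClSub.idealMod j.ker ≅ (Coh.push j).obj F) := by
  haveI := DevissLib.isIso_unit_of_killed j (killed_idealMod j.ker hI)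
  exact ⟨asIso ((Scheme.Modules.pullbackPushforwardAdjunction j).unit.app (ClSub.idealMod j.ker)) ≪≫
    (Coh.push j).mapIso ec⟩

theorem unitIso {X : Scheme.{u}} (A : X.Modules) : Nonempty (CohB1.tensorMod A (Coh.structureModule X) ≅ A) :=
  ⟨KFlatLib.tensSwap (Coh.structureModule X) A ≪≫ KFlatLib.tensUnitIso A⟩

theorem euler_add_eq (k : Type u) [Field k] (C : Scheme.{u}) [C.Over (Spec (CommRingCat.of k))]
    [IsProper (C ↘ (Spec (CommRingCat.of k)))] (S : ShortComplex C.Modules) (hS : S.ShortExact)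
    (A B Q : C.Modules) (eA : S.X₁ = A) (eB : S.X₂ = B) (eQ : S.X₃ = Q)
    (hA : Coh.IsCoh A) (hB : Coh.IsCoh B) (hQ : Coh.IsCoh Q) :
    Curv2.euler k C B = Curv2.euler k C A + Curv2.euler k C Q := by
  subst eA eB eQ
  exact CurvLib.euler_add_of_isCoh (k := k) hS hA hB hQ

theorem seq_euler (k : Type u) [Field k] (C : Scheme.{u}) [C.Over (Spec (CommRingCat.of k))]
    [IsProper (C ↘ (Spec (CommRingCat.of k)))] (I : C.IdealSheafData) (L : C.Modules) (hL : PicF.IsInvertible L)
    (a b : ℤ) (h1 : Coh.IsCoh (ClSub.idealMod I) ∧ Curv2.euler k C (ClSub.idealMod I) = a)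
    (h3 : Coh.IsCoh (ClSub.quotMod I) ∧ Curv2.euler k C (ClSub.quotMod I) = b)
    (a' b' : ℤ) (hT1 : Coh.IsCoh (CohB1.tensorMod L (ClSub.idealMod I)) ∧
      Curv2.euler k C (CohB1.tensorMod L (ClSub.idealMod I)) = a')
    (hT3 : Coh.IsCoh (CohB1.tensorMod L (ClSub.quotMod I)) ∧
      Curv2.euler k C (CohB1.tensorMod L (ClSub.quotMod I)) = b') :
    Curv2.deg k C L 1 = (a' + b') - (a + b) := by
  haveI := CurvLib.isNoetherian k (X := C)
  have hC0 := CurvLib.isCoh_of_isInvertible (CurvLib.isInvertible_structureModule (X := C))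
  obtain ⟨eL⟩ := unitIso L
  have hs := CurvLib.idealSeq_shortExact I
  have k1 : Curv2.euler k C (Coh.structureModule C) =
      Curv2.euler k C (ClSub.idealMod I) + Curv2.euler k C (ClSub.quotMod I) :=
    euler_add_eq k C _ hs _ _ _ rfl rfl rfl h1.1 hC0 h3.1
  have k2 : Curv2.euler k C (CohB1.tensorMod L (Coh.structureModule C)) =
      Curv2.euler k C (CohB1.tensorMod L (ClSub.idealMod I)) +
        Curv2.euler k C (CohB1.tensorMod L (ClSub.quotMod I)) :=
    euler_add_eq k C _ (CurvLib.shortExact_tensor_locFree (CurvLib.locFree_of_isInvertible hL) hs) _ _ _ rfl rfl rfl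
      hT1.1 (QCohLib.isCoh_of_iso eL.symm (CurvLib.isCoh_of_isInvertible hL)) hT3.1
  have k3 : Curv2.euler k C L = a' + b' := by
    have hE := CurvLib.euler_congr (k := k) eL
    linarith only [hE, k2, hT1.2, hT3.2]
  have k4 : Curv2.euler k C (Coh.structureModule C) = a + b := by
    linarith only [k1, h1.2, h3.2]
  show Curv2.euler k C L - ((1 : ℕ) : ℤ) * Curv2.euler k C (Coh.structureModule C) = _
  simp only [Nat.cast_one, one_mul]
  linarith only [k3, k4]

theorem tensorTwist {k : Type u} [Field k] {A : (CohB1.ProjSpace 1 k).Modules} {n : ℤ}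
    (en : A ≅ Twist.twistProjSpace 1 k n) (c : ℤ) :
    Nonempty (CohB1.tensorMod A (Twist.twistProjSpace 1 k c) ≅ Twist.twistProjSpace 1 k (n + c)) :=
  (PicPnLib.twist_add 1 k n c).map fun ea => HilbPolyLib.congrLeft en _ ≪≫ ea

theorem deg_eq (k : Type u) [Field k] (C : Scheme.{u}) [C.Over (Spec (CommRingCat.of k))]
    [IsProper (C ↘ (Spec (CommRingCat.of k)))] (j : CohB1.ProjSpace 1 k ⟶ C) [IsClosedImmersion j]
    (hj : j ≫ (C ↘ (Spec (CommRingCat.of k))) = CohB1.ProjSpace.toSpec 1 k) (hI : j.ker ^ 2 = ⊥) (c : ℤ)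
    (ec : (Scheme.Modules.pullback j).obj (ClSub.idealMod j.ker) ≅ Twist.twistProjSpace 1 k c)
    (L : C.Modules) (hL : PicF.IsInvertible L) (n : ℤ)
    (en : (Scheme.Modules.pullback j).obj L ≅ Twist.twistProjSpace 1 k n) :
    Curv2.deg k C L 1 = 2 * n := by
  obtain ⟨eI⟩ := idealIso j hI ec
  obtain ⟨eq⟩ := SurfNumLib.quotMod_ker_iso j
  obtain ⟨ea⟩ := tensorTwist en c
  obtain ⟨e0⟩ := PicPnLib.twist_zero 1 k
  obtain ⟨u1⟩ := unitIso ((Scheme.Modules.pullback j).obj L)
  obtain ⟨p1⟩ := projLine j hL eI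
  obtain ⟨p3⟩ := projLine j hL eq
  rw [seq_euler k C j.ker L hL _ _ (push_data k C j hj (Iso.refl (Twist.twistProjSpace 1 k c)) eI)
    (push_data k C j hj e0.symm eq) _ _ (push_data k C j hj ea p1) (push_data k C j hj (u1 ≪≫ en) p3)]
  ring

theorem invPullIso {X Y : Scheme.{u}} (e : X ≅ Y) (A : Y.Modules) :
    Nonempty ((Scheme.Modules.pullback e.inv).obj ((Scheme.Modules.pullback e.hom).obj A) ≅ A) :=
  ⟨(Scheme.Modules.pullbackComp e.inv e.hom).app A ≪≫ (Scheme.Modules.pullbackCongr e.inv_hom_id).app A ≪≫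
    (Scheme.Modules.pullbackId Y).app A⟩


/-- Let C be a proper scheme over a field k and I ⊂ O_C a quasi-coherent ideal with I² = 0 whose closed
subscheme D ⊂ C is isomorphic over k to the projective line, and suppose that I, regarded as an
O_D-module, is isomorphic to O_{P^1}(-g-1) (so C is a ribbon of arithmetic genus g on P^1 with
conormal bundle I). If L is an invertible O_C-module whose restriction to D is isomorphic to
O_{P^1}(n), then the degree χ(C, L) - χ(C, O_C) of L equals 2n. (Stated over an arbitrary ground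
field; the source works with rational ribbons over an algebraically closed field, and also
identifies I·L with O_{P^1}(n-g-1), which is not asserted here.) -/
theorem result (k : Type u) [Field k] (C : Scheme.{u}) [C.Over (Spec (CommRingCat.of k))]
    [IsProper (C ↘ (Spec (CommRingCat.of k)))]
    (I : C.IdealSheafData) (hI : I ^ 2 = ⊥)
    (e : I.subscheme ≅ CohB1.ProjSpace 1 k)
    (he : e.hom ≫ CohB1.ProjSpace.toSpec 1 k = I.subschemeι ≫ (C ↘ (Spec (CommRingCat.of k))))
    (g : ℕ)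
    (hconormal : Nonempty ((Scheme.Modules.pullback I.subschemeι).obj (ClSub.idealMod I) ≅
      (Scheme.Modules.pullback e.hom).obj (Twist.twistProjSpace 1 k (-((g : ℤ) + 1)))))
    (L : C.Modules) (hL : PicF.IsInvertible L) (n : ℤ)
    (hLD : Nonempty ((Scheme.Modules.pullback I.subschemeι).obj L ≅
      (Scheme.Modules.pullback e.hom).obj (Twist.twistProjSpace 1 k n))) :
    Curv2.deg k C L 1 = 2 * n := by
  obtain ⟨econ⟩ := hconormal
  obtain ⟨eL⟩ := hLD
  have hker : (e.inv ≫ I.subschemeι).ker = I := by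
    refine le_antisymm ?_ ?_
    · intro U x hx
      rw [← I.ker_subschemeι, Scheme.Hom.ker_apply, RingHom.mem_ker]
      rw [Scheme.Hom.ker_apply, RingHom.mem_ker, Scheme.Hom.comp_app, CommRingCat.comp_apply] at hx
      exact (ConcreteCategory.bijective_of_isIso (e.inv.app _)).1 (hx.trans (map_zero _).symm)
    · exact I.ker_subschemeι.symm.le.trans (Scheme.Hom.le_ker_comp _ _)
  obtain ⟨z1⟩ := invPullIso e (Twist.twistProjSpace 1 k (-((g : ℤ) + 1)))
  obtain ⟨z2⟩ := invPullIso e (Twist.twistProjSpace 1 k n)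
  refine deg_eq k C (e.inv ≫ I.subschemeι) ?_ (hker.symm ▸ hI) (-((g : ℤ) + 1)) ?_ L hL n
    (((Scheme.Modules.pullbackComp e.inv I.subschemeι).app L).symm ≪≫
      (Scheme.Modules.pullback e.inv).mapIso eL ≪≫ z2)
  · rw [Category.assoc, ← he, Iso.inv_hom_id_assoc]
  · rw [hker]
    exact ((Scheme.Modules.pullbackComp e.inv I.subschemeι).app (ClSub.idealMod I)).symm ≪≫
      (Scheme.Modules.pullback e.inv).mapIso econ ≪≫ z1

end Groth.Agent.S17660
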