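import Groth.Statements.S17661
import Groth.Agent.ChevLib.SqZero

set_option autoImplicit false
universe u
open CategoryTheory CategoryTheory.Limits AlgebraicGeometry
open Ribbon

namespace Groth.Agent.S17661

/-- A square zero thickening of an affine formally smooth scheme over an affine base retracts. -/
theorem retraction {C D S : Scheme.{u}} (i : D ⟶ C) [IsClosedImmersion i] [IsAffine D] [IsAffine S]
    (p : C ⟶ S) [Smooth (i ≫ p)] (hsq : i.ker * i.ker = ⊥) [Surjective i] :
    ∃ r : C ⟶ D, i ≫ r = 𝟙 D ∧ r ≫ i ≫ p = p := by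
  haveI : IsAffine C := ChevLib.isAffine_of_sq_eq_bot i hsq
  have hs : Function.Surjective i.appTop := i.app_surjective ⊤ (isAffineOpen_top C)
  letI : Algebra Γ(S, ⊤) Γ(C, ⊤) := p.appTop.hom.toAlgebra
  letI : Algebra Γ(S, ⊤) Γ(D, ⊤) := (i ≫ p).appTop.hom.toAlgebra
  haveI : Algebra.Smooth Γ(S, ⊤) Γ(D, ⊤) :=
    HasRingHomProperty.appTop (P := @Smooth) (i ≫ p) inferInstance
  let π : Γ(C, ⊤) →ₐ[Γ(S, ⊤)] Γ(D, ⊤) :=
    { i.appTop.hom with commutes' := fun x => rfl }
  have hker : IsNilpotent (RingHom.ker (π : Γ(C, ⊤) →+* Γ(D, ⊤))) := by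
    refine ⟨2, ?_⟩
    rw [pow_two, Ideal.zero_eq_bot, eq_bot_iff, Ideal.mul_le]
    intro x hx y hy
    exact (Submodule.mem_bot _).2 (ChevLib.mul_eq_zero_of_sq i hsq ⟨⊤, isAffineOpen_top C⟩
      ((ChevLib.mem_ker_iff i ⟨⊤, isAffineOpen_top C⟩ x).2 hx)
      ((ChevLib.mem_ker_iff i ⟨⊤, isAffineOpen_top C⟩ y).2 hy))
  let g := Algebra.FormallySmooth.liftOfSurjective (AlgHom.id Γ(S, ⊤) Γ(D, ⊤)) π hs hker
  have hg : ∀ x, π (g x) = x := fun x =>
    Algebra.FormallySmooth.liftOfSurjective_apply (AlgHom.id Γ(S, ⊤) Γ(D, ⊤)) π hs hker x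
  refine ⟨C.toSpecΓ ≫ Spec.map (CommRingCat.ofHom (g : Γ(D, ⊤) →+* Γ(C, ⊤))) ≫ D.isoSpec.inv, ?_, ?_⟩
  · rw [Scheme.toSpecΓ_naturality_assoc, ← Spec.map_comp_assoc,
      show CommRingCat.ofHom (g : Γ(D, ⊤) →+* Γ(C, ⊤)) ≫ i.appTop = 𝟙 _ from
        CommRingCat.hom_ext (RingHom.ext hg), Spec.map_id]
    exact (congrArg (D.toSpecΓ ≫ ·) (Category.id_comp _)).trans D.isoSpec.hom_inv_id
  · apply (cancel_mono S.toSpecΓ).1
    rw [Scheme.toSpecΓ_naturality p]
    simp only [Category.assoc]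
    refine congrArg (C.toSpecΓ ≫ ·) ?_
    refine (congrArg (fun m => Spec.map (CommRingCat.ofHom (g : Γ(D, ⊤) →+* Γ(C, ⊤))) ≫ m)
      ((congrArg (D.isoSpec.inv ≫ ·) ((Category.assoc i p _).symm.trans (Scheme.toSpecΓ_naturality (i ≫ p)))).trans
        ((Category.assoc _ _ _).symm.trans ((congrArg (· ≫ Spec.map (i ≫ p).appTop) D.isoSpec.inv_hom_id).trans
          (Category.id_comp _))))).trans ?_
    exact (Spec.map_comp _ _).symm.trans (congrArg Spec.map (CommRingCat.hom_ext (RingHom.ext fun x => g.commutes x)))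


/-- Let k be a field, C a scheme locally of finite type over k and I ⊂ O_C a quasi-coherent ideal with
I² = 0, with closed subscheme D ⊂ C; suppose D is affine, connected and smooth over k and that I,
regarded as an O_D-module, is invertible (so C is a ribbon on the smooth affine scheme D, and D is
the reduced scheme underlying C). Then the ribbon is split: the inclusion D → C admits a retraction
C → D over k. -/
theorem result (k : Type u) [Field k] (C : Scheme.{u}) [C.Over (Spec (CommRingCat.of k))]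
    [LocallyOfFiniteType (C ↘ (Spec (CommRingCat.of k)))]
    (I : C.IdealSheafData) (hI : I ^ 2 = ⊥) [IsAffine I.subscheme] [ConnectedSpace I.subscheme]
    [Smooth (I.subschemeι ≫ (C ↘ (Spec (CommRingCat.of k))))]
    (hconormal : PicF.IsInvertible ((Scheme.Modules.pullback I.subschemeι).obj (ClSub.idealMod I))) :
    ∃ r : C ⟶ I.subscheme, I.subschemeι ≫ r = 𝟙 I.subscheme ∧
      r ≫ I.subschemeι ≫ (C ↘ (Spec (CommRingCat.of k))) = C ↘ (Spec (CommRingCat.of k)) := by
  haveI : Surjective I.subschemeι := ⟨fun z => by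
    have h : z ∈ Set.range I.subschemeι := by
      rw [Scheme.IdealSheafData.range_subschemeι, ← Scheme.IdealSheafData.support_pow I (n := 2) (by norm_num), hI,
        Scheme.IdealSheafData.support_bot]
      trivial
    exact h⟩
  exact retraction I.subschemeι (C ↘ (Spec (CommRingCat.of k)))
    (by rw [Scheme.IdealSheafData.ker_subschemeι, ← pow_two]; exact hI)

end Groth.Agent.S17661
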