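import Groth.Statements.S9732
import Groth.Agent.ThickRingLib.Kaehler

-- import your own Groth.Agent.* helpers here

set_option autoImplicit false
universe u
open OmegaSh

namespace Groth.Agent.S9732

open AlgebraicGeometry CategoryTheory Limits in
theorem fo_spec {C : Type u} [CommRing C] (I : Ideal C) (hI : I ^ 2 = ⊥) :
    MoreMor.IsFirstOrderThickening (Spec.map (CommRingCat.ofHom (Ideal.Quotient.mk I))) := by
  let j := Spec.map (CommRingCat.ofHom (Ideal.Quotient.mk I))
  haveI hc : IsClosedImmersion j := IsClosedImmersion.spec_of_surjective _ Ideal.Quotient.mk_surjective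
  refine ⟨⟨hc, ⟨fun p => ?_⟩⟩, ?_⟩
  · have hp : p ∈ PrimeSpectrum.zeroLocus (I : Set C) := fun x hx => by
      refine p.isPrime.mem_of_pow_mem 2 ?_
      have : x ^ 2 ∈ I ^ 2 := Ideal.pow_mem_pow hx 2
      rw [hI, Ideal.mem_bot] at this
      rw [this]
      exact zero_mem _
    have hr : p ∈ Set.range (PrimeSpectrum.comap (Ideal.Quotient.mk I)) := by
      rw [range_comap_of_surjective _ _ Ideal.Quotient.mk_surjective, Ideal.mk_ker]
      exact hp
    exact hr
  · refine Scheme.IdealSheafData.ext_of_isAffine ?_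
    rw [Scheme.IdealSheafData.ideal_mul, Pi.mul_apply, Scheme.IdealSheafData.ideal_bot, Pi.bot_apply,
      Scheme.Hom.ker_apply, eq_bot_iff]
    refine Ideal.mul_le.2 fun x hx y hy => ?_
    have key : ∀ z : Γ(Spec (CommRingCat.of C), ⊤), j.appTop z = 0 → (Scheme.ΓSpecIso (CommRingCat.of C)).hom z ∈ I := by
      intro z hz
      have h := congr($(Scheme.ΓSpecIso_naturality (CommRingCat.ofHom (Ideal.Quotient.mk I))) z)
      rw [CommRingCat.comp_apply, CommRingCat.comp_apply] at h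
      rw [show (Spec.map (CommRingCat.ofHom (Ideal.Quotient.mk I))).appTop z = 0 from hz, map_zero] at h
      exact Ideal.Quotient.eq_zero_iff_mem.1 h.symm
    have h2 : (Scheme.ΓSpecIso (CommRingCat.of C)).hom (x * y) = 0 := by
      rw [map_mul, ← Ideal.mem_bot, ← hI, pow_two]
      exact Ideal.mul_mem_mul (key x hx) (key y hy)
    rw [Ideal.mem_bot]
    exact (ConcreteCategory.bijective_of_isIso (Scheme.ΓSpecIso (CommRingCat.of C)).hom).1 (h2.trans (map_zero _).symm)

open AlgebraicGeometry CategoryTheory Limits in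
theorem main {Z Z' X : Scheme.{u}} (h : Z ⟶ X)
    (i : Z ⟶ Z') (h' : Z' ⟶ X) (hu : OmegaSh.IsUnivThickening h i h')
    {U : X.Opens} (hU : IsAffineOpen U) {V : Z'.Opens} (hV : IsAffineOpen V) (e : V ≤ h' ⁻¹ᵁ U) :
    (h'.appLE U V e).hom.FormallyUnramified := by
  obtain ⟨⟨⟨hci, hsurj⟩, hsq⟩, hih, huniv⟩ := hu
  have hW : IsAffineOpen (i ⁻¹ᵁ V) := hV.preimage i
  algebraize [(h'.appLE U V e).hom, (i.app V).hom]
  letI : Algebra Γ(X, U) Γ(Z, i ⁻¹ᵁ V) := ((i.app V).hom.comp (h'.appLE U V e).hom).toAlgebra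
  haveI : IsScalarTower Γ(X, U) Γ(Z', V) Γ(Z, i ⁻¹ᵁ V) := IsScalarTower.of_algebraMap_eq fun _ => rfl
  refine ThickRingLib.formallyUnramified (B := Γ(Z, i ⁻¹ᵁ V)) ⟨i.app_surjective V hV, ?_, fun C _ _ I hI a => ?_⟩
  · have h1 := congrArg (fun K : Z'.IdealSheafData => K.ideal ⟨V, hV⟩) hsq
    simp only [Scheme.IdealSheafData.ideal_mul, Pi.mul_apply, Scheme.IdealSheafData.ideal_bot, Pi.bot_apply,
      Scheme.Hom.ker_apply] at h1
    rw [pow_two]
    exact h1
  let q : CommRingCat.of C ⟶ CommRingCat.of (C ⧸ I) := CommRingCat.ofHom (Ideal.Quotient.mk I)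
  let aT : Spec (CommRingCat.of (C ⧸ I)) ⟶ Z := Spec.map (CommRingCat.ofHom a.toRingHom) ≫ hW.fromSpec
  let b : Spec (CommRingCat.of C) ⟶ X := Spec.map (CommRingCat.ofHom (algebraMap Γ(X, U) C)) ≫ hU.fromSpec
  have hi : hW.fromSpec ≫ i = Spec.map (i.app V) ≫ hV.fromSpec := by
    rw [← IsAffineOpen.SpecMap_appLE_fromSpec i hV hW le_rfl, Scheme.Hom.appLE_eq_app]
  have hh' : hV.fromSpec ≫ h' = Spec.map (h'.appLE U V e) ≫ hU.fromSpec :=
    (IsAffineOpen.SpecMap_appLE_fromSpec h' hU hV e).symm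
  have hb : Spec.map q ≫ b = aT ≫ h := by
    simp only [aT, b, Category.assoc, ← hih]
    rw [reassoc_of% hi, hh', ← Spec.map_comp_assoc, ← Spec.map_comp_assoc, ← Spec.map_comp_assoc]
    congr 2
    exact CommRingCat.hom_ext (RingHom.ext fun r => (a.commutes r).symm)
  obtain ⟨a', ⟨ha1, ha2⟩, huniq⟩ := huniv _ _ (Spec.map q) b aT (fo_spec I hI) hb
  have haTi : aT ≫ i = Spec.map (CommRingCat.ofHom a.toRingHom) ≫ Spec.map (i.app V) ≫ hV.fromSpec := by
    simp only [aT, Category.assoc, hi]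
  have hrange : Set.range a' ⊆ Set.range hV.fromSpec := by
    rintro _ ⟨p, rfl⟩
    obtain ⟨p₀, rfl⟩ := (fo_spec I hI).1.2.1 p
    rw [← Scheme.Hom.comp_apply, ha1, haTi, ← Category.assoc, Scheme.Hom.comp_apply]
    exact ⟨_, rfl⟩
  let φ : Γ(Z', V) ⟶ CommRingCat.of C := Spec.preimage (IsOpenImmersion.lift hV.fromSpec a' hrange)
  have hφ : Spec.map φ ≫ hV.fromSpec = a' := by
    simp only [φ, Spec.map_preimage, IsOpenImmersion.lift_fac]
  have hφ1 : h'.appLE U V e ≫ φ = CommRingCat.ofHom (algebraMap Γ(X, U) C) := by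
    apply Spec.map_injective
    rw [← cancel_mono hU.fromSpec, Spec.map_comp, Category.assoc, ← hh', reassoc_of% hφ]
    exact ha2
  have hφ2 : φ ≫ q = i.app V ≫ CommRingCat.ofHom a.toRingHom := by
    apply Spec.map_injective
    rw [← cancel_mono hV.fromSpec, Spec.map_comp, Category.assoc, hφ, ha1, haTi, ← Spec.map_comp_assoc]
  refine ⟨{ toRingHom := φ.hom, commutes' := fun r => congr($hφ1 r) }, ?_, fun g hg => ?_⟩
  · exact AlgHom.ext fun x => congr($hφ2 x)
  · have hg1 : Spec.map q ≫ Spec.map (CommRingCat.ofHom g.toRingHom) ≫ hV.fromSpec = aT ≫ i := by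
      rw [haTi, ← Spec.map_comp_assoc, ← Spec.map_comp_assoc]
      congr 2
      exact CommRingCat.hom_ext (RingHom.ext fun x => AlgHom.congr_fun hg x)
    have hg2 : (Spec.map (CommRingCat.ofHom g.toRingHom) ≫ hV.fromSpec) ≫ h' = b := by
      rw [Category.assoc, hh', ← Spec.map_comp_assoc]
      congr 2
      exact CommRingCat.hom_ext (RingHom.ext fun r => g.commutes r)
    have h3 := huniq _ ⟨hg1, hg2⟩
    rw [← hφ, cancel_mono] at h3
    exact AlgHom.ext fun x => congr($(Spec.map_injective h3) x)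


open AlgebraicGeometry CategoryTheory Limits in
/-- Let h : Z ⟶ X be formally unramified and let (i : Z ⟶ Z', h' : Z' ⟶ X) be a universal first order
thickening of Z over X. Then h' is formally unramified. -/
theorem result {Z Z' X : Scheme.{u}} (h : Z ⟶ X) [FormallyUnramified h]
    (i : Z ⟶ Z') (h' : Z' ⟶ X) (hu : OmegaSh.IsUnivThickening h i h') : FormallyUnramified h' := by
  exact ⟨fun {U} hU {V} hV e => main h i h' hu hU hV e⟩


end Groth.Agent.S9732
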